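import Groth.Statements.S12613
import Groth.Agent.FF.Adjoint
open Groth.Agent.FF

set_option autoImplicit false
open FunFld

namespace Groth.Agent.S12613

open Groth.Agent.FF in
lemma chart_le {k K : Type*} [Field k] [Field K] [Algebra k K] {Q : FunFld.Place k K} {φ : Fin 3 → K} {j : Fin 3}
    {u0 : K} (hu0 : u0 ≠ 0) {B : Subalgebra k K} (hB : ∀ i, φ i / u0 ∈ B) (hj : φ j ≠ 0) (hv : Q.1 (φ j) = Q.1 u0) :
    Algebra.adjoin k (Set.range fun i => φ i / φ j) ≤ fracAt Q B := by
  refine Algebra.adjoin_le ?_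
  rintro _ ⟨i, rfl⟩
  have h : φ i / φ j = (φ i / u0) / (φ j / u0) := by field_simp
  change φ i / φ j ∈ fracAt Q B
  rw [h]
  refine div_mem_fracAt (subset_fracAt _ _ (hB i)) (subset_fracAt _ _ (hB j)) ?_
  rw [map_div₀, hv, div_self ((Valuation.ne_zero_iff _).2 hu0)]


/-- Over an algebraically closed constant field, for a birational plane map `φ = (1 : x : y)` of degree
`e` with irreducible relation `f̂(x, y) = 0`, the adjoint divisor `Δ(φ) = (e - 3)[φ] - [dx/f̂_y]`
has nonnegative coefficient at every place `Q`, and the coefficient is `0` exactly when `φ` is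
nonsingular at `Q`. The order of `dx/f̂_y` at `Q` is read through a Laurent expansion at `Q`,
through which that differential is assumed nonzero. -/
theorem result
    (k K : Type*) [Field k] [IsAlgClosed k] [Field K] [Algebra k K]
    (hK : FunFld.IsFunctionField k K) (x y : K) (hxy : IntermediateField.adjoin k ({x, y} : Set K) = ⊤)
    (f : MvPolynomial (Fin 2) k) (hf : Irreducible f) (hfxy : MvPolynomial.aeval ![x, y] f = 0)
    (Q : FunFld.Place k K) (ΦQ : K →ₐ[k] LaurentSeries k) (hΦQ : LocRes.IsExpansionAt Q.1 ΦQ)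
    (hne : LocRes.vDiff ΦQ (MvPolynomial.aeval ![x, y] (MvPolynomial.pderiv 1 f))⁻¹ x ≠ 0) :
    0 ≤ ((FunFld.mapDiv k ![(1 : K), x, y]).deg - 3) * FunFld.mapDiv k ![(1 : K), x, y] Q -
        LocRes.ordDiff ΦQ (MvPolynomial.aeval ![x, y] (MvPolynomial.pderiv 1 f))⁻¹ x ∧
    (((FunFld.mapDiv k ![(1 : K), x, y]).deg - 3) * FunFld.mapDiv k ![(1 : K), x, y] Q -
        LocRes.ordDiff ΦQ (MvPolynomial.aeval ![x, y] (MvPolynomial.pderiv 1 f))⁻¹ x = 0 ↔
      FunFld.IsNonsingularAt ![(1 : K), x, y] Q) := by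
  classical
  set φv : Fin 3 → K := ![(1 : K), x, y] with hφv
  set e := f.totalDegree with he
  have hdeg : (FunFld.mapDiv k φv).deg = (e : ℤ) := deg_mapDiv_eq x y hK hxy hf hfxy
  obtain ⟨F, hFh, hFd⟩ := exists_homog f
  have hF0 : F ≠ 0 := fun h => hf.ne_zero (by rw [← hFd, h, map_zero])
  have hFxy : MvPolynomial.aeval φv F = 0 := by rw [hφv, (aeval_dehomog hFd x y).1, hfxy]
  set G : Fin 3 → K := fun i => MvPolynomial.aeval φv (MvPolynomial.pderiv i F) with hG
  have hG2e : G 2 = MvPolynomial.aeval ![x, y] (MvPolynomial.pderiv 1 f) := (aeval_dehomog hFd x y).2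
  have hG2 : G 2 ≠ 0 := fun h => hne (by rw [← hG2e, h, inv_zero, LocRes.vDiff, map_zero, zero_mul, map_zero])
  have hDx : LocRes.D k (ΦQ x) ≠ 0 := fun h => hne (by rw [LocRes.vDiff, h, mul_zero, map_zero])
  -- the point
  obtain ⟨j, hj⟩ := exists_isMax Q φv ⟨0, one_ne_zero⟩
  set r : Fin 3 → K := fun i => φv i / φv j with hr
  have hrle : ∀ i, Q.1 (r i) ≤ 1 := fun i => hj.ratio_le i
  choose c hc using fun i => exists_const hK Q (hrle i)
  have hcj : c j = 1 := by
    by_contra h
    have h1 := hc j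
    rw [hr] at h1
    simp only [div_self hj.1] at h1
    rw [← map_one (algebraMap k K), ← map_sub, v_algebraMap Q (sub_ne_zero.2 (Ne.symm h))] at h1
    exact lt_irrefl _ h1
  have hcF : MvPolynomial.aeval c F = 0 := by
    let res : Q.O →ₐ[k] IsLocalRing.ResidueField Q.O := { toRingHom := IsLocalRing.residue Q.O, commutes' := fun _ => rfl }
    let val : Q.O →ₐ[k] K := { toRingHom := Q.O.subtype, commutes' := fun _ => rfl }
    let ro : Fin 3 → Q.O := fun i => ⟨r i, hrle i⟩
    have h1 : MvPolynomial.aeval ro F = 0 := Subtype.val_injective (by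
      change val (MvPolynomial.aeval ro F) = _
      rw [← AlgHom.comp_apply, MvPolynomial.comp_aeval]
      change MvPolynomial.aeval r F = 0
      rw [show r = fun i => (φv j)⁻¹ * φv i from funext fun i => div_eq_inv_mul _ _,
        aeval_smul_homogeneous hFh, hFxy, mul_zero])
    have h2 : (fun i => res (ro i)) = fun i => algebraMap k (IsLocalRing.ResidueField Q.O) (c i) := funext fun i => by
      rw [← res.commutes (c i), ← sub_eq_zero, ← map_sub]
      exact (residue_eq_zero_iff _).2 (hc i)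
    have h3 := congrArg res h1
    rw [← AlgHom.comp_apply, MvPolynomial.comp_aeval, map_zero] at h3
    refine (algebraMap k (IsLocalRing.ResidueField Q.O)).injective ?_
    rw [map_zero, ← h3, show (fun i => res (ro i)) = _ from h2]
    change (Algebra.ofId k (IsLocalRing.ResidueField Q.O)) (MvPolynomial.aeval c F) = _
    rw [← AlgHom.comp_apply, MvPolynomial.comp_aeval]
    rfl
  obtain ⟨A, hAdet, hA0, hA2, hAG⟩ := exists_matrix (K := K) hFh hF0 c j hcj hcF G hG2
  have hAu : IsUnit A.det := isUnit_iff_ne_zero.2 hAdet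
  set u : Fin 3 → K := fun i => ∑ l, algebraMap k K (A⁻¹ i l) * φv l with hu_def
  have hu : ∀ i, ∑ l, algebraMap k K (A i l) * u l = φv i := fun i => by
    have h1 : ∀ m, ∑ l, algebraMap k K (A i l) * algebraMap k K (A⁻¹ l m) = algebraMap k K ((1 : Matrix (Fin 3) (Fin 3) k) i m) := by
      intro m
      rw [← Matrix.mul_nonsing_inv A hAu, Matrix.mul_apply, map_sum]
      simp [map_mul]
    simp only [hu_def, Finset.mul_sum, ← mul_assoc]
    rw [Finset.sum_comm]
    simp only [← Finset.sum_mul, h1, Matrix.one_apply]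
    simp [apply_ite]
  have hur : ∀ i, Q.1 (u i / φv j - algebraMap k K (if i = 0 then 1 else 0)) < 1 := fun i => by
    have h1 : (if i = 0 then (1 : k) else 0) = ∑ l, A⁻¹ i l * c l := by
      have := congrFun (congrFun (Matrix.nonsing_inv_mul A hAu) i) 0
      rw [Matrix.mul_apply, Matrix.one_apply] at this
      rw [← this]
      exact Finset.sum_congr rfl fun l _ => by rw [hA0]
    rw [h1, map_sum, hu_def]
    simp only [Finset.sum_div, ← Finset.sum_sub_distrib, map_mul, mul_div_assoc, ← mul_sub]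
    refine Valuation.map_sum_lt _ one_ne_zero fun l _ => ?_
    rw [map_mul]
    exact lt_of_le_of_lt (mul_le_of_le_one_left' (Q.2.1 _)) (hc l)
  have hu0r : Q.1 (u 0 / φv j) = 1 := by
    have h := hur 0
    rw [if_pos rfl, map_one] at h
    rw [Valuation.map_eq_of_sub_lt Q.1 (x := 1) (by rwa [map_one]), map_one]
  have hu0 : u 0 ≠ 0 := fun h => by rw [h, zero_div, map_zero] at hu0r; exact zero_ne_one hu0r
  have hvu0 : Q.1 (φv j) = Q.1 (u 0) := by
    rw [map_div₀, div_eq_one_iff_eq ((Valuation.ne_zero_iff _).2 hj.1)] at hu0r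
    exact hu0r.symm
  set X := u 1 / u 0 with hXdef
  set Y := u 2 / u 0 with hYdef
  have hsmall : ∀ i, i ≠ 0 → Q.1 (u i / u 0) < 1 := fun i hi => by
    have h := hur i
    rw [if_neg hi, map_zero, sub_zero, map_div₀, hvu0, ← map_div₀] at h
    exact h
  set gp := MvPolynomial.aeval (fun i : Fin 3 => ∑ l, MvPolynomial.C (A i l) * MvPolynomial.X l) F with hgp
  have hgh : gp.IsHomogeneous e := by
    have h := hFh.aeval (fun i : Fin 3 => (∑ l, MvPolynomial.C (A i l) * MvPolynomial.X l : MvPolynomial (Fin 3) k))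
      (n := 1) fun i => MvPolynomial.IsHomogeneous.sum _ _ _ fun l _ => (MvPolynomial.isHomogeneous_X k l).C_mul _
    rwa [one_mul] at h
  have hlin : ∀ {R : Type _} [CommRing R] [Algebra k R] (v : Fin 3 → R),
      MvPolynomial.aeval v gp = MvPolynomial.aeval (fun i => ∑ l, algebraMap k R (A i l) * v l) F := by
    intro R _ _ v
    rw [hgp, ← AlgHom.comp_apply, MvPolynomial.comp_aeval]
    simp [map_sum, map_mul]
  have hgm : MvPolynomial.aeval ![(0 : k), 0, 1] gp ≠ 0 := by
    have h : MvPolynomial.aeval ![(0 : k), 0, 1] gp = MvPolynomial.aeval (fun i => A i 2) F := by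
      rw [hgp, ← AlgHom.comp_apply, MvPolynomial.comp_aeval]
      simp [Fin.sum_univ_three]
    rw [h]; exact hA2
  have hscal : (fun i => ∑ l, algebraMap k K (A i l) * ![(1 : K), X, Y] l) = fun i => (u 0)⁻¹ * φv i := funext fun i => by
    rw [← hu i, Fin.sum_univ_three, Fin.sum_univ_three]
    simp [hXdef, hYdef]
    field_simp
  have hgxy : MvPolynomial.aeval ![(1 : K), X, Y] gp = 0 := by
    rw [hlin, hscal, aeval_smul_homogeneous hFh, hFxy, mul_zero]
  have hgy : MvPolynomial.aeval ![(1 : K), X, Y] (MvPolynomial.pderiv 2 gp) ≠ 0 := by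
    have hL : ∀ i, MvPolynomial.pderiv 2 (∑ l, MvPolynomial.C (A i l) * MvPolynomial.X l : MvPolynomial (Fin 3) k) =
        MvPolynomial.C (A i 2) := fun i => by
      simp [Fin.sum_univ_three, MvPolynomial.pderiv_X, Pi.single_apply]
    have h : MvPolynomial.aeval ![(1 : K), X, Y] (MvPolynomial.pderiv 2 gp) =
        ((u 0)⁻¹) ^ (e - 1) * ∑ i, G i * algebraMap k K (A i 2) := by
      rw [hgp, derivation_mvAeval, map_sum, Finset.mul_sum]
      refine Finset.sum_congr rfl fun i _ => ?_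
      rw [hL, smul_eq_mul, map_mul, MvPolynomial.aeval_C, ← AlgHom.comp_apply, MvPolynomial.comp_aeval]
      have e1 : (fun i => MvPolynomial.aeval ![(1 : K), X, Y] (∑ l, MvPolynomial.C (A i l) * MvPolynomial.X l)) =
          fun i => (u 0)⁻¹ * φv i := by
        rw [← hscal]; funext i; simp [map_sum, map_mul]
      rw [e1, aeval_smul_homogeneous hFh.pderiv, hG]
      ring
    rw [h]
    exact mul_ne_zero (pow_ne_zero _ (inv_ne_zero hu0)) hAG
  have hdiff := plane_differential k K F e hFh x y hFxy A u hu hu0 hG2 hgy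
  set cc := algebraMap k K A.det * (u 0)⁻¹ ^ ((e : ℤ) - 3) *
    (MvPolynomial.aeval ![(1 : K), X, Y] (MvPolynomial.pderiv 2 gp))⁻¹ with hcc
  have hdx : (G 2 * cc) • KaehlerDifferential.D k K X = KaehlerDifferential.D k K x := by
    rw [mul_smul]
    rw [show MvPolynomial.aeval ![(1 : K), x, y] (MvPolynomial.pderiv 2 F) = G 2 from rfl] at hdiff
    rw [← hdiff, smul_smul, mul_inv_cancel₀ hG2, one_smul]
  have hDΦ := D_exp_eq ΦQ hdx
  have hDX : LocRes.D k (ΦQ X) ≠ 0 := fun h => hDx (by rw [hDΦ, h, mul_zero])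
  have hXt : Transcendental k X := transcendental_of_not_mem hK (by
    rintro ⟨a, ha⟩
    refine hDx ?_
    rw [D_exp_eq ΦQ (c := 0) (x := x) (y := x) (by
      rw [zero_smul, ← hdx, ← ha, Derivation.map_algebraMap, smul_zero]), map_zero, zero_mul])
  have hBmem : ∀ i, φv i / u 0 ∈ Algebra.adjoin k ({X, Y} : Set K) := fun i => by
    have h : φv i / u 0 = algebraMap k K (A i 0) + algebraMap k K (A i 1) * X + algebraMap k K (A i 2) * Y := by
      rw [← hu i, Fin.sum_univ_three, hXdef, hYdef]; field_simp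
    rw [h]
    refine Subalgebra.add_mem _ (Subalgebra.add_mem _ (Subalgebra.algebraMap_mem _ _)
      (Subalgebra.mul_mem _ (Subalgebra.algebraMap_mem _ _) (Algebra.subset_adjoin (Set.mem_insert _ _))))
      (Subalgebra.mul_mem _ (Subalgebra.algebraMap_mem _ _) (Algebra.subset_adjoin (Set.mem_insert_of_mem _ rfl)))
  have htop : IntermediateField.adjoin k ({X, Y} : Set K) = ⊤ := by
    rw [eq_top_iff, ← hxy, IntermediateField.adjoin_le_iff]
    have key : ∀ i, φv i / u 0 ∈ IntermediateField.adjoin k ({X, Y} : Set K) := fun i =>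
      IntermediateField.algebra_adjoin_le_adjoin k _ (hBmem i)
    rintro z (rfl | rfl)
    · have h := div_mem (key 1) (key 0)
      simpa [hφv, hu0] using h
    · have h := div_mem (key 2) (key 0)
      simpa [hφv, hu0] using h
  have hmd : ∀ R : FunFld.Place k K, FunFld.mapDiv k ![(1 : K), X, Y] R = FunFld.mapDiv k φv R + R.ord (u 0) := by
    intro R
    obtain ⟨j1, hj1⟩ := exists_isMax R φv ⟨0, one_ne_zero⟩
    obtain ⟨j2, hj2⟩ := exists_isMax R ![(1 : K), X, Y] ⟨0, one_ne_zero⟩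
    have h1 : WithZero.exp (FunFld.mapDiv k φv R) = R.1 (φv j1) := (proper_xy (k := k) x y hK).2 R j1 hj1
    have h2 := (proper_xy (k := k) X Y hK).2 R j2 hj2
    have hψ : ∀ l, ![(1 : K), X, Y] l = u l / u 0 := by
      intro l; fin_cases l <;> simp [hXdef, hYdef, hu0]
    have hv0 : R.1 (u 0) ≠ 0 := (Valuation.ne_zero_iff _).2 hu0
    rw [hψ, map_div₀] at h2
    have e1 : R.1 (u j2) ≤ R.1 (φv j1) := by
      refine Valuation.map_sum_le _ fun l _ => ?_
      rw [map_mul]
      exact (mul_le_of_le_one_left' (R.2.1 _)).trans (hj1.2 l)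
    have e2 : R.1 (φv j1) ≤ R.1 (u j2) := by
      rw [← hu j1]
      refine Valuation.map_sum_le _ fun l _ => ?_
      rw [map_mul]
      refine (mul_le_of_le_one_left' (R.2.1 _)).trans ?_
      have h3 := hj2.2 l
      rw [hψ, hψ, map_div₀, map_div₀] at h3
      exact (div_le_div_iff_of_pos_right (zero_lt_iff.2 hv0)).1 h3
    rw [le_antisymm e1 e2, ← h1, v_eq_exp R hu0, div_eq_mul_inv, ← WithZero.exp_neg, ← WithZero.exp_add,
      WithZero.exp_inj] at h2
    omega
  have hdeg' : (FunFld.mapDiv k ![(1 : K), X, Y]).deg = (e : ℤ) := by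
    have h : FunFld.mapDiv k ![(1 : K), X, Y] = FunFld.mapDiv k φv + FunFld.div k (u 0) := Finsupp.ext fun R => by
      rw [Finsupp.add_apply, div_apply hK]; exact hmd R
    rw [h, deg_add, hdeg, deg_div hK, add_zero]
  have hvX : LocRes.vDiff ΦQ 1 X ≠ 0 := by rw [vDiff_one]; exact (map_ne_zero _).2 hDX
  obtain ⟨hge, hiff⟩ := affine_spec hK hgh hgm hXt hgxy hgy htop hdeg' Q (hsmall 1 (by decide)) ΦQ hΦQ hvX
  have hcc0 : cc ≠ 0 := by
    refine mul_ne_zero (mul_ne_zero ?_ (zpow_ne_zero _ (inv_ne_zero hu0))) (inv_ne_zero hgy)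
    simpa using hAdet
  have hordc : Q.ord cc = -((e : ℤ) - 3) * Q.ord (u 0) -
      Q.ord (MvPolynomial.aeval ![(1 : K), X, Y] (MvPolynomial.pderiv 2 gp)) := by
    rw [hcc, ord_mul Q (mul_ne_zero (by simpa using hAdet) (zpow_ne_zero _ (inv_ne_zero hu0))) (inv_ne_zero hgy),
      ord_mul Q (by simpa using hAdet) (zpow_ne_zero _ (inv_ne_zero hu0)), ord_algebraMap, ord_zpow, ord_inv, ord_inv]
    ring
  have hord : LocRes.ordDiff ΦQ (MvPolynomial.aeval ![x, y] (MvPolynomial.pderiv 1 f))⁻¹ x =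
      Q.ord cc + LocRes.ordDiff ΦQ 1 X := by
    rw [← hG2e, LocRes.ordDiff, LocRes.ordDiff, LocRes.vDiff, hDΦ, ← mul_assoc, ← map_mul, inv_mul_cancel_left₀ hG2,
      map_mul, hΦQ.1, vDiff_one, v_eq_exp Q hcc0, WithZero.log_mul WithZero.exp_ne_zero ((map_ne_zero _).2 hDX),
      WithZero.log_exp]
    ring
  have hmQ : FunFld.mapDiv k φv Q = -Q.ord (u 0) := by
    have h := (proper_xy (k := k) x y hK).2 Q j hj
    rw [hvu0, v_eq_exp Q hu0, WithZero.exp_inj] at h
    exact h
  have hΔ : ((FunFld.mapDiv k φv).deg - 3) * FunFld.mapDiv k φv Q -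
      LocRes.ordDiff ΦQ (MvPolynomial.aeval ![x, y] (MvPolynomial.pderiv 1 f))⁻¹ x =
      Q.ord (MvPolynomial.aeval ![(1 : K), X, Y] (MvPolynomial.pderiv 2 gp)) - LocRes.ordDiff ΦQ 1 X := by
    rw [hdeg, hmQ, hord, hordc]; ring
  rw [hΔ]
  refine ⟨hge, hiff.trans ⟨fun h z hz => ?_, fun h z hz => ?_⟩⟩
  · have hsub : Algebra.adjoin k ({X, Y} : Set K) ≤ fracAt Q (Algebra.adjoin k (Set.range fun i => φv i / φv j)) := by
      have hmem : ∀ l, u l / φv j ∈ Algebra.adjoin k (Set.range fun i => φv i / φv j) := fun l => by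
        rw [hu_def, Finset.sum_div]
        exact sum_mem fun m _ => by
          rw [mul_div_assoc]
          exact Subalgebra.mul_mem _ (Subalgebra.algebraMap_mem _ _) (Algebra.subset_adjoin ⟨m, rfl⟩)
      have hdiv : ∀ l, u l / u 0 ∈ fracAt Q (Algebra.adjoin k (Set.range fun i => φv i / φv j)) := fun l => by
        rw [← div_div_div_cancel_right₀ hj.1 (u l) (u 0)]
        exact div_mem_fracAt (subset_fracAt _ _ (hmem l)) (subset_fracAt _ _ (hmem 0)) hu0r
      exact Algebra.adjoin_le (by rintro w (rfl | rfl); exacts [hdiv 1, hdiv 2])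
    obtain ⟨a, ha, b, hb, hb1, hab⟩ := fracAt_idem hsub (h z hz)
    exact ⟨j, hj.1, hj.2, a, ha, b, hb, hb1, hab⟩
  · obtain ⟨j', hj'0, hj', a, ha, b, hb, hb1, hab⟩ := h z hz
    have hv : Q.1 (φv j') = Q.1 (u 0) := hvu0 ▸ le_antisymm (hj.2 j') (hj' j)
    exact fracAt_idem (chart_le hu0 hBmem hj'0 hv) ⟨a, ha, b, hb, hb1, hab⟩

end Groth.Agent.S12613
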