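import Groth.Statements.S12616
import Groth.Agent.FF.WDivisor
import Groth.Agent.FF.PlaneDiff
import Groth.Agent.FF.PowSeries

set_option autoImplicit false
open FunFld

namespace Groth.Agent.S12616

/-- Over an algebraically closed constant field, the adjoint divisor `Δ(φ) = (e - 3)[φ] - [dx/f̂_y]` of
an effective plane map `φ = (1 : x : y)` of degree `e`, with a homogeneous relation `f` of the same
degree `e` satisfying `f(1, x, y) = 0`, depends only on the equivalence class of `φ`: it is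
unchanged under a change of projective coordinates `X = AX'`, with `x' = u₁/u₀`, `y' = u₂/u₀`, `u =
A⁻¹(1, x, y)ᵗ`, `f'(X') = f(AX')`. Here `dx ≠ 0`, both `f̂_y` and `f̂'_{y'}` are nonzero, and
divisors of differentials are read through a family of Laurent expansions. (The published statement
takes `f` to be the minimal relation of `x` and `y` for a plane model `K = k(x, y)`, where the
degree of the map equals the degree of `f`; this row assumes only that `f` is homogeneous of degree
equal to the degree of the map, which is all the change-of-coordinates computation uses — when the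
two degrees differ the two sides differ by a multiple of the divisor of `u₀`.) -/
theorem result
    (k K : Type*) [Field k] [IsAlgClosed k] [Field K] [Algebra k K]
    (hK : FunFld.IsFunctionField k K) (f : MvPolynomial (Fin 3) k) (e : ℕ) (hf : f.IsHomogeneous e)
    (x y : K) (hfxy : MvPolynomial.aeval ![(1 : K), x, y] f = 0)
    (hdx : KaehlerDifferential.D k K x ≠ 0)
    (he : (FunFld.mapDiv k ![(1 : K), x, y]).deg = e)
    (A : Matrix (Fin 3) (Fin 3) k) (hA : A.det ≠ 0)
    (u : Fin 3 → K) (hu : ∀ i, ∑ j, algebraMap k K (A i j) * u j = ![(1 : K), x, y] i)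
    (hu0 : u 0 ≠ 0)
    (hfy : (MvPolynomial.aeval ![(1 : K), x, y] (MvPolynomial.pderiv 2 f)) ≠ 0)
    (hfy' : (MvPolynomial.aeval ![(1 : K), u 1 / u 0, u 2 / u 0] (MvPolynomial.pderiv 2 (MvPolynomial.aeval (fun i : Fin 3 => ∑ j, MvPolynomial.C (A i j) * MvPolynomial.X j) f))) ≠ 0)
    (Φ : FunFld.Place k K → (K →ₐ[k] LaurentSeries k))
    (hΦ : ∀ P : FunFld.Place k K, LocRes.IsExpansionAt P.1 (Φ P)) :
    ((FunFld.mapDiv k ![(1 : K), x, y]).deg - 3) • FunFld.mapDiv k ![(1 : K), x, y] -
        FunFld.divDiff Φ (MvPolynomial.aeval ![(1 : K), x, y] (MvPolynomial.pderiv 2 f))⁻¹ x =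
      ((FunFld.mapDiv k ![(1 : K), u 1 / u 0, u 2 / u 0]).deg - 3) •
          FunFld.mapDiv k ![(1 : K), u 1 / u 0, u 2 / u 0] -
        FunFld.divDiff Φ (MvPolynomial.aeval ![(1 : K), u 1 / u 0, u 2 / u 0] (MvPolynomial.pderiv 2 (MvPolynomial.aeval (fun i : Fin 3 => ∑ j, MvPolynomial.C (A i j) * MvPolynomial.X j) f)))⁻¹ (u 1 / u 0) := by
  open Groth.Agent.FF in
  classical
  set a := (MvPolynomial.aeval ![(1 : K), x, y] (MvPolynomial.pderiv 2 f))⁻¹ with ha
  set b := (MvPolynomial.aeval ![(1 : K), u 1 / u 0, u 2 / u 0] (MvPolynomial.pderiv 2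
    (MvPolynomial.aeval (fun i : Fin 3 => ∑ j, MvPolynomial.C (A i j) * MvPolynomial.X j) f)))⁻¹ with hb
  set c := algebraMap k K A.det * (u 0)⁻¹ ^ ((e : ℤ) - 3) with hc
  have hdiff : a • KaehlerDifferential.D k K x = (c * b) • KaehlerDifferential.D k K (u 1 / u 0) :=
    Groth.Agent.FF.plane_differential k K f e hf x y hfxy A u hu hu0 hfy hfy'
  have ha0 : a ≠ 0 := inv_ne_zero hfy
  have hb0 : b ≠ 0 := inv_ne_zero hfy'
  have hc0 : c ≠ 0 := mul_ne_zero ((map_ne_zero _).2 hA) (zpow_ne_zero _ (inv_ne_zero hu0))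
  have hdx' : KaehlerDifferential.D k K (u 1 / u 0) ≠ 0 := fun h => by
    rw [h, smul_zero, smul_eq_zero] at hdiff
    exact hdiff.elim ha0 hdx
  have hg := Groth.Agent.FF.isGeometric_algClosed hK
  have hord : ∀ P, FunFld.divDiff Φ a x P =
      P.ord c + FunFld.divDiff Φ b (u 1 / u 0) P := fun P => by
    have e1 : LocRes.vDiff (Φ P) a x = LocRes.vDiff (Φ P) (c * b) (u 1 / u 0) := by
      letI := (Φ P).toRingHom.toAlgebra
      haveI := LocRes.isScalarTower_exp (Φ P)
      have h := congrArg (LocRes.dExp (Φ P)).liftKaehlerDifferential hdiff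
      rw [map_smul, map_smul, Derivation.liftKaehlerDifferential_comp_D, Derivation.liftKaehlerDifferential_comp_D] at h
      exact congrArg Valued.v h
    rw [Groth.Agent.FF.vDiff_mul hΦ, Groth.Agent.FF.vDiff_eq_exp hΦ hK hg ha0 hdx,
      Groth.Agent.FF.vDiff_eq_exp hΦ hK hg hb0 hdx', Groth.Agent.FF.v_eq_exp P hc0, ← WithZero.exp_add,
      WithZero.exp_inj] at e1
    rw [Groth.Agent.FF.divDiff_apply hK hΦ ha0 hdx, Groth.Agent.FF.divDiff_apply hK hΦ hb0 hdx']
    omega
  set φ : Fin 3 → K := ![(1 : K), x, y]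
  set φ' : Fin 3 → K := ![(1 : K), u 1 / u 0, u 2 / u 0]
  have hup : ∀ i, φ' i * u 0 = u i := by
    intro i
    fin_cases i <;> simp [φ'] <;> field_simp
  have hmap : ∀ P, FunFld.mapDiv k φ' P = FunFld.mapDiv k φ P + P.ord (u 0) := fun P => by
    have hp : Groth.Agent.FF.Proper (k := k) φ := Groth.Agent.FF.proper_of_one hK (i₀ := 0) rfl
    have hp' : Groth.Agent.FF.Proper (k := k) φ' := Groth.Agent.FF.proper_of_one hK (i₀ := 0) rfl
    obtain ⟨j, hj⟩ := hp.isMax P
    obtain ⟨j', hj'⟩ := hp'.isMax P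
    have h1 : P.1 (φ j) ≤ P.1 (u 0) * P.1 (φ' j') := by
      change P.1 (φ j) ≤ _
      rw [← hu j]
      refine P.1.map_sum_le fun i _ => ?_
      rw [← hup i, map_mul, map_mul, mul_comm (P.1 (u 0))]
      exact (mul_le_mul' (P.2.1 _) (mul_le_mul' (hj'.2 i) le_rfl)).trans_eq (one_mul _)
    have h2 : P.1 (u 0) * P.1 (φ' j') ≤ P.1 (φ j) := by
      have hu' : ∀ i, u i = ∑ l, algebraMap k K (A⁻¹ i l) * φ l := by
        intro i
        have h := congrFun (congrArg (fun M => Matrix.mulVec M u) (show (A⁻¹).map (algebraMap k K) * A.map (algebraMap k K) = 1 by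
          rw [← Matrix.map_mul, Matrix.nonsing_inv_mul _ (isUnit_iff_ne_zero.2 hA), Matrix.map_one _ (map_zero _) (map_one _)])) i
        simp only [Matrix.one_mulVec, ← Matrix.mulVec_mulVec] at h
        rw [← h]
        simp only [Matrix.mulVec, dotProduct, Matrix.map_apply]
        exact Finset.sum_congr rfl fun l _ => by rw [hu l]
      rw [← map_mul, mul_comm (u 0), hup, hu']
      refine P.1.map_sum_le fun i _ => ?_
      rw [map_mul]
      exact (mul_le_mul' (P.2.1 _) (hj.2 i)).trans_eq (one_mul _)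
    have h3 := le_antisymm h1 h2
    rw [← hp.2 P j hj, ← hp'.2 P j' hj', Groth.Agent.FF.v_eq_exp P hu0, ← WithZero.exp_add, WithZero.exp_inj] at h3
    omega
  have hdeg' : (FunFld.mapDiv k φ').deg = e := by
    have hD : FunFld.mapDiv k φ' = FunFld.mapDiv k φ + FunFld.div k (u 0) := Finsupp.ext fun P => by
      rw [hmap P, Finsupp.add_apply, Groth.Agent.FF.div_apply hK]
    rw [hD, Groth.Agent.FF.deg_add, Groth.Agent.FF.deg_div hK, add_zero]
    exact he
  rw [show (FunFld.mapDiv k φ).deg = (e : ℤ) from he, hdeg']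
  ext P
  simp only [Finsupp.sub_apply, Finsupp.smul_apply, smul_eq_mul, hord P, hmap P]
  have hoc : P.ord c = -((e : ℤ) - 3) * P.ord (u 0) := by
    rw [hc, Groth.Agent.FF.ord_mul P ((map_ne_zero _).2 hA) (zpow_ne_zero _ (inv_ne_zero hu0)),
      Groth.Agent.FF.ord_algebraMap, Groth.Agent.FF.ord_zpow, Groth.Agent.FF.ord_inv]
    ring
  rw [hoc]
  ring

end Groth.Agent.S12616
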