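import Groth.Statements.S12617
import Groth.Agent.FF.OrdersAt

set_option autoImplicit false
open FunFld

namespace Groth.Agent.S12617

/-- Over an algebraically closed constant field, if the effective projective map `φ = (φ₀, …, φₙ)`, `n ≥
1`, normalized at `P`, is nonsingular at `P`, then its first order at `P` is `1`. -/
theorem result
    (k K : Type*) [Field k] [IsAlgClosed k] [Field K] [Algebra k K]
    (hK : FunFld.IsFunctionField k K) (P : FunFld.Place k K) {n : ℕ} (hn : 0 < n) (φ : Fin (n + 1) → K)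
    (hφ : LinearIndependent k φ)
    (heff : (1 : K) ∈ Submodule.span k (Set.range φ)) (hnorm : ∀ i, P.1 (φ i) ≤ 1) (hns : FunFld.IsNonsingularAt φ P)
    (t : K) (ht : P.1 t = WithZero.exp (-1))
    (Ht : K →ₐ[k] PowerSeries K) (hHt : LocRes.IsHasseFamily t Ht)
    (J' : Fin n → ℕ) (hJ' : FunFld.IsOrders (IsLocalRing.ResidueField P.O) (FunFld.hcolAt P Ht φ) J') :
    J' ⟨0, hn⟩ = 1 := by
  open Groth.Agent.FF in
  classical
  obtain ⟨ψ, hψ, hψt⟩ := Groth.Agent.FF.exists_expansion_k hK ht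
  by_cases hex : ∃ f ∈ Submodule.span k (Set.range φ), P.1 f = WithZero.exp (-((1 : ℕ) : ℤ))
  · obtain ⟨l, hl⟩ := (hJ'.2 1).2 ((Groth.Agent.FF.isJump_at_iff hK hnorm ht hHt 1).2 ⟨le_rfl, hex⟩)
    have h1 := hJ'.1.monotone (show (⟨0, hn⟩ : Fin n) ≤ l from Fin.le_iff_val_le_val.2 (Nat.zero_le _))
    have h2 := Groth.Agent.FF.orders_at_pos hK hnorm ht hHt hJ' ⟨0, hn⟩
    omega
  exfalso
  push Not at hex
  -- power series of integral elements
  have hG : ∀ z : K, P.1 z ≤ 1 → ∃ G : PowerSeries k, ψ z = (G : LaurentSeries k) := fun z hz =>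
    Groth.Agent.FF.exists_power_series hψ hz
  have hmulc : ∀ a b : K, P.1 a ≤ 1 → P.1 b ≤ 1 → (ψ (a * b)).coeff 1 =
      (ψ a).coeff 0 * (ψ b).coeff 1 + (ψ a).coeff 1 * (ψ b).coeff 0 := by
    intro a b ha hb
    obtain ⟨A, hA⟩ := hG a ha
    obtain ⟨B, hB⟩ := hG b hb
    rw [map_mul, hA, hB, ← PowerSeries.coe_mul]
    simp only [PowerSeries.coeff_coe]
    norm_num [PowerSeries.coeff_mul, Finset.Nat.sum_antidiagonal_succ]
  have hflat : ∀ f ∈ Submodule.span k (Set.range φ), (ψ f).coeff 1 = 0 := by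
    intro f hf
    by_contra h1
    have hf' : f - ((ψ f).coeff 0) • (1 : K) ∈ Submodule.span k (Set.range φ) :=
      sub_mem hf (Submodule.smul_mem _ _ heff)
    refine hex _ hf' ((Groth.Agent.FF.v_eq_iff_coeff hψ _ _).2 ⟨fun i hi => ?_, ?_⟩)
    · rw [map_sub, HahnSeries.coeff_sub, Groth.Agent.FF.exp_smul, map_one, HahnSeries.coeff_one]
      rcases lt_or_eq_of_le (show i ≤ 0 by push_cast at hi; omega) with h | rfl
      · rw [Groth.Agent.FF.coeff_of_lt hψ h (Groth.Agent.FF.integral_of_mem_span hnorm hf), if_neg h.ne]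
        simp
      · simp
    · rw [map_sub, HahnSeries.coeff_sub, Groth.Agent.FF.exp_smul, map_one, HahnSeries.coeff_one, if_neg (by simp)]
      simpa using h1
  obtain ⟨j, hj0, hjmax, u, hu, w, hw, hw1, hzw⟩ := hns t (by rw [ht, ← WithZero.exp_zero, WithZero.exp_le_exp]; omega)
  have hvj : P.1 (φ j) = 1 := by
    refine le_antisymm (hnorm j) (not_lt.1 fun hlt => ?_)
    obtain ⟨a, ha⟩ := (Submodule.mem_span_range_iff_exists_fun k).1 heff
    have h : P.1 (∑ r, a r • φ r) < 1 := Valuation.map_sum_lt _ one_ne_zero fun r _ =>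
      lt_of_le_of_lt (Groth.Agent.FF.v_smul_le P _ _) (lt_of_le_of_lt (hjmax r) hlt)
    rw [ha, map_one] at h
    exact lt_irrefl _ h
  let S : Subalgebra k K :=
    { carrier := {z | P.1 z ≤ 1 ∧ (ψ z).coeff 1 = 0}
      mul_mem' := fun {a b} ha hb => ⟨by rw [map_mul]; exact mul_le_one' ha.1 hb.1, by
        rw [hmulc a b ha.1 hb.1, ha.2, hb.2, mul_zero, zero_mul, add_zero]⟩
      add_mem' := fun {a b} ha hb => ⟨(P.1.map_add a b).trans (max_le ha.1 hb.1), by
        rw [map_add, HahnSeries.coeff_add, ha.2, hb.2, add_zero]⟩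
      algebraMap_mem' := fun c => ⟨P.2.1 c, by
        rw [LocRes.map_algebraMap, HahnSeries.C_apply, HahnSeries.coeff_single, if_neg one_ne_zero]⟩ }
  have hS : Algebra.adjoin k (Set.range fun i => φ i / φ j) ≤ S := by
    rw [Algebra.adjoin_le_iff]
    rintro _ ⟨i, rfl⟩
    have hz : P.1 (φ i / φ j) ≤ 1 := by rw [map_div₀, hvj, div_one]; exact hnorm i
    refine ⟨hz, ?_⟩
    have h := hmulc (φ i / φ j) (φ j) hz (hnorm j)
    rw [div_mul_cancel₀ _ hj0, hflat _ (Submodule.subset_span ⟨i, rfl⟩),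
      hflat _ (Submodule.subset_span ⟨j, rfl⟩), mul_zero, zero_add] at h
    have hc : (ψ (φ j)).coeff 0 ≠ 0 :=
      ((Groth.Agent.FF.v_eq_iff_coeff hψ _ 0).1 (by rw [hvj]; simp)).2
    exact (mul_eq_zero.1 h.symm).resolve_right hc
  have ht1 : P.1 t ≤ 1 := by rw [ht, ← WithZero.exp_zero, WithZero.exp_le_exp]; omega
  have h := hmulc t w ht1 (hS hw).1
  rw [hzw, (hS hu).2, hψt] at h
  have hc : (ψ w).coeff 0 ≠ 0 := ((Groth.Agent.FF.v_eq_iff_coeff hψ _ 0).1 (by rw [hw1]; simp)).2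
  simp at h
  exact hc h.symm

end Groth.Agent.S12617
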