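import Groth.Statements.S1262
import Groth.Agent.RGFlatLib.Fibre

set_option autoImplicit false
set_option linter.style.haveILetI false
universe u
open FlatMor

namespace Groth.Agent.S1262

/-- Ring form, X = Spec S affine: let S be a finite type R-algebra, N a finite S-module and p a prime of
R. Then the set of points x of the fibre Spec(κ(p) ⊗ S) such that N is flat over R at the prime of S
under x is open in the fibre. -/
theorem result {R S : Type u} [CommRing R] [CommRing S] [Algebra R S] [Algebra.FiniteType R S]
    (N : Type u) [AddCommGroup N] [Module S N] [Module R N] [IsScalarTower R S N] [Module.Finite S N]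
    (p : Ideal R) [p.IsPrime] :
    IsOpen {x : PrimeSpectrum (p.Fiber S) |
      FlatCA.FlatAt R (x.asIdeal.comap (Algebra.TensorProduct.includeRight (R := R) (A := p.ResidueField) (B := S)).toRingHom) N} := by
  obtain ⟨n, a, π, K, -, hflat⟩ := Groth.Agent.RGFlatLib.exists_flat_presentation (R := R) (S := S) (M := N)
  let ι : S →+* p.Fiber S :=
    (Algebra.TensorProduct.includeRight (R := R) (A := p.ResidueField) (B := S)).toRingHom
  have hover : ∀ x : PrimeSpectrum (p.Fiber S),
      (PrimeSpectrum.comap π.toRingHom (PrimeSpectrum.comap ι x)).asIdeal.comap MvPolynomial.C = p := fun x => by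
    have h : (x.asIdeal.comap (algebraMap p.ResidueField (p.Fiber S))) = ⊥ :=
      (Ideal.eq_bot_or_top _).resolve_right (Ideal.IsPrime.ne_top (x.2.comap _))
    ext r
    show ι (π (algebraMap R _ r)) ∈ x.asIdeal ↔ r ∈ p
    rw [π.commutes, show ι (algebraMap R S r) = algebraMap p.ResidueField (p.Fiber S) (algebraMap R p.ResidueField r) from
      ((Algebra.TensorProduct.includeRight (R := R) (A := p.ResidueField) (B := S)).commutes r).trans
        (IsScalarTower.algebraMap_apply R p.ResidueField (p.Fiber S) r), ← Ideal.mem_comap, h, Ideal.mem_bot]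
    exact Ideal.algebraMap_residueField_eq_zero
  refine isOpen_iff_forall_mem_open.mpr fun x hx => ?_
  obtain ⟨U, hU, hxU, hgood⟩ := Groth.Agent.RGFlatLib.exists_nhds_fibre K _ ((hflat (PrimeSpectrum.comap ι x)).mp hx)
  exact ⟨(fun y => PrimeSpectrum.comap π.toRingHom (PrimeSpectrum.comap ι y)) ⁻¹' U,
    fun y hy => (hflat (PrimeSpectrum.comap ι y)).mpr (hgood _ hy ((hover y).trans (hover x).symm)),
    hU.preimage ((PrimeSpectrum.continuous_comap _).comp (PrimeSpectrum.continuous_comap _)), hxU⟩

end Groth.Agent.S1262
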