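import Groth.Statements.S1263
import Groth.Agent.S1210
import Groth.Agent.DevissLib.Transfer

set_option autoImplicit false
set_option backward.isDefEq.respectTransparency false
set_option backward.isDefEq.respectTransparency.types false
set_option maxHeartbeats 1000000
universe u
open FlatMor

namespace Groth.Agent.S1263

open TensorProduct

attribute [local instance] Algebra.TensorProduct.rightAlgebra

/-- A localised quotient algebra, module-finitely presented over the localised algebra, is finitely presented. -/
theorem fp_flat_of_localized {A PA SA : Type u} [CommRing A] [CommRing PA] [CommRing SA] [Algebra A PA] [Algebra A SA]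
    [Algebra PA SA] [IsScalarTower A PA SA] [Algebra.FinitePresentation A PA] (g : PA)
    (hfp : Module.FinitePresentation (Localization.Away g) (LocalizedModule (Submonoid.powers g) SA))
    (hfl : Module.Flat A (LocalizedModule (Submonoid.powers g) SA)) :
    Module.Flat A (Localization.Away (algebraMap PA SA g)) ∧
      Algebra.FinitePresentation A (Localization.Away (algebraMap PA SA g)) := by
  let L := Localization.Away (algebraMap PA SA g)
  let U := Localization.Away g
  have hu : IsUnit (algebraMap PA L g) := by
    rw [IsScalarTower.algebraMap_apply PA SA L]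
    exact IsLocalization.Away.algebraMap_isUnit _
  letI : Algebra U L := (IsLocalization.Away.lift (S := U) g (g := algebraMap PA L) hu).toAlgebra
  haveI : IsScalarTower PA U L := .of_algebraMap_eq fun z => (IsLocalization.Away.lift_eq g hu z).symm
  haveI : IsScalarTower A U L := IsScalarTower.of_algebraMap_eq (R := A) (S := U) (A := L) fun r => by
    rw [IsScalarTower.algebraMap_apply A PA U, ← IsScalarTower.algebraMap_apply PA U L,
      IsScalarTower.algebraMap_apply A SA L, IsScalarTower.algebraMap_apply A PA SA, ← IsScalarTower.algebraMap_apply PA SA L]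
  haveI : IsLocalization (Algebra.algebraMapSubmonoid SA (Submonoid.powers g)) L := by
    rw [Algebra.algebraMapSubmonoid_powers]
    infer_instance
  haveI : IsLocalizedModule (Submonoid.powers g) (IsScalarTower.toAlgHom PA SA L).toLinearMap :=
    (isLocalizedModule_iff_isLocalization (S := Submonoid.powers g)).2 inferInstance
  let e : LocalizedModule (Submonoid.powers g) SA ≃ₗ[PA] L := IsLocalizedModule.linearEquiv (Submonoid.powers g)
    (LocalizedModule.mkLinearMap (Submonoid.powers g) SA) (IsScalarTower.toAlgHom PA SA L).toLinearMap
  let e' : LocalizedModule (Submonoid.powers g) SA ≃ₗ[U] L := e.extendScalarsOfIsLocalization (Submonoid.powers g) U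
  haveI := hfl
  haveI := hfp
  refine ⟨Module.Flat.of_linearEquiv (e'.restrictScalars A).symm, ?_⟩
  haveI : Module.FinitePresentation U L := Module.FinitePresentation.of_equiv e'
  haveI : Algebra.FinitePresentation PA U := IsLocalization.Away.finitePresentation g
  haveI : Algebra.FinitePresentation A U := Algebra.FinitePresentation.trans A PA U
  exact Algebra.FinitePresentation.trans A U L

/-- The statement, over a chosen presentation. -/
theorem result_aux {R P S : Type u} [CommRing R] [CommRing P] [CommRing S] [Algebra R S] [Algebra R P] [Algebra P S]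
    [IsScalarTower R P S] [Algebra.FinitePresentation R P] [Module.Finite P S] (hπ : Function.Surjective (algebraMap P S))
    (p : Ideal R) [p.IsPrime] (q : Ideal S) [q.IsPrime] [q.LiesOver p] (hflat : Module.Flat R (Localization.AtPrime q)) :
    ∃ (R' : Type u) (_ : CommRing R') (_ : Algebra R R') (p' : Ideal R') (_ : p'.IsPrime), FlatCA.IsEtaleNhd R R' p p' ∧
      ∀ (SA : Type u) [CommRing SA] [Algebra R SA] [Algebra S SA] [Algebra (Localization.AtPrime p') SA]
        [IsScalarTower R S SA] [IsScalarTower R (Localization.AtPrime p') SA]
        [Algebra.IsPushout R S (Localization.AtPrime p') SA],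
        ∃ g : SA, (∀ (Q : Ideal SA) [Q.IsPrime], Q.LiesOver q → Q.LiesOver (IsLocalRing.maximalIdeal (Localization.AtPrime p')) → g ∉ Q) ∧
          Module.Flat (Localization.AtPrime p') (Localization.Away g) ∧
          Algebra.FinitePresentation (Localization.AtPrime p') (Localization.Away g) := by
  let qP : Ideal P := q.comap (algebraMap P S)
  haveI : q.LiesOver qP := ⟨rfl⟩
  haveI : qP.LiesOver p := ⟨by
    rw [Ideal.under_def, Ideal.comap_comap, ← IsScalarTower.algebraMap_eq]
    exact q.over_def p⟩
  have hflatS : FlatCA.FlatAt R q S := by
    haveI := hflat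
    exact Module.Flat.of_linearEquiv (((LocalizedModule.equivTensorProduct q.primeCompl S).restrictScalars R).trans
      ((TensorProduct.rid S (Localization.AtPrime q)).restrictScalars R))
  have hflatP : FlatCA.FlatAt R qP S :=
    (DevissLib.flatAt_iff_of_unique qP q R S fun Q' _ hQ' =>
      Ideal.comap_injective_of_surjective _ hπ hQ'.over.symm).2 hflatS
  obtain ⟨R', _, _, p', hp', hR', H⟩ := S1210.result (R := R) (S := P) S p qP hflatP
  refine ⟨R', inferInstance, inferInstance, p', hp', hR', ?_⟩
  intro SA _ _ _ _ _ _ _
  haveI := hp'
  let A := Localization.AtPrime p'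
  let PA := A ⊗[R] P
  haveI : Algebra.IsPushout R P A PA := Algebra.IsPushout.symm inferInstance
  letI : Algebra PA SA := (Algebra.TensorProduct.lift (IsScalarTower.toAlgHom R A SA)
    ((IsScalarTower.toAlgHom R S SA).comp (IsScalarTower.toAlgHom R P S)) fun _ _ => Commute.all _ _).toRingHom.toAlgebra
  letI : Algebra P SA := ((algebraMap S SA).comp (algebraMap P S)).toAlgebra
  haveI : IsScalarTower P S SA := .of_algebraMap_eq' rfl
  haveI : IsScalarTower A PA SA := IsScalarTower.of_algebraMap_eq (R := A) (S := PA) (A := SA) fun a => by
    show algebraMap A SA a = Algebra.TensorProduct.lift _ _ _ (a ⊗ₜ[R] (1 : P))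
    simp
  haveI : IsScalarTower P PA SA := .of_algebraMap_eq fun a => by simp [RingHom.algebraMap_toAlgebra, PA, A]
  haveI : IsScalarTower R PA SA := IsScalarTower.of_algebraMap_eq (R := R) (S := PA) (A := SA) fun r => by
    rw [IsScalarTower.algebraMap_apply R A PA, ← IsScalarTower.algebraMap_apply A PA SA, ← IsScalarTower.algebraMap_apply R A SA]
  haveI : Algebra.IsPushout R A S SA := Algebra.IsPushout.symm inferInstance
  haveI : Algebra.IsPushout P S PA SA :=
    (Algebra.IsPushout.comp_iff (R := R) (S := P) (R' := A) (S' := PA) (T := S) (T' := SA)).1 inferInstance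
  haveI : Algebra.IsPushout P PA S SA := Algebra.IsPushout.symm inferInstance
  obtain ⟨g, hg, hfp, hfl⟩ := H PA SA (IsScalarTower.toAlgHom P S SA).toLinearMap
    (Algebra.IsPushout.out (R := P) (S := PA) (R' := S) (S' := SA))
  refine ⟨algebraMap PA SA g, fun Q _ hQq hQm hm => hg (Q.comap (algebraMap PA SA)) ⟨?_⟩ ⟨?_⟩ hm,
    fp_flat_of_localized g hfp hfl⟩
  · rw [Ideal.under_def, Ideal.comap_comap, ← IsScalarTower.algebraMap_eq, IsScalarTower.algebraMap_eq P S SA,
      ← Ideal.comap_comap]
    exact congrArg (Ideal.comap (algebraMap P S)) hQq.over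
  · rw [Ideal.under_def, Ideal.comap_comap, ← IsScalarTower.algebraMap_eq]
    exact hQm.over


/-- Ring form, X = Spec S and S = Spec R affine: let S be a finite type R-algebra and q a prime of S
over p with S_q flat over R. Then there is an étale R-algebra R' with a prime p' over p having the
same residue field such that, writing A for the local ring of R' at p' and S_A for the base change
(any model): some g ∈ S_A outside every prime over both q and the maximal ideal of A has (S_A)_g
flat and of finite presentation over A. -/
theorem result {R S : Type u} [CommRing R] [CommRing S] [Algebra R S] [Algebra.FiniteType R S]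
    (p : Ideal R) [p.IsPrime] (q : Ideal S) [q.IsPrime] [q.LiesOver p] (hflat : Module.Flat R (Localization.AtPrime q)) :
    ∃ (R' : Type u) (_ : CommRing R') (_ : Algebra R R') (p' : Ideal R') (_ : p'.IsPrime), FlatCA.IsEtaleNhd R R' p p' ∧
      ∀ (SA : Type u) [CommRing SA] [Algebra R SA] [Algebra S SA] [Algebra (Localization.AtPrime p') SA]
        [IsScalarTower R S SA] [IsScalarTower R (Localization.AtPrime p') SA]
        [Algebra.IsPushout R S (Localization.AtPrime p') SA],
        ∃ g : SA, (∀ (Q : Ideal SA) [Q.IsPrime], Q.LiesOver q → Q.LiesOver (IsLocalRing.maximalIdeal (Localization.AtPrime p')) → g ∉ Q) ∧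
          Module.Flat (Localization.AtPrime p') (Localization.Away g) ∧
          Algebra.FinitePresentation (Localization.AtPrime p') (Localization.Away g) := by
  obtain ⟨k, π, hπ⟩ := Algebra.FiniteType.iff_quotient_mvPolynomial''.1 ‹Algebra.FiniteType R S›
  let P := MvPolynomial (Fin k) R
  letI : Algebra P S := π.toRingHom.toAlgebra
  haveI : IsScalarTower R P S := .of_algebraMap_eq fun r => (π.commutes r).symm
  haveI : Module.Finite P S := Module.Finite.of_surjective (Algebra.linearMap P S) hπ
  exact result_aux (P := P) hπ p q hflat

end Groth.Agent.S1263
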