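import Groth.Statements.S12631
import Groth.Agent.FF.DiffWeil

set_option autoImplicit false
universe u v w
open FunFld

namespace Groth.Agent.S12631

/-- Let `K/k` be a geometric function field of one variable of genus one all of whose places carry a
Laurent expansion over `k` in a local parameter (so every place is separable), and `v ∈ K` with `dv
≠ 0`. Then there is a nonzero `u ∈ K` whose differential `u dv` has divisor zero — the order of
`φ_P(u) · (φ_P v)′` is `0` at every place `P` — and such a `u` is unique up to a factor from `k`.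
(The published statement concerns elliptic curves over algebraically closed fields; this row is the
form for any constant field under the stated separability of all places.) -/
theorem result (k : Type u) (K : Type v) [Field k] [Field K] [Algebra k K]
    (hK : FunFld.IsFunctionField k K) (hg : FunFld.IsGeometric k K) (h1 : FunFld.genus k K = 1)
    (F : FunFld.Place k K → Type w) [∀ P, Field (F P)] [∀ P, Algebra k (F P)] [∀ P, FiniteDimensional k (F P)]
    (φ : ∀ P, K →ₐ[k] LaurentSeries (F P)) (hφ : ∀ P, LocRes.IsExpansionAt P.1 (φ P))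
    (v : K) (hv : KaehlerDifferential.D k K v ≠ 0) :
    (∃ u : K, u ≠ 0 ∧ ∀ P, LocRes.vDiff (φ P) u v = 1) ∧
      ∀ u u' : K, u ≠ 0 → (∀ P, LocRes.vDiff (φ P) u v = 1) → (∀ P, LocRes.vDiff (φ P) u' v = 1) →
        ∃ c : k, u' = c • u := by
  set C := Groth.Agent.FF.diffDiv hφ hK hg (one_ne_zero' K) hv
  obtain ⟨hell, hdeg⟩ := Groth.Agent.FF.canonical_deg hK
    (Groth.Agent.FF.diffDiv_isCanonical hφ hK hg (one_ne_zero' K) hv)
  rw [h1] at hell hdeg
  change FunFld.ell C = 1 at hell
  change C.deg = _ at hdeg
  norm_num at hdeg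
  have hkey : ∀ (u : K) (P : FunFld.Place k K), LocRes.vDiff (φ P) u v = P.1 u * WithZero.exp (-C P) := fun u P => by
    rw [Groth.Agent.FF.diffDiv_apply, ← Groth.Agent.FF.vDiff_eq_exp hφ hK hg one_ne_zero hv,
      ← Groth.Agent.FF.vDiff_mul hφ, mul_one]
  refine ⟨?_, fun u u' hu h h' => ?_⟩
  · obtain ⟨z, hz0, hz⟩ := Groth.Agent.FF.exists_ne_zero_of_ell_pos (D := C) (by omega)
    refine ⟨z, hz0, fun P => ?_⟩
    have hle := Groth.Agent.FF.le_add_div_of_mem_L hK hz0 hz
    have hd0 : (C + FunFld.div k z).deg = 0 := by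
      rw [Groth.Agent.FF.deg_add, Groth.Agent.FF.deg_div hK]; omega
    have hP : (C + FunFld.div k z) P = 0 := by
      by_contra hne
      have hge : Finsupp.single P 1 ≤ C + FunFld.div k z := fun Q => by
        have := hle Q
        rw [Finsupp.coe_zero, Pi.zero_apply] at this
        rcases eq_or_ne Q P with rfl | hQ
        · rw [Finsupp.single_eq_same]; omega
        · rw [Finsupp.single_eq_of_ne hQ]; exact this
      have h2 := Groth.Agent.FF.deg_mono hge
      rw [Groth.Agent.FF.deg_single, hd0] at h2
      have := Groth.Agent.FF.deg_pos hK P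
      omega
    rw [Finsupp.add_apply, Groth.Agent.FF.div_apply hK] at hP
    rw [hkey, Groth.Agent.FF.v_eq_exp P hz0, ← WithZero.exp_add, ← WithZero.exp_zero]
    congr 1
    omega
  · have hmem : ∀ u : K, (∀ P, LocRes.vDiff (φ P) u v = 1) → u ∈ FunFld.L C := fun u h P => by
      have h3 := h P
      rw [hkey] at h3
      refine le_of_mul_le_mul_right ?_ (WithZero.exp_pos (a := -C P))
      rw [h3, ← WithZero.exp_add, add_neg_cancel, WithZero.exp_zero]
    haveI := Groth.Agent.FF.finite_L hK C
    obtain ⟨c, hc⟩ := exists_smul_eq_of_finrank_eq_one (K := k) hell (x := ⟨u, hmem u h⟩)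
      (fun h0 => hu (congrArg Subtype.val h0)) ⟨u', hmem u' h'⟩
    exact ⟨c, (congrArg Subtype.val hc).symm⟩

end Groth.Agent.S12631
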