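import Groth.Statements.S1265
-- import your own Groth.Agent.* helpers here

set_option autoImplicit false
universe u
open FlatMor

namespace Groth.Agent.S1265

set_option backward.isDefEq.respectTransparency false

open TensorProduct

theorem le_of_le_smul {R M : Type u} [CommRing R] [AddCommGroup M] [Module R M] {J : Ideal R} {K : Submodule R M}
    (hJ : IsNilpotent J) (h : K ≤ J • K) : K = ⊥ := by
  obtain ⟨n, hn⟩ := hJ
  have hk : ∀ m : ℕ, K ≤ J ^ m • K := by
    intro m
    induction m with
    | zero => simp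
    | succ m ih => exact ih.trans ((Submodule.smul_mono le_rfl h).trans_eq (by rw [pow_succ, Submodule.mul_smul]))
  exact eq_bot_iff.2 ((hk n).trans_eq (by rw [hn, Submodule.zero_eq_bot, Submodule.bot_smul]))

/-- Reduction of endomorphisms. -/
def red {A F : Type u} [CommRing A] [AddCommGroup F] [Module A F] (J : Ideal A) :
    Module.End A F →+* Module.End A (F ⧸ J • (⊤ : Submodule A F)) where
  toFun g := Submodule.mapQ _ _ g (by
    rw [← Submodule.map_le_iff_le_comap, Submodule.map_smul'']
    exact Submodule.smul_mono le_rfl le_top)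
  map_one' := by ext; rfl
  map_mul' _ _ := by ext; rfl
  map_zero' := by ext; rfl
  map_add' _ _ := by ext; rfl

theorem red_mk {A F : Type u} [CommRing A] [AddCommGroup F] [Module A F] (J : Ideal A) (g : Module.End A F) (x : F) :
    red J g (Submodule.Quotient.mk x) = Submodule.Quotient.mk (g x) := rfl

theorem isNilpotent_of_red_eq_zero {A F : Type u} [CommRing A] [AddCommGroup F] [Module A F] {J : Ideal A}
    (hJ : IsNilpotent J) (g : Module.End A F) (hg : red J g = 0) : IsNilpotent g := by
  obtain ⟨n, hn⟩ := hJ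
  have hstep : ∀ (m : ℕ) (x : F), (g ^ m) x ∈ J ^ m • (⊤ : Submodule A F) := by
    intro m
    induction m with
    | zero => intro x; simp
    | succ m ih =>
      intro x
      rw [show (g ^ (m + 1)) x = (g ^ m) (g x) by rw [pow_succ]; rfl]
      have hgx : g x ∈ J • (⊤ : Submodule A F) := by
        rw [← Submodule.Quotient.mk_eq_zero, ← red_mk, hg]; rfl
      have hle : (J • (⊤ : Submodule A F)).map (g ^ m) ≤ J ^ (m + 1) • (⊤ : Submodule A F) := by
        rw [Submodule.map_smul'', pow_succ', Submodule.mul_smul]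
        refine Submodule.smul_mono le_rfl ?_
        rintro _ ⟨y, -, rfl⟩
        exact ih y
      exact hle ⟨_, hgx, rfl⟩
  exact ⟨n, LinearMap.ext fun x => by
    have := hstep n x
    rwa [hn, Submodule.zero_eq_bot, Submodule.bot_smul, Submodule.mem_bot] at this⟩

theorem exists_lift_idem {A F : Type u} [CommRing A] [AddCommGroup F] [Module A F] [Module.Projective A F] {J : Ideal A}
    (hJ : IsNilpotent J) (eb : Module.End A (F ⧸ J • (⊤ : Submodule A F))) (heb : eb * eb = eb) :
    ∃ e : Module.End A F, e * e = e ∧ red J e = eb := by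
  obtain ⟨g, hg⟩ := Module.projective_lifting_property (J • (⊤ : Submodule A F)).mkQ
    (eb ∘ₗ (J • (⊤ : Submodule A F)).mkQ) (Submodule.mkQ_surjective _)
  exact exists_isIdempotentElem_eq_of_ker_isNilpotent (red J)
    (fun g hg => isNilpotent_of_red_eq_zero hJ g hg) eb ⟨g, Submodule.linearMap_qext _ hg⟩ heb

theorem exists_section {A M P : Type u} [CommRing A] [IsArtinianRing A] [AddCommGroup M] [Module A M] [AddCommGroup P] [Module A P]
    (q : M →ₗ[A] P) (hq : Function.Surjective q) (hM : Module.IsTorsionBySet A M (nilradical A : Ideal A)) :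
    ∃ h : P →ₗ[A] M, q ∘ₗ h = LinearMap.id := by
  haveI : IsReduced (A ⧸ nilradical A) := (Ideal.isRadical_iff_quotient_reduced _).1 (Ideal.radical_isRadical _)
  haveI : IsSemisimpleRing (A ⧸ nilradical A) := IsArtinianRing.isSemisimpleRing_of_isReduced _
  haveI : IsSemisimpleModule A M := by
    letI := hM.module
    exact hM.isSemisimpleModule_iff.1 inferInstance
  exact IsSemisimpleModule.lifting_property q hq LinearMap.id

theorem eq_top_of_sup {A N : Type u} [CommRing A] [AddCommGroup N] [Module A N] {J : Ideal A} (hJ : IsNilpotent J)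
    (R' : Submodule A N) (h : R' ⊔ J • (⊤ : Submodule A N) = ⊤) : R' = ⊤ := by
  obtain ⟨n, hn⟩ := hJ
  have hk : ∀ m : ℕ, R' ⊔ J ^ m • (⊤ : Submodule A N) = ⊤ := by
    intro m
    induction m with
    | zero => simp
    | succ m ih =>
      refine eq_top_iff.2 (le_trans h.ge (sup_le le_sup_left ?_))
      calc J • (⊤ : Submodule A N) = J • (R' ⊔ J ^ m • (⊤ : Submodule A N)) := by rw [ih]
        _ = J • R' ⊔ J ^ (m + 1) • (⊤ : Submodule A N) := by rw [Submodule.smul_sup, ← Submodule.mul_smul, ← pow_succ']
        _ ≤ _ := sup_le_sup_right Submodule.smul_le_right _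
  simpa [hn] using hk n

/-- A projective cover of any module over an Artinian ring, as an idempotent of a free module. -/
theorem exists_cover {A : Type u} [CommRing A] [IsArtinianRing A] (N : Type u) [AddCommGroup N] [Module A N] :
    ∃ (e : (N →₀ A) →ₗ[A] (N →₀ A)) (π : (N →₀ A) →ₗ[A] N), e ∘ₗ e = e ∧ Function.Surjective (π ∘ₗ e) ∧
      ∀ v, π (e v) = 0 → e v ∈ nilradical A • (⊤ : Submodule A (N →₀ A)) := by
  have hJ : IsNilpotent (nilradical A) := IsArtinianRing.isNilpotent_nilradical
  obtain ⟨π, hπ⟩ : ∃ π : (N →₀ A) →ₗ[A] N, Function.Surjective π :=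
    ⟨Finsupp.linearCombination A id, Finsupp.linearCombination_surjective _ Function.surjective_id⟩
  have hmap : nilradical A • (⊤ : Submodule A (N →₀ A)) ≤ (nilradical A • (⊤ : Submodule A N)).comap π := by
    rw [← Submodule.map_le_iff_le_comap, Submodule.map_smul'']
    exact Submodule.smul_mono le_rfl le_top
  let πb := Submodule.mapQ _ _ π hmap
  have hπb : Function.Surjective πb := fun y => by
    obtain ⟨y, rfl⟩ := Submodule.Quotient.mk_surjective _ y
    obtain ⟨x, rfl⟩ := hπ y
    exact ⟨Submodule.Quotient.mk x, rfl⟩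
  obtain ⟨h, hh⟩ := exists_section πb hπb fun x a => by
    obtain ⟨x, rfl⟩ := Submodule.Quotient.mk_surjective _ x
    rw [← Submodule.Quotient.mk_smul, Submodule.Quotient.mk_eq_zero]
    exact Submodule.smul_mem_smul a.2 trivial
  obtain ⟨e, he, hee⟩ := exists_lift_idem hJ (h ∘ₗ πb) (LinearMap.ext fun x => by
    show h (πb (h (πb x))) = h (πb x)
    exact congrArg h (LinearMap.congr_fun hh (πb x)))
  have hbar : ∀ x, (Submodule.Quotient.mk (e x) : _ ⧸ nilradical A • (⊤ : Submodule A (N →₀ A))) =
      h (πb (Submodule.Quotient.mk x)) := fun x => by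
    rw [← red_mk, hee]; rfl
  refine ⟨e, π, he, LinearMap.range_eq_top.1 (eq_top_of_sup hJ _ (eq_top_iff.2 fun y _ => ?_)), fun v hv => ?_⟩
  · obtain ⟨x, rfl⟩ := hπ y
    refine Submodule.mem_sup.2 ⟨π (e x), ⟨x, rfl⟩, π x - π (e x), ?_, add_sub_cancel _ _⟩
    rw [← Submodule.Quotient.mk_eq_zero, Submodule.Quotient.mk_sub, sub_eq_zero]
    show πb (Submodule.Quotient.mk x) = πb (Submodule.Quotient.mk (e x))
    rw [hbar]
    exact (LinearMap.congr_fun hh (πb (Submodule.Quotient.mk x))).symm
  · rw [← Submodule.Quotient.mk_eq_zero, show e v = e (e v) from (LinearMap.congr_fun he v).symm, hbar]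
    show h (πb (Submodule.Quotient.mk (e v))) = 0
    rw [show πb (Submodule.Quotient.mk (e v)) = Submodule.Quotient.mk (π (e v)) from rfl, hv, Submodule.Quotient.mk_zero, map_zero]

theorem ker_eq_bot_of_flat {R P N : Type u} [CommRing R] [AddCommGroup P] [Module R P] [AddCommGroup N] [Module R N]
    [Module.Flat R N] (f : P →ₗ[R] N) (hf : Function.Surjective f) {J : Ideal R} (hJ : IsNilpotent J)
    (h : LinearMap.ker f ≤ J • (⊤ : Submodule R P)) : LinearMap.ker f = ⊥ := by
  refine le_of_le_smul hJ fun k hk => ?_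
  have hinj := LinearMap.lTensor_injective_of_exact_of_flat f hf (LinearMap.ker f).subtype
    (Submodule.injective_subtype _) (LinearMap.exact_subtype_ker_map f) (R ⧸ J)
  have h0 : (Ideal.Quotient.mk J 1) ⊗ₜ[R] (⟨k, hk⟩ : LinearMap.ker f) = 0 := hinj (by
    rw [LinearMap.lTensor_tmul, map_zero]
    refine (TensorProduct.quotTensorEquivQuotSMul P J).injective ?_
    rw [TensorProduct.quotTensorEquivQuotSMul_mk_tmul, map_zero, one_smul, Submodule.Quotient.mk_eq_zero]
    exact h hk)
  have h1 := congrArg (TensorProduct.quotTensorEquivQuotSMul (LinearMap.ker f) J) h0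
  rw [TensorProduct.quotTensorEquivQuotSMul_mk_tmul, map_zero, one_smul, Submodule.Quotient.mk_eq_zero] at h1
  have h2 := Submodule.mem_map_of_mem (f := (LinearMap.ker f).subtype) h1
  rw [Submodule.map_smul'', Submodule.map_top, Submodule.range_subtype] at h2
  exact h2

set_option maxHeartbeats 800000 in
theorem flat_iff {A : Type u} [CommRing A] [IsArtinianRing A] (N : Type u) [AddCommGroup N] [Module A N] :
    ∃ I : Ideal A, ∀ (A' : Type u) [CommRing A'] [Algebra A A'],
      Module.Flat A' (A' ⊗[A] N) ↔ I.map (algebraMap A A') = ⊥ := by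
  classical
  obtain ⟨e, π, he, hsurj, hker⟩ := exists_cover (A := A) N
  let f := π ∘ₗ e
  refine ⟨Ideal.span {a | ∃ v t, f v = 0 ∧ a = e v t}, fun A' _ _ => ?_⟩
  let F' := A' ⊗[A] (N →₀ A)
  let E' := e.baseChange A'
  let g := π.baseChange A' ∘ₗ (LinearMap.range E').subtype
  have hg : Function.Surjective g := fun y => by
    obtain ⟨x, hx⟩ := LinearMap.lTensor_surjective A' hsurj y
    refine ⟨⟨E' x, x, rfl⟩, ?_⟩
    show π.baseChange A' (E' x) = y
    rw [← LinearMap.comp_apply, ← LinearMap.baseChange_comp]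
    exact hx
  haveI : Module.Projective A' F' := inferInstance
  haveI : Module.Projective A' (LinearMap.range E') := by
    refine Module.Projective.of_split (LinearMap.range E').subtype E'.rangeRestrict ?_
    refine LinearMap.ext fun x => Subtype.ext ?_
    obtain ⟨_, y, rfl⟩ := x
    show E' (E' y) = E' y
    rw [← LinearMap.comp_apply, ← LinearMap.baseChange_comp, he]
  have hk : ∀ x : LinearMap.range E', g x = 0 → ∃ z : A' ⊗[A] (LinearMap.ker f), (x : F') = (e ∘ₗ (LinearMap.ker f).subtype).baseChange A' z := by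
    rintro ⟨_, y, rfl⟩ hy
    have hy' : f.lTensor A' y = 0 := by
      change π.baseChange A' (E' y) = 0 at hy
      rw [← LinearMap.comp_apply, ← LinearMap.baseChange_comp] at hy
      exact hy
    obtain ⟨z, hz⟩ := ((lTensor_exact (M := LinearMap.ker (π ∘ₗ e)) (N := (N →₀ A)) (P := N) (R := A) A' (f := (LinearMap.ker (π ∘ₗ e)).subtype) (g := π ∘ₗ e) (LinearMap.exact_subtype_ker_map (π ∘ₗ e)) hsurj) y).1 hy'
    refine ⟨z, ?_⟩
    show E' y = _
    rw [← hz, LinearMap.baseChange_comp]
    rfl
  have hcoord : ∀ (t : N) (v : N →₀ A), (TensorProduct.finsuppScalarRight A A' A' N ((1 : A') ⊗ₜ v)) t = algebraMap A A' (v t) := fun t v => by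
    rw [TensorProduct.finsuppScalarRight_apply_tmul_apply, Algebra.algebraMap_eq_smul_one]
  constructor
  · intro hfl
    have hJ' : IsNilpotent ((nilradical A).map (algebraMap A A')) := by
      obtain ⟨n, hn⟩ := (IsArtinianRing.isNilpotent_nilradical (R := A))
      exact ⟨n, by rw [← Ideal.map_pow, hn, Ideal.zero_eq_bot, Ideal.map_bot]; rfl⟩
    have hle : LinearMap.ker g ≤ (nilradical A).map (algebraMap A A') • (⊤ : Submodule A' (LinearMap.range E')) := fun x hx => by
        obtain ⟨z, hz⟩ := hk x (LinearMap.mem_ker.1 hx)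
        have hzJ : (x : F') ∈ (nilradical A).map (algebraMap A A') • (⊤ : Submodule A' F') := by
          rw [hz]
          clear hz
          induction z with
          | zero => simp
          | add a b ha hb => rw [map_add]; exact add_mem ha hb
          | tmul a v =>
            rw [LinearMap.baseChange_tmul]
            refine Submodule.smul_induction_on (hker v.1 v.2) (fun r hr w _ => ?_) fun p q hp hq => ?_
            · rw [TensorProduct.tmul_smul, ← algebraMap_smul A' r]
              exact Submodule.smul_mem_smul (Ideal.mem_map_of_mem (algebraMap A A') hr) Submodule.mem_top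
            · rw [TensorProduct.tmul_add]; exact add_mem hp hq
        have h1 := Submodule.mem_map_of_mem (f := E'.rangeRestrict) hzJ
        rw [Submodule.map_smul''] at h1
        have hx' : E'.rangeRestrict (x : F') = x := by
          obtain ⟨_, y, rfl⟩ := x
          refine Subtype.ext ?_
          show E' (E' y) = E' y
          rw [← LinearMap.comp_apply, ← LinearMap.baseChange_comp, he]
        exact hx' ▸ Submodule.smul_mono le_rfl le_top h1
    have hbot : LinearMap.ker g = ⊥ := ker_eq_bot_of_flat (R := A') (P := LinearMap.range E') (N := A' ⊗[A] N) g hg hJ' hle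
    rw [Ideal.map_eq_bot_iff_le_ker, Ideal.span_le]
    rintro _ ⟨v, t, hv, rfl⟩
    show algebraMap A A' (e v t) = 0
    have hmem : g ⟨(1 : A') ⊗ₜ e v, (1 : A') ⊗ₜ v, LinearMap.baseChange_tmul (f := e) _ _⟩ = 0 := by
      show π.baseChange A' ((1 : A') ⊗ₜ e v) = 0
      rw [LinearMap.baseChange_tmul, show π (e v) = 0 from hv, TensorProduct.tmul_zero]
    have h0 := LinearMap.ker_eq_bot'.1 hbot _ hmem
    have h1 : (1 : A') ⊗ₜ[A] e v = (0 : F') := congrArg Subtype.val h0
    rw [← hcoord t (e v), h1, map_zero]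
    rfl
  · intro hI
    rw [Ideal.map_eq_bot_iff_le_ker, Ideal.span_le] at hI
    have h0g : ∀ x, g x = 0 → x = 0 := (fun x hx => Subtype.ext (by
      obtain ⟨z, hz⟩ := hk x hx
      rw [hz]
      clear hz
      induction z with
      | zero => simp
      | add a b ha hb => rw [map_add, ha, hb]; exact add_zero _
      | tmul a v =>
        rw [LinearMap.baseChange_tmul]
        show a ⊗ₜ[A] e v.1 = (0 : F')
        rw [show a ⊗ₜ[A] e v.1 = a • ((1 : A') ⊗ₜ[A] e v.1) by rw [TensorProduct.smul_tmul', smul_eq_mul, mul_one],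
          show (1 : A') ⊗ₜ[A] e v.1 = (0 : F') from (TensorProduct.finsuppScalarRight A A' A' N).injective
            (Finsupp.ext fun t => by rw [hcoord, map_zero]; exact hI ⟨v.1, t, v.2, rfl⟩), smul_zero]))
    have hinj : Function.Injective g := fun a b h => sub_eq_zero.1 (h0g (a - b) ((LinearMap.map_sub g a b).trans (sub_eq_zero.2 h)))
    exact Module.Flat.of_linearEquiv (LinearEquiv.ofBijective g ⟨hinj, hg⟩).symm

/-- Ring form, stated for X = Spec B affine: let A be an Artinian ring, B an A-algebra and N a B-module.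
Then there is an ideal I of A such that for every A-algebra A', with B' = B ⊗_A A' and N' the base
change of N (any models), N' is flat over A' if and only if IA' = 0. -/
theorem result {A B : Type u} [CommRing A] [IsArtinianRing A] [CommRing B] [Algebra A B]
    (N : Type u) [AddCommGroup N] [Module B N] [Module A N] [IsScalarTower A B N] :
    ∃ I : Ideal A, ∀ (A' B' N' : Type u) [CommRing A'] [CommRing B'] [Algebra A A'] [Algebra B B'] [Algebra A' B'] [Algebra A B']
      [IsScalarTower A B B'] [IsScalarTower A A' B'] [Algebra.IsPushout A B A' B']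
      [AddCommGroup N'] [Module B' N'] [Module B N'] [IsScalarTower B B' N'] [Module A' N'] [IsScalarTower A' B' N']
      (f : N →ₗ[B] N'), IsBaseChange B' f →
      (Module.Flat A' N' ↔ I.map (algebraMap A A') = ⊥) := by
  obtain ⟨I, hI⟩ := flat_iff (A := A) N
  refine ⟨I, fun A' B' N' => ?_⟩
  intros
  rename_i f hf
  haveI : Algebra.IsPushout A A' B B' := Algebra.IsPushout.symm ‹_›
  have e : N' ≃ₗ[A'] A' ⊗[A] N :=
    (hf.equiv.restrictScalars A').symm ≪≫ₗ Algebra.IsPushout.cancelBaseChange A A' B B' N
  rw [← hI A']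
  exact ⟨fun h => @Module.Flat.of_linearEquiv _ _ _ _ _ _ _ _ h e.symm, fun h => @Module.Flat.of_linearEquiv _ _ _ _ _ _ _ _ h e⟩

end Groth.Agent.S1265
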