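import Groth.Statements.S12662
import Groth.Agent.CycLib.Chern.Segre

set_option autoImplicit false
universe u
open CategoryTheory CategoryTheory.Limits AlgebraicGeometry
open Cyc

namespace Groth.Agent.S12662

open CategoryTheory CategoryTheory.Limits AlgebraicGeometry

open Groth.Agent
set_option backward.isDefEq.respectTransparency false

/-- For E, F finite locally free of ranks r, s on X and α ∈ CH_k(X), c_i(E) ∩ c_j(F) ∩ α = c_j(F) ∩
c_i(E) ∩ α in CH_{k-i-j}(X). Both bundles enter through their projective bundles (P, O_P(1)), (Q,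
O_Q(1)); the iterated caps are represented by nested tuples (a tuple for F over the i-th component
of a tuple for E over α, and symmetrically). (The published statement also asserts that c_j(E) is
central in the bivariant ring A^*(X) and commutes with every bivariant class of a morphism X' → X;
only the displayed consequence for two Chern classes is stated here.) Setting: (X, δ) with
Cyc.IsSetup stands for a scheme locally of finite type over the base (S, δ) (X locally Noetherian
with universally catenary local rings, δ a dimension function); (p : P → X, O_P(1), q) is the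
projective bundle of E given by its universal property (KRR.IsProjBundle), p is proper and δP is the
induced dimension function (Cyc.DeltaCompat); a tuple γ with Cyc.IsChernCap represents (c_0(E) ∩ α,
…, c_r(E) ∩ α) through the defining relation Σ_i (-1)^i c_1(O_P(1))^i ∩ p^*(γ_{r-i}) ∼_rat 0 on P,
and classes are compared up to rational equivalence of representing cycles. -/
theorem result (X : Scheme.{u}) (δ : X → ℤ) (hX : Cyc.IsSetup X δ) (r s : ℕ) (E : X.Modules) (hPE : FlatMod.IsFinLocFreeOfRank r E) (P : Scheme.{u}) (p : P ⟶ X) (O1 : P.Modules) (q : (Scheme.Modules.pullback p).obj E ⟶ O1) (hP : KRR.IsProjBundle p E O1 q) [IsProper p] (δP : P → ℤ) (hPs : Cyc.IsSetup P δP) (hδ : Cyc.DeltaCompat p δP δ) (F : X.Modules) (hQE : FlatMod.IsFinLocFreeOfRank s F) (Q : Scheme.{u}) (p' : Q ⟶ X) (O1' : Q.Modules) (q' : (Scheme.Modules.pullback p').obj F ⟶ O1') (hQ : KRR.IsProjBundle p' F O1' q') [IsProper p'] (δQ : Q → ℤ) (hQs : Cyc.IsSetup Q δQ) (hδ' : Cyc.DeltaCompat p' δQ δ) (k : ℤ) (α : AlgebraicCycle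 X ℤ) (hα : α ∈ Cyc.Zk X δ k) (i : Fin (r + 1)) (j : Fin (s + 1)) (γ : Fin (r + 1) → AlgebraicCycle X ℤ) (hγ : Cyc.IsChernCap p δ δP O1 r k α γ) (ε : Fin (s + 1) → AlgebraicCycle X ℤ) (hε : Cyc.IsChernCap p' δ δQ O1' s (k - ((i : ℕ) : ℤ)) (γ i) ε) (φ : Fin (s + 1) → AlgebraicCycle X ℤ) (hφ : Cyc.IsChernCap p' δ δQ O1' s k α φ) (ψ : Fin (r + 1) → AlgebraicCycle X ℤ) (hψ : Cyc.IsChernCap p δ δP O1 r (k - ((j : ℕ) : ℤ)) (φ j) ψ) : Cyc.RatEquiv δ (k - ((i : ℕ) : ℤ) - ((j : ℕ) : ℤ)) (ε j) (ψ i) := by
  haveI := hX.1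
  haveI := hPs.1
  haveI := hQs.1
  have hrefl : ∀ (m : ℤ) (a : AlgebraicCycle X ℤ), Cyc.RatEquiv δ m a a := fun m a => by
    show Cyc.RatEquivZero δ m (a - a)
    rw [sub_self]
    exact CycLib.ratEquivZero_zero
  cases r with
  | zero =>
    obtain rfl : i = 0 := Fin.ext (by omega)
    cases s with
    | zero =>
      obtain rfl : j = 0 := Fin.ext (by omega)
      rw [hψ.1, hε.1, hγ.1, hφ.1]
      exact hrefl _ _
    | succ n' =>
      have T := CycLib.PB.setting_of_isProjBundle hQE hQ hX hQs hδ'
      rw [hψ.1]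
      have e : k - (((0 : Fin (0 + 1)) : ℕ) : ℤ) = k := by simp
      rw [e] at hε ⊢
      rw [hγ.1] at hε
      exact T.chern_unique (hrefl _ _) hε hφ j
  | succ n =>
    have S := CycLib.PB.setting_of_isProjBundle hPE hP hX hPs hδ
    cases s with
    | zero =>
      obtain rfl : j = 0 := Fin.ext (by omega)
      rw [hε.1, show k - ((i : ℕ) : ℤ) - (((0 : Fin (0 + 1)) : ℕ) : ℤ) = k - ((i : ℕ) : ℤ) by simp]
      have e : k - (((0 : Fin (0 + 1)) : ℕ) : ℤ) = k := by simp
      rw [e, hφ.1] at hψ
      exact S.chern_unique (hrefl _ _) hγ hψ i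
    | succ n' =>
      have T := CycLib.PB.setting_of_isProjBundle hQE hQ hX hQs hδ'
      exact CycLib.PB.Setting.chern_comm hPE hP S T hγ i hε hφ j hψ

end Groth.Agent.S12662
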