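import Groth.Statements.S12663
import Groth.Agent.CycLib.Chern.SubLine

set_option autoImplicit false
universe u
open CategoryTheory CategoryTheory.Limits AlgebraicGeometry
open Cyc

namespace Groth.Agent.S12663

open CategoryTheory CategoryTheory.Limits AlgebraicGeometry

open Groth.Agent
set_option backward.isDefEq.respectTransparency false

/-- If E, F are finite locally free of ranks m + 1, m on X sitting in a short exact sequence 0 → O_X → E
→ F → 0, then c_{m+1}(E) = 0 and c_j(E) = c_j(F) for j = 0, …, m, as cap operations: for every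
k-cycle α, c_{m+1}(E) ∩ α ∼_rat 0 and c_j(E) ∩ α ∼_rat c_j(F) ∩ α. Setting: (X, δ) with Cyc.IsSetup
stands for a scheme locally of finite type over the base (S, δ) (X locally Noetherian with
universally catenary local rings, δ a dimension function); (p : P → X, O_P(1), q) is the projective
bundle of E given by its universal property (KRR.IsProjBundle), p is proper and δP is the induced
dimension function (Cyc.DeltaCompat); a tuple γ with Cyc.IsChernCap represents (c_0(E) ∩ α, …,
c_r(E) ∩ α) through the defining relation Σ_i (-1)^i c_1(O_P(1))^i ∩ p^*(γ_{r-i}) ∼_rat 0 on P, and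
classes are compared up to rational equivalence of representing cycles. -/
theorem result (X : Scheme.{u}) (δ : X → ℤ) (hX : Cyc.IsSetup X δ) (m : ℕ) (E : X.Modules) (hPE : FlatMod.IsFinLocFreeOfRank (m + 1) E) (P : Scheme.{u}) (p : P ⟶ X) (O1 : P.Modules) (q : (Scheme.Modules.pullback p).obj E ⟶ O1) (hP : KRR.IsProjBundle p E O1 q) [IsProper p] (δP : P → ℤ) (hPs : Cyc.IsSetup P δP) (hδ : Cyc.DeltaCompat p δP δ) (F : X.Modules) (hQE : FlatMod.IsFinLocFreeOfRank m F) (Q : Scheme.{u}) (p' : Q ⟶ X) (O1' : Q.Modules) (q' : (Scheme.Modules.pullback p').obj F ⟶ O1') (hQ : KRR.IsProjBundle p' F O1' q') [IsProper p'] (δQ : Q → ℤ) (hQs : Cyc.IsSetup Q δQ) (hδ' : Cyc.DeltaCompat p' δQ δ) (a : Coh.structureModule X ⟶ E) (b : E ⟶ F) (hab : a ≫ b = 0) (hex : (ShortComplex.mk a b hab).ShortExact) (k : ℤ) (α : AlgebraicCycle X ℤ) (hα : α ∈ Cyc.Zk X δ k) (γ : Fin (m + 2) → AlgebraicCycle X ℤ) (hγ : Cyc.IsChernCap p δ δP O1 (m + 1) k α γ) (γ' : Fin (m + 1) → AlgebraicCycle X ℤ) (hγ' : Cyc.IsChernCap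 p' δ δQ O1' m k α γ') : Cyc.RatEquivZero δ (k - ((m : ℤ) + 1)) (γ (Fin.last (m + 1))) ∧ ∀ j : Fin (m + 1), Cyc.RatEquiv δ (k - ((j : ℕ) : ℤ)) (γ (Fin.castSucc j)) (γ' j) := by
  haveI := hX.1
  haveI := hPs.1
  have S := CycLib.PB.setting_of_isProjBundle hPE hP hX hPs hδ
  have h := CycLib.chern_of_sub_line hX hPE hP hPs hδ hQE hQ hQs hδ' ParaFLib.isInvertible_structureModule hab hex hα hγ'
    CycLib.oneSec_ne_zero
  have hu := fun l => S.chern_unique (α := α) (α' := α) (by
    show Cyc.RatEquivZero δ k (α - α)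
    rw [sub_self]
    exact CycLib.ratEquivZero_zero) hγ h l
  refine ⟨?_, Fin.cases ?_ fun j => ?_⟩
  · have := hu (Fin.last (m + 1))
    rw [← Fin.succ_last, CycLib.PB.Setting.subTuple, Fin.cons_succ, dif_neg (by simp), zero_add, CycLib.c1Cycle_one,
      Fin.val_succ, Fin.val_last] at this
    rw [← Fin.succ_last]
    simpa [Cyc.RatEquiv] using this
  · rw [Fin.castSucc_zero, hγ.1, hγ'.1]
    show Cyc.RatEquivZero δ _ (α - α)
    rw [sub_self]
    exact CycLib.ratEquivZero_zero
  · have := hu (Fin.succ (Fin.castSucc j))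
    rw [CycLib.PB.Setting.subTuple, Fin.cons_succ, dif_pos (show ((Fin.castSucc j : Fin (m + 1)) : ℕ) + 1 ≤ m from j.2),
      CycLib.c1Cycle_one, add_zero] at this
    rw [← Fin.succ_castSucc]
    exact this

end Groth.Agent.S12663
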