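import Groth.Statements.S12664
import Groth.Agent.CycLib.Chern.SubLine

set_option autoImplicit false
universe u
open CategoryTheory CategoryTheory.Limits AlgebraicGeometry
open Cyc

namespace Groth.Agent.S12664

open CategoryTheory CategoryTheory.Limits AlgebraicGeometry

open Groth.Agent
set_option backward.isDefEq.respectTransparency false

/-- If 0 → L → E → F → 0 is a short exact sequence on X with L invertible and E, F finite locally free
of ranks m + 1, m, then c(E) = c(L) c(F), that is c_i(E) = c_i(F) + c_1(L) c_{i-1}(F) for i = 1, …,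
m and c_{m+1}(E) = c_1(L) c_m(F), as cap operations on every k-cycle α, with c_1(L) ∩ - computed on
coefficient functions from any nonzero rational sections (Cyc.c1CapFun) applied to the
representatives of c_{i-1}(F) ∩ α. Setting: (X, δ) with Cyc.IsSetup stands for a scheme locally of
finite type over the base (S, δ) (X locally Noetherian with universally catenary local rings, δ a
dimension function); (p : P → X, O_P(1), q) is the projective bundle of E given by its universal
property (KRR.IsProjBundle), p is proper and δP is the induced dimension function (Cyc.DeltaCompat);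
a tuple γ with Cyc.IsChernCap represents (c_0(E) ∩ α, …, c_r(E) ∩ α) through the defining relation
Σ_i (-1)^i c_1(O_P(1))^i ∩ p^*(γ_{r-i}) ∼_rat 0 on P, and classes are compared up to rational
equivalence of representing cycles. -/
theorem result (X : Scheme.{u}) (δ : X → ℤ) (hX : Cyc.IsSetup X δ) (m : ℕ) (E : X.Modules) (hPE : FlatMod.IsFinLocFreeOfRank (m + 1) E) (P : Scheme.{u}) (p : P ⟶ X) (O1 : P.Modules) (q : (Scheme.Modules.pullback p).obj E ⟶ O1) (hP : KRR.IsProjBundle p E O1 q) [IsProper p] (δP : P → ℤ) (hPs : Cyc.IsSetup P δP) (hδ : Cyc.DeltaCompat p δP δ) (F : X.Modules) (hQE : FlatMod.IsFinLocFreeOfRank m F) (Q : Scheme.{u}) (p' : Q ⟶ X) (O1' : Q.Modules) (q' : (Scheme.Modules.pullback p').obj F ⟶ O1') (hQ : KRR.IsProjBundle p' F O1' q') [IsProper p'] (δQ : Q → ℤ) (hQs : Cyc.IsSetup Q δQ) (hδ' : Cyc.DeltaCompat p' δQ δ) (L : X.Modules) (hL : PicF.IsInvertible L) (a : L ⟶ E) (b : E ⟶ F) (hab : a ≫ b = 0) (hex : (ShortComplex.mk a b hab).ShortExact) (k : ℤ)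 (α : AlgebraicCycle X ℤ) (hα : α ∈ Cyc.Zk X δ k) (γ : Fin (m + 2) → AlgebraicCycle X ℤ) (hγ : Cyc.IsChernCap p δ δP O1 (m + 1) k α γ) (γ' : Fin (m + 1) → AlgebraicCycle X ℤ) (hγ' : Cyc.IsChernCap p' δ δQ O1' m k α γ') (t : (ξ : X) → Cyc.secFibre L ξ) (ht : ∀ ξ, t ξ ≠ 0) (ζ : Fin (m + 1) → AlgebraicCycle X ℤ) (hζ : ∀ j, ⇑(ζ j) = Cyc.c1CapFun δ L ⇑(γ' j) t) : (∀ j : Fin m, Cyc.RatEquiv δ (k - ((j : ℕ) : ℤ) - 1) (γ (Fin.succ (Fin.castSucc j))) (γ' (Fin.succ j) + ζ (Fin.castSucc j))) ∧ Cyc.RatEquiv δ (k - (m : ℤ) - 1) (γ (Fin.last (m + 1))) (ζ (Fin.last m)) := by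
  haveI := hX.1
  haveI := hPs.1
  have S := CycLib.PB.setting_of_isProjBundle hPE hP hX hPs hδ
  have h := CycLib.chern_of_sub_line hX hPE hP hPs hδ hQE hQ hQs hδ' hL hab hex hα hγ' ht
  have hu := fun l => S.chern_unique (α := α) (α' := α) (by
    show Cyc.RatEquivZero δ k (α - α)
    rw [sub_self]
    exact CycLib.ratEquivZero_zero) hγ h l
  have hz : ∀ j, CycLib.c1Cycle hX.2.2 hL (γ' j) t = ζ j := fun j => by
    ext x
    exact (congrFun (hζ j) x).symm
  refine ⟨fun j => ?_, ?_⟩
  · have := hu (Fin.succ (Fin.castSucc j))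
    rw [CycLib.PB.Setting.subTuple, Fin.cons_succ, dif_pos (show ((Fin.castSucc j : Fin (m + 1)) : ℕ) + 1 ≤ m from j.2), hz] at this
    rw [show k - (((Fin.castSucc j).succ : Fin (m + 1 + 1)) : ℕ) = k - ((j : ℕ) : ℤ) - 1 by
      simp only [Fin.val_succ, Fin.val_castSucc]; push_cast; ring] at this
    exact this
  · have := hu (Fin.last (m + 1))
    rw [← Fin.succ_last, CycLib.PB.Setting.subTuple, Fin.cons_succ, dif_neg (by simp), zero_add, hz, Fin.val_succ,
      Fin.val_last, show k - ((m + 1 : ℕ) : ℤ) = k - (m : ℤ) - 1 by push_cast; ring] at this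
    rwa [← Fin.succ_last]

end Groth.Agent.S12664
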