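import Groth.Statements.S12666
import Groth.Agent.CycLib.Chern.Formulas

set_option autoImplicit false
universe u
open CategoryTheory CategoryTheory.Limits AlgebraicGeometry
open Cyc

namespace Groth.Agent.S12666

open CategoryTheory CategoryTheory.Limits AlgebraicGeometry

open Groth.Agent Groth.Agent.CycLib
open scoped BigOperators
set_option backward.isDefEq.respectTransparency false

/-- For E finite locally free of rank r and L invertible on X, c_i(E ⊗ L) = Σ_{j=0}^{i} C(r-i+j, j)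
c_{i-j}(E) c_1(L)^j for i ≤ r, as cap operations on every k-cycle α: c_i(E ⊗ L) ∩ α ∼_rat Σ_j
C(r-i+j, j) c_1(L)^j ∩ (c_{i-j}(E) ∩ α), where c_1(L)^j ∩ - is the j-fold iterated cap on
coefficient functions with any nonzero rational sections (Cyc.c1PowFun) and E ⊗ L is the tensor
product of O_X-modules (CohB1.tensorMod). Setting: (X, δ) with Cyc.IsSetup stands for a scheme
locally of finite type over the base (S, δ) (X locally Noetherian with universally catenary local
rings, δ a dimension function); (p : P → X, O_P(1), q) is the projective bundle of E given by its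
universal property (KRR.IsProjBundle), p is proper and δP is the induced dimension function
(Cyc.DeltaCompat); a tuple γ with Cyc.IsChernCap represents (c_0(E) ∩ α, …, c_r(E) ∩ α) through the
defining relation Σ_i (-1)^i c_1(O_P(1))^i ∩ p^*(γ_{r-i}) ∼_rat 0 on P, and classes are compared up
to rational equivalence of representing cycles. -/
theorem result (X : Scheme.{u}) (δ : X → ℤ) (hX : Cyc.IsSetup X δ) (r : ℕ) (E : X.Modules) (hPE : FlatMod.IsFinLocFreeOfRank r E) (P : Scheme.{u}) (p : P ⟶ X) (O1 : P.Modules) (q : (Scheme.Modules.pullback p).obj E ⟶ O1) (hP : KRR.IsProjBundle p E O1 q) [IsProper p] (δP : P → ℤ) (hPs : Cyc.IsSetup P δP) (hδ : Cyc.DeltaCompat p δP δ) (L : X.Modules) (hL : PicF.IsInvertible L) (hP'E : FlatMod.IsFinLocFreeOfRank r (CohB1.tensorMod E L)) (P' : Scheme.{u}) (p' : P' ⟶ X) (O1' : P'.Modules) (q' : (Scheme.Modules.pullback p').obj (CohB1.tensorMod E L) ⟶ O1') (hP' : KRR.IsProjBundle p' (CohB1.tensorMod E L) O1' q')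 [IsProper p'] (δP' : P' → ℤ) (hPs' : Cyc.IsSetup P' δP') (hδ' : Cyc.DeltaCompat p' δP' δ) (k : ℤ) (α : AlgebraicCycle X ℤ) (hα : α ∈ Cyc.Zk X δ k) (γ : Fin (r + 1) → AlgebraicCycle X ℤ) (hγ : Cyc.IsChernCap p δ δP O1 r k α γ) (γ' : Fin (r + 1) → AlgebraicCycle X ℤ) (hγ' : Cyc.IsChernCap p' δ δP' O1' r k α γ') (t : ℕ → (ξ : X) → Cyc.secFibre L ξ) (ht : ∀ m ξ, t m ξ ≠ 0) (i : Fin (r + 1)) (ζ : Fin (r + 1) → AlgebraicCycle X ℤ) (hζ : ∀ j : Fin (r + 1), (j : ℕ) ≤ (i : ℕ) → ⇑(ζ j) = Cyc.c1PowFun δ L t j ⇑(γ ⟨(i : ℕ) - (j : ℕ), Nat.lt_of_le_of_lt (Nat.sub_le _ _) i.isLt⟩)) : Cyc.RatEquiv δ (k - ((i : ℕ) : ℤ)) (γ' i) (∑ j : Fin (r + 1), if (j : ℕ) ≤ (i : ℕ) then ((Nat.choose (r - i + j) j : ℕ) : ℤ) • ζ j else 0) := by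
  haveI := hX.1
  obtain ⟨S, hS⟩ := exists_splitting hX 1 (fun _ => E) (fun _ => r) fun _ => hPE
  obtain ⟨B, hB⟩ := hS 0
  let l : SecLine X := ⟨L, hL, t 0, ht 0⟩
  let D : ℕ → SecLine S.Y := fun i => (B i).tensor (l.pull S.π)
  have hD : BotFilt r (fun i => (D i).N) ((Scheme.Modules.pullback S.π).obj (CohB1.tensorMod E L)) :=
    (hB.tensor (l.pull S.π).inv).of_iso (AmpleLib.pullTensor S.π E L).symm
  have hcap := S.cls_chern_pull hX hP'E hD hP' hPs' hδ' hγ' i
  have hroot : rootSym S.setup r D (i : ℕ) = ∑ j ∈ Finset.range ((i : ℕ) + 1),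
      ((r - (i : ℕ) + j).choose j : C1Ring S.setup) * c1r S.setup (l.pull S.π) ^ j * rootSym S.setup r B ((i : ℕ) - j) := by
    simp only [rootSym_eq, D, c1r_tensor]
    exact PolyId.coeff_shift (Nat.le_of_lt_succ i.2) _ _
  refine S.ratEquiv_of_cls (hγ'.2.1 i) (fun x hx => ?_) ?_
  · simp only [Function.locallyFinsuppWithin.coe_sum, Finset.sum_apply]
    refine Finset.sum_eq_zero fun j _ => ?_
    split_ifs with hj
    · rw [Function.locallyFinsuppWithin.coe_zsmul, Pi.smul_apply]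
      rw [(S.cls_c1Pow hX hL t ht (hγ.2.1 _) j (ζ j) (hζ j hj)).1 x (fun e => hx (by
        rw [e, Nat.cast_sub hj]; ring)), smul_zero]
    · rfl
  rw [hcap, hroot, map_sum, map_sum]
  have hf : (Finset.univ.filter fun j : Fin (r + 1) => (j : ℕ) ≤ (i : ℕ)).map Fin.valEmbedding =
      Finset.range ((i : ℕ) + 1) := by
    ext a
    simp only [Finset.mem_map, Finset.mem_filter, Finset.mem_univ, true_and, Fin.valEmbedding_apply, Finset.mem_range]
    exact ⟨fun ⟨b, hb, e⟩ => by omega, fun h => ⟨⟨a, by omega⟩, by simp only; omega, rfl⟩⟩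
  rw [← hf, Finset.sum_map, AddMonoidHom.finset_sum_apply, map_sum, Finset.sum_filter]
  refine Finset.sum_congr rfl fun j _ => ?_
  split_ifs with hj
  · rw [map_zsmul, map_zsmul, (S.cls_c1Pow hX hL t ht (hγ.2.1 _) j (ζ j) (hζ j hj)).2,
      S.cls_chern_pull hX hPE hB hP hPs hδ hγ, map_mul, map_mul, map_natCast, natCast_zsmul]
    rfl
  · rw [map_zero, map_zero]

end Groth.Agent.S12666
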