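import Groth.Statements.S12667
import Groth.Agent.ZeroLocusLib.Family
import Groth.Agent.S1897
import Groth.Agent.S1899

set_option autoImplicit false
universe u
open CategoryTheory CategoryTheory.Limits AlgebraicGeometry
open Cyc

namespace Groth.Agent.S12667

open CategoryTheory CategoryTheory.Limits AlgebraicGeometry

open CategoryTheory CategoryTheory.Limits AlgebraicGeometry TopologicalSpace
open Groth.Agent Groth.Agent.VBundLib Groth.Agent.CycLib Groth.Agent.ZeroLocusLib
open ZeroObject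
set_option backward.isDefEq.respectTransparency false
set_option linter.style.haveILetI false

/-- The pinned generators form a regular sequence at the generic points. -/
theorem regular_repr {X Z : Scheme.{u}} [IsLocallyNoetherian X] {δ : X → ℤ} {m : ℤ} {r : ℕ} {E : X.Modules}
    (s : E.presheaf.obj (Opposite.op ⊤)) (i : Z ⟶ X) [IsClosedImmersion i]
    (hZ1 : Set.range ⇑i = {x : X | (E.presheaf.germ ⊤ x trivial) s ∈
      IsLocalRing.maximalIdeal (X.presheaf.stalk x) • (⊤ : Submodule (X.presheaf.stalk x) (E.presheaf.stalk x))})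
    (hZ2 : ∀ z : Z, ∃ b : Module.Basis (Fin r) (X.presheaf.stalk (i z)) (E.presheaf.stalk (i z)),
      RingHom.ker (i.stalkMap z).hom = Ideal.span (Set.range fun l : Fin r => b.repr ((E.presheaf.germ ⊤ (i z) trivial) s) l))
    (hZ4 : ∀ z : Z, δ (i z) = m → ∃ f : Fin r → X.presheaf.stalk (i z),
      RingTheory.Sequence.IsRegular (X.presheaf.stalk (i z)) (List.ofFn f) ∧
        RingHom.ker (i.stalkMap z).hom = Ideal.span (Set.range f))
    (x : X) (hx : x ∈ Set.range i) (hd : δ x = m) :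
    ∃ b : Module.Basis (Fin r) (X.presheaf.stalk x) (E.presheaf.stalk x),
      RingTheory.Sequence.IsRegular (X.presheaf.stalk x)
        (List.ofFn fun l => b.repr ((E.presheaf.germ ⊤ x trivial) s) l) ∧
      ∀ l, b.repr ((E.presheaf.germ ⊤ x trivial) s) l ∈ IsLocalRing.maximalIdeal (X.presheaf.stalk x) := by
  have hmem : (E.presheaf.germ ⊤ x trivial) s ∈
      IsLocalRing.maximalIdeal (X.presheaf.stalk x) • (⊤ : Submodule (X.presheaf.stalk x) (E.presheaf.stalk x)) := by
    rw [hZ1] at hx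
    exact hx
  obtain ⟨z, rfl⟩ := hx
  obtain ⟨b, hb⟩ := hZ2 z
  obtain ⟨f, hf, hfk⟩ := hZ4 z hd
  exact ⟨b, S0611.result f _ hf (hfk.symm.trans hb), (mem_smul_top_iff_repr b _ _).1 hmem⟩


/-- Let E be finite locally free of rank r on X with dim_δ(X) ≤ n, s ∈ Γ(X, E) a global section and Z =
Z(s) its zero scheme, the closed subscheme whose ideal is the image of s : E^∨ → O_X (pinned here
pointwise: Z is the locus where s vanishes in E(x), and at each point of Z the ideal of Z in O_{X,x}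
is generated by the coordinates of the germ of s in a basis of the free module E_x). Suppose further
that dim_δ(Z) ≤ n - r, and that whenever ξ is a generic point of Z with δ(ξ) = n - r, the ideal of Z
in the local ring O_{X,ξ} admits r generators forming a regular sequence. Under these hypotheses the
classes c_r(E) ∩ [X]_n and [Z]_{n-r} coincide in CH_{n-r}(X), where [X]_n and [Z]_{n-r} denote the
cycles attached to the closed subschemes (Cyc.subschemeFun). (The published statement is for a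
section of f^*E along any f : X' → X locally of finite type; since f^*E is again finite locally free
of rank r on X', the case f = id stated here for all X and E is the general one.) Setting: (X, δ)
with Cyc.IsSetup stands for a scheme locally of finite type over the base (S, δ) (X locally
Noetherian with universally catenary local rings, δ a dimension function); (p : P → X, O_P(1), q) is
the projective bundle of E given by its universal property (KRR.IsProjBundle), p is proper and δP is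
the induced dimension function (Cyc.DeltaCompat); a tuple γ with Cyc.IsChernCap represents (c_0(E) ∩
α, …, c_r(E) ∩ α) through the defining relation Σ_i (-1)^i c_1(O_P(1))^i ∩ p^*(γ_{r-i}) ∼_rat 0 on
P, and classes are compared up to rational equivalence of representing cycles. -/
theorem result (X : Scheme.{u}) (δ : X → ℤ) (hX : Cyc.IsSetup X δ) (r : ℕ) (E : X.Modules) (hPE : FlatMod.IsFinLocFreeOfRank r E) (P : Scheme.{u}) (p : P ⟶ X) (O1 : P.Modules) (q : (Scheme.Modules.pullback p).obj E ⟶ O1) (hP : KRR.IsProjBundle p E O1 q) [IsProper p] (δP : P → ℤ) (hPs : Cyc.IsSetup P δP) (hδ : Cyc.DeltaCompat p δP δ) (n : ℤ) (hn : ∀ x : X, δ x ≤ n) (s : E.presheaf.obj (Opposite.op ⊤)) (Z : Scheme.{u}) (i : Z ⟶ X) [IsClosedImmersion i] (hZ1 : Set.range ⇑i = {x : X | (E.presheaf.germ ⊤ x trivial) s ∈ IsLocalRing.maximalIdeal (X.presheaf.stalk x) • (⊤ : Submodule (X.presheaf.stalk x) (E.presheaf.stalk x))}) (hZ2 : ∀ z : Z, ∃ b : Module.Basis (Fin r) (X.presheaf.stalk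 (i z)) (E.presheaf.stalk (i z)), RingHom.ker (i.stalkMap z).hom = Ideal.span (Set.range fun l : Fin r => b.repr ((E.presheaf.germ ⊤ (i z) trivial) s) l)) (hZ3 : ∀ z : Z, δ (i z) ≤ n - (r : ℤ)) (hZ4 : ∀ z : Z, δ (i z) = n - (r : ℤ) → ∃ f : Fin r → X.presheaf.stalk (i z), RingTheory.Sequence.IsRegular (X.presheaf.stalk (i z)) (List.ofFn f) ∧ RingHom.ker (i.stalkMap z).hom = Ideal.span (Set.range f)) (α : AlgebraicCycle X ℤ) (hα : ⇑α = Cyc.subschemeFun δ n (𝟙 X)) (γ : Fin (r + 1) → AlgebraicCycle X ℤ) (hγ : Cyc.IsChernCap p δ δP O1 r n α γ) (ζ : AlgebraicCycle X ℤ) (hζ : ⇑ζ = Cyc.subschemeFun δ (n - (r : ℤ)) i) : Cyc.RatEquiv δ (n - (r : ℤ)) (γ (Fin.last r)) ζ := by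
  classical
  haveI := hX.1
  have hG : FlatMod.IsFinLocFreeOfRank r (Dual.dd E) := Dual.rank_dd hPE
  haveI : Coh.IsQCoh (Dual.dd E) := (PullbackMod.isQCoh_and_isFP_of_isFinLocFree _ (Dual.flf_of_rank hG)).1
  let A := RelSpecLib.symAlg (Dual.dd E)
  let pv : A.spec ⟶ X := A.π
  let c : Coord pv (Dual.dd E) := tautCoord A (RelSpecLib.symJ (Dual.dd E))
  have hc : IsVB pv c := isVB_spec (RelSpecLib.isSymAlg_symAlg _)
  have hloc := hc.locTriv hG
  obtain ⟨_, _, _, _⟩ := isAffineHom_of_locTriv hloc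
  obtain ⟨δV, hδV⟩ := exists_deltaCompat pv δ
  obtain ⟨hV, hsh⟩ := bundle_facts hX hloc hδV
  haveI := hV.1
  let V : Scheme.{u} := A.spec
  have hlineV := locTriv_affineSpace V 1
  have hlineX := locTriv_affineSpace X 1
  obtain ⟨_, _, _, _⟩ := isAffineHom_of_locTriv hlineV
  obtain ⟨_, _, _, _⟩ := isAffineHom_of_locTriv hlineX
  obtain ⟨δY, hδY⟩ := exists_deltaCompat (lineπ V) δV
  have hY := isSetup_of_lft (lineπ V) hV hδY
  haveI := hY.1
  have hδYX : Cyc.DeltaCompat (lineπ V ≫ pv) δY δ := deltaCompat_comp hδV hδY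
  obtain ⟨δB, hδB⟩ := exists_deltaCompat (lineπ X) δ
  let σ : Coord (𝟙 X) (Dual.dd E) := secCoord s
  obtain ⟨W, ι, hιc, hι⟩ := exists_locus hc hG (lineπ V ≫ pv) (famL c) (famR σ)
  have hZiff := zeroScheme_iff hPE s i hZ1 hZ2 hc
  obtain ⟨σ0, ⟨wσ, eσ⟩, -⟩ := hc (𝟙 X) (0 : Coord (𝟙 X) (Dual.dd E))
  haveI : IsClosedImmersion (σ0 ≫ pv) := by rw [wσ]; infer_instance
  haveI : IsClosedImmersion σ0 := IsClosedImmersion.of_comp σ0 pv
  have hδσ : (fun x => δV (σ0 x)) = δ := by
    have h1 := deltaCompat_comp hδV (VBundLib.deltaCompat_preimmersion σ0 δV)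
    rw [wσ] at h1
    exact deltaCompat_unique h1 (VBundLib.deltaCompat_preimmersion (𝟙 X) δ)
  have hdY : ∀ (a : Γ(V, ⊤)) (v : V), δY (lineSect a v) = δV v := fun a v => by
    have h1 := deltaCompat_comp hδY (VBundLib.deltaCompat_preimmersion (lineSect a) δY)
    rw [lineSect_π] at h1
    exact congrFun (deltaCompat_unique h1 (VBundLib.deltaCompat_preimmersion (𝟙 V) δV)) v
  -- the two ends, as functors
  have hA : ∀ (S : Scheme.{u}) (k : S ⟶ V),
      (∃ l, l ≫ pullback.snd ι (lineSect 0) = k) ↔ ∃ l, l ≫ pullback.snd i pv = k := fun S k => by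
    have hw : (k ≫ pv) ≫ 𝟙 X = k ≫ pv := Category.comp_id _
    rw [factors_snd ι hι 0 S k, zero_smulCoord, pullCoord_zero, sub_zero, one_smulCoord, pullCoord_comp]
    constructor
    · intro h
      obtain ⟨l, hl⟩ := (hZiff S (k ≫ pv)).2 ((pullCoord_congr_iff (k ≫ pv) hw σ 0).1
        (by rw [pullCoord_zero]; exact h.symm))
      exact ⟨pullback.lift l k hl, pullback.lift_snd _ _ _⟩
    · rintro ⟨l, rfl⟩
      have h1 := (pullCoord_congr_iff _ hw σ 0).2 ((hZiff S ((l ≫ pullback.snd i pv) ≫ pv)).1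
        ⟨l ≫ pullback.fst i pv, by rw [Category.assoc, pullback.condition, Category.assoc]⟩)
      rw [pullCoord_zero] at h1
      exact h1.symm
  have hB : ∀ (S : Scheme.{u}) (k : S ⟶ V),
      (∃ l, l ≫ pullback.snd ι (lineSect 1) = k) ↔ ∃ l, l ≫ σ0 = k := fun S k => by
    rw [factors_snd ι hι 1 S k, one_smulCoord, sub_self, zero_smulCoord, pullCoord_zero]
    constructor
    · intro h
      have hw : ((k ≫ pv) ≫ σ0) ≫ pv = k ≫ pv := by rw [Category.assoc, wσ, Category.comp_id]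
      refine ⟨k ≫ pv, ((hc (k ≫ pv) 0).unique ⟨hw, ?_⟩ ⟨rfl, h⟩)⟩
      rw [← pullCoord_comp σ0 wσ (k ≫ pv) (Category.comp_id _) c, eσ, pullCoord_zero]
    · rintro ⟨l, rfl⟩
      have hw : l ≫ 𝟙 X = (l ≫ σ0) ≫ pv := by rw [Category.assoc, wσ]
      rw [← pullCoord_comp σ0 wσ l hw c, eσ, pullCoord_zero]
  -- points over the ends
  have hend0 : ∀ v : V, lineSect 0 v ∈ Set.range ι → pv v ∈ Set.range i ∧ δV v ≤ n := fun v ⟨z, hz⟩ => by
    obtain ⟨w, -, hw⟩ := Scheme.Pullback.exists_preimage_pullback (f := ι) (g := lineSect 0) z v hz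
    obtain ⟨l, hl⟩ := (hA _ (pullback.snd ι (lineSect 0))).1 ⟨𝟙 _, Category.id_comp _⟩
    have hv : pv v = i (pullback.fst i pv (l w)) := by
      rw [← Scheme.Hom.comp_apply, pullback.condition, Scheme.Hom.comp_apply, ← Scheme.Hom.comp_apply l, hl, hw]
    refine ⟨⟨_, hv.symm⟩, ?_⟩
    have h1 := (AffBundle.delta_le_add pv hδV hloc v).1
    have h2 := hZ3 (pullback.fst i pv (l w))
    rw [← hv] at h2
    omega
  have hend1 : ∀ v : V, lineSect 1 v ∈ Set.range ι → δV v ≤ n := fun v ⟨z, hz⟩ => by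
    obtain ⟨w, -, hw⟩ := Scheme.Pullback.exists_preimage_pullback (f := ι) (g := lineSect 1) z v hz
    obtain ⟨l, hl⟩ := (hB _ (pullback.snd ι (lineSect 1))).1 ⟨𝟙 _, Category.id_comp _⟩
    rw [← hw, ← hl, Scheme.Hom.comp_apply, congrFun hδσ (l w)]
    exact hn _
  have hend : ∀ (a : Γ(V, ⊤)), a = 0 ∨ a = 1 → ∀ z : W, ι z ∈ Set.range (lineSect a) → δY (ι z) ≤ n := by
    rintro a (rfl | rfl) z ⟨v, hv⟩ <;> rw [← hv, hdY]
    exacts [(hend0 v ⟨z, hv.symm⟩).2, hend1 v ⟨z, hv.symm⟩]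
  obtain ⟨φ, hφπ, hφT, hφ⟩ := exists_chart ι hι hc hδYX hδB
  have hT0 : lineEq (0 : Γ(V, ⊤)) = lineT V := by rw [lineEq, map_zero, sub_zero]
  have hW : ∀ z : W, δY (ι z) ≤ n + 1 := fun z => by
    by_cases hu : IsUnit ((Line V).presheaf.germ ⊤ (ι z) trivial (lineT V))
    · rw [(hφ z hu).1]
      have h1 := (AffBundle.delta_le_add (lineπ X) hδB hlineX (φ z)).1
      have h2 := hn (lineπ X (φ z))
      push_cast at h1
      omega
    · refine (hend 0 (Or.inl rfl) z ?_).trans (by omega)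
      rw [(isZeroSchemeOf_lineSect (0 : Γ(V, ⊤))).1]
      refine (fibre_zero_iff (0 : Γ(V, ⊤)) (ι z)).2 ?_
      rw [hT0]
      exact hu
  have main : ∀ y : Line V, y ∈ Set.range (lineSect (0 : Γ(V, ⊤))) → δY y = n → y ∈ Set.range ι →
      ∀ (R : Type u) [CommRing R] (q : (Line V).presheaf.stalk y →+* R), Function.Surjective q →
        (∀ e : Fin r → (Dual.dd E).presheaf.stalk ((lineπ V ≫ pv) y),
          Submodule.span (X.presheaf.stalk ((lineπ V ≫ pv) y)) (Set.range e) = ⊤ →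
          RingHom.ker q = Ideal.span (Set.range fun l => sval (famL c) y (e l) - sval (famR σ) y (e l))) →
        q ((Line V).presheaf.germ ⊤ y trivial (lineT V)) ∈ nonZeroDivisors R := by
    rintro _ ⟨v, rfl⟩ hy hr R _ q hq hker
    have hpx : (lineπ V ≫ pv) (lineSect 0 v) = pv v := by
      rw [← Scheme.Hom.comp_apply, lineSect_base]
    have hxr : (lineπ V ≫ pv) (lineSect 0 v) ∈ Set.range i := hpx.symm ▸ (hend0 v hr).1
    have hxd : δ ((lineπ V ≫ pv) (lineSect 0 v)) = n - r := by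
      obtain ⟨z0, hz0⟩ := hxr
      have h1 := (AffBundle.delta_le_add pv hδV hloc v).1
      have h2 := hZ3 z0
      rw [hz0] at h2
      rw [hdY] at hy
      rw [hpx] at h2 ⊢
      omega
    obtain ⟨b, hbreg, hbm⟩ := regular_repr s i hZ1 hZ2 hZ4 _ hxr hxd
    obtain ⟨e, he, hv'⟩ := exists_dual_family hPE s _ b
    let y : Line V := lineSect 0 v
    let T : (Line V).presheaf.stalk y := (Line V).presheaf.germ ⊤ y trivial (lineT V)
    let S := ((lineSect (0 : Γ(V, ⊤))).stalkMap v).hom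
    have hkS : RingHom.ker S = Ideal.span {T} := by
      obtain ⟨e1, he1, hv1⟩ := exists_gen (0 : Γ(V, ⊤)) y
      rw [ZeroLocusLib.ker_stalkMap (lineSect 0) _ _ (factors_lineSect 0)
        (DegDevLib.isFinLocFreeOfRank_freeMod 1) v he1]
      exact congrArg Ideal.span ((congrArg Set.range (funext fun j => (hv1 j).trans
        (congrArg (fun a => (Line V).presheaf.germ ⊤ y trivial a) hT0))).trans (Set.range_const (c := T)))
    have hTnzd : T ∈ nonZeroDivisors _ := by
      have h := lineEq_nonZeroDivisor (0 : Γ(V, ⊤)) y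
      rw [hT0] at h
      exact h
    have hTm : T ∈ IsLocalRing.maximalIdeal _ := fun hu => by
      have h0 : S T = 0 := RingHom.mem_ker.1 (hkS ▸ Ideal.mem_span_singleton_self T)
      exact not_isUnit_zero (h0 ▸ hu.map S)
    haveI : IsLocallyNoetherian (Line V) := hY.1
    refine mem_nonZeroDivisors_quotient S ((lineSect (0 : Γ(V, ⊤))).stalkMap_surjective v) T hkS hTnzd
      (fun l => (lineπ V ≫ pv).stalkMap y (b.repr ((E.presheaf.germ ⊤ _ trivial) s) l))
      (fun l => sval (famL c) y (e l) - sval (famR σ) y (e l))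
      (fun l => sval (pullCoord (lineπ V) rfl c) y (e l)) (fun l => ?_) ?_ (fun l => ?_) hTm q hq (hker e he)
    · have h1 : sval (famL c) y (e l) = T * sval (pullCoord (lineπ V) rfl c) y (e l) := by
        rw [famL, sval_smulCoord]
      have h2 : sval (famR σ) y (e l) =
          (1 - T) * (lineπ V ≫ pv).stalkMap y (b.repr ((E.presheaf.germ ⊤ _ trivial) s) l) := by
        rw [famR, sval_smulCoord, map_sub, map_one, sval_pullBase]
        exact congrArg (fun a => (1 - T) * (lineπ V ≫ pv).stalkMap y a) (hv' l)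
      rw [h1, h2]
    · haveI : Flat (lineSect (0 : Γ(V, ⊤)) ≫ lineπ V ≫ pv) := by rw [lineSect_base]; infer_instance
      let τ := ((lineSect (0 : Γ(V, ⊤)) ≫ lineπ V ≫ pv).stalkMap v).hom
      letI : Algebra (X.presheaf.stalk ((lineSect (0 : Γ(V, ⊤)) ≫ lineπ V ≫ pv) v)) (V.presheaf.stalk v) := τ.toAlgebra
      haveI : Module.Flat (X.presheaf.stalk ((lineSect (0 : Γ(V, ⊤)) ≫ lineπ V ≫ pv) v)) (V.presheaf.stalk v) :=
        Flat.stalkMap (lineSect (0 : Γ(V, ⊤)) ≫ lineπ V ≫ pv) v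
      have h1 := RingTheory.Sequence.IsWeaklyRegular.of_flat
        (R := X.presheaf.stalk ((lineSect (0 : Γ(V, ⊤)) ≫ lineπ V ≫ pv) v)) (S := V.presheaf.stalk v) hbreg.toIsWeaklyRegular
      rw [List.map_ofFn] at h1
      convert h1 using 3
      show S ((lineπ V ≫ pv).stalkMap y _) = τ _
      rw [show τ = ((lineπ V ≫ pv).stalkMap y ≫ (lineSect (0 : Γ(V, ⊤))).stalkMap v).hom from
        congrArg CommRingCat.Hom.hom (Scheme.Hom.stalkMap_comp _ _ _)]
      rfl
    · exact fun hu => hbm l (isUnit_of_map_unit ((lineπ V ≫ pv).stalkMap y).hom _ hu)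
  have hnzd : ∀ (a : Γ(V, ⊤)), a = 0 ∨ a = 1 → ∀ z : W, ι z ∈ Set.range (lineSect a) → δY (ι z) = n →
      ι.stalkMap z ((Line V).presheaf.germ ⊤ (ι z) trivial (lineEq a)) ∈ nonZeroDivisors _ := by
    rintro a (rfl | rfl) z hz hd
    · rw [hT0]
      exact main (ι z) hz hd ⟨z, rfl⟩ _ (ι.stalkMap z).hom (ι.stalkMap_surjective z) fun e he =>
        ZeroLocusLib.ker_stalkMap ι _ _ hι hG z he
    · have hu : IsUnit ((Line V).presheaf.germ ⊤ (ι z) trivial (lineT V)) := by
        obtain ⟨v, hv⟩ := hz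
        rw [← hv]
        refine isUnit_of_map_unit ((lineSect (1 : Γ(V, ⊤))).stalkMap v).hom _ ?_
        erw [Scheme.Hom.germ_stalkMap_apply (lineSect (1 : Γ(V, ⊤))) ⊤ v trivial]
        show IsUnit (V.presheaf.germ ⊤ v trivial ((lineSect (1 : Γ(V, ⊤))).appTop (lineT V)))
        rw [lineSect_T, map_one]
        exact isUnit_one
      have e : φ.appTop (lineEq (1 : Γ(X, ⊤))) = ι.appTop (lineEq (1 : Γ(V, ⊤))) := by
        simp only [lineEq, map_sub, map_one, hφT]
      erw [Scheme.Hom.germ_stalkMap_apply ι ⊤ z trivial]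
      show W.presheaf.germ ⊤ z trivial (ι.appTop (lineEq (1 : Γ(V, ⊤)))) ∈ _
      rw [← e]
      have h2 : W.presheaf.germ ⊤ z trivial (φ.appTop (lineEq (1 : Γ(X, ⊤)))) =
          φ.stalkMap z ((Line X).presheaf.germ ⊤ (φ z) trivial (lineEq (1 : Γ(X, ⊤)))) :=
        (Scheme.Hom.germ_stalkMap_apply φ ⊤ z trivial _).symm
      rw [h2]
      refine mem_nonZeroDivisors_iff_right.2 fun x hx => ?_
      obtain ⟨x, rfl⟩ := (hφ z hu).2.2 x
      rw [← map_mul] at hx
      have h3 : x * (Line X).presheaf.germ ⊤ (φ z) trivial (lineEq (1 : Γ(X, ⊤))) = 0 :=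
        (hφ z hu).2.1 (hx.trans (map_zero _).symm)
      rw [(mem_nonZeroDivisors_iff_right.1 (lineEq_nonZeroDivisor (1 : Γ(X, ⊤)) (φ z))) x h3, map_zero]
  -- the cycles at the two ends
  have hbound : ∀ z : ↥(pullback i pv), δV (pullback.snd i pv z) ≤ n := fun z => by
    have h1 := (AffBundle.delta_le_add pv hδV hloc (pullback.snd i pv z)).1
    have h2 := hZ3 (pullback.fst i pv z)
    rw [← Scheme.Hom.comp_apply (pullback.fst i pv) i, pullback.condition, Scheme.Hom.comp_apply] at h2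
    omega
  haveI := isLocallyNoetherian_closed i
  have hF : Coh.IsCoh ((Coh.push i).obj (Coh.structureModule Z)) :=
    DevLib.isCoh_pushforward_closed i (DevLib.isCoh_structureModule Z)
  have hpull : Cyc.subschemeFun δV n (pullback.snd i pv) = Cyc.pullFun pv δV δ r ⇑ζ := by
    rw [SubFun.subschemeFun_snd i pv hV hbound, hζ, S1899.result X Z δ hX i (n - r) hZ3,
      (S1897.result V X δV δ hV hX pv r (hasRelDim_of_locTriv hloc) hδV (n - r) _ hF (fun y hy => ?_)).2,
      sub_add_cancel]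
    by_cases hr : y ∈ Set.range i
    · obtain ⟨z, rfl⟩ := hr; exact hZ3 z
    · haveI := DCohLib.subsingleton_stalk_pushforward i (Coh.structureModule Z) y hr
      exact (not_subsingleton _ ‹_›).elim
  let Bζ := pullCycle hsh hV.2.2 ζ
  let B1 := AlgebraicCycle.map σ0 (fun x => δV (σ0 x)) δV α
  have hB1 : ⇑B1 = Cyc.subschemeFun δV n σ0 := by
    funext v
    unfold Cyc.subschemeFun
    by_cases hr : v ∈ Set.range σ0
    · obtain ⟨x, rfl⟩ := hr
      show AlgebraicCycle.map σ0 (fun x => δV (σ0 x)) δV α (σ0 x) = _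
      rw [map_closed_apply, hα, Cyc.subschemeFun, congrFun hδσ x,
        show {w : X | σ0 w = σ0 x} = {x} from Set.ext fun w => ⟨fun e => σ0.isEmbedding.injective e, fun e => congrArg σ0 e⟩,
        show {w : X | (𝟙 X : X ⟶ X) w = x} = {x} from rfl]
    · show AlgebraicCycle.map σ0 (fun x => δV (σ0 x)) δV α v = _
      rw [map_closed_apply_of_notMem σ0 _ hr, show {w : X | σ0 w = v} = ∅ from
        Set.eq_empty_of_forall_notMem fun w hw => hr ⟨w, hw⟩, finsum_mem_empty, ite_self]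
  have hends : Cyc.RatEquiv δV n Bζ B1 := by
    refine ratEquiv_ends ι hV hδY hW 0 1 hend hnzd Bζ B1 ?_ ?_
    · exact hpull.symm.trans (subschemeFun_congr _ _ (fun S k => (hA S k).symm) δV n)
    · exact hB1.trans (subschemeFun_congr _ _ (fun S k => (hB S k).symm) δV n)
  -- the class of the zero section
  have hZ0 : IsZero (0 : X.Modules) := isZero_zero _
  have hαk : α ∈ Cyc.Zk X δ n := fun x hx => by rw [hα]; exact if_neg hx
  let β := pullCycle hsh hV.2.2 (γ (Fin.last r))
  have hex : (ShortComplex.mk (𝟙 (Dual.dd E)) (0 : Dual.dd E ⟶ (0 : X.Modules)) comp_zero).ShortExact :=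
    (ShortComplex.Splitting.mk (S := ShortComplex.mk (𝟙 (Dual.dd E)) (0 : Dual.dd E ⟶ (0 : X.Modules)) comp_zero)
      (𝟙 _) 0 (Category.id_comp _) (hZ0.eq_of_src _ _) (by simp)).shortExact
  have hF0 : IsVB (𝟙 X) (0 : Coord (𝟙 X) (0 : X.Modules)) := fun {T} g d =>
    ⟨g, ⟨Category.comp_id _, hZ0.eq_of_src _ _⟩, fun k ⟨w, _⟩ => by rwa [Category.comp_id] at w⟩
  have htop : Cyc.RatEquiv δV (n + ((0 : ℕ) : ℤ)) B1 β := by
    refine push_eq_top hX hPE hex (CycLib.rank_zero_of_isZero hZ0) hc hF0 σ0 wσ ?_ hP hPs hδ hδV hαk hγ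
      (β' := α) ?_ (β := β) ?_
    · rw [eσ, zero_comp]
    · rw [hδσ]
      exact (VBundLib.pullFun_id hX.2.2 _).symm
    · show Cyc.pullFun pv δV δ r ⇑(γ (Fin.last r)) = _
      rw [show ((0 : ℕ) : ℤ) + (r : ℤ) = (r : ℤ) by push_cast; ring]
  rw [show n + ((0 : ℕ) : ℤ) = n by push_cast; ring] at htop
  have hγr : γ (Fin.last r) ∈ Cyc.Zk X δ (n - r) := by simpa using hγ.2.1 (Fin.last r)
  have hζr : ζ ∈ Cyc.Zk X δ (n - r) := fun x hx => by rw [hζ]; exact if_neg hx
  refine ratEquiv_of_pull hX hG hc hδV hγr hζr (a' := β) (b' := Bζ) rfl rfl ?_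
  rw [sub_add_cancel]
  exact ratEquiv_symm hV.2.2 (ratEquiv_trans hends htop)

end Groth.Agent.S12667
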