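import Groth.Statements.S12668
import Groth.Agent.CycLib.Chern.Formulas

set_option autoImplicit false
universe u
open CategoryTheory CategoryTheory.Limits AlgebraicGeometry
open Cyc

namespace Groth.Agent.S12668

open CategoryTheory CategoryTheory.Limits AlgebraicGeometry

open Groth.Agent Groth.Agent.CycLib
open scoped BigOperators
set_option backward.isDefEq.respectTransparency false

/-- For E, F finite locally free of ranks r, s on X, c_1(E ⊗ F) = r c_1(F) + s c_1(E), as cap operations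
on every k-cycle α; E ⊗ F is the tensor product of O_X-modules (CohB1.tensorMod), of rank rs, and
enters through its own projective bundle. Stated for r, s ≥ 1. Setting: (X, δ) with Cyc.IsSetup
stands for a scheme locally of finite type over the base (S, δ) (X locally Noetherian with
universally catenary local rings, δ a dimension function); (p : P → X, O_P(1), q) is the projective
bundle of E given by its universal property (KRR.IsProjBundle), p is proper and δP is the induced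
dimension function (Cyc.DeltaCompat); a tuple γ with Cyc.IsChernCap represents (c_0(E) ∩ α, …,
c_r(E) ∩ α) through the defining relation Σ_i (-1)^i c_1(O_P(1))^i ∩ p^*(γ_{r-i}) ∼_rat 0 on P, and
classes are compared up to rational equivalence of representing cycles. -/
theorem result (X : Scheme.{u}) (δ : X → ℤ) (hX : Cyc.IsSetup X δ) (r s : ℕ) (hr : 1 ≤ r) (hs : 1 ≤ s) (E : X.Modules) (hPE : FlatMod.IsFinLocFreeOfRank r E) (P : Scheme.{u}) (p : P ⟶ X) (O1 : P.Modules) (q : (Scheme.Modules.pullback p).obj E ⟶ O1) (hP : KRR.IsProjBundle p E O1 q) [IsProper p] (δP : P → ℤ) (hPs : Cyc.IsSetup P δP) (hδ : Cyc.DeltaCompat p δP δ) (F : X.Modules) (hQE : FlatMod.IsFinLocFreeOfRank s F) (Q : Scheme.{u}) (p' : Q ⟶ X) (O1' : Q.Modules) (q' : (Scheme.Modules.pullback p').obj F ⟶ O1') (hQ : KRR.IsProjBundle p' F O1' q') [IsProper p'] (δQ : Q → ℤ) (hQs : Cyc.IsSetup Q δQ) (hδ' : Cyc.DeltaCompat p' δQ δ) (hTE : FlatMod.IsFinLocFreeOfRank (r * s) (CohB1.tensorMod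 E F)) (T : Scheme.{u}) (p'' : T ⟶ X) (O1'' : T.Modules) (q'' : (Scheme.Modules.pullback p'').obj (CohB1.tensorMod E F) ⟶ O1'') (hT : KRR.IsProjBundle p'' (CohB1.tensorMod E F) O1'' q'') [IsProper p''] (δT : T → ℤ) (hTs : Cyc.IsSetup T δT) (hδ'' : Cyc.DeltaCompat p'' δT δ) (k : ℤ) (α : AlgebraicCycle X ℤ) (hα : α ∈ Cyc.Zk X δ k) (ε : Fin (r + 1) → AlgebraicCycle X ℤ) (hε : Cyc.IsChernCap p δ δP O1 r k α ε) (φ : Fin (s + 1) → AlgebraicCycle X ℤ) (hφ : Cyc.IsChernCap p' δ δQ O1' s k α φ) (τ : Fin (r * s + 1) → AlgebraicCycle X ℤ) (hτ : Cyc.IsChernCap p'' δ δT O1'' (r * s) k α τ) : Cyc.RatEquiv δ (k - 1) (τ ⟨1, Nat.lt_succ_of_le (Nat.mul_pos hr hs)⟩) (((r : ℕ) : ℤ) • φ ⟨1, Nat.lt_succ_of_le hs⟩ + ((s : ℕ) : ℤ) • ε ⟨1, Nat.lt_succ_of_le hr⟩) := by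
  haveI := hX.1
  obtain ⟨S, hS⟩ := exists_splitting hX 2 ![E, F] ![r, s] (Fin.forall_fin_two.2 ⟨hPE, hQE⟩)
  obtain ⟨B, hB⟩ := hS 0
  obtain ⟨C', hC⟩ := hS 1
  obtain ⟨D, hD, hpoly⟩ := BotFilt.exists_tensor S.setup (r := r) hB (s := s) hC
  have hD' := hD.of_iso (AmpleLib.pullTensor S.π E F).symm
  obtain ⟨-, h1, h2⟩ := PolyId.pairs s (fun l => c1r S.setup (C' l)) r (fun i => c1r S.setup (B i))
  refine S.ratEquiv_of_cls ?_ (fun x hx => ?_) ?_
  · exact_mod_cast hτ.2.1 ⟨1, Nat.lt_succ_of_le (Nat.mul_pos hr hs)⟩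
  · rw [Function.locallyFinsuppWithin.coe_add, Pi.add_apply, Function.locallyFinsuppWithin.coe_zsmul,
      Function.locallyFinsuppWithin.coe_zsmul, Pi.smul_apply, Pi.smul_apply,
      hφ.2.1 _ x (by exact_mod_cast hx), hε.2.1 _ x (by exact_mod_cast hx), smul_zero, smul_zero, add_zero]
  rw [S.cls_chern_pull hX hTE hD' hT hTs hδ'' hτ, map_add, map_add, map_zsmul, map_zsmul, map_zsmul, map_zsmul,
    S.cls_chern_pull hX hQE hC hQ hQs hδ' hφ, S.cls_chern_pull hX hPE hB hP hPs hδ hε]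
  have e : rootSym S.setup (r * s) D 1 = (r : ℤ) • rootSym S.setup s C' 1 + (s : ℤ) • rootSym S.setup r B 1 := by
    rw [rootSym, hpoly, rootSym_eq, rootSym_eq, zsmul_eq_mul, zsmul_eq_mul, Int.cast_natCast, Int.cast_natCast]
    exact h1
  show act S.setup (rootSym S.setup (r * s) D 1) _ = _
  rw [e, map_add, map_zsmul, map_zsmul]
  rfl

end Groth.Agent.S12668
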