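import Groth.Statements.S12669
import Groth.Agent.CycLib.Chern.Formulas

set_option autoImplicit false
universe u
open CategoryTheory CategoryTheory.Limits AlgebraicGeometry
open Cyc

namespace Groth.Agent.S12669

open CategoryTheory CategoryTheory.Limits AlgebraicGeometry

open Groth.Agent Groth.Agent.CycLib
open scoped BigOperators
set_option backward.isDefEq.respectTransparency false

/-- For E, F finite locally free of ranks r, s on X, c_2(E ⊗ F) = r c_2(F) + s c_2(E) + C(r,2) c_1(F)^2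
+ (rs - 1) c_1(F) c_1(E) + C(s,2) c_1(E)^2, as cap operations on every k-cycle α; products of
classes are iterated caps represented by nested tuples (a tuple for F, resp. E, over the first
component of a tuple for F; a tuple for E over the first component of a tuple for E), c_2 of a
module of rank < 2 is 0, and E ⊗ F (CohB1.tensorMod, rank rs) enters through its own projective
bundle. Stated for r, s ≥ 1. Setting: (X, δ) with Cyc.IsSetup stands for a scheme locally of finite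
type over the base (S, δ) (X locally Noetherian with universally catenary local rings, δ a dimension
function); (p : P → X, O_P(1), q) is the projective bundle of E given by its universal property
(KRR.IsProjBundle), p is proper and δP is the induced dimension function (Cyc.DeltaCompat); a tuple
γ with Cyc.IsChernCap represents (c_0(E) ∩ α, …, c_r(E) ∩ α) through the defining relation Σ_i
(-1)^i c_1(O_P(1))^i ∩ p^*(γ_{r-i}) ∼_rat 0 on P, and classes are compared up to rational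
equivalence of representing cycles. -/
theorem result (X : Scheme.{u}) (δ : X → ℤ) (hX : Cyc.IsSetup X δ) (r s : ℕ) (hr : 1 ≤ r) (hs : 1 ≤ s) (E : X.Modules) (hPE : FlatMod.IsFinLocFreeOfRank r E) (P : Scheme.{u}) (p : P ⟶ X) (O1 : P.Modules) (q : (Scheme.Modules.pullback p).obj E ⟶ O1) (hP : KRR.IsProjBundle p E O1 q) [IsProper p] (δP : P → ℤ) (hPs : Cyc.IsSetup P δP) (hδ : Cyc.DeltaCompat p δP δ) (F : X.Modules) (hQE : FlatMod.IsFinLocFreeOfRank s F) (Q : Scheme.{u}) (p' : Q ⟶ X) (O1' : Q.Modules) (q' : (Scheme.Modules.pullback p').obj F ⟶ O1') (hQ : KRR.IsProjBundle p' F O1' q') [IsProper p'] (δQ : Q → ℤ) (hQs : Cyc.IsSetup Q δQ) (hδ' : Cyc.DeltaCompat p' δQ δ) (hTE : FlatMod.IsFinLocFreeOfRank (r * s) (CohB1.tensorMod E F)) (T : Scheme.{u}) (p'' : T ⟶ X) (O1'' : T.Modules) (q'' : (Scheme.Modules.pullback p'').obj (CohB1.tensorMod E F) ⟶ O1'') (hT : KRR.IsProjBundle p'' (CohB1.tensorMod E F) O1'' q'') [IsProper p''] (δT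 : T → ℤ) (hTs : Cyc.IsSetup T δT) (hδ'' : Cyc.DeltaCompat p'' δT δ) (k : ℤ) (α : AlgebraicCycle X ℤ) (hα : α ∈ Cyc.Zk X δ k) (ε : Fin (r + 1) → AlgebraicCycle X ℤ) (hε : Cyc.IsChernCap p δ δP O1 r k α ε) (φ : Fin (s + 1) → AlgebraicCycle X ℤ) (hφ : Cyc.IsChernCap p' δ δQ O1' s k α φ) (τ : Fin (r * s + 1) → AlgebraicCycle X ℤ) (hτ : Cyc.IsChernCap p'' δ δT O1'' (r * s) k α τ) (φφ : Fin (s + 1) → AlgebraicCycle X ℤ) (hφφ : Cyc.IsChernCap p' δ δQ O1' s (k - 1) (φ ⟨1, Nat.lt_succ_of_le hs⟩) φφ) (εφ : Fin (r + 1) → AlgebraicCycle X ℤ) (hεφ : Cyc.IsChernCap p δ δP O1 r (k - 1) (φ ⟨1, Nat.lt_succ_of_le hs⟩) εφ) (εε : Fin (r + 1) → AlgebraicCycle X ℤ) (hεε : Cyc.IsChernCap p δ δP O1 r (k - 1) (ε ⟨1, Nat.lt_succ_of_le hr⟩) εε) : Cyc.RatEquiv δ (k - 2) (if h2 : 2 ≤ r * s then τ ⟨2, Nat.lt_succ_of_le h2⟩ else 0) (((r : ℕ) : ℤ) • (if h2 : 2 ≤ s then φ ⟨2, Nat.lt_succ_of_le h2⟩ else 0) + ((s : ℕ) : ℤ) • (if h2 : 2 ≤ r then ε ⟨2, Nat.lt_succ_of_le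 h2⟩ else 0) + ((Nat.choose r 2 : ℕ) : ℤ) • φφ ⟨1, Nat.lt_succ_of_le hs⟩ + (((r * s : ℕ) : ℤ) - 1) • εφ ⟨1, Nat.lt_succ_of_le hr⟩ + ((Nat.choose s 2 : ℕ) : ℤ) • εε ⟨1, Nat.lt_succ_of_le hr⟩) := by
  haveI := hX.1
  obtain ⟨S, hS⟩ := exists_splitting hX 2 ![E, F] ![r, s] (Fin.forall_fin_two.2 ⟨hPE, hQE⟩)
  obtain ⟨B, hB⟩ := hS 0
  obtain ⟨C', hC⟩ := hS 1
  obtain ⟨D, hD, hpoly⟩ := BotFilt.exists_tensor S.setup (r := r) hB (s := s) hC
  have hD' := hD.of_iso (AmpleLib.pullTensor S.π E F).symm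
  obtain ⟨-, h1, h2⟩ := PolyId.pairs s (fun l => c1r S.setup (C' l)) r (fun i => c1r S.setup (B i))
  have hz : ∀ {n : ℕ} (G : ℕ → SecLine S.Y) (h : ¬2 ≤ n), rootSym S.setup n G 2 = 0 := fun G h => by
    rw [rootSym_eq]
    exact PolyId.coeff_rootPoly_eq_zero _ _ _ (by omega)
  have hα0 : k = k - ((0 : ℕ) : ℤ) := by simp
  refine S.ratEquiv_of_cls ?_ ?_ ?_
  · split_ifs with h
    · exact_mod_cast hτ.2.1 ⟨2, Nat.lt_succ_of_le h⟩
    · exact fun _ _ => rfl
  · intro x hx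
    simp only [Function.locallyFinsuppWithin.coe_add, Pi.add_apply, Function.locallyFinsuppWithin.coe_zsmul,
      Pi.smul_apply]
    rw [hφφ.2.1 ⟨1, Nat.lt_succ_of_le hs⟩ x (fun e => hx (by simp only [Nat.cast_one] at e; omega)),
      hεφ.2.1 ⟨1, Nat.lt_succ_of_le hr⟩ x (fun e => hx (by simp only [Nat.cast_one] at e; omega)),
      hεε.2.1 ⟨1, Nat.lt_succ_of_le hr⟩ x (fun e => hx (by simp only [Nat.cast_one] at e; omega))]
    have e1 : (if h2 : 2 ≤ s then φ ⟨2, Nat.lt_succ_of_le h2⟩ else 0) x = 0 := by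
      split_ifs with h
      · exact hφ.2.1 _ x (by exact_mod_cast hx)
      · rfl
    have e2 : (if h2 : 2 ≤ r then ε ⟨2, Nat.lt_succ_of_le h2⟩ else 0) x = 0 := by
      split_ifs with h
      · exact hε.2.1 _ x (by exact_mod_cast hx)
      · rfl
    rw [e1, e2]
    simp
  let a := cls S.setup (S.P α)
  have cτ : cls S.setup (S.P (if h2 : 2 ≤ r * s then τ ⟨2, Nat.lt_succ_of_le h2⟩ else 0)) =
      act S.setup (rootSym S.setup (r * s) D 2) a := by
    split_ifs with h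
    · exact S.cls_chern_pull hX hTE hD' hT hTs hδ'' hτ ⟨2, Nat.lt_succ_of_le h⟩
    · rw [hz D h, map_zero, map_zero, map_zero]; rfl
  have cφ : cls S.setup (S.P (if h2 : 2 ≤ s then φ ⟨2, Nat.lt_succ_of_le h2⟩ else 0)) =
      act S.setup (rootSym S.setup s C' 2) a := by
    split_ifs with h
    · exact S.cls_chern_pull hX hQE hC hQ hQs hδ' hφ ⟨2, Nat.lt_succ_of_le h⟩
    · rw [hz C' h, map_zero, map_zero, map_zero]; rfl
  have cε : cls S.setup (S.P (if h2 : 2 ≤ r then ε ⟨2, Nat.lt_succ_of_le h2⟩ else 0)) =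
      act S.setup (rootSym S.setup r B 2) a := by
    split_ifs with h
    · exact S.cls_chern_pull hX hPE hB hP hPs hδ hε ⟨2, Nat.lt_succ_of_le h⟩
    · rw [hz B h, map_zero, map_zero, map_zero]; rfl
  have e : rootSym S.setup (r * s) D 2 = (r : ℤ) • rootSym S.setup s C' 2 + (s : ℤ) • rootSym S.setup r B 2 +
      (r.choose 2 : ℤ) • (rootSym S.setup s C' 1 * rootSym S.setup s C' 1) +
      (((r * s : ℕ) : ℤ) - 1) • (rootSym S.setup r B 1 * rootSym S.setup s C' 1) +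
      (s.choose 2 : ℤ) • (rootSym S.setup r B 1 * rootSym S.setup r B 1) := by
    simp only [zsmul_eq_mul, Int.cast_sub, Int.cast_natCast, Int.cast_one, Nat.cast_mul, ← mul_assoc]
    rw [rootSym, hpoly]
    refine h2.trans ?_
    simp only [rootSym_eq, pow_two, ← mul_assoc]
    push_cast
    ring
  simp only [map_add, map_zsmul, cτ, cφ, cε]
  rw [S.cls_chern_pull hX hQE hC hQ hQs hδ' hφφ, S.cls_chern_pull hX hPE hB hP hPs hδ hεφ,
    S.cls_chern_pull hX hPE hB hP hPs hδ hεε, S.cls_chern_pull hX hQE hC hQ hQs hδ' hφ,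
    S.cls_chern_pull hX hPE hB hP hPs hδ hε, e]
  simp only [map_add, map_zsmul, map_mul]
  rfl

end Groth.Agent.S12669
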