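import Groth.Statements.S1267
import Groth.Agent.FlatModSqLib.Basic
-- import your own Groth.Agent.* helpers here

set_option autoImplicit false
set_option linter.style.haveILetI false
set_option backward.isDefEq.respectTransparency false
universe u
open FlatMor

namespace Groth.Agent.S1267

open TensorProduct

/-- Let A be a local ring, I an ideal, U a quasi-compact open subset of Spec A and M an A-module such
that M/IM is flat over A/I and M_p is flat over A for all p in U. Let I₂ be the kernel of I → Γ(U,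
I/I²), that is the set of x ∈ I such that for every p ∈ U some s outside p has s·x ∈ I². Then M/I₂M
is flat over A/I₂. -/
theorem result {A : Type u} [CommRing A] [IsLocalRing A] (I : Ideal A)
    (U : Set (PrimeSpectrum A)) (hU : IsOpen U) (hUc : IsCompact U)
    (M : Type u) [AddCommGroup M] [Module A M]
    [Module.Flat (A ⧸ I) (M ⧸ (I • ⊤ : Submodule A M))]
    (hflat : ∀ p ∈ U, Module.Flat A (LocalizedModule p.asIdeal.primeCompl M))
    (I₂ : Ideal A) (hI₂ : ∀ x : A, x ∈ I₂ ↔ x ∈ I ∧ ∀ p ∈ U, ∃ s : A, s ∉ p.asIdeal ∧ s * x ∈ I ^ 2) :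
    Module.Flat (A ⧸ I₂) (M ⧸ (I₂ • ⊤ : Submodule A M)) := by
  classical
  obtain ⟨F, hF⟩ := PrimeSpectrum.isCompact_isOpen_iff.mp ⟨hUc, hU⟩
  have hmem : ∀ p : PrimeSpectrum A, p ∈ U ↔ ∃ f : F, f.1 ∉ p.asIdeal := fun p => by
    rw [← hF, Set.mem_compl_iff, PrimeSpectrum.mem_zeroLocus, Set.not_subset]
    exact ⟨fun ⟨f, hf, h⟩ => ⟨⟨f, hf⟩, h⟩, fun ⟨f, h⟩ => ⟨f.1, f.2, h⟩⟩
  let L : F → Type u := fun f => Localization.Away f.1
  haveI : ∀ f : F, Module.Flat (L f) (L f ⊗[A] M) := fun f =>
    Groth.Agent.FlatModSqLib.flat_away fun p hp => hflat p ((hmem p).mpr ⟨f, hp⟩)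
  haveI hI : Module.Flat (A ⧸ I) ((A ⧸ I) ⊗[A] M) := Module.Flat.of_linearEquiv
    (({ TensorProduct.quotTensorEquivQuotSMul M I with
        map_smul' := fun c z => by
          obtain ⟨r, rfl⟩ := Ideal.Quotient.mk_surjective c
          exact (TensorProduct.quotTensorEquivQuotSMul M I).map_smul r z }) :
      ((A ⧸ I) ⊗[A] M) ≃ₗ[A ⧸ I] _)
  haveI hL : Module.Flat (∀ f, L f) ((∀ f, L f) ⊗[A] M) := Groth.Agent.FlatModSqLib.flat_pi_baseChange L
  let B : Option F → Type u := fun i => i.elim (A ⧸ I) L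
  letI : ∀ i, CommRing (B i) := fun i => match i with
    | none => (inferInstance : CommRing (A ⧸ I))
    | some f => (inferInstance : CommRing (L f))
  letI : ∀ i, Algebra A (B i) := fun i => match i with
    | none => (inferInstance : Algebra A (A ⧸ I))
    | some f => (inferInstance : Algebra A (L f))
  haveI : ∀ i, Module.Flat (B i) (B i ⊗[A] M) := fun i => match i with
    | none => hI
    | some f => (inferInstance : Module.Flat (L f) (L f ⊗[A] M))
  haveI : Module.Flat (∀ i, B i) ((∀ i, B i) ⊗[A] M) := Groth.Agent.FlatModSqLib.flat_pi_baseChange B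
  have h := Groth.Agent.FlatDevLib.flat_mod_comap_sq (M := M) (∀ i, B i) I
  suffices heq : ((I ^ 2).map (algebraMap A (∀ i, B i))).comap (algebraMap A (∀ i, B i)) = I₂ by
    rw [heq] at h
    exact Module.Flat.of_linearEquiv
      (({ TensorProduct.quotTensorEquivQuotSMul M I₂ with
          map_smul' := fun c z => by
            obtain ⟨r, rfl⟩ := Ideal.Quotient.mk_surjective c
            exact (TensorProduct.quotTensorEquivQuotSMul M I₂).map_smul r z }) :
        ((A ⧸ I₂) ⊗[A] M) ≃ₗ[A ⧸ I₂] _).symm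
  ext x
  rw [Ideal.mem_comap, hI₂]
  constructor
  · intro hx
    have hcomp : ∀ i, algebraMap A (B i) x ∈ (I ^ 2).map (algebraMap A (B i)) := fun i => by
      have h1 := Ideal.mem_map_of_mem (Pi.evalRingHom B i) hx
      rw [Ideal.map_map] at h1
      exact h1
    refine ⟨?_, fun p hp => ?_⟩
    · have h1 : Ideal.Quotient.mk I x ∈ (I ^ 2).map (Ideal.Quotient.mk I) := hcomp none
      rw [Ideal.mem_quotient_iff_mem_sup, sup_eq_right.mpr (Ideal.pow_le_self two_ne_zero)] at h1
      exact h1
    · obtain ⟨f, hf⟩ := (hmem p).mp hp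
      have h1 : algebraMap A (L f) x ∈ (I ^ 2).map (algebraMap A (L f)) := hcomp (some f)
      obtain ⟨_, ⟨k, rfl⟩, hk⟩ :=
        (IsLocalization.algebraMap_mem_map_algebraMap_iff (Submonoid.powers f.1) (L f) _ _).mp h1
      exact ⟨f.1 ^ k, fun hk' => hf (p.2.mem_of_pow_mem k hk'), hk⟩
  · rintro ⟨hxI, hx⟩
    have hcomp : ∀ i, algebraMap A (B i) x ∈ (I ^ 2).map (algebraMap A (B i)) := fun i => match i with
      | none => by
        show Ideal.Quotient.mk I x ∈ (I ^ 2).map (Ideal.Quotient.mk I)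
        rw [Ideal.Quotient.eq_zero_iff_mem.mpr hxI]
        exact zero_mem _
      | some f => by
        show algebraMap A (L f) x ∈ (I ^ 2).map (algebraMap A (L f))
        rw [IsLocalization.algebraMap_mem_map_algebraMap_iff (Submonoid.powers f.1)]
        by_contra hcon
        have hdisj : Disjoint (((I ^ 2).colon {x} : Ideal A) : Set A) (Submonoid.powers f.1 : Set A) :=
          Set.disjoint_left.mpr fun s hs hs' => hcon ⟨s, hs', by simpa using Submodule.mem_colon_singleton.mp hs⟩
        obtain ⟨P, hP, hle, hdis⟩ := Ideal.exists_le_prime_disjoint _ _ hdisj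
        obtain ⟨s, hs, hsx⟩ := hx ⟨P, hP⟩ ((hmem _).mpr ⟨f, fun h =>
          Set.disjoint_left.mp hdis h (Submonoid.mem_powers _)⟩)
        exact hs (hle (Submodule.mem_colon_singleton.mpr (by simpa using hsx)))
    show algebraMap A (∀ i, B i) x ∈ (I ^ 2).map (algebraMap A (∀ i, B i))
    rw [← Finset.univ_sum_single (algebraMap A (∀ i, B i) x)]
    refine Ideal.sum_mem _ fun i _ => ?_
    obtain ⟨y, hy, hxy⟩ := (Ideal.mem_map_iff_of_surjective (Pi.evalRingHom B i)
      (fun b => ⟨Pi.single i b, Pi.single_eq_same i b⟩)).mp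
        (show algebraMap A (B i) x ∈ ((I ^ 2).map (algebraMap A (∀ i, B i))).map (Pi.evalRingHom B i) by
          rw [Ideal.map_map]; exact hcomp i)
    rw [show (algebraMap A (∀ i, B i) x) i = Pi.evalRingHom B i y from hxy.symm,
      show Pi.single i (Pi.evalRingHom B i y) = Pi.single i 1 * y by
        ext j
        rcases eq_or_ne j i with rfl | hne
        · simp
        · simp [Pi.single_eq_of_ne hne]]
    exact Ideal.mul_mem_left _ _ hy

end Groth.Agent.S1267
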