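import Groth.Statements.S12671
import Groth.Agent.CycLib.Chern.Filt

set_option autoImplicit false
universe u
open CategoryTheory CategoryTheory.Limits AlgebraicGeometry
open Cyc

namespace Groth.Agent.S12671

open CategoryTheory CategoryTheory.Limits AlgebraicGeometry

open Groth.Agent
set_option backward.isDefEq.respectTransparency false

/-- Let E be a locally free O_X-module of rank r with a filtration 0 = E_0 ⊂ E_1 ⊂ … ⊂ E_r = E such that
E_i/E_{i-1} ≅ L_i is invertible for i = 1, …, r. Then c(E) = Π_i (1 + c_1(L_i)), that is c_p(E) ∩ α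
∼_rat Σ_{I ⊆ {1,…,r}, |I| = p} (Π_{i ∈ I} c_1(L_i)) ∩ α for every k-cycle α, where the product over
I is the iterated cap applied in increasing order of i on coefficient functions with any nonzero
rational sections (Cyc.c1CapFun); the filtration is given by short exact sequences 0 → E_{i-1} → E_i
→ L_i → 0 with E_0 = 0 and E_r ≅ E. Setting: (X, δ) with Cyc.IsSetup stands for a scheme locally of
finite type over the base (S, δ) (X locally Noetherian with universally catenary local rings, δ a
dimension function); (p : P → X, O_P(1), q) is the projective bundle of E given by its universal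
property (KRR.IsProjBundle), p is proper and δP is the induced dimension function (Cyc.DeltaCompat);
a tuple γ with Cyc.IsChernCap represents (c_0(E) ∩ α, …, c_r(E) ∩ α) through the defining relation
Σ_i (-1)^i c_1(O_P(1))^i ∩ p^*(γ_{r-i}) ∼_rat 0 on P, and classes are compared up to rational
equivalence of representing cycles. -/
theorem result (X : Scheme.{u}) (δ : X → ℤ) (hX : Cyc.IsSetup X δ) (r : ℕ) (E : X.Modules) (hPE : FlatMod.IsFinLocFreeOfRank r E) (P : Scheme.{u}) (p : P ⟶ X) (O1 : P.Modules) (q : (Scheme.Modules.pullback p).obj E ⟶ O1) (hP : KRR.IsProjBundle p E O1 q) [IsProper p] (δP : P → ℤ) (hPs : Cyc.IsSetup P δP) (hδ : Cyc.DeltaCompat p δP δ) (M : Fin (r + 1) → X.Modules) (h0 : IsZero (M 0)) (e : M (Fin.last r) ≅ E) (L : Fin r → X.Modules) (hL : ∀ i, PicF.IsInvertible (L i)) (a : ∀ i : Fin r, M (Fin.castSucc i) ⟶ M (Fin.succ i)) (b : ∀ i : Fin r, M (Fin.succ i) ⟶ L i) (hab : ∀ i, a i ≫ b i = 0) (hex : ∀ i, (ShortComplex.mk (a i) (b i) (hab i)).ShortExact) (k : ℤ) (α : AlgebraicCycle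 X ℤ) (hα : α ∈ Cyc.Zk X δ k) (γ : Fin (r + 1) → AlgebraicCycle X ℤ) (hγ : Cyc.IsChernCap p δ δP O1 r k α γ) (t : (i : Fin r) → (ξ : X) → Cyc.secFibre (L i) ξ) (ht : ∀ i ξ, t i ξ ≠ 0) (κ : Finset (Fin r) → AlgebraicCycle X ℤ) (hκ0 : κ ∅ = α) (hκ : ∀ (I : Finset (Fin r)) (i : Fin r), (∀ i' ∈ I, i' < i) → ⇑(κ (insert i I)) = Cyc.c1CapFun δ (L i) ⇑(κ I) (t i)) (n : Fin (r + 1)) : Cyc.RatEquiv δ (k - ((n : ℕ) : ℤ)) (γ n) (∑ I ∈ Finset.powersetCard n Finset.univ, κ I) := by
  classical
  haveI := hX.1
  haveI := hPs.1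
  let B : ℕ → CycLib.SecLine X := fun i => if h : i < r then ⟨L ⟨i, h⟩, hL _, t _, ht _⟩
    else ⟨Coh.structureModule X, ParaFLib.isInvertible_structureModule, CycLib.oneSec X, CycLib.oneSec_ne_zero⟩
  have hB : ∀ i (h : i < r), B i = ⟨L ⟨i, h⟩, hL _, t _, ht _⟩ := fun i h => dif_pos h
  have hfilt : ∀ j (hj : j < r + 1), CycLib.BotFilt j (fun i => (B i).N) (M ⟨j, hj⟩) := fun j => by
    induction j with
    | zero => exact fun _ => .zero h0
    | succ j ih =>
      intro hj
      exact (ih (by omega)).snoc' (congrArg CycLib.SecLine.N (hB j (by omega))) (a ⟨j, by omega⟩) (b ⟨j, by omega⟩)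
        (hab _) (hex _)
  have hE := (hfilt r (by omega)).of_iso e
  have h := CycLib.chern_of_botFilt hX hE (fun i => (B i).inv) (fun i => (B i).sec) (fun i => (B i).ne) hP hPs hδ hα
  have hrefl : ∀ (m : ℤ) (c : AlgebraicCycle X ℤ), Cyc.RatEquiv δ m c c := fun m c => by
    show Cyc.RatEquivZero δ m (c - c)
    rw [sub_self]
    exact CycLib.ratEquivZero_zero
  let σ : ℕ → ℕ → AlgebraicCycle X ℤ := fun m j =>
    ∑ I ∈ (Finset.univ.filter fun i : Fin r => (i : ℕ) < m).powersetCard j, κ I
  have hzero : ∀ m, σ m 0 = α := fun m => by simp [σ, hκ0]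
  have hrec : ∀ m (hm : m < r) j, σ (m + 1) (j + 1) = σ m (j + 1) +
      CycLib.c1Cycle hX.2.2 (B m).inv (σ m j) (B m).sec := by
    intro m hm j
    let i₀ : Fin r := ⟨m, hm⟩
    have hins : (Finset.univ.filter fun i : Fin r => (i : ℕ) < m + 1) =
        insert i₀ (Finset.univ.filter fun i : Fin r => (i : ℕ) < m) := by
      ext i
      simp [i₀, Fin.ext_iff]
      omega
    have hnot : i₀ ∉ Finset.univ.filter fun i : Fin r => (i : ℕ) < m := by simp [i₀]
    have hsub : ∀ I ∈ (Finset.univ.filter fun i : Fin r => (i : ℕ) < m).powersetCard j, ∀ i ∈ I, i < i₀ := fun I hI i hi => by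
      have := (Finset.mem_powersetCard.1 hI).1 hi
      simpa [i₀, Fin.lt_def] using this
    have hinj : Set.InjOn (insert i₀ : Finset (Fin r) → Finset (Fin r)) ↑((Finset.univ.filter fun i : Fin r => (i : ℕ) < m).powersetCard j) :=
      fun I hI J hJ e => by
        have hi : i₀ ∉ I := fun h' => lt_irrefl i₀ (hsub I hI i₀ h')
        have hj : i₀ ∉ J := fun h' => lt_irrefl i₀ (hsub J hJ i₀ h')
        rw [← Finset.erase_insert hi, e, Finset.erase_insert hj]
    have hdisj : Disjoint ((Finset.univ.filter fun i : Fin r => (i : ℕ) < m).powersetCard (j + 1))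
        (((Finset.univ.filter fun i : Fin r => (i : ℕ) < m).powersetCard j).image (insert i₀)) := by
      rw [Finset.disjoint_left]
      intro I hI hI'
      obtain ⟨J, -, rfl⟩ := Finset.mem_image.1 hI'
      exact hnot ((Finset.mem_powersetCard.1 hI).1 (Finset.mem_insert_self _ _))
    show ∑ I ∈ _, κ I = _
    rw [hins, Finset.powersetCard_succ_insert hnot, Finset.sum_union hdisj, Finset.sum_image hinj]
    refine congrArg (_ + ·) ?_
    show _ = CycLib.PB.c1Hom hX.2.2 (B m).inv (B m).sec (σ m j)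
    rw [map_sum]
    refine Finset.sum_congr rfl fun I hI => ?_
    rw [hB m hm]
    ext x
    exact congrFun (hκ I i₀ (hsub I hI)) x
  have hσ : ∀ m, m ≤ r → ∀ (j : ℕ) (k' : ℤ), k' = k - j →
      Cyc.RatEquiv δ k' (σ m j) (CycLib.esym hX.2.2 m (fun i => (B i).N) (fun i => (B i).inv) (fun i => (B i).sec) j α) := by
    intro m
    induction m with
    | zero =>
      intro _ j k' _
      cases j with
      | zero => rw [hzero, CycLib.esym_zero]; exact hrefl _ _
      | succ j =>
        rw [show σ 0 (j + 1) = 0 by simp [σ, Finset.powersetCard_eq_empty.2 (show (∅ : Finset (Fin r)).card < j + 1 by simp)]]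
        exact hrefl _ _
    | succ m ih =>
      intro hm j k' hk'
      cases j with
      | zero => rw [hzero, CycLib.esym_zero]; exact hrefl _ _
      | succ j =>
        rw [hrec m (by omega) j, CycLib.esym_last]
        have h1 := ih (by omega) (j + 1) k' hk'
        have h2 := CycLib.PB.ratEquiv_c1Cycle hX.2.2 (B m).inv hX (B m).sec (B m).ne (ih (by omega) j (k - j) rfl)
        have h3 := CycLib.esym_comm hX (B m).inv (B m).ne m (fun i => (B i).N) (fun i => (B i).inv) (fun i => (B i).sec)
          (fun i => (B i).ne) j hα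
        rw [show k - (j : ℤ) - 1 = k' by rw [hk']; push_cast; ring] at h2 h3
        have h4 := CycLib.ratEquivZero_add h2 h3
        rw [sub_add_sub_cancel] at h4
        show Cyc.RatEquivZero δ k' (_ - _)
        rw [add_sub_add_comm]
        exact CycLib.ratEquivZero_add h1 h4
  cases r with
  | zero =>
    obtain rfl : n = 0 := Fin.ext (by omega)
    rw [hγ.1]
    simp only [Fin.val_zero, Finset.powersetCard_zero, Finset.sum_singleton, hκ0]
    exact hrefl _ _
  | succ r' =>
    have S := CycLib.PB.setting_of_isProjBundle hPE hP hX hPs hδ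
    have h1 := S.chern_unique (hrefl k α) hγ h n
    have h2 := hσ (r' + 1) le_rfl (n : ℕ) (k - ((n : ℕ) : ℤ)) rfl
    rw [show σ (r' + 1) (n : ℕ) = ∑ I ∈ Finset.powersetCard (n : ℕ) Finset.univ, κ I by
      show ∑ I ∈ _, κ I = _
      rw [Finset.filter_true_of_mem fun i _ => i.2]] at h2
    have h3 := CycLib.ratEquivZero_sub hX.2.2 h1 h2
    rw [sub_sub_sub_cancel_right] at h3
    exact h3

end Groth.Agent.S12671
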