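import Groth.Statements.S12675
import Groth.Agent.CycLib.Chern.Basic
import Groth.Agent.GrassRepLib.MapEpi

set_option autoImplicit false
universe u
open CategoryTheory CategoryTheory.Limits AlgebraicGeometry
open Cyc

namespace Groth.Agent.S12675

open CategoryTheory CategoryTheory.Limits AlgebraicGeometry

open Groth.Agent
set_option backward.isDefEq.respectTransparency false

/-- Suppose X is integral of δ-dimension n and L is an O_X-module that is invertible; then L's first
Chern class on X, taken in the sense of the projective-bundle characterisation (rank r = 1), agrees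
with the Weil divisor class c_1(L) ∩ [X] of L (the divisor of a nonzero rational section,
Cyc.c1CapFun on the cycle [X]_n). The projective bundle of L is given abstractly by its universal
property, so the identification P(L) = X, O(1) = L is part of what is asserted. Setting: (X, δ) with
Cyc.IsSetup stands for a scheme locally of finite type over the base (S, δ) (X locally Noetherian
with universally catenary local rings, δ a dimension function); (p : P → X, O_P(1), q) is the
projective bundle of E given by its universal property (KRR.IsProjBundle), p is proper and δP is the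
induced dimension function (Cyc.DeltaCompat); a tuple γ with Cyc.IsChernCap represents (c_0(E) ∩ α,
…, c_r(E) ∩ α) through the defining relation Σ_i (-1)^i c_1(O_P(1))^i ∩ p^*(γ_{r-i}) ∼_rat 0 on P,
and classes are compared up to rational equivalence of representing cycles. -/
theorem result (X : Scheme.{u}) (δ : X → ℤ) (hX : Cyc.IsSetup X δ) [IsIntegral X] (n : ℤ) (hn : δ (genericPoint X) = n) (L : X.Modules) (hL : PicF.IsInvertible L) (hPE : FlatMod.IsFinLocFreeOfRank 1 L) (P : Scheme.{u}) (p : P ⟶ X) (O1 : P.Modules) (q : (Scheme.Modules.pullback p).obj L ⟶ O1) (hP : KRR.IsProjBundle p L O1 q) [IsProper p] (δP : P → ℤ) (hPs : Cyc.IsSetup P δP) (hδ : Cyc.DeltaCompat p δP δ) (α : AlgebraicCycle X ℤ) (hα : ⇑α = Cyc.subschemeFun δ n (𝟙 X)) (γ : Fin 2 → AlgebraicCycle X ℤ) (hγ : Cyc.IsChernCap p δ δP O1 1 n α γ) (s : (ξ : X) → Cyc.secFibre L ξ) (hs : ∀ ξ, s ξ ≠ 0) (β : AlgebraicCycle X ℤ) (hβ : ⇑β = Cyc.c1CapFun δ L ⇑α s) : Cyc.RatEquiv δ (n - 1) (γ 1) β := by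
  haveI := hX.1
  haveI := hPs.1
  have S := CycLib.PB.setting_of_isProjBundle (n := 0) hPE hP hX hPs hδ
  haveI := S.flat
  haveI := S.lft
  have hG := Grass.IsGrass.of_isProjBundle hP
  haveI := hG.epi
  haveI : IsIso q := GrassRepLib.isIso_of_epi_rank q (FlagLib.rank_pullback p L hPE) hG.rank
  let t : ℕ → (ξ : P) → Cyc.secFibre O1 ξ :=
    fun _ ξ => CycLib.fibMap (asIso q).hom ξ (CycLib.pullFib p L ξ (s (p ξ)))
  have ht : ∀ i ξ, t i ξ ≠ 0 := fun _ ξ =>
    CycLib.fibMap_ne_zero (AmpleLib.isInvertible_pullback p hL) _ (CycLib.pullFib_ne_zero p L hL (hs _))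
  obtain ⟨h0, hd, hrel⟩ := (S.isChernCap_iff t ht).1 hγ
  have hβn : β ∈ Cyc.Zk X δ (n - 1) := fun x hx => by
    rw [hβ]
    exact CycLib.c1CapFun_eq_zero_of_ne (k := n - 1)
      (fun ξ hξ => by rw [← h0]; exact hd 0 ξ (fun e => hξ (by simpa using e))) s hx
  have hpull : S.seq t (γ 0) 1 = S.pullC β := by
    ext x
    show Cyc.c1CapFun δP O1 ⇑(S.pullC (γ 0)) (t 0) x = Cyc.pullFun p δP δ ((0 : ℕ) : ℤ) ⇑β x
    rw [h0, hβ, congrFun (CycLib.c1CapFun_iso hPs.2.2 (AmpleLib.isInvertible_pullback p hL) (asIso q) _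
      fun ξ => CycLib.pullFib p L ξ (s (p ξ))) x]
    exact (congrFun (CycLib.pullFun_c1Cap S.isShift hPs.2.2 hX.2.2 hL s hs α) x).symm
  have hsum : Cyc.RatEquivZero δP (n - 1 + ((0 : ℕ) : ℤ))
      (Finset.sum (Finset.univ.filter fun i : Fin (0 + 1) => (i : ℕ) < 1)
        fun i : Fin (0 + 1) => S.seq t ((fun _ => γ 1 - β) i) (i : ℕ)) := by
    rw [Finset.filter_true_of_mem fun i _ => i.2, Fin.sum_univ_one]
    convert hrel using 1
    · simp
    · rw [CycLib.PB.Setting.relSum, Fin.sum_univ_two, S.seq_sub]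
      simp only [Fin.val_zero, Fin.val_one, pow_zero, pow_one, one_smul, neg_one_smul]
      show _ = S.seq t (γ 1) 0 + -S.seq t (γ 0) 1
      rw [hpull, sub_eq_add_neg]
      rfl
  have h := S.injective (fun _ => t) (fun _ => ht) (n - 1) (fun _ => γ 1 - β) (fun i x hx => by
    show γ 1 x - β x = 0
    have hne : δ x ≠ n - 1 := fun e => hx (by rw [e, show ((i : ℕ) : ℤ) = 0 by have := i.2; omega, add_zero])
    rw [hd 1 x (by simpa using hne), hβn x hne, sub_zero]) 1 le_rfl hsum 0 Nat.zero_lt_one
  show Cyc.RatEquivZero δ (n - 1) (γ 1 - β)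
  simpa using h

end Groth.Agent.S12675
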