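import Groth.Statements.S12676
import Groth.Agent.ChiCycLib.PushProd
import Groth.Agent.CycLib.PushEquiv
import Groth.Agent.CycLib.FlatShift
import Groth.Agent.BivarLib.Chern
-- import your own Groth.Agent.* helpers here

set_option autoImplicit false
set_option linter.style.haveILetI false
set_option maxHeartbeats 800000
set_option backward.isDefEq.respectTransparency false
universe u
open CategoryTheory CategoryTheory.Limits AlgebraicGeometry
attribute [local instance] HasDerivedCategory.standard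
open IntMult

namespace Groth.Agent.S12676

open Groth.Agent Groth.Agent.ChiCycLib IsLocalRing TensorProduct

theorem residueDegree_closed {X W : Scheme.{u}} (j : X ⟶ W) [IsClosedImmersion j] (x : X) :
    j.residueDegree x = 1 := by
  unfold Scheme.Hom.residueDegree
  letI := (j.residueFieldMap x).hom.toAlgebra
  exact ((LinearEquiv.ofBijective (Algebra.linearMap (W.residueField (j x)) (X.residueField x))
    (CycLib.bijective_residueFieldMap j x)).finrank_eq).symm.trans (Module.finrank_self _)

theorem cc_graph {X W Y : Scheme.{u}} (j : X ⟶ W) [IsClosedImmersion j] [IsIntegral X] (p : W ⟶ Y) [Flat p]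
    [Flat (j ≫ p)] (x : X) :
    cc p (j (genericPoint X)) (p (j x)) (j x) =
      ((Module.length (X.presheaf.stalk x) (X.presheaf.stalk x ⧸ CycLib.fibIdeal (j ≫ p) x)).toNat : ℤ) := by
  let B := W.presheaf.stalk (j x)
  let L := X.presheaf.stalk x
  let R := Y.presheaf.stalk (p (j x))
  let P : PrimeSpectrum B := PrimeSpectrum.comap (j.stalkMap x).hom ⟨⊥, Ideal.isPrime_bot⟩
  have hP : W.fromSpecStalk (j x) P = j (genericPoint X) := by
    have h1 : W.fromSpecStalk (j x) P = j (X.fromSpecStalk x ⟨⊥, Ideal.isPrime_bot⟩) := by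
      rw [← Scheme.Hom.comp_apply (X.fromSpecStalk x), ← Scheme.SpecMap_stalkMap_fromSpecStalk]
      rfl
    rw [h1]
    congr 1
    obtain ⟨Q, hQ⟩ := CycLib.exists_fromSpecStalk (genericPoint_specializes x)
    refine (Specializes.antisymm ?_ (genericPoint_specializes _)).eq
    rw [← hQ]
    exact (CycLib.fromSpecStalk_specializes_iff _ _).2 bot_le
  have hη : Y.fromSpecStalk (p (j x)) (closedPoint R) = p (j x) := Scheme.fromSpecStalk_closedPoint
  rw [cc, ← hP, stalkIdeal_ptIdeal_fromSpecStalk P]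
  have hI : IntMult.stalkIdeal (IntMult.ptIdeal (p (j x))) (p (j x)) = maximalIdeal R := by
    conv_lhs => arg 1; rw [← hη]
    exact stalkIdeal_ptIdeal_fromSpecStalk (closedPoint R)
  rw [hI]
  letI algRB : Algebra R B := (p.stalkMap (j x)).hom.toAlgebra
  letI algBL : Algebra B L := (j.stalkMap x).hom.toAlgebra
  letI algRL : Algebra R L := ((j ≫ p).stalkMap x).hom.toAlgebra
  haveI : Module.Flat R B := Flat.stalkMap p (j x)
  haveI : Module.Flat R L := Flat.stalkMap (j ≫ p) x
  haveI : IsScalarTower R B L := IsScalarTower.of_algebraMap_eq' (by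
    show ((j ≫ p).stalkMap x).hom = (j.stalkMap x).hom.comp (p.stalkMap (j x)).hom
    rw [Scheme.Hom.stalkMap_comp, CommRingCat.hom_comp])
  have hsurj : Function.Surjective (algebraMap B L) := j.stalkMap_surjective x
  let J : Ideal B := (maximalIdeal R).map (algebraMap R B)
  obtain ⟨θ, hθ⟩ : ∃ θ : ∀ i, DRing.Tor R i L (R ⧸ maximalIdeal R) →ₛₗ[algebraMap R B] DRing.Tor B i L (B ⧸ J),
      ∀ i, Function.Bijective (θ i) := by
    choose θ hθ using fun i => TorLib.exists_semilinear_bijective B L (R ⧸ maximalIdeal R)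
      (fun n => TorLib.subsingleton_tor_of_flat B _ n) (B ⧸ J)
      (Algebra.TensorProduct.quotIdealMapEquivTensorQuot B (maximalIdeal R)).symm.toLinearEquiv i
    exact ⟨θ, hθ⟩
  have hvan : ∀ i, Subsingleton (DRing.Tor B (i + 1) L (B ⧸ J)) := fun i => by
    haveI := TorLib.subsingleton_tor_of_flat (A := R) L (R ⧸ maximalIdeal R) i
    exact (hθ (i + 1)).2.subsingleton
  have hker : RingHom.ker (algebraMap B L) = P.asIdeal := rfl
  let eP : L ≃ₗ[B] B ⧸ P.asIdeal :=
    (Ideal.quotientKerAlgEquivOfSurjective (f := Algebra.ofId B L) hsurj).symm.toLinearEquiv.trans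
      (Submodule.quotEquivOfEq _ _ hker)
  have hlen : ∀ i, Module.length B (DRing.Tor B i (B ⧸ P.asIdeal) (B ⧸ J)) =
      Module.length B (DRing.Tor B i L (B ⧸ J)) :=
    fun i => (tor_congr_length eP (LinearEquiv.refl B (B ⧸ J)) i).symm
  show IntMult.chi B (B ⧸ P.asIdeal) (B ⧸ J) = _
  rw [IntMult.chi, finsum_eq_single _ 0 fun i hi => ?_]
  · rw [pow_zero, one_mul, hlen, (TorLib.torZeroEquiv L (B ⧸ J)).length_eq]
    have e1 := ((Algebra.TensorProduct.quotIdealMapEquivTensorQuot L J).toLinearEquiv.restrictScalars B).length_eq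
    rw [← e1, Module.length_eq_of_surjective (R := L) hsurj,
      show CycLib.fibIdeal (j ≫ p) x = J.map (algebraMap B L) by
        rw [Ideal.map_map, ← IsScalarTower.algebraMap_eq]
        rfl]
  · obtain ⟨i, rfl⟩ := Nat.exists_eq_succ_of_ne_zero hi
    haveI := hvan i
    rw [hlen, Module.length_eq_zero, ENat.toNat_zero, Nat.cast_zero, mul_zero]

/-- Let f : X → Y be a morphism of nonsingular projective varieties over an algebraically closed field
and define f^*α = pr_{X,*}(Γ_f · pr_Y^*α) on Chow groups, with Γ_f ⊂ X × Y the graph and · the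
intersection product of the nonsingular projective variety X × Y. If f is flat, f^*α agrees with the
flat pullback of α (relative dimension dim X - dim Y). Here X, Y and X × Y are nonsingular varieties
over the algebraically closed field K (smooth, separated, quasi-compact, integral) embedded as
closed subschemes of projective spaces over K, with dimension functions the transcendence degree
(Cyc.IsSetup, Cyc.DeltaCompat to Spec K with value 0) and dimensions pinned at the generic points;
the product on CH_*(X × Y) is any mul with ChowOps.IsChowMul (it agrees with the Tor-formula product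
IntMult.interProd on properly meeting cycles, which determines it); [Γ_f] is the prime cycle of the
image of the generic point of X under the graph morphism, pr_Y^* and f^* are coefficientwise flat
pullbacks (Cyc.pullFun), pr_{X,*} is the proper pushforward of a representing cycle, and the two
sides are compared up to rational equivalence on X. (Parts (1)–(3) of the published statement — f^*
is a ring map, functoriality, projection formula — are not stated here.) -/
theorem result (K : Type u) [Field K] [IsAlgClosed K] (X : Scheme.{u}) (fX : X ⟶ Spec (CommRingCat.of K)) [Smooth fX] [IsSeparated fX] [QuasiCompact fX] [IsIntegral X] (δX : X → ℤ) (hX : Cyc.IsSetup X δX) (hδX : Cyc.DeltaCompat fX δX (fun _ => 0)) (dX : ℕ) (hdX : δX (genericPoint X) = dX) (NX : ℕ) (ιX : X ⟶ CohB1.ProjSpace NX K) [IsClosedImmersion ιX] (hιX : ιX ≫ CohB1.ProjSpace.toSpec NX K = fX) (Y : Scheme.{u}) (fY : Y ⟶ Spec (CommRingCat.of K)) [Smooth fY] [IsSeparated fY] [QuasiCompact fY] [IsIntegral Y] (δY : Y → ℤ) (hY :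 Cyc.IsSetup Y δY) (hδY : Cyc.DeltaCompat fY δY (fun _ => 0)) (dY : ℕ) (hdY : δY (genericPoint Y) = dY) (NY : ℕ) (ιY : Y ⟶ CohB1.ProjSpace NY K) [IsClosedImmersion ιY] (hιY : ιY ≫ CohB1.ProjSpace.toSpec NY K = fY) (f : X ⟶ Y) (hf : f ≫ fY = fX) [Flat f] [IsIntegral (pullback fX fY)] (δW : ↥(pullback fX fY) → ℤ) (hW : Cyc.IsSetup (pullback fX fY) δW) (hδW : Cyc.DeltaCompat (pullback.fst fX fY ≫ fX) δW (fun _ => 0)) (hdW : δW (genericPoint ↥(pullback fX fY)) = (dX : ℤ) + (dY : ℤ)) (NW : ℕ) (ιW : (pullback fX fY) ⟶ CohB1.ProjSpace NW K) [IsClosedImmersion ιW] (hιW : ιW ≫ CohB1.ProjSpace.toSpec NW K = pullback.fst fX fY ≫ fX) (mul : (r s : ℤ) → ChowOps.CH (pullback fX fY) δW r → ChowOps.CH (pullback fX fY) δW s → ChowOps.CH (pullback fX fY) δW (r + s - ((dX : ℤ) + (dY : ℤ)))) (hmul : ChowOps.IsChowMul (pullback fX fY) δW ((dX : ℤ) + (dY : ℤ)) mul) (γ : AlgebraicCycle (pullback fX fY) ℤ) (hγ : ⇑γ = Set.indicator {(pullback.lift (𝟙 X) f (Eq.trans (Category.id_comp fX) hf.symm)) (genericPoint X)}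 1) (hγk : γ ∈ Cyc.Zk (pullback fX fY) δW (dX : ℤ)) (k : ℤ) (α : AlgebraicCycle Y ℤ) (hα : α ∈ Cyc.Zk Y δY k) (αW : AlgebraicCycle (pullback fX fY) ℤ) (hαW : ⇑αW = Cyc.pullFun (pullback.snd fX fY) δW δY (dX : ℤ) ⇑α) (hαWk : αW ∈ Cyc.Zk (pullback fX fY) δW (k + dX)) (ζ : AlgebraicCycle (pullback fX fY) ℤ) (hζk : ζ ∈ Cyc.Zk (pullback fX fY) δW ((dX : ℤ) + (k + dX) - ((dX : ℤ) + (dY : ℤ)))) (hζ : ChowOps.cl ζ hζk = mul (dX : ℤ) (k + dX) (ChowOps.cl γ hγk) (ChowOps.cl αW hαWk)) (αX : AlgebraicCycle X ℤ) (hαX : ⇑αX = Cyc.pullFun f δX δY ((dX : ℤ) - (dY : ℤ)) ⇑α) : Cyc.RatEquiv δX (k + dX - dY) (AlgebraicCycle.map (pullback.fst fX fY) δW δX ζ) αX := by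
  classical
  haveI := hX.1
  haveI := hY.1
  haveI := hW.1
  have hδX' := hX.2.2
  have hδY' := hY.2.2
  have hδW' := hW.2.2
  set j : X ⟶ pullback fX fY := pullback.lift (𝟙 X) f (Eq.trans (Category.id_comp fX) hf.symm) with hj
  have hj1 : j ≫ pullback.fst fX fY = 𝟙 X := pullback.lift_fst _ _ _
  have hj2 : j ≫ pullback.snd fX fY = f := pullback.lift_snd _ _ _
  haveI : IsClosedImmersion j := by
    haveI : IsClosedImmersion (j ≫ pullback.fst fX fY) := by rw [hj1]; infer_instance
    exact IsClosedImmersion.of_comp j (pullback.fst fX fY)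
  haveI : Flat (j ≫ pullback.snd fX fY) := by rw [hj2]; infer_instance
  haveI : IsProper fY := by rw [← hιY]; infer_instance
  have hfst : Cyc.DeltaCompat (pullback.fst fX fY) δW δX := BivarLib.deltaCompat_of_comp _ fX hδW hδX
  have hsnd : Cyc.DeltaCompat (pullback.snd fX fY) δW δY :=
    BivarLib.deltaCompat_of_comp _ fY (pullback.condition (f := fX) (g := fY) ▸ hδW) hδY
  have hjd : Cyc.DeltaCompat j δX δW := BivarLib.deltaCompat_of_comp j (pullback.fst fX fY ≫ fX)
    (by rw [← Category.assoc, hj1, Category.id_comp]; exact hδX) hδW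
  haveI : LocallyOfFiniteType f := by
    haveI : LocallyOfFiniteType (f ≫ fY) := by rw [hf]; infer_instance
    exact locallyOfFiniteType_of_comp f fY
  have hfd : Cyc.DeltaCompat f δX δY := BivarLib.deltaCompat_of_comp f fY (hf.symm ▸ hδX) hδY
  have hfstj : ∀ x, pullback.fst fX fY (j x) = x := fun x => by
    rw [← Scheme.Hom.comp_apply, hj1]
    rfl
  have hsndj : ∀ x, pullback.snd fX fY (j x) = f x := fun x => by
    rw [← Scheme.Hom.comp_apply, hj2]
  have hδj : ∀ x, δW (j x) = δX x := fun x => by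
    obtain ⟨a, -, h1⟩ := hjd x
    obtain ⟨b, -, h2⟩ := hfst (j x)
    rw [hfstj] at h2
    omega
  have hs : CycLib.IsShift (pullback.snd fX fY) δW δY (dX : ℤ) := by
    obtain ⟨-, h⟩ := CycLib.isShift_of_irreducible (pullback.snd fX fY) hY hsnd
    rwa [hdW, hdY, show (((dX : ℤ) + dY - dY).toNat : ℤ) = (dX : ℤ) by omega] at h
  have hsf : ∀ x, δX x ≤ δY (f x) + ((dX : ℤ) - dY) := fun x => by
    obtain ⟨h0, h⟩ := CycLib.isShift_of_irreducible f hY hfd
    rw [hdX, hdY] at h h0
    have := h.le hδX' x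
    omega
  have hα' : ∀ y, α y ≠ 0 → δY y = k := fun y h => by
    by_contra h'
    exact h (hα y h')
  have hinjj : Function.Injective j := j.isClosedEmbedding.injective
  have hrange : ∀ w, j (genericPoint X) ⤳ w → ∃ x, j x = w := fun w hw => by
    have : w ∈ Set.range j := j.isClosedEmbedding.isClosed_range.closure_subset_iff.2
      (Set.singleton_subset_iff.2 (Set.mem_range_self _)) (specializes_iff_mem_closure.1 hw)
    exact this
  have hind : ∀ w, γ w ≠ 0 → w = j (genericPoint X) := fun w hw => by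
    rw [hγ] at hw
    exact Set.mem_singleton_iff.1 (Set.mem_of_indicator_ne_zero hw)
  have hγgen : γ (j (genericPoint X)) = 1 := by
    rw [hγ]
    exact Set.indicator_of_mem rfl _
  have hcap : ∀ (η : Y) (x : X), δY η = k → η ⤳ f x → δX x ≤ k + ((dX : ℤ) - dY) := fun η x h1 h2 => by
    have h3 := CycLib.delta_le hδY' h2
    have h4 := hsf x
    omega
  have hpull : ∀ w, αW w ≠ 0 → α (pullback.snd fX fY w) ≠ 0 ∧ δW w = k + dX := fun w hw => by
    refine ⟨?_, by by_contra h; exact hw (hαWk w h)⟩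
    rw [hαW, CycLib.pullFun_apply] at hw
    split_ifs at hw with h
    · exact left_ne_zero_of_mul hw
    · exact absurd rfl hw
  have hprop : IntMult.IntersectProperly δW ((dX : ℤ) + dY) ⇑γ ⇑αW := by
    intro ξ η w hξ hη hξw hηw
    obtain rfl := hind ξ hξ
    obtain ⟨x, rfl⟩ := hrange w hξw
    obtain ⟨h1, h2⟩ := hpull η hη
    have h3 := hcap _ x (hα' _ h1) (by rw [← hsndj]; exact hηw.map (pullback.snd fX fY).continuous)
    rw [hδj, hδj, h2, hdX]
    omega
  let ζ₀ := AlgebraicCycle.map j δX δW αX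
  have hmapj : ∀ x, ζ₀ (j x) = αX x := fun x => by
    show AlgebraicCycle.map j δX δW αX (j x) = _
    rw [AlgebraicCycle.map, Function.locallyFinsupp.map_apply,
      show j ⁻¹' {j x} = {x} from Set.ext fun y => ⟨fun h => hinjj h, fun h => by rw [Set.mem_singleton_iff.1 h]; rfl⟩,
      finsum_mem_singleton, AlgebraicCycle.mapCoeff, if_pos (show δX x = δW (j x) from (hδj x).symm),
      residueDegree_closed j x, Nat.cast_one, mul_one]
  have hmapj0 : ∀ w, (∀ x, j x ≠ w) → ζ₀ w = 0 := fun w hw => by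
    show AlgebraicCycle.map j δX δW αX w = _
    rw [AlgebraicCycle.map, Function.locallyFinsupp.map_apply]
    exact finsum_mem_eq_zero_of_forall_eq_zero fun x hx => absurd hx (hw x)
  have hαX0 : ∀ x, αX x ≠ 0 → δX x = k + ((dX : ℤ) - dY) ∧ α (f x) ≠ 0 := fun x hx => by
    rw [hαX, CycLib.pullFun_apply] at hx
    split_ifs at hx with h
    · have h2 := left_ne_zero_of_mul hx
      exact ⟨by rw [h, hα' _ h2], h2⟩
    · exact absurd rfl hx
  have hval : ⇑ζ₀ = IntMult.interProd δW ((dX : ℤ) + dY) ⇑γ ⇑αW := by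
    funext w
    by_cases hw : ∃ x, j x = w
    swap
    · rw [hmapj0 w fun x hx => hw ⟨x, hx⟩]
      symm
      by_contra hne
      obtain ⟨p, q, hp, -, hpw, -, -⟩ := interProd_ne_zero hne
      exact hw (hrange w (hind p hp ▸ hpw))
    obtain ⟨x, rfl⟩ := hw
    rw [hmapj]
    by_cases hcase : δX x = k + ((dX : ℤ) - dY) ∧ α (f x) ≠ 0
    swap
    · have h0 : αX x = 0 := by
        by_contra hne
        exact hcase (hαX0 x hne)
      rw [h0]
      symm
      by_contra hne
      obtain ⟨p, q, hp, hq, -, hqw, hd⟩ := interProd_ne_zero hne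
      obtain rfl := hind p hp
      obtain ⟨h1, h2⟩ := hpull q hq
      rw [hδj, hdX, h2, hδj] at hd
      have hsp : pullback.snd fX fY q ⤳ f x := by
        rw [← hsndj]; exact hqw.map (pullback.snd fX fY).continuous
      refine hcase ⟨by omega, ?_⟩
      have h3 := hsf x
      have h4 := hα' _ h1
      have h5 : pullback.snd fX fY q = f x := by
        by_contra hne'
        have := (hδY' _ _ hsp hne').1
        omega
      rwa [← h5]
    obtain ⟨hdx, hαx⟩ := hcase
    have hηk : δY (pullback.snd fX fY (j x)) = k := by rw [hsndj]; exact hα' _ hαx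
    obtain ⟨P, hP⟩ := CycLib.exists_fromSpecStalk ((genericPoint_specializes x).map j.continuous)
    have hT := (finite_comps (pullback.snd fX fY) hδW' hδY' hs _ hηk (j x))
    have hTmem : ∀ Q, αW ((pullback fX fY).fromSpecStalk (j x) Q) ≠ 0 →
        δW ((pullback fX fY).fromSpecStalk (j x) Q) = k + dX ∧
          pullback.snd fX fY (j x) ⤳ pullback.snd fX fY ((pullback fX fY).fromSpecStalk (j x) Q) := fun Q hQ => by
      obtain ⟨h1, h2⟩ := hpull _ hQ
      refine ⟨h2, specializes_of_eq ?_⟩
      by_contra hne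
      have := (hδY' _ _ ((CycLib.fromSpecStalk_specializes Q).map (pullback.snd fX fY).continuous) (Ne.symm hne)).1
      rw [hα' _ h1, hηk] at this
      omega
    rw [interProd_eq_sum (r := (dX : ℤ)) (s := k + dX) _ _ (j x) (by rw [hδj]; omega) {P} hT.1.toFinset
      (fun Q hQ => by rw [Finset.mem_singleton.1 hQ, hP, hδj, hdX])
      (fun Q hQ => (hT.1.mem_toFinset.1 hQ).1)
      (fun Q hQ => Finset.mem_singleton.2 (((pullback fX fY).fromSpecStalk (j x)).isEmbedding.injective
        ((hind _ hQ).trans hP.symm)))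
      (fun Q hQ => hT.1.mem_toFinset.2 (hTmem Q hQ)), Finset.sum_singleton]
    have hcc := cc_eq (pullback.snd fX fY) (pullback.fst fX fY ≫ fX) hδW' hδY' hδW hdW (m := (dY : ℤ))
      (by ring) hs (r := (dX : ℤ)) (s := k) (k := (dX : ℤ) + k - dY) rfl (j (genericPoint X))
      (pullback.snd fX fY (j x)) (by rw [hδj, hdX]) hηk (j x) ((genericPoint_specializes x).map j.continuous)
      specializes_rfl (by rw [hδj]; omega)
      (fun t h1 h2 => by
        obtain ⟨x', rfl⟩ := hrange t h1
        rw [hδj]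
        have := hcap _ x' hηk (by rw [← hsndj x']; exact h2)
        omega) P hP
    rw [cc_graph j (pullback.snd fX fY) x] at hcc
    have hlen : αX x = α (f x) * ((Module.length (X.presheaf.stalk x)
        (X.presheaf.stalk x ⧸ CycLib.fibIdeal (j ≫ pullback.snd fX fY) x)).toNat : ℤ) := by
      rw [hαX, CycLib.pullFun_apply, if_pos (by rw [hdx, hα' _ hαx])]
      exact congrArg (α (f x) * ·) (congrArg (fun g : X ⟶ Y => ((Module.length (X.presheaf.stalk x)
        (X.presheaf.stalk x ⧸ CycLib.fibIdeal g x)).toNat : ℤ)) hj2.symm)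
    rw [hlen, hcc, Finset.mul_sum]
    refine Finset.sum_congr rfl fun Q hQ => ?_
    obtain ⟨hQ1, hQ2⟩ := hT.1.mem_toFinset.1 hQ
    have hfQ := ((hT.2 Q hQ2).2 hQ1).1
    rw [hP, hγgen, hαW, CycLib.pullFun_apply, if_pos (by rw [hQ1, hfQ, hηk]), hfQ, hsndj]
    ring
  have hζ₀k : ζ₀ ∈ Cyc.Zk (pullback fX fY) δW ((dX : ℤ) + (k + dX) - ((dX : ℤ) + (dY : ℤ))) := fun w hw => by
    by_cases h : ∃ x, j x = w
    · obtain ⟨x, rfl⟩ := h
      rw [hmapj]
      by_contra hne
      have := (hαX0 x hne).1
      exact hw (by rw [hδj]; omega)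
    · exact hmapj0 w fun x hx => h ⟨x, hx⟩
  have hcl := hmul _ _ γ αW hγk hαWk hprop ζ₀ hζ₀k hval
  rw [← hζ] at hcl
  have hrat : ∀ {l : ℤ} (a b : AlgebraicCycle (pullback fX fY) ℤ) (ha : a ∈ Cyc.Zk (pullback fX fY) δW l)
      (hb : b ∈ Cyc.Zk (pullback fX fY) δW l), ChowOps.cl a ha = ChowOps.cl b hb → Cyc.RatEquiv δW l a b := by
    intro l a b ha hb h
    exact BivarLib.ratEquiv_of_cl_eq hδW' h
  haveI : IsProper (pullback.fst fX fY) := MorphismProperty.pullback_fst (P := @IsProper) _ _ inferInstance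
  have hpush := CycLib.ratEquiv_map (pullback.fst fX fY) hW hX hfst (hrat ζ ζ₀ hζk hζ₀k hcl)
  have hback : AlgebraicCycle.map (pullback.fst fX fY) δW δX ζ₀ = αX := by
    ext x
    rw [AlgebraicCycle.map, Function.locallyFinsupp.map_apply,
      finsum_mem_eq_sum_of_inter_support_eq _ (t := {j x}) (by
        ext w
        constructor
        · rintro ⟨hw, hne⟩
          refine ⟨Finset.mem_coe.2 (Finset.mem_singleton.2 ?_), hne⟩
          by_contra hne'
          refine left_ne_zero_of_mul hne (hmapj0 w fun x' hx' => hne' ?_)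
          rw [← hx', show x' = x by rw [← hfstj x', hx']; exact hw]
        · rintro ⟨hw, hne⟩
          exact ⟨by rw [Finset.mem_singleton.1 (Finset.mem_coe.1 hw)]; exact hfstj x, hne⟩), Finset.sum_singleton, hmapj,
      AlgebraicCycle.mapCoeff, if_pos (show δW (j x) = δX (pullback.fst fX fY (j x)) by rw [hfstj, hδj])]
    have hdeg : (pullback.fst fX fY).residueDegree (j x) = 1 := by
      rw [← CycLib.residueDegree_comp_left j (pullback.fst fX fY) x (CycLib.bijective_residueFieldMap j x),
        CycLib.residueDegree_congr hj1 x, Scheme.Hom.residueDegree_id]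
    rw [hdeg, Nat.cast_one, mul_one]
  rw [hback, show (dX : ℤ) + (k + dX) - ((dX : ℤ) + dY) = k + dX - dY by ring] at hpush
  exact hpush

end Groth.Agent.S12676
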