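import Groth.Statements.S1268
import Groth.Agent.S1202
import Groth.Agent.DevLib.ProjCover
import Groth.Agent.PureCritLib.OpenProj
import Groth.Agent.WLocalLib.Strict

set_option autoImplicit false
set_option linter.style.haveILetI false
set_option backward.isDefEq.respectTransparency false
set_option backward.isDefEq.respectTransparency.types false
set_option maxHeartbeats 1000000
universe u
open FlatMor

namespace Groth.Agent.S1268

open TensorProduct AlgebraicGeometry

attribute [local instance] Algebra.TensorProduct.rightAlgebra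

/-- Avoiding the associated points of the fibres is preserved by base change. -/
theorem avoid_baseChange {A A' S T : Type u} [CommRing A] [CommRing A'] [Algebra A A'] [CommRing S] [CommRing T]
    [Algebra A S] [Algebra A' T] [Algebra.FiniteType A S] [Algebra.FiniteType A' T]
    (M : Type u) [AddCommGroup M] [Module S M] [Module A M] [IsScalarTower A S M]
    (M' : Type u) [AddCommGroup M'] [Module T M'] [Module A' M'] [IsScalarTower A' T M']
    (E : A' ⊗[A] M ≃ₗ[A'] M') (g : S) (g' : T) (hE : ∀ m, E (1 ⊗ₜ[A] (g • m)) = g' • E (1 ⊗ₜ[A] m))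
    (t : Ideal A') [t.IsPrime]
    (h : ∀ P ∈ associatedPrimes ((t.comap (algebraMap A A')).Fiber S) (FlatCA.fiberMod (t.comap (algebraMap A A')) S M),
      CAlgFib.ι (t.comap (algebraMap A A')) g ∉ P) :
    ∀ P ∈ associatedPrimes (t.Fiber T) (FlatCA.fiberMod t T M'), CAlgFib.ι t g' ∉ P := by
  let t₀ := t.comap (algebraMap A A')
  let φ := (LinearMap.lsmul S M g).restrictScalars A
  let φ' := (LinearMap.lsmul T M' g').restrictScalars A'
  letI : Algebra t₀.ResidueField t.ResidueField := (Ideal.ResidueField.map t₀ t (algebraMap A A') rfl).toAlgebra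
  haveI : IsScalarTower A t₀.ResidueField t.ResidueField := .of_algebraMap_eq fun a => by
    rw [RingHom.algebraMap_toAlgebra, Ideal.ResidueField.map_algebraMap, ← IsScalarTower.algebraMap_apply]
  haveI : Module.Free t₀.ResidueField t.ResidueField := Module.Free.of_divisionRing _ _
  haveI : Module.Flat t₀.ResidueField t.ResidueField := Module.Flat.of_free
  have h1 : Function.Injective ((φ.baseChange t₀.ResidueField).lTensor t.ResidueField) :=
    Module.Flat.lTensor_preserves_injective_linearMap _ ((PureCritLib.ass_avoid_iff M g t₀).1 h)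
  have h4 : Function.Injective ((φ.baseChange A').lTensor t.ResidueField) :=
    (PureCritLib.injective_lTensor_baseChange_iff φ).2 ((PureCritLib.injective_lTensor_baseChange_iff φ).1 h1)
  have hc : φ' ∘ₗ E.toLinearMap = E.toLinearMap ∘ₗ φ.baseChange A' := LinearMap.ext fun z => by
    induction z using TensorProduct.induction_on with
    | zero => simp only [map_zero]
    | add u v hu hv => simp only [map_add, hu, hv]
    | tmul a m =>
      rw [show a ⊗ₜ[A] m = a • ((1 : A') ⊗ₜ[A] m) by rw [TensorProduct.smul_tmul', smul_eq_mul, mul_one],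
        map_smul, map_smul]
      exact congrArg (a • ·) (hE m).symm
  refine (PureCritLib.ass_avoid_iff M' g' t).2 ?_
  rw [LinearMap.baseChange_eq_ltensor]
  show Function.Injective (φ'.lTensor t.ResidueField)
  let eK := E.lTensor t.ResidueField
  have hk : ∀ z, φ'.lTensor t.ResidueField (eK z) = eK ((φ.baseChange A').lTensor t.ResidueField z) := fun z => by
    show φ'.lTensor t.ResidueField (E.toLinearMap.lTensor t.ResidueField z) = E.toLinearMap.lTensor t.ResidueField _
    rw [← LinearMap.lTensor_comp_apply, ← LinearMap.lTensor_comp_apply, hc]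
  exact (Function.Injective.of_comp_iff' (φ'.lTensor t.ResidueField) eK.bijective).1 fun a b hab =>
    h4 (eK.injective ((hk a).symm.trans (hab.trans (hk b))))

/-- The pulled-back chart is projective on a basic open. -/
theorem projective_on_open {R S R₁ B S₁ R' S' : Type u} [CommRing R] [CommRing S] [CommRing R₁] [CommRing B] [CommRing S₁]
    [CommRing R'] [CommRing S'] [Algebra R S] [Algebra R R₁] [Algebra R R'] [Algebra R S'] [Algebra R B] [Algebra S B]
    [Algebra R₁ B] [Algebra B S₁] [Algebra R₁ S₁] [Algebra S S₁] [Algebra R₁ R'] [Algebra S S'] [Algebra R' S']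
    [Algebra R₁ S'] [Algebra B S']
    [IsScalarTower R S B] [IsScalarTower R R₁ B] [IsScalarTower R₁ B S₁] [IsScalarTower S B S₁] [IsScalarTower R R₁ R']
    [IsScalarTower R S S'] [IsScalarTower R R' S'] [IsScalarTower R₁ R' S'] [IsScalarTower R₁ B S'] [IsScalarTower S B S']
    [IsScalarTower R R₁ S'] [IsScalarTower R B S']
    [Algebra.IsPushout R S R₁ B] [Algebra.IsPushout R S R' S'] [Algebra.FiniteType R S] [Algebra.Etale B S₁]
    [Algebra.FiniteType R₁ S₁]
    (N N' : Type u) [AddCommGroup N] [Module S N] [Module.Finite S N] [AddCommGroup N'] [Module S' N'] [Module S N']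
    [IsScalarTower S S' N'] (f : N →ₗ[S] N') (hf : IsBaseChange S' f) [Module.Projective R₁ (S₁ ⊗[S] N)]
    (g : B) (hg : ∀ Q : Ideal B, Q.IsPrime → g ∉ Q → ∃ y : Ideal S₁, y.IsPrime ∧ y.comap (algebraMap B S₁) = Q)
    (hav : ∀ (t : Ideal R') [t.IsPrime],
      ∀ P ∈ associatedPrimes ((t.comap (algebraMap R₁ R')).Fiber S₁)
        (FlatCA.fiberMod (t.comap (algebraMap R₁ R')) S₁ (S₁ ⊗[S] N)),
        CAlgFib.ι (t.comap (algebraMap R₁ R')) (algebraMap B S₁ g) ∉ P) :
    Module.Projective R' (Localization.Away (algebraMap B S' g) ⊗[S'] N') := by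
  haveI : Algebra.IsPushout R R' S S' := Algebra.IsPushout.symm inferInstance
  haveI : Algebra.IsPushout R R₁ S B := Algebra.IsPushout.symm inferInstance
  haveI : Algebra.IsPushout R₁ R' B S' :=
    (Algebra.IsPushout.comp_iff (R := R) (S := R₁) (R' := S) (S' := B) (T := R') (T' := S')).1 inferInstance
  haveI : Algebra.IsPushout R₁ B R' S' := Algebra.IsPushout.symm inferInstance
  haveI : Algebra.FiniteType R' S' := Algebra.FiniteType.equiv inferInstance (Algebra.IsPushout.equiv R R' S S')
  haveI : Module.Finite S' N' := Module.Finite.equiv hf.equiv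
  let T := S' ⊗[B] S₁
  haveI : Algebra.IsPushout B S₁ S' T := Algebra.IsPushout.symm inferInstance
  haveI : IsScalarTower B S₁ T := inferInstance
  haveI : IsScalarTower R₁ S' T := inferInstance
  haveI : IsScalarTower R₁ B T := IsScalarTower.of_algebraMap_eq (R := R₁) (S := B) (A := T) fun r => by
    rw [IsScalarTower.algebraMap_apply R₁ S' T, IsScalarTower.algebraMap_apply R₁ B S', ← IsScalarTower.algebraMap_apply B S' T]
  haveI : IsScalarTower R₁ S₁ T := IsScalarTower.of_algebraMap_eq (R := R₁) (S := S₁) (A := T) fun r => by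
    rw [IsScalarTower.algebraMap_apply R₁ B T, IsScalarTower.algebraMap_apply R₁ B S₁, ← IsScalarTower.algebraMap_apply B S₁ T]
  haveI : IsScalarTower R₁ R' T := IsScalarTower.of_algebraMap_eq (R := R₁) (S := R') (A := T) fun r => by
    rw [IsScalarTower.algebraMap_apply R₁ S' T, IsScalarTower.algebraMap_apply R₁ R' S', ← IsScalarTower.algebraMap_apply R' S' T]
  haveI : Algebra.IsPushout R₁ S₁ R' T :=
    (Algebra.IsPushout.comp_iff (R := R₁) (S := B) (R' := R') (S' := S') (T := S₁) (T' := T)).2 inferInstance
  haveI : Algebra.IsPushout R₁ R' S₁ T := Algebra.IsPushout.symm inferInstance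
  haveI : Algebra.Etale S' T := inferInstance
  haveI : Algebra.FiniteType R' T := Algebra.FiniteType.trans ‹Algebra.FiniteType R' S'› (inferInstance : Algebra.FiniteType S' T)
  haveI : IsScalarTower S S₁ T := IsScalarTower.of_algebraMap_eq (R := S) (S := S₁) (A := T) fun r => by
    rw [IsScalarTower.algebraMap_apply S S' T, IsScalarTower.algebraMap_apply S B S', ← IsScalarTower.algebraMap_apply B S' T,
      IsScalarTower.algebraMap_apply S B S₁, ← IsScalarTower.algebraMap_apply B S₁ T]
  haveI : IsScalarTower S T (T ⊗[S'] N') := .of_algebraMap_smul fun b m => by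
    induction m using TensorProduct.induction_on with
    | zero => simp
    | add u v hu hv => simp only [smul_add, hu, hv]
    | tmul c m => rw [TensorProduct.smul_tmul', TensorProduct.smul_tmul', algebraMap_smul]
  let M := S₁ ⊗[S] N
  let e₁ : T ⊗[S₁] M ≃ₗ[R'] R' ⊗[R₁] M := Algebra.IsPushout.cancelBaseChange R₁ R' S₁ T M
  let e₂ : T ⊗[S₁] M ≃ₗ[T] T ⊗[S'] N' :=
    (AlgebraTensorModule.cancelBaseChange S S₁ T T N).trans (hf.comp (TensorProduct.isBaseChange S' N' T)).equiv
  let E : R' ⊗[R₁] M ≃ₗ[R'] T ⊗[S'] N' := e₁.symm.trans (e₂.restrictScalars R')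
  have hE1 : ∀ m : M, E ((1 : R') ⊗ₜ[R₁] m) = e₂ ((1 : T) ⊗ₜ[S₁] m) := fun m => by
    refine congrArg e₂ ?_
    exact (Algebra.IsPushout.cancelBaseChangeAux_symm_tmul R₁ R' S₁ T M (1 : R') m).trans (by rw [map_one])
  have hgT : algebraMap S' T (algebraMap B S' g) = algebraMap S₁ T (algebraMap B S₁ g) := by
    rw [← IsScalarTower.algebraMap_apply, ← IsScalarTower.algebraMap_apply]
  haveI : Module.Projective R' (T ⊗[S'] N') := Module.Projective.of_equiv E
  refine PureCritLib.projective_away (A := R') (C := T) N' (algebraMap B S' g) ?_ ?_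
  · intro Q hQ hgQ
    obtain ⟨y, hy, hyQ⟩ := hg (Q.comap (algebraMap B S')) inferInstance hgQ
    obtain ⟨P, hP, -⟩ := WLocalLib.exists_prime_tensor (A := B) (B := S') (C := S₁) ⟨Q, hQ⟩ ⟨y, hy⟩
      (PrimeSpectrum.ext hyQ.symm)
    exact ⟨P.asIdeal, P.2, congrArg PrimeSpectrum.asIdeal hP⟩
  · intro t _
    refine avoid_baseChange M (T ⊗[S'] N') E (algebraMap B S₁ g) _ (fun m => ?_) t (hav t)
    rw [hE1, hE1, hgT, TensorProduct.tmul_smul, ← algebraMap_smul T (algebraMap B S₁ g) ((1 : T) ⊗ₜ[S₁] m), map_smul]


open AlgebraicGeometry CategoryTheory TensorProduct in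
/-- Ring form, X = Spec S and S = Spec R affine: let S be a finitely presented R-algebra, N a finitely
presented S-module and q a prime of S over p with N_q flat over R. Then there is an étale R-algebra
R' with a prime p' over p having the same residue field such that, for the base changes S', N' of S,
N to R' (any models), there is an S'-algebra C with Spec C → Spec S' an open immersion (an affine
open U' of X ×_S S'), containing a point lying over both q and p' (there is exactly one such point
of X ×_S S'), such that C ⊗_{S'} N' (the sections of the pulled-back module over U') is a projective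
R'-module. -/
theorem result {R S : Type u} [CommRing R] [CommRing S] [Algebra R S] [Algebra.FinitePresentation R S]
    (N : Type u) [AddCommGroup N] [Module S N] [Module R N] [IsScalarTower R S N] [Module.FinitePresentation S N]
    (p : Ideal R) [p.IsPrime] (q : Ideal S) [q.IsPrime] [q.LiesOver p] (hflat : FlatCA.FlatAt R q N) :
    ∃ (R' : Type u) (_ : CommRing R') (_ : Algebra R R') (p' : Ideal R') (_ : p'.IsPrime), FlatCA.IsEtaleNhd R R' p p' ∧
      ∀ (S' N' : Type u) [CommRing S'] [Algebra R S'] [Algebra S S'] [Algebra R' S'] [IsScalarTower R S S'] [IsScalarTower R R' S']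
        [Algebra.IsPushout R S R' S']
        [AddCommGroup N'] [Module S' N'] [Module S N'] [IsScalarTower S S' N']
        (f : N →ₗ[S] N'), IsBaseChange S' f →
        ∃ (C : Type u) (_ : CommRing C) (_ : Algebra S' C) (_ : Algebra R' C) (_ : IsScalarTower R' S' C)
          (x' : Ideal C) (_ : x'.IsPrime),
          IsOpenImmersion (Spec.map (CommRingCat.ofHom (algebraMap S' C))) ∧
          (x'.comap (algebraMap S' C)).LiesOver q ∧ (x'.comap (algebraMap S' C)).LiesOver p' ∧
          Module.Projective R' (RestrictScalars R' C (C ⊗[S'] N')) := by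
  obtain ⟨R₁, S₁, _, _, _, _, _, _, _, _, p₁, q₁, hp₁, hq₁, hR₁, hS₁, hq₁p, hproj⟩ := S1202.result N p q hflat
  haveI := hp₁
  haveI := hq₁
  haveI := hq₁p
  haveI : Module.Projective R₁ (S₁ ⊗[S] N) := DevLib.projective_restrictScalars.1 hproj
  obtain ⟨hR₁e, hp₁p, -⟩ := id hR₁
  obtain ⟨hS₁e, hq₁q, -⟩ := id hS₁
  haveI := hR₁e
  haveI := hS₁e
  haveI : Algebra.FinitePresentation R S₁ := Algebra.FinitePresentation.trans R S S₁
  haveI : Algebra.FinitePresentation R₁ S₁ := Algebra.FinitePresentation.of_restrict_scalars_finitePresentation R R₁ S₁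
  let B := R₁ ⊗[R] S
  letI : Algebra B S₁ := (Algebra.TensorProduct.lift (IsScalarTower.toAlgHom R R₁ S₁) (IsScalarTower.toAlgHom R S S₁)
    fun _ _ => Commute.all _ _).toRingHom.toAlgebra
  haveI : IsScalarTower R₁ B S₁ := .of_algebraMap_eq fun r => by simp [RingHom.algebraMap_toAlgebra, B]
  haveI : IsScalarTower S B S₁ := .of_algebraMap_eq fun s => by simp [RingHom.algebraMap_toAlgebra, B]
  haveI : Algebra.Etale S B := Algebra.Etale.of_equiv (Algebra.TensorProduct.commRight R S R₁)
  haveI : Algebra.Etale B S₁ := Algebra.Etale.of_restrictScalars S B S₁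
  haveI : Algebra.IsPushout R S R₁ B := Algebra.IsPushout.symm inferInstance
  obtain ⟨g, hgx, hgQ, havoid⟩ := PureCritLib.exists_avoid (A := R₁) (SA := B) (C := S₁) (S₁ ⊗[S] N) p₁
    (q₁.comap (algebraMap B S₁)) ⟨q₁, hq₁, rfl⟩
  obtain ⟨a, hap, hE⟩ := PureCritLib.exists_basicOpen_subset
    (PureCritLib.isConstructible_assAvoid (A := R₁) (S₁ ⊗[S] N) ![algebraMap B S₁ g]) p₁ fun t htp P hP =>
      ⟨0, PureCritLib.avoid_generisation (S₁ ⊗[S] N) (algebraMap B S₁ g) p₁ havoid t.asIdeal htp P hP⟩
  have hd : Disjoint (Submonoid.powers a : Set R₁) p₁ := (Ideal.disjoint_powers_iff_notMem a hp₁.isRadical).2 hap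
  let p' : Ideal (Localization.Away a) := p₁.map (algebraMap R₁ (Localization.Away a))
  haveI : p'.IsPrime := IsLocalization.isPrime_of_isPrime_disjoint (Submonoid.powers a) _ p₁ inferInstance hd
  haveI : p'.LiesOver p₁ := IsLocalization.liesOver_map_of_isPrime_disjoint (Submonoid.powers a) _ hd
  refine ⟨Localization.Away a, inferInstance, inferInstance, p', inferInstance,
    DevLib.isEtaleNhd_trans hR₁ (DevLib.isEtaleNhd_away a p₁ hap p'), ?_⟩
  intro S' N' _ _ _ _ _ _ _ _ _ _ _ f hf
  letI : Algebra R₁ S' := ((algebraMap (Localization.Away a) S').comp (algebraMap R₁ (Localization.Away a))).toAlgebra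
  haveI : IsScalarTower R₁ (Localization.Away a) S' := .of_algebraMap_eq' rfl
  haveI : IsScalarTower R R₁ S' := IsScalarTower.of_algebraMap_eq (R := R) (S := R₁) (A := S') fun r => by
    rw [IsScalarTower.algebraMap_apply R₁ (Localization.Away a) S', ← IsScalarTower.algebraMap_apply R R₁,
      ← IsScalarTower.algebraMap_apply R (Localization.Away a) S']
  letI : Algebra B S' := (Algebra.TensorProduct.lift (IsScalarTower.toAlgHom R R₁ S') (IsScalarTower.toAlgHom R S S')
    fun _ _ => Commute.all _ _).toRingHom.toAlgebra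
  haveI : IsScalarTower R₁ B S' := .of_algebraMap_eq fun r => by simp [RingHom.algebraMap_toAlgebra, B]
  haveI : IsScalarTower S B S' := .of_algebraMap_eq fun s => by simp [RingHom.algebraMap_toAlgebra, B]
  haveI : IsScalarTower R B S' := IsScalarTower.of_algebraMap_eq (R := R) (S := B) (A := S') fun r => by
    rw [IsScalarTower.algebraMap_apply R R₁ B, ← IsScalarTower.algebraMap_apply R₁ B S', ← IsScalarTower.algebraMap_apply R R₁ S']
  haveI : Algebra.IsPushout R (Localization.Away a) S S' := Algebra.IsPushout.symm inferInstance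
  haveI : Algebra.IsPushout R R₁ S B := inferInstance
  haveI : Algebra.IsPushout R₁ (Localization.Away a) B S' :=
    (Algebra.IsPushout.comp_iff (R := R) (S := R₁) (R' := S) (S' := B) (T := Localization.Away a) (T' := S')).1 inferInstance
  have hP := projective_on_open (R := R) (S := S) (S' := S') (R₁ := R₁) (B := B) (S₁ := S₁) (R' := Localization.Away a) N N' f hf g hgQ ?_
  · obtain ⟨Y, hYp, hYx⟩ := WLocalLib.exists_prime_tensor (A := R₁) (B := Localization.Away a) (C := B)
      ⟨p', inferInstance⟩ ⟨q₁.comap (algebraMap B S₁), inferInstance⟩ (PrimeSpectrum.ext (by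
        show p'.comap _ = (q₁.comap (algebraMap B S₁)).comap (algebraMap R₁ B)
        rw [Ideal.comap_comap, ← IsScalarTower.algebraMap_eq]
        exact (p'.over_def p₁).symm.trans (q₁.over_def p₁)))
    let e := Algebra.IsPushout.equiv R₁ (Localization.Away a) B S'
    let x : Ideal S' := Y.asIdeal.comap e.symm.toRingEquiv.toRingHom
    have hxB : x.comap (algebraMap B S') = q₁.comap (algebraMap B S₁) := by
      refine Eq.trans ?_ (congrArg PrimeSpectrum.asIdeal hYx)
      show (Y.asIdeal.comap e.symm.toRingEquiv.toRingHom).comap (algebraMap B S') = Y.asIdeal.comap _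
      rw [Ideal.comap_comap]
      congr 1
      refine RingHom.ext fun b => ?_
      show e.symm (algebraMap B S' b) = (1 : Localization.Away a) ⊗ₜ[R₁] b
      rw [AlgEquiv.symm_apply_eq]
      simp [e, Algebra.IsPushout.equiv_tmul]
    have hxp : x.comap (algebraMap (Localization.Away a) S') = p' := by
      refine Eq.trans ?_ (congrArg PrimeSpectrum.asIdeal hYp)
      show (Y.asIdeal.comap e.symm.toRingEquiv.toRingHom).comap (algebraMap (Localization.Away a) S') = Y.asIdeal.comap _
      rw [Ideal.comap_comap]
      congr 1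
      exact RingHom.ext fun b => e.symm.commutes b
    have hxq : x.comap (algebraMap S S') = q := by
      rw [IsScalarTower.algebraMap_eq S B S', ← Ideal.comap_comap, hxB, Ideal.comap_comap, ← IsScalarTower.algebraMap_eq]
      exact hq₁q.over.symm
    let g' := algebraMap B S' g
    have hg' : g' ∉ x := fun hm => hgx (hxB.le hm)
    have hd' : Disjoint (Submonoid.powers g' : Set S') x :=
      (Ideal.disjoint_powers_iff_notMem g' (inferInstance : x.IsPrime).isRadical).2 hg'
    haveI := IsLocalization.liesOver_map_of_isPrime_disjoint (Submonoid.powers g') (Localization.Away g') hd'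
    have hc : (x.map (algebraMap S' (Localization.Away g'))).comap (algebraMap S' (Localization.Away g')) = x :=
      ((x.map (algebraMap S' (Localization.Away g'))).over_def x).symm
    refine ⟨Localization.Away g', inferInstance, inferInstance, inferInstance, inferInstance,
      x.map (algebraMap S' (Localization.Away g')),
      IsLocalization.isPrime_of_isPrime_disjoint (Submonoid.powers g') _ x inferInstance hd',
      IsOpenImmersion.of_isLocalization g', ⟨?_⟩, ⟨?_⟩, DevLib.projective_restrictScalars.2 hP⟩
    · rw [hc, Ideal.under_def, hxq]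
    · rw [hc, Ideal.under_def, hxp]
  · intro t _ P hP
    have hat : a ∉ t.comap (algebraMap R₁ (Localization.Away a)) := fun hm =>
      ‹t.IsPrime›.ne_top (Ideal.eq_top_of_isUnit_mem _ hm (IsLocalization.Away.algebraMap_isUnit a))
    obtain ⟨j, hj⟩ := hE ⟨t.comap (algebraMap R₁ (Localization.Away a)), inferInstance⟩ hat P hP
    simpa using hj

end Groth.Agent.S1268
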