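import Groth.Statements.S12687
import Groth.Agent.ProjFPLib.Basic
import Groth.Agent.ProjQuotLib.Basic
import Groth.Agent.RelTildeLib.Basic
import Groth.Agent.RelAmpleTwistLib.Basic
import Groth.Agent.RelProjLib.OfHom
import Groth.Agent.RelProjLib.Basic
import Groth.Agent.PullbackMod.Props
-- import your own Groth.Agent.* helpers here

set_option autoImplicit false
universe u
open CategoryTheory CategoryTheory.Limits AlgebraicGeometry TopologicalSpace Opposite
open scoped HomogeneousIdeal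
noncomputable section
open Divisors

namespace Groth.Agent.S12687

/-- Let S be a scheme, 𝒜 a quasi-coherent graded O_S-algebra which is a finitely presented O_S-algebra
(over every affine open U, 𝒜(U) is a finitely presented algebra over Γ(U, O_S)), and p : P = Proj(𝒜)
→ S its relative homogeneous spectrum, given with its charts. Then p is of finite presentation
(locally of finite presentation, quasi-compact and quasi-separated), and for every integer d the
twisting module O_P(d) (given with its chart identifications) is an O_P-module of finite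
presentation. -/
theorem result {S P : Scheme.{u}} (𝒜 : RelProj.QCGrAlg S)
    (hfp : ∀ (U : S.Opens), IsAffineOpen U → RingHom.FinitePresentation (𝒜.str.app (op U)).hom)
    (p : P ⟶ S) (chart : ∀ (U : S.Opens) (hU : IsAffineOpen U), (((p ⁻¹ᵁ U : P.Opens) : Scheme.{u}) ≅ Proj (𝒜.deg U hU))) (hP : RelProj.IsRelProj 𝒜 p chart) :
    (LocallyOfFinitePresentation p ∧ QuasiCompact p ∧ QuasiSeparated p) ∧
      ∀ (d : ℤ) (Od : P.Modules)
        (lam : ∀ (U : S.Opens) (hU : IsAffineOpen U),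
          Od ⟶ (Scheme.Modules.pushforward (RelProj.emb p chart U hU)).obj (GrTwist.twist (𝒜.deg U hU) d)),
        RelProj.IsRelTwist 𝒜 p chart d Od lam → CohB1.IsFP Od := by
  classical
  have hchart : ∀ (U : S.Opens) (hU : IsAffineOpen U) (d : ℕ) (hd : 0 < d) (f : 𝒜.presheaf.obj (op U))
      (hf : f ∈ 𝒜.deg U hU d),
      (Proj.awayι (𝒜.deg U hU) f hf hd ≫ RelProj.emb p chart U hU) ≫ p =
        Spec.map (𝒜.strZero U hU ≫ CommRingCat.ofHom (HomogeneousLocalization.fromZeroRingHom (𝒜.deg U hU)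
          (Submonoid.powers f))) ≫ hU.fromSpec := by
    intro U hU d hd f hf
    rw [Category.assoc, RelProj.emb, Category.assoc, ← hP.chart_over U hU, Iso.inv_hom_id_assoc,
      Proj.awayι_toSpecZero_assoc, Spec.map_comp, Category.assoc]
  let κ := Σ (U : S.affineOpens) (d : {d : ℕ // 0 < d}), 𝒜.deg U.1 U.2 d.1
  have hloc : LocallyOfFinitePresentation p := by
    refine (IsZariskiLocalAtSource.iff_of_openCover (P := @LocallyOfFinitePresentation)
      (Scheme.Cover.mkOfCovers (P := @IsOpenImmersion) κ _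
      (fun k => Proj.awayι (𝒜.deg k.1.1 k.1.2) (k.2.2 : 𝒜.presheaf.obj (op k.1.1)) k.2.2.2 k.2.1.2 ≫
        RelProj.emb p chart k.1.1 k.1.2) (fun x => by
          obtain ⟨k, hk⟩ := Opens.mem_iSup.mp
            ((Groth.Agent.RelProjLib.QMap.iSup_chartRange hP).ge (show x ∈ (⊤ : P.Opens) from trivial))
          exact ⟨k, hk⟩) (fun k => inferInstance))).2 fun k => ?_
    obtain ⟨⟨U, hU⟩, ⟨d, hd⟩, f, hf⟩ := k
    show LocallyOfFinitePresentation ((Proj.awayι (𝒜.deg U hU) f hf hd ≫ RelProj.emb p chart U hU) ≫ p)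
    rw [hchart U hU d hd f hf]
    haveI : LocallyOfFinitePresentation (Spec.map (𝒜.strZero U hU ≫ CommRingCat.ofHom
        (HomogeneousLocalization.fromZeroRingHom (𝒜.deg U hU) (Submonoid.powers f)))) := by
      rw [HasRingHomProperty.Spec_iff (P := @LocallyOfFinitePresentation)]
      letI := (𝒜.str.app (op U)).hom.toAlgebra
      haveI : Algebra.FinitePresentation Γ(S, U) (𝒜.presheaf.obj (op U)) := hfp U hU
      exact (Groth.Agent.ProjFPLib.finitePresentation_away (R := Γ(S, U)) (𝒜 := 𝒜.deg U hU)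
        (fun r => 𝒜.str_mem U hU r) hd hf).1
    infer_instance
  haveI : IsSeparated p := Groth.Agent.RelProjLib.of_charts hP @IsSeparated fun U hU => inferInstance
  have hqc : QuasiCompact p := Groth.Agent.RelProjLib.of_charts hP @QuasiCompact fun U hU => by
    letI := (𝒜.str.app (op U)).hom.toAlgebra
    haveI : Algebra.FinitePresentation Γ(S, U) (𝒜.presheaf.obj (op U)) := hfp U hU
    obtain ⟨T, hT, hcov⟩ := Groth.Agent.RelAmpleTwistLib.exists_finite_cover (𝒜 := 𝒜.deg U hU)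
      (𝒜.str.app (op U)).hom (fun r => 𝒜.str_mem U hU r) (RingHom.FiniteType.of_finitePresentation (hfp U hU))
    haveI := Groth.Agent.RelAmpleTwistLib.compactSpace_of_finset T hT hcov
    exact quasiCompact_of_compactSpace _
  refine ⟨⟨hloc, hqc, inferInstance⟩, fun n Od lam hL => ?_⟩
  haveI hq : Coh.IsQCoh Od := Groth.Agent.RelTildeLib.isQCoh_of_charts hL.bijective fun U hU =>
    Groth.Agent.GrModLib.isQCoh_twist (𝒜.deg U hU) n
  refine Groth.Agent.PullbackMod.isFP_of_finitePresentation Od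
    (fun k : κ => RelProj.emb p chart k.1.1 k.1.2 ''ᵁ Proj.basicOpen (𝒜.deg k.1.1 k.1.2) (k.2.2 : 𝒜.presheaf.obj (op k.1.1)))
    (fun k => (Proj.isAffineOpen_basicOpen _ _ k.2.2.2 k.2.1.2).image_of_isOpenImmersion _) ?_ ?_
  · refine top_le_iff.mp fun x hx => ?_
    obtain ⟨k, hk⟩ := Opens.mem_iSup.mp ((Groth.Agent.RelProjLib.QMap.iSup_chartRange hP).ge hx)
    obtain ⟨w, hw⟩ := hk
    exact Opens.mem_iSup.mpr ⟨k, _, (Proj.opensRange_awayι _ _ k.2.2.2 k.2.1.2).le ⟨w, rfl⟩, hw⟩
  rintro ⟨⟨U, hU⟩, ⟨d, hd⟩, f, hf⟩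
  set e := RelProj.emb p chart U hU with he
  set W : P.Opens := e ''ᵁ Proj.basicOpen (𝒜.deg U hU) f with hWdef
  show Module.FinitePresentation Γ(P, W) Γ(Od, W)
  have hWp : W ≤ p ⁻¹ᵁ U :=
    (e.image_le_opensRange _).trans (Groth.Agent.RelTildeLib.opensRange_emb U hU).le
  have hpre : e ⁻¹ᵁ W = Proj.basicOpen (𝒜.deg U hU) f := e.preimage_image_eq _
  letI := (𝒜.str.app (op U)).hom.toAlgebra
  haveI : Algebra.FinitePresentation Γ(S, U) (𝒜.presheaf.obj (op U)) := hfp U hU
  have hB := (Groth.Agent.ProjFPLib.finitePresentation_away (R := Γ(S, U)) (𝒜 := 𝒜.deg U hU)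
    (fun r => 𝒜.str_mem U hU r) hd hf).2
  let G := Groth.Agent.GrModLib.twistToTilde (𝒜.deg U hU) n
  -- `A_(f) → Γ(P, W)`
  haveI := e.isIso_app W (e.image_le_opensRange _)
  haveI : IsIso (Proj.awayToSection (𝒜.deg U hU) f) :=
    (Proj.basicOpenIsoAway (𝒜.deg U hU) f hf hd).isIso_hom
  let α : CommRingCat.of (HomogeneousLocalization.Away (𝒜.deg U hU) f) ⟶ Γ(Proj (𝒜.deg U hU), e ⁻¹ᵁ W) :=
    Proj.awayToSection (𝒜.deg U hU) f ≫ (Proj (𝒜.deg U hU)).presheaf.map (eqToHom hpre).op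
  let σ : CommRingCat.of (HomogeneousLocalization.Away (𝒜.deg U hU) f) ⟶ Γ(P, W) := α ≫ inv (e.app W)
  letI := σ.hom.toAlgebra
  letI := Module.compHom Γ(Od, W) σ.hom
  haveI : IsScalarTower (HomogeneousLocalization.Away (𝒜.deg U hU) f) Γ(P, W) Γ(Od, W) :=
    .of_algebraMap_smul fun _ _ => rfl
  letI := Module.compHom Γ(GrMod.tilde (𝒜.deg U hU) (𝒜.deg U hU) n, e ⁻¹ᵁ W) α.hom
  haveI := Groth.Agent.ProjFPLib.finitePresentation_sections (𝒜 := 𝒜.deg U hU) (n := n) hd hf hpre
    (fun c s x => Groth.Agent.GrModLib.valAt_smul (α.hom c) s x) hB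
  let ψ : Γ(Od, W) →ₗ[HomogeneousLocalization.Away (𝒜.deg U hU) f]
      Γ(GrMod.tilde (𝒜.deg U hU) (𝒜.deg U hU) n, e ⁻¹ᵁ W) :=
    { toFun := fun s => G.app (e ⁻¹ᵁ W) ((lam U hU).app W s)
      map_add' := fun a b => by rw [map_add]; exact map_add _ _ _
      map_smul' := fun c s => by
        refine Eq.trans (congrArg (G.app (e ⁻¹ᵁ W)) (Scheme.Modules.Hom.app_smul (lam U hU) (σ.hom c) s)) ?_
        refine Eq.trans (Scheme.Modules.Hom.app_smul G (e.app W (σ.hom c)) _) ?_
        refine congrArg (fun r : Γ(Proj (𝒜.deg U hU), e ⁻¹ᵁ W) => r • (G.app (e ⁻¹ᵁ W) ((lam U hU).app W s) :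
          Γ(GrMod.tilde (𝒜.deg U hU) (𝒜.deg U hU) n, e ⁻¹ᵁ W))) ?_
        show (α ≫ inv (e.app W) ≫ e.app W) c = α c
        rw [IsIso.inv_hom_id, Category.comp_id] }
  haveI : Module.FinitePresentation (HomogeneousLocalization.Away (𝒜.deg U hU) f) Γ(Od, W) :=
    Module.FinitePresentation.of_equiv (LinearEquiv.ofBijective ψ
      ((ConcreteCategory.bijective_of_isIso (G.app (e ⁻¹ᵁ W))).comp (hL.bijective U hU W hWp))).symm
  exact Groth.Agent.ProjFPLib.moduleFP_of_surjective (HomogeneousLocalization.Away (𝒜.deg U hU) f) Γ(P, W) Γ(Od, W)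
    (ConcreteCategory.bijective_of_isIso σ).2

end Groth.Agent.S12687
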