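import Groth.Statements.S12688
import Groth.Agent.ProjBundleLib.FTSub
import Groth.Agent.ProjBundleLib.Projective
import Groth.Agent.ProjBundleLib.QMapCanon

set_option autoImplicit false
universe u
open CategoryTheory CategoryTheory.Limits AlgebraicGeometry TopologicalSpace Opposite
open scoped HomogeneousIdeal
noncomputable section
open EGA2

namespace Groth.Agent.S12688

/-- Let Y be a scheme which is either quasi-compact and separated or has Noetherian underlying space, q
: X → Y a morphism of finite type, L an invertible O_X-module with graded symmetric algebra 𝒮L =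
⊕_{n≥0} L^{⊗n} (whose relative Proj PL, given with its charts, is identified with X by its structure
morphism). If L is very ample relative to q, then there are a quasi-coherent O_Y-module E of finite
type with an injective map ι : E → q_*L, its graded symmetric algebra 𝒯 = Sym(E) (structure map jE),
and the graded q-morphism u : 𝒯 → q_*𝒮L extending ι (adjoint to Sym(φ) for φ : q^*E → L the
restriction of the canonical map q^*q_*L → L), such that φ is surjective — every point of X has an
affine neighbourhood V over which the image of a single section of E generates L — and, for the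
projective bundle P(E) = Proj(𝒯) → Y (with its charts) and the induced r = r_{L,φ} : G(φ) → P(E), r
is everywhere defined (G(φ) is all of PL) and an immersion. (The published statement reads 'coherent
of finite type' for E; over an affine base whose ring is not coherent, with q the identity and L
trivial, the only possible E is O_Y itself, which is not coherent, while the published proof,
through the finite-type criterion for immersions, yields E quasi-coherent of finite type, which is
what this row asserts.) -/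
theorem result {X Y PL : Scheme.{u}}
    (hYs : (CompactSpace Y ∧ Y.IsSeparated) ∨ NoetherianSpace Y) (q : X ⟶ Y) [QuasiCompact q] [LocallyOfFiniteType q]
    (L : X.Modules) (hL : PicF.IsInvertible L) (hLq : Coh.IsQCoh L)
    (𝒮L : RelProj.QCGrAlg X) (jL : L ⟶ 𝒮L.toModule) (hjL : RelProj.IsGrSymAlg L 𝒮L jL)
    (pL : PL ⟶ X) (chartL : ∀ (U : X.Opens) (hU : IsAffineOpen U), (((pL ⁻¹ᵁ U : PL.Opens) : Scheme.{u}) ≅ Proj (𝒮L.deg U hU)))
    (hPL : RelProj.IsRelProj 𝒮L pL chartL)
    (h : RelProj.IsRelVeryAmple q L) :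
    ∃ (E : Y.Modules) (_ : Coh.IsQCoh E) (_ : CohB1.IsFT E) (ι : E ⟶ (Scheme.Modules.pushforward q).obj L)
      (_ : ∀ U : Y.Opens, Function.Injective (ι.app U))
      (𝒯 : RelProj.QCGrAlg Y) (jE : E ⟶ 𝒯.toModule) (_ : RelProj.IsGrSymAlg E 𝒯 jE)
      (u : RelProj.QGrHom q 𝒯 𝒮L)
      (_ : ∀ (U : Y.Opens) (x : Γ(E, U)), (u.app U).hom ((jE.app U) x) = (jL.app (q ⁻¹ᵁ U)) ((ι.app U) x)),
      (∀ x : X, ∃ (U : Y.Opens) (hU : IsAffineOpen U) (e : Γ(E, U)) (V : X.Opens) (hV : IsAffineOpen V)
          (hVU : V ≤ q ⁻¹ᵁ U), x ∈ V ∧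
            ((𝒮L.deg V hV 1 : AddSubgroup (𝒮L.presheaf.obj (op V))) : Set (𝒮L.presheaf.obj (op V))) ⊆
              (Ideal.span {(u.appLE U V hVU).hom ((jE.app U) e)} : Set (𝒮L.presheaf.obj (op V)))) ∧
      ∀ (P : Scheme.{u}) (p : P ⟶ Y)
          (chart : ∀ (U : Y.Opens) (hU : IsAffineOpen U), (((p ⁻¹ᵁ U : P.Opens) : Scheme.{u}) ≅ Proj (𝒯.deg U hU)))
          (_ : RelProj.IsRelProj 𝒯 p chart)
          (r : ((RelProj.domQ u pL chartL : PL.Opens) : Scheme.{u}) ⟶ P)
          (_ : RelProj.IsProjQMapOn u p chart pL chartL (RelProj.domQ u pL chartL) r),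
        RelProj.domQ u pL chartL = ⊤ ∧ IsImmersion r := by
  obtain ⟨hc, hs⟩ : CompactSpace Y ∧ QuasiSeparatedSpace Y := by
    rcases hYs with ⟨hc, hs⟩ | hn
    · exact ⟨hc, inferInstance⟩
    · haveI := hn; exact ⟨inferInstance, inferInstance⟩
  haveI := hc
  haveI := hs
  haveI := Groth.Agent.InvExt.isQCoh_of_isInvertible hL
  haveI := Groth.Agent.ProjBundleLib.isSeparated_of_isRelVeryAmple h
  obtain ⟨E, ι, hE, hft, hinj, hG, himm⟩ := Groth.Agent.ProjBundleLib.exists_ft_sub hL h
  obtain ⟨𝒯, jE, hjE⟩ := Groth.Agent.ProjBundleLib.exists_isGrSymAlg hE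
  obtain ⟨u, hu⟩ := Groth.Agent.ProjBundleLib.exists_qGrHom hE hjE hjL.2 ι
  refine ⟨E, hE, hft, ι, hinj, 𝒯, jE, hjE, u, hu, fun x => ?_, fun P p chart hP r hr => ?_⟩
  · obtain ⟨_, ⟨U, hU, rfl⟩, hxU, -⟩ :=
      Y.isBasis_affineOpens.exists_subset_of_mem_open (Set.mem_univ (q x)) isOpen_univ
    obtain ⟨e, he⟩ := hG.affine hE hL x U hU hxU
    obtain ⟨W₀, ε₀, hxW₀, hε₀⟩ := Groth.Agent.ParaFLib.exists_gen_nhd hL x
    obtain ⟨_, ⟨W, hW, rfl⟩, hxW, hWle⟩ :=
      X.isBasis_affineOpens.exists_subset_of_mem_open (show x ∈ q ⁻¹ᵁ U ⊓ W₀ from ⟨hxU, hxW₀⟩) (q ⁻¹ᵁ U ⊓ W₀).2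
    have hWU : W ≤ q ⁻¹ᵁ U := hWle.trans (fun _ h => h.1)
    have hW0 : W ≤ W₀ := hWle.trans (fun _ h => h.2)
    have hε := hε₀.res hW0
    obtain ⟨d, hd⟩ := (Groth.Agent.RelSpecLib.bijective_smul_of_gen hε).2 (L.presheaf.map (homOfLE hWU).op (ι.app U e))
    have hud : IsUnit (X.presheaf.germ W x hxW d) := by
      rw [← Groth.Agent.AmpleLib.bijective_smul_iff (hε.bijective_germ x hxW)]
      have h1 : Groth.Agent.ProjBundleLib.germφ ι x hxU e = X.presheaf.germ W x hxW d •
          L.presheaf.germ W x hxW (L.presheaf.map (homOfLE hW0).op ε₀) := by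
        refine Eq.trans ?_ (Groth.Agent.ParaFLib.germ_smul' x hxW _ _)
        refine Eq.trans ?_ (congrArg (L.presheaf.germ W x hxW) hd.symm)
        exact (TopCat.Presheaf.germ_res_apply L.presheaf (homOfLE hWU) x hxW _).symm
      rw [← h1]
      exact he
    let Q := X.basicOpen d
    have hQ : IsAffineOpen Q := hW.basicOpen d
    have hQW : Q ≤ W := X.basicOpen_le d
    have hgen := (hε.res hQW).smul (RingedSpace.isUnit_res_basicOpen X.toRingedSpace d)
    refine ⟨U, hU, e, Q, hQ, hQW.trans hWU, (Scheme.mem_basicOpen _ d x hxW).2 hud, fun a ha => ?_⟩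
    obtain ⟨c, hc, -⟩ := Groth.Agent.RelSpecLib.existsUnique_coeff hQ hjL hgen ha
    rw [← hc, pow_one]
    refine Ideal.mul_mem_left _ _ (Ideal.subset_span ?_)
    show _ = (𝒮L.presheaf.map (homOfLE (hQW.trans hWU)).op).hom ((u.app U).hom ((jE.app U) e))
    rw [hu]
    refine Eq.trans ?_ (Groth.Agent.RelSpecLib.res_jsec 𝒮L.toQCAlg jL (hQW.trans hWU) (ι.app U e)).symm
    refine congrArg (Groth.Agent.RelSpecLib.jsec 𝒮L.toQCAlg jL) ?_
    rw [← Groth.Agent.ParaFLib.res_res hWU hQW, ← hd]
    exact (L.map_smul (homOfLE hQW) d _).symm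
  · exact Groth.Agent.ProjBundleLib.isImmersion_qmap hL hjL hPL hjE u hu hP hE hG r hr
      fun O1 φ D k hk => himm D k hk

end Groth.Agent.S12688
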