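import Groth.Statements.S12689
import Groth.Agent.ProjBundleLib.QMapGens
import Groth.Agent.ProjBundleLib.FTSubGen
import Groth.Agent.ProjBundleLib.Projective

set_option autoImplicit false
universe u
open CategoryTheory CategoryTheory.Limits AlgebraicGeometry TopologicalSpace Opposite
open scoped HomogeneousIdeal
noncomputable section
open EGA2

namespace Groth.Agent.S12689

/-- Let Y be a scheme which is either quasi-compact and separated or has Noetherian underlying space, q
: X → Y a morphism of finite type, L an invertible O_X-module with graded symmetric algebra 𝒮L =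
⊕_{n≥0} L^{⊗n} (whose relative Proj PL, given with its charts, is identified with X by its structure
morphism), F a quasi-coherent O_Y-module with graded symmetric algebra 𝒯 = Sym(F) (structure map jF)
and projective bundle P = P(F) = Proj(𝒯) → Y given with its charts, u : 𝒯 → q_*𝒮L a graded
q-morphism — adjoint to Sym(φ) for the homomorphism φ : q^*F → L it determines in degree one — with
φ surjective (every point of X has an affine neighbourhood V over which the image of a single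
section of F generates L), and r = r_{L,φ} : G(φ) → P the induced morphism on its open of definition
G(φ) ⊆ PL (which is all of PL, φ being surjective). Then r is an immersion if and only if there are
a quasi-coherent O_Y-module E of finite type with an injective map ι : E → F, its graded symmetric
algebra 𝒯' = Sym(E) (structure map jE) and the graded q-morphism u' : 𝒯' → q_*𝒮L obtained from u
through Sym(ι), such that the corresponding φ' : q^*E → L is surjective (in the same stalkwise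
sense) and, for the projective bundle P(E) = Proj(𝒯') → Y (with its charts) and the induced r' =
r_{L,φ'} : G(φ') → P(E), r' is everywhere defined and an immersion. -/
theorem result {X Y P PL : Scheme.{u}}
    (hYs : (CompactSpace Y ∧ Y.IsSeparated) ∨ NoetherianSpace Y) (q : X ⟶ Y) [QuasiCompact q] [LocallyOfFiniteType q]
    (L : X.Modules) (hL : PicF.IsInvertible L) (hLq : Coh.IsQCoh L)
    (𝒮L : RelProj.QCGrAlg X) (jL : L ⟶ 𝒮L.toModule) (hjL : RelProj.IsGrSymAlg L 𝒮L jL)
    (pL : PL ⟶ X) (chartL : ∀ (U : X.Opens) (hU : IsAffineOpen U), (((pL ⁻¹ᵁ U : PL.Opens) : Scheme.{u}) ≅ Proj (𝒮L.deg U hU)))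
    (hPL : RelProj.IsRelProj 𝒮L pL chartL)
    (F : Y.Modules) (hFq : Coh.IsQCoh F) (𝒯 : RelProj.QCGrAlg Y) (jF : F ⟶ 𝒯.toModule) (h𝒯 : RelProj.IsGrSymAlg F 𝒯 jF)
    (u : RelProj.QGrHom q 𝒯 𝒮L)
    (hsurj : ∀ x : X, ∃ (U : Y.Opens) (hU : IsAffineOpen U) (e : Γ(F, U)) (V : X.Opens) (hV : IsAffineOpen V)
        (hVU : V ≤ q ⁻¹ᵁ U), x ∈ V ∧
          ((𝒮L.deg V hV 1 : AddSubgroup (𝒮L.presheaf.obj (op V))) : Set (𝒮L.presheaf.obj (op V))) ⊆
              (Ideal.span {(u.appLE U V hVU).hom ((jF.app U) e)} : Set (𝒮L.presheaf.obj (op V))))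
    (p : P ⟶ Y) (chart : ∀ (U : Y.Opens) (hU : IsAffineOpen U), (((p ⁻¹ᵁ U : P.Opens) : Scheme.{u}) ≅ Proj (𝒯.deg U hU)))
    (hP : RelProj.IsRelProj 𝒯 p chart)
    (r : ((RelProj.domQ u pL chartL : PL.Opens) : Scheme.{u}) ⟶ P)
    (hr : RelProj.IsProjQMapOn u p chart pL chartL (RelProj.domQ u pL chartL) r) :
    IsImmersion r ↔
      ∃ (E : Y.Modules) (_ : Coh.IsQCoh E) (_ : CohB1.IsFT E) (ι : E ⟶ F) (_ : ∀ U : Y.Opens, Function.Injective (ι.app U))
        (𝒯' : RelProj.QCGrAlg Y) (jE : E ⟶ 𝒯'.toModule) (_ : RelProj.IsGrSymAlg E 𝒯' jE)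
        (u' : RelProj.QGrHom q 𝒯' 𝒮L)
        (_ : ∀ (U : Y.Opens) (x : Γ(E, U)), (u'.app U).hom ((jE.app U) x) = (u.app U).hom ((jF.app U) ((ι.app U) x))),
        (∀ x : X, ∃ (U : Y.Opens) (hU : IsAffineOpen U) (e : Γ(E, U)) (V : X.Opens) (hV : IsAffineOpen V)
            (hVU : V ≤ q ⁻¹ᵁ U), x ∈ V ∧
              ((𝒮L.deg V hV 1 : AddSubgroup (𝒮L.presheaf.obj (op V))) : Set (𝒮L.presheaf.obj (op V))) ⊆
              (Ideal.span {(u'.appLE U V hVU).hom ((jE.app U) e)} : Set (𝒮L.presheaf.obj (op V)))) ∧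
        ∀ (P' : Scheme.{u}) (p' : P' ⟶ Y)
            (chart' : ∀ (U : Y.Opens) (hU : IsAffineOpen U), (((p' ⁻¹ᵁ U : P'.Opens) : Scheme.{u}) ≅ Proj (𝒯'.deg U hU)))
            (_ : RelProj.IsRelProj 𝒯' p' chart')
            (r' : ((RelProj.domQ u' pL chartL : PL.Opens) : Scheme.{u}) ⟶ P')
            (_ : RelProj.IsProjQMapOn u' p' chart' pL chartL (RelProj.domQ u' pL chartL) r'),
          RelProj.domQ u' pL chartL = ⊤ ∧ IsImmersion r' := by
  obtain ⟨hc, hs⟩ : CompactSpace Y ∧ QuasiSeparatedSpace Y := by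
    rcases hYs with ⟨hc, hs⟩ | hn
    · exact ⟨hc, inferInstance⟩
    · haveI := hn; exact ⟨inferInstance, inferInstance⟩
  haveI := hc
  haveI := hs
  haveI := hLq
  haveI hiso : IsIso pL := Groth.Agent.S12143.result L hL inferInstance 𝒮L jL hjL pL chartL hPL
  obtain ⟨σ, hu⟩ := Groth.Agent.ProjBundleLib.exists_gens_sigma hjL hL h𝒯 u
  have hG := Groth.Agent.ProjBundleLib.gens_of_span hjL hL u hu hsurj
  obtain ⟨O1, lam, hO1⟩ := Groth.Agent.S8284.result 𝒯 p chart hP 1
  obtain ⟨φ, hφ⟩ := Groth.Agent.ProjBundleLib.exists_φ_val hFq h𝒯 hP hO1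
  let D : Groth.Agent.ProjBundleLib.PData p F O1 φ := ⟨hFq, 𝒯, jF, h𝒯, chart, hP, lam, hO1, hφ⟩
  obtain ⟨k, hk, -⟩ := D.existsUnique_compat_of_gens hL hG
  obtain ⟨htop, hrk⟩ := Groth.Agent.ProjBundleLib.eq_compat hL hjL hPL h𝒯 u hu hP hO1 hφ hFq hG hk r hr
  haveI := Groth.Agent.RelProjLib.isIso_ι_of_eq_top htop
  constructor
  · intro himm
    haveI := himm
    haveI : IsImmersion k := by
      have : k = inv pL ≫ inv (RelProj.domQ u pL chartL).ι ≫ r := by
        rw [hrk, IsIso.inv_hom_id_assoc, IsIso.inv_hom_id_assoc]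
      rw [this]
      infer_instance
    obtain ⟨E, ι, hE, hft, hinj, hGE, hEimm⟩ := Groth.Agent.ProjBundleLib.exists_ft_sub_gen D hk
    obtain ⟨𝒯', jE, hjE⟩ := Groth.Agent.ProjBundleLib.exists_isGrSymAlg hE
    haveI : IsSeparated q := by
      haveI := D.isSeparated
      rw [← hk.1.trans (Category.id_comp q)]
      infer_instance
    obtain ⟨u', hu'⟩ := Groth.Agent.ProjBundleLib.exists_qGrHom hE hjE hjL.2 (ι ≫ σ)
    refine ⟨E, hE, hft, ι, hinj, 𝒯', jE, hjE, u', fun U x => (hu' U x).trans (hu U (ι.app U x)).symm,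
      fun x => Groth.Agent.ProjBundleLib.span_of_gens hjL hL hjE u' hu' hE hGE x, fun P' p' chart' hP' r' hr' => ?_⟩
    exact Groth.Agent.ProjBundleLib.isImmersion_qmap hL hjL hPL hjE u' hu' hP' hE hGE r' hr'
      fun O1' φ' D' k' hk' => hEimm D' k' hk'
  · rintro ⟨E, hE, -, ι, -, 𝒯', jE, hjE, u', hcompat, hsurj', hall⟩
    have hu' : ∀ (U : Y.Opens) (x : Γ(E, U)), (u'.app U).hom ((jE.app U) x) = (jL.app (q ⁻¹ᵁ U)) ((ι ≫ σ).app U x) :=
      fun U x => (hcompat U x).trans (hu U (ι.app U x))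
    have hGE := Groth.Agent.ProjBundleLib.gens_of_span hjL hL u' hu' hsurj'
    obtain ⟨P', p', chart', hP'⟩ := Groth.Agent.RelProjLib.exists_relProj 𝒯'
    obtain ⟨O1', lam', hO1'⟩ := Groth.Agent.S8284.result 𝒯' p' chart' hP' 1
    obtain ⟨φ', hφ'⟩ := Groth.Agent.ProjBundleLib.exists_φ_val hE hjE hP' hO1'
    let D' : Groth.Agent.ProjBundleLib.PData p' E O1' φ' := ⟨hE, 𝒯', jE, hjE, chart', hP', lam', hO1', hφ'⟩
    obtain ⟨r', hr', -⟩ := Groth.Agent.RelProjLib.QMap.existsUnique_on u' p' chart' pL chartL hP' hPL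
    obtain ⟨htop', himm'⟩ := hall P' p' chart' hP' r' hr'
    haveI := himm'
    haveI := Groth.Agent.RelProjLib.isIso_ι_of_eq_top htop'
    obtain ⟨k', hk', -⟩ := D'.existsUnique_compat_of_gens hL hGE
    obtain ⟨-, hrk'⟩ := Groth.Agent.ProjBundleLib.eq_compat hL hjL hPL hjE u' hu' hP' hO1' hφ' hE hGE hk' r' hr'
    haveI : IsImmersion k' := by
      have : k' = inv pL ≫ inv (RelProj.domQ u' pL chartL).ι ≫ r' := by
        rw [hrk', IsIso.inv_hom_id_assoc, IsIso.inv_hom_id_assoc]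
      rw [this]
      infer_instance
    haveI := Groth.Agent.ProjBundleLib.isImmersion_of_sub D D' hL hGE hk hk'
    rw [hrk]
    infer_instance

end Groth.Agent.S12689
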