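import Groth.Statements.S1269
import Groth.Agent.DevLib.Local
import Groth.Agent.PureCritLib.OpenProj

set_option autoImplicit false
set_option backward.isDefEq.respectTransparency false
set_option backward.isDefEq.respectTransparency.types false
set_option maxHeartbeats 1000000
universe u
open FlatMor

namespace Groth.Agent.S1269

open TensorProduct AlgebraicGeometry

/-- The local statement: a free étale chart gives a free basic open. -/
theorem exists_open_free {A SA C : Type u} [CommRing A] [IsLocalRing A] [CommRing SA] [CommRing C] [Algebra A SA] [Algebra A C]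
    [Algebra SA C] [IsScalarTower A SA C] [Algebra.FiniteType A SA] [Algebra.Etale SA C]
    (NA : Type u) [AddCommGroup NA] [Module SA NA] [Module.Finite SA NA] [Module.Free A (C ⊗[SA] NA)]
    (x' : Ideal C) [x'.IsPrime] :
    ∃ g : SA, g ∉ x'.comap (algebraMap SA C) ∧ Module.Free A (Localization.Away g ⊗[SA] NA) := by
  haveI : Algebra.FiniteType A C := Algebra.FiniteType.trans ‹Algebra.FiniteType A SA› (inferInstance : Algebra.FiniteType SA C)
  obtain ⟨g, hg, hgQ, havoid⟩ := PureCritLib.exists_avoid (A := A) (SA := SA) (C := C) (C ⊗[SA] NA)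
    (IsLocalRing.maximalIdeal A) (x'.comap (algebraMap SA C)) ⟨x', inferInstance, rfl⟩
  haveI := PureCritLib.projective_away (A := A) NA g hgQ fun t _ =>
    PureCritLib.avoid_generisation (C ⊗[SA] NA) (algebraMap SA C g) (IsLocalRing.maximalIdeal A) havoid t
      (IsLocalRing.le_maximalIdeal (Ideal.IsPrime.ne_top ‹_›))
  exact ⟨g, hg, KaplanskyLib.free_of_projective _⟩

open AlgebraicGeometry CategoryTheory TensorProduct in
/-- Ring form, X = Spec S and S = Spec R affine: let S be a finite type R-algebra, N a finite S-module
and q a prime of S over p with N_q flat over R. Then there is an étale R-algebra R' with a prime p'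
over p having the same residue field such that, writing A for the local ring of R' at p' and S_A,
N_A for the base changes (any models), there is an S_A-algebra C with Spec C → Spec S_A an open
immersion (an affine open U'), containing a point lying over q and over the maximal ideal of A, such
that C ⊗_{S_A} N_A is a free A-module. -/
theorem result {R S : Type u} [CommRing R] [CommRing S] [Algebra R S] [Algebra.FiniteType R S]
    (N : Type u) [AddCommGroup N] [Module S N] [Module R N] [IsScalarTower R S N] [Module.Finite S N]
    (p : Ideal R) [p.IsPrime] (q : Ideal S) [q.IsPrime] [q.LiesOver p] (hflat : FlatCA.FlatAt R q N) :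
    ∃ (R' : Type u) (_ : CommRing R') (_ : Algebra R R') (p' : Ideal R') (_ : p'.IsPrime), FlatCA.IsEtaleNhd R R' p p' ∧
      ∀ (SA NA : Type u) [CommRing SA] [Algebra R SA] [Algebra S SA] [Algebra (Localization.AtPrime p') SA]
        [IsScalarTower R S SA] [IsScalarTower R (Localization.AtPrime p') SA]
        [Algebra.IsPushout R S (Localization.AtPrime p') SA]
        [AddCommGroup NA] [Module SA NA] [Module S NA] [IsScalarTower S SA NA]
        (f : N →ₗ[S] NA), IsBaseChange SA f →
        ∃ (C : Type u) (_ : CommRing C) (_ : Algebra SA C) (_ : Algebra (Localization.AtPrime p') C)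
          (_ : IsScalarTower (Localization.AtPrime p') SA C) (x' : Ideal C) (_ : x'.IsPrime),
          IsOpenImmersion (Spec.map (CommRingCat.ofHom (algebraMap SA C))) ∧
          (x'.comap (algebraMap SA C)).LiesOver q ∧
          (x'.comap (algebraMap SA C)).LiesOver (IsLocalRing.maximalIdeal (Localization.AtPrime p')) ∧
          Module.Free (Localization.AtPrime p') (RestrictScalars (Localization.AtPrime p') C (C ⊗[SA] NA)) := by
  obtain ⟨R₁, S₁, _, _, _, _, _, _, _, _, p₁, w, hp₁, hw, hR₁, hS₁, hwp, hfree⟩ := DevLib.exists_freeChart N p q hflat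
  refine ⟨R₁, inferInstance, inferInstance, p₁, hp₁, hR₁, ?_⟩
  intro SA NA _ _ _ _ _ _ _ _ _ _ _ f hf
  haveI := hp₁
  haveI := hw
  obtain ⟨hRR₁, -, -⟩ := id hR₁
  obtain ⟨hSS₁, hwq, -⟩ := id hS₁
  haveI := hRR₁
  haveI := hSS₁
  haveI : p₁.LiesOver p₁ := ⟨(Ideal.comap_id p₁).symm⟩
  have hid : FlatCA.IsEtaleNhd R₁ R₁ p₁ p₁ := ⟨inferInstance, inferInstance,
    DevissLib.residue_bijective_of_frac p₁ p₁ fun b => ⟨1, b, p₁.one_notMem, by simp⟩⟩
  obtain ⟨C, _, _, _, _, _, _, het, -, hfp, hfr, hpts⟩ :=
    DevLib.exists_local (R := R) (S := S) N hid (hfree R₁ p₁ hid) SA NA f hf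
  obtain ⟨x', hx', hx'q, hx'm, -⟩ := hpts w hwp
  haveI := het
  haveI := hfr
  haveI := hx'
  haveI : Algebra.IsPushout R (Localization.AtPrime p₁) S SA := Algebra.IsPushout.symm inferInstance
  haveI : Algebra.FiniteType (Localization.AtPrime p₁) SA :=
    Algebra.FiniteType.equiv inferInstance (Algebra.IsPushout.equiv R (Localization.AtPrime p₁) S SA)
  haveI : Module.Finite SA NA := Module.Finite.equiv hf.equiv
  obtain ⟨g, hg, hgfree⟩ := exists_open_free (A := Localization.AtPrime p₁) (SA := SA) NA x'
  haveI := hgfree
  let x := x'.comap (algebraMap SA C)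
  have hd : Disjoint (Submonoid.powers g : Set SA) x :=
    (Ideal.disjoint_powers_iff_notMem g (inferInstance : x.IsPrime).isRadical).2 hg
  haveI := IsLocalization.liesOver_map_of_isPrime_disjoint (Submonoid.powers g) (Localization.Away g) hd
  have hc : (x.map (algebraMap SA (Localization.Away g))).comap (algebraMap SA (Localization.Away g)) = x :=
    ((x.map (algebraMap SA (Localization.Away g))).over_def x).symm
  refine ⟨Localization.Away g, inferInstance, inferInstance, inferInstance, inferInstance,
    x.map (algebraMap SA (Localization.Away g)),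
    IsLocalization.isPrime_of_isPrime_disjoint (Submonoid.powers g) _ x inferInstance hd,
    IsOpenImmersion.of_isLocalization g, ⟨?_⟩, ⟨?_⟩, DevLib.free_restrictScalars⟩
  · rw [hc, Ideal.under_def, Ideal.comap_comap, ← IsScalarTower.algebraMap_eq, hx'q]
    exact hwq.over
  · rw [hc, Ideal.under_def, Ideal.comap_comap, ← IsScalarTower.algebraMap_eq]
    exact hx'm.over

end Groth.Agent.S1269
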