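import Groth.Statements.S12693
import Groth.Agent.KerSecLib.Imm

set_option autoImplicit false
universe u
open CategoryTheory CategoryTheory.Limits AlgebraicGeometry TopologicalSpace Opposite
open scoped HomogeneousIdeal
noncomputable section
open Variety

namespace Groth.Agent.S12693

/-- Let k be a field, X a scheme proper over k, L an ample invertible O_X-module, i : Z → X a closed
immersion and U the open complement of its image. Then there is an integer n₀ such that for every n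
≥ n₀: the subspace V_n of those global sections of L^{⊗n} whose inverse image on Z vanishes
generates the restriction of L^{⊗n} to U, and the canonical k-morphism U → P(V_n) is an immersion —
stated through a basis: for every k-linearly independent family s_0, …, s_r of V_n spanning V_n over
k (scalars acting through k → Γ(X, O_X)), every k-morphism φ from U to projective r-space over k
together with an isomorphism φ^*O(1) ≅ L^{⊗n}|_U carrying the inverse image of the coordinate T_j to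
s_j|_U for each j is an immersion. -/
theorem result {k : Type u} [Field k] {X Z : Scheme.{u}}
    (f : X ⟶ Spec (CommRingCat.of k)) [IsProper f] (L : X.Modules) (hLa : CohB1.IsAmple L)
    (i : Z ⟶ X) [IsClosedImmersion i] (U : X.Opens) (hU : (U : Set X) = (Set.range i.base)ᶜ) :
    ∃ n₀ : ℕ, ∀ n : ℕ, n₀ ≤ n →
      ProjUP.GeneratedBy ((CohB1.tensorPow L n).restrict U.ι)
        (fun v : {s : ProjUP.Γm (CohB1.tensorPow L n) // ProjUP.pullSec i (CohB1.tensorPow L n) s = 0} =>
          ((CohB1.tensorPow L n).restrictAppIso U.ι ⊤).inv (((CohB1.tensorPow L n).presheaf.map (homOfLE le_top).op) v.1)) ∧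
      ∀ (r : ℕ) (s : Fin (r + 1) → ProjUP.Γm (CohB1.tensorPow L n)),
        (∀ j, ProjUP.pullSec i (CohB1.tensorPow L n) (s j) = 0) →
        (∀ c : Fin (r + 1) → k, (∑ j, ProjUP.toGlobal f (c j) • s j) = 0 → c = 0) →
        (∀ v : ProjUP.Γm (CohB1.tensorPow L n), ProjUP.pullSec i (CohB1.tensorPow L n) v = 0 →
          ∃ c : Fin (r + 1) → k, v = ∑ j, ProjUP.toGlobal f (c j) • s j) →
        ∀ (φ : (U : Scheme.{u}) ⟶ CohB1.ProjSpace r k) (_ : φ ≫ CohB1.ProjSpace.toSpec r k = U.ι ≫ f)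
          (τ : (Scheme.Modules.pullback φ).obj (Twist.twistProjSpace r k 1) ≅ (CohB1.tensorPow L n).restrict U.ι)
          (_ : ∀ j, τ.hom.app ⊤ (ProjUP.pullSec φ (Twist.twistProjSpace r k 1) (ProjUP.coord r k j)) =
            ((CohB1.tensorPow L n).restrictAppIso U.ι ⊤).inv (((CohB1.tensorPow L n).presheaf.map (homOfLE le_top).op) (s j))),
          IsImmersion φ := by
  classical
  haveI : CompactSpace X := QuasiCompact.compactSpace_of_compactSpace f
  haveI : QuasiSeparatedSpace X := AmpleLib.quasiSeparatedSpace_of_isAmple hLa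
  haveI : IsLocallyNoetherian X := LocallyOfFiniteType.isLocallyNoetherian f
  haveI : IsNoetherian X := {}
  have hUc : IsCompact (U : Set X) := TopologicalSpace.NoetherianSpace.isCompact _
  have hloc : ∀ x : (U : Set X), ∃ (W : X.Opens), x.1 ∈ W ∧ W ≤ U ∧ ∃ n₀, ∀ n, n₀ ≤ n →
      ∃ v : ProjUP.Γm (CohB1.tensorPow L n), ProjUP.pullSec i (CohB1.tensorPow L n) v = 0 ∧
        ProjUPLib.gl v = W ∧ IsAffineOpen W ∧
        ∃ T : Set Γ(X, W), Subring.closure (Set.range (f.appLE ⊤ W le_top).hom ∪ T) = ⊤ ∧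
          ∀ a ∈ T, ∃ w : ProjUP.Γm (CohB1.tensorPow L n), ProjUP.pullSec i (CohB1.tensorPow L n) w = 0 ∧
            a • AmpleLib.resT v W = AmpleLib.resT w W := by
    intro x
    obtain ⟨W₀, e, hxW, he⟩ := ParaFLib.exists_gen_nhd hLa.1 x.1
    obtain ⟨m, t, hxt, hle, hta⟩ := AmpleLib.exists_small_genLocus hLa (U := W₀ ⊓ U) ⟨hxW, x.2⟩
    have hgl : ProjUPLib.gl (AmpleLib.sec t) = CohB1.genLocus _ t := by
      rw [ProjUPLib.gl, AmpleLib.secHom_sec]
    have hleU : ProjUPLib.gl (AmpleLib.sec t) ≤ U := hgl.le.trans (hle.trans inf_le_right)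
    obtain ⟨n₀, hn₀⟩ := KerSecLib.exists_family f i hLa.1 m.succ_pos (AmpleLib.sec t) (hgl.symm ▸ hta) _
      (he.res (hgl.le.trans (hle.trans inf_le_left)))
      (fun z hz => (hU.le (hleU hz)) ⟨z, rfl⟩)
    exact ⟨_, hgl.ge hxt, hleU, n₀, fun n hn => by
      obtain ⟨v, h1, h2, h3⟩ := hn₀ n hn
      exact ⟨v, h1, h2, hgl.symm ▸ hta, h3⟩⟩
  choose W hxW hWU nx hnx using hloc
  obtain ⟨S, hS⟩ := hUc.elim_finite_subcover (fun x : (U : Set X) => (W x : Set X)) (fun x => (W x).isOpen)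
    (fun x hx => Set.mem_iUnion.2 ⟨⟨x, hx⟩, hxW _⟩)
  refine ⟨S.sup nx, fun n hn => ?_⟩
  have hM : PicF.IsInvertible (CohB1.tensorPow L n) := AmpleLib.isInvertible_tensorPow hLa.1 n
  have hcov : ∀ y ∈ U, ∃ x, y ∈ W x ∧ nx x ≤ n := fun y hy => by
    obtain ⟨x, hxS, hyx⟩ := Set.mem_iUnion₂.1 (hS hy)
    exact ⟨x, hyx, (Finset.le_sup hxS).trans hn⟩
  refine ⟨ProjUPLib.generatedBy_of_mem_gl (ParaFLib.isInvertible_restrict U.ι hM) fun y => ?_, ?_⟩
  · obtain ⟨x, hyx, hxn⟩ := hcov y.1 y.2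
    obtain ⟨v, hv0, hvg, -⟩ := hnx x n hxn
    refine ⟨⟨v, hv0⟩, ?_⟩
    show y ∈ ProjUPLib.gl (KerSecLib.resU U v)
    rw [KerSecLib.gl_resU U hM, hvg]
    exact hyx
  · intro r s _ _ hspan φ hφ τ hτ
    refine KerSecLib.isImmersion_of_ratios U f hM s (fun y hy => ?_) φ hφ τ hτ
    obtain ⟨x, hyx, hxn⟩ := hcov y hy
    obtain ⟨v, hv0, hvg, hWa, T, hT, ha⟩ := hnx x n hxn
    obtain ⟨c, hc⟩ := hspan v hv0
    subst hc
    have hle := hWU x
    generalize W x = A at hyx hvg hWa T hT ha hle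
    subst hvg
    exact ⟨c, hyx, hle, hWa, T, hT, fun a ha' => by
      obtain ⟨w, hw0, hw⟩ := ha a ha'
      obtain ⟨c', hc'⟩ := hspan w hw0
      exact ⟨c', hc' ▸ hw⟩⟩

end Groth.Agent.S12693
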