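import Groth.Statements.S1271
import Groth.Agent.FittEtLib.Main
-- import your own Groth.Agent.* helpers here

set_option autoImplicit false
set_option linter.style.haveILetI false
set_option maxHeartbeats 1000000
universe u
open FlatMor

namespace Groth.Agent.S1271

/-- Let A → B be an étale ring map, a ∈ A a nonzerodivisor and J a finitely generated ideal of B with
V(J) ⊆ V(aB), i.e. a lies in the radical of J. Then for every prime q of B there exist a finitely
generated ideal I of A with V(I) ⊆ V(a), an element g of B outside q, and a finitely generated ideal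
J' of the localization B_g such that the extension of I to B_g equals the product of the extension
of J with J'. -/
theorem result {A B : Type u} [CommRing A] [CommRing B] [Algebra A B] [Algebra.Etale A B]
    (a : A) (ha : a ∈ nonZeroDivisors A) (J : Ideal B) (hJ : J.FG) (hJa : algebraMap A B a ∈ J.radical)
    (q : Ideal B) [q.IsPrime] :
    ∃ (I : Ideal A) (g : B) (J' : Ideal (Localization.Away g)), I.FG ∧ a ∈ I.radical ∧ g ∉ q ∧ J'.FG ∧
      I.map (algebraMap A (Localization.Away g)) = J.map (algebraMap B (Localization.Away g)) * J' := by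
  classical
  haveI : Algebra.IsEtaleAt A q := inferInstance
  obtain ⟨g, hg, hstd⟩ := Algebra.IsEtaleAt.exists_isStandardEtale (R := A) q
  obtain ⟨⟨P, x, hP, hbij⟩⟩ := hstd.nonempty_standardEtalePresentation
  let Bg := Localization.Away g
  let C := AdjoinRoot P.f
  let h : C := AdjoinRoot.mk P.f P.g
  let E := Localization.Away h
  let e : Bg ≃ₐ[A] E := (AlgEquiv.ofBijective _ hbij).symm.trans P.equivAwayAdjoinRoot
  haveI : Algebra.Etale A E := Algebra.Etale.of_equiv e
  haveI : Module.Finite A C := P.monic_f.finite_adjoinRoot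
  haveI : Module.Free A C := P.monic_f.free_adjoinRoot
  let JE : Ideal E := (J.map (algebraMap B Bg)).map e.toRingEquiv.toRingHom
  obtain ⟨S, hS⟩ : JE.FG := (hJ.map _).map _
  obtain ⟨N, hN⟩ := Ideal.mem_radical_iff.mp hJa
  let num : E → C := fun y => (IsLocalization.sec (Submonoid.powers h) y).1
  let JC : Ideal C := Ideal.span ((S.image num : Finset C) : Set C) ⊔ Ideal.span {algebraMap A C a ^ N}
  have hnum : ∀ y, y * algebraMap C E (IsLocalization.sec (Submonoid.powers h) y).2 = algebraMap C E (num y) :=
    fun y => IsLocalization.sec_spec (Submonoid.powers h) y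
  have haE : algebraMap A E (a ^ N) ∈ JE := by
    have h1 : algebraMap A Bg (a ^ N) ∈ J.map (algebraMap B Bg) := by
      rw [IsScalarTower.algebraMap_apply A B Bg, map_pow]
      exact Ideal.mem_map_of_mem _ hN
    have h2 := Ideal.mem_map_of_mem e.toRingEquiv.toRingHom h1
    rwa [show e.toRingEquiv.toRingHom (algebraMap A Bg (a ^ N)) = algebraMap A E (a ^ N) from e.commutes _] at h2
  have hJC : JC.map (algebraMap C E) = JE := by
    rw [Ideal.map_sup, Ideal.map_span, Ideal.map_span, Set.image_singleton]
    refine le_antisymm (sup_le (Ideal.span_le.mpr ?_) ((Ideal.span_singleton_le_iff_mem _).mpr ?_)) ?_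
    · rintro _ ⟨c, hc, rfl⟩
      obtain ⟨y, hy, rfl⟩ := Finset.mem_image.mp hc
      rw [SetLike.mem_coe, ← hnum]
      exact Ideal.mul_mem_right _ _ (hS ▸ Ideal.subset_span hy)
    · rwa [← map_pow, ← IsScalarTower.algebraMap_apply]
    · conv_lhs => rw [← hS]
      rw [Submodule.span_le]
      intro y hy
      obtain ⟨d, hd⟩ := IsLocalization.map_units E (IsLocalization.sec (Submonoid.powers h) y).2
      have h1 := hnum y
      rw [← hd] at h1
      rw [SetLike.mem_coe, show y = algebraMap C E (num y) * (d⁻¹ : Eˣ).1 by rw [← h1, mul_assoc, Units.mul_inv, mul_one]]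
      exact Ideal.mul_mem_right _ _ (Ideal.mem_sup_left (Ideal.subset_span ⟨num y, Finset.mem_image_of_mem _ hy, rfl⟩))
  have hJCfg : JC.FG := (Submodule.fg_span (Finset.finite_toSet _)).sup (Submodule.fg_span (Set.finite_singleton _))
  haveI : Module.Finite C JC := Module.Finite.iff_fg.mpr hJCfg
  haveI : Module.Finite A JC := Module.Finite.trans C JC
  haveI : Module.FinitePresentation A C := Module.finitePresentation_of_projective A C
  haveI : Module.FinitePresentation A (C ⧸ JC) := Module.finitePresentation_of_surjective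
    ((Submodule.mkQ JC).restrictScalars A) (Submodule.mkQ_surjective JC) (by
      rw [LinearMap.ker_restrictScalars, Submodule.ker_mkQ]
      exact Module.Finite.iff_fg.mp (inferInstanceAs (Module.Finite A JC)))
  obtain ⟨J', hJ', hfg⟩ := FittEtLib.exists_mul (A := A) h JC
  rw [hJC] at hJ'
  refine ⟨Fitt.ideal A (C ⧸ JC) 0, g, J'.map e.symm.toRingEquiv.toRingHom, FittEtLib.ideal_zero_fg A _, ?_, hg,
    (hfg inferInstance).map _, ?_⟩
  · obtain ⟨m, y, hy⟩ := Module.Finite.exists_fin (R := A) (M := C ⧸ JC)
    refine ⟨N * m, Ideal.subset_span ⟨m, y, Matrix.diagonal fun _ => a ^ N, hy, fun i _ => ?_, ?_⟩⟩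
    · rw [Finset.sum_eq_single i (fun j _ hj => by rw [Matrix.diagonal_apply_ne _ hj.symm, zero_smul])
        (fun hi => absurd (Finset.mem_univ i) hi), Matrix.diagonal_apply_eq]
      obtain ⟨c, hc⟩ := Ideal.Quotient.mk_surjective (y i)
      rw [← hc, Algebra.smul_def, IsScalarTower.algebraMap_apply A C (C ⧸ JC), Ideal.Quotient.algebraMap_eq,
        ← map_mul, Ideal.Quotient.eq_zero_iff_mem, map_pow]
      exact JC.mul_mem_right _ (Ideal.mem_sup_right (Ideal.mem_span_singleton_self _))
    · rw [Matrix.det_diagonal, Finset.prod_const, Finset.card_univ, Fintype.card_fin, ← pow_mul]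
  · have h1 := congrArg (Ideal.map e.symm.toRingEquiv.toRingHom) hJ'
    rw [Ideal.map_mul, Ideal.map_map] at h1
    have h2 : e.symm.toRingEquiv.toRingHom.comp (algebraMap A E) = algebraMap A Bg := RingHom.ext fun r => e.symm.commutes r
    have h3 : JE.map e.symm.toRingEquiv.toRingHom = J.map (algebraMap B Bg) := by
      show ((J.map (algebraMap B Bg)).map e.toRingEquiv.toRingHom).map e.symm.toRingEquiv.toRingHom = _
      rw [Ideal.map_map, show e.symm.toRingEquiv.toRingHom.comp e.toRingEquiv.toRingHom = RingHom.id Bg from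
        RingHom.ext fun r => e.symm_apply_apply r, Ideal.map_id]
    rw [h2, h3] at h1
    exact h1

end Groth.Agent.S1271
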