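import Groth.Statements.S12713
import Groth.Agent.ArtFunLib.Points
-- import your own Groth.Agent.* helpers here

set_option autoImplicit false
universe u v
open CategoryTheory
open ArtFun ArtFun.Art

namespace Groth.Agent.S12713

open Groth.Agent.ArtFunLib

/-- A small extension f : B → A in the category of Artinian local Λ-algebras with residue field k is not
an essential surjection (some morphism g : C → B is non-surjective although the composite C → A is
surjective) if and only if f has a section A → B in the category. -/
theorem result {Λ : Type u} {k : Type u} [CommRing Λ] [Field k] [Algebra Λ k]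
    [IsNoetherianRing Λ] [Module.Finite Λ k]
    {A B : ArtFun.Art Λ k} (f : B ⟶ A) (hf : ArtFun.Art.IsSmallExt f) :
    (∃ (C : ArtFun.Art Λ k) (g : C ⟶ B), Function.Surjective (g ≫ f) ∧ ¬ Function.Surjective g) ↔
      ∃ s : A ⟶ B, s ≫ f = 𝟙 A := by
  obtain ⟨hs, t, ht0, htm, ht⟩ := (isSmallExt_iff f).mp hf
  constructor
  · rintro ⟨C, g, hgs, hg⟩
    have key : ∀ c, f (g c) = 0 → g c = 0 := fun c hc => by
      by_contra h0
      refine hg fun b => ?_
      have : g c ∈ Ideal.span {t} := ht ▸ (hc : g c ∈ RingHom.ker f.toAlgHom)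
      obtain ⟨r, hr⟩ := Ideal.mem_span_singleton.mp this
      have hru : IsUnit r := by
        by_contra hu
        exact h0 (by rw [hr, mul_comm]; exact htm r ((IsLocalRing.mem_maximalIdeal r).mpr hu))
      obtain ⟨c', hc'⟩ := hgs (f b)
      have hc'' : f (g c') = f b := hc'
      have : b - g c' ∈ Ideal.span {t} := by
        rw [← ht]
        change f (b - g c') = 0
        rw [map_sub, hc'', sub_self]
      obtain ⟨r', hr'⟩ := Ideal.mem_span_singleton.mp this
      obtain ⟨d, hd⟩ := C.res_surjective (B.res (r' * (↑hru.unit⁻¹ : B)))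
      refine ⟨c' + d * c, ?_⟩
      have e : g d * t = r' * (↑hru.unit⁻¹ : B) * t :=
        (exists_lift_res B _ (f := f) t (g d) htm ((ArtFun.Art.res_app g d).trans hd)).symm
      rw [map_add, map_mul, hr, ← mul_assoc, e, mul_right_comm (r' * _) t r, mul_assoc r', IsUnit.val_inv_mul, mul_one,
        mul_comm r', ← hr', add_sub_cancel]
    choose σ hσ using hgs
    have wd : ∀ a c, f (g c) = a → g (σ a) = g c := fun a c h => sub_eq_zero.mp (by
      rw [← map_sub]
      refine key _ ?_
      rw [map_sub, map_sub, h]
      exact sub_eq_zero.mpr (hσ a))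
    let s : A →ₐ[Λ] B :=
      { toFun := fun a => g (σ a)
        map_one' := (wd 1 1 (by simp)).trans (map_one _)
        map_zero' := (wd 0 0 (by simp)).trans (map_zero _)
        map_add' := fun x y => (wd _ (σ x + σ y) (by
          rw [map_add, map_add, show f (g (σ x)) = x from hσ x, show f (g (σ y)) = y from hσ y])).trans (map_add _ _ _)
        map_mul' := fun x y => (wd _ (σ x * σ y) (by
          rw [map_mul, map_mul, show f (g (σ x)) = x from hσ x, show f (g (σ y)) = y from hσ y])).trans (map_mul _ _ _)
        commutes' := fun l => (wd _ (algebraMap Λ C l) (by simp)).trans (g.toAlgHom.commutes l) }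
    refine ⟨⟨s, AlgHom.ext fun a => ?_⟩, ArtFun.Art.hom_ext (AlgHom.ext hσ)⟩
    exact ((ArtFun.Art.res_app f (g (σ a))).symm.trans (congrArg A.res (hσ a)) :)
  · rintro ⟨s, hsf⟩
    refine ⟨A, s, by rw [hsf]; exact Function.surjective_id, fun hss => ht0 ?_⟩
    have ht' : f t = 0 := by
      change t ∈ RingHom.ker f.toAlgHom
      rw [ht]; exact Ideal.mem_span_singleton_self t
    obtain ⟨a, rfl⟩ := hss t
    have : f (s a) = a := congrArg (fun φ : A ⟶ A => φ a) hsf
    rw [ht'] at this
    rw [← this, map_zero]

end Groth.Agent.S12713
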