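import Groth.Statements.S12715
import Groth.Agent.ArtFunLib.Points
-- import your own Groth.Agent.* helpers here

set_option autoImplicit false
universe u v
open CategoryTheory
open ArtFun

namespace Groth.Agent.S12715

open Groth.Agent.ArtFunLib

/-- For Λ Noetherian with a finite map to the field k and S a complete local Noetherian Λ-algebra with
residue field k (through a surjective map S → k over Λ), the space of Λ-derivations S → k is
finite-dimensional over k. -/
theorem result {Λ : Type u} {k : Type u} [CommRing Λ] [Field k] [Algebra Λ k]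
    [IsNoetherianRing Λ] [Module.Finite Λ k]
    (S : Type u) [CommRing S] [Algebra Λ S] [IsLocalRing S] [IsNoetherianRing S]
    [IsAdicComplete (IsLocalRing.maximalIdeal S) S] [Algebra S k] [IsScalarTower Λ S k]
    (hres : Function.Surjective (algebraMap S k)) :
    Module.Finite k (Derivation Λ S k) := by
  let S' : ArtFun.CRing Λ k := { carrier := S, res := IsScalarTower.toAlgHom Λ S k, res_surjective := hres, isAdicComplete := ‹_› }
  obtain ⟨r, g, hg⟩ := exists_tangent_generators S'
  let L : Derivation Λ S k →ₗ[k] (Fin r → k) :=
    { toFun := fun D i => D (g i), map_add' := fun x y => rfl, map_smul' := fun c x => rfl }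
  refine Module.Finite.of_injective L ((injective_iff_map_eq_zero L).mpr fun D hD => ?_)
  let φ : ArtFun.HomSet S S'.res (ArtFun.Art.dual Λ k) :=
    ⟨{ toFun := fun s => (((algebraMap S k s, D s) : DualNumber k))
       map_one' := TrivSqZeroExt.ext (map_one _) D.map_one_eq_zero
       map_zero' := TrivSqZeroExt.ext (map_zero _) (map_zero D)
       map_add' := fun x y => TrivSqZeroExt.ext (map_add _ x y) (map_add D x y)
       map_mul' := fun x y => TrivSqZeroExt.ext (map_mul _ x y) (by
        refine (D.leibniz x y).trans ?_
        change x • D y + y • D x = algebraMap S k x • D y + MulOpposite.op (algebraMap S k y) • D x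
        rw [Algebra.smul_def, Algebra.smul_def, MulOpposite.smul_eq_mul_unop, MulOpposite.unop_op, smul_eq_mul,
          mul_comm _ (D x)])
       commutes' := fun l => TrivSqZeroExt.ext ((IsScalarTower.algebraMap_apply Λ S k l).symm) (D.map_algebraMap l) },
     AlgHom.ext fun s => rfl⟩
  let ψ : ArtFun.HomSet S S'.res (ArtFun.Art.dual Λ k) :=
    ArtFun.HomSet.map ArtFun.Art.baseToDual ⟨S'.res, AlgHom.id_comp _⟩
  have h := hg _ maximalIdeal_dual_sq φ ψ fun i => TrivSqZeroExt.ext rfl (congrFun hD i)
  exact Derivation.ext fun s => congrArg (fun χ : ArtFun.HomSet S S'.res (ArtFun.Art.dual Λ k) => TrivSqZeroExt.snd (χ.1 s)) h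

end Groth.Agent.S12715
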