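import Groth.Statements.S12716
import Groth.Agent.ArtFunLib.Points
-- import your own Groth.Agent.* helpers here

set_option autoImplicit false
universe u v
open CategoryTheory
open ArtFun

namespace Groth.Agent.S12716

open Groth.Agent.ArtFunLib

/-- Let f : R → S be a morphism of complete local Noetherian Λ-algebras with residue field k (Λ
Noetherian, Λ → k finite). If the restriction map Der_Λ(S, k) → Der_Λ(R, k) is injective — two
Λ-derivations S → k that agree after composing with f are equal — then f is surjective. -/
theorem result {Λ : Type u} {k : Type u} [CommRing Λ] [Field k] [Algebra Λ k]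
    [IsNoetherianRing Λ] [Module.Finite Λ k]
    (R : ArtFun.CRing Λ k)
    (S : Type u) [CommRing S] [Algebra Λ S] [IsLocalRing S] [IsNoetherianRing S]
    [IsAdicComplete (IsLocalRing.maximalIdeal S) S] [Algebra S k] [IsScalarTower Λ S k]
    (hres : Function.Surjective (algebraMap S k))
    (f : R.carrier →ₐ[Λ] S) (hf : (IsScalarTower.toAlgHom Λ S k).comp f = R.res)
    (hinj : ∀ D₁ D₂ : Derivation Λ S k, (∀ r : R.carrier, D₁ (f r) = D₂ (f r)) → D₁ = D₂) :
    Function.Surjective f := by
  let S' : ArtFun.CRing Λ k := { carrier := S, res := IsScalarTower.toAlgHom Λ S k, res_surjective := hres, isAdicComplete := ‹_› }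
  refine surjective_of_tangent_injective (R := S') f hf fun a b hab => ?_
  have mk : ∀ φ : ArtFun.HomSet S S'.res (ArtFun.Art.dual Λ k), ∃ D : Derivation Λ S k,
      ∀ s, D s = TrivSqZeroExt.snd (φ.1 s) := fun φ => by
    let L : S →ₗ[Λ] k :=
      { toFun := fun s => TrivSqZeroExt.snd (φ.1 s)
        map_add' := fun x y => (congrArg TrivSqZeroExt.snd (map_add φ.1 x y)).trans rfl
        map_smul' := fun l x => (congrArg TrivSqZeroExt.snd (map_smul φ.1 l x)).trans rfl }
    refine ⟨Derivation.mk' L fun x y => ?_, fun s => rfl⟩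
    refine (snd_mul_dual (S := S') φ x y).trans ?_
    rw [Algebra.smul_def, Algebra.smul_def]
    rfl
  obtain ⟨Da, ha⟩ := mk a
  obtain ⟨Db, hb⟩ := mk b
  have e := hinj Da Db fun r => by rw [ha, hb, show a.1 (f r) = b.1 (f r) from hab r]
  exact HomSet.ext' fun s => TrivSqZeroExt.ext ((res_homSet a s).trans (res_homSet b s).symm)
    (by rw [← ha, ← hb, e])

end Groth.Agent.S12716
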