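import Groth.Statements.S12718
import Groth.Agent.ArtFunLib.Smooth
-- import your own Groth.Agent.* helpers here

set_option autoImplicit false
universe u v
open CategoryTheory
open ArtFun

namespace Groth.Agent.S12718

open Groth.Agent.ArtFunLib

/-- Let R → S be a morphism of complete local Noetherian Λ-algebras with residue field k. The induced
morphism h_S → h_R of functors on Artinian local Λ-algebras with residue field k (composition with R
→ S) is smooth if and only if S is isomorphic as an R-algebra to a power series ring R[[X₁, …, Xₙ]]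
for some n. Smoothness of h_S → h_R is written as versality of the corresponding family of h_R over
S. -/
theorem result {Λ : Type u} {k : Type u} [CommRing Λ] [Field k] [Algebra Λ k]
    [IsNoetherianRing Λ] [Module.Finite Λ k]
    (R S : ArtFun.CRing Λ k) [Algebra R.carrier S.carrier] [IsScalarTower Λ R.carrier S.carrier]
    (hRS : S.res.comp (IsScalarTower.toAlgHom Λ R.carrier S.carrier) = R.res) :
    ArtFun.IsVersal ((ArtFun.Family.self R.carrier R.res).along
        (IsScalarTower.toAlgHom Λ R.carrier S.carrier) hRS) ↔
      ∃ n : ℕ, Nonempty (S.carrier ≃ₐ[R.carrier] MvPowerSeries (Fin n) R.carrier) := by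
  letI alg : Algebra R.carrier k := R.res.toRingHom.toAlgebra
  have hk : Function.Surjective (algebraMap R.carrier k) := R.res_surjective
  have : Module.Finite R.carrier k := Module.Finite.of_surjective (Algebra.linearMap R.carrier k) hk
  have := R.isAdicComplete
  let S' : ArtFun.CRing R.carrier k :=
    { carrier := S.carrier
      res := { S.res.toRingHom with commutes' := fun r => DFunLike.congr_fun hRS r }
      res_surjective := S.res_surjective
      isAdicComplete := S.isAdicComplete }
  refine Iff.trans ?_ (isSmoothFunctor_iff_powerSeries hk S')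
  constructor
  · intro h B A μ hμ (φ : ArtFun.HomSet S'.carrier S'.res A)
    letI : Algebra Λ A := ((algebraMap R.carrier A).comp (algebraMap Λ R.carrier)).toAlgebra
    letI : Algebra Λ B := ((algebraMap R.carrier B).comp (algebraMap Λ R.carrier)).toAlgebra
    have hA : ∀ l, A.res (algebraMap Λ A l) = algebraMap Λ k l := fun l =>
      (A.res.commutes _).trans (R.res.commutes l)
    have hB : ∀ l, B.res (algebraMap Λ B l) = algebraMap Λ k l := fun l =>
      (B.res.commutes _).trans (R.res.commutes l)
    let A₀ : ArtFun.Art Λ k := ArtFun.Art.of A { A.res.toRingHom with commutes' := hA } A.res_surjective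
    let B₀ : ArtFun.Art Λ k := ArtFun.Art.of B { B.res.toRingHom with commutes' := hB } B.res_surjective
    let μ₀ : B₀ ⟶ A₀ := ⟨{ μ.toAlgHom.toRingHom with commutes' := fun l => μ.toAlgHom.commutes _ },
      AlgHom.ext fun b => ArtFun.Art.res_app μ b⟩
    let φ₀ : ArtFun.HomSet S.carrier S.res A₀ :=
      ⟨{ φ.1.toRingHom with
          commutes' := fun l => by
            change φ.1 (algebraMap Λ S.carrier l) = algebraMap R.carrier A (algebraMap Λ R.carrier l)
            rw [IsScalarTower.algebraMap_apply Λ R.carrier S.carrier]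
            exact φ.1.commutes _ }, AlgHom.ext fun s => res_homSet φ s⟩
    let y₀ : ArtFun.HomSet R.carrier R.res B₀ :=
      ⟨{ algebraMap R.carrier B with commutes' := fun l => rfl }, AlgHom.ext fun r => B.res.commutes r⟩
    obtain ⟨ψ, h1, h2⟩ := h (B := B₀) (A := A₀) μ₀ hμ φ₀ y₀
      (HomSet.ext' fun r => (μ.toAlgHom.commutes r).trans (φ.1.commutes r).symm)
    refine ⟨⟨{ ψ.1.toRingHom with
        commutes' := fun r => congrArg (fun χ : ArtFun.HomSet R.carrier R.res B₀ => χ.1 r) h2 },
      AlgHom.ext fun s => res_homSet ψ s⟩, ?_⟩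
    exact HomSet.ext' fun s => congrArg (fun χ : ArtFun.HomSet S.carrier S.res A₀ => χ.1 s) h1
  · intro h B A μ hμ φ y hy
    let φ : ArtFun.HomSet S.carrier S.res A := φ
    let y : ArtFun.HomSet R.carrier R.res B := y
    let iA : R.carrier →ₐ[Λ] A := φ.1.comp (IsScalarTower.toAlgHom Λ R.carrier S.carrier)
    letI : Algebra R.carrier A := iA.toRingHom.toAlgebra
    letI : Algebra R.carrier B := y.1.toRingHom.toAlgebra
    have hA : ∀ r, A.res (algebraMap R.carrier A r) = algebraMap R.carrier k r := fun r =>
      (res_homSet φ _).trans (DFunLike.congr_fun hRS r)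
    have hB : ∀ r, B.res (algebraMap R.carrier B r) = algebraMap R.carrier k r := fun r => res_homSet y r
    let A₁ : ArtFun.Art R.carrier k := ArtFun.Art.of A { A.res.toRingHom with commutes' := hA } A.res_surjective
    let B₁ : ArtFun.Art R.carrier k := ArtFun.Art.of B { B.res.toRingHom with commutes' := hB } B.res_surjective
    let μ₁ : B₁ ⟶ A₁ := ⟨{ μ.toAlgHom.toRingHom with
        commutes' := fun r => congrArg (fun χ : ArtFun.HomSet R.carrier R.res A => χ.1 r) hy },
      AlgHom.ext fun b => ArtFun.Art.res_app μ b⟩
    let φ₁ : ArtFun.HomSet S'.carrier S'.res A₁ :=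
      ⟨{ φ.1.toRingHom with commutes' := fun r => rfl }, AlgHom.ext fun s => res_homSet φ s⟩
    obtain ⟨ψ, hψ⟩ := h (B := B₁) (A := A₁) μ₁ hμ φ₁
    let ψ : ArtFun.HomSet S'.carrier S'.res B₁ := ψ
    refine ⟨⟨{ ψ.1.toRingHom with
        commutes' := fun l => by
          change ψ.1 (algebraMap Λ S.carrier l) = algebraMap Λ B l
          rw [IsScalarTower.algebraMap_apply Λ R.carrier S.carrier]
          exact (ψ.1.commutes _).trans (y.1.commutes l) }, AlgHom.ext fun s => res_homSet ψ s⟩, ?_, ?_⟩
    · exact HomSet.ext' fun s => congrArg (fun χ : ArtFun.HomSet S'.carrier S'.res A₁ => χ.1 s) hψ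
    · exact HomSet.ext' fun r => ψ.1.commutes r

end Groth.Agent.S12718
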