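import Groth.Statements.S12734
import Groth.Agent.ArtFunLib.HullGen
-- import your own Groth.Agent.* helpers here

set_option autoImplicit false
universe u v
open CategoryTheory
open ArtFun

namespace Groth.Agent.S12734

open Groth.Agent.ArtFunLib

/-- A functor F on Artinian local Λ-algebras with residue field k is prorepresentable if and only if (a)
F(k) is a point and F satisfies (RS): F(A₁ ×_A A₂) → F(A₁) ×_{F(A)} F(A₂) is bijective whenever A₂ →
A is surjective; (b) its tangent space is finite-dimensional; and (c) the map from morphisms k →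
k[ε] of the category (the Λ-derivations of k) to the tangent space, σ ↦ F(σ)(x₀), is injective.
Condition (c) is empty when k is separable over the image of Λ in k. -/
theorem result {Λ : Type u} {k : Type u} [CommRing Λ] [Field k] [Algebra Λ k]
    [IsNoetherianRing Λ] [Module.Finite Λ k]
    (F : ArtFun.Art Λ k ⥤ Type v) [ArtFun.TangentStr F] :
    ArtFun.IsProrepresentable F ↔
      ((ArtFun.H0 F ∧ (∀ ⦃B A A' A'' : ArtFun.Art Λ k⦄ (p' : B ⟶ A') (p'' : B ⟶ A'') (f' : A' ⟶ A) (f'' : A'' ⟶ A)
        (h : ArtFun.Art.IsFibreProd p' p'' f' f''), Function.Surjective f'' → Function.Bijective (ArtFun.cmp F h))) ∧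
        ArtFun.Hfin F ∧
        ∀ x₀ : F.obj (ArtFun.Art.base Λ k),
          Function.Injective (fun σ : ArtFun.Art.base Λ k ⟶ ArtFun.Art.dual Λ k => F.map σ x₀)) := by
  constructor
  · intro h
    obtain ⟨h0, hl, hf⟩ := conditions_of_proRep h
    obtain ⟨P⟩ := h
    refine ⟨⟨h0, fun B A A' A'' p' p'' f' f'' h _ => hl p' p'' f' f'' h⟩, hf, fun x₀ σ τ hστ => ?_⟩
    obtain ⟨a, rfl⟩ := (P.universal _).2 x₀
    simp only [← P.family.natural] at hστ
    have h1 := (P.universal _).1 hστ
    refine ArtFun.Art.hom_ext (AlgHom.ext fun c => ?_)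
    obtain ⟨s, rfl⟩ : ∃ s, a.1 s = c := by
      obtain ⟨s, hs⟩ := P.ring.res_surjective c
      exact ⟨s, (res_homSet a s).trans hs⟩
    exact congrArg (fun χ : ArtFun.HomSet P.ring.carrier P.ring.res (ArtFun.Art.dual Λ k) => χ.1 s) h1
  · rintro ⟨⟨h0, hrs⟩, hf, hinj⟩
    exact prorepresentable_of_injective h0 (fun _ _ _ _ p' p'' f' f'' h hs => (hrs p' p'' f' f'' h hs.1).2)
      (fun _ _ p' p'' h => hrs p' p'' _ _ h (ArtFun.Art.dual Λ k).res_surjective) hf
      (fun _ _ _ p₁ p₂ f h hs => hrs p₁ p₂ f f h hs.1) (hinj _)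

end Groth.Agent.S12734
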