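import Groth.Statements.S12735
import Groth.Agent.ArtFunLib.Points
-- import your own Groth.Agent.* helpers here

set_option autoImplicit false
universe u v
open CategoryTheory
open ArtFun

namespace Groth.Agent.S12735

open Groth.Agent.ArtFunLib

/-- Let U be a prorepresentable functor on Artinian local Λ-algebras with residue field k and φ : U → U
an endomorphism of functors which is bijective on the tangent space U(k[ε]). Then φ is an
isomorphism: every component is bijective. -/
theorem result {Λ : Type u} {k : Type u} [CommRing Λ] [Field k] [Algebra Λ k]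
    [IsNoetherianRing Λ] [Module.Finite Λ k]
    {U : ArtFun.Art Λ k ⥤ Type v} (hU : ArtFun.IsProrepresentable U)
    (φ : U ⟶ U) (hd : Function.Bijective (ArtFun.TangentSpace.map φ)) (A : ArtFun.Art Λ k) :
    Function.Bijective (φ.app A) := by
  obtain ⟨P⟩ := hU
  have h0 := h0_of_bijective_dual P.family (P.universal _).2
  obtain ⟨g, hg, hgf⟩ := exists_along_eq h0 P.family (fun B A μ _ χ y hy => by
    obtain ⟨ψ, rfl⟩ := (P.universal B).2 y
    exact ⟨ψ, (P.universal A).1 (by rw [P.family.natural, hy]), rfl⟩) P.ring (P.family.push φ).toFormalElt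
  have key : ∀ (A : ArtFun.Art Λ k) (a : ArtFun.HomSet P.ring.carrier P.ring.res A),
      φ.app A (P.family.app A a) = P.family.app A (homPre g hg a) := fun A a =>
    congrArg (fun ξ : ArtFun.Family _ _ _ => ξ.app A a) (bijective_toFormalElt.1 hgf).symm
  have hs : Function.Surjective g := surjective_of_tangent_injective g hg fun a b hab => by
    refine (P.universal _).1 (hd.1 ?_)
    change φ.app _ (P.family.app _ a) = φ.app _ (P.family.app _ b)
    rw [key, key, show homPre g hg a = homPre g hg b from HomSet.ext' hab]
  have hb := bijective_of_surjective_endo g.toRingHom hs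
  refine ⟨fun x y hxy => ?_, fun x => ?_⟩
  · obtain ⟨a, rfl⟩ := (P.universal A).2 x
    obtain ⟨b, rfl⟩ := (P.universal A).2 y
    rw [key, key] at hxy
    refine congrArg (P.family.app A) (HomSet.ext' fun r => ?_)
    obtain ⟨r, rfl⟩ := hs r
    exact congrArg (fun χ : ArtFun.HomSet P.ring.carrier P.ring.res A => χ.1 r) ((P.universal A).1 hxy)
  · obtain ⟨a, rfl⟩ := (P.universal A).2 x
    let e := AlgEquiv.ofBijective g hb
    have he : P.ring.res.comp e.symm.toAlgHom = P.ring.res := AlgHom.ext fun r => by
      conv_rhs => rw [← e.apply_symm_apply r]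
      exact (res_comp_apply hg _).symm
    refine ⟨P.family.app A (homPre e.symm.toAlgHom he a), ?_⟩
    rw [key]
    exact congrArg (P.family.app A) (HomSet.ext' fun r => congrArg a.1 (e.symm_apply_apply r))

end Groth.Agent.S12735
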