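import Groth.Statements.S12739
import Groth.Agent.ArtFunLib.Points
-- import your own Groth.Agent.* helpers here

set_option autoImplicit false
universe u v
open CategoryTheory
open ArtFun

namespace Groth.Agent.S12739

open Groth.Agent.ArtFunLib

/-- Let … → A₃ → A₂ → A₁ be surjective morphisms of Artinian local Λ-algebras with residue field k (Λ
Noetherian, Λ → k finite) with dim_k m_{A_n}/m_{A_n}² bounded. Then lim A_n is a complete local
Noetherian Λ-algebra with residue field k: some such S carries compatible surjective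
augmentation-preserving maps S → A_n identifying S with the set of compatible sequences, and the
kernels of S → A_n define the m_S-adic topology on S. -/
theorem result {Λ : Type u} {k : Type u} [CommRing Λ] [Field k] [Algebra Λ k]
    [IsNoetherianRing Λ] [Module.Finite Λ k]
    (A : ℕ → ArtFun.Art Λ k) (f : ∀ n, A (n + 1) ⟶ A n) (hf : ∀ n, Function.Surjective (f n))
    (d : ℕ) (hd : ∀ n, Module.finrank (IsLocalRing.ResidueField (A n)) (IsLocalRing.CotangentSpace (A n)) ≤ d) :
    ∃ (S : ArtFun.CRing Λ k) (π : ∀ n, ArtFun.HomSet S.carrier S.res (A n)),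
      (∀ n, ArtFun.HomSet.map (f n) (π (n + 1)) = π n) ∧
      (∀ n, Function.Surjective (π n).1) ∧
      (∀ a : ∀ n, A n, (∀ n, f n (a (n + 1)) = a n) → ∃! s : S.carrier, ∀ n, (π n).1 s = a n) ∧
      (∀ n, ∃ N, RingHom.ker (π N).1 ≤ IsLocalRing.maximalIdeal S.carrier ^ n) ∧
      (∀ n, ∃ N, IsLocalRing.maximalIdeal S.carrier ^ N ≤ RingHom.ker (π n).1) := by
  classical
  have len : ∀ B : ArtFun.Art Λ k, Module.length B (IsLocalRing.CotangentSpace B) =
      Module.finrank (IsLocalRing.ResidueField B) (IsLocalRing.CotangentSpace B) := fun B => by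
    rw [Module.length_eq_of_surjective (R := IsLocalRing.ResidueField B) IsLocalRing.residue_surjective,
      Module.length_eq_finrank]
  obtain ⟨n₀, -, hmax⟩ : ∃ n₀, True ∧ ∀ n, Module.finrank (IsLocalRing.ResidueField (A n)) (IsLocalRing.CotangentSpace (A n)) ≤
      Module.finrank (IsLocalRing.ResidueField (A n₀)) (IsLocalRing.CotangentSpace (A n₀)) := by
    by_contra hne
    push_neg at hne
    choose g hg using fun n => hne n trivial
    have : ∀ j, j ≤ Module.finrank (IsLocalRing.ResidueField (A (g^[j] 0))) (IsLocalRing.CotangentSpace (A (g^[j] 0))) := fun j => by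
      induction j with
      | zero => exact Nat.zero_le _
      | succ j ih => rw [Function.iterate_succ_apply']; exact lt_of_le_of_lt ih (hg _)
    have := (this (d + 1)).trans (hd _)
    omega
  have hG : ∀ (i j : ℕ), i ≤ j → ∃ G : A j ⟶ A i, Function.Surjective G := fun i j h => by
    induction j, h using Nat.le_induction with
    | base => exact ⟨𝟙 _, Function.surjective_id⟩
    | succ j h ih =>
      obtain ⟨G, hGs⟩ := ih
      exact ⟨f j ≫ G, fun x => by obtain ⟨y, rfl⟩ := hGs x; obtain ⟨z, rfl⟩ := hf j y; exact ⟨z, rfl⟩⟩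
  have key : ∀ {B C : ArtFun.Art Λ k} (g : B ⟶ C), Function.Surjective g →
      Module.finrank (IsLocalRing.ResidueField B) (IsLocalRing.CotangentSpace B) ≤
        Module.finrank (IsLocalRing.ResidueField C) (IsLocalRing.CotangentSpace C) →
      ∀ w ∈ IsLocalRing.maximalIdeal B, g w ∈ IsLocalRing.maximalIdeal C ^ 2 → w ∈ IsLocalRing.maximalIdeal B ^ 2 := by
    intro B C g hg hle w hw hgw
    letI : Algebra B C := g.toAlgHom.toRingHom.toAlgebra
    let gg : B →ₐ[B] C := Algebra.ofId B C
    have hcomap : IsLocalRing.maximalIdeal B ≤ (IsLocalRing.maximalIdeal C).comap gg := fun x hx =>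
      (apply_mem_maximalIdeal_iff g x).mpr hx
    let T := Ideal.mapCotangent _ _ gg hcomap
    have hT : Function.Surjective T := fun z => by
      obtain ⟨⟨c, hc⟩, rfl⟩ := Ideal.toCotangent_surjective _ z
      obtain ⟨b, rfl⟩ := hg c
      exact ⟨Ideal.toCotangent _ ⟨b, (apply_mem_maximalIdeal_iff g b).mp hc⟩, rfl⟩
    have hadd := Module.length_eq_add_of_exact (LinearMap.ker T).subtype T (LinearMap.ker T).subtype_injective hT
      (LinearMap.exact_subtype_ker_map T)
    have e1 : Module.length B (IsLocalRing.CotangentSpace C) = Module.length C (IsLocalRing.CotangentSpace C) :=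
      Module.length_eq_of_surjective (R := C) hg
    rw [e1, len, len] at hadd
    have h0 : Module.length B (LinearMap.ker T) = 0 := by
      have hfin : Module.length B (LinearMap.ker T) ≠ ⊤ := fun ht => by
        rw [ht, top_add] at hadd
        exact ENat.coe_ne_top _ hadd
      obtain ⟨l, hl⟩ := ENat.ne_top_iff_exists.mp hfin
      rw [← hl] at hadd ⊢
      norm_cast at hadd ⊢
      omega
    rw [Module.length_eq_zero_iff] at h0
    have hz : Ideal.toCotangent _ ⟨w, hw⟩ ∈ LinearMap.ker T :=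
      LinearMap.mem_ker.mpr ((Ideal.toCotangent_eq_zero _ _).mpr hgw)
    exact (Ideal.toCotangent_eq_zero _ _).mp (congrArg Subtype.val (h0.elim ⟨_, hz⟩ 0))
  obtain ⟨r, c, hc⟩ := exists_residue_generators (Λ := Λ) (k := k)
  obtain ⟨e, x, hx⟩ := Submodule.fg_iff_exists_fin_generating_family.mp (IsNoetherian.noetherian (IsLocalRing.maximalIdeal (A n₀)))
  have hxm : ∀ i, x i ∈ IsLocalRing.maximalIdeal (A n₀) := fun i => hx ▸ Submodule.subset_span (Set.mem_range_self i)
  let cc : ULift.{u} (Fin r ⊕ Fin e) → k := fun i => Sum.elim c 0 i.down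
  have hcc : Algebra.adjoin Λ (Set.range cc) = ⊤ := top_le_iff.mp (hc ▸ Algebra.adjoin_mono
    (Set.range_subset_iff.mpr fun i => ⟨⟨Sum.inl i⟩, rfl⟩))
  obtain ⟨S, X, hX, hfree⟩ := exists_free _ cc hcc
  choose cb hcb using fun i => (A n₀).res_surjective (c i)
  obtain ⟨φ₀, hφ₀, -⟩ := hfree (A n₀) (fun i => Sum.elim cb x i.down) (by
    rintro ⟨i | i⟩
    · exact hcb i
    · exact (ArtFun.Art.mem_maximalIdeal_iff _ _).mp (hxm i))
  have hlift : ∀ n (φ : ArtFun.HomSet S.carrier S.res (A n)), ∃ ψ : ArtFun.HomSet S.carrier S.res (A (n + 1)),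
      ArtFun.HomSet.map (f n) ψ = φ := fun n φ => by
    choose b hb using fun i => hf n (φ.1 (X i))
    obtain ⟨ψ, hψ, -⟩ := hfree (A (n + 1)) b fun i => by rw [← ArtFun.Art.res_app (f n), hb, res_homSet, hX]
    obtain ⟨φ', -, huniq⟩ := hfree (A n) (fun i => φ.1 (X i)) fun i => by rw [res_homSet, hX]
    refine ⟨ψ, ?_⟩
    rw [huniq φ fun _ => rfl]
    exact huniq _ fun i => (congrArg (f n).toAlgHom (hψ i)).trans (hb i)
  choose lift hliftc using hlift
  let seq : ∀ j, ArtFun.HomSet S.carrier S.res (A (n₀ + j)) := Nat.rec φ₀ fun j p => lift (n₀ + j) p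
  have hseq0 : ∀ j, ∃ G : A (n₀ + j) ⟶ A n₀, Function.Surjective G ∧ ArtFun.HomSet.map G (seq j) = φ₀ := fun j => by
    induction j with
    | zero => exact ⟨𝟙 _, Function.surjective_id, HomSet.ext' fun s => rfl⟩
    | succ j ih =>
      obtain ⟨G, hGs, hG'⟩ := ih
      refine ⟨f (n₀ + j) ≫ G, fun z => ?_, ?_⟩
      · obtain ⟨y, rfl⟩ := hGs z
        obtain ⟨w, rfl⟩ := hf _ y
        exact ⟨w, rfl⟩
      · rw [← hG']
        exact HomSet.ext' fun s => congrArg G.toAlgHom
          (congrArg (fun χ : ArtFun.HomSet S.carrier S.res (A (n₀ + j)) => χ.1 s) (hliftc (n₀ + j) (seq j)))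
  have hseqs : ∀ j, Function.Surjective (seq j).1 := fun j => by
    obtain ⟨G, hGs, hG'⟩ := hseq0 j
    refine surjective_of_cotangent (R := artCRing (A (n₀ + j))) (R' := S) (seq j).1 (seq j).2 fun (w : A (n₀ + j)) hw => ?_
    have hgw : G w ∈ IsLocalRing.maximalIdeal (A n₀) := (apply_mem_maximalIdeal_iff G w).mpr hw
    rw [← hx] at hgw
    obtain ⟨q, hq⟩ := (Submodule.mem_span_range_iff_exists_fun _).mp hgw
    choose q' hq' using fun i => hGs (q i)
    let u := ∑ i, q' i * (seq j).1 (X ⟨Sum.inr i⟩)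
    have hu : u ∈ (IsLocalRing.maximalIdeal S.carrier).map (seq j).1 := sum_mem fun i _ =>
      Ideal.mul_mem_left _ _ (Ideal.mem_map_of_mem _ ((ArtFun.CRing.mem_maximalIdeal_iff S _).mpr (hX _)))
    have hGu : G u = G w := by
      rw [← hq, map_sum]
      refine Finset.sum_congr rfl fun i _ => ?_
      rw [map_mul, hq', smul_eq_mul]
      exact congrArg (q i * ·) ((congrArg (fun χ : ArtFun.HomSet S.carrier S.res (A n₀) => χ.1 (X ⟨Sum.inr i⟩)) hG').trans (hφ₀ _))
    have h2 := key G hGs (hmax _) (w - u) (sub_mem hw (map_maximalIdeal_le (seq j) hu))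
      (by rw [map_sub, hGu, sub_self]; exact zero_mem _)
    rw [← sub_add_cancel w u]
    exact add_mem (Ideal.mem_sup_right h2) (Ideal.mem_sup_left (Ideal.mem_sup_right hu))
  let T : ∀ n m, n ≤ m → (A m ⟶ A n) := fun n m h =>
    Nat.leRec (motive := fun m _ => A m ⟶ A n) (𝟙 _) (fun i _ g => f i ≫ g) h
  have T_self : ∀ n, T n n le_rfl = 𝟙 _ := fun n => Nat.leRec_self _ _
  have T_succ : ∀ n m (h : n ≤ m) (h' : n ≤ m + 1), T n (m + 1) h' = f m ≫ T n m h := fun n m h h' =>
    Nat.leRec_succ _ _ h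
  have T_comp : ∀ n m (h : n + 1 ≤ m), T (n + 1) m h ≫ f n = T n m (n.le_succ.trans h) := fun n m h => by
    induction m, h using Nat.le_induction with
    | base => rw [T_self, T_succ n n le_rfl, T_self]; simp
    | succ m h ih => rw [T_succ (n + 1) m h, Category.assoc, ih, T_succ n m (n.le_succ.trans h)]
  have trs : ∀ n m (h : n ≤ m), Function.Surjective (T n m h) := fun n m h => by
    induction m, h using Nat.le_induction with
    | base => rw [T_self]; exact Function.surjective_id
    | succ m h ih =>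
      rw [T_succ n m h]
      exact fun z => by obtain ⟨y, rfl⟩ := ih z; obtain ⟨w, rfl⟩ := hf _ y; exact ⟨w, rfl⟩
  let π₀ : ∀ n, ArtFun.HomSet S.carrier S.res (A n) := fun n =>
    ArtFun.HomSet.map (T n (n₀ + n) (Nat.le_add_left n n₀)) (seq n)
  have hseqc : ∀ j, ArtFun.HomSet.map (f (n₀ + j)) (seq (j + 1)) = seq j := fun j => hliftc _ _
  have hmm : ∀ {X Y Z : ArtFun.Art Λ k} (a : X ⟶ Y) (b : Y ⟶ Z) (χ : ArtFun.HomSet S.carrier S.res X),
      ArtFun.HomSet.map b (ArtFun.HomSet.map a χ) = ArtFun.HomSet.map (a ≫ b) χ := fun a b χ => HomSet.ext' fun s => rfl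
  have hπc : ∀ n, ArtFun.HomSet.map (f n) (π₀ (n + 1)) = π₀ n := fun n => by
    change ArtFun.HomSet.map (f n) (ArtFun.HomSet.map (T (n + 1) (n₀ + n + 1) _) (seq (n + 1))) =
      ArtFun.HomSet.map (T n (n₀ + n) _) (seq n)
    rw [hmm, T_comp, T_succ n (n₀ + n) (Nat.le_add_left n n₀), ← hmm]
    exact congrArg (ArtFun.HomSet.map (T n (n₀ + n) _)) (hseqc n)
  have hπs : ∀ n, Function.Surjective (π₀ n).1 := fun n z => by
    obtain ⟨y, rfl⟩ := trs n (n₀ + n) (Nat.le_add_left n n₀) z
    obtain ⟨s, rfl⟩ := hseqs n y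
    exact ⟨s, rfl⟩
  have hanti : Antitone fun n => RingHom.ker (π₀ n).1 := antitone_nat_of_succ_le fun n s hs => by
    change (π₀ n).1 s = 0
    rw [← hπc n]
    change f n ((π₀ (n + 1)).1 s) = 0
    rw [show (π₀ (n + 1)).1 s = 0 from hs, map_zero]
  let J : Ideal S.carrier := ⨅ n, RingHom.ker (π₀ n).1
  have hJ : J ≤ IsLocalRing.maximalIdeal S.carrier := (iInf_le _ 0).trans fun s hs => by
    rw [ArtFun.CRing.mem_maximalIdeal_iff, ← res_homSet (π₀ 0), show (π₀ 0).1 s = 0 from hs, map_zero]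
  choose π hπ using fun n => exists_quot_factor S J hJ (π₀ n) (iInf_le (fun n => RingHom.ker (π₀ n).1) n)
  have hfin1 : ∀ m, ∃ N, RingHom.ker (π N).1 ≤ IsLocalRing.maximalIdeal (quotCRing S J hJ).carrier ^ (m + 1) := fun m => by
    obtain ⟨N, hN⟩ := chevalley (fun n => RingHom.ker (π₀ n).1) hanti m
    refine ⟨N, fun q hq => ?_⟩
    obtain ⟨s, rfl⟩ := quotProj_surjective S J hJ q
    obtain ⟨a, ha, b, hb, rfl⟩ := Submodule.mem_sup.mp (hN (show (π₀ N).1 s = 0 from (hπ N s).symm.trans hq))
    rw [map_add, (quotProj_eq_zero_iff S J hJ a).mpr ha, zero_add]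
    refine Ideal.pow_right_mono (map_maximal_le (res_comp_quotProj S J hJ)) (m + 1) ?_
    rw [← Ideal.map_pow]
    exact Ideal.mem_map_of_mem _ hb
  have hfin2 : ∀ n, ∃ N, IsLocalRing.maximalIdeal (quotCRing S J hJ).carrier ^ N ≤ RingHom.ker (π n).1 := fun n => by
    obtain ⟨N, hN⟩ := exists_mpow_le_ker (π n)
    exact ⟨N + 1, hN⟩
  have hcomp : ∀ n, ArtFun.HomSet.map (f n) (π (n + 1)) = π n := fun n => HomSet.ext' fun q => by
    obtain ⟨s, rfl⟩ := quotProj_surjective S J hJ q
    rw [hπ]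
    change f n ((π (n + 1)).1 _) = _
    rw [hπ]
    exact congrArg (fun χ : ArtFun.HomSet S.carrier S.res (A n) => χ.1 s) (hπc n)
  refine ⟨quotCRing S J hJ, π, hcomp, fun n z => ?_, fun a ha => ?_, fun n => ?_, hfin2⟩
  · obtain ⟨s, rfl⟩ := hπs n z
    exact ⟨_, hπ n s⟩
  · have := (quotCRing S J hJ).isAdicComplete
    choose ν hν using hfin1
    let μ : ℕ → ℕ := fun m => (Finset.range (m + 1)).sup ν + m
    have hμ : Monotone μ := fun i j h => Nat.add_le_add (Finset.sup_mono (Finset.range_mono (by omega))) h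
    have hνμ : ∀ m, ν m ≤ μ m := fun m => le_add_right (Finset.le_sup (Finset.self_mem_range_succ m))
    choose x hxa using fun m => hπs (μ m) (a (μ m))
    have hπmap : ∀ i j, i ≤ j → ∀ q, (π j).1 q = a j → (π i).1 q = a i := fun i j h q hq => by
      induction j, h using Nat.le_induction with
      | base => exact hq
      | succ j h ih =>
        refine ih ?_
        rw [← hcomp j, ← ha j, ← hq]
        rfl
    let q : ℕ → (quotCRing S J hJ).carrier := fun m => quotProj S J hJ (x m)
    have hqa : ∀ m, (π (μ m)).1 (q m) = a (μ m) := fun m => (hπ _ _).trans (hxa m)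
    obtain ⟨L, hL⟩ := IsPrecomplete.prec (I := IsLocalRing.maximalIdeal (quotCRing S J hJ).carrier) inferInstance
      (f := q) fun {i j} h => by
        rw [SModEq.comm, SModEq.sub_mem, smul_eq_mul, Ideal.mul_top]
        refine Ideal.pow_le_pow_right (Nat.le_succ i) (hν i ?_)
        rw [RingHom.mem_ker, map_sub, hπmap _ _ (hνμ i) _ (hπmap _ _ (hμ h) _ (hqa j)),
          hπmap _ _ (hνμ i) _ (hqa i), sub_self]
    refine ⟨L, fun n => ?_, fun y hy => ?_⟩
    · obtain ⟨N, hN⟩ := hfin2 n
      have h1 : q (max n N) - L ∈ IsLocalRing.maximalIdeal (quotCRing S J hJ).carrier ^ N := by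
        have := hL (max n N)
        rw [SModEq.sub_mem, smul_eq_mul, Ideal.mul_top] at this
        exact Ideal.pow_le_pow_right (le_max_right _ _) this
      have h2 := hN h1
      rw [RingHom.mem_ker, map_sub, sub_eq_zero] at h2
      rw [← h2]
      exact hπmap _ _ ((le_max_left n N).trans (Nat.le_add_left _ _)) _ (hqa _)
    · refine (IsHausdorff.eq_iff_smodEq (I := IsLocalRing.maximalIdeal (quotCRing S J hJ).carrier)).2 fun m => ?_
      rw [SModEq.sub_mem, smul_eq_mul, Ideal.mul_top]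
      refine Ideal.pow_le_pow_right (Nat.le_succ m) (hν m ?_)
      obtain ⟨N, hN⟩ := hfin2 (ν m)
      have h1 : q (max (ν m) N) - L ∈ IsLocalRing.maximalIdeal (quotCRing S J hJ).carrier ^ N := by
        have := hL (max (ν m) N)
        rw [SModEq.sub_mem, smul_eq_mul, Ideal.mul_top] at this
        exact Ideal.pow_le_pow_right (le_max_right _ _) this
      have h2 := hN h1
      rw [RingHom.mem_ker, map_sub, sub_eq_zero] at h2
      rw [RingHom.mem_ker, map_sub, ← h2, hy,
        hπmap _ _ ((le_max_left (ν m) N).trans (Nat.le_add_left _ _)) _ (hqa _), sub_self]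
  · obtain ⟨N, hN⟩ := hfin1 n
    exact ⟨N, hN.trans (Ideal.pow_le_pow_right (Nat.le_succ n))⟩

end Groth.Agent.S12739
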