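import Groth.Statements.S12742
import Groth.Agent.ArtFunLib.Points
-- import your own Groth.Agent.* helpers here

set_option autoImplicit false
universe u v
open CategoryTheory
open ArtFun

namespace Groth.Agent.S12742

open Groth.Agent.ArtFunLib

/-- For functors, a morphism f : F → G of deformation functors on Artinian local Λ-algebras with residue
field k (values at k a point, condition (RS) for both) is smooth if and only if (1) it is surjective
on tangent spaces and (2) for every small extension A' → A and every x ∈ F(A) whose image in G(A)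
lifts to G(A'), x lifts to F(A'). -/
theorem result {Λ : Type u} {k : Type u} [CommRing Λ] [Field k] [Algebra Λ k]
    [IsNoetherianRing Λ] [Module.Finite Λ k]
    {F G : ArtFun.Art Λ k ⥤ Type v}
    (hF0 : ArtFun.H0 F) (hF : (∀ ⦃B A A' A'' : ArtFun.Art Λ k⦄ (p' : B ⟶ A') (p'' : B ⟶ A'') (f' : A' ⟶ A) (f'' : A'' ⟶ A)
        (h : ArtFun.Art.IsFibreProd p' p'' f' f''), Function.Surjective f'' → Function.Bijective (ArtFun.cmp F h)))
    (hG0 : ArtFun.H0 G) (hG : (∀ ⦃B A A' A'' : ArtFun.Art Λ k⦄ (p' : B ⟶ A') (p'' : B ⟶ A'') (f' : A' ⟶ A) (f'' : A'' ⟶ A)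
        (h : ArtFun.Art.IsFibreProd p' p'' f' f''), Function.Surjective f'' → Function.Bijective (ArtFun.cmp G h)))
    (f : F ⟶ G) :
    ArtFun.IsSmooth f ↔
      (Function.Surjective (ArtFun.TangentSpace.map f) ∧
        ∀ ⦃A' A : ArtFun.Art Λ k⦄ (μ : A' ⟶ A), ArtFun.Art.IsSmallExt μ → ∀ x : F.obj A,
          (∃ y' : G.obj A', G.map μ y' = f.app A x) → ∃ x' : F.obj A', F.map μ x' = x) := by
  rw [isSmooth_iff]
  constructor
  · intro h
    refine ⟨Mor.app_surjective _ h (fun y => ⟨hF0.1.some, @Subsingleton.elim _ hG0.2 _ _⟩) _, fun A' A μ hμ x ⟨y, hy⟩ => ?_⟩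
    obtain ⟨z, hz, -⟩ := h μ hμ.1 x y hy
    exact ⟨z, hz⟩
  · rintro ⟨ht, hl⟩
    exact Mor.smooth_of_criterion _ (fun _ _ _ _ p' p'' f' f'' h hf => (hG p' p'' f' f'' h hf.1).2) (fun _ _ p' p'' h => hG p' p'' _ _ h (ArtFun.Art.dual Λ k).res_surjective) hF0 (fun _ _ p' p'' h => hF p' p'' _ _ h (ArtFun.Art.dual Λ k).res_surjective) ht hl

end Groth.Agent.S12742
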