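import Groth.Statements.S12744
import Groth.Agent.ArtFunLib.Points
-- import your own Groth.Agent.* helpers here

set_option autoImplicit false
universe u v
open CategoryTheory
open ArtFun

namespace Groth.Agent.S12744

open Groth.Agent.ArtFunLib

/-- For functors, if η : F → G is a smooth morphism of functors on Artinian local Λ-algebras with
residue field k and F(k) → G(k) is surjective, then for every complete local Noetherian R with
residue field k the induced map on formal elements over R (compatible systems of elements over the
truncations R/m^(n+1)) is surjective. -/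
theorem result {Λ : Type u} {k : Type u} [CommRing Λ] [Field k] [Algebra Λ k]
    [IsNoetherianRing Λ] [Module.Finite Λ k]
    {F G : ArtFun.Art Λ k ⥤ Type v} (η : F ⟶ G) (hη : ArtFun.IsSmooth η)
    (h0 : Function.Surjective (η.app (ArtFun.Art.base Λ k))) (R : ArtFun.CRing Λ k) :
    Function.Surjective (fun u : ArtFun.FormalElt F R => u.map η) := by
  intro w
  have hsm := (isSmooth_iff η).mp hη
  have hstart := Mor.app_surjective _ hsm h0 (R.trunc 0) (w.elt 0)
  have hstep : ∀ n (x : F.obj (R.trunc n)), η.app _ x = w.elt n →
      ∃ x' : F.obj (R.trunc (n + 1)), F.map (R.truncMap n) x' = x ∧ η.app _ x' = w.elt (n + 1) :=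
    fun n x h => hsm (R.truncMap n) (truncMap_surjective R n) x (w.elt (n + 1)) (by rw [w.compat]; exact h.symm)
  choose x₀ hx₀ using hstart
  choose next hn1 hn2 using hstep
  let seq : ∀ n, {x : F.obj (R.trunc n) // η.app _ x = w.elt n} :=
    Nat.rec ⟨x₀, hx₀⟩ fun n p => ⟨next n p.1 p.2, hn2 n p.1 p.2⟩
  exact ⟨⟨fun n => (seq n).1, fun n => hn1 n (seq n).1 (seq n).2⟩, ArtFun.FormalElt.ext' fun n => (seq n).2⟩

end Groth.Agent.S12744
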