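import Groth.Statements.S12746
import Groth.Agent.ArtFunLib.Points
-- import your own Groth.Agent.* helpers here

set_option autoImplicit false
universe u v
open CategoryTheory
open ArtFun

namespace Groth.Agent.S12746

open Groth.Agent.ArtFunLib

/-- For functors, if F, G, H are functors on Artinian local Λ-algebras with residue field k satisfying
(RS) and f : H → F, g : G → F are morphisms, then the fibre product functor H ×_F G satisfies (RS). -/
theorem result {Λ : Type u} {k : Type u} [CommRing Λ] [Field k] [Algebra Λ k]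
    [IsNoetherianRing Λ] [Module.Finite Λ k]
    {F G H : ArtFun.Art Λ k ⥤ Type v} (f : H ⟶ F) (g : G ⟶ F)
    (hF : (∀ ⦃B A A' A'' : ArtFun.Art Λ k⦄ (p' : B ⟶ A') (p'' : B ⟶ A'') (f' : A' ⟶ A) (f'' : A'' ⟶ A)
        (h : ArtFun.Art.IsFibreProd p' p'' f' f''), Function.Surjective f'' → Function.Bijective (ArtFun.cmp F h))) (hG : (∀ ⦃B A A' A'' : ArtFun.Art Λ k⦄ (p' : B ⟶ A') (p'' : B ⟶ A'') (f' : A' ⟶ A) (f'' : A'' ⟶ A)
        (h : ArtFun.Art.IsFibreProd p' p'' f' f''), Function.Surjective f'' → Function.Bijective (ArtFun.cmp G h))) (hH : (∀ ⦃B A A' A'' : ArtFun.Art Λ k⦄ (p' : B ⟶ A') (p'' : B ⟶ A'') (f' : A' ⟶ A) (f'' : A'' ⟶ A)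
        (h : ArtFun.Art.IsFibreProd p' p'' f' f''), Function.Surjective f'' → Function.Bijective (ArtFun.cmp H h))) :
    (∀ ⦃B A A' A'' : ArtFun.Art Λ k⦄ (p' : B ⟶ A') (p'' : B ⟶ A'') (f' : A' ⟶ A) (f'' : A'' ⟶ A)
        (h : ArtFun.Art.IsFibreProd p' p'' f' f''), Function.Surjective f'' → Function.Bijective (ArtFun.cmp (CategoryTheory.Limits.pullback f g) h)) := by
  intro B A A' A'' p' p'' f' f'' h hs
  refine ⟨(cmp_injective_iff h).mpr fun x y e1 e2 => pullback_ext f g ?_ ?_, (cmp_surjective_iff h).mpr fun a' a'' e => ?_⟩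
  · refine (cmp_injective_iff h).mp (hH p' p'' f' f'' h hs).1 _ _ ?_ ?_
    · rw [← NatTrans.naturality_apply, e1, NatTrans.naturality_apply]
    · rw [← NatTrans.naturality_apply, e2, NatTrans.naturality_apply]
  · refine (cmp_injective_iff h).mp (hG p' p'' f' f'' h hs).1 _ _ ?_ ?_
    · rw [← NatTrans.naturality_apply, e1, NatTrans.naturality_apply]
    · rw [← NatTrans.naturality_apply, e2, NatTrans.naturality_apply]
  · obtain ⟨a, ha1, ha2⟩ := (cmp_surjective_iff h).mp (hH p' p'' f' f'' h hs).2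
      ((Limits.pullback.fst f g).app A' a') ((Limits.pullback.fst f g).app A'' a'')
      (by rw [← NatTrans.naturality_apply, e, NatTrans.naturality_apply])
    obtain ⟨b, hb1, hb2⟩ := (cmp_surjective_iff h).mp (hG p' p'' f' f'' h hs).2
      ((Limits.pullback.snd f g).app A' a') ((Limits.pullback.snd f g).app A'' a'')
      (by rw [← NatTrans.naturality_apply, e, NatTrans.naturality_apply])
    obtain ⟨z, hz1, hz2⟩ := pullback_exists f g a b ((cmp_injective_iff h).mp (hF p' p'' f' f'' h hs).1 _ _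
      (by rw [← NatTrans.naturality_apply, ha1, ← NatTrans.naturality_apply, hb1, pullback_condition])
      (by rw [← NatTrans.naturality_apply, ha2, ← NatTrans.naturality_apply, hb2, pullback_condition]))
    exact ⟨z, pullback_ext f g (by rw [NatTrans.naturality_apply, hz1, ha1]) (by rw [NatTrans.naturality_apply, hz2, hb1]),
      pullback_ext f g (by rw [NatTrans.naturality_apply, hz1, ha2]) (by rw [NatTrans.naturality_apply, hz2, hb2])⟩

end Groth.Agent.S12746
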