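import Groth.Statements.S12747
import Groth.Agent.ArtFunLib.Points
-- import your own Groth.Agent.* helpers here

set_option autoImplicit false
universe u v
open CategoryTheory
open ArtFun

namespace Groth.Agent.S12747

open Groth.Agent.ArtFunLib

/-- For functors, let H₁ → G, H₂ → G and q : G → F be morphisms of functors on Artinian local Λ-algebras
with residue field k where F and G are deformation functors (value at k a point, condition (RS)) and
q is injective on tangent spaces. Then the induced morphism H₁ ×_G H₂ → H₁ ×_F H₂ is smooth. (The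
published statement also assumes that infinitesimal automorphisms of G map onto those of F; for
functors that condition is empty.) -/
theorem result {Λ : Type u} {k : Type u} [CommRing Λ] [Field k] [Algebra Λ k]
    [IsNoetherianRing Λ] [Module.Finite Λ k]
    {F G H₁ H₂ : ArtFun.Art Λ k ⥤ Type v} (p₁ : H₁ ⟶ G) (p₂ : H₂ ⟶ G) (q : G ⟶ F)
    (hF0 : ArtFun.H0 F) (hF : (∀ ⦃B A A' A'' : ArtFun.Art Λ k⦄ (p' : B ⟶ A') (p'' : B ⟶ A'') (f' : A' ⟶ A) (f'' : A'' ⟶ A)
        (h : ArtFun.Art.IsFibreProd p' p'' f' f''), Function.Surjective f'' → Function.Bijective (ArtFun.cmp F h)))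
    (hG0 : ArtFun.H0 G) (hG : (∀ ⦃B A A' A'' : ArtFun.Art Λ k⦄ (p' : B ⟶ A') (p'' : B ⟶ A'') (f' : A' ⟶ A) (f'' : A'' ⟶ A)
        (h : ArtFun.Art.IsFibreProd p' p'' f' f''), Function.Surjective f'' → Function.Bijective (ArtFun.cmp G h)))
    (hq : Function.Injective (ArtFun.TangentSpace.map q)) :
    ArtFun.IsSmooth (CategoryTheory.Limits.pullback.map p₁ p₂ (p₁ ≫ q) (p₂ ≫ q) (𝟙 H₁) (𝟙 H₂) q
      (CategoryTheory.Category.id_comp _).symm (CategoryTheory.Category.id_comp _).symm) := by
  rw [isSmooth_iff]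
  refine Mor.smooth_of_small _ fun B A μ hμ x y hy => ?_
  let P := CategoryTheory.Limits.pullback.map p₁ p₂ (p₁ ≫ q) (p₂ ≫ q) (𝟙 H₁) (𝟙 H₂) q
      (CategoryTheory.Category.id_comp _).symm (CategoryTheory.Category.id_comp _).symm
  have c1 : ∀ C z, (Limits.pullback.fst (p₁ ≫ q) (p₂ ≫ q)).app C (P.app C z) = (Limits.pullback.fst p₁ p₂).app C z :=
    fun C z => congrArg (fun η : Limits.pullback p₁ p₂ ⟶ H₁ => η.app C z)
      ((Limits.pullback.lift_fst _ _ _).trans (Category.comp_id _))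
  have c2 : ∀ C z, (Limits.pullback.snd (p₁ ≫ q) (p₂ ≫ q)).app C (P.app C z) = (Limits.pullback.snd p₁ p₂).app C z :=
    fun C z => congrArg (fun η : Limits.pullback p₁ p₂ ⟶ H₂ => η.app C z)
      ((Limits.pullback.lift_snd _ _ _).trans (Category.comp_id _))
  have hy' : (Limits.pullback (p₁ ≫ q) (p₂ ≫ q)).map μ y = P.app A x := hy
  let a := (Limits.pullback.fst (p₁ ≫ q) (p₂ ≫ q)).app B y
  let b := (Limits.pullback.snd (p₁ ≫ q) (p₂ ≫ q)).app B y
  have hab : p₁.app B a = p₂.app B b := by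
    refine Mor.eq_of_tangent_injective (Mor.ofNatTrans q) (fun _ _ _ u₁ u₂ f h hf => hF u₁ u₂ f f h hf.1) hG0
      (fun _ _ _ _ u u' f f' h hf => (hG u u' f f' h hf.1).2)
      (fun _ _ u u' h => hG u u' _ _ h (ArtFun.Art.dual Λ k).res_surjective) hq hμ ?_
      (pullback_condition (p₁ ≫ q) (p₂ ≫ q) y)
    rw [← NatTrans.naturality_apply, ← NatTrans.naturality_apply]
    simp only [a, b]
    rw [← NatTrans.naturality_apply, ← NatTrans.naturality_apply, hy', c1, c2, pullback_condition]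
  obtain ⟨z, hz1, hz2⟩ := pullback_exists p₁ p₂ a b hab
  refine ⟨z, pullback_ext p₁ p₂ ?_ ?_, pullback_ext _ _ ((c1 B z).trans hz1) ((c2 B z).trans hz2)⟩
  · rw [NatTrans.naturality_apply, hz1, ← NatTrans.naturality_apply, hy', c1]
  · rw [NatTrans.naturality_apply, hz2, ← NatTrans.naturality_apply, hy', c2]

end Groth.Agent.S12747
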