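import Groth.Statements.S12748
import Mathlib
import Groth.Prelude.Def_ArtFun5
import Groth.Agent.ArtFunLib.PS
-- import your own Groth.Agent.* helpers here

set_option autoImplicit false
universe u v
open CategoryTheory
open ArtFun ArtFun.CRing

namespace Groth.Agent.S12748

/-- Let R' → R be a morphism of complete local Noetherian Λ-algebras with residue field k with an
R'-algebra retraction ρ : R → R', so that R = R' ⊕ I for the ideal I = ker ρ; let x₁, …, x_r ∈ I map
to a basis of I/m_R I and let φ : R'[[X₁, …, X_r]] → R be an R'-algebra map sending X_i to x_i. If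
for all large n the induced map R'[[X]]/m^n → R/m_R^n has a left inverse — a Λ-algebra map g_n : R →
R'[[X]]/m^n with g_n ∘ φ equal to the quotient map — then φ is an isomorphism. -/
theorem result {Λ : Type u} {k : Type u} [CommRing Λ] [Field k] [Algebra Λ k]
    [IsNoetherianRing Λ] [Module.Finite Λ k]
    (R' R : ArtFun.CRing Λ k) [Algebra R'.carrier R.carrier] [IsScalarTower Λ R'.carrier R.carrier]
    (hc : R.res.comp (IsScalarTower.toAlgHom Λ R'.carrier R.carrier) = R'.res)
    (ρ : R.carrier →ₐ[R'.carrier] R'.carrier)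
    (r : ℕ) (x : Fin r → R.carrier) (hxI : ∀ i, ρ (x i) = 0)
    (hspan : Ideal.span (Set.range x) ⊔ IsLocalRing.maximalIdeal R.carrier * RingHom.ker ρ = RingHom.ker ρ)
    (hli : ∀ c : Fin r → R.carrier, (∑ i, c i * x i) ∈ IsLocalRing.maximalIdeal R.carrier * RingHom.ker ρ →
      ∀ i, c i ∈ IsLocalRing.maximalIdeal R.carrier)
    (φ : MvPowerSeries (Fin r) R'.carrier →ₐ[R'.carrier] R.carrier) (hφ : ∀ i, φ (MvPowerSeries.X i) = x i)
    (hinv : ∃ N : ℕ, ∀ n, N ≤ n →
      ∃ g : R.carrier →ₐ[Λ] (MvPowerSeries (Fin r) R'.carrier ⧸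
          IsLocalRing.maximalIdeal (MvPowerSeries (Fin r) R'.carrier) ^ n),
        ∀ s, g (φ s) = Ideal.Quotient.mk _ s) :
    Function.Bijective φ := by
  classical
  letI : Algebra R'.carrier k := R'.res.toRingHom.toAlgebra
  haveI : IsScalarTower Λ R'.carrier k := IsScalarTower.of_algebraMap_eq fun a => (R'.res.commutes a).symm
  have hc' := hc
  haveI := R'.isAdicComplete
  obtain ⟨res, hres, hresX, hcS⟩ := ArtFunLib.exists_psCRing (Λ := R'.carrier) (k := k) R'.res_surjective r
  let S : ArtFun.CRing Λ k :=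
    { carrier := MvPowerSeries (Fin r) R'.carrier, res := res.restrictScalars Λ, res_surjective := hres,
      isAdicComplete := hcS }
  have hm : ∀ z, z ∈ IsLocalRing.maximalIdeal R.carrier ↔ R.res z = 0 := fun z =>
    ArtFun.CRing.mem_maximalIdeal_iff R z
  have hX : ∀ i, (MvPowerSeries.X i : MvPowerSeries (Fin r) R'.carrier) ∈ IsLocalRing.maximalIdeal S.carrier := fun i =>
    (ArtFun.CRing.mem_maximalIdeal_iff S _).2 (hresX i)
  have hdec : ∀ z : R.carrier, z - algebraMap R'.carrier R.carrier (ρ z) ∈ RingHom.ker ρ := fun z => by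
    rw [RingHom.mem_ker, map_sub, AlgHom.commutes]; exact sub_self _
  have hker : RingHom.ker ρ ≤ IsLocalRing.maximalIdeal R.carrier :=
    IsLocalRing.le_maximalIdeal (RingHom.ker_ne_top ρ)
  let φΛ : S.carrier →ₐ[Λ] R.carrier := φ.restrictScalars Λ
  have hsres : R.res.comp φΛ = S.res := by
    haveI : IsAdicComplete (⊥ : Ideal k) k := {}
    let l : MvPowerSeries (Fin r) R'.carrier →ₐ[R'.carrier] k :=
      { (R.res.toRingHom.comp φ.toRingHom) with
        commutes' := fun a => by
          show R.res (φ (algebraMap _ _ a)) = _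
          rw [φ.commutes]
          exact DFunLike.congr_fun hc' a }
    have : l = res := ArtFunLib.ps_ext (⊥ : Ideal k) (fun i => by
        show R.res (φ (MvPowerSeries.X i)) ∈ (⊥ : Ideal k)
        rw [hφ, Ideal.mem_bot, ← hm]
        exact hker (hxI i)) fun i => by
        show R.res (φ (MvPowerSeries.X i)) = _
        rw [hφ, hresX, ← hm]
        exact hker (hxI i)
    exact AlgHom.ext fun z => DFunLike.congr_fun this z
  refine ⟨(injective_iff_map_eq_zero φ).2 fun s hs => ?_, ?_⟩
  · obtain ⟨N, hN⟩ := hinv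
    have hmem : ∀ n, s ∈ IsLocalRing.maximalIdeal (MvPowerSeries (Fin r) R'.carrier) ^ n := fun n => by
      obtain ⟨g, hg⟩ := hN (max N n) (le_max_left _ _)
      refine Ideal.pow_le_pow_right (le_max_right N n) (Ideal.Quotient.eq_zero_iff_mem.1 ?_)
      rw [← hg, hs, map_zero]
    have := Ideal.iInf_pow_eq_bot_of_isLocalRing (IsLocalRing.maximalIdeal (MvPowerSeries (Fin r) R'.carrier))
      (IsLocalRing.maximalIdeal.isMaximal _).ne_top
    exact (Submodule.mem_bot _).1 (this ▸ (Submodule.mem_iInf _).2 hmem)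
  · show Function.Surjective φΛ
    refine ArtFunLib.surjective_of_cotangent (R' := S) φΛ hsres fun z hz => ?_
    have hz' : algebraMap R'.carrier R.carrier (ρ z) ∈ Ideal.map φΛ (IsLocalRing.maximalIdeal S.carrier) := by
      rw [← φ.commutes]
      refine Ideal.mem_map_of_mem φΛ ((ArtFun.CRing.mem_maximalIdeal_iff S _).2 ?_)
      show res (algebraMap _ _ (ρ z)) = 0
      rw [res.commutes]
      refine (DFunLike.congr_fun hc' (ρ z)).symm.trans ?_
      show R.res (algebraMap R'.carrier R.carrier (ρ z)) = 0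
      rw [← hm]
      have := sub_mem hz (hker (hdec z))
      rwa [sub_sub_cancel] at this
    have h2 : z - algebraMap R'.carrier R.carrier (ρ z) ∈
        Ideal.map φΛ (IsLocalRing.maximalIdeal S.carrier) ⊔ IsLocalRing.maximalIdeal R.carrier ^ 2 := by
      refine (hspan.ge.trans (sup_le_sup (Ideal.span_le.2 (Set.range_subset_iff.2 fun i => ?_)) ?_)) (hdec z)
      · rw [← hφ i]; exact Ideal.mem_map_of_mem φΛ (hX i)
      · rw [pow_two]; exact Ideal.mul_mono le_rfl hker
    have h3 := Submodule.add_mem _ (Ideal.mem_sup_left hz') h2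
    rw [add_sub_cancel] at h3
    rw [sup_assoc]
    exact Ideal.mem_sup_right h3

end Groth.Agent.S12748
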