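import Groth.Statements.S12749
import Groth.Agent.ArtFunLib.Hull
import Groth.Agent.ArtFunLib.Complete
import Groth.Agent.ArtFunLib.HR
import Groth.Agent.ArtFunLib.Points
import Groth.Agent.ArtFunLib.Pro
-- import your own Groth.Agent.* helpers here

set_option autoImplicit false
universe u v
open CategoryTheory
open ArtFun

namespace Groth.Agent.S12749

/-- For functors, suppose k admits no nonzero Λ-derivation into itself (that is, k is separable over the
image of Λ in k). Let F be a functor on Artinian local Λ-algebras with residue field k with F(k) a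
point which satisfies (S2), and let ξ be a minimal versal family of F over a complete local
Noetherian R with residue field k: ξ is versal, and every morphism of such coefficient rings R' → R
along which some formal element of F over R' pushes forward to the formal element of ξ is
surjective. Then ξ is a hull of F: it is moreover bijective on tangent spaces. (The published
statement, for arbitrary k, concludes that the tangent map of the minimal versal family is bijective
on orbits under the Λ-derivations of k; when k has no nonzero Λ-derivation into itself the orbits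
are points and this is plain bijectivity, which is the case stated here.) -/
theorem result {Λ : Type u} {k : Type u} [CommRing Λ] [Field k] [Algebra Λ k]
    [IsNoetherianRing Λ] [Module.Finite Λ k]
    (hk : Subsingleton (Derivation Λ k k))
    {F : ArtFun.Art Λ k ⥤ Type v} (h0 : ArtFun.H0 F) (h2 : ArtFun.Heps F)
    {R : ArtFun.CRing Λ k} (ξ : ArtFun.Family R.carrier R.res F) (hξ : ξ.IsMinimalVersal) :
    ArtFun.IsMiniversal ξ := by
  obtain ⟨TF⟩ := ArtFunLib.nonempty_tangentStr h0 h2
  have hsur := fun A => ArtFunLib.surjective_of_versal ξ hξ.1 h0 A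
  have hbar : ArtFun.Hbar F := by
    intro B A A' A'' p' p'' f' f'' h hf
    rintro ⟨⟨x, y⟩, hxy⟩
    obtain ⟨φ', rfl⟩ := hsur A' x
    obtain ⟨ψ, h1, h2'⟩ := hξ.1 f'' hf.1 (ArtFun.HomSet.map f' φ') y (hxy.symm.trans (ξ.natural f' φ').symm)
    obtain ⟨χ, hχ1, hχ2⟩ := (ArtFunLib.cmp_surjective_iff h).mp (ArtFunLib.hR_isLeftExact R.res p' p'' f' f'' h).2
      φ' ψ h1.symm
    refine ⟨ξ.app B χ, Subtype.ext (Prod.ext ?_ ?_)⟩
    · exact (ξ.natural p' χ).symm.trans (congrArg (ξ.app A') hχ1)
    · exact ((ξ.natural p'' χ).symm.trans (congrArg (ξ.app A'') hχ2)).trans h2'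
  have hfin : ArtFun.Hfin F := ArtFunLib.hfin_of_surjective R ξ (hsur _)
  obtain ⟨P⟩ := ArtFunLib.hasHull hk h0 hbar h2 hfin
  obtain ⟨g, hg, hgu⟩ := ArtFunLib.exists_along_eq h0 P.family P.miniversal.1 R ξ.toFormalElt
  have hs : Function.Surjective g := hξ.2 P.ring P.family.toFormalElt g hg (by
    refine Eq.trans ?_ hgu
    exact ArtFun.FormalElt.ext' fun n => (P.family.natural _ _).symm.trans
      (congrArg (P.family.app _) (ArtFunLib.HomSet.ext' fun r => rfl)))
  have e : P.family.along g hg = ξ := ArtFunLib.bijective_toFormalElt.1 hgu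
  refine ⟨hξ.1, fun a b hab => ?_, hsur _⟩
  rw [← e] at hab
  have h := P.miniversal.2.1 hab
  refine ArtFunLib.HomSet.ext' fun r => ?_
  obtain ⟨s, rfl⟩ := hs r
  exact DFunLike.congr_fun (congrArg Subtype.val h) s

end Groth.Agent.S12749
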