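import Groth.Statements.S12750
import Groth.Agent.EssSurj.Basic
import Groth.Agent.ArtFunLib.FibreProd
-- import your own Groth.Agent.* helpers here

set_option autoImplicit false
universe u v
open CategoryTheory
open ArtFun ArtFun.Art

namespace Groth.Agent.S12750

/-- (1) ⇔ (3): let f : B → A be a morphism in the category of Artinian local Λ-algebras with residue
field k, and let q_B : B → B', q_A : A → A' be the quotients by m_Λ B + m_B² and m_Λ A + m_A² (m_Λ
the kernel of Λ → k), realised as surjective morphisms with these kernels, with f' : B' → A' the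
induced morphism. Then f is an essential surjection — surjective, and every morphism g into B whose
composite with f is surjective is itself surjective — if and only if f' is. (The intermediate
equivalence with the map B/m_B² → A/m_A² is the special case Λ-structure trivialised and follows by
applying this one twice.) -/
theorem result {Λ : Type u} {k : Type u} [CommRing Λ] [Field k] [Algebra Λ k]
    [IsNoetherianRing Λ] [Module.Finite Λ k]
    {A B A' B' : ArtFun.Art Λ k} (f : B ⟶ A)
    (qB : B ⟶ B') (hqB : Function.Surjective qB)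
    (hkB : RingHom.ker qB.toAlgHom = Ideal.map (algebraMap Λ B) (RingHom.ker (algebraMap Λ k)) ⊔ IsLocalRing.maximalIdeal B ^ 2)
    (qA : A ⟶ A') (hqA : Function.Surjective qA)
    (hkA : RingHom.ker qA.toAlgHom = Ideal.map (algebraMap Λ A) (RingHom.ker (algebraMap Λ k)) ⊔ IsLocalRing.maximalIdeal A ^ 2)
    (f' : B' ⟶ A') (hf' : qB ≫ f' = f ≫ qA) :
    (Function.Surjective f ∧ ∀ (C : ArtFun.Art Λ k) (g : C ⟶ B), Function.Surjective (g ≫ f) → Function.Surjective g) ↔ (Function.Surjective f' ∧ ∀ (C : ArtFun.Art Λ k) (g : C ⟶ B'), Function.Surjective (g ≫ f') → Function.Surjective g) := by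
  have hsurj : ∀ {C : ArtFun.Art Λ k} (g : C ⟶ B), Function.Surjective (g ≫ qB) → Function.Surjective g := by
    intro C g hg
    refine Groth.Agent.EssSurj.surjective_of_cotangent g (le_antisymm
      (sup_le (sup_le (Groth.Agent.EssSurj.map_kerΛ_le B) (Groth.Agent.EssSurj.map_maximalIdeal_le g))
        (Ideal.pow_le_self two_ne_zero)) fun b hb => ?_)
    obtain ⟨c, hc⟩ := hg (qB b)
    have hcm : c ∈ IsLocalRing.maximalIdeal C := (C.mem_maximalIdeal_iff c).mpr
      ((res_app (g ≫ qB) c).symm.trans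
        ((congrArg B'.res hc).trans ((res_app qB b).trans ((B.mem_maximalIdeal_iff b).mp hb))))
    have hk : b - g c ∈ RingHom.ker qB.toAlgHom := by
      rw [RingHom.mem_ker, map_sub, sub_eq_zero]
      exact hc.symm
    rw [hkB] at hk
    rw [← sub_add_cancel b (g c)]
    refine add_mem ?_ (Ideal.mem_sup_left (Ideal.mem_sup_right (Ideal.mem_map_of_mem _ hcm)))
    exact (sup_le (le_sup_left.trans le_sup_left) le_sup_right :
      Ideal.map (algebraMap Λ B) (RingHom.ker (algebraMap Λ k)) ⊔ IsLocalRing.maximalIdeal B ^ 2 ≤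
        Ideal.map (algebraMap Λ B) (RingHom.ker (algebraMap Λ k)) ⊔
          Ideal.map g.toAlgHom (IsLocalRing.maximalIdeal C) ⊔ IsLocalRing.maximalIdeal B ^ 2) hk
  have hsurjA : ∀ {C : ArtFun.Art Λ k} (g : C ⟶ A), Function.Surjective (g ≫ qA) → Function.Surjective g := by
    intro C g hg
    refine Groth.Agent.EssSurj.surjective_of_cotangent g (le_antisymm
      (sup_le (sup_le (Groth.Agent.EssSurj.map_kerΛ_le A) (Groth.Agent.EssSurj.map_maximalIdeal_le g))
        (Ideal.pow_le_self two_ne_zero)) fun b hb => ?_)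
    obtain ⟨c, hc⟩ := hg (qA b)
    have hcm : c ∈ IsLocalRing.maximalIdeal C := (C.mem_maximalIdeal_iff c).mpr
      ((res_app (g ≫ qA) c).symm.trans
        ((congrArg A'.res hc).trans ((res_app qA b).trans ((A.mem_maximalIdeal_iff b).mp hb))))
    have hk : b - g c ∈ RingHom.ker qA.toAlgHom := by
      rw [RingHom.mem_ker, map_sub, sub_eq_zero]
      exact hc.symm
    rw [hkA] at hk
    rw [← sub_add_cancel b (g c)]
    refine add_mem ?_ (Ideal.mem_sup_left (Ideal.mem_sup_right (Ideal.mem_map_of_mem _ hcm)))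
    exact (sup_le (le_sup_left.trans le_sup_left) le_sup_right :
      Ideal.map (algebraMap Λ A) (RingHom.ker (algebraMap Λ k)) ⊔ IsLocalRing.maximalIdeal A ^ 2 ≤
        Ideal.map (algebraMap Λ A) (RingHom.ker (algebraMap Λ k)) ⊔
          Ideal.map g.toAlgHom (IsLocalRing.maximalIdeal C) ⊔ IsLocalRing.maximalIdeal A ^ 2) hk
  constructor
  · rintro ⟨hf, he⟩
    refine ⟨fun a => ?_, fun C g' hg' => ?_⟩
    · obtain ⟨a, rfl⟩ := hqA a
      obtain ⟨b, rfl⟩ := hf a
      exact ⟨qB b, congrArg (fun φ : B ⟶ A' => φ b) hf'⟩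
    · obtain ⟨P, p₁, p₂, hP⟩ := Groth.Agent.ArtFunLib.exists_fibreProd g' qB hqB
      have hp₁ : Function.Surjective p₁ := Groth.Agent.ArtFunLib.surjective_fst hP hqB
      have hp₂ : Function.Surjective p₂ := by
        refine he P p₂ (hsurjA (p₂ ≫ f) fun a => ?_)
        obtain ⟨c, rfl⟩ := hg' a
        obtain ⟨t, rfl⟩ := hp₁ c
        exact ⟨t, ((congrArg (fun φ : B ⟶ A' => φ (p₂ t)) hf').symm).trans
          (congrArg f' (hP.w_apply t).symm)⟩
      intro b'
      obtain ⟨b, rfl⟩ := hqB b'
      obtain ⟨t, rfl⟩ := hp₂ b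
      exact ⟨p₁ t, hP.w_apply t⟩
  · rintro ⟨hf, he⟩
    refine ⟨?_, fun C g hg => hsurj g (he C (g ≫ qB) fun a => ?_)⟩
    · refine hsurjA f fun a => ?_
      obtain ⟨b', rfl⟩ := hf a
      obtain ⟨b, rfl⟩ := hqB b'
      exact ⟨b, (congrArg (fun φ : B ⟶ A' => φ b) hf').symm⟩
    · obtain ⟨a, rfl⟩ := hqA a
      obtain ⟨c, rfl⟩ := hg a
      exact ⟨c, congrArg (fun φ : B ⟶ A' => φ (g c)) hf'⟩

end Groth.Agent.S12750
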