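import Groth.Statements.S12755
import Groth.Agent.ArtFunLib.Misc
-- import your own Groth.Agent.* helpers here

set_option autoImplicit false
universe u v
open CategoryTheory
open ArtFun

namespace Groth.Agent.S12755

open Groth.Agent.ArtFunLib

/-- For functors on Artinian local Λ-algebras with residue field k, the composite of two smooth
morphisms φ : F → G and ψ : G → H is smooth. -/
theorem result {Λ : Type u} {k : Type u} [CommRing Λ] [Field k] [Algebra Λ k]
    [IsNoetherianRing Λ] [Module.Finite Λ k]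
    {F G H : ArtFun.Art Λ k ⥤ Type v} (φ : F ⟶ G) (ψ : G ⟶ H)
    (hφ : ArtFun.IsSmooth φ) (hψ : ArtFun.IsSmooth ψ) : ArtFun.IsSmooth (φ ≫ ψ) := by
  rw [isSmooth_iff] at hφ hψ ⊢
  intro B A μ hμ x y hy
  obtain ⟨z, h1, h2⟩ := hψ μ hμ ((φ.app A) x) y hy
  obtain ⟨w, h3, h4⟩ := hφ μ hμ x z h1
  exact ⟨w, h3, (congrArg (ψ.app B) h4).trans h2⟩

end Groth.Agent.S12755
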