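import Groth.Statements.S12757
import Groth.Agent.ArtFunLib.Points
-- import your own Groth.Agent.* helpers here

set_option autoImplicit false
universe u v
open CategoryTheory
open ArtFun

namespace Groth.Agent.S12757

open Groth.Agent.ArtFunLib

/-- For functors, let F be a functor on Artinian local Λ-algebras with residue field k with F(k) a
point. A versal family of F over a complete local Noetherian R with residue field k which is
bijective on tangent spaces (a hull; bijectivity implies bijectivity on orbits of the derivations of
k) is minimal: every morphism of coefficient rings R' → R along which some formal element over R'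
pushes forward to the formal element of the family is surjective. -/
theorem result {Λ : Type u} {k : Type u} [CommRing Λ] [Field k] [Algebra Λ k]
    [IsNoetherianRing Λ] [Module.Finite Λ k]
    {F : ArtFun.Art Λ k ⥤ Type v} (h0 : ArtFun.H0 F) (P : ArtFun.Hull F) :
    P.family.IsMinimalVersal := by
  refine ⟨P.miniversal.1, fun R' u f hf h => ?_⟩
  obtain ⟨g, hg, hgu⟩ := exists_along_eq h0 P.family P.miniversal.1 R' u
  have hfg : P.ring.res.comp (f.comp g) = P.ring.res := by rw [← AlgHom.comp_assoc, hf, hg]
  have e : P.family.along (f.comp g) hfg = P.family := by
    refine bijective_toFormalElt.1 (ArtFun.FormalElt.ext' fun n => ?_)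
    refine Eq.trans ?_ (congrArg (fun w : ArtFun.FormalElt F P.ring => w.elt n) h)
    rw [← hgu]
    refine Eq.trans ?_ (P.family.natural _ (homPre g hg (R'.truncHom n)))
    exact congrArg (P.family.app _) (HomSet.ext' fun r => rfl)
  have hs : Function.Surjective (f.comp g) := surjective_of_tangent_injective _ hfg fun a b hab => by
    refine P.miniversal.2.1 ?_
    rw [← congrArg (fun ξ : ArtFun.Family _ _ _ => ξ.app _ a) e, ← congrArg (fun ξ : ArtFun.Family _ _ _ => ξ.app _ b) e]
    exact congrArg (P.family.app _) (HomSet.ext' hab)
  exact fun x => ⟨g (hs x).choose, (hs x).choose_spec⟩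

end Groth.Agent.S12757
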