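import Groth.Statements.S12758
import Groth.Agent.ArtFunLib.Points
-- import your own Groth.Agent.* helpers here

set_option autoImplicit false
universe u v
open CategoryTheory
open ArtFun

namespace Groth.Agent.S12758

open Groth.Agent.ArtFunLib

/-- For functors, two minimal versal families of a functor F on Artinian local Λ-algebras with residue
field k with F(k) a point — over complete local Noetherian coefficient rings R₁, R₂ with residue
field k — are isomorphic: there is an isomorphism R₁ ≅ R₂ over Λ, compatible with the augmentations,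
along which the formal element of the first family pushes forward to that of the second. -/
theorem result {Λ : Type u} {k : Type u} [CommRing Λ] [Field k] [Algebra Λ k]
    [IsNoetherianRing Λ] [Module.Finite Λ k]
    {F : ArtFun.Art Λ k ⥤ Type v} (h0 : ArtFun.H0 F) {R₁ R₂ : ArtFun.CRing Λ k}
    (ξ₁ : ArtFun.Family R₁.carrier R₁.res F) (ξ₂ : ArtFun.Family R₂.carrier R₂.res F)
    (h₁ : ξ₁.IsMinimalVersal) (h₂ : ξ₂.IsMinimalVersal) :
    ∃ (e : R₁.carrier ≃ₐ[Λ] R₂.carrier) (he : R₂.res.comp (e : R₁.carrier →ₐ[Λ] R₂.carrier) = R₁.res),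
      (ξ₁.along (e : R₁.carrier →ₐ[Λ] R₂.carrier) he).toFormalElt = ξ₂.toFormalElt := by
  obtain ⟨g, hg, hgu⟩ := exists_along_eq h0 ξ₁ h₁.1 R₂ ξ₂.toFormalElt
  obtain ⟨g', hg', hgu'⟩ := exists_along_eq h0 ξ₂ h₂.1 R₁ ξ₁.toFormalElt
  have push : ∀ {R S : ArtFun.CRing Λ k} (ξ : ArtFun.Family R.carrier R.res F) (f : R.carrier →ₐ[Λ] S.carrier)
      (hf : S.res.comp f = R.res), ξ.toFormalElt.push f hf = (ξ.along f hf).toFormalElt := fun ξ f hf =>
    ArtFun.FormalElt.ext' fun n => (ξ.natural _ _).symm.trans (congrArg (ξ.app _) (HomSet.ext' fun r => rfl))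
  have hs : Function.Surjective g := h₂.2 R₁ ξ₁.toFormalElt g hg (by rw [push, hgu])
  have hs' : Function.Surjective g' := h₁.2 R₂ ξ₂.toFormalElt g' hg' (by rw [push, hgu'])
  have hb := bijective_of_surjective_endo (g'.comp g).toRingHom (hs'.comp hs)
  refine ⟨AlgEquiv.ofBijective g ⟨fun x y h => hb.1 (congrArg g' h), hs⟩, hg, hgu⟩

end Groth.Agent.S12758
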