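import Groth.Statements.S12759
import Groth.Agent.VersalMinLib.Split
-- import your own Groth.Agent.* helpers here

set_option autoImplicit false
universe u v
open CategoryTheory
open ArtFun

namespace Groth.Agent.S12759

open Groth.Agent.ArtFunLib Groth.Agent.VersalMinLib

/-- For functors, any versal family (R, ξ) of a functor F on Artinian local Λ-algebras with residue
field k with F(k) a point is the pushforward of a minimal versal family (R', ξ') along a power
series extension: there are g : R' → R compatible with the augmentations and an isomorphism R ≅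
R'[[X₁, …, Xₙ]] over Λ carrying g to the constants, and the formal element of ξ is that of ξ' pushed
forward along g. -/
theorem result {Λ : Type u} {k : Type u} [CommRing Λ] [Field k] [Algebra Λ k]
    [IsNoetherianRing Λ] [Module.Finite Λ k]
    {F : ArtFun.Art Λ k ⥤ Type v} (h0 : ArtFun.H0 F) (V : ArtFun.VersalPair F) :
    ∃ (R' : ArtFun.CRing Λ k) (ξ' : ArtFun.Family R'.carrier R'.res F), ξ'.IsMinimalVersal ∧
      ∃ (g : R'.carrier →ₐ[Λ] V.ring.carrier) (hg : V.ring.res.comp g = R'.res)
        (n : ℕ) (e : V.ring.carrier ≃ₐ[Λ] MvPowerSeries (Fin n) R'.carrier),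
        (∀ a : R'.carrier, e (g a) = algebraMap R'.carrier (MvPowerSeries (Fin n) R'.carrier) a) ∧
        (ξ'.along g hg).toFormalElt = V.family.toFormalElt := by
  classical
  obtain ⟨R, ξ, hξ⟩ := V
  change ∃ (R' : ArtFun.CRing Λ k) (ξ' : ArtFun.Family R'.carrier R'.res F), ξ'.IsMinimalVersal ∧
      ∃ (g : R'.carrier →ₐ[Λ] R.carrier) (hg : R.res.comp g = R'.res)
        (n : ℕ) (e : R.carrier ≃ₐ[Λ] MvPowerSeries (Fin n) R'.carrier),
        (∀ a : R'.carrier, e (g a) = algebraMap R'.carrier (MvPowerSeries (Fin n) R'.carrier) a) ∧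
        (ξ'.along g hg).toFormalElt = ξ.toFormalElt
  let 𝒥 : Set (Ideal R.carrier) := {I | ∃ p : R.carrier →ₐ[Λ] R.carrier, Preserves ξ p ∧ (∀ r, p (p r) = p r) ∧
    I = RingHom.ker p}
  have hne : 𝒥.Nonempty := ⟨_, AlgHom.id Λ R.carrier, ⟨AlgHom.comp_id _, along_id ξ _⟩, fun r => rfl, rfl⟩
  obtain ⟨J, ⟨p, hp, hpp, rfl⟩, hmax⟩ := set_has_maximal_iff_noetherian.mpr inferInstance 𝒥 hne
  obtain ⟨hpres, hpξ⟩ := hp
  have hJ : RingHom.ker p ≤ IsLocalRing.maximalIdeal R.carrier :=
    IsLocalRing.le_maximalIdeal (RingHom.ker_ne_top p)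
  let R' : ArtFun.CRing Λ k := quotCRing R (RingHom.ker p) hJ
  let π : R.carrier →ₐ[Λ] R'.carrier := quotProj R (RingHom.ker p) hJ
  have hπ : R'.res.comp π = R.res := res_comp_quotProj R (RingHom.ker p) hJ
  let f : R'.carrier →ₐ[Λ] R.carrier := Ideal.Quotient.liftₐ (RingHom.ker p) p fun a ha => ha
  have hfπ : ∀ r, f (π r) = p r := fun r => rfl
  have hf : R.res.comp f = R'.res := AlgHom.ext fun x => by
    obtain ⟨a, rfl⟩ := quotProj_surjective R (RingHom.ker p) hJ x
    exact DFunLike.congr_fun hpres a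
  have hπp : ∀ r, π (p r) = π r := fun r => Ideal.Quotient.eq.2 (by
    rw [RingHom.mem_ker, map_sub, hpp, sub_self])
  have hπf : ∀ a, π (f a) = a := fun a => by
    obtain ⟨r, rfl⟩ := quotProj_surjective R (RingHom.ker p) hJ a
    exact hπp r
  have hpf : ∀ a, p (f a) = f a := fun a => by
    obtain ⟨r, rfl⟩ := quotProj_surjective R (RingHom.ker p) hJ a
    exact hpp r
  let ξ' : ArtFun.Family R'.carrier R'.res F := ξ.along π hπ
  have hfpres : Preserves ξ (f.comp π) := ⟨hpres, hpξ⟩
  have hξ'f : ξ'.along f hf = ξ := family_ext' fun A χ => by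
    conv_rhs => rw [← hpξ]
    rfl
  have hversal : ArtFun.IsVersal ξ' := by
    intro B A μ hμ φ y hy
    obtain ⟨ψ, h1, h2⟩ := hξ μ hμ (homPre π hπ φ) y hy
    refine ⟨homPre f hf ψ, HomSet.ext' fun a => ?_, ?_⟩
    · have := congrArg (fun h : ArtFun.HomSet R.carrier R.res A => h.1 (f a)) h1
      exact this.trans (congrArg φ.1 (hπf a))
    · rw [← h2]
      conv_rhs => rw [← hpξ]
      rfl
  have hmin : ∀ (R'' : ArtFun.CRing Λ k) (u : ArtFun.FormalElt F R'') (h : R''.carrier →ₐ[Λ] R'.carrier)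
      (hh : R'.res.comp h = R''.res), u.push h hh = ξ'.toFormalElt → Function.Surjective h := by
    intro R'' u h hh hu
    obtain ⟨g, hg, hgu⟩ := exists_along_eq h0 ξ' hversal R'' u
    let E : R'.carrier →ₐ[Λ] R'.carrier := h.comp g
    have hE : R'.res.comp E = R'.res := by rw [← AlgHom.comp_assoc, hh, hg]
    have hEξ : ξ'.along E hE = ξ' := bijective_toFormalElt.1 (by
      refine Eq.trans ?_ hu
      rw [← hgu]
      exact ArtFun.FormalElt.ext' fun n => (congrArg (ξ'.app _) (HomSet.ext' fun r => rfl)).trans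
        ((ξ'.along g hg).natural (ArtFun.CRing.truncMapOfHom h hh n) (R''.truncHom n)))
    let e : R.carrier →ₐ[Λ] R.carrier := f.comp (E.comp π)
    have he : R.res.comp e = R.res := by
      rw [← AlgHom.comp_assoc, hf, ← AlgHom.comp_assoc, hE, hπ]
    have hePres : Preserves ξ e := ⟨he, family_ext' fun A χ => by
      have h1 := congrArg (fun η : ArtFun.Family R'.carrier R'.res F => η.app A (homPre f hf χ)) hEξ
      refine Eq.trans h1 ?_
      conv_rhs => rw [← hpξ]
      rfl⟩
    obtain ⟨q, hq, hqq, hqe, hqr⟩ := exists_projection ξ e hePres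
    have hep : ∀ r, e (p r) = e r := fun r => congrArg (fun x => f (E x)) (hπp r)
    have hle : RingHom.ker p ≤ RingHom.ker q := fun r hr => by
      rw [RingHom.mem_ker] at hr ⊢
      rw [← hqe (p r) r (hep r), hr, map_zero]
    have heq : RingHom.ker p = RingHom.ker q :=
      (lt_or_eq_of_le hle).resolve_left (hmax _ ⟨q, hq, hqq, rfl⟩)
    have hpq : ∀ r, p r = q r := fun r => by
      have h1 : r - q r ∈ RingHom.ker q := by rw [RingHom.mem_ker, map_sub, hqq, sub_self]
      rw [← heq, RingHom.mem_ker, map_sub, sub_eq_zero] at h1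
      rw [h1]
      refine eq_of_forall_truncHom fun n => ?_
      obtain ⟨r', hr'⟩ := hqr n r
      have h2 : ArtFun.CRing.truncMapOfHom p hpres n ((R.truncHom n).1 (q r)) =
          ArtFun.CRing.truncMapOfHom p hpres n ((R.truncHom n).1 (e r')) := congrArg _ hr'
      exact h2.trans ((congrArg (R.truncHom n).1 (hpf (E (π r')))).trans hr'.symm)
    have hEs : Function.Surjective E := by
      refine surjective_of_surjective_sq E hE fun w => ?_
      obtain ⟨a, rfl⟩ := truncHom_surjective 1 w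
      obtain ⟨r, rfl⟩ := quotProj_surjective R (RingHom.ker p) hJ a
      obtain ⟨r', hr'⟩ := hqr 1 r
      rw [← hpq] at hr'
      refine ⟨π r', ?_⟩
      have h2 : ArtFun.CRing.truncMapOfHom π hπ 1 ((R.truncHom 1).1 (p r)) =
          ArtFun.CRing.truncMapOfHom π hπ 1 ((R.truncHom 1).1 (e r')) := congrArg _ hr'
      exact (congrArg (R'.truncHom 1).1 (hπf (E (π r')))).symm.trans
        (h2.symm.trans (congrArg (R'.truncHom 1).1 (hπp r)))
    exact fun a => by
      obtain ⟨b, hb⟩ := hEs a
      exact ⟨g b, hb⟩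
  obtain ⟨n, e, he⟩ := exists_powerSeries R R' ξ hξ π hπ f hf hπf hfpres
  exact ⟨R', ξ', ⟨hversal, hmin⟩, f, hf, n, e, he, congrArg ArtFun.Family.toFormalElt hξ'f⟩

end Groth.Agent.S12759
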