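import Groth.Statements.S12769
import Groth.Agent.ASt.StkAlg
set_option backward.isDefEq.respectTransparency false
set_option backward.isDefEq.respectTransparency.types false

set_option autoImplicit false
open CategoryTheory AlgebraicGeometry
universe u
open AlgSt

namespace Groth.Agent.S12769

open CategoryTheory.Limits AlgSp Groth.Agent.ASt Opposite

/-- Let `f : 𝒳 ⟶ 𝒵` and `g : 𝒴 ⟶ 𝒵` be 1-morphisms of categories fibred in groupoids over `(Sch/S)`.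
Suppose `𝒴` is a stack in groupoids (fppf topology) and `f` is representable by algebraic spaces;
then `𝒳 ×_𝒵 𝒴` is a stack in groupoids. -/
theorem result {S : Scheme.{u}} {𝒳 𝒴 𝒵 : AlgSt.Cat S}
    (h𝒳 : FibCat.IsFibGrpd 𝒳.p) (h𝒵 : FibCat.IsFibGrpd 𝒵.p) (h𝒴 : Stk.IsStack (QuotSh.J Scheme.fppfPrecoverage S) 𝒴)
    (f : 𝒳 ⥤ᵇ 𝒵) (g : 𝒴 ⥤ᵇ 𝒵) (hf : AlgSt.RepByAlgSp1 f) :
    Stk.IsStack (QuotSh.J Scheme.fppfPrecoverage S) (FibCat.fp f g) := by
  haveI := h𝒳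
  haveI := h𝒵
  haveI := h𝒴.1
  haveI : FibCat.IsFibGrpd (FibCat.fp f g).p := isFibGrpd_fp
  exact isStack_of_repByAlgSp1 h𝒴 (repByAlgSp1_of_with (repByAlgSpWith_fpSnd g (repByAlgSp1_iff_top.1 hf)))

end Groth.Agent.S12769
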