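import Groth.Statements.S12777
import Groth.Agent.ASt.Inv
set_option backward.isDefEq.respectTransparency false
set_option backward.isDefEq.respectTransparency.types false

set_option autoImplicit false
open CategoryTheory AlgebraicGeometry
universe u
open AlgSt

namespace Groth.Agent.S12777

open CategoryTheory.Limits Groth.Agent.ASt Opposite

/-- For presheaves of sets `F`, `G` on `(Sch/S)`, let `a : F ⟶ G` be a morphism between them. Then `a`
is representable by algebraic spaces (as a map of presheaves: every `h_U ×_G F` is an algebraic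
space) if and only if the associated 1-morphism of categories fibred in sets is representable by
algebraic spaces. -/
theorem result {S : Scheme.{u}} {F G : AlgSp.PSp S} (a : F ⟶ G) :
    AlgSp.RepBySp a ↔ AlgSt.RepByAlgSp1 (Stk.ofPshMap a) := by
  have := faithful_of_faithful_source (Stk.ofPshMap a)
  have := isIso_ofPshCl (isEquivOver_id (𝒳 := Stk.ofPsh F))
  have := isIso_ofPshCl (isEquivOver_id (𝒳 := Stk.ofPsh G))
  rw [← repBySp_clFun_iff]
  have sq : ofPshCl (BasedFunctor.id (Stk.ofPsh F)) ≫ clFun (Stk.ofPshMap a) = a ≫ ofPshCl (BasedFunctor.id (Stk.ofPsh G)) := by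
    ext T s
    rfl
  have h1 := IsPullback.of_horiz_isIso (g := ofPshCl (BasedFunctor.id (Stk.ofPsh G))) ⟨sq⟩
  constructor
  · intro h
    refine Groth.Agent.ASp.repBySp_of_isPullback (IsPullback.of_horiz_isIso (f := a)
      (fst := inv (ofPshCl (BasedFunctor.id (Stk.ofPsh F)))) (g := inv (ofPshCl (BasedFunctor.id (Stk.ofPsh G)))) ⟨?_⟩) h
    rw [IsIso.inv_comp_eq, ← Category.assoc, IsIso.eq_comp_inv, sq]
  · exact Groth.Agent.ASp.repBySp_of_isPullback h1

end Groth.Agent.S12777
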