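import Groth.Statements.S12778
import Groth.Agent.ASt.Inv
set_option backward.isDefEq.respectTransparency false
set_option backward.isDefEq.respectTransparency.types false

set_option autoImplicit false
open CategoryTheory AlgebraicGeometry
universe u
open AlgSt

namespace Groth.Agent.S12778

open CategoryTheory.Limits Groth.Agent.ASt Opposite

/-- For presheaves of sets `F`, `G` on `(Sch/S)`, let `a : F ⟶ G` be a morphism representable by
algebraic spaces, and let `Q` be a property of morphisms of algebraic spaces. Then `a` has `Q`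
(every base change `h_U ×_G F ⟶ h_U` has `Q`) if and only if the associated 1-morphism of categories
fibred in sets, which is representable by algebraic spaces, has `Q`. (The published statement
assumes `Q` stable under base change and fppf local on the base; this row assumes only that `Q`
respects isomorphisms.) -/
theorem result {S : Scheme.{u}} (Q : MorphismProperty (AlgSp.Sp S)) [Q.RespectsIso]
    {F G : AlgSp.PSp S} (a : F ⟶ G) (ha : AlgSp.RepBySp a) :
    AlgSp.RepBySpWith Q a ↔ AlgSt.RepByAlgSpWith Q (Stk.ofPshMap a) := by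
  have := faithful_of_faithful_source (Stk.ofPshMap a)
  have := isIso_ofPshCl (isEquivOver_id (𝒳 := Stk.ofPsh F))
  have := isIso_ofPshCl (isEquivOver_id (𝒳 := Stk.ofPsh G))
  rw [← repBySpWith_clFun_iff]
  have sq : ofPshCl (BasedFunctor.id (Stk.ofPsh F)) ≫ clFun (Stk.ofPshMap a) = a ≫ ofPshCl (BasedFunctor.id (Stk.ofPsh G)) := by
    ext T s
    rfl
  have h1 := IsPullback.of_horiz_isIso (g := ofPshCl (BasedFunctor.id (Stk.ofPsh G))) ⟨sq⟩
  constructor
  · intro h U ξ F' fst snd sq'
    refine h (ξ ≫ inv (ofPshCl (BasedFunctor.id (Stk.ofPsh G)))) (fst ≫ inv (ofPshCl (BasedFunctor.id (Stk.ofPsh F)))) snd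
      (sq'.paste_horiz (IsPullback.of_horiz_isIso (f := a) ⟨?_⟩))
    rw [IsIso.inv_comp_eq, ← Category.assoc, IsIso.eq_comp_inv, sq]
  · intro h U ξ F' fst snd sq'
    exact h _ _ snd (sq'.paste_horiz h1)

end Groth.Agent.S12778
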