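import Groth.Statements.S12781
import Groth.Agent.ASt.FpSp
import Groth.Agent.ASt.RepDesc
import Groth.Agent.ASp.CellSheaf
-- import your own Groth.Agent.* helpers here

set_option autoImplicit false
open CategoryTheory AlgebraicGeometry
set_option backward.isDefEq.respectTransparency false
universe u
open AlgSt

namespace Groth.Agent.S12781

/-- Let `𝒳`, `𝒴`, `𝒵` be fibred in groupoids over `(Sch/S)`, `P` a property of morphisms of algebraic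
spaces stable under base change and fppf local on the base, `f : 𝒳 ⟶ 𝒴` representable by algebraic
spaces and `g : 𝒵 ⟶ 𝒴` a 1-morphism such that for every scheme `U` and every `y : (Sch/U) ⟶ 𝒴` there
is an fppf covering sieve of `U` on whose members `V ⟶ U` the restriction of `y` is 2-isomorphic to
`g ∘ z` for some `z : (Sch/V) ⟶ 𝒵`. If the base change `𝒵 ×_𝒴 𝒳 ⟶ 𝒵` has `P`, then `f` has `P`.
(Stability under base change is asked for every pullback square of fppf sheaves whose four corners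
are algebraic spaces.) -/
theorem result {S : Scheme.{u}} {𝒳 𝒴 𝒵 : AlgSt.Cat S}
    (h𝒳 : FibCat.IsFibGrpd 𝒳.p) (h𝒴 : FibCat.IsFibGrpd 𝒴.p) (h𝒵 : FibCat.IsFibGrpd 𝒵.p)
    (P : MorphismProperty (AlgSp.Sp S))
    (hPb : ∀ ⦃X₁ Y₁ X₂ Y₂ : AlgSp.Sp S⦄, AlgSp.IsAlgSpace X₁ → AlgSp.IsAlgSpace Y₁ → AlgSp.IsAlgSpace X₂ →
      AlgSp.IsAlgSpace Y₂ → ∀ (a : X₁ ⟶ Y₁) (b : Y₂ ⟶ Y₁) (a' : X₂ ⟶ Y₂) (b' : X₂ ⟶ X₁),
      IsPullback b' a' a b → P a → P a')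
    (hP : AlgSp.IsLocalOnBase AlgSp.IsFppfCover P)
    (f : 𝒳 ⥤ᵇ 𝒴) (hf : AlgSt.RepByAlgSp1 f) (g : 𝒵 ⥤ᵇ 𝒴)
    (hg : ∀ (U : Over S) (y : FibCat.overCat U ⥤ᵇ 𝒴), ∃ R ∈ (QuotSh.J Scheme.fppfPrecoverage S) U,
      ∀ ⦃V : Over S⦄ (h : V ⟶ U), R.arrows h →
        ∃ z : FibCat.overCat V ⥤ᵇ 𝒵, Nonempty (BasedFunctor.comp z g ≅ BasedFunctor.comp (AlgSt.overMap h) y))
    (h' : AlgSt.RepByAlgSpWith P (FibCat.fpFst g f)) :
    AlgSt.RepByAlgSpWith P f := by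
  haveI := h𝒳
  haveI := h𝒴
  haveI := h𝒵
  haveI : FibCat.IsFibGrpd (FibCat.fp g f).p := ASt.isFibGrpd_fp
  haveI := ASt.respectsIso_onSpaces hPb
  refine ASt.repByAlgSpWith_onSpaces_iff.1 (ASt.repByAlgSpWith_iff.2 ⟨ASt.faithful_of_repByAlgSp1 hf, fun U y => ?_⟩)
  obtain ⟨R, hR, hlift⟩ := hg U y
  obtain ⟨ι, Y, k, hk, hfl, hlfp, hsurj⟩ := ASp.Cell.exists_fppf_family hR
  have hz : ∀ i, ASt.FibHas (ASt.onSpaces P) (BasedFunctor.comp (AlgSt.overMap (k i)) y) f := fun i => by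
    obtain ⟨z, ⟨α⟩⟩ := hlift (k i) (hk i)
    exact ASt.fibHas_congr α ((ASt.fibHas_iff_of_bijective (ASt.bcF g f z) (ASt.fpHom_bcF g z)
      (ASt.bijective_clF_bcF g f z)).1 ((ASt.repByAlgSpWith_iff.1 (ASt.repByAlgSpWith_onSpaces_iff.2 h')).2 (Y i) z))
  obtain ⟨hs, hA⟩ := (ASt.repByAlgSp1_iff.1 hf).2 U y
  choose hs' hA' hP' using hz
  refine ⟨hs, hA, fun hX _ => ?_⟩
  refine (hP (fun i => (AlgSp.yon S).obj (Y i)) (fun i => (AlgSp.yon S).map (k i)) (AlgSp.IsAlgSpace.yon_obj U)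
    (fun i => AlgSp.IsAlgSpace.yon_obj (Y i))
    ⟨fun i => ⟨ASp.locP_of_repWith (ASp.repWith_yon_map (hfl i)), ASp.locP_of_repWith (ASp.repWith_yon_map (hlfp i))⟩,
      fun x => ?_⟩
    _ hA (fun _ => _) (fun _ => _) (fun _ => _) hA'
    (fun i => IsPullback.of_map_of_faithful (sheafToPresheaf (AlgSp.J S) (Type (u + 1))) (ASt.isPullback_restrF (k i) y) :
      ∀ i, IsPullback (ObjectProperty.homMk (ASt.clFun (ASt.restrF (k i) y f)) :
          (⟨ASt.fib (BasedFunctor.comp (AlgSt.overMap (k i)) y) f, hs' i⟩ : AlgSp.Sp S) ⟶ (⟨ASt.fib y f, hs⟩ : AlgSp.Sp S))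
        (ObjectProperty.homMk (ASt.fibπ (BasedFunctor.comp (AlgSt.overMap (k i)) y) f))
        (ObjectProperty.homMk (ASt.fibπ y f)) ((AlgSp.yon S).map (k i)))).2 fun i => hP' i (hA' i) (AlgSp.IsAlgSpace.yon_obj _)
  obtain ⟨t, rfl⟩ := (AlgSp.Points.schemeEquiv U).surjective x
  obtain ⟨i, v, rfl⟩ := hsurj t
  exact ⟨i, AlgSp.Points.ofScheme (Y i) v, (AlgSp.Points.schemeEquiv U).symm.injective ((AlgSp.Points.toScheme_ofPt (k i) v).trans (AlgSp.Points.toScheme_ofScheme U _).symm)⟩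

end Groth.Agent.S12781
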