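import Groth.Statements.S12787
import Groth.Agent.ASt.Inv
set_option backward.isDefEq.respectTransparency false
set_option backward.isDefEq.respectTransparency.types false

set_option autoImplicit false
open CategoryTheory AlgebraicGeometry
universe u
open AlgSt

namespace Groth.Agent.S12787

open CategoryTheory.Limits Groth.Agent.ASt Opposite

/-- A category fibred in groupoids over `(Sch/S)` which is representable by an algebraic space is fibred
in setoids. -/
theorem result {S : Scheme.{u}} {𝒳 : AlgSt.Cat S}
    (h𝒳 : FibCat.IsFibGrpd 𝒳.p) (hr : AlgSt.RepByAlgSp 𝒳) :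
    FibCat.IsFibSetoid 𝒳.p := by
  have := faithful_of_repByAlgSp hr
  refine ⟨h𝒳, fun U a b => ⟨fun f g => Functor.Fiber.hom_ext (𝒳.p.map_injective ?_)⟩⟩
  have h1 := f.2
  have h2 := g.2
  exact (map_of_isHomLift_id (R := U) f.1).trans (map_of_isHomLift_id (R := U) g.1).symm

end Groth.Agent.S12787
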