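import Groth.Statements.S12788
import Groth.Agent.ASt.Inv
set_option backward.isDefEq.respectTransparency false
set_option backward.isDefEq.respectTransparency.types false

set_option autoImplicit false
open CategoryTheory AlgebraicGeometry
universe u
open AlgSt

namespace Groth.Agent.S12788

open CategoryTheory.Limits Groth.Agent.ASt Opposite

/-- (3) ⇔ (7): for `𝒳` fibred in groupoids over `(Sch/S)`, every 1-morphism `(Sch/U) ⟶ 𝒳` from a scheme
is representable by algebraic spaces if and only if every 1-morphism `𝒰 ⟶ 𝒳` from a category fibred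
in groupoids representable by an algebraic space is representable by algebraic spaces. (The
categories `𝒰` range over categories over `(Sch/S)` with objects and morphisms in the universes of
the slice categories `(Sch/U)`.) -/
theorem result {S : Scheme.{u}} {𝒳 : AlgSt.Cat S} (h𝒳 : FibCat.IsFibGrpd 𝒳.p) :
    (∀ (U : Over S) (x : FibCat.overCat U ⥤ᵇ 𝒳), AlgSt.RepByAlgSp1 x) ↔
      ∀ (𝒰 : AlgSt.Cat S), FibCat.IsFibGrpd 𝒰.p → AlgSt.RepByAlgSp 𝒰 → ∀ (x : 𝒰 ⥤ᵇ 𝒳), AlgSt.RepByAlgSp1 x := by
  constructor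
  · intro h 𝒰 hU hr x
    obtain ⟨hr1, hr2⟩ := repByAlgSp_iff.1 hr
    have := faithful_of_faithful_source x
    refine repByAlgSp1_iff.2 ⟨inferInstance, fun U y => ?_⟩
    exact isAlgSpaceP_swap x y (repByAlgSp_iff.1 (repByAlgSp_fp x (h U y) hr)).2
  · intro h U x
    refine h (FibCat.overCat U) inferInstance ?_ x
    let e : AlgSt.ofSp ((AlgSp.yon S).obj U) ⥤ᵇ FibCat.overCat U := AlgSt.toOverCat U
    exact ⟨⟨(AlgSp.yon S).obj U, AlgSp.IsAlgSpace.yon_obj U⟩, e, AlgSt.ofOverCat U, ⟨eqToIso rfl⟩, ⟨eqToIso rfl⟩⟩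

end Groth.Agent.S12788
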