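import Groth.Statements.S12790
import Mathlib
import Groth.Agent.RepOne.Basic

set_option autoImplicit false
open CategoryTheory CategoryTheory.Limits
universe v u
open FibCat

namespace Groth.Agent.S12790

section
open CategoryTheory
open Groth.Agent.ASt Groth.Agent.RepOne
variable {C : Type u} [Category.{v} C] {X₁ X₂ Y₁ Y₂ : BasedCategory.{v, max u v} C}

set_option backward.isDefEq.respectTransparency false in
set_option backward.isDefEq.respectTransparency.types false in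
theorem rep_prod (f₁ : X₁ ⥤ᵇ Y₁) (f₂ : X₂ ⥤ᵇ Y₂) (hf₁ : FibCat.IsRepresentable1 f₁) (hf₂ : FibCat.IsRepresentable1 f₂)
    (e : BasedFunctor.comp (BasedFunctor.comp (FibCat.fpFst (FibCat.toSelf X₁) (FibCat.toSelf X₂)) f₁) (FibCat.toSelf Y₁) ≅ BasedFunctor.comp (BasedFunctor.comp (FibCat.fpSnd (FibCat.toSelf X₁) (FibCat.toSelf X₂)) f₂) (FibCat.toSelf Y₂)) :
    FibCat.IsRepresentable1 (FibCat.fpLift (BasedFunctor.comp (FibCat.fpFst (FibCat.toSelf X₁) (FibCat.toSelf X₂)) f₁) (BasedFunctor.comp (FibCat.fpSnd (FibCat.toSelf X₁) (FibCat.toSelf X₂)) f₂) e) := by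
  intro U w
  let Φ := FibCat.fpLift (BasedFunctor.comp (FibCat.fpFst (FibCat.toSelf X₁) (FibCat.toSelf X₂)) f₁) (BasedFunctor.comp (FibCat.fpSnd (FibCat.toSelf X₁) (FibCat.toSelf X₂)) f₂) e
  let A₁ := BasedFunctor.comp w (FibCat.fpFst (FibCat.toSelf Y₁) (FibCat.toSelf Y₂))
  let A₂ := BasedFunctor.comp w (FibCat.fpSnd (FibCat.toSelf Y₁) (FibCat.toSelf Y₂))
  let L : FibCat.fp w Φ ⥤ᵇ FibCat.fp A₁ f₁ :=
    FibCat.fpLift (FibCat.fpFst w Φ) (BasedFunctor.comp (FibCat.fpSnd w Φ) (FibCat.fpFst _ _))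
      (wR (FibCat.fpIso w Φ) (FibCat.fpFst _ _))
  let E : FibCat.fp w Φ ⥤ᵇ FibCat.fp (BasedFunctor.comp (FibCat.fpFst A₁ f₁) A₂) f₂ :=
    FibCat.fpLift L (BasedFunctor.comp (FibCat.fpSnd w Φ) (FibCat.fpSnd _ _))
      (wR (FibCat.fpIso w Φ) (FibCat.fpSnd _ _))
  have hE : FibCat.IsEquivOver E := by
    have : E.toFunctor.Faithful := ⟨fun {m n h k} q => fp_hom_ext (congrArg (fun t => t.hom.fst.hom.fst) q)
      (fp_hom_ext (congrArg (fun t => t.hom.fst.hom.snd) q) (congrArg (fun t => t.hom.snd) q))⟩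
    have : E.toFunctor.Full := ⟨fun {m n} h => by
      let b : m.obj.snd ⟶ n.obj.snd := fpHomMk h.hom.fst.hom.snd h.hom.snd (by
        apply (FibCat.selfOver C).p.map_injective
        rw [Functor.map_comp, Functor.map_comp, fp_iso_map, fp_iso_map, map_w, map_w, fp_map_snd h,
          show (FibCat.fp A₁ f₁).p.map h.hom.fst = (FibCat.overCat U).p.map h.hom.fst.hom.fst from rfl,
          fp_map_snd h.hom.fst]
        simp)
      refine ⟨fpHomMk h.hom.fst.hom.fst b (fp_hom_ext h.hom.fst.hom.w h.hom.w), fp_hom_ext (fp_hom_ext rfl rfl) rfl⟩⟩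
    refine isEquivOver_of_vert E fun z => ?_
    have hb1 := fp_snd_base z.obj.fst
    have hb2 : X₂.p.obj z.obj.snd = z.obj.fst.obj.fst.left := fp_snd_base z
    let X : (FibCat.fp (FibCat.toSelf X₁) (FibCat.toSelf X₂)).obj := fpMk z.obj.fst.obj.snd z.obj.snd
      (hb2.trans hb1.symm) (eqToIso (hb1.trans hb2.symm)) rfl
    let φ : w.obj z.obj.fst.obj.fst ≅ Φ.obj X := fpIsoMk z.obj.fst.obj.iso z.obj.iso (by
      apply (FibCat.selfOver C).p.map_injective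
      rw [Functor.map_comp, Functor.map_comp, fp_iso_map, fp_iso_map, map_w, map_w, fp_iso_map z.obj.fst,
        fp_iso_map z]
      simp)
    refine ⟨fpMk z.obj.fst.obj.fst X hb1 φ ((fp_iso_map z.obj.fst).trans rfl), rfl,
      fpIsoMk (fpIsoMk (Iso.refl _) (Iso.refl _) ?_) (Iso.refl _) ?_, ?_⟩
    · change A₁.map (𝟙 _) ≫ z.obj.fst.obj.iso.hom = z.obj.fst.obj.iso.hom ≫ f₁.map (𝟙 _)
      simp
    · change A₂.map (𝟙 _) ≫ z.obj.iso.hom = z.obj.iso.hom ≫ f₂.map (𝟙 _)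
      simp
    · exact ((FibCat.overCat U).p.map_id _).trans rfl
  refine rep_of_equiv_left hE ?_
  obtain ⟨V, F, hF⟩ := hf₁ U A₁
  obtain ⟨G, hG, -, -⟩ := isEquivOver_symm hF
  exact rep_fp_precomp hG _ _ (hf₂ V _)

end

/-- For representable 1-morphisms `f₁ : 𝒳₁ ⟶ 𝒴₁`, `f₂ : 𝒳₂ ⟶ 𝒴₂` of categories over `C`, the product `f₁
× f₂ : 𝒳₁ × 𝒳₂ ⟶ 𝒴₁ × 𝒴₂` (products over `C`; the functor induced on 2-fibre products, for any
choice of the 2-isomorphism `e` filling the square) is a representable 1-morphism. (The published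
statement is for categories fibred in groupoids over schemes over a base; this row is stated for
categories over any base category.) -/
theorem result {C : Type u} [Category.{v} C] {𝒳₁ 𝒳₂ 𝒴₁ 𝒴₂ : BasedCategory.{v, max u v} C}
    (f₁ : 𝒳₁ ⥤ᵇ 𝒴₁) (f₂ : 𝒳₂ ⥤ᵇ 𝒴₂) (hf₁ : FibCat.IsRepresentable1 f₁) (hf₂ : FibCat.IsRepresentable1 f₂)
    (e : BasedFunctor.comp (BasedFunctor.comp (FibCat.fpFst (FibCat.toSelf 𝒳₁) (FibCat.toSelf 𝒳₂)) f₁) (FibCat.toSelf 𝒴₁) ≅ BasedFunctor.comp (BasedFunctor.comp (FibCat.fpSnd (FibCat.toSelf 𝒳₁) (FibCat.toSelf 𝒳₂)) f₂) (FibCat.toSelf 𝒴₂)) :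
    FibCat.IsRepresentable1 (FibCat.fpLift (BasedFunctor.comp (FibCat.fpFst (FibCat.toSelf 𝒳₁) (FibCat.toSelf 𝒳₂)) f₁) (BasedFunctor.comp (FibCat.fpSnd (FibCat.toSelf 𝒳₁) (FibCat.toSelf 𝒳₂)) f₂) e) := by
  exact rep_prod f₁ f₂ hf₁ hf₂ e

end Groth.Agent.S12790
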