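import Groth.Statements.S12793
import Groth.Agent.ASt.StackSetoid
set_option backward.isDefEq.respectTransparency false
set_option backward.isDefEq.respectTransparency.types false

set_option autoImplicit false
open CategoryTheory
universe w v u
open Stk

namespace Groth.Agent.S12793

open CategoryTheory.Limits Groth.Agent.ASt Opposite

/-- If two categories over `C` are equivalent in the 2-category of categories over `C`, then one is a
stack in groupoids for the topology `J` if and only if the other is. -/
theorem result {C : Type u} [Category.{v} C] (J : GrothendieckTopology C) {𝒳 𝒴 : BasedCategory.{v, max u v} C}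
    (F : 𝒳 ⥤ᵇ 𝒴) (hF : FibCat.IsEquivOver F) : Stk.IsStack J 𝒳 ↔ Stk.IsStack J 𝒴 := by
  obtain ⟨G, hG, -, -⟩ := isEquivOver_symm hF
  exact ⟨isStack_of_isEquivOver hF, isStack_of_isEquivOver hG⟩

end Groth.Agent.S12793
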