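import Groth.Statements.S12794
import Groth.Agent.RepOne.Desc

set_option autoImplicit false
open CategoryTheory
universe w v u
open Stk

namespace Groth.Agent.S12794

set_option backward.isDefEq.respectTransparency false
set_option backward.isDefEq.respectTransparency.types false

/-- Let `𝒳`, `𝒴` be stacks in groupoids over `C` for the topology `J` and `F : 𝒳 ⟶ 𝒴` a functor over `C`
whose underlying functor is fully faithful. Then `F` is an equivalence over `C` if and only if every
object `y` of `𝒴` is locally in the essential image: there is a covering sieve `R` of the object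
under `y` such that for every arrow `f` of `R` some object `x` of `𝒳` has a morphism `F x ⟶ y` lying
over `f` (equivalently, the pullback of `y` along `f` is isomorphic in its fibre to an object in the
image of `F`). (The published statement is for stacks over the site, not necessarily in groupoids,
and 1-morphisms of stacks; this row treats stacks in groupoids.) -/
theorem result {C : Type u} [Category.{v} C] (J : GrothendieckTopology C) {𝒳 𝒴 : BasedCategory.{v, max u v} C}
    (h𝒳 : Stk.IsStack J 𝒳) (h𝒴 : Stk.IsStack J 𝒴) (F : 𝒳 ⥤ᵇ 𝒴) [F.toFunctor.Full] [F.toFunctor.Faithful] :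
    FibCat.IsEquivOver F ↔
      ∀ y : 𝒴.obj, ∃ R ∈ J (𝒴.p.obj y), ∀ ⦃V : C⦄ (f : V ⟶ 𝒴.p.obj y), R f →
        ∃ (x : 𝒳.obj) (φ : F.obj x ⟶ y), 𝒴.p.IsHomLift f φ := by
  have := h𝒳.1
  have := h𝒴.1
  constructor
  · intro hF y
    obtain ⟨-, -, hv⟩ := Groth.Agent.ASt.vert_of_isEquivOver hF
    obtain ⟨x, hx, e, he⟩ := hv y
    refine ⟨⊤, J.top_mem _, fun V f _ => ⟨Groth.Agent.ASt.pull x hx f, F.map (Groth.Agent.ASt.pullHom x hx f) ≫ e.hom, ?_⟩⟩
    exact Groth.Agent.ASt.isHomLift_of_map _ ((F.w_obj _).trans (Groth.Agent.ASt.pull_base x hx f)) rfl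
      (by simp [Groth.Agent.ASt.map_w, he])
  · intro h
    refine Groth.Agent.ASt.isEquivOver_of_vert F fun y => ?_
    obtain ⟨R, hR, hloc⟩ := h y
    choose x φ hφ using fun s : (Stk.sieveCat R).obj => hloc s.obj.hom s.property
    have hx : ∀ s, 𝒴.p.obj (F.obj (x s)) = s.obj.left := fun s =>
      have := hφ s; IsHomLift.domain_eq 𝒴.p s.obj.hom (φ s)
    have hm : ∀ s, 𝒴.p.map (φ s) = eqToHom (hx s) ≫ s.obj.hom := fun s => by
      have := hφ s
      simpa using IsHomLift.fac' 𝒴.p s.obj.hom (φ s)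
    have hc : ∀ {s t : (Stk.sieveCat R).obj} (m : s ⟶ t),
        (eqToHom (hx s) ≫ m.hom.left ≫ eqToHom (hx t).symm) ≫ 𝒴.p.map (φ t) = 𝒴.p.map (φ s) := fun {s t} m => by
      rw [hm, hm]
      simpa using congrArg (eqToHom (hx s) ≫ ·) (Over.w m.hom)
    let g : ∀ {s t : (Stk.sieveCat R).obj}, (s ⟶ t) → (x s ⟶ x t) := fun {s t} m =>
      F.toFunctor.preimage (Groth.Agent.ASt.facMap (φ t) (φ s) _ (hc m))
    have hgp : ∀ {s t : (Stk.sieveCat R).obj} (m : s ⟶ t),
        𝒴.p.map (F.map (g m)) = eqToHom (hx s) ≫ m.hom.left ≫ eqToHom (hx t).symm := fun {s t} m =>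
      (congrArg (fun k => 𝒴.p.map k) (F.toFunctor.map_preimage _)).trans (Groth.Agent.ASt.map_facMap _ _ _ _)
    have hgc : ∀ {s t : (Stk.sieveCat R).obj} (m : s ⟶ t), F.map (g m) ≫ φ t = φ s := fun {s t} m =>
      (congrArg (fun k => k ≫ φ t) (F.toFunctor.map_preimage _)).trans (Groth.Agent.ASt.facMap_comp _ _ _ _)
    let D₀ : (Stk.sieveCat R).obj ⥤ 𝒳.obj :=
      { obj := x
        map := fun m => g m
        map_id := fun s => F.toFunctor.map_injective (Groth.Agent.ASt.hom_ext (φ s) (by
            refine (hgp _).trans ?_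
            rw [F.toFunctor.map_id, 𝒴.p.map_id]
            refine (congrArg (eqToHom (hx s) ≫ ·) (Category.id_comp _)).trans ?_
            simp) ((hgc _).trans (by rw [F.toFunctor.map_id, Category.id_comp])))
        map_comp := fun {s t w} m n => F.toFunctor.map_injective (Groth.Agent.ASt.hom_ext (φ w) (by
            rw [hgp, F.toFunctor.map_comp, 𝒴.p.map_comp, hgp, hgp]
            simp
            exact congrArg (eqToHom (hx s) ≫ ·) (Category.assoc _ _ _)) ((hgc _).trans (by rw [F.toFunctor.map_comp, Category.assoc, hgc, hgc]))) }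
    have hxs : ∀ s, 𝒳.p.obj (x s) = s.obj.left := fun s => (F.w_obj (x s)).symm.trans (hx s)
    let D : Stk.sieveCat R ⥤ᵇ 𝒳 :=
      { toFunctor := D₀
        w := CategoryTheory.Functor.ext hxs fun s t m => by
          have h1 := (Groth.Agent.ASt.map_w F (g m)).symm.trans (hgp m)
          change 𝒳.p.map (g m) = eqToHom _ ≫ m.hom.left ≫ eqToHom _
          rw [← cancel_epi (eqToHom (F.w_obj (x s))), ← cancel_mono (eqToHom (F.w_obj (x t)).symm)]
          simpa using h1 }
    obtain ⟨c⟩ := ((Groth.Agent.RepOne.isStack_iff.1 h𝒳) R hR).2 D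
    let c' : Groth.Agent.RepOne.SCone (BasedFunctor.comp D F) :=
      { pt := y, base := rfl, ι := φ, map_ι := fun s => (hm s).trans (by simp), nat := fun m => hgc m }
    obtain ⟨k, ⟨hk, -⟩, -⟩ := ((Groth.Agent.RepOne.isStack_iff.1 h𝒴) R hR).1 _ (c.map F) c'
    have := Groth.Agent.ASt.isIso_of_vert k hk
    exact ⟨c.pt, c.base, asIso k, hk⟩

end Groth.Agent.S12794
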