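import Groth.Statements.S12799
import Groth.Agent.Boot.FaithfulDesc
set_option backward.isDefEq.respectTransparency false
set_option backward.isDefEq.respectTransparency.types false

set_option autoImplicit false
open CategoryTheory
universe w v u
open Stk

namespace Groth.Agent.S12799

/-- Let `𝒮₁`, `𝒮₂`, `𝒯₁` be stacks in groupoids over `C` for the topology `J`, `F : 𝒮₂ ⟶ 𝒮₁` a functor
over `C` whose underlying functor is fully faithful and such that every object of `𝒮₁` is locally in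
the essential image of `F`, and `G : 𝒯₁ ⟶ 𝒮₁` a functor over `C`. If the 2-fibre product `𝒮₂ ×_{𝒮₁}
𝒯₁` over `C` is fibred in setoids, then `𝒯₁` is fibred in setoids, hence a stack in setoids. (The
published statement is for any 2-cartesian square of stacks in groupoids; this row is the case of
the explicit 2-fibre product, to which the general case reduces because being fibred in setoids is
invariant under equivalence over `C`.) -/
theorem result {C : Type u} [Category.{v} C] (J : GrothendieckTopology C) {𝒮₁ 𝒮₂ 𝒯₁ : BasedCategory.{v, max u v} C}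
    (h₁ : Stk.IsStack J 𝒮₁) (h₂ : Stk.IsStack J 𝒮₂) (h₃ : Stk.IsStack J 𝒯₁) (F : 𝒮₂ ⥤ᵇ 𝒮₁) [F.toFunctor.Full] [F.toFunctor.Faithful]
    (hF : ∀ y : 𝒮₁.obj, ∃ R ∈ J (𝒮₁.p.obj y), ∀ ⦃V : C⦄ (f : V ⟶ 𝒮₁.p.obj y), R f →
      ∃ (x : 𝒮₂.obj) (φ : F.obj x ⟶ y), 𝒮₁.p.IsHomLift f φ)
    (G : 𝒯₁ ⥤ᵇ 𝒮₁) (h : FibCat.IsFibSetoid (FibCat.fp F G).p) : FibCat.IsFibSetoid 𝒯₁.p := by
  haveI := h₁.1
  haveI := h₂.1
  haveI := h₃.1
  haveI := h.1
  have hf : (FibCat.fp F G).p.Faithful := ⟨fun {a b} s t e => by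
    let v := ASt.facMap s t (𝟙 _) (by rw [Category.id_comp]; exact e)
    have hv : v ≫ s = t := ASt.facMap_comp _ _ _ _
    have h1 : v = 𝟙 a := ASt.eq_of_isFibSetoid h v (𝟙 a) (e := rfl) (ASt.map_facMap _ _ _ _)
      ((FibCat.fp F G).p.map_id a)
    rw [← hv, h1, Category.id_comp]⟩
  haveI := Boot.faithful_p_of_faithful_fp (ASt.isPrestack_of_isStack h₃) F G hF hf
  exact ASt.isFibSetoid_mk inferInstance fun {_ _} a b {_} ha hb => 𝒯₁.p.map_injective (ha.trans hb.symm)

end Groth.Agent.S12799
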