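import Groth.Statements.S1280
import Groth.Agent.RGBlowLib.Union.Main
-- import your own Groth.Agent.* helpers here

set_option autoImplicit false
universe u
open FlatMor

namespace Groth.Agent.S1280

open AlgebraicGeometry CategoryTheory Limits in
/-- Let S be a Noetherian scheme and U → S separated and of finite type. Suppose U = U₁ ∪ U₂ with U₁ ∩
U₂ dense in U, and that each U_i has a compactification over S (a quasi-compact open immersion over
S into a scheme proper over S). Then U has a compactification over S. -/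
theorem result {U S : Scheme.{u}} [IsNoetherian S] (g : U ⟶ S) [IsSeparated g] [LocallyOfFiniteType g] [QuasiCompact g]
    (U₁ U₂ : U.Opens) (hcov : U₁ ⊔ U₂ = ⊤) (hdense : Dense ((U₁ ⊓ U₂ : U.Opens) : Set U))
    (h₁ : ∃ (Y : Scheme.{u}) (j : (U₁ : Scheme.{u}) ⟶ Y) (p : Y ⟶ S), IsOpenImmersion j ∧ QuasiCompact j ∧ IsProper p ∧ j ≫ p = U₁.ι ≫ g)
    (h₂ : ∃ (Y : Scheme.{u}) (j : (U₂ : Scheme.{u}) ⟶ Y) (p : Y ⟶ S), IsOpenImmersion j ∧ QuasiCompact j ∧ IsProper p ∧ j ≫ p = U₂.ι ≫ g) :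
    ∃ (Y : Scheme.{u}) (j : U ⟶ Y) (p : Y ⟶ S), IsOpenImmersion j ∧ QuasiCompact j ∧ IsProper p ∧ j ≫ p = g := by
  obtain ⟨Y₁, j₁, π₁, hj₁o, -, hπ₁, hj₁⟩ := h₁
  obtain ⟨Y₂, j₂, π₂, hj₂o, -, hπ₂, hj₂⟩ := h₂
  haveI := hj₁o
  haveI := hj₂o
  haveI := hπ₁
  haveI := hπ₂
  obtain ⟨D⟩ := RGBlowLib.Union.exists_setup g U₁ U₂ π₁ π₂ j₁ j₂ hj₁ hj₂
  exact RGBlowLib.Union.exists_compactification g U₁ U₂ (fun u => hcov.ge (show u ∈ (⊤ : U.Opens) from trivial)) hdense D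

end Groth.Agent.S1280
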