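import Groth.Statements.S12801
import Mathlib
set_option backward.isDefEq.respectTransparency false
set_option backward.isDefEq.respectTransparency.types false

set_option autoImplicit false
open CategoryTheory
universe v₂ u₂ v u
open Stk

namespace Groth.Agent.S12801

/-- Let `p : 𝒳 ⥤ C` make `𝒳` fibred in groupoids over `C` and let `J` be a Grothendieck topology on `C`.
A sieve `S` on an object `x` of `𝒳` belongs to the topology on `𝒳` generated by the sieves whose
image under `p` generates a covering sieve if and only if the image of `S` under `p` generates a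
covering sieve of `p x`: the sieves whose image covers already satisfy the axioms of a topology (the
topology on `𝒳` inherited from `C`). (The published statement is for a fibred category, with
coverings the families of strongly cartesian morphisms `{x_i ⟶ x}` such that `{p x_i ⟶ p x}` is a
covering; this row is the case of a category fibred in groupoids, where every morphism is strongly
cartesian, in sieve form.) -/
theorem result {C : Type u} [Category.{v} C] {𝒳 : Type u₂} [Category.{v₂} 𝒳] (p : 𝒳 ⥤ C)
    (hp : FibCat.IsFibGrpd p) (J : GrothendieckTopology C) {x : 𝒳} (S : Sieve x) :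
    S ∈ p.restrictedTopology J x ↔ S.functorPushforward p ∈ J (p.obj x) := by
  refine ⟨fun hS => ?_, Functor.mem_restrictedTopology_of_functorPushforward_mem⟩
  have hpb : ∀ {x y : 𝒳} (φ : y ⟶ x) (S : Sieve x),
      (S.functorPushforward p).pullback (p.map φ) ≤ (S.pullback φ).functorPushforward p := by
    rintro x y φ S W g ⟨z, ψ, h, hψ, e⟩
    haveI := hp
    obtain ⟨w, χ, hχ⟩ := FibCat.IsFibGrpd.exists_lift (p := p) h
    have hw : p.obj w = W := IsHomLift.domain_eq p h χ
    subst hw
    obtain rfl : h = p.map χ := (IsHomLift.fac p h χ).trans (by simp)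
    haveI := FibCat.IsFibGrpd.isStronglyCartesian (p := p) φ
    haveI : p.IsHomLift (g ≫ p.map φ) (χ ≫ ψ) := by
      rw [show g ≫ p.map φ = p.map (χ ≫ ψ) by rw [Functor.map_comp]; exact e]
      infer_instance
    haveI := Functor.IsStronglyCartesian.map_isHomLift p (p.map φ) φ (g := g) rfl (χ ≫ ψ)
    refine ⟨w, Functor.IsStronglyCartesian.map p (p.map φ) φ (g := g) rfl (χ ≫ ψ), 𝟙 _, ?_, ?_⟩
    · change S (_ ≫ φ)
      rw [Functor.IsStronglyCartesian.fac]
      exact S.downward_closed hψ χ
    · rw [Category.id_comp]
      exact (IsHomLift.eq_of_isHomLift p g _)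
  let T : GrothendieckTopology 𝒳 :=
  { sieves := fun x => {S | S.functorPushforward p ∈ J (p.obj x)}
    top_mem' := fun x => by simp
    pullback_stable' := fun x y S φ hS => J.superset_covering (hpb φ S) (J.pullback_stable _ hS)
    transitive' := fun x S hS R hR => J.transitive hS _ fun W g hg => by
      obtain ⟨z, ψ, h, hψ, e⟩ := hg
      rw [e, Sieve.pullback_comp]
      refine J.pullback_stable h (J.superset_covering ?_ (hR hψ))
      rintro V k ⟨v, α, β, hα, rfl⟩
      exact ⟨v, α ≫ ψ, β, hα, by simp⟩ }
  have hle : p.restrictedTopology J ≤ T := by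
    refine Precoverage.toGrothendieck_le_iff_le_toPrecoverage.2 fun y R hR => ?_
    rw [GrothendieckTopology.mem_toPrecoverage_iff]
    change (Sieve.generate R).functorPushforward p ∈ J _
    rw [← Sieve.generate_map_eq_functorPushforward]
    exact (GrothendieckTopology.mem_toPrecoverage_iff _ _).1 hR
  exact hle _ hS

end Groth.Agent.S12801
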