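import Groth.Statements.S12802
import Groth.Agent.RepOne.Restricted
import Mathlib.CategoryTheory.Sites.CoverPreserving

set_option autoImplicit false
open CategoryTheory
universe v u
open Stk

namespace Groth.Agent.S12802

set_option backward.isDefEq.respectTransparency false
set_option backward.isDefEq.respectTransparency.types false

section

open Groth.Agent.ASt Groth.Agent.RepOne

theorem push_mem_iff {A : Type*} [Category A] {C : Type u} [Category.{v} C] (J : GrothendieckTopology C)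
    {p q : A ⥤ C} (h : p = q) {a : A} (S : Sieve a) :
    S.functorPushforward p ∈ J (p.obj a) ↔ S.functorPushforward q ∈ J (q.obj a) := by
  subst h
  rfl

variable {C : Type u} [Category.{v} C] (J : GrothendieckTopology C) {𝒳 𝒴 : BasedCategory.{v, max u v} C}
  [h𝒳 : FibCat.IsFibGrpd 𝒳.p] [h𝒴 : FibCat.IsFibGrpd 𝒴.p] (F : 𝒳 ⥤ᵇ 𝒴)

theorem cp : CoverPreserving (𝒳.p.restrictedTopology J) (𝒴.p.restrictedTopology J) F.toFunctor := by
  refine ⟨fun {x S} hS => ?_⟩
  rw [mem_restrictedTopology_iff h𝒳] at hS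
  rw [mem_restrictedTopology_iff h𝒴, ← Sieve.functorPushforward_comp]
  exact (push_mem_iff J F.w S).2 hS

theorem cocont : F.toFunctor.IsCocontinuous (𝒳.p.restrictedTopology J) (𝒴.p.restrictedTopology J) := by
  refine ⟨fun {x T} hT => ?_⟩
  rw [mem_restrictedTopology_iff h𝒴] at hT
  rw [mem_restrictedTopology_iff h𝒳]
  refine J.superset_covering (fun V g hg => ?_) (J.pullback_stable (eqToHom (F.w_obj x).symm) hT)
  obtain ⟨w, σ, h, hσ, e⟩ := hg
  obtain ⟨a, χ, ha, eχ⟩ := exists_lift_map h𝒳 x (V := 𝒴.p.obj w) (𝒴.p.map σ ≫ eqToHom (F.w_obj x))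
  have e1 : eqToHom ((F.w_obj a).trans ha) ≫ 𝒴.p.map σ = 𝒴.p.map (F.map χ) := by
    simp [map_w, eχ]
  obtain ⟨k, ⟨-, hk⟩, -⟩ := existsUnique_fac (𝒳 := 𝒴) σ (F.map χ) _ e1
  refine ⟨a, χ, h ≫ eqToHom ha.symm, ?_, ?_⟩
  · show T (F.map χ)
    rw [← hk]
    exact T.downward_closed hσ k
  · rw [← cancel_mono (eqToHom (F.w_obj x).symm), e, eχ]
    simp

theorem compat : CompatiblePreserving.{max u v} (𝒴.p.restrictedTopology J) F.toFunctor := by
  refine ⟨fun ℱ {Z T x} hx {Y₁ Y₂ X} f₁ f₂ {g₁ g₂} hg₁ hg₂ e => ?_⟩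
  obtain ⟨a, π₁, ha, eπ⟩ := exists_lift_map h𝒳 Y₁ (V := 𝒴.p.obj X) (𝒴.p.map f₁ ≫ eqToHom (F.w_obj Y₁))
  have e1 : eqToHom ((F.w_obj a).trans ha).symm ≫ 𝒴.p.map (F.map π₁) = 𝒴.p.map f₁ := by
    simp [map_w, eπ]
  obtain ⟨j, ⟨hj, hjc⟩, -⟩ := existsUnique_fac (𝒳 := 𝒴) (F.map π₁) f₁ _ e1
  have e2 : (eqToHom ha ≫ 𝒴.p.map f₂ ≫ eqToHom (F.w_obj Y₂)) ≫ 𝒳.p.map g₂ = 𝒳.p.map (π₁ ≫ g₁) := by
    have h0 := congrArg (fun k => 𝒴.p.map k) e
    simp only [Functor.map_comp, map_w, Category.assoc] at h0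
    rw [← cancel_mono (eqToHom (F.w_obj Z).symm), Functor.map_comp, eπ]
    simp [h0]
  obtain ⟨π₂, ⟨hπ, hπc⟩, -⟩ := existsUnique_fac g₂ (π₁ ≫ g₁) _ e2
  have h2 : j ≫ F.map π₂ = f₂ := by
    refine hom_ext (F.map g₂) ?_ ?_
    · simp [map_w, hj, hπ]
    · rw [Category.assoc, ← F.toFunctor.map_comp, hπc, F.toFunctor.map_comp, reassoc_of% hjc, e]
  have key := hx π₁ π₂ hg₁ hg₂ hπc.symm
  have key' : ℱ.obj.map (F.map π₁).op (x g₁ hg₁) = ℱ.obj.map (F.map π₂).op (x g₂ hg₂) := key
  rw [← hjc, ← h2, op_comp, op_comp, Functor.map_comp_apply, Functor.map_comp_apply, key']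

end

/-- Let `F : 𝒳 ⟶ 𝒴` be a functor over `C` between categories fibred in groupoids over `C` and endow `𝒳`
and `𝒴` with the topologies inherited from the topology `J` on `C` (generated by the sieves whose
image in `C` covers). Then `F` maps covering sieves to families generating covering sieves, lifts
coverings (it is cocontinuous), and precomposition with `F` sends sheaves of types on `𝒴` to sheaves
on `𝒳` (it is continuous). (The published statement is for a 1-morphism of fibred categories with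
the inherited topologies; this row is the case of categories fibred in groupoids, and the published
statement phrases continuity through the fibre products of covering families and deduces a morphism
of topoi whose inverse image is precomposition with `F`, which is not stated here.) -/
theorem result {C : Type u} [Category.{v} C] (J : GrothendieckTopology C) {𝒳 𝒴 : BasedCategory.{v, max u v} C}
    (h𝒳 : FibCat.IsFibGrpd 𝒳.p) (h𝒴 : FibCat.IsFibGrpd 𝒴.p) (F : 𝒳 ⥤ᵇ 𝒴) :
    CoverPreserving (𝒳.p.restrictedTopology J) (𝒴.p.restrictedTopology J) F.toFunctor ∧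
      F.toFunctor.IsCocontinuous (𝒳.p.restrictedTopology J) (𝒴.p.restrictedTopology J) ∧
      F.toFunctor.IsContinuous (𝒳.p.restrictedTopology J) (𝒴.p.restrictedTopology J) := by
  have := h𝒳
  have := h𝒴
  exact ⟨cp J F, cocont J F, Functor.isContinuous_of_coverPreserving (compat J F) (cp J F)⟩

end Groth.Agent.S12802
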