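import Groth.Statements.S12803
import Groth.Agent.RepOne.Restricted

set_option autoImplicit false
open CategoryTheory
universe v₂ u₂ v u
open Stk

namespace Groth.Agent.S12803

open Groth.Agent.RepOne in
theorem post_equiv {C : Type u} [Category.{v} C] {𝒳 : Type u₂} [Category.{v₂} 𝒳] (p : 𝒳 ⥤ C)
    (hp : FibCat.IsFibGrpd p) (x : 𝒳) : (Over.post p : Over x ⥤ Over (p.obj x)).IsEquivalence := by
  have : (Over.post p : Over x ⥤ Over (p.obj x)).Faithful := ⟨fun {a b} f g h => by
    have h' : p.map f.left = p.map g.left := congrArg CommaMorphism.left h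
    obtain ⟨χ, -, hu⟩ := exists_fac_grpd hp b.hom a.hom (p.map g.left) (by rw [← Functor.map_comp, Over.w g])
    exact Over.OverMorphism.ext ((hu f.left ⟨h', Over.w f⟩).trans (hu g.left ⟨rfl, Over.w g⟩).symm)⟩
  have : (Over.post p : Over x ⥤ Over (p.obj x)).Full := ⟨fun {a b} g => by
    obtain ⟨χ, ⟨h1, h2⟩, -⟩ := exists_fac_grpd hp b.hom a.hom g.left (Over.w g)
    exact ⟨Over.homMk χ h2, Over.OverMorphism.ext h1⟩⟩
  have : (Over.post p : Over x ⥤ Over (p.obj x)).EssSurj := ⟨fun g => by
    obtain ⟨a, φ, ha, e⟩ := exists_lift_map hp x g.hom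
    exact ⟨Over.mk φ, ⟨Over.isoMk (eqToIso ha) e.symm⟩⟩⟩
  exact { }

/-- Let `p : 𝒳 ⥤ C` make `𝒳` fibred in groupoids over `C`, let `J` be a topology on `C` and `x` an
object of `𝒳`. The functor `𝒳/x ⥤ C/p(x)` induced by `p` is an equivalence of categories, and it
identifies the localisation at `x` of the topology on `𝒳` inherited from `J` with the localisation
of `J` at `p x`: a sieve on an object of `𝒳/x` covers if and only if its image covers. -/
theorem result {C : Type u} [Category.{v} C] {𝒳 : Type u₂} [Category.{v₂} 𝒳] (p : 𝒳 ⥤ C)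
    (hp : FibCat.IsFibGrpd p) (J : GrothendieckTopology C) (x : 𝒳) :
    (Over.post p : Over x ⥤ Over (p.obj x)).IsEquivalence ∧
      ∀ (a : Over x) (S : Sieve a), S ∈ (p.restrictedTopology J).over x a ↔
        S.functorPushforward (Over.post p) ∈ (J.over (p.obj x)) ((Over.post p).obj a) := by
  refine ⟨post_equiv p hp x, fun a S => ?_⟩
  rw [GrothendieckTopology.mem_over_iff, GrothendieckTopology.mem_over_iff, Groth.Agent.RepOne.mem_restrictedTopology_iff hp]
  have : (Sieve.overEquiv a S).functorPushforward p =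
      Sieve.overEquiv ((Over.post p).obj a) (S.functorPushforward (Over.post p)) :=
    (Sieve.functorPushforward_comp (Over.forget x) p S).symm.trans
      (Sieve.functorPushforward_comp (Over.post p) (Over.forget (p.obj x)) S)
  rw [this]
  rfl

end Groth.Agent.S12803
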