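import Groth.Statements.S12806
import Groth.Agent.RepOne.Grpd
import Groth.Agent.ASt.StackSetoid

set_option autoImplicit false
open CategoryTheory
universe v u
open FibCat

namespace Groth.Agent.S12806

/-- Let `𝒮` be fibred in groupoids over `C`, `U` an object of `C` and `x, y : C/U ⟶ 𝒮` two functors over
`C` (objects over `U` in 2-Yoneda form), with `e` the 2-isomorphism identifying their composites
with the structure functor. Then the 2-fibre product over `C` of `(x, y) : C/U ⟶ 𝒮 ×_C 𝒮` with the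
diagonal `𝒮 ⟶ 𝒮 ×_C 𝒮` is fibred in setoids over `C/U` through its first projection. (The published
statement is for a fibred category with `x`, `y` the functors given by chosen pullbacks; this row is
the case of a category fibred in groupoids, where every functor over `C` out of `C/U` is of that
kind.) -/
theorem result {C : Type u} [Category.{v} C] {𝒮 : BasedCategory.{v, max u v} C} (h𝒮 : FibCat.IsFibGrpd 𝒮.p)
    (U : C) (x y : FibCat.overCat U ⥤ᵇ 𝒮)
    (e : BasedFunctor.comp x (FibCat.toSelf 𝒮) ≅ BasedFunctor.comp y (FibCat.toSelf 𝒮)) :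
    FibCat.IsFibSetoid (FibCat.fpFst (FibCat.fpLift x y e) (FibCat.diag (FibCat.toSelf 𝒮))).toFunctor := by
  have := h𝒮
  have : FibCat.IsFibGrpd (FibCat.fp (FibCat.toSelf 𝒮) (FibCat.toSelf 𝒮)).p := Groth.Agent.ASt.isFibGrpd_fp
  have : FibCat.IsFibGrpd (FibCat.overCat U).p := Groth.Agent.ASt.isFibGrpd_overCat U
  have : FibCat.IsFibGrpd (FibCat.fp (FibCat.fpLift x y e) (FibCat.diag (FibCat.toSelf 𝒮))).p := Groth.Agent.ASt.isFibGrpd_fp
  refine Groth.Agent.ASt.isFibSetoid_mk (𝒳 := BasedCategory.ofFunctor (FibCat.fpFst (FibCat.fpLift x y e) (FibCat.diag (FibCat.toSelf 𝒮))).toFunctor)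
    (Groth.Agent.RepOne.isFibGrpd_toOver _) fun {P Q} a b {ee} ha hb => ?_
  have hf : a.hom.fst = b.hom.fst := ha.trans hb.symm
  refine Groth.Agent.ASt.fp_hom_ext hf ?_
  have h1 := congrArg (fun k => k.hom.fst) a.hom.w
  have h2 := congrArg (fun k => k.hom.fst) b.hom.w
  have h3 : P.obj.iso.hom.hom.fst ≫ a.hom.snd = P.obj.iso.hom.hom.fst ≫ b.hom.snd :=
    h1.symm.trans ((congrArg (fun k => x.map k ≫ Q.obj.iso.hom.hom.fst) hf).trans h2)
  have : IsIso P.obj.iso.hom.hom.fst :=
    ((FibCat.fpFst (FibCat.toSelf 𝒮) (FibCat.toSelf 𝒮)).toFunctor.mapIso P.obj.iso).isIso_hom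
  exact (cancel_epi (f := P.obj.iso.hom.hom.fst)).1 h3

end Groth.Agent.S12806
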