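import Groth.Statements.S12807
import Groth.Agent.RepOne.Cart

set_option autoImplicit false
open CategoryTheory CategoryTheory.Limits
universe v₃ u₃ v₂ u₂ v u
open FibCat

namespace Groth.Agent.S12807

/-- Let `u : C ⥤ D` be a functor and `𝒮` a category over `D` whose structure functor is a fibred
category. Then the 2-fibre product `C ×_D 𝒮` of `u` and the structure functor (triples `(U, y, u U ≅
p y)`), with its first projection, is a fibred category over `C`. (The published statement uses the
strict fibre product, pairs with `u U = p y`; for `𝒮` fibred over `D` it is equivalent over `C` to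
the 2-fibre product used here.) -/
theorem result {C : Type u} [Category.{v} C] {D : Type u₂} [Category.{v₂} D] (u : C ⥤ D)
    (𝒮 : BasedCategory.{v₃, u₃} D) [𝒮.p.IsFibered] :
    (CategoricalPullback.π₁ u 𝒮.p).IsFibered := by
  refine Groth.Agent.RepOne.isFibered_mk (𝒳 := BasedCategory.ofFunctor (CategoricalPullback.π₁ u 𝒮.p)) fun b V f => ?_
  obtain ⟨y, ψ, ha, hc, he⟩ := Groth.Agent.RepOne.cart_lift b.snd (u.map f ≫ b.iso.hom)
  let a : CategoricalPullback u 𝒮.p := ⟨V, y, eqToIso ha.symm⟩
  let m : a ⟶ b := { fst := f, snd := ψ, w := by simp [a, he]; rfl }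
  refine ⟨a, m, rfl, Groth.Agent.RepOne.cart_mk fun {z} n g e => ?_, (Category.id_comp f).symm⟩
  change g ≫ f = n.fst at e
  obtain ⟨χ, ⟨h1, h2⟩, hu⟩ := Groth.Agent.RepOne.cart_fac hc n.snd (z.iso.inv ≫ u.map g ≫ eqToHom ha.symm) (by
    have h3 : u.map g ≫ u.map f ≫ b.iso.hom = z.iso.hom ≫ 𝒮.p.map n.snd :=
      (Category.assoc _ _ _).symm.trans ((congrArg (· ≫ b.iso.hom) ((u.map_comp g f).symm.trans (congrArg u.map e))).trans n.w)
    rw [he]
    simp only [Category.assoc]
    erw [eqToHom_trans_assoc, eqToHom_refl, Category.id_comp]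
    exact (congrArg (z.iso.inv ≫ ·) h3).trans (z.iso.inv_hom_id_assoc _))
  let c : z ⟶ a := { fst := g, snd := χ, w := by simp [a, h1]; rfl }
  refine ⟨c, ⟨rfl, CategoricalPullback.hom_ext e h2⟩, fun c' ⟨hc1, hc2⟩ => CategoricalPullback.hom_ext hc1 (hu _ ⟨?_, congrArg (fun k => k.snd) hc2⟩)⟩
  have hw := c'.w
  simp only [a, eqToIso.hom] at hw
  rw [show c'.fst = g from hc1] at hw
  exact ((congrArg (z.iso.inv ≫ ·) hw).trans (z.iso.inv_hom_id_assoc _)).symm

end Groth.Agent.S12807
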