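import Groth.Statements.S12812
import Groth.Agent.RepOne.Cart
import Mathlib.CategoryTheory.Localization.CalculusOfFractions

set_option autoImplicit false
open CategoryTheory CategoryTheory.Limits
universe v₃ u₃ v₂ u₂ v u
open Stk

namespace Groth.Agent.S12812

/-- Let `u : C ⥤ D` be a functor, where `C` has all nonempty finite limits and `u` preserves them, and
let `𝒮` be a fibred category over `C`. In the category `u_pp 𝒮` over `D` — objects `(x, V, φ : V ⟶ u
(p x))`, morphisms the pairs `(x ⟶ x', V ⟶ V')` compatible with the structure morphisms — the class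
`R` of morphisms whose component in `𝒮` is strongly cartesian and whose component in `D` is an
isomorphism is a right multiplicative system: it contains identities, is stable under composition,
and satisfies the two right Ore conditions. (The published statement takes the class with
`D`-component an identity; the class used here consists of those morphisms composed with
isomorphisms of `u_pp 𝒮` and has the same localisation.) -/
theorem result {C : Type u} [Category.{v} C] {D : Type u₂} [Category.{v₂} D] (u : C ⥤ D)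
    (𝒮 : BasedCategory.{v₃, u₃} C) [𝒮.p.IsFibered]
    (hC : ∀ (I : Type) [SmallCategory I] [FinCategory I], Nonempty I → HasLimitsOfShape I C)
    (hu : ∀ (I : Type) [SmallCategory I] [FinCategory I], Nonempty I → PreservesLimitsOfShape I u) :
    (Stk.uppR u 𝒮).HasRightCalculusOfFractions := by
  have : HasPullbacks C := hC WalkingCospan ⟨WalkingCospan.one⟩
  have : HasEqualizers C := hC WalkingParallelPair ⟨WalkingParallelPair.zero⟩
  have := hu WalkingCospan ⟨WalkingCospan.one⟩
  have := hu WalkingParallelPair ⟨WalkingParallelPair.zero⟩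
  have : (Stk.uppR u 𝒮).IsMultiplicative := {
    id_mem := fun a => ⟨by rw [Stk.UppObj.id_top]; exact Functor.IsStronglyCartesian.of_isIso 𝒮.p _ (𝟙 a.x), by rw [Stk.UppObj.id_bot]; infer_instance⟩
    comp_mem := fun f g hf hg => ⟨Groth.Agent.RepOne.cart_comp hf.1 hg.1, by
      have := hf.2; have := hg.2; rw [Stk.UppObj.comp_bot]; infer_instance⟩ }
  refine { exists_rightFraction := ?_, ext := ?_ }
  · intro X Y φ
    obtain ⟨hs, hb⟩ := φ.hs
    have hP := (IsPullback.of_hasPullback (𝒮.p.map φ.f.top) (𝒮.p.map φ.s.top)).map u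
    obtain ⟨x', t, hx, ht, et⟩ := Groth.Agent.RepOne.cart_lift X.x (pullback.fst (𝒮.p.map φ.f.top) (𝒮.p.map φ.s.top))
    have hw : X.φ ≫ u.map (𝒮.p.map φ.f.top) = (φ.f.bot ≫ inv φ.s.bot ≫ Y.φ) ≫ u.map (𝒮.p.map φ.s.top) := by
      rw [φ.f.w, Category.assoc, Category.assoc, φ.s.w, IsIso.inv_hom_id_assoc]
    obtain ⟨χ, ⟨h1, h2⟩, -⟩ := Groth.Agent.RepOne.cart_fac hs (t ≫ φ.f.top) (eqToHom hx ≫ pullback.snd _ _)
      (by rw [Category.assoc, ← pullback.condition, Functor.map_comp, et, Category.assoc])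
    let X' : Stk.UppObj u 𝒮 := ⟨x', X.V, hP.lift X.φ _ hw ≫ u.map (eqToHom hx.symm)⟩
    let s : X' ⟶ X := ⟨t, 𝟙 _, by simp [X', et, eqToHom_map]⟩
    let f : X' ⟶ Y := ⟨χ, φ.f.bot ≫ inv φ.s.bot, by simp [X', h1, eqToHom_map]⟩
    refine ⟨MorphismProperty.RightFraction.mk s ⟨ht, (by dsimp [s]; infer_instance)⟩ f, Stk.UppObj.hom_ext h2.symm ?_⟩
    simp [s, f]
  · intro X Y Y' f₁ f₂ s hs e
    obtain ⟨hs, hb⟩ := hs
    have eb : f₁.bot = f₂.bot := (cancel_mono s.bot).1 (congrArg Stk.UppObj.Hom.bot e)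
    have et : f₁.top ≫ s.top = f₂.top ≫ s.top := congrArg Stk.UppObj.Hom.top e
    let l := isLimitOfHasEqualizerOfPreservesLimit u (𝒮.p.map f₁.top) (𝒮.p.map f₂.top)
    obtain ⟨k, hk⟩ := Fork.IsLimit.lift' l X.φ (by rw [f₁.w, f₂.w, eb])
    obtain ⟨x', t, hx, ht, e'⟩ := Groth.Agent.RepOne.cart_lift X.x (equalizer.ι (𝒮.p.map f₁.top) (𝒮.p.map f₂.top))
    let X' : Stk.UppObj u 𝒮 := ⟨x', X.V, k ≫ u.map (eqToHom hx.symm)⟩
    let m : X' ⟶ X := ⟨t, 𝟙 _, by
      simp [X', e', eqToHom_map]
      exact hk⟩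
    refine ⟨X', m, ⟨ht, (by dsimp [m]; infer_instance)⟩, Stk.UppObj.hom_ext ?_ (by simp [eb])⟩
    refine Groth.Agent.RepOne.cart_ext hs ?_ ?_
    · simp only [Stk.UppObj.comp_top, Functor.map_comp, m, e', Category.assoc]
      exact congrArg (eqToHom hx ≫ ·) (equalizer.condition _ _)
    · simp [m, et]

end Groth.Agent.S12812
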