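import Groth.Statements.S12814
import Groth.Agent.RepOne.UppLoc
import Groth.Agent.S12812

set_option autoImplicit false
open CategoryTheory CategoryTheory.Limits
universe v₃ u₃ v₂ u₂ v u
open Stk

namespace Groth.Agent.S12814

/-- Let `u : C ⥤ D` be a functor, where `C` has all nonempty finite limits and `u` preserves them, and
let `𝒮` be fibred in groupoids over `C`. Then the localisation `u_p 𝒮 = R⁻¹ (u_pp 𝒮)`, with the
functor to `D` induced by `(x, V, φ) ↦ V`, is fibred in groupoids over `D`. (The published statement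
takes `R` with `D`-component an identity, which has the same localisation.) -/
theorem result {C : Type u} [Category.{v} C] {D : Type u₂} [Category.{v₂} D] (u : C ⥤ D)
    (𝒮 : BasedCategory.{v₃, u₃} C) (h𝒮 : FibCat.IsFibGrpd 𝒮.p)
    (hC : ∀ (I : Type) [SmallCategory I] [FinCategory I], Nonempty I → HasLimitsOfShape I C)
    (hu : ∀ (I : Type) [SmallCategory I] [FinCategory I], Nonempty I → PreservesLimitsOfShape I u) :
    FibCat.IsFibGrpd (Stk.up u 𝒮).p := by
  have : 𝒮.p.IsFibered := Functor.IsFibered.of_exists_isStronglyCartesian fun b V f => by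
    obtain ⟨a, φ, h⟩ := h𝒮.exists_lift f
    refine ⟨a, φ, Groth.Agent.RepOne.cart_congr (h𝒮.isStronglyCartesian φ) (IsHomLift.domain_eq 𝒮.p f φ) rfl ?_⟩
    simpa using IsHomLift.fac' 𝒮.p f φ
  have := Groth.Agent.S12812.result u 𝒮 hC hu
  exact Groth.Agent.RepOne.isFibGrpd_up u 𝒮 h𝒮

end Groth.Agent.S12814
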