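import Groth.Statements.S12816
import Groth.Agent.ASt.Stack

set_option autoImplicit false
open CategoryTheory
universe v u
open Stk

namespace Groth.Agent.S12816

set_option backward.isDefEq.respectTransparency false
set_option backward.isDefEq.respectTransparency.types false

section

open Groth.Agent.ASt

variable {C : Type u} [Category.{v} C] {𝒳 𝒴 : BasedCategory.{v, max u v} C}

theorem postcomp_ff (F : 𝒳 ⟶ 𝒴) [F.toFunctor.Full] [F.toFunctor.Faithful] (U : C) :
    (Bicategory.postcomp (FibCat.overCat U) F).Full ∧ (Bicategory.postcomp (FibCat.overCat U) F).Faithful := by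
  refine ⟨⟨fun {G G'} β => ?_⟩, ⟨fun {G G'} {α β} e => basedHom_ext fun g => F.toFunctor.map_injective ?_⟩⟩
  · let a : ∀ g, G.obj g ⟶ G'.obj g := fun g => F.toFunctor.preimage (β.toNatTrans.app g)
    have ha : ∀ g, F.map (a g) = β.toNatTrans.app g := fun g => F.toFunctor.map_preimage _
    refine ⟨{ toNatTrans := { app := a, naturality := fun g h m => F.toFunctor.map_injective ?_ }
              isHomLift' := fun g => ?_ }, basedHom_ext fun g => ha g⟩
    · rw [F.toFunctor.map_comp, F.toFunctor.map_comp, ha, ha]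
      exact β.toNatTrans.naturality m
    · rw [← BasedFunctor.isHomLift_iff F, ha]
      exact β.isHomLift (rfl : (FibCat.overCat U).p.obj g = _)
  · exact app_eq_of_eq e g

variable [FibCat.IsFibGrpd 𝒳.p] [FibCat.IsFibGrpd 𝒴.p] {F : 𝒳 ⟶ 𝒴}

theorem faithful_vert (h : ∀ U : C, (Bicategory.postcomp (FibCat.overCat U) F).Faithful) {x x' : 𝒳.obj}
    (hx : 𝒳.p.obj x' = 𝒳.p.obj x) {a b : x ⟶ x'} (ha : 𝒳.p.map a = eqToHom hx.symm)
    (hb : 𝒳.p.map b = eqToHom hx.symm) (e : F.map a = F.map b) : a = b := by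
  let U := 𝒳.p.obj x
  let G := objFun x (rfl : 𝒳.p.obj x = U)
  let G' := objFun x' hx
  let p₁ : G.obj (ov (𝟙 U)) ⟶ x := pullHom x rfl (𝟙 U)
  let p₂ : G'.obj (ov (𝟙 U)) ⟶ x' := pullHom x' hx (𝟙 U)
  have hp₁ : 𝒳.p.map p₁ = eqToHom (G.w_obj (ov (𝟙 U))) := (map_pullHom _ _ _).trans (by simp)
  have hp₂ : 𝒳.p.map p₂ = eqToHom ((G'.w_obj (ov (𝟙 U))).trans hx.symm) := (map_pullHom _ _ _).trans (by simp)
  have : IsIso p₁ := isIso_of_vert p₁ hp₁
  have : IsIso p₂ := isIso_of_vert p₂ hp₂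
  have hc : ∀ c : x ⟶ x', 𝒳.p.map c = eqToHom hx.symm →
      𝒳.p.map (p₁ ≫ c ≫ inv p₂) = eqToHom ((G.w_obj _).trans (G'.w_obj (ov (𝟙 U))).symm) := fun c hc => by
    simp [hp₁, hp₂, hc]
  let α := (funIso (y := G) (y' := G') _ (hc a ha)).hom
  let β := (funIso (y := G) (y' := G') _ (hc b hb)).hom
  have key : α = β := by
    have := h U
    refine (Bicategory.postcomp (FibCat.overCat U) F).map_injective (basedHom_ext fun g => ?_)
    change F.map (α.toNatTrans.app g) = F.map (β.toNatTrans.app g)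
    refine hom_ext (F.map (G'.map (toTop g))) ?_ ?_
    · rw [map_w, map_w, map_app, map_app]
    · rw [← F.toFunctor.map_comp, ← F.toFunctor.map_comp, funIso_app, funIso_app, F.toFunctor.map_comp,
        F.toFunctor.map_comp, F.toFunctor.map_comp, F.toFunctor.map_comp, F.toFunctor.map_comp,
        F.toFunctor.map_comp, e]
  have h1 := funIso_app (y := G) (y' := G') _ (hc a ha) (ov (𝟙 U))
  have h2 := funIso_app (y := G) (y' := G') _ (hc b hb) (ov (𝟙 U))
  rw [show (funIso (y := G) (y' := G') _ (hc a ha)).hom = β from key] at h1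
  have h3 := h1.symm.trans h2
  have ht : toTop (ov (𝟙 U)) = 𝟙 _ := Over.OverMorphism.ext rfl
  rw [ht, G.toFunctor.map_id] at h3
  rw [Category.id_comp, Category.id_comp] at h3
  exact (cancel_mono (inv p₂)).1 ((cancel_epi p₁).1 h3)

theorem full_vert (h : ∀ U : C, (Bicategory.postcomp (FibCat.overCat U) F).Full) {x x' : 𝒳.obj}
    (hx : 𝒳.p.obj x' = 𝒳.p.obj x) (m : F.obj x ⟶ F.obj x')
    (hm : 𝒴.p.map m = eqToHom ((F.w_obj x).trans (hx.symm.trans (F.w_obj x').symm))) :
    ∃ a : x ⟶ x', F.map a = m := by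
  let U := 𝒳.p.obj x
  let G := objFun x (rfl : 𝒳.p.obj x = U)
  let G' := objFun x' hx
  let p₁ : G.obj (ov (𝟙 U)) ⟶ x := pullHom x rfl (𝟙 U)
  let p₂ : G'.obj (ov (𝟙 U)) ⟶ x' := pullHom x' hx (𝟙 U)
  have hp₁ : 𝒳.p.map p₁ = eqToHom (G.w_obj (ov (𝟙 U))) := (map_pullHom _ _ _).trans (by simp)
  have hp₂ : 𝒳.p.map p₂ = eqToHom ((G'.w_obj (ov (𝟙 U))).trans hx.symm) := (map_pullHom _ _ _).trans (by simp)
  have : IsIso p₁ := isIso_of_vert p₁ hp₁
  have : IsIso p₂ := isIso_of_vert p₂ hp₂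
  let c : (BasedFunctor.comp G F).obj (ov (𝟙 U)) ⟶ (BasedFunctor.comp G' F).obj (ov (𝟙 U)) :=
    F.map p₁ ≫ m ≫ F.map (inv p₂)
  have hc : 𝒴.p.map c = eqToHom (((BasedFunctor.comp G F).w_obj _).trans ((BasedFunctor.comp G' F).w_obj _).symm) := by
    refine (Functor.map_comp _ _ _).trans ?_
    rw [Functor.map_comp, map_w, map_w, hm, hp₁]
    simp [hp₂]
  let β := (funIso (y := BasedFunctor.comp G F) (y' := BasedFunctor.comp G' F) c hc).hom
  have := h U
  obtain ⟨α, hα⟩ := (Bicategory.postcomp (FibCat.overCat U) F).map_surjective (X := G) (Y := G') β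
  refine ⟨inv p₁ ≫ α.toNatTrans.app (ov (𝟙 U)) ≫ p₂, ?_⟩
  have h1 : F.map (α.toNatTrans.app (ov (𝟙 U))) = β.toNatTrans.app (ov (𝟙 U)) := app_eq_of_eq hα _
  have h2 := funIso_app c hc (ov (𝟙 U))
  have ht : toTop (ov (𝟙 U)) = 𝟙 _ := Over.OverMorphism.ext rfl
  rw [ht, (BasedFunctor.comp G F).toFunctor.map_id, (BasedFunctor.comp G' F).toFunctor.map_id,
    Category.id_comp, Category.comp_id] at h2
  rw [F.toFunctor.map_comp, F.toFunctor.map_comp, h1, h2]
  simp [c]

theorem ff_of_postcomp (h : ∀ U : C, (Bicategory.postcomp (FibCat.overCat U) F).Full ∧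
    (Bicategory.postcomp (FibCat.overCat U) F).Faithful) : F.toFunctor.Full ∧ F.toFunctor.Faithful := by
  constructor
  · refine ⟨fun {x x'} m => ?_⟩
    let f : 𝒳.p.obj x ⟶ 𝒳.p.obj x' := eqToHom (F.w_obj x).symm ≫ 𝒴.p.map m ≫ eqToHom (F.w_obj x')
    let x'' := pull x' rfl f
    let π : x'' ⟶ x' := pullHom x' rfl f
    have e : eqToHom ((F.w_obj x).trans ((pull_base x' rfl f).symm.trans (F.w_obj x'').symm)) ≫
        𝒴.p.map (F.map π) = 𝒴.p.map m := by simp [map_w, π, f]
    obtain ⟨a, ha⟩ := full_vert (fun U => (h U).1) (x' := x'') (pull_base x' rfl f)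
      (facMap (F.map π) m _ e) (map_facMap _ _ _ _)
    exact ⟨a ≫ π, by rw [F.toFunctor.map_comp, ha, facMap_comp]⟩
  · refine ⟨fun {x x'} {a b} e => ?_⟩
    let f := 𝒳.p.map a
    let π := pullHom x' rfl f
    have hab : 𝒳.p.map b = f := (map_inj_w F e).symm
    have e₁ : eqToHom (pull_base x' rfl f).symm ≫ 𝒳.p.map π = 𝒳.p.map a := by simp [π, f]
    have e₂ : eqToHom (pull_base x' rfl f).symm ≫ 𝒳.p.map π = 𝒳.p.map b := e₁.trans hab.symm
    have : facMap π a _ e₁ = facMap π b _ e₂ := faithful_vert (fun U => (h U).2) (pull_base x' rfl f)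
      (map_facMap _ _ _ _) (map_facMap _ _ _ _) (hom_ext (F.map π) (by simp [map_w])
        (by rw [← F.toFunctor.map_comp, ← F.toFunctor.map_comp, facMap_comp, facMap_comp, e]))
    rw [← facMap_comp π a _ e₁, ← facMap_comp π b _ e₂, this]

end

/-- Let `𝒳`, `𝒴` be fibred in groupoids over `C` and `F : 𝒳 ⟶ 𝒴` a functor over `C`. Then the underlying
functor of `F` is fully faithful if and only if, for every object `U` of `C`, postcomposition with
`F` is a fully faithful functor from the category of functors `C/U ⟶ 𝒳` over `C` to that of functors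
`C/U ⟶ 𝒴` over `C`; under the 2-Yoneda lemma the latter says that `F` induces bijections between
morphisms of pullbacks `x|_V ⟶ y|_V` and `F(x)|_V ⟶ F(y)|_V` for all objects `x, y` over `U` and all
`V ⟶ U`, that is, isomorphisms of the presheaves of morphisms. (The published statement is for
stacks over a site, not necessarily in groupoids; the stack property plays no role and is not
assumed here, and this row treats categories fibred in groupoids.) -/
theorem result {C : Type u} [Category.{v} C] {𝒳 𝒴 : BasedCategory.{v, max u v} C}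
    (h𝒳 : FibCat.IsFibGrpd 𝒳.p) (h𝒴 : FibCat.IsFibGrpd 𝒴.p) (F : 𝒳 ⟶ 𝒴) :
    (F.toFunctor.Full ∧ F.toFunctor.Faithful) ↔
      ∀ U : C, (Bicategory.postcomp (FibCat.overCat U) F).Full ∧ (Bicategory.postcomp (FibCat.overCat U) F).Faithful := by
  have := h𝒳
  have := h𝒴
  exact ⟨fun h U => have := h.1; have := h.2; postcomp_ff F U, ff_of_postcomp⟩

end Groth.Agent.S12816
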