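import Groth.Statements.S12824
import Groth.Agent.ASt.StQc
set_option backward.isDefEq.respectTransparency false
set_option backward.isDefEq.respectTransparency.types false

set_option autoImplicit false
universe u
open CategoryTheory AlgebraicGeometry
open AlgSt

namespace Groth.Agent.S12824

open CategoryTheory.Limits AlgSp Groth.Agent.ASt Opposite

/-- For an algebraic stack `𝒳` over `S`, every open neighbourhood of a point of `|𝒳|` contains a
quasi-compact open neighbourhood of that point; hence `|𝒳|` is locally quasi-compact. -/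
theorem result {S : Scheme.{u}} {𝒳 : AlgSt.Cat S}
    (h𝒳 : AlgSt.IsAlgStack Scheme.fppfPrecoverage 𝒳) (x : AlgSt.Points 𝒳) (W : Set (AlgSt.Points 𝒳)) (hW : IsOpen W) (hx : x ∈ W) :
    ∃ V : Set (AlgSt.Points 𝒳), IsOpen V ∧ IsCompact V ∧ x ∈ V ∧ V ⊆ W := by
  haveI := h𝒳.isStack.1
  obtain ⟨U, a, ha, has⟩ := h𝒳.atlas
  obtain ⟨t, rfl⟩ := surjective_chart has x
  have hc := continuous_ofChart ha has a
  obtain ⟨V, hV, htV, hVW⟩ := AlgebraicGeometry.exists_isAffineOpen_mem_and_subset
    (U := ⟨AlgSt.Points.ofChart a ⁻¹' W, hW.preimage hc⟩) hx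
  exact ⟨AlgSt.Points.ofChart a '' V, isOpenMap_ofChart_of_smooth ha _ V.isOpen, hV.isCompact.image hc,
    ⟨t, htV, rfl⟩, Set.image_subset_iff.2 hVW⟩

end Groth.Agent.S12824
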