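import Groth.Statements.S12832
import Groth.Agent.ASt.DiagLft
import Groth.Agent.ASt.PtsTop
import Groth.Agent.ASt.LocQDesc
import Mathlib.AlgebraicGeometry.AlgClosed.Basic
set_option backward.isDefEq.respectTransparency false
set_option backward.isDefEq.respectTransparency.types false

set_option autoImplicit false
universe u
open CategoryTheory AlgebraicGeometry
open AlgSt

namespace Groth.Agent.S12832

open CategoryTheory.Limits AlgSp Groth.Agent.ASt Opposite

/-- (2) ⇔ (3): for a morphism `f : 𝒳 ⟶ 𝒴` of algebraic stacks over `S`, the diagonal `𝒳 ⟶ 𝒳 ×_𝒴 𝒳` is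
surjective on points if and only if for every algebraically closed field `k`, all `x₁, x₂ : Spec k ⟶
𝒳` and every 2-arrow `β : f ∘ x₁ ⟶ f ∘ x₂` there is a 2-arrow `α : x₁ ⟶ x₂` with `β = f ⋆ α`; the
2-arrows are written through objects `a₁, a₂` of `𝒳` over `Spec k` and morphisms lying over the
identity of `Spec k`. -/
theorem result {S : Scheme.{u}} {𝒳 𝒴 : AlgSt.Cat S}
    (h𝒳 : AlgSt.IsAlgStack Scheme.fppfPrecoverage 𝒳) (h𝒴 : AlgSt.IsAlgStack Scheme.fppfPrecoverage 𝒴) (f : 𝒳 ⥤ᵇ 𝒴) :
    AlgSt.IsSurjective (FibCat.diag f) ↔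
      ∀ (k : Type u) [Field k] [IsAlgClosed k] (s : Spec (CommRingCat.of k) ⟶ S) (a₁ a₂ : 𝒳.obj)
        (_ : 𝒳.p.obj a₁ = Over.mk s) (_ : 𝒳.p.obj a₂ = Over.mk s) (β : f.obj a₁ ⟶ f.obj a₂),
        𝒴.p.IsHomLift (𝟙 (Over.mk s)) β →
          ∃ α : a₁ ⟶ a₂, 𝒳.p.IsHomLift (𝟙 (Over.mk s)) α ∧ f.map α = β := by
    haveI := h𝒳.isStack.1; haveI := h𝒴.isStack.1
    haveI : FibCat.IsFibGrpd (FibCat.fp f f).p := isFibGrpd_fp
    constructor
    · intro hs k _ _ s a₁ a₂ h₁ h₂ β hβ
      have hβ' : 𝒴.p.map β = eqToHom ((f.w_obj a₁).trans ((h₁.trans h₂.symm).trans (f.w_obj a₂).symm)) := by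
        have := hβ
        rw [IsHomLift.fac' 𝒴.p (𝟙 (Over.mk s)) β]
        simp
      haveI := isIso_of_vert β hβ'
      let m : (FibCat.fp f f).obj := fpMk a₁ a₂ (h₂.trans h₁.symm) (asIso β) hβ'
      let w : FibCat.overCat (Over.mk s) ⥤ᵇ FibCat.fp f f := objFun m h₁
      have hl := lft_diag h𝒳 h𝒴 f
      haveI : FibCat.IsFibGrpd (FibCat.fp w (FibCat.diag f)).p := isFibGrpd_fp
      obtain ⟨hsh, hA, U, p, E, h, hpe, hps, hcomp, ⟨η⟩, -, hE⟩ := exists_chart_of_fib (repByAlgSp1_of_with hl) w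
      haveI : LocallyOfFiniteType h.left := prop_chart hpe hcomp ((repByAlgSpWith_iff.1 hl).2 _ w).2.2
      obtain ⟨z, hz⟩ := hs (AlgSt.Points.ofChart w (default : ↥(Spec (CommRingCat.of k))))
      obtain ⟨q, -, -⟩ := points_surjective_fp w (FibCat.diag f)
        (AlgSt.Points.ofChart (BasedFunctor.id _) (default : ↥(Spec (CommRingCat.of k)))) z hz.symm
      obtain ⟨t, -⟩ := surjective_chart (hE (P := IsSurjectiveMor) hps
        fun v hv => Groth.Agent.ASp.surjective_map_of_repWith (Groth.Agent.ASp.repWith_yon_map hv)) q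
      haveI : JacobsonSpace ↥(Over.mk s).left := inferInstanceAs (JacobsonSpace ↥(Spec (CommRingCat.of k)))
      haveI : JacobsonSpace ↥U.left := LocallyOfFiniteType.jacobsonSpace h.left
      obtain ⟨u, -, hu⟩ := nonempty_inter_closedPoints ⟨t, Set.mem_univ t⟩ isOpen_univ.isLocallyClosed
      let σ : Over.mk s ⟶ U := Over.homMk (pointOfClosedPoint h.left u hu) (by
        rw [← Over.w h]
        exact (pointOfClosedPoint_comp_assoc h.left u hu s).trans (Category.id_comp s))
      have hσ : σ ≫ h = 𝟙 _ := Over.OverMorphism.ext (pointOfClosedPoint_comp h.left u hu)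
      let n := E.obj (ov σ)
      let b : n.obj.fst ⟶ ov (𝟙 (Over.mk s)) :=
        η.hom.toNatTrans.app (ov σ) ≫ (ovHom (𝟙 _) ((Category.id_comp _).trans hσ.symm) : ov (σ ≫ h) ⟶ ov (𝟙 _))
      let ψ : (FibCat.diag f).obj n.obj.snd ⟶ m := n.obj.iso.inv ≫ w.map b ≫ pullHom m h₁ (𝟙 _)
      have hψ : 𝒳.p.map ψ.hom.fst = eqToHom ((show 𝒳.p.obj ((FibCat.diag f).obj n.obj.snd).obj.fst = Over.mk s from
          ((FibCat.diag f).w_obj n.obj.snd).trans ((fp_snd_base n).trans ((E.w_obj (ov σ)).trans (ov_base σ)))).trans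
            h₁.symm) := by
        show (FibCat.fp f f).p.map ψ = _
        have hn : (FibCat.overCat (Over.mk s)).p.obj n.obj.fst = Over.mk s := (E.w_obj (ov σ)).trans (ov_base σ)
        have e1 : (FibCat.overCat (Over.mk s)).p.map b = eqToHom (hn.trans (ov_base (𝟙 (Over.mk s))).symm) := by
          refine (Functor.map_comp _ _ _).trans ?_
          erw [map_app _ _ η.hom (ov σ)]
          exact (Category.comp_id _).trans rfl
        have e2 : (FibCat.fp f f).p.map n.obj.iso.inv = eqToHom (((FibCat.diag f).w_obj n.obj.snd).trans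
            ((fp_snd_base n).trans (w.w_obj n.obj.fst).symm)) := by
          rw [← IsIso.Iso.inv_hom, Functor.map_inv]
          have e3 := fp_iso_map n
          rw [IsIso.inv_eq_of_hom_inv_id]
          exact (congrArg (fun t => t ≫ _) e3).trans ((eqToHom_trans _ _).trans rfl)
        refine (Functor.map_comp _ _ _).trans ?_
        rw [Functor.map_comp, map_w w b, e1, e2]
        erw [map_pullHom]
        simp
      haveI : IsIso ψ.hom.fst := isIso_of_vert _ hψ
      haveI : IsIso ψ.hom.snd := isIso_fp_snd ψ hψ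
      have h2 := fp_map_snd ψ
      refine ⟨inv ψ.hom.fst ≫ ψ.hom.snd, ?_, ?_⟩
      · refine IsHomLift.of_fac' 𝒳.p _ _ h₁ h₂ ?_
        rw [Functor.map_comp, Functor.map_inv, h2]
        simp
      · rw [f.map_comp, f.map_inv, IsIso.inv_comp_eq]
        exact (ψ.hom.w.trans (Category.id_comp _)).symm
    · intro hc
      refine surjective_diag_of_liftsIso fun p q e γ hγ => ?_
      let K := AlgebraicClosure p.K
      let s : Spec (CommRingCat.of K) ⟶ S := Spec.map (CommRingCat.ofHom (algebraMap p.K K)) ≫ p.str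
      let a : Over.mk s ⟶ Over.mk p.str := Over.homMk (Spec.map (CommRingCat.ofHom (algebraMap p.K K))) rfl
      let β := facMap (f.map (pullHom q.obj (e.trans p.lies) a)) (f.map (pullHom p.obj p.lies a) ≫ γ)
        (eqToHom (((f.w_obj _).trans (pull_base p.obj p.lies a)).trans
          ((f.w_obj _).trans (pull_base q.obj (e.trans p.lies) a)).symm)) (by
          simp [map_w, hγ])
      obtain ⟨α, hα, hαβ⟩ := hc K s (pull p.obj p.lies a) (pull q.obj (e.trans p.lies) a) (pull_base _ _ _)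
        (pull_base _ _ _) β (IsHomLift.of_fac' 𝒴.p _ _ ((f.w_obj _).trans (pull_base p.obj p.lies a))
          ((f.w_obj _).trans (pull_base q.obj (e.trans p.lies) a)) (by rw [map_facMap]; simp))
      refine ⟨{ K := K, str := s, obj := pull p.obj p.lies a, lies := pull_base _ _ _ }, pullHom p.obj p.lies a,
        α ≫ pullHom q.obj (e.trans p.lies) a, ?_, ?_⟩
      · rw [Functor.map_comp, IsHomLift.fac' 𝒳.p (𝟙 (Over.mk s)) α]
        simp
      · rw [f.map_comp, hαβ, facMap_comp]

end Groth.Agent.S12832
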