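import Groth.Statements.S12837
import Mathlib.AlgebraicGeometry.Morphisms.LocalFlatDescent
import Groth.Agent.ASp.Fpqc
import Groth.Agent.PrincBundLib.Descends

set_option autoImplicit false
universe u
open CategoryTheory AlgebraicGeometry
open NonAbH1

namespace Groth.Agent.S12837
open CategoryTheory.Limits Groth.Agent.PrincBundLib in
theorem surj_of_grp {S : Scheme.{u}} (G : Over S) [GrpObj G] : Surjective G.hom :=
  ⟨fun s => ⟨(MonObj.one (X := G)).left s, by
    rw [← Scheme.Hom.comp_apply, Over.w]
    rfl⟩⟩


/-- Let `G` be a group scheme over `S` which is flat and locally of finite presentation over `S`, acting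
on an `S`-scheme `X`. If `X` is a principal homogeneous space under `G` — a pseudo-torsor which
acquires sections on the members of some fpqc covering family of `S` — then `X` is a `G`-torsor for
the fppf topology: it acquires sections on the members of some fppf covering family of `S`. (The
published statement is the equivalence of the stack of fppf torsors with the stack of principal
homogeneous spaces for a group algebraic space `G` flat and locally of finite presentation over an
algebraic space `B`, torsors being algebraic spaces; this row is its content for `B = S`, `G` a
scheme and a torsor that is a scheme, the other inclusion being the comparison of the two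
topologies.) -/
theorem result {S : Scheme.{u}}
    (G X : Over S) [GrpObj G] [Flat G.hom] [LocallyOfFinitePresentation G.hom] (a : AlgGrp.Action G X)
    (h : NonAbH1.IsTorsorFor Scheme.fpqcPrecoverage a) :
    NonAbH1.IsTorsorFor Scheme.fppfPrecoverage a := by
  haveI : Flat X.hom := Groth.Agent.PrincBundLib.property_of_torsor @Flat a h inferInstance
  haveI : LocallyOfFinitePresentation X.hom :=
    Groth.Agent.PrincBundLib.property_of_torsor @LocallyOfFinitePresentation a h inferInstance
  haveI : Surjective X.hom :=
    Groth.Agent.PrincBundLib.property_of_torsor @Surjective a h (surj_of_grp G)
  refine ⟨h.1, _, X.hom.singleton_mem_fppfPrecoverage, ?_⟩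
  rintro S' f ⟨⟩
  exact ⟨𝟙 _, Category.id_comp _⟩

end Groth.Agent.S12837
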