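import Groth.Statements.S12838
import Groth.Agent.DecSec.QuotTriv
-- import your own Groth.Agent.* helpers here

set_option autoImplicit false
set_option backward.isDefEq.respectTransparency false
universe u
open CategoryTheory AlgebraicGeometry
open AlgSt

namespace Groth.Agent.S12838

open MonoidalCategory CartesianMonoidalCategory MonObj GrpObj in
/-- Let `G` be a group scheme over `S` acting on an `S`-scheme `X`, `f : T ⟶ T'` a morphism of
`S`-schemes, `x` a `T`-point and `x'` a `T'`-point of `X`. In the quotient category `[X/G]` (scheme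
torsors for the fppf topology with an equivariant morphism to `X`) the canonical functor `X ⟶ [X/G]`
sends `x` to the trivial torsor `G ×_S T ⟶ T`, with `G` acting by left multiplication on the first
factor and the equivariant morphism `(h, t) ↦ h · x(t)`, and likewise for `x'`. The morphisms from
the image of `x` to the image of `x'` lying over `f` are exactly the maps `(h, t) ↦ (h · g(t),
f(t))` for those `T`-points `g` of `G` with `g · (x' ∘ f) = x`: every morphism over `f` is of this
form, and every such `g` defines one. -/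
theorem result (S : Scheme.{u}) (G : Over S) [GrpObj G] (X : Over S)
    (aX : AlgGrp.Action G X) (T T' : Over S) (f : T ⟶ T') (x : T ⟶ X) (x' : T' ⟶ X) :
    (∀ h : (AlgSt.quotMap Scheme.fppfPrecoverage G aX).obj ((AlgSt.ofOverCat X).obj (Over.mk x)) ⟶ (AlgSt.quotMap Scheme.fppfPrecoverage G aX).obj ((AlgSt.ofOverCat X).obj (Over.mk x')),
        h.base = f → ∃ g : T ⟶ G, lift g (f ≫ x') ≫ aX.act = x ∧
          h.top = lift (fst G T * (snd G T ≫ g)) (snd G T ≫ f)) ∧
    (∀ g : T ⟶ G, lift g (f ≫ x') ≫ aX.act = x →
        ∃ h : (AlgSt.quotMap Scheme.fppfPrecoverage G aX).obj ((AlgSt.ofOverCat X).obj (Over.mk x)) ⟶ (AlgSt.quotMap Scheme.fppfPrecoverage G aX).obj ((AlgSt.ofOverCat X).obj (Over.mk x')),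
          h.base = f ∧ h.top = lift (fst G T * (snd G T ≫ g)) (snd G T ≫ f)) := by
  open Groth.Agent.DecSec.QuotSch in
  constructor
  · intro h hf
    obtain ⟨l, hl⟩ : ∃ l : T ⟶ G ⊗ T', l = unitSec T ≫ h.top := ⟨_, rfl⟩
    have h1 : l ≫ snd G T' = f := by
      rw [hl]
      exact (unit_π h).trans hf
    have h2 : l ≫ (G ◁ x') ≫ aX.act = x := by
      rw [hl]
      exact unit_φ h
    have h3 : l = lift (l ≫ fst G T') f := by
      rw [← h1, ← comp_lift, lift_fst_snd, Category.comp_id]
    refine ⟨l ≫ fst G T', ?_, ?_⟩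
    · rw [← h2]
      conv_rhs => rw [h3, ← Category.assoc, lift_whiskerLeft]
    · refine (hom_top h).trans ?_
      change (G ◁ (unitSec T ≫ h.top)) ≫ (AlgSt.leftMul G T').act = _
      rw [← hl]
      exact (whisker_leftMul l).trans (by rw [h1])
  · intro g hg
    obtain ⟨h, ⟨hb, ht⟩, -⟩ := existsUnique_hom (K := Scheme.fppfPrecoverage) (aX := aX) x
      (qObj Scheme.fppfPrecoverage G aX x') f (lift g f) (lift_snd _ _) (by
        change lift g f ≫ (G ◁ x') ≫ aX.act = x
        rw [← Category.assoc, lift_whiskerLeft]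
        exact hg)
    refine ⟨h, hb, (hom_top h).trans ?_⟩
    rw [ht]
    change (G ◁ lift g f) ≫ (AlgSt.leftMul G T').act = _
    exact (whisker_leftMul (lift g f)).trans (by rw [lift_fst, lift_snd])

end Groth.Agent.S12838
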