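import Groth.Statements.S12841
import Groth.Agent.Boot.MonoDesc
import Groth.Agent.ASt.FpSp
set_option backward.isDefEq.respectTransparency false
set_option backward.isDefEq.respectTransparency.types false

set_option autoImplicit false
open CategoryTheory AlgebraicGeometry
universe u
open AlgSt

namespace Groth.Agent.S12841

/-- (1) ⇔ (4): let `f : 𝒳 ⟶ 𝒴` be a 1-morphism of algebraic stacks over `S`, `W` an algebraic space over
`S` and `w : W ⟶ 𝒴` surjective, flat and locally of finite presentation. Then `f` is a monomorphism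
if and only if `W ×_𝒴 𝒳` is an algebraic space `V` and the projection `V ⟶ W` is a monomorphism of
algebraic spaces. The projection is named through an equivalence `e` over `(Sch/S)` from the
category of `V` to the 2-fibre product whose composite with the first projection is 2-isomorphic to
the functor of a morphism `a : V ⟶ W`; being a monomorphism does not depend on these choices. -/
theorem result {S : Scheme.{u}} {𝒳 𝒴 : AlgSt.Cat S}
    (h𝒳 : AlgSt.IsAlgStack Scheme.fppfPrecoverage 𝒳) (h𝒴 : AlgSt.IsAlgStack Scheme.fppfPrecoverage 𝒴)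
    (f : 𝒳 ⥤ᵇ 𝒴) (W : AlgSp.Space S) (w : AlgSt.ofSp W.obj ⥤ᵇ 𝒴)
    (hw₁ : AlgSt.RepByAlgSpWith (AlgSp.LocP @Flat) w)
    (hw₂ : AlgSt.RepByAlgSpWith (AlgSp.LocP @LocallyOfFinitePresentation) w)
    (hw₃ : AlgSt.RepByAlgSpWith AlgSp.IsSurjectiveMor w) :
    AlgSt.IsMono f ↔
      ∃ (V : AlgSp.Space S) (a : V ⟶ W) (e : AlgSt.ofSp V.obj ⥤ᵇ FibCat.fp w f),
        FibCat.IsEquivOver e ∧
          Nonempty (BasedFunctor.comp e (FibCat.fpFst w f) ≅ AlgSt.ofSpMap a.hom) ∧ Mono a.hom := by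
  haveI := h𝒳.isStack.1
  haveI := h𝒴.isStack.1
  haveI : FibCat.IsFibGrpd (AlgSt.ofSp W.obj).p := ASt.isFibGrpd_ofSp W.obj
  haveI : FibCat.IsFibGrpd (FibCat.fp w f).p := ASt.isFibGrpd_fp
  refine ⟨fun hm => ?_, fun ⟨V, a, e, he, ⟨α⟩, hmono⟩ => ?_⟩
  · obtain ⟨hfull, hfaith⟩ := ASt.full_faithful_of_isMono hm
    obtain ⟨V, a, e, he, ⟨α⟩⟩ := ASt.exists_fpSp (Boot.repByAlgSp1_of_faithful h𝒳 h𝒴 f) W w
    refine ⟨V, a, e, he, ⟨α⟩, ?_⟩
    obtain ⟨h1, h2, -⟩ := ASt.vert_of_isEquivOver he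
    haveI := Boot.full_fpFst (w := w) (f := f)
    haveI : (FibCat.fpFst w f).toFunctor.Faithful := ASt.faithful_fpFst
    let β := (BasedNatTrans.forgetful _ _).mapIso α
    haveI : (AlgSt.ofSpMap a.hom).toFunctor.Full := Functor.Full.of_iso (F := e.toFunctor ⋙ (FibCat.fpFst w f).toFunctor) β
    haveI : ∀ T, Mono (a.hom.hom.app T) := fun T => (mono_iff_injective _).2 fun s t hst => by
      let x : (AlgSt.ofSp V.obj).obj := ⟨T.unop, s⟩
      let y : (AlgSt.ofSp V.obj).obj := ⟨T.unop, t⟩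
      let m : (AlgSt.ofSpMap a.hom).obj x ⟶ (AlgSt.ofSpMap a.hom).obj y := ⟨𝟙 _, by
        show W.obj.obj.map (𝟙 T.unop).op (a.hom.hom.app _ t) = a.hom.hom.app _ s
        rw [op_id, CategoryTheory.Functor.map_id]
        exact hst.symm⟩
      obtain ⟨n, hn⟩ := (AlgSt.ofSpMap a.hom).toFunctor.map_surjective m
      have h3 : n.hom = 𝟙 _ := congrArg (fun q => q.hom) hn
      have h4 := n.map_sec
      rw [h3, op_id, CategoryTheory.Functor.map_id] at h4
      exact h4.symm
    haveI : Mono a.hom.hom := NatTrans.mono_of_mono_app _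
    exact (sheafToPresheaf _ _).mono_of_mono_map (inferInstanceAs (Mono a.hom.hom))
  · obtain ⟨G, hG, -, ⟨β⟩⟩ := ASt.isEquivOver_symm he
    obtain ⟨g1, g2, -⟩ := ASt.vert_of_isEquivOver hG
    haveI := g1
    haveI := g2
    haveI : Mono a.hom := hmono
    have hinj : ∀ T, Function.Injective (a.hom.hom.app (Opposite.op T)) := fun T =>
      Groth.Agent.ASp.app_injective_of_mono a.hom T
    haveI : (AlgSt.ofSpMap a.hom).toFunctor.Faithful := ⟨fun {x y} m n h =>
      Stk.EltObj.Hom.ext (congrArg (fun q => q.hom) h)⟩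
    haveI : (AlgSt.ofSpMap a.hom).toFunctor.Full := ⟨fun {x y} m => ⟨⟨m.hom, hinj _ (by
      have h1 := m.map_sec
      have h2 := (NatTrans.naturality_apply a.hom.hom m.hom.op y.sec)
      exact h2.trans h1)⟩, rfl⟩⟩
    let α' := (BasedNatTrans.forgetful _ _).mapIso α
    let β' := (BasedNatTrans.forgetful _ _).mapIso β
    let γ : G.toFunctor ⋙ (AlgSt.ofSpMap a.hom).toFunctor ≅ (FibCat.fpFst w f).toFunctor :=
      (Functor.isoWhiskerLeft G.toFunctor α').symm ≪≫ (Functor.associator _ _ _).symm ≪≫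
        Functor.isoWhiskerRight β' (FibCat.fpFst w f).toFunctor ≪≫ Functor.leftUnitor _
    haveI : (FibCat.fpFst w f).toFunctor.Full := Functor.Full.of_iso γ
    haveI : (FibCat.fpFst w f).toFunctor.Faithful := Functor.Faithful.of_iso γ
    exact Boot.isMono_of_full_faithful_fpFst h𝒳 h𝒴 (Boot.locEssSurj_of_fppf hw₁ hw₂ hw₃)

end Groth.Agent.S12841
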