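import Groth.Statements.S12842
import Groth.Agent.Boot.Setoid
import Groth.Agent.Boot.FaithfulDesc
import Groth.Agent.Boot.LocEss
set_option backward.isDefEq.respectTransparency false
set_option backward.isDefEq.respectTransparency.types false

set_option autoImplicit false
open CategoryTheory AlgebraicGeometry
universe u
open AlgSt

namespace Groth.Agent.S12842

/-- (2) ⇒ (1): let `f : 𝒳 ⟶ 𝒴` be a 1-morphism of algebraic stacks over `S`, `W` an algebraic space over
`S` and `w : W ⟶ 𝒴` surjective, flat and locally of finite presentation. If the 2-fibre product `W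
×_𝒴 𝒳` is representable by an algebraic space, then `f` is representable by algebraic spaces. -/
theorem result {S : Scheme.{u}} {𝒳 𝒴 : AlgSt.Cat S}
    (h𝒳 : AlgSt.IsAlgStack Scheme.fppfPrecoverage 𝒳) (h𝒴 : AlgSt.IsAlgStack Scheme.fppfPrecoverage 𝒴)
    (f : 𝒳 ⥤ᵇ 𝒴) (W : AlgSp.Space S) (w : AlgSt.ofSp W.obj ⥤ᵇ 𝒴)
    (hw₁ : AlgSt.RepByAlgSpWith (AlgSp.LocP @Flat) w)
    (hw₂ : AlgSt.RepByAlgSpWith (AlgSp.LocP @LocallyOfFinitePresentation) w)
    (hw₃ : AlgSt.RepByAlgSpWith AlgSp.IsSurjectiveMor w)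
    (h : AlgSt.RepByAlgSp (FibCat.fp w f)) : AlgSt.RepByAlgSp1 f := by
  haveI := h𝒳.isStack.1
  haveI := h𝒴.isStack.1
  haveI : FibCat.IsFibGrpd (AlgSt.ofSp W.obj).p := ASt.isFibGrpd_ofSp W.obj
  haveI : FibCat.IsFibGrpd (FibCat.fp w f).p := ASt.isFibGrpd_fp
  haveI := ASt.faithful_of_repByAlgSp h
  have hf : (FibCat.fpFst w f).toFunctor.Faithful := ⟨fun {a b} s t e =>
    (FibCat.fp w f).p.map_injective (congrArg (fun k => (AlgSt.ofSp W.obj).p.map k) e)⟩
  haveI := Boot.faithful_of_faithful_fpFst (ASt.isPrestack_of_isStack h𝒳.isStack) w f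
    (Boot.locEssSurj_of_fppf hw₁ hw₂ hw₃) hf
  exact Boot.repByAlgSp1_of_faithful h𝒳 h𝒴 f

end Groth.Agent.S12842
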