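import Groth.Statements.S1285
import Groth.Agent.DevissLib.Basis

set_option autoImplicit false
set_option backward.isDefEq.respectTransparency false
set_option backward.isDefEq.respectTransparency.types false
attribute [local instance] Algebra.TensorProduct.rightAlgebra
universe u
open FlatMor

namespace Groth.Agent.S1285

/-- Let (C, D, G) be a one-step dévissage of N/S/R over the prime p (see FlatCA.IsOneStepDevissage), and
suppose pD is prime (the generic point of the fibre of Spec D). Then there are r > 0 and a D-linear
map α from D^r to G which becomes bijective after base change to the residue field of pD; moreover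
for every such α the support of the fibre module over p of the cokernel of α has dimension strictly
less than that of the fibre module of N. -/
theorem result {R S : Type u} [CommRing R] [CommRing S] [Algebra R S] [Algebra.FiniteType R S]
    (N : Type u) [AddCommGroup N] [Module S N] [Module R N] [IsScalarTower R S N] [Module.Finite S N] (p : Ideal R) [p.IsPrime]
    (C D G : Type u) [CommRing C] [CommRing D] [Algebra S C] [Algebra R C] [IsScalarTower R S C]
    [Algebra R D] [Algebra D C] [IsScalarTower R D C] [AddCommGroup G] [Module C G] [Module S G] [IsScalarTower S C G]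
    [Module D G] [IsScalarTower D C G] [Module R G] [IsScalarTower R D G]
    (n : ℕ) (h : FlatCA.IsOneStepDevissage R S N p C D G n) [(p.map (algebraMap R D)).IsPrime] :
    (∃ (r : ℕ) (α : (Fin r → D) →ₗ[D] G), 0 < r ∧ Function.Bijective (α.baseChange (p.map (algebraMap R D)).ResidueField)) ∧
    ∀ (r : ℕ) (α : (Fin r → D) →ₗ[D] G), Function.Bijective (α.baseChange (p.map (algebraMap R D)).ResidueField) →
      Module.supportDim (p.Fiber D) (FlatCA.fiberMod p D (G ⧸ LinearMap.range α)) < (n : WithBot ℕ∞) := by
  obtain ⟨⟨eN⟩, hsurj, hfp, hDC, hCG, hsm, hgi, hdim⟩ := h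
  haveI := hDC
  haveI := hCG
  haveI := DevissLib.smooth_of_smoothRelDim hsm
  haveI : Module.Finite D G := Module.Finite.trans C G
  haveI : Module.Finite S G := Module.Finite.equiv eN
  haveI : IsScalarTower R C G := IsScalarTower.of_algebraMap_smul fun r g => by
    rw [IsScalarTower.algebraMap_apply R D C, algebraMap_smul, algebraMap_smul]
  haveI : IsScalarTower R S G := IsScalarTower.of_algebraMap_smul fun r g => by
    rw [← algebraMap_smul C (algebraMap R S r) g, ← IsScalarTower.algebraMap_apply R S C, algebraMap_smul]
  have e₁ : Module.supportDim (p.Fiber D) (FlatCA.fiberMod p D G) = (n : WithBot ℕ∞) := by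
    rw [DevissLib.supportDim_fiberMod_eq p D C G, ← DevissLib.supportDim_fiberMod_eq p S C G]
    refine (Eq.trans ?_ hdim)
    exact Module.supportDim_eq_of_equiv (TensorProduct.AlgebraTensorModule.congr
      (LinearEquiv.refl (p.Fiber S) (p.Fiber S)) eN.symm)
  haveI hne : Nontrivial (FlatCA.fiberMod p D G) :=
    (Module.supportDim_ne_bot_iff_nontrivial (p.Fiber D) _).1 (by rw [e₁]; exact WithBot.coe_ne_bot)
  haveI : Nontrivial (p.Fiber D) := Module.nontrivial (p.Fiber D) (FlatCA.fiberMod p D G)
  obtain ⟨Q, hQ⟩ := Ideal.exists_maximal (p.Fiber D)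
  haveI := hQ
  haveI : (p.map (algebraMap R D)).LiesOver p := ⟨le_antisymm Ideal.le_comap_map
    ((Ideal.comap_mono (Ideal.map_le_iff_le_comap.2 (FibAssLib.comap_liesOver p Q).over.le)).trans
      (FibAssLib.comap_liesOver p Q).over.ge)⟩
  have hle := DevissLib.ringKrullDim_fiber_le hsm p
  refine ⟨?_, fun r α hα => ?_⟩
  · obtain ⟨r, α, hα, h0⟩ := DevissLib.exists_residue_basis G (p.map (algebraMap R D))
    refine ⟨r, α, Nat.pos_of_ne_zero fun hr => ?_, hα⟩
    exact (e₁ ▸ DevissLib.supportDim_lt p G hle (h0 hr)).ne rfl
  · refine DevissLib.supportDim_lt p _ hle (subsingleton_of_forall_eq 0 fun x => ?_)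
    obtain ⟨y, rfl⟩ := LinearMap.lTensor_surjective (p.map (algebraMap R D)).ResidueField
      (LinearMap.range α).mkQ_surjective x
    obtain ⟨z, rfl⟩ := hα.2 y
    rw [LinearMap.baseChange_eq_ltensor, ← LinearMap.lTensor_comp_apply, LinearMap.range_mkQ_comp,
      LinearMap.lTensor_zero, LinearMap.zero_apply]

end Groth.Agent.S1285
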