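import Groth.Statements.S12852
import Groth.Agent.ASt.SmLocally
import Groth.Agent.ASt.StQc
set_option backward.isDefEq.respectTransparency false
set_option backward.isDefEq.respectTransparency.types false

set_option autoImplicit false
open CategoryTheory AlgebraicGeometry
universe u
open AlgSt

namespace Groth.Agent.S12852

open CategoryTheory.Limits AlgSp Groth.Agent.ASt Opposite

/-- (2) ⇔ (4): suppose `P`, a property of schemes, is local for the smooth topology (for every jointly
surjective family of smooth morphisms `V_i ⟶ U`, `U` has `P` if and only if every `V_i` has `P`) and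
`𝒳` an algebraic stack over `S`. Then every scheme admitting a smooth morphism to `𝒳` has `P` if and
only if every algebraic space `U` admitting a smooth `U ⟶ 𝒳` has `P` (that is, some surjective etale
scheme chart of `U` has `P`). -/
theorem result {S : Scheme.{u}} {𝒳 : AlgSt.Cat S}
    (h𝒳 : AlgSt.IsAlgStack Scheme.fppfPrecoverage 𝒳) (P : Scheme.{u} → Prop)
    (hP : ∀ (U : Scheme.{u}) (R : Presieve U), R ∈ Scheme.precoverage @Smooth U →
      (P U ↔ ∀ ⦃V : Scheme.{u}⦄ (g : V ⟶ U), R g → P V)) :
    AlgSt.SmoothLocally P 𝒳 ↔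
      ∀ (U : AlgSp.Space S) (x : AlgSt.ofSp U.obj ⥤ᵇ 𝒳),
        AlgSt.RepByAlgSpWith (AlgSp.LocP @Smooth) x → AlgSp.EtaleLocally P U.obj := by
  haveI := h𝒳.isStack.1
  refine ⟨fun h U x hx => ?_, fun H U x hx => ?_⟩
  · obtain ⟨V, p, hpe, hps⟩ := U.property.atlas
    refine ⟨V, p, hpe, hps, h V (BasedFunctor.comp (spChart p) x) (repByAlgSpWith_comp compLocal_smooth ?_ hx)⟩
    exact repByAlgSpWith_spChart hpe fun v (hv : Etale v.left) => Groth.Agent.ASp.locP_of_repWith
      (Groth.Agent.ASp.repWith_yon_map (inferInstanceAs (Smooth v.left)))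
  · obtain ⟨V, p, hpe, hps, hV⟩ := H ⟨(yon S).obj U, IsAlgSpace.yon_obj U⟩ (BasedFunctor.comp (AlgSt.toOverCat U) x)
      (repByAlgSpWith_precomp (isEquivOver_toOverCat U) hx)
    obtain ⟨l, rfl⟩ := (yon S).map_surjective p
    haveI : Etale l.left := (AlgSp.repWith_yon_map_iff @Etale l).1 hpe
    haveI : Surjective l.left := (AlgSp.repWith_yon_map_iff @Surjective l).1 hps
    exact prop_of_smooth_surjective hP l.left hV

end Groth.Agent.S12852
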