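import Groth.Statements.S12853
import Groth.Agent.ASt.SmLocally
import Groth.Agent.ASt.StQc
set_option backward.isDefEq.respectTransparency false
set_option backward.isDefEq.respectTransparency.types false

set_option autoImplicit false
open CategoryTheory AlgebraicGeometry
universe u
open AlgSt

namespace Groth.Agent.S12853

open CategoryTheory.Limits AlgSp Groth.Agent.ASt Opposite

/-- (2) ⇔ (3): suppose `P`, a property of schemes, is local for the smooth topology (for every jointly
surjective family of smooth morphisms `V_i ⟶ U`, `U` has `P` if and only if every `V_i` has `P`) and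
`𝒳` an algebraic stack over `S`. Then every scheme admitting a smooth morphism to `𝒳` has `P` if and
only if some algebraic space `U` having `P` (some surjective etale scheme chart of `U` has `P`)
admits a surjective smooth `U ⟶ 𝒳`. -/
theorem result {S : Scheme.{u}} {𝒳 : AlgSt.Cat S}
    (h𝒳 : AlgSt.IsAlgStack Scheme.fppfPrecoverage 𝒳) (P : Scheme.{u} → Prop)
    (hP : ∀ (U : Scheme.{u}) (R : Presieve U), R ∈ Scheme.precoverage @Smooth U →
      (P U ↔ ∀ ⦃V : Scheme.{u}⦄ (g : V ⟶ U), R g → P V)) :
    AlgSt.SmoothLocally P 𝒳 ↔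
      ∃ (U : AlgSp.Space S) (x : AlgSt.ofSp U.obj ⥤ᵇ 𝒳),
        AlgSt.RepByAlgSpWith (AlgSp.LocP @Smooth) x ∧ AlgSt.RepByAlgSpWith AlgSp.IsSurjectiveMor x ∧
          AlgSp.EtaleLocally P U.obj := by
  haveI := h𝒳.isStack.1
  constructor
  · intro h
    obtain ⟨U, x, hx, hxs⟩ := h𝒳.atlas
    exact ⟨⟨(yon S).obj U, IsAlgSpace.yon_obj U⟩, BasedFunctor.comp (AlgSt.toOverCat U) x,
      repByAlgSpWith_precomp (isEquivOver_toOverCat U) hx, repByAlgSpWith_precomp (isEquivOver_toOverCat U) hxs,
      U, 𝟙 _, AlgSp.repWith_id _ U, AlgSp.repWith_id _ U, h U x hx⟩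
  · rintro ⟨U, x, hx, hxs, V, p, hpe, hps, hV⟩
    exact smoothLocally_of_chart hP (x := BasedFunctor.comp (spChart p) x)
      (repByAlgSpWith_comp compLocal_smooth (repByAlgSpWith_spChart hpe fun v (hv : Etale v.left) =>
        Groth.Agent.ASp.locP_of_repWith (Groth.Agent.ASp.repWith_yon_map (inferInstanceAs (Smooth v.left)))) hx)
      (repByAlgSpWith_comp compLocal_surjective (repByAlgSpWith_spChart hps fun v hv =>
        Groth.Agent.ASp.surjective_map_of_repWith (Groth.Agent.ASp.repWith_yon_map hv)) hxs) hV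

end Groth.Agent.S12853
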