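import Groth.Statements.S12854
import Groth.Agent.ASt.SmLocally
import Groth.Agent.ASt.StQc
set_option backward.isDefEq.respectTransparency false
set_option backward.isDefEq.respectTransparency.types false

set_option autoImplicit false
open CategoryTheory AlgebraicGeometry
universe u
open AlgSt

namespace Groth.Agent.S12854

open CategoryTheory.Limits AlgSp Groth.Agent.ASt Opposite

/-- Suppose `P`, a property of schemes, is local for the smooth topology (for every jointly surjective
family of smooth morphisms `V_i ⟶ U`, `U` has `P` if and only if every `V_i` has `P`) and `U` a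
scheme over `S`. Then every scheme admitting a smooth morphism to (the algebraic stack of) `U` has
`P` if and only if `U` has `P`. -/
theorem result {S : Scheme.{u}} (U : Over S) (P : Scheme.{u} → Prop)
    (hP : ∀ (U : Scheme.{u}) (R : Presieve U), R ∈ Scheme.precoverage @Smooth U →
      (P U ↔ ∀ ⦃V : Scheme.{u}⦄ (g : V ⟶ U), R g → P V)) :
    AlgSt.SmoothLocally P (AlgSt.ofSch U) ↔ P U.left := by
  constructor
  · intro h
    exact h U (spChart (𝟙 ((yon S).obj U))) (repByAlgSpWith_spChart (M := @Etale) (AlgSp.repWith_id _ U)
      fun v (hv : Etale v.left) => Groth.Agent.ASp.locP_of_repWith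
        (Groth.Agent.ASp.repWith_yon_map (inferInstanceAs (Smooth v.left))))
  · intro hU
    exact smoothLocally_of_chart hP (x := spChart (𝟙 ((yon S).obj U)))
      (repByAlgSpWith_spChart (M := @Etale) (AlgSp.repWith_id _ U) fun v (hv : Etale v.left) =>
        Groth.Agent.ASp.locP_of_repWith (Groth.Agent.ASp.repWith_yon_map (inferInstanceAs (Smooth v.left))))
      (repByAlgSpWith_spChart (M := @Surjective) (AlgSp.repWith_id _ U) fun v hv =>
        Groth.Agent.ASp.surjective_map_of_repWith (Groth.Agent.ASp.repWith_yon_map hv)) hU

end Groth.Agent.S12854
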