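import Groth.Statements.S12856
import Groth.Agent.ASt.StQc
set_option backward.isDefEq.respectTransparency false
set_option backward.isDefEq.respectTransparency.types false

set_option autoImplicit false
open CategoryTheory AlgebraicGeometry
universe u
open AlgSt

namespace Groth.Agent.S12856

open CategoryTheory.Limits AlgSp Groth.Agent.ASt Opposite

/-- (2) ⇔ (4): an algebraic stack `𝒳` over `S` admits a surjective smooth morphism from an affine scheme
if and only if it admits a surjective smooth morphism from a quasi-compact algebraic space. -/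
theorem result {S : Scheme.{u}} {𝒳 : AlgSt.Cat S}
    (h𝒳 : AlgSt.IsAlgStack Scheme.fppfPrecoverage 𝒳) :
    AlgSt.IsQuasiCompact 𝒳 ↔
      ∃ (U : AlgSp.Space S) (x : AlgSt.ofSp U.obj ⥤ᵇ 𝒳), AlgSp.IsQuasiCompactSp U.obj ∧
        AlgSt.RepByAlgSpWith (AlgSp.LocP @Smooth) x ∧ AlgSt.RepByAlgSpWith AlgSp.IsSurjectiveMor x := by
  haveI := h𝒳.isStack.1
  constructor
  · rintro ⟨U, x, hU, h1, h2⟩
    exact ⟨⟨(AlgSp.yon S).obj U, IsAlgSpace.yon_obj U⟩, BasedFunctor.comp (AlgSt.toOverCat U) x,
      ⟨U, 𝟙 _, AlgSp.repWith_id _ U, AlgSp.repWith_id _ U, inferInstance⟩,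
      repByAlgSpWith_precomp (isEquivOver_toOverCat U) h1, repByAlgSpWith_precomp (isEquivOver_toOverCat U) h2⟩
  · rintro ⟨U, x, ⟨V, p, -, hps, hV⟩, -, h2⟩
    haveI := compactSpace_of_surjective_chart h𝒳 (z := BasedFunctor.comp (spChart p) x)
      ((isSurjective_of_repByAlgSpWith h2).comp (surjective_ofChart_spChart hps))
    exact isQuasiCompact_of_compactSpace h𝒳

end Groth.Agent.S12856
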