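import Groth.Statements.S12858
import Groth.Agent.ASt.StQc
set_option backward.isDefEq.respectTransparency false
set_option backward.isDefEq.respectTransparency.types false

set_option autoImplicit false
open CategoryTheory AlgebraicGeometry
universe u
open AlgSt

namespace Groth.Agent.S12858

open CategoryTheory.Limits AlgSp Groth.Agent.ASt Opposite

/-- (5) ⇒ (2): let `f : 𝒰 ⟶ 𝒳` be a 1-morphism of algebraic stacks over `S` inducing a surjective map on
points. If `𝒰` is quasi-compact (admits a surjective smooth morphism from an affine scheme), so is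
`𝒳`. -/
theorem result {S : Scheme.{u}} {𝒰 𝒳 : AlgSt.Cat S}
    (h𝒰 : AlgSt.IsAlgStack Scheme.fppfPrecoverage 𝒰) (h𝒳 : AlgSt.IsAlgStack Scheme.fppfPrecoverage 𝒳) (f : 𝒰 ⥤ᵇ 𝒳) (hf : AlgSt.IsSurjective f)
    (h𝒰' : AlgSt.IsQuasiCompact 𝒰) : AlgSt.IsQuasiCompact 𝒳 := by
  haveI := h𝒰.isStack.1
  haveI := h𝒳.isStack.1
  haveI := compactSpace_of_isQuasiCompact h𝒰 h𝒰'
  haveI : CompactSpace (AlgSt.Points 𝒳) := (show Function.Surjective (AlgSt.Points.map f) from hf).compactSpace (continuous_map_stack h𝒳 f)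
  exact isQuasiCompact_of_compactSpace h𝒳

end Groth.Agent.S12858
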