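import Groth.Statements.S12860
import Groth.Agent.DecSec.OpenImage
-- import your own Groth.Agent.* helpers here

set_option autoImplicit false
open CategoryTheory AlgebraicGeometry
set_option backward.isDefEq.respectTransparency false
universe u
open AlgSt

namespace Groth.Agent.S12860

/-- Let `𝒳` be an algebraic stack over `S`, `U` an algebraic space with a surjective smooth `u : U ⟶ 𝒳`,
and `j : V ⟶ U` an open immersion of algebraic spaces. Then there are an algebraic stack `𝒴`, an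
open immersion `i : 𝒴 ⟶ 𝒳` and a surjective smooth `g : V ⟶ 𝒴` such that `i ∘ g` is 2-isomorphic to
`u ∘ j` (the compatibility is part of the published proof, which constructs `𝒴` as the image of
`V`). -/
theorem result {S : Scheme.{u}} {𝒳 : AlgSt.Cat S}
    (h𝒳 : AlgSt.IsAlgStack Scheme.fppfPrecoverage 𝒳) (U : AlgSp.Space S) (u : AlgSt.ofSp U.obj ⥤ᵇ 𝒳)
    (hu₁ : AlgSt.RepByAlgSpWith (AlgSp.LocP @Smooth) u) (hu₂ : AlgSt.RepByAlgSpWith AlgSp.IsSurjectiveMor u)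
    (V : AlgSp.Space S) (j : V ⟶ U) (hj : AlgSp.RepWith @IsOpenImmersion j.hom) :
    ∃ (𝒴 : AlgSt.Cat S) (i : 𝒴 ⥤ᵇ 𝒳) (g : AlgSt.ofSp V.obj ⥤ᵇ 𝒴),
      AlgSt.IsAlgStack Scheme.fppfPrecoverage 𝒴 ∧ AlgSt.IsOpenImm i ∧
        AlgSt.RepByAlgSpWith (AlgSp.LocP @Smooth) g ∧ AlgSt.RepByAlgSpWith AlgSp.IsSurjectiveMor g ∧
          Nonempty (BasedFunctor.comp g i ≅ BasedFunctor.comp (AlgSt.ofSpMap j.hom) u) := by
  haveI := h𝒳.isStack.1
  haveI : FibCat.IsFibGrpd (AlgSt.ofSp U.obj).p := Stk.isFibGrpd_ofPsh _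
  haveI : FibCat.IsFibGrpd (AlgSt.ofSp V.obj).p := Stk.isFibGrpd_ofPsh _
  have hj' : AlgSt.RepByAlgSpWith (AlgSp.LocP @Smooth) (AlgSt.ofSpMap j.hom) :=
    Groth.Agent.ASt.repByAlgSpWith_ofSpMap
      (fun _ _ _ _ hX₁ hY₁ _ hY₂ _ _ _ _ sq h => Groth.Agent.ASp.locP_of_isPullback sq.flip hX₁ hY₁ hY₂ h)
      V.property U.property
      (Groth.Agent.ASp.locP_of_repWith (Groth.Agent.ASp.repWith_mono (fun _ _ g (hg : IsOpenImmersion g) => inferInstanceAs (Smooth g)) hj))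
  have hw := Groth.Agent.ASt.repByAlgSpWith_comp Groth.Agent.ASt.compLocal_smooth hj' hu₁
  obtain ⟨𝒴, i, g, hA, hi, hg, hs, e⟩ := Groth.Agent.DecSec.exists_openSubstack_image h𝒳 V _ hw
  exact ⟨𝒴, i, g, hA, hi, hg, hs, ⟨eqToIso e⟩⟩

end Groth.Agent.S12860
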