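import Groth.Statements.S12864
import Groth.Agent.ASt.SubCover
import Groth.Agent.ASt.StQc
set_option backward.isDefEq.respectTransparency false
set_option backward.isDefEq.respectTransparency.types false

set_option autoImplicit false
open CategoryTheory AlgebraicGeometry
universe u w
open AlgSt

namespace Groth.Agent.S12864

/-- Let `𝒳` be an algebraic stack over `S` and `𝒳_i ⊂ 𝒳` a family of open substacks with `𝒳 = ⋃ 𝒳_i`
(their points exhaust `|𝒳|`). If every `𝒳_i` is a scheme (equivalent over `(Sch/S)` to some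
`(Sch/U)`), then `𝒳` is a scheme. -/
theorem result {S : Scheme.{u}} {𝒳 : AlgSt.Cat S}
    (h𝒳 : AlgSt.IsAlgStack Scheme.fppfPrecoverage 𝒳) {ι : Type w} (Q : ι → 𝒳.obj → Prop)
    (hQ : ∀ i, AlgSt.IsOpenSubstack 𝒳 (Q i) Scheme.fppfPrecoverage)
    (hcov : ⋃ i, Set.range (AlgSt.Points.map (AlgSt.subIncl 𝒳 (Q i))) = Set.univ)
    (hsch : ∀ i, FibCat.IsRepresentable (AlgSt.fullSub 𝒳 (Q i))) : FibCat.IsRepresentable 𝒳 := by
  haveI := h𝒳.isStack.1
  haveI : ∀ i, FibCat.IsFibGrpd (AlgSt.fullSub 𝒳 (Q i)).p := fun i => (hQ i).2.1.isStack.1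
  have hsp : ∀ i, AlgSt.RepByAlgSp (AlgSt.fullSub 𝒳 (Q i)) := fun i => by
    obtain ⟨U, F, hF⟩ := hsch i
    obtain ⟨G, hG, -, -⟩ := Groth.Agent.ASt.isEquivOver_symm hF
    obtain ⟨F', e, he⟩ := Groth.Agent.ASt.repByAlgSp_overCat U
    exact ⟨F', BasedFunctor.comp e G, Groth.Agent.ASt.isEquivOver_comp he hG⟩
  obtain ⟨hfa, hs, hA⟩ := Groth.Agent.ASt.repByAlgSp_iff.1
    (Groth.Agent.ASt.repByAlgSp_of_openSubstack_cover' h𝒳 Q hQ hcov hsp)
  haveI := hfa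
  obtain ⟨W, a, -, has⟩ := h𝒳.atlas
  choose i hi using fun w : ↥W.left =>
    Set.mem_iUnion.1 (hcov.symm ▸ Set.mem_univ (AlgSt.Points.ofChart a w))
  let F : AlgSp.Sp S := ⟨Groth.Agent.ASt.Cl 𝒳, hs⟩
  have hex : ∀ w : ↥W.left, ∃ (U : Over S) (f : (AlgSp.yon S).obj U ⟶ F), AlgSp.RepWith @IsOpenImmersion f ∧
      ∀ (z : 𝒳.obj) (T : Over S) (hz : 𝒳.p.obj z = T), Q (i w) z →
        ∃ g : (AlgSp.yon S).obj T ⟶ (AlgSp.yon S).obj U, g ≫ f =
          (AlgSp.J S).uliftYonedaEquiv.{u+1}.symm (Groth.Agent.ASt.cl z hz : F.obj.obj (Opposite.op T)) := by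
    intro w
    obtain ⟨U, Φ, hΦ⟩ := hsch (i w)
    haveI := Groth.Agent.ASt.faithful_of_repByAlgSp (hsp (i w))
    haveI := Groth.Agent.ASt.isIso_clFun hΦ
    let α : Groth.Agent.ASt.Cl (FibCat.overCat U) ⟶ (AlgSp.pyon S).obj U :=
      { app := fun T => ↾(fun c => ⟨Groth.Agent.ASt.overHom c⟩)
        naturality := fun A B k => by ext c; exact congrArg ULift.up (Groth.Agent.ASt.overHom_clMap k.unop c) }
    haveI : ∀ T, IsIso (α.app T) := fun T => (isIso_iff_bijective _).2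
      ⟨fun a b e => (Groth.Agent.ASt.bijective_overHom T.unop).1 (congrArg ULift.down e),
        fun ⟨k⟩ => by
          obtain ⟨c, hc⟩ := (Groth.Agent.ASt.bijective_overHom T.unop).2 k
          exact ⟨c, congrArg ULift.up hc⟩⟩
    haveI : IsIso α := NatIso.isIso_of_isIso_app _
    let j := Groth.Agent.ASt.clFun Φ ≫ α
    obtain ⟨hsi, hAi⟩ := (Groth.Agent.ASt.repByAlgSp_iff.1 (hsp (i w))).2
    let f₀ : (⟨_, hsi⟩ : AlgSp.Sp S) ⟶ F := ObjectProperty.homMk (Groth.Agent.ASt.clFun (AlgSt.subIncl 𝒳 (Q (i w))))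
    have hf₀ : AlgSp.RepWith @IsOpenImmersion f₀ := Groth.Agent.ASt.repWith_of_repBySpWith_openImm f₀
      ((Groth.Agent.ASt.repBySpWith_clFun_iff _ _).2 (hQ (i w)).2.2)
    let j' : (AlgSp.yon S).obj U ⟶ (⟨_, hsi⟩ : AlgSp.Sp S) := ObjectProperty.homMk (inv j)
    haveI : IsIso j' := by
      have : IsIso ((sheafToPresheaf _ _).map j') := inferInstanceAs (IsIso (inv j))
      exact isIso_of_reflects_iso j' (sheafToPresheaf _ _)
    refine ⟨U, j' ≫ f₀, Groth.Agent.ASp.repWith_comp (Groth.Agent.ASp.repWith_of_isIso j') hf₀,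
      fun z T hz hQz => ?_⟩
    refine ⟨(AlgSp.J S).uliftYonedaEquiv.{u+1}.symm
      (Groth.Agent.ASt.cl (𝒳 := AlgSt.fullSub 𝒳 (Q (i w))) ⟨z, hQz⟩ hz :
        (⟨_, hsi⟩ : AlgSp.Sp S).obj.obj (Opposite.op T)) ≫ inv j', ?_⟩
    rw [Category.assoc, IsIso.inv_hom_id_assoc]
    apply (AlgSp.J S).uliftYonedaEquiv.{u+1}.injective
    rw [Equiv.apply_symm_apply]
    refine (GrothendieckTopology.uliftYonedaEquiv_comp.{u+1} _ _ _).trans ?_
    exact congrArg (f₀.hom.app (Opposite.op T)) (((AlgSp.J S).uliftYonedaEquiv.{u+1}).apply_symm_apply _)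
  choose U f hf hlift using hex
  obtain ⟨P, ⟨e⟩⟩ := Groth.Agent.ASp.exists_scheme_of_openCover (X := F) hA U f hf fun x => by
    obtain ⟨V, g, t, rfl⟩ := Groth.Agent.ASp.exists_ofPt_eq x
    obtain ⟨z, hz, he⟩ := Groth.Agent.ASt.cl_exists (𝒳 := 𝒳) (T := V) ((AlgSp.J S).uliftYonedaEquiv.{u+1} g)
    obtain ⟨w, hw⟩ := Groth.Agent.ASt.surjective_chart has (AlgSt.Points.ofChart (Groth.Agent.ASt.objFun z hz) t)
    obtain ⟨Z, h, hh, hh'⟩ := Groth.Agent.ASt.exists_openSubstack_chart (hQ (i w)) (Groth.Agent.ASt.objFun z hz)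
    haveI := hh
    obtain ⟨v, hv⟩ : t ∈ Set.range h.left := by
      rw [← Groth.Agent.ASt.preimage_range_eq (hQ (i w)) _ h hh']
      exact (hw ▸ hi w : AlgSt.Points.ofChart (Groth.Agent.ASt.objFun z hz) t ∈ _)
    obtain ⟨g', hg'⟩ := hlift w (Groth.Agent.ASt.pull z hz h) Z (Groth.Agent.ASt.pull_base z hz h)
      ((hh' h).2 ⟨𝟙 Z, Category.id_comp h⟩)
    refine ⟨w, AlgSp.Points.ofPt g' v, ?_⟩
    rw [AlgSp.Points.map_ofPt, hg', ← hv, ← Groth.Agent.ASp.ofPt_yon_map_comp]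
    congr 1
    apply (AlgSp.J S).uliftYonedaEquiv.{u+1}.injective
    rw [Equiv.apply_symm_apply, ← GrothendieckTopology.uliftYonedaEquiv_naturality.{u+1}, he]
    exact (Groth.Agent.ASt.clMap_cl_pull h z hz).symm
  haveI : IsIso (e.inv.hom : Groth.Agent.ASt.Cl 𝒳 ⟶ (AlgSp.pyon S).obj P) :=
    inferInstanceAs (IsIso ((sheafToPresheaf _ _).map e.inv))
  exact ⟨P, BasedFunctor.comp (BasedFunctor.comp (Groth.Agent.ASt.toPsh 𝒳) (Stk.ofPshMap e.inv.hom)) (AlgSt.toOverCat P),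
    Groth.Agent.ASt.isEquivOver_comp (Groth.Agent.ASt.isEquivOver_comp Groth.Agent.ASt.isEquivOver_toPsh
      (Groth.Agent.ASt.isEquivOver_ofPshMap _)) (Groth.Agent.ASt.isEquivOver_toOverCat P)⟩

end Groth.Agent.S12864
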