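import Groth.Statements.S1287
import Groth.Agent.ContentBlowLib.Basic
import Groth.Agent.ContentBlowLib.Fitt
-- import your own Groth.Agent.* helpers here

set_option autoImplicit false
set_option linter.style.haveILetI false
set_option backward.isDefEq.respectTransparency false
set_option maxHeartbeats 2000000
universe u
open FlatMor

namespace Groth.Agent.S1287

open TensorProduct in
/-- Let R be a ring, f ∈ R, r ≥ 0, S a finitely presented flat R-algebra all of whose fibre rings are
geometrically integral, and M a finite S-module such that M_f is finitely presented over S_f and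
such that for every prime p of R not containing f, with q = pS, the localization M_q is free of rank
r over S_q. Then there is a finitely generated ideal I of R with V(I) = V(f) such that for every a ∈
I, writing R' = R[I/a] for the affine blow-up algebra, S' = S ⊗_R R' and M' for the base change of M
to S' modulo its a-power torsion (any models of the base change): for every prime p' of R' there is
g ∈ S' outside p'S' with M'_g free of rank r over S'_g. -/
theorem result {R S : Type u} [CommRing R] [CommRing S] [Algebra R S] [Algebra.FinitePresentation R S] [Module.Flat R S]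
    (hgi : FlatCA.GeomIntegralFibres R S) (f : R) (r : ℕ)
    (M : Type u) [AddCommGroup M] [Module S M] [Module R M] [IsScalarTower R S M] [Module.Finite S M]
    (hfp : Module.FinitePresentation (Localization.Away (algebraMap R S f)) (LocalizedModule (Submonoid.powers (algebraMap R S f)) M))
    (hfree : ∀ (p : Ideal R) [p.IsPrime] [(p.map (algebraMap R S)).IsPrime], f ∉ p →
      Module.Free (Localization.AtPrime (p.map (algebraMap R S))) (LocalizedModule (p.map (algebraMap R S)).primeCompl M) ∧
      Module.rank (Localization.AtPrime (p.map (algebraMap R S))) (LocalizedModule (p.map (algebraMap R S)).primeCompl M) = r) :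
    ∃ I : Ideal R, I.FG ∧ I.radical = (Ideal.span {f}).radical ∧ ∀ a ∈ I,
      ∀ (S' M' : Type u) [CommRing S'] [Algebra S S'] [Algebra (BlowUp.affineAlgebra R I a) S'] [Algebra R S']
        [IsScalarTower R S S'] [IsScalarTower R (BlowUp.affineAlgebra R I a) S']
        [Algebra.IsPushout R S (BlowUp.affineAlgebra R I a) S']
        [AddCommGroup M'] [Module S' M'] [Module S M'] [IsScalarTower S S' M']
        (φ : M →ₗ[S] M'), IsBaseChange S' φ →
        ∀ (p' : Ideal (BlowUp.affineAlgebra R I a)) [p'.IsPrime],
          ∃ g : S', g ∉ p'.map (algebraMap (BlowUp.affineAlgebra R I a) S') ∧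
            Module.Free (Localization.Away g)
              (LocalizedModule (Submonoid.powers g) (M' ⧸ FlatCA.powTorsion S' (algebraMap R S' a) M')) ∧
            Module.rank (Localization.Away g)
              (LocalizedModule (Submonoid.powers g) (M' ⧸ FlatCA.powTorsion S' (algebraMap R S' a) M')) = r := by
  classical
  haveI hproj : Module.Projective R S := ContentBlowLib.projective hgi
  have hdom : ∀ (q : Ideal R) [q.IsPrime], IsDomain (q.Fiber S) := fun q _ =>
    PureLib.isDomain_tensor_field hgi q.ResidueField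
  obtain ⟨s, hs0⟩ := Module.projective_def'.mp hproj
  have hs : ∀ b, Finsupp.linearCombination R id (s b) = b := fun b => LinearMap.congr_fun hs0 b
  have hprime : ∀ (p : Ideal R) [p.IsPrime], (p.map (algebraMap R S)).IsPrime := fun p _ => by
    haveI := hdom p
    exact ContentBlowLib.isPrime_map p
  set J := Fitt.ideal S M r with hJdef
  have hbasis : ∀ (p : Ideal R) [p.IsPrime] [(p.map (algebraMap R S)).IsPrime], f ∉ p →
      ¬ J ≤ p.map (algebraMap R S) ∧ ∀ j, j < r → ∀ y ∈ Fitt.ideal S M j,
        ∃ t ∉ p.map (algebraMap R S), t * y = 0 := by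
    intro p _ _ hfp
    let P := p.map (algebraMap R S)
    haveI : P.IsPrime := inferInstanceAs (p.map (algebraMap R S)).IsPrime
    obtain ⟨hfr, hrk⟩ := hfree p hfp
    haveI : Module.Free (Localization.AtPrime P) (LocalizedModule P.primeCompl M) := hfr
    haveI : Module.Finite (Localization.AtPrime P) (LocalizedModule P.primeCompl M) :=
      Module.Finite.of_isLocalizedModule P.primeCompl (LocalizedModule.mkLinearMap P.primeCompl M)
    have hfin : Module.finrank (Localization.AtPrime P) (LocalizedModule P.primeCompl M) = r :=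
      Module.finrank_eq_of_rank_eq hrk
    let b := Module.finBasisOfFinrankEq (Localization.AtPrime P) (LocalizedModule P.primeCompl M) hfin
    refine ⟨FittLib.not_le_of_span_localized P P.primeCompl
      (Set.disjoint_left.2 fun x hx => hx) b b.span_eq, fun j hj y hy => ?_⟩
    have h1 : (Fitt.ideal S M j).map (algebraMap S (Localization.AtPrime P)) = ⊥ := by
      rw [← FittLib.ideal_baseChange, ← FittLib.ideal_eq_of_equiv
        (IsLocalizedModule.isBaseChange P.primeCompl (Localization.AtPrime P)
          (LocalizedModule.mkLinearMap P.primeCompl M)).equiv.symm j]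
      exact FittTrLib.ideal_eq_bot_of_free hfin hj
    rw [Ideal.map_eq_bot_iff_le_ker] at h1
    obtain ⟨⟨t, ht⟩, htx⟩ := (IsLocalization.map_eq_zero_iff P.primeCompl (Localization.AtPrime P) y).mp (h1 hy)
    exact ⟨t, ht, htx⟩
  have hlow : ∀ j, j < r → ∀ y ∈ Fitt.ideal S M j, ∃ n : ℕ, f ^ n • y = 0 := fun j hj y hy =>
    ContentBlowLib.exists_pow_smul_eq_zero hdom fun p _ hfp => by
      haveI := hprime p
      exact (hbasis p hfp).2 j hj y hy
  -- a power of `f` lies in the content of the Fitting ideal
  have hrad : f ∈ (GenRankLib.content s J).radical := by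
    rw [Ideal.radical_eq_sInf, Submodule.mem_sInf]
    intro p hpm
    obtain ⟨hle, hp⟩ := hpm
    by_contra hfp
    haveI := hp
    haveI := hprime p
    refine (hbasis p hfp).1 fun b hb => ?_
    rw [← hs b, Finsupp.linearCombination_apply, Finsupp.sum]
    refine sum_mem fun x _ => ?_
    rw [Algebra.smul_def]
    exact Ideal.mul_mem_right _ _ (Ideal.mem_map_of_mem _ (hle (Ideal.subset_span ⟨b, hb, x, rfl⟩)))
  obtain ⟨N, hN⟩ := hrad
  obtain ⟨cs, hcs, hNcs⟩ := Submodule.mem_span_finite_of_mem_span hN
  have hcs' : ∀ c : cs, ∃ b ∈ J, ∃ x, s b x = (c : R) := fun c => hcs c.2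
  choose bc hbc xc hxc using hcs'
  let bs : Finset S := (Finset.univ : Finset cs).image bc
  obtain ⟨M'', iM'', mM'', fM'', π, hπ, hJfg, hbs⟩ := ContentBlowLib.exists_cover M r bs (fun b hb => by
    obtain ⟨c, -, rfl⟩ := Finset.mem_image.1 (Finset.mem_coe.1 hb)
    exact hbc c)
  set J'' := Fitt.ideal S M'' r with hJ''def
  set C := GenRankLib.content s J'' with hCdef
  have hNC : f ^ N ∈ C := by
    refine Submodule.span_le.2 ?_ hNcs
    intro c hc
    exact Ideal.subset_span ⟨bc ⟨c, hc⟩, hbs (Finset.mem_coe.2 (Finset.mem_image.2 ⟨⟨c, hc⟩, Finset.mem_univ _, rfl⟩)),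
      xc ⟨c, hc⟩, hxc ⟨c, hc⟩⟩
  refine ⟨Ideal.span {f} * C, Submodule.FG.mul (Submodule.fg_span_singleton f)
    (GenRankLib.content_fg s hs J'' hJfg), ?_, ?_⟩
  · refine le_antisymm (Ideal.radical_mono Ideal.mul_le_left) ?_
    rw [Ideal.radical_le_radical_iff, Ideal.span_singleton_le_iff_mem]
    exact ⟨N + 1, by rw [pow_succ']; exact Ideal.mul_mem_mul (Ideal.mem_span_singleton_self f) hNC⟩
  intro a ha S' M' _ _ _ _ _ _ _ _ _ _ _ φ hφ p' _
  let R' := ↥(BlowUp.affineAlgebra R (Ideal.span {f} * C) a)
  obtain ⟨b₀, hb₀, hab⟩ := Ideal.mem_span_singleton_mul.mp ha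
  have hab' : algebraMap R (Localization.Away a) f * algebraMap R (Localization.Away a) b₀ =
      algebraMap R (Localization.Away a) a := by rw [← map_mul, hab]
  have ha_unit := IsUnit.mul_iff.mp (hab'.symm ▸ IsLocalization.Away.algebraMap_isUnit (S := Localization.Away a) a)
  let b : R' := algebraMap R R' b₀
  have hnzd : ∀ (c : R), IsUnit (algebraMap R (Localization.Away a) c) → ∀ z : R', algebraMap R R' c * z = 0 → z = 0 :=
    fun c hc z hz => by
      apply Subtype.ext
      have h := congrArg (fun w : R' => (w : Localization.Away a)) hz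
      simp only [Subalgebra.coe_mul, Subalgebra.coe_algebraMap, Subalgebra.coe_zero] at h
      rw [Subalgebra.coe_zero]
      exact (hc.mul_right_eq_zero).1 h
  have hdiv : ∀ y ∈ C, ∃ t : R', algebraMap R R' y = b * t := fun y hy => by
    refine ⟨⟨_, Algebra.subset_adjoin ⟨f * y, Ideal.mul_mem_mul (Ideal.mem_span_singleton_self f) hy, rfl⟩⟩, ?_⟩
    apply Subtype.ext
    refine ha_unit.1.mul_left_cancel ?_
    show algebraMap R (Localization.Away a) f * algebraMap R (Localization.Away a) y =
      algebraMap R (Localization.Away a) f * (algebraMap R (Localization.Away a) b₀ *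
        IsLocalization.mk' (Localization.Away a) (f * y) ⟨a, Submonoid.mem_powers a⟩)
    rw [← mul_assoc, hab', ← map_mul]
    exact (IsLocalization.mk'_spec' (Localization.Away a) (f * y) ⟨a, Submonoid.mem_powers a⟩).symm
  -- the base change is projective over `R'`
  haveI : Algebra.IsPushout R R' S S' := Algebra.IsPushout.symm inferInstance
  haveI : Module.Projective R' S' := Module.Projective.of_equiv
    (Algebra.IsPushout.equiv R R' S S').toLinearEquiv
  haveI : IsDomain (p'.Fiber S') := PureLib.isDomain_fiber hgi R' S' inferInstance p'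
  let P := p'.map (algebraMap R' S')
  haveI hP : P.IsPrime := ContentBlowLib.isPrime_map p'
  have hreg : ∀ (c : R), IsUnit (algebraMap R (Localization.Away a) c) → ∀ z : S', algebraMap R S' c * z = 0 → z = 0 :=
    fun c hc z hz => by
      have hr : algebraMap R R' c ∈ nonZeroDivisors R' :=
        mem_nonZeroDivisors_iff_right.2 fun w hw => hnzd c hc w (by rw [mul_comm]; exact hw)
      refine Module.Flat.isSMulRegular_of_nonZeroDivisors (M := S') hr ?_
      simp only [smul_zero]
      rw [Algebra.smul_def, ← IsScalarTower.algebraMap_apply R R' S' c]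
      exact hz
  let bS : S' := algebraMap R' S' b
  have hbS : bS = algebraMap R S' b₀ := (IsScalarTower.algebraMap_apply R R' S' b₀).symm
  -- the Fitting ideal of the cover becomes `b` times an ideal not contained in `P`
  let J' := J''.map (algebraMap S S')
  have hJb : J' ≤ Ideal.span {bS} := by
    have h := (GenRankLib.map_le_map_iff_content (A := R) (B := S) (A' := R') (B' := S') s hs (Ideal.span {b}) J'').2
      fun y hy => by
        obtain ⟨t, ht⟩ := hdiv y hy
        exact Ideal.mem_span_singleton'.2 ⟨t, by rw [ht, mul_comm]⟩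
    rw [Ideal.map_span, Set.image_singleton] at h
    exact h
  obtain ⟨g, hgJ, hgP⟩ : ∃ g : S', bS * g ∈ J' ∧ g ∉ P := by
    by_contra hcon
    push Not at hcon
    have h := (GenRankLib.map_le_map_iff_content (A := R) (B := S) (A' := R') (B' := S') s hs (Ideal.span {b} * p') J'').1
      fun z hz => by
        obtain ⟨w, hw⟩ := Ideal.mem_span_singleton'.1 (hJb hz)
        rw [Ideal.map_mul, Ideal.map_span, Set.image_singleton, ← hw, mul_comm w]
        exact Ideal.mul_mem_mul (Ideal.mem_span_singleton_self _) (hcon w (by rw [mul_comm, hw]; exact hz))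
    obtain ⟨π', hπ', hbπ⟩ := Ideal.mem_span_singleton_mul.1 (h hb₀)
    have h1 : π' - 1 = 0 := hnzd b₀ ha_unit.2 _ (by
      show b * (π' - 1) = 0
      rw [mul_sub, mul_one, hbπ, sub_self])
    rw [sub_eq_zero] at h1
    exact Ideal.IsPrime.ne_top ‹p'.IsPrime› ((Ideal.eq_top_iff_one _).2 (h1 ▸ hπ'))
  -- the quotient by torsion
  haveI : Module.Finite S' M' := Module.Finite.of_surjective hφ.equiv.toLinearMap hφ.equiv.surjective
  let T := FlatCA.powTorsion S' (algebraMap R S' a) M'
  have hQ : ∀ q : M' ⧸ T, bS • q = 0 → q = 0 := by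
    intro q hq
    obtain ⟨m, rfl⟩ := Submodule.Quotient.mk_surjective T q
    have h1 : algebraMap R S' a • m ∈ T := by
      rw [← Submodule.Quotient.mk_eq_zero T, Submodule.Quotient.mk_smul, ← hab, map_mul, mul_smul, ← hbS, hq, smul_zero]
    have hmono : Directed (· ≤ ·) fun n : ℕ => Submodule.torsionBy S' M' (algebraMap R S' a ^ n) :=
      Monotone.directed_le fun m n hmn z hz => by
        rw [Submodule.mem_torsionBy_iff] at hz ⊢
        obtain ⟨k, rfl⟩ := Nat.exists_eq_add_of_le hmn
        rw [pow_add, mul_comm, mul_smul, hz, smul_zero]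
    obtain ⟨n, hn⟩ := (Submodule.mem_iSup_of_directed _ hmono).1 h1
    rw [Submodule.mem_torsionBy_iff, ← mul_smul, ← pow_succ] at hn
    exact (Submodule.Quotient.mk_eq_zero T).2
      (Submodule.mem_iSup_of_mem (n + 1) ((Submodule.mem_torsionBy_iff _ _).2 hn))
  let π₁ : S' ⊗[S] M'' →ₗ[S'] M' ⧸ T := T.mkQ ∘ₗ hφ.equiv.toLinearMap ∘ₗ π.baseChange S'
  have hπ₁ : Function.Surjective π₁ :=
    T.mkQ_surjective.comp (hφ.equiv.surjective.comp (LinearMap.lTensor_surjective S' hπ))
  have hFit : Fitt.ideal S' (S' ⊗[S] M'') r = J' := FittLib.ideal_baseChange S' r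
  have hnot := ContentBlowLib.not_le_of_colon r π₁ hπ₁ bS g P hgP
    (fun z hz => hreg b₀ ha_unit.2 z (by rw [← hbS]; exact hz)) (hFit ▸ hJb) (hFit ▸ hgJ) hQ
  have hbot : ∀ j, j < r → Fitt.ideal S' (M' ⧸ T) j = ⊥ := by
    intro j hj
    refine ContentBlowLib.ideal_quot_eq_bot j (algebraMap R S' a)
      (hreg a (IsLocalization.Away.algebraMap_isUnit a)) T le_rfl fun y hy => ?_
    rw [← FittLib.ideal_eq_of_equiv hφ.equiv, FittLib.ideal_baseChange] at hy
    induction hy using Submodule.span_induction with
    | mem z hz =>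
      obtain ⟨z, hz, rfl⟩ := hz
      obtain ⟨n, hn⟩ := hlow j hj z hz
      refine ⟨n, ?_⟩
      rw [← hab, map_mul, mul_pow, mul_comm (_ ^ n) (_ ^ n), mul_assoc, ← map_pow _ f,
        IsScalarTower.algebraMap_apply R S S' (f ^ n), ← map_mul, ← Algebra.smul_def, hn, map_zero, mul_zero]
    | zero => exact ⟨0, mul_zero _⟩
    | add u v _ _ hu hv =>
      obtain ⟨n, hn⟩ := hu
      obtain ⟨m, hm⟩ := hv
      refine ⟨n + m, ?_⟩
      rw [mul_add, pow_add, mul_right_comm, hn, zero_mul, zero_add, mul_assoc, hm, mul_zero]
    | smul c u _ hu =>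
      obtain ⟨n, hn⟩ := hu
      exact ⟨n, by rw [smul_eq_mul, mul_left_comm, hn, mul_zero]⟩
  exact ContentBlowLib.exists_free r P hnot hbot

end Groth.Agent.S1287
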