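import Groth.Statements.S12874
import Groth.Agent.S12842
import Groth.Agent.S12844
import Groth.Agent.S10531
-- import your own Groth.Agent.* helpers here

set_option autoImplicit false
open CategoryTheory AlgebraicGeometry
universe u
open AlgSt

namespace Groth.Agent.S12874

/-- Consider algebraic stacks `𝒳`, `𝒴` over `S` with a 1-morphism `f : 𝒳 ⟶ 𝒴`, and suppose `W` is an
algebraic space equipped with a map `w : W ⟶ 𝒴` that is flat, surjective and locally of finite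
presentation. In this situation `f` is an open immersion exactly when the 2-fibre product `V = W ×_𝒴
𝒳` is an algebraic space whose projection `V ⟶ W` is an open immersion of algebraic spaces; here the
projection is encoded by `V`, a morphism `a : V ⟶ W`, and an equivalence over `(Sch/S)` from the
category of `V` to the 2-fibre product such that composing it with the first projection gives a
functor 2-isomorphic to the functor of `a`. -/
theorem result {S : Scheme.{u}} {𝒳 𝒴 : AlgSt.Cat S}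
    (h𝒳 : AlgSt.IsAlgStack Scheme.fppfPrecoverage 𝒳) (h𝒴 : AlgSt.IsAlgStack Scheme.fppfPrecoverage 𝒴)
    (f : 𝒳 ⥤ᵇ 𝒴) (W : AlgSp.Space S) (w : AlgSt.ofSp W.obj ⥤ᵇ 𝒴)
    (hw₁ : AlgSt.RepByAlgSpWith (AlgSp.LocP @Flat) w)
    (hw₂ : AlgSt.RepByAlgSpWith (AlgSp.LocP @LocallyOfFinitePresentation) w)
    (hw₃ : AlgSt.RepByAlgSpWith AlgSp.IsSurjectiveMor w) :
    AlgSt.IsOpenImm f ↔
      ∃ (V : AlgSp.Space S) (a : V ⟶ W) (e : AlgSt.ofSp V.obj ⥤ᵇ FibCat.fp w f),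
        FibCat.IsEquivOver e ∧
          Nonempty (BasedFunctor.comp e (FibCat.fpFst w f) ≅ AlgSt.ofSpMap a.hom) ∧
            AlgSp.RepWith @IsOpenImmersion a.hom := by
  haveI := h𝒳.isStack.1; haveI := h𝒴.isStack.1
  have hPb : ∀ ⦃X₁ Y₁ X₂ Y₂ : AlgSp.Sp S⦄, AlgSp.IsAlgSpace X₁ → AlgSp.IsAlgSpace Y₁ → AlgSp.IsAlgSpace X₂ →
      AlgSp.IsAlgSpace Y₂ → ∀ (a : X₁ ⟶ Y₁) (b : Y₂ ⟶ Y₁) (a' : X₂ ⟶ Y₂) (b' : X₂ ⟶ X₁),
      IsPullback b' a' a b → AlgSp.RepWith @IsOpenImmersion a → AlgSp.RepWith @IsOpenImmersion a' :=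
    fun _ _ _ _ _ _ _ _ _ _ _ _ sq h => Groth.Agent.ASp.repWith_of_isPullback sq h
  have hP : AlgSp.IsLocalOnBase AlgSp.IsFppfCover (AlgSp.RepWith (S := S) @IsOpenImmersion) := fun ι Y Yi g hY hYi hτ X a hX Xi p q hXi sq => Groth.Agent.S10531.result S Yi g hY hYi (Groth.Agent.ASp.isFpqcCover_of_fppf hY hYi (fun i => (hτ.1 i).1) (fun i => (hτ.1 i).2) hτ.2) a hX Xi p q hXi sq
  refine ⟨fun h => ?_, fun h => ?_⟩
  · exact (Groth.Agent.S12844.result h𝒳 h𝒴 _ hPb hP f (Groth.Agent.ASt.repByAlgSp1_of_with h) W w hw₁ hw₂ hw₃).1 h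
  · obtain ⟨V, a, e, he, ha⟩ := h
    exact (Groth.Agent.S12844.result h𝒳 h𝒴 _ hPb hP f
      (Groth.Agent.S12842.result h𝒳 h𝒴 f W w hw₁ hw₂ hw₃ ⟨V, e, he⟩) W w hw₁ hw₂ hw₃).2 ⟨V, a, e, he, ha⟩

end Groth.Agent.S12874
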