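import Groth.Statements.S12875
import Groth.Agent.S12842
import Groth.Agent.S12844
import Groth.Agent.S10534
-- import your own Groth.Agent.* helpers here

set_option autoImplicit false
open CategoryTheory AlgebraicGeometry
universe u
open AlgSt

namespace Groth.Agent.S12875

/-- Let `f : 𝒳 ⟶ 𝒴` be a 1-morphism of algebraic stacks over `S`, `W` an algebraic space and `w : W ⟶ 𝒴`
surjective, flat and locally of finite presentation. Then `f` is a closed immersion if and only if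
`V = W ×_𝒴 𝒳` is an algebraic space and the projection `V ⟶ W` is a closed immersion of algebraic
spaces; the projection is named by `V`, a morphism `a : V ⟶ W` and an equivalence over `(Sch/S)`
from the category of `V` to the 2-fibre product whose composite with the first projection is
2-isomorphic to the functor of `a`. -/
theorem result {S : Scheme.{u}} {𝒳 𝒴 : AlgSt.Cat S}
    (h𝒳 : AlgSt.IsAlgStack Scheme.fppfPrecoverage 𝒳) (h𝒴 : AlgSt.IsAlgStack Scheme.fppfPrecoverage 𝒴)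
    (f : 𝒳 ⥤ᵇ 𝒴) (W : AlgSp.Space S) (w : AlgSt.ofSp W.obj ⥤ᵇ 𝒴)
    (hw₁ : AlgSt.RepByAlgSpWith (AlgSp.LocP @Flat) w)
    (hw₂ : AlgSt.RepByAlgSpWith (AlgSp.LocP @LocallyOfFinitePresentation) w)
    (hw₃ : AlgSt.RepByAlgSpWith AlgSp.IsSurjectiveMor w) :
    AlgSt.IsClosedImm f ↔
      ∃ (V : AlgSp.Space S) (a : V ⟶ W) (e : AlgSt.ofSp V.obj ⥤ᵇ FibCat.fp w f),
        FibCat.IsEquivOver e ∧
          Nonempty (BasedFunctor.comp e (FibCat.fpFst w f) ≅ AlgSt.ofSpMap a.hom) ∧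
            AlgSp.RepWith @IsClosedImmersion a.hom := by
  haveI := h𝒳.isStack.1; haveI := h𝒴.isStack.1
  have hPb : ∀ ⦃X₁ Y₁ X₂ Y₂ : AlgSp.Sp S⦄, AlgSp.IsAlgSpace X₁ → AlgSp.IsAlgSpace Y₁ → AlgSp.IsAlgSpace X₂ →
      AlgSp.IsAlgSpace Y₂ → ∀ (a : X₁ ⟶ Y₁) (b : Y₂ ⟶ Y₁) (a' : X₂ ⟶ Y₂) (b' : X₂ ⟶ X₁),
      IsPullback b' a' a b → AlgSp.RepWith @IsClosedImmersion a → AlgSp.RepWith @IsClosedImmersion a' :=
    fun _ _ _ _ _ _ _ _ _ _ _ _ sq h => Groth.Agent.ASp.repWith_of_isPullback sq h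
  have hP : AlgSp.IsLocalOnBase AlgSp.IsFppfCover (AlgSp.RepWith (S := S) @IsClosedImmersion) := fun ι Y Yi g hY hYi hτ X a hX Xi p q hXi sq => Groth.Agent.S10534.result S Yi g hY hYi (Groth.Agent.ASp.isFpqcCover_of_fppf hY hYi (fun i => (hτ.1 i).1) (fun i => (hτ.1 i).2) hτ.2) a hX Xi p q hXi sq
  refine ⟨fun h => ?_, fun h => ?_⟩
  · exact (Groth.Agent.S12844.result h𝒳 h𝒴 _ hPb hP f (Groth.Agent.ASt.repByAlgSp1_of_with h) W w hw₁ hw₂ hw₃).1 h
  · obtain ⟨V, a, e, he, ha⟩ := h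
    exact (Groth.Agent.S12844.result h𝒳 h𝒴 _ hPb hP f
      (Groth.Agent.S12842.result h𝒳 h𝒴 f W w hw₁ hw₂ hw₃ ⟨V, e, he⟩) W w hw₁ hw₂ hw₃).2 ⟨V, a, e, he, ha⟩

end Groth.Agent.S12875
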