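import Groth.Statements.S12876
import Groth.Agent.Boot.Setoid
set_option backward.isDefEq.respectTransparency false
set_option backward.isDefEq.respectTransparency.types false

set_option autoImplicit false
open CategoryTheory AlgebraicGeometry
universe u
open AlgSt

namespace Groth.Agent.S12876

/-- Let `i : 𝒳 ⟶ 𝒳'` and `g : 𝒳' ⟶ 𝒴` be 1-morphisms of algebraic stacks over `S` with `i` a
monomorphism. Then the square whose top is the diagonal `𝒳 ⟶ 𝒳 ×_𝒴 𝒳` of `g ∘ i`, whose left side is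
`i`, whose right side is the 1-morphism `𝒳 ×_𝒴 𝒳 ⟶ 𝒳' ×_𝒴 𝒳'` induced by `i` on both factors and
whose bottom is the diagonal of `g` (it commutes strictly, the 2-cell being the identity) is
2-cartesian: the induced 1-morphism from `𝒳` to the 2-fibre product is an equivalence over
`(Sch/S)`. -/
theorem result {S : Scheme.{u}} {𝒳 𝒳' 𝒴 : AlgSt.Cat S}
    (h𝒳 : AlgSt.IsAlgStack Scheme.fppfPrecoverage 𝒳) (h𝒳' : AlgSt.IsAlgStack Scheme.fppfPrecoverage 𝒳') (h𝒴 : AlgSt.IsAlgStack Scheme.fppfPrecoverage 𝒴)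
    (i : 𝒳 ⥤ᵇ 𝒳') (g : 𝒳' ⥤ᵇ 𝒴) (hi : AlgSt.IsMono i) :
    FibCat.IsTwoCartOver
      (F := (FibCat.fpLift (BasedFunctor.comp (FibCat.fpFst (BasedFunctor.comp i g) (BasedFunctor.comp i g)) i)
        (BasedFunctor.comp (FibCat.fpSnd (BasedFunctor.comp i g) (BasedFunctor.comp i g)) i) (FibCat.fpIso (BasedFunctor.comp i g) (BasedFunctor.comp i g))))
      (G := FibCat.diag g) (FibCat.diag (BasedFunctor.comp i g)) i (Iso.refl _) := by
  haveI := h𝒳.isStack.1
  haveI := h𝒳'.isStack.1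
  haveI := h𝒴.isStack.1
  haveI : FibCat.IsFibGrpd (FibCat.fp (BasedFunctor.comp i g) (BasedFunctor.comp i g)).p := ASt.isFibGrpd_fp
  haveI : FibCat.IsFibGrpd (FibCat.fp g g).p := ASt.isFibGrpd_fp
  obtain ⟨hfull, hfaith⟩ := ASt.full_faithful_of_isMono hi
  haveI := hfull
  haveI := hfaith
  unfold FibCat.IsTwoCartOver
  haveI : FibCat.IsFibGrpd (FibCat.fp (FibCat.fpLift (BasedFunctor.comp (FibCat.fpFst (BasedFunctor.comp i g) (BasedFunctor.comp i g)) i)
      (BasedFunctor.comp (FibCat.fpSnd (BasedFunctor.comp i g) (BasedFunctor.comp i g)) i) (FibCat.fpIso (BasedFunctor.comp i g) (BasedFunctor.comp i g)))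
      (FibCat.diag g)).p := ASt.isFibGrpd_fp
  haveI : (FibCat.fpLift (F := (FibCat.fpLift (BasedFunctor.comp (FibCat.fpFst (BasedFunctor.comp i g) (BasedFunctor.comp i g)) i)
      (BasedFunctor.comp (FibCat.fpSnd (BasedFunctor.comp i g) (BasedFunctor.comp i g)) i) (FibCat.fpIso (BasedFunctor.comp i g) (BasedFunctor.comp i g))))
      (G := FibCat.diag g) (FibCat.diag (BasedFunctor.comp i g)) i (Iso.refl _)).toFunctor.Faithful :=
    ⟨fun {z z'} a b e => congrArg (fun k => k.hom.fst.hom.fst) e⟩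
  haveI : (FibCat.fpLift (F := (FibCat.fpLift (BasedFunctor.comp (FibCat.fpFst (BasedFunctor.comp i g) (BasedFunctor.comp i g)) i)
      (BasedFunctor.comp (FibCat.fpSnd (BasedFunctor.comp i g) (BasedFunctor.comp i g)) i) (FibCat.fpIso (BasedFunctor.comp i g) (BasedFunctor.comp i g))))
      (G := FibCat.diag g) (FibCat.diag (BasedFunctor.comp i g)) i (Iso.refl _)).toFunctor.Full := ⟨fun {z z'} m => by
    have hw := (Category.comp_id _).symm.trans (m.hom.w.trans (Category.id_comp _))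
    have h1 : i.map m.hom.fst.hom.fst = m.hom.snd := congrArg (fun k => k.hom.fst) hw
    have h2 : i.map m.hom.fst.hom.snd = m.hom.snd := congrArg (fun k => k.hom.snd) hw
    exact ⟨m.hom.fst.hom.fst, ASt.fp_hom_ext (ASt.fp_hom_ext rfl (i.toFunctor.map_injective (h1.trans h2.symm))) h1⟩⟩
  refine ASt.isEquivOver_of_vert _ fun o => ?_
  let q := o.obj.fst
  let θ := o.obj.iso
  haveI : IsIso θ.hom.hom.snd := ⟨θ.inv.hom.snd, congrArg (fun k => k.hom.snd) θ.hom_inv_id,
    congrArg (fun k => k.hom.snd) θ.inv_hom_id⟩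
  let r : q.obj.fst ⟶ q.obj.snd := i.toFunctor.preimage (θ.hom.hom.fst ≫ inv θ.hom.hom.snd)
  have hr : i.map r ≫ θ.hom.hom.snd = θ.hom.hom.fst := by
    show i.toFunctor.map (i.toFunctor.preimage _) ≫ _ = _
    rw [Functor.map_preimage, Category.assoc, IsIso.inv_hom_id]
    exact Category.comp_id _
  have hθ : g.map θ.hom.hom.fst ≫ 𝟙 _ = q.obj.iso.hom ≫ g.map θ.hom.hom.snd := θ.hom.hom.w
  have hψ : g.map (i.map (𝟙 q.obj.fst)) ≫ q.obj.iso.hom = 𝟙 _ ≫ g.map (i.map r) := by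
    rw [i.toFunctor.map_id, g.toFunctor.map_id, Category.id_comp]
    refine (cancel_mono (g.map θ.hom.hom.snd)).1 ?_
    rw [← hθ, Category.comp_id, Category.id_comp, ← g.toFunctor.map_comp, hr]
  let m₁ : (FibCat.diag (BasedFunctor.comp i g)).obj q.obj.fst ⟶ q := ObjectProperty.homMk
    { fst := 𝟙 q.obj.fst
      snd := r
      w := hψ }
  let m : (FibCat.fpLift (F := (FibCat.fpLift (BasedFunctor.comp (FibCat.fpFst (BasedFunctor.comp i g) (BasedFunctor.comp i g)) i)
      (BasedFunctor.comp (FibCat.fpSnd (BasedFunctor.comp i g) (BasedFunctor.comp i g)) i) (FibCat.fpIso (BasedFunctor.comp i g) (BasedFunctor.comp i g))))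
      (G := FibCat.diag g) (FibCat.diag (BasedFunctor.comp i g)) i (Iso.refl _)).obj q.obj.fst ⟶ o := ObjectProperty.homMk
    { fst := m₁
      snd := θ.hom.hom.fst
      w := by
        refine ASt.fp_hom_ext ?_ ?_
        · show i.map (𝟙 q.obj.fst) ≫ θ.hom.hom.fst = 𝟙 _ ≫ θ.hom.hom.fst
          rw [i.toFunctor.map_id]
          rfl
        · show i.map r ≫ θ.hom.hom.snd = 𝟙 _ ≫ θ.hom.hom.fst
          rw [hr, Category.id_comp] }
  have hm : (FibCat.fp (FibCat.fpLift (BasedFunctor.comp (FibCat.fpFst (BasedFunctor.comp i g) (BasedFunctor.comp i g)) i)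
      (BasedFunctor.comp (FibCat.fpSnd (BasedFunctor.comp i g) (BasedFunctor.comp i g)) i) (FibCat.fpIso (BasedFunctor.comp i g) (BasedFunctor.comp i g)))
      (FibCat.diag g)).p.map m = eqToHom rfl := by
    show 𝒳.p.map (𝟙 q.obj.fst) = eqToHom rfl
    simp
  haveI : IsIso m := ASt.isIso_of_vert m (e := rfl) hm
  exact ⟨q.obj.fst, rfl, asIso m, hm⟩

end Groth.Agent.S12876
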