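import Groth.Statements.S12879
import Groth.Agent.ExtShLib.Supp
import Groth.Agent.S12893


set_option autoImplicit false
universe u
open CategoryTheory CategoryTheory.Limits TopologicalSpace AlgebraicGeometry
open Coherent

namespace Groth.Agent.S12879

/-- Let X be a locally Noetherian scheme, Z a closed subset with open complement U, F a coherent
O_X-module and G a quasi-coherent O_X-module. Then for every i the local Ext sheaf with supports
ℰxt^i_Z(F, G), the i-th right derived functor of N ↦ Γ_Z(ℋom(F, N)) on O_X-modules evaluated at G,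
is quasi-coherent. (The published statement allows Z locally closed; this row takes Z closed. The
internal Hom functor of F and injective resolutions of O_X-modules are the stated instance
hypotheses, both true.) -/
theorem result (X : Scheme.{u}) [IsLocallyNoetherian X] (U : X.Opens)
    (F G : X.Modules) (hF : Coh.IsCoh F) (hG : Coh.IsQCoh G)
    [ModSite.HasSheafHom (O := X.sheaf) F] [HasInjectiveResolutions (ModSite.Mod X.sheaf)] (i : ℕ) :
    Coh.IsQCoh ((ModSite.extZSh (O := X.sheaf) U F i).obj G) := by
  have hinst : ModSite.HasSheafHom (O := X.sheaf) ((ModSite.quotOn X.sheaf U).obj F) := inferInstance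
  obtain ⟨e⟩ := (Groth.Agent.S12893.result X.sheaf U F).1
  haveI : EnoughInjectives (ModSite.Mod X.sheaf) := Groth.Agent.SiteBase.enoughInjectives_sheafOfModules _
  let T := ModSite.sectOn X.sheaf U
  let S := ModSite.sheafHom (O := X.sheaf) F
  haveI : S.IsRightAdjoint := (ModSite.sheafHomAdj (O := X.sheaf) F).isRightAdjoint
  haveI : PreservesFiniteLimits S := inferInstance
  have hT : ∀ I : ModSite.Mod X.sheaf, Injective I → SpSeqLib.IsAcyclicFor S (T.obj I) := fun I hI =>
    haveI := SiteBase.OpenQuot.injective_sectOn X.sheaf U I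
    SpSeqLib.isAcyclicFor_of_injective S _
  obtain ⟨Z₀, hZ₀⟩ := HasZeroObject.zero (C := ModSite.Mod X.sheaf)
  let H : ℤ → ModSite.Mod X.sheaf := fun n => if 0 ≤ n then ((T ⋙ S).rightDerived n.toNat).obj G else Z₀
  let P : ℤ → ℤ → ModSite.Mod X.sheaf := fun p q => if 0 ≤ p ∧ 0 ≤ q then
    (S.rightDerived p.toNat).obj ((T.rightDerived q.toNat).obj G) else Z₀
  obtain ⟨E, a, ha, -, hP⟩ := SpSeqLib.exists_grothendieck T S hT G (H := H) (P := P)
    (fun n => ⟨eqToIso (by simp [H])⟩) (fun n hn => by
      simp only [H]; rw [if_neg (by omega)]; exact hZ₀)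
    (fun p q => ⟨eqToIso (by simp [P])⟩) (fun p q h => by
      simp only [P]; rw [if_neg (by omega)]; exact hZ₀)
  have hq : ∀ pq : ℤ × ℤ, Coh.IsQCoh (X := X) ((E.page 2 le_rfl).X pq) := fun pq => by
    refine DCohLib.isQCoh_of_iso' (hP pq.1 pq.2).some.symm ?_
    by_cases h : 0 ≤ pq.1 ∧ 0 ≤ pq.2
    · simp only [P, if_pos h]
      haveI : Coh.IsQCoh (X := X) ((T.rightDerived pq.2.toNat).obj G) := ExtShLib.isQCoh_HZsh U G hG _
      exact ExtShLib.isQCoh_extS F hF _ _
    · simp only [P, if_neg h]
      exact DCohLib.isQCoh_of_isZero' hZ₀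
  have h := ExtShLib.isWeakSerre_isQCoh.abutment a (i : ℤ) (ha _) hq
  simp only [H, if_pos (Int.natCast_nonneg i), Int.toNat_natCast] at h
  exact DCohLib.isQCoh_of_iso' ((SpSeqLib.rightDerivedCongr e i).app G).symm h


end Groth.Agent.S12879
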