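import Groth.Statements.S12880
import Groth.Agent.ExtShLib.Local
import Groth.Agent.SpSeqLib.AcyclicResolution


set_option autoImplicit false
universe u
open CategoryTheory CategoryTheory.Limits TopologicalSpace AlgebraicGeometry
open Coherent

namespace Groth.Agent.S12880

open CategoryTheory CategoryTheory.Limits AlgebraicGeometry

theorem isIso_kernel_ι_of_eq_zero {A : Type*} [Category A] [HasZeroMorphisms A] {M N : A} (f : M ⟶ N) [HasKernel f]
    (h : f = 0) : IsIso (kernel.ι f) := by
  subst h
  infer_instance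

open AlgebraicGeometry Groth.Agent.StalkHomLib Opposite in
theorem isNullOn_hF {X : Scheme.{u}} (U : X.Opens) (F : X.Modules) [ModSite.HasSheafHom (O := X.sheaf) F]
    (hsupp : ∀ x ∈ CohB1.support F, x ∉ (U : Set X)) (N : X.Modules) :
    ModSite.IsNullOn X.sheaf U ((hF F).obj N) := by
  refine (ExtSupp.isNullOn_iff X.sheaf U _).2 fun W g s => ?_
  refine sect_eq_zero F s fun y hy => ?_
  haveI : Subsingleton (F.presheaf.stalk y) := not_not.1 fun h => hsupp y h (leOfHom g hy)
  exact LinearMap.ext fun f => by rw [Subsingleton.elim f 0, map_zero, LinearMap.zero_apply]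

open AlgebraicGeometry Groth.Agent.StalkHomLib Opposite in
theorem nonempty_iso {X : Scheme.{u}} (U : X.Opens) (F : X.Modules) [ModSite.HasSheafHom (O := X.sheaf) F]
    (hsupp : ∀ x ∈ CohB1.support F, x ∉ (U : Set X)) :
    Nonempty (ModSite.sheafHom (O := X.sheaf) F ⋙ ModSite.sectOn X.sheaf U ≅ ModSite.sheafHom (O := X.sheaf) F) := by
  haveI : ∀ N : X.Modules, IsIso ((Functor.whiskerLeft (ModSite.sheafHom (O := X.sheaf) F) (ModSite.sectOnι X.sheaf U)).app N) := fun N => by
    have hz : IsZero ((ModSite.restr X.sheaf U ⋙ ModSite.pushOver X.sheaf U).obj ((hF F).obj N)) :=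
      Functor.map_isZero (ModSite.pushOver X.sheaf U) (isNullOn_hF U F hsupp N)
    have h0 : (ModSite.restrPushOverAdj X.sheaf U).unit.app ((hF F).obj N) = 0 := hz.eq_of_tgt _ _
    show IsIso (kernel.ι _)
    exact isIso_kernel_ι_of_eq_zero _ h0
  haveI : IsIso (Functor.whiskerLeft (ModSite.sheafHom (O := X.sheaf) F) (ModSite.sectOnι X.sheaf U)) := NatIso.isIso_of_isIso_app _
  exact ⟨asIso (Functor.whiskerLeft (ModSite.sheafHom (O := X.sheaf) F) (ModSite.sectOnι X.sheaf U)) ≪≫ Functor.rightUnitor _⟩

/-- Let X be a locally Noetherian scheme, Y a closed subset with open complement U, and F, G coherent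
O_X-modules such that the support of F is contained in Y (no point of U has a non-zero stalk of F).
Then for every i the local Ext sheaf with supports ℰxt^i_Y(F, G) is coherent. (Internal Hom of F and
injective resolutions of O_X-modules are the stated instance hypotheses, both true.) -/
theorem result (X : Scheme.{u}) [IsLocallyNoetherian X] (U : X.Opens)
    (F G : X.Modules) (hF : Coh.IsCoh F) (hG : Coh.IsCoh G)
    (hsupp : ∀ x ∈ CohB1.support F, x ∉ (U : Set X))
    [ModSite.HasSheafHom (O := X.sheaf) F] [HasInjectiveResolutions (ModSite.Mod X.sheaf)] (i : ℕ) :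
    Coh.IsCoh ((ModSite.extZSh (O := X.sheaf) U F i).obj G) := by
  obtain ⟨e⟩ := nonempty_iso U F hsupp
  exact DCohLib.isCoh_iso ((SpSeqLib.rightDerivedCongr e i).app G).symm
    (ExtShLib.isCoh_extS F hF G hG i)


end Groth.Agent.S12880
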