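import Groth.Statements.S12881
import Groth.Agent.ExtShLib.Depth
import Groth.Agent.S12879
import Groth.Agent.S12880


set_option autoImplicit false
universe u
open CategoryTheory CategoryTheory.Limits TopologicalSpace AlgebraicGeometry
open Coherent

namespace Groth.Agent.S12881

open CategoryTheory CategoryTheory.Limits AlgebraicGeometry

open AlgebraicGeometry Groth.Agent.PullbackMod Groth.Agent.DCohLib in
/-- The sequence of the sections of `F` with supports. -/
theorem exists_seq {X : Scheme.{u}} [IsLocallyNoetherian X] (U : X.Opens) (F : X.Modules) (hF : Coh.IsCoh F) :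
    ∃ S : ShortComplex X.Modules, S.ShortExact ∧ S.X₂ = F ∧ Coh.IsCoh S.X₁ ∧ Coh.IsCoh S.X₂ ∧ Coh.IsCoh S.X₃ ∧
      (∀ x ∈ CohB1.support S.X₁, x ∉ (U : Set X)) ∧
      (∀ x : X, x ∉ closure (CohB1.support F ∩ (U : Set X)) → Subsingleton (S.X₃.presheaf.stalk x)) := by
  let u := (Scheme.Modules.restrictAdjunction U.ι).unit.app F
  let ι₀ : kernel u ⟶ F := kernel.ι u
  let π₀ : F ⟶ cokernel ι₀ := cokernel.π ι₀
  haveI := hF.1
  have hT : (ShortComplex.mk ι₀ π₀ (cokernel.condition ι₀)).ShortExact :=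
    { exact := ShortComplex.exact_of_g_is_cokernel _ (cokernelIsCokernel ι₀)
      mono_f := inferInstanceAs (Mono (kernel.ι u))
      epi_g := inferInstanceAs (Epi (cokernel.π ι₀)) }
  have hq : Coh.IsQCoh (kernel u) := Groth.Agent.LocZLib.GammaQCoh.isQCoh_gammaZ U.ι F hF.1
  have h1 : Coh.IsCoh (kernel u) := Groth.Agent.QCohLib.isCoh_of_mono ι₀ hF hq
  have h3 : Coh.IsCoh (cokernel ι₀) := (Groth.Agent.QCohLib.isCoh_kernel_cokernel ι₀ h1 hF).2
  refine ⟨_, hT, rfl, h1, hF, h3, fun x hx hxU => hx ⟨fun a b => ?_⟩, fun x hx => ?_⟩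
  · have hu : ι₀ ≫ u = 0 := kernel.condition u
    have h := (Groth.Agent.ExtShLib.restrict_map_eq_zero_iff U ι₀).1
      ((Groth.Agent.ExtShLib.comp_unit_eq_zero_iff (Scheme.Modules.restrictAdjunction U.ι) ι₀).1 hu) x hxU
    apply (mono_iff_stalk ι₀).1 inferInstance x
    rw [h]
    rfl
  · have hsur : Function.Surjective (stalkLin π₀ x) :=
      ((shortExact_iff_stkF _).1 hT x).moduleCat_surjective_g
    suffices h : ∀ a : F.presheaf.stalk x, stalkLin π₀ x a = 0 from
      ⟨fun c d => by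
        obtain ⟨a, rfl⟩ := hsur c
        obtain ⟨b, rfl⟩ := hsur d
        rw [h, h]⟩
    intro a
    obtain ⟨W, hxW, s, rfl⟩ := TopCat.Presheaf.exists_germ_eq F.presheaf a
    let O : X.Opens := ⟨(closure (CohB1.support F ∩ (U : Set X)))ᶜ, isClosed_closure.isOpen_compl⟩
    let W' : X.Opens := W ⊓ O
    let s' := F.presheaf.map (homOfLE (inf_le_left : W' ≤ W)).op s
    have hz : u.app W' s' = 0 := by
      show F.presheaf.map (homOfLE (U.ι.image_preimage_le W')).op s' = 0
      refine TopCat.Presheaf.section_ext ⟨F.presheaf, F.isSheaf⟩ _ _ _ fun y hy => ?_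
      haveI : Subsingleton (F.presheaf.stalk y) := by
        obtain ⟨z, hz, rfl⟩ := hy
        by_contra hns
        exact hz.2 (subset_closure ⟨hns, z.2⟩)
      exact Subsingleton.elim _ _
    have hz' : stalkLin u x (F.presheaf.germ W' x ⟨hxW, hx⟩ s') = 0 := by
      exact (stalkLin_germ u x _ s').trans ((congrArg _ hz).trans (map_zero _))
    have hker : (ShortComplex.mk ι₀ u (kernel.condition u)).Exact :=
      ShortComplex.exact_of_f_is_kernel _ (kernelIsKernel u)
    obtain ⟨b, hb⟩ := (ShortComplex.moduleCat_exact_iff _).1 (hker.map (stkF x)) (F.presheaf.germ W' x ⟨hxW, hx⟩ s') hz'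
    have e : F.presheaf.germ W x hxW s = stalkLin ι₀ x b :=
      (Groth.Agent.StalkHomLib.germ_res F (inf_le_left : W' ≤ W) x ⟨hxW, hx⟩ s).symm.trans hb.symm
    rw [e, ← LinearMap.comp_apply, ← stalkLin_comp, cokernel.condition ι₀]
    exact LinearMap.congr_fun ((eq_zero_iff_stalk (0 : kernel u ⟶ cokernel ι₀)).1 rfl x) b

/-- Let X be a locally Noetherian scheme, Y a closed subset with open complement U, F and G coherent
O_X-modules, S the support of F and S' the closure of S ∩ U. If for every point x of Y ∩ S' the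
depth of the stalk G_x over O_{X,x} is at least n, then ℰxt^i_Y(F, G) is coherent for every i < n.
(Internal Hom of F and injective resolutions of O_X-modules are the stated instance hypotheses, both
true.) -/
theorem result (X : Scheme.{u}) [IsLocallyNoetherian X] (U : X.Opens)
    (F G : X.Modules) (hF : Coh.IsCoh F) (hG : Coh.IsCoh G) (n : ℕ)
    (hdepth : ∀ x ∈ closure (CohB1.support F ∩ (U : Set X)), x ∉ (U : Set X) →
      (n : ℕ∞) ≤ LocCoh.depth (X.presheaf.stalk x) (G.presheaf.stalk x))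
    [ModSite.HasSheafHom (O := X.sheaf) F] [HasInjectiveResolutions (ModSite.Mod X.sheaf)]
    (i : ℕ) (hi : i < n) :
    Coh.IsCoh ((ModSite.extZSh (O := X.sheaf) U F i).obj G) := by
  haveI : EnoughInjectives (ModSite.Mod X.sheaf) := Groth.Agent.SiteBase.enoughInjectives_sheafOfModules _
  obtain ⟨S, hS, hS2, h1, h2, h3, hs1, hs3⟩ := exists_seq U F hF
  subst hS2
  obtain ⟨e⟩ := (Groth.Agent.S12893.result X.sheaf U S.X₂).1
  obtain ⟨e₁⟩ := (Groth.Agent.S12893.result X.sheaf U S.X₁).1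
  obtain ⟨e₃⟩ := (Groth.Agent.S12893.result X.sheaf U S.X₃).1
  let U' : X.Opens := U ⊔ ⟨(closure (CohB1.support S.X₂ ∩ (U : Set X)))ᶜ, isClosed_closure.isOpen_compl⟩
  obtain ⟨e₃'⟩ := (Groth.Agent.S12893.result X.sheaf U' S.X₃).1
  have hH : ∀ (M : ModSite.Mod X.sheaf) (x : X), x ∈ U' → x ∉ U →
      Subsingleton (((StalkHomLib.hF S.X₃).obj M).presheaf.stalk x) := fun M x hx hxU => by
    haveI := hs3 x (hx.resolve_left hxU)
    exact ⟨fun a b => (StalkHomLib.theta_bijective S.X₃ x h3 M).1 (LinearMap.ext fun f => by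
      rw [Subsingleton.elim f 0, map_zero, map_zero])⟩
  let f : ModSite.sectOn X.sheaf U ⋙ ModSite.sheafHom (O := X.sheaf) S.X₃ ≅
      ModSite.sectOn X.sheaf U' ⋙ ModSite.sheafHom (O := X.sheaf) S.X₃ :=
    e₃.symm ≪≫ ExtShLib.sectOnCongr U U' le_sup_left (ModSite.sheafHom (O := X.sheaf) S.X₃) hH ≪≫ e₃'
  have hz : IsZero (((ModSite.sectOn X.sheaf U ⋙ ModSite.sheafHom (O := X.sheaf) S.X₃).rightDerived i).obj G) := by
    refine IsZero.of_iso ?_ ((SpSeqLib.rightDerivedCongr f i).app G)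
    refine ExtShLib.isZero_of_HZsh U' S.X₃ G n (ExtShLib.isZero_HZsh_of_depth U' G hG n fun x hx => ?_) i hi
    exact hdepth x (by_contra fun h => hx (Or.inr h)) fun h => hx (Or.inl h)
  let T := ModSite.sectOn X.sheaf U
  let K := injectiveResolution (show ModSite.Mod X.sheaf from G)
  let α := Functor.whiskerLeft T (ExtSupp.sheafHomMap (O := X.sheaf) S.g)
  let β := Functor.whiskerLeft T (ExtSupp.sheafHomMap (O := X.sheaf) S.f)
  have hex : ∀ I : ModSite.Mod X.sheaf, Injective I → ∃ w, (ShortComplex.mk (α.app I) (β.app I) w).ShortExact :=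
    fun I hI => by
      exact ExtShLib.shortExact_hom hS h1 h2 h3 (T.obj I) (SiteBase.OpenQuot.injective_sectOn X.sheaf U I)
  let s : ShortComplex (CochainComplex (ModSite.Mod X.sheaf) ℕ) :=
    ShortComplex.mk ((NatTrans.mapHomologicalComplex α _).app K.cocomplex)
      ((NatTrans.mapHomologicalComplex β _).app K.cocomplex)
      (HomologicalComplex.hom_ext _ _ fun m => (hex (K.cocomplex.X m) (K.injective m)).choose)
  have hs : s.ShortExact := HomologicalComplex.shortExact_of_degreewise_shortExact _ fun m =>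
    (hex (K.cocomplex.X m) (K.injective m)).choose_spec
  haveI hm : Mono (HomologicalComplex.homologyMap s.g i) :=
    (hs.homology_exact₂ i).mono_g ((hz.of_iso (K.isoRightDerivedObj _ i).symm).eq_of_src _ _)
  let a := (K.isoRightDerivedObj (T ⋙ ModSite.sheafHom (O := X.sheaf) S.X₂) i).symm ≪≫
    ((SpSeqLib.rightDerivedCongr e i).app G).symm
  let c := (K.isoRightDerivedObj (T ⋙ ModSite.sheafHom (O := X.sheaf) S.X₁) i).symm ≪≫
    ((SpSeqLib.rightDerivedCongr e₁ i).app G).symm
  let g : (ModSite.extZSh (O := X.sheaf) U S.X₂ i).obj G ⟶ (ModSite.extZSh (O := X.sheaf) U S.X₁ i).obj G :=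
    a.inv ≫ HomologicalComplex.homologyMap s.g i ≫ c.hom
  have hg : Mono g := @mono_comp _ _ _ _ _ a.inv inferInstance _ (@mono_comp _ _ _ _ _ _ hm c.hom inferInstance)
  exact @QCohLib.isCoh_of_mono X _ _ _ g hg (Groth.Agent.S12880.result X U S.X₁ G h1 hG hs1 i)
    (Groth.Agent.S12879.result X U S.X₂ G h2 hG.1 i)


end Groth.Agent.S12881
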