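import Groth.Statements.S12883
import Groth.Agent.ExtShLib.Depth
import Groth.Agent.S12879
import Groth.Agent.S12880
import Groth.Agent.S12881
import Groth.Agent.ExtShLib.Vanish


set_option autoImplicit false
universe u
open CategoryTheory CategoryTheory.Limits TopologicalSpace AlgebraicGeometry
open Coherent

namespace Groth.Agent.S12883

/-- Let X be a locally Noetherian scheme whose local rings are all regular, Y a closed subset with open
complement U, F and G coherent O_X-modules, S the support of F, and i a natural number such that dim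
O_{X,x} < i for every point x of Y in the closure of S ∩ U. Then ℰxt^i_Y(F, G) is coherent.
(Internal Hom of F and injective resolutions of O_X-modules are the stated instance hypotheses, both
true.) -/
theorem result (X : Scheme.{u}) [IsLocallyNoetherian X]
    (hreg : ∀ x : X, IsRegularLocalRing (X.presheaf.stalk x)) (U : X.Opens)
    (F G : X.Modules) (hF : Coh.IsCoh F) (hG : Coh.IsCoh G) (i : ℕ)
    (hi : ∀ x ∈ closure (CohB1.support F ∩ (U : Set X)), x ∉ (U : Set X) →
      ringKrullDim (X.presheaf.stalk x) < (i : WithBot ℕ∞))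
    [ModSite.HasSheafHom (O := X.sheaf) F] [HasInjectiveResolutions (ModSite.Mod X.sheaf)] :
    Coh.IsCoh ((ModSite.extZSh (O := X.sheaf) U F i).obj G) := by
  haveI : EnoughInjectives (ModSite.Mod X.sheaf) := Groth.Agent.SiteBase.enoughInjectives_sheafOfModules _
  obtain ⟨S, hS, hS2, h1, h2, h3, hs1, hs3⟩ := Groth.Agent.S12881.exists_seq U F hF
  subst hS2
  obtain ⟨e⟩ := (Groth.Agent.S12893.result X.sheaf U S.X₂).1
  obtain ⟨e₁⟩ := (Groth.Agent.S12893.result X.sheaf U S.X₁).1
  obtain ⟨e₃⟩ := (Groth.Agent.S12893.result X.sheaf U S.X₃).1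
  let U' : X.Opens := U ⊔ ⟨(closure (CohB1.support S.X₂ ∩ (U : Set X)))ᶜ, isClosed_closure.isOpen_compl⟩
  have hH : ∀ (M : ModSite.Mod X.sheaf) (x : X), x ∈ U' → x ∉ U →
      Subsingleton (((StalkHomLib.hF S.X₃).obj M).presheaf.stalk x) := fun M x hx hxU => by
    haveI := hs3 x (hx.resolve_left hxU)
    exact ⟨fun a b => (StalkHomLib.theta_bijective S.X₃ x h3 M).1 (LinearMap.ext fun f => by
      rw [Subsingleton.elim f 0, map_zero, map_zero])⟩
  let f : ModSite.sectOn X.sheaf U ⋙ ModSite.sheafHom (O := X.sheaf) S.X₃ ≅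
      ModSite.sheafHom (O := X.sheaf) S.X₃ ⋙ ModSite.sectOn X.sheaf U' :=
    e₃.symm ≪≫ ExtShLib.sectOnCongr U U' le_sup_left (ModSite.sheafHom (O := X.sheaf) S.X₃) hH
  have hz : IsZero (((ModSite.sectOn X.sheaf U ⋙ ModSite.sheafHom (O := X.sheaf) S.X₃).rightDerived i).obj G) := by
    refine IsZero.of_iso ?_ ((SpSeqLib.rightDerivedCongr f i).app G)
    exact ExtShLib.isZero_extZSh_of_dim S.X₃ G hreg U' h3 hG i fun x _ hx =>
      hi x (by_contra fun h => hx (Or.inr h)) fun h => hx (Or.inl h)
  let T := ModSite.sectOn X.sheaf U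
  let K := injectiveResolution (show ModSite.Mod X.sheaf from G)
  let α := Functor.whiskerLeft T (ExtSupp.sheafHomMap (O := X.sheaf) S.g)
  let β := Functor.whiskerLeft T (ExtSupp.sheafHomMap (O := X.sheaf) S.f)
  have hex : ∀ I : ModSite.Mod X.sheaf, Injective I → ∃ w, (ShortComplex.mk (α.app I) (β.app I) w).ShortExact :=
    fun I hI => by
      exact ExtShLib.shortExact_hom hS h1 h2 h3 (T.obj I) (SiteBase.OpenQuot.injective_sectOn X.sheaf U I)
  let s : ShortComplex (CochainComplex (ModSite.Mod X.sheaf) ℕ) :=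
    ShortComplex.mk ((NatTrans.mapHomologicalComplex α _).app K.cocomplex)
      ((NatTrans.mapHomologicalComplex β _).app K.cocomplex)
      (HomologicalComplex.hom_ext _ _ fun m => (hex (K.cocomplex.X m) (K.injective m)).choose)
  have hs : s.ShortExact := HomologicalComplex.shortExact_of_degreewise_shortExact _ fun m =>
    (hex (K.cocomplex.X m) (K.injective m)).choose_spec
  haveI hm : Mono (HomologicalComplex.homologyMap s.g i) :=
    (hs.homology_exact₂ i).mono_g ((hz.of_iso (K.isoRightDerivedObj _ i).symm).eq_of_src _ _)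
  let a := (K.isoRightDerivedObj (T ⋙ ModSite.sheafHom (O := X.sheaf) S.X₂) i).symm ≪≫
    ((SpSeqLib.rightDerivedCongr e i).app G).symm
  let c := (K.isoRightDerivedObj (T ⋙ ModSite.sheafHom (O := X.sheaf) S.X₁) i).symm ≪≫
    ((SpSeqLib.rightDerivedCongr e₁ i).app G).symm
  let g : (ModSite.extZSh (O := X.sheaf) U S.X₂ i).obj G ⟶ (ModSite.extZSh (O := X.sheaf) U S.X₁ i).obj G :=
    a.inv ≫ HomologicalComplex.homologyMap s.g i ≫ c.hom
  have hg : Mono g := @mono_comp _ _ _ _ _ a.inv inferInstance _ (@mono_comp _ _ _ _ _ _ hm c.hom inferInstance)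
  exact @QCohLib.isCoh_of_mono X _ _ _ g hg (Groth.Agent.S12880.result X U S.X₁ G h1 hG hs1 i)
    (Groth.Agent.S12879.result X U S.X₂ G h2 hG.1 i)


end Groth.Agent.S12883
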