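import Groth.Statements.S12884
import Groth.Agent.ExtShLib.Depth
import Groth.Agent.S12879
import Groth.Agent.S12880
import Groth.Agent.S12881
import Groth.Agent.ExtShLib.Vanish
import Groth.Agent.ExtShLib.Split
import Groth.Agent.GeomRk.AnyExt
import Groth.Agent.ParaFLib.Stalk
import Groth.Agent.Depth.FlatLocal


set_option autoImplicit false
universe u
open CategoryTheory CategoryTheory.Limits TopologicalSpace AlgebraicGeometry
open Coherent

namespace Groth.Agent.S12884

/-- Let X be a locally Noetherian scheme whose local rings are all regular, Y a closed subset with open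
complement U, F a coherent O_X-module, P the set of points of Y lying in the closure of (Supp F) ∩
U, and n a natural number which is not the dimension of O_{X,x} for any x in P. Then ℰxt^n_Y(F, O_X)
is coherent. (Internal Hom of F and injective resolutions of O_X-modules are the stated instance
hypotheses, both true.) -/
theorem result (X : Scheme.{u}) [IsLocallyNoetherian X]
    (hreg : ∀ x : X, IsRegularLocalRing (X.presheaf.stalk x)) (U : X.Opens)
    (F : X.Modules) (hF : Coh.IsCoh F) (n : ℕ)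
    (hn : ∀ x ∈ closure (CohB1.support F ∩ (U : Set X)), x ∉ (U : Set X) →
      ringKrullDim (X.presheaf.stalk x) ≠ (n : WithBot ℕ∞))
    [ModSite.HasSheafHom (O := X.sheaf) F] [HasInjectiveResolutions (ModSite.Mod X.sheaf)] :
    Coh.IsCoh ((ModSite.extZSh (O := X.sheaf) U F n).obj (Coh.structureModule X)) := by
  let i := n
  let G : X.Modules := Coh.structureModule X
  have hG : Coh.IsCoh G := Groth.Agent.DevLib.isCoh_structureModule X
  haveI : EnoughInjectives (ModSite.Mod X.sheaf) := Groth.Agent.SiteBase.enoughInjectives_sheafOfModules _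
  obtain ⟨S, hS, hS2, h1, h2, h3, hs1, hs3⟩ := Groth.Agent.S12881.exists_seq U F hF
  subst hS2
  obtain ⟨e⟩ := (Groth.Agent.S12893.result X.sheaf U S.X₂).1
  obtain ⟨e₁⟩ := (Groth.Agent.S12893.result X.sheaf U S.X₁).1
  obtain ⟨e₃⟩ := (Groth.Agent.S12893.result X.sheaf U S.X₃).1
  let U' : X.Opens := U ⊔ ⟨(closure (CohB1.support S.X₂ ∩ (U : Set X)))ᶜ, isClosed_closure.isOpen_compl⟩
  have hH : ∀ (M : ModSite.Mod X.sheaf) (x : X), x ∈ U' → x ∉ U →
      Subsingleton (((StalkHomLib.hF S.X₃).obj M).presheaf.stalk x) := fun M x hx hxU => by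
    haveI := hs3 x (hx.resolve_left hxU)
    exact ⟨fun a b => (StalkHomLib.theta_bijective S.X₃ x h3 M).1 (LinearMap.ext fun f => by
      rw [Subsingleton.elim f 0, map_zero, map_zero])⟩
  let f : ModSite.sectOn X.sheaf U ⋙ ModSite.sheafHom (O := X.sheaf) S.X₃ ≅
      ModSite.sheafHom (O := X.sheaf) S.X₃ ⋙ ModSite.sectOn X.sheaf U' :=
    e₃.symm ≪≫ ExtShLib.sectOnCongr U U' le_sup_left (ModSite.sheafHom (O := X.sheaf) S.X₃) hH
  have hz : IsZero (((ModSite.sectOn X.sheaf U ⋙ ModSite.sheafHom (O := X.sheaf) S.X₃).rightDerived i).obj G) := by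
    refine IsZero.of_iso ?_ ((SpSeqLib.rightDerivedCongr f i).app G)
    let dim := fun x : X => ringKrullDim (X.presheaf.stalk x)
    have hmono : ∀ a b : X, a ⤳ b → dim a ≤ dim b := fun a b h => ExtShLib.ringKrullDim_stalk_mono h
    let Pp : Set X := {x | x ∉ U' ∧ ((n : ℕ) : WithBot ℕ∞) < dim x}
    let Pm : Set X := {x | x ∉ U' ∧ dim x < ((n : ℕ) : WithBot ℕ∞)}
    have hcl : IsClosed ((U' : Set X)ᶜ) := U'.2.isClosed_compl
    have hne : ∀ x : X, x ∉ U' → dim x ≠ ((n : ℕ) : WithBot ℕ∞) := fun x hx =>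
      hn x (by_contra fun h => hx (Or.inr h)) fun h => hx (Or.inl h)
    have hout : ∀ a ∉ U', ∀ b, a ⤳ b → b ∉ U' := fun a ha b h hb => ha (h.mem_open U'.2 hb)
    have hstab : ∀ a : X, a ∉ U' → dim a < ((n : ℕ) : WithBot ℕ∞) → ∀ b, a ⤳ b → dim b < ((n : ℕ) : WithBot ℕ∞) := by
      intro a ha hlt b hab
      by_contra hb
      obtain ⟨z, haz, -, hz⟩ := ExtShLib.exists_between hreg hab n hlt.le (not_lt.1 hb)
      exact hne z (hout a ha z haz) hz
    have hp : IsClosed Pp := ExtShLib.isClosed_of_stable hcl (fun _ h => h.1)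
      (fun a ha b h => ⟨hout a ha.1 b h, lt_of_lt_of_le ha.2 (hmono a b h)⟩)
      (fun a ha ha' b h hb => not_lt.2 (hstab a ha ((lt_or_gt_of_ne (hne a ha)).resolve_right fun hl => ha' ⟨ha, hl⟩) b h).le hb.2)
    have hm : IsClosed Pm := ExtShLib.isClosed_of_stable hcl (fun _ h => h.1)
      (fun a ha b h => ⟨hout a ha.1 b h, hstab a ha.1 ha.2 b h⟩)
      (fun a ha ha' b h hb => ha' ⟨ha, lt_of_le_of_lt (hmono a b h) hb.2⟩)
    let U₁ : X.Opens := ⟨Ppᶜ, hp.isOpen_compl⟩
    let U₂ : X.Opens := ⟨Pmᶜ, hm.isOpen_compl⟩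
    haveI : ∀ V : X.Opens, (ExtShLib.sectF V).Additive := fun V => ModSite.sectOn_additive X.sheaf V
    haveI : (StalkHomLib.hF S.X₃).Additive := (ModSite.sheafHomAdj (O := X.sheaf) S.X₃).right_adjoint_additive
    refine ExtShLib.isZero_of_split (X := X) (StalkHomLib.hF S.X₃) (U := U') (U₁ := U₁) (U₂ := U₂)
      (fun x hx h => h.1 hx) (fun x hx h => h.1 hx) (fun x hx => ?_) G i ?_ ?_
    · rcases lt_or_gt_of_ne (hne x hx) with h | h
      · exact ⟨fun _ h' => h' ⟨hx, h⟩, fun _ h' => lt_asymm h h'.2⟩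
      · exact ⟨fun h' => absurd ⟨hx, h⟩ h', fun h' => absurd (fun h'' : x ∈ Pm => lt_asymm h h''.2) h'⟩
    · obtain ⟨e'⟩ := (Groth.Agent.S12893.result X.sheaf U₁ S.X₃).1
      refine IsZero.of_iso ?_ ((SpSeqLib.rightDerivedCongr e' i).app G)
      refine ExtShLib.isZero_of_HZsh U₁ S.X₃ G (n + 1) (ExtShLib.isZero_HZsh_of_depth U₁ G hG (n + 1) fun x hx => ?_) i (Nat.lt_succ_self n)
      have hx' : x ∈ Pp := not_not.1 hx
      haveI := hreg x
      rw [← CAlgBasics.depth_congr (LinearEquiv.ofBijective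
        (LinearMap.toSpanSingleton (X.presheaf.stalk x) _ (ParaFLib.oneG x)) (ParaFLib.bijective_oneG x))]
      have h := hx'.2
      show ((n + 1 : ℕ) : ℕ∞) ≤ _
      simp only [dim] at h
      rw [← GeomRk.depth_eq_dim_of_regular] at h
      rw [Nat.cast_add, Nat.cast_one]
      exact Order.add_one_le_of_lt (WithBot.coe_lt_coe.1 h : (n : ℕ∞) < _)
    · exact ExtShLib.isZero_extZSh_of_dim S.X₃ G hreg U₂ h3 hG i fun x _ hx => (not_not.1 hx : x ∈ Pm).2
  let T := ModSite.sectOn X.sheaf U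
  let K := injectiveResolution (show ModSite.Mod X.sheaf from G)
  let α := Functor.whiskerLeft T (ExtSupp.sheafHomMap (O := X.sheaf) S.g)
  let β := Functor.whiskerLeft T (ExtSupp.sheafHomMap (O := X.sheaf) S.f)
  have hex : ∀ I : ModSite.Mod X.sheaf, Injective I → ∃ w, (ShortComplex.mk (α.app I) (β.app I) w).ShortExact :=
    fun I hI => by
      exact ExtShLib.shortExact_hom hS h1 h2 h3 (T.obj I) (SiteBase.OpenQuot.injective_sectOn X.sheaf U I)
  let s : ShortComplex (CochainComplex (ModSite.Mod X.sheaf) ℕ) :=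
    ShortComplex.mk ((NatTrans.mapHomologicalComplex α _).app K.cocomplex)
      ((NatTrans.mapHomologicalComplex β _).app K.cocomplex)
      (HomologicalComplex.hom_ext _ _ fun m => (hex (K.cocomplex.X m) (K.injective m)).choose)
  have hs : s.ShortExact := HomologicalComplex.shortExact_of_degreewise_shortExact _ fun m =>
    (hex (K.cocomplex.X m) (K.injective m)).choose_spec
  haveI hm : Mono (HomologicalComplex.homologyMap s.g i) :=
    (hs.homology_exact₂ i).mono_g ((hz.of_iso (K.isoRightDerivedObj _ i).symm).eq_of_src _ _)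
  let a := (K.isoRightDerivedObj (T ⋙ ModSite.sheafHom (O := X.sheaf) S.X₂) i).symm ≪≫
    ((SpSeqLib.rightDerivedCongr e i).app G).symm
  let c := (K.isoRightDerivedObj (T ⋙ ModSite.sheafHom (O := X.sheaf) S.X₁) i).symm ≪≫
    ((SpSeqLib.rightDerivedCongr e₁ i).app G).symm
  let g : (ModSite.extZSh (O := X.sheaf) U S.X₂ i).obj G ⟶ (ModSite.extZSh (O := X.sheaf) U S.X₁ i).obj G :=
    a.inv ≫ HomologicalComplex.homologyMap s.g i ≫ c.hom
  have hg : Mono g := @mono_comp _ _ _ _ _ a.inv inferInstance _ (@mono_comp _ _ _ _ _ _ hm c.hom inferInstance)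
  exact @QCohLib.isCoh_of_mono X _ _ _ g hg (Groth.Agent.S12880.result X U S.X₁ G h1 hG hs1 i)
    (Groth.Agent.S12879.result X U S.X₂ G h2 hG.1 i)


end Groth.Agent.S12884
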