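import Groth.Statements.S12888
import Groth.Agent.SiteBase.SectRestr
import Groth.Agent.SpSeqLib.DerivedComp
-- import your own Groth.Agent.* helpers here

set_option autoImplicit false
universe u
open CategoryTheory CategoryTheory.Limits
open ModSite

namespace Groth.Agent.S12888

/-- On a small ringed site (C, J, O) with O commutative and binary products in C, let U and X be
objects, Z the closed complement of the open generated by U, and Z/X the closed complement of the
object U × X → X of the localised site C/X. The formation of the local cohomology sheaves ℋ^q_Z
(right derived functors of the sections-with-support functor Γ_Z on O-modules) commutes with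
localisation: M ↦ ℋ^q_Z(M)|_X is isomorphic to M ↦ ℋ^q_{Z/X}(M|_X). (Existence of an isomorphism of
functors only. The direct image along the localisation at U × X → X and injective resolutions of
modules on C and on C/X are the stated instance hypotheses, all true.) -/
theorem result {C : Type u} [SmallCategory C] {J : GrothendieckTopology C}
    (O : Sheaf J CommRingCat.{u}) [HasBinaryProducts C] (U X : C)
    [ModSite.HasPushOver (O.over X) (Over.mk (Limits.prod.snd : U ⨯ X ⟶ X))]
    [HasInjectiveResolutions (ModSite.Mod O)] [HasInjectiveResolutions (ModSite.Mod (O.over X))] (q : ℕ) :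
    Nonempty (ModSite.HZsh O U q ⋙ ModSite.restr O X ≅
      ModSite.restr O X ⋙ ModSite.HZsh (O.over X) (Over.mk (Limits.prod.snd : U ⨯ X ⟶ X)) q) := by
  exact ⟨(Groth.Agent.SpSeqLib.rightDerivedPostcompIso (ModSite.sectOn O U) (ModSite.restr O X) q).symm ≪≫
    Groth.Agent.SpSeqLib.rightDerivedCongr (Groth.Agent.SiteBase.SectRestr.sectRestrIso O X U) q ≪≫
    Groth.Agent.SpSeqLib.rightDerivedPrecompIso (ModSite.restr O X)
      (fun I hI => Groth.Agent.SiteBase.ExtZeroPre.injective_restr O X I)
      (ModSite.sectOn (O.over X) (Over.mk (Limits.prod.snd : U ⨯ X ⟶ X))) q⟩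

end Groth.Agent.S12888
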