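import Groth.Statements.S12889
import Groth.Agent.SpSeqLib.ExtSuppSeq
-- import your own Groth.Agent.* helpers here

set_option autoImplicit false
universe u
open CategoryTheory CategoryTheory.Limits
open ModSite

namespace Groth.Agent.S12889

/-- On a small ringed site (C, J, O) with O commutative, let U be an object with Z the closed complement
of the open it generates, and M an O-module. There is an E₂ spectral sequence of abelian groups with
E₂^{p,q} ≅ H^p(C, ℋ^q_Z(M)) for p, q ≥ 0 (and 0 otherwise), bounded, abutting with finite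
filtrations to H^n_Z(M) (n ≥ 0; 0 for n < 0); here ℋ^q_Z are the right derived functors of sections
with support on O-modules, H^p(C, -) is the cohomology of the site with values in the underlying
abelian sheaf, and H^n_Z(M) are the Ext groups out of ℤ/ℤ_U into the underlying abelian sheaf.
(Existence only: the E₂ identifications and the abutment are some isomorphisms. The direct image
along the localisation at U and injective resolutions of O-modules are the stated instance
hypotheses, both true.) -/
theorem result {C : Type u} [SmallCategory C] {J : GrothendieckTopology C}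
    (O : Sheaf J CommRingCat.{u}) (U : C) (M : ModSite.Mod O)
    [ModSite.HasPushOver O U] [HasInjectiveResolutions (ModSite.Mod O)] :
    ∃ (E : E₂CohomologicalSpectralSequence AddCommGrpCat.{u})
      (a : SpSeq.Abutment E (fun n : ℤ =>
        if 0 ≤ n then AddCommGrpCat.of (ModSite.HZ U M n.toNat) else AddCommGrpCat.of PUnit.{u + 1})),
      (∀ n : ℤ, a.IsFinite n) ∧ SpSeq.IsBounded E ∧
      ∀ p q : ℤ, Nonempty ((E.page 2 le_rfl).X (p, q) ≅
        (if 0 ≤ p ∧ 0 ≤ q then AddCommGrpCat.of (ModSite.HC O ((ModSite.HZsh O U q.toNat).obj M) p.toNat)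
          else AddCommGrpCat.of PUnit.{u + 1})) := by
  
  haveI : EnoughInjectives (ModSite.Mod O) :=
    SiteBase.enoughInjectives_sheafOfModules (ModSite.ringSh O)
  haveI : HasExt.{u} (ModSite.Mod O) := hasExt_of_enoughInjectives _
  haveI : (ModSite.quotOn O U).Additive := SpSeqLib.additive_quotOn U
  refine SpSeqLib.exists_grothendieck (ModSite.sectOn O U)
    (preadditiveCoyoneda.obj (Opposite.op (ModSite.unit O)))
    (SpSeqLib.isAcyclicFor_of_preservesInjective _ _ fun I hI =>
      haveI := hI; SiteBase.OpenQuot.injective_sectOn O U I) M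
    (fun n => ?_) (fun n hn => ?_) (fun p q => ?_) (fun p q h => ?_)
  · let a : (ModSite.quotOn O U).obj (ModSite.unit O) ≅ SiteBase.OpenQuot.closedMod O U :=
      (SiteBase.OpenQuot.quotOnIso O U).app (ModSite.unit O) ≪≫
        ModTensor.tensComm O (ModSite.unit O) (SiteBase.OpenQuot.closedMod O U) ≪≫
        (ModTensor.tensorUnitRight O).app (SiteBase.OpenQuot.closedMod O U)
    obtain ⟨e⟩ := SpSeqLib.nonempty_rightDerived_iso_ext (SiteBase.OpenQuot.closedMod O U)
      (SpSeqLib.compCoyonedaIso (SiteBase.OpenQuot.quotSectAdj O U) (ModSite.unit O) ≪≫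
        preadditiveCoyoneda.mapIso a.symm.op) M n
    exact ⟨e ≪≫ AddEquiv.toAddCommGrpIso
      (X := AddCommGrpCat.of (Abelian.Ext.{u} (SiteBase.OpenQuot.closedMod O U) M n))
      (Y := AddCommGrpCat.of (ModSite.HZ U M n))
      (SiteBase.OpenQuot.extClosedEquiv O U M n) ≪≫ eqToIso (by simp)⟩
  · rw [if_neg (by omega)]
    exact SpSeqLib.isZero_punit
  · obtain ⟨e⟩ := SpSeqLib.nonempty_rightDerived_unit
      (((ModSite.sectOn O U).rightDerived q).obj M) p
    exact ⟨e ≪≫ eqToIso (by simp)⟩
  · rw [if_neg (by omega)]
    exact SpSeqLib.isZero_punit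

end Groth.Agent.S12889
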