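import Groth.Statements.S12892
import Groth.Agent.SiteBase.SectScalars
import Groth.Agent.SiteBase.SuppAcyclic
import Groth.Agent.SpSeqLib.AcyclicResolution
import Groth.Agent.S6160
-- import your own Groth.Agent.* helpers here

set_option autoImplicit false
universe u
open CategoryTheory CategoryTheory.Limits
open ModSite

namespace Groth.Agent.S12892

/-- On a small site (C, J), let φ : O → O' be a morphism of commutative structure sheaves, U an object
with Z the closed complement of the open it generates, and q ≥ 0. The local cohomology sheaf
functors ℋ^q_Z (right derived functors of sections with support) commute with restriction of scalars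
along φ: the composite of ℋ^q_Z on O'-modules with restriction of scalars is isomorphic to
restriction of scalars followed by ℋ^q_Z on O-modules. (Existence of an isomorphism of functors
only. The direct images along the localisation at U and injective resolutions of O- and O'-modules
are the stated instance hypotheses, all true.) -/
theorem result {C : Type u} [SmallCategory C] {J : GrothendieckTopology C}
    {O O' : Sheaf J CommRingCat.{u}} (φ : O ⟶ O') (U : C)
    [ModSite.HasPushOver O U] [ModSite.HasPushOver O' U]
    [HasInjectiveResolutions (ModSite.Mod O)] [HasInjectiveResolutions (ModSite.Mod O')] (q : ℕ) :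
    Nonempty (ModSite.HZsh O' U q ⋙
        SheafOfModules.restrictScalars ((sheafCompose J (forget₂ CommRingCat.{u} RingCat.{u})).map φ) ≅
      SheafOfModules.restrictScalars ((sheafCompose J (forget₂ CommRingCat.{u} RingCat.{u})).map φ) ⋙
        ModSite.HZsh O U q) := by
  let φ' := (sheafCompose J (forget₂ CommRingCat.{u} RingCat.{u})).map φ
  obtain ⟨hl, hc, -⟩ := Groth.Agent.S6160.result φ'
  haveI := hl
  haveI := hc
  haveI : PreservesFiniteLimits (SheafOfModules.restrictScalars.{u} φ') := by
    haveI : PreservesLimitsOfSize.{0, 0} (SheafOfModules.restrictScalars.{u} φ') :=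
      preservesLimitsOfSize_shrink.{0, u, 0, u} _
    infer_instance
  haveI : PreservesFiniteColimits (SheafOfModules.restrictScalars.{u} φ') := by
    haveI : PreservesColimitsOfSize.{0, 0} (SheafOfModules.restrictScalars.{u} φ') :=
      preservesColimitsOfSize_shrink.{0, u, 0, u} _
    infer_instance
  haveI : (SheafOfModules.restrictScalars.{u} φ').Additive :=
    Functor.additive_of_preserves_binary_products _
  haveI : HasExt.{u} (ModSite.Mod O) := hasExt_of_enoughInjectives _
  haveI : EnoughInjectives (ModSite.Mod O) :=
    Groth.Agent.SiteBase.enoughInjectives_sheafOfModules (ModSite.ringSh O)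
  haveI : PreservesFiniteLimits (ModSite.sectOn O U) := by
    haveI : PreservesLimitsOfSize.{0, 0} (ModSite.sectOn O U) :=
      (Groth.Agent.SiteBase.OpenQuot.quotSectAdj O U).rightAdjoint_preservesLimits
    infer_instance
  exact ⟨(Groth.Agent.SpSeqLib.rightDerivedPostcompIso (ModSite.sectOn O' U)
      (SheafOfModules.restrictScalars.{u} φ') q).symm ≪≫
    Groth.Agent.SpSeqLib.rightDerivedCongr (Groth.Agent.SiteBase.SectScalars.sectScalarsIso φ U) q ≪≫
    Groth.Agent.SpSeqLib.rightDerivedPrecompAcyclicIso (SheafOfModules.restrictScalars.{u} φ')
      (ModSite.sectOn O U) (fun I hI => Groth.Agent.SiteBase.OpenQuot.isAcyclicFor_sectOn U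
        (M := (SheafOfModules.restrictScalars.{u} φ').obj I)
        (haveI := hI; Groth.Agent.SiteBase.isTotallyAcyclic_toSheaf_injective I)) q⟩

end Groth.Agent.S12892
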