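import Groth.Statements.S12895
import Groth.Agent.SpSeqLib.ExtSuppSeq
-- import your own Groth.Agent.* helpers here

set_option autoImplicit false
universe u
open CategoryTheory CategoryTheory.Limits
open ModSite

namespace Groth.Agent.S12895

/-- The local-to-global Ext sequence: on a small ringed site (C, J, O) with O commutative, for O-modules
M and N there is an E₂ spectral sequence of abelian groups with E₂^{p,q} ≅ H^p(C, ℰxt^q_O(M, N)) for
p, q ≥ 0 (and 0 otherwise), bounded, abutting with finite filtrations to Ext^n_O(M, N) (n ≥ 0; 0 for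
n < 0); here ℰxt^q_O(M, -) are the right derived functors of the internal Hom ℋom_O(M, -), H^p(C, -)
is the cohomology of the site with values in the underlying abelian sheaf, and Ext^n_O is computed
in the category of O-modules. (Existence only: the E₂ identifications and the abutment are some
isomorphisms. The internal Hom of M, injective resolutions of O-modules and smallness of the Ext
groups of O-modules are the stated instance hypotheses, all true.) -/
theorem result {C : Type u} [SmallCategory C] {J : GrothendieckTopology C}
    (O : Sheaf J CommRingCat.{u}) (M N : ModSite.Mod O)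
    [ModSite.HasSheafHom M] [HasInjectiveResolutions (ModSite.Mod O)] [HasExt.{u} (ModSite.Mod O)] :
    ∃ (E : E₂CohomologicalSpectralSequence AddCommGrpCat.{u})
      (a : SpSeq.Abutment E (fun n : ℤ =>
        if 0 ≤ n then AddCommGrpCat.of (Abelian.Ext.{u} M N n.toNat) else AddCommGrpCat.of PUnit.{u + 1})),
      (∀ n : ℤ, a.IsFinite n) ∧ SpSeq.IsBounded E ∧
      ∀ p q : ℤ, Nonempty ((E.page 2 le_rfl).X (p, q) ≅
        (if 0 ≤ p ∧ 0 ≤ q then AddCommGrpCat.of (ModSite.HC O ((ModSite.extSh M q.toNat).obj N) p.toNat)
          else AddCommGrpCat.of PUnit.{u + 1})) := by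
  
  haveI : EnoughInjectives (ModSite.Mod O) :=
    SiteBase.enoughInjectives_sheafOfModules (ModSite.ringSh O)
  haveI : ((ModSite.tensorBi O).flip.obj M).Additive := inferInstance
  refine SpSeqLib.exists_grothendieck (ModSite.sheafHom M)
    (preadditiveCoyoneda.obj (Opposite.op (ModSite.unit O)))
    (fun I hI => haveI := hI;
      SpSeqLib.isAcyclicFor_unit (SiteBase.isTotallyAcyclic_sheafHom M I)) N
    (fun n => ?_) (fun n hn => ?_) (fun p q => ?_) (fun p q h => ?_)
  · obtain ⟨e⟩ := SpSeqLib.nonempty_rightDerived_iso_ext M
      (SpSeqLib.compCoyonedaIso (ModSite.sheafHomAdj M) (ModSite.unit O) ≪≫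
        preadditiveCoyoneda.mapIso (ModTensor.tensComm O (ModSite.unit O) M ≪≫
          (ModTensor.tensorUnitRight O).app M).symm.op) N n
    exact ⟨e ≪≫ eqToIso (by simp)⟩
  · rw [if_neg (by omega)]
    exact SpSeqLib.isZero_punit
  · obtain ⟨e⟩ := SpSeqLib.nonempty_rightDerived_unit
      (((ModSite.sheafHom M).rightDerived q).obj N) p
    exact ⟨e ≪≫ eqToIso (by simp)⟩
  · rw [if_neg (by omega)]
    exact SpSeqLib.isZero_punit

end Groth.Agent.S12895
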