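import Groth.Statements.S12899
import Groth.Agent.DRingLib.Descent
import Groth.Agent.DRingLib.TorDim
-- import your own Groth.Agent.* helpers here

set_option autoImplicit false
universe u
open CategoryTheory CategoryTheory.Limits
attribute [local instance] HasDerivedCategory.standard
open DRing

namespace Groth.Agent.S12899

open Groth.Agent.DRingLib TensorProduct

variable {R : Type u} [CommRing R] (f : R) {P : DRing.Cx R} (hP : DRing.TermwiseFlat P) {i : ℤ}
  (hB : ∀ M : ModuleCat.{u} (R ⧸ Ideal.span ({f} : Set R)),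
    ((tensM M).obj ((DTen.extCx (Ideal.Quotient.mk (Ideal.span ({f} : Set R)))).obj P)).ExactAt i)

include hP hB

theorem exactAt_of_pow_killed : ∀ (k : ℕ) (M : Type u) [AddCommGroup M] [Module R M],
    (∀ m : M, f ^ k • m = 0) → ((tensM (ModuleCat.of R M)).obj P).ExactAt i := by
  intro k
  induction k with
  | zero =>
    intro M _ _ hM
    haveI : Subsingleton M := subsingleton_of_forall_eq 0 fun m => by simpa using hM m
    exact ShortComplex.exact_of_isZero_X₂ _
      ((MonoidalCategory.tensorRight (P.X i)).map_isZero (ModuleCat.isZero_of_subsingleton (ModuleCat.of R M)))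
  | succ k ih =>
    intro M _ _ hM
    let N : Submodule R M := Ideal.span ({f} : Set R) • ⊤
    refine exactAt_tensM_of_submodule hP M N i (ih N fun x => Subtype.ext ?_)
      (exactAt_tensM_of_killed _ Ideal.Quotient.mk_surjective hB _ fun r hr => quotient_killed _ M r ?_)
    · show f ^ k • (x : M) = 0
      obtain ⟨y, -, hy⟩ : ∃ y ∈ (⊤ : Submodule R M), f • y = (x : M) := by
        have hx := x.2
        simp only [N, Submodule.ideal_span_singleton_smul] at hx
        exact Submodule.mem_smul_pointwise_iff_exists _ _ _ |>.1 hx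
      rw [← hy, smul_smul, ← pow_succ]
      exact hM y
    · rwa [Ideal.mk_ker] at hr

theorem exactAt_of_torsion (M : Type u) [AddCommGroup M] [Module R M]
    (hM : ∀ m : M, ∃ k : ℕ, f ^ k • m = 0) : ((tensM (ModuleCat.of R M)).obj P).ExactAt i := by
  rw [HomologicalComplex.exactAt_iff' _ (i - 1) i (i + 1) (by simp) (by simp),
    ShortComplex.moduleCat_exact_iff]
  intro x₀ hx
  obtain ⟨x, rfl⟩ : ∃ x : M ⊗[R] P.X i, x = x₀ := ⟨x₀, rfl⟩
  change ((P.d i (i + 1)).hom.lTensor M) x = 0 at hx
  obtain ⟨T, hT, hxT⟩ := TensorProduct.exists_finite_submodule_left_of_setFinite {x} (Set.finite_singleton x)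
  obtain ⟨y, rfl⟩ := hxT (Set.mem_singleton x)
  obtain ⟨s, hs⟩ := (Module.Finite.iff_fg.1 hT)
  choose k hk using hM
  obtain ⟨K, hK⟩ : ∃ K : ℕ, ∀ t : T, f ^ K • t = 0 := by
    refine ⟨s.sup k, fun t => Subtype.ext ?_⟩
    have ht : (t : M) ∈ Submodule.span R (s : Set M) := hs ▸ t.2
    show f ^ (s.sup k) • (t : M) = 0
    refine Submodule.span_induction (fun m hm => ?_) (smul_zero _) (fun a b _ _ ha hb => by rw [smul_add, ha, hb, add_zero])
      (fun r a _ ha => by rw [smul_comm, ha, smul_zero]) ht
    obtain ⟨d, hd⟩ := Nat.exists_eq_add_of_le (Finset.le_sup (f := k) hm)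
    rw [hd, pow_add, mul_comm, mul_smul, hk, smul_zero]
  have h := exactAt_of_pow_killed f hP hB K T hK
  rw [HomologicalComplex.exactAt_iff' _ (i - 1) i (i + 1) (by simp) (by simp),
    ShortComplex.moduleCat_exact_iff] at h
  haveI := hP (i + 1)
  obtain ⟨z, hz⟩ := h y (by
    show (P.d i (i + 1)).hom.lTensor T y = 0
    apply Module.Flat.rTensor_preserves_injective_linearMap (M := P.X (i + 1)) T.subtype Subtype.val_injective
    rw [map_zero, ← LinearMap.comp_apply, LinearMap.rTensor_comp_lTensor, ← LinearMap.lTensor_comp_rTensor,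
      LinearMap.comp_apply, hx])
  change (P.d (i - 1) i).hom.lTensor T z = y at hz
  refine ⟨T.subtype.rTensor _ z, ?_⟩
  show (P.d (i - 1) i).hom.lTensor M _ = _
  rw [← LinearMap.comp_apply, LinearMap.lTensor_comp_rTensor, ← LinearMap.rTensor_comp_lTensor,
    LinearMap.comp_apply, hz]

omit hB

theorem exactAt_of_loc
    (hL : ∀ M : ModuleCat.{u} (Localization.Away f),
      ((tensM M).obj ((DTen.extCx (algebraMap R (Localization.Away f))).obj P)).ExactAt i)
    (hB : ∀ j : ℤ, i - 1 ≤ j → j ≤ i → ∀ M : ModuleCat.{u} (R ⧸ Ideal.span ({f} : Set R)),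
      ((tensM M).obj ((DTen.extCx (Ideal.Quotient.mk (Ideal.span ({f} : Set R)))).obj P)).ExactAt j)
    (M : Type u) [AddCommGroup M] [Module R M] : ((tensM (ModuleCat.of R M)).obj P).ExactAt i := by
  let g := LocalizedModule.mkLinearMap (Submonoid.powers f) M
  let M' : ModuleCat.{u} (Localization.Away f) := ModuleCat.of _ (LocalizedModule (Submonoid.powers f) M)
  let e : (ModuleCat.restrictScalars.{u} (algebraMap R (Localization.Away f))).obj M' ≅
      ModuleCat.of R (LocalizedModule (Submonoid.powers f) M) :=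
    LinearEquiv.toModuleIso
      ({ (AddEquiv.refl (LocalizedModule (Submonoid.powers f) M)) with
        map_smul' := fun r (x : LocalizedModule (Submonoid.powers f) M) => algebraMap_smul (Localization.Away f) r x } :
        (ModuleCat.restrictScalars.{u} (algebraMap R (Localization.Away f))).obj M' ≃ₗ[R]
          ModuleCat.of R (LocalizedModule (Submonoid.powers f) M))
  have hloc : ((tensM (ModuleCat.of R (LocalizedModule (Submonoid.powers f) M))).obj P).ExactAt i :=
    (exactAt_tensM_restrict _ hL M').of_iso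
      ((NatIso.mapHomologicalComplex ((MonoidalCategory.tensoringLeft (ModuleCat.{u} R)).mapIso e) (ComplexShape.up ℤ)).app P)
  have hker : ((tensM (ModuleCat.of R (LinearMap.ker g))).obj P).ExactAt i :=
    exactAt_of_torsion f hP (hB i (by omega) le_rfl) _ fun m => by
      obtain ⟨⟨c, k, rfl⟩, hc⟩ := LocalizedModule.mk_eq.1 (show LocalizedModule.mk (m : M) (1 : Submonoid.powers f) =
        LocalizedModule.mk 0 (1 : Submonoid.powers f) by rw [LocalizedModule.zero_mk]; exact m.2)
      exact ⟨k, Subtype.ext (by simpa [Submonoid.smul_def] using hc)⟩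
  let Q := LocalizedModule (Submonoid.powers f) M ⧸ LinearMap.range g
  have hQ : ∀ q : Q, ∃ k : ℕ, f ^ k • q = 0 := fun q => by
    obtain ⟨x, rfl⟩ := Submodule.mkQ_surjective _ q
    induction x using LocalizedModule.induction_on with
    | _ m s =>
      obtain ⟨s, k, rfl⟩ := s
      refine ⟨k, (Submodule.Quotient.mk_eq_zero _).2 ⟨m, ?_⟩⟩
      simp [g, LocalizedModule.smul'_mk, LocalizedModule.mk_eq]
      exact ⟨1, by simp [Submonoid.smul_def]⟩
  let S : ShortComplex (ModuleCat.{u} R) :=
    ShortComplex.mk (ModuleCat.ofHom (LinearMap.range g).subtype) (ModuleCat.ofHom (LinearMap.range g).mkQ)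
      (ModuleCat.hom_ext (LinearMap.ext fun x => (Submodule.Quotient.mk_eq_zero _).2 x.2))
  have hS : S.ShortExact :=
    { exact := (ShortComplex.ShortExact.moduleCat_exact_iff_function_exact S).2 (LinearMap.exact_subtype_mkQ _)
      mono_f := (ModuleCat.mono_iff_injective _).2 Subtype.val_injective
      epi_g := (ModuleCat.epi_iff_surjective _).2 (Submodule.mkQ_surjective _) }
  let α : tensM S.X₁ ⟶ tensM S.X₂ :=
    NatTrans.mapHomologicalComplex ((MonoidalCategory.tensoringLeft (ModuleCat.{u} R)).map S.f) (ComplexShape.up ℤ)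
  let β : tensM S.X₂ ⟶ tensM S.X₃ :=
    NatTrans.mapHomologicalComplex ((MonoidalCategory.tensoringLeft (ModuleCat.{u} R)).map S.g) (ComplexShape.up ℤ)
  let T : ShortComplex (DRing.Cx R) := ShortComplex.mk (α.app P) (β.app P) (by
    ext n : 1
    show MonoidalCategoryStruct.whiskerRight S.f (P.X n) ≫ MonoidalCategoryStruct.whiskerRight S.g (P.X n) = 0
    rw [← MonoidalCategory.comp_whiskerRight, S.zero, MonoidalPreadditive.zero_whiskerRight])
  have hT : T.ShortExact := HomologicalComplex.shortExact_of_degreewise_shortExact _ fun n => by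
    haveI := hP n
    exact ShortComplex.ShortExact.mk'
      ((ShortComplex.ShortExact.moduleCat_exact_iff_function_exact _).2
        (Module.Flat.rTensor_exact (P.X n) (LinearMap.exact_subtype_mkQ _)))
      ((ModuleCat.mono_iff_injective _).2 (Module.Flat.rTensor_preserves_injective_linearMap (LinearMap.range g).subtype
        Subtype.val_injective))
      ((ModuleCat.epi_iff_surjective _).2 (LinearMap.rTensor_surjective (P.X n) (Submodule.mkQ_surjective _)))
  have hrange : T.X₁.ExactAt i := by
    have h3 : T.X₃.ExactAt (i - 1) := exactAt_of_torsion f hP (hB (i - 1) le_rfl (by omega)) Q hQ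
    have h2 : T.X₂.ExactAt i := hloc
    rw [HomologicalComplex.exactAt_iff_isZero_homology] at h2 h3 ⊢
    exact (hT.homology_exact₁ (i - 1) i (by simp)).isZero_of_both_zeros (h3.eq_of_src _ _) (h2.eq_of_tgt _ _)
  exact exactAt_tensM_of_submodule hP M (LinearMap.ker g) i hker
    (hrange.of_iso ((NatIso.mapHomologicalComplex ((MonoidalCategory.tensoringLeft (ModuleCat.{u} R)).mapIso
      g.quotKerEquivRange.symm.toModuleIso) (ComplexShape.up ℤ)).app P))

omit hP

/-- Let R be a commutative ring, f ∈ R and M an object of D(R) such that (1) H^i(M) = 0 for i &gt; 0,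
(2) in D(R_f), M ⊗^L_R R_f is isomorphic to a flat R_f-module concentrated in degree 0, and (3) in
D(R/fR), M ⊗^L_R R/fR is isomorphic to a flat R/fR-module concentrated in degree 0. Then, in D(R), M
itself is isomorphic to a flat R-module concentrated in degree 0. (The derived base change functors
along R → R_f and R → R/fR are the stated instance hypotheses, both true.) -/
theorem result {R : Type u} [CommRing R] (f : R) (M : Dual.D R)
    [DRing.HasLBaseChange (algebraMap R (Localization.Away f))]
    [DRing.HasLBaseChange (Ideal.Quotient.mk (Ideal.span ({f} : Set R)))]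
    (h1 : ∀ i : ℤ, 0 < i → Subsingleton (Dual.HD R M i))
    (h2 : ∃ (N : Type u) (_ : AddCommGroup N) (_ : Module (Localization.Away f) N),
      Module.Flat (Localization.Away f) N ∧
        Nonempty ((DRing.LBaseChange (algebraMap R (Localization.Away f))).obj M ≅ Dual.inD (Localization.Away f) N))
    (h3 : ∃ (N : Type u) (_ : AddCommGroup N) (_ : Module (R ⧸ Ideal.span ({f} : Set R)) N),
      Module.Flat (R ⧸ Ideal.span ({f} : Set R)) N ∧
        Nonempty ((DRing.LBaseChange (Ideal.Quotient.mk (Ideal.span ({f} : Set R)))).obj M ≅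
          Dual.inD (R ⧸ Ideal.span ({f} : Set R)) N)) :
    ∃ (N : Type u) (_ : AddCommGroup N) (_ : Module R N), Module.Flat R N ∧ Nonempty (M ≅ Dual.inD R N) := by
  have hz : Groth.Agent.DCohLib.AboveZero 1 M := fun i hi => by
    haveI := h1 i (by omega)
    exact ModuleCat.isZero_of_subsingleton _
  obtain ⟨P, hb, hp, ⟨e⟩⟩ := exists_proj_representative (K := M) (n := 0) hz
  have hP := termwiseFlat_of_projective hp
  have hPk : DRing.IsKFlat R P := isKFlat_of_projective hb hp
  obtain ⟨N₂, _, _, hN₂, ⟨e₂⟩⟩ := h2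
  obtain ⟨N₃, _, _, hN₃, ⟨e₃⟩⟩ := h3
  have v₂ := tensVanish_extCx _ hPk e (amp_of_iso e₂.symm (amp_inD_of_flat (ModuleCat.of _ N₂) hN₂))
  have v₃ := tensVanish_extCx _ hPk e (amp_of_iso e₃.symm (amp_inD_of_flat (ModuleCat.of _ N₃) hN₃))
  have hamp : DRing.HasTorAmplitudeIn R 0 0 M := amp_of_iso e (amp_of_tensVanish hPk fun N i hi => by
    rcases hi with hi | hi
    · exact exactAt_of_loc f hP (fun M' => v₂ M' i (Or.inl hi)) (fun j _ hj M' => v₃ M' j (Or.inl (by omega))) N
    · exact ShortComplex.exact_of_isZero_X₂ _ ((MonoidalCategory.tensorLeft N).map_isZero (hb i hi)))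
  obtain ⟨E, hE, hEf, ⟨eE⟩⟩ := hamp
  haveI : E.IsStrictlyGE 0 := (CochainComplex.isStrictlyGE_iff _ _).2 fun i hi => hE i (Or.inl hi)
  haveI : E.IsStrictlyLE 0 := (CochainComplex.isStrictlyLE_iff _ _).2 fun i hi => hE i (Or.inr hi)
  obtain ⟨N, ⟨eN⟩⟩ := E.exists_iso_single 0
  haveI := hEf 0
  refine ⟨N, inferInstance, inferInstance, Module.Flat.of_linearEquiv
    ((HomologicalComplex.singleObjXSelf (ComplexShape.up ℤ) 0 N).symm ≪≫
      ((HomologicalComplex.Hom.isoApp eN 0).symm : ((HomologicalComplex.single (ModuleCat.{u} R) (ComplexShape.up ℤ) 0).obj N).X 0 ≅ E.X 0)).toLinearEquiv, ⟨eE.symm ≪≫ DerivedCategory.Q.mapIso eN ≪≫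
        Groth.Agent.DRingLib.singleQZeroIso N⟩⟩

end Groth.Agent.S12899
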