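import Groth.Statements.S1290
import Groth.Agent.RGFlatLib.Away
-- import your own Groth.Agent.* helpers here

set_option autoImplicit false
set_option linter.style.haveILetI false
set_option maxHeartbeats 1000000
set_option backward.isDefEq.respectTransparency false
universe u
open FlatMor

namespace Groth.Agent.S1290

/-- Relative finite presentation through a finitely presented algebra surjecting onto `C`. -/
theorem relFP_of_surj {R A C L : Type u} [CommRing R] [CommRing A] [CommRing C] [Algebra R A] [Algebra R C]
    [Algebra.FinitePresentation R A] [AddCommGroup L] [Module C L] [Module A L] (f : A →ₐ[R] C)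
    (hf : Function.Surjective f) (h : ∀ (x : A) (m : L), f x • m = x • m) [Module.FinitePresentation A L] :
    FlatCA.RelFinitePresentation R C L := by
  obtain ⟨m, ψ, hψ, hker⟩ := ‹Algebra.FinitePresentation R A›.out
  refine ⟨m, f.comp ψ, hf.comp hψ, ?_⟩
  letI : Algebra (MvPolynomial (Fin m) R) A := ψ.toRingHom.toAlgebra
  letI : Module (MvPolynomial (Fin m) R) L := Module.compHom L (f.comp ψ).toRingHom
  haveI : IsScalarTower (MvPolynomial (Fin m) R) A L := .of_algebraMap_smul fun x m => (h (ψ x) m).symm
  haveI : Module.FinitePresentation (MvPolynomial (Fin m) R) A :=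
    Module.finitePresentation_of_surjective (Algebra.linearMap (MvPolynomial (Fin m) R) A) hψ hker
  exact Module.FinitePresentation.trans (MvPolynomial (Fin m) R) L A

/-- Localised modules are transported to the image ring. -/
theorem fp_transport {P A L L' N : Type u} [CommRing P] [CommRing A] [Algebra P A] (s : P)
    [IsLocalization.Away s A] [AddCommGroup N] [Module P N] [AddCommGroup L] [Module P L] [Module A L]
    [IsScalarTower P A L] [AddCommGroup L'] [Module P L'] [Module A L'] [IsScalarTower P A L']
    (f : N →ₗ[P] L) [IsLocalizedModule (Submonoid.powers s) f] (g : N →ₗ[P] L')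
    [IsLocalizedModule (Submonoid.powers s) g] [Module.FinitePresentation A L] : Module.FinitePresentation A L' := by
  let eA : L ≃ₗ[A] L' := LinearEquiv.extendScalarsOfIsLocalization (Submonoid.powers s) A
    (IsLocalizedModule.linearEquiv (Submonoid.powers s) f g)
  exact Module.finitePresentation_of_surjective eA.toLinearMap eA.surjective (by rw [eA.ker]; exact Submodule.fg_bot)

open MvPolynomial Groth.Agent.GenFree Groth.Agent.RGFlatLib

/-- Finite presentation relative to `R` on a basic open inside the flat locus. -/
theorem relFP_away {R S : Type u} [CommRing R] [CommRing S] [Algebra R S] [Algebra.FiniteType R S]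
    (N : Type u) [AddCommGroup N] [Module S N] [Module R N] [IsScalarTower R S N] [Module.Finite S N]
    (hR : (FlatCA.weakAss R R).Finite) (g : S)
    (hg : ∀ q : PrimeSpectrum S, g ∉ q.asIdeal → Module.Flat R (LocalizedModule q.asIdeal.primeCompl N)) :
    FlatCA.RelFinitePresentation R (Localization.Away g) (LocalizedModule (Submonoid.powers g) N) := by
  classical
  obtain ⟨n, π, hπ⟩ := Algebra.FiniteType.iff_quotient_mvPolynomial''.mp ‹Algebra.FiniteType R S›
  obtain ⟨a, q₀, hq₀⟩ := Module.Finite.exists_fin' S N
  letI : Algebra (MvPolynomial (Fin n) R) S := π.toRingHom.toAlgebra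
  letI : Module (MvPolynomial (Fin n) R) N := Module.compHom N π.toRingHom
  haveI : IsScalarTower (MvPolynomial (Fin n) R) S N := .of_algebraMap_smul fun _ _ => rfl
  haveI : IsScalarTower R (MvPolynomial (Fin n) R) N := .of_algebraMap_smul fun r m => by
    show π (algebraMap R (MvPolynomial (Fin n) R) r) • m = r • m
    rw [π.commutes, algebraMap_smul]
  haveI : IsScalarTower R (MvPolynomial (Fin n) R) S := .of_algebraMap_eq fun r => (π.commutes r).symm
  obtain ⟨g', rfl⟩ := hπ g
  obtain ⟨K', hfg, hle, hsat⟩ := exists_fg_le_sat_weakAss hR hπ q₀ hq₀ g' hg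
  -- `P` is the polynomial ring, `A` its localization at `g'`
  let P := MvPolynomial (Fin n) R
  let A := Localization.Away g'
  let Sg := Localization.Away (π g')
  let L := LocalizedModule (Submonoid.powers (π g')) N
  have hgen : Function.Surjective (genMap (R := R) (n := n) q₀) := genMap_surjective hπ q₀ hq₀
  -- finite presentation over `A`
  haveI hA : Module.FinitePresentation A (LocalizedModule (Submonoid.powers g') N) := by
    refine fp_localizedModule g' K' hfg (Submodule.liftQ K' (genMap q₀) hle)
      (fun y => (hgen y).imp' Submodule.Quotient.mk fun x hx => hx) fun x hx => ?_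
    obtain ⟨x, rfl⟩ := Submodule.Quotient.mk_surjective _ x
    obtain ⟨_, ⟨k, rfl⟩, hk⟩ := hsat (show x ∈ LinearMap.ker (genMap q₀) from LinearMap.mem_ker.mpr hx)
    exact ⟨k, by rw [← Submodule.Quotient.mk_smul, Submodule.Quotient.mk_eq_zero]; exact hk⟩
  -- the map `A → S_g`
  have hu : IsUnit (algebraMap S Sg (π g')) := IsLocalization.Away.algebraMap_isUnit (π g')
  let fAS : A →ₐ[R] Sg :=
    IsLocalization.liftAlgHom (M := Submonoid.powers g') (f := (Algebra.algHom R S Sg).comp π)
      (by
        rintro ⟨_, k, rfl⟩
        show IsUnit (algebraMap S Sg (π (g' ^ k)))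
        rw [map_pow, map_pow]
        exact hu.pow k)
  have hfAS : ∀ x : P, fAS (algebraMap P A x) = algebraMap S Sg (π x) := fun x => by
    show IsLocalization.lift _ (algebraMap P A x) = _
    exact IsLocalization.lift_eq _ x
  have hsurj : Function.Surjective fAS := fun y => by
    obtain ⟨k, s, hs⟩ := IsLocalization.Away.surj (π g') y
    obtain ⟨x, rfl⟩ := hπ s
    obtain ⟨v, hv⟩ := (IsLocalization.Away.algebraMap_isUnit (S := A) g').pow k
    refine ⟨algebraMap P A x * ↑v⁻¹, (hu.pow k).mul_left_inj.mp ?_⟩
    rw [hs, ← hfAS g', ← map_pow, ← map_mul, mul_assoc, ← hv, Units.inv_mul, mul_one, hfAS]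
  letI : Algebra P Sg := ((algebraMap S Sg).comp π.toRingHom).toAlgebra
  haveI : IsScalarTower P S L := inferInstance
  letI : Module A L := Module.compHom L fAS.toRingHom
  haveI : IsScalarTower P A L := .of_algebraMap_smul fun x m => by
    refine (congrArg (· • m) (hfAS x) : fAS (algebraMap P A x) • m = algebraMap S Sg (π x) • m).trans ?_
    rw [algebraMap_smul]
    exact algebraMap_smul S x m
  let mk : N →ₗ[P] L := (LocalizedModule.mkLinearMap (Submonoid.powers (π g')) N).restrictScalars P
  haveI : IsLocalizedModule (Submonoid.powers g') mk := by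
    haveI : IsLocalizedModule (Algebra.algebraMapSubmonoid S (Submonoid.powers g'))
        (LocalizedModule.mkLinearMap (Submonoid.powers (π g')) N) := by
      rw [show Algebra.algebraMapSubmonoid S (Submonoid.powers g') = Submonoid.powers (π g') from
        Submonoid.map_powers _ g']
      infer_instance
    exact IsLocalizedModule.restrictScalars _ _
  haveI : Module.FinitePresentation A L :=
    fp_transport (A := A) g' (LocalizedModule.mkLinearMap (Submonoid.powers g') N) mk
  haveI : Algebra.FinitePresentation P A := IsLocalization.Away.finitePresentation g'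
  haveI : Algebra.FinitePresentation R A := Algebra.FinitePresentation.trans R P A
  exact relFP_of_surj fAS hsurj fun _ _ => rfl

/-- Ring form, X = Spec S, S = Spec R affine: let R be a ring with finitely many weakly associated
primes, S a finite type R-algebra and N a finite S-module. Then the set U of primes q of S with N_q
flat over R is open in Spec S, and every q in U has a basic open neighbourhood D(g) on which N is
flat over R and finitely presented relative to R (finitely presented over a polynomial ring over R
surjecting onto S_g). -/
theorem result {R S : Type u} [CommRing R] [CommRing S] [Algebra R S] [Algebra.FiniteType R S]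
    (hR : (FlatCA.weakAss R R).Finite)
    (N : Type u) [AddCommGroup N] [Module S N] [Module R N] [IsScalarTower R S N] [Module.Finite S N] :
    IsOpen {q : PrimeSpectrum S | FlatCA.FlatAt R q.asIdeal N} ∧
    ∀ (q : Ideal S) [q.IsPrime], FlatCA.FlatAt R q N → ∃ g : S, g ∉ q ∧
      Module.Flat R (LocalizedModule (Submonoid.powers g) N) ∧
      FlatCA.RelFinitePresentation R (Localization.Away g) (LocalizedModule (Submonoid.powers g) N) := by
  have hopen := Groth.Agent.RGFlatLib.isOpen_flat_locus_weakAss (R := R) (S := S) (M := N) hR
  refine ⟨hopen, fun q hq h => ?_⟩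
  obtain ⟨_, ⟨g, rfl⟩, hgq, hsub⟩ := PrimeSpectrum.isTopologicalBasis_basic_opens.exists_subset_of_mem_open
    (show (⟨q, hq⟩ : PrimeSpectrum S) ∈ {q : PrimeSpectrum S | Module.Flat R (LocalizedModule q.asIdeal.primeCompl N)} from h)
    hopen
  exact ⟨g, hgq, (Groth.Agent.RGFlatLib.fp_and_flat_away hR g fun q' hq' => hsub hq').2,
    relFP_away N hR g fun q' hq' => hsub hq'⟩

end Groth.Agent.S1290
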