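import Groth.Statements.S12903
import Groth.Agent.LocZLib.GammaQCoh

set_option autoImplicit false
universe u
open CategoryTheory CategoryTheory.Limits AlgebraicGeometry Opposite
open Coherent

namespace Groth.Agent.S12903

open CategoryTheory CategoryTheory.Limits AlgebraicGeometry

open Groth.Agent.QCohLib Groth.Agent.CohBase in
theorem main {U X : Scheme.{u}} (j : U ⟶ X) [IsOpenImmersion j] (F : X.Modules) [Coh.IsQCoh F] {V : X.Opens}
    (hV : IsAffineOpen V) (I : Ideal Γ(X, V)) (hI : I.FG)
    (hZ : ∀ x : X, x ∈ V → (x ∉ Set.range j.base ↔ ∀ f ∈ I, x ∉ X.basicOpen f))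
    (s : Γ(F, V)) :
    (∃ t, ((CxOX.gammaZι j).app F).app V t = s) ↔ ∃ n : ℕ, ∀ a ∈ I ^ n, a • s = 0 := by
  have hsc : ∀ a : Γ(X, V), sc a (le_refl V) s = a • s := fun a => by
    rw [sc_apply]
    exact congrArg (· • s) (congr($(X.presheaf.map_id (op V)) a))
  have h1 : (∃ t, ((CxOX.gammaZι j).app F).app V t = s) ↔
      F.presheaf.map (homOfLE (j.image_preimage_le V)).op s = 0 := by
    constructor
    · rintro ⟨t, rfl⟩
      have h : ((CxOX.gammaZι j).app F) ≫ (Scheme.Modules.restrictAdjunction j).unit.app F = 0 := kernel.condition _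
      have h' := congr(($h).app V t)
      exact h'
    · intro h
      refine kernel_app_exact ((Scheme.Modules.restrictAdjunction j).unit.app F) V s ?_
      rw [Scheme.Modules.restrictAdjunction_unit_app_app]
      exact h
  have h2 : F.presheaf.map (homOfLE (j.image_preimage_le V)).op s = 0 ↔
      ∀ f ∈ I, F.presheaf.map (homOfLE (X.basicOpen_le f)).op s = 0 := by
    have hle : ∀ f ∈ I, X.basicOpen f ≤ j ''ᵁ j ⁻¹ᵁ V := fun f hf x hx => by
      rw [Scheme.Hom.image_preimage_eq_opensRange_inf]
      exact ⟨not_not.1 fun hn => (hZ x (X.basicOpen_le f hx)).1 hn f hf hx, X.basicOpen_le f hx⟩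
    constructor
    · intro h f hf
      have h' := congrArg (F.presheaf.map (homOfLE (hle f hf)).op) h
      rw [map_zero, ← ConcreteCategory.comp_apply, ← F.presheaf.map_comp] at h'
      exact h'
    · intro h
      refine TopCat.Sheaf.eq_of_locally_eq' (X := X.carrier) ⟨F.presheaf, F.isSheaf⟩
        (fun f : I => X.basicOpen f.1) (j ''ᵁ j ⁻¹ᵁ V) (fun f => homOfLE (hle f.1 f.2)) (fun x hx => ?_) _ 0
        fun f => ?_
      · rw [Scheme.Hom.image_preimage_eq_opensRange_inf] at hx
        by_contra hc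
        refine (hZ x hx.2).2 (fun f hf hxf => hc (TopologicalSpace.Opens.mem_iSup.2 ⟨⟨f, hf⟩, hxf⟩)) hx.1
      · rw [map_zero]
        show F.presheaf.map (homOfLE (hle f.1 f.2)).op (F.presheaf.map _ s) = 0
        rw [← ConcreteCategory.comp_apply, ← F.presheaf.map_comp]
        exact h f.1 f.2
  rw [h1, h2]
  constructor
  · intro h
    obtain ⟨n, hn⟩ := Ideal.exists_pow_le_of_le_radical_of_fg (J := Ideal.torsionOf Γ(X, V) Γ(F, V) s) (I := I)
      (fun f hf => by
        obtain ⟨n, hn⟩ := (locAt F hV).kill f s (h f hf)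
        exact ⟨n, (Ideal.mem_torsionOf_iff s _).2 ((hsc _).symm.trans hn)⟩) hI
    exact ⟨n, fun a ha => (Ideal.mem_torsionOf_iff s a).1 (hn ha)⟩
  · rintro ⟨n, hn⟩ f hf
    have h := congrArg (F.presheaf.map (homOfLE (X.basicOpen_le f)).op) (hn _ (Ideal.pow_mem_pow hf n))
    rw [map_zero, Scheme.Modules.map_smul, map_pow] at h
    have hu : IsUnit (X.presheaf.map (homOfLE (X.basicOpen_le f)).op f) := X.toRingedSpace.isUnit_res_basicOpen f
    exact (hu.pow n).smul_eq_zero.1 h


/-- Let X be a scheme, j : U → X a quasi-compact open immersion with closed complement Z, F a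
quasi-coherent O_X-module, V an affine open of X and I a finitely generated ideal of Γ(V, O_X)
cutting out Z ∩ V (a point of V lies outside U if and only if it lies in no basic open X_f with f ∈
I). Then a section s of F over V belongs to the subsheaf Γ_Z(F) of sections supported in Z (the
kernel of F → j_*(F|_U)) if and only if I^n s = 0 for some n. -/
theorem result {U X : Scheme.{u}} (j : U ⟶ X) [IsOpenImmersion j] [QuasiCompact j]
    (F : X.Modules) (hF : Coh.IsQCoh F) (V : X.Opens) (hV : IsAffineOpen V)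
    (I : Ideal (X.ringCatSheaf.obj.obj (op V))) (hI : I.FG)
    (hZ : ∀ x : X, x ∈ V → (x ∉ Set.range j.base ↔ ∀ f ∈ I, x ∉ X.basicOpen (f : Γ(X, V))))
    (s : F.val.obj (op V)) :
    s ∈ Set.range ((((CxOX.gammaZι j).app F).val.app (op V)).hom) ↔ ∃ n : ℕ, ∀ a ∈ I ^ n, a • s = 0 := by
  haveI := hF
  exact main j F hV I hI hZ s


end Groth.Agent.S12903
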