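import Groth.Statements.S12906
import Mathlib

set_option autoImplicit false
universe u
open CAlgX

namespace Groth.Agent.S12906

/-- Let R be a commutative ring, t a natural number and Φ a (t+1) × t matrix over R. For each row index
i let Δ_i be (-1)^i times the determinant of the t × t matrix obtained from Φ by deleting row i.
Then for every column j one has Σ_i Δ_i Φ_{ij} = 0; that is, the row (Δ_0, …, Δ_t) followed by Φ is
the zero map. (The published statement multiplies every Δ_i by one fixed ring element, which changes
nothing.) -/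
theorem result {R : Type u} [CommRing R] (t : ℕ)
    (Φ : Matrix (Fin (t + 1)) (Fin t) R) (j : Fin t) :
    ∑ i : Fin (t + 1), (-1 : R) ^ (i : ℕ) * (Φ.submatrix i.succAbove id).det * Φ i j = 0 := by
  have h := Matrix.det_succ_column_zero (fun i : Fin (t + 1) => (Fin.cons (Φ i j) (Φ i) : Fin (t + 1) → R))
  have h0 : Matrix.det (fun i : Fin (t + 1) => (Fin.cons (Φ i j) (Φ i) : Fin (t + 1) → R)) = 0 :=
    Matrix.det_zero_of_column_eq (Fin.succ_ne_zero j).symm fun i => by rw [Fin.cons_zero, Fin.cons_succ]
  rw [h0] at h
  refine (h.trans (Finset.sum_congr rfl fun i _ => ?_)).symm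
  have hsub : Matrix.submatrix (fun i : Fin (t + 1) => (Fin.cons (Φ i j) (Φ i) : Fin (t + 1) → R)) i.succAbove Fin.succ =
      Φ.submatrix i.succAbove id := by
    ext a b; simp [Matrix.submatrix]
  rw [hsub, Fin.cons_zero]
  ring

end Groth.Agent.S12906
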