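import Groth.Statements.S12907
import Mathlib
import Groth.Agent.DeformLib.HilbertBurch

set_option autoImplicit false
universe u
open CAlgX

namespace Groth.Agent.S12907
open scoped Pointwise

open Matrix in
theorem exists_minor_notMem {R : Type u} [CommRing R] {m n : ℕ} (Ψ : Matrix (Fin n) (Fin m) R) (P : Ideal R) [P.IsPrime]
    (h : ∀ v : Fin m → R, (∀ i, (Ψ *ᵥ v) i ∈ P) → ∀ j, v j ∈ P) :
    ∃ f : Fin m → Fin n, (Ψ.submatrix f id).det ∉ P := by
  classical
  let D := R ⧸ P
  let K := FractionRing D
  let φ : R →+* K := (algebraMap D K).comp (Ideal.Quotient.mk P)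
  have hcol : LinearIndependent K (fun j => fun i => φ (Ψ i j)) := by
    rw [← LinearIndependent.iff_fractionRing D K, Fintype.linearIndependent_iff]
    intro g hg j
    choose v hv using fun j => Ideal.Quotient.mk_surjective (g j)
    rw [← hv j, Ideal.Quotient.eq_zero_iff_mem]
    refine h v (fun i => ?_) j
    rw [← Ideal.Quotient.eq_zero_iff_mem]
    refine IsFractionRing.injective D K ?_
    rw [map_zero, show (0 : K) = (0 : Fin n → K) i from rfl, ← hg, Finset.sum_apply]
    simp only [Matrix.mulVec, dotProduct, map_sum, map_mul, Pi.smul_apply]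
    refine Finset.sum_congr rfl fun j _ => ?_
    rw [← hv j, Algebra.smul_def, mul_comm]
    rfl
  let B : Matrix (Fin n) (Fin m) K := Ψ.map φ
  have hrank : B.rank = m := by
    rw [Matrix.rank_eq_finrank_span_cols]
    exact (finrank_span_eq_card hcol).trans (Fintype.card_fin m)
  have hrow : Module.finrank K (Submodule.span K (Set.range B.row)) = m := by
    rw [← Matrix.rank_eq_finrank_span_row, hrank]
  obtain ⟨κ, ι, -, hspan, hli⟩ := exists_linearIndependent' K B.row
  haveI : Finite κ := hli.finite
  letI := Fintype.ofFinite κ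
  have hc : Fintype.card κ = m := by rw [← finrank_span_eq_card hli, hspan]; exact hrow
  let e := (Fintype.equivFinOfCardEq hc).symm
  refine ⟨fun i => ι (e i), fun hmem => ?_⟩
  have h1 : LinearIndependent K (B.submatrix (fun i => ι (e i)) id).row := hli.comp e e.injective
  have h2 := Matrix.linearIndependent_rows_iff_isUnit.1 h1
  rw [Matrix.isUnit_iff_isUnit_det] at h2
  refine h2.ne_zero ?_
  have h3 : B.submatrix (fun i => ι (e i)) id = (Ψ.submatrix (fun i => ι (e i)) id).map φ := rfl
  rw [h3, ← RingHom.mapMatrix_apply, ← RingHom.map_det]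
  show algebraMap D K (Ideal.Quotient.mk P _) = 0
  rw [Ideal.Quotient.eq_zero_iff_mem.2 hmem, map_zero]

theorem exists_mem_forall_notMem {R : Type u} [CommRing R] (I : Ideal R) (S : Set (Ideal R)) (hS : S.Finite)
    (hp : ∀ P ∈ S, P.IsPrime) (h : ∀ P ∈ S, ¬ I ≤ P) : ∃ x ∈ I, ∀ P ∈ S, x ∉ P := by
  classical
  by_contra hc
  push_neg at hc
  have : (I : Set R) ⊆ ⋃ P ∈ (hS.toFinset : Set (Ideal R)), (P : Set R) := fun x hx => by
    obtain ⟨P, hP, hxP⟩ := hc x hx
    exact Set.mem_biUnion (hS.mem_toFinset.2 hP) hxP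
  rw [Ideal.subset_union_prime (f := fun P => P) ⊥ ⊥ (fun P hP _ _ => hp P (hS.mem_toFinset.1 hP))] at this
  obtain ⟨P, hP, hle⟩ := this
  exact h P (hS.mem_toFinset.1 hP) hle


/-- Let R be a Noetherian ring and I a nonzero ideal admitting a free resolution 0 → R^m → R^n → I → 0:
an injective matrix Ψ with n rows and m columns, and a linear map π : R^n → R with image I whose
kernel is the image of Ψ. Then n = m + 1; there is a non-zero-divisor a with I = a · I_m(Ψ), where
I_m(Ψ) is the ideal generated by the m × m minors of Ψ; and the I_m(Ψ)-depth of R is at least 2.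
(The published statement also asserts that this depth is exactly 2; only the lower bound is stated
here. The hypothesis that I is nonzero is implicit in the published statement.) -/
theorem result {R : Type u} [CommRing R] [IsNoetherianRing R] (m n : ℕ)
    (Ψ : Matrix (Fin n) (Fin m) R) (π : (Fin n → R) →ₗ[R] R)
    (hΨ : LinearMap.ker Ψ.mulVecLin = ⊥) (hex : LinearMap.ker π = LinearMap.range Ψ.mulVecLin)
    (hI : LinearMap.range π ≠ ⊥) :
    n = m + 1 ∧
      (∃ a : R, a ∈ nonZeroDivisors R ∧ LinearMap.range π = Ideal.span {a} * CAlgX.minorIdeal Ψ m) ∧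
      2 ≤ LocCoh.idealDepth (CAlgX.minorIdeal Ψ m) R := by
  classical
  have hinj : Function.Injective Ψ.mulVecLin := LinearMap.ker_eq_bot.1 hΨ
  let p : Fin n → R := fun i => π (Pi.single i 1)
  have hπ : ∀ w : Fin n → R, π w = ∑ i, w i * p i := fun w => by
    conv_lhs => rw [← Finset.univ_sum_single w]
    rw [map_sum]
    refine Finset.sum_congr rfl fun i _ => ?_
    rw [show Pi.single i (w i) = w i • (Pi.single i (1 : R) : Fin n → R) from by rw [← Pi.single_smul, smul_eq_mul, mul_one], map_smul, smul_eq_mul]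
  have hrange : LinearMap.range π = Ideal.span (Set.range p) := by
    refine le_antisymm ?_ (Ideal.span_le.2 (by rintro _ ⟨i, rfl⟩; exact ⟨_, rfl⟩))
    rintro _ ⟨w, rfl⟩
    rw [hπ]
    exact sum_mem fun i _ => Ideal.mul_mem_left _ _ (Ideal.subset_span ⟨i, rfl⟩)
  let Im : Ideal R := CAlgX.minorIdeal Ψ m
  have hminor : ∀ (P : Ideal R) [P.IsPrime], (∀ v : Fin m → R, (∀ i, (Ψ.mulVec v) i ∈ P) → ∀ j, v j ∈ P) → ¬ Im ≤ P := by
    intro P _ h hle
    obtain ⟨f, hf⟩ := exists_minor_notMem Ψ P h
    exact hf (hle (Ideal.subset_span ⟨(f, id), rfl⟩))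
  have hass0 : ∀ P ∈ associatedPrimes R R, ∃ a : R, ∀ z : R, z ∈ P ↔ z * a = 0 := by
    intro P hP
    obtain ⟨-, a, ha⟩ := isAssociatedPrime_iff.1 hP
    refine ⟨a, fun z => ?_⟩
    rw [ha, Submodule.mem_colon_singleton, Submodule.mem_bot, smul_eq_mul]
  have hPinj : ∀ P ∈ associatedPrimes R R, ∀ v : Fin m → R, (∀ i, (Ψ.mulVec v) i ∈ P) → ∀ j, v j ∈ P := by
    intro P hP v hv j
    obtain ⟨a, ha⟩ := hass0 P hP
    have : Ψ.mulVecLin (a • v) = Ψ.mulVecLin 0 := by
      rw [map_smul, map_zero]
      funext i
      show a * (Ψ.mulVec v) i = 0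
      rw [mul_comm]; exact (ha _).1 (hv i)
    rw [ha, mul_comm]
    exact congrFun (hinj this) j
  obtain ⟨x, hxI, hx⟩ := exists_mem_forall_notMem Im _ (associatedPrimes.finite R R) (fun P hP => hP.isPrime)
    (fun P hP => by haveI := hP.isPrime; exact hminor P (hPinj P hP))
  have hxn : x ∈ nonZeroDivisors R := by
    rw [mem_nonZeroDivisors_iff_right]
    intro z hz
    by_contra hz0
    obtain ⟨P, hP, hle⟩ := exists_le_isAssociatedPrime_of_isNoetherianRing R z hz0
    exact hx P hP (hle (by rw [Submodule.mem_colon_singleton, Submodule.mem_bot, smul_eq_mul, mul_comm]; exact hz))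
  have hQinj : ∀ Q ∈ associatedPrimes R (R ⧸ Ideal.span {x}), ¬ Im ≤ Q := by
    intro Q hQ
    haveI := hQ.isPrime
    obtain ⟨-, t', hQt⟩ := isAssociatedPrime_iff.1 hQ
    obtain ⟨t, rfl⟩ := Ideal.Quotient.mk_surjective t'
    have hQ' : ∀ z : R, z ∈ Q ↔ z * t ∈ Ideal.span {x} := by
      intro z
      rw [hQt, Submodule.mem_colon_singleton, Submodule.mem_bot, Algebra.smul_def, Ideal.Quotient.algebraMap_eq,
        ← map_mul, Ideal.Quotient.eq_zero_iff_mem]
    refine hminor Q fun v hv j => ?_
    choose w hw using fun i => Ideal.mem_span_singleton'.1 ((hQ' _).1 (hv i))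
    have h0 : π w = 0 := by
      refine (mem_nonZeroDivisors_iff_right.1 hxn) _ ?_
      rw [mul_comm, ← smul_eq_mul, ← map_smul, show x • w = Ψ.mulVecLin (t • v) from by
        funext i
        rw [map_smul]
        show x * w i = t * Ψ.mulVec v i
        rw [mul_comm, hw i, mul_comm]]
      have : Ψ.mulVecLin (t • v) ∈ LinearMap.ker π := hex ▸ ⟨_, rfl⟩
      exact this
    obtain ⟨u, hu⟩ : w ∈ LinearMap.range Ψ.mulVecLin := hex ▸ h0
    have : t • v = x • u := hinj (by
      rw [map_smul, map_smul, hu]
      funext i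
      show t * Ψ.mulVec v i = x * w i
      rw [mul_comm x, hw i, mul_comm])
    rw [hQ', Ideal.mem_span_singleton']
    exact ⟨u j, by rw [mul_comm (v j), mul_comm (u j)]; exact (congrFun this j).symm⟩
  obtain ⟨y, hyI, hy⟩ := exists_mem_forall_notMem Im _ (associatedPrimes.finite R (R ⧸ Ideal.span {x})) (fun P hP => hP.isPrime) hQinj
  have hreg : ∀ z, y * z ∈ Ideal.span {x} → z ∈ Ideal.span {x} := by
    intro z hz
    by_contra hz0
    obtain ⟨Q, hQ, hle⟩ := exists_le_isAssociatedPrime_of_isNoetherianRing R (Ideal.Quotient.mk (Ideal.span {x}) z) (by rwa [ne_eq, Ideal.Quotient.eq_zero_iff_mem])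
    refine hy Q hQ (hle ?_)
    rw [Submodule.mem_colon_singleton, Submodule.mem_bot, Algebra.smul_def, Ideal.Quotient.algebraMap_eq, ← map_mul, Ideal.Quotient.eq_zero_iff_mem]
    exact hz
  have hdet : ∀ (f : Fin m → Fin n) (g : Fin m → Fin m), ¬ Function.Injective f → (Ψ.submatrix f g).det = 0 := by
    intro f g hf
    obtain ⟨a, b, hab, hne⟩ := Function.not_injective_iff.1 hf
    exact Matrix.det_zero_of_row_eq hne (by funext c; simp [hab])
  have hImT : Im = ⊤ → n = m → False := by
    intro hT hnm
    subst hnm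
    refine hI (LinearMap.range_eq_bot.2 ?_)
    have hu : IsUnit Ψ.det := by
      rw [← Ideal.span_singleton_eq_top, eq_top_iff, ← hT]
      refine Ideal.span_le.2 ?_
      rintro _ ⟨⟨f, g⟩, rfl⟩
      by_cases hf : Function.Injective f
      · by_cases hg : Function.Injective g
        · show (Ψ.submatrix f g).det ∈ _
          rw [show Ψ.submatrix f g = (Ψ.submatrix (Equiv.ofBijective f (Finite.injective_iff_bijective.1 hf)) id).submatrix id (Equiv.ofBijective g (Finite.injective_iff_bijective.1 hg)) from rfl,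
            Matrix.det_permute', Matrix.det_permute]
          exact Ideal.mul_mem_left _ _ (Ideal.mul_mem_left _ _ (Ideal.mem_span_singleton_self _))
        · obtain ⟨a, b, hab, hne⟩ := Function.not_injective_iff.1 hg
          show (Ψ.submatrix f g).det ∈ _
          rw [Matrix.det_zero_of_column_eq (M := Ψ.submatrix f g) hne (fun c => congrArg (Ψ (f c)) hab)]
          exact zero_mem _
      · show (Ψ.submatrix f g).det ∈ _
        rw [hdet f g hf]; exact zero_mem _
    refine LinearMap.ext fun w => ?_
    have hw : Ψ.mulVecLin (Ψ⁻¹.mulVec w) = w := by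
      rw [Matrix.mulVecLin_apply, Matrix.mulVec_mulVec, Matrix.mul_nonsing_inv _ hu, Matrix.one_mulVec]
    have : w ∈ LinearMap.ker π := hex ▸ ⟨_, hw⟩
    exact this
  have hmn : m ≤ n := by
    by_contra h
    have hzero : Im = ⊥ := by
      rw [eq_bot_iff]
      refine Ideal.span_le.2 ?_
      rintro _ ⟨⟨f, g⟩, rfl⟩
      show (Ψ.submatrix f g).det ∈ _
      rw [hdet f g (fun hf => by have := Fintype.card_le_of_injective f hf; simp at this; omega)]
      exact zero_mem _
    rw [hzero, Ideal.mem_bot] at hxI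
    subst hxI
    haveI : Subsingleton R := subsingleton_of_zero_eq_one (((mem_nonZeroDivisors_iff_right.1 hxn) 1 (mul_zero _)).symm)
    exact hI (Subsingleton.elim _ _)
  have hne : n ≠ m := by
    intro hnm
    refine hImT ?_ hnm
    subst hnm
    have hprinc : Im ≤ Ideal.span {Ψ.det} := by
      refine Ideal.span_le.2 ?_
      rintro _ ⟨⟨f, g⟩, rfl⟩
      show (Ψ.submatrix f g).det ∈ _
      by_cases hf : Function.Injective f
      · by_cases hg : Function.Injective g
        · rw [show Ψ.submatrix f g = (Ψ.submatrix (Equiv.ofBijective f (Finite.injective_iff_bijective.1 hf)) id).submatrix id (Equiv.ofBijective g (Finite.injective_iff_bijective.1 hg)) from rfl,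
            Matrix.det_permute', Matrix.det_permute]
          exact Ideal.mul_mem_left _ _ (Ideal.mul_mem_left _ _ (Ideal.mem_span_singleton_self _))
        · obtain ⟨a, b, hab, hne⟩ := Function.not_injective_iff.1 hg
          rw [Matrix.det_zero_of_column_eq (M := Ψ.submatrix f g) hne (fun c => congrArg (Ψ (f c)) hab)]
          exact zero_mem _
      · rw [hdet f g hf]; exact zero_mem _
    obtain ⟨s, hs⟩ := Ideal.mem_span_singleton'.1 (hprinc hxI)
    obtain ⟨s', hs'⟩ := Ideal.mem_span_singleton'.1 (hprinc hyI)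
    have h1 : y * s ∈ Ideal.span {x} := Ideal.mem_span_singleton'.2 ⟨s', by rw [← hs, ← hs']; ring⟩
    obtain ⟨w, hw⟩ := Ideal.mem_span_singleton'.1 (hreg s h1)
    have h2 : Ψ.det * w = 1 := by
      refine sub_eq_zero.1 ((mem_nonZeroDivisors_iff_right.1 hxn) _ ?_)
      linear_combination Ψ.det * hw + hs
    rw [Ideal.eq_top_iff_one, ← h2]
    exact Im.mul_mem_right _ (Ideal.subset_span ⟨(id, id), rfl⟩)
  have hItop : ∀ P ∈ associatedPrimes R R, ¬ Ideal.span (Set.range p) ≤ P := by
    intro P hP hle
    haveI := hP.isPrime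
    obtain ⟨a, ha⟩ := hass0 P hP
    obtain ⟨f, hf⟩ := exists_minor_notMem Ψ P (hPinj P hP)
    have : ∀ i, ∃ w, Ψ.mulVecLin w = Pi.single i a := fun i => by
      have : (Pi.single i a : Fin n → R) ∈ LinearMap.ker π := by
        rw [LinearMap.mem_ker, hπ, Finset.sum_eq_single i]
        · rw [Pi.single_eq_same, mul_comm]; exact (ha _).1 (hle (Ideal.subset_span ⟨i, rfl⟩))
        · intro b _ hb; rw [Pi.single_eq_of_ne hb, zero_mul]
        · exact fun h => absurd (Finset.mem_univ i) h
      rw [hex] at this
      exact this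
    choose w hw using this
    obtain ⟨i, hi⟩ : ∃ i, ∀ s, f s ≠ i := by
      by_contra h
      push_neg at h
      have := Fintype.card_le_of_surjective f h
      simp at this; omega
    let M := Ψ.submatrix f id
    have e1 : M.mulVec (w i) = 0 := by
      funext s
      show Ψ.mulVec (w i) (f s) = 0
      rw [show Ψ.mulVec (w i) = Pi.single i a from hw i, Pi.single_eq_of_ne (hi s)]
    have e2 : M.det • w i = 0 := by
      have := congrArg (M.adjugate.mulVec) e1
      rwa [Matrix.mulVec_mulVec, Matrix.adjugate_mul, Matrix.smul_mulVec, Matrix.one_mulVec, Matrix.mulVec_zero] at this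
    have e3 := congrArg Ψ.mulVecLin e2
    rw [map_smul, map_zero, hw i] at e3
    have e4 := congrFun e3 i
    rw [Pi.smul_apply, Pi.single_eq_same, Pi.zero_apply, smul_eq_mul] at e4
    exact hf ((ha _).2 e4)
  obtain ⟨z₀, hz₀I, hz₀⟩ := exists_mem_forall_notMem (Ideal.span (Set.range p)) _ (associatedPrimes.finite R R) (fun P hP => hP.isPrime) hItop
  have hz₀n : z₀ ∈ nonZeroDivisors R := by
    rw [mem_nonZeroDivisors_iff_right]
    intro z hz
    by_contra hz0
    obtain ⟨P, hP, hle⟩ := exists_le_isAssociatedPrime_of_isNoetherianRing R z hz0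
    exact hz₀ P hP (hle (by rw [Submodule.mem_colon_singleton, Submodule.mem_bot, smul_eq_mul, mul_comm]; exact hz))
  have hn : n = m + 1 := by
    by_contra hn
    haveI : Nontrivial R := by
      by_contra h
      rw [not_nontrivial_iff_subsingleton] at h
      exact hI (Subsingleton.elim _ _)
    obtain ⟨P, hPmax⟩ := associatedPrimes.nonempty R R
    haveI := hPmax.isPrime
    obtain ⟨i₀, hi₀⟩ : ∃ i₀, p i₀ ∉ P := by
      by_contra h
      push_neg at h
      exact hItop P hPmax (Ideal.span_le.2 (by rintro _ ⟨i, rfl⟩; exact h i))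
    let D := R ⧸ P
    let Φ : Matrix (Fin n) (Fin m) D := Ψ.map (Ideal.Quotient.mk P)
    let u : Fin n → Fin n → D := fun j => Pi.single j (Ideal.Quotient.mk P (p i₀)) - Pi.single i₀ (Ideal.Quotient.mk P (p j))
    have hu : ∀ j, u j ∈ Submodule.span D (Set.range fun c : Fin m => fun i => Φ i c) := by
      intro j
      have hk : (Pi.single j (p i₀) - Pi.single i₀ (p j) : Fin n → R) ∈ LinearMap.ker π := by
        rw [LinearMap.mem_ker, map_sub, hπ, hπ, Finset.sum_eq_single j, Finset.sum_eq_single i₀, Pi.single_eq_same, Pi.single_eq_same, mul_comm, sub_self] <;>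
          first | (intro b _ hb; rw [Pi.single_eq_of_ne hb, zero_mul]) | (intro h; exact absurd (Finset.mem_univ _) h)
      rw [hex] at hk
      obtain ⟨v, hv⟩ := hk
      have : u j = ∑ c, Ideal.Quotient.mk P (v c) • fun i => Φ i c := by
        funext i
        have := congrArg (Ideal.Quotient.mk P) (congrFun hv i)
        simp only [Matrix.mulVecLin_apply, Matrix.mulVec, dotProduct, map_sum, map_mul, Pi.sub_apply, map_sub, Pi.single_apply, apply_ite (Ideal.Quotient.mk P), map_zero] at this
        simp only [u, Pi.sub_apply, Pi.single_apply, Finset.sum_apply, Pi.smul_apply, smul_eq_mul, Φ, Matrix.map_apply]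
        rw [← this]
        exact Finset.sum_congr rfl fun c _ => mul_comm _ _
      rw [this]
      exact sum_mem fun c _ => Submodule.smul_mem _ _ (Submodule.subset_span ⟨c, rfl⟩)
    have hli : LinearIndependent D (fun j : {j : Fin n // j ≠ i₀} => u j.1) := by
      rw [Fintype.linearIndependent_iff]
      intro g hg j
      have := congrFun hg j.1
      simp only [Finset.sum_apply, Pi.smul_apply, smul_eq_mul, u, Pi.sub_apply, Pi.zero_apply] at this
      rw [Finset.sum_eq_single j] at this
      · simp [Pi.single_apply, j.2] at this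
        exact this.resolve_right (fun h => hi₀ (Ideal.Quotient.eq_zero_iff_mem.1 h))
      · intro b _ hb
        simp [Pi.single_apply, j.2, Subtype.coe_ne_coe.2 (Ne.symm hb)]
      · exact fun h => absurd (Finset.mem_univ _) h
    have hle : Submodule.span D (Set.range fun j : {j : Fin n // j ≠ i₀} => u j.1) ≤ Submodule.span D (Set.range fun c : Fin m => fun i => Φ i c) :=
      Submodule.span_le.2 (by rintro _ ⟨j, rfl⟩; exact hu _)
    have h1 := finrank_span_eq_card hli
    have h2 := finrank_range_le_card (R := D) (fun c : Fin m => fun i => Φ i c)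
    have h3 := Submodule.finrank_mono hle
    simp only [Set.finrank, Fintype.card_fin, Fintype.card_subtype_compl, Fintype.card_subtype_eq] at h1 h2
    omega
  subst hn
  have hmnr : Im = Ideal.span (Set.range (Groth.Agent.DeformLib.mnr Ψ)) := by
    refine le_antisymm (Ideal.span_le.2 ?_) (Ideal.span_le.2 ?_)
    · rintro _ ⟨⟨f, g⟩, rfl⟩
      show (Ψ.submatrix f g).det ∈ _
      by_cases hf : Function.Injective f
      · by_cases hg : Function.Injective g
        · obtain ⟨i, hi⟩ : ∃ i, ∀ s, f s ≠ i := by
            by_contra h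
            push_neg at h
            have := Fintype.card_le_of_surjective f h
            simp at this
          choose σ hσ using fun s => Fin.exists_succAbove_eq (hi s)
          have hσi : Function.Injective σ := fun a b h => hf (by rw [← hσ a, ← hσ b, h])
          rw [show Ψ.submatrix f g = ((Ψ.submatrix i.succAbove id).submatrix (Equiv.ofBijective σ (Finite.injective_iff_bijective.1 hσi)) id).submatrix id (Equiv.ofBijective g (Finite.injective_iff_bijective.1 hg)) from by
              ext a b; simp [hσ],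
            Matrix.det_permute', Matrix.det_permute]
          refine Ideal.mul_mem_left _ _ (Ideal.mul_mem_left _ _ ?_)
          have e : (Ψ.submatrix i.succAbove id).det = (-1) ^ (i : ℕ) * Groth.Agent.DeformLib.mnr Ψ i := by
            rw [Groth.Agent.DeformLib.mnr, ← mul_assoc, ← pow_add, ← two_mul, pow_mul, neg_one_sq, one_pow, one_mul]
          rw [e]
          exact Ideal.mul_mem_left _ _ (Ideal.subset_span ⟨i, rfl⟩)
        · obtain ⟨a, b, hab, hne⟩ := Function.not_injective_iff.1 hg
          rw [Matrix.det_zero_of_column_eq (M := Ψ.submatrix f g) hne (fun c => congrArg (Ψ (f c)) hab)]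
          exact zero_mem _
      · rw [hdet f g hf]; exact zero_mem _
    · rintro _ ⟨i, rfl⟩
      exact Ideal.mul_mem_left _ _ (Ideal.subset_span ⟨(i.succAbove, id), rfl⟩)
  have hp : ∀ j, ∑ i, p i * Ψ i j = 0 := fun j => by
    have : Ψ.mulVecLin (Pi.single j 1) ∈ LinearMap.ker π := hex ▸ ⟨_, rfl⟩
    rw [LinearMap.mem_ker, hπ] at this
    rw [← this]
    refine Finset.sum_congr rfl fun i _ => ?_
    simp [Matrix.mulVec, dotProduct, Pi.single_apply, mul_comm]
  obtain ⟨c, hc⟩ := Groth.Agent.DeformLib.exists_eq_smul_mnr Ψ p hp (hmnr.le hxI) (hmnr.le hyI) hxn hreg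
  have hspan : LinearMap.range π = Ideal.span {c} * Im := by
    rw [hrange, hmnr, Ideal.span_mul_span']
    congr 1
    ext z
    simp only [Set.singleton_mul, Set.mem_image, Set.mem_range, exists_exists_eq_and, hc]
  refine ⟨rfl, ⟨c, mem_nonZeroDivisors_iff_right.2 fun z hz => (mem_nonZeroDivisors_iff_right.1 hz₀n) z ?_, hspan⟩, ?_⟩
  · have : z₀ ∈ Ideal.span {c} * Im := by rw [← hspan, hrange]; exact hz₀I
    obtain ⟨w, -, rfl⟩ := Ideal.mem_span_singleton_mul.1 this
    rw [← mul_assoc, hz, zero_mul]
  · unfold LocCoh.idealDepth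
    split
    · exact le_top
    · refine le_iSup₂_of_le [x, y] ⟨?_, by
        intro r hr
        simp only [List.mem_cons, List.not_mem_nil, or_false] at hr
        rcases hr with rfl | rfl
        · exact hxI
        · exact hyI⟩ le_rfl
      rw [RingTheory.Sequence.isWeaklyRegular_cons_iff, RingTheory.Sequence.isWeaklyRegular_singleton_iff]
      have hmem : ∀ z : R, z ∈ (x • ⊤ : Submodule R R) ↔ z ∈ Ideal.span {x} := fun z => by
        rw [← Submodule.ideal_span_singleton_smul, smul_eq_mul, Ideal.mul_top]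
      refine ⟨isSMulRegular_iff_right_eq_zero_of_smul.2 fun z hz => (mem_nonZeroDivisors_iff_right.1 hxn) z (by rw [mul_comm]; exact hz),
        isSMulRegular_iff_right_eq_zero_of_smul.2 fun q hq => ?_⟩
      obtain ⟨z, rfl⟩ := Submodule.Quotient.mk_surjective _ q
      rw [← Submodule.Quotient.mk_smul, Submodule.Quotient.mk_eq_zero, hmem] at hq
      rw [Submodule.Quotient.mk_eq_zero, hmem]
      exact hreg z hq

end Groth.Agent.S12907
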