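import Groth.Statements.S12909
import Mathlib

set_option autoImplicit false
universe u
open CAlgX

namespace Groth.Agent.S12909
open TensorProduct in
theorem split_of_ann {R : Type u} [CommRing R] [IsLocalRing R] (a : R)
    (ha : ∀ z, z ∈ IsLocalRing.maximalIdeal R ↔ z * a = 0) {M N : Type u} [AddCommGroup M] [Module R M]
    [Module.Free R M] [Module.Finite R M] [AddCommGroup N] [Module R N] [Module.Free R N] [Module.Finite R N]
    (u : M →ₗ[R] N) (hu : Function.Injective u) :
    Module.Free R (N ⧸ LinearMap.range u) ∧ Module.finrank R (N ⧸ LinearMap.range u) + Module.finrank R M = Module.finrank R N := by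
  let m := IsLocalRing.maximalIdeal R
  have hkill : ∀ {P : Type u} [AddCommGroup P] [Module R P] (y : P), y ∈ (m • ⊤ : Submodule R P) → a • y = 0 := by
    intro P _ _ y hy
    induction hy using Submodule.smul_induction_on' with
    | smul r hr z _ => rw [smul_smul, mul_comm, (ha r).1 hr, zero_smul]
    | add x _ y _ hx hy => rw [smul_add, hx, hy, add_zero]
  have hmod : Function.Injective (u.lTensor (IsLocalRing.ResidueField R)) := by
    rw [injective_iff_map_eq_zero]
    intro z hz
    obtain ⟨x, hx⟩ := Submodule.Quotient.mk_surjective _ (quotTensorEquivQuotSMul M m z)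
    obtain rfl : (quotTensorEquivQuotSMul M m).symm (Submodule.Quotient.mk x) = z := by rw [hx, LinearEquiv.symm_apply_apply]
    rw [quotTensorEquivQuotSMul_symm_mk] at hz ⊢
    have h1 : u x ∈ (m • ⊤ : Submodule R N) := by
      have := quotTensorEquivQuotSMul_mk_one_tmul (M := N) m (u x)
      rw [show ((1 : R ⧸ m) ⊗ₜ[R] u x) = (0 : (R ⧸ m) ⊗[R] N) from hz, map_zero] at this
      exact (Submodule.Quotient.mk_eq_zero _).1 this.symm
    have h2 : a • x = 0 := hu (by rw [map_smul, map_zero, hkill _ h1])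
    let b := Module.Free.chooseBasis R M
    have h3 : x ∈ (m • ⊤ : Submodule R M) := by
      rw [← b.linearCombination_repr x, Finsupp.linearCombination_apply]
      refine Submodule.sum_mem _ fun i _ => Submodule.smul_mem_smul ((ha _).2 ?_) trivial
      have := DFunLike.congr_fun (congrArg b.repr h2) i
      rw [map_smul, map_zero, Finsupp.smul_apply, smul_eq_mul, Finsupp.zero_apply] at this
      rw [mul_comm]; exact this
    refine (quotTensorEquivQuotSMul M m).map_eq_zero_iff.1 ?_
    rw [quotTensorEquivQuotSMul_mk_one_tmul, Submodule.Quotient.mk_eq_zero]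
    exact h3
  obtain ⟨r, hr⟩ := (IsLocalRing.split_injective_iff_lTensor_residueField_injective u).2 hmod
  have hc : IsCompl (LinearMap.range u) (LinearMap.ker r) := LinearMap.isCompl_of_proj (f := u.rangeRestrict ∘ₗ r) (fun y => by
    obtain ⟨_, ⟨x, rfl⟩⟩ := y
    refine Subtype.ext ?_
    show u (r (u x)) = u x
    rw [show r (u x) = x from LinearMap.congr_fun hr x]) |> fun h => by
      refine (by simpa using h : IsCompl (LinearMap.range u) (LinearMap.ker (u.rangeRestrict ∘ₗ r))) |> fun h' => ?_
      rwa [LinearMap.ker_comp, LinearMap.ker_rangeRestrict, LinearMap.ker_eq_bot.2 hu, Submodule.comap_bot] at h'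
  let e1 : (N ⧸ LinearMap.range u) ≃ₗ[R] LinearMap.ker r := Submodule.quotientEquivOfIsCompl _ _ hc
  let e2 : (M × LinearMap.ker r) ≃ₗ[R] N := ((LinearEquiv.ofInjective u hu).prodCongr (LinearEquiv.refl R _)).trans (Submodule.prodEquivOfIsCompl _ _ hc)
  haveI : Module.Projective R (LinearMap.ker r) := Module.Projective.of_split
    (LinearMap.ker r).subtype ((Submodule.linearProjOfIsCompl _ _ hc.symm)) (LinearMap.ext fun x => Submodule.linearProjOfIsCompl_apply_left hc.symm x)
  haveI : Module.Finite R (LinearMap.ker r) := Module.Finite.equiv e1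
  haveI : Module.Free R (LinearMap.ker r) := Module.free_of_flat_of_isLocalRing
  refine ⟨Module.Free.of_equiv e1.symm, ?_⟩
  rw [e1.finrank_eq, ← e2.finrank_eq, Module.finrank_prod, add_comm]

theorem coker_free {R : Type u} [CommRing R] [IsLocalRing R] (a : R)
    (ha : ∀ z, z ∈ IsLocalRing.maximalIdeal R ↔ z * a = 0) :
    ∀ (e : ℕ) (n : ℕ → ℕ) (A : (i : ℕ) → Matrix (Fin (n i)) (Fin (n (i + 1))) R),
      (∀ i, i + 1 ≤ e → LinearMap.ker (A i).mulVecLin = LinearMap.range (A (i + 1)).mulVecLin) →
      LinearMap.ker (A e).mulVecLin = ⊥ →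
      Module.Free R ((Fin (n 0) → R) ⧸ LinearMap.range (A 0).mulVecLin) ∧
        (Module.finrank R ((Fin (n 0) → R) ⧸ LinearMap.range (A 0).mulVecLin) : ℤ) = ∑ i ∈ Finset.range (e + 2), (-1 : ℤ) ^ i * n i := by
  intro e
  induction e with
  | zero =>
    intro n A _ hlast
    obtain ⟨h1, h2⟩ := split_of_ann a ha (A 0).mulVecLin (LinearMap.ker_eq_bot.1 hlast)
    refine ⟨h1, ?_⟩
    rw [Module.finrank_fin_fun, Module.finrank_fin_fun] at h2
    simp only [Finset.sum_range_succ, Finset.sum_range_zero, pow_zero, pow_one, one_mul, zero_add, neg_one_mul] at *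
    omega
  | succ e ih =>
    intro n A hex hlast
    obtain ⟨h1, h2⟩ := ih (fun i => n (i + 1)) (fun i => A (i + 1)) (fun i hi => hex (i + 1) (by omega)) hlast
    haveI := h1
    let u : ((Fin (n 1) → R) ⧸ LinearMap.range (A 1).mulVecLin) →ₗ[R] (Fin (n 0) → R) :=
      Submodule.liftQ _ (A 0).mulVecLin (hex 0 (by omega)).ge
    have hu : Function.Injective u := by
      rw [← LinearMap.ker_eq_bot, Submodule.ker_liftQ, hex 0 (by omega), Submodule.mkQ_map_self]
    obtain ⟨h3, h4⟩ := split_of_ann a ha u hu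
    have hr : LinearMap.range u = LinearMap.range (A 0).mulVecLin := Submodule.range_liftQ _ _ _
    refine ⟨Module.Free.of_equiv (Submodule.quotEquivOfEq _ _ hr), ?_⟩
    rw [← (Submodule.quotEquivOfEq _ _ hr).finrank_eq, Finset.sum_range_succ']
    rw [Module.finrank_fin_fun] at h4
    have h5 : ∑ i ∈ Finset.range (e + 2), (-1 : ℤ) ^ (i + 1) * n (i + 1) = -(∑ i ∈ Finset.range (e + 2), (-1 : ℤ) ^ i * n (i + 1)) := by
      rw [← Finset.sum_neg_distrib]
      exact Finset.sum_congr rfl fun i _ => by ring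
    rw [h5, pow_zero, one_mul]
    have h4' : (Module.finrank R ((Fin (n 0) → R) ⧸ LinearMap.range u) : ℤ) + (Module.finrank R ((Fin (n 1) → R) ⧸ LinearMap.range (A 1).mulVecLin) : ℤ) = (n 0 : ℤ) := by exact_mod_cast h4
    linear_combination h4' - h2

theorem exact_loc {R R' : Type u} [CommRing R] [CommRing R'] [Algebra R R'] (S : Submonoid R) [IsLocalization S R']
    {a b c : ℕ} (X : Matrix (Fin a) (Fin b) R) (Y : Matrix (Fin b) (Fin c) R)
    (h : LinearMap.ker X.mulVecLin = LinearMap.range Y.mulVecLin) :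
    LinearMap.ker (X.map (algebraMap R R')).mulVecLin = LinearMap.range (Y.map (algebraMap R R')).mulVecLin := by
  classical
  let ι : R →+* R' := algebraMap R R'
  have hmap : ∀ {p q : ℕ} (Z : Matrix (Fin p) (Fin q) R) (w : Fin q → R), (Z.map ι).mulVec (fun j => ι (w j)) = fun i => ι (Z.mulVec w i) := by
    intro p q Z w
    funext i
    rw [RingHom.map_mulVec]; rfl
  refine le_antisymm (fun v hv => ?_) ?_
  · obtain ⟨s, hs⟩ := IsLocalization.exist_integer_multiples S Finset.univ v
    choose w hw using fun j => hs j (Finset.mem_univ j)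
    have hw' : (fun j => ι (w j)) = ι s • v := funext fun j => by rw [Pi.smul_apply, smul_eq_mul]; exact (hw j).trans (Algebra.smul_def _ _)
    have h0 : ∀ i, ι (X.mulVec w i) = 0 := fun i => by
      have := congrFun (hmap X w) i
      rw [hw', Matrix.mulVec_smul, show (X.map ι).mulVec v = 0 from hv, smul_zero] at this
      exact this.symm
    choose t ht using fun i => (IsLocalization.map_eq_zero_iff S R' _).1 (h0 i)
    let T : S := ∏ i, t i
    have hT : (T : R) • w ∈ LinearMap.ker X.mulVecLin := by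
      rw [LinearMap.mem_ker, map_smul]
      funext i
      show (T : R) * X.mulVec w i = 0
      rw [show T = t i * ∏ j ∈ Finset.univ.erase i, t j from (Finset.mul_prod_erase _ _ (Finset.mem_univ i)).symm, Submonoid.coe_mul, mul_right_comm, ht i, zero_mul]
    rw [h] at hT
    obtain ⟨z, hz⟩ := hT
    have hunit : IsUnit (ι (T * s : R)) := IsLocalization.map_units R' (⟨T * s, S.mul_mem T.2 s.2⟩ : S)
    refine ⟨(↑hunit.unit⁻¹ : R') • fun j => ι (z j), ?_⟩
    have e : (Y.map ι).mulVec (fun j => ι (z j)) = ι (T * s : R) • v := by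
      rw [hmap, map_mul, mul_smul, ← hw']
      funext i
      rw [Pi.smul_apply, smul_eq_mul, ← map_mul]
      exact congrArg ι (congrFun hz i)
    show (Y.map ι).mulVec _ = v
    rw [Matrix.mulVec_smul, e, smul_smul, IsUnit.val_inv_mul, one_smul]
  · rintro _ ⟨v, rfl⟩
    show (X.map ι).mulVec ((Y.map ι).mulVec v) = 0
    have hXY : X * Y = 0 := by
      refine Matrix.toLin'.injective (LinearMap.ext fun w => ?_)
      rw [map_zero, Matrix.toLin'_apply, ← Matrix.mulVec_mulVec]
      exact h.ge ⟨w, rfl⟩
    rw [Matrix.mulVec_mulVec, ← Matrix.map_mul, hXY, Matrix.map_zero _ (map_zero ι), Matrix.zero_mulVec]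


/-- Let R be a Noetherian ring and I a nonzero ideal with a finite free resolution 0 → R^{n_e} → … →
R^{n_1} → R^{n_0} → I → 0 with e ≥ 1: the map R^{n_{i+1}} → R^{n_i} is the matrix A_i, the map π :
R^{n_0} → R is linear with image I, the kernel of π is the image of A_0, the kernel of A_i is the
image of A_{i+1} for 0 ≤ i ≤ e - 2, and A_{e-1} is injective. Then I contains a non-zero-divisor of
R. (The hypothesis that I is nonzero is implicit in the published statement: the zero ideal of a
domain has a finite free resolution and contains no non-zero-divisor.) -/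
theorem result {R : Type u} [CommRing R] [IsNoetherianRing R]
    (e : ℕ) (he : 1 ≤ e) (n : ℕ → ℕ) (A : (i : ℕ) → Matrix (Fin (n i)) (Fin (n (i + 1))) R)
    (π : (Fin (n 0) → R) →ₗ[R] R) (hI : LinearMap.range π ≠ ⊥)
    (h0 : LinearMap.ker π = LinearMap.range (A 0).mulVecLin)
    (hA : ∀ i, i + 2 ≤ e → LinearMap.ker (A i).mulVecLin = LinearMap.range (A (i + 1)).mulVecLin)
    (hlast : LinearMap.ker (A (e - 1)).mulVecLin = ⊥) :
    ∃ x : R, x ∈ LinearMap.range π ∧ x ∈ nonZeroDivisors R := by
  classical
  let p : Matrix (Fin 1) (Fin (n 0)) R := Matrix.of fun _ i => π (Pi.single i 1)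
  have hp : ∀ w, π w = p.mulVec w 0 := fun w => by
    conv_lhs => rw [← Finset.univ_sum_single w]
    rw [map_sum]
    refine Finset.sum_congr rfl fun i _ => ?_
    rw [show Pi.single i (w i) = w i • (Pi.single i (1 : R) : Fin (n 0) → R) from by rw [← Pi.single_smul, smul_eq_mul, mul_one], map_smul, smul_eq_mul, mul_comm]
    rfl
  have hk : LinearMap.ker p.mulVecLin = LinearMap.range (A 0).mulVecLin := by
    rw [← h0]
    ext w
    simp only [LinearMap.mem_ker, Matrix.mulVecLin_apply, hp]
    exact ⟨fun h => congrFun h 0, fun h => funext fun i => by rw [Subsingleton.elim i 0]; exact h⟩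
  obtain ⟨e', rfl⟩ : ∃ e', e = e' + 1 := ⟨e - 1, by omega⟩
  let ε : ℤ := ∑ i ∈ Finset.range (e' + 2), (-1 : ℤ) ^ i * n i
  have hloc : ∀ Q ∈ associatedPrimes R R, (0 ≤ ε) ∧ (ε = 0 → ∀ z ∈ LinearMap.range π, ∃ t ∉ Q, t * z = 0) ∧ (0 < ε → ¬ LinearMap.range π ≤ Q) := by
    intro Q hQ
    haveI := hQ.isPrime
    obtain ⟨-, a, ha⟩ := isAssociatedPrime_iff.1 hQ
    have hQa : ∀ r, r ∈ Q ↔ r * a = 0 := fun r => by rw [ha, Submodule.mem_colon_singleton, Submodule.mem_bot, smul_eq_mul]
    let R' := Localization.AtPrime Q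
    let ι : R →+* R' := algebraMap R R'
    have hann : ∀ z, z ∈ IsLocalRing.maximalIdeal R' ↔ z * ι a = 0 := by
      intro z
      obtain ⟨r, s, rfl⟩ := IsLocalization.exists_mk'_eq Q.primeCompl z
      rw [← Localization.AtPrime.map_eq_maximalIdeal, IsLocalization.mk'_mem_map_algebraMap_iff Q.primeCompl R']
      constructor
      · rintro ⟨t, ht, htr⟩
        rw [hQa] at htr
        refine ((IsLocalization.map_units R' s).mul_left_cancel ?_)
        refine ((IsLocalization.map_units R' (⟨t, ht⟩ : Q.primeCompl)).mul_left_cancel ?_)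
        rw [mul_zero, mul_zero, ← mul_assoc (algebraMap R R' s), mul_comm (algebraMap R R' s), IsLocalization.mk'_spec, ← map_mul, ← map_mul, ← mul_assoc, htr, map_zero]
      · intro hz
        have : algebraMap R R' (r * a) = 0 := by
          rw [map_mul, ← IsLocalization.mk'_spec R' r s, mul_right_comm, hz, zero_mul]
        obtain ⟨t, ht⟩ := (IsLocalization.map_eq_zero_iff Q.primeCompl R' _).1 this
        refine ⟨t, t.2, ?_⟩
        rw [hQa, mul_assoc]
        exact ht
    let A' : (i : ℕ) → Matrix (Fin (n i)) (Fin (n (i + 1))) R' := fun i => (A i).map ι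
    have hlast' : LinearMap.ker (A' e').mulVecLin = ⊥ := by
      have h := exact_loc (R' := R') Q.primeCompl (A e') (0 : Matrix (Fin (n (e' + 1))) (Fin 0) R) (by
        rw [show LinearMap.ker (A e').mulVecLin = ⊥ from hlast]; simp)
      rw [h]; simp
    obtain ⟨hfree, hrank⟩ := coker_free (ι a) hann e' n A' (fun i hi => exact_loc Q.primeCompl (A i) (A (i + 1)) (hA i (by omega))) hlast'
    haveI := hfree
    let p' : (Fin (n 0) → R') →ₗ[R'] R' := LinearMap.proj 0 ∘ₗ (p.map ι).mulVecLin
    have hk' : LinearMap.ker p' = LinearMap.range (A' 0).mulVecLin := by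
      rw [← exact_loc Q.primeCompl p (A 0) hk]
      ext w
      simp only [p', LinearMap.mem_ker, LinearMap.comp_apply, LinearMap.proj_apply]
      exact ⟨fun h => funext fun i => by rw [Subsingleton.elim i 0]; exact h, fun h => congrFun h 0⟩
    let u : ((Fin (n 0) → R') ⧸ LinearMap.range (A' 0).mulVecLin) →ₗ[R'] R' := Submodule.liftQ _ p' hk'.ge
    have hu : Function.Injective u := by
      rw [← LinearMap.ker_eq_bot, Submodule.ker_liftQ, hk', Submodule.mkQ_map_self]
    obtain ⟨hf, hr⟩ := split_of_ann (ι a) hann u hu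
    haveI := hf
    rw [Module.finrank_self] at hr
    have hval : ∀ z ∈ LinearMap.range π, ι z ∈ LinearMap.range u := by
      rintro _ ⟨w, rfl⟩
      refine ⟨Submodule.Quotient.mk (fun j => ι (w j)), ?_⟩
      show (p.map ι).mulVec _ 0 = _
      rw [hp, RingHom.map_mulVec]
      rfl
    refine ⟨by unfold ε; omega, fun hε z hz => ?_, fun hε hle => ?_⟩
    · have h0' : Module.finrank R' ((Fin (n 0) → R') ⧸ LinearMap.range (A' 0).mulVecLin) = 0 := by
        unfold ε at hε; omega
      haveI := (Module.finBasisOfFinrankEq R' _ h0').repr.toEquiv.subsingleton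
      obtain ⟨q, hq⟩ := hval z hz
      rw [Subsingleton.elim q 0, map_zero] at hq
      obtain ⟨t, ht⟩ := (IsLocalization.map_eq_zero_iff Q.primeCompl R' _).1 hq.symm
      exact ⟨t, t.2, ht⟩
    · have h0' : Module.finrank R' (R' ⧸ LinearMap.range u) = 0 := by
        unfold ε at hε; omega
      haveI := (Module.finBasisOfFinrankEq R' _ h0').repr.toEquiv.subsingleton
      have htop : LinearMap.range u = ⊤ := (Submodule.Quotient.subsingleton_iff).1 inferInstance
      have hsub : LinearMap.range u ≤ IsLocalRing.maximalIdeal R' := by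
        rintro _ ⟨q, rfl⟩
        obtain ⟨w, rfl⟩ := Submodule.Quotient.mk_surjective _ q
        show ∑ j, (p.map ι) 0 j * w j ∈ IsLocalRing.maximalIdeal R'
        refine sum_mem fun j _ => Ideal.mul_mem_right _ _ ?_
        rw [← Localization.AtPrime.map_eq_maximalIdeal]
        exact Ideal.mem_map_of_mem _ (hle ⟨_, rfl⟩)
      rw [htop] at hsub
      exact (IsLocalRing.maximalIdeal.isMaximal R').ne_top (top_le_iff.1 hsub)
  by_cases hε : ε = 0
  · exfalso
    refine hI ((Submodule.eq_bot_iff _).2 fun z hz => ?_)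
    by_contra hz0
    obtain ⟨Q, hQ, hle⟩ := exists_le_isAssociatedPrime_of_isNoetherianRing R z hz0
    obtain ⟨t, ht, htz⟩ := (hloc Q hQ).2.1 hε z hz
    exact ht (hle (by rw [Submodule.mem_colon_singleton, Submodule.mem_bot]; exact htz))
  · have hnot : ∀ Q ∈ associatedPrimes R R, ¬ LinearMap.range π ≤ Q := fun Q hQ =>
      (hloc Q hQ).2.2 (lt_of_le_of_ne (hloc Q hQ).1 (Ne.symm hε))
    by_contra hc
    push_neg at hc
    have hsub : ((LinearMap.range π : Ideal R) : Set R) ⊆ ⋃ P ∈ ((associatedPrimes.finite R R).toFinset : Set (Ideal R)), (P : Set R) := by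
      intro z hz
      have := hc z hz
      rw [mem_nonZeroDivisors_iff_right] at this
      push_neg at this
      obtain ⟨w, hw, hw0⟩ := this
      obtain ⟨P, hP, hle⟩ := exists_le_isAssociatedPrime_of_isNoetherianRing R w hw0
      refine Set.mem_biUnion (Set.Finite.mem_toFinset _ |>.2 hP) (hle ?_)
      rw [Submodule.mem_colon_singleton, Submodule.mem_bot, smul_eq_mul, mul_comm]
      exact hw
    rw [Ideal.subset_union_prime (f := fun P => P) ⊥ ⊥ (fun P hP _ _ => ((Set.Finite.mem_toFinset _).1 hP).isPrime)] at hsub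
    obtain ⟨P, hP, hle⟩ := hsub
    exact hnot P ((Set.Finite.mem_toFinset _).1 hP) hle

end Groth.Agent.S12909
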