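import Groth.Statements.S1291
import Groth.Agent.FittEtLib.Main
-- import your own Groth.Agent.* helpers here

set_option autoImplicit false
universe u
open FlatMor

namespace Groth.Agent.S1291

/-- Let A → C be finite locally free of rank d (C a finite projective A-module of constant rank d), h ∈
C such that C_h is étale over A, and J an ideal of C. Let I be the zeroth Fitting ideal of C/J
regarded as a finite A-module. Then the extension of I to C_h equals J·J' for some ideal J' of C_h
(J extended to C_h); and if J is finitely generated then so are I and J'. -/
theorem result {A C : Type u} [CommRing A] [CommRing C] [Algebra A C] [Module.Finite A C] [Module.Projective A C]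
    (d : ℕ) (hd : ∀ p : PrimeSpectrum A, Module.rankAtStalk (R := A) C p = d)
    (h : C) [Algebra.Etale A (Localization.Away h)] (J : Ideal C) :
    ∃ J' : Ideal (Localization.Away h),
      (FlatCA.fittingZero A (C ⧸ J)).map (algebraMap A (Localization.Away h)) = J.map (algebraMap C (Localization.Away h)) * J' ∧
      (J.FG → (FlatCA.fittingZero A (C ⧸ J)).FG ∧ J'.FG) := by
  obtain ⟨J', hJ', hfg⟩ := FittEtLib.exists_mul (A := A) h J
  refine ⟨J', by rw [FittEtLib.fittingZero_eq]; exact hJ', fun hJ => ?_⟩
  haveI : Module.FinitePresentation A C := Module.finitePresentation_of_projective A C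
  haveI : Module.Finite C J := Module.Finite.iff_fg.mpr hJ
  haveI : Module.Finite A J := Module.Finite.trans C J
  haveI : Module.FinitePresentation A (C ⧸ J) := Module.finitePresentation_of_surjective
    ((Submodule.mkQ J).restrictScalars A) (Submodule.mkQ_surjective J) (by
      rw [LinearMap.ker_restrictScalars, Submodule.ker_mkQ]
      exact Module.Finite.iff_fg.mp (inferInstanceAs (Module.Finite A J)))
  exact ⟨by rw [FittEtLib.fittingZero_eq]; exact FittEtLib.ideal_zero_fg A (C ⧸ J), hfg inferInstance⟩

end Groth.Agent.S1291
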