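import Groth.Statements.S12912
import Groth.Agent.CurveLib.MaxSections
import Groth.Agent.CurveLib.GlobalFun
import Groth.Agent.CurveFF.Omega
import Groth.Agent.IntLib.Push
import Groth.Agent.S4466
import Groth.Agent.AmpleEmb.TwistOne
import Groth.Agent.AmpleLib.Pullback

set_option autoImplicit false
universe u
open CategoryTheory CategoryTheory.Limits AlgebraicGeometry
open Curves

namespace Groth.Agent.S12912

/-- Let k be an algebraically closed field and X a curve over k (integral, proper over k, of dimension
one) with a closed immersion i : X → P^r_k over k whose image lies in no hyperplane: every nonzero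
global section of O(1) on P^r_k pulls back to a nonzero global section of i^* O(1). Then deg i^*
O(1) ≥ r. -/
theorem result (k : Type u) [Field k] [IsAlgClosed k] (r : ℕ)
    (X : Scheme.{u}) [X.Over (Spec (CommRingCat.of k))] [IsIntegral X] [IsProper (X ↘ (Spec (CommRingCat.of k)))]
    (hdim : topologicalKrullDim X = 1)
    (i : X ⟶ CohB1.ProjSpace r k) [IsClosedImmersion i]
    (hi : i ≫ CohB1.ProjSpace.toSpec r k = (X ↘ (Spec (CommRingCat.of k))))
    (hplane : ∀ s : LinSer.Sect (CohB1.ProjSpace r k) (Twist.twistProjSpace r k 1), s ≠ 0 →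
      OmegaSh.pullSect i (Twist.twistProjSpace r k 1) ⊤ s ≠ 0) :
    (r : ℤ) ≤ Curv2.deg k X ((Scheme.Modules.pullback i).obj (Twist.twistProjSpace r k 1)) 1 := by
  haveI := Groth.Agent.EulerIneqLib.isNoetherian_proper (X := X) k
  let P := CohB1.ProjSpace r k
  let O1 : P.Modules := Twist.twistProjSpace r k 1
  let L := (Scheme.Modules.pullback i).obj O1
  have hL : PicF.IsInvertible L := Groth.Agent.AmpleLib.isInvertible_pullback i (Groth.Agent.AmpleEmb.isInvertible_twistOne r k)
  haveI := Groth.Agent.EulerIneqLib.finite_HH (k := k) (Groth.Agent.CurveLib.isCoh_of_isInvertible hL) 0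
  let pS : Coh.HH P O1 0 → LinSer.Sect X L := fun x => OmegaSh.pullSect i O1 ⊤ (Groth.Agent.CurveLib.secOf O1 x)
  have hadd : ∀ a b, pS (a + b) = pS a + pS b := fun a b =>
    (congrArg (OmegaSh.pullSect i O1 ⊤) (map_add (Groth.Agent.CurveLib.secOf O1) a b)).trans (map_add _ _ _)
  have hsm : ∀ (c : k) (x : Coh.HH P O1 0), pS (c • x) =
      (Coh.toGlobal (X ↘ Spec (CommRingCat.of k)) c) • pS x := by
    intro c x
    show OmegaSh.pullSect i O1 ⊤ _ = _
    rw [Groth.Agent.CurveLib.secOf_smul (k := k) O1 c x]
    refine (Scheme.Modules.Hom.app_smul ((Scheme.Modules.pullbackPushforwardAdjunction i).unit.app O1)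
      (Coh.toGlobal (P ↘ Spec (CommRingCat.of k)) c) _).trans ?_
    rw [show Coh.toGlobal (X ↘ Spec (CommRingCat.of k)) c = i.app ⊤ (Coh.toGlobal (P ↘ Spec (CommRingCat.of k)) c) from by
      rw [← hi]; exact RingHom.congr_fun (Groth.Agent.ProjCoh.toGlobal_comp (CohB1.ProjSpace.toSpec r k) i) c]
    rfl
  let F : Coh.HH P O1 0 →ₗ[k] Coh.HH X L 0 :=
    { toFun := fun x => (Groth.Agent.CurveLib.secOf L).symm (pS x)
      map_add' := fun a b => (congrArg _ (hadd a b)).trans (map_add _ _ _)
      map_smul' := fun c a => (Groth.Agent.CurveLib.secOf L).injective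
        (((Groth.Agent.CurveLib.secOf L).apply_symm_apply _).trans ((hsm c a).trans
          ((Groth.Agent.CurveLib.secOf_smul (k := k) L c _).trans
            (congrArg _ ((Groth.Agent.CurveLib.secOf L).apply_symm_apply _))).symm)) }
  have hF : Function.Injective F := (injective_iff_map_eq_zero F).2 fun x hx => by
    by_contra hne
    refine hplane (Groth.Agent.CurveLib.secOf O1 x) (fun h => hne ((Groth.Agent.CurveLib.secOf O1).injective (h.trans (map_zero _).symm))) ?_
    have h1 := congrArg (Groth.Agent.CurveLib.secOf L) hx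
    exact ((Groth.Agent.CurveLib.secOf L).apply_symm_apply _).symm.trans (h1.trans (map_zero _))
  have hr : r + 1 ≤ Module.finrank k (Coh.HH X L 0) := by
    obtain ⟨e⟩ := Groth.Agent.ProjTwist.nonempty_H0 r k 1
    have h1 := LinearMap.finrank_le_finrank_of_injective hF
    have h2 : Module.finrank k (Coh.HH P O1 0) = (1 + r).choose r :=
      e.finrank_eq.trans (Groth.Agent.S4466.finrank_forms k r 1)
    rw [h2, add_comm 1 r, Nat.choose_succ_self_right] at h1
    exact h1
  haveI : Nontrivial (Coh.HH X L 0) := Module.nontrivial_of_finrank_pos (R := k) (by omega)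
  have h := (Groth.Agent.CurveLib.h0_le_deg_add_one (k := k) hdim.le Groth.Agent.CurveLib.finrank_H0_structure hL).1
  show (r : ℤ) ≤ Curv2.deg k X L 1
  omega

end Groth.Agent.S12912
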