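import Groth.Statements.S12915
import Mathlib

set_option autoImplicit false
universe u
open CAlgX

namespace Groth.Agent.S12915

/-- Let k be a field, S = k[x_0, …, x_r], and f a nonzero homogeneous polynomial of degree m. For every
t ≥ m the image in S/(f) of the homogeneous polynomials of degree t is a k-vector space of dimension
C(t + r, r) - C(t + r - m, r). (The published clause states that the hypersurface f = 0 in P^r has
degree m; its proof computes exactly this Hilbert function, whose polynomial has leading term m
t^(r-1)/(r-1)!, and that computation is what is stated here.) -/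
theorem result (k : Type u) [Field k] (r m : ℕ)
    (f : MvPolynomial (Fin (r + 1)) k) (hf : f.IsHomogeneous m) (hf0 : f ≠ 0) (t : ℕ) (ht : m ≤ t) :
    Module.finrank k
        (Submodule.map ((Ideal.Quotient.mkₐ k (Ideal.span {f})).toLinearMap)
          (MvPolynomial.homogeneousSubmodule (Fin (r + 1)) k t)) =
      Nat.choose (t + r) r - Nat.choose (t + r - m) r := by
  classical
  let V : ℕ → Submodule k (MvPolynomial (Fin (r + 1)) k) := MvPolynomial.homogeneousSubmodule (Fin (r + 1)) k
  have hV : ∀ N, ∃ _h : Module.Finite k (V N), Module.finrank k (V N) = (N + r).choose r := by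
    intro N
    let e : {d : Fin (r + 1) →₀ ℕ | d.degree = N} ≃ Sym (Fin (r + 1)) N :=
      (Equiv.subtypeEquivRight fun d => by simp [Finsupp.degree_apply, Finsupp.sum]).trans (Sym.equivNatSum (Fin (r + 1)) N).symm
    haveI : Fintype {d : Fin (r + 1) →₀ ℕ | d.degree = N} := Fintype.ofEquiv _ e.symm
    let b := (MvPolynomial.basisRestrictSupport k {d : Fin (r + 1) →₀ ℕ | d.degree = N}).map (LinearEquiv.ofEq _ (V N)
      (MvPolynomial.homogeneousSubmodule_eq_finsupp_supported (σ := Fin (r + 1)) (R := k) N).symm)
    refine ⟨Module.Finite.of_basis b, ?_⟩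
    rw [Module.finrank_eq_card_basis b, Fintype.card_congr e, Sym.card_sym_eq_choose, Fintype.card_fin,
      show r + 1 + N - 1 = N + r by omega, Nat.choose_symm_add]
  obtain ⟨_, ht'⟩ := hV t
  obtain ⟨_, htm⟩ := hV (t - m)
  let π : V t →ₗ[k] MvPolynomial (Fin (r + 1)) k ⧸ Ideal.span {f} :=
    (Ideal.Quotient.mkₐ k (Ideal.span {f})).toLinearMap ∘ₗ (V t).subtype
  have hmul : ∀ q : V (t - m), f * q.1 ∈ V t := fun q => by
    have := hf.mul ((MvPolynomial.mem_homogeneousSubmodule _ _).1 q.2)
    rwa [Nat.add_sub_cancel' ht] at this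
  let μ : V (t - m) →ₗ[k] V t := ((LinearMap.mulLeft k f) ∘ₗ (V (t - m)).subtype).codRestrict (V t) hmul
  have hμ : Function.Injective μ := fun a b h => Subtype.ext (mul_left_cancel₀ hf0 (congrArg Subtype.val h))
  have hker : LinearMap.ker π = LinearMap.range μ := by
    ext g
    constructor
    · intro hg
      obtain ⟨q, hq⟩ := Ideal.mem_span_singleton'.1 (Ideal.Quotient.eq_zero_iff_mem.1 hg)
      refine ⟨⟨MvPolynomial.homogeneousComponent (t - m) q, MvPolynomial.homogeneousComponent_mem _ _⟩, Subtype.ext ?_⟩
      show f * MvPolynomial.homogeneousComponent (t - m) q = g.1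
      replace hq : q * f = g.1 := hq
      have hgt : MvPolynomial.homogeneousComponent t g.1 = g.1 :=
        MvPolynomial.homogeneousComponent_eq_self ((MvPolynomial.mem_homogeneousSubmodule _ _).1 g.2)
      rw [← hgt, ← hq, ← MvPolynomial.sum_homogeneousComponent q, Finset.sum_mul, map_sum, map_sum, Finset.mul_sum]
      refine Finset.sum_congr rfl fun i _ => ?_
      rw [mul_comm _ f, MvPolynomial.homogeneousComponent_of_mem (MvPolynomial.homogeneousComponent_mem i q),
        MvPolynomial.homogeneousComponent_of_mem
          ((MvPolynomial.mem_homogeneousSubmodule _ _).2 (hf.mul (MvPolynomial.homogeneousComponent_isHomogeneous i q)))]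
      by_cases hi : t - m = i
      · rw [if_pos hi, if_pos (by omega)]
      · rw [if_neg hi, if_neg (by omega), mul_zero]
    · rintro ⟨q, rfl⟩
      exact Ideal.Quotient.eq_zero_iff_mem.2 (Ideal.mem_span_singleton.2 ⟨q.1, rfl⟩)
  have hrange : LinearMap.range π = Submodule.map ((Ideal.Quotient.mkₐ k (Ideal.span {f})).toLinearMap)
      (MvPolynomial.homogeneousSubmodule (Fin (r + 1)) k t) := by
    rw [LinearMap.range_comp, Submodule.range_subtype]
  have h1 := LinearMap.finrank_range_add_finrank_ker π
  rw [hker, hrange, LinearMap.finrank_range_of_inj hμ, htm, ht', show t - m + r = t + r - m by omega] at h1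
  omega

end Groth.Agent.S12915
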