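import Groth.Statements.S12916
import Mathlib


set_option autoImplicit false
universe u
open CAlgX

namespace Groth.Agent.S12916

/-- Let k be an infinite field, S = k[x_0, …, x_r], M a finitely generated S-module and d a natural
number. Then some nonzero homogeneous polynomial f of degree d is quasi-regular on M: the submodule
(0 :_M f) of elements of M annihilated by f has finite length. (The published statement assumes M
graded; this row assumes only that M is finitely generated.) -/
theorem result (k : Type u) [Field k] [Infinite k] (r d : ℕ)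
    (M : Type u) [AddCommGroup M] [Module (MvPolynomial (Fin (r + 1)) k) M] [Module.Finite (MvPolynomial (Fin (r + 1)) k) M] :
    ∃ f : MvPolynomial (Fin (r + 1)) k, f.IsHomogeneous d ∧ f ≠ 0 ∧
      IsFiniteLength (MvPolynomial (Fin (r + 1)) k) ↥(Submodule.torsionBy (MvPolynomial (Fin (r + 1)) k) M f) := by
  classical
  let S := MvPolynomial (Fin (r + 1)) k
  let V := MvPolynomial.homogeneousSubmodule (Fin (r + 1)) k d
  let P := {p : Ideal S // p ∈ associatedPrimes S M ∧ ¬ p.IsMaximal}
  haveI : Finite P := ((associatedPrimes.finite S M).subset fun p hp => hp.1 : {p : Ideal S | p ∈ associatedPrimes S M ∧ ¬ p.IsMaximal}.Finite).to_subtype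
  have hne : ∀ o : Option P, (o.elim ⊥ fun p => (p.1.restrictScalars k).comap V.subtype) ≠ (⊤ : Submodule k V) := by
    rintro (_ | ⟨p, hpM, hpmax⟩)
    · intro h
      have hV : (⟨MvPolynomial.X 0 ^ d, by
          rw [MvPolynomial.mem_homogeneousSubmodule]; simpa using (MvPolynomial.isHomogeneous_X k (0 : Fin (r + 1))).pow d⟩ : V) ∈ (⊥ : Submodule k V) :=
        by rw [show (⊥ : Submodule k V) = ⊤ from h]; trivial
      rw [Submodule.mem_bot, Subtype.ext_iff] at hV
      exact pow_ne_zero d (MvPolynomial.X_ne_zero (0 : Fin (r + 1))) hV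
    · intro h
      have hp : p.IsPrime := hpM.1
      have hmem : ∀ i, (MvPolynomial.X i ^ d : S) ∈ p := fun i => by
        have : (⟨MvPolynomial.X i ^ d, by
          rw [MvPolynomial.mem_homogeneousSubmodule]; simpa using (MvPolynomial.isHomogeneous_X k i).pow d⟩ : V) ∈
            (p.restrictScalars k).comap V.subtype := by
          rw [show (p.restrictScalars k).comap V.subtype = ⊤ from h]; trivial
        exact this
      have hker : RingHom.ker (MvPolynomial.constantCoeff : S →+* k) ≤ p := by
        intro q hq
        have hq' : q ∈ Ideal.span (MvPolynomial.X '' (Set.univ : Set (Fin (r + 1)))) := by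
          rw [MvPolynomial.mem_ideal_span_X_image]
          intro m hm
          by_contra hc
          push Not at hc
          have : m = 0 := Finsupp.ext fun i => hc i trivial
          subst this
          exact MvPolynomial.mem_support_iff.mp hm hq
        refine Ideal.span_le.mpr ?_ hq'
        rintro _ ⟨i, -, rfl⟩
        exact hp.mem_of_pow_mem d (hmem i)
      have hmax : (RingHom.ker (MvPolynomial.constantCoeff : S →+* k)).IsMaximal :=
        RingHom.ker_isMaximal_of_surjective _ fun c => ⟨MvPolynomial.C c, MvPolynomial.constantCoeff_C _ c⟩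
      exact hpmax (hmax.eq_of_le hp.ne_top hker ▸ hmax)
  obtain ⟨f, hf⟩ := Submodule.exists_forall_notMem_of_forall_ne_top _ hne
  refine ⟨f.1, f.2, fun h0 => hf none (by simpa using Subtype.ext h0), ?_⟩
  have hmaxT : ∀ q ∈ associatedPrimes S (Submodule.torsionBy S M f.1), q.IsMaximal := fun q hq => by
    by_contra hc
    refine hf (some ⟨q, associatedPrimes.subset_of_injective (Submodule.injective_subtype _) hq, hc⟩) ?_
    show (f : S) ∈ q
    refine IsAssociatedPrime.annihilator_le hq ?_
    exact Submodule.mem_annihilator.mpr fun x _ => Subtype.ext ((Submodule.mem_torsionBy_iff _ _).mp x.2)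
  let T := Submodule.torsionBy S M f.1
  let I := Module.annihilator S T
  haveI : Ring.KrullDimLE 0 (S ⧸ I) := by
    refine Ring.KrullDimLE.mk₀ fun q hq => ?_
    have hq' : (q.comap (Ideal.Quotient.mk I)).IsPrime := Ideal.IsPrime.comap _
    have hle : I ≤ q.comap (Ideal.Quotient.mk I) := by
      intro x hx
      rw [Ideal.mem_comap, Ideal.Quotient.eq_zero_iff_mem.mpr hx]; exact q.zero_mem
    obtain ⟨q₀, hq₀, hq₀le⟩ := Ideal.exists_minimalPrimes_le hle
    have hmax := hmaxT q₀ (Module.associatedPrimes.minimalPrimes_annihilator_subset_associatedPrimes S T hq₀)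
    rw [← Ideal.map_comap_of_surjective _ Ideal.Quotient.mk_surjective q, ← hmax.eq_of_le hq'.ne_top hq₀le]
    exact Ideal.IsMaximal.map_of_surjective_of_ker_le Ideal.Quotient.mk_surjective (by rw [Ideal.mk_ker]; exact hq₀.1.2)
  haveI : IsArtinianRing (S ⧸ I) := isArtinianRing_iff_krullDimLE_zero.mpr inferInstance
  haveI hTT : Module.IsTorsionBySet S T (I : Set S) := fun x a => Module.mem_annihilator.mp a.2 x
  letI : Module (S ⧸ I) T := hTT.module
  haveI : IsScalarTower S (S ⧸ I) T := hTT.isScalarTower
  haveI : Module.Finite (S ⧸ I) T := Module.Finite.of_restrictScalars_finite S _ _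
  haveI : IsArtinian (S ⧸ I) T := isArtinian_of_fg_of_artinian'
  rw [isFiniteLength_iff_isNoetherian_isArtinian]
  exact ⟨inferInstance, isArtinian_of_surjective_algebraMap (R := S ⧸ I) (S := S) Ideal.Quotient.mk_surjective⟩

end Groth.Agent.S12916
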