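import Groth.Statements.S12917
import Groth.Agent.RegLocal.GlobalDim
import Groth.Agent.CMGraded.Free

set_option autoImplicit false
universe u
open CAlgX

namespace Groth.Agent.S12917

open MvPolynomial CategoryTheory

variable {σ : Type} [Fintype σ] {k : Type u} [Field k]

local notation "P" => MvPolynomial σ k

/-- the degree `m` component of `v` in the graded free module with generators in degrees `d` -/
noncomputable def gcomp {n : ℕ} (d : Fin n → ℕ) (m : ℕ) (v : Fin n → P) : Fin n → P :=
  fun i => if d i ≤ m then homogeneousComponent (m - d i) (v i) else 0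

theorem gcomp_zero {n : ℕ} (d : Fin n → ℕ) (m : ℕ) : gcomp d m (0 : Fin n → P) = 0 := by
  funext i; simp [gcomp]

theorem gcomp_sum {n : ℕ} {ι : Type*} (s : Finset ι) (d : Fin n → ℕ) (m : ℕ) (v : ι → Fin n → P) :
    gcomp d m (∑ a ∈ s, v a) = ∑ a ∈ s, gcomp d m (v a) := by
  funext i
  simp only [gcomp, Finset.sum_apply]
  split_ifs with h
  · exact map_sum _ _ _
  · simp

theorem gcomp_C_smul {n : ℕ} (d : Fin n → ℕ) (m : ℕ) (c : k) (v : Fin n → P) :
    gcomp d m ((C c : P) • v) = (C c : P) • gcomp d m v := by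
  funext i
  simp only [gcomp, Pi.smul_apply, smul_eq_mul]
  split_ifs with h
  · exact homogeneousComponent_C_mul _ _ _
  · simp

theorem gcomp_gcomp {n : ℕ} (d : Fin n → ℕ) (m m' : ℕ) (v : Fin n → P) :
    gcomp d m (gcomp d m' v) = if m = m' then gcomp d m' v else 0 := by
  funext i
  by_cases hm : m = m'
  · subst hm
    rw [if_pos rfl]
    simp only [gcomp]
    split_ifs with h
    · exact homogeneousComponent_eq_self (homogeneousComponent_isHomogeneous _ _)
    · rfl
  · rw [if_neg hm]
    simp only [gcomp, Pi.zero_apply]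
    split_ifs with h h' <;> try simp
    rw [homogeneousComponent_of_mem (homogeneousComponent_mem _ _), if_neg]
    omega

theorem gcomp_X_smul {n : ℕ} (d : Fin n → ℕ) (m : ℕ) (a : σ) (v : Fin n → P) :
    gcomp d m ((X a : P) • v) = if 1 ≤ m then (X a : P) • gcomp d (m - 1) v else 0 := by
  funext i
  simp only [gcomp, Pi.smul_apply, smul_eq_mul]
  rw [mul_comm (X a), CMGraded.homogeneousComponent_mul_of_isHomogeneous (isHomogeneous_X k a)]
  by_cases hm : 1 ≤ m
  · rw [if_pos hm]
    simp only [gcomp, Pi.smul_apply, smul_eq_mul]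
    by_cases h : d i ≤ m - 1
    · rw [if_pos h, if_pos (show d i ≤ m by omega), if_pos (show 1 ≤ m - d i by omega), mul_comm, show m - d i - 1 = m - 1 - d i by omega]
    · rw [if_neg h, mul_zero]
      by_cases h' : d i ≤ m
      · rw [if_pos h', if_neg (show ¬ 1 ≤ m - d i by omega)]
      · rw [if_neg h']
  · rw [if_neg hm]
    simp only [Pi.zero_apply]
    by_cases h' : d i ≤ m
    · rw [if_pos h', if_neg (show ¬ 1 ≤ m - d i by omega)]
    · rw [if_neg h']

theorem exists_sum_gcomp {n : ℕ} (d : Fin n → ℕ) (v : Fin n → P) :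
    ∃ M : ℕ, ∑ m ∈ Finset.range M, gcomp d m v = v := by
  classical
  refine ⟨(Finset.univ.sup fun i => d i + (v i).totalDegree) + 1, funext fun i => ?_⟩
  have hb : d i + (v i).totalDegree ≤ Finset.univ.sup fun i => d i + (v i).totalDegree :=
    Finset.le_sup (f := fun i => d i + (v i).totalDegree) (Finset.mem_univ i)
  rw [Finset.sum_apply]
  conv_rhs => rw [← sum_homogeneousComponent (v i)]
  simp only [gcomp]
  rw [← Finset.sum_filter]
  symm
  refine Finset.sum_bij_ne_zero (fun j _ _ => d i + j) ?_ ?_ ?_ ?_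
  · intro j hj _
    simp only [Finset.mem_range, Finset.mem_filter] at hj ⊢
    omega
  · intro a _ _ b _ _ h
    omega
  · intro m hm hne
    simp only [Finset.mem_range, Finset.mem_filter] at hm
    have : m - d i ≤ (v i).totalDegree := by
      by_contra hc
      exact hne (homogeneousComponent_eq_zero _ _ (by omega))
    exact ⟨m - d i, Finset.mem_range.2 (by omega), hne, by omega⟩
  · intro j _ _
    rw [Nat.add_sub_cancel_left]

theorem sub_C_mem_idealOfVars (f : P) : f - C (constantCoeff f) ∈ idealOfVars σ k := by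
  induction f using MvPolynomial.induction_on with
  | C a => simp
  | add p q hp hq =>
    rw [map_add, map_add, add_sub_add_comm]
    exact add_mem hp hq
  | mul_X p a hp =>
    simp only [map_mul, constantCoeff_X, mul_zero, map_zero, sub_zero]
    exact Ideal.mul_mem_left _ _ (Ideal.subset_span ⟨a, rfl⟩)

/-- A projective graded submodule of a graded free module of finite rank is free. -/
theorem exists_linearEquiv_of_projective {n : ℕ} (d : Fin n → ℕ) (K : Submodule P (Fin n → P))
    [Module.Projective P K] (hK : ∀ v ∈ K, ∀ m, gcomp d m v ∈ K) :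
    ∃ t : ℕ, Nonempty ((Fin t → P) ≃ₗ[P] K) := by
  classical
  let 𝔪 : Ideal P := idealOfVars σ k
  let Q := K ⧸ (𝔪 • ⊤ : Submodule P K)
  let mk : K →ₗ[P] Q := Submodule.mkQ _
  haveI : IsNoetherian P (Fin n → P) := inferInstance
  haveI : Module.Finite P K := Module.Finite.iff_fg.2 (IsNoetherian.noetherian K)
  have hconst : ∀ (f : P) (x : K), mk (f • x) = constantCoeff f • mk x := by
    intro f x
    have h0 : mk ((f - C (constantCoeff f)) • x) = 0 :=
      (Submodule.Quotient.mk_eq_zero _).2 (Submodule.smul_mem_smul (sub_C_mem_idealOfVars f) trivial)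
    rw [show (f - C (constantCoeff f)) • x = f • x - (C (constantCoeff f) : P) • x from sub_smul f _ x, map_sub, sub_eq_zero] at h0
    rw [h0, map_smul, ← algebraMap_smul P (constantCoeff f) (mk x)]
    rfl
  have hsur : Function.Surjective mk := Submodule.mkQ_surjective _
  haveI : Module.Finite k Q := by
    obtain ⟨s, hs⟩ := (Module.Finite.fg_top : (⊤ : Submodule P K).FG)
    refine ⟨⟨s.image mk, eq_top_iff.2 fun q _ => ?_⟩⟩
    obtain ⟨x, rfl⟩ := hsur q
    have hx : x ∈ Submodule.span P (s : Set K) := by rw [hs]; trivial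
    induction hx using Submodule.span_induction with
    | mem y hy => exact Submodule.subset_span (Finset.mem_coe.2 (Finset.mem_image_of_mem _ hy))
    | zero => rw [map_zero]; exact zero_mem _
    | add y z _ _ hy hz => rw [map_add]; exact add_mem (hy trivial) (hz trivial)
    | smul f y _ hy => rw [hconst]; exact Submodule.smul_mem _ _ (hy trivial)
  let T : Set K := {w | ∃ m, gcomp d m (w : Fin n → P) = w}
  have hT : ∀ (x : K) (m : ℕ), (⟨gcomp d m x, hK _ x.2 m⟩ : K) ∈ T := fun x m =>
    ⟨m, by show gcomp d m (gcomp d m (x : Fin n → P)) = _; rw [gcomp_gcomp, if_pos rfl]⟩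
  have hspan : (⊤ : Submodule k Q) ≤ Submodule.span k (mk '' T) := by
    intro q _
    obtain ⟨x, rfl⟩ := hsur q
    obtain ⟨M, hM⟩ := exists_sum_gcomp d (x : Fin n → P)
    have hx : x = ∑ m ∈ Finset.range M, (⟨gcomp d m x, hK _ x.2 m⟩ : K) := by
      refine Subtype.ext ?_
      rw [Submodule.coe_sum]
      exact hM.symm
    rw [hx, map_sum]
    exact Submodule.sum_mem _ fun m _ => Submodule.subset_span ⟨_, hT x m, rfl⟩
  obtain ⟨b, hbsub, hbspan, hbli⟩ := exists_linearIndependent k (mk '' T)
  haveI : Finite b := hbli.finite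
  letI := Fintype.ofFinite b
  let eb := (Fintype.equivFin b).symm
  choose w hwT hw using fun j => hbsub (eb j).2
  choose deg hdeg using hwT
  have hli : LinearIndependent k (fun j => mk (w j)) := by
    have := hbli.comp eb eb.injective
    rw [show (fun j => mk (w j)) = Subtype.val ∘ eb from funext hw]
    exact this
  have hgen : ∀ q : Q, ∃ c : Fin (Fintype.card b) → k, ∑ j, c j • mk (w j) = q := by
    intro q
    have hr : Set.range (fun j => mk (w j)) = b := by
      ext z
      constructor
      · rintro ⟨j, rfl⟩; simp only [hw]; exact (eb j).2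
      · intro hz; exact ⟨eb.symm ⟨z, hz⟩, by simp only [hw, Equiv.apply_symm_apply]⟩
    have hq : q ∈ Submodule.span k (Set.range fun j => mk (w j)) := by
      rw [hr, hbspan]; exact hspan trivial
    exact (Submodule.mem_span_range_iff_exists_fun k).1 hq
  let ψ : (Fin (Fintype.card b) → P) →ₗ[P] K := Fintype.linearCombination P w
  have hψ : ∀ j, ψ (Pi.single j 1) = w j := fun j => by
    rw [Fintype.linearCombination_apply_single, one_smul]
  have hG : ∀ (m : ℕ) (x : K), gcomp d m (x : Fin n → P) = x → x ∈ LinearMap.range ψ := by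
    intro m
    induction m using Nat.strong_induction_on with
    | _ m ih =>
      intro x hx
      obtain ⟨c, hc⟩ := hgen (mk x)
      have h1 : x - ∑ j, (C (c j) : P) • w j ∈ (𝔪 • ⊤ : Submodule P K) := by
        refine (Submodule.Quotient.mk_eq_zero _).1 ?_
        show mk _ = 0
        rw [map_sub, map_sum, sub_eq_zero, ← hc]
        refine Finset.sum_congr rfl fun j _ => ?_
        rw [hconst, constantCoeff_C]
      have h2 : ∀ y : K, y ∈ (𝔪 • ⊤ : Submodule P K) → (⟨gcomp d m y, hK _ y.2 m⟩ : K) ∈ LinearMap.range ψ := by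
        intro y hy
        have hy' : ∃ u : σ → K, y = ∑ a, (X a : P) • u a := by
          induction hy using Submodule.smul_induction_on' with
          | smul r hr z _ =>
            obtain ⟨c, hc⟩ := (Submodule.mem_span_range_iff_exists_fun P).1 hr
            refine ⟨fun a => c a • z, ?_⟩
            rw [← hc, Finset.sum_smul]
            refine Finset.sum_congr rfl fun a _ => ?_
            rw [smul_smul, smul_eq_mul, mul_comm]
          | add a _ b _ ha hb =>
            obtain ⟨u, hu⟩ := ha
            obtain ⟨u', hu'⟩ := hb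
            refine ⟨u + u', ?_⟩
            rw [hu, hu', ← Finset.sum_add_distrib]
            simp only [Pi.add_apply, smul_add]
        obtain ⟨u, rfl⟩ := hy'
        by_cases hm : 1 ≤ m
        · have e : (⟨gcomp d m ((∑ a, (X a : P) • u a : K) : Fin n → P), hK _ (∑ a, (X a : P) • u a : K).2 m⟩ : K) =
              ∑ a, (X a : P) • (⟨gcomp d (m - 1) (u a), hK _ (u a).2 _⟩ : K) := by
            refine Subtype.ext ?_
            simp only [Submodule.coe_sum, Submodule.coe_smul, gcomp_sum, gcomp_X_smul, if_pos hm]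
          rw [e]
          refine Submodule.sum_mem _ fun a _ => Submodule.smul_mem _ _ (ih (m - 1) (by omega) _ ?_)
          show gcomp d (m - 1) (gcomp d (m - 1) _) = _
          rw [gcomp_gcomp, if_pos rfl]
        · have e : (⟨gcomp d m ((∑ a, (X a : P) • u a : K) : Fin n → P), hK _ (∑ a, (X a : P) • u a : K).2 m⟩ : K) = 0 := by
            refine Subtype.ext ?_
            simp only [Submodule.coe_sum, Submodule.coe_smul, gcomp_sum, gcomp_X_smul, if_neg hm, Finset.sum_const_zero, ZeroMemClass.coe_zero]
          rw [e]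
          exact zero_mem _
      have h3 := h2 _ h1
      have e : x = (⟨gcomp d m ((x - ∑ j, (C (c j) : P) • w j : K) : Fin n → P), hK _ (x - ∑ j, (C (c j) : P) • w j : K).2 m⟩ : K) +
          ∑ j, if m = deg j then (C (c j) : P) • w j else 0 := by
        refine Subtype.ext ?_
        have hsub : ∀ u v : Fin n → P, gcomp d m (u - v) = gcomp d m u - gcomp d m v := fun u v => by
          funext i
          simp only [gcomp, Pi.sub_apply]
          split_ifs with h
          · exact map_sub _ _ _
          · simp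
        simp only [Submodule.coe_add, Submodule.coe_sum, Submodule.coe_sub, Submodule.coe_smul, hsub, gcomp_sum, gcomp_C_smul, hx]
        rw [sub_add, eq_comm, sub_eq_self, sub_eq_zero]
        refine Finset.sum_congr rfl fun j _ => ?_
        split_ifs with hj
        · rw [hj, hdeg j, Submodule.coe_smul]
        · rw [← hdeg j, gcomp_gcomp, if_neg hj, smul_zero, ZeroMemClass.coe_zero]
      rw [e]
      refine Submodule.add_mem _ h3 (Submodule.sum_mem _ fun j _ => ?_)
      split_ifs
      · exact Submodule.smul_mem _ _ ⟨_, hψ j⟩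
      · exact zero_mem _
  have hψsur : Function.Surjective ψ := by
    intro x
    obtain ⟨M, hM⟩ := exists_sum_gcomp d (x : Fin n → P)
    have hx : x = ∑ m ∈ Finset.range M, (⟨gcomp d m x, hK _ x.2 m⟩ : K) := by
      refine Subtype.ext ?_
      rw [Submodule.coe_sum]
      exact hM.symm
    rw [hx]
    exact Submodule.sum_mem _ fun m _ => hG m _ (by show gcomp d m (gcomp d m _) = _; rw [gcomp_gcomp, if_pos rfl])
  obtain ⟨s, hs⟩ := Module.projective_lifting_property ψ LinearMap.id hψsur
  have hker : LinearMap.ker ψ ≤ (𝔪 • LinearMap.ker ψ) := by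
    intro v hv
    let p : (Fin (Fintype.card b) → P) →ₗ[P] (Fin (Fintype.card b) → P) := LinearMap.id - s.comp ψ
    have hp : ∀ z, p z ∈ LinearMap.ker ψ := fun z => by
      have := LinearMap.congr_fun hs (ψ z)
      simp only [LinearMap.comp_apply, LinearMap.id_apply] at this
      simp [p, this]
    have hpv : p v = v := by simp [p, LinearMap.mem_ker.1 hv]
    have hc : ∀ j, v j ∈ 𝔪 := by
      intro j
      have h0 : ∑ j, constantCoeff (v j) • mk (w j) = 0 := by
        rw [← map_zero mk, ← LinearMap.mem_ker.1 hv]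
        simp only [ψ, Fintype.linearCombination_apply, map_sum, hconst]
      have := Fintype.linearIndependent_iff.1 hli _ h0 j
      simpa [this] using sub_C_mem_idealOfVars (v j)
    rw [← hpv, pi_eq_sum_univ' v, map_sum]
    refine Submodule.sum_mem _ fun j _ => ?_
    rw [map_smul]
    exact Submodule.smul_mem_smul (hc j) (hp _)
  have hker0 : LinearMap.ker ψ = ⊥ := by
    obtain ⟨r, hr1, hr0⟩ := Submodule.exists_sub_one_mem_and_smul_eq_zero_of_fg_of_le_smul 𝔪 _ (IsNoetherian.noetherian (LinearMap.ker ψ)) hker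
    have hr : r ≠ 0 := by
      rintro rfl
      rw [zero_sub, Ideal.neg_mem_iff] at hr1
      have : 𝔪 ≤ RingHom.ker (constantCoeff (σ := σ) (R := k)) :=
        Ideal.span_le.2 (by rintro _ ⟨a, rfl⟩; simp)
      simpa using RingHom.mem_ker.1 (this hr1)
    exact (Submodule.eq_bot_iff _).2 fun v hv => (smul_eq_zero.1 (hr0 v hv)).resolve_left hr
  exact ⟨_, ⟨LinearEquiv.ofBijective ψ ⟨LinearMap.ker_eq_bot.1 hker0, hψsur⟩⟩⟩

/-- A quotient of `k[x₀, x₁, x₂]` of positive depth at every closed point has `pd ≤ 2`. -/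
theorem hasProjectiveDimensionLE_two {R : Type u} [CommRing R] [IsRegularRing R] [IsNoetherianRing R]
    (hdim : ringKrullDim R ≤ 3) (M : Type u) [AddCommGroup M] [Module R M] [Module.Finite R M]
    (hM : ∀ m : Ideal R, m.IsMaximal → ∃ x ∈ m, IsSMulRegular M x) :
    HasProjectiveDimensionLE (ModuleCat.of R M) 2 := by
  rw [ModuleCat.hasProjectiveDimensionLE_iff_forall_maximalSpectrum]
  intro p
  haveI := p.isMaximal.isPrime
  let A := Localization.AtPrime p.asIdeal
  let N : ModuleCat.{u} A := (ModuleCat.of R M).localizedModule p.asIdeal.primeCompl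
  let f := (ModuleCat.of R M).localizedModuleMkLinearMap p.asIdeal.primeCompl
  haveI : IsLocalizedModule p.asIdeal.primeCompl f := ModuleCat.localizedModule_isLocalizedModule _ _
  haveI : Module.Finite A N := Module.Finite.of_isLocalizedModule p.asIdeal.primeCompl f
  obtain ⟨x, hxm, hx⟩ := hM p.asIdeal p.isMaximal
  have hreg : IsSMulRegular N (algebraMap R A x) := by
    intro a b hab
    simp only [algebraMap_smul] at hab
    obtain ⟨⟨a', s⟩, ha⟩ := IsLocalizedModule.surj p.asIdeal.primeCompl f a
    obtain ⟨⟨b', t⟩, hb⟩ := IsLocalizedModule.surj p.asIdeal.primeCompl f b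
    simp only [Submonoid.smul_def] at ha hb
    have h0 : f (x • ((t : R) • a' - (s : R) • b')) = 0 := by
      rw [map_smul, map_sub, map_smul, map_smul, ← ha, ← hb, smul_sub, smul_comm x (t : R), smul_comm x (s : R), smul_comm x (s : R), smul_comm x (t : R), hab, smul_comm (s : R) (t : R), sub_self]
    obtain ⟨c, hc⟩ := (IsLocalizedModule.eq_zero_iff p.asIdeal.primeCompl f).1 h0
    rw [Submonoid.smul_def, smul_comm] at hc
    have h1 := (IsLocalizedModule.eq_zero_iff p.asIdeal.primeCompl f).2 ⟨c, hx (hc.trans (smul_zero x).symm)⟩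
    rw [map_sub, map_smul, map_smul, ← ha, ← hb, smul_comm, ← smul_sub, ← smul_sub] at h1
    have hu : ∀ (s : p.asIdeal.primeCompl) (z : N), (s : R) • z = 0 → z = 0 := fun s z hz => by
      refine IsLocalizedModule.smul_injective f s ?_
      simp only [Submonoid.smul_def, smul_zero]
      exact hz
    exact sub_eq_zero.1 (hu _ _ (hu _ _ h1))
  have hmem : algebraMap R A x ∈ IsLocalRing.maximalIdeal A := by
    rw [← Localization.AtPrime.map_eq_maximalIdeal]
    exact Ideal.mem_map_of_mem _ hxm
  have hd : ringKrullDim A ≤ 3 := by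
    rw [IsLocalization.AtPrime.ringKrullDim_eq_height p.asIdeal A]
    exact le_trans (Ideal.height_le_ringKrullDim_of_ne_top Ideal.IsPrime.ne_top') hdim
  obtain ⟨d, hd'⟩ : ∃ d : ℕ, ringKrullDim A = d := by
    rw [IsLocalization.AtPrime.ringKrullDim_eq_height p.asIdeal A]
    exact ⟨p.asIdeal.height.toNat, by rw [← WithBot.coe_natCast, ENat.coe_toNat (Ideal.height_ne_top Ideal.IsPrime.ne_top')]⟩
  have hd3 : d ≤ 3 := by rw [hd'] at hd; exact_mod_cast hd
  have h1 : projectiveDimension (ModuleCat.of A (QuotSMulTop (algebraMap R A x) N)) ≤ (3 : ℕ) := by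
    refine (projectiveDimension_le_iff _ _).2 ?_
    haveI := RegLocal.hasProjectiveDimensionLT A d hd' (ModuleCat.of A (QuotSMulTop (algebraMap R A x) N))
    exact hasProjectiveDimensionLT_of_ge _ (d + 1) _ (by omega)
  rw [ModuleCat.projectiveDimension_quotSMulTop_eq_succ_of_isSMulRegular N _ hreg hmem, show ((3 : ℕ) : WithBot ℕ∞) = ((2 : ℕ) : WithBot ℕ∞) + 1 from rfl] at h1
  exact (projectiveDimension_le_iff _ _).1 (ENat.WithBot.add_le_add_one_right_iff.mp h1)

/-- the point ideal -/
noncomputable def pointHom (z : σ → k) : P →ₐ[k] Polynomial k :=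
  MvPolynomial.aeval fun i => Polynomial.C (z i) * Polynomial.X

theorem coeff_pointHom (z : σ → k) (f : P) (j : ℕ) :
    (pointHom z f).coeff j = eval z (homogeneousComponent j f) := by
  induction f using MvPolynomial.induction_on' with
  | add p q hp hq => rw [map_add, Polynomial.coeff_add, hp, hq, map_add, map_add]
  | monomial e c =>
    have h1 : pointHom z (monomial e c) = Polynomial.C (eval z (monomial e c)) * Polynomial.X ^ e.degree := by
      rw [pointHom, aeval_monomial, eval_monomial, Finsupp.prod, Finsupp.prod, Polynomial.algebraMap_eq, map_mul, map_prod, mul_assoc, Finsupp.degree_apply]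
      congr 1
      rw [← Finset.prod_pow_eq_pow_sum, ← Finset.prod_mul_distrib]
      refine Finset.prod_congr rfl fun i _ => ?_
      rw [map_pow, mul_pow]
    rw [h1, Polynomial.coeff_C_mul_X_pow, homogeneousComponent_of_mem (isHomogeneous_monomial c rfl)]
    split_ifs with h <;> simp_all


/-- Let k be a field, Z a finite set of nonzero vectors in k^3, regarded as points of the projective
plane, and I the homogeneous vanishing ideal of Z in S = k[x_0, x_1, x_2]: a polynomial belongs to I
exactly when each of its homogeneous components vanishes at every vector of Z. Then I has a free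
resolution of length one: for some t there are a (t+1) × t matrix Ψ over S, injective as a map S^t →
S^{t+1}, and an S-linear map π : S^{t+1} → S with ker π = im Ψ and im π = I. (The published
statement speaks of the minimal free resolution of I having length 1; stated here as the existence
of such a resolution.) -/
theorem result (k : Type u) [Field k]
    (Z : Finset (Fin 3 → k)) (hZ : ∀ p ∈ Z, p ≠ 0) (I : Ideal (MvPolynomial (Fin 3) k))
    (hI : ∀ f : MvPolynomial (Fin 3) k, f ∈ I ↔
      ∀ p ∈ Z, ∀ j : ℕ, MvPolynomial.eval p (MvPolynomial.homogeneousComponent j f) = 0) :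
    ∃ (t : ℕ) (Ψ : Matrix (Fin (t + 1)) (Fin t) (MvPolynomial (Fin 3) k)) (π : (Fin (t + 1) → MvPolynomial (Fin 3) k) →ₗ[MvPolynomial (Fin 3) k] MvPolynomial (Fin 3) k),
      LinearMap.ker Ψ.mulVecLin = ⊥ ∧ LinearMap.ker π = LinearMap.range Ψ.mulVecLin ∧ LinearMap.range π = I := by
  classical
  let S3 := MvPolynomial (Fin 3) k
  have hIz : ∀ f, f ∈ I ↔ ∀ p ∈ Z, pointHom p f = 0 := by
    intro f
    rw [hI]
    refine forall₂_congr fun p _ => ?_
    rw [Polynomial.ext_iff]
    simp only [coeff_pointHom, Polynomial.coeff_zero]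
  have hprime : ∀ p, (RingHom.ker (pointHom (k := k) (σ := Fin 3) p)).IsPrime := fun p => RingHom.ker_isPrime _
  have hmax : ∀ p ∈ Z, ∀ m : Ideal S3, m.IsMaximal → ¬ m ≤ RingHom.ker (pointHom p) := by
    intro p hp m hm hle
    obtain ⟨i, hi⟩ : ∃ i, p i ≠ 0 := Function.ne_iff.1 (hZ p hp)
    have he := hm.eq_of_le (hprime p).ne_top hle
    have hsurj : Function.Surjective (pointHom p) := by
      intro q
      induction q using Polynomial.induction_on' with
      | add a b ha hb =>
        obtain ⟨a', rfl⟩ := ha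
        obtain ⟨b', rfl⟩ := hb
        exact ⟨a' + b', map_add _ _ _⟩
      | monomial n c =>
        refine ⟨C c * (C (p i)⁻¹ * X i) ^ n, ?_⟩
        simp only [pointHom, map_mul, map_pow, aeval_C, aeval_X, Polynomial.algebraMap_eq]
        rw [← mul_assoc (Polynomial.C (p i)⁻¹), ← map_mul, inv_mul_cancel₀ hi, map_one, one_mul, Polynomial.C_mul_X_pow_eq_monomial]
    haveI : (RingHom.ker (pointHom p)).IsMaximal := he ▸ hm
    have hf := (Ideal.Quotient.maximal_ideal_iff_isField_quotient _).1 ‹_›
    exact Polynomial.not_isField k ((Ideal.quotientKerAlgEquivOfSurjective hsurj).toRingEquiv.toMulEquiv.symm.isField hf)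
  have hne : I ≠ ⊥ := by
    have hlin : ∀ p ∈ Z, ∃ f : S3, f ≠ 0 ∧ pointHom p f = 0 := by
      intro p hp
      obtain ⟨i, hi⟩ : ∃ i, p i ≠ 0 := Function.ne_iff.1 (hZ p hp)
      obtain ⟨j, hj⟩ : ∃ j : Fin 3, j ≠ i := exists_ne i
      refine ⟨C (p i) * X j - C (p j) * X i, ?_, ?_⟩
      · intro h
        have := congrArg (eval (Pi.single j (1 : k))) h
        simp [hj.symm] at this
        exact hi this
      · simp only [pointHom, map_sub, map_mul, aeval_C, aeval_X, Polynomial.algebraMap_eq]
        ring
    choose f hf0 hf using hlin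
    intro hbot
    have hmem : (∏ p ∈ Z.attach, f p.1 p.2) ∈ I := by
      rw [hIz]
      intro p hp
      rw [map_prod]
      exact Finset.prod_eq_zero (Finset.mem_attach _ ⟨p, hp⟩) (hf p hp)
    rw [hbot, Submodule.mem_bot, Finset.prod_eq_zero_iff] at hmem
    obtain ⟨p, -, hp⟩ := hmem
    exact hf0 _ _ hp
  have hcomp : ∀ f ∈ I, ∀ m, homogeneousComponent m f ∈ I := by
    intro f hf m
    rw [hI] at hf ⊢
    intro p hp j
    rw [homogeneousComponent_of_mem (homogeneousComponent_mem m f)]
    split_ifs
    · exact hf p hp m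
    · exact map_zero _
  obtain ⟨s, hs⟩ := (IsNoetherian.noetherian I : I.FG)
  let G : Finset (ℕ × S3) := s.biUnion fun f => (Finset.range (f.totalDegree + 1)).image fun m => (m, homogeneousComponent m f)
  let n := G.card
  let e := G.equivFin.symm
  let d : Fin n → ℕ := fun i => (e i).1.1
  let F : Fin n → S3 := fun i => (e i).1.2
  have hFh : ∀ i, (F i).IsHomogeneous (d i) := by
    intro i
    obtain ⟨f, -, hf⟩ := Finset.mem_biUnion.1 (e i).2
    obtain ⟨m, -, hm⟩ := Finset.mem_image.1 hf
    show ((e i).1.2).IsHomogeneous (e i).1.1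
    rw [← hm]
    exact homogeneousComponent_isHomogeneous m f
  have hspan : Ideal.span (Set.range F) = I := by
    refine le_antisymm (Ideal.span_le.2 ?_) ?_
    · rintro _ ⟨i, rfl⟩
      obtain ⟨f, hfs, hf⟩ := Finset.mem_biUnion.1 (e i).2
      obtain ⟨m, -, hm⟩ := Finset.mem_image.1 hf
      show (e i).1.2 ∈ I
      rw [← hm]
      exact hcomp f (hs ▸ Ideal.subset_span hfs) m
    · rw [← hs, Ideal.span_le]
      intro f hf
      rw [SetLike.mem_coe, ← sum_homogeneousComponent f]
      refine Ideal.sum_mem _ fun m hm => Ideal.subset_span ?_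
      have hmem : (m, homogeneousComponent m f) ∈ G := Finset.mem_biUnion.2 ⟨f, hf, Finset.mem_image.2 ⟨m, hm, rfl⟩⟩
      exact ⟨e.symm ⟨_, hmem⟩, by simp only [F, Equiv.apply_symm_apply]⟩
  let π : (Fin n → S3) →ₗ[S3] S3 := Fintype.linearCombination S3 F
  have hπ : LinearMap.range π = I := by rw [Fintype.range_linearCombination, ← hspan]
  have hhom : ∀ v ∈ LinearMap.ker π, ∀ m, gcomp d m v ∈ LinearMap.ker π := by
    intro v hv m
    rw [LinearMap.mem_ker] at hv ⊢
    have hh := congrArg (homogeneousComponent m) hv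
    rw [map_zero] at hh
    rw [← hh]
    simp only [π, Fintype.linearCombination_apply, smul_eq_mul, map_sum]
    refine Finset.sum_congr rfl fun i _ => ?_
    rw [CMGraded.homogeneousComponent_mul_of_isHomogeneous (hFh i)]
    simp only [gcomp]
    split_ifs <;> simp
  have hdim : ringKrullDim S3 ≤ 3 := by
    rw [MvPolynomial.ringKrullDim_of_isNoetherianRing, ringKrullDim_eq_zero_of_isField (Field.toIsField k)]
    simp
  have hpd : HasProjectiveDimensionLE (ModuleCat.of S3 (S3 ⧸ I)) 2 := by
    refine hasProjectiveDimensionLE_two hdim _ fun m hm => ?_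
    obtain ⟨x, hxm, hx⟩ : ∃ x ∈ m, ∀ p ∈ Z, x ∉ RingHom.ker (pointHom p) := by
      by_contra hc
      push_neg at hc
      have hsub : (m : Set S3) ⊆ ⋃ p ∈ (Z : Set (Fin 3 → k)), ((RingHom.ker (pointHom p) : Ideal S3) : Set S3) := fun x hx => by
        obtain ⟨p, hp, h⟩ := hc x hx
        exact Set.mem_biUnion hp h
      rw [Ideal.subset_union_prime (f := fun p => RingHom.ker (pointHom p)) 0 0 (fun p _ _ _ => hprime p)] at hsub
      obtain ⟨p, hp, hle⟩ := hsub
      exact hmax p hp m hm hle
    refine ⟨x, hxm, ?_⟩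
    rw [isSMulRegular_quotient_iff_mem_of_smul_mem]
    intro y hy
    rw [hIz] at hy ⊢
    intro p hp
    have := hy p hp
    rw [smul_eq_mul, map_mul] at this
    exact (mul_eq_zero.1 this).resolve_left (hx p hp)
  let S1 : ShortComplex (ModuleCat.{u} S3) := (Submodule.mkQ I).shortComplexKer
  have hS1 : S1.ShortExact := LinearMap.shortExact_shortComplexKer (Submodule.mkQ_surjective I)
  have hP1 : CategoryTheory.Projective S1.X₂ := (IsProjective.iff_projective S3).1 inferInstance
  have hI1 : HasProjectiveDimensionLT S1.X₁ 2 := (hS1.hasProjectiveDimensionLT_X₃_iff 1 hP1).1 hpd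
  let π' : (Fin n → S3) →ₗ[S3] LinearMap.ker (Submodule.mkQ I) := LinearMap.codRestrict _ π fun v => by
    rw [Submodule.ker_mkQ, ← hπ]; exact ⟨v, rfl⟩
  have hπ' : Function.Surjective π' := by
    rintro ⟨y, hy⟩
    rw [Submodule.ker_mkQ, ← hπ] at hy
    obtain ⟨v, rfl⟩ := hy
    exact ⟨v, rfl⟩
  let S2 : ShortComplex (ModuleCat.{u} S3) := π'.shortComplexKer
  have hS2 : S2.ShortExact := LinearMap.shortExact_shortComplexKer hπ'
  have hP2 : CategoryTheory.Projective S2.X₂ := (IsProjective.iff_projective (Fin n → S3)).1 inferInstance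
  have hK1 : HasProjectiveDimensionLT S2.X₁ 1 := (hS2.hasProjectiveDimensionLT_X₃_iff 0 hP2).1 hI1
  have hK2 : Module.Projective S3 (LinearMap.ker π') :=
    (IsProjective.iff_projective _).2 (projective_iff_hasProjectiveDimensionLT_one.2 hK1)
  have hkk : LinearMap.ker π' = LinearMap.ker π := LinearMap.ker_codRestrict _ _ _
  haveI : Module.Projective S3 (LinearMap.ker π) := Module.Projective.of_equiv (LinearEquiv.ofEq _ _ hkk)
  obtain ⟨t, ⟨ψ⟩⟩ := exists_linearEquiv_of_projective d (LinearMap.ker π) hhom
  have hr1 : Module.finrank S3 (LinearMap.range π) = 1 := by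
    refine le_antisymm ((Submodule.finrank_le _).trans (Module.finrank_self S3).le) ?_
    have : Nontrivial (LinearMap.range π) := Submodule.nontrivial_iff_ne_bot.2 (hπ ▸ hne)
    exact Module.finrank_pos
  have hn : n = t + 1 := by
    have h := Submodule.finrank_quotient_add_finrank (LinearMap.ker π)
    rw [(LinearMap.quotKerEquivRange π).finrank_eq, hr1, ← ψ.finrank_eq, Module.finrank_fin_fun, Module.finrank_fin_fun] at h
    omega
  obtain ⟨φ⟩ : Nonempty ((Fin (t + 1) → S3) ≃ₗ[S3] (Fin n → S3)) := ⟨LinearEquiv.funCongrLeft S3 S3 (finCongr hn)⟩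
  let g : (Fin t → S3) →ₗ[S3] (Fin (t + 1) → S3) := φ.symm.toLinearMap ∘ₗ (LinearMap.ker π).subtype ∘ₗ ψ.toLinearMap
  refine ⟨t, LinearMap.toMatrix' g, π ∘ₗ φ.toLinearMap, ?_, ?_, ?_⟩
  · rw [show (LinearMap.toMatrix' g).mulVecLin = g from Matrix.toLin'_toMatrix' g]
    exact LinearMap.ker_eq_bot.2 (φ.symm.injective.comp ((Submodule.injective_subtype _).comp ψ.injective))
  · rw [show (LinearMap.toMatrix' g).mulVecLin = g from Matrix.toLin'_toMatrix' g]
    ext v
    rw [LinearMap.mem_ker, LinearMap.mem_range]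
    refine ⟨fun h => ⟨ψ.symm ⟨φ v, h⟩, by simp [g]⟩, ?_⟩
    rintro ⟨c, rfl⟩
    simp [g]
  · rw [LinearMap.range_comp, LinearEquiv.range, Submodule.map_top, hπ]

end Groth.Agent.S12917
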