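import Groth.Statements.S12924
import Groth.Agent.GLinQuot.Descend
import Groth.Agent.Comodule.Tame
import Mathlib
-- import your own Groth.Agent.* helpers here

set_option autoImplicit false
universe u
open CategoryTheory AlgebraicGeometry
open HopfRep

namespace Groth.Agent.S12924

/-- Let `k` be a commutative ring, `A` a commutative Hopf algebra over `k`, flat as a `k`-module, `B` a
commutative `k`-algebra with a coaction `ρ : B → B ⊗ A` that is an algebra map and admits a total
integral (a comodule map `α : A → B` with `α 1 = 1`), and `C = B^A`. Then `Spec B → Spec C` is a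
categorical quotient of the action in the category of schemes: for every scheme `Z` and every
morphism `ψ : Spec B → Z` which is invariant, i.e. has the same composite with `Spec (B ⊗ A) → Spec
B` induced by `ρ` and by `b ↦ b ⊗ 1`, there is exactly one morphism `Spec C → Z` through which `ψ`
factors. (The published statement assumes only that taking invariants is exact on `(B, A)`-modules;
a total integral, assumed here, gives that exactness.) -/
theorem result
    (k : Type u) [CommRing k] (A : Type u) [CommRing A] [HopfAlgebra k A] [Module.Flat k A]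
    (B : Type u) [CommRing B] [Algebra k B] [HopfRep.Comod k A B] [GLin.IsCoactAlg k A B]
    (htame : ∃ α : A →ₗ[k] B, Hoch.IsComodHom A α ∧ α 1 = 1)
    (Z : Scheme.{u}) (ψ : Spec (CommRingCat.of B) ⟶ Z)
    (hψ : Spec.map (CommRingCat.ofHom (GLin.coactAlgHom k A B).toRingHom) ≫ ψ =
      Spec.map (CommRingCat.ofHom
        (Algebra.TensorProduct.includeLeftRingHom : B →+* TensorProduct k B A)) ≫ ψ) :
    ∃! χ : Spec (CommRingCat.of (GLin.invariants k A B)) ⟶ Z,
      Spec.map (CommRingCat.ofHom (algebraMap (GLin.invariants k A B) B)) ≫ χ = ψ := by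
  classical
  obtain ⟨α, hα, h1⟩ := htame
  let C := GLin.invariants k A B
  let ι := algebraMap C B
  let ρ := (GLin.coactAlgHom k A B).toRingHom
  let j := (Algebra.TensorProduct.includeLeftRingHom : B →+* TensorProduct k B A)
  have hι : ∀ c, ρ (ι c) = j (ι c) := fun c => (GLin.mem_invariants_iff k A B _).mp c.2
  refine GLinQuot.existsUnique_desc ι ρ j Subtype.val_injective (Comodule.comap_surjective α hα h1) hι
    (fun x hx => ⟨⟨x, (GLin.mem_invariants_iff k A B x).mpr hx⟩, rfl⟩) ψ hψ ?_
  -- stable ideals cutting out the complements of preimages of affine opens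
  have key : ∀ U : Z.Opens, ∃ J : Ideal B, HopfRep.IsSubcomod (k := k) (A := A) (J.restrictScalars k) ∧
      ∀ Q : PrimeSpectrum B, Q ∈ PrimeSpectrum.zeroLocus (J : Set B) ↔ ψ Q ∉ U := by
    intro U
    let W : Set (PrimeSpectrum B) := {Q | ψ Q ∉ U}
    have hW : IsClosed W := (U.2.preimage ψ.continuous).isClosed_compl
    let J0 := PrimeSpectrum.vanishingIdeal W
    have hJ0 : PrimeSpectrum.zeroLocus (J0 : Set B) = W := by
      rw [PrimeSpectrum.zeroLocus_vanishingIdeal_eq_closure, hW.closure_eq]
    let φ : B →ₐ[k] TensorProduct k (B ⧸ J0) A :=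
      (Algebra.TensorProduct.map (Ideal.Quotient.mkₐ k J0) (AlgHom.id k A)).comp (GLin.coactAlgHom k A B)
    refine ⟨RingHom.ker φ, fun x hx => ?_, fun Q => ⟨fun hQ => ?_, fun hQ x hx => ?_⟩⟩
    · have hx' : φ x = 0 := hx
      have hexact : Function.Exact ((RingHom.ker φ).restrictScalars k).subtype φ.toLinearMap :=
        LinearMap.exact_iff.mpr (by ext y; simp)
      refine (Module.Flat.rTensor_exact (M := A) hexact _).mp ?_
      have hc := LinearMap.congr_fun (HopfRep.Comod.coassoc (k := k) (A := A) (V := B)) x
      have e : ∀ z : TensorProduct k B A, φ.toLinearMap.rTensor A z =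
          (TensorProduct.assoc k (B ⧸ J0) A A).symm ((Ideal.Quotient.mkₐ k J0).toLinearMap.rTensor _
            (TensorProduct.assoc k B A A ((HopfRep.Comod.coact (k := k) (A := A) (V := B)).rTensor A z))) := by
        intro z
        induction z with
        | zero => simp
        | add p q hp hq => simp only [map_add, hp, hq]
        | tmul b a =>
          simp only [LinearMap.rTensor_tmul, φ, AlgHom.toLinearMap_apply, AlgHom.comp_apply, GLin.coactAlgHom_apply]
          generalize HopfRep.Comod.coact (k := k) (A := A) b = w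
          induction w with
          | zero => simp
          | add p q hp hq => simp only [map_add, TensorProduct.add_tmul, hp, hq]
          | tmul p q => simp
      rw [e]
      simp only [LinearMap.comp_apply, LinearEquiv.coe_coe] at hc
      rw [hc]
      have e2 : ∀ z : TensorProduct k B A, (Ideal.Quotient.mkₐ k J0).toLinearMap.rTensor (TensorProduct k A A)
          ((Coalgebra.comul (R := k) (A := A)).lTensor B z) =
          (Coalgebra.comul (R := k) (A := A)).lTensor _
            (Algebra.TensorProduct.map (Ideal.Quotient.mkₐ k J0) (AlgHom.id k A) z) := by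
        intro z
        induction z with
        | zero => simp
        | add p q hp hq => simp only [map_add, hp, hq]
        | tmul p q => simp
      rw [e2, ← GLin.coactAlgHom_apply, ← AlgHom.comp_apply, hx', map_zero, map_zero]
    · -- closure of the image
      have hQ' : Q ∈ closure (Set.range (PrimeSpectrum.comap φ.toRingHom)) := by
        rw [PrimeSpectrum.closure_range_comap]
        exact hQ
      refine (closure_minimal ?_ hW) hQ'
      rintro _ ⟨R, rfl⟩
      let R' := PrimeSpectrum.comap (Algebra.TensorProduct.map (Ideal.Quotient.mkₐ k J0) (AlgHom.id k A)).toRingHom R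
      have hinv : ψ (PrimeSpectrum.comap ρ R') = ψ (PrimeSpectrum.comap j R') :=
        congrArg (fun g : Spec (CommRingCat.of (TensorProduct k B A)) ⟶ Z => g R') hψ
      show ψ (PrimeSpectrum.comap ρ R') ∉ U
      rw [hinv]
      show PrimeSpectrum.comap j R' ∈ W
      rw [← hJ0]
      intro b hb
      show (Algebra.TensorProduct.map (Ideal.Quotient.mkₐ k J0) (AlgHom.id k A)) (b ⊗ₜ[k] (1 : A)) ∈ R.asIdeal
      rw [Algebra.TensorProduct.map_tmul, Ideal.Quotient.mkₐ_eq_mk, Ideal.Quotient.eq_zero_iff_mem.mpr hb,
        TensorProduct.zero_tmul]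
      exact R.asIdeal.zero_mem
    · have hQ0 : (J0 : Set B) ⊆ Q.asIdeal := (hJ0.ge hQ : Q ∈ PrimeSpectrum.zeroLocus (J0 : Set B))
      refine hQ0 (Ideal.Quotient.eq_zero_iff_mem.mp ?_)
      have hc := LinearMap.congr_fun (HopfRep.Comod.counit_comp (k := k) (A := A) (V := B)) x
      have e : ∀ z : TensorProduct k B A, Ideal.Quotient.mk J0 (TensorProduct.rid k B ((Coalgebra.counit (R := k) (A := A)).lTensor B z)) =
          TensorProduct.rid k (B ⧸ J0) ((Coalgebra.counit (R := k) (A := A)).lTensor _
            (Algebra.TensorProduct.map (Ideal.Quotient.mkₐ k J0) (AlgHom.id k A) z)) := by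
        intro z
        induction z with
        | zero => simp
        | add p q hp hq => simp only [map_add, hp, hq]
        | tmul p q =>
          simp only [LinearMap.lTensor_tmul, TensorProduct.rid_tmul, Algebra.TensorProduct.map_tmul, AlgHom.id_apply]
          exact map_smul (Ideal.Quotient.mkₐ k J0) _ _
      simp only [LinearMap.comp_apply, LinearMap.flip_apply, TensorProduct.mk_apply] at hc
      rw [show x = TensorProduct.rid k B (x ⊗ₜ[k] (1 : k)) by simp, ← hc, e, ← GLin.coactAlgHom_apply, ← AlgHom.comp_apply, show φ x = 0 from hx, map_zero, map_zero]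
  choose J hJsub hJ using fun U : Z.affineOpens => key U.1
  intro P
  by_contra hno
  push Not at hno
  have hle : ∀ U, (J U).comap ι ≤ P.asIdeal := by
    intro U c hc
    by_contra hcP
    obtain ⟨Q, hQ, hQU⟩ := hno c U.1 U.2 hcP
    exact hQ ((hJ U Q).mpr hQU hc)
  have htop : (⨆ U, J U) = ⊤ := by
    rw [← PrimeSpectrum.zeroLocus_empty_iff_eq_top, Set.eq_empty_iff_forall_notMem]
    intro Q hQ
    obtain ⟨_, ⟨U, hU, rfl⟩, hQU, -⟩ := Z.isBasis_affineOpens.exists_subset_of_mem_open (Set.mem_univ (ψ Q)) isOpen_univ
    exact (hJ ⟨U, hU⟩ Q).mp (fun x hx => hQ (le_iSup J ⟨U, hU⟩ hx)) hQU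
  have hR : ∀ b ∈ (⨆ U, J U), Comodule.reynoldsInv k A B α hα b ∈ P.asIdeal := by
    intro b hb
    induction hb using Submodule.iSup_induction' with
    | mem U x hx => exact hle U (Comodule.reynoldsInv_mem α hα (J U) (hJsub U) hx)
    | zero => simp
    | add x y _ _ hx hy => rw [map_add]; exact add_mem hx hy
  have h := hR ((1 : C) : B) (htop ▸ Submodule.mem_top)
  rw [Comodule.reynoldsInv_coe α hα h1] at h
  exact P.2.ne_top ((Ideal.eq_top_iff_one _).mpr h)

end Groth.Agent.S12924
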