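import Groth.Statements.S12925
import Groth.Agent.Comodule.Tame
-- import your own Groth.Agent.* helpers here

set_option autoImplicit false
universe u w
open HopfRep

namespace Groth.Agent.S12925

/-- Let `k` be a commutative ring, `M` a commutative group and `B` a commutative `k`-algebra with a
coaction of the group algebra `k[M]` that is an algebra map (an action of the diagonalizable group
scheme `D(M) = Spec k[M]` on `Spec B`). Then the action is tame: there is a comodule map `α : k[M] →
B`, for the regular coaction on `k[M]`, with `α 1 = 1`. -/
theorem result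
    (k : Type u) [CommRing k] (M : Type u) [CommGroup M]
    (B : Type w) [CommRing B] [Algebra k B] [HopfRep.Comod k (MonoidAlgebra k M) B]
    [GLin.IsCoactAlg k (MonoidAlgebra k M) B] :
    ∃ α : MonoidAlgebra k M →ₗ[k] B, Hoch.IsComodHom (MonoidAlgebra k M) α ∧ α 1 = 1 := by
  classical
  let α : MonoidAlgebra k M →ₗ[k] B :=
    (Algebra.linearMap k B) ∘ₗ Finsupp.lapply 1 ∘ₗ (MonoidAlgebra.coeffLinearEquiv k).toLinearMap
  have hα : ∀ m r, α (MonoidAlgebra.single m r) = if m = 1 then algebraMap k B r else 0 := by
    intro m r
    simp only [α, LinearMap.comp_apply, LinearEquiv.coe_coe]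
    change algebraMap k B ((MonoidAlgebra.single m r).coeff 1) = _
    rw [MonoidAlgebra.coeff_single, Finsupp.single_apply]
    split_ifs <;> simp
  refine ⟨α, LinearMap.ext fun x => ?_, by rw [MonoidAlgebra.one_def, hα]; simp⟩
  simp only [LinearMap.comp_apply]
  induction x using MonoidAlgebra.induction_on with
  | add p q hp hq => simp only [map_add, hp, hq]
  | smul r p hp => simp only [map_smul, hp]
  | of m =>
    rw [MonoidAlgebra.of_apply, hα]
    change _ = α.rTensor _ (Coalgebra.comul (R := k) (MonoidAlgebra.single m (1 : k)))
    simp only [MonoidAlgebra.comul_single, CommSemiring.comul_apply, TensorProduct.map_tmul,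
      LinearMap.rTensor_tmul, MonoidAlgebra.lsingle_apply, hα, map_one]
    split_ifs with hm
    · rw [GLin.IsCoactAlg.coact_one (k := k), hm]; rfl
    · simp

end Groth.Agent.S12925
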