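import Groth.Statements.S1293
import Groth.Agent.S1228
import Mathlib.LinearAlgebra.TensorProduct.Quotient

set_option autoImplicit false
set_option linter.style.haveILetI false
set_option backward.isDefEq.respectTransparency false
set_option backward.isDefEq.respectTransparency.types false
set_option maxHeartbeats 1000000
universe u
open FlatMor

namespace Groth.Agent.S1293

open TensorProduct

/-- The class of a pure tensor modulo an ideal. -/
theorem tmul_quot_eq_zero {A N : Type u} [CommRing A] [AddCommGroup N] [Module A N] (J : Ideal A) (x : N) :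
    (1 : A ⧸ J) ⊗ₜ[A] x = 0 ↔ x ∈ J • (⊤ : Submodule A N) := by
  rw [← (TensorProduct.quotTensorEquivQuotSMul N J).map_eq_zero_iff,
    show (1 : A ⧸ J) = Ideal.Quotient.mk J 1 from rfl, TensorProduct.quotTensorEquivQuotSMul_mk_tmul, one_smul,
    Submodule.Quotient.mk_eq_zero]

/-- A submodule killed by a maximal ideal keeps injectivity. -/
theorem lTensor_injective_of_killed {A N M : Type u} [CommRing A] [AddCommGroup N] [Module A N] [AddCommGroup M] [Module A M]
    (u : N →ₗ[A] M) (m : Ideal A) [m.IsMaximal] (hu : Function.Injective (u.lTensor (A ⧸ m)))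
    (P : Type u) [AddCommGroup P] [Module A P] (hP : Module.IsTorsionBySet A P m) : Function.Injective (u.lTensor P) := by
  letI : Field (A ⧸ m) := Ideal.Quotient.field m
  letI : Module (A ⧸ m) P := hP.module
  haveI : IsScalarTower A (A ⧸ m) P := hP.isScalarTower
  let eN : P ⊗[A ⧸ m] ((A ⧸ m) ⊗[A] N) ≃ₗ[A] P ⊗[A] N :=
    (AlgebraTensorModule.cancelBaseChange A (A ⧸ m) (A ⧸ m) P N).restrictScalars A
  let eM : P ⊗[A ⧸ m] ((A ⧸ m) ⊗[A] M) ≃ₗ[A] P ⊗[A] M :=
    (AlgebraTensorModule.cancelBaseChange A (A ⧸ m) (A ⧸ m) P M).restrictScalars A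
  have h1 : Function.Injective ((u.baseChange (A ⧸ m)).lTensor P) :=
    Module.Flat.lTensor_preserves_injective_linearMap (M := P) (u.baseChange (A ⧸ m)) hu
  have h2 : ∀ w, u.lTensor P (eN w) = eM ((u.baseChange (A ⧸ m)).lTensor P w) := fun w => by
    induction w with
    | zero => simp
    | add x y hx hy => simp only [map_add, hx, hy]
    | tmul a z =>
      induction z with
      | zero => simp
      | add x y hx hy => simp only [TensorProduct.tmul_add, map_add, hx, hy]
      | tmul c n => simp [eN, eM]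
  intro x y hxy
  obtain ⟨x, rfl⟩ := eN.surjective x
  obtain ⟨y, rfl⟩ := eN.surjective y
  rw [h2, h2] at hxy
  rw [h1 (eM.injective hxy)]

/-- Content ideals turn injectivity modulo maximal ideals into injectivity modulo every ideal. -/
theorem injective_quot {A N M : Type u} [CommRing A] [AddCommGroup N] [Module A N] [AddCommGroup M] [Module A M] [Module.Flat A M]
    (hc : ∀ x : N, ∃ I : Ideal A, x ∈ I • (⊤ : Submodule A N) ∧ ∀ J : Ideal A, x ∈ J • (⊤ : Submodule A N) → I ≤ J)
    (u : N →ₗ[A] M) (hu : ∀ (m : Ideal A) [m.IsMaximal], Function.Injective (u.lTensor (A ⧸ m))) (J : Ideal A) :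
    Function.Injective (u.lTensor (A ⧸ J)) := by
  rw [injective_iff_map_eq_zero]
  intro w hw
  obtain ⟨x, rfl⟩ : ∃ x, (1 : A ⧸ J) ⊗ₜ[A] x = w :=
    TensorProduct.mk_surjective A N (A ⧸ J) Ideal.Quotient.mk_surjective w
  rw [LinearMap.lTensor_tmul] at hw
  rw [tmul_quot_eq_zero] at hw ⊢
  obtain ⟨I, hxI, hmin⟩ := hc x
  have hfg : I.FG := by
    obtain ⟨I₀, hfg, hle, hx₀⟩ : ∃ I₀ : Ideal A, I₀.FG ∧ I₀ ≤ I ∧ x ∈ I₀ • (⊤ : Submodule A N) := by
      refine Submodule.smul_induction_on hxI (fun r hr n _ => ?_) fun a b ⟨I₁, h1, h2, h3⟩ ⟨I₂, k1, k2, k3⟩ => ?_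
      · exact ⟨Ideal.span {r}, Submodule.fg_span (Set.finite_singleton r), (Ideal.span_singleton_le_iff_mem I).2 hr,
          Submodule.smul_mem_smul (Ideal.mem_span_singleton_self r) trivial⟩
      · exact ⟨I₁ ⊔ I₂, Submodule.FG.sup h1 k1, sup_le h2 k2, Submodule.add_mem _ (Submodule.smul_mono_left le_sup_left h3)
          (Submodule.smul_mono_left le_sup_right k3)⟩
    rwa [le_antisymm (hmin I₀ hx₀) hle]
  have key : ∀ (m : Ideal A) [m.IsMaximal], I ≤ m * I ⊔ J := fun m _ => by
    refine hmin _ ((tmul_quot_eq_zero _ x).1 ?_)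
    let K := m * I ⊔ J
    let P : Submodule A (A ⧸ K) := Submodule.map (Submodule.mkQ K) (I ⊔ J)
    have hP : Module.IsTorsionBySet A P m := fun ⟨q, hq⟩ a => by
      obtain ⟨b, hb, rfl⟩ := hq
      refine Subtype.ext ((Submodule.Quotient.mk_eq_zero K).2 ?_)
      obtain ⟨i, hi, j, hj, rfl⟩ := Submodule.mem_sup.1 hb
      show (a : A) * (i + j) ∈ K
      rw [mul_add]
      exact K.add_mem (Ideal.mem_sup_left (Ideal.mul_mem_mul a.2 hi)) (Ideal.mem_sup_right (J.mul_mem_left _ hj))
    obtain ⟨z, hz⟩ : ∃ z : P ⊗[A] N, P.subtype.rTensor N z = (1 : A ⧸ K) ⊗ₜ[A] x := by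
      refine Submodule.smul_induction_on hxI (fun r hr n _ => ?_) fun a b ⟨za, ha⟩ ⟨zb, hb⟩ => ?_
      · refine ⟨(⟨Submodule.mkQ K r, Submodule.mem_map_of_mem (Ideal.mem_sup_left hr)⟩ : P) ⊗ₜ[A] n, ?_⟩
        rw [LinearMap.rTensor_tmul, Submodule.subtype_apply, ← TensorProduct.smul_tmul, Algebra.smul_def, mul_one]
        rfl
      · exact ⟨za + zb, by rw [map_add, ha, hb, TensorProduct.tmul_add]⟩
    have h0 : P.subtype.rTensor M (u.lTensor P z) = 0 := by
      rw [← LinearMap.comp_apply, LinearMap.rTensor_comp_lTensor, ← LinearMap.lTensor_comp_rTensor, LinearMap.comp_apply, hz,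
        LinearMap.lTensor_tmul, tmul_quot_eq_zero]
      exact Submodule.smul_mono_left le_sup_right hw
    have h1 : u.lTensor P z = 0 :=
      Module.Flat.rTensor_preserves_injective_linearMap P.subtype P.injective_subtype (h0.trans (map_zero _).symm)
    rw [← hz, lTensor_injective_of_killed u m (hu m) P hP (h1.trans (map_zero _).symm), map_zero]
  refine Submodule.smul_mono_left (fun r hr => ?_) hxI
  by_contra hrJ
  obtain ⟨m, hm, hle⟩ := Ideal.exists_le_maximal (J.colon (Set.singleton r)) (fun h => hrJ (by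
    have h1 : (1 : A) ∈ J.colon (Set.singleton r) := h ▸ trivial
    simpa using (Submodule.mem_colon.1 h1) r rfl))
  haveI := hm
  let I' : Submodule A (A ⧸ J) := Submodule.map (Submodule.mkQ J) I
  obtain ⟨a, ha, ha'⟩ := Submodule.exists_sub_one_mem_and_smul_eq_zero_of_fg_of_le_smul m I' (Submodule.FG.map _ hfg) (by
    rintro _ ⟨i, hi, rfl⟩
    obtain ⟨y, hy, j, hj, rfl⟩ := Submodule.mem_sup.1 (key m hi)
    rw [map_add, show Submodule.mkQ J j = 0 from (Submodule.Quotient.mk_eq_zero J).2 hj, add_zero,
      ← Submodule.map_smul'', smul_eq_mul]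
    exact Submodule.mem_map_of_mem hy)
  have hamem : a ∈ J.colon (Set.singleton r) := Submodule.mem_colon.2 fun s hs => by
    rw [show s = r from hs]
    exact (Submodule.Quotient.mk_eq_zero J).1 (ha' _ (Submodule.mem_map_of_mem hr))
  refine hm.ne_top ((Ideal.eq_top_iff_one m).2 ?_)
  simpa using m.sub_mem (hle hamem) ha

/-- Injectivity modulo every ideal gives universal injectivity into a flat module. -/
theorem univInj_of_quot {A N M : Type u} [CommRing A] [AddCommGroup N] [Module A N] [AddCommGroup M] [Module A M] [Module.Flat A M]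
    (u : N →ₗ[A] M) (h : ∀ J : Ideal A, Function.Injective (u.lTensor (A ⧸ J))) : FlatCA.UnivInj A u := by
  intro Q _ _
  have hfin : ∀ (k : ℕ) (Q : Type u) [AddCommGroup Q] [Module A Q] (v : Fin k → Q), Submodule.span A (Set.range v) = ⊤ →
      Function.Injective (u.lTensor Q) := by
    intro k
    induction k with
    | zero =>
      intro Q _ _ v hv
      haveI : Subsingleton Q := ⟨fun a b => by
        have : ∀ c : Q, c = 0 := fun c => by
          have hc : c ∈ Submodule.span A (Set.range v) := hv ▸ trivial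
          simpa [Set.range_eq_empty v] using hc
        rw [this a, this b]⟩
      exact Function.injective_of_subsingleton _
    | succ k ih =>
      intro Q _ _ v hv
      let Q' := Submodule.span A (Set.range (v ∘ Fin.succ))
      let π : A →ₗ[A] Q ⧸ Q' := Q'.mkQ ∘ₗ LinearMap.toSpanSingleton A Q (v 0)
      have hπ : Function.Surjective π := by
        rw [← LinearMap.range_eq_top, eq_top_iff, ← Q'.range_mkQ, LinearMap.range_eq_map, ← hv, Submodule.map_span, Submodule.span_le]
        rintro _ ⟨_, ⟨i, rfl⟩, rfl⟩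
        refine Fin.cases ⟨1, by simp [π]⟩ (fun i => ⟨0, ?_⟩) i
        rw [map_zero]
        exact ((Submodule.Quotient.mk_eq_zero Q').2 (Submodule.subset_span ⟨i, rfl⟩)).symm
      let e : (A ⧸ LinearMap.ker π) ≃ₗ[A] Q ⧸ Q' := π.quotKerEquivOfSurjective hπ
      have hq : Function.Injective (u.lTensor (Q ⧸ Q')) := by
        intro a b hab
        obtain ⟨a, rfl⟩ := (LinearEquiv.rTensor N e).surjective a
        obtain ⟨b, rfl⟩ := (LinearEquiv.rTensor N e).surjective b
        have hc : ∀ c, u.lTensor (Q ⧸ Q') (LinearEquiv.rTensor N e c) = LinearEquiv.rTensor M e (u.lTensor _ c) := fun c => by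
          induction c with
          | zero => simp
          | add x y hx hy => simp only [map_add, hx, hy]
          | tmul c n => simp
        rw [hc, hc] at hab
        rw [h _ ((LinearEquiv.rTensor M e).injective hab)]
      have hQ' : Function.Injective (u.lTensor Q') := ih Q' (fun i => ⟨v i.succ, Submodule.subset_span ⟨i, rfl⟩⟩)
        (Submodule.map_injective_of_injective Q'.injective_subtype (by
          rw [Submodule.map_span, Submodule.map_subtype_top, ← Set.range_comp]
          rfl))
      rw [injective_iff_map_eq_zero]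
      intro z hz
      have h1 : Q'.mkQ.rTensor N z = 0 := hq (by
        rw [← LinearMap.comp_apply, LinearMap.lTensor_comp_rTensor, ← LinearMap.rTensor_comp_lTensor, LinearMap.comp_apply, hz,
          map_zero, map_zero])
      obtain ⟨z', rfl⟩ := (rTensor_exact N (LinearMap.exact_subtype_mkQ Q') Q'.mkQ_surjective z).1 h1
      rw [← LinearMap.comp_apply, LinearMap.lTensor_comp_rTensor, ← LinearMap.rTensor_comp_lTensor, LinearMap.comp_apply] at hz
      rw [hQ' ((Module.Flat.rTensor_preserves_injective_linearMap Q'.subtype Q'.injective_subtype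
        (hz.trans (map_zero _).symm)).trans (map_zero _).symm), map_zero]
  rw [injective_iff_map_eq_zero]
  intro z hz
  obtain ⟨P, hP, hzP⟩ := TensorProduct.exists_finite_submodule_left_of_setFinite {z} (Set.finite_singleton z)
  obtain ⟨w, rfl⟩ := hzP rfl
  obtain ⟨k, v, hv⟩ := Submodule.fg_iff_exists_fin_generating_family.1 (Module.finite_def.1 hP)
  rw [← LinearMap.comp_apply, LinearMap.lTensor_comp_rTensor, ← LinearMap.rTensor_comp_lTensor, LinearMap.comp_apply] at hz
  rw [hfin k P v hv ((Module.Flat.rTensor_preserves_injective_linearMap P.subtype P.injective_subtype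
    (hz.trans (map_zero _).symm)).trans (map_zero _).symm), map_zero]

open TensorProduct in
/-- Let B be a finitely presented A-algebra, T ⊆ B a multiplicative subset and N a finitely presented
T⁻¹B-module which admits a pure spreadout (FlatCA.HasPureSpreadout). Then (1) every x ∈ N has a
content ideal, i.e. a smallest ideal I of A with x ∈ IN; and (2) every A-linear map u from N to a
flat A-module M such that u ⊗ A/𝔪 is injective for every maximal ideal 𝔪 of A is universally
injective over A. -/
theorem result {A B : Type u} [CommRing A] [CommRing B] [Algebra A B] [Algebra.FinitePresentation A B]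
    (T : Submonoid B) (N : Type u) [AddCommGroup N] [Module (Localization T) N] [Module A N] [IsScalarTower A (Localization T) N]
    [Module.FinitePresentation (Localization T) N] (h : FlatCA.HasPureSpreadout A B T N) :
    (∀ x : N, ∃ I : Ideal A, x ∈ I • (⊤ : Submodule A N) ∧ ∀ J : Ideal A, x ∈ J • (⊤ : Submodule A N) → I ≤ J) ∧
    ∀ (M : Type u) [AddCommGroup M] [Module A M] [Module.Flat A M] (u : N →ₗ[A] M),
      (∀ (m : Ideal A) [m.IsMaximal], Function.Injective (u.lTensor (A ⧸ m))) → FlatCA.UnivInj A u := by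
  obtain ⟨C, _, _, _, _, _, _, _, _, _, _, N', _, _, _, _, g, -, -, hbc, hproj, huniv⟩ := h
  haveI := hproj
  have hdec : ∀ x : N, ∃ (n : N') (c : Localization T), IsUnit c ∧ x = c • g n := fun x => by
    obtain ⟨z, rfl⟩ := hbc.equiv.surjective x
    induction z using TensorProduct.induction_on with
    | zero => exact ⟨0, 1, isUnit_one, by simp⟩
    | tmul a n =>
      obtain ⟨⟨b, t⟩, hbt⟩ := IsLocalization.surj T a
      obtain ⟨v, hv⟩ := (IsLocalization.map_units (Localization T) t).exists_left_inv
      refine ⟨algebraMap B C b • n, v, IsUnit.of_mul_eq_one _ hv, ?_⟩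
      rw [hbc.equiv_tmul, map_smul, ← algebraMap_smul (Localization T) (algebraMap B C b), ← IsScalarTower.algebraMap_apply,
        ← hbt, smul_smul, mul_left_comm, hv, mul_one]
    | add z w hz hw =>
      obtain ⟨n₁, c₁, hc₁, h₁⟩ := hz
      obtain ⟨n₂, c₂, hc₂, h₂⟩ := hw
      obtain ⟨⟨b₁, t₁⟩, h1⟩ := IsLocalization.surj T c₁
      obtain ⟨⟨b₂, t₂⟩, h2⟩ := IsLocalization.surj T c₂
      obtain ⟨v, hv⟩ := (IsLocalization.map_units (Localization T) (t₁ * t₂)).exists_left_inv
      refine ⟨algebraMap B C (b₁ * t₂) • n₁ + algebraMap B C (b₂ * t₁) • n₂, v, IsUnit.of_mul_eq_one _ hv, ?_⟩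
      rw [Submonoid.coe_mul, map_mul] at hv
      dsimp only at h1 h2
      rw [map_add, h₁, h₂, map_add, map_smul, map_smul, ← algebraMap_smul (Localization T) (algebraMap B C (b₁ * t₂)),
        ← algebraMap_smul (Localization T) (algebraMap B C (b₂ * t₁)), ← IsScalarTower.algebraMap_apply,
        ← IsScalarTower.algebraMap_apply, smul_add, smul_smul, smul_smul, map_mul, map_mul, ← h1, ← h2]
      congr 2
      · linear_combination (-c₁) * hv
      · linear_combination (-c₂) * hv
  obtain ⟨π, s, hπs⟩ := S1228.exists_coord A N'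
  have hc : ∀ x : N, ∃ I : Ideal A, x ∈ I • (⊤ : Submodule A N) ∧ ∀ J : Ideal A, x ∈ J • (⊤ : Submodule A N) → I ≤ J := fun x => by
    obtain ⟨n, c, hcu, rfl⟩ := hdec x
    obtain ⟨v, hv⟩ := hcu.exists_left_inv
    have hst : ∀ (J : Ideal A) (c : Localization T) (y : N), y ∈ J • (⊤ : Submodule A N) → c • y ∈ J • (⊤ : Submodule A N) :=
      fun J c y hy => by
        refine Submodule.smul_induction_on hy (fun r hr m _ => ?_) fun a b ha hb => ?_
        · rw [smul_comm]; exact Submodule.smul_mem_smul hr trivial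
        · rw [smul_add]; exact Submodule.add_mem _ ha hb
    refine ⟨Ideal.span (Set.range fun i => s n i), hst _ c _ ?_, fun J hJ => Ideal.span_le.2 ?_⟩
    · have key : g n = ∑ i ∈ (s n).support, g (π (Finsupp.single i (s n i))) := by
        rw [← map_sum, ← map_sum, ← Finsupp.sum, Finsupp.sum_single]
        exact congrArg g (LinearMap.congr_fun hπs n).symm
      rw [key]
      refine Submodule.sum_mem _ fun i _ => ?_
      rw [← Finsupp.smul_single_one, map_smul, LinearMap.map_smul_of_tower]
      exact Submodule.smul_mem_smul (Ideal.subset_span ⟨i, rfl⟩) trivial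
    · have h1 := hst J v _ hJ
      rw [smul_smul, hv, one_smul, ← tmul_quot_eq_zero] at h1
      have h2 : (1 : A ⧸ J) ⊗ₜ[A] n = 0 := huniv (A ⧸ J) (by rw [LinearMap.lTensor_tmul, map_zero]; exact h1)
      rintro _ ⟨i, rfl⟩
      exact Ideal.Quotient.eq_zero_iff_mem.1 ((S1228.tmul_eq_zero_iff hπs n).1 h2 i)
  exact ⟨hc, fun M _ _ _ u hu => univInj_of_quot u (injective_quot hc u hu)⟩

end Groth.Agent.S1293
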