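import Groth.Statements.S12931
import Mathlib
-- import your own Groth.Agent.* helpers here

set_option autoImplicit false
universe u v w
open HopfRep

namespace Groth.Agent.S12931

/-- Let `R` be a commutative ring, `Γ` a finite set and `T` a commutative `R`-algebra which is
connected: nonzero, with no idempotents other than `0` and `1`. Then `γ ↦ (evaluation at γ : (Γ → R)
→ R → T)` is a bijection from `Γ` onto the `R`-algebra maps `(Γ → R) → T`: every such map sends
exactly one of the indicator functions to `1` and the others to `0`. (Only the bijection of sets is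
stated; when `Γ` is a group, the compatibility with the group structures on both sides is not.) -/
theorem result
    (R : Type u) [CommRing R] (Γ : Type v) [Finite Γ]
    (T : Type w) [CommRing T] [Algebra R T] [Nontrivial T]
    (hT : ∀ e : T, IsIdempotentElem e → e = 0 ∨ e = 1) :
    Function.Bijective (fun γ : Γ => (Algebra.ofId R T).comp (Pi.evalAlgHom R (fun _ : Γ => R) γ)) := by
  classical
  cases nonempty_fintype Γ
  refine ⟨fun a b hab => ?_, fun φ => ?_⟩
  · by_contra hne
    have h := AlgHom.congr_fun hab (Pi.single a 1 : Γ → R)
    simp [Pi.single_apply, Ne.symm hne] at h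
  · have hsum : ∑ γ, φ (Pi.single γ 1) = 1 := by
      rw [← map_sum, show ∑ x, Pi.single x (1 : R) = (1 : Γ → R) from Finset.univ_sum_single 1, map_one]
    have hidem : ∀ γ, φ (Pi.single γ 1) = 0 ∨ φ (Pi.single γ 1) = 1 := fun γ =>
      hT _ (by rw [IsIdempotentElem, ← map_mul, ← Pi.single_mul, mul_one])
    obtain ⟨γ, hγ⟩ : ∃ γ, φ (Pi.single γ 1) = 1 := by
      by_contra hc
      push Not at hc
      rw [Finset.sum_eq_zero fun γ _ => (hidem γ).resolve_right (hc γ)] at hsum
      exact zero_ne_one hsum
    refine ⟨γ, AlgHom.ext fun f => ?_⟩
    have hf : f * Pi.single γ 1 = algebraMap R (Γ → R) (f γ) * Pi.single γ 1 := by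
      funext δ
      rcases eq_or_ne δ γ with h | h
      · subst h; simp
      · simp [h]
    have := congrArg φ hf
    rw [map_mul, map_mul, hγ, mul_one, mul_one, AlgHom.commutes] at this
    rw [this]
    rfl

end Groth.Agent.S12931
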