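import Groth.Statements.S12932
import Mathlib

set_option autoImplicit false
universe u v
open scoped BigOperators
open InvTh

namespace Groth.Agent.S12932

lemma sum_mk {B : Type*} [CommRing B] {Γ : Type*} [Group Γ] [Fintype Γ] [MulSemiringAction Γ B]
    (P : Ideal B) [DecidableEq (B →* B ⧸ P)] (b : B) :
    Ideal.Quotient.mk P (∑ γ : Γ, γ • b) = (Nat.card (P.inertia Γ) : B ⧸ P) *
      ∑ f ∈ Finset.univ.image (fun γ : Γ =>
        ((Ideal.Quotient.mk P).comp (MulSemiringAction.toRingHom Γ B γ)).toMonoidHom), f b := by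
  classical
  let ψ : Γ → (B →* B ⧸ P) := fun γ =>
    ((Ideal.Quotient.mk P).comp (MulSemiringAction.toRingHom Γ B γ)).toMonoidHom
  have hiff : ∀ a γ : Γ, ψ γ = ψ a ↔ γ * a⁻¹ ∈ P.inertia Γ := by
    intro a γ
    rw [AddSubgroup.mem_inertia]
    constructor
    · intro e c
      have := DFunLike.congr_fun e (a⁻¹ • c)
      change Ideal.Quotient.mk P (γ • a⁻¹ • c) = Ideal.Quotient.mk P (a • a⁻¹ • c) at this
      rw [Ideal.Quotient.eq, smul_inv_smul, ← mul_smul] at this
      exact this
    · intro e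
      ext c
      change Ideal.Quotient.mk P (γ • c) = Ideal.Quotient.mk P (a • c)
      rw [Ideal.Quotient.eq]
      have := e (a • c)
      rw [← mul_smul, inv_mul_cancel_right] at this
      exact this
  have hcard : ∀ f ∈ Finset.univ.image ψ,
      (Finset.univ.filter fun γ => ψ γ = f).card = Nat.card (P.inertia Γ) := by
    intro f hf
    obtain ⟨a, -, rfl⟩ := Finset.mem_image.1 hf
    rw [Nat.card_eq_fintype_card, Fintype.card_subtype]
    refine Finset.card_equiv (Equiv.mulRight a⁻¹) fun γ => ?_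
    simp only [Finset.mem_filter, Finset.mem_univ, true_and, Equiv.coe_mulRight, hiff]
  rw [map_sum]
  change ∑ γ : Γ, ψ γ b = _ * ∑ f ∈ Finset.univ.image ψ, f b
  rw [← Finset.sum_fiberwise_of_maps_to (s := (Finset.univ : Finset Γ)) (t := Finset.univ.image ψ) (g := ψ)
    (fun γ _ => Finset.mem_image_of_mem _ (Finset.mem_univ γ)), Finset.mul_sum]
  refine Finset.sum_congr rfl fun f hf => ?_
  rw [Finset.sum_congr rfl (fun γ hγ => by rw [(Finset.mem_filter.1 hγ).2]), Finset.sum_const,
    hcard f hf, nsmul_eq_mul]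

lemma card_mem {B : Type*} [CommRing B] {Γ : Type*} [Group Γ] [Fintype Γ] [MulSemiringAction Γ B]
    (P : Ideal B) [P.IsPrime] (h : ((Nat.card (P.inertia Γ) : ℕ) : B ⧸ P) ≠ 0) :
    ∃ b : B, ∑ γ : Γ, γ • b ∉ P := by
  classical
  by_contra hn
  push_neg at hn
  let ψ : Γ → (B →* B ⧸ P) := fun γ =>
    ((Ideal.Quotient.mk P).comp (MulSemiringAction.toRingHom Γ B γ)).toMonoidHom
  have hli : LinearIndependent (B ⧸ P) (fun f : ↥(Finset.univ.image ψ) => ((f.1 : B →* B ⧸ P) : B → B ⧸ P)) :=
    (linearIndependent_monoidHom B (B ⧸ P)).comp (fun f : ↥(Finset.univ.image ψ) => f.1) Subtype.val_injective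
  have := Fintype.linearIndependent_iff.1 hli (fun _ => (Nat.card (P.inertia Γ) : B ⧸ P)) (by
    funext b
    simp only [Finset.sum_apply, Pi.smul_apply, Pi.zero_apply]
    rw [Finset.sum_coe_sort (Finset.univ.image ψ) (fun f => (Nat.card (P.inertia Γ) : B ⧸ P) • f b)]
    simp only [smul_eq_mul]
    rw [← Finset.mul_sum, ← sum_mk]
    exact Ideal.Quotient.eq_zero_iff_mem.2 (hn b))
  exact h (this ⟨ψ 1, Finset.mem_image_of_mem _ (Finset.mem_univ 1)⟩)

/-- Let `B` be a commutative ring with an action of a finite group `Γ` by ring automorphisms, and call a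
prime ideal `P` of `B` tame when the order of its inertia group `{γ | γ • x - x ∈ P for all x}` is
not divisible by the characteristic of `B/P` (its ramification group is trivial). Then every prime
of `B` is tame if and only if the trace `b ↦ Σ_γ γ • b`, which takes values in the invariant ring
`B^Γ` and is `B^Γ`-linear, is onto `B^Γ` — equivalently, some element of `B` has trace `1`. -/
theorem result
    (B : Type u) [CommRing B] (Γ : Type v) [Group Γ] [Fintype Γ] [MulSemiringAction Γ B] :
    (∃ b : B, ∑ γ : Γ, γ • b = 1) ↔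
      ∀ P : Ideal B, P.IsPrime → ((Nat.card (P.inertia Γ) : ℕ) : B ⧸ P) ≠ 0 := by
  classical
  constructor
  · rintro ⟨b, hb⟩ P hP h0
    apply hP.ne_top
    rw [Ideal.eq_top_iff_one, ← hb, ← Ideal.Quotient.eq_zero_iff_mem, sum_mk, h0, zero_mul]
  · intro h
    let A := FixedPoints.subring B Γ
    haveI : SMulCommClass Γ A B := ⟨fun g c x => by
      change g • (c.1 * x) = c.1 * (g • x)
      rw [smul_mul']
      exact congrArg (· * _) (c.2 g)⟩
    haveI : Algebra.IsInvariant A B Γ := ⟨fun x hx => ⟨⟨x, hx⟩, rfl⟩⟩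
    haveI : Algebra.IsIntegral A B := Algebra.IsInvariant.isIntegral A B Γ
    have htr : ∀ x : B, ∑ γ : Γ, γ • x ∈ A := fun x g => by
      rw [Finset.smul_sum]
      exact Fintype.sum_equiv (Equiv.mulLeft g) _ _ fun a => (mul_smul g a x).symm
    let J : Ideal A :=
      { carrier := {a | ∃ x : B, ∑ γ : Γ, γ • x = a.1}
        add_mem' := by
          rintro a c ⟨x, hx⟩ ⟨y, hy⟩
          exact ⟨x + y, by simp [smul_add, Finset.sum_add_distrib, hx, hy]⟩
        zero_mem' := ⟨0, by simp⟩
        smul_mem' := by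
          rintro a c ⟨x, hx⟩
          refine ⟨a.1 * x, ?_⟩
          change _ = a.1 * c.1
          rw [← hx, Finset.mul_sum]
          exact Finset.sum_congr rfl fun g _ => by rw [smul_mul', a.2 g] }
    by_cases hJ : J = ⊤
    · obtain ⟨x, hx⟩ : (1 : A) ∈ J := hJ ▸ Submodule.mem_top
      exact ⟨x, hx⟩
    exfalso
    obtain ⟨M, hM, hJM⟩ := Ideal.exists_le_maximal J hJ
    obtain ⟨P, -, hP, hPM⟩ := Ideal.exists_ideal_over_prime_of_isIntegral (S := B) M ⊥ (by
      rw [Ideal.comap_bot_of_injective _ Subtype.val_injective]; exact bot_le)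
    haveI := hP
    obtain ⟨x, hx⟩ := card_mem P (h P hP)
    apply hx
    have h2 : (⟨_, htr x⟩ : A) ∈ M := hJM ⟨x, rfl⟩
    rw [← hPM] at h2
    exact h2

end Groth.Agent.S12932
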