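import Groth.Statements.S12934
import Mathlib

set_option autoImplicit false
universe u v
open InvTh

namespace Groth.Agent.S12934

/-- Let `B` be a local commutative ring with maximal ideal `m` and residue field `k`, and `Γ` a finite
group acting faithfully on `B` by ring automorphisms, such that every element of `Γ` acts trivially
modulo `m` (the whole group is inertia) and maps each principal ideal of `B` into itself (every
ideal is stable). Let `S ⊆ Γ` be the set of `γ` with `γ b ∈ b + b m` for all `b`. Then: if `k` has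
characteristic `0`, `S = {1}`; if `k` has characteristic `p > 0`, `S` is (the underlying set of) a
Sylow `p`-subgroup; every commutator of `Γ` lies in `S`, so `Γ/S` is abelian; and whenever the class
of `γ` in `Γ/S` has order `n` (`γ^n ∈ S`, no smaller positive power in `S`), `k` contains a
primitive `n`-th root of unity. (The published statement also bounds the number of generators of
`Γ/S` by the number of generators of the monoid of principal ideals; that clause is not included.) -/
theorem result
    (B : Type u) [CommRing B] [IsLocalRing B]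
    (Γ : Type v) [Group Γ] [Finite Γ] [MulSemiringAction Γ B] [FaithfulSMul Γ B]
    (hin : ∀ (γ : Γ) (b : B), γ • b - b ∈ IsLocalRing.maximalIdeal B)
    (hst : ∀ (γ : Γ) (b : B), ∃ u : B, γ • b = b * u)
    (S : Set Γ)
    (hS : ∀ γ : Γ, γ ∈ S ↔ ∀ b : B, ∃ x ∈ IsLocalRing.maximalIdeal B, γ • b = b + b * x) :
    (ringChar (IsLocalRing.ResidueField B) = 0 → S = {1}) ∧
      (∀ (p : ℕ) [Fact p.Prime], ringChar (IsLocalRing.ResidueField B) = p →
        ∃ Q : Sylow p Γ, (Q : Set Γ) = S) ∧
      (∀ γ δ : Γ, γ * δ * γ⁻¹ * δ⁻¹ ∈ S) ∧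
      (∀ (γ : Γ) (n : ℕ), 0 < n → γ ^ n ∈ S → (∀ i : ℕ, 0 < i → i < n → γ ^ i ∉ S) →
        ∃ ζ : IsLocalRing.ResidueField B, IsPrimitiveRoot ζ n) := by
  classical
  let k := IsLocalRing.ResidueField B
  let res := IsLocalRing.residue B
  have hres0 : ∀ x : B, res x = 0 ↔ x ∈ IsLocalRing.maximalIdeal B := fun x => Ideal.Quotient.eq_zero_iff_mem
  choose u hu using hst
  have hres : ∀ (γ : Γ) (x : B), res (γ • x) = res x := fun γ x => by
    rw [← sub_eq_zero, ← map_sub, hres0]; exact hin γ x
  have huniq : ∀ b : B, b ≠ 0 → ∀ v w : B, b * v = b * w → res v = res w := fun b hb v w h => by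
    rw [← sub_eq_zero, ← map_sub, hres0]
    by_contra hn
    have h0 : b * (v - w) = 0 := by rw [mul_sub, h, sub_self]
    exact hb ((IsLocalRing.notMem_maximalIdeal.1 hn).mul_left_eq_zero.1 h0)
  let χ : {b : B // b ≠ 0} → (Γ →* k) := fun b =>
    { toFun := fun γ => res (u γ b.1)
      map_one' := by
        rw [← map_one res]
        exact huniq b.1 b.2 _ _ (by rw [← hu, one_smul, mul_one])
      map_mul' := fun γ δ => by
        rw [← hres γ (u δ b.1), ← map_mul]
        refine huniq b.1 b.2 _ _ ?_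
        rw [← hu, mul_smul, hu δ b.1, smul_mul', hu γ b.1, mul_assoc] }
  let ψ : Γ →* ({b : B // b ≠ 0} → kˣ) :=
    Pi.monoidHom fun b => (χ b).toHomUnits
  have hψ : ∀ γ, γ ∈ ψ.ker ↔ ∀ b, χ b γ = 1 := fun γ => by
    rw [MonoidHom.mem_ker, funext_iff]
    exact forall_congr' fun b => by rw [Units.ext_iff]; rfl
  have hSk : ∀ γ, γ ∈ S ↔ γ ∈ ψ.ker := by
    intro γ
    rw [hψ, hS]
    constructor
    · intro h b
      obtain ⟨x, hx, e⟩ := h b.1
      change res (u γ b.1) = 1
      rw [huniq b.1 b.2 (u γ b.1) (1 + x) (by rw [← hu, e, mul_add, mul_one]), map_add, (hres0 x).2 hx,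
        map_one, add_zero]
    · intro h b
      by_cases hb : b = 0
      · exact ⟨0, zero_mem _, by simp [hb]⟩
      · refine ⟨u γ b - 1, ?_, by rw [hu, mul_sub, mul_one, add_sub_cancel]⟩
        rw [← hres0, map_sub, map_one, sub_eq_zero]
        exact h ⟨b, hb⟩
  have htriv : ∀ (γ : Γ) (n : ℕ), γ ∈ S → γ ^ n = 1 → (n : k) ≠ 0 → γ = 1 := by
    intro γ n hγ hn hnk
    apply FaithfulSMul.eq_of_smul_eq_smul (α := B)
    intro b
    rw [one_smul, ← sub_eq_zero]
    generalize hd : γ • b - b = d
    have hpw : ∀ i : ℕ, ∃ y ∈ IsLocalRing.maximalIdeal B, γ ^ i • d = d + d * y := fun i =>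
      (hS _).1 ((hSk _).2 (pow_mem ((hSk _).1 hγ) i)) d
    choose y hy hyd using hpw
    have h1 : ∑ i ∈ Finset.range n, γ ^ i • d = 0 := by
      have : ∀ i, γ ^ i • d = γ ^ (i + 1) • b - γ ^ i • b := fun i => by
        rw [← hd, smul_sub, ← mul_smul, pow_succ]
      rw [Finset.sum_congr rfl (fun i _ => this i), Finset.sum_range_sub (fun i => γ ^ i • b), hn,
        pow_zero, sub_self]
    rw [Finset.sum_congr rfl (fun i _ => hyd i), Finset.sum_add_distrib, Finset.sum_const,
      Finset.card_range, ← Finset.mul_sum, nsmul_eq_mul, mul_comm (n : B), ← mul_add] at h1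
    have hun : IsUnit ((n : B) + ∑ i ∈ Finset.range n, y i) := by
      rw [← IsLocalRing.notMem_maximalIdeal, ← hres0, map_add, map_natCast,
        (hres0 _).2 (Ideal.sum_mem _ fun i _ => hy i), add_zero]
      exact hnk
    exact hun.mul_left_eq_zero.1 h1
  refine ⟨fun h0 => ?_, fun p hp hc => ?_, fun γ δ => ?_, fun γ n hn hγn hmin => ?_⟩
  · haveI : CharZero k := by
      haveI : CharP k 0 := h0 ▸ ringChar.charP k
      exact CharP.charP_to_charZero k
    ext γ
    simp only [Set.mem_singleton_iff]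
    exact ⟨fun hγ => htriv γ _ hγ (pow_orderOf_eq_one γ) (Nat.cast_ne_zero.2 (orderOf_pos γ).ne'),
      fun h => h ▸ (hSk 1).2 (one_mem _)⟩
  · haveI : CharP k p := ringChar.of_eq hc
    have hP : IsPGroup p ψ.ker := by
      intro g
      obtain ⟨a, m, hm, he⟩ := Nat.exists_eq_pow_mul_and_not_dvd (orderOf_pos g.1).ne' p hp.out.ne_one
      refine ⟨a, Subtype.ext ?_⟩
      rw [SubgroupClass.coe_pow, OneMemClass.coe_one]
      refine htriv _ m ((hSk _).2 (pow_mem g.2 _)) ?_ ?_
      · rw [← pow_mul, ← he, pow_orderOf_eq_one]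
      · rw [Ne, CharP.cast_eq_zero_iff k p]; exact hm
    have hidx : ¬ p ∣ ψ.ker.index := by
      intro hd
      rw [Subgroup.index_ker] at hd
      haveI : Finite ψ.range := Finite.of_surjective _ ψ.rangeRestrict_surjective
      obtain ⟨⟨x, hx⟩, hox⟩ := exists_prime_orderOf_dvd_card' p hd
      have hx1 : x = 1 := by
        funext b
        apply Units.ext
        have h1 : x ^ p = 1 := by
          have := pow_orderOf_eq_one (⟨x, hx⟩ : ψ.range)
          rw [hox] at this
          exact congrArg Subtype.val this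
        have h2 : ((x b : kˣ) : k) ^ p = 1 := by
          rw [← Units.val_pow_eq_pow_val, show x b ^ p = 1 from congrFun h1 b, Units.val_one]
        have h3 : (((x b : kˣ) : k) - 1) ^ p = 0 := by rw [sub_pow_char, h2, one_pow, sub_self]
        exact sub_eq_zero.1 (eq_zero_of_pow_eq_zero h3)
      subst hx1
      have : orderOf (1 : ψ.range) = p := hox
      rw [orderOf_one] at this
      exact hp.out.ne_one this.symm
    refine ⟨hP.toSylow hidx, Set.ext fun g => ?_⟩
    rw [hSk]
    exact IsPGroup.mem_toSylow hP hidx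
  · rw [hSk, MonoidHom.mem_ker, map_mul, map_mul, map_mul, map_inv, map_inv, mul_comm (ψ γ),
      mul_inv_cancel_right, mul_inv_cancel]
  · haveI : NeZero n := ⟨hn.ne'⟩
    obtain ⟨z, hz⟩ := IsCyclic.exists_generator (α := rootsOfUnity n k)
    have hN : orderOf z = n := by
      have hzn : z ^ n = 1 := Subtype.ext z.2
      have hle : orderOf z ≤ n := Nat.le_of_dvd hn (orderOf_dvd_of_pow_eq_one hzn)
      refine hle.antisymm (not_lt.1 fun hlt => hmin _ (orderOf_pos z) hlt ?_)
      rw [hSk, MonoidHom.mem_ker, map_pow]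
      funext b
      have hb : ψ γ b ∈ rootsOfUnity n k := by
        rw [mem_rootsOfUnity, ← Pi.pow_apply, ← map_pow, (hSk _).1 hγn]
        rfl
      obtain ⟨j, hj⟩ := Subgroup.mem_zpowers_iff.1 (hz ⟨_, hb⟩)
      have : (⟨ψ γ b, hb⟩ : rootsOfUnity n k) ^ orderOf z = 1 := by
        rw [← hj, ← zpow_natCast, ← zpow_mul, mul_comm, zpow_mul, zpow_natCast, pow_orderOf_eq_one,
          one_zpow]
      exact congrArg Subtype.val this
    refine ⟨((z : kˣ) : k), ?_⟩
    have := IsPrimitiveRoot.orderOf z
    rw [hN] at this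
    exact IsPrimitiveRoot.coe_units_iff.2 (IsPrimitiveRoot.coe_submonoidClass_iff.2 this)

end Groth.Agent.S12934
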