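import Groth.Statements.S12936
import Mathlib

set_option autoImplicit false
universe u v
open InvTh

namespace Groth.Agent.S12936

/-- Let `B` be a commutative ring with an action of a finite group `Γ` by ring automorphisms and `P` a
maximal ideal of `B`, with decomposition group `D_P = {γ | γP = P}` and decomposition ring `D =
B^{D_P}`. Then `D = B^Γ + (P ∩ D)`: every element of `B` fixed by `D_P` is congruent modulo `P` to a
`Γ`-invariant element. Hence the residue field of `D` at `P ∩ D` is that of `B^Γ` at `P ∩ B^Γ`; for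
an arbitrary prime `P` the same equality of residue fields follows by localising at `P ∩ B^Γ`. (The
published statement prints this residue field as `k(P)`; the proof establishes the equality with the
residue field of `B^Γ` stated here.) -/
theorem result
    (B : Type u) [CommRing B] (Γ : Type v) [Group Γ] [Finite Γ] [MulSemiringAction Γ B]
    (P : Ideal B) [P.IsMaximal] (x : B)
    (hx : ∀ γ : Γ, (∀ y : B, y ∈ P ↔ γ • y ∈ P) → γ • x = x) :
    ∃ c : B, (∀ γ : Γ, γ • c = c) ∧ x - c ∈ P := by
  classical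
  cases nonempty_fintype Γ
  let D : Subgroup Γ :=
    { carrier := {γ | ∀ y : B, y ∈ P ↔ γ • y ∈ P}
      mul_mem' := fun {a b} ha hb y => by rw [mul_smul]; exact (hb y).trans (ha _)
      one_mem' := fun y => by simp
      inv_mem' := fun {a} ha y => by simpa using (ha (a⁻¹ • y)).symm }
  let g : Γ → Ideal B := fun γ => P.comap (MulSemiringAction.toRingHom Γ B γ)
  have hmax : ∀ γ, (g γ).IsMaximal := fun γ =>
    Ideal.comap_isMaximal_of_surjective _ (MulAction.surjective γ)
  -- x' ≡ 1 at P and ≡ 0 at the other conjugates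
  obtain ⟨e, he1, he0⟩ : ∃ e : B, e - 1 ∈ P ∧ ∀ γ : Γ, γ ∉ D → γ • e ∈ P := by
    have hne : ∀ γ : Γ, γ ∉ D → g γ ≠ P := by
      intro γ hγ h
      exact hγ fun y => by
        constructor
        · intro hy; rw [← h] at hy; exact hy
        · intro hy; rw [← h]; exact hy
    have hco : P ⊔ ⨅ γ ∈ (Finset.univ.filter fun γ => γ ∉ D), g γ = ⊤ := by
      apply Ideal.sup_iInf_eq_top
      intro γ hγ
      exact (Ideal.IsMaximal.coprime_of_ne inferInstance (hmax γ) (hne γ (Finset.mem_filter.1 hγ).2).symm)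
    obtain ⟨p, hp, q, hq, hpq⟩ := Submodule.mem_sup.1 (hco ▸ Submodule.mem_top : (1:B) ∈ P ⊔ _)
    refine ⟨q, by rw [← hpq]; simpa using hp, fun γ hγ => ?_⟩
    simp only [Ideal.mem_iInf] at hq
    exact hq γ (by simp [hγ])
  let e' : B := ∏ δ : D, (δ : Γ) • e
  have hD : ∀ δ ∈ D, δ • e' = e' := by
    intro δ hδ
    simp only [e', Finset.smul_prod', ← mul_smul]
    exact Equiv.prod_comp (Equiv.mulLeft (⟨δ, hδ⟩ : D)) (fun d : D => (d : Γ) • e)
  have h0 : ∀ γ : Γ, γ ∉ D → γ • e' ∈ P := by
    intro γ hγ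
    simp only [e', Finset.smul_prod']
    rw [Fintype.prod_eq_mul_prod_compl (1 : D)]
    exact Ideal.mul_mem_right _ _ (by simpa using he0 γ hγ)
  have h1 : e' - 1 ∈ P := by
    rw [← Ideal.Quotient.eq_zero_iff_mem]
    simp only [e', map_sub, map_prod, map_one, sub_eq_zero]
    refine Finset.prod_eq_one fun δ _ => ?_
    rw [← map_one (Ideal.Quotient.mk P), Ideal.Quotient.eq]
    have := (δ.2 (e - 1)).1 he1
    simpa [smul_sub] using this
  have hy : ∀ δ ∈ D, δ • (x * e') = x * e' := fun δ hδ => by rw [smul_mul', hx δ hδ, hD δ hδ]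
  let F : Γ ⧸ D → B := fun c => Quotient.liftOn' c (fun γ => γ • (x * e')) (fun a b h => by
    have h' := hy _ (QuotientGroup.leftRel_apply.1 h)
    calc a • (x * e') = a • ((a⁻¹ * b) • (x * e')) := by rw [h']
      _ = b • (x * e') := by rw [← mul_smul, mul_inv_cancel_left])
  refine ⟨∑ c : Γ ⧸ D, F c, fun γ => ?_, ?_⟩
  · rw [Finset.smul_sum]
    refine Fintype.sum_equiv (MulAction.toPerm γ) _ _ fun c => ?_
    induction c using QuotientGroup.induction_on with
    | H a => simp [F, MulAction.toPerm_apply, mul_smul]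
  · rw [Fintype.sum_eq_add_sum_compl ((1 : Γ) : Γ ⧸ D), show F ((1 : Γ) : Γ ⧸ D) = x * e' from one_smul Γ _, show x - (x * e' + ∑ c ∈ ({((1 : Γ) : Γ ⧸ D)} : Finset _)ᶜ, F c) = -(x * (e' - 1)) - ∑ c ∈ ({((1 : Γ) : Γ ⧸ D)} : Finset _)ᶜ, F c by ring]
    refine P.sub_mem (P.neg_mem (P.mul_mem_left _ h1)) (P.sum_mem fun c hc => ?_)
    induction c using QuotientGroup.induction_on with
    | H a =>
      have ha : a ∉ D := fun h => by simp [QuotientGroup.eq, h] at hc
      change a • (x * e') ∈ P
      rw [smul_mul']; exact P.mul_mem_left _ (h0 a ha)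

end Groth.Agent.S12936
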