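import Groth.Statements.S12937
import Mathlib

set_option autoImplicit false
universe u v
open InvTh

namespace Groth.Agent.S12937

open scoped Pointwise in
lemma mem_of_stab {B : Type*} [CommRing B] {Γ : Type*} [Group Γ] [MulSemiringAction Γ B] {P : Ideal B}
    {γ : Γ} (h : γ ∈ MulAction.stabilizer Γ P) {b : B} : γ • b ∈ P ↔ b ∈ P := by
  have h' : γ • P = P := h
  conv_lhs => rw [← h']
  exact Ideal.smul_mem_pointwise_smul_iff

open Polynomial in
lemma sep_prod {K : Type*} [CommRing K] (hK : IsField K) (s : Finset K) :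
    (∏ e ∈ s, (X - Polynomial.C e)).Separable := by
  letI := hK.toField
  exact separable_prod_X_sub_C_iff'.2 fun a _ b _ h => h

open Polynomial in
open scoped Pointwise in

/-- Let `B` be a commutative ring with an action of a finite group `Γ` by ring automorphisms, `P` a
maximal ideal of `B`, `T = {γ | γ x - x ∈ P for all x}` its inertia group, `B^T` the inertia ring
and `B^Γ` the ring of invariants, so that `k(P ∩ B^Γ) ⊆ k(P ∩ B^T) ⊆ k(P) = B/P`. Then `k(P ∩ B^T)`
is the largest separable extension of `k(P ∩ B^Γ)` inside `k(P)`: an element `x` of `B` is congruent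
modulo `P` to a `T`-invariant element if and only if `x mod P` is a root of some polynomial with
`Γ`-invariant coefficients whose reduction modulo `P` is separable. (The published statement is for
every prime ideal `P`, as an equality of residue fields; this row takes `P` maximal, the case to
which the published proof reduces by localising at `P ∩ B^Γ`.) -/
theorem result
    (B : Type u) [CommRing B] (Γ : Type v) [Group Γ] [Finite Γ] [MulSemiringAction Γ B]
    (P : Ideal B) [P.IsMaximal] (x : B) :
    (∃ y : B, (∀ γ : Γ, γ ∈ P.inertia Γ → γ • y = y) ∧ x - y ∈ P) ↔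
      ∃ g : Polynomial B, (∀ (i : ℕ) (γ : Γ), γ • g.coeff i = g.coeff i) ∧
        (g.map (Ideal.Quotient.mk P)).Separable ∧ Polynomial.aeval x g ∈ P := by
  classical
  cases nonempty_fintype Γ
  let π := Ideal.Quotient.mk P
  let A := FixedPoints.subring B Γ
  let I : Subgroup Γ := P.inertia Γ
  have hI : ∀ γ, γ ∈ I ↔ ∀ b, γ • b - b ∈ P := fun γ => AddSubgroup.mem_inertia
  let C := FixedPoints.subring B I
  have hC : ∀ b, b ∈ C ↔ ∀ γ ∈ I, γ • b = b := fun b => ⟨fun h γ hγ => h ⟨γ, hγ⟩, fun h γ => h γ.1 γ.2⟩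
  haveI : SMulCommClass Γ A B := ⟨fun g c x => by
    change g • (c.1 * x) = c.1 * (g • x)
    rw [smul_mul']
    exact congrArg (· * _) (c.2 g)⟩
  haveI : SMulCommClass I C B := ⟨fun g c x => by
    change g.1 • (c.1 * x) = c.1 * (g.1 • x)
    rw [smul_mul']
    exact congrArg (· * _) (c.2 g)⟩
  haveI : Algebra.IsInvariant A B Γ := ⟨fun b hb => ⟨⟨b, hb⟩, rfl⟩⟩
  haveI : Algebra.IsInvariant C B I := ⟨fun b hb => ⟨⟨b, hb⟩, rfl⟩⟩
  haveI : Algebra.IsIntegral A B := Algebra.IsInvariant.isIntegral A B Γ
  haveI : Algebra.IsIntegral C B := Algebra.IsInvariant.isIntegral C B I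
  have hpi : ∀ c : B, ((Finset.univ : Finset I).prod fun ι => X - Polynomial.C (ι • c)).map π
      = (X - Polynomial.C (π c)) ^ Fintype.card I := by
    intro c
    rw [Polynomial.map_prod, ← Finset.card_univ, ← Finset.prod_const]
    refine Finset.prod_congr rfl fun ι _ => ?_
    rw [Polynomial.map_sub, map_X, map_C]
    congr 2
    exact Ideal.Quotient.eq.2 ((hI _).1 ι.2 c)
  constructor
  · rintro ⟨y, hyI, hxy⟩
    have hyC : y ∈ C := (hC y).2 fun γ hγ => hyI γ hγ
    let D := MulAction.stabilizer Γ P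
    have hID : I ≤ D := Ideal.inertia_le_stabilizer P
    have hnorm : ∀ σ ∈ D, ∀ z ∈ C, σ • z ∈ C := by
      intro σ hσ z hz
      rw [hC]
      intro ι hι
      have h1 : σ⁻¹ * ι * σ ∈ I := (hI _).2 fun b => by
        rw [mul_smul, mul_smul, ← mem_of_stab hσ, smul_sub, smul_inv_smul]
        exact (hI _).1 hι _
      have := (hC z).1 hz _ h1
      rwa [mul_smul, mul_smul, inv_smul_eq_iff] at this
    have htriv : ∀ σ ∈ D, (∀ z ∈ C, π (σ • z) = π z) → σ ∈ I := by
      intro σ hσ h
      rw [hI]
      intro b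
      let G := (Finset.univ : Finset I).prod fun ι => X - Polynomial.C (ι • b)
      have hG : ∀ i, G.coeff i ∈ C := fun i g => by
        have := MulSemiringAction.smul_coeff_charpoly b i g
        rwa [MulSemiringAction.charpoly_eq] at this
      let sb : B ⧸ P →+* B ⧸ P := Ideal.quotientMap P (MulSemiringAction.toRingHom Γ B σ)
        (fun z hz => (mem_of_stab hσ).2 hz)
      have h1 : (G.map π).map sb = G.map π := by
        ext i
        rw [coeff_map, coeff_map]
        exact h _ (hG i)
      rw [hpi, Polynomial.map_pow, Polynomial.map_sub, map_X, map_C] at h1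
      have h2 := congrArg (Polynomial.eval (π b)) h1
      simp only [eval_pow, eval_sub, eval_X, eval_C, sub_self,
        zero_pow (Fintype.card_ne_zero (α := I))] at h2
      have h3 : π b - π (σ • b) = 0 := eq_zero_of_pow_eq_zero h2
      exact Ideal.Quotient.eq.1 (sub_eq_zero.1 h3).symm
    obtain ⟨c0, hc0, hc0'⟩ : ∃ c : B, c - 1 ∈ P ∧ ∀ γ ∉ D, γ • c ∈ P := by
      let s := (Finset.univ : Finset Γ).filter (fun γ => γ ∉ D)
      have hn : ¬ (s.inf fun γ => γ⁻¹ • P) ≤ P := by
        rw [Ideal.IsPrime.inf_le' inferInstance]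
        rintro ⟨γ, hγ, hle⟩
        rw [Ideal.pointwise_smul_subset_iff, inv_inv] at hle
        exact (Finset.mem_filter.1 hγ).2 (smul_eq_of_le_smul hle)
      obtain ⟨u, hu, huP⟩ := SetLike.not_le_iff_exists.1 hn
      obtain ⟨v, m, hm, hv⟩ := ‹P.IsMaximal›.exists_inv huP
      refine ⟨v * u, by rw [← hv]; simpa using P.neg_mem hm, fun γ hγ => ?_⟩
      have h2 := Submodule.mem_finsetInf.1 hu γ (Finset.mem_filter.2 ⟨Finset.mem_univ _, hγ⟩)
      rw [Ideal.mem_pointwise_smul_iff_inv_smul_mem, inv_inv] at h2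
      rw [smul_mul']
      exact P.mul_mem_left _ h2
    obtain ⟨c, hcC, hc1, hcD⟩ : ∃ c ∈ C, π c = 1 ∧ ∀ γ ∉ D, γ • c ∈ P := by
      refine ⟨∏ ι : I, ι • c0, fun g => Finset.smul_prod_perm c0 g, ?_, fun γ hγ => ?_⟩
      · rw [map_prod]
        refine Finset.prod_eq_one fun ι _ => ?_
        rw [← map_one π, Ideal.Quotient.eq]
        have : ι.1 • c0 - c0 ∈ P := (hI _).1 ι.2 c0
        change ι.1 • c0 - 1 ∈ P
        simpa using P.add_mem this hc0
      · rw [Finset.smul_prod']
        refine P.prod_mem (Finset.mem_univ (1 : I)) ?_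
        rw [one_smul]
        exact hc0' γ hγ
    let F : C → Γ ⧸ I → B := fun z q => Quotient.liftOn' q (fun γ => γ • (z.1 * c)) (fun a b hab => by
      rw [QuotientGroup.leftRel_apply] at hab
      have := (hC _).1 (C.mul_mem z.2 hcC) _ hab
      rw [mul_smul, inv_smul_eq_iff] at this
      exact this.symm)
    let T : C → B := fun z => ∑ q, F z q
    have hTA : ∀ z, T z ∈ A := by
      intro z g
      rw [Finset.smul_sum]
      refine Fintype.sum_equiv (MulAction.toPerm g) _ _ fun q => ?_
      induction q using QuotientGroup.induction_on with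
      | _ a => exact (mul_smul g a _).symm
    let ψ : Γ ⧸ I → (C →* B ⧸ P) := fun q =>
      ((π.comp (MulSemiringAction.toRingHom Γ B q.out)).comp C.subtype).toMonoidHom
    let Q := (Finset.univ : Finset (Γ ⧸ I)).filter (fun q => q.out ∈ D)
    have hTπ : ∀ z, π (T z) = ∑ q ∈ Q, ψ q z := by
      intro z
      rw [map_sum, Finset.sum_filter]
      refine Finset.sum_congr rfl fun q _ => ?_
      have hF : F z q = q.out • (z.1 * c) := by
        conv_lhs => rw [← q.out_eq]
        rfl
      rw [hF, smul_mul', map_mul]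
      split_ifs with h
      · rw [show π (q.out • c) = 1 from ?_, mul_one]
        · rfl
        · rw [← map_one π, Ideal.Quotient.eq]
          have : q.out • (c - 1) ∈ P := (mem_of_stab h).2 (Ideal.Quotient.eq.1 (hc1.trans (map_one π).symm))
          rwa [smul_sub, smul_one] at this
      · rw [Ideal.Quotient.eq_zero_iff_mem.2 (hcD _ h), mul_zero]
    have hinjψ : Function.Injective fun q : Q => ψ q.1 := by
      rintro ⟨q, hq⟩ ⟨r, hr⟩ h
      have hq' := (Finset.mem_filter.1 hq).2
      have hr' := (Finset.mem_filter.1 hr).2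
      refine Subtype.ext ?_
      have : r.out⁻¹ * q.out ∈ I := htriv _ (D.mul_mem (D.inv_mem hr') hq') fun z hz => by
        have h1 := Ideal.Quotient.eq.1 (DFunLike.congr_fun h ⟨z, hz⟩)
        rw [Ideal.Quotient.eq, mul_smul, ← mem_of_stab hr', smul_sub, smul_inv_smul]
        exact h1
      change q = r
      rw [← q.out_eq, ← r.out_eq]
      exact (QuotientGroup.eq.2 this).symm
    have hli := (linearIndependent_monoidHom C (B ⧸ P)).comp (fun q : Q => ψ q.1) hinjψ
    obtain ⟨z, hz⟩ : ∃ z, π (T z) ≠ 0 := by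
      by_contra hn
      push_neg at hn
      have := Fintype.linearIndependent_iff.1 hli (fun _ => 1) (by
        funext z
        simp only [Finset.sum_apply, Pi.smul_apply, one_smul, Function.comp_apply, Pi.zero_apply]
        rw [Finset.sum_coe_sort Q (fun q => ψ q z), ← hTπ, hn])
      refine one_ne_zero (this ⟨QuotientGroup.mk (s := I) 1, Finset.mem_filter.2 ⟨Finset.mem_univ _, ?_⟩⟩)
      obtain ⟨h, hh⟩ := QuotientGroup.mk_out_eq_mul I (1 : Γ)
      rw [hh, one_mul]
      exact hID h.2
    have hfix : ∀ w : C, (∀ σ ∈ D, π (σ • w.1) = π w.1) → ∃ a : A, π a.1 = π w.1 := by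
      intro w hw
      have h1 : π (T (z * w)) = π (T z) * π w.1 := by
        rw [hTπ, hTπ, Finset.sum_mul]
        refine Finset.sum_congr rfl fun q hq => ?_
        rw [map_mul]
        exact congrArg _ (hw _ (Finset.mem_filter.1 hq).2)
      haveI : (P.under A).IsMaximal := Ideal.isMaximal_comap_of_isIntegral_of_isMaximal P
      have hne : (⟨T z, hTA z⟩ : A) ∉ P.under A := fun h => hz (Ideal.Quotient.eq_zero_iff_mem.2 h)
      obtain ⟨v, m, hm, hv⟩ := (inferInstance : (P.under A).IsMaximal).exists_inv hne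
      refine ⟨v * ⟨T (z * w), hTA _⟩, ?_⟩
      have h2 : π v.1 * π (T z) = 1 := by
        have := congrArg (fun a : A => π a.1) hv
        simp only [Subring.coe_add, Subring.coe_mul, Subring.coe_one, map_add, map_mul, map_one] at this
        rwa [show π m.1 = 0 from Ideal.Quotient.eq_zero_iff_mem.2 hm, add_zero] at this
      change π (v.1 * T (z * w)) = _
      rw [map_mul, h1, ← mul_assoc, h2, one_mul]
    let Z : Finset (B ⧸ P) := (Finset.univ : Finset D).image fun σ => π (σ.1 • y)
    let q : (B ⧸ P)[X] := ∏ e ∈ Z, (X - Polynomial.C e)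
    have hqE : q ∈ lifts (π.comp C.subtype) := by
      refine Subsemiring.prod_mem _ fun e he => ?_
      obtain ⟨σ, -, rfl⟩ := Finset.mem_image.1 he
      exact ⟨X - Polynomial.C ⟨σ.1 • y, hnorm _ σ.2 y hyC⟩, by simp⟩
    have hqA : q ∈ lifts (π.comp A.subtype) := by
      rw [lifts_iff_coeff_lifts]
      intro i
      obtain ⟨w, hw⟩ := (lifts_iff_coeff_lifts q).1 hqE i
      refine (hfix w fun σ hσ => ?_).imp fun a ha => ha.trans hw
      let sb : B ⧸ P →+* B ⧸ P := Ideal.quotientMap P (MulSemiringAction.toRingHom Γ B σ)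
        (fun z hz => (mem_of_stab hσ).2 hz)
      have hw' : π w.1 = q.coeff i := hw
      have hsb : sb (π w.1) = π (σ • w.1) := rfl
      rw [← hsb, hw', ← coeff_map]
      congr 1
      have hinj : Function.Injective sb := Ideal.quotientMap_injective' (fun z hz => (mem_of_stab hσ).1 hz)
      have himg : Z.image sb = Z := Finset.eq_of_subset_of_card_le (fun e he => by
          obtain ⟨_, hd, rfl⟩ := Finset.mem_image.1 he
          obtain ⟨d, -, rfl⟩ := Finset.mem_image.1 hd
          exact Finset.mem_image.2 ⟨⟨σ, hσ⟩ * d, Finset.mem_univ _, congrArg π (mul_smul σ d.1 y)⟩)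
        (Finset.card_image_of_injective _ hinj).ge
      conv_rhs => rw [show q = ∏ e ∈ Z.image sb, (X - Polynomial.C e) by rw [himg]]
      rw [Finset.prod_image (fun a _ b _ h => hinj h), Polynomial.map_prod]
      simp
    obtain ⟨g, hg⟩ := hqA
    have hgq : (g.map A.subtype).map π = q := by rw [Polynomial.map_map]; exact hg
    refine ⟨g.map A.subtype, fun i γ => ?_, ?_, ?_⟩
    · rw [coeff_map]; exact (g.coeff i).2 γ
    · rw [hgq]
      exact sep_prod ((Ideal.Quotient.maximal_ideal_iff_isField_quotient P).1 inferInstance) Z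
    · rw [← Ideal.Quotient.eq_zero_iff_mem, coe_aeval_eq_eval, ← eval₂_hom, ← eval_map, hgq, eval_prod]
      refine Finset.prod_eq_zero (i := π y) (Finset.mem_image.2 ⟨1, Finset.mem_univ _, by simp⟩) ?_
      rw [eval_sub, eval_X, eval_C, sub_eq_zero]
      exact Ideal.Quotient.eq.2 hxy
  · rintro ⟨g, hgΓ, hsep, hgx⟩
    haveI : (P.under C).IsMaximal := Ideal.isMaximal_comap_of_isIntegral_of_isMaximal P
    letI := Ideal.Quotient.field (P.under C)
    letI := Ideal.Quotient.field P
    have hgC : g ∈ lifts C.subtype := (lifts_iff_coeff_lifts g).2 fun i =>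
      ⟨⟨g.coeff i, fun γ => hgΓ i γ.1⟩, rfl⟩
    obtain ⟨g0, rfl⟩ := hgC
    obtain ⟨G0, hG0⟩ : ∃ G0 : C[X], G0.map C.subtype = ∏ ι : I, (X - Polynomial.C (ι • x)) :=
      (lifts_iff_coeff_lifts _).2 fun i =>
        ⟨⟨_, fun h => by
          have := MulSemiringAction.smul_coeff_charpoly x i h
          rwa [MulSemiringAction.charpoly_eq] at this⟩, rfl⟩
    let e := algebraMap (C ⧸ P.under C) (B ⧸ P)
    let η := Ideal.Quotient.mk (P.under C)
    have hcomp : ∀ f : C[X], (f.map η).map e = (f.map C.subtype).map π := fun f => by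
      rw [Polynomial.map_map, Polynomial.map_map]; rfl
    have hr1 : aeval (π x) (g0.map η) = 0 := by
      rw [aeval_def, eval₂_eq_eval_map, hcomp, eval_map, eval₂_hom, ← coe_aeval_eq_eval]
      exact Ideal.Quotient.eq_zero_iff_mem.2 hgx
    have hr2 : aeval (π x) (G0.map η) = 0 := by
      rw [aeval_def, eval₂_eq_eval_map, hcomp, hG0, hpi, eval_pow, eval_sub, eval_X, eval_C, sub_self,
        zero_pow Fintype.card_ne_zero]
    have hd1 := Polynomial.map_dvd e (minpoly.dvd _ _ hr1)
    have hd2 := Polynomial.map_dvd e (minpoly.dvd _ _ hr2)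
    rw [hcomp] at hd1
    rw [hcomp, hG0, hpi] at hd2
    have hsep' := hsep.of_dvd hd1
    have hint : IsIntegral (C ⧸ P.under C) (π x) := Algebra.IsIntegral.isIntegral _
    obtain ⟨i, -, hi⟩ := (dvd_prime_pow (prime_X_sub_C (π x)) _).1 hd2
    have hm := eq_of_monic_of_associated ((minpoly.monic hint).map e) ((monic_X_sub_C _).pow i) hi
    have hdeg : (minpoly (C ⧸ P.under C) (π x)).natDegree = 1 := by
      have hpos := minpoly.natDegree_pos hint
      rw [← natDegree_map e, hm, natDegree_pow, natDegree_X_sub_C, mul_one] at hpos ⊢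
      exact ((Polynomial.Separable.of_pow (not_isUnit_X_sub_C _) hpos.ne' (hm ▸ hsep'))).2
    obtain ⟨a, ha⟩ := minpoly.natDegree_eq_one_iff.1 hdeg
    obtain ⟨a, rfl⟩ := Ideal.Quotient.mk_surjective a
    exact ⟨a.1, fun γ hγ => a.2 ⟨γ, hγ⟩, Ideal.Quotient.eq.1 ha.symm⟩

end Groth.Agent.S12937
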