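import Groth.Statements.S1294

import Groth.Agent.PureColimLib.Model
import Groth.Agent.PolLawBCLib.Norm
import Groth.Agent.S0448

set_option autoImplicit false
set_option linter.style.haveILetI false
set_option backward.isDefEq.respectTransparency false
set_option backward.isDefEq.respectTransparency.types false
set_option maxHeartbeats 2000000
set_option synthInstance.maxHeartbeats 200000
universe u
open FlatMor

namespace Groth.Agent.S1294

open TensorProduct

/-- Over a pushout square a base change along the base is a base change along the top. -/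
theorem isBaseChange_extend {R R' Q Q' : Type u} [CommRing R] [CommRing R'] [CommRing Q] [CommRing Q'] [Algebra R R'] [Algebra R Q]
    [Algebra R Q'] [Algebra R' Q'] [Algebra Q Q'] [IsScalarTower R R' Q'] [IsScalarTower R Q Q'] [Algebra.IsPushout R R' Q Q']
    {X Y : Type u} [AddCommGroup X] [Module R X] [Module R' X] [IsScalarTower R R' X]
    [AddCommGroup Y] [Module R Y] [Module R' Y] [Module Q Y] [Module Q' Y] [IsScalarTower R R' Y] [IsScalarTower R Q Y]
    [IsScalarTower R' Q' Y] [IsScalarTower Q Q' Y] (f : X →ₗ[R'] Y) (hf : IsBaseChange Q (f.restrictScalars R)) :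
    IsBaseChange Q' f := by
  haveI : Algebra.IsPushout R Q R' Q' := Algebra.IsPushout.symm inferInstance
  let L : Q' ⊗[R'] X →ₗ[Q'] Y := f.liftBaseChange Q'
  have hL : ∀ z, L ((Algebra.IsPushout.cancelBaseChange R Q R' Q' X).symm z) = hf.equiv z := fun z => by
    induction z with
    | zero => simp
    | add a b ha hb => simp only [map_add, ha, hb]
    | tmul q x =>
      rw [Algebra.IsPushout.cancelBaseChange_symm_tmul, LinearMap.liftBaseChange_tmul, IsBaseChange.equiv_tmul, algebraMap_smul]
      rfl
  have hbij : Function.Bijective L := by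
    have : ⇑L = hf.equiv ∘ Algebra.IsPushout.cancelBaseChange R Q R' Q' X := funext fun z => by
      rw [Function.comp_apply, ← hL, LinearEquiv.symm_apply_apply]
    rw [this]
    exact hf.equiv.bijective.comp (LinearEquiv.bijective _)
  exact IsBaseChange.of_equiv (LinearEquiv.ofBijective L hbij) fun x => by simp [L]

/-- A finitely presented module over a localization comes from the ring. -/
theorem exists_fp_lift {B : Type u} [CommRing B] (T : Submonoid B) (N : Type u) [AddCommGroup N] [Module (Localization T) N]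
    [Module B N] [IsScalarTower B (Localization T) N] [Module.FinitePresentation (Localization T) N] :
    ∃ (M : Type u) (_ : AddCommGroup M) (_ : Module B M) (_ : Module.FinitePresentation B M) (l : M →ₗ[B] N),
      IsBaseChange (Localization T) l := by
  classical
  obtain ⟨m, K, e, hK⟩ := Module.FinitePresentation.exists_fin (Localization T) N
  obtain ⟨k, w, hw⟩ := Submodule.fg_iff_exists_fin_generating_family.1 hK
  have hnum : ∀ l : Fin k, ∃ (s : T) (v : Fin m → B), algebraMap B (Localization T) ∘ v = algebraMap B (Localization T) s • w l := by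
    intro l
    obtain ⟨s, hs⟩ := IsLocalization.exist_integer_multiples_of_finite T (w l)
    choose v hv using hs
    exact ⟨s, v, funext fun i => by simpa [Algebra.smul_def] using hv i⟩
  choose s v hv using hnum
  obtain ⟨l, hl⟩ := PureColimLib.exists_module_model (B₁ := B) N (e.symm.toLinearMap ∘ₗ K.mkQ)
    (e.symm.surjective.comp K.mkQ_surjective) v (by
    rw [LinearEquiv.ker_comp, Submodule.ker_mkQ, ← hw]
    refine le_antisymm (Submodule.span_le.2 ?_) (Submodule.span_le.2 ?_) <;> rintro _ ⟨i, rfl⟩
    · obtain ⟨c, hc⟩ := (IsLocalization.map_units (Localization T) (s i)).exists_left_inv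
      have : w i = c • (algebraMap B (Localization T) ∘ v i) := by rw [hv, smul_smul, hc, one_smul]
      rw [this]
      exact Submodule.smul_mem _ _ (Submodule.subset_span ⟨i, rfl⟩)
    · dsimp only
      rw [hv]
      exact Submodule.smul_mem _ _ (Submodule.subset_span ⟨i, rfl⟩))
  exact ⟨_, inferInstance, inferInstance, Module.finitePresentation_of_surjective (Submodule.mkQ _) (Submodule.mkQ_surjective _)
    (by rw [Submodule.ker_mkQ]; exact Submodule.fg_span (Set.finite_range _)), l, hl⟩

/-- One element of a multiplicative set kills all torsion of a finite module over a Noetherian algebra. -/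
theorem exists_kill {B R P : Type u} [CommRing B] [CommRing R] [Algebra B R] [IsNoetherianRing R] [AddCommGroup P] [Module R P]
    [Module.Finite R P] (T : Submonoid B) :
    ∃ f ∈ T, ∀ t ∈ T, ∀ y : P, algebraMap B R t • y = 0 → algebraMap B R f • y = 0 := by
  classical
  let tors : Submodule R P :=
    { carrier := {y | ∃ t ∈ T, algebraMap B R t • y = 0}
      zero_mem' := ⟨1, T.one_mem, by simp⟩
      add_mem' := fun {a b} ⟨s, hs, ha⟩ ⟨t, ht, hb⟩ => ⟨s * t, T.mul_mem hs ht, by
        rw [map_mul, smul_add, mul_smul, mul_smul, hb, smul_zero, add_zero, smul_comm, ha, smul_zero]⟩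
      smul_mem' := fun c y ⟨t, ht, hy⟩ => ⟨t, ht, by rw [smul_comm, hy, smul_zero]⟩ }
  obtain ⟨G, hG⟩ := (IsNoetherian.noetherian tors : tors.FG)
  have hgen : ∀ y ∈ G, ∃ t ∈ T, algebraMap B R t • y = 0 := fun y hy =>
    show y ∈ tors from hG ▸ Submodule.subset_span hy
  choose φ hφT hφ using hgen
  refine ⟨∏ y : G, φ y.1 y.2, T.prod_mem fun y _ => hφT _ _, fun t ht y hy => ?_⟩
  have hle : tors ≤ LinearMap.ker (LinearMap.lsmul R P (algebraMap B R (∏ y : G, φ y.1 y.2))) := by
    rw [← hG, Submodule.span_le]
    intro z hz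
    show algebraMap B R _ • z = 0
    rw [← Finset.prod_erase_mul _ _ (Finset.mem_univ (⟨z, hz⟩ : G)), map_mul, mul_smul, hφ z hz, smul_zero]
  exact hle (show y ∈ tors from ⟨t, ht, hy⟩)

/-- Injectivity of an endomorphism after base change does not depend on the chosen base change. -/
theorem injective_of_isBaseChange {A K X Y Y' : Type u} [CommRing A] [CommRing K] [Algebra A K] [AddCommGroup X] [Module A X]
    [AddCommGroup Y] [Module A Y] [Module K Y] [IsScalarTower A K Y]
    [AddCommGroup Y'] [Module A Y'] [Module K Y'] [IsScalarTower A K Y']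
    {φ : X →ₗ[A] Y} (hφ : IsBaseChange K φ) {φ' : X →ₗ[A] Y'} (hφ' : IsBaseChange K φ')
    (u : X →ₗ[A] X) (v : Y →ₗ[K] Y) (v' : Y' →ₗ[K] Y') (hv : ∀ x, v (φ x) = φ (u x)) (hv' : ∀ x, v' (φ' x) = φ' (u x))
    (h : Function.Injective v) : Function.Injective v' := by
  let e : Y ≃ₗ[K] Y' := hφ.equiv.symm ≪≫ₗ hφ'.equiv
  have he : ∀ x, e (φ x) = φ' x := fun x => by simp [e, hφ.equiv_symm_apply, hφ'.equiv_tmul]
  have hcomm : v'.comp e.toLinearMap = e.toLinearMap.comp v := hφ.algHom_ext _ _ fun x => by
    simp [he, hv, hv']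
  intro a b hab
  obtain ⟨a, rfl⟩ := e.surjective a
  obtain ⟨b, rfl⟩ := e.surjective b
  rw [show v' (e a) = e (v a) from LinearMap.congr_fun hcomm a, show v' (e b) = e (v b) from LinearMap.congr_fun hcomm b] at hab
  rw [h (e.injective hab)]

/-- A localization map is universally injective once all multiplications are. -/
theorem univInj_localization {A C : Type u} [CommRing A] [CommRing C] [Algebra A C] (S : Submonoid C)
    (D : Type u) [CommRing D] [Algebra C D] [Algebra A D] [IsScalarTower A C D] [IsLocalization S D]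
    {X Y : Type u} [AddCommGroup X] [Module C X] [Module A X] [IsScalarTower A C X]
    [AddCommGroup Y] [Module C Y] [Module A Y] [IsScalarTower A C Y] [Module D Y] [IsScalarTower C D Y]
    (g : X →ₗ[C] Y) (hg : IsBaseChange D g)
    (hS : ∀ (P : Type u) [AddCommGroup P] [Module A P], ∀ s ∈ S,
      Function.Injective (((LinearMap.lsmul C X s).restrictScalars A).rTensor P)) :
    FlatCA.UnivInj A (g.restrictScalars A) := by
  intro P _ _
  rw [LinearMap.lTensor_inj_iff_rTensor_inj, injective_iff_map_eq_zero]
  intro z hz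
  let Z := D ⊗[C] (X ⊗[A] P)
  let θ : (D ⊗[C] X) ⊗[A] P ≃ₗ[C] Z := TensorProduct.AlgebraTensorModule.assoc A C C D X P
  let η : Y ⊗[A] P ≃ₗ[C] (D ⊗[C] X) ⊗[A] P :=
    TensorProduct.AlgebraTensorModule.congr (hg.equiv.symm.restrictScalars C) (LinearEquiv.refl A P)
  have hcomp : ∀ w, θ (η ((g.restrictScalars A).rTensor P w)) = (1 : D) ⊗ₜ[C] w := fun w => by
    induction w with
    | zero => simp
    | add a b ha hb => simp only [map_add, ha, hb, TensorProduct.tmul_add]
    | tmul x p => simp [θ, η, hg.equiv_symm_apply]; rfl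
  have h0 : TensorProduct.mk C D (X ⊗[A] P) 1 z = 0 := by
    rw [TensorProduct.mk_apply, ← hcomp, hz, map_zero, map_zero]
  haveI : IsLocalizedModule S (TensorProduct.mk C D (X ⊗[A] P) 1) :=
    (isLocalizedModule_iff_isBaseChange S D _).2 (TensorProduct.isBaseChange _ _ _)
  obtain ⟨s, hs⟩ := (IsLocalizedModule.eq_zero_iff S (TensorProduct.mk C D (X ⊗[A] P) 1)).1 h0
  have hact : ∀ w : X ⊗[A] P, ((LinearMap.lsmul C X (s : C)).restrictScalars A).rTensor P w = (s : C) • w := fun w => by
    induction w with
    | zero => simp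
    | add a b ha hb => simp only [map_add, ha, hb, smul_add]
    | tmul x p => simp [TensorProduct.smul_tmul']
  exact hS P s s.2 ((hact z).trans (hs.trans (map_zero _).symm))

/-- A finitely generated ideal of the local ring makes the module projective. -/
theorem exists_projective_quotient {A B : Type u} [CommRing A] [CommRing B] [Algebra A B] [Algebra.FinitePresentation A B]
    (M : Type u) [AddCommGroup M] [Module B M] [Module A M] [IsScalarTower A B M] [Module.FinitePresentation B M]
    (p : Ideal A) [p.IsPrime] :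
    ∃ I : Ideal (Localization.AtPrime p), I.FG ∧ I ≤ IsLocalRing.maximalIdeal (Localization.AtPrime p) ∧
      Module.Projective (Localization.AtPrime p ⧸ I) ((Localization.AtPrime p ⧸ I) ⊗[A] M) := by
  classical
  let G : Finset A → Type u := fun F => Algebra.adjoin ℤ (F : Set A)
  let g : ∀ F F' : Finset A, F ≤ F' → G F →+* G F' := fun F F' h =>
    (Subalgebra.inclusion (Algebra.adjoin_mono (Finset.coe_subset.2 h))).toRingHom
  have hcolim : FlatCA.IsDirectedColimitRing G g A :=
    ⟨inferInstance, inferInstance, fun F => rfl, fun _ _ _ _ _ => rfl, fun _ _ _ => rfl,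
      fun a => ⟨{a}, ⟨a, Algebra.subset_adjoin (by simp)⟩, rfl⟩,
      fun F x hx => ⟨F, le_rfl, Subtype.ext hx⟩⟩
  obtain ⟨F, B₀, M₀, _, _, _, _, _, _, _, _, _, _, _, _, φ, -, hpo, -, hφ⟩ :=
    PureColimLib.exists_model (g := g) hcolim (B := B) M
  haveI := hpo
  haveI : IsScalarTower (G F) B₀ M := IsScalarTower.of_algebraMap_smul (R := (G F)) (A := B₀) (M := M) fun a x => by
    show algebraMap (G F) B₀ a • x = algebraMap (G F) A a • x
    rw [← algebraMap_smul B (algebraMap (G F) B₀ a) x, ← IsScalarTower.algebraMap_apply,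
      IsScalarTower.algebraMap_apply (G F) A B, algebraMap_smul]
  haveI : Algebra.IsPushout (G F) B₀ A B := Algebra.IsPushout.symm hpo
  have hφA : IsBaseChange A (φ.restrictScalars (G F)) := PolLawBCLib.isBaseChange_restrict φ hφ
  haveI : IsNoetherianRing (G F) := by
    haveI : Algebra.FiniteType ℤ (G F) := (Algebra.adjoin ℤ (F : Set A)).fg_iff_finiteType.1 ⟨F, rfl⟩
    exact Algebra.FiniteType.isNoetherianRing ℤ (G F)
  let p₀ : Ideal (G F) := p.comap (algebraMap (G F) A)
  let I : Ideal (Localization.AtPrime p) := p₀.map ((algebraMap A (Localization.AtPrime p)).comp (algebraMap (G F) A))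
  have hI : I ≤ IsLocalRing.maximalIdeal (Localization.AtPrime p) := Ideal.map_le_iff_le_comap.2 fun x hx => by
    rw [← Localization.AtPrime.map_eq_maximalIdeal]
    exact Ideal.mem_map_of_mem _ hx
  refine ⟨I, Ideal.FG.map (IsNoetherian.noetherian p₀) _, hI, ?_⟩
  let A₁ := Localization.AtPrime p ⧸ I
  haveI : p₀.IsPrime := inferInstance
  letI : Algebra p₀.ResidueField A₁ := (Ideal.ResidueField.lift p₀ (algebraMap (G F) A₁) (fun x hx => by
      show algebraMap A A₁ (algebraMap (G F) A x) = 0
      rw [IsScalarTower.algebraMap_apply A (Localization.AtPrime p) A₁, Ideal.Quotient.algebraMap_eq,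
        Ideal.Quotient.eq_zero_iff_mem]
      exact Ideal.mem_map_of_mem _ hx) (fun x hx => by
      show IsUnit (algebraMap A A₁ (algebraMap (G F) A x))
      rw [IsScalarTower.algebraMap_apply A (Localization.AtPrime p) A₁]
      exact (IsLocalization.map_units (Localization.AtPrime p) (⟨_, hx⟩ : p.primeCompl)).map _)).toAlgebra
  haveI : IsScalarTower (G F) p₀.ResidueField A₁ :=
    .of_algebraMap_eq fun x => (Ideal.ResidueField.lift_algebraMap _ _ _ _ x).symm
  let e : A₁ ⊗[A] M ≃ₗ[A₁] A₁ ⊗[p₀.ResidueField] (p₀.ResidueField ⊗[G F] M₀) :=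
    TensorProduct.AlgebraTensorModule.congr (LinearEquiv.refl A₁ A₁) hφA.equiv.symm ≪≫ₗ
      TensorProduct.AlgebraTensorModule.cancelBaseChange (G F) A A₁ A₁ M₀ ≪≫ₗ
      (TensorProduct.AlgebraTensorModule.cancelBaseChange (G F) p₀.ResidueField A₁ A₁ M₀).symm
  exact Module.Projective.of_equiv e.symm

/-- Torsion killed by `f` gives regularity on the fibre of the localization at `f`. -/
theorem injective_fiber {A B : Type u} [CommRing A] [CommRing B] [Algebra A B] (K : Type u) [Field K] [Algebra A K]
    {M : Type u} [AddCommGroup M] [Module B M] (T : Submonoid B) {f : B} (hfT : f ∈ T)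
    (Bf : Type u) [CommRing Bf] [Algebra B Bf] [Algebra A Bf] [IsScalarTower A B Bf] [IsLocalization.Away f Bf]
    {Mf : Type u} [AddCommGroup Mf] [Module B Mf] [Module Bf Mf] [IsScalarTower B Bf Mf] [Module A Mf] [IsScalarTower A Bf Mf]
    (ι : M →ₗ[B] Mf) (hι : IsBaseChange Bf ι)
    (hf : ∀ t ∈ T, ∀ y : (B ⊗[A] K) ⊗[B] M, algebraMap B (B ⊗[A] K) t • y = 0 → algebraMap B (B ⊗[A] K) f • y = 0)
    (t : B) (ht : t ∈ T) : Function.Injective (((LinearMap.lsmul Bf Mf (algebraMap B Bf t)).restrictScalars A).lTensor K) := by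
  letI : Algebra K (B ⊗[A] K) := Algebra.TensorProduct.rightAlgebra
  let E := Localization.Away (algebraMap B (B ⊗[A] K) f)
  let P := (B ⊗[A] K) ⊗[B] M
  let Q := E ⊗[B ⊗[A] K] P
  letI : Algebra Bf E := (IsLocalization.Away.lift f (g := algebraMap B E) (by
    rw [IsScalarTower.algebraMap_apply B (B ⊗[A] K) E]
    exact IsLocalization.Away.algebraMap_isUnit _)).toAlgebra
  haveI : IsScalarTower B Bf E := IsScalarTower.of_algebraMap_eq (R := B) (S := Bf) (A := E) fun b => (IsLocalization.Away.lift_eq f _ b).symm
  haveI : IsScalarTower A Bf E := IsScalarTower.of_algebraMap_eq (R := A) (S := Bf) (A := E) fun a => by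
    rw [IsScalarTower.algebraMap_apply A B Bf, ← IsScalarTower.algebraMap_apply B Bf E, ← IsScalarTower.algebraMap_apply]
  haveI : IsLocalization (Algebra.algebraMapSubmonoid (B ⊗[A] K) (Submonoid.powers f)) E := by
    rw [show Algebra.algebraMapSubmonoid (B ⊗[A] K) (Submonoid.powers f) = Submonoid.powers (algebraMap B (B ⊗[A] K) f) from
      Submonoid.map_powers _ _]
    infer_instance
  haveI : Algebra.IsPushout B (B ⊗[A] K) Bf E :=
    Algebra.IsPushout.symm (Algebra.IsPushout.symm (Algebra.isPushout_of_isLocalization (R := B) (Submonoid.powers f) Bf (B ⊗[A] K) E))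
  haveI : Algebra.IsPushout B Bf (B ⊗[A] K) E := Algebra.IsPushout.symm inferInstance
  haveI : Algebra.IsPushout A Bf K E :=
    (Algebra.IsPushout.comp_iff (R := A) (S := B) (R' := K) (S' := B ⊗[A] K) (T := Bf) (T' := E)).2 inferInstance
  letI : Module Bf Q := Module.compHom Q (algebraMap Bf E)
  haveI : IsScalarTower Bf E Q := IsScalarTower.of_algebraMap_smul (R := Bf) (A := E) (M := Q) fun _ _ => rfl
  haveI : IsScalarTower B Bf Q := IsScalarTower.of_algebraMap_smul (R := B) (A := Bf) (M := Q) fun b x => by
    show algebraMap Bf E (algebraMap B Bf b) • x = b • x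
    rw [← IsScalarTower.algebraMap_apply, algebraMap_smul]
  haveI : IsScalarTower A Bf Q := IsScalarTower.of_algebraMap_smul (R := A) (A := Bf) (M := Q) fun b x => by
    show algebraMap Bf E (algebraMap A Bf b) • x = b • x
    rw [← IsScalarTower.algebraMap_apply, algebraMap_smul]
  let j : M →ₗ[B] Q := ((TensorProduct.mk (B ⊗[A] K) E P 1).restrictScalars B).comp (TensorProduct.mk B (B ⊗[A] K) M 1)
  have hj : IsBaseChange E j := (TensorProduct.isBaseChange B M (B ⊗[A] K)).comp (TensorProduct.isBaseChange (B ⊗[A] K) P E)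
  let φ : Mf →ₗ[Bf] Q := hι.lift j
  have hφE : IsBaseChange E φ := IsBaseChange.of_comp hι (h := φ) (by
    rw [show (φ.restrictScalars B).comp ι = j from hι.lift_comp j]; exact hj)
  have hφ : IsBaseChange K (φ.restrictScalars A) := PolLawBCLib.isBaseChange_restrict φ hφE
  haveI : IsLocalizedModule (Submonoid.powers (algebraMap B (B ⊗[A] K) f)) (TensorProduct.mk (B ⊗[A] K) E P 1) :=
    (isLocalizedModule_iff_isBaseChange _ E _).2 (TensorProduct.isBaseChange _ _ _)
  let v : Q →ₗ[K] Q := (LinearMap.lsmul E Q (algebraMap B E t)).restrictScalars K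
  have hv : Function.Injective v := by
    rw [injective_iff_map_eq_zero]
    intro q hq
    obtain ⟨⟨y, s⟩, hys⟩ := IsLocalizedModule.surj (Submonoid.powers (algebraMap B (B ⊗[A] K) f)) (TensorProduct.mk (B ⊗[A] K) E P 1) q
    have h1 : TensorProduct.mk (B ⊗[A] K) E P 1 (algebraMap B (B ⊗[A] K) t • y) = 0 := by
      rw [map_smul, ← hys, smul_comm, ← algebraMap_smul E (algebraMap B (B ⊗[A] K) t) q, ← IsScalarTower.algebraMap_apply]
      exact (congrArg (s • ·) hq).trans (smul_zero _)
    obtain ⟨⟨_, n, rfl⟩, hn⟩ := (IsLocalizedModule.eq_zero_iff (Submonoid.powers (algebraMap B (B ⊗[A] K) f)) _).1 h1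
    have h2 : algebraMap B (B ⊗[A] K) (f ^ n * t) • y = 0 := by
      rw [map_mul, map_pow, mul_smul]
      exact hn
    have h3 : TensorProduct.mk (B ⊗[A] K) E P 1 y = 0 :=
      (IsLocalizedModule.eq_zero_iff (Submonoid.powers (algebraMap B (B ⊗[A] K) f)) _).2
        ⟨⟨_, Submonoid.mem_powers _⟩, hf _ (T.mul_mem (T.pow_mem hfT n) ht) y h2⟩
    rw [← hys] at h3
    exact ((Module.End.isUnit_iff _).1 (IsLocalizedModule.map_units (TensorProduct.mk (B ⊗[A] K) E P 1) s)).1
      (h3.trans (map_zero _).symm)
  refine injective_of_isBaseChange hφ (TensorProduct.isBaseChange A Mf K)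
    ((LinearMap.lsmul Bf Mf (algebraMap B Bf t)).restrictScalars A) v
    (LinearMap.baseChange K ((LinearMap.lsmul Bf Mf (algebraMap B Bf t)).restrictScalars A)) (fun x => ?_) (fun x => ?_) hv
  · show algebraMap B E t • φ x = φ (algebraMap B Bf t • x)
    rw [map_smul, ← algebraMap_smul E (algebraMap B Bf t), ← IsScalarTower.algebraMap_apply]
  · simp

open IsLocalRing in
/-- Let B be a finitely presented A-algebra, T ⊆ B a multiplicative subset and N a finitely presented
T⁻¹B-module. Then for every prime p of A there is a finitely generated ideal I of A_p contained in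
its maximal ideal such that, writing A₁ = A_p/I, B₁ = B ⊗_A A₁, T₁ for the image of T in B₁ and N₁
for the base change of N (a T₁⁻¹B₁-module; any models), the base-changed data admits a pure
spreadout over A₁. -/
theorem result {A B : Type u} [CommRing A] [CommRing B] [Algebra A B] [Algebra.FinitePresentation A B]
    (T : Submonoid B) (N : Type u) [AddCommGroup N] [Module (Localization T) N] [Module B N] [Module A N]
    [IsScalarTower B (Localization T) N] [IsScalarTower A (Localization T) N] [IsScalarTower A B N]
    [Module.FinitePresentation (Localization T) N] (p : Ideal A) [p.IsPrime] :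
    ∃ I : Ideal (Localization.AtPrime p), I.FG ∧ I ≤ maximalIdeal (Localization.AtPrime p) ∧
      ∀ (B₁ N₁ : Type u) [CommRing B₁] [Algebra B B₁] [Algebra (Localization.AtPrime p ⧸ I) B₁] [Algebra A B₁]
        [IsScalarTower A B B₁] [IsScalarTower A (Localization.AtPrime p ⧸ I) B₁]
        [Algebra.IsPushout A B (Localization.AtPrime p ⧸ I) B₁]
        [AddCommGroup N₁] [Module (Localization (T.map (algebraMap B B₁))) N₁] [Module (Localization.AtPrime p ⧸ I) N₁]
        [IsScalarTower (Localization.AtPrime p ⧸ I) (Localization (T.map (algebraMap B B₁))) N₁]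
        [Module B N₁] [IsScalarTower B (Localization (T.map (algebraMap B B₁))) N₁]
        [Module A N₁] [IsScalarTower A (Localization.AtPrime p ⧸ I) N₁] [IsScalarTower A B N₁]
        (h : N →ₗ[B] N₁), IsBaseChange (Localization.AtPrime p ⧸ I) (h.restrictScalars A) →
        FlatCA.HasPureSpreadout (Localization.AtPrime p ⧸ I) B₁ (T.map (algebraMap B B₁)) N₁ := by
  classical
  obtain ⟨M, _, _, hMfp, l, hl⟩ := exists_fp_lift T N
  haveI := hMfp
  let K := p.ResidueField
  letI : Algebra K (B ⊗[A] K) := Algebra.TensorProduct.rightAlgebra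
  haveI : Algebra.FiniteType K (B ⊗[A] K) := by
    let e : (K ⊗[A] B) ≃ₐ[K] (B ⊗[A] K) :=
      { Algebra.TensorProduct.comm A K B with commutes' := fun s => by simp [RingHom.algebraMap_toAlgebra] }
    exact Algebra.FiniteType.equiv inferInstance e
  haveI : IsNoetherianRing (B ⊗[A] K) := Algebra.FiniteType.isNoetherianRing K _
  obtain ⟨f, hfT, hf⟩ := exists_kill (B := B) (R := B ⊗[A] K) (P := (B ⊗[A] K) ⊗[B] M) T
  let Bf := Localization.Away f
  haveI : Algebra.FinitePresentation A Bf :=
    haveI : Algebra.FinitePresentation B Bf := IsLocalization.Away.finitePresentation f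
    Algebra.FinitePresentation.trans A B Bf
  let Mf := Bf ⊗[B] M
  obtain ⟨I, hIfg, hIle, hproj⟩ := exists_projective_quotient (A := A) (B := Bf) Mf p
  haveI := hproj
  refine ⟨I, hIfg, hIle, ?_⟩
  intro B₁ N₁ _ _ _ _ _ _ hpo _ _ _ _ _ _ _ _ _ h hh
  haveI := hpo
  let A₁ := Localization.AtPrime p ⧸ I
  let T₁ := T.map (algebraMap B B₁)
  let C := Localization.Away (algebraMap B B₁ f)
  let D := Localization T₁
  letI : Algebra C D := (IsLocalization.Away.lift (algebraMap B B₁ f) (g := algebraMap B₁ D)
    (IsLocalization.map_units D (⟨_, Submonoid.mem_map_of_mem _ hfT⟩ : T₁))).toAlgebra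
  haveI : IsScalarTower B₁ C D := IsScalarTower.of_algebraMap_eq (R := B₁) (S := C) (A := D) fun b => (IsLocalization.Away.lift_eq _ _ b).symm
  haveI : IsScalarTower B C D := IsScalarTower.of_algebraMap_eq (R := B) (S := C) (A := D) fun b => by
    rw [IsScalarTower.algebraMap_apply B B₁ C, ← IsScalarTower.algebraMap_apply B₁ C D, ← IsScalarTower.algebraMap_apply]
  haveI : IsScalarTower A₁ C D := IsScalarTower.of_algebraMap_eq (R := A₁) (S := C) (A := D) fun b => by
    rw [IsScalarTower.algebraMap_apply A₁ B₁ C, ← IsScalarTower.algebraMap_apply B₁ C D, ← IsScalarTower.algebraMap_apply]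
  letI : Module C N₁ := Module.compHom N₁ (algebraMap C D)
  haveI : IsScalarTower C D N₁ := IsScalarTower.of_algebraMap_smul (R := C) (A := D) (M := N₁) fun _ _ => rfl
  haveI : IsScalarTower A₁ C N₁ := IsScalarTower.of_algebraMap_smul (R := A₁) (A := C) (M := N₁) fun b x => by
    show algebraMap C D (algebraMap A₁ C b) • x = b • x
    rw [← IsScalarTower.algebraMap_apply, algebraMap_smul]
  haveI : IsScalarTower B C N₁ := IsScalarTower.of_algebraMap_smul (R := B) (A := C) (M := N₁) fun b x => by
    show algebraMap C D (algebraMap B C b) • x = b • x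
    rw [← IsScalarTower.algebraMap_apply, algebraMap_smul]
  let LT := Localization T
  letI : Algebra LT D := (IsLocalization.lift (M := T) (g := algebraMap B D) fun t => by
    rw [IsScalarTower.algebraMap_apply B B₁ D]
    exact IsLocalization.map_units D (⟨_, Submonoid.mem_map_of_mem _ t.2⟩ : T₁)).toAlgebra
  haveI : IsScalarTower B LT D := IsScalarTower.of_algebraMap_eq (R := B) (S := LT) (A := D) fun b => (IsLocalization.lift_eq _ b).symm
  haveI : IsScalarTower A LT D := IsScalarTower.of_algebraMap_eq (R := A) (S := LT) (A := D) fun b => by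
    rw [IsScalarTower.algebraMap_apply A B LT, ← IsScalarTower.algebraMap_apply B LT D, ← IsScalarTower.algebraMap_apply]
  haveI : IsLocalization (Algebra.algebraMapSubmonoid B₁ T) D := (inferInstance : IsLocalization T₁ (Localization T₁))
  haveI : Algebra.IsPushout B LT B₁ D := Algebra.IsPushout.symm (Algebra.isPushout_of_isLocalization (R := B) T LT B₁ D)
  haveI : Algebra.IsPushout A LT A₁ D :=
    (Algebra.IsPushout.comp_iff (R := A) (S := B) (R' := A₁) (S' := B₁) (T := LT) (T' := D)).2 inferInstance
  letI : Module LT N₁ := Module.compHom N₁ (algebraMap LT D)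
  haveI : IsScalarTower LT D N₁ := IsScalarTower.of_algebraMap_smul (R := LT) (A := D) (M := N₁) fun _ _ => rfl
  haveI : IsScalarTower B LT N₁ := IsScalarTower.of_algebraMap_smul (R := B) (A := LT) (M := N₁) fun b x => by
    show algebraMap LT D (algebraMap B LT b) • x = b • x
    rw [← IsScalarTower.algebraMap_apply, algebraMap_smul]
  haveI : IsScalarTower A LT N₁ := IsScalarTower.of_algebraMap_smul (R := A) (A := LT) (M := N₁) fun b x => by
    rw [IsScalarTower.algebraMap_apply A B LT, algebraMap_smul, algebraMap_smul]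
  let h' : N →ₗ[LT] N₁ := LinearMap.extendScalarsOfIsLocalization T LT h
  have hres : h'.restrictScalars B = h := LinearMap.ext fun _ => rfl
  have hresA : h'.restrictScalars A = h.restrictScalars A := LinearMap.ext fun _ => rfl
  have hh' : IsBaseChange D h' := isBaseChange_extend (R := A) (R' := LT) (Q := A₁) (Q' := D) h' (by rw [hresA]; exact hh)
  have hN₁ : IsBaseChange D (h.comp l) := by
    have := IsBaseChange.comp (S := LT) (T := D) hl (g := h') hh'
    rw [hres] at this
    exact this
  let N' := C ⊗[B] M
  let g : N' →ₗ[C] N₁ := (h.comp l).liftBaseChange C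
  have hg : IsBaseChange D g := IsBaseChange.of_comp (TensorProduct.isBaseChange B M C) (h := g) (by
    rw [show (g.restrictScalars B).comp (TensorProduct.mk B C M 1) = h.comp l from
      LinearMap.ext fun x => by
        show (LinearMap.liftBaseChange C (h.comp l)) ((1 : C) ⊗ₜ[B] x) = h.comp l x
        rw [LinearMap.liftBaseChange_tmul]
        exact one_smul C _]
    exact hN₁)
  letI : Algebra Bf C := (IsLocalization.Away.lift f (g := algebraMap B C) (by
    rw [IsScalarTower.algebraMap_apply B B₁ C]
    exact IsLocalization.Away.algebraMap_isUnit _)).toAlgebra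
  haveI : IsScalarTower B Bf C := IsScalarTower.of_algebraMap_eq (R := B) (S := Bf) (A := C) fun b => (IsLocalization.Away.lift_eq f _ b).symm
  haveI : IsScalarTower A Bf C := IsScalarTower.of_algebraMap_eq (R := A) (S := Bf) (A := C) fun a => by
    rw [IsScalarTower.algebraMap_apply A B Bf, ← IsScalarTower.algebraMap_apply B Bf C, ← IsScalarTower.algebraMap_apply]
  haveI : IsLocalization (Algebra.algebraMapSubmonoid B₁ (Submonoid.powers f)) C := by
    rw [show Algebra.algebraMapSubmonoid B₁ (Submonoid.powers f) = Submonoid.powers (algebraMap B B₁ f) from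
      Submonoid.map_powers _ _]
    infer_instance
  haveI : Algebra.IsPushout B Bf B₁ C := Algebra.IsPushout.symm (Algebra.isPushout_of_isLocalization (R := B) (Submonoid.powers f) Bf B₁ C)
  haveI : Algebra.IsPushout A Bf A₁ C :=
    (Algebra.IsPushout.comp_iff (R := A) (S := B) (R' := A₁) (S' := B₁) (T := Bf) (T' := C)).2 inferInstance
  letI : Module Bf N' := Module.compHom N' (algebraMap Bf C)
  haveI : IsScalarTower Bf C N' := IsScalarTower.of_algebraMap_smul (R := Bf) (A := C) (M := N') fun _ _ => rfl
  haveI : IsScalarTower B Bf N' := IsScalarTower.of_algebraMap_smul (R := B) (A := Bf) (M := N') fun b x => by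
    show algebraMap Bf C (algebraMap B Bf b) • x = b • x
    rw [← IsScalarTower.algebraMap_apply, algebraMap_smul]
  haveI : IsScalarTower A Bf N' := IsScalarTower.of_algebraMap_smul (R := A) (A := Bf) (M := N') fun b x => by
    show algebraMap Bf C (algebraMap A Bf b) • x = b • x
    rw [← IsScalarTower.algebraMap_apply, algebraMap_smul]
  let ψ : Mf →ₗ[Bf] N' := (TensorProduct.mk B C M 1).liftBaseChange Bf
  have hψC : IsBaseChange C ψ := IsBaseChange.of_comp (TensorProduct.isBaseChange B M Bf) (h := ψ) (by
    rw [show (ψ.restrictScalars B).comp (TensorProduct.mk B Bf M 1) = TensorProduct.mk B C M 1 from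
      LinearMap.ext fun x => by
        show (LinearMap.liftBaseChange Bf (TensorProduct.mk B C M 1)) ((1 : Bf) ⊗ₜ[B] x) = TensorProduct.mk B C M 1 x
        rw [LinearMap.liftBaseChange_tmul]
        exact one_smul Bf _]
    exact TensorProduct.isBaseChange B M C)
  have hψ : IsBaseChange A₁ (ψ.restrictScalars A) := PolLawBCLib.isBaseChange_restrict ψ hψC
  haveI hprojN : Module.Projective A₁ N' := Module.Projective.of_equiv hψ.equiv
  haveI : IsLocalRing A₁ := by
    haveI : Nontrivial A₁ := Ideal.Quotient.nontrivial_iff.2 fun hI => (IsLocalRing.maximalIdeal.isMaximal _).ne_top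
      (top_le_iff.1 (hI ▸ hIle))
    exact IsLocalRing.of_surjective' (Ideal.Quotient.mk I) Ideal.Quotient.mk_surjective
  letI : Algebra A₁ K := (Ideal.Quotient.lift I (algebraMap (Localization.AtPrime p) K) fun x hx =>
    (IsLocalRing.residue_eq_zero_iff x).2 (hIle hx)).toAlgebra
  haveI : IsScalarTower A A₁ K := IsScalarTower.of_algebraMap_eq (R := A) (S := A₁) (A := K) fun a => by
    rw [IsScalarTower.algebraMap_apply A (Localization.AtPrime p) A₁]
    exact IsScalarTower.algebraMap_apply A (Localization.AtPrime p) K a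
  haveI : IsScalarTower C D D := inferInstance
  let eK : IsLocalRing.ResidueField A₁ ≃ₗ[A₁] K := LinearEquiv.ofBijective
    (Submodule.liftQ (IsLocalRing.maximalIdeal A₁) (Algebra.linearMap A₁ K) (fun x hx => by
      obtain ⟨x, rfl⟩ := Ideal.Quotient.mk_surjective x
      refine (IsLocalRing.residue_eq_zero_iff x).2 fun hx' => hx (hx'.map _)))
    (by
      constructor
      · rw [← LinearMap.ker_eq_bot, Submodule.ker_liftQ_eq_bot _ _ _]
        exact IsLocalRing.le_maximalIdeal fun h => one_ne_zero
          ((map_one (algebraMap A₁ K)).symm.trans (show (1 : A₁) ∈ LinearMap.ker (Algebra.linearMap A₁ K) from h ▸ trivial))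
      · intro c
        obtain ⟨a, rfl⟩ := IsLocalRing.residue_surjective (R := Localization.AtPrime p) c
        exact ⟨Submodule.Quotient.mk (Ideal.Quotient.mk I a), rfl⟩)
  refine ⟨C, inferInstance, inferInstance, inferInstance, inferInstance, inferInstance, inferInstance, inferInstance,
    inferInstance, inferInstance, inferInstance, N', inferInstance, inferInstance, inferInstance, inferInstance, g,
    AlgebraicGeometry.IsOpenImmersion.of_isLocalization (algebraMap B B₁ f), inferInstance, hg, hprojN, ?_⟩
  haveI : IsLocalization (T₁.map (algebraMap B₁ C)) D :=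
    IsLocalization.isLocalization_of_submonoid_le C D (Submonoid.powers (algebraMap B B₁ f)) T₁
      (Submonoid.powers_le.2 (Submonoid.mem_map_of_mem _ hfT))
  refine univInj_localization (T₁.map (algebraMap B₁ C)) D g hg ?_
  rintro P _ _ _ ⟨_, ⟨t, ht, rfl⟩, rfl⟩
  rw [← IsScalarTower.algebraMap_apply B B₁ C]
  refine S0448.result (R := A₁) ((LinearMap.lsmul C N' (algebraMap B C t)).restrictScalars A₁) ?_ P
  let u₀ := (LinearMap.lsmul Bf Mf (algebraMap B Bf t)).restrictScalars A
  let u₁ := (LinearMap.lsmul C N' (algebraMap B C t)).restrictScalars A₁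
  have h0 : Function.Injective (u₀.baseChange K) :=
    injective_fiber (A := A) K T hfT Bf (TensorProduct.mk B Bf M 1) (TensorProduct.isBaseChange B M Bf) hf t ht
  have h1 : Function.Injective (u₁.baseChange K) := injective_of_isBaseChange (TensorProduct.isBaseChange A Mf K)
    (hψ.comp (TensorProduct.isBaseChange A₁ N' K)) u₀ (u₀.baseChange K) (u₁.baseChange K) (fun x => by simp) (fun x => by
      show (1 : K) ⊗ₜ[A₁] (algebraMap B C t • ψ x) = (1 : K) ⊗ₜ[A₁] ψ (algebraMap B Bf t • x)
      rw [map_smul, ← algebraMap_smul C (algebraMap B Bf t) (ψ x), ← IsScalarTower.algebraMap_apply]) h0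
  intro a b hab
  apply (LinearEquiv.rTensor N' eK).injective
  refine h1 ?_
  have hc : ∀ w, u₁.baseChange K (LinearEquiv.rTensor N' eK w) = LinearEquiv.rTensor N' eK (u₁.lTensor _ w) := fun w => by
    induction w with
    | zero => simp
    | add x y hx hy => simp only [map_add, hx, hy]
    | tmul c n => simp
  rw [hc a, hc b]
  exact congrArg (fun w => LinearEquiv.rTensor N' eK w) hab

end Groth.Agent.S1294
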