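import Groth.Statements.S12943
import Groth.Agent.ASt.DiagConv
import Groth.Agent.ASt.Generic
import Mathlib.Tactic.TFAE
set_option backward.isDefEq.respectTransparency false
set_option backward.isDefEq.respectTransparency.types false

set_option autoImplicit false
universe u
open CategoryTheory AlgebraicGeometry
open AlgSt

namespace Groth.Agent.S12943

open CategoryTheory.Limits AlgSp Groth.Agent.ASt Opposite

/-- For a morphism f of algebraic stacks that is representable by algebraic spaces, the following are
equivalent: f is separated (every base change to a scheme is a separated morphism of algebraic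
spaces); the diagonal of f is a closed immersion; the diagonal of f is proper; the diagonal of f is
universally closed. -/
theorem result
    (S : Scheme.{u}) (𝒳 : AlgSt.Cat S) (𝒴 : AlgSt.Cat S)
    (h𝒳 : AlgSt.IsAlgStack Scheme.fppfPrecoverage 𝒳)
    (h𝒴 : AlgSt.IsAlgStack Scheme.fppfPrecoverage 𝒴)
    (f : 𝒳 ⥤ᵇ 𝒴)
    (hf : AlgSt.RepByAlgSp1 f) :
    [AlgSt.RepByAlgSpWith AlgSp.IsSeparatedMor f, AlgSt.IsClosedImm (FibCat.diag f),
      AlgSt.IsSeparatedMor f, AlgSt.RepByAlgSpWith AlgSp.IsUnivClosedMor (FibCat.diag f)].TFAE := by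
  haveI := h𝒳.isStack.1
  haveI := h𝒴.isStack.1
  tfae_have 1 → 2 := fun h => repByAlgSpWith_diag_of_isSeparatedMor
    (fun e he => Groth.Agent.ASp.repWith_yon_map he) h
  tfae_have 2 → 3 := fun h => repByAlgSpWith_mono (fun _ _ a _ _ ha => Groth.Agent.ASp.isProperMor_of_repWith
    (Groth.Agent.ASp.repWith_mono (fun _ _ g (hg : IsClosedImmersion g) => inferInstanceAs (IsProper g)) ha)) h
  tfae_have 3 → 4 := fun h => repByAlgSpWith_mono (fun _ _ _ _ _ h => h.2.2) h
  tfae_have 4 → 1 := isSeparatedMor_of_diag hf
  tfae_finish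

end Groth.Agent.S12943
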