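import Groth.Statements.S12944
import Groth.Agent.ASt.DiagConv
import Groth.Agent.ASt.Generic
import Mathlib.Tactic.TFAE
set_option backward.isDefEq.respectTransparency false
set_option backward.isDefEq.respectTransparency.types false

set_option autoImplicit false
universe u
open CategoryTheory AlgebraicGeometry
open AlgSt

namespace Groth.Agent.S12944

open CategoryTheory.Limits AlgSp Groth.Agent.ASt Opposite

/-- For a morphism f of algebraic stacks that is representable by algebraic spaces, these three
conditions coincide: f is quasi-separated (every base change to a scheme is a quasi-separated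
morphism of algebraic spaces); the diagonal of f is quasi-compact; the diagonal of f is of finite
type. -/
theorem result
    (S : Scheme.{u}) (𝒳 : AlgSt.Cat S) (𝒴 : AlgSt.Cat S)
    (h𝒳 : AlgSt.IsAlgStack Scheme.fppfPrecoverage 𝒳)
    (h𝒴 : AlgSt.IsAlgStack Scheme.fppfPrecoverage 𝒴)
    (f : 𝒳 ⥤ᵇ 𝒴)
    (hf : AlgSt.RepByAlgSp1 f) :
    [AlgSt.RepByAlgSpWith AlgSp.IsQuasiSeparatedMor f,
      AlgSt.RepByAlgSpWith AlgSp.IsQuasiCompactMor (FibCat.diag f),
      AlgSt.RepByAlgSpWith AlgSp.IsFiniteTypeMor (FibCat.diag f)].TFAE := by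
  haveI := h𝒳.isStack.1
  haveI := h𝒴.isStack.1
  tfae_have 1 → 3 := fun h => repByAlgSpWith_diag_of_isQuasiSeparatedMor (fun e hm hl hq =>
      ⟨Groth.Agent.ASp.locP_of_repWith (Groth.Agent.ASp.repWith_yon_map hl),
        Groth.Agent.ASp.isQuasiCompactMor_of_repWith (Groth.Agent.ASp.repWith_yon_map hq)⟩) h
  tfae_have 3 → 2 := fun h => repByAlgSpWith_mono (fun _ _ _ _ _ h => h.2) h
  tfae_have 2 → 1 := isQuasiSeparatedMor_of_diag hf
  tfae_finish

end Groth.Agent.S12944
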