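import Groth.Statements.S12945
import Groth.Agent.ASt.DiagConv
import Groth.Agent.ASt.Generic
import Mathlib.Tactic.TFAE
set_option backward.isDefEq.respectTransparency false
set_option backward.isDefEq.respectTransparency.types false

set_option autoImplicit false
universe u
open CategoryTheory AlgebraicGeometry
open AlgSt

namespace Groth.Agent.S12945

open CategoryTheory.Limits AlgSp Groth.Agent.ASt Opposite

/-- For a morphism f of algebraic stacks that is representable by algebraic spaces, f is quasi-separated
in the sense of stacks (diagonal quasi-compact and quasi-separated) if and only if every base change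
of f to a scheme is a quasi-separated morphism of algebraic spaces. (For such f the diagonal is
separated, so the two notions of quasi-separated agree.) -/
theorem result
    (S : Scheme.{u}) (𝒳 : AlgSt.Cat S) (𝒴 : AlgSt.Cat S)
    (h𝒳 : AlgSt.IsAlgStack Scheme.fppfPrecoverage 𝒳)
    (h𝒴 : AlgSt.IsAlgStack Scheme.fppfPrecoverage 𝒴)
    (f : 𝒳 ⥤ᵇ 𝒴)
    (hf : AlgSt.RepByAlgSp1 f) :
    AlgSt.IsQuasiSeparatedMor f ↔ AlgSt.RepByAlgSpWith AlgSp.IsQuasiSeparatedMor f := by
  haveI := h𝒳.isStack.1
  haveI := h𝒴.isStack.1
  exact ⟨fun h => isQuasiSeparatedMor_of_diag hf (repByAlgSpWith_mono (fun _ _ _ _ _ h => h.1) h),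
    fun h => repByAlgSpWith_diag_of_isQuasiSeparatedMor (fun e hm _ hq =>
      ⟨Groth.Agent.ASp.isQuasiCompactMor_of_repWith (Groth.Agent.ASp.repWith_yon_map hq),
        Groth.Agent.ASp.repWith_diagonal_of_mono _⟩) h⟩

end Groth.Agent.S12945
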