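import Groth.Statements.S1295
import Groth.Agent.PureColimLib.Model
import Groth.Agent.PureColimLib.Flat
import Groth.Agent.PureColimLib.Stage

set_option autoImplicit false
set_option linter.style.haveILetI false
set_option backward.isDefEq.respectTransparency false
set_option backward.isDefEq.respectTransparency.types false
set_option maxHeartbeats 1000000
universe u
open FlatMor

namespace Groth.Agent.S1295

open TensorProduct Groth.Agent.PureColimLib

attribute [local instance] Algebra.TensorProduct.rightAlgebra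

/-- The part of a directed colimit above an index. -/
theorem restrict {ι : Type u} [Preorder ι] {G : ι → Type u} [∀ i, CommRing (G i)] {g : ∀ i j, i ≤ j → G i →+* G j}
    {A : Type u} [CommRing A] [∀ i, Algebra (G i) A] (hcolim : FlatCA.IsDirectedColimitRing G g A) (i : ι) :
    FlatCA.IsDirectedColimitRing (fun j : {j : ι // i ≤ j} => G j.1) (fun a b h => g a.1 b.1 h) A := by
  haveI := hcolim.1
  refine ⟨⟨fun a b => ?_⟩, ⟨⟨i, le_rfl⟩⟩, fun a => hcolim.2.2.1 a.1, fun a b c hab hbc => hcolim.2.2.2.1 a.1 b.1 c.1 hab hbc,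
    fun a b h => hcolim.2.2.2.2.1 a.1 b.1 h, fun x => ?_, fun a x hx => ?_⟩
  · obtain ⟨c, hac, hbc⟩ := hcolim.1.directed a.1 b.1
    exact ⟨⟨c, a.2.trans hac⟩, hac, hbc⟩
  · obtain ⟨j, y, rfl⟩ := hcolim.2.2.2.2.2.1 x
    obtain ⟨c, hic, hjc⟩ := hcolim.1.directed i j
    exact ⟨⟨c, hic⟩, g j c hjc y, RingHom.congr_fun (hcolim.2.2.2.2.1 j c hjc) y⟩
  · obtain ⟨j, hj, hj0⟩ := hcolim.2.2.2.2.2.2 a.1 x hx
    exact ⟨⟨j, a.2.trans hj⟩, hj, hj0⟩

/-- Changing the stage of a model. -/
theorem rebase {R R' A B₁ B N₁ N : Type u} [CommRing R] [CommRing R'] [CommRing A] [CommRing B₁] [CommRing B]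
    [Algebra R R'] [Algebra R' A] [Algebra R A] [IsScalarTower R R' A] [Algebra R B₁] [Algebra A B] [Algebra B₁ B] [Algebra R B]
    [IsScalarTower R A B] [IsScalarTower R B₁ B] [Algebra.IsPushout R A B₁ B]
    [AddCommGroup N₁] [Module B₁ N₁] [AddCommGroup N] [Module B N] [Module B₁ N] [IsScalarTower B₁ B N]
    (f : N₁ →ₗ[B₁] N) (hf : IsBaseChange B f) :
    ∃ (_ : Algebra (R' ⊗[R] B₁) B) (_ : Algebra R' B) (_ : IsScalarTower R' A B) (_ : IsScalarTower R' (R' ⊗[R] B₁) B)
      (_ : Module (R' ⊗[R] B₁) N) (_ : IsScalarTower (R' ⊗[R] B₁) B N)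
      (f' : (R' ⊗[R] B₁) ⊗[B₁] N₁ →ₗ[R' ⊗[R] B₁] N),
      Algebra.IsPushout R' A (R' ⊗[R] B₁) B ∧ IsBaseChange B f' := by
  let X := R' ⊗[R] B₁
  letI : Algebra R' B := ((algebraMap A B).comp (algebraMap R' A)).toAlgebra
  haveI : IsScalarTower R' A B := .of_algebraMap_eq' rfl
  haveI : IsScalarTower R R' B := IsScalarTower.of_algebraMap_eq (R := R) (S := R') (A := B) fun a => by
    rw [IsScalarTower.algebraMap_apply R' A B, ← IsScalarTower.algebraMap_apply R R' A, ← IsScalarTower.algebraMap_apply R A B]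
  letI : Algebra X B := (Algebra.TensorProduct.lift (IsScalarTower.toAlgHom R R' B) (IsScalarTower.toAlgHom R B₁ B)
    fun _ _ => Commute.all _ _).toRingHom.toAlgebra
  haveI : IsScalarTower R' X B := .of_algebraMap_eq fun a => by
    show _ = Algebra.TensorProduct.lift _ _ _ (a ⊗ₜ[R] (1 : B₁))
    simp
  haveI : IsScalarTower B₁ X B := .of_algebraMap_eq fun a => by
    show _ = Algebra.TensorProduct.lift _ _ _ ((1 : R') ⊗ₜ[R] a)
    simp
  haveI : Algebra.IsPushout R' A X B :=
    (Algebra.IsPushout.comp_iff (R := R) (S := R') (R' := B₁) (S' := X) (T := A) (T' := B)).1 inferInstance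
  letI : Module X N := Module.compHom _ (algebraMap X B)
  haveI : IsScalarTower X B N := .of_algebraMap_smul fun _ _ => rfl
  haveI : IsScalarTower B₁ X N := .of_algebraMap_smul fun b (x : N) => by
    show algebraMap X B (algebraMap B₁ X b) • x = b • x
    rw [← IsScalarTower.algebraMap_apply B₁ X B, algebraMap_smul]
  have h := TensorProduct.isBaseChange B₁ N₁ X
  refine ⟨inferInstance, inferInstance, inferInstance, inferInstance, inferInstance, inferInstance, h.lift f, inferInstance,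
    IsBaseChange.of_comp h ?_⟩
  rwa [show ((h.lift f).restrictScalars B₁) ∘ₗ TensorProduct.mk B₁ X N₁ 1 = f from LinearMap.ext fun x => h.lift_eq f x]

/-- Ring form, X = Spec B and the S_i = Spec A_i affine: let A be the colimit of a directed system of
rings (A_i), p a prime of A with contractions p_i, B a finitely presented A-algebra and N a finitely
presented B-module which is pure along the fibre over p and flat over A at every prime of B over p.
Then for some index i there are a finitely presented A_i-algebra B_i with B ≅ B_i ⊗_{A_i} A and a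
finitely presented B_i-module N_i with N ≅ N_i ⊗_{B_i} B, such that N_i is pure along the fibre over
p_i and flat over A_i at every prime of B_i over p_i. -/
theorem result {ι : Type u} [Preorder ι] (G : ι → Type u) [∀ i, CommRing (G i)]
    (g : ∀ i j, i ≤ j → G i →+* G j) {A : Type u} [CommRing A] [∀ i, Algebra (G i) A] (hcolim : FlatCA.IsDirectedColimitRing G g A)
    {B : Type u} [CommRing B] [Algebra A B] [Algebra.FinitePresentation A B]
    (N : Type u) [AddCommGroup N] [Module B N] [Module A N] [IsScalarTower A B N] [Module.FinitePresentation B N]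
    (p : Ideal A) [p.IsPrime] (hpure : FlatCA.IsPureAlong A B N p)
    (hflat : ∀ (q : Ideal B) [q.IsPrime], q.LiesOver p → FlatCA.FlatAt A q N) :
    ∃ (i : ι) (Bi Ni : Type u) (_ : CommRing Bi) (_ : Algebra (G i) Bi) (_ : Algebra Bi B) (_ : Algebra (G i) B)
      (_ : IsScalarTower (G i) A B) (_ : IsScalarTower (G i) Bi B)
      (_ : AddCommGroup Ni) (_ : Module Bi Ni) (_ : Module (G i) Ni) (_ : IsScalarTower (G i) Bi Ni)
      (_ : Module Bi N) (_ : IsScalarTower Bi B N) (f : Ni →ₗ[Bi] N),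
      Algebra.FinitePresentation (G i) Bi ∧ Algebra.IsPushout (G i) Bi A B ∧ Module.FinitePresentation Bi Ni ∧ IsBaseChange B f ∧
      FlatCA.IsPureAlong (G i) Bi Ni (p.comap (algebraMap (G i) A)) ∧
      ∀ (q : Ideal Bi) [q.IsPrime], q.LiesOver (p.comap (algebraMap (G i) A)) → FlatCA.FlatAt (G i) q Ni := by
  obtain ⟨i₁, B₁, N₁, _, _, _, _, _, _, _, _, _, _, _, _, f₁, hfp₁, hpo₁, hfpN₁, hf₁⟩ := exists_model hcolim (B := B) N
  haveI := hfp₁
  haveI := hpo₁
  haveI := hfpN₁
  letI : ∀ a : {j : ι // i₁ ≤ j}, Algebra (G i₁) (G a.1) := fun a => (g i₁ a.1 a.2).toAlgebra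
  haveI : ∀ a : {j : ι // i₁ ≤ j}, IsScalarTower (G i₁) (G a.1) A := fun a =>
    .of_algebraMap_eq fun x => (RingHom.congr_fun (hcolim.2.2.2.2.1 i₁ a.1 a.2) x).symm
  obtain ⟨⟨k, hk⟩, -, hflatk⟩ := exists_flatFibre_stage (G := fun a : {j : ι // i₁ ≤ j} => G a.1)
    (g := fun a b h => { toRingHom := g a.1 b.1 h, commutes' := fun x => RingHom.congr_fun (hcolim.2.2.2.1 i₁ a.1 b.1 a.2 h) x })
    (restrict hcolim i₁) N₁ N f₁ hf₁ p hflat ⟨i₁, le_rfl⟩
  -- restart from the flat stage
  letI : Algebra (G i₁) (G k) := (g i₁ k hk).toAlgebra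
  haveI : IsScalarTower (G i₁) (G k) A := .of_algebraMap_eq fun x => (RingHom.congr_fun (hcolim.2.2.2.2.1 i₁ k hk) x).symm
  obtain ⟨_, _, _, _, _, _, fk, hpok, hfk⟩ := rebase (R := G i₁) (R' := G k) (A := A) (B := B) f₁ hf₁
  haveI := hpok
  let Bk := G k ⊗[G i₁] B₁
  let Nk := Bk ⊗[B₁] N₁
  letI : ∀ a : {j : ι // k ≤ j}, Algebra (G k) (G a.1) := fun a => (g k a.1 a.2).toAlgebra
  haveI : ∀ a : {j : ι // k ≤ j}, IsScalarTower (G k) (G a.1) A := fun a =>
    .of_algebraMap_eq fun x => (RingHom.congr_fun (hcolim.2.2.2.2.1 k a.1 a.2) x).symm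
  let g' : ∀ a b : {j : ι // k ≤ j}, a ≤ b → G a.1 →ₐ[G k] G b.1 := fun a b h =>
    { toRingHom := g a.1 b.1 h, commutes' := fun x => RingHom.congr_fun (hcolim.2.2.2.1 k a.1 b.1 a.2 h) x }
  obtain ⟨l, -, hl⟩ := exists_pure_stage (G := fun a : {j : ι // k ≤ j} => G a.1) (g := g') (restrict hcolim k) ⟨k, le_rfl⟩
    (B₀ := Bk) Nk N fk hfk p hpure hflatk
  obtain ⟨m, hlm, hflatm⟩ := exists_flatFibre_stage (G := fun a : {j : ι // k ≤ j} => G a.1) (g := g') (restrict hcolim k)
    (B₀ := Bk) Nk N fk hfk p hflat l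
  obtain ⟨_, _, _, _, _, _, fm, hpom, hfm⟩ := rebase (R := G k) (R' := G m.1) (A := A) (B := B) fk hfk
  haveI := hpom
  refine ⟨m.1, G m.1 ⊗[G k] Bk, (G m.1 ⊗[G k] Bk) ⊗[Bk] Nk, inferInstance, inferInstance, inferInstance, inferInstance,
    inferInstance, inferInstance, inferInstance, inferInstance, inferInstance, inferInstance, inferInstance, inferInstance,
    fm, inferInstance, Algebra.IsPushout.symm inferInstance, inferInstance, hfm, ?_, hflatm⟩
  intro A₂ B₂ N₂ _ _ _ _ _ _ _ _ _ _ _ _ _ _ f' t' t _ _ P _ _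
  exact hl m hlm A₂ B₂ N₂ f' t' t P

end Groth.Agent.S1295
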