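import Groth.Statements.S12959
import Groth.Agent.ASt.DiagConv
import Groth.Agent.ASt.Generic
import Mathlib.Tactic.TFAE
set_option backward.isDefEq.respectTransparency false
set_option backward.isDefEq.respectTransparency.types false

set_option autoImplicit false
universe u
open CategoryTheory AlgebraicGeometry
open AlgSt

namespace Groth.Agent.S12959

open CategoryTheory.Limits AlgSp Groth.Agent.ASt Opposite

/-- If the composite of f : 𝒳 → 𝒴 and g : 𝒴 → 𝒵 (morphisms of algebraic stacks) is quasi-separated and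
the diagonal of g is quasi-separated (as a morphism representable by algebraic spaces), then f is
quasi-separated. -/
theorem result
    (S : Scheme.{u}) (𝒳 : AlgSt.Cat S) (𝒴 : AlgSt.Cat S) (𝒵 : AlgSt.Cat S)
    (h𝒳 : AlgSt.IsAlgStack Scheme.fppfPrecoverage 𝒳)
    (h𝒴 : AlgSt.IsAlgStack Scheme.fppfPrecoverage 𝒴)
    (h𝒵 : AlgSt.IsAlgStack Scheme.fppfPrecoverage 𝒵)
    (f : 𝒳 ⥤ᵇ 𝒴) (g : 𝒴 ⥤ᵇ 𝒵) :
    AlgSt.IsQuasiSeparatedMor (BasedFunctor.comp f g) →
      AlgSt.RepByAlgSpWith AlgSp.IsQuasiSeparatedMor (FibCat.diag g) → AlgSt.IsQuasiSeparatedMor f := by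
  intro h hg
  haveI := h𝒳.isStack.1
  haveI := h𝒴.isStack.1
  haveI := h𝒵.isStack.1
  haveI : FibCat.IsFibGrpd (FibCat.fp (compJ f g) (compJ f g)).p := isFibGrpd_fp
  exact repByAlgSpWith_of_comp compLocal_qcqs (repByAlgSpWith_congr (diagCompJ f g).symm h)
    (repByAlgSpWith_diag_of_isQuasiSeparatedMor (fun e hm _ hq =>
      ⟨Groth.Agent.ASp.isQuasiCompactMor_of_repWith (Groth.Agent.ASp.repWith_yon_map hq),
        Groth.Agent.ASp.repWith_diagonal_of_mono _⟩) (repByAlgSpWith_compJ f g hg))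

end Groth.Agent.S12959
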