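import Groth.Statements.S1296
import Groth.Agent.PureCritLib.ImpLim

set_option autoImplicit false
set_option linter.style.haveILetI false
set_option backward.isDefEq.respectTransparency false
set_option backward.isDefEq.respectTransparency.types false
universe u
open FlatMor

namespace Groth.Agent.S1296

/-- Ring form, X = Spec B affine, T = Spec A' with A' the colimit of a directed system of A-algebras
A'_i: let B be a finite type A-algebra, N a finite B-module, p a prime of A, and suppose given an
impurity of N above p with base change ring A' and points t' ⊆ t. Then for some index i there is an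
impurity of N above p whose base change ring is A'_i (up to an A-isomorphism) and whose point t
corresponds to the contraction of t to A'_i. -/
theorem result {A B : Type u} [CommRing A] [CommRing B] [Algebra A B] [Algebra.FiniteType A B]
    (N : Type u) [AddCommGroup N] [Module B N] [Module.Finite B N] (p : Ideal A) [p.IsPrime]
    {ι : Type u} [Preorder ι] (G : ι → Type u) [∀ i, CommRing (G i)] [∀ i, Algebra A (G i)]
    (g : ∀ i j, i ≤ j → G i →ₐ[A] G j)
    (A' : Type u) [CommRing A'] [Algebra A A'] [∀ i, Algebra (G i) A'] [∀ i, IsScalarTower A (G i) A']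
    (hcolim : FlatCA.IsDirectedColimitRing G (fun i j h => (g i j h).toRingHom) A')
    (B' N' : Type u) [CommRing B'] [Algebra B B'] [Algebra A' B'] [Algebra A B'] [IsScalarTower A B B'] [IsScalarTower A A' B']
    [AddCommGroup N'] [Module B' N'] [Module B N'] [IsScalarTower B B' N'] [Module A' N'] [IsScalarTower A' B' N']
    (f : N →ₗ[B] N') (t' t : Ideal A') [t'.IsPrime] [t.IsPrime] (P : Ideal B') [P.IsPrime]
    (himp : FlatCA.IsImpurity A B N p A' B' N' f t' t P) :
    ∃ i : ι, FlatCA.HasImpurity A B N p (fun A'' _ _ t'' => ∃ e : A'' ≃ₐ[A] G i, t''.map e = t.comap (algebraMap (G i) A')) := by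
  classical
  obtain ⟨hdir, hne, -, -, hc, hsurj, -⟩ := hcolim
  obtain ⟨F, hF⟩ := PureCritLib.impurity_descend himp
  obtain ⟨i, hi⟩ : ∃ i, (F : Set A') ⊆ Set.range (algebraMap (G i) A') := by
    clear hF
    induction F using Finset.induction_on with
    | empty => exact ⟨hne.some, by simp⟩
    | insert a F _ ih =>
      obtain ⟨i, hi⟩ := ih
      obtain ⟨j, x, hx⟩ := hsurj a
      obtain ⟨k, hik, hjk⟩ := hdir.directed i j
      refine ⟨k, ?_⟩
      rw [Finset.coe_insert, Set.insert_subset_iff]
      refine ⟨⟨g j k hjk x, (RingHom.congr_fun (hc j k hjk) x).trans hx⟩, fun y hy => ?_⟩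
      obtain ⟨z, rfl⟩ := hi hy
      exact ⟨g i k hik z, RingHom.congr_fun (hc i k hik) z⟩
  obtain ⟨s₀, hs₀, hs₀'⟩ := hF (G i) (IsScalarTower.toAlgHom A (G i) A') hi
  refine ⟨i, hs₀' (t.comap (algebraMap (G i) A')) le_rfl ⟨?_⟩ hs₀ _ ⟨AlgEquiv.refl, Ideal.map_id _⟩⟩
  rw [Ideal.under_def, Ideal.comap_comap, ← IsScalarTower.algebraMap_eq]
  exact himp.2.2.2.1.over

end Groth.Agent.S1296
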