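import Groth.Statements.S12961
import Groth.Agent.ASt.DiagDesc
import Groth.Agent.S10519
import Groth.Agent.S10520
import Groth.Agent.S10541
-- import your own Groth.Agent.* helpers here

set_option backward.isDefEq.respectTransparency false
set_option backward.isDefEq.respectTransparency.types false

set_option autoImplicit false
universe u
open CategoryTheory AlgebraicGeometry
open AlgSt

namespace Groth.Agent.S12961

open CategoryTheory.Limits AlgSp Groth.Agent.ASt Opposite

/-- Let f : 𝒳 → 𝒴 be a morphism of algebraic stacks and W → 𝒴 a surjective, flat, locally finitely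
presented morphism whose source is an algebraic space. Whenever the projection W ×_𝒴 𝒳 → W is
quasi-DM, f is quasi-DM too (quasi-DM: the diagonal is representable by algebraic spaces and locally
quasi-finite (and locally of finite type)). -/
theorem result
    (S : Scheme.{u}) (𝒳 : AlgSt.Cat S) (𝒴 : AlgSt.Cat S)
    (h𝒳 : AlgSt.IsAlgStack Scheme.fppfPrecoverage 𝒳)
    (h𝒴 : AlgSt.IsAlgStack Scheme.fppfPrecoverage 𝒴)
    (f : 𝒳 ⥤ᵇ 𝒴)
    (W : AlgSp.Space S) (w : AlgSt.ofSp W.obj ⥤ᵇ 𝒴)
    (hw₁ : AlgSt.RepByAlgSpWith (AlgSp.LocP @Flat) w)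
    (hw₂ : AlgSt.RepByAlgSpWith (AlgSp.LocP @LocallyOfFinitePresentation) w)
    (hw₃ : AlgSt.RepByAlgSpWith AlgSp.IsSurjectiveMor w) :
    AlgSt.IsQuasiDMMor (FibCat.fpFst w f) → AlgSt.IsQuasiDMMor f := by
    intro h
    haveI := h𝒳.isStack.1; haveI := h𝒴.isStack.1
    obtain ⟨V, c, -, hc, hcs⟩ := exists_chart_ofSp W.property
    refine repByAlgSpWith_diag_of_fppf (z := w) (fun ι Y Yi g hY hYi hτ X a hX Xi p q hXi sq =>
        (Groth.Agent.S10541.result S).1 Yi g hY hYi (Groth.Agent.ASp.isFpqcCover_of_fppf hY hYi (fun i => (hτ.1 i).1)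
          (fun i => (hτ.1 i).2) hτ.2) a hX Xi p q hXi sq)
      (repByAlgSp1_of_with (lft_diag h𝒳 h𝒴 f)) c
      (repByAlgSpWith_comp compLocal_flat (smooth_to_flat hc) hw₁)
      (repByAlgSpWith_comp compLocal_lfp (smooth_to_lfp hc) hw₂)
      (isSurjective_of_repByAlgSpWith (repByAlgSpWith_comp compLocal_surjective hcs hw₃)) h

end Groth.Agent.S12961
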