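import Groth.Statements.S12970
import Groth.Agent.ASt.DiagFppf
import Groth.Agent.S10541
import Groth.Agent.S10543
-- import your own Groth.Agent.* helpers here

set_option autoImplicit false
set_option backward.isDefEq.respectTransparency false
universe u
open CategoryTheory AlgebraicGeometry
open AlgSt

namespace Groth.Agent.S12970

/-- Let 𝒳 be an algebraic stack and W → 𝒳 a surjective, flat, locally finitely presented morphism from
an algebraic space which is moreover locally quasi-finite. Then 𝒳 is quasi-DM over the base scheme.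
(The published statement concludes quasi-DM over the integers; this row concludes it over the base
scheme, which is equivalent for algebraic stacks.) -/
theorem result
    (S : Scheme.{u}) (𝒳 : AlgSt.Cat S)
    (h𝒳 : AlgSt.IsAlgStack Scheme.fppfPrecoverage 𝒳)
    (W : AlgSp.Space S) (w : AlgSt.ofSp W.obj ⥤ᵇ 𝒳)
    (hw₁ : AlgSt.RepByAlgSpWith (AlgSp.LocP @Flat) w)
    (hw₂ : AlgSt.RepByAlgSpWith (AlgSp.LocP @LocallyOfFinitePresentation) w)
    (hw₃ : AlgSt.RepByAlgSpWith AlgSp.IsSurjectiveMor w)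
    (hw₄ : AlgSt.RepByAlgSpWith (AlgSp.LocP (@LocallyQuasiFinite ⊓ @LocallyOfFiniteType)) w) :
    AlgSt.IsQuasiDMOver 𝒳 := by
  haveI := h𝒳.isStack.1
  obtain ⟨V, c, hce, hc, hcs⟩ := ASt.exists_chart_ofSp W.property
  haveI : ASp.IsEtLocal (@LocallyQuasiFinite ⊓ @LocallyOfFiniteType) := inferInstance
  exact ASt.repByAlgSpWith_diag_toSelf_of_fppf_chart (Q := @LocallyQuasiFinite ⊓ @LocallyOfFiniteType) (fun f g h => ⟨haveI := h.1; LocallyQuasiFinite.of_comp f g, haveI := h.2; locallyOfFiniteType_of_comp f g⟩)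
    (fun ι Y Yi g hY hYi hτ X a hX Xi p q hXi sq =>
      (Groth.Agent.S10541.result S).1 Yi g hY hYi (ASp.isFpqcCover_of_fppf hY hYi (fun i => (hτ.1 i).1)
        (fun i => (hτ.1 i).2) hτ.2) a hX Xi p q hXi sq)
    (a := BasedFunctor.comp c w) h𝒳.diag
    (ASt.repByAlgSpWith_comp ASt.compLocal_flat (ASt.smooth_to_flat hc) hw₁)
    (ASt.repByAlgSpWith_comp ASt.compLocal_lfp (ASt.smooth_to_lfp hc) hw₂)
    (ASt.isSurjective_of_repByAlgSpWith (ASt.repByAlgSpWith_comp ASt.compLocal_surjective hcs hw₃))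
    (ASt.repByAlgSpWith_comp ASt.compLocal_lqf
      (ASt.repByAlgSpWith_mono (fun _ _ _ _ _ h A B a b k ha hb e => ASp.IsEtLocal.etale_le _ (h a b k ha hb e)) hce) hw₄)

end Groth.Agent.S12970
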