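import Groth.Statements.S12972
import Groth.Agent.ASt.InertiaDiag
import Groth.Agent.ASt.DiagCancel
import Groth.Agent.ASt.Local
-- import your own Groth.Agent.* helpers here

set_option autoImplicit false
set_option backward.isDefEq.respectTransparency false
universe u
open CategoryTheory AlgebraicGeometry
open AlgSt

namespace Groth.Agent.S12972

/-- For a morphism f : 𝒳 → 𝒴 of algebraic stacks the following are equivalent: the relative inertia
𝓘_{𝒳/𝒴} → 𝒳 is separated; the diagonal of f is separated; the neutral section 𝒳 → 𝓘_{𝒳/𝒴} (the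
second diagonal) is a closed immersion. All three morphisms are representable by algebraic spaces
and the properties are the ones of such morphisms. -/
theorem result
    (S : Scheme.{u}) (𝒳 : AlgSt.Cat S) (𝒴 : AlgSt.Cat S)
    (h𝒳 : AlgSt.IsAlgStack Scheme.fppfPrecoverage 𝒳)
    (h𝒴 : AlgSt.IsAlgStack Scheme.fppfPrecoverage 𝒴)
    (f : 𝒳 ⥤ᵇ 𝒴) :
    [AlgSt.RepByAlgSpWith AlgSp.IsSeparatedMor (FibCat.inertiaToBase f),
      AlgSt.RepByAlgSpWith AlgSp.IsSeparatedMor (FibCat.diag f),
      AlgSt.IsClosedImm (FibCat.inertiaNeutral f)].TFAE := by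
  haveI := h𝒳.isStack.1
  haveI := h𝒴.isStack.1
  haveI : FibCat.IsFibGrpd (FibCat.fp f f).p := ASt.isFibGrpd_fp
  haveI := ASt.isFibGrpd_inertia f
  have hcl : ∀ {E U : Over S} (e : E ⟶ U), IsClosedImmersion e.left → AlgSp.RepWith @IsClosedImmersion ((AlgSp.yon S).map e) :=
    fun e h => ASp.repWith_yon_map h
  tfae_have 2 → 1 := fun h => ASt.repByAlgSpWith_inertiaToBase f h
  tfae_have 1 → 3 := fun h => ASt.repByAlgSpWith_inertiaNeutral f ASt.compLocal_closedImmersion
    (fun U => AlgSp.repWith_id _ U) (ASt.repByAlgSpWith_diag_of_isSeparatedMor hcl h)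
  tfae_have 3 → 2 := fun h => ASt.isSeparatedMor_of_diag (ASt.repByAlgSp1_diag_of_isAlgStack f h𝒳 h𝒴)
    (ASt.repByAlgSpWith_mono (fun _ _ _ _ _ ha => (ASp.isProperMor_of_repWith
      (ASp.repWith_mono (fun _ _ g (hg : IsClosedImmersion g) => (inferInstance : IsProper g)) ha)).2.2)
      (ASt.repByAlgSpWith_diag_diag f h))
  tfae_finish

end Groth.Agent.S12972
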