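import Groth.Statements.S12974
import Groth.Agent.ASt.InertiaDiag
import Groth.Agent.ASt.SelfBase
-- import your own Groth.Agent.* helpers here

set_option autoImplicit false
set_option backward.isDefEq.respectTransparency false
universe u
open CategoryTheory AlgebraicGeometry
open AlgSt

namespace Groth.Agent.S12974

/-- For a morphism f : 𝒳 → 𝒴 of algebraic stacks, the relative inertia 𝓘_{𝒳/𝒴} → 𝒳 is unramified if and
only if f is DM. -/
theorem result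
    (S : Scheme.{u}) (𝒳 : AlgSt.Cat S) (𝒴 : AlgSt.Cat S)
    (h𝒳 : AlgSt.IsAlgStack Scheme.fppfPrecoverage 𝒳)
    (h𝒴 : AlgSt.IsAlgStack Scheme.fppfPrecoverage 𝒴)
    (f : 𝒳 ⥤ᵇ 𝒴) :
    AlgSt.RepByAlgSpWith (AlgSp.LocP (@LocallyOfFiniteType ⊓ @FormallyUnramified)) (FibCat.inertiaToBase f) ↔
      AlgSt.IsDMMor f := by
  haveI := h𝒳.isStack.1
  haveI := h𝒴.isStack.1
  haveI : FibCat.IsFibGrpd (FibCat.fp f f).p := ASt.isFibGrpd_fp
  haveI : FibCat.IsFibGrpd (FibCat.fp (FibCat.diag f) (FibCat.diag f)).p := ASt.isFibGrpd_fp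
  haveI := ASt.isFibGrpd_inertia f
  refine ⟨fun h => ?_, fun h => ASt.repByAlgSpWith_inertiaToBase f h⟩
  obtain ⟨G, hG, ⟨α⟩, ⟨β⟩⟩ := ASt.isEquivOver_symm (ASt.isEquivOver_inertiaFp f)
  haveI : ASp.IsEtLocal (@LocallyOfFiniteType ⊓ @FormallyUnramified) := inferInstance
  refine ASt.repByAlgSpWith_locP_of_fpFst_self (ASt.lft_diag h𝒳 h𝒴 f) (fun φ hl hφ => ⟨hl, ASt.formallyUnramified_of_fst_self φ hφ.2⟩) ?_
  exact ASt.repByAlgSpWith_congr
    (eqToIso (show BasedFunctor.comp G (FibCat.inertiaToBase f) =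
      BasedFunctor.comp (BasedFunctor.comp G (ASt.inertiaFp f)) (FibCat.fpFst (FibCat.diag f) (FibCat.diag f)) by
        rw [← ASt.inertiaFp_fst]; rfl) ≪≫ ASt.wR β _ ≪≫ eqToIso (ASt.basedFunctor_ext rfl))
    (ASt.repByAlgSpWith_precomp hG h)

end Groth.Agent.S12974
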