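import Groth.Statements.S12976
import Groth.Agent.Boot.Setoid
set_option backward.isDefEq.respectTransparency false
set_option backward.isDefEq.respectTransparency.types false

set_option autoImplicit false
universe u
open CategoryTheory AlgebraicGeometry
open AlgSt

namespace Groth.Agent.S12976

/-- A morphism f between algebraic stacks is representable by algebraic spaces exactly when its second
diagonal 𝒳 → 𝒳 ×_{𝒳 ×_𝒴 𝒳} 𝒳 is an isomorphism, that is an equivalence over the base. -/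
theorem result
    (S : Scheme.{u}) (𝒳 : AlgSt.Cat S) (𝒴 : AlgSt.Cat S)
    (h𝒳 : AlgSt.IsAlgStack Scheme.fppfPrecoverage 𝒳)
    (h𝒴 : AlgSt.IsAlgStack Scheme.fppfPrecoverage 𝒴)
    (f : 𝒳 ⥤ᵇ 𝒴) :
    AlgSt.RepByAlgSp1 f ↔ FibCat.IsEquivOver (FibCat.diag (FibCat.diag f)) := by
  haveI := h𝒳.isStack.1
  haveI := h𝒴.isStack.1
  haveI : FibCat.IsFibGrpd (FibCat.fp f f).p := ASt.isFibGrpd_fp
  haveI : FibCat.IsFibGrpd (FibCat.fp (FibCat.diag f) (FibCat.diag f)).p := ASt.isFibGrpd_fp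
  rw [Boot.repByAlgSp1_iff_faithful h𝒳 h𝒴]
  refine ⟨fun hf => ?_, fun h => ⟨fun {x y} a b e => ?_⟩⟩
  · haveI := hf
    haveI : (FibCat.diag (FibCat.diag f)).toFunctor.Faithful :=
      ⟨fun {z z'} a b e => congrArg (fun k => k.hom.fst) e⟩
    haveI : (FibCat.diag (FibCat.diag f)).toFunctor.Full := ⟨fun {z z'} m => by
      have hw : (FibCat.diag f).map m.hom.fst = (FibCat.diag f).map m.hom.snd := by
        exact (Category.comp_id _).symm.trans (m.hom.w.trans (Category.id_comp _))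
      have hab : m.hom.fst = m.hom.snd := congrArg (fun k => k.hom.fst) hw
      exact ⟨m.hom.fst, ASt.fp_hom_ext rfl hab⟩⟩
    refine ASt.isEquivOver_of_vert _ fun o => ?_
    let θ := o.obj.iso
    haveI : IsIso θ.hom.hom.fst := ⟨θ.inv.hom.fst, congrArg (fun k => k.hom.fst) θ.hom_inv_id,
      congrArg (fun k => k.hom.fst) θ.inv_hom_id⟩
    have hfs : f.map θ.hom.hom.fst = f.map θ.hom.hom.snd := by
      exact (Category.comp_id _).symm.trans (θ.hom.hom.w.trans (Category.id_comp _))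
    have heq : θ.hom.hom.fst = θ.hom.hom.snd := f.toFunctor.map_injective hfs
    let m₁ : (FibCat.diag (FibCat.diag f)).obj o.obj.fst ⟶ o := ObjectProperty.homMk
      { fst := 𝟙 o.obj.fst
        snd := θ.hom.hom.fst
        w := by
          refine ASt.fp_hom_ext ?_ ?_
          · show 𝟙 o.obj.fst ≫ θ.hom.hom.fst = 𝟙 o.obj.fst ≫ θ.hom.hom.fst
            rfl
          · show 𝟙 o.obj.fst ≫ θ.hom.hom.snd = 𝟙 o.obj.fst ≫ θ.hom.hom.fst
            rw [heq] }
    have hm₁ : (FibCat.fp (FibCat.diag f) (FibCat.diag f)).p.map m₁ = eqToHom rfl := by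
      show 𝒳.p.map (𝟙 o.obj.fst) = eqToHom rfl
      simp
    haveI : IsIso m₁ := ASt.isIso_of_vert m₁ (e := rfl) hm₁
    exact ⟨o.obj.fst, rfl, asIso m₁, hm₁⟩
  · obtain ⟨-, -, hsurj⟩ := ASt.vert_of_isEquivOver h
    have hp : 𝒳.p.map a = 𝒳.p.map b := ASt.map_inj_w f e
    let v := ASt.facMap a b (𝟙 _) (by rw [Category.id_comp]; exact hp)
    have hv : v ≫ a = b := ASt.facMap_comp _ _ _ _
    have hpv : 𝒳.p.map v = 𝟙 _ := ASt.map_facMap _ _ _ _
    have hfv : f.map v = 𝟙 _ := ASt.hom_ext (f.map a) (by rw [ASt.map_w, hpv]; simp)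
      (by rw [← f.toFunctor.map_comp, hv, Category.id_comp]; exact e.symm)
    let φ : (FibCat.diag f).obj x ⟶ (FibCat.diag f).obj x := ObjectProperty.homMk
      { fst := v
        snd := 𝟙 x
        w := by
          show f.map v ≫ 𝟙 _ = 𝟙 _ ≫ f.map (𝟙 x)
          rw [hfv, f.toFunctor.map_id] }
    have hφ : (FibCat.fp f f).p.map φ = eqToHom rfl := hpv
    haveI : IsIso φ := ASt.isIso_of_vert φ (e := rfl) hφ
    let o : (FibCat.fp (FibCat.diag f) (FibCat.diag f)).obj := ASt.fpMk x x rfl (asIso φ) hφ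
    obtain ⟨z, -, m, -⟩ := hsurj o
    haveI : IsIso m.hom.hom.fst := ⟨m.inv.hom.fst, congrArg (fun k => k.hom.fst) m.hom_inv_id,
      congrArg (fun k => k.hom.fst) m.inv_hom_id⟩
    have hw := m.hom.hom.w
    have h1 : m.hom.hom.fst ≫ v = 𝟙 z ≫ m.hom.hom.snd := congrArg (fun k => k.hom.fst) hw
    have h2 : m.hom.hom.fst ≫ 𝟙 x = 𝟙 z ≫ m.hom.hom.snd := congrArg (fun k => k.hom.snd) hw
    have h3 : v = 𝟙 x := (cancel_epi m.hom.hom.fst).1 (h1.trans h2.symm)
    rw [← hv, h3, Category.id_comp]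

end Groth.Agent.S12976
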