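import Groth.Statements.S12977
import Groth.Agent.Boot.Setoid
set_option backward.isDefEq.respectTransparency false
set_option backward.isDefEq.respectTransparency.types false

set_option autoImplicit false
universe u
open CategoryTheory AlgebraicGeometry
open AlgSt

namespace Groth.Agent.S12977

/-- A morphism f between algebraic stacks is representable by algebraic spaces exactly when, for each
object x of 𝒳, an automorphism of x lying over the identity of the base and sent by f to the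
identity is itself the identity (the kernel of Isom(x, x) → Isom(f x, f x) is trivial). -/
theorem result
    (S : Scheme.{u}) (𝒳 : AlgSt.Cat S) (𝒴 : AlgSt.Cat S)
    (h𝒳 : AlgSt.IsAlgStack Scheme.fppfPrecoverage 𝒳)
    (h𝒴 : AlgSt.IsAlgStack Scheme.fppfPrecoverage 𝒴)
    (f : 𝒳 ⥤ᵇ 𝒴) :
    AlgSt.RepByAlgSp1 f ↔
      ∀ (a : 𝒳.obj) (φ : a ⟶ a), 𝒳.p.map φ = 𝟙 (𝒳.p.obj a) → f.map φ = 𝟙 (f.obj a) → φ = 𝟙 a := by

  haveI := h𝒳.isStack.1
  haveI := h𝒴.isStack.1
  rw [Boot.repByAlgSp1_iff_faithful h𝒳 h𝒴]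
  refine ⟨fun h a φ _ hf => h.map_injective (hf.trans (f.map_id a).symm), fun h => ⟨fun {x y} a b e => ?_⟩⟩
  have hp : 𝒳.p.map a = 𝒳.p.map b := ASt.map_inj_w f e
  let v := ASt.facMap a b (𝟙 _) (by rw [Category.id_comp]; exact hp)
  have hv : v ≫ a = b := ASt.facMap_comp _ _ _ _
  have hpv : 𝒳.p.map v = 𝟙 _ := ASt.map_facMap _ _ _ _
  have hfv : f.map v = 𝟙 _ := ASt.hom_ext (f.map a) (by rw [ASt.map_w, hpv]; simp)
    (by rw [← f.toFunctor.map_comp, hv, Category.id_comp]; exact e.symm)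
  rw [← hv, h x v hpv hfv, Category.id_comp]

end Groth.Agent.S12977
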