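import Groth.Statements.S12978
import Groth.Agent.Boot.Setoid
set_option backward.isDefEq.respectTransparency false
set_option backward.isDefEq.respectTransparency.types false

set_option autoImplicit false
universe u
open CategoryTheory AlgebraicGeometry
open AlgSt

namespace Groth.Agent.S12978

/-- A morphism f of algebraic stacks whose diagonal is a monomorphism (representable by algebraic spaces
and a monomorphism) is representable by algebraic spaces. Together with the forward direction (a
morphism representable by algebraic spaces has monomorphic diagonal) this characterises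
representability by the first diagonal. -/
theorem result
    (S : Scheme.{u}) (𝒳 : AlgSt.Cat S) (𝒴 : AlgSt.Cat S)
    (h𝒳 : AlgSt.IsAlgStack Scheme.fppfPrecoverage 𝒳)
    (h𝒴 : AlgSt.IsAlgStack Scheme.fppfPrecoverage 𝒴)
    (f : 𝒳 ⥤ᵇ 𝒴) :
    AlgSt.IsMono (FibCat.diag f) → AlgSt.RepByAlgSp1 f := by
  intro hm
  haveI := h𝒳.isStack.1
  haveI := h𝒴.isStack.1
  haveI : FibCat.IsFibGrpd (FibCat.fp f f).p := ASt.isFibGrpd_fp
  obtain ⟨hfull, -⟩ := ASt.full_faithful_of_isMono hm
  rw [Boot.repByAlgSp1_iff_faithful h𝒳 h𝒴]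
  refine ⟨fun {x y} a b e => ?_⟩
  have hp : 𝒳.p.map a = 𝒳.p.map b := ASt.map_inj_w f e
  let v := ASt.facMap a b (𝟙 _) (by rw [Category.id_comp]; exact hp)
  have hv : v ≫ a = b := ASt.facMap_comp _ _ _ _
  have hpv : 𝒳.p.map v = 𝟙 _ := ASt.map_facMap _ _ _ _
  have hfv : f.map v = 𝟙 _ := ASt.hom_ext (f.map a) (by rw [ASt.map_w, hpv]; simp)
    (by rw [← f.toFunctor.map_comp, hv, Category.id_comp]; exact e.symm)
  let m : (FibCat.diag f).obj x ⟶ (FibCat.diag f).obj x := ObjectProperty.homMk
    { fst := v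
      snd := 𝟙 x
      w := by
        show f.map v ≫ 𝟙 _ = 𝟙 _ ≫ f.map (𝟙 x)
        rw [hfv, f.toFunctor.map_id]
        }
  obtain ⟨u, hu⟩ := hfull.map_surjective m
  have h1 : u = v := congrArg (fun k => k.hom.fst) hu
  have h2 : u = 𝟙 x := congrArg (fun k => k.hom.snd) hu
  rw [← hv, ← h1, h2, Category.id_comp]

end Groth.Agent.S12978
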