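import Groth.Statements.S12979
import Groth.Agent.ASt.DiagConv
import Groth.Agent.ASt.Generic
import Groth.Agent.ASt.DiagLft
import Groth.Agent.ASp.ValCompact
-- import your own Groth.Agent.* helpers here

set_option autoImplicit false
set_option backward.isDefEq.respectTransparency false
universe u
open CategoryTheory AlgebraicGeometry
open AlgSt

namespace Groth.Agent.S12979

/-- If the first and second diagonals of a morphism f of algebraic stacks are both universally closed
(as morphisms representable by algebraic spaces), then f is separated. (The published statement is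
an equivalence; this row states the implication from the two diagonals to separatedness.) -/
theorem result
    (S : Scheme.{u}) (𝒳 : AlgSt.Cat S) (𝒴 : AlgSt.Cat S)
    (h𝒳 : AlgSt.IsAlgStack Scheme.fppfPrecoverage 𝒳)
    (h𝒴 : AlgSt.IsAlgStack Scheme.fppfPrecoverage 𝒴)
    (f : 𝒳 ⥤ᵇ 𝒴) :
    AlgSt.RepByAlgSpWith AlgSp.IsUnivClosedMor (FibCat.diag f) →
      AlgSt.RepByAlgSpWith AlgSp.IsUnivClosedMor (FibCat.diag (FibCat.diag f)) → AlgSt.IsSeparatedMor f := by
  haveI := h𝒳.isStack.1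
  haveI := h𝒴.isStack.1
  haveI : FibCat.IsFibGrpd (FibCat.fp f f).p := Groth.Agent.ASt.isFibGrpd_fp
  intro h1 h2
  have hl := Groth.Agent.ASt.lft_diag h𝒳 h𝒴 f
  have h3 := Groth.Agent.ASt.isSeparatedMor_of_diag (Groth.Agent.ASt.repByAlgSp1_of_with h1) h2
  refine Groth.Agent.ASt.repByAlgSpWith_iff.2 ⟨(Groth.Agent.ASt.repByAlgSpWith_iff.1 h1).1, fun U y => ?_⟩
  obtain ⟨hs, hA, q1⟩ := (Groth.Agent.ASt.repByAlgSpWith_iff.1 h1).2 U y
  obtain ⟨_, _, q2⟩ := (Groth.Agent.ASt.repByAlgSpWith_iff.1 h3).2 U y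
  obtain ⟨_, _, q3⟩ := (Groth.Agent.ASt.repByAlgSpWith_iff.1 hl).2 U y
  exact ⟨hs, hA, q2, ⟨q3, Groth.Agent.ASp.isQuasiCompactMor_of_univClosed hA (AlgSp.IsAlgSpace.yon_obj U) _ q1⟩, q1⟩

end Groth.Agent.S12979
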