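import Groth.Statements.S12980
import Groth.Agent.ASt.DiagConv
import Groth.Agent.ASt.Generic
import Groth.Agent.ASt.DiagLft
import Groth.Agent.ASp.ValCompact
-- import your own Groth.Agent.* helpers here

set_option autoImplicit false
set_option backward.isDefEq.respectTransparency false
universe u
open CategoryTheory AlgebraicGeometry
open AlgSt

namespace Groth.Agent.S12980

/-- A morphism f of algebraic stacks is quasi-separated if and only if its first and second diagonals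
are both quasi-compact (as morphisms representable by algebraic spaces). -/
theorem result
    (S : Scheme.{u}) (𝒳 : AlgSt.Cat S) (𝒴 : AlgSt.Cat S)
    (h𝒳 : AlgSt.IsAlgStack Scheme.fppfPrecoverage 𝒳)
    (h𝒴 : AlgSt.IsAlgStack Scheme.fppfPrecoverage 𝒴)
    (f : 𝒳 ⥤ᵇ 𝒴) :
    AlgSt.IsQuasiSeparatedMor f ↔
      AlgSt.RepByAlgSpWith AlgSp.IsQuasiCompactMor (FibCat.diag f) ∧
        AlgSt.RepByAlgSpWith AlgSp.IsQuasiCompactMor (FibCat.diag (FibCat.diag f)) := by
  haveI := h𝒳.isStack.1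
  haveI := h𝒴.isStack.1
  haveI : FibCat.IsFibGrpd (FibCat.fp f f).p := Groth.Agent.ASt.isFibGrpd_fp
  constructor
  · intro h
    refine ⟨Groth.Agent.ASt.repByAlgSpWith_mono (fun _ _ _ _ _ h => h.1) h, ?_⟩
    exact Groth.Agent.ASt.repByAlgSpWith_diag_of_isQuasiSeparatedMor
      (fun e _ _ hq => Groth.Agent.ASp.isQuasiCompactMor_of_repWith (Groth.Agent.ASp.repWith_yon_map hq))
      (Groth.Agent.ASt.repByAlgSpWith_mono (Q := AlgSp.IsQuasiSeparatedMor) (fun _ _ _ _ _ h => h.2) h)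
  · rintro ⟨h1, h2⟩
    have h3 := Groth.Agent.ASt.isQuasiSeparatedMor_of_diag (Groth.Agent.ASt.repByAlgSp1_of_with h1) h2
    refine Groth.Agent.ASt.repByAlgSpWith_iff.2 ⟨(Groth.Agent.ASt.repByAlgSpWith_iff.1 h1).1, fun U y => ?_⟩
    obtain ⟨hs, hA, q1⟩ := (Groth.Agent.ASt.repByAlgSpWith_iff.1 h1).2 U y
    obtain ⟨_, _, q2⟩ := (Groth.Agent.ASt.repByAlgSpWith_iff.1 h3).2 U y
    exact ⟨hs, hA, q1, q2⟩

end Groth.Agent.S12980
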