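import Groth.Statements.S12984
import Groth.Agent.ASt.QcMor
set_option backward.isDefEq.respectTransparency false
set_option backward.isDefEq.respectTransparency.types false

set_option autoImplicit false
universe u
open CategoryTheory AlgebraicGeometry
open AlgSt

namespace Groth.Agent.S12984

open CategoryTheory.Limits AlgSp Groth.Agent.ASt Opposite

/-- A closed immersion of algebraic stacks is quasi-compact. -/
theorem result
    (S : Scheme.{u}) (𝒳 : AlgSt.Cat S) (𝒴 : AlgSt.Cat S)
    (h𝒳 : AlgSt.IsAlgStack Scheme.fppfPrecoverage 𝒳)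
    (h𝒴 : AlgSt.IsAlgStack Scheme.fppfPrecoverage 𝒴)
    (f : 𝒳 ⥤ᵇ 𝒴) :
    AlgSt.IsClosedImm f → AlgSt.IsQuasiCompactMor Scheme.fppfPrecoverage f := by
  haveI := h𝒳.isStack.1; haveI := h𝒴.isStack.1
  intro h
  have h' : AlgSt.RepByAlgSpWith AlgSp.IsQuasiCompactMor f :=
    repByAlgSpWith_mono (fun _ _ _ _ _ hg => Groth.Agent.ASp.isQuasiCompactMor_of_repWith
      (Groth.Agent.ASp.repWith_mono (fun _ _ g hg => have : IsClosedImmersion g := hg; (inferInstance : QuasiCompact g)) hg)) h
  exact (repByAlgSpWith_isQuasiCompactMor_iff h𝒳 h𝒴 (repByAlgSp1_of_with h')).1 h'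

end Groth.Agent.S12984
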