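import Groth.Statements.S12988
import Groth.Agent.ASt.LocQOpen
import Groth.Agent.ASt.StkAlg
set_option backward.isDefEq.respectTransparency false
set_option backward.isDefEq.respectTransparency.types false

set_option autoImplicit false
universe u
open CategoryTheory AlgebraicGeometry
open AlgSt

namespace Groth.Agent.S12988

open CategoryTheory.Limits AlgSp Groth.Agent.ASt Opposite

/-- Over a quasi-separated base scheme, a 2-fibre product of algebraic stacks that are quasi-compact and
quasi-separated over the base scheme is quasi-compact and quasi-separated over the base scheme. (The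
published statement is about stacks quasi-compact and quasi-separated over the integers and puts no
condition on the base scheme; this row assumes the base scheme quasi-separated and uses
quasi-separatedness over it. Without quasi-separatedness of the base the quasi-compactness
conclusion fails: for the base glued from two copies of infinite-dimensional affine space along the
complement of the origin, the two copies are quasi-compact and quasi-separated over the base while
their fibre product over the base is that complement, which is not quasi-compact.) -/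
theorem result
    (S : Scheme.{u}) [QuasiSeparatedSpace S] (𝒳 : AlgSt.Cat S) (𝒴 : AlgSt.Cat S) (𝒵 : AlgSt.Cat S)
    (h𝒳 : AlgSt.IsAlgStack Scheme.fppfPrecoverage 𝒳)
    (h𝒴 : AlgSt.IsAlgStack Scheme.fppfPrecoverage 𝒴)
    (h𝒵 : AlgSt.IsAlgStack Scheme.fppfPrecoverage 𝒵)
    (a : 𝒳 ⥤ᵇ 𝒴) (b : 𝒵 ⥤ᵇ 𝒴) :
    AlgSt.IsQuasiCompact 𝒳 → AlgSt.IsQuasiSeparatedOver 𝒳 →
      AlgSt.IsQuasiCompact 𝒴 → AlgSt.IsQuasiSeparatedOver 𝒴 →
      AlgSt.IsQuasiCompact 𝒵 → AlgSt.IsQuasiSeparatedOver 𝒵 →
      AlgSt.IsQuasiCompact (FibCat.fp a b) ∧ AlgSt.IsQuasiSeparatedOver (FibCat.fp a b) := by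
  haveI := h𝒳.isStack.1; haveI := h𝒴.isStack.1; haveI := h𝒵.isStack.1
  intro hXc hXs _ hYs hZc hZs
  haveI : FibCat.IsFibGrpd (FibCat.fp a b).p := isFibGrpd_fp
  haveI : FibCat.IsFibGrpd (FibCat.fp a a).p := isFibGrpd_fp
  have hS := (isDM_of_repByAlgSp (repByAlgSp_selfOver (S := S))).1
  haveI := hS.isStack.1
  have hb : AlgSt.IsQuasiCompactMor Scheme.fppfPrecoverage b :=
    isQuasiCompactMor_of_comp h𝒵 h𝒴 hS (g := FibCat.toSelf 𝒴)
      (by rw [comp_toSelf]; exact isQuasiCompactMor_toSelf h𝒵 hZc) hYs
  refine ⟨hb 𝒳 h𝒳 hXc a, ?_⟩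
  have hb' : AlgSt.IsQuasiSeparatedMor b := by
    change AlgSt.IsQuasiSeparatedMor (FibCat.toSelf 𝒵) at hZs
    rw [← comp_toSelf b] at hZs
    haveI : FibCat.IsFibGrpd (FibCat.fp (compJ b (FibCat.toSelf 𝒴)) (compJ b (FibCat.toSelf 𝒴))).p := isFibGrpd_fp
    exact repByAlgSpWith_of_comp compLocal_qcqs (repByAlgSpWith_congr (diagCompJ b _).symm hZs)
      (repByAlgSpWith_diag_of_isQuasiSeparatedMor (fun e hm _ hq =>
        ⟨Groth.Agent.ASp.isQuasiCompactMor_of_repWith (Groth.Agent.ASp.repWith_yon_map hq),
          Groth.Agent.ASp.repWith_diagonal_of_mono _⟩)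
        (repByAlgSpWith_compJ b _ (repByAlgSpWith_mono (fun _ _ _ _ _ h => h.2) hYs)))
  have := repByAlgSpWith_diag_comp (f := FibCat.fpFst a b) compLocal_qcqs
    (repByAlgSpWith_diag_fpFst a b hb') hXs
  rwa [comp_toSelf] at this

end Groth.Agent.S12988
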