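import Groth.Statements.S12989
import Groth.Agent.ASt.LocQOpen
import Groth.Agent.ASt.StkAlg
set_option backward.isDefEq.respectTransparency false
set_option backward.isDefEq.respectTransparency.types false

set_option autoImplicit false
universe u
open CategoryTheory AlgebraicGeometry
open AlgSt

namespace Groth.Agent.S12989

open CategoryTheory.Limits AlgSp Groth.Agent.ASt Opposite

/-- Let f : 𝒳 → 𝒴 be a morphism of algebraic stacks and W → 𝒴 a surjective, flat, locally finitely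
presented morphism whose source is an algebraic space. Whenever the projection W ×_𝒴 𝒳 → W is
quasi-compact, f is quasi-compact too. -/
theorem result
    (S : Scheme.{u}) (𝒳 : AlgSt.Cat S) (𝒴 : AlgSt.Cat S)
    (h𝒳 : AlgSt.IsAlgStack Scheme.fppfPrecoverage 𝒳)
    (h𝒴 : AlgSt.IsAlgStack Scheme.fppfPrecoverage 𝒴)
    (f : 𝒳 ⥤ᵇ 𝒴)
    (W : AlgSp.Space S) (w : AlgSt.ofSp W.obj ⥤ᵇ 𝒴)
    (hw₁ : AlgSt.RepByAlgSpWith (AlgSp.LocP @Flat) w)
    (hw₂ : AlgSt.RepByAlgSpWith (AlgSp.LocP @LocallyOfFinitePresentation) w)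
    (hw₃ : AlgSt.RepByAlgSpWith AlgSp.IsSurjectiveMor w) :
    AlgSt.IsQuasiCompactMor Scheme.fppfPrecoverage (FibCat.fpFst w f) → AlgSt.IsQuasiCompactMor Scheme.fppfPrecoverage f := by
  haveI := h𝒳.isStack.1; haveI := h𝒴.isStack.1
  intro h
  have hW := isAlgStack_of_repByAlgSp1 h𝒴 (repByAlgSp1_of_with hw₁)
  obtain ⟨V, c, hc, hcs⟩ := hW.atlas
  refine isQuasiCompactMor_of_fppf h𝒳 h𝒴 hW c
    (repByAlgSpWith_comp compLocal_flat (smooth_to_flat hc) hw₁)
    (repByAlgSpWith_comp compLocal_lfp (smooth_to_lfp hc) hw₂) (fun y => ?_) h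
  obtain ⟨v, rfl⟩ := isSurjective_of_repByAlgSpWith hw₃ y
  obtain ⟨t, rfl⟩ := isSurjective_of_repByAlgSpWith hcs v
  exact ⟨t, (map_map _ _ _).symm⟩

end Groth.Agent.S12989
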