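import Groth.Statements.S12990
import Groth.Agent.ASt.LocQ
set_option backward.isDefEq.respectTransparency false
set_option backward.isDefEq.respectTransparency.types false

set_option autoImplicit false
universe u
open CategoryTheory AlgebraicGeometry
open AlgSt

namespace Groth.Agent.S12990

open CategoryTheory.Limits AlgSp Groth.Agent.ASt Opposite

/-- Suppose P, a property of morphisms between algebraic spaces, is local on source and target for the
smooth topology, and let f : 𝒳 → 𝒴 be a morphism of algebraic stacks. Then some 2-commutative square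
with smooth scheme charts x : U → 𝒳 (surjective), y : V → 𝒴 and h : U → V having P exists if and
only if in every 2-commutative square with smooth scheme charts x : U → 𝒳, y : V → 𝒴 for which the
induced U → 𝒳 ×_𝒴 V is smooth, the morphism h : U → V has P. (The published statement uses charts
from algebraic spaces; this row uses charts from schemes.) -/
theorem result
    (S : Scheme.{u}) (P : MorphismProperty (AlgSp.Sp S)) (hP : AlgSp.IsSmoothLocalST P)
    (𝒳 : AlgSt.Cat S) (𝒴 : AlgSt.Cat S)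
    (h𝒳 : AlgSt.IsAlgStack Scheme.fppfPrecoverage 𝒳)
    (h𝒴 : AlgSt.IsAlgStack Scheme.fppfPrecoverage 𝒴)
    (f : 𝒳 ⥤ᵇ 𝒴) :
    AlgSt.LocQ P f ↔
      ∀ (U V : Over S) (x : FibCat.overCat U ⥤ᵇ 𝒳) (y : FibCat.overCat V ⥤ᵇ 𝒴) (h : U ⟶ V)
        (α : BasedFunctor.comp x f ≅ BasedFunctor.comp (AlgSt.overMap h) y),
        AlgSt.RepByAlgSpWith (AlgSp.LocP @Smooth) x → AlgSt.RepByAlgSpWith (AlgSp.LocP @Smooth) y →
        AlgSt.RepByAlgSpWith (AlgSp.LocP @Smooth) (FibCat.fpLift x (AlgSt.overMap h) α) → P ((AlgSp.yon S).map h) := by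
  haveI := h𝒳.isStack.1; haveI := h𝒴.isStack.1
  constructor
  · intro hf U V x y h α _ hy hl
    haveI : FibCat.IsFibGrpd (FibCat.fp f y).p := isFibGrpd_fp
    haveI : FibCat.IsFibGrpd (FibCat.fp y f).p := isFibGrpd_fp
    exact smLoc_of_locQ hP h𝒴.diag hf hy
      (c := BasedFunctor.comp (FibCat.fpLift x (AlgSt.overMap h) α) (swapF f y))
      (repByAlgSpWith_postcomp _ (isEquivOver_swapF _ _) hl) (Iso.refl _)
  · intro H
    obtain ⟨V, y, hy, hys⟩ := h𝒴.atlas
    haveI : FibCat.IsFibGrpd (FibCat.fp f y).p := isFibGrpd_fp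
    haveI : FibCat.IsFibGrpd (FibCat.fp y f).p := isFibGrpd_fp
    obtain ⟨C, c, hc, hcs⟩ := hasAtlas_fp (isAlgStack_overCat V).atlas h𝒳.atlas h𝒴.diag y f
    obtain ⟨k, ⟨γ⟩⟩ := exists_overMap (BasedFunctor.comp c (FibCat.fpFst y f))
    refine locQ_of_chart hy hys hc hcs γ (H _ _ (BasedFunctor.comp c (FibCat.fpSnd y f)) y k
      ((wL c (FibCat.fpIso y f)).symm.trans (wR γ y)) (repByAlgSpWith_comp compLocal_smooth hc (repByAlgSpWith_fpSnd f hy)) hy ?_)
    refine repByAlgSpWith_congr (fpIsoMk (A := BasedFunctor.comp c (swapF y f))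
      (B := FibCat.fpLift (BasedFunctor.comp c (FibCat.fpSnd y f)) (AlgSt.overMap k)
        ((wL c (FibCat.fpIso y f)).symm.trans (wR γ y))) (Iso.refl _) γ fun z => ?_)
      (repByAlgSpWith_postcomp _ (isEquivOver_swapF y f) hc)
    change f.map (𝟙 (c.obj z).obj.snd) ≫ (c.obj z).obj.iso.inv ≫ y.map (γ.hom.toNatTrans.app z) =
      (c.obj z).obj.iso.inv ≫ y.map (γ.hom.toNatTrans.app z)
    simp

end Groth.Agent.S12990
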