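import Groth.Statements.S12993
import Groth.Agent.ASt.RepDesc
set_option backward.isDefEq.respectTransparency false
set_option backward.isDefEq.respectTransparency.types false

set_option autoImplicit false
universe u
open CategoryTheory AlgebraicGeometry
open AlgSt

namespace Groth.Agent.S12993

open CategoryTheory.Limits AlgSp Groth.Agent.ASt Opposite

/-- Let P be smooth local on the source-and-target, stable under base change and fppf local on the base,
and let f be a morphism of algebraic stacks that is representable by algebraic spaces. Then f has P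
read on one square of smooth scheme charts if and only if every base change of f to a scheme is a
morphism of algebraic spaces with P. -/
theorem result
    (S : Scheme.{u}) (P : MorphismProperty (AlgSp.Sp S)) (hP : AlgSp.IsSmoothLocalST P)
    (hP₁ : ∀ ⦃X₁ Y₁ X₂ Y₂ : AlgSp.Sp S⦄, AlgSp.IsAlgSpace X₁ → AlgSp.IsAlgSpace Y₁ → AlgSp.IsAlgSpace X₂ →
      AlgSp.IsAlgSpace Y₂ → ∀ (a : X₁ ⟶ Y₁) (b : Y₂ ⟶ Y₁) (a' : X₂ ⟶ Y₂) (b' : X₂ ⟶ X₁),
      IsPullback b' a' a b → P a → P a')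
    (hP₂ : AlgSp.IsLocalOnBase AlgSp.IsFppfCover P)
    (𝒳 : AlgSt.Cat S) (𝒴 : AlgSt.Cat S)
    (h𝒳 : AlgSt.IsAlgStack Scheme.fppfPrecoverage 𝒳)
    (h𝒴 : AlgSt.IsAlgStack Scheme.fppfPrecoverage 𝒴)
    (f : 𝒳 ⥤ᵇ 𝒴) (hf : AlgSt.RepByAlgSp1 f) :
    AlgSt.LocQ P f ↔ AlgSt.RepByAlgSpWith P f := by
  haveI := h𝒳.isStack.1; haveI := h𝒴.isStack.1
  haveI := respectsIso_onSpaces hP₁
  have hQ : AlgSp.IsSmoothLocalST (onSpaces P) :=
    { precomp := fun X Y Z hX hY hZ a b ha hb _ _ => hP.precomp hX hY hZ a b ha (hb hY hZ)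
      baseChange := fun X Y X' Y' hX hY hX' hY' a b a' b' sq hb h _ _ => hP.baseChange hX hY hX' hY' a b a' b' sq hb (h hX hY)
      locality := fun X Y hX hY a => by
        refine ⟨fun h x => ?_, fun H _ _ => (hP.locality hX hY a).2 fun x => ?_⟩
        · obtain ⟨U, V, p, q, h', v, hU, hV, hp, hq, e, hv, hh⟩ := (hP.locality hX hY a).1 (h hX hY) x
          exact ⟨U, V, p, q, h', v, hU, hV, hp, hq, e, hv, fun _ _ => hh⟩
        · obtain ⟨U, V, p, q, h', v, hU, hV, hp, hq, e, hv, hh⟩ := H x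
          exact ⟨U, V, p, q, h', v, hU, hV, hp, hq, e, hv, hh hU hV⟩ }
  refine ⟨fun h => repByAlgSpWith_onSpaces_iff.1 (repByAlgSpWith_of_locQ hQ
    (fun X₁ Y₁ X₂ Y₂ a₁ a₂ a₃ a₄ a b a' b' sq ha _ _ => hP₁ a₁ a₂ a₃ a₄ a b a' b' sq (ha a₁ a₂))
    (fun ι Y Yi g hY hYi hτ X a hX Xi p q hXi sq =>
      ⟨fun h i _ _ => (hP₂ Yi g hY hYi hτ a hX Xi p q hXi sq).1 (h hX hY) i,
        fun h _ _ => (hP₂ Yi g hY hYi hτ a hX Xi p q hXi sq).2 fun i => h i (hXi i) (hYi i)⟩)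
    h𝒴 hf ?_), fun h => ?_⟩
  · obtain ⟨U, V, x, y, k, α, h1, h2, h3, h4⟩ := h
    exact ⟨U, V, x, y, k, α, h1, h2, h3, fun _ _ => h4⟩
  · obtain ⟨W, a, ha, has⟩ := h𝒴.atlas
    exact locQ_of_rep ha has (repByAlgSpWith_onSpaces_iff.2 h) fun p π hF hpe hπ =>
      hP.precomp (AlgSp.IsAlgSpace.yon_obj _) hF (AlgSp.IsAlgSpace.yon_obj _) p π
        (Groth.Agent.ASp.locP_of_repWith (Groth.Agent.ASp.repWith_mono
          (fun _ _ g (hg : Etale g) => (haveI := hg; inferInstance : Smooth g)) hpe))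
        (hπ hF (AlgSp.IsAlgSpace.yon_obj _))

end Groth.Agent.S12993
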