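import Groth.Statements.S12995
import Groth.Agent.ASt.RepDesc
set_option backward.isDefEq.respectTransparency false
set_option backward.isDefEq.respectTransparency.types false

set_option autoImplicit false
universe u
open CategoryTheory AlgebraicGeometry
open AlgSt

namespace Groth.Agent.S12995

open CategoryTheory.Limits AlgSp Groth.Agent.ASt Opposite

/-- Let P be a property of morphisms of algebraic spaces that is fppf local on the target and stable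
under base change, f : 𝒳 → 𝒴 a morphism of algebraic stacks representable by algebraic spaces, and 𝒵
→ 𝒴 a surjective, flat, locally finitely presented morphism of algebraic stacks. Then f has P (every
base change to a scheme has P) if and only if the projection 𝒵 ×_𝒴 𝒳 → 𝒵 has P. -/
theorem result
    (S : Scheme.{u}) (P : MorphismProperty (AlgSp.Sp S))
    (hP₁ : ∀ ⦃X₁ Y₁ X₂ Y₂ : AlgSp.Sp S⦄, AlgSp.IsAlgSpace X₁ → AlgSp.IsAlgSpace Y₁ → AlgSp.IsAlgSpace X₂ →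
      AlgSp.IsAlgSpace Y₂ → ∀ (a : X₁ ⟶ Y₁) (b : Y₂ ⟶ Y₁) (a' : X₂ ⟶ Y₂) (b' : X₂ ⟶ X₁),
      IsPullback b' a' a b → P a → P a')
    (hP₂ : AlgSp.IsLocalOnBase AlgSp.IsFppfCover P)
    (𝒳 : AlgSt.Cat S) (𝒴 : AlgSt.Cat S)
    (h𝒳 : AlgSt.IsAlgStack Scheme.fppfPrecoverage 𝒳)
    (h𝒴 : AlgSt.IsAlgStack Scheme.fppfPrecoverage 𝒴)
    (f : 𝒳 ⥤ᵇ 𝒴) (hf : AlgSt.RepByAlgSp1 f)
    (𝒵 : AlgSt.Cat S) (h𝒵 : AlgSt.IsAlgStack Scheme.fppfPrecoverage 𝒵) (z : 𝒵 ⥤ᵇ 𝒴)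
    (hz₁ : AlgSt.LocQ (AlgSp.LocP @Flat) z) (hz₂ : AlgSt.LocQ (AlgSp.LocP @LocallyOfFinitePresentation) z)
    (hz₃ : AlgSt.IsSurjective z) :
    AlgSt.RepByAlgSpWith P f ↔ AlgSt.RepByAlgSpWith P (FibCat.fpFst z f) := by
  haveI := h𝒳.isStack.1; haveI := h𝒴.isStack.1; haveI := h𝒵.isStack.1
  haveI := respectsIso_onSpaces hP₁
  refine ⟨fun h => repByAlgSpWith_fpFst z h, fun h => ?_⟩
  obtain ⟨V, c, hc, hcs, hfl, hfp⟩ := exists_fppf_chart hz₁ hz₂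
  refine repByAlgSpWith_onSpaces_iff.1 (repByAlgSpWith_of_fppf
    (fun ι Y Yi g hY hYi hτ X a hX Xi p q hXi sq =>
      ⟨fun h i _ _ => (hP₂ Yi g hY hYi hτ a hX Xi p q hXi sq).1 (h hX hY) i,
        fun h _ _ => (hP₂ Yi g hY hYi hτ a hX Xi p q hXi sq).2 fun i => h i (hXi i) (hYi i)⟩)
    hf c hfl hfp (fun y => ?_) (repByAlgSpWith_onSpaces_iff.2 h))
  obtain ⟨v, rfl⟩ := hz₃ y
  obtain ⟨t, rfl⟩ := isSurjective_of_repByAlgSpWith hcs v
  exact ⟨t, (map_map _ _ _).symm⟩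

end Groth.Agent.S12995
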