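import Groth.Statements.S12997
import Groth.Agent.ASt.Chart
set_option backward.isDefEq.respectTransparency false
set_option backward.isDefEq.respectTransparency.types false

set_option autoImplicit false
universe u
open CategoryTheory AlgebraicGeometry
open AlgSt

namespace Groth.Agent.S12997

open CategoryTheory.Limits AlgSp Groth.Agent.ASt Opposite

/-- An open immersion of algebraic stacks is locally of finite presentation. -/
theorem result
    (S : Scheme.{u}) (𝒳 : AlgSt.Cat S) (𝒴 : AlgSt.Cat S)
    (h𝒳 : AlgSt.IsAlgStack Scheme.fppfPrecoverage 𝒳)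
    (h𝒴 : AlgSt.IsAlgStack Scheme.fppfPrecoverage 𝒴)
    (f : 𝒳 ⥤ᵇ 𝒴) :
    AlgSt.IsOpenImm f → AlgSt.LocQ (AlgSp.LocP @LocallyOfFinitePresentation) f := by
  intro h
  haveI := h𝒳.isStack.1
  haveI := h𝒴.isStack.1
  obtain ⟨V, y, hy, hys⟩ := h𝒴.atlas
  exact locQ_of_rep hy hys h fun p π hF hp hπ => Groth.Agent.ASp.locP_comp hF
    (Groth.Agent.ASp.locP_of_repWith (Groth.Agent.ASp.repWith_mono
      (fun _ _ g (hg : Etale g) => inferInstanceAs (LocallyOfFinitePresentation g)) hp))
    (Groth.Agent.ASp.locP_of_repWith (Groth.Agent.ASp.repWith_mono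
      (fun _ _ g (hg : IsOpenImmersion g) => inferInstanceAs (LocallyOfFinitePresentation g)) hπ))

end Groth.Agent.S12997
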