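import Groth.Statements.S12998
import Groth.Agent.ASt.LocNoeth
import Groth.Agent.ASt.LocQCalc
set_option backward.isDefEq.respectTransparency false
set_option backward.isDefEq.respectTransparency.types false

set_option autoImplicit false
universe u
open CategoryTheory AlgebraicGeometry
open AlgSt

namespace Groth.Agent.S12998

open CategoryTheory.Limits AlgSp Groth.Agent.ASt Opposite

/-- For a morphism of algebraic stacks f : 𝒳 → 𝒴 that is locally of finite type, local Noetherianity of
𝒴 implies local Noetherianity of 𝒳 (locally Noetherian: every scheme smooth over the stack is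
locally Noetherian). -/
theorem result
    (S : Scheme.{u}) (𝒳 : AlgSt.Cat S) (𝒴 : AlgSt.Cat S)
    (h𝒳 : AlgSt.IsAlgStack Scheme.fppfPrecoverage 𝒳)
    (h𝒴 : AlgSt.IsAlgStack Scheme.fppfPrecoverage 𝒴)
    (f : 𝒳 ⥤ᵇ 𝒴) :
    AlgSt.LocQ (AlgSp.LocP @LocallyOfFiniteType) f → AlgSt.SmoothLocally (fun T ↦ IsLocallyNoetherian T) 𝒴 → AlgSt.SmoothLocally (fun T ↦ IsLocallyNoetherian T) 𝒳 := by
  haveI := h𝒳.isStack.1; haveI := h𝒴.isStack.1
  intro hf hY
  obtain ⟨V, y, hy, hys⟩ := h𝒴.atlas
  obtain ⟨D⟩ := nonempty_chartOf h𝒴.diag h𝒳.atlas f y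
  haveI : LocallyOfFiniteType D.k.left := prop_left_of_locP (D.prop Groth.Agent.ASp.isSmoothLocalST_locP h𝒴.diag hy hf)
  haveI : IsLocallyNoetherian V.left := hY V y hy
  exact smoothLocally_of_chart (fun U R hR => isLocallyNoetherian_smLocal U R hR) (D.x_smooth hy) (D.x_surj hys)
    (LocallyOfFiniteType.isLocallyNoetherian D.k.left)

end Groth.Agent.S12998
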