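import Groth.Statements.S13001
import Groth.Agent.DecSec.LfpDescend
import Groth.Agent.DecSec.GerbeCrit
-- import your own Groth.Agent.* helpers here

set_option autoImplicit false
set_option backward.isDefEq.respectTransparency false
universe u
open CategoryTheory AlgebraicGeometry
open AlgSt

namespace Groth.Agent.S13001

/-- Let 𝒳 → 𝒴 → 𝒵 be morphisms of algebraic stacks with 𝒳 → 𝒵 locally of finite type and with 𝒳 → 𝒴
flat, surjective, locally of finite presentation and representable by algebraic spaces. In this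
situation 𝒴 → 𝒵 is also locally of finite type. -/
theorem result
    (S : Scheme.{u}) (𝒳 : AlgSt.Cat S) (𝒴 : AlgSt.Cat S) (𝒵 : AlgSt.Cat S)
    (h𝒳 : AlgSt.IsAlgStack Scheme.fppfPrecoverage 𝒳)
    (h𝒴 : AlgSt.IsAlgStack Scheme.fppfPrecoverage 𝒴)
    (h𝒵 : AlgSt.IsAlgStack Scheme.fppfPrecoverage 𝒵)
    (f : 𝒳 ⥤ᵇ 𝒴) (g : 𝒴 ⥤ᵇ 𝒵)
    (hf₁ : AlgSt.RepByAlgSpWith (AlgSp.LocP @Flat) f)
    (hf₂ : AlgSt.RepByAlgSpWith (AlgSp.LocP @LocallyOfFinitePresentation) f)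
    (hf₃ : AlgSt.RepByAlgSpWith AlgSp.IsSurjectiveMor f) :
    AlgSt.LocQ (AlgSp.LocP @LocallyOfFiniteType) (BasedFunctor.comp f g) → AlgSt.LocQ (AlgSp.LocP @LocallyOfFiniteType) g := by
  haveI := h𝒳.isStack.1
  haveI := h𝒴.isStack.1
  haveI := h𝒵.isStack.1
  intro h
  obtain ⟨W, w, E, T, k, hw, hws, hk1, hk2, hk3, hk⟩ :=
    Groth.Agent.DecSec.exists_fppf_square Groth.Agent.ASp.isSmoothLocalST_locP h𝒳 h𝒴 h𝒵
      (Groth.Agent.DecSec.locQ_of_repByAlgSpWith h𝒴 hf₁) (Groth.Agent.DecSec.locQ_of_repByAlgSpWith h𝒴 hf₂)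
      (Groth.Agent.ASt.isSurjective_of_repByAlgSpWith hf₃) h
  haveI : LocallyOfFiniteType (k.left ≫ E.k.left) := Groth.Agent.ASt.prop_left_of_locP hk
  exact E.locQ hw hws (Groth.Agent.ASt.locP_of_prop_left
    (Groth.Agent.FppfSrc.locallyOfFiniteType_of_precomp_fppf k.left E.k.left))

end Groth.Agent.S13001
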