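import Groth.Statements.S13003
import Groth.Agent.ASt.LocQDesc
import Groth.Agent.ASp.Fpqc
import Groth.Agent.ASp.Univ
set_option backward.isDefEq.respectTransparency false
set_option backward.isDefEq.respectTransparency.types false

set_option autoImplicit false
universe u
open CategoryTheory AlgebraicGeometry
open AlgSt

namespace Groth.Agent.S13003

open CategoryTheory.Limits AlgSp Groth.Agent.ASt Opposite

/-- Let f : 𝒳 → 𝒴 be a morphism of algebraic stacks and 𝒵 → 𝒴 a morphism of algebraic stacks that is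
both flat and surjective. Whenever the projection 𝒵 ×_𝒴 𝒳 → 𝒵 is flat, f is flat too. -/
theorem result
    (S : Scheme.{u}) (𝒳 : AlgSt.Cat S) (𝒴 : AlgSt.Cat S)
    (h𝒳 : AlgSt.IsAlgStack Scheme.fppfPrecoverage 𝒳)
    (h𝒴 : AlgSt.IsAlgStack Scheme.fppfPrecoverage 𝒴)
    (f : 𝒳 ⥤ᵇ 𝒴)
    (𝒵 : AlgSt.Cat S) (h𝒵 : AlgSt.IsAlgStack Scheme.fppfPrecoverage 𝒵) (z : 𝒵 ⥤ᵇ 𝒴)
    (hz₁ : AlgSt.LocQ (AlgSp.LocP @Flat) z) (hz₂ : AlgSt.IsSurjective z) :
    AlgSt.LocQ (AlgSp.LocP @Flat) (FibCat.fpFst z f) → AlgSt.LocQ (AlgSp.LocP @Flat) f := by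
  haveI := h𝒳.isStack.1; haveI := h𝒴.isStack.1; haveI := h𝒵.isStack.1
  intro h
  obtain ⟨W, c, hc, hcs, hfl⟩ := exists_comp_of_locQ compLocal_flat (fun g hg => (haveI := hg; inferInstance)) hz₁
  refine flat_of_flat_surjective h𝒳 h𝒴 h𝒵 hc hfl (fun y => ?_) h
  obtain ⟨v, rfl⟩ := hz₂ y
  obtain ⟨t, rfl⟩ := isSurjective_of_repByAlgSpWith hcs v
  exact ⟨t, (map_map _ _ _).symm⟩

end Groth.Agent.S13003
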