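import Groth.Statements.S13004
import Groth.Agent.ASt.LocQBase
import Groth.Agent.ASp.SmST
import Groth.Agent.FpqcDesc.Stalk
set_option backward.isDefEq.respectTransparency false
set_option backward.isDefEq.respectTransparency.types false

set_option autoImplicit false
universe u
open CategoryTheory AlgebraicGeometry
open AlgSt

namespace Groth.Agent.S13004

open CategoryTheory.Limits AlgSp Groth.Agent.ASt Opposite

/-- Let 𝒳 → 𝒴 → 𝒵 be morphisms of algebraic stacks with 𝒳 → 𝒵 flat and 𝒳 → 𝒴 surjective and flat. Then 𝒴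
→ 𝒵 is flat. -/
theorem result
    (S : Scheme.{u}) (𝒳 : AlgSt.Cat S) (𝒴 : AlgSt.Cat S) (𝒵 : AlgSt.Cat S)
    (h𝒳 : AlgSt.IsAlgStack Scheme.fppfPrecoverage 𝒳)
    (h𝒴 : AlgSt.IsAlgStack Scheme.fppfPrecoverage 𝒴)
    (h𝒵 : AlgSt.IsAlgStack Scheme.fppfPrecoverage 𝒵)
    (f : 𝒳 ⥤ᵇ 𝒴) (g : 𝒴 ⥤ᵇ 𝒵)
    (hf₁ : AlgSt.LocQ (AlgSp.LocP @Flat) f) (hf₂ : AlgSt.IsSurjective f) :
    AlgSt.LocQ (AlgSp.LocP @Flat) (BasedFunctor.comp f g) → AlgSt.LocQ (AlgSp.LocP @Flat) g := by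
  haveI := h𝒳.isStack.1; haveI := h𝒴.isStack.1; haveI := h𝒵.isStack.1
  intro h
  obtain ⟨W, w, E, D, hw, hws, hk⟩ := exists_charts_comp Groth.Agent.ASp.isSmoothLocalST_locP h𝒳 h𝒴 h𝒵 h
  have h1 : Flat (D.k.left ≫ E.k.left) := prop_left_of_locP hk
  have h2 : Flat D.k.left := prop_left_of_locP (D.prop Groth.Agent.ASp.isSmoothLocalST_locP h𝒴.diag (E.x_smooth hw) hf₁)
  haveI := D.surjective_k hf₂
  exact E.locQ hw hws (locP_of_prop_left (Groth.Agent.FlatDescStalk.flat_of_comp D.k.left E.k.left))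

end Groth.Agent.S13004
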