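import Groth.Statements.S13005
import Groth.Agent.ASt.LocQBase
import Groth.Agent.ASp.SmST
import Groth.Agent.FpqcDesc.Stalk
set_option backward.isDefEq.respectTransparency false
set_option backward.isDefEq.respectTransparency.types false

set_option autoImplicit false
universe u
open CategoryTheory AlgebraicGeometry
open AlgSt

namespace Groth.Agent.S13005

open CategoryTheory.Limits AlgSp Groth.Agent.ASt Opposite

/-- Take morphisms of algebraic stacks f : 𝒳 → 𝒴 and g : 𝒴 → 𝒵. Suppose g is locally of finite type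
while the composite 𝒳 → 𝒵 is locally of finite presentation; it follows that f is also locally of
finite presentation. -/
theorem result
    (S : Scheme.{u}) (𝒳 : AlgSt.Cat S) (𝒴 : AlgSt.Cat S) (𝒵 : AlgSt.Cat S)
    (h𝒳 : AlgSt.IsAlgStack Scheme.fppfPrecoverage 𝒳)
    (h𝒴 : AlgSt.IsAlgStack Scheme.fppfPrecoverage 𝒴)
    (h𝒵 : AlgSt.IsAlgStack Scheme.fppfPrecoverage 𝒵)
    (f : 𝒳 ⥤ᵇ 𝒴) (g : 𝒴 ⥤ᵇ 𝒵) :
    AlgSt.LocQ (AlgSp.LocP @LocallyOfFinitePresentation) (BasedFunctor.comp f g) → AlgSt.LocQ (AlgSp.LocP @LocallyOfFiniteType) g →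
      AlgSt.LocQ (AlgSp.LocP @LocallyOfFinitePresentation) f := by
  haveI := h𝒳.isStack.1; haveI := h𝒴.isStack.1; haveI := h𝒵.isStack.1
  intro h hg
  obtain ⟨W, w, E, D, hw, hws, hk⟩ := exists_charts_comp Groth.Agent.ASp.isSmoothLocalST_locP h𝒳 h𝒴 h𝒵 h
  have h1 : LocallyOfFinitePresentation (D.k.left ≫ E.k.left) := prop_left_of_locP hk
  have h2 : LocallyOfFiniteType E.k.left := prop_left_of_locP (E.prop Groth.Agent.ASp.isSmoothLocalST_locP h𝒵.diag hw hg)
  exact D.locQ (E.x_smooth hw) (E.x_surj hws) (locP_of_prop_left (Groth.Agent.ASp.locallyOfFinitePresentation_of_comp D.k.left E.k.left h1 h2))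

end Groth.Agent.S13005
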