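import Groth.Statements.S13011
import Groth.Agent.ASt.Generic
set_option backward.isDefEq.respectTransparency false
set_option backward.isDefEq.respectTransparency.types false

set_option autoImplicit false
universe u
open CategoryTheory AlgebraicGeometry
open AlgSt

namespace Groth.Agent.S13011

open CategoryTheory.Limits AlgSp Groth.Agent.ASt Opposite

/-- The composition of two affine morphisms of algebraic stacks is affine (affine: representable by
algebraic spaces, and every base change to an affine scheme is an affine scheme). -/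
theorem result
    (S : Scheme.{u}) (𝒳 : AlgSt.Cat S) (𝒴 : AlgSt.Cat S) (𝒵 : AlgSt.Cat S)
    (h𝒳 : AlgSt.IsAlgStack Scheme.fppfPrecoverage 𝒳)
    (h𝒴 : AlgSt.IsAlgStack Scheme.fppfPrecoverage 𝒴)
    (h𝒵 : AlgSt.IsAlgStack Scheme.fppfPrecoverage 𝒵)
    (f : 𝒳 ⥤ᵇ 𝒴) (g : 𝒴 ⥤ᵇ 𝒵) :
    AlgSt.RepByAlgSpWith AlgSp.IsAffineMor f → AlgSt.RepByAlgSpWith AlgSp.IsAffineMor g → AlgSt.RepByAlgSpWith AlgSp.IsAffineMor (BasedFunctor.comp f g) := by
  have := h𝒳.isStack.1
  have := h𝒴.isStack.1
  have := h𝒵.isStack.1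
  haveI : (IsAffineMor : MorphismProperty (Sp S)).RespectsIso := MorphismProperty.RespectsIso.mk _
    (fun {X Y Z} e f hf => Groth.Agent.ASp.isAffineMor_baseChange (f := f) (g := 𝟙 _) (q := e.hom)
      (IsPullback.of_horiz_isIso ⟨by simp⟩) hf)
    (fun {X Y Z} e f hf => Groth.Agent.ASp.isAffineMor_baseChange (f := f) (g := e.inv) (q := 𝟙 _)
      (IsPullback.of_horiz_isIso ⟨by simp⟩) hf)
  exact repByAlgSpWith_comp compLocal_affine

end Groth.Agent.S13011
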