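import Groth.Statements.S13015
import Groth.Agent.ASt.Generic
set_option backward.isDefEq.respectTransparency false
set_option backward.isDefEq.respectTransparency.types false

set_option autoImplicit false
universe u
open CategoryTheory AlgebraicGeometry
open AlgSt

namespace Groth.Agent.S13015

open CategoryTheory.Limits AlgSp Groth.Agent.ASt Opposite

/-- The composition of two finite morphisms of algebraic stacks is finite (finite: representable by
algebraic spaces, and every base change to an affine scheme is an affine scheme finite over it). -/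
theorem result
    (S : Scheme.{u}) (𝒳 : AlgSt.Cat S) (𝒴 : AlgSt.Cat S) (𝒵 : AlgSt.Cat S)
    (h𝒳 : AlgSt.IsAlgStack Scheme.fppfPrecoverage 𝒳)
    (h𝒴 : AlgSt.IsAlgStack Scheme.fppfPrecoverage 𝒴)
    (h𝒵 : AlgSt.IsAlgStack Scheme.fppfPrecoverage 𝒵)
    (f : 𝒳 ⥤ᵇ 𝒴) (g : 𝒴 ⥤ᵇ 𝒵) :
    AlgSt.RepByAlgSpWith AlgSp.IsFiniteMor f → AlgSt.RepByAlgSpWith AlgSp.IsFiniteMor g → AlgSt.RepByAlgSpWith AlgSp.IsFiniteMor (BasedFunctor.comp f g) := by
  have := h𝒳.isStack.1
  have := h𝒴.isStack.1
  have := h𝒵.isStack.1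
  haveI := respectsIso_onSpaces (S := S) (P := IsFiniteMor) (fun _ _ _ _ _ _ _ _ a b a' b' sq h T hT k =>
    let ⟨W, i, fst, hW, hWa⟩ := h hT (k ≫ b)
    ⟨W, i, sq.lift fst ((yon S).map i ≫ k) (by rw [hW.w, Category.assoc]),
      IsPullback.of_right (by rw [sq.lift_fst]; exact hW) (sq.lift_snd _ _ _) sq, hWa⟩)
  exact fun hf hg => repByAlgSpWith_onSpaces_iff.1 (repByAlgSpWith_comp (compLocal_onSpaces compLocal_finite)
    (repByAlgSpWith_onSpaces_iff.2 hf) (repByAlgSpWith_onSpaces_iff.2 hg))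

end Groth.Agent.S13015
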