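import Groth.Statements.S13018
import Groth.Agent.ASt.ImmNoeth
import Groth.Agent.ASt.DiagCancel
import Groth.Agent.ASt.StkAlg
import Groth.Agent.S12868
set_option backward.isDefEq.respectTransparency false
set_option backward.isDefEq.respectTransparency.types false

set_option autoImplicit false
universe u
open CategoryTheory AlgebraicGeometry
open AlgSt

namespace Groth.Agent.S13018

/-- If j : 𝒳 → 𝒴 is an immersion of algebraic stacks and 𝒴 is Noetherian (quasi-compact, quasi-separated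
and locally Noetherian) then so is 𝒳. (The published statement uses quasi-separatedness over the
integers; this row uses quasi-separatedness over the base scheme in hypothesis and conclusion.) -/
theorem result
    (S : Scheme.{u}) (𝒳 : AlgSt.Cat S) (𝒴 : AlgSt.Cat S)
    (h𝒳 : AlgSt.IsAlgStack Scheme.fppfPrecoverage 𝒳)
    (h𝒴 : AlgSt.IsAlgStack Scheme.fppfPrecoverage 𝒴)
    (j : 𝒳 ⥤ᵇ 𝒴) (hj : AlgSt.IsImm j) :
    AlgSt.IsQuasiCompact 𝒴 → AlgSt.IsQuasiSeparatedOver 𝒴 → AlgSt.SmoothLocally (fun T ↦ IsLocallyNoetherian T) 𝒴 →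
      AlgSt.IsQuasiCompact 𝒳 ∧ AlgSt.IsQuasiSeparatedOver 𝒳 ∧ AlgSt.SmoothLocally (fun T ↦ IsLocallyNoetherian T) 𝒳 := by
  intro hc hq hn
  haveI := h𝒳.isStack.1
  haveI := h𝒴.isStack.1
  haveI : FibCat.IsFibGrpd (FibCat.fp (BasedFunctor.id 𝒴) j).p := Groth.Agent.ASt.isFibGrpd_fp
  obtain ⟨hl, hj'⟩ := Groth.Agent.ASt.immersion_locNoeth h𝒳 h𝒴 hj hn
  refine ⟨?_, ?_, hl⟩
  · haveI := Groth.Agent.ASt.compactSpace_of_isQuasiCompact
      (Groth.Agent.ASt.isAlgStack_fp (Groth.Agent.ASt.isPrestack_of_isStack h𝒴.isStack) h𝒴.diag h𝒴 h𝒳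
        (BasedFunctor.id 𝒴) j) (hj' 𝒴 h𝒴 hc (BasedFunctor.id 𝒴))
    refine Groth.Agent.ASt.isQuasiCompact_of_surjective h𝒳 (F := FibCat.fpSnd (BasedFunctor.id 𝒴) j) fun x => ?_
    obtain ⟨w, -, hw⟩ := Groth.Agent.ASt.points_surjective_fp (BasedFunctor.id 𝒴) j (AlgSt.Points.map j x) x
      (by obtain ⟨p, hp⟩ := AlgSt.Points.mk_surjective (AlgSt.Points.map j x); rw [← hp]; rfl)
    exact ⟨w, hw⟩
  · rw [AlgSt.IsQuasiSeparatedOver, ← Groth.Agent.ASt.comp_toSelf j]
    exact Groth.Agent.ASt.repByAlgSpWith_diag_comp Groth.Agent.ASt.compLocal_qcqs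
      (Groth.Agent.ASt.repByAlgSpWith_diag_of_isQuasiSeparatedMor
        (fun e hm _ hq' => ⟨Groth.Agent.ASp.isQuasiCompactMor_of_repWith (Groth.Agent.ASp.repWith_yon_map hq'),
          haveI := hm; Groth.Agent.ASp.repWith_diagonal_of_mono _⟩)
        (Groth.Agent.ASt.repByAlgSpWith_mono
          (fun _ _ a _ _ (ha : Mono a) => Groth.Agent.ASp.repWith_diagonal_of_mono a)
          (Groth.Agent.S12868.result j hj))) hq

end Groth.Agent.S13018
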