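import Groth.Statements.S13022
import Groth.Agent.ASt.LocQDesc
set_option backward.isDefEq.respectTransparency false
set_option backward.isDefEq.respectTransparency.types false

set_option autoImplicit false
universe u
open CategoryTheory AlgebraicGeometry
open AlgSt

namespace Groth.Agent.S13022

open CategoryTheory.Limits AlgSp Groth.Agent.ASt Opposite

/-- Let f_j : 𝒳_j → 𝒳 be a family of flat, locally finitely presented morphisms of algebraic stacks
which is jointly surjective on points. Then, given any scheme U and any object x of 𝒳 lying over U,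
one can find an fppf covering {U_i → U}, indices j(i) and objects x_i of 𝒳_{j(i)} over U_i with
f_{j(i)}(x_i) ≅ x|_{U_i}. -/
theorem result
    (S : Scheme.{u}) (𝒳 : AlgSt.Cat S)
    (h𝒳 : AlgSt.IsAlgStack Scheme.fppfPrecoverage 𝒳)
    (J : Type u) (𝒳' : J → AlgSt.Cat S) (h𝒳' : ∀ j, AlgSt.IsAlgStack Scheme.fppfPrecoverage (𝒳' j))
    (f : ∀ j, 𝒳' j ⥤ᵇ 𝒳)
    (hf₁ : ∀ j, AlgSt.LocQ (AlgSp.LocP @Flat) (f j)) (hf₂ : ∀ j, AlgSt.LocQ (AlgSp.LocP @LocallyOfFinitePresentation) (f j))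
    (hf₃ : ∀ p : AlgSt.Points 𝒳, ∃ j, p ∈ Set.range (AlgSt.Points.map (f j)))
    (U : Over S) (x : FibCat.overCat U ⥤ᵇ 𝒳) :
    ∃ (ι : Type u) (V : ι → Over S) (g : ∀ i, V i ⟶ U) (c : ι → J),
      (Presieve.ofArrows (fun i ↦ (V i).left) fun i ↦ (g i).left) ∈ Scheme.fppfPrecoverage U.left ∧
      ∀ i, ∃ x' : FibCat.overCat (V i) ⥤ᵇ 𝒳' (c i),
        Nonempty (BasedFunctor.comp x' (f (c i)) ≅ BasedFunctor.comp (AlgSt.overMap (g i)) x) := by
    haveI := h𝒳.isStack.1
    haveI := fun j => (h𝒳' j).isStack.1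
    choose W c hc hcs hfl hfp using fun j => exists_fppf_chart (hf₁ j) (hf₂ j)
    choose hs hA T p E l hpe hps hcomp hα hsec hE using fun j =>
      exists_chart_of_fib (f := BasedFunctor.comp (c j) (f j)) (repByAlgSp1_of_with (hfl j)) x
    let α := fun j => (hα j).some
    haveI := fun j => (isFibGrpd_fp (F := x) (G := BasedFunctor.comp (c j) (f j)))
    refine ⟨J, T, l, id, ?_, fun j => ⟨BasedFunctor.comp (BasedFunctor.comp (E j) (FibCat.fpSnd x (BasedFunctor.comp (c j) (f j)))) (c j),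
      ⟨(wL (E j) (FibCat.fpIso x (BasedFunctor.comp (c j) (f j)))).symm.trans (wR (α j) x)⟩⟩⟩
    rw [Scheme.fppfPrecoverage, Scheme.ofArrows_mem_precoverage_iff]
    refine ⟨fun u => ?_, fun j => ?_⟩
    · obtain ⟨j, v, hv⟩ := hf₃ (AlgSt.Points.map x (AlgSt.Points.ofChart (BasedFunctor.id _) u))
      obtain ⟨t, rfl⟩ := isSurjective_of_repByAlgSpWith (hcs j) v
      rw [map_map] at hv
      obtain ⟨m, hm, -⟩ := points_surjective_fp x (BasedFunctor.comp (c j) (f j)) _ _ hv.symm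
      obtain ⟨s, rfl⟩ := surjective_chart (hE j (P := IsSurjectiveMor) (hps j) fun v hv => Groth.Agent.ASp.surjective_map_of_repWith (Groth.Agent.ASp.repWith_yon_map hv)) m
      rw [← ofChart_comp, ofChart_congr (α j)] at hm
      exact ⟨j, s, injective_ofChart_id U ((ofChart_overMap (l j) (BasedFunctor.id _) s).symm.trans hm)⟩
    · exact ⟨prop_chart (hpe j) (hcomp j) ((repByAlgSpWith_iff.1 (hfl j)).2 U x).2.2,
        prop_chart (hpe j) (hcomp j) ((repByAlgSpWith_iff.1 (hfp j)).2 U x).2.2⟩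

end Groth.Agent.S13022
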