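import Groth.Statements.S13041
import Mathlib.RingTheory.TensorProduct.Maps
import Mathlib.RingTheory.Flat.Basic
import Mathlib.RingTheory.Localization.FractionRing

set_option autoImplicit false
universe u
open MaxMod

namespace Groth.Agent.S13041

/-- Let R be a domain with fraction field K, let A → B be a homomorphism of commutative R-algebras that
are flat over R, with B module-finite over A, such that the induced map K ⊗_R A → K ⊗_R B is
bijective. If the A-linear map Hom_A(B, A) → A evaluating at 1 is surjective, then A → B is
bijective. (The published statement concerns a finite morphism of flat schemes over a discrete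
valuation ring, with locally free relative dualizing sheaves, that is an isomorphism over a
schematically dense open and whose trace map on dualizing sheaves is surjective; this row is the
statement about rings to which the printed proof reduces it and which that proof establishes, and
the argument uses only that R is a domain.) -/
theorem result
    (R K A B : Type u) [CommRing R] [IsDomain R] [Field K] [Algebra R K] [IsFractionRing R K]
    [CommRing A] [CommRing B] [Algebra R A] [Algebra R B] [Algebra A B] [IsScalarTower R A B]
    [Module.Flat R A] [Module.Flat R B] [Module.Finite A B]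
    (hK : Function.Bijective
      (Algebra.TensorProduct.map (AlgHom.id R K) (IsScalarTower.toAlgHom R A B)))
    (htr : Function.Surjective (fun u : B →ₗ[A] A => u 1)) :
    Function.Bijective (algebraMap A B) := by
  obtain ⟨u, hu⟩ := htr 1
  have hu' : ∀ a : A, u (algebraMap A B a) = a := fun a => by
    rw [Algebra.algebraMap_eq_smul_one, map_smul, show u 1 = 1 from hu, smul_eq_mul, mul_one]
  refine ⟨fun a b hab => by rw [← hu' a, hab, hu'], fun b => ⟨u b, ?_⟩⟩
  let ι := (IsScalarTower.toAlgHom R A B).toLinearMap
  let π : B →ₗ[R] A := u.restrictScalars R
  have hcomp : ∀ a, π (ι a) = a := hu'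
  have hι : Function.Surjective (LinearMap.lTensor K ι) := fun z => by
    obtain ⟨w, hw⟩ := hK.2 z
    refine ⟨w, ?_⟩
    rw [← hw]
    rfl
  have hinjB : Function.Injective (fun x : B => (1 : K) ⊗ₜ[R] x) := by
    have h1 := Module.Flat.rTensor_preserves_injective_linearMap (M := B) (Algebra.linearMap R K)
      (IsFractionRing.injective R K)
    intro x y hxy
    have h2 := @h1 ((1 : R) ⊗ₜ[R] x) ((1 : R) ⊗ₜ[R] y) (by simpa using hxy)
    simpa using congrArg (TensorProduct.lid R B) h2
  apply hinjB
  obtain ⟨w, hw⟩ := hι ((1 : K) ⊗ₜ[R] b)
  have h3 : LinearMap.lTensor K π ((1 : K) ⊗ₜ[R] b) = w := by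
    rw [← hw, ← LinearMap.lTensor_comp_apply, show π ∘ₗ ι = LinearMap.id from LinearMap.ext hcomp]
    simp
  show (1 : K) ⊗ₜ[R] (algebraMap A B (u b)) = (1 : K) ⊗ₜ[R] b
  rw [← hw, ← h3]
  rfl

end Groth.Agent.S13041
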