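import Groth.Statements.S13042
import Mathlib

set_option autoImplicit false
universe u
open MaxMod

namespace Groth.Agent.S13042

open MvPolynomial
set_option backward.isDefEq.respectTransparency false
set_option maxHeartbeats 800000

lemma add_pow_of_natCast_eq_zero {A : Type*} [CommRing A] {p : ℕ} [Fact p.Prime] (hp : (p : A) = 0) (a b : A) :
    (a + b) ^ p = a ^ p + b ^ p := by
  obtain ⟨r, hr⟩ := exists_add_pow_prime_eq (Fact.out : p.Prime) a b
  rw [hr, hp]; ring

lemma natCast_p_eq_zero {R A : Type*} [CommRing R] [CommRing A] [Algebra R A] {p : ℕ} [CharP R p] :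
    (p : A) = 0 := by
  rw [← map_natCast (algebraMap R A), CharP.cast_eq_zero, map_zero]

open MvPolynomial in
/-- Let p be a prime, R a local ring of characteristic p, λ an element of the maximal ideal of R and f ∈
R. Then there is an isomorphism of R-algebras R[W₁, W₂]/(W₁^p − f, W₂^p − f) ≅ R[x, W]/(x^p, W^p −
f) with W₁ ↦ x + W + λ·x·W and W₂ ↦ W; that is, Spec R[W]/(W^p − f) with the action w ↦ x + w + λxw
is a torsor under the group scheme Spec R[x]/(x^p) with law x₁ ∘ x₂ = x₁ + x₂ + λx₁x₂. (The
published statement is over a complete discrete valuation ring of characteristic p with λ a nonzero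
nonunit, and also asserts that for f in the fraction field with negative valuation v(f) > −p·v(λ)
the torsor W^p = f extends to a torsor over R, using the coordinate 1/W; that second case fails: for
p = 2, λ = π a uniformizer and f = 1/π, every model is Spec R[π^a t] with t² = π, and none of these
is a torsor since the coaction sends t to t − π(1 + t)x. Only the case f ∈ R is stated, and the
argument there uses only that R is local of characteristic p.) -/
theorem result
    (p : ℕ) [Fact p.Prime] (R : Type u) [CommRing R] [IsLocalRing R] [CharP R p]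
    (lam f : R) (hlam : lam ∈ IsLocalRing.maximalIdeal R) :
    ∃ e : (MvPolynomial (Fin 2) R ⧸ Ideal.span {(X 0 ^ p - C f : MvPolynomial (Fin 2) R), X 1 ^ p - C f}) ≃ₐ[R]
        (MvPolynomial (Fin 2) R ⧸ Ideal.span {(X 0 ^ p : MvPolynomial (Fin 2) R), X 1 ^ p - C f}),
      e (Ideal.Quotient.mk _ (X 0)) = Ideal.Quotient.mk _ (X 0 + X 1 + C lam * X 0 * X 1) ∧
      e (Ideal.Quotient.mk _ (X 1)) = Ideal.Quotient.mk _ (X 1) := by
  let I : Ideal (MvPolynomial (Fin 2) R) := Ideal.span {X 0 ^ p - C f, X 1 ^ p - C f}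
  let J : Ideal (MvPolynomial (Fin 2) R) := Ideal.span {X 0 ^ p, X 1 ^ p - C f}
  let A := MvPolynomial (Fin 2) R ⧸ I
  let B := MvPolynomial (Fin 2) R ⧸ J
  let a : Fin 2 → A := fun i => Ideal.Quotient.mk I (X i)
  let b : Fin 2 → B := fun i => Ideal.Quotient.mk J (X i)
  have hA : (p : A) = 0 := natCast_p_eq_zero (R := R)
  have hB : (p : B) = 0 := natCast_p_eq_zero (R := R)
  have ha : ∀ i, a i ^ p = algebraMap R A f := fun i => by
    refine Ideal.Quotient.eq.2 ?_
    fin_cases i
    · exact Ideal.subset_span (Or.inl rfl)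
    · exact Ideal.subset_span (Or.inr rfl)
  have hb0 : b 0 ^ p = 0 := Ideal.Quotient.eq_zero_iff_mem.2 (Ideal.subset_span (Or.inl rfl))
  have hb1 : b 1 ^ p = algebraMap R B f := Ideal.Quotient.eq.2 (Ideal.subset_span (Or.inr rfl))
  have hu : IsUnit (1 + algebraMap R A lam * a 1) := by
    have h1 : IsUnit (1 + lam ^ p * f) := by
      refine IsLocalRing.notMem_maximalIdeal.1 fun hm => ?_
      refine (IsLocalRing.maximalIdeal.isMaximal R).ne_top ((Ideal.eq_top_iff_one _).2 ?_)
      have := Ideal.sub_mem _ hm (Ideal.mul_mem_right f _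
        (Ideal.pow_mem_of_mem _ hlam p (Fact.out : p.Prime).pos))
      simpa using this
    refine (isUnit_pow_iff (Fact.out : p.Prime).ne_zero).1 ?_
    rw [add_pow_of_natCast_eq_zero hA, one_pow, mul_pow, ha, ← map_pow, ← map_mul,
      ← map_one (algebraMap R A), ← map_add]
    exact h1.map _
  obtain ⟨v, hv⟩ := hu.exists_left_inv
  let φ : A →ₐ[R] B := Ideal.Quotient.liftₐ I
    (aeval ![b 0 + b 1 + algebraMap R B lam * b 0 * b 1, b 1]) (by
      show I ≤ RingHom.ker _
      rw [Ideal.span_le]
      rintro _ (rfl | rfl)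
      · simp only [SetLike.mem_coe, RingHom.mem_ker, map_sub, map_pow, aeval_X, aeval_C,
          Matrix.cons_val_zero]
        rw [show b 0 + b 1 + algebraMap R B lam * b 0 * b 1 = b 0 * (1 + algebraMap R B lam * b 1) + b 1 by ring,
          add_pow_of_natCast_eq_zero hB, mul_pow, hb0, hb1, zero_mul, zero_add, sub_self]
      · simp [hb1])
  let ψ : B →ₐ[R] A := Ideal.Quotient.liftₐ J (aeval ![(a 0 - a 1) * v, a 1]) (by
      show J ≤ RingHom.ker _
      rw [Ideal.span_le]
      rintro _ (rfl | rfl)
      · simp only [SetLike.mem_coe, RingHom.mem_ker, map_pow, aeval_X, Matrix.cons_val_zero]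
        have : (a 0 - a 1) ^ p = 0 := by
          have h := add_pow_of_natCast_eq_zero hA (a 0 - a 1) (a 1)
          rw [sub_add_cancel, ha, ha] at h
          linear_combination -h
        rw [mul_pow, this, zero_mul]
      · simp [ha])
  have φX : ∀ i, φ (a i) = ![b 0 + b 1 + algebraMap R B lam * b 0 * b 1, b 1] i := fun i => aeval_X _ i
  have ψX : ∀ i, ψ (b i) = ![(a 0 - a 1) * v, a 1] i := fun i => aeval_X _ i
  refine ⟨AlgEquiv.ofAlgHom φ ψ (Ideal.Quotient.algHom_ext _ (MvPolynomial.algHom_ext fun i => ?_))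
    (Ideal.Quotient.algHom_ext _ (MvPolynomial.algHom_ext fun i => ?_)), ?_, ?_⟩
  · show φ (ψ (b i)) = b i
    have hinv := congrArg φ hv
    rw [map_mul, map_add, map_mul, map_one, φX 1, AlgHom.commutes] at hinv
    simp only [Matrix.cons_val_one, Matrix.cons_val_zero] at hinv
    rw [ψX i]
    fin_cases i
    · simp only [Fin.zero_eta, Matrix.cons_val_zero, map_mul, map_sub, φX, Matrix.cons_val_one]
      linear_combination (b 0) * hinv
    · simp [φX]
  · show ψ (φ (a i)) = a i
    rw [φX i]
    fin_cases i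
    · simp only [Fin.zero_eta, Matrix.cons_val_zero, map_mul, map_add, ψX, Matrix.cons_val_one, AlgHom.commutes]
      linear_combination (a 0 - a 1) * hv
    · simp [ψX]
  · show φ (a 0) = _
    rw [φX 0]
    rfl
  · exact φX 1

end Groth.Agent.S13042
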