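import Groth.Statements.S13043
import Groth.Agent.AssLib.Structure

set_option autoImplicit false
universe u
open CoPerf

namespace Groth.Agent.S13043

open CategoryTheory CategoryTheory.Limits AlgebraicGeometry

variable {X : Scheme.{u}}

theorem isAffineOpen_inf_of_isAffineHom (V : X.Opens) [IsAffineHom V.ι] {W : X.Opens} (hW : IsAffineOpen W) :
    IsAffineOpen (W ⊓ V) := by
  have h := (hW.preimage V.ι).image_of_isOpenImmersion V.ι
  rwa [Scheme.Hom.image_preimage_eq_opensRange_inf, Scheme.Opens.opensRange_ι, inf_comm] at h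

theorem isAffineHom_inf (V₁ V₂ : X.Opens) [IsAffineHom V₁.ι] [IsAffineHom V₂.ι] : IsAffineHom (V₁ ⊓ V₂).ι := by
  refine ⟨fun W hW => ?_⟩
  have h := isAffineOpen_inf_of_isAffineHom V₂ (isAffineOpen_inf_of_isAffineHom V₁ hW)
  have h2 := h.preimage_of_isOpenImmersion (V₁ ⊓ V₂).ι (by
    rw [Scheme.Opens.opensRange_ι]
    exact le_inf (inf_le_left.trans inf_le_right) inf_le_right)
  convert h2 using 1
  ext z
  exact ⟨fun hz => ⟨⟨hz, z.2.1⟩, z.2.2⟩, fun hz => hz.1.1⟩

theorem ringKrullDim_lt {η ξ : X} [IsLocallyNoetherian X] (h : η ⤳ ξ) (hne : η ≠ ξ)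
    (hd : ringKrullDim (X.presheaf.stalk ξ) ≤ 1) : ringKrullDim (X.presheaf.stalk η) ≤ 0 := by
  obtain ⟨W, hW, hxW, -⟩ := Groth.Agent.AssLib.exists_affine_mem ξ (U := ⊤) trivial
  haveI := Groth.Agent.QCohLib.isNoetherianRing_section hW
  have hyW := Groth.Agent.AssLib.mem_of_specializes h hxW
  letI : Algebra Γ(X, W) (X.presheaf.stalk ξ) := TopCat.Presheaf.algebra_section_stalk X.presheaf ⟨ξ, hxW⟩
  haveI := hW.isLocalization_stalk ⟨ξ, hxW⟩
  letI : Algebra Γ(X, W) (X.presheaf.stalk η) := TopCat.Presheaf.algebra_section_stalk X.presheaf ⟨η, hyW⟩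
  haveI := hW.isLocalization_stalk ⟨η, hyW⟩
  rw [IsLocalization.AtPrime.ringKrullDim_eq_height (Groth.Agent.AssLib.pr hW hxW)] at hd
  rw [IsLocalization.AtPrime.ringKrullDim_eq_height (Groth.Agent.AssLib.pr hW hyW)]
  have hle := (Groth.Agent.AssLib.specializes_iff hW hxW hyW).mp h
  have hlt : Groth.Agent.AssLib.pr hW hyW < Groth.Agent.AssLib.pr hW hxW := lt_of_le_of_ne hle fun he =>
    hne (h.antisymm ((Groth.Agent.AssLib.specializes_iff hW hyW hxW).mpr he.ge)).eq
  have h2 := (Ideal.height_strict_mono_of_isPrime_of_isPrime hlt).trans_le (WithBot.coe_le_coe.mp hd)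
  have h3 : (Groth.Agent.AssLib.pr hW hyW).height = 0 := ENat.lt_one_iff_eq_zero.mp h2
  rw [h3]; exact le_rfl


open AlgebraicGeometry in
/-- For a Noetherian scheme S that is separated, and a dense open subset U ⊆ S that is not empty, only
finitely many open subsets V ⊇ U have an affine inclusion morphism V → S, and among them there is
one contained in all the others (a least element for inclusion). -/
theorem result
    (S : Scheme.{u}) [IsNoetherian S] [S.IsSeparated] (U : S.Opens)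
    (hne : (U : Set S).Nonempty) (hU : Dense (U : Set S)) :
    Set.Finite {V : S.Opens | U ≤ V ∧ IsAffineHom V.ι} ∧
      ∃ V₀ : S.Opens, (U ≤ V₀ ∧ IsAffineHom V₀.ι) ∧
        ∀ V : S.Opens, U ≤ V → IsAffineHom V.ι → V₀ ≤ V := by
  classical
  haveI : IsLocallyNoetherian S := inferInstance
  have hnot : ∀ V : S.Opens, U ≤ V → IsAffineHom V.ι → ∀ ξ, ξ ∉ V → (∀ y, y ∉ V → y ⤳ ξ → y = ξ) →
      ∀ y, y ∉ U → y ⤳ ξ → y = ξ := by
    intro V hle hV ξ hξ hgen y hyU hy
    by_contra hne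
    haveI := hV
    exact hyU (Groth.Agent.AssLib.mem_of_mem_closure_of_maximal
      (Groth.Agent.AssLib.maximal_of_ringKrullDim_le_zero
        (ringKrullDim_lt hy hne (Groth.Agent.AssLib.ringKrullDim_stalk_le_one V hξ hgen))) (hU y))
  obtain ⟨T, hTf, hTc, hTi, hTU⟩ := TopologicalSpace.NoetherianSpace.exists_finite_set_isClosed_irreducible
    (U.2.isClosed_compl : IsClosed (U : Set S)ᶜ)
  let G : Set S := {g | ∃ (t : Set S) (ht : t ∈ T), (hTi t ht).genericPoint = g}
  have hG : G.Finite := (hTf.dependent_image fun t ht => (hTi t ht).genericPoint).subset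
    fun g ⟨t, ht, e⟩ => ⟨t, ht, e⟩
  have hcover : ∀ V : S.Opens, U ≤ V → IsAffineHom V.ι →
      (V : Set S)ᶜ = ⋃ g ∈ {g | g ∈ G ∧ g ∉ V}, closure {g} := by
    intro V hle hV
    refine Set.Subset.antisymm (fun y hy => ?_) (Set.iUnion₂_subset fun g hg =>
      (V.2.isClosed_compl.closure_subset_iff).mpr (Set.singleton_subset_iff.mpr hg.2))
    obtain ⟨T', hTf', hTc', hTi', hTV⟩ := TopologicalSpace.NoetherianSpace.exists_finite_set_isClosed_irreducible
      (V.2.isClosed_compl : IsClosed (V : Set S)ᶜ)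
    let P := hTf'.toFinset
    obtain ⟨t₀, ht₀, hyt₀⟩ := Set.mem_sUnion.mp (hTV.le hy)
    obtain ⟨t, htle, htP, hmax⟩ := P.exists_le_maximal (hTf'.mem_toFinset.mpr ht₀)
    have htT := hTf'.mem_toFinset.mp htP
    let ξ := (hTi' t htT).genericPoint
    have hcl : closure {ξ} = t := (hTi' t htT).closure_genericPoint (hTc' t htT)
    have hξt : ξ ∈ t := hcl ▸ subset_closure rfl
    have hξV : ξ ∉ V := fun h => (hTV.ge ⟨t, htT, hξt⟩) h
    have hgen : ∀ z, z ∉ V → z ⤳ ξ → z = ξ := by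
      intro z hz hzξ
      obtain ⟨t', ht', hzt'⟩ := Set.mem_sUnion.mp (hTV.le hz)
      have hsub : t ⊆ t' := hcl ▸ ((hTc' t' ht').closure_subset_iff.mpr
        (Set.singleton_subset_iff.mpr (hzξ.mem_closed (hTc' t' ht') hzt')))
      have hge : t' ⊆ t := hmax (hTf'.mem_toFinset.mpr ht') hsub
      exact (hzξ.antisymm (specializes_iff_mem_closure.mpr (hcl.symm ▸ hge hzt'))).eq
    have hmin := hnot V hle hV ξ hξV hgen
    obtain ⟨s, hs, hξs⟩ := Set.mem_sUnion.mp (hTU.le (show ξ ∈ (U : Set S)ᶜ from fun h => hξV (hle h)))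
    have hgs : (hTi s hs).genericPoint = ξ := by
      refine hmin _ (hTU.ge ⟨s, hs, ?_⟩) (specializes_iff_mem_closure.mpr ?_)
      · exact ((hTi s hs).closure_genericPoint (hTc s hs)).le (subset_closure rfl)
      · rw [(hTi s hs).closure_genericPoint (hTc s hs)]; exact hξs
    exact Set.mem_biUnion (x := ξ) ⟨⟨s, hs, hgs⟩, hξV⟩ (hcl.symm ▸ htle hyt₀)
  have hfin : Set.Finite {V : S.Opens | U ≤ V ∧ IsAffineHom V.ι} := by
    refine Set.Finite.of_finite_image (f := fun V : S.Opens => {g | g ∈ G ∧ g ∉ V})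
      (hG.finite_subsets.subset (Set.image_subset_iff.mpr fun V _ g hg => hg.1)) fun V₁ h₁ V₂ h₂ he => ?_
    have := (hcover V₁ h₁.1 h₁.2).trans ((congrArg (fun A : Set S => ⋃ g ∈ A, closure {g}) he).trans
      (hcover V₂ h₂.1 h₂.2).symm)
    exact TopologicalSpace.Opens.ext (compl_injective this)
  refine ⟨hfin, ?_⟩
  have hinf : ∀ F : Finset S.Opens, (∀ V ∈ F, U ≤ V ∧ IsAffineHom V.ι) → U ≤ F.inf id ∧ IsAffineHom (F.inf id).ι := by
    intro F hF
    induction F using Finset.induction_on with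
    | empty =>
      haveI : IsIso (⊤ : S.Opens).ι := inferInstanceAs (IsIso S.topIso.hom)
      exact ⟨le_top, inferInstanceAs (IsAffineHom (⊤ : S.Opens).ι)⟩
    | @insert a F _ ih =>
      obtain ⟨h1, h2⟩ := ih fun V hV => hF V (Finset.mem_insert_of_mem hV)
      obtain ⟨h3, h4⟩ := hF a (Finset.mem_insert_self a F)
      rw [Finset.inf_insert]
      haveI := h4
      haveI := h2
      exact ⟨le_inf h3 h1, isAffineHom_inf a (F.inf id)⟩
  exact ⟨hfin.toFinset.inf id, hinf _ (fun V hV => hfin.mem_toFinset.mp hV),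
    fun V h1 h2 => Finset.inf_le (f := id) (hfin.mem_toFinset.mpr ⟨h1, h2⟩)⟩


end Groth.Agent.S13043
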