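import Groth.Statements.S13044
import Mathlib

set_option autoImplicit false
universe u
open MaxMod

namespace Groth.Agent.S13044

open CategoryTheory CategoryTheory.Limits AlgebraicGeometry in
theorem factor_of_generic {R K : Type u} [CommRing R] [IsDomain R] [Field K] [Algebra R K] [IsFractionRing R K]
    {Z P G : Scheme.{u}} (z : Z ⟶ Spec (CommRingCat.of R)) [Flat z] (j : G ⟶ P) [IsClosedImmersion j] (u : Z ⟶ P)
    (h : ∃ c : (pullback z (Spec.map (CommRingCat.ofHom (algebraMap R K))) ⟶ G), c ≫ j = pullback.fst _ _ ≫ u) :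
    ∃ d : Z ⟶ G, d ≫ j = u := by
  let g := Spec.map (CommRingCat.ofHom (algebraMap R K))
  haveI : IsDominant g := ⟨(PrimeSpectrum.denseRange_comap_iff_ker_le_nilRadical (f := algebraMap R K)).2
    (by rw [(RingHom.injective_iff_ker_eq_bot _).1 (IsFractionRing.injective R K)]; exact bot_le)⟩
  haveI : IsSchemeTheoreticallyDominant g := IsSchemeTheoreticallyDominant.of_isDominant g
  let w := pullback.fst z g
  haveI : IsSchemeTheoreticallyDominant w :=
    IsSchemeTheoreticallyDominant.of_isPullback (f := g) (g := z) (IsPullback.of_hasPullback z g).flip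
  obtain ⟨c, hc⟩ := h
  let i := pullback.fst u j
  let v : pullback z g ⟶ pullback u j := pullback.lift w c hc.symm
  have hle : i.ker ≤ (v ≫ i).ker := Scheme.Hom.le_ker_comp _ _
  rw [show v ≫ i = w from pullback.lift_fst _ _ _, w.ker_eq_bot] at hle
  haveI : IsIso i := IsClosedImmersion.isIso_iff_ker_eq_bot.2 (le_bot_iff.1 hle)
  exact ⟨inv i ≫ pullback.snd u j, by rw [Category.assoc, ← pullback.condition, IsIso.inv_hom_id_assoc]⟩

open CategoryTheory Limits AlgebraicGeometry in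
/-- Let R be a discrete valuation ring with fraction field K, let Y be a flat separated R-scheme and let
Γ → Y ×_R Y be a closed subscheme, with projections p₁, p₂ : Γ → Y, such that Γ is flat over R
(equivalently, Γ is the schematic closure of its generic fibre) and p₁, p₂ are flat. If for every
scheme T over Spec K the relation on the T-valued points of Y defined by the T-valued points of Γ is
an equivalence relation, then for every scheme T over Spec R that relation is an equivalence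
relation: Γ is a flat equivalence relation on Y. -/
theorem result
    (R K : Type u) [CommRing R] [IsDomain R] [IsDiscreteValuationRing R]
    [Field K] [Algebra R K] [IsFractionRing R K]
    (Y Γ : Scheme.{u}) (f : Y ⟶ Spec (CommRingCat.of R)) [IsSeparated f] [Flat f]
    (p₁ p₂ : Γ ⟶ Y) (h : p₁ ≫ f = p₂ ≫ f)
    (hΓ : IsClosedImmersion (pullback.lift p₁ p₂ h))
    [Flat (p₁ ≫ f)] [Flat p₁] [Flat p₂]
    (hK : ∀ (T : Scheme.{u}) (t : T ⟶ Spec (CommRingCat.of R)),
      (∃ s : T ⟶ Spec (CommRingCat.of K), t = s ≫ Spec.map (CommRingCat.ofHom (algebraMap R K))) →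
      _root_.Equivalence fun a b : {a : T ⟶ Y // a ≫ f = t} =>
        ∃ c : T ⟶ Γ, c ≫ p₁ = a.1 ∧ c ≫ p₂ = b.1) :
    ∀ (T : Scheme.{u}) (t : T ⟶ Spec (CommRingCat.of R)),
      _root_.Equivalence fun a b : {a : T ⟶ Y // a ≫ f = t} =>
        ∃ c : T ⟶ Γ, c ≫ p₁ = a.1 ∧ c ≫ p₂ = b.1 := by
  let g := Spec.map (CommRingCat.ofHom (algebraMap R K))
  let j := pullback.lift p₁ p₂ h
  haveI := hΓ
  have hj : ∀ {Z : Scheme.{u}} (d : Z ⟶ Γ) (a b : Z ⟶ Y) (hab : a ≫ f = b ≫ f),
      d ≫ p₁ = a → d ≫ p₂ = b → d ≫ j = pullback.lift a b hab := by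
    intro Z d a b hab h1 h2
    apply pullback.hom_ext
    · simp only [j, Category.assoc]; erw [pullback.lift_fst, pullback.lift_fst]; exact h1
    · simp only [j, Category.assoc]; erw [pullback.lift_snd, pullback.lift_snd]; exact h2
  have hj' : ∀ {Z : Scheme.{u}} (d : Z ⟶ Γ) (a b : Z ⟶ Y) (hab : a ≫ f = b ≫ f),
      d ≫ j = pullback.lift a b hab → d ≫ p₁ = a ∧ d ≫ p₂ = b := by
    intro Z d a b hab hd
    refine ⟨?_, ?_⟩
    · have := congrArg (fun m => m ≫ pullback.fst f f) hd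
      simp only [j, Category.assoc] at this
      erw [pullback.lift_fst, pullback.lift_fst] at this
      exact this
    · have := congrArg (fun m => m ≫ pullback.snd f f) hd
      simp only [j, Category.assoc] at this
      erw [pullback.lift_snd, pullback.lift_snd] at this
      exact this
  have key : ∀ {Z : Scheme.{u}} (z : Z ⟶ Spec (CommRingCat.of R)) [Flat z] (a b : Z ⟶ Y) (ha : a ≫ f = z) (hb : b ≫ f = z),
      (∀ hE : _root_.Equivalence (fun a b : {a : pullback z g ⟶ Y // a ≫ f = pullback.fst z g ≫ z} =>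
          ∃ c : pullback z g ⟶ Γ, c ≫ p₁ = a.1 ∧ c ≫ p₂ = b.1),
        ∃ c, c ≫ p₁ = pullback.fst z g ≫ a ∧ c ≫ p₂ = pullback.fst z g ≫ b) →
      ∃ d : Z ⟶ Γ, d ≫ p₁ = a ∧ d ≫ p₂ = b := by
    intro Z z _ a b ha hb hz
    obtain ⟨c, hc1, hc2⟩ := hz (hK _ _ ⟨pullback.snd z g, pullback.condition⟩)
    obtain ⟨d, hd⟩ := factor_of_generic (K := K) z j (pullback.lift a b (ha.trans hb.symm)) ⟨c, by
      rw [hj c _ _ (by rw [Category.assoc, Category.assoc, ha, hb]) hc1 hc2]
      apply pullback.hom_ext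
      · exact (pullback.lift_fst ..).trans ((congrArg (pullback.fst z g ≫ ·) (pullback.lift_fst ..).symm).trans (Category.assoc _ _ _).symm)
      · exact (pullback.lift_snd ..).trans ((congrArg (pullback.fst z g ≫ ·) (pullback.lift_snd ..).symm).trans (Category.assoc _ _ _).symm)⟩
    exact ⟨d, hj' d a b _ hd⟩
  obtain ⟨d₀, hd₀, hd₀'⟩ := key f (𝟙 Y) (𝟙 Y) (Category.id_comp _) (Category.id_comp _)
    fun hE => hE.refl ⟨pullback.fst f g ≫ 𝟙 Y, by simp⟩
  obtain ⟨d₁, hd₁, hd₁'⟩ := key (p₁ ≫ f) p₂ p₁ h.symm rfl fun hE =>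
    hE.symm (x := ⟨pullback.fst (p₁ ≫ f) g ≫ p₁, Category.assoc _ _ _⟩)
      (y := ⟨pullback.fst (p₁ ≫ f) g ≫ p₂, by rw [Category.assoc, h]⟩) ⟨pullback.fst _ _, rfl, rfl⟩
  let π₁ := pullback.fst p₂ p₁
  let π₂ := pullback.snd p₂ p₁
  obtain ⟨d₂, hd₂, hd₂'⟩ := key (π₁ ≫ p₁ ≫ f) (π₁ ≫ p₁) (π₂ ≫ p₂) (Category.assoc _ _ _)
    (by rw [Category.assoc, ← h, ← Category.assoc, ← pullback.condition, Category.assoc, ← h])
    fun hE => hE.trans (x := ⟨pullback.fst _ g ≫ π₁ ≫ p₁, by simp⟩)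
      (y := ⟨pullback.fst _ g ≫ π₁ ≫ p₂, by simp [h]⟩)
      (z := ⟨pullback.fst _ g ≫ π₂ ≫ p₂, by
        simp only [Category.assoc, π₁, π₂]
        rw [← h, ← reassoc_of% (pullback.condition (f := p₂) (g := p₁)), ← h]⟩)
      ⟨pullback.fst _ g ≫ π₁, by simp, by simp⟩
      ⟨pullback.fst _ g ≫ π₂, by
        show (_ ≫ π₂) ≫ p₁ = _ ≫ π₁ ≫ p₂
        rw [Category.assoc, pullback.condition], by simp⟩
  intro T t
  refine ⟨fun a => ⟨a.1 ≫ d₀, ?_, ?_⟩, ?_, ?_⟩
  · rw [Category.assoc, hd₀, Category.comp_id]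
  · rw [Category.assoc, hd₀', Category.comp_id]
  · rintro a b ⟨c, hc1, hc2⟩
    exact ⟨c ≫ d₁, by rw [Category.assoc, hd₁, hc2], by rw [Category.assoc, hd₁', hc1]⟩
  · rintro a b c ⟨u, hu1, hu2⟩ ⟨v, hv1, hv2⟩
    exact ⟨pullback.lift u v (hu2.trans hv1.symm) ≫ d₂,
      by rw [Category.assoc, hd₂]; exact (pullback.lift_fst_assoc ..).trans hu1,
      by rw [Category.assoc, hd₂']; exact (pullback.lift_snd_assoc ..).trans hv2⟩

end Groth.Agent.S13044
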