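import Groth.Statements.S13047
import Mathlib

set_option autoImplicit false
universe u
open FrobAlg

namespace Groth.Agent.S13047

section

open Polynomial TensorProduct W4c1imperftorsors

variable (p : ℕ) [Fact p.Prime] {R : Type u} [CommRing R] [CharP R p] (u v : R)

/-- The defining ideal. -/
noncomputable abbrev BI : Ideal R[X] := Ideal.span {(C u * X : R[X]), X ^ 2 - C (v ^ 2)}

/-- The generator of the `i`-th twist. -/
noncomputable def gen (i : ℕ) : Twist p R (R[X] ⧸ BI u v) i :=
  (1 : R) ⊗ₜ (aEquiv p R (R[X] ⧸ BI u v) i).symm (Ideal.Quotient.mk _ X)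

theorem alg_src_tmul (i : ℕ) (r c : R) (b : ASrc p R (R[X] ⧸ BI u v) i) :
    r ⊗ₜ[Src p R i] (algebraMap (Src p R i) (ASrc p R (R[X] ⧸ BI u v) i) ((srcEquiv p R i).symm c) * b) =
      (r * c ^ p ^ i) ⊗ₜ[Src p R i] b := by
  rw [← Algebra.smul_def, ← TensorProduct.smul_tmul, Algebra.smul_def, algebraMap_src, RingEquiv.apply_symm_apply,
    mul_comm r]

theorem aEquiv_symm_C (i : ℕ) (c : R) : (aEquiv p R (R[X] ⧸ BI u v) i).symm (Ideal.Quotient.mk _ (C c)) =
    algebraMap (Src p R i) (ASrc p R (R[X] ⧸ BI u v) i) ((srcEquiv p R i).symm c) := rfl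

theorem one_tmul_C_mul (i : ℕ) (c : R) (f : R[X]) :
    (1 : R) ⊗ₜ[Src p R i] (aEquiv p R (R[X] ⧸ BI u v) i).symm (Ideal.Quotient.mk _ (C c * f)) =
      (c ^ p ^ i) ⊗ₜ[Src p R i] (aEquiv p R (R[X] ⧸ BI u v) i).symm (Ideal.Quotient.mk _ f) := by
  rw [map_mul, map_mul, aEquiv_symm_C, alg_src_tmul, one_mul]

theorem tmul_gen (i : ℕ) (b : R) :
    algebraMap R (Twist p R (R[X] ⧸ BI u v) i) b * gen p u v i =
      b ⊗ₜ (aEquiv p R (R[X] ⧸ BI u v) i).symm (Ideal.Quotient.mk _ X) := by
  rw [Algebra.TensorProduct.algebraMap_apply, Algebra.algebraMap_self, RingHom.id_apply, gen,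
    Algebra.TensorProduct.tmul_mul_tmul, mul_one, one_mul]

theorem u_pow_mul_gen (i : ℕ) :
    algebraMap R (Twist p R (R[X] ⧸ BI u v) i) (u ^ p ^ i) * gen p u v i = 0 := by
  rw [tmul_gen, ← one_tmul_C_mul,
    Ideal.Quotient.eq_zero_iff_mem.2 (Ideal.subset_span (Set.mem_insert _ _)), map_zero, TensorProduct.tmul_zero]

theorem exists_repr (i : ℕ) (z : Twist p R (R[X] ⧸ BI u v) i) :
    ∃ a b : R, z = algebraMap R _ a + algebraMap R _ b * gen p u v i := by
  have hb : ∀ g : R[X], ∃ c d : R, Ideal.Quotient.mk (BI u v) g = Ideal.Quotient.mk (BI u v) (C c + C d * X) := by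
    intro g
    induction g using Polynomial.induction_on' with
    | add g h hg hh =>
      obtain ⟨c, d, hg⟩ := hg
      obtain ⟨c', d', hh⟩ := hh
      exact ⟨c + c', d + d', by rw [map_add, hg, hh, ← map_add]; congr 1; simp only [map_add]; ring⟩
    | monomial n r =>
      have hX : Ideal.Quotient.mk (BI u v) (X ^ 2) = Ideal.Quotient.mk (BI u v) (C (v ^ 2)) := by
        rw [Ideal.Quotient.eq]
        exact Ideal.subset_span (by simp)
      induction n using Nat.strong_induction_on generalizing r with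
      | _ n ih =>
        match n with
        | 0 => exact ⟨r, 0, by simp⟩
        | 1 => exact ⟨0, r, by simp [C_mul_X_eq_monomial]⟩
        | n + 2 =>
          obtain ⟨c, d, h⟩ := ih n (by omega) (r * v ^ 2)
          refine ⟨c, d, ?_⟩
          rw [← h, ← C_mul_X_pow_eq_monomial, ← C_mul_X_pow_eq_monomial]
          simp only [map_mul, pow_add, hX]
          ring
  induction z using TensorProduct.induction_on with
  | zero => exact ⟨0, 0, by simp⟩
  | tmul r b =>
    obtain ⟨g, hg⟩ := Ideal.Quotient.mk_surjective (aEquiv p R (R[X] ⧸ BI u v) i b)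
    obtain ⟨c, d, hcd⟩ := hb g
    refine ⟨r * c ^ p ^ i, r * d ^ p ^ i, ?_⟩
    rw [← RingEquiv.symm_apply_apply (aEquiv p R (R[X] ⧸ BI u v) i) b, ← hg, hcd, map_add, map_add,
      TensorProduct.tmul_add]
    congr 1
    · rw [aEquiv_symm_C, ← mul_one (algebraMap (Src p R i) (ASrc p R _ i) _), alg_src_tmul,
        Algebra.TensorProduct.algebraMap_apply, Algebra.algebraMap_self, RingHom.id_apply]
    · rw [map_mul, map_mul, aEquiv_symm_C, alg_src_tmul, tmul_gen]
  | add x y hx hy =>
    obtain ⟨a, b, rfl⟩ := hx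
    obtain ⟨a', b', rfl⟩ := hy
    exact ⟨a + a', b + b', by simp only [map_add]; ring⟩

theorem relFrob_gen [CharP (R[X] ⧸ BI u v) p] (hp : p ≠ 2) (i : ℕ) :
    relFrob p R (R[X] ⧸ BI u v) i (gen p u v (i + 1)) =
      algebraMap R _ ((v ^ (p - 1)) ^ p ^ i) * gen p u v i := by
  have h1 : relFrob p R (R[X] ⧸ BI u v) i (gen p u v (i + 1)) =
      (1 : R) ⊗ₜ[Src p R i] (aEquiv p R (R[X] ⧸ BI u v) i).symm ((Ideal.Quotient.mk (BI u v) X) ^ p) := by
    show relFrobAux p R _ i (gen p u v (i + 1)) = _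
    rw [relFrobAux, gen, Algebra.TensorProduct.lift_tmul, map_one, one_mul]
    rfl
  obtain ⟨m, hm⟩ := (Fact.out : p.Prime).odd_of_ne_two hp
  have hX : Ideal.Quotient.mk (BI u v) (X ^ 2) = Ideal.Quotient.mk (BI u v) (C (v ^ 2)) := by
    rw [Ideal.Quotient.eq]
    exact Ideal.subset_span (by simp)
  have h2 : Ideal.Quotient.mk (BI u v) X ^ p = Ideal.Quotient.mk (BI u v) (C (v ^ (p - 1)) * X) := by
    rw [map_mul, show p - 1 = 2 * m by omega, pow_mul, map_pow C, map_pow, ← hX, ← map_pow, hm, pow_succ, pow_mul]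
    simp only [map_mul, map_pow]
  rw [h1, h2, one_tmul_C_mul, tmul_gen]

theorem eq_zero_of_repr (huv : u * v = 0) (i : ℕ) (a b : R)
    (h : algebraMap R (Twist p R (R[X] ⧸ BI u v) i) a + algebraMap R _ b * gen p u v i = 0) :
    a = 0 ∧ b ∈ Ideal.span {u ^ p ^ i} := by
  let w := (v ^ 2) ^ p ^ i
  let J : Ideal R[X] := Ideal.span {(C (u ^ p ^ i) * X : R[X]), X ^ 2 - C w}
  let e : R[X] →+* R[X] ⧸ J :=
    eval₂RingHom ((algebraMap R (R[X] ⧸ J)).comp (iterateFrobenius R p i)) (Ideal.Quotient.mk J X)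
  have he : ∀ c, e (C c) = Ideal.Quotient.mk J (C (c ^ p ^ i)) := fun c => by
    simp only [e, coe_eval₂RingHom, eval₂_C, RingHom.comp_apply, iterateFrobenius_def]
    rfl
  have heX : e X = Ideal.Quotient.mk J X := by simp [e]
  have hle : BI u v ≤ RingHom.ker e := by
    rw [Ideal.span_le]
    rintro f (rfl | rfl)
    · rw [SetLike.mem_coe, RingHom.mem_ker, map_mul, he, heX, ← map_mul, Ideal.Quotient.eq_zero_iff_mem]
      exact Ideal.subset_span (Set.mem_insert _ _)
    · rw [SetLike.mem_coe, RingHom.mem_ker, map_sub, map_pow, he, heX, ← map_pow, ← map_sub,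
        Ideal.Quotient.eq_zero_iff_mem]
      exact Ideal.subset_span (by simp [w])
  let f : R →ₐ[Src p R i] R[X] ⧸ J := { algebraMap R (R[X] ⧸ J) with commutes' := fun _ => rfl }
  let e' : R[X] ⧸ BI u v →+* R[X] ⧸ J := Ideal.Quotient.lift (BI u v) e fun x hx => RingHom.mem_ker.1 (hle hx)
  let g : ASrc p R (R[X] ⧸ BI u v) i →ₐ[Src p R i] R[X] ⧸ J :=
    { e'.comp
        (aEquiv p R (R[X] ⧸ BI u v) i : ASrc p R (R[X] ⧸ BI u v) i →+* R[X] ⧸ BI u v) with
      commutes' := fun s => by
        show e' (Ideal.Quotient.mk _ (C (srcEquiv p R i s))) = _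
        rw [Ideal.Quotient.lift_mk, he]
        rfl }
  let χ := Algebra.TensorProduct.lift f g (fun _ _ => Commute.all _ _)
  have hχ : χ (gen p u v i) = Ideal.Quotient.mk J X := by
    simp only [χ, gen, Algebra.TensorProduct.lift_tmul, map_one, one_mul]
    show e' (Ideal.Quotient.mk _ X) = _
    simp only [e', Ideal.Quotient.lift_mk, heX]
  have hχa : ∀ c : R, χ (algebraMap R _ c) = Ideal.Quotient.mk J (C c) := fun c => by
    simp only [χ, Algebra.TensorProduct.algebraMap_apply, Algebra.algebraMap_self, RingHom.id_apply,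
      Algebra.TensorProduct.lift_tmul, map_one, mul_one]
    rfl
  have h' := congrArg χ h
  rw [map_add, map_mul, hχa, hχa, hχ, map_zero, ← map_mul, ← map_add, Ideal.Quotient.eq_zero_iff_mem,
    Ideal.mem_span_pair] at h'
  obtain ⟨G, H, hGH⟩ := h'
  rcases subsingleton_or_nontrivial R with hR | hR
  · exact ⟨Subsingleton.elim _ _, by rw [Subsingleton.elim b 0]; exact zero_mem _⟩
  have hmon : (X ^ 2 - C w).Monic := monic_X_pow_sub_C _ (by omega)
  have hdeg : (C a + C b * X).degree < (X ^ 2 - C w).degree := by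
    rw [degree_X_pow_sub_C (by omega : 0 < 2)]
    exact lt_of_le_of_lt (le_trans (degree_add_le _ _) (max_le (degree_C_le.trans zero_le_one)
      (degree_C_mul_X_le b))) (by exact_mod_cast (show (1 : ℕ) < 2 by omega))
  have h3 : (u ^ p ^ i) • ((G * X) %ₘ (X ^ 2 - C w)) = C a + C b * X := by
    rw [← (modByMonic_eq_self_iff hmon).2 hdeg, ← hGH, add_modByMonic, ← mul_comm (X ^ 2 - C w) H,
      (modByMonic_eq_zero_iff_dvd hmon).2 (dvd_mul_right _ _), add_zero, ← smul_modByMonic, smul_eq_C_mul]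
    congr 1
    ring
  have h4 : ((G * X) %ₘ (X ^ 2 - C w)).coeff 0 = w * ((G * X) /ₘ (X ^ 2 - C w)).coeff 0 := by
    have h5 := congrArg (fun P => coeff P 0) (modByMonic_add_div (G * X) (X ^ 2 - C w))
    simp only [coeff_add, mul_coeff_zero, coeff_X_zero, mul_zero, coeff_sub, coeff_X_pow, coeff_C_zero] at h5
    simp only [show (0 : ℕ) ≠ 2 by omega, if_false, zero_sub, neg_mul, ← sub_eq_add_neg, sub_eq_zero] at h5
    exact h5
  have hq : p ^ i ≠ 0 := pow_ne_zero _ (Fact.out : p.Prime).ne_zero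
  refine ⟨?_, ?_⟩
  · have h6 := congrArg (fun P => coeff P 0) h3
    simp only [coeff_smul, smul_eq_mul, coeff_add, coeff_C_zero, mul_coeff_zero, coeff_X_zero, mul_zero, add_zero,
      h4] at h6
    rw [← h6, ← mul_assoc, show w = v ^ p ^ i * v ^ p ^ i by simp only [w]; rw [sq, mul_pow], ← mul_assoc,
      ← mul_pow, huv, zero_pow hq, zero_mul, zero_mul]
  · have h6 := congrArg (fun P => coeff P 1) h3
    simp only [coeff_smul, smul_eq_mul, coeff_add, coeff_C_ne_zero one_ne_zero, coeff_C_mul, coeff_X_one, mul_one,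
      zero_add] at h6
    exact Ideal.mem_span_singleton.2 ⟨_, h6.symm⟩

end

open Polynomial in
/-- Let p be an odd prime, R a commutative ring of characteristic p and u, v ∈ R with uv = 0, such that
for every N ≥ 1 an element of R lying in (v^n) + (u^N) for all n lies in (u^N) (v-adic separatedness
of R/(u^N)). Let B = R[α]/(uα, α² − v²), an R-algebra of characteristic p, with Frobenius twists
B^{p^i/R} = R ⊗_{F^i,R} B and preperfection B^{p^∞/R} = lim_i B^{p^i/R} along the relative Frobenius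
maps. Then the structure map R → B^{p^∞/R} is bijective: the preperfection of B is R. (The published
statement is for R = F_p[[u, v]]/(uv), where B arises as the preperfection of R[x, y, 1/(x − y)]/(xy
− u), so that the second preperfection of that algebra is R although the first is not perfect; the
printed computation uses only the hypotheses listed here, which that R satisfies.) -/
theorem result
    (p : ℕ) [Fact p.Prime] (hp : p ≠ 2) (R : Type u) [CommRing R] [CharP R p]
    (u v : R) (huv : u * v = 0)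
    (hsep : ∀ N : ℕ, 1 ≤ N → ∀ g : R,
      (∀ n : ℕ, g ∈ Ideal.span {v ^ n} ⊔ Ideal.span {u ^ N}) → g ∈ Ideal.span {u ^ N})
    [CharP (R[X] ⧸ Ideal.span {(C u * X : R[X]), X ^ 2 - C (v ^ 2)}) p] :
    Function.Bijective
      (algebraMap R ↥(W4c1imperftorsors.prePerf p R
        (R[X] ⧸ Ideal.span {(C u * X : R[X]), X ^ 2 - C (v ^ 2)}))) := by
  classical
  have hmem : ∀ z : Π i, W4c1imperftorsors.Twist p R (R[X] ⧸ BI u v) i,
      z ∈ W4c1imperftorsors.prePerf p R (R[X] ⧸ BI u v) ↔
        ∀ i, W4c1imperftorsors.relFrob p R (R[X] ⧸ BI u v) i (z (i + 1)) = z i := by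
    intro z
    simp only [W4c1imperftorsors.prePerf, Algebra.mem_iInf, AlgHom.mem_equalizer, AlgHom.comp_apply,
      Pi.evalAlgHom_apply]
  constructor
  · rw [injective_iff_map_eq_zero]
    intro a ha
    have h0 := congrFun (congrArg Subtype.val ha) 0
    exact (eq_zero_of_repr p u v huv 0 a 0 (by rw [map_zero, zero_mul, add_zero]; exact h0)).1
  · intro x
    choose a b hab using fun i => exists_repr p u v i (x.1 i)
    have hstep : ∀ i, a (i + 1) = a i ∧ b (i + 1) * (v ^ (p - 1)) ^ p ^ i - b i ∈ Ideal.span {u ^ p ^ i} := by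
      intro i
      have h := (hmem x.1).1 x.2 i
      rw [hab (i + 1), hab i, map_add, map_mul, AlgHom.commutes, AlgHom.commutes, relFrob_gen p u v hp] at h
      have h' := eq_zero_of_repr p u v huv i (a (i + 1) - a i) (b (i + 1) * (v ^ (p - 1)) ^ p ^ i - b i) (by
        rw [map_sub, map_sub, map_mul]
        linear_combination h)
      exact ⟨sub_eq_zero.1 h'.1, h'.2⟩
    have ha : ∀ i, a i = a 0 := fun i => by
      induction i with
      | zero => rfl
      | succ i ih => rw [(hstep i).1, ih]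
    have hb : ∀ n i, b i ∈ Ideal.span {v ^ n} ⊔ Ideal.span {u ^ p ^ i} := by
      intro n
      induction n with
      | zero => intro i; simp
      | succ n ih =>
        intro i
        obtain ⟨y, hy, z, hz, hyz⟩ := Submodule.mem_sup.1 (ih (i + 1))
        obtain ⟨c, rfl⟩ := Ideal.mem_span_singleton.1 hy
        have hpi : u ^ p ^ i ∣ u ^ p ^ (i + 1) :=
          pow_dvd_pow _ (Nat.pow_le_pow_right (Fact.out : p.Prime).pos (by omega))
        have hvi : v ∣ (v ^ (p - 1)) ^ p ^ i := by
          rw [← pow_mul]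
          refine dvd_pow_self v (mul_ne_zero ?_ (pow_ne_zero _ (Fact.out : p.Prime).ne_zero))
          have := (Fact.out : p.Prime).two_le
          omega
        obtain ⟨e, he⟩ := hvi
        refine Submodule.mem_sup.2 ⟨v ^ (n + 1) * (c * e), Ideal.mem_span_singleton.2 (dvd_mul_right _ _),
          b i - v ^ (n + 1) * (c * e), ?_, add_sub_cancel _ _⟩
        have hz' : z ∈ Ideal.span {u ^ p ^ i} :=
          Ideal.span_singleton_le_span_singleton.2 hpi hz
        have h := sub_mem (Ideal.mul_mem_right (v * e) _ hz') (hstep i).2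
        rw [← hyz, he] at h
        convert h using 1
        ring
    have hbz : ∀ i, algebraMap R (W4c1imperftorsors.Twist p R (R[X] ⧸ BI u v) i) (b i) * gen p u v i = 0 := by
      intro i
      obtain ⟨c, hc⟩ := Ideal.mem_span_singleton.1
        (hsep (p ^ i) (Nat.one_le_pow _ _ (Fact.out : p.Prime).pos) (b i) fun n => hb n i)
      rw [hc, map_mul, mul_right_comm, u_pow_mul_gen, zero_mul]
    refine ⟨a 0, Subtype.ext (funext fun i => ?_)⟩
    rw [hab i, hbz i, add_zero, ha i]
    rfl

end Groth.Agent.S13047
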