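import Groth.Statements.S13048
import Mathlib

set_option autoImplicit false
universe u
open FrobAlg

namespace Groth.Agent.S13048

/-- Let k be an algebraically closed field of characteristic p > 0 and let A be a reduced finitely
generated commutative k-algebra with connected spectrum (A ≠ 0 and 0, 1 are its only idempotents).
If x ∈ A is a p^n-th power in A for every n ≥ 0, then x lies in the image of k; that is, ⋂_n A^{p^n}
= k. (The published statement is: for an artinian local ring R of characteristic p and a flat
R-algebra A of finite type, the maps A^ét → O(π₀(A)) → A^{p^∞/R} from the largest étale subalgebra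
to the preperfection are isomorphisms. This row is the case R = k algebraically closed and A reduced
with connected spectrum, where A^ét = k and the preperfection is ⋂_n A^{p^n}; the printed proof
reduces to this case and its last step proves it.) -/
theorem result
    (p : ℕ) [Fact p.Prime] (k : Type u) [Field k] [IsAlgClosed k] [CharP k p]
    (A : Type u) [CommRing A] [Algebra k A] [Algebra.FiniteType k A] [IsReduced A] [Nontrivial A]
    (hconn : ∀ e : A, IsIdempotentElem e → e = 0 ∨ e = 1)
    (x : A) (hx : ∀ n : ℕ, ∃ a : A, a ^ p ^ n = x) :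
    x ∈ (algebraMap k A).range := by
  obtain ⟨m₀, hm₀⟩ := Ideal.exists_maximal A
  have hval : ∀ (m : Ideal A) [m.IsMaximal], ∃ c : k, x - algebraMap k A c ∈ m := fun m _ => by
    letI : Field (A ⧸ m) := Ideal.Quotient.field m
    haveI : Module.Finite k (A ⧸ m) := finite_of_finite_type_of_isJacobsonRing k (A ⧸ m)
    obtain ⟨c, hc⟩ := (IsAlgClosed.algebraMap_bijective_of_isIntegral (k := k) (K := A ⧸ m)).2 (Ideal.Quotient.mk m x)
    exact ⟨c, Ideal.Quotient.eq.1 (by rw [← hc]; rfl)⟩
  obtain ⟨c₀, hc₀⟩ := hval m₀
  let y := x - algebraMap k A c₀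
  refine ⟨c₀, Eq.symm (sub_eq_zero.1 ?_)⟩
  show y = 0
  have hy : ∀ n : ℕ, ∃ a : A, a ^ p ^ n = y := fun n => by
    obtain ⟨a, ha⟩ := hx n
    obtain ⟨d, hd⟩ := IsAlgClosed.exists_pow_nat_eq c₀ (n := p ^ n) (pow_pos (Fact.out : p.Prime).pos n)
    refine ⟨a - algebraMap k A d, ?_⟩
    haveI : CharP A p := charP_of_injective_algebraMap (algebraMap k A).injective p
    rw [sub_pow_char_pow, ← map_pow, hd, ha]
  haveI : IsNoetherianRing A := Algebra.FiniteType.isNoetherianRing k A
  -- the annihilator of `y` is comaximal to `(y)`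
  have htop : Ideal.span {y} ⊔ (Ideal.span {y} : Ideal A).annihilator = ⊤ := by
    by_contra hne
    obtain ⟨m, hm, hle⟩ := Ideal.exists_le_maximal _ hne
    have hym : y ∈ m := hle (Ideal.mem_sup_left (Ideal.mem_span_singleton_self y))
    haveI := hm.isPrime
    have h0 : algebraMap A (Localization.AtPrime m) y = 0 := by
      have hmem : ∀ n : ℕ, algebraMap A (Localization.AtPrime m) y ∈ IsLocalRing.maximalIdeal (Localization.AtPrime m) ^ n := fun n => by
        obtain ⟨a, ha⟩ := hy n
        have ham : a ∈ m := hm.isPrime.mem_of_pow_mem _ (ha ▸ hym)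
        have : algebraMap A (Localization.AtPrime m) a ∈ IsLocalRing.maximalIdeal (Localization.AtPrime m) :=
          (IsLocalization.AtPrime.to_map_mem_maximal_iff (Localization.AtPrime m) m a).2 ham
        rw [← ha, map_pow]
        exact Ideal.pow_le_pow_right (Nat.lt_pow_self (Fact.out : p.Prime).one_lt).le (Ideal.pow_mem_pow this _)
      have := Ideal.iInf_pow_eq_bot_of_isLocalRing _ (IsLocalRing.maximalIdeal.isMaximal (Localization.AtPrime m)).ne_top
      exact Ideal.mem_bot.1 (this ▸ Submodule.mem_iInf _ |>.2 hmem)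
    obtain ⟨s, hs⟩ := (IsLocalization.map_eq_zero_iff m.primeCompl _ _).1 h0
    refine s.2 (hle (Ideal.mem_sup_right ?_))
    rw [Submodule.mem_annihilator_span_singleton]
    exact hs
  obtain ⟨u, hu, v, hv, huv⟩ := Submodule.mem_sup.1 ((Ideal.eq_top_iff_one _).1 htop)
  rw [Submodule.mem_annihilator_span_singleton, smul_eq_mul] at hv
  obtain ⟨w, rfl⟩ := Ideal.mem_span_singleton'.1 hu
  have hidem : IsIdempotentElem (w * y) := by
    show w * y * (w * y) = w * y
    linear_combination (w * y) * huv - w * hv
  rcases hconn _ hidem with h | h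
  · linear_combination hv + y * h - y * huv
  · exfalso
    exact hm₀.ne_top (Ideal.eq_top_iff_one _ |>.2 (h ▸ m₀.mul_mem_left w hc₀))

end Groth.Agent.S13048
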