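import Groth.Statements.S13049
import Mathlib

set_option autoImplicit false
universe u
open FrobAlg

namespace Groth.Agent.S13049

/-- Let p be a prime and A a commutative ring of characteristic p whose nilradical N satisfies x^(p^e) =
0 for all x ∈ N and some fixed e (for instance A Noetherian). Then the map between the inverse-limit
perfections along the absolute Frobenius, lim (⋯ → A → A) → lim (⋯ → A/N → A/N), induced by the
projection A → A/N, is bijective. (The published argument takes A of finite type over a field, where
the nilradical is finitely generated; this row assumes only that the nilradical is killed by one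
fixed iterate of Frobenius, which is all that argument uses.) -/
theorem result
    (p : ℕ) [Fact p.Prime] (A : Type u) [CommRing A] [CharP A p]
    [CharP (A ⧸ nilradical A) p] (e : ℕ) (he : ∀ x ∈ nilradical A, x ^ p ^ e = 0) :
    Function.Bijective (Perfection.map p (Ideal.Quotient.mk (nilradical A))) := by
  have key : ∀ a b : A, a - b ∈ nilradical A → a ^ p ^ e = b ^ p ^ e := fun a b h => by
    rw [← sub_eq_zero, ← sub_pow_char_pow, he _ h]
  let π := Ideal.Quotient.mk (nilradical A)
  constructor
  · intro x y h
    refine Perfection.ext fun n => ?_
    have h1 : π (Perfection.coeff A p (n + e) x) = π (Perfection.coeff A p (n + e) y) := by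
      have := congrArg (Perfection.coeff (A ⧸ nilradical A) p (n + e)) h
      simpa only [Perfection.coeff_map] using this
    have h2 := key _ _ ((Ideal.Quotient.mk_eq_mk_iff_sub_mem _ _).1 h1)
    have hc : ∀ (z : Perfection A p) (m : ℕ), Perfection.coeff A p (n + m) z ^ p ^ m = Perfection.coeff A p n z := fun z m => by
      induction m with
      | zero => simp
      | succ m ih => rw [pow_succ', pow_mul, ← Nat.add_assoc, Perfection.coeff_pow_p', ih]
    rwa [hc, hc] at h2
  · intro y
    choose l hl using fun n => Ideal.Quotient.mk_surjective (I := nilradical A) (Perfection.coeff _ p (n + e) y)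
    refine ⟨⟨fun n => l n ^ p ^ e, fun n => ?_⟩, Perfection.ext fun n => ?_⟩
    · rw [← pow_mul, mul_comm, pow_mul]
      refine key _ _ ((Ideal.Quotient.mk_eq_mk_iff_sub_mem _ _).1 ?_)
      rw [map_pow, hl, hl, Nat.succ_add]
      exact Perfection.coeff_pow_p' _ _
    · refine (Perfection.coeff_map _ _ _ _).trans ?_
      show π (l n ^ p ^ e) = _
      rw [map_pow, hl]
      have hc : ∀ m, Perfection.coeff (A ⧸ nilradical A) p (n + m) y ^ p ^ m = Perfection.coeff _ p n y := fun m => by
        induction m with
        | zero => simp
        | succ m ih => rw [pow_succ', pow_mul, ← Nat.add_assoc, Perfection.coeff_pow_p', ih]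
      exact hc e

end Groth.Agent.S13049
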