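import Groth.Statements.S13056
import Mathlib.RingTheory.PowerSeries.Exp
import Mathlib.RingTheory.PowerSeries.Derivative
import Mathlib.RingTheory.PowerSeries.Substitution
import Mathlib.RingTheory.PowerSeries.Inverse
import Mathlib.LinearAlgebra.Matrix.Charpoly.Coeff
import Mathlib.LinearAlgebra.Matrix.Adjugate

set_option autoImplicit false
universe u v
open Zeta

namespace Groth.Agent.S13056

/-- Jacobi's formula for a derivation. -/
lemma derivation_det {R S n : Type*} [CommRing R] [CommRing S] [Algebra R S] [Fintype n] [DecidableEq n]
    (D : Derivation R S S) (A : Matrix n n S) :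
    D A.det = (A.adjugate * A.map D).trace := by
  have hprod : ∀ (s : Finset n) (g : n → S), D (∏ j ∈ s, g j) = ∑ j ∈ s, D (g j) * ∏ l ∈ s.erase j, g l := by
    intro s g
    induction s using Finset.induction_on with
    | empty => simp
    | insert a s ha ih =>
      rw [Finset.prod_insert ha, D.leibniz, smul_eq_mul, smul_eq_mul, ih, Finset.sum_insert ha, Finset.erase_insert ha,
        Finset.mul_sum, add_comm, mul_comm (∏ l ∈ s, g l)]
      congr 1
      refine Finset.sum_congr rfl fun j hj => ?_
      have hne : a ≠ j := fun h => ha (h ▸ hj)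
      rw [Finset.erase_insert_of_ne hne, Finset.prod_insert (fun h => ha (Finset.mem_of_mem_erase h))]
      ring
  rw [Matrix.det_apply', map_sum]
  simp only [D.leibniz, D.map_intCast, smul_eq_mul, mul_zero, add_zero, hprod, Finset.mul_sum]
  rw [Finset.sum_comm]
  simp only [Matrix.trace, Matrix.diag_apply]
  refine Finset.sum_congr rfl fun j _ => ?_
  have h : (A.adjugate * A.map D) j j = (A.updateCol j fun i => D (A i j)).det := by
    rw [← Matrix.cramer_apply, Matrix.cramer_eq_adjugate_mulVec]
    rfl
  rw [h, Matrix.det_apply']
  refine Finset.sum_congr rfl fun σ _ => ?_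
  rw [← Finset.mul_prod_erase Finset.univ (fun l => A.updateCol j (fun i => D (A i j)) (σ l) l) (Finset.mem_univ j),
    Matrix.updateCol_self]
  congr 2
  exact Finset.prod_congr rfl fun l hl => (Matrix.updateCol_ne (Finset.ne_of_mem_erase hl)).symm

/-- For an endomorphism φ of a finite-dimensional vector space over a field K, det(Id − tφ) = exp(−∑_{m
≥ 1} tr(φ^m) t^m / m) as power series in t. Stated for a square matrix M, with det(1 − tM) Mathlib's
reversed characteristic polynomial, and over a field of characteristic zero (the exponential series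
needs ℚ ⊆ K; this is the case in which the identity is used). -/
theorem result {K : Type u} [Field K] [CharZero K]
    {n : Type v} [Fintype n] [DecidableEq n] (M : Matrix n n K) :
    ((M.charpolyRev : Polynomial K) : PowerSeries K) =
      PowerSeries.subst (PowerSeries.mk fun m : ℕ => -(Matrix.trace (M ^ m)) / (m : K))
        (PowerSeries.exp K) := by
  classical
  set S : PowerSeries K := PowerSeries.mk fun m : ℕ => -(Matrix.trace (M ^ m)) / (m : K)
  set F : PowerSeries K := ((M.charpolyRev : Polynomial K) : PowerSeries K)
  let A : Matrix n n (PowerSeries K) := 1 - (PowerSeries.X : PowerSeries K) • M.map (PowerSeries.C)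
  let B : Matrix n n (PowerSeries K) := Matrix.of fun i j => PowerSeries.mk fun k => (M ^ k) i j
  have hF : F = A.det := by
    show (Polynomial.coeToPowerSeries.ringHom : Polynomial K →+* PowerSeries K)
      (Matrix.det (1 - (Polynomial.X : Polynomial K) • M.map Polynomial.C)) = _
    rw [RingHom.map_det]
    congr 1
    ext i j : 2
    by_cases h : i = j
    · subst h; simp [A, Matrix.sub_apply]; exact mul_comm _ _
    · simp [A, Matrix.sub_apply, h]; exact mul_comm _ _
  have hAB : A * B = 1 := by
    refine Matrix.ext fun i j => PowerSeries.ext fun k => ?_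
    rw [show A * B = B - (PowerSeries.X : PowerSeries K) • (M.map PowerSeries.C * B) by
      simp [A, sub_mul, Matrix.smul_mul], Matrix.sub_apply, Matrix.smul_apply, smul_eq_mul, map_sub]
    cases k with
    | zero => by_cases h : i = j <;> simp [B, h, Matrix.one_apply]
    | succ k =>
      rw [PowerSeries.coeff_succ_X_mul, Matrix.mul_apply, map_sum]
      simp only [B, Matrix.of_apply, Matrix.map_apply, PowerSeries.coeff_C_mul, PowerSeries.coeff_mk]
      rw [← Matrix.mul_apply, ← pow_succ', sub_self]
      by_cases h : i = j <;> simp [h, Matrix.one_apply, PowerSeries.coeff_one]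
  have hadj : A.adjugate = A.det • B := by
    calc A.adjugate = A.adjugate * (A * B) := by rw [hAB, mul_one]
      _ = A.det • B := by rw [← mul_assoc, Matrix.adjugate_mul, Matrix.smul_mul, one_mul]
  have hDA : A.map (PowerSeries.derivative K) = -(M.map (PowerSeries.C : K →+* PowerSeries K)) := by
    refine Matrix.ext fun i j => ?_
    by_cases h : i = j
    · subst h; simp [A, Matrix.sub_apply]
    · simp [A, Matrix.sub_apply, h]
  have hdS : PowerSeries.derivative K S = PowerSeries.mk fun k => -(Matrix.trace (M ^ (k + 1))) := by
    refine PowerSeries.ext fun k => ?_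
    rw [PowerSeries.coeff_derivative, PowerSeries.coeff_mk, PowerSeries.coeff_mk]
    push_cast
    field_simp [Nat.cast_add_one_ne_zero k]
  have hdF : PowerSeries.derivative K F = F * PowerSeries.derivative K S := by
    rw [hF, derivation_det, hadj, Matrix.smul_mul, Matrix.trace_smul, smul_eq_mul, hdS, hDA]
    congr 1
    rw [Matrix.mul_neg, Matrix.trace_neg]
    refine PowerSeries.ext fun k => ?_
    simp only [Matrix.trace, Matrix.diag_apply, Matrix.mul_apply, Matrix.map_apply, map_neg, map_sum,
      PowerSeries.coeff_mul_C, B, Matrix.of_apply, PowerSeries.coeff_mk, pow_succ]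
  have hS0 : PowerSeries.constantCoeff S = 0 := by
    rw [← PowerSeries.coeff_zero_eq_constantCoeff_apply, PowerSeries.coeff_mk]; simp
  have hsubst : PowerSeries.HasSubst S := PowerSeries.HasSubst.of_constantCoeff_zero' hS0
  set E : PowerSeries K := PowerSeries.subst S (PowerSeries.exp K)
  have hdE : PowerSeries.derivative K E = E * PowerSeries.derivative K S := by
    rw [PowerSeries.derivative_subst hsubst, PowerSeries.derivative_exp]
  have hE0 : PowerSeries.constantCoeff E = 1 := by
    rw [← PowerSeries.coeff_zero_eq_constantCoeff_apply, PowerSeries.coeff_subst' hsubst, finsum_eq_single _ 0]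
    · simp
    · intro d hd
      rw [PowerSeries.coeff_zero_eq_constantCoeff_apply, map_pow, hS0, zero_pow hd, smul_zero]
  have hF0 : PowerSeries.constantCoeff F = 1 := by
    rw [← PowerSeries.coeff_zero_eq_constantCoeff_apply, Polynomial.coeff_coe, Polynomial.coeff_zero_eq_eval_zero]
    exact Matrix.eval_charpolyRev
  have hQ : F * E⁻¹ = 1 := by
    refine PowerSeries.derivative.ext ?_ ?_
    · rw [Derivation.leibniz, PowerSeries.derivative_inv', hdE, hdF, Derivation.map_one_eq_zero, smul_eq_mul, smul_eq_mul]
      have : E * E⁻¹ = 1 := PowerSeries.mul_inv_cancel E (by rw [hE0]; exact one_ne_zero)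
      linear_combination (-(F * PowerSeries.derivative K S * E⁻¹)) * this
    · rw [map_mul, PowerSeries.constantCoeff_inv, hE0, hF0, map_one, inv_one, mul_one]
  exact ((PowerSeries.eq_mul_inv_iff_mul_eq (by rw [hE0]; exact one_ne_zero)).1 hQ.symm).symm.trans (one_mul E)

end Groth.Agent.S13056
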