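import Groth.Statements.S15450
import Groth.Agent.WeilCohLib.Graph

set_option autoImplicit false
universe u v
open CategoryTheory AlgebraicGeometry
open WeilCoh

namespace Groth.Agent.S15450

/-- Let H^* be a Weil cohomology theory (coefficients in K of characteristic zero, on nonsingular
connected projective varieties over an algebraically closed field k), φ an endomorphism of such a
variety X, and Γ_φ, Δ ⊂ X × X the graph of φ and the diagonal. Then (Γ_φ · Δ) = Σ_{i=0}^{2 dim X}
(−1)^i trace(φ^* | H^i(X)). The intersection number is written in the form Tr_{X×X}(cl(Γ_φ) ∪ cl(Δ))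
that the argument establishes (it equals the Chow-ring intersection number once the cycle class map
is known to be a ring homomorphism compatible with degrees); X × X is any object P with a cartesian
square p, q : P → X over Spec k, Γ_φ and Δ are the closures of the images of the generic point of X
under the sections j = (id, φ) and d = (id, id) of p. -/
theorem result (k : Type u) [Field k] [IsAlgClosed k] (K : Type v) [Field K] [CharZero K]
    (T : WeilCoh.Theory k K)
    (X P : WeilCoh.Var k) [IrreducibleSpace ↥X.obj.left] (φ : X ⟶ X)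
    (p q : P ⟶ X) (hP : WeilCoh.IsProd p q) (j d : X ⟶ P)
    (hjp : j ≫ p = 𝟙 X) (hjq : j ≫ q = φ) (hdp : d ≫ p = 𝟙 X) (hdq : d ≫ q = 𝟙 X) :
    T.tr P (T.cl P (WeilCoh.sm j (genericPoint ↥X.obj.left)) * T.cl P (WeilCoh.sm d (genericPoint ↥X.obj.left))) =
      ∑ i ∈ Finset.range (2 * WeilCoh.dim X.obj.left + 1),
        (-1 : K) ^ i * LinearMap.trace K ↥(T.gr X (i : ℤ)) (T.pullDeg φ (i : ℤ)) := by
  set N := WeilCoh.dim X.obj.left with hN
  let e : (r : ℕ) → Module.Basis (Fin (Module.finrank K ↥(T.gr X (r : ℤ)))) K ↥(T.gr X (r : ℤ)) :=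
    fun r => Module.finBasis K _
  have hex : ∀ (r : ℕ) (l : Fin (Module.finrank K ↥(T.gr X (r : ℤ)))),
      ∃ f : ↥(T.gr X (2 * (WeilCoh.dim X.obj.left : ℤ) - r)), ∀ b : ↥(T.gr X (r : ℤ)),
        T.tr X ((f : T.H X) * b) = (e r).coord l b := fun r l =>
    Groth.Agent.WeilCohLib.exists_of_functional T X (by omega) _
  choose f hf using hex
  have hef : ∀ r, r ≤ 2 * WeilCoh.dim X.obj.left → ∀ i l,
      T.tr X ((f r l : T.H X) * (e r i : T.H X)) = if i = l then 1 else 0 := fun r _ i l => by
    rw [hf r l (e r i), Module.Basis.coord_apply, Module.Basis.repr_self, Finsupp.single_apply]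
  have h := Groth.Agent.WeilCohLib.cl_graph_eq T hP φ hjp hjq _ e f hef
  have hm := Groth.Agent.WeilCohLib.cl_section_mem T hP hjp
  rw [Groth.Agent.WeilCohLib.commute_even T P hm (even_two_mul _),
    Groth.Agent.WeilCohLib.tr_cl_section T hdp hm, h, map_sum, map_sum]
  refine Finset.sum_congr rfl fun r hr => ?_
  rw [map_sum, map_sum, LinearMap.trace_eq_matrix_trace K (e r), Matrix.trace, Finset.mul_sum]
  refine Finset.sum_congr rfl fun i _ => ?_
  have he := T.pull_mem φ _ _ (e r i).2
  rw [map_mul (T.pull d), ← AlgHom.comp_apply, ← T.pull_comp, hdp, T.pull_id, AlgHom.id_apply, ← AlgHom.comp_apply, ← T.pull_comp, hdq,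
    T.pull_id, AlgHom.id_apply, Groth.Agent.WeilCohLib.tr_comm T X he (f r i).2,
    Groth.Agent.WeilCohLib.sgn_of_add_even r ⟨r, by omega⟩ ⟨(WeilCoh.dim X.obj.left : ℤ), by omega⟩]
  congr 1
  rw [Matrix.diag_apply, LinearMap.toMatrix_apply, ← Module.Basis.coord_apply, ← hf r i]
  rfl

end Groth.Agent.S15450
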