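import Groth.Statements.S13052
import Groth.Agent.ZetaElem.Decomp

set_option autoImplicit false
universe u
open CategoryTheory AlgebraicGeometry
open Zeta

namespace Groth.Agent.S13052

/-- If X is a scheme of finite type over a finite field k, Y ↪ X a closed subscheme and U = X ∖ Y its
open complement, then Z(X, t) = Z(Y, t) · Z(U, t). Here Y is any scheme with a closed immersion into
X whose image is the complement of U (its scheme structure plays no role), and Y, U are k-schemes
through X. -/
theorem result {k : Type u} [Field k] [Finite k]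
    {X Y : Scheme.{u}} (f : X ⟶ Spec (CommRingCat.of k)) [LocallyOfFiniteType f] [QuasiCompact f]
    (U : X.Opens) (i : Y ⟶ X) [IsClosedImmersion i] (hY : Set.range i.base = (U : Set X)ᶜ) :
    Zeta.zetaFun f = Zeta.zetaFun (i ≫ f) * Zeta.zetaFun (U.ι ≫ f) := by
  classical
  haveI : ∀ b : ULift.{u} Bool, IsImmersion (match b with | ⟨true⟩ => i | ⟨false⟩ => U.ι :
      (bif b.down then Y else (U : Scheme)) ⟶ X) := by
    rintro ⟨(_ | _)⟩ <;> infer_instance
  have h := Groth.Agent.ZetaElem.zetaFun_partition f (ι := ULift.{u} Bool) (fun b => bif b.down then Y else (U : Scheme))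
    (fun b => match b with | ⟨true⟩ => i | ⟨false⟩ => U.ι) ?_
  · rw [h, ← Equiv.ulift.symm.prod_comp, Fintype.prod_bool]
    rfl
  · intro x hx
    by_cases hxU : x ∈ (U : Set X)
    · refine ⟨⟨false⟩, by simp [hxU], ?_⟩
      rintro ⟨(_ | _)⟩ hy
      · rfl
      · exfalso
        have : x ∈ Set.range i.base := hy
        rw [hY] at this
        exact this hxU
    · refine ⟨⟨true⟩, by simpa [hY] using hxU, ?_⟩
      rintro ⟨(_ | _)⟩ hy
      · exfalso
        have : x ∈ Set.range U.ι.base := hy
        rw [Scheme.Opens.range_ι] at this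
        exact hxU this
      · rfl

end Groth.Agent.S13052
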