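import Mathlib
import Groth.Agent.REqLib.LineLink
import Groth.Agent.ProjMap.BaseChange
import Groth.Agent.ProjMap.Bilin
import Groth.Statements.S18577

set_option autoImplicit false
universe u
open CategoryTheory AlgebraicGeometry
open REq

namespace Groth.Agent.S18577
open CategoryTheory.Limits MvPolynomial HomogeneousLocalization Groth.Agent.ProjMap

section Line

variable {R : Type u} [CommRing R] {n : ℕ} {A : Type u} [CommRing A] [Algebra R A]

local notation "𝒢" => CohB1.polyGrading n R

/-- The point with coordinates `v`, read on the complement of the hyperplane `G = 0`. -/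
noncomputable def genPoint (v : Fin (n + 1) → A) (G : MvPolynomial (Fin (n + 1)) R) (hG : G ∈ 𝒢 1)
    (hu : IsUnit (aeval v G)) : Spec (CommRingCat.of A) ⟶ CohB1.ProjSpace n R :=
  Spec.map (CommRingCat.ofHom (evalAway (R := R) v G hu)) ≫ Proj.awayι 𝒢 G hG one_pos

theorem genPoint_eq_point (v : Fin (n + 1) → A) (G : MvPolynomial (Fin (n + 1)) R) (hG : G ∈ 𝒢 1)
    (hu : IsUnit (aeval v G)) (c : Fin (n + 1)) (hc : IsUnit (v c)) :
    genPoint v G hG hu = point v c hc := by
  have hP : IsUnit (aeval v (G * X c)) := by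
    rw [map_mul, aeval_X]; exact hu.mul hc
  have h1 := evalAway_comp_awayMap (v := v) hG (X_mem (R := R) c) (P := G * X c) rfl hu hP
  have h2 := evalAway_comp_awayMap (v := v) (X_mem (R := R) c) hG (P := G * X c) (mul_comm _ _)
    (by simpa using hc) hP
  simp only [genPoint, point, ← h1, ← h2, CommRingCat.ofHom_comp, Spec.map_comp, Category.assoc]
  congr 1
  exact (Proj.SpecMap_awayMap_awayι 𝒢 hG one_pos (X_mem c) rfl).trans
    (Proj.SpecMap_awayMap_awayι 𝒢 (X_mem (R := R) c) one_pos hG (mul_comm _ _)).symm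

theorem exists_coords {K : Type u} [Field K] [Algebra R K]
    (x : Spec (CommRingCat.of K) ⟶ CohB1.ProjSpace n R)
    (hx : x ≫ CohB1.ProjSpace.toSpec n R = Spec.map (CommRingCat.ofHom (algebraMap R K))) :
    ∃ (v : Fin (n + 1) → K) (c : Fin (n + 1)) (hc : IsUnit (v c)), v c = 1 ∧ x = point v c hc := by
  obtain ⟨c, hc⟩ := exists_chart R (x (IsLocalRing.closedPoint K))
  have hr : Set.range x ⊆ Set.range (chart (R := R) c) := by
    rintro _ ⟨q, rfl⟩
    rw [Subsingleton.elim q (IsLocalRing.closedPoint K)]
    exact hc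
  obtain ⟨φ, hφ⟩ := Spec.map_surjective (IsOpenImmersion.lift (chart (R := R) c) x hr)
  have hfac : Spec.map φ ≫ chart c = x := by rw [hφ]; exact IsOpenImmersion.lift_fac _ _ _
  have halg : IsAlg c φ.hom := isAlg_of_toSpec c φ.hom (by
    rw [CommRingCat.ofHom_hom, ← Category.assoc, hfac]; exact hx)
  refine ⟨coords c φ.hom, c, by simp, coords_self c φ.hom, ?_⟩
  rw [point_coords c φ.hom halg, CommRingCat.ofHom_hom, hfac]

theorem aeval_line (G : MvPolynomial (Fin (n + 1)) R) {K : Type u} [Field K] [Algebra R K]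
    [Algebra R (Polynomial K)] (halg : ∀ r, algebraMap R (Polynomial K) r = Polynomial.C (algebraMap R K r))
    (u : Fin (n + 1) → Polynomial K) (z : Fin (n + 1) → K) (t : K)
    (hz : ∀ c, Polynomial.evalRingHom t (u c) = z c) :
    Polynomial.evalRingHom t (aeval u G) = aeval z G := by
  induction G using MvPolynomial.induction_on with
  | C r => simp [halg]
  | add p q hp hq => simp only [map_add, hp, hq]
  | mul_X p c hp => simp only [map_mul, hp, aeval_X, hz]

/-- Two `K`-points of projective space lie on a parametrised affine line. -/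
theorem exists_line {K : Type u} [Field K] [Algebra R K] [Algebra R (Polynomial K)]
    (halg : ∀ r, algebraMap R (Polynomial K) r = Polynomial.C (algebraMap R K r))
    (x y : Spec (CommRingCat.of K) ⟶ CohB1.ProjSpace n R)
    (hx : x ≫ CohB1.ProjSpace.toSpec n R = Spec.map (CommRingCat.ofHom (algebraMap R K)))
    (hy : y ≫ CohB1.ProjSpace.toSpec n R = Spec.map (CommRingCat.ofHom (algebraMap R K))) :
    ∃ L : Spec (CommRingCat.of (Polynomial K)) ⟶ CohB1.ProjSpace n R,
      Spec.map (CommRingCat.ofHom (Polynomial.evalRingHom 0)) ≫ L = x ∧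
        Spec.map (CommRingCat.ofHom (Polynomial.evalRingHom 1)) ≫ L = y := by
  obtain ⟨v, i, hi, hvi, rfl⟩ := exists_coords x hx
  obtain ⟨w, j, hj, hwj, rfl⟩ := exists_coords y hy
  have main : ∀ (v' w' : Fin (n + 1) → K) (hi' : IsUnit (v' i)) (hj' : IsUnit (w' j))
      (G : MvPolynomial (Fin (n + 1)) R) (hG : G ∈ CohB1.polyGrading n R 1),
      IsUnit (aeval (fun c => Polynomial.C (v' c) + Polynomial.X * Polynomial.C (w' c - v' c)) G :
        Polynomial K) →
      ∃ L : Spec (CommRingCat.of (Polynomial K)) ⟶ CohB1.ProjSpace n R,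
        Spec.map (CommRingCat.ofHom (Polynomial.evalRingHom 0)) ≫ L = point v' i hi' ∧
          Spec.map (CommRingCat.ofHom (Polynomial.evalRingHom 1)) ≫ L = point w' j hj' := by
    intro v' w' hi' hj' G hG hu
    let u : Fin (n + 1) → Polynomial K := fun c =>
      Polynomial.C (v' c) + Polynomial.X * Polynomial.C (w' c - v' c)
    have key : ∀ (t : K) (z : Fin (n + 1) → K), (∀ c, Polynomial.evalRingHom t (u c) = z c) →
        ∀ (c : Fin (n + 1)) (hc : IsUnit (z c)),
        Spec.map (CommRingCat.ofHom (Polynomial.evalRingHom t)) ≫ genPoint u G hG hu =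
          point z c hc := by
      intro t z hz c hc
      have he : ∀ r, Polynomial.evalRingHom t (algebraMap R (Polynomial K) r) = algebraMap R K r :=
        fun r => by simp [halg]
      have hu' : IsUnit (aeval (fun c => Polynomial.evalRingHom t (u c)) G) := by
        rw [← aeval_line G halg u _ t (fun c => rfl)]
        exact hu.map (Polynomial.evalRingHom t)
      rw [genPoint, ← Category.assoc, ← Spec.map_comp, ← CommRingCat.ofHom_comp,
        comp_evalAway _ he hG hu hu']
      obtain rfl := funext hz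
      exact genPoint_eq_point _ G hG hu' c hc
    exact ⟨genPoint u G hG hu, key 0 v' (fun c => by simp [u]) i hi',
      key 1 w' (fun c => by simp [u]) j hj'⟩
  by_cases hvj : v j = 0
  swap
  · have hiu : IsUnit ((v j)⁻¹ * v i) := by rw [hvi, mul_one]; simpa using hvj
    obtain ⟨L, h0, h1⟩ := main (fun c => (v j)⁻¹ * v c) w hiu hj (X j) (X_mem j)
      (by simp [-map_mul, hwj, hvj])
    exact ⟨L, h0.trans (point_smul v _ _ (fun _ => rfl) i hi hiu), h1⟩
  by_cases hwi : w i = 0
  swap
  · have hju : IsUnit ((w i)⁻¹ * w j) := by rw [hwj, mul_one]; simpa using hwi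
    obtain ⟨L, h0, h1⟩ := main v (fun c => (w i)⁻¹ * w c) hi hju (X i) (X_mem i)
      (by simp [-map_mul, hvi, hwi])
    exact ⟨L, h0, h1.trans (point_smul w _ _ (fun _ => rfl) j hj hju)⟩
  refine main v w hi hj (X i + X j) (Submodule.add_mem _ (X_mem i) (X_mem j)) ?_
  simp [hvi, hvj, hwi, hwj]

end Line


/-- Let k be a field, V an open subscheme of projective n-space over k and K a field containing k. Then
any two K-points of V are directly R-linked in V: there are an open subscheme of the projective line
over K, a morphism from it to V over k, and two K-rational points of that open mapping to the given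
points. (The published remark concerns k-points; this row is stated for K-points, K any field
containing k.) -/
theorem result (k : Type u) [Field k] (n : ℕ)
    (V : (CohB1.ProjSpaceOver n (Spec (CommRingCat.of k))).Opens) (K : Type u) [Field K] [Algebra k K]
    (A B : REq.Pts (V.ι ≫ CohB1.ProjSpaceOver.toBase n (Spec (CommRingCat.of k))) K) :
    REq.ElemLink (V.ι ≫ CohB1.ProjSpaceOver.toBase n (Spec (CommRingCat.of k))) K A B := by
  let S := Spec (CommRingCat.of k)
  letI algK : Algebra (ULift.{u} ℤ) K :=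
    ((Int.castRingHom K).comp (ULift.ringEquiv : ULift.{u} ℤ ≃+* ℤ).toRingHom).toAlgebra
  letI algT : Algebra (ULift.{u} ℤ) (Polynomial K) :=
    ((Polynomial.C).comp (@algebraMap (ULift.{u} ℤ) K _ _ algK)).toAlgebra
  obtain ⟨L₀, h0, h1⟩ := @exists_line (ULift.{u} ℤ) _ n K _ algK algT (fun _ => rfl)
    ((A.1 ≫ V.ι) ≫ toInt S n) ((B.1 ≫ V.ι) ≫ toInt S n)
    (specULiftZIsTerminal.hom_ext _ _) (specULiftZIsTerminal.hom_ext _ _)
  let L : Spec (CommRingCat.of (Polynomial K)) ⟶ CohB1.ProjSpaceOver n S :=
    liftOver L₀ (Spec.map (CommRingCat.ofHom Polynomial.C) ≫ REq.specMap k K)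
  have key : ∀ (t : K) (C : REq.Pts (V.ι ≫ CohB1.ProjSpaceOver.toBase n S) K),
      Spec.map (CommRingCat.ofHom (Polynomial.evalRingHom t)) ≫ L₀ = (C.1 ≫ V.ι) ≫ toInt S n →
      C.1 ≫ V.ι = Spec.map (CommRingCat.ofHom (Polynomial.evalRingHom t)) ≫ L := by
    intro t C hC
    refine over_hom_ext ?_ ?_
    · rw [← hC, Category.assoc, liftOver_toInt]
    · rw [Category.assoc, Category.assoc, C.2, liftOver_toBase, ← Category.assoc, ← Spec.map_comp,
        ← CommRingCat.ofHom_comp]
      have : (Polynomial.evalRingHom t).comp Polynomial.C = RingHom.id K := by ext; simp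
      rw [this]
      simp
  exact REqLib.elemLink_of_line (V.ι ≫ CohB1.ProjSpaceOver.toBase n S) (CohB1.ProjSpaceOver.toBase n S)
    L (liftOver_toBase _ _) V (𝟙 _) (Category.id_comp _) A.1 B.1 (key 0 A h0) (key 1 B h1) A B
    (Category.comp_id _) (Category.comp_id _)

end Groth.Agent.S18577
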