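import Groth.Statements.S13057
import Mathlib.RingTheory.PowerSeries.Trunc
import Mathlib.LinearAlgebra.Dual.Lemmas

set_option autoImplicit false
universe u
open Zeta

namespace Groth.Agent.S13057

/-- A power series f = ∑_{m ≥ 0} a_m t^m over a field L lies in L(t), i.e. f · Q = P for some
polynomials P, Q with Q ≠ 0, if and only if there are natural numbers M, N such that the vectors
(a_i, a_{i+1}, …, a_{i+N}) ∈ L^{N+1}, i ≥ M, span a proper subspace. -/
theorem result {L : Type u} [Field L]
    (f : PowerSeries L) :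
    (∃ P Q : Polynomial L, Q ≠ 0 ∧ f * (Q : PowerSeries L) = (P : PowerSeries L)) ↔
      ∃ M N : ℕ, Submodule.span L
          {v : Fin (N + 1) → L | ∃ i : ℕ, M ≤ i ∧ v = fun j : Fin (N + 1) => PowerSeries.coeff (i + (j : ℕ)) f} ≠ ⊤ := by
  classical
  constructor
  · rintro ⟨P, Q, hQ, h⟩
    refine ⟨P.natDegree + 1, Q.natDegree, fun htop => ?_⟩
    set N := Q.natDegree
    let lam : (Fin (N + 1) → L) →ₗ[L] L := ∑ j : Fin (N + 1), (Q.coeff (N - j)) • LinearMap.proj j
    have hzero : Submodule.span L {v : Fin (N + 1) → L | ∃ i : ℕ, P.natDegree + 1 ≤ i ∧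
        v = fun j : Fin (N + 1) => PowerSeries.coeff (i + (j : ℕ)) f} ≤ LinearMap.ker lam := by
      rw [Submodule.span_le]
      rintro _ ⟨i, hi, rfl⟩
      have h1 := congrArg (PowerSeries.coeff (i + N)) h
      rw [Polynomial.coeff_coe, Polynomial.coeff_eq_zero_of_natDegree_lt (by omega : P.natDegree < i + N),
        PowerSeries.coeff_mul, Finset.Nat.sum_antidiagonal_eq_sum_range_succ
          (fun a b => PowerSeries.coeff a f * PowerSeries.coeff b (Q : PowerSeries L)), ← Finset.sum_range_add_sum_Ico _ (show i ≤ (i + N).succ by omega),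
        Finset.sum_eq_zero, zero_add, Finset.sum_Ico_eq_sum_range, show (i + N).succ - i = N + 1 by omega,
        ← Fin.sum_univ_eq_sum_range] at h1
      · rw [SetLike.mem_coe, LinearMap.mem_ker, ← h1]
        simp only [lam, LinearMap.sum_apply, LinearMap.smul_apply, LinearMap.proj_apply, smul_eq_mul, Polynomial.coeff_coe]
        refine Finset.sum_congr rfl fun j _ => ?_
        rw [show i + N - (i + (j : ℕ)) = N - (j : ℕ) by omega, mul_comm]
      · intro a ha
        rw [Finset.mem_range] at ha
        rw [Polynomial.coeff_coe, Polynomial.coeff_eq_zero_of_natDegree_lt (by omega : Q.natDegree < i + N - a), mul_zero]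
    rw [htop, top_le_iff, LinearMap.ker_eq_top] at hzero
    have h1 := congrArg (fun g : (Fin (N + 1) → L) →ₗ[L] L => g (Pi.single 0 1)) hzero
    simp [lam, LinearMap.sum_apply, Pi.single_apply] at h1
    exact Polynomial.leadingCoeff_ne_zero.2 hQ h1
  · rintro ⟨M, N, hne⟩
    obtain ⟨lam, hlam, hle⟩ := Submodule.exists_le_ker_of_lt_top _ (lt_top_iff_ne_top.2 hne)
    let q : Fin (N + 1) → L := fun j => lam (Pi.single j 1)
    let Q : Polynomial L := ∑ j : Fin (N + 1), Polynomial.monomial (N - (j : ℕ)) (q j)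
    have hQc : ∀ j : Fin (N + 1), Q.coeff (N - (j : ℕ)) = q j := fun j => by
      simp only [Q, Polynomial.finsetSum_coeff, Polynomial.coeff_monomial]
      rw [Finset.sum_eq_single j (fun b _ hb => if_neg fun h => hb (Fin.ext (by have := b.2; have := j.2; omega)))
        (fun h => absurd (Finset.mem_univ j) h), if_pos rfl]
    have hQb : Q.natDegree ≤ N := Polynomial.natDegree_sum_le_of_forall_le _ _ fun j _ =>
      (Polynomial.natDegree_monomial_le _).trans (Nat.sub_le _ _)
    have hexp : ∀ w, lam w = ∑ j, w j * q j := fun w => by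
      conv_lhs => rw [← Finset.univ_sum_single w]
      rw [map_sum]
      refine Finset.sum_congr rfl fun j _ => ?_
      rw [← mul_one (w j), ← smul_eq_mul (w j) (1 : L), Pi.single_smul, map_smul, smul_eq_mul, smul_eq_mul, mul_one]
    have hQ : Q ≠ 0 := fun h0 => hlam (LinearMap.ext fun w => by
      rw [hexp, LinearMap.zero_apply]
      exact Finset.sum_eq_zero fun j _ => by rw [← hQc, h0, Polynomial.coeff_zero, mul_zero])
    refine ⟨(PowerSeries.trunc (M + N) (f * (Q : PowerSeries L))), Q, hQ, PowerSeries.ext fun m => ?_⟩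
    rw [Polynomial.coeff_coe, PowerSeries.coeff_trunc]
    split_ifs with hm
    · rfl
    obtain ⟨i, rfl⟩ : ∃ i, m = i + N := ⟨m - N, by omega⟩
    have h1 : lam (fun j : Fin (N + 1) => PowerSeries.coeff (i + (j : ℕ)) f) = 0 :=
      LinearMap.mem_ker.1 (hle (Submodule.subset_span ⟨i, by omega, rfl⟩))
    rw [hexp] at h1
    rw [PowerSeries.coeff_mul, Finset.Nat.sum_antidiagonal_eq_sum_range_succ
      (fun a b => PowerSeries.coeff a f * PowerSeries.coeff b (Q : PowerSeries L)), ← Finset.sum_range_add_sum_Ico _ (show i ≤ (i + N).succ by omega),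
      Finset.sum_eq_zero, zero_add, Finset.sum_Ico_eq_sum_range, show (i + N).succ - i = N + 1 by omega, ← Fin.sum_univ_eq_sum_range]
    · rw [← h1]
      refine Finset.sum_congr rfl fun j _ => ?_
      rw [Polynomial.coeff_coe, show i + N - (i + (j : ℕ)) = N - (j : ℕ) by omega, hQc]
    · intro a ha
      rw [Finset.mem_range] at ha
      rw [Polynomial.coeff_coe, Polynomial.coeff_eq_zero_of_natDegree_lt (by omega : Q.natDegree < i + N - a), mul_zero]

end Groth.Agent.S13057
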