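import Groth.Statements.S13058
import Mathlib.RingTheory.PowerSeries.Basic
import Mathlib.LinearAlgebra.FreeModule.Basic
import Mathlib.LinearAlgebra.Basis.VectorSpace

set_option autoImplicit false
universe u v
open Zeta

namespace Groth.Agent.S13058

/-- If L'/L is a field extension, a power series f ∈ L⟦t⟧ belongs to L(t) exactly when it belongs to
L'(t); here membership in L(t) means f · Q = P for polynomials P, Q over the field in question with
Q ≠ 0. -/
theorem result {L : Type u} {L' : Type v} [Field L] [Field L']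
    [Algebra L L'] (f : PowerSeries L) :
    (∃ P Q : Polynomial L', Q ≠ 0 ∧
        PowerSeries.map (algebraMap L L') f * (Q : PowerSeries L') = (P : PowerSeries L')) ↔
      ∃ P Q : Polynomial L, Q ≠ 0 ∧ f * (Q : PowerSeries L) = (P : PowerSeries L) := by
  constructor
  · rintro ⟨P, Q, hQ, h⟩
    obtain ⟨j, hj⟩ : ∃ j, Q.coeff j ≠ 0 := ⟨Q.natDegree, by simpa using Polynomial.leadingCoeff_ne_zero.2 hQ⟩
    obtain ⟨φ, hφ⟩ : ∃ φ : L' →ₗ[L] L, φ (Q.coeff j) ≠ 0 := by
      let b := Module.Free.chooseBasis L L'
      obtain ⟨i, hi⟩ := Finsupp.ne_iff.1 ((LinearEquiv.map_ne_zero_iff b.repr).2 hj)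
      exact ⟨b.coord i, by simpa using hi⟩
    let push : Polynomial L' → Polynomial L := fun R => ∑ i ∈ R.support, Polynomial.monomial i (φ (R.coeff i))
    have hpush : ∀ R i, (push R).coeff i = φ (R.coeff i) := fun R i => by
      simp only [push, Polynomial.finsetSum_coeff, Polynomial.coeff_monomial]
      rw [Finset.sum_ite_eq']
      split_ifs with hi
      · rfl
      · rw [Polynomial.notMem_support_iff.1 hi, map_zero]
    refine ⟨push P, push Q, fun h0 => hφ (by rw [← hpush, h0, Polynomial.coeff_zero]), ?_⟩
    refine PowerSeries.ext fun n => ?_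
    have hn := congrArg (fun s => φ (PowerSeries.coeff n s)) h
    simp only [PowerSeries.coeff_mul, Polynomial.coeff_coe, PowerSeries.coeff_map, map_sum] at hn
    simp only [PowerSeries.coeff_mul, Polynomial.coeff_coe, hpush]
    rw [← hn]
    exact Finset.sum_congr rfl fun x _ => by rw [← Algebra.smul_def, map_smul, smul_eq_mul]
  · rintro ⟨P, Q, hQ, h⟩
    refine ⟨P.map (algebraMap L L'), Q.map (algebraMap L L'), (Polynomial.map_ne_zero_iff (algebraMap L L').injective).2 hQ, ?_⟩
    rw [Polynomial.polynomial_map_coe, Polynomial.polynomial_map_coe, ← map_mul, h]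

end Groth.Agent.S13058
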