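import Groth.Statements.S13059
import Mathlib.LinearAlgebra.PerfectPairing.Basic
import Mathlib.LinearAlgebra.Matrix.Charpoly.Coeff
import Mathlib.LinearAlgebra.Charpoly.ToMatrix

set_option autoImplicit false
universe u
open Zeta

namespace Groth.Agent.S13059

lemma exists_adapted {K V W : Type*} [Field K] [AddCommGroup V] [Module K V] [FiniteDimensional K V]
    [AddCommGroup W] [Module K W] [FiniteDimensional K W] (B : V →ₗ[K] W →ₗ[K] K) [B.IsPerfPair]
    (f : V →ₗ[K] V) (g : W →ₗ[K] W) (c : K) (hfg : ∀ v w, B (f v) (g w) = c * B v w) :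
    ∃ (bV : Module.Basis (Fin (Module.finrank K V)) K V) (bW : Module.Basis (Fin (Module.finrank K V)) K W),
      (LinearMap.toMatrix bV bV f).transpose * LinearMap.toMatrix bW bW g = c • 1 := by
  let bV := Module.finBasis K V
  let e : W ≃ₗ[K] Module.Dual K V := B.flip.toPerfPair
  let bW := bV.dualBasis.map e.symm
  refine ⟨bV, bW, Matrix.ext fun i j => ?_⟩
  have hpair : ∀ l m, B (bV l) (bW m) = if l = m then 1 else 0 := fun l m => by
    rw [show bW m = e.symm (bV.dualBasis m) from Module.Basis.map_apply _ _ _,
      show B (bV l) (e.symm (bV.dualBasis m)) = (bV.dualBasis m) (bV l) from LinearMap.apply_toPerfPair_flip (p := B) _ _]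
    simp [Module.Basis.coe_dualBasis, Finsupp.single_apply]
  have h := hfg (bV i) (bW j)
  rw [hpair, ← bV.sum_repr (f (bV i)), ← bW.sum_repr (g (bW j))] at h
  simp only [map_sum, map_smul, LinearMap.sum_apply, LinearMap.smul_apply, hpair, smul_eq_mul, mul_ite, mul_one,
    mul_zero, Finset.sum_ite_eq', Finset.sum_ite_eq, Finset.mem_univ, if_true] at h
  simp only [Matrix.mul_apply, Matrix.transpose_apply, LinearMap.toMatrix_apply, Matrix.smul_apply, Matrix.one_apply,
    smul_eq_mul, mul_ite, mul_one, mul_zero]
  rw [← h]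
  exact Finset.sum_congr rfl fun l _ => mul_comm _ _

/-- Let B : V × W → K be a perfect pairing of finite-dimensional vector spaces over a field K, c ∈ K
nonzero, and f, g endomorphisms of V, W with B(f v, g w) = c · B(v, w) for all v, w. Then det(Id − t
g) = (−1)^r c^r t^r det(f)^{−1} det(Id − c^{−1} t^{−1} f) with r the common dimension; stated
cleared of denominators as det(f) · det(Id − t g) = (−1)^r c^r · det(t Id − c^{−1} f) in K[t],
det(Id − t g) being the reverse of the characteristic polynomial of g. -/
theorem result (K : Type u) [Field K] (V W : Type u)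
    [AddCommGroup V] [Module K V] [FiniteDimensional K V] [AddCommGroup W] [Module K W]
    [FiniteDimensional K W] (B : V →ₗ[K] W →ₗ[K] K) [B.IsPerfPair] (f : V →ₗ[K] V) (g : W →ₗ[K] W)
    (c : K) (hc : c ≠ 0) (hfg : ∀ (v : V) (w : W), B (f v) (g w) = c * B v w) :
    LinearMap.det f • (LinearMap.charpoly g).reverse =
      ((-1) ^ Module.finrank K W * c ^ Module.finrank K W) • (c⁻¹ • f).charpoly := by
  obtain ⟨bV, bW, h⟩ := exists_adapted B f g c hfg
  have hdim : Module.finrank K W = Module.finrank K V := by
    rw [Module.finrank_eq_card_basis bW, Fintype.card_fin]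
  rw [hdim, ← LinearMap.charpoly_toMatrix g bW, Matrix.reverse_charpoly, ← LinearMap.det_toMatrix bV,
    ← LinearMap.charpoly_toMatrix (c⁻¹ • f) bV, map_smul]
  set A := LinearMap.toMatrix bV bV f
  set D := LinearMap.toMatrix bW bW g
  rw [Algebra.smul_def, Algebra.smul_def, Polynomial.algebraMap_eq, map_mul, map_pow, map_pow, ← Matrix.det_transpose A,
    RingHom.map_det, ← Matrix.charpoly_transpose (c⁻¹ • A), Matrix.transpose_smul, map_neg, map_one]
  show ((A.transpose).map Polynomial.C).det * (1 - (Polynomial.X : Polynomial K) • D.map Polynomial.C).det =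
    ((-1) ^ Module.finrank K V * Polynomial.C c ^ Module.finrank K V) * ((c⁻¹ • A.transpose).charmatrix).det
  have hn : Module.finrank K V = Fintype.card (Fin (Module.finrank K V)) := (Fintype.card_fin _).symm
  rw [← Matrix.det_mul, ← mul_pow, show ((-1 : Polynomial K) * Polynomial.C c) ^ Module.finrank K V =
      ((-1 : Polynomial K) * Polynomial.C c) ^ Fintype.card (Fin (Module.finrank K V)) by rw [← hn],
    ← Matrix.det_smul, mul_sub, mul_one, Matrix.mul_smul, ← Matrix.map_mul, h]
  congr 1
  refine Matrix.ext fun i j => ?_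
  rcases eq_or_ne i j with rfl | hij
  · simp only [Matrix.sub_apply, Matrix.smul_apply, Matrix.map_apply, Matrix.one_apply_eq, Matrix.charmatrix_apply_eq,
      smul_eq_mul, mul_one, mul_sub, map_mul]
    rw [show Polynomial.C c⁻¹ = Polynomial.C c⁻¹ from rfl]
    have : Polynomial.C c * Polynomial.C c⁻¹ = 1 := by rw [← Polynomial.C_mul, mul_inv_cancel₀ hc, Polynomial.C_1]
    linear_combination (-(Polynomial.C (A.transpose i i))) * this
  · simp only [Matrix.sub_apply, Matrix.smul_apply, Matrix.map_apply, Matrix.one_apply_ne hij, smul_eq_mul, mul_zero,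
      Polynomial.C_0, sub_zero, Matrix.charmatrix_apply_ne _ _ _ hij, map_mul]
    have : Polynomial.C c * Polynomial.C c⁻¹ = 1 := by rw [← Polynomial.C_mul, mul_inv_cancel₀ hc, Polynomial.C_1]
    linear_combination (-(Polynomial.C (A.transpose i j))) * this

end Groth.Agent.S13059
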