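import Groth.Statements.S13060
import Mathlib.RepresentationTheory.Invariants
import Mathlib.LinearAlgebra.TensorProduct.Basis
import Mathlib.LinearAlgebra.Basis.VectorSpace

set_option autoImplicit false
universe u v w x
open TensorProduct
open Zeta

namespace Groth.Agent.S13060

/-- Let k be a field, V and W vector spaces over k and G a group acting on V by k-linear automorphisms;
for the induced action on V ⊗_k W (trivial on W) one has (V ⊗_k W)^G = V^G ⊗_k W, i.e. the
invariants of V ⊗ W are the image of V^G ⊗ W → V ⊗ W. -/
theorem result {k : Type u} [Field k] {G : Type v} [Group G]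
    {V : Type w} {W : Type x} [AddCommGroup V] [Module k V] [AddCommGroup W] [Module k W]
    (ρ : Representation k G V) :
    (ρ.tprod (Representation.trivial k G W)).invariants =
      LinearMap.range (TensorProduct.map ρ.invariants.subtype (LinearMap.id : W →ₗ[k] W)) := by
  classical
  let b := Module.Free.chooseBasis k W
  let e : TensorProduct k V W ≃ₗ[k] (Module.Free.ChooseBasisIndex k W →₀ V) :=
    TensorProduct.equivFinsuppOfBasisRight b
  refine le_antisymm (fun z hz => ?_) ?_
  · rw [Representation.mem_invariants] at hz
    have hcomm : ∀ (g : G) (x : TensorProduct k V W) i, e ((ρ.tprod (Representation.trivial k G W)) g x) i = ρ g (e x i) := by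
      intro g x i
      induction x using TensorProduct.induction_on with
      | zero => simp
      | tmul v w => simp [e, TensorProduct.map_tmul, map_smul]
      | add a c ha hc => rw [map_add, map_add, Finsupp.add_apply, ha, hc, map_add, Finsupp.add_apply, map_add]
    have hmem : ∀ i, e z i ∈ ρ.invariants := fun i => by
      rw [Representation.mem_invariants]
      intro g
      rw [← hcomm, hz g]
    refine ⟨(e z).support.sum fun i => (⟨e z i, hmem i⟩ : ρ.invariants) ⊗ₜ[k] b i, ?_⟩
    conv_rhs => rw [← e.symm_apply_apply z]
    rw [map_sum, TensorProduct.equivFinsuppOfBasisRight_symm_apply]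
    rfl
  · rintro _ ⟨t, rfl⟩
    rw [Representation.mem_invariants]
    intro g
    induction t using TensorProduct.induction_on with
    | zero => simp
    | tmul v w => simp [TensorProduct.map_tmul, v.2 g]
    | add a c ha hc => rw [map_add, map_add, ha, hc]

end Groth.Agent.S13060
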