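import Groth.Statements.S13061
import Mathlib

set_option autoImplicit false
universe u v w
open Zeta

namespace Groth.Agent.S13061

theorem exists_subgroup_card_index {G : Type*} [Group G] [Finite G] (k : Type*) [Field k] :
    ∃ H : Subgroup G, Nat.card H = ringChar k ^ (Nat.card G).factorization (ringChar k) ∧
      ((H.index : ℕ) : k) ≠ 0 := by
  rcases CharP.char_is_prime_or_zero k (ringChar k) with hp | hp
  · haveI := Fact.mk hp
    obtain ⟨P⟩ : Nonempty (Sylow (ringChar k) G) := inferInstance
    refine ⟨P, P.card_eq_multiplicity, fun h => ?_⟩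
    exact P.not_dvd_index ((CharP.cast_eq_zero_iff k (ringChar k) _).1 h)
  · refine ⟨⊥, by simp [hp], fun h => ?_⟩
    rw [Subgroup.index_bot, CharP.cast_eq_zero_iff k (ringChar k), hp, zero_dvd_iff] at h
    exact Nat.card_pos.ne' h

/-- Let A be a commutative algebra over a field k, G a finite group acting on A by k-algebra
automorphisms and I ⊆ A an ideal preserved by G. If p^n is the largest power of p = char(k) dividing
|G| (with p^n = 1 when char(k) = 0), then for every G-invariant b ∈ A/I the power b^{p^n} lies in
the image of A^G → (A/I)^G. (The published statement takes A finitely generated over k, which the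
proof does not use.) -/
theorem result {k : Type u} [Field k]
    {A : Type v} [CommRing A] [Algebra k A] {G : Type w} [Group G] [Finite G]
    [MulSemiringAction G A] [SMulCommClass G k A] (I : Ideal A)
    (hI : ∀ (g : G) (a : A), a ∈ I → g • a ∈ I) (u : A) (hu : ∀ g : G, g • u - u ∈ I) :
    ∃ a : A, (∀ g : G, g • a = a) ∧
      Ideal.Quotient.mk I a =
        Ideal.Quotient.mk I u ^ (ringChar k ^ (Nat.card G).factorization (ringChar k)) := by
  classical
  haveI := Fintype.ofFinite G
  obtain ⟨H, hcard, hidx⟩ := exists_subgroup_card_index (G := G) k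
  rw [← hcard]
  let q := Ideal.Quotient.mk I
  have hqI : ∀ (g : G) (x y : A), q x = q y → q (g • x) = q (g • y) := by
    intro g x y h
    rw [Ideal.Quotient.eq] at h ⊢
    rw [← smul_sub]
    exact hI g _ h
  have hqu : ∀ g : G, q (g • u) = q u := fun g => Ideal.Quotient.eq.2 (hu g)
  set a1 : A := ∏ h : H, (h : G) • u with ha1
  have hinv : ∀ h : H, (h : G) • a1 = a1 := by
    intro h
    rw [ha1, Finset.smul_prod']
    exact Fintype.prod_equiv (Equiv.mulLeft h) _ _ (fun x => by simp [smul_smul])
  have hq1 : q a1 = q u ^ Nat.card H := by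
    rw [ha1, map_prod]
    simp [hqu, Nat.card_eq_fintype_card]
  have hqg : ∀ g : G, q (g • a1) = q u ^ Nat.card H := by
    intro g
    rw [← map_pow, hqI g a1 (u ^ Nat.card H) (by rw [hq1, map_pow]), smul_pow', map_pow, hqu, map_pow]
  refine ⟨(H.index : k)⁻¹ • ∑ c : G ⧸ H, c.out • a1, fun g => ?_, ?_⟩
  · rw [smul_comm, Finset.smul_sum]
    congr 1
    refine Fintype.sum_equiv (MulAction.toPerm g) _ _ fun c => ?_
    rw [MulAction.toPerm_apply, smul_smul]
    have hmem : (g * c.out)⁻¹ * (g • c : G ⧸ H).out ∈ H := by
      rw [← QuotientGroup.eq, QuotientGroup.out_eq']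
      conv_rhs => rw [← QuotientGroup.out_eq' c]
      rfl
    conv_lhs => rw [← hinv ⟨_, hmem⟩, smul_smul]
    congr 1
    group
  · show q _ = q u ^ Nat.card H
    rw [Algebra.smul_def, map_mul, map_sum]
    simp only [hqg, Finset.sum_const, Finset.card_univ]
    rw [← Nat.card_eq_fintype_card, ← Subgroup.index_eq_card, nsmul_eq_mul, ← mul_assoc,
      ← map_natCast (q.comp (algebraMap k A)), RingHom.comp_apply, ← map_mul, ← map_mul,
      inv_mul_cancel₀ hidx, map_one, map_one, one_mul]

end Groth.Agent.S13061
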