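import Groth.Statements.S13062
import Groth.Agent.ZetaPts.LSeries
-- import your own Groth.Agent.* helpers here

set_option autoImplicit false
universe u
open CategoryTheory AlgebraicGeometry
open Zeta

namespace Groth.Agent.S13062

/-- If X is a variety of dimension r over a finite field k with q elements, there is a constant c_X > 0
with #X(F_{q^e}) ≤ c_X q^{re} for every e ≥ 1. Stated for any scheme of finite type over k of
dimension at most r, with a natural-number constant. -/
theorem result {k : Type u} [Field k] [Finite k] {X : Scheme.{u}}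
    (f : X ⟶ Spec (CommRingCat.of k)) [LocallyOfFiniteType f] [QuasiCompact f] (r : ℕ)
    (hr : topologicalKrullDim X ≤ r) :
    ∃ c : ℕ, ∀ (k' : Type u) [Field k'] [Algebra k k'] [Finite k'],
      SgaExt.pointCount f k' ≤ c * Nat.card k ^ (r * Module.finrank k k') := by
  let g : Spec (CommRingCat.of k) ⟶ Spec (CommRingCat.of (ULift.{u} ℤ)) :=
    Spec.map (CommRingCat.ofHom ((Int.castRingHom k).comp (ULift.ringEquiv.{0, u} (R := ℤ)).toRingHom))
  haveI : LocallyOfFiniteType g := by
    refine (HasRingHomProperty.Spec_iff (P := @LocallyOfFiniteType)).2 ?_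
    refine RingHom.FiniteType.comp ?_ (RingHom.FiniteType.of_surjective _ (RingEquiv.surjective _))
    haveI : Module.Finite ℤ k := Module.Finite.of_finite
    exact (RingHom.finite_algebraMap.2 ‹_›).finiteType
  obtain ⟨p₀, c, hc, hb⟩ := Groth.Agent.ZetaPts.exists_bounds (f ≫ g) r hr
  refine ⟨c, fun k' _ _ _ => ?_⟩
  obtain ⟨h1, h2, -⟩ := hb k'
  have hcard : Nat.card k' = Nat.card k ^ Module.finrank k k' := by
    haveI : Module.Finite k k' := Module.Finite.of_finite
    exact Module.natCard_eq_pow_finrank
  refine (Nat.card_le_card_of_injective _ Subtype.val_injective).trans (h2.trans (le_of_eq ?_))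
  rw [hcard, ← pow_mul, mul_comm r]

end Groth.Agent.S13062
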