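import Groth.Statements.S13065
import Mathlib

set_option autoImplicit false
universe u
open Zeta

namespace Groth.Agent.S13065

/-- Let k be a finite field with q elements and characteristic p, n ≥ 2, and f ∈ k[x_0, …, x_n]
homogeneous of degree n + 1, defining the hypersurface Z ⊂ P^n_k. Then #Z(F_q) ≢ 1 (mod p) if and
only if the coefficient of (x_0 ⋯ x_n)^{q−1} in f^{q−1} is nonzero. Stated through the affine count:
#Z(F_q) ≡ 1 (mod p) exactly when p divides the number of zeros of f in k^{n+1} (as (q − 1) #Z(F_q) +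
1 is that number). -/
theorem result {k : Type u} [Field k] [Finite k] (p : ℕ)
    [CharP k p] (n : ℕ) (hn : 2 ≤ n) (f : MvPolynomial (Fin (n + 1)) k)
    (hf : f.IsHomogeneous (n + 1)) :
    p ∣ Nat.card {a : Fin (n + 1) → k // MvPolynomial.eval a f = 0} ↔
      MvPolynomial.coeff (Finsupp.equivFunOnFinite.symm fun _ : Fin (n + 1) => Nat.card k - 1)
        (f ^ (Nat.card k - 1)) = 0 := by
  classical
  haveI := Fintype.ofFinite k
  have hq : 1 < Fintype.card k := Fintype.one_lt_card
  rw [Nat.card_eq_fintype_card, Nat.card_eq_fintype_card]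
  set N := Fintype.card {a : Fin (n + 1) → k // MvPolynomial.eval a f = 0} with hN
  set Q := Fintype.card k - 1 with hQ
  set T : Fin (n + 1) →₀ ℕ := Finsupp.equivFunOnFinite.symm fun _ => Q with hT
  have h1 : (N : k) = - ∑ a : Fin (n + 1) → k, MvPolynomial.eval a (f ^ Q) := by
    have e : ∀ a : Fin (n + 1) → k, (if MvPolynomial.eval a f = 0 then (1 : k) else 0) =
        1 - MvPolynomial.eval a (f ^ Q) := by
      intro a
      rw [map_pow]
      split_ifs with h
      · rw [h, zero_pow (by omega), sub_zero]
      · rw [FiniteField.pow_card_sub_one_eq_one _ h, sub_self]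
    rw [hN, Fintype.card_subtype, ← Finset.sum_boole, Finset.sum_congr rfl (fun a _ => e a),
      Finset.sum_sub_distrib, Finset.sum_const, Finset.card_univ, Fintype.card_fun, Fintype.card_fin,
      nsmul_one, Nat.cast_pow, FiniteField.cast_card_eq_zero, zero_pow (by omega), zero_sub]
  have hS : ∀ e : Fin (n + 1) →₀ ℕ, e ∈ (f ^ Q).support →
      (∑ x : Fin (n + 1) → k, ∏ i, x i ^ e i) = if e = T then (-1) ^ (n + 1) else 0 := by
    intro e he
    rw [show (∑ x : Fin (n + 1) → k, ∏ i, x i ^ e i) = ∏ i, ∑ x : k, x ^ e i from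
      (Fintype.prod_sum (fun i (x : k) => x ^ e i)).symm]
    have hdeg : ∑ i, e i = (n + 1) * Q := by
      have h1 := (hf.pow Q) (MvPolynomial.mem_support_iff.1 he)
      rw [Finsupp.weight_apply, Finsupp.sum_fintype _ _ (by simp)] at h1
      simpa using h1
    split_ifs with hT'
    · subst hT'
      have hsum : (∑ x : k, x ^ Q) = -1 := by
        rw [← Finset.add_sum_erase _ _ (Finset.mem_univ (0 : k)), zero_pow (by omega), zero_add,
          Finset.sum_congr rfl (fun x hx => FiniteField.pow_card_sub_one_eq_one x (Finset.ne_of_mem_erase hx)),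
          Finset.sum_const, Finset.card_erase_of_mem (Finset.mem_univ _), Finset.card_univ,
          nsmul_one, Nat.cast_sub hq.le, FiniteField.cast_card_eq_zero, Nat.cast_one, zero_sub]
      simp [hT, hsum]
    · obtain ⟨i, hi⟩ : ∃ i, e i < Q := by
        by_contra h
        push Not at h
        apply hT'
        have h1 : ∑ i : Fin (n + 1), Q = ∑ i, e i := by
          rw [hdeg, Finset.sum_const, Finset.card_univ, Fintype.card_fin, smul_eq_mul]
        refine Finsupp.ext fun i => ?_
        rw [hT, Finsupp.equivFunOnFinite_symm_apply_apply]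
        exact ((Finset.sum_eq_sum_iff_of_le (fun i _ => h i)).1 h1 i (Finset.mem_univ i)).symm
      exact Finset.prod_eq_zero (Finset.mem_univ i) (FiniteField.sum_pow_lt_card_sub_one _ _ hi)
  have h2 : ∑ a : Fin (n + 1) → k, MvPolynomial.eval a (f ^ Q) = (f ^ Q).coeff T * (-1) ^ (n + 1) := by
    simp only [MvPolynomial.eval_eq']
    rw [Finset.sum_comm]
    simp only [← Finset.mul_sum]
    rw [Finset.sum_congr rfl fun e he => by rw [hS e he, mul_ite, mul_zero], Finset.sum_ite_eq']
    split_ifs with h
    · rfl
    · rw [MvPolynomial.notMem_support_iff.1 h, zero_mul]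
  rw [← CharP.cast_eq_zero_iff k p, h1, h2]
  simp

end Groth.Agent.S13065
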