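import Groth.Statements.S13066
import Mathlib

set_option autoImplicit false
universe u
open Zeta

namespace Groth.Agent.S13066

theorem pow_p_eq_expand {k : Type*} [CommRing k] (p : ℕ) [Fact p.Prime] [CharP k p] {σ : Type*}
    (h : MvPolynomial σ k) : h ^ p = MvPolynomial.expand p (MvPolynomial.map (frobenius k p) h) := by
  have e : (frobenius (MvPolynomial σ k) p) =
      ((MvPolynomial.expand p : MvPolynomial σ k →ₐ[k] MvPolynomial σ k).toRingHom).comp (MvPolynomial.map (frobenius k p)) := by
    refine MvPolynomial.ringHom_ext (fun c => ?_) (fun i => ?_)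
    · simp [frobenius_def]
    · simp [frobenius_def]
  exact RingHom.congr_fun e h

theorem coeff_step {k : Type*} [CommRing k] (p : ℕ) [Fact p.Prime] [CharP k p] {n : ℕ}
    (g h : MvPolynomial (Fin n) k) (hg : g.IsHomogeneous (n * (p - 1))) (P : ℕ) :
    MvPolynomial.coeff (Finsupp.equivFunOnFinite.symm fun _ : Fin n => p * P + (p - 1)) (g * h ^ p) =
      MvPolynomial.coeff (Finsupp.equivFunOnFinite.symm fun _ : Fin n => p - 1) g *
        MvPolynomial.coeff (Finsupp.equivFunOnFinite.symm fun _ : Fin n => P) h ^ p := by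
  classical
  have hp := (Fact.out : p.Prime).two_le
  rw [pow_p_eq_expand p h, MvPolynomial.coeff_mul,
    Finset.sum_eq_single (Finsupp.equivFunOnFinite.symm (fun _ : Fin n => p - 1),
      p • Finsupp.equivFunOnFinite.symm (fun _ : Fin n => P))]
  · rw [MvPolynomial.coeff_expand_smul _ (by omega), MvPolynomial.coeff_map, frobenius_def]
  · rintro ⟨a, b⟩ hab hne
    rw [Finset.HasAntidiagonal.mem_antidiagonal] at hab
    by_contra h0
    have ha : g.coeff a ≠ 0 := left_ne_zero_of_mul h0
    have hb : (MvPolynomial.expand p (MvPolynomial.map (frobenius k p) h)).coeff b ≠ 0 := right_ne_zero_of_mul h0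
    have hdvd : ∀ i, p ∣ b i := fun i => by
      by_contra hnd
      exact hb (MvPolynomial.coeff_expand_of_not_dvd (p := p) (φ := MvPolynomial.map (frobenius k p) h) (m := b) (i := i) hnd)
    have hi : ∀ i, a i + b i = p * P + (p - 1) := fun i => by
      have := DFunLike.congr_fun hab i
      simpa using this
    have hge : ∀ i, p - 1 ≤ a i := fun i => by
      obtain ⟨c, hc⟩ := hdvd i
      have hci := hi i
      rw [hc] at hci
      by_contra hlt
      rcases le_or_gt c P with h' | h'
      · have : p * c ≤ p * P := Nat.mul_le_mul_left p h'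
        omega
      · have : p * (P + 1) ≤ p * c := Nat.mul_le_mul_left p h'
        rw [Nat.mul_succ] at this
        omega
    have hdeg : ∑ i, a i = n * (p - 1) := by
      have h1 := hg ha
      rw [Finsupp.weight_apply, Finsupp.sum_fintype _ _ (by simp)] at h1
      simpa using h1
    have heq : ∀ i, a i = p - 1 := by
      intro i
      have h1 : ∑ _i : Fin n, (p - 1) = ∑ i, a i := by rw [hdeg, Finset.sum_const, Finset.card_univ, Fintype.card_fin, smul_eq_mul]
      exact ((Finset.sum_eq_sum_iff_of_le (fun i _ => hge i)).1 h1 i (Finset.mem_univ i)).symm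
    refine hne (Prod.ext (Finsupp.ext fun i => ?_) (Finsupp.ext fun i => ?_))
    · simpa using heq i
    · have := hi i
      have := heq i
      simp only [Finsupp.smul_apply, Finsupp.equivFunOnFinite_symm_apply_apply, smul_eq_mul]
      omega
  · intro h
    exact absurd (Finset.HasAntidiagonal.mem_antidiagonal.2 (Finsupp.ext fun i => by simp [add_comm])) h

/-- Let k be a finite field with q elements and characteristic p, n ≥ 2, and f ∈ k[x_0, …, x_n]
homogeneous of degree n + 1. Then the coefficient of (x_0 ⋯ x_n)^{q−1} in f^{q−1} is nonzero if and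
only if the coefficient of (x_0 ⋯ x_n)^{p−1} in f^{p−1} is nonzero. -/
theorem result {k : Type u} [Field k] [Finite k]
    (p : ℕ) [CharP k p] (n : ℕ) (hn : 2 ≤ n) (f : MvPolynomial (Fin (n + 1)) k)
    (hf : f.IsHomogeneous (n + 1)) :
    MvPolynomial.coeff (Finsupp.equivFunOnFinite.symm fun _ : Fin (n + 1) => Nat.card k - 1)
        (f ^ (Nat.card k - 1)) ≠ 0 ↔
      MvPolynomial.coeff (Finsupp.equivFunOnFinite.symm fun _ : Fin (n + 1) => p - 1)
        (f ^ (p - 1)) ≠ 0 := by
  classical
  haveI := Fintype.ofFinite k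
  obtain ⟨⟨s, hs⟩, hp, hcard⟩ := FiniteField.card k p
  haveI := Fact.mk hp
  have hp2 := hp.two_le
  rw [Nat.card_eq_fintype_card, hcard]
  simp only [PNat.mk_coe]
  set c := MvPolynomial.coeff (Finsupp.equivFunOnFinite.symm fun _ : Fin (n + 1) => p - 1) (f ^ (p - 1)) with hc
  have key : ∀ j : ℕ, MvPolynomial.coeff (Finsupp.equivFunOnFinite.symm fun _ : Fin (n + 1) => p ^ j - 1) (f ^ (p ^ j - 1)) =
      c ^ (∑ i ∈ Finset.range j, p ^ i) := by
    intro j
    induction j with
    | zero =>
      have : (Finsupp.equivFunOnFinite.symm fun _ : Fin (n + 1) => (0 : ℕ)) = 0 := Finsupp.ext fun i => by simp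
      simp [this]
    | succ j ih =>
      have e : p ^ (j + 1) - 1 = p * (p ^ j - 1) + (p - 1) := by
        rw [Nat.mul_sub, mul_one, pow_succ']
        have : p ≤ p * p ^ j := Nat.le_mul_of_pos_right p (pow_pos (by omega) j)
        omega
      have hf' : f ^ (p ^ (j + 1) - 1) = f ^ (p - 1) * (f ^ (p ^ j - 1)) ^ p := by
        rw [← pow_mul, ← pow_add]
        congr 1
        rw [e]
        ring
      rw [hf', e, coeff_step p _ _ (hf.pow (p - 1)) _, ih, ← pow_mul, Finset.sum_range_succ',
        pow_zero, pow_add, pow_one, mul_comm, hc, Finset.sum_mul]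
      simp only [pow_succ]
  rw [key s, pow_ne_zero_iff]
  intro h0
  have : p ^ 0 ≤ ∑ i ∈ Finset.range s, p ^ i :=
    Finset.single_le_sum (fun i _ => Nat.zero_le (p ^ i)) (Finset.mem_range.2 hs)
  simp [h0] at this

end Groth.Agent.S13066
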