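import Groth.Statements.S13068
import Groth.Agent.CurveFF.Pic
import Groth.Agent.CurveFF.Count
import Groth.Agent.ZetaElem.Decomp

set_option autoImplicit false
universe u
open CategoryTheory AlgebraicGeometry
open Zeta

namespace Groth.Agent.S13068

attribute [local instance] Curv2.stalkAlgebra
attribute [local instance high] FunFld.Place.algRes

open Groth.Agent Groth.Agent.ZetaElem Groth.Agent.WeilCohLib in
theorem key {k : Type u} [Field k] {X : Scheme.{u}} (f : X ⟶ Spec (CommRingCat.of k)) [LocallyOfFiniteType f] [Finite k] (q : ℕ) {ι : Type} [Fintype ι]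
    (α : ι → ℂ) (h : ∀ m, 0 < m → (Zeta.nPts f m : ℂ) = (q : ℂ) ^ m + 1 - ∑ i, α i ^ m) :
    PowerSeries.map (Rat.castHom ℂ) (Zeta.zetaFun f) * ((1 - PowerSeries.X) * (1 - PowerSeries.C (q : ℂ) * PowerSeries.X)) =
      ∏ i, (1 - PowerSeries.C (α i) * PowerSeries.X) := by
  have h1 : ∀ c : ℂ, (1 : PowerSeries ℂ) - PowerSeries.C c * PowerSeries.X = expS (-ellS c 1) := fun c => by
    have := one_sub_eq_expS c one_pos
    rwa [pow_one] at this
  have h2 : (1 : PowerSeries ℂ) - PowerSeries.X = expS (-ellS 1 1) := by rw [← h1, map_one, one_mul]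
  have h0 : ∀ c : ℂ, PowerSeries.constantCoeff (-ellS c 1) = 0 := fun c => by
    rw [map_neg, constantCoeff_ellS, neg_zero]
  have hl : PowerSeries.constantCoeff (PowerSeries.map (Rat.castHom ℂ) (Zeta.logZeta f)) = 0 := by
    rw [← PowerSeries.coeff_zero_eq_constantCoeff_apply, PowerSeries.coeff_map,
      PowerSeries.coeff_zero_eq_constantCoeff_apply, constantCoeff_logZeta, map_zero]
  rw [map_zetaFun, h2, h1, ← expS_add (h0 1) (h0 q), ← expS_add hl (by rw [map_add, h0, h0, add_zero])]
  simp only [h1]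
  rw [← expS_sum _ _ (fun i _ => h0 (α i))]
  congr 1
  refine PowerSeries.ext fun m => ?_
  rw [map_add, map_add, map_sum, PowerSeries.coeff_map, Zeta.logZeta, PowerSeries.coeff_mk]
  rcases Nat.eq_zero_or_pos m with rfl | hm
  · simp [ellS]
  simp only [map_neg, ellS, PowerSeries.coeff_mk, if_pos (one_dvd m), Nat.div_one, Nat.cast_one, mul_one,
    map_div₀, map_natCast, one_pow, Finset.sum_neg_distrib]
  rw [h m hm, ← Finset.sum_div]
  ring


/-- Let X be a smooth, geometrically connected, projective curve of genus g over F_q (here: smooth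
proper geometrically irreducible, of dimension one). Then Z(X, t) = f(t) / ((1 − t)(1 − qt)) with f
∈ ℤ[t] of degree ≤ 2g, f(0) = 1 and f(1) = h, where h is the number of isomorphism classes of line
bundles of degree zero on X (the number of k-points of the Jacobian). -/
theorem result (k : Type u) [Field k] [Finite k]
    (X : Scheme.{u}) [X.Over (Spec (CommRingCat.of k))]
    (hX : Curve.IsSmoothProperCurve k X (X ↘ Spec (CommRingCat.of k)))
    [GeometricallyIrreducible (X ↘ Spec (CommRingCat.of k))] :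
    ∃ P : Polynomial ℤ, P.natDegree ≤ 2 * Curv2.genus k X ∧ P.coeff 0 = 1 ∧
      P.eval 1 = Nat.card {c : PicF.Cl X // ∃ L : X.Modules, PicF.cl L = c ∧ PicF.IsInvertible L ∧
          Curv2.deg k X L 1 = 0} ∧
      Zeta.zetaFun (X ↘ Spec (CommRingCat.of k)) *
          ((1 - PowerSeries.X) * (1 - PowerSeries.C (Nat.card k : ℚ) * PowerSeries.X)) =
        ((P.map (Int.castRingHom ℚ) : Polynomial ℚ) : PowerSeries ℚ) := by
  obtain ⟨_, _, _, hdim, h0⟩ := Groth.Agent.CurveFF.setup_of_smooth hX
  have hK := Groth.Agent.CurveFF.isFunctionField k hdim h0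
  have hgen := Groth.Agent.CurveFF.genus_eq hdim h0
  obtain ⟨D₁, h₁⟩ := Groth.Agent.FF.exists_deg_eq_one hK
  obtain ⟨α, -, hα, -⟩ := Groth.Agent.S11040.result k X.functionField hK
  have hP := Groth.Agent.FF.coe_numerPoly hK h₁
  refine ⟨Groth.Agent.FF.numerPoly k X.functionField, ?_, ?_, ?_, ?_⟩
  · rw [hgen]
    exact Nat.lt_succ_iff.1 (PowerSeries.natDegree_trunc_lt _ _)
  · rw [← Polynomial.coeff_coe, hP]
    exact Groth.Agent.FF.numerZ_coeff_zero hK h₁
  · rw [(Groth.Agent.CurveFF.picDeg_card hdim h0 0).2.2, ← Groth.Agent.FF.sum_coeff_numerZ hK h₁,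
      Polynomial.eval_eq_sum_range' (Nat.lt_succ_of_le (Nat.lt_succ_iff.1 (PowerSeries.natDegree_trunc_lt _ _)) :
        (Groth.Agent.FF.numerPoly k X.functionField).natDegree < 2 * FunFld.genus k X.functionField + 1)]
    refine Finset.sum_congr rfl fun i _ => ?_
    rw [one_pow, mul_one, ← Polynomial.coeff_coe, hP]
  · have hk := key (X ↘ Spec (CommRingCat.of k)) (Nat.card k) α fun m hm => by
      rw [Groth.Agent.CurveFF.nPts_eq hdim h0 hm, Groth.Agent.FF.nPts_eq_of_roots hK α hα hm]
      ring
    refine PowerSeries.map_injective (Rat.castHom ℂ) (Rat.castHom ℂ).injective ?_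
    rw [map_mul, map_mul, map_sub, map_sub, map_mul, map_one, PowerSeries.map_X, PowerSeries.map_C, map_natCast, hk]
    rw [← Polynomial.polynomial_map_coe, Polynomial.map_map,
      show (Rat.castHom ℂ).comp (Int.castRingHom ℚ) = Int.castRingHom ℂ from RingHom.ext_int _ _,
      Polynomial.polynomial_map_coe, hP, hα, ← Polynomial.coeToPowerSeries.ringHom_apply, map_prod]
    simp

end Groth.Agent.S13068
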