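import Groth.Statements.S13070
import Groth.Agent.ZetaPts.LSeries
-- import your own Groth.Agent.* helpers here

set_option autoImplicit false
universe u
open CategoryTheory AlgebraicGeometry
open Zeta

namespace Groth.Agent.S13070

/-- For an arithmetic scheme X (of finite type over ℤ) of dimension r there are c_X > 0 and p₀ such that
#X(F_{p^m}) ≤ c_X p^{m(r−1)} for all primes p ≥ p₀ and m ≥ 1, and #X(F_{p^m}) ≤ c_X p^{mr} for p <
p₀ and m ≥ 1. Here #X(F) is the number of morphisms Spec F → X, and the dimension is only assumed ≤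
r. -/
theorem result {X : Scheme.{u}}
    (f : X ⟶ Spec (CommRingCat.of (ULift.{u} ℤ))) [LocallyOfFiniteType f] [QuasiCompact f] (r : ℕ)
    (hr : topologicalKrullDim X ≤ r) :
    ∃ (c : ℝ) (p₀ : ℕ), 0 < c ∧ ∀ (p m : ℕ), p.Prime → 1 ≤ m →
      ∀ (F : Type u) [Field F], Nat.card F = p ^ m →
        (p₀ ≤ p → (Nat.card (Spec (CommRingCat.of F) ⟶ X) : ℝ) ≤
            c * (p : ℝ) ^ ((m : ℝ) * ((r : ℝ) - 1))) ∧
        (p < p₀ → (Nat.card (Spec (CommRingCat.of F) ⟶ X) : ℝ) ≤ c * (p : ℝ) ^ ((m : ℝ) * r)) := by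
  obtain ⟨p₀, c, hc, hb⟩ := Groth.Agent.ZetaPts.exists_bounds f r hr
  refine ⟨c, p₀ + 1, by exact_mod_cast hc, fun p m hp hm F _ hF => ?_⟩
  haveI : Finite F := Nat.finite_of_card_ne_zero (by rw [hF]; exact pow_ne_zero _ hp.ne_zero)
  haveI := Fintype.ofFinite F
  obtain ⟨-, h2, h3⟩ := hb F
  have hpR : (0 : ℝ) < p := by exact_mod_cast hp.pos
  refine ⟨fun hle => ?_, fun _ => ?_⟩
  · have hchar : ringChar F = p := by
      obtain ⟨q, hq⟩ := CharP.exists F
      obtain ⟨n, hqp, hcard⟩ := FiniteField.card F q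
      rw [ringChar.eq F q]
      have hpe : q ^ (n : ℕ) = p ^ m := by rw [← hcard, ← Nat.card_eq_fintype_card, hF]
      have hdvd : q ∣ p ^ m := hpe ▸ dvd_pow_self q n.2.ne'
      exact (Nat.prime_dvd_prime_iff_eq hqp hp).1 (hqp.dvd_of_dvd_pow hdvd)
    have h4 := h3 (by omega)
    rw [hF] at h4
    have h5 : (Nat.card (Spec (CommRingCat.of F) ⟶ X) : ℝ) * (p : ℝ) ^ m ≤ c * ((p : ℝ) ^ m) ^ r := by
      exact_mod_cast h4
    rw [mul_sub, mul_one, Real.rpow_sub hpR, ← Nat.cast_mul m r, Real.rpow_natCast,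
      Real.rpow_natCast, mul_div_assoc', le_div_iff₀ (pow_pos hpR m), pow_mul]
    exact h5
  · rw [hF] at h2
    rw [← Nat.cast_mul m r, Real.rpow_natCast, pow_mul]
    have h5 : (Nat.card (Spec (CommRingCat.of F) ⟶ X) : ℝ) ≤ c * ((p : ℝ) ^ m) ^ r := by
      exact_mod_cast h2
    exact h5

end Groth.Agent.S13070
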