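import Groth.Statements.S13071
import Mathlib

set_option autoImplicit false
universe u
open CategoryTheory AlgebraicGeometry Limits
open Zeta

namespace Groth.Agent.S13071

theorem exists_gal {k L Ω : Type u} [Field k] [Field L] [Field Ω] [Algebra k L] [Normal k L]
    (e₁ e₂ : L →+* Ω) (h : e₁.comp (algebraMap k L) = e₂.comp (algebraMap k L)) :
    ∃ γ : L ≃ₐ[k] L, e₁.comp (γ : L →+* L) = e₂ := by
  letI := (e₁.comp (algebraMap k L)).toAlgebra
  letI := e₁.toAlgebra
  haveI : IsScalarTower k L Ω := IsScalarTower.of_algebraMap_eq fun _ => rfl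
  let f : L →ₐ[k] Ω := { toRingHom := e₂, commutes' := fun r => (DFunLike.congr_fun h r).symm }
  refine ⟨Normal.algHomEquivAut k Ω L f, RingHom.ext fun l => ?_⟩
  exact DFunLike.congr_fun ((Normal.algHomEquivAut k Ω L).symm_apply_apply f) l

/-- For a variety X over a perfect field k with algebraic closure k̄, the fibres of the projection π :
X_{k̄} → X are exactly the orbits of G(k̄/k) acting on X_{k̄} (σ acting as id × Spec σ). Stated for
any scheme of finite type over k; each τ_σ is pinned by τ_σ ≫ pr_1 = pr_1 and τ_σ ≫ pr_2 = pr_2 ≫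
Spec σ. -/
theorem result {k : Type u} [Field k] [PerfectField k]
    {X : Scheme.{u}} (f : X ⟶ Spec (CommRingCat.of k)) [LocallyOfFiniteType f] [QuasiCompact f]
    (τ : (AlgebraicClosure k ≃ₐ[k] AlgebraicClosure k) →
      (pullback f (Spec.map (CommRingCat.ofHom (algebraMap k (AlgebraicClosure k)))) ⟶
        pullback f (Spec.map (CommRingCat.ofHom (algebraMap k (AlgebraicClosure k))))))
    (hτ1 : ∀ σ, τ σ ≫ pullback.fst f _ = pullback.fst f _)
    (hτ2 : ∀ σ, τ σ ≫ pullback.snd f (Spec.map (CommRingCat.ofHom (algebraMap k (AlgebraicClosure k)))) =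
        pullback.snd f _ ≫ Spec.map (CommRingCat.ofHom (σ : AlgebraicClosure k →+* AlgebraicClosure k)))
    (x y : ↑(pullback f (Spec.map (CommRingCat.ofHom (algebraMap k (AlgebraicClosure k)))))) :
    (pullback.fst f (Spec.map (CommRingCat.ofHom (algebraMap k (AlgebraicClosure k))))).base x =
        (pullback.fst f (Spec.map (CommRingCat.ofHom (algebraMap k (AlgebraicClosure k))))).base y ↔
      ∃ σ, (τ σ).base x = y := by
  generalize hi : Spec.map (CommRingCat.ofHom (algebraMap k (AlgebraicClosure k))) = i at *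
  refine ⟨fun hxy => ?_, fun ⟨σ, hσ⟩ => ?_⟩
  · obtain ⟨z, hzx, hzy⟩ := Scheme.Pullback.exists_preimage_pullback (f := pullback.fst f i) (g := pullback.fst f i) x y hxy
    let Q := pullback (pullback.fst f i) (pullback.fst f i)
    let Ω := AlgebraicClosure (Q.residueField z)
    let g : Spec (CommRingCat.of Ω) ⟶ Q :=
      Spec.map (CommRingCat.ofHom (algebraMap (Q.residueField z) Ω)) ≫ Q.fromSpecResidueField z
    obtain ⟨pt⟩ : Nonempty ↥(Spec (CommRingCat.of Ω)) := ⟨IsLocalRing.closedPoint Ω⟩
    have hg : g.base pt = z := by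
      rw [Scheme.Hom.comp_apply]; exact Scheme.fromSpecResidueField_apply _ _
    let a := g ≫ pullback.fst (pullback.fst f i) (pullback.fst f i)
    let b := g ≫ pullback.snd (pullback.fst f i) (pullback.fst f i)
    have hab : a ≫ pullback.fst f i = b ≫ pullback.fst f i := by
      simp only [a, b, Category.assoc, pullback.condition]
    let e₁ := Spec.preimage (a ≫ pullback.snd f i)
    let e₂ := Spec.preimage (b ≫ pullback.snd f i)
    have he : CommRingCat.ofHom (algebraMap k (AlgebraicClosure k)) ≫ e₁ = CommRingCat.ofHom (algebraMap k (AlgebraicClosure k)) ≫ e₂ := by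
      apply Spec.map_injective
      simp only [e₁, e₂, Spec.map_comp, Spec.map_preimage, Category.assoc]
      rw [hi, ← pullback.condition, ← Category.assoc a, hab, Category.assoc]
    obtain ⟨γ, hγ⟩ := exists_gal e₁.hom e₂.hom congr($(he).hom)
    have hγ' : CommRingCat.ofHom (γ : AlgebraicClosure k →+* AlgebraicClosure k) ≫ e₁ = e₂ := CommRingCat.hom_ext hγ
    refine ⟨γ, ?_⟩
    have key : a ≫ τ γ = b := by
      refine pullback.hom_ext (by rw [Category.assoc, hτ1, hab]) ?_
      rw [Category.assoc, hτ2, ← Category.assoc]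
      have h1 := congrArg Spec.map hγ'
      simp only [Spec.map_comp, e₁, e₂, Spec.map_preimage] at h1
      exact h1
    have := congrArg (fun q => q.base pt) key
    simp only [a, b, Scheme.Hom.comp_apply, hg] at this
    erw [hzx, hzy] at this
    exact this
  · rw [← hσ, ← Scheme.Hom.comp_apply, hτ1]

end Groth.Agent.S13071
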