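import Groth.Statements.S13072
import Groth.Agent.S13071


set_option autoImplicit false
universe u
open CategoryTheory AlgebraicGeometry Limits
open Zeta

namespace Groth.Agent.S13072

open CategoryTheory CategoryTheory.Limits AlgebraicGeometry

open Groth.Agent
set_option backward.isDefEq.respectTransparency false
set_option backward.defeqAttrib.useBackward true
set_option linter.style.haveILetI false

/-- On a finite subextension every Galois element is a power of Frobenius. -/
theorem exists_pow {k : Type u} [Field k] [Finite k] (E : IntermediateField k (AlgebraicClosure k))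
    [FiniteDimensional k E] (σ : AlgebraicClosure k ≃ₐ[k] AlgebraicClosure k) :
    ∃ n : ℕ, ∀ x ∈ E, σ x = x ^ (Nat.card k) ^ n := by
  haveI := Fintype.ofFinite k
  haveI : Finite E := Module.finite_of_finite k
  obtain ⟨n, hn⟩ := (FiniteField.bijective_frobeniusAlgEquivOfAlgebraic_pow k E).2 (σ.restrictNormal E)
  refine ⟨n.1, fun x hx => ?_⟩
  have h1 := σ.restrictNormal_commutes E ⟨x, hx⟩
  rw [← hn] at h1
  rw [Nat.card_eq_fintype_card]
  refine Eq.trans h1.symm ?_
  simp [AlgEquiv.coe_pow, FiniteField.coe_frobeniusAlgEquivOfAlgebraic, pow_iterate]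

theorem exists_iterate {k : Type u} [Field k] [Finite k]
    {X : Scheme.{u}} (f : X ⟶ Spec (CommRingCat.of k)) [LocallyOfFiniteType f] [QuasiCompact f]
    (FX : X ⟶ X) (hle : ∀ U : X.Opens, U ≤ FX ⁻¹ᵁ U)
    (hFapp : ∀ (U : X.Opens) (s : Γ(X, U)), (FX.appLE U U (hle U)).hom s = s ^ Nat.card k)
    (F : FinFr.ext (AlgebraicClosure k) f ⟶ FinFr.ext (AlgebraicClosure k) f)
    (hF1 : F ≫ FinFr.extπ (AlgebraicClosure k) f = FinFr.extπ (AlgebraicClosure k) f ≫ FX)
    (hF2 : F ≫ FinFr.extStr (AlgebraicClosure k) f = FinFr.extStr (AlgebraicClosure k) f)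
    (x y : ↥(FinFr.ext (AlgebraicClosure k) f)) (hx : IsClosed ({x} : Set ↥(FinFr.ext (AlgebraicClosure k) f)))
    (hxy : FinFr.extπ (AlgebraicClosure k) f x = FinFr.extπ (AlgebraicClosure k) f y) :
    ∃ n : ℕ, (⇑F.base)^[n] x = y := by
  haveI : PerfectField k := inferInstance
  let K := AlgebraicClosure k
  obtain ⟨σ, hσ⟩ := (S13071.result f (fun σ => FinFr.galAct f σ) (fun σ => FinFr.galAct_fst f σ)
    (fun σ => FinFr.galAct_snd f σ) x y).1 hxy
  let p := pointOfClosedPoint (FinFr.extStr K f) x hx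
  have hp : p ≫ FinFr.extStr K f = 𝟙 _ := pointOfClosedPoint_comp _ _ _
  let a := p ≫ FinFr.extπ K f
  let pt : Spec (CommRingCat.of K) := IsLocalRing.closedPoint K
  obtain ⟨U, hU, haU, -⟩ := exists_isAffineOpen_mem_and_subset (X := X) (x := a pt) (U := ⊤) trivial
  haveI : Subsingleton (Spec (CommRingCat.of K)) := inferInstanceAs (Subsingleton (PrimeSpectrum K))
  have hrange : Set.range a ⊆ Set.range hU.fromSpec := by
    rintro _ ⟨q, rfl⟩
    rw [hU.range_fromSpec, Subsingleton.elim q pt]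
    exact haU
  let α : Γ(X, U) ⟶ CommRingCat.of K := Spec.preimage (IsOpenImmersion.lift hU.fromSpec a hrange)
  have hα : Spec.map α ≫ hU.fromSpec = a := by
    rw [Spec.map_preimage, IsOpenImmersion.lift_fac]
  haveI : LocallyOfFiniteType (FinFr.extStr K f) := inferInstance
  -- `α` is a map of `k`-algebras
  let ψ : k →+* Γ(X, U) := (f.appLE ⊤ U le_top).hom.comp (Scheme.ΓSpecIso (CommRingCat.of k)).inv.hom
  have hψ : ψ.FiniteType := RingHom.finiteType_respectsIso.2 _
    (Scheme.ΓSpecIso (CommRingCat.of k)).symm.commRingCatIsoToRingEquiv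
    (HasRingHomProperty.appLE (P := @LocallyOfFiniteType) f inferInstance ⟨⊤, isAffineOpen_top _⟩ ⟨U, hU⟩ le_top)
  have hψα : α.hom.comp ψ = algebraMap k K := by
    have h1 : a ≫ f = Spec.map (CommRingCat.ofHom (algebraMap k K)) := by
      show (p ≫ pullback.fst f _) ≫ f = _
      rw [Category.assoc, pullback.condition, reassoc_of% hp]
    rw [← hα, Category.assoc, ← IsAffineOpen.SpecMap_appLE_fromSpec f (isAffineOpen_top _) hU le_top,
      ← Spec.map_comp_assoc, IsAffineOpen.fromSpec_top, Scheme.isoSpec_Spec_inv, ← Spec.map_comp] at h1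
    exact congrArg CommRingCat.Hom.hom (Spec.map_injective h1)
  letI := ψ.toAlgebra
  let αA : Γ(X, U) →ₐ[k] K := { α.hom with commutes' := fun c => congr($hψα c) }
  haveI : Algebra.FiniteType k Γ(X, U) := hψ
  obtain ⟨gens, hgens⟩ := ‹Algebra.FiniteType k Γ(X, U)›.out
  haveI : Finite ↥(αA '' (gens : Set Γ(X, U))) := (gens.finite_toSet.image _).to_subtype
  let E := IntermediateField.adjoin k (αA '' (gens : Set Γ(X, U)))
  haveI : FiniteDimensional k E := IntermediateField.finiteDimensional_adjoin fun z _ =>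
    (AlgebraicClosure.isAlgebraic k).isAlgebraic z |>.isIntegral
  have hE : ∀ s, α.hom s ∈ E := fun s => by
    have h1 : αA s ∈ (Algebra.adjoin k (gens : Set Γ(X, U))).map αA := ⟨s, hgens ▸ Algebra.mem_top, rfl⟩
    rw [AlgHom.map_adjoin] at h1
    exact IntermediateField.algebra_adjoin_le_adjoin k _ h1
  obtain ⟨n, hn⟩ := exists_pow E σ.symm
  have key : ∀ m : ℕ, ∃ (q : Spec (CommRingCat.of K) ⟶ FinFr.ext K f) (β : Γ(X, U) ⟶ CommRingCat.of K),
      q ≫ FinFr.extStr K f = 𝟙 _ ∧ q pt = (⇑F.base)^[m] x ∧ Spec.map β ≫ hU.fromSpec = q ≫ FinFr.extπ K f ∧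
        ∀ s, β.hom s = α.hom s ^ (Nat.card k) ^ m := by
    intro m
    induction m with
    | zero => exact ⟨p, α, hp, pointOfClosedPoint_apply _ _ _ _, hα, fun s => by simp⟩
    | succ m ih =>
      obtain ⟨q, β, h1, h2, h3, h4⟩ := ih
      refine ⟨q ≫ F, FX.appLE U U (hle U) ≫ β, by rw [Category.assoc, hF2, h1], ?_, ?_, fun s => ?_⟩
      · rw [Function.iterate_succ_apply', ← h2]; rfl
      · rw [Spec.map_comp, Category.assoc, IsAffineOpen.SpecMap_appLE_fromSpec FX hU hU (hle U), reassoc_of% h3,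
          Category.assoc, hF1]
      · rw [CommRingCat.comp_apply, hFapp, map_pow, h4, pow_succ, pow_mul]
  obtain ⟨q, β, h1, h2, h3, h4⟩ := key n
  refine ⟨n, ?_⟩
  rw [← h2, ← hσ]
  let q' : Spec (CommRingCat.of K) ⟶ FinFr.ext K f :=
    Spec.map (CommRingCat.ofHom (σ.symm : K →+* K)) ≫ p ≫ FinFr.galAct f σ
  have hq : q = q' := by
    refine pullback.hom_ext ?_ ?_
    · have hβ : β = α ≫ CommRingCat.ofHom (σ.symm : K →+* K) := CommRingCat.hom_ext (RingHom.ext fun s => by
        rw [h4]; exact (hn _ (hE s)).symm)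
      show q ≫ FinFr.extπ K f = q' ≫ FinFr.extπ K f
      rw [← h3, hβ, Spec.map_comp, Category.assoc, hα]
      simp only [q', a, Category.assoc, FinFr.galAct_fst]
    · show q ≫ FinFr.extStr K f = q' ≫ FinFr.extStr K f
      rw [h1]
      simp only [q', Category.assoc, FinFr.galAct_snd, reassoc_of% hp]
      rw [← Spec.map_comp, ← Spec.map_id]
      exact congrArg Spec.map (CommRingCat.hom_ext (RingHom.ext fun c => (σ.symm_apply_apply c).symm))
  rw [hq]
  show FinFr.galAct f σ (p _) = _
  rw [pointOfClosedPoint_apply]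


/-- Case r = 1, to which the general case reduces by passing to X ×_k F_{q^r}. Let X be a variety over k
= F_q, k̄ an algebraic closure and F = Frob_{X,q} × id the induced endomorphism of X_{k̄}. A closed
subset W ⊆ X_{k̄} is of the form Y_{k̄} for a closed Y ⊆ X (i.e. W = π⁻¹(Y), π the projection) if
and only if F(W) ⊆ W. Stated for schemes of finite type over k; F_X is pinned as the endomorphism
that is the identity on points and the q-th power on sections, F by F ≫ pr_1 = pr_1 ≫ F_X and F ≫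
pr_2 = pr_2. -/
theorem result {k : Type u} [Field k] [Finite k]
    {X : Scheme.{u}} (f : X ⟶ Spec (CommRingCat.of k)) [LocallyOfFiniteType f] [QuasiCompact f]
    (FX : X ⟶ X) (hFb : FX.base = 𝟙 _) (hle : ∀ U : X.Opens, U ≤ FX ⁻¹ᵁ U)
    (hFapp : ∀ (U : X.Opens) (s : Γ(X, U)), (FX.appLE U U (hle U)).hom s = s ^ Nat.card k)
    (F : FinFr.ext (AlgebraicClosure k) f ⟶ FinFr.ext (AlgebraicClosure k) f)
    (hF1 : F ≫ FinFr.extπ (AlgebraicClosure k) f = FinFr.extπ (AlgebraicClosure k) f ≫ FX)
    (hF2 : F ≫ FinFr.extStr (AlgebraicClosure k) f = FinFr.extStr (AlgebraicClosure k) f)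
    (W : Set ↑(FinFr.ext (AlgebraicClosure k) f)) (hW : IsClosed W) :
    (∃ Y : Set X, IsClosed Y ∧ (FinFr.extπ (AlgebraicClosure k) f).base ⁻¹' Y = W) ↔
      F.base '' W ⊆ W := by
  let π := FinFr.extπ (AlgebraicClosure k) f
  constructor
  · rintro ⟨Y, -, rfl⟩ _ ⟨x, hx, rfl⟩
    have h1 : π (F x) = FX (π x) := by rw [← Scheme.Hom.comp_apply, hF1]; rfl
    have h2 : FX (π x) = π x := by rw [hFb]; rfl
    show π (F x) ∈ Y
    rw [h1, h2]
    exact hx
  · intro hFW
    haveI : IsIntegralHom (FinFr.specι k (AlgebraicClosure k)) :=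
      IsIntegralHom.SpecMap_iff.2 (algebraMap_isIntegral_iff.2 inferInstance)
    haveI : IsIntegralHom π := inferInstanceAs (IsIntegralHom (pullback.fst f _))
    have hclosed : IsClosedMap π.base := π.isClosedMap
    refine ⟨π.base '' W, hclosed _ hW, Set.Subset.antisymm ?_ fun x hx => ⟨x, hx, rfl⟩⟩
    haveI : JacobsonSpace ↥(FinFr.ext (AlgebraicClosure k) f) :=
      LocallyOfFiniteType.jacobsonSpace (FinFr.extStr (AlgebraicClosure k) f)
    by_contra hne
    obtain ⟨z, hz, hzW⟩ := Set.not_subset.1 hne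
    have hlc : IsLocallyClosed (π.base ⁻¹' (π.base '' W) ∩ Wᶜ) :=
      ((hclosed _ hW).preimage π.continuous).isLocallyClosed.inter hW.isOpen_compl.isLocallyClosed
    have hne' : (π.base ⁻¹' (π.base '' W) ∩ Wᶜ).Nonempty := ⟨z, hz, hzW⟩
    obtain ⟨y, ⟨hy, hyW⟩, hyc⟩ := nonempty_inter_closedPoints hne' hlc
    obtain ⟨w, hw, hwy⟩ := hy
    have hyc' : IsClosed ({π y} : Set X) := by
      simpa using hclosed _ (mem_closedPoints_iff.1 hyc)
    have hwne : (closure ({w} : Set _)).Nonempty := ⟨w, subset_closure (Set.mem_singleton w)⟩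
    obtain ⟨w', hw', hw'c⟩ := nonempty_inter_closedPoints hwne
      (isClosed_closure (s := ({w} : Set _))).isLocallyClosed
    have hw'W : w' ∈ W := closure_minimal (Set.singleton_subset_iff.2 hw) hW hw'
    have hπ : π w' = π y := by
      have h := (specializes_iff_mem_closure.2 hw').map π.continuous
      rw [show π.base w = π y from hwy] at h
      exact hyc'.closure_subset (specializes_iff_mem_closure.1 h)
    obtain ⟨n, hn⟩ := exists_iterate f FX hle hFapp F hF1 hF2 w' y (mem_closedPoints_iff.1 hw'c) hπ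
    refine hyW (hn ▸ ?_)
    clear hn
    induction n with
    | zero => exact hw'W
    | succ n ih =>
      rw [Function.iterate_succ_apply']
      exact hFW ⟨_, ih, rfl⟩

end Groth.Agent.S13072
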