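import Groth.Statements.S13075
import Mathlib.RingTheory.PowerSeries.Log
import Mathlib.RingTheory.PowerSeries.Derivative
import Mathlib.RingTheory.PowerSeries.Inverse

set_option autoImplicit false
open Zeta

namespace Groth.Agent.S13075

/-- For the formal power series exp(t) = ∑_{m ≥ 0} t^m / m! and log(1 + t) = ∑_{m ≥ 1} (−1)^{m+1} t^m /
m over ℚ, log(exp(u)) = u and exp(log(1 + u)) = 1 + u for every u ∈ tℚ⟦t⟧; stated for u = t (the
general case is obtained by substitution): substituting exp(t) − 1 into log(1 + ·) gives t, and
substituting log(1 + t) into exp gives 1 + t. -/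
theorem result :
    PowerSeries.subst (PowerSeries.exp ℚ - 1)
        (PowerSeries.mk fun m : ℕ => if m = 0 then (0 : ℚ) else (-1) ^ (m + 1) / (m : ℚ)) =
      PowerSeries.X ∧
    PowerSeries.subst (PowerSeries.mk fun m : ℕ => if m = 0 then (0 : ℚ) else (-1) ^ (m + 1) / (m : ℚ))
        (PowerSeries.exp ℚ) = 1 + PowerSeries.X := by
  set L : PowerSeries ℚ := PowerSeries.mk fun m : ℕ => if m = 0 then (0 : ℚ) else (-1) ^ (m + 1) / (m : ℚ)
  have hL : L = PowerSeries.log ℚ := PowerSeries.ext fun m => by
    rw [PowerSeries.coeff_mk, PowerSeries.coeff_log]; split_ifs <;> simp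
  rw [hL]
  clear_value L
  set geom : PowerSeries ℚ := PowerSeries.mk fun n => (-1 : ℚ) ^ n
  have hgeom : PowerSeries.derivative ℚ (PowerSeries.log ℚ) = geom := by
    rw [PowerSeries.deriv_log]
    exact PowerSeries.ext fun m => by simp [geom]
  have hg1 : geom * (1 + PowerSeries.X) = 1 := PowerSeries.ext fun m => by
    cases m with
    | zero => simp [geom]
    | succ m => simp [geom, mul_add, PowerSeries.coeff_succ_mul_X, pow_succ]
  have hlog : PowerSeries.HasSubst (PowerSeries.log ℚ) := PowerSeries.HasSubst.log
  have he : PowerSeries.HasSubst (PowerSeries.exp ℚ - 1) := PowerSeries.HasSubst.exp_sub_one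
  have hc : ∀ {g : PowerSeries ℚ} (_ : PowerSeries.HasSubst g) (_ : PowerSeries.constantCoeff g = 0) (f : PowerSeries ℚ),
      PowerSeries.constantCoeff (PowerSeries.subst g f) = PowerSeries.constantCoeff f := fun {g} hg hg0 f => by
    rw [← PowerSeries.coeff_zero_eq_constantCoeff_apply, PowerSeries.coeff_subst' hg, finsum_eq_single _ 0]
    · simp [PowerSeries.coeff_zero_eq_constantCoeff_apply]
    · intro d hd
      rw [PowerSeries.coeff_zero_eq_constantCoeff_apply, map_pow, hg0, zero_pow hd, smul_zero]
  constructor
  · refine PowerSeries.derivative.ext ?_ ?_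
    · rw [PowerSeries.derivative_subst he, hgeom, map_sub, Derivation.map_one_eq_zero, sub_zero,
        PowerSeries.derivative_exp, PowerSeries.derivative_X]
      have h := congrArg (PowerSeries.substAlgHom he) hg1
      simp only [map_mul, map_add, map_one, PowerSeries.substAlgHom_X, PowerSeries.coe_substAlgHom] at h
      rwa [add_sub_cancel] at h
    · rw [hc he (by simp) _, PowerSeries.constantCoeff_log, PowerSeries.constantCoeff_X]
  · set F := PowerSeries.subst (PowerSeries.log ℚ) (PowerSeries.exp ℚ)
    have hdF : PowerSeries.derivative ℚ F = F * geom := by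
      rw [PowerSeries.derivative_subst hlog, PowerSeries.derivative_exp, hgeom]
    have hone : F * geom = 1 := by
      refine PowerSeries.derivative.ext ?_ ?_
      · have hd := congrArg (PowerSeries.derivative ℚ) hg1
        rw [Derivation.leibniz, map_add, Derivation.map_one_eq_zero, zero_add, PowerSeries.derivative_X,
          smul_eq_mul, smul_eq_mul, mul_one] at hd
        rw [Derivation.leibniz, hdF, Derivation.map_one_eq_zero, smul_eq_mul, smul_eq_mul]
        linear_combination (F * geom) * hd - F * PowerSeries.derivative ℚ geom * hg1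
      · rw [map_mul, hc hlog (PowerSeries.constantCoeff_log) _, PowerSeries.constantCoeff_exp, one_mul,
          ← PowerSeries.coeff_zero_eq_constantCoeff_apply, PowerSeries.coeff_mk, pow_zero, map_one]
    calc F = F * (geom * (1 + PowerSeries.X)) := by rw [hg1, mul_one]
      _ = 1 + PowerSeries.X := by rw [← mul_assoc, hone, one_mul]

end Groth.Agent.S13075
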