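import Groth.Statements.S13076
import Groth.Agent.TwistShriek.SurfFibred
import Groth.Agent.TwistShriek.SurfCurve
import Groth.Agent.TwistShriek.SurfSections
import Groth.Agent.TwistShriek.NumBase
import Groth.Agent.CastLib.ExcBlowUp
import Groth.Agent.CurveFF.Duality
import Groth.Agent.VBLib.Point
import Groth.Agent.JacLib.IdealPull
import Groth.Agent.NakaiLib.HodgeProper
import Groth.Agent.ProdDim.Basic
import Groth.Agent.S1582

set_option backward.isDefEq.respectTransparency false
set_option maxHeartbeats 1000000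
set_option synthInstance.maxHeartbeats 200000
set_option linter.style.haveILetI false

set_option autoImplicit false
universe u
open CategoryTheory AlgebraicGeometry Limits
open Zeta

namespace Groth.Agent.S13076

section
open TopologicalSpace
open Groth.Agent Groth.Agent.TwistShriek
open Groth.Agent.Nakai (cl Aug cl_mem form)

variable (k : Type u) [Field k] {X : Scheme.{u}} [X.Over (Spec (CommRingCat.of k))]
  [IsProper (X ↘ Spec (CommRingCat.of k))] [IsIntegral X]

omit [IsIntegral X] in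
/-- Intersection with a curve as a degree. -/
theorem form_curve {C : Scheme.{u}} [C.Over (Spec (CommRingCat.of k))] [IsProper (C ↘ Spec (CommRingCat.of k))]
    (i : C ⟶ X) [IsClosedImmersion i] (hi : i ≫ (X ↘ Spec (CommRingCat.of k)) = C ↘ Spec (CommRingCat.of k))
    (hI : PicF.IsInvertible (ClSub.idealMod i.ker)) {M : X.Modules} (hM : PicF.IsInvertible M) :
    form k (cl hI) (cl hM) = - Curv2.deg k C ((Scheme.Modules.pullback i).obj M) 1 := by
  haveI := EulerIneqLib.isNoetherian_proper (X := X) k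
  haveI := EulerIneqLib.isNoetherian_proper (X := C) k
  haveI : Coh.IsQCoh (Coh.structureModule C) := (DevLib.isCoh_structureModule C).1
  obtain ⟨q⟩ := nonempty_quotMod_ker_iso i
  have h := pairing_quotMod_cl k hI (cl hM)
  rw [IntLib.pairing_iso k q, Nakai.pairing_push k i hi (DevLib.isCoh_structureModule C), Nakai.pullRing_cl,
    Nakai.pairing_cl, CurveLib.euler_iso (K := k) (AmpleLib.unitL _)] at h
  unfold Curv2.deg
  rw [Nat.cast_one, one_mul]
  linarith

/-- The ideal of a fibre over a rational point. -/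
theorem fibre_class [IsAlgClosed k] [Smooth (X ↘ Spec (CommRingCat.of k))] (hdim : topologicalKrullDim X = 2)
    {C D : Scheme.{u}} [IsIntegral C] (hC : topologicalKrullDim C = 1)
    [D.Over (Spec (CommRingCat.of k))] [IsProper (D ↘ Spec (CommRingCat.of k))] [IsIntegral D]
    [Smooth (D ↘ Spec (CommRingCat.of k))]
    (hD : topologicalKrullDim D = 1) (π : X ⟶ D) (i : C ⟶ X) [IsClosedImmersion i]
    (x : Spec (CommRingCat.of k) ⟶ D) (hx : x ≫ (D ↘ Spec (CommRingCat.of k)) = 𝟙 _)
    (c : C ⟶ Spec (CommRingCat.of k)) (sq : IsPullback i c π x) :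
    ∃ (P : D.Modules) (hP : PicF.IsInvertible P) (_ : PicF.IsInvertible (ClSub.idealMod i.ker)),
      Curv2.deg k D P 1 = -1 ∧ Nonempty ((Scheme.Modules.pullback π).obj P ≅ ClSub.idealMod i.ker) := by
  haveI := EulerIneqLib.isNoetherian_proper (X := X) k
  haveI := EulerIneqLib.isNoetherian_proper (X := D) k
  haveI : IsClosedImmersion x := JacLib.isClosedImmersion_of_section (D ↘ Spec (CommRingCat.of k)) x hx
  haveI : CompactSpace X := QuasiCompact.compactSpace_of_compactSpace (X ↘ Spec (CommRingCat.of k))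
  let p : D := x (default : Spec (CommRingCat.of k))
  have hrx : Set.range x = {p} := by
    ext y
    constructor
    · rintro ⟨a, rfl⟩
      rw [Subsingleton.elim a default]
      rfl
    · rintro rfl
      exact ⟨_, rfl⟩
  have hp : IsClosed ({p} : Set D) := hrx ▸ x.isClosedEmbedding.isClosed_range
  haveI := VBLib.isRegCurve_of_smooth k (X := D) hD.le
  obtain ⟨hP, hPdeg, -⟩ := VBLib.point_ideal k hD hp
  let P := Scheme.IdealSheafData.vanishingIdeal (⟨{p}, hp⟩ : Closeds D)
  haveI : IsIntegral P.subscheme := CurveLib.isIntegral_vanishingIdeal hp isIrreducible_singleton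
  have hker : x.ker = P := by
    rw [CastLib.ker_eq_of_range_eq x P.subschemeι (by
      rw [hrx, Scheme.IdealSheafData.range_subschemeι, Scheme.IdealSheafData.coe_support_vanishingIdeal]; rfl),
      Scheme.IdealSheafData.ker_subschemeι]
  have hik : i.ker = P.comap π := by
    rw [← hker, ← Scheme.IdealSheafData.ker_fst_of_isClosedImmersion x π, ← sq.isoPullback_hom_fst,
      Scheme.Hom.ker_comp_of_isIso]
  have hEc : BlowUp.IsEffCartierIdeal i.ker := isEffCartierIdeal_curve (X ↘ Spec (CommRingCat.of k)) hdim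
    (fun y => ASp.isRegularLocalRing_stalk_of_smooth_field (X ↘ Spec (CommRingCat.of k)) y) i hC
  have hE : PicF.IsInvertible (ClSub.idealMod i.ker) := (S8914.result _).2 hEc
  rw [hik] at hEc
  obtain ⟨e⟩ := JacLib.nonempty_iso_pullback_idealMod π P ((S8914.result P).1 hP) hEc
  exact ⟨_, hP, hE, hPdeg, ⟨e ≪≫ eqToIso (by rw [hik])⟩⟩

/-- Castelnuovo's inequality. -/
theorem castelnuovo [IsAlgClosed k] [Smooth (X ↘ Spec (CommRingCat.of k))] (hdim : topologicalKrullDim X = 2)
    {A B : Scheme.{u}} [A.Over (Spec (CommRingCat.of k))] [IsProper (A ↘ Spec (CommRingCat.of k))] [IsIntegral A] [Smooth (A ↘ Spec (CommRingCat.of k))]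
    (hA : topologicalKrullDim A = 1)
    [B.Over (Spec (CommRingCat.of k))] [IsProper (B ↘ Spec (CommRingCat.of k))] [IsIntegral B] [Smooth (B ↘ Spec (CommRingCat.of k))]
    (hB : topologicalKrullDim B = 1) (p : X ⟶ A) (q : X ⟶ B)
    (hp : p ≫ (A ↘ Spec (CommRingCat.of k)) = X ↘ Spec (CommRingCat.of k))
    (hq : q ≫ (B ↘ Spec (CommRingCat.of k)) = X ↘ Spec (CommRingCat.of k))
    (a : A ⟶ X) [IsClosedImmersion a] (b : B ⟶ X) [IsClosedImmersion b]
    (hap : a ≫ p = 𝟙 A) (hbq : b ≫ q = 𝟙 B)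
    (x : Spec (CommRingCat.of k) ⟶ A) (hx : x ≫ (A ↘ Spec (CommRingCat.of k)) = 𝟙 _)
    (y : Spec (CommRingCat.of k) ⟶ B) (hy : y ≫ (B ↘ Spec (CommRingCat.of k)) = 𝟙 _)
    (sqb : IsPullback b (B ↘ Spec (CommRingCat.of k)) p x) (sqa : IsPullback a (A ↘ Spec (CommRingCat.of k)) q y)
    {L : X.Modules} (hL : PicF.IsInvertible L) :
    form k (cl hL) (cl hL) ≤ 2 * Curv2.deg k A ((Scheme.Modules.pullback a).obj L) 1 *
        Curv2.deg k B ((Scheme.Modules.pullback b).obj L) 1 := by
  haveI := EulerIneqLib.isNoetherian_proper (X := X) k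
  haveI := EulerIneqLib.isNoetherian_proper (X := B) k
  have hd2 : topologicalKrullDim X = ((2 : ℕ) : WithBot ℕ∞) := by exact_mod_cast hdim
  have hbk : b ≫ (X ↘ Spec (CommRingCat.of k)) = B ↘ Spec (CommRingCat.of k) := by
    rw [← hq, ← Category.assoc, hbq, Category.id_comp]
  have hak : a ≫ (X ↘ Spec (CommRingCat.of k)) = A ↘ Spec (CommRingCat.of k) := by
    rw [← hp, ← Category.assoc, hap, Category.id_comp]
  obtain ⟨P, hP, hV, hPd, ⟨eV⟩⟩ := fibre_class k hdim hB hA p b x hx _ sqb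
  obtain ⟨Q, hQ, hW, hQd, ⟨eW⟩⟩ := fibre_class k hdim hA hB q a y hy _ sqa
  set v := cl hV
  set w := cl hW
  set l := cl hL
  set d₁ := Curv2.deg k A ((Scheme.Modules.pullback a).obj L) 1
  set d₂ := Curv2.deg k B ((Scheme.Modules.pullback b).obj L) 1
  have hvv : form k v v = 0 := by
    rw [show v = cl (AmpleLib.isInvertible_pullback p hP) from Nakai.cl_congr hV _ eV.symm]
    exact form_pullback_curve k hdim hA.le p hp hP hP
  have hww : form k w w = 0 := by
    rw [show w = cl (AmpleLib.isInvertible_pullback q hQ) from Nakai.cl_congr hW _ eW.symm]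
    exact form_pullback_curve k hdim hB.le q hq hQ hQ
  have hvw : form k v w = 1 := by
    have e : (Scheme.Modules.pullback b).obj (ClSub.idealMod a.ker) ≅ Q :=
      (Scheme.Modules.pullback b).mapIso eW.symm ≪≫ (Scheme.Modules.pullbackComp b q).app _ ≪≫
        eqToIso (by rw [hbq]) ≪≫ (Scheme.Modules.pullbackId B).app _
    rw [form_curve k b hbk hV hW, CurveLib.deg_iso (k := k) e 1, hQd, neg_neg]
  have hvl : form k v l = -d₂ := form_curve k b hbk hV hL
  have hwl : form k w l = -d₁ := form_curve k a hak hW hL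
  set u := l + d₁ • v + d₂ • w
  have hu : u ∈ Aug X := Ideal.add_mem _ (Ideal.add_mem _ (cl_mem hL) (Submodule.smul_of_tower_mem _ _ (cl_mem hV)))
    (Submodule.smul_of_tower_mem _ _ (cl_mem hW))
  have hh : v + w ∈ Aug X := Ideal.add_mem _ (cl_mem hV) (cl_mem hW)
  have huv : form k u v = 0 := by
    simp only [u, Nakai.form_add_left, Nakai.form_smul_left, hvv, Nakai.form_comm k w v, hvw, Nakai.form_comm k l v, hvl]
    ring
  have huw : form k u w = 0 := by
    simp only [u, Nakai.form_add_left, Nakai.form_smul_left, hww, hvw, Nakai.form_comm k l w, hwl]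
    ring
  have huu : form k u u = form k l l - 2 * d₁ * d₂ := by
    conv_lhs => arg 3; rw [show u = l + d₁ • v + d₂ • w from rfl]
    rw [Nakai.form_add_right, Nakai.form_add_right, Nakai.form_smul_right, Nakai.form_smul_right, huv, huw]
    simp only [u, Nakai.form_add_left, Nakai.form_smul_left, hvl, hwl]
    ring
  suffices form k u u ≤ 0 by rw [huu] at this; linarith
  by_contra hpos
  push Not at hpos
  let ξ : X := b (genericPoint B)
  have hr : Set.range b = closure {ξ} := by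
    have h1 := (genericPoint_spec B).image b.continuous
    rw [Set.image_univ, b.isClosedEmbedding.isClosed_range.closure_eq] at h1
    exact h1.def.symm
  have hξ : topologicalKrullDim (closure {ξ} : Set X) = ((1 : ℕ) : WithBot ℕ∞) := by
    rw [← hr]
    exact (b.isEmbedding.toHomeomorph.isHomeomorph.topologicalKrullDim_eq _).symm.trans (hB.trans Nat.cast_one.symm)
  let J := Scheme.IdealSheafData.vanishingIdeal (⟨closure {ξ}, isClosed_closure⟩ : Closeds X)
  haveI : IsIntegral J.subscheme := CurveLib.isIntegral_vanishingIdeal isClosed_closure isIrreducible_singleton.closure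
  have hJ : b.ker = J := by
    rw [CastLib.ker_eq_of_range_eq b J.subschemeι (by
      rw [hr, Scheme.IdealSheafData.range_subschemeι, Scheme.IdealSheafData.coe_support_vanishingIdeal]; rfl),
      Scheme.IdealSheafData.ker_subschemeι]
  have h0 := Nakai.hodge_proper k hd2 hh hu hpos
    (by rw [Nakai.form_add_left, Nakai.form_comm k v, huv, Nakai.form_comm k w, huw, add_zero])
    (by simp only [Nakai.form_add_left, Nakai.form_add_right, hvv, hww, hvw, Nakai.form_comm k w v]; norm_num) hξ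
  change IntLib.pairing k (ClSub.quotMod J) (v + w) = 0 at h0
  rw [← hJ, pairing_quotMod_cl k hV, Nakai.form_add_right, hvv, hvw] at h0
  norm_num at h0

end

/-- Take smooth proper curves C₁ and C₂ over an algebraically closed field k, S = C₁ × C₂, ℓ₁ = C₁ × pt
and ℓ₂ = pt × C₂. Then (D²) ≤ 2 (D · ℓ₁)(D · ℓ₂) for every divisor D on S. Stated for an invertible
module L with an inverse M: (L · L) is the intersection number of M, M with O_S (alternating sum of
Euler characteristics, cohomology up to degree 2), and (L · ℓ₁), (L · ℓ₂) are the degrees of the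
restrictions of L along the sections i₁ : C₁ → S, i₂ : C₂ → S through k-rational points y of C₂ and
x of C₁, pinned by their composites with the two projections. -/
theorem result (k : Type u) [Field k]
    [IsAlgClosed k] (C₁ C₂ : Scheme.{u}) [C₁.Over (Spec (CommRingCat.of k))]
    [C₂.Over (Spec (CommRingCat.of k))]
    (h₁ : Curve.IsSmoothProperCurve k C₁ (C₁ ↘ Spec (CommRingCat.of k)))
    (h₂ : Curve.IsSmoothProperCurve k C₂ (C₂ ↘ Spec (CommRingCat.of k)))
    (x : Spec (CommRingCat.of k) ⟶ C₁) (hx : x ≫ (C₁ ↘ Spec (CommRingCat.of k)) = 𝟙 _)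
    (y : Spec (CommRingCat.of k) ⟶ C₂) (hy : y ≫ (C₂ ↘ Spec (CommRingCat.of k)) = 𝟙 _)
    (i₁ : C₁ ⟶ pullback (C₁ ↘ Spec (CommRingCat.of k)) (C₂ ↘ Spec (CommRingCat.of k)))
    (hi₁ : i₁ ≫ pullback.fst _ _ = 𝟙 C₁ ∧ i₁ ≫ pullback.snd _ _ = (C₁ ↘ Spec (CommRingCat.of k)) ≫ y)
    (i₂ : C₂ ⟶ pullback (C₁ ↘ Spec (CommRingCat.of k)) (C₂ ↘ Spec (CommRingCat.of k)))
    (hi₂ : i₂ ≫ pullback.snd _ _ = 𝟙 C₂ ∧ i₂ ≫ pullback.fst _ _ = (C₂ ↘ Spec (CommRingCat.of k)) ≫ x)
    (L M : (pullback (C₁ ↘ Spec (CommRingCat.of k)) (C₂ ↘ Spec (CommRingCat.of k))).Modules)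
    (hL : PicF.IsInvertible L)
    (hM : Nonempty (CohB1.tensorMod L M ≅ Coh.structureModule _)) :
    letI : (pullback (C₁ ↘ Spec (CommRingCat.of k)) (C₂ ↘ Spec (CommRingCat.of k))).Over
        (Spec (CommRingCat.of k)) := ⟨pullback.fst _ _ ≫ (C₁ ↘ Spec (CommRingCat.of k))⟩
    FGA.intNum k (pullback (C₁ ↘ Spec (CommRingCat.of k)) (C₂ ↘ Spec (CommRingCat.of k))) 2 ![M, M]
        (Coh.structureModule _) ≤
      2 * Curv2.deg k C₁ ((Scheme.Modules.pullback i₁).obj L) 1 *
        Curv2.deg k C₂ ((Scheme.Modules.pullback i₂).obj L) 1 := by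
  letI : (pullback (C₁ ↘ Spec (CommRingCat.of k)) (C₂ ↘ Spec (CommRingCat.of k))).Over
      (Spec (CommRingCat.of k)) := ⟨pullback.fst _ _ ≫ (C₁ ↘ Spec (CommRingCat.of k))⟩
  obtain ⟨hp₁, hs₁, hi₁', hd₁⟩ := h₁
  obtain ⟨hp₂, hs₂, hi₂', hd₂⟩ := h₂
  haveI : IsProper (pullback (C₁ ↘ Spec (CommRingCat.of k)) (C₂ ↘ Spec (CommRingCat.of k)) ↘ Spec (CommRingCat.of k)) :=
    inferInstanceAs (IsProper (pullback.fst _ _ ≫ (C₁ ↘ Spec (CommRingCat.of k))))
  haveI : Smooth (pullback (C₁ ↘ Spec (CommRingCat.of k)) (C₂ ↘ Spec (CommRingCat.of k)) ↘ Spec (CommRingCat.of k)) :=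
    inferInstanceAs (Smooth (pullback.fst _ _ ≫ (C₁ ↘ Spec (CommRingCat.of k))))
  haveI := Groth.Agent.S1582.result k C₁ C₂ (C₁ ↘ Spec (CommRingCat.of k)) (C₂ ↘ Spec (CommRingCat.of k))
  have hdim : topologicalKrullDim ↥(pullback (C₁ ↘ Spec (CommRingCat.of k)) (C₂ ↘ Spec (CommRingCat.of k))) = 2 := by
    rw [Groth.Agent.ProdDim.topologicalKrullDim_pullback, hd₁, hd₂]; exact one_add_one_eq_two
  haveI : IsClosedImmersion i₁ := Groth.Agent.JacLib.isClosedImmersion_of_section (pullback.fst _ _) i₁ hi₁.1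
  haveI : IsClosedImmersion i₂ := Groth.Agent.JacLib.isClosedImmersion_of_section (pullback.snd _ _) i₂ hi₂.1
  haveI := EulerIneqLib.isNoetherian_proper
    (X := pullback (C₁ ↘ Spec (CommRingCat.of k)) (C₂ ↘ Spec (CommRingCat.of k))) k
  obtain ⟨eM⟩ := hM
  have hM' : PicF.IsInvertible M := Groth.Agent.AmpleLib.isInvertible_of_tensor_iso (Groth.Agent.AmpleLib.comm _ _ ≪≫ eM)
  have hsnd : pullback.snd (C₁ ↘ Spec (CommRingCat.of k)) (C₂ ↘ Spec (CommRingCat.of k)) ≫ (C₂ ↘ Spec (CommRingCat.of k)) =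
      pullback.fst _ _ ≫ (C₁ ↘ Spec (CommRingCat.of k)) := pullback.condition.symm
  have sqb : IsPullback i₂ (C₂ ↘ Spec (CommRingCat.of k)) (pullback.fst _ _) x :=
    IsPullback.of_right (by rw [hi₂.1, hx]; exact IsPullback.of_horiz_isIso ⟨by simp⟩) hi₂.2
      (IsPullback.of_hasPullback (C₁ ↘ Spec (CommRingCat.of k)) (C₂ ↘ Spec (CommRingCat.of k))).flip
  have sqa : IsPullback i₁ (C₁ ↘ Spec (CommRingCat.of k)) (pullback.snd _ _) y :=
    IsPullback.of_right (by rw [hi₁.1, hy]; exact IsPullback.of_horiz_isIso ⟨by simp⟩) hi₁.2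
      (IsPullback.of_hasPullback (C₁ ↘ Spec (CommRingCat.of k)) (C₂ ↘ Spec (CommRingCat.of k)))
  rw [Groth.Agent.TwistShriek.intNum_eq_form k (by exact_mod_cast hdim.le) hM' hM']
  have h := castelnuovo k hdim hd₁ hd₂ (pullback.fst _ _) (pullback.snd _ _) rfl hsnd i₁ i₂ hi₁.1 hi₂.1 x hx y hy
    sqb sqa hL
  rw [Groth.Agent.TwistShriek.form_inverse k hdim hM' hL (Groth.Agent.AmpleLib.comm _ _ ≪≫ eM) (Groth.Agent.Nakai.cl_mem _),
    Groth.Agent.Nakai.form_comm k, Groth.Agent.TwistShriek.form_inverse k hdim hM' hL (Groth.Agent.AmpleLib.comm _ _ ≪≫ eM) (Groth.Agent.Nakai.cl_mem _), neg_neg]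
  exact h

end Groth.Agent.S13076
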