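import Groth.Statements.S13079
import Groth.Agent.QuotLib.FlatBC

set_option autoImplicit false
universe u
open CategoryTheory AlgebraicGeometry Limits
open Zeta

namespace Groth.Agent.S13079

open Groth.Agent

theorem tower {G H : Type u} [Group G] [Group H] {Z W Q : Scheme.{u}} {θ : G × H →* Aut Z} {σ' : H →* Aut W}
    {q1 : Z ⟶ W} {q2 : W ⟶ Q} (h1 : SGA1.IsQuot (θ.comp (MonoidHom.inl G H)) q1) (h2 : SGA1.IsQuot σ' q2)
    (hc : ∀ h, (θ (1, h)).hom ≫ q1 = q1 ≫ (σ' h).hom) (hinv : ∀ gh, (θ gh).hom ≫ q1 ≫ q2 = q1 ≫ q2) :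
    SGA1.IsQuot θ (q1 ≫ q2) := by
  haveI := h1.affine
  haveI := h2.affine
  refine ⟨inferInstance, hinv, fun U a b hab => h2.injective U (h1.injective _ ?_), fun U s => ⟨?_, ?_⟩⟩
  · simp only [Scheme.Hom.comp_app] at hab; exact hab
  · rintro ⟨u, rfl⟩ gh
    have h3 : ∀ (k : Z ⟶ Q) (hk : k = q1 ≫ q2) (e : (q1 ≫ q2) ⁻¹ᵁ U ≤ k ⁻¹ᵁ U),
        k.appLE U ((q1 ≫ q2) ⁻¹ᵁ U) e = (q1 ≫ q2).app U := by
      rintro k rfl e; rw [Scheme.Hom.appLE_eq_app]
    rw [← CommRingCat.comp_apply, Scheme.Hom.app_eq_appLE, Scheme.Hom.appLE_comp_appLE, h3 _ (hinv gh),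
      Scheme.Hom.appLE_eq_app]
  · intro hs
    obtain ⟨t, ht⟩ := (h1.range_iff (q2 ⁻¹ᵁ U) s).2 fun g => hs (g, 1)
    have hfix : ∀ h, ((σ' h).hom.appLE (q2 ⁻¹ᵁ U) (q2 ⁻¹ᵁ U) (SGA1.preimage_le_of_inv σ' q2 h2.inv h U)).hom t = t := fun h => by
      refine h1.injective _ ?_
      conv_rhs => rw [ht, ← hs (1, h), ← ht]
      show ((σ' h).hom.appLE (q2 ⁻¹ᵁ U) (q2 ⁻¹ᵁ U) (SGA1.preimage_le_of_inv σ' q2 h2.inv h U) ≫ q1.app (q2 ⁻¹ᵁ U)).hom t =
        (q1.app (q2 ⁻¹ᵁ U) ≫ (θ (1, h)).hom.appLE (q1 ⁻¹ᵁ (q2 ⁻¹ᵁ U)) (q1 ⁻¹ᵁ (q2 ⁻¹ᵁ U)) (SGA1.preimage_le_of_inv θ _ hinv (1, h) U)).hom t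
      simp only [Scheme.Hom.app_eq_appLE, Scheme.Hom.appLE_comp_appLE]
      have h4 : ∀ (k k' : Z ⟶ W) (hk : k = k') (V : Z.Opens) (e : V ≤ k ⁻¹ᵁ (q2 ⁻¹ᵁ U)) (e' : V ≤ k' ⁻¹ᵁ (q2 ⁻¹ᵁ U)),
          k.appLE _ V e = k'.appLE _ V e' := by rintro k k' rfl V e e'; rfl
      exact congrArg (fun φ => φ.hom t) ((h4 _ _ (hc h).symm (q1 ⁻¹ᵁ (q2 ⁻¹ᵁ U)) _ _).trans
        (Scheme.Hom.appLE_comp_appLE (θ (1, h)).hom q1 _ _ _ le_rfl _).symm)
    obtain ⟨u, hu⟩ := (h2.range_iff U t).2 hfix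
    refine ⟨u, ?_⟩
    rw [← ht, ← hu, Scheme.Hom.comp_app]
    rfl

/-- Suppose the finite groups G and H act by algebraic k-automorphisms on schemes X and Y of finite type
over k, both admitting quotients X → X/G and Y → Y/H (equivalently, covered by invariant affine
opens). Then X × Y has the same property for the product action of G × H and (X × Y)/(G × H) ≅ X/G ×
Y/H: the morphism X ×_k Y → X/G ×_k Y/H with components the two quotient maps is a quotient for the
product action. The product action θ and that morphism π are pinned by their composites with the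
projections. -/
theorem result {k : Type u} [Field k] {G H : Type u} [Group G] [Finite G] [Group H]
    [Finite H] {X Y XG YH : Scheme.{u}} (fX : X ⟶ Spec (CommRingCat.of k))
    (fY : Y ⟶ Spec (CommRingCat.of k)) [LocallyOfFiniteType fX] [QuasiCompact fX]
    [LocallyOfFiniteType fY] [QuasiCompact fY] (gX : XG ⟶ Spec (CommRingCat.of k))
    (gY : YH ⟶ Spec (CommRingCat.of k)) (ρ : G →* Aut X) (σ : H →* Aut Y)
    (hρ : ∀ g, (ρ g).hom ≫ fX = fX) (hσ : ∀ h, (σ h).hom ≫ fY = fY)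
    (p : X ⟶ XG) (hp : p ≫ gX = fX) (q : Y ⟶ YH) (hq : q ≫ gY = fY)
    (hP : SGA1.IsQuot ρ p) (hQ : SGA1.IsQuot σ q)
    (θ : G × H →* Aut (pullback fX fY))
    (hθ1 : ∀ gh : G × H, (θ gh).hom ≫ pullback.fst fX fY = pullback.fst fX fY ≫ (ρ gh.1).hom)
    (hθ2 : ∀ gh : G × H, (θ gh).hom ≫ pullback.snd fX fY = pullback.snd fX fY ≫ (σ gh.2).hom)
    (π : pullback fX fY ⟶ pullback gX gY) (hπ1 : π ≫ pullback.fst gX gY = pullback.fst fX fY ≫ p)
    (hπ2 : π ≫ pullback.snd gX gY = pullback.snd fX fY ≫ q) :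
    SGA1.IsQuot θ π := by
  haveI : Flat fY := inferInstance
  haveI : Flat gX := inferInstance
  let q1 : pullback fX fY ⟶ pullback gX fY := pullback.lift (pullback.fst fX fY ≫ p) (pullback.snd fX fY)
    (by rw [Category.assoc, hp, pullback.condition])
  let q2 : pullback gX fY ⟶ pullback gX gY := pullback.lift (pullback.fst gX fY) (pullback.snd gX fY ≫ q)
    (by rw [Category.assoc, hq, pullback.condition])
  have hσ' : ∀ h, pullback.fst gX fY ≫ gX = (pullback.snd gX fY ≫ (σ h).hom) ≫ fY := fun h => by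
    rw [Category.assoc, hσ, pullback.condition]
  let s : H → (pullback gX fY ⟶ pullback gX fY) := fun h => pullback.lift (pullback.fst gX fY) (pullback.snd gX fY ≫ (σ h).hom) (hσ' h)
  have hs1 : ∀ h, s h ≫ pullback.fst gX fY = pullback.fst gX fY := fun h => pullback.lift_fst _ _ _
  have hs2 : ∀ h, s h ≫ pullback.snd gX fY = pullback.snd gX fY ≫ (σ h).hom := fun h => pullback.lift_snd _ _ _
  have hsone : s 1 = 𝟙 _ := by
    refine pullback.hom_ext (by rw [hs1, Category.id_comp]) ?_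
    rw [hs2, map_one, Category.id_comp]
    exact Category.comp_id _
  have hsmul : ∀ a b, s (a * b) = s b ≫ s a := fun a b => by
    refine pullback.hom_ext (by rw [Category.assoc, hs1, hs1, hs1]) ?_
    rw [Category.assoc, hs2, hs2, ← Category.assoc, hs2, Category.assoc, map_mul]
    rfl
  let σ' : H →* Aut (pullback gX fY) :=
    { toFun := fun h => ⟨s h, s h⁻¹, by rw [← hsmul, inv_mul_cancel, hsone], by rw [← hsmul, mul_inv_cancel, hsone]⟩
      map_one' := Iso.ext hsone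
      map_mul' := fun a b => Iso.ext (hsmul a b) }
  have e1 : q1 ≫ pullback.fst gX fY = pullback.fst fX fY ≫ p := pullback.lift_fst _ _ _
  have e2 : q1 ≫ pullback.snd gX fY = pullback.snd fX fY := pullback.lift_snd _ _ _
  have e3 : q2 ≫ pullback.fst gX gY = pullback.fst gX fY := pullback.lift_fst _ _ _
  have e4 : q2 ≫ pullback.snd gX gY = pullback.snd gX fY ≫ q := pullback.lift_snd _ _ _
  have hc1 : IsPullback (pullback.fst fX fY) q1 p (pullback.fst gX fY) := by
    refine IsPullback.of_bot ?_ e1.symm (IsPullback.of_hasPullback gX fY)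
    rw [hp, e2]
    exact IsPullback.of_hasPullback fX fY
  have hc2 : IsPullback (pullback.snd gX fY) q2 q (pullback.snd gX gY) := by
    refine IsPullback.of_bot ?_ e4.symm (IsPullback.of_hasPullback gX gY).flip
    rw [hq, e3]
    exact (IsPullback.of_hasPullback gX fY).flip
  have hQ1 : SGA1.IsQuot (θ.comp (MonoidHom.inl G H)) q1 := QuotLib.isQuot_of_isPullback_flat hP hc1 _
    (fun a => hθ1 (a, 1)) (fun a => by
      refine pullback.hom_ext ?_ ?_
      · rw [Category.assoc, e1, ← Category.assoc]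
        erw [hθ1 (a, 1)]
        rw [Category.assoc, hP.inv]
      · rw [Category.assoc, e2]
        erw [hθ2 (a, 1)]
        rw [map_one]
        exact Category.comp_id _)
  have hQ2 : SGA1.IsQuot σ' q2 := QuotLib.isQuot_of_isPullback_flat hQ hc2 σ' hs2 (fun a => by
    refine pullback.hom_ext ?_ ?_
    · rw [Category.assoc, e3]; exact hs1 a
    · rw [Category.assoc, e4, ← Category.assoc]
      erw [hs2 a]
      rw [Category.assoc, hQ.inv])
  obtain rfl : π = q1 ≫ q2 := by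
    refine pullback.hom_ext ?_ ?_
    · rw [hπ1, Category.assoc, e3, e1]
    · rw [hπ2, Category.assoc, e4, ← Category.assoc, e2]
  refine tower hQ1 hQ2 (fun h => ?_) (fun gh => ?_)
  · refine pullback.hom_ext ?_ ?_
    · rw [Category.assoc, Category.assoc, e1]
      erw [hs1 h]
      rw [e1, ← Category.assoc, hθ1]
      simp only [map_one]
      rw [show (1 : Aut X).hom = 𝟙 X from rfl, Category.comp_id]
    · rw [Category.assoc, Category.assoc, e2, hθ2]
      erw [hs2 h]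
      rw [← Category.assoc, e2]
  · refine pullback.hom_ext ?_ ?_
    · rw [Category.assoc, hπ1, ← Category.assoc, hθ1, Category.assoc, hP.inv]
    · rw [Category.assoc, hπ2, ← Category.assoc, hθ2, Category.assoc, hQ.inv]

end Groth.Agent.S13079
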