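import Groth.Statements.S13080
import Groth.Agent.QuotLib.EtaleQuot

set_option autoImplicit false
universe u
open CategoryTheory AlgebraicGeometry Limits
open Zeta

namespace Groth.Agent.S13080

/-- Let G be a finite group acting by algebraic automorphisms over k on a scheme X of finite type over k
admitting a quotient p : X → X/G, H ⊆ G a subgroup and Y ⊆ X an open subset preserved by H such that
X is the disjoint union of the translates Y g over the cosets of G mod H. Then the natural morphism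
Y/H → X/G is an isomorphism: Y → X/G is a quotient of Y by H. The action of H on Y is pinned by
compatibility with the inclusion Y → X; the coset condition is stated as: the translates of Y cover
X, and g(Y) is disjoint from Y for g ∉ H. -/
theorem result {k : Type u} [Field k] {G : Type u} [Group G]
    [Finite G] {X XG : Scheme.{u}} (fX : X ⟶ Spec (CommRingCat.of k)) [LocallyOfFiniteType fX]
    [QuasiCompact fX] (ρ : G →* Aut X) (hρ : ∀ g, (ρ g).hom ≫ fX = fX) (p : X ⟶ XG)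
    (hP : SGA1.IsQuot ρ p) (H : Subgroup G) (Y : X.Opens)
    (hcov : ∀ x : X, ∃ g : G, x ∈ (ρ g).hom.base '' (Y : Set X))
    (hdisj : ∀ g : G, g ∉ H → Disjoint ((ρ g).hom.base '' (Y : Set X)) (Y : Set X))
    (ρY : H →* Aut (Y : Scheme.{u})) (hρY : ∀ h : H, (ρY h).hom ≫ Y.ι = Y.ι ≫ (ρ (h : G)).hom) :
    SGA1.IsQuot ρY (Y.ι ≫ p) := by
  haveI := hP.affine
  have hN : ∀ n : H, Y ≤ (ρ n).hom ⁻¹ᵁ Y := fun n z hz => by
    have e : Y.ι ((ρY n).hom ⟨z, hz⟩) = (ρ n).hom z :=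
      congrArg (fun a : (Y : Scheme.{u}) ⟶ X => a ⟨z, hz⟩) (hρY n)
    show (ρ n).hom z ∈ Y
    rw [← e]
    exact ((ρY n).hom ⟨z, hz⟩).2
  have hd : ∀ g : G, g ∉ H → ∀ z, z ∈ Y → (ρ g).hom z ∉ Y := fun g hg z hz h =>
    Set.disjoint_left.1 (hdisj g hg) ⟨z, hz, rfl⟩ h
  have hclosed : IsClosed (Y : Set X) := by
    refine ⟨?_⟩
    have : ((Y : Set X))ᶜ = ⋃ g ∈ {g : G | g ∉ H}, (ρ g).hom ⁻¹' (Y : Set X) := by
      refine Set.ext fun z => ⟨fun hz => ?_, fun hz => ?_⟩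
      · obtain ⟨g, w, hw, rfl⟩ := hcov z
        refine Set.mem_iUnion₂.2 ⟨g⁻¹, fun hg => hz ?_, ?_⟩
        · exact hN ⟨g, by simpa using H.inv_mem hg⟩ hw
        · show (ρ g⁻¹).hom ((ρ g).hom w) ∈ Y
          rw [← Scheme.Hom.comp_apply, Groth.Agent.QuotLib.comp_hom, inv_mul_cancel, Groth.Agent.QuotLib.hom_one]
          exact hw
      · obtain ⟨g, hg, hz⟩ := Set.mem_iUnion₂.1 hz
        exact fun hzY => hd g hg z hzY hz
    rw [this]
    exact isOpen_iUnion fun g => isOpen_iUnion fun _ => Y.2.preimage (ρ g).hom.continuous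
  haveI : IsClosedImmersion Y.ι := IsClosedImmersion.of_isPreimmersion _ (by rwa [Scheme.Opens.range_ι])
  have hinv : ∀ h : H, (ρY h).hom ≫ Y.ι ≫ p = Y.ι ≫ p := fun h => by
    rw [← Category.assoc, hρY, Category.assoc, hP.inv]
  refine Groth.Agent.QuotLib.isQuot_of_basis hinv Set.univ
    (TopologicalSpace.Opens.isBasis_iff_nbhd.2 fun {W} {x} hx => ⟨W, trivial, hx, le_rfl⟩) ?_ ?_
  all_goals intro V _
  all_goals
    let D : X.Opens := Y.ι ''ᵁ ((Y.ι ≫ p) ⁻¹ᵁ V)
    have hD : ∀ z, z ∈ D ↔ z ∈ Y ∧ p z ∈ V := fun z => by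
      constructor
      · rintro ⟨a, ha, rfl⟩
        exact ⟨a.2, ha⟩
      · rintro ⟨hz, hzV⟩
        exact ⟨⟨z, hz⟩, hzV, rfl⟩
    have hDW : D ≤ p ⁻¹ᵁ V := fun z hz => ((hD z).1 hz).2
    have hn : ∀ n : H, D ≤ (ρ n).hom ⁻¹ᵁ D := fun n z hz => (hD _).2 ⟨hN n ((hD z).1 hz).1, by
      rw [← Scheme.Hom.comp_apply, hP.inv]
      exact ((hD z).1 hz).2⟩
    have happ : (Y.ι ≫ p).app V = p.appLE V D hDW := by
      rw [Scheme.Hom.comp_app, Scheme.Opens.ι_app]
      rfl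
    have key := Groth.Agent.QuotLib.bij_appLE_of_translates hP V D hDW H hn
      (fun g hg z hz h => hd g hg z ((hD z).1 hz).1 ((hD _).1 h).1)
      (fun z hz => by
        obtain ⟨g, w, hw, rfl⟩ := hcov z
        refine ⟨g⁻¹, (hD _).2 ⟨?_, ?_⟩⟩
        · rw [← Scheme.Hom.comp_apply, Groth.Agent.QuotLib.comp_hom, inv_mul_cancel, Groth.Agent.QuotLib.hom_one]
          exact hw
        · rw [← Scheme.Hom.comp_apply _ p, hP.inv]
          exact hz)
  · rw [happ]
    exact key.1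
  · intro s hs
    obtain ⟨t, ht⟩ := key.2 s fun n => by
      have e : (ρY n).hom.appLE _ _ (SGA1.preimage_le_of_inv ρY (Y.ι ≫ p) hinv n V) = (ρ n).hom.appLE D D (hn n) := by
        have h2 : (ρY n).hom = (ρ n).hom.resLE Y Y (hN n) := by
          rw [← cancel_mono Y.ι, hρY, Scheme.Hom.resLE_comp_ι]
        have key2 : ∀ (a : (Y : Scheme.{u}) ⟶ (Y : Scheme.{u})) (_ : a = (ρ n).hom.resLE Y Y (hN n))
            (h1 : (Y.ι ≫ p) ⁻¹ᵁ V ≤ a ⁻¹ᵁ ((Y.ι ≫ p) ⁻¹ᵁ V)),
            a.appLE _ _ h1 = (ρ n).hom.appLE D D (hn n) := by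
          rintro a rfl h1
          rw [Scheme.Hom.resLE_appLE]
        exact key2 _ h2 _
      rw [← e]
      exact hs n
    exact ⟨t, by rw [happ]; exact ht⟩

end Groth.Agent.S13080
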