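import Groth.Statements.S13081
import Groth.Agent.QuotLib.Props
import Groth.Agent.QuotLib.Desc

set_option autoImplicit false
universe u
open CategoryTheory AlgebraicGeometry Limits
open Zeta

namespace Groth.Agent.S13081

open Groth.Agent

/-- Let G be a finite group acting by algebraic automorphisms over k on a scheme X of finite type over k
admitting a quotient X → X/G, and H a normal subgroup of G. Then X/H carries an induced action of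
G/H and its quotient by this action is X/G: the induced morphism r : X/H → X/G is a quotient of X/H
by G/H. The induced action ρ̄ is pinned by p_H ≫ ρ̄(ḡ) = ρ(g) ≫ p_H and r by p_H ≫ r = p. -/
theorem result {k : Type u} [Field k] {G : Type u} [Group G]
    [Finite G] {X XG XH : Scheme.{u}} (fX : X ⟶ Spec (CommRingCat.of k)) [LocallyOfFiniteType fX]
    [QuasiCompact fX] (ρ : G →* Aut X) (hρ : ∀ g, (ρ g).hom ≫ fX = fX) (p : X ⟶ XG)
    (hP : SGA1.IsQuot ρ p) (H : Subgroup G) [H.Normal] (pH : X ⟶ XH)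
    (hPH : SGA1.IsQuot (ρ.comp H.subtype) pH) (ρbar : G ⧸ H →* Aut XH)
    (hρbar : ∀ g : G, pH ≫ (ρbar (QuotientGroup.mk g)).hom = (ρ g).hom ≫ pH)
    (r : XH ⟶ XG) (hr : pH ≫ r = p) :
    SGA1.IsQuot ρbar r := by
  subst hr
  have hinv : ∀ γ : G ⧸ H, (ρbar γ).hom ≫ r = r := fun γ => by
    obtain ⟨g, rfl⟩ := QuotientGroup.mk_surjective γ
    refine QuotLib.eq_of_comp_eq hPH ?_
    rw [← Category.assoc, hρbar, Category.assoc, hP.inv]
  refine ⟨(QuotLib.isAffineHom_iff hPH r).1 hP.affine, hinv, fun U a b hab => hP.injective U ?_, fun U t => ⟨?_, ?_⟩⟩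
  · simp only [Scheme.Hom.comp_app]; exact congrArg (pH.app (r ⁻¹ᵁ U)).hom hab
  · rintro ⟨u, rfl⟩ γ
    have h3 : ∀ (k : XH ⟶ XG) (hk : k = r) (e : r ⁻¹ᵁ U ≤ k ⁻¹ᵁ U), k.appLE U (r ⁻¹ᵁ U) e = r.app U := by
      rintro k rfl e; rw [Scheme.Hom.appLE_eq_app]
    rw [← CommRingCat.comp_apply, Scheme.Hom.app_eq_appLE, Scheme.Hom.appLE_comp_appLE, h3 _ (hinv γ), Scheme.Hom.appLE_eq_app]
  · intro ht
    have hs := (hP.range_iff U ((pH.app (r ⁻¹ᵁ U)).hom t)).2 fun g => ?_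
    · obtain ⟨u, hu⟩ := hs
      refine ⟨u, hPH.injective _ ?_⟩
      rw [← hu, Scheme.Hom.comp_app]; rfl
    · have e1 := ht (QuotientGroup.mk g)
      conv_rhs => rw [← e1]
      show (pH.app (r ⁻¹ᵁ U) ≫ (ρ g).hom.appLE (pH ⁻¹ᵁ (r ⁻¹ᵁ U)) (pH ⁻¹ᵁ (r ⁻¹ᵁ U)) (SGA1.preimage_le_of_inv ρ _ hP.inv g U)).hom t =
        ((ρbar (QuotientGroup.mk g)).hom.appLE (r ⁻¹ᵁ U) (r ⁻¹ᵁ U) (SGA1.preimage_le_of_inv ρbar r hinv _ U) ≫ pH.app (r ⁻¹ᵁ U)).hom t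
      simp only [Scheme.Hom.app_eq_appLE, Scheme.Hom.appLE_comp_appLE]
      have h4 : ∀ (k k' : X ⟶ XH) (hk : k = k') (W : X.Opens) (e : W ≤ k ⁻¹ᵁ (r ⁻¹ᵁ U)) (e' : W ≤ k' ⁻¹ᵁ (r ⁻¹ᵁ U)),
          k.appLE _ W e = k'.appLE _ W e' := by rintro k k' rfl W e e'; rfl
      exact congrArg (fun φ => φ.hom t) ((Scheme.Hom.appLE_comp_appLE (ρ g).hom pH _ _ _ le_rfl _).trans (h4 _ _ (hρbar g).symm (pH ⁻¹ᵁ (r ⁻¹ᵁ U)) _ _))

end Groth.Agent.S13081
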