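import Groth.Statements.S13083
import Groth.Agent.FinPointCount.Basic
import Groth.Agent.S13071

set_option autoImplicit false
universe u
open CategoryTheory AlgebraicGeometry Limits
open Zeta

namespace Groth.Agent.S13083

open CategoryTheory CategoryTheory.Limits AlgebraicGeometry

set_option backward.isDefEq.respectTransparency false
set_option backward.isDefEq.respectTransparency.types false
set_option linter.style.haveILetI false

open scoped TensorProduct

/-- The projection from the base change to an algebraic closure. -/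
noncomputable abbrev prj {k : Type u} [Field k] {X : Scheme.{u}} (f : X ⟶ Spec (CommRingCat.of k)) :
    pullback f (Spec.map (CommRingCat.ofHom (algebraMap k (AlgebraicClosure k)))) ⟶ X :=
  pullback.fst f _

/-- The points over a closed point: finitely many, closed, as many as the residue degree. -/
theorem fibre_spec {k : Type u} [Field k] [PerfectField k] {X : Scheme.{u}} (f : X ⟶ Spec (CommRingCat.of k))
    [LocallyOfFiniteType f] (x : X) (hx : IsClosed ({x} : Set X)) :
    ((prj f) ⁻¹' {x}).Finite ∧ Nat.card ↥((prj f) ⁻¹' {x}) = EGA4loc.residueDegree f x ∧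
      ∀ y, prj f y = x → IsClosed ({y} : Set _) := by
  let σ := Spec.preimage (X.fromSpecResidueField x ≫ f)
  letI : Algebra k (X.residueField x) := σ.hom.toAlgebra
  have hσ : Spec.map (CommRingCat.ofHom (algebraMap k (X.residueField x))) = X.fromSpecResidueField x ≫ f :=
    Spec.map_preimage _
  haveI : IsClosedImmersion (X.fromSpecResidueField x) :=
    .of_isPreimmersion _ (by rw [Scheme.range_fromSpecResidueField]; exact hx)
  haveI : Module.Finite k (X.residueField x) := by
    have h1 : IsFinite (Spec.map σ) := by
      rw [Spec.map_preimage]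
      exact isFinite_iff_locallyOfFiniteType_of_jacobsonSpace.2 inferInstance
    exact (IsFinite.SpecMap_iff (f := σ)).1 h1
  let Ω := AlgebraicClosure k
  let e : (prj f).fiber x ≅ Spec (CommRingCat.of (X.residueField x ⊗[k] Ω)) :=
    pullbackSymmetry _ _ ≪≫ pullbackRightPullbackFstIso f _ (X.fromSpecResidueField x) ≪≫
      pullback.congrHom hσ.symm rfl ≪≫ pullbackSpecIso k (X.residueField x) Ω
  let H : PrimeSpectrum (Ω ⊗[k] X.residueField x) ≃ₜ (prj f) ⁻¹' {x} :=
    (PrimeSpectrum.homeomorphOfRingEquiv (Algebra.TensorProduct.comm k Ω (X.residueField x)).toRingEquiv).trans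
      (e.symm.hom.homeomorph.trans ((prj f).fiberHomeo x))
  haveI : IsArtinianRing (Ω ⊗[k] X.residueField x) := IsArtinianRing.of_finite Ω _
  have hfin : ((prj f) ⁻¹' {x}).Finite := Set.finite_coe_iff.1 (Finite.of_equiv _ H.toEquiv)
  refine ⟨hfin, ?_, fun y hy => ?_⟩
  · rw [← Nat.card_congr H.toEquiv, FinPointCount.card_primeSpectrum_tensor,
      Nat.card_eq_fintype_card, AlgHom.card]
    let τ := Spec.preimage ((Spec (CommRingCat.of k)).fromSpecResidueField (f x))
    have hτσ : τ ≫ f.residueFieldMap x = σ := Spec.map_injective (by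
      rw [Spec.map_comp, Spec.map_preimage, Spec.map_preimage, Scheme.Hom.SpecMap_residueFieldMap_fromSpecResidueField])
    have hbij : Function.Bijective τ.hom := by
      haveI : IsClosedImmersion ((Spec (CommRingCat.of k)).fromSpecResidueField (f x)) :=
        .of_isPreimmersion _ (by
          rw [Scheme.range_fromSpecResidueField, show ({f x} : Set ↥(Spec (CommRingCat.of k))) = Set.univ from
            Set.eq_univ_of_forall fun y => Subsingleton.elim (α := PrimeSpectrum k) _ _]
          exact isClosed_univ)
      haveI : Surjective ((Spec (CommRingCat.of k)).fromSpecResidueField (f x)) :=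
        ⟨fun y => ⟨(default : PrimeSpectrum _), Subsingleton.elim (α := PrimeSpectrum k) _ _⟩⟩
      haveI : IsIso (Spec.map τ) := by
        rw [Spec.map_preimage]
        exact isIso_of_isClosedImmersion_of_surjective _
      haveI : IsIso τ := by
        have h := Scheme.Spec.map τ.op
        haveI : IsIso (Scheme.Spec.map τ.op) := ‹IsIso (Spec.map τ)›
        haveI := isIso_of_reflects_iso τ.op Scheme.Spec
        exact isIso_of_op τ
      exact ConcreteCategory.bijective_of_isIso τ
    letI := (f.residueFieldMap x).hom.toAlgebra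
    refine Algebra.finrank_eq_of_equiv_equiv (RingEquiv.ofBijective τ.hom hbij) (RingEquiv.refl _) ?_
    exact congrArg CommRingCat.Hom.hom hτσ
  · have h1 : IsClosed ((prj f) ⁻¹' {x}) := hx.preimage (prj f).continuous
    have h2 : IsClosed ({(⟨y, hy⟩ : (prj f) ⁻¹' {x})} : Set _) := by
      rw [← H.apply_symm_apply ⟨y, hy⟩, ← Set.image_singleton, H.isClosed_image]
      exact isClosed_singleton
    simpa using h1.isClosedEmbedding_subtypeVal.isClosedMap _ h2

/-- Let X be a variety over a perfect field k, k̄ an algebraic closure and π : X_{k̄} → X the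
projection. Sending a closed point x to the sum of the points of π⁻¹(x) induces a bijection between
effective 0-cycles of degree n on X and effective 0-cycles of degree n on X_{k̄} fixed by G(k̄/k).
Stated for schemes of finite type over k, with 0-cycles as finitely supported ℕ-valued functions on
closed points, the degree on X weighted by the residue degrees [κ(x) : k], the map being c ↦ c ∘ π,
and the Galois automorphisms τ_σ = id × Spec σ pinned by their projections. -/
theorem result {k : Type u} [Field k]
    [PerfectField k] {X : Scheme.{u}} (f : X ⟶ Spec (CommRingCat.of k)) [LocallyOfFiniteType f]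
    [QuasiCompact f]
    (τ : (AlgebraicClosure k ≃ₐ[k] AlgebraicClosure k) →
      (pullback f (Spec.map (CommRingCat.ofHom (algebraMap k (AlgebraicClosure k)))) ⟶
        pullback f (Spec.map (CommRingCat.ofHom (algebraMap k (AlgebraicClosure k))))))
    (hτ1 : ∀ σ, τ σ ≫ pullback.fst f _ = pullback.fst f _)
    (hτ2 : ∀ σ, τ σ ≫ pullback.snd f (Spec.map (CommRingCat.ofHom (algebraMap k (AlgebraicClosure k)))) =
        pullback.snd f _ ≫ Spec.map (CommRingCat.ofHom (σ : AlgebraicClosure k →+* AlgebraicClosure k)))
    (n : ℕ) :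
    Set.BijOn
      (fun c : X → ℕ => c ∘ (pullback.fst f (Spec.map (CommRingCat.ofHom
        (algebraMap k (AlgebraicClosure k))))).base)
      {c : X → ℕ | (Function.support c).Finite ∧ (∀ x, c x ≠ 0 → IsClosed ({x} : Set X)) ∧
        ∑ᶠ x, c x * EGA4loc.residueDegree f x = n}
      {d : ↑(pullback f (Spec.map (CommRingCat.ofHom (algebraMap k (AlgebraicClosure k))))) → ℕ |
        (Function.support d).Finite ∧ (∀ y, d y ≠ 0 → IsClosed ({y} : Set _)) ∧
        ∑ᶠ y, d y = n ∧ ∀ σ y, d ((τ σ).base y) = d y} := by
  have hπs : Function.Surjective (prj f) := by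
    haveI : Surjective (Spec.map (CommRingCat.ofHom (algebraMap k (AlgebraicClosure k)))) :=
      ⟨fun _ => ⟨(default : PrimeSpectrum (AlgebraicClosure k)), Subsingleton.elim (α := PrimeSpectrum k) _ _⟩⟩
    exact (MorphismProperty.pullback_fst (P := @Surjective) f _ inferInstance).surj
  have hclosed : IsClosedMap (prj f) := by
    haveI : IsIntegralHom (Spec.map (CommRingCat.ofHom (algebraMap k (AlgebraicClosure k)))) :=
      (IsIntegralHom.SpecMap_iff).2 (algebraMap_isIntegral_iff.2 inferInstance)
    haveI : IsIntegralHom (prj f) := MorphismProperty.pullback_fst _ _ inferInstance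
    exact (prj f).isClosedMap
  have hsum : ∀ c : X → ℕ, (Function.support c).Finite → (∀ x, c x ≠ 0 → IsClosed ({x} : Set X)) →
      (Function.support (c ∘ prj f)).Finite ∧ ∑ᶠ y, (c ∘ prj f) y = ∑ᶠ x, c x * EGA4loc.residueDegree f x := by
    intro c hc hcl
    classical
    have hfin : (prj f ⁻¹' Function.support c).Finite :=
      hc.preimage' fun b hb => (fibre_spec f b (hcl b hb)).1
    refine ⟨hfin, ?_⟩
    rw [finsum_eq_sum_of_support_subset _ (s := hfin.toFinset) (fun y hy => by simpa using hy),
      finsum_eq_sum_of_support_subset _ (s := hc.toFinset) (fun x hx => by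
        simpa using left_ne_zero_of_mul hx),
      ← Finset.sum_fiberwise_of_maps_to (g := prj f) (t := hc.toFinset) (fun y hy => by simpa using hy)]
    refine Finset.sum_congr rfl fun x hx => ?_
    have hx' : c x ≠ 0 := by simpa using hx
    obtain ⟨hF, hcard, -⟩ := fibre_spec f x (hcl x hx')
    rw [Finset.sum_congr rfl (g := fun _ => c x) (fun y hy => by
      show c (prj f y) = c x
      rw [(Finset.mem_filter.1 hy).2]), Finset.sum_const, smul_eq_mul, mul_comm, ← hcard]
    congr 1
    rw [← Nat.card_eq_finsetCard]
    refine Nat.card_congr (Equiv.subtypeEquivRight fun y => ?_)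
    simp only [Finset.mem_filter, Set.Finite.mem_toFinset, Set.mem_preimage, Function.mem_support, Set.mem_singleton_iff]
    exact ⟨fun h => h.2, fun h => ⟨h ▸ hx', h⟩⟩
  refine ⟨fun c ⟨hc, hcl, hn⟩ => ⟨(hsum c hc hcl).1, fun y hy => (fibre_spec f _ (hcl _ hy)).2.2 y rfl,
    (hsum c hc hcl).2.trans hn, fun σ y => ?_⟩, fun c₁ _ c₂ _ h => funext fun x => ?_, fun d ⟨hd, hdcl, hn, hinv⟩ => ?_⟩
  · show c _ = c _
    rw [← Scheme.Hom.comp_apply, hτ1]
  · obtain ⟨y, rfl⟩ := hπs x
    exact congrFun h y
  · choose sec hsec using hπs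
    have hd' : (d ∘ sec) ∘ prj f = d := funext fun y => by
      obtain ⟨σ, hσ⟩ := (Groth.Agent.S13071.result f τ hτ1 hτ2 (sec (prj f y)) y).1 (hsec (prj f y))
      show d (sec (prj f y)) = d y
      exact ((congrArg d hσ).symm.trans (hinv σ _)).symm
    have hfin : (Function.support (d ∘ sec)).Finite := (hd.image (prj f)).subset fun x hx => ⟨sec x, hx, hsec x⟩
    have hcl : ∀ x, (d ∘ sec) x ≠ 0 → IsClosed ({x} : Set X) := fun x hx => by
      have := hclosed _ (hdcl (sec x) hx)
      rwa [Set.image_singleton, hsec] at this
    refine ⟨d ∘ sec, ⟨hfin, hcl, ?_⟩, hd'⟩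
    rw [← (hsum _ hfin hcl).2, hd', hn]

end Groth.Agent.S13083
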