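import Groth.Statements.S13085
import Groth.Agent.AbscLB.Scheme

set_option autoImplicit false
universe u
open CategoryTheory AlgebraicGeometry
open Zeta

namespace Groth.Agent.S13085

/-- If Y is a scheme of finite type over F_p (here: over any finite field) of dimension r, the abscissa
of convergence of the Dirichlet series L_Y(s) = Σ a_n n^{−s} (a_n = number of effective 0-cycles of
norm n; nonnegative coefficients, so convergence and absolute convergence agree) is r. -/
theorem result {k : Type u} [Field k] [Finite k]
    {Y : Scheme.{u}} (f : Y ⟶ Spec (CommRingCat.of k)) [LocallyOfFiniteType f] [QuasiCompact f] (r : ℕ)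
    (hr : topologicalKrullDim Y = r) :
    LSeries.abscissaOfAbsConv (Zeta.arithCoeff Y) = (r : ℝ) := by
  let g : Spec (CommRingCat.of k) ⟶ Spec (CommRingCat.of (ULift.{u} ℤ)) :=
    Spec.map (CommRingCat.ofHom ((Int.castRingHom k).comp (ULift.ringEquiv.{0, u} (R := ℤ)).toRingHom))
  haveI : LocallyOfFiniteType g := by
    refine (HasRingHomProperty.Spec_iff (P := @LocallyOfFiniteType)).2 ?_
    refine RingHom.FiniteType.comp ?_ (RingHom.FiniteType.of_surjective _ (RingEquiv.surjective _))
    haveI : Module.Finite ℤ k := Module.Finite.of_finite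
    exact (RingHom.finite_algebraMap.2 ‹_›).finiteType
  exact Groth.Agent.AbscLB.abscissa_eq (f ≫ g) r hr

end Groth.Agent.S13085
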