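import Groth.Statements.S13095
import Groth.Agent.Lie3.Main

set_option autoImplicit false
open Lie3Mod

namespace Groth.Agent.S13095

/-- The moduli scheme of based three-dimensional Lie algebras is flat over the integers and reduced:
with I = (Q1, Q2, Q3) the Jacobi ideal of Z[a,b,c,d,e,f,g,h,i] (Q1 = ah + di − fg − bg, Q2 = ie + bd
− fh − ae, Q3 = hc + dc − af − bi), the ring Z[a,b,c,d,e,f,g,h,i]/I is a flat Z-module and I is a
radical ideal. -/
theorem result :
    Module.Flat ℤ (Lie3Mod.D ℤ ⧸ Lie3Mod.idI ℤ) ∧ (Lie3Mod.idI ℤ).IsRadical := by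
  refine ⟨?_, Groth.Agent.Lie3.isRadical_idI⟩
  have := Groth.Agent.Lie3.isTorsionFree_quotient (P := Lie3Mod.idI ℤ) fun a x ha h => by
    rw [Groth.Agent.Lie3.idI_eq] at h ⊢
    exact ⟨Groth.Agent.Lie3.mem_idJ_of_C_mul ha h.1, Groth.Agent.Lie3.mem_idL_of_C_mul ha h.2⟩
  infer_instance

end Groth.Agent.S13095
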