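import Groth.Statements.S13096
import Mathlib

set_option autoImplicit false
universe u v
open CAlg

namespace Groth.Agent.S13096

/-- Let R be a commutative ring and R' a commutative R-algebra of finite presentation. Then every
surjective R-algebra endomorphism α : R' → R' is bijective (an automorphism). -/
theorem result (R : Type u) [CommRing R]
    (R' : Type v) [CommRing R'] [Algebra R R'] [Algebra.FinitePresentation R R']
    (α : R' →ₐ[R] R') (hα : Function.Surjective α) : Function.Bijective α := by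
  classical
  refine ⟨?_, hα⟩
  rw [injective_iff_map_eq_zero]
  intro r hr
  obtain ⟨n, π, hπ⟩ := Algebra.FiniteType.iff_quotient_mvPolynomial''.mp (inferInstance : Algebra.FiniteType R R')
  choose P hP using fun i => hπ (α (π (MvPolynomial.X i)))
  choose y hy using fun i => hα (π (MvPolynomial.X i))
  choose Q hQ using fun i => hπ (y i)
  obtain ⟨Q₀, hQ₀⟩ := hπ r
  let cset : Finset R := (Finset.univ.biUnion fun i => (P i).coeffs ∪ (Q i).coeffs) ∪ Q₀.coeffs
  let gen : Finset R' := cset.image (algebraMap R R') ∪ Finset.univ.image fun i => π (MvPolynomial.X i)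
  let S := Algebra.adjoin ℤ (gen : Set R')
  have hmem : ∀ p : MvPolynomial (Fin n) R, p.coeffs ⊆ cset → π p ∈ S := by
    intro p hp
    rw [p.as_sum, map_sum]
    refine sum_mem fun d hd => ?_
    rw [MvPolynomial.monomial_eq, map_mul, ← MvPolynomial.algebraMap_eq, AlgHom.commutes]
    refine mul_mem (Algebra.subset_adjoin ?_) ?_
    · exact Finset.mem_union_left _ (Finset.mem_image_of_mem _ (hp (MvPolynomial.coeff_mem_coeffs d (MvPolynomial.mem_support_iff.mp hd))))
    · rw [Finsupp.prod, map_prod]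
      refine prod_mem fun i _ => ?_
      rw [map_pow]
      exact pow_mem (Algebra.subset_adjoin (Finset.mem_union_right _ (Finset.mem_image_of_mem _ (Finset.mem_univ i)))) _
  have hcs : ∀ i, (P i).coeffs ⊆ cset ∧ (Q i).coeffs ⊆ cset := fun i =>
    ⟨fun c hc => Finset.mem_union_left _ (Finset.mem_biUnion.mpr ⟨i, Finset.mem_univ i, Finset.mem_union_left _ hc⟩),
     fun c hc => Finset.mem_union_left _ (Finset.mem_biUnion.mpr ⟨i, Finset.mem_univ i, Finset.mem_union_right _ hc⟩)⟩
  let αZ : R' →ₐ[ℤ] R' := α.restrictScalars ℤ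
  have hαS : ∀ s ∈ S, αZ s ∈ S := by
    intro s hs
    have : S.map αZ ≤ S := by
      rw [AlgHom.map_adjoin, Algebra.adjoin_le_iff]
      rintro _ ⟨g, hg, rfl⟩
      rcases Finset.mem_union.mp hg with h | h
      · obtain ⟨c, hc, rfl⟩ := Finset.mem_image.mp h
        rw [show αZ (algebraMap R R' c) = algebraMap R R' c from α.commutes c]
        exact Algebra.subset_adjoin hg
      · obtain ⟨i, -, rfl⟩ := Finset.mem_image.mp h
        show α _ ∈ S
        rw [← hP]; exact hmem _ (hcs i).1
    exact this ⟨s, hs, rfl⟩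
  let β : S →ₐ[ℤ] S := (αZ.comp S.val).codRestrict S fun s => hαS _ s.2
  have hβ : Function.Surjective β := by
    rintro ⟨s, hs⟩
    have : S ≤ S.map αZ := by
      refine Algebra.adjoin_le fun g hg => ?_
      rcases Finset.mem_union.mp hg with h | h
      · obtain ⟨c, hc, rfl⟩ := Finset.mem_image.mp h
        exact ⟨_, Algebra.subset_adjoin hg, α.commutes c⟩
      · obtain ⟨i, -, rfl⟩ := Finset.mem_image.mp h
        exact ⟨y i, hQ i ▸ hmem _ (hcs i).2, hy i⟩
    obtain ⟨t, ht, hts⟩ := this hs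
    exact ⟨⟨t, ht⟩, Subtype.ext hts⟩
  have hN : IsNoetherianRing S := isNoetherianRing_of_fg ⟨gen, rfl⟩
  obtain ⟨k, hk⟩ := monotone_stabilizes_iff_noetherian.mpr hN
    ⟨fun m => RingHom.ker (β ^ m : S →ₐ[ℤ] S), monotone_nat_of_le_succ fun m x hx => by
      rw [RingHom.mem_ker] at hx ⊢; rw [pow_succ', AlgHom.mul_apply, hx, map_zero]⟩
  have hrS : r ∈ S := hQ₀ ▸ hmem _ Finset.subset_union_right
  have hsk : ∀ m, Function.Surjective (β ^ m : S →ₐ[ℤ] S) := by
    intro m; induction m with
    | zero => exact fun x => ⟨x, rfl⟩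
    | succ m ih => rw [pow_succ']; exact hβ.comp ih
  obtain ⟨t, ht⟩ := hsk k ⟨r, hrS⟩
  have h1 : t ∈ RingHom.ker (β ^ (k+1) : S →ₐ[ℤ] S) := by
    rw [RingHom.mem_ker, pow_succ', AlgHom.mul_apply, ht]
    exact Subtype.ext hr
  have h2 : t ∈ RingHom.ker (β ^ k : S →ₐ[ℤ] S) := by
    have hk' := hk (k+1) k.le_succ
    simp only [OrderHom.coe_mk] at hk'
    rw [hk']; exact h1
  rw [RingHom.mem_ker, ht] at h2
  exact congrArg Subtype.val h2

end Groth.Agent.S13096
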