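import Groth.Statements.S13097
import Mathlib.AlgebraicGeometry.ZariskisMainTheorem

set_option autoImplicit false
universe u
open FlatMor

namespace Groth.Agent.S13097

open CategoryTheory AlgebraicGeometry in
/-- Let f : X → S be a quasi-compact, separated morphism of schemes with a section e : S → X (e followed
by f is the identity of S), and U ⊆ S an open subscheme such that f⁻¹(U) is schematically dense in X
(for every open V of X, restriction of functions from V to V ∩ f⁻¹(U) is injective) and such that
the restriction f⁻¹(U) → U of f is a homeomorphism of underlying spaces. Then f is universally a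
homeomorphism (every base change of f is a homeomorphism), and f is finite as soon as it is locally
of finite type. (The published statement also lists surjectivity of f, which a section forces, and
offers as an alternative to the section the hypothesis that f be flat, still with f⁻¹(U) → U only a
homeomorphism; that flat alternative fails: the spectrum of a separable quadratic field extension
over the spectrum of the ground field, with U the whole base, is flat, surjective, quasi-compact,
separated and a homeomorphism over U, yet not universally injective. Only the case of a section,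
whose published proof is complete, is stated here.) -/
theorem result {X S : Scheme.{u}} (f : X ⟶ S)
    [QuasiCompact f] [IsSeparated f] (U : S.Opens)
    (hdense : CInt.IsSchematicallyDense (f ⁻¹ᵁ U)) (hU : IsHomeomorph (f ∣_ U).base)
    (e : S ⟶ X) (he : e ≫ f = 𝟙 S) :
    FlatMor.IsUnivHomeo f ∧ (LocallyOfFiniteType f → IsFinite f) := by
  haveI : IsClosedImmersion e := by
    haveI : IsClosedImmersion (e ≫ f) := by rw [he]; infer_instance
    exact IsClosedImmersion.of_comp e f
  have hse : Function.Surjective e.base := by
    intro x
    have hcl : IsClosed (Set.range e.base) := e.isClosedEmbedding.isClosed_range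
    by_contra hx
    have hx' : x ∈ (Set.range e.base)ᶜ := fun ⟨s, hs⟩ => hx ⟨s, hs⟩
    let V : X.Opens := ⟨(Set.range e.base)ᶜ, hcl.isOpen_compl⟩
    have hVU : V ⊓ f ⁻¹ᵁ U = ⊥ := by
      refine TopologicalSpace.Opens.ext (Set.eq_empty_iff_forall_notMem.mpr ?_)
      rintro z ⟨hz, hzU⟩
      have h1 : f.base (e.base (f.base z)) = f.base z :=
        congrArg (fun φ : S ⟶ S => φ.base (f.base z)) he
      have hzU' : e.base (f.base z) ∈ f ⁻¹ᵁ U := by
        show f.base (e.base (f.base z)) ∈ U
        rw [h1]; exact hzU
      have := hU.injective (a₁ := (⟨z, hzU⟩ : (f ⁻¹ᵁ U : X.Opens))) (a₂ := ⟨e.base (f.base z), hzU'⟩)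
        (Subtype.ext (by simp [h1]))
      exact hz ⟨_, (congrArg Subtype.val this).symm⟩
    haveI : Subsingleton Γ(X, V ⊓ f ⁻¹ᵁ U) := by
      rw [hVU]
      exact CommRingCat.subsingleton_of_isTerminal (X.sheaf.isTerminalOfEqEmpty rfl)
    haveI : Subsingleton Γ(X, V) := ⟨fun a b => hdense V (Subsingleton.elim _ _)⟩
    have h := congrArg (X.presheaf.germ V x hx') (Subsingleton.elim (1 : Γ(X, V)) 0)
    rw [map_one, map_zero] at h
    exact one_ne_zero h
  have hsurj : Surjective e := ⟨hse⟩
  have huh : FlatMor.IsUnivHomeo f := by
    intro X' T p g f' h
    let e' : T ⟶ X' := h.lift (𝟙 T) (g ≫ e) (by rw [Category.assoc, he, Category.comp_id, Category.id_comp])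
    have he1 : e' ≫ p = g ≫ e := h.lift_snd _ _ _
    have he2 : e' ≫ f' = 𝟙 T := h.lift_fst _ _ _
    have hpb : IsPullback g e' e p := by
      refine IsPullback.of_bot ?_ he1.symm h.flip
      rw [he2, he]
      exact IsPullback.of_vert_isIso ⟨by simp⟩
    haveI : Surjective e' := MorphismProperty.of_isPullback hpb hsurj
    haveI : IsClosedImmersion e' := MorphismProperty.of_isPullback hpb ‹IsClosedImmersion e›
    let φ := e'.isClosedEmbedding.isEmbedding.toHomeomorphOfSurjective e'.surjective
    have hf' : (f'.base : X' → T) = φ.symm := by
      funext z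
      obtain ⟨t, rfl⟩ := e'.surjective z
      have h1 : f'.base (e'.base t) = t := congrArg (fun ψ : T ⟶ T => ψ.base t) he2
      exact h1.trans (φ.symm_apply_apply t).symm
    show IsHomeomorph (f'.base : X' → T)
    rw [hf']
    exact φ.symm.isHomeomorph
  refine ⟨huh, fun hft => ?_⟩
  haveI : UniversallyClosed f := ⟨MorphismProperty.universally_mono (fun _ _ g hg => IsHomeomorph.isClosedMap hg) f huh⟩
  haveI : IsProper f := ⟨⟩
  haveI : UniversallyInjective f := (universallyInjective_eq ▸ MorphismProperty.universally_mono (fun _ _ g hg => IsHomeomorph.injective hg) f huh :)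
  exact IsFinite.of_isProper_of_locallyQuasiFinite f

end Groth.Agent.S13097
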