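import Mathlib
import Groth.Statements.S13098


set_option autoImplicit false
universe u v
open Lie3Mod

namespace Groth.Agent.S13098

/-- Let R be a commutative ring, M an R-module with a basis x = bs 0, y = bs 1, z = bs 2 indexed by Fin
3, and B an R-bilinear alternating map on M (B m m = 0) with B x y = a x + b y + c z, B x z = d x +
e y + f z and B y z = g x + h y + i z. Then B satisfies the Jacobi identity for all triples if and
only if the three Jacobi polynomials vanish: ah + di − fg − bg = 0, ie + bd − fh − ae = 0 and hc +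
dc − af − bi = 0. (This is the statement that Lie brackets on a based free module of rank 3 are the
points of the closed subscheme of affine 9-space defined by these three equations.) -/
theorem result (R : Type u) [CommRing R] (M : Type v) [AddCommGroup M] [Module R M]
    (bs : Module.Basis (Fin 3) R M) (B : M →ₗ[R] M →ₗ[R] M) (halt : ∀ m : M, B m m = 0)
    (a b c d e f g h i : R)
    (hxy : B (bs 0) (bs 1) = a • bs 0 + b • bs 1 + c • bs 2)
    (hxz : B (bs 0) (bs 2) = d • bs 0 + e • bs 1 + f • bs 2)
    (hyz : B (bs 1) (bs 2) = g • bs 0 + h • bs 1 + i • bs 2) :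
    (∀ u v w : M, B u (B v w) + B v (B w u) + B w (B u v) = 0) ↔
      (a * h + d * i - f * g - b * g = 0 ∧ i * e + b * d - f * h - a * e = 0 ∧
        h * c + d * c - a * f - b * i = 0) := by
  have anti : ∀ u v, B v u = -B u v := fun u v => by
    have := halt (u + v)
    simp only [map_add, LinearMap.add_apply, halt, zero_add, add_zero] at this
    exact eq_neg_of_add_eq_zero_right (by rw [add_comm]; exact add_comm (B u v) (B v u) ▸ this)
  have key : B (bs 0) (B (bs 1) (bs 2)) + B (bs 1) (B (bs 2) (bs 0)) + B (bs 2) (B (bs 0) (bs 1)) =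
      (a * h + d * i - f * g - b * g) • bs 0 + (i * e + b * d - f * h - a * e) • bs 1 +
        (h * c + d * c - a * f - b * i) • bs 2 := by
    rw [hyz, anti (bs 0) (bs 2), hxy, hxz]
    simp only [map_add, map_neg, map_smul, halt, anti (bs 0) (bs 1), anti (bs 0) (bs 2), anti (bs 1) (bs 2),
      hxy, hxz, hyz, smul_zero]
    module
  constructor
  · intro H
    have h0 := congrArg bs.repr (key.symm.trans (H (bs 0) (bs 1) (bs 2)))
    have e0 := DFunLike.congr_fun h0 0
    have e1 := DFunLike.congr_fun h0 1
    have e2 := DFunLike.congr_fun h0 2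
    simp at e0 e1 e2
    exact ⟨e0, e1, e2⟩
  · rintro ⟨h1, h2, h3⟩ u v w
    rw [h1, h2, h3, zero_smul, zero_smul, zero_smul, add_zero, add_zero] at key
    have k : B (bs 0) (B (bs 1) (bs 2)) = -(B (bs 1) (B (bs 2) (bs 0))) - B (bs 2) (B (bs 0) (bs 1)) := by
      rw [eq_sub_iff_add_eq, ← sub_eq_zero, sub_neg_eq_add, ← key]; abel
    rw [← bs.sum_repr u, ← bs.sum_repr v, ← bs.sum_repr w, Fin.sum_univ_three, Fin.sum_univ_three, Fin.sum_univ_three]
    simp only [map_add, map_smul, LinearMap.add_apply, LinearMap.smul_apply, halt, anti (bs 0) (bs 1),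
      anti (bs 0) (bs 2), anti (bs 1) (bs 2), map_neg, smul_add, smul_neg, smul_zero, smul_smul, neg_neg] at k ⊢
    rw [k]
    simp only [map_zero, smul_zero]
    module
end Groth.Agent.S13098
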