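import Groth.Statements.S13099
import Mathlib
-- import your own Groth.Agent.* helpers here

set_option autoImplicit false
universe u
open GrpSch

namespace Groth.Agent.S13099

open Polynomial in
/-- Let p be a prime and A a commutative ring of characteristic p, and consider the infinitesimal group
scheme Spec A[X]/(X^{p²}) with the additive group law. In coordinates: (1) a polynomial q ∈ A[X] of
degree less than p² satisfies q(Y + Z) − q(Y) − q(Z) ∈ (Y^{p²}, Z^{p²}) in A[Y, Z] (that is, X ↦ q
respects the comultiplication) if and only if q = a₁ X + a_p X^p for some a₁, a_p ∈ A; (2) an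
A-algebra endomorphism of A[X]/(X^{p²}) that sends the class of X to the class of a₁ X + a_p X^p is
bijective if and only if a₁ is a unit of A. (The printed statement is that the automorphism group
scheme of this group scheme is the semidirect product of the additive group by the multiplicative
group, v acting on u by v^{p−1}u; this row records the two computations it consists of, in
coordinates.) -/
theorem result (p : ℕ) [Fact p.Prime] (A : Type u) [CommRing A] [CharP A p] :
    (∀ q : A[X], q.natDegree < p ^ 2 →
      (Polynomial.aeval (MvPolynomial.X 0 + MvPolynomial.X 1 : MvPolynomial (Fin 2) A) q -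
            Polynomial.aeval (MvPolynomial.X 0 : MvPolynomial (Fin 2) A) q -
            Polynomial.aeval (MvPolynomial.X 1 : MvPolynomial (Fin 2) A) q ∈
          Ideal.span ({MvPolynomial.X 0 ^ p ^ 2, MvPolynomial.X 1 ^ p ^ 2} : Set (MvPolynomial (Fin 2) A)) ↔
        ∃ a₁ ap : A, q = Polynomial.C a₁ * X + Polynomial.C ap * X ^ p)) ∧
    (∀ (a₁ ap : A) (φ : (A[X] ⧸ Ideal.span ({X ^ p ^ 2} : Set A[X])) →ₐ[A] (A[X] ⧸ Ideal.span ({X ^ p ^ 2} : Set A[X]))),
      φ (Ideal.Quotient.mk (Ideal.span ({X ^ p ^ 2} : Set A[X])) X) =
          Ideal.Quotient.mk (Ideal.span ({X ^ p ^ 2} : Set A[X])) (Polynomial.C a₁ * X + Polynomial.C ap * X ^ p) →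
        (Function.Bijective φ ↔ IsUnit a₁)) := by
  classical
  haveI : CharP A[X] p := inferInstance
  have hp : p.Prime := Fact.out
  set N := p ^ 2 with hN
  have hpN : p < N := by rw [hN]; nlinarith [hp.two_le]
  have hN2 : 2 ≤ N := le_trans hp.two_le hpN.le
  refine ⟨fun q hq => ⟨fun hmem => ?_, ?_⟩, fun a₁ ap φ hφ => ?_⟩
  · -- coefficients
    obtain ⟨u, v, huv⟩ := Ideal.mem_span_pair.1 hmem
    have hcoeff : ∀ a b : ℕ, a < N → b < N → a + b < N →
        q.coeff (a + b) * ((a + b).choose a : A) - (if b = 0 then q.coeff a else 0) - (if a = 0 then q.coeff b else 0) = 0 := by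
      intro a b ha hb hab
      let d : Fin 2 →₀ ℕ := Finsupp.single 0 a + Finsupp.single 1 b
      have hd0 : d 0 = a := by simp [d]
      have hd1 : d 1 = b := by simp [d]
      have hzero : MvPolynomial.coeff d (u * MvPolynomial.X 0 ^ N + v * MvPolynomial.X 1 ^ N) = 0 := by
        rw [MvPolynomial.coeff_add, MvPolynomial.X_pow_eq_monomial, MvPolynomial.X_pow_eq_monomial,
          MvPolynomial.coeff_mul_monomial', MvPolynomial.coeff_mul_monomial', if_neg, if_neg, add_zero]
        · rw [Finsupp.single_le_iff, hd1]; omega
        · rw [Finsupp.single_le_iff, hd0]; omega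
      rw [huv] at hzero
      have hsum : ∀ z : MvPolynomial (Fin 2) A, Polynomial.aeval z q = ∑ n ∈ Finset.range N, MvPolynomial.C (q.coeff n) * z ^ n := fun z => by
        rw [Polynomial.aeval_eq_sum_range' hq]
        exact Finset.sum_congr rfl fun n _ => by rw [Algebra.smul_def, MvPolynomial.algebraMap_eq]
      have hadd : ∀ n, MvPolynomial.coeff d ((MvPolynomial.X 0 + MvPolynomial.X 1 : MvPolynomial (Fin 2) A) ^ n) =
          if n = a + b then ((a + b).choose a : A) else 0 := by
        intro n
        rw [add_pow, MvPolynomial.coeff_sum]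
        have hterm : ∀ i ∈ Finset.range (n + 1), MvPolynomial.coeff d
            ((MvPolynomial.X 0 : MvPolynomial (Fin 2) A) ^ i * MvPolynomial.X 1 ^ (n - i) * (n.choose i : MvPolynomial (Fin 2) A)) =
            if i = a ∧ n - i = b then (n.choose i : A) else 0 := by
          intro i _
          rw [MvPolynomial.X_pow_eq_monomial, MvPolynomial.X_pow_eq_monomial, MvPolynomial.monomial_mul,
            ← map_natCast (MvPolynomial.C : A →+* MvPolynomial (Fin 2) A), mul_comm, MvPolynomial.coeff_C_mul,
            MvPolynomial.coeff_monomial, mul_one]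
          by_cases h : i = a ∧ n - i = b
          · rw [if_pos h, if_pos]
            · rw [mul_one]
            · obtain ⟨rfl, rfl⟩ := h; rfl
          · rw [if_neg h, if_neg, mul_zero]
            intro e
            exact h ⟨by rw [← hd0, ← e]; simp, by rw [← hd1, ← e]; simp⟩
        rw [Finset.sum_congr rfl hterm]
        by_cases hn : n = a + b
        · subst hn
          rw [if_pos rfl, Finset.sum_eq_single a, if_pos ⟨rfl, by omega⟩]
          · intro i _ hi; exact if_neg fun h => hi h.1
          · intro h; simp at h
        · rw [if_neg hn]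
          exact Finset.sum_eq_zero fun i hi => if_neg fun h => hn (by simp at hi; omega)
      have hX : ∀ (j : Fin 2) n, MvPolynomial.coeff d ((MvPolynomial.X j : MvPolynomial (Fin 2) A) ^ n) =
          if Finsupp.single j n = d then 1 else 0 := fun j n => MvPolynomial.coeff_X_pow j d n
      rw [MvPolynomial.coeff_sub, MvPolynomial.coeff_sub, hsum, hsum, hsum, MvPolynomial.coeff_sum,
        MvPolynomial.coeff_sum, MvPolynomial.coeff_sum] at hzero
      simp only [MvPolynomial.coeff_C_mul, hadd, hX] at hzero
      have e0 : ∀ n, Finsupp.single (0 : Fin 2) n = d ↔ n = a ∧ b = 0 := fun n => by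
        constructor
        · intro h; exact ⟨by rw [← hd0, ← h]; simp, by rw [← hd1, ← h]; simp⟩
        · rintro ⟨rfl, rfl⟩; simp [d]
      have e1 : ∀ n, Finsupp.single (1 : Fin 2) n = d ↔ n = b ∧ a = 0 := fun n => by
        constructor
        · intro h; exact ⟨by rw [← hd1, ← h]; simp, by rw [← hd0, ← h]; simp⟩
        · rintro ⟨rfl, rfl⟩; simp [d]
      simp only [e0, e1, mul_ite, mul_zero, mul_one, ite_and, Finset.sum_ite_eq', Finset.mem_range, hab, ha, hb, if_true] at hzero
      exact hzero
    have hunit : ∀ m : ℕ, ¬ p ∣ m → IsUnit (m : A) := fun m hm => by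
      have h1 : IsUnit (m : ZMod p) := by
        rw [isUnit_iff_ne_zero, Ne, CharP.cast_eq_zero_iff (ZMod p) p]; exact hm  
      simpa using h1.map (ZMod.castHom dvd_rfl A)
    have hzero' : ∀ n, n ≠ 1 → n ≠ p → q.coeff n = 0 := by
      intro n h1 h2
      rcases le_or_gt N n with hn | hn
      · exact Polynomial.coeff_eq_zero_of_natDegree_lt (lt_of_lt_of_le hq hn)
      rcases Nat.eq_zero_or_pos n with rfl | hn0
      · simpa using hcoeff 0 0 (by omega) (by omega) (by omega)
      have use : ∀ a, 1 ≤ a → a < n → ¬ p ∣ n.choose a → q.coeff n = 0 := fun a ha ha' hd => by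
        have h := hcoeff a (n - a) (by omega) (by omega) (by omega)
        rw [Nat.add_sub_cancel' ha'.le, if_neg (by omega), if_neg (by omega), sub_zero, sub_zero] at h
        exact (hunit _ hd).mul_left_eq_zero.1 h
      by_cases hdvd : p ∣ n
      · obtain ⟨m, rfl⟩ := hdvd
        have hm1 : m ≠ 1 := fun h => h2 (by rw [h, mul_one])
        have hmp : m < p := by rw [hN, pow_two] at hn; exact Nat.lt_of_mul_lt_mul_left hn
        have hm0 : 0 < m := Nat.pos_of_ne_zero fun h => by simp [h] at hn0
        refine use p hp.one_le (by have : 2 ≤ m := (by omega); nlinarith [hp.two_le]) fun hd => ?_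
        have hl := Choose.choose_modEq_choose_mod_mul_choose_div_nat (n := p * m) (k := p) (p := p)
        rw [Nat.mul_mod_right, Nat.mod_self, Nat.mul_div_cancel_left _ hp.pos, Nat.div_self hp.pos,
          Nat.choose_zero_right, one_mul, Nat.choose_one_right] at hl
        exact absurd (Nat.le_of_dvd hm0 ((hl.dvd_iff dvd_rfl).1 hd)) (by omega)
      · exact use 1 le_rfl (by omega) (by simpa using hdvd)
    refine ⟨q.coeff 1, q.coeff p, Polynomial.ext fun n => ?_⟩
    simp only [Polynomial.coeff_add, Polynomial.coeff_C_mul, Polynomial.coeff_X, Polynomial.coeff_X_pow]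
    rcases eq_or_ne n 1 with rfl | h1
    · simp [hp.one_lt.ne]
    rcases eq_or_ne n p with rfl | h2
    · simp [hp.one_lt.ne]
    · simp [hzero' n h1 h2, h1.symm, h2]
  · rintro ⟨a₁, ap, rfl⟩
    haveI : CharP (MvPolynomial (Fin 2) A) p := inferInstance
    convert Ideal.zero_mem _
    simp only [map_add, map_mul, map_pow, Polynomial.aeval_C, Polynomial.aeval_X, add_pow_char]
    ring
  · -- automorphisms
    let x := Ideal.Quotient.mk (Ideal.span ({X ^ N} : Set A[X])) X
    have hxN : x ^ N = 0 := by
      rw [← map_pow, Ideal.Quotient.eq_zero_iff_mem]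
      exact Ideal.subset_span rfl
    have hφx : φ x = algebraMap A _ a₁ * x + algebraMap A _ ap * x ^ p := by
      rw [hφ, map_add, map_mul, map_mul, map_pow]; rfl
    haveI : Nontrivial A := CharP.nontrivial_of_char_ne_one hp.ne_one
    have hmonic : (X ^ N : A[X]).Monic := Polynomial.monic_X_pow N
    constructor
    · intro hb
      obtain ⟨g', hg⟩ := hb.2 x
      obtain ⟨g, rfl⟩ := Ideal.Quotient.mk_surjective g'
      have hcomp : φ.comp (Ideal.Quotient.mkₐ A (Ideal.span ({X ^ N} : Set A[X]))) =
          (Ideal.Quotient.mkₐ A (Ideal.span ({X ^ N} : Set A[X]))).comp (Polynomial.aeval (Polynomial.C a₁ * X + Polynomial.C ap * X ^ p)) :=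
        Polynomial.algHom_ext (by simpa using hφ)
      have h := DFunLike.congr_fun hcomp g
      simp only [AlgHom.comp_apply, Ideal.Quotient.mkₐ_eq_mk] at h
      rw [hg, Ideal.Quotient.eq, Ideal.mem_span_singleton] at h
      obtain ⟨w, hw⟩ := h
      have h1 := congrArg (fun f : A[X] => f.derivative.eval 0) hw
      simp only [Polynomial.derivative_sub, Polynomial.derivative_X, Polynomial.eval_sub, Polynomial.eval_one,
        Polynomial.derivative_mul, Polynomial.eval_add, Polynomial.eval_mul, Polynomial.eval_pow,
        Polynomial.derivative_X_pow, Polynomial.eval_X, Polynomial.eval_C,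
        zero_pow (show N - 1 ≠ 0 by omega), zero_pow (show N ≠ 0 by omega), mul_zero, zero_mul, add_zero] at h1
      rw [← Polynomial.comp_eq_aeval, Polynomial.derivative_comp, Polynomial.eval_mul] at h1
      simp only [Polynomial.derivative_add, Polynomial.derivative_C_mul, Polynomial.derivative_X, Polynomial.eval_add,
        mul_one, Polynomial.eval_C, Polynomial.derivative_X_pow, Polynomial.eval_mul, Polynomial.eval_pow,
        Polynomial.eval_X, zero_pow (show p - 1 ≠ 0 by have := hp.two_le; omega), mul_zero, add_zero] at h1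
      exact isUnit_iff_exists_inv.2 ⟨_, (sub_eq_zero.1 h1).symm⟩
    · intro hu
      obtain ⟨b, hb⟩ := hu.exists_left_inv
      haveI : CharP (A[X] ⧸ (Ideal.span ({X ^ N} : Set A[X]))) p := by
        refine charP_of_injective_algebraMap (R := A) ?_ p
        intro c c' h
        change Ideal.Quotient.mk _ (Polynomial.C c) = Ideal.Quotient.mk _ (Polynomial.C c') at h
        rw [Ideal.Quotient.eq, Ideal.mem_span_singleton] at h
        obtain ⟨w, hw⟩ := h
        have := congrArg (fun f : A[X] => f.coeff 0) hw
        simpa [sub_eq_zero, Polynomial.mul_coeff_zero, show ¬ N = 0 by omega, (show 0 ≠ N by omega)] using this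
      have hy : (φ x) ^ p = algebraMap A _ (a₁ ^ p) * x ^ p := by
        rw [hφx, add_pow_char, mul_pow, mul_pow, ← pow_mul, ← pow_two, hxN, mul_zero, add_zero, map_pow]
      have hrange : x ∈ φ.range := by
        have h1 : x ^ p = algebraMap A _ (b ^ p) * (φ x) ^ p := by
          rw [hy, ← mul_assoc, ← map_mul, ← mul_pow, hb, one_pow, map_one, one_mul]
        have h2 : x = algebraMap A _ b * (φ x - algebraMap A _ ap * x ^ p) := by
          rw [hφx, add_sub_cancel_right, ← mul_assoc, ← map_mul, hb, map_one, one_mul]
        rw [h2, h1]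
        have hm : φ x ∈ φ.range := ⟨x, rfl⟩
        exact mul_mem (φ.range.algebraMap_mem b) (sub_mem hm
          (mul_mem (φ.range.algebraMap_mem ap) (mul_mem (φ.range.algebraMap_mem _) (pow_mem hm p))))
      have hsurj : Function.Surjective φ := fun z => by
        obtain ⟨f, rfl⟩ := Ideal.Quotient.mk_surjective z
        have hf : Ideal.Quotient.mk (Ideal.span ({X ^ N} : Set A[X])) f = Polynomial.aeval x f :=
          DFunLike.congr_fun (Polynomial.algHom_ext (f := Ideal.Quotient.mkₐ A (Ideal.span ({X ^ N} : Set A[X]))) (g := Polynomial.aeval x) (by simp [x])) f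
        rw [hf]
        have : Polynomial.aeval x f ∈ φ.range :=
          (Algebra.adjoin_le (Set.singleton_subset_iff.2 hrange)) (Polynomial.aeval_mem_adjoin_singleton A x)
        exact this
      haveI : Module.Finite A (A[X] ⧸ (Ideal.span ({X ^ N} : Set A[X]))) := hmonic.finite_quotient
      exact ⟨OrzechProperty.injective_of_surjective_endomorphism φ.toLinearMap hsurj, hsurj⟩

end Groth.Agent.S13099
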