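import Groth.Statements.S13100
import Mathlib
-- import your own Groth.Agent.* helpers here

set_option autoImplicit false
universe u
open GrpSch

namespace Groth.Agent.S13100

/-- Let k be an algebraically closed field of characteristic different from 2 and K = k((t)) the field
of Laurent series over k. Then a non-zero Laurent series f is a square in K if and only if its order
in t is even; consequently the group Kˣ/Kˣ² of non-zero elements modulo squares has exactly two
elements, represented by 1 and t. -/
theorem result (k : Type u) [Field k] [IsAlgClosed k] (h2 : (2 : k) ≠ 0)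
    (f : LaurentSeries k) (hf : f ≠ 0) : IsSquare f ↔ Even f.order := by
  classical
  constructor
  · rintro ⟨g, rfl⟩
    have hg : g ≠ 0 := fun h => hf (by rw [h, mul_zero])
    rw [HahnSeries.order_mul hg hg]
    exact ⟨g.order, rfl⟩
  · rintro ⟨m, hm⟩
    let u := LaurentSeries.powerSeriesPart f
    have hu : PowerSeries.constantCoeff u ≠ 0 := by
      rw [← PowerSeries.coeff_zero_eq_constantCoeff_apply, LaurentSeries.powerSeriesPart_coeff]
      simpa using HahnSeries.coeff_order_eq_zero.not.mpr hf
    obtain ⟨c, hc⟩ := IsAlgClosed.exists_eq_mul_self (PowerSeries.constantCoeff u)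
    let I : Ideal (PowerSeries k) := Ideal.span {PowerSeries.X}
    have hmem : ∀ z : PowerSeries k, z ∈ I ↔ PowerSeries.constantCoeff z = 0 := fun z => by
      rw [Ideal.mem_span_singleton, PowerSeries.X_dvd_iff]
    haveI : HenselianRing (PowerSeries k) I := IsAdicComplete.henselianRing _ _
    obtain ⟨a, ha, -⟩ := HenselianRing.is_henselian (I := I) (Polynomial.X ^ 2 - Polynomial.C u)
      (Polynomial.monic_X_pow_sub_C u two_ne_zero) (PowerSeries.C c) (by
        rw [hmem]; simp [pow_two, ← hc]) (by
        refine IsUnit.map _ ?_
        rw [PowerSeries.isUnit_iff_constantCoeff]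
        have hc0 : c ≠ 0 := fun h => hu (by rw [hc, h, mul_zero])
        simp [hc0]
        rwa [one_add_one_eq_two])
    have ha' : a * a = u := by
      rw [← pow_two]
      simpa [Polynomial.IsRoot, sub_eq_zero] using ha
    refine ⟨HahnSeries.single m 1 * HahnSeries.ofPowerSeries ℤ k a, ?_⟩
    rw [mul_mul_mul_comm, HahnSeries.single_mul_single, ← map_mul, ha', ← hm, mul_one]
    exact f.single_order_mul_powerSeriesPart.symm

end Groth.Agent.S13100
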