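import Groth.Statements.S13101
import Groth.Agent.GrpSchLib.LieThree
-- import your own Groth.Agent.* helpers here

set_option autoImplicit false
universe u v
open GrpSch

namespace Groth.Agent.S13101

/-- Let A be a commutative ring in which 2 is a unit, and L a Lie algebra over A, free as a module with
basis x = bs 0, y = bs 1, z = bs 2 and brackets [x,y] = y, [x,z] = y + z, [y,z] = 0. Then for every
Lie algebra automorphism φ of L over A there are b, c, h ∈ A and a unit i of A with φ(x) = x + b y +
c z, φ(y) = i y and φ(z) = h y + i z. Only the form of an automorphism is stated, not that every map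
of this form is one. (The published statement identifies the automorphism group scheme with a
semidirect product of two additive groups by the product of the multiplicative and additive group,
for algebras over a field of Laurent series of characteristic not 2, and deduces the vanishing of
its first cohomology; this row records the determination of the automorphisms, over any base ring
with 2 invertible; the cohomological consequence is not restated.) -/
theorem result (A : Type u) [CommRing A] (h2 : IsUnit (2 : A))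
    (L : Type v) [LieRing L] [LieAlgebra A L] (bs : Module.Basis (Fin 3) A L)
    (hxy : ⁅bs 0, bs 1⁆ = bs 1) (hxz : ⁅bs 0, bs 2⁆ = bs 1 + bs 2) (hyz : ⁅bs 1, bs 2⁆ = 0)
    (φ : L ≃ₗ⁅A⁆ L) :
    ∃ b c h i : A, IsUnit i ∧ φ (bs 0) = bs 0 + b • bs 1 + c • bs 2 ∧ φ (bs 1) = i • bs 1 ∧
      φ (bs 2) = h • bs 1 + i • bs 2 := by
  have br : ∀ u v, ∀ j, bs.repr ⁅u, v⁆ j = _ := fun u v j =>
    congrArg (fun w => bs.repr w j) (Groth.Agent.LieThree.bracket_eq bs u v)
  simp only [hxy, hxz, hyz] at br
  have E1 := congrArg φ hxy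
  have E2 := congrArg φ hxz
  rw [LieEquiv.map_lie] at E1 E2
  rw [map_add] at E2
  have e10 := br (φ (bs 0)) (φ (bs 1)) 0
  have e11 := br (φ (bs 0)) (φ (bs 1)) 1
  have e12 := br (φ (bs 0)) (φ (bs 1)) 2
  have e20 := br (φ (bs 0)) (φ (bs 2)) 0
  have e21 := br (φ (bs 0)) (φ (bs 2)) 1
  have e22 := br (φ (bs 0)) (φ (bs 2)) 2
  rw [E1] at e10 e11 e12
  rw [E2] at e20 e21 e22
  simp [Finsupp.single_apply] at e10 e11 e12 e20 e21 e22
  have hq : bs.repr (φ (bs 2)) 0 = 0 := by rw [e10, zero_add] at e20; exact e20
  simp only [e10, hq, mul_zero, sub_zero] at e11 e12 e21 e22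
  obtain ⟨-, hD⟩ := Groth.Agent.LieThree.isUnit_det bs bs φ.toLinearEquiv e10 hq
  change IsUnit (bs.repr (φ (bs 1)) 1 * bs.repr (φ (bs 2)) 2 - bs.repr (φ (bs 1)) 2 * bs.repr (φ (bs 2)) 1) at hD
  set a := bs.repr (φ (bs 0)) 0 with ha
  set e := bs.repr (φ (bs 1)) 1
  set f := bs.repr (φ (bs 1)) 2
  set h := bs.repr (φ (bs 2)) 1
  set i := bs.repr (φ (bs 2)) 2
  have g1 : (a - 1) * f = 0 := by linear_combination -e12
  have g2 : (a - 1) * e = -f := by linear_combination -e11 - g1
  have g3 : (a - 1) * i = f := by linear_combination -e22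
  have g4 : (a - 1) * h = e - i - f := by linear_combination -e21 - g3
  have hsq : (a - 1) * (a - 1) = 0 := by
    refine (hD.mul_left_eq_zero).mp ?_
    linear_combination (a - 1) * i * g2 - (a - 1) * h * g1 - i * g1
  have hf2 : f * f = 0 := by
    linear_combination -f * g3 + i * g1
  have hfi : f * i = 0 := by
    refine h2.mul_right_eq_zero.mp ?_
    linear_combination i * g2 - e * g3 + f * g4 - h * g1 - hf2
  have ha1 : a = 1 := by
    refine sub_eq_zero.mp ((hD.mul_left_eq_zero).mp ?_)
    linear_combination i * g2 - h * g1 - hfi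
  have hf0 : f = 0 := by rw [← g3, ha1, sub_self, zero_mul]
  have hei : e = i := by
    have := g4
    rw [ha1, sub_self, zero_mul, hf0, sub_zero] at this
    exact sub_eq_zero.mp this.symm
  rw [hei, hf0, zero_mul, sub_zero] at hD
  refine ⟨bs.repr (φ (bs 0)) 1, bs.repr (φ (bs 0)) 2, h, i, isUnit_of_mul_isUnit_left hD, ?_, ?_, ?_⟩
  · conv_lhs => rw [Groth.Agent.LieThree.decomp bs (φ (bs 0)), ← ha, ha1, one_smul]
  · rw [Groth.Agent.LieThree.decomp bs (φ (bs 1)), e10]
    show (0 : A) • bs 0 + e • bs 1 + f • bs 2 = i • bs 1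
    rw [hei, hf0, zero_smul, zero_smul, zero_add, add_zero]
  · rw [Groth.Agent.LieThree.decomp bs (φ (bs 2)), hq]
    show (0 : A) • bs 0 + h • bs 1 + i • bs 2 = _
    rw [zero_smul, zero_add]

end Groth.Agent.S13101
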