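import Groth.Statements.S13102
import Groth.Agent.GrpSchLib.LieThree
-- import your own Groth.Agent.* helpers here

set_option autoImplicit false
universe u v w
open GrpSch

namespace Groth.Agent.S13102

/-- Let K be a field, α ∈ K, A a commutative K-algebra and L a Lie algebra over A which is free as an
A-module with basis x = bs 0, y = bs 1, z = bs 2 and brackets [x,y] = y, [x,z] = α z, [y,z] = 0. If
α² ≠ 1 then every Lie algebra automorphism φ of L over A satisfies φ(x) = x + b y + c z, φ(y) = e y,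
φ(z) = i z for some b, c ∈ A and units e, i of A. If α = 1 then every such φ satisfies φ(x) = x + b
y + c z, φ(y) = e y + f z, φ(z) = h y + i z with e i − f h a unit of A. (The printed statement
identifies the automorphism group schemes with the corresponding semidirect products, treats also α
= −1 in characteristic not 2, and computes first cohomology over a field of Laurent series; those
clauses are not restated here.) -/
theorem result (K : Type u) [Field K] (α : K) (A : Type v) [CommRing A] [Algebra K A]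
    (L : Type w) [LieRing L] [LieAlgebra A L] (bs : Module.Basis (Fin 3) A L)
    (hxy : ⁅bs 0, bs 1⁆ = bs 1) (hxz : ⁅bs 0, bs 2⁆ = algebraMap K A α • bs 2) (hyz : ⁅bs 1, bs 2⁆ = 0)
    (φ : L ≃ₗ⁅A⁆ L) :
    (α ^ 2 ≠ 1 → ∃ b c e i : A, IsUnit e ∧ IsUnit i ∧ φ (bs 0) = bs 0 + b • bs 1 + c • bs 2 ∧
        φ (bs 1) = e • bs 1 ∧ φ (bs 2) = i • bs 2) ∧
    (α = 1 → ∃ b c e f h i : A, IsUnit (e * i - f * h) ∧ φ (bs 0) = bs 0 + b • bs 1 + c • bs 2 ∧
        φ (bs 1) = e • bs 1 + f • bs 2 ∧ φ (bs 2) = h • bs 1 + i • bs 2) := by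
  have br : ∀ u v, ∀ j, bs.repr ⁅u, v⁆ j = _ := fun u v j =>
    congrArg (fun w => bs.repr w j) (Groth.Agent.LieThree.bracket_eq bs u v)
  simp only [hxy, hxz, hyz] at br
  set t := algebraMap K A α with htd
  have E1 := congrArg φ hxy
  have E2 := congrArg φ hxz
  have E3 := congrArg φ hyz
  rw [LieEquiv.map_lie] at E1 E2 E3
  rw [map_zero] at E3
  rw [map_smul] at E2
  have e10 := br (φ (bs 0)) (φ (bs 1)) 0
  have e11 := br (φ (bs 0)) (φ (bs 1)) 1
  have e12 := br (φ (bs 0)) (φ (bs 1)) 2
  have e20 := br (φ (bs 0)) (φ (bs 2)) 0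
  have e21 := br (φ (bs 0)) (φ (bs 2)) 1
  have e22 := br (φ (bs 0)) (φ (bs 2)) 2
  have e31 := br (φ (bs 1)) (φ (bs 2)) 1
  rw [E1] at e10 e11 e12
  rw [E2] at e20 e21 e22
  rw [E3] at e31
  simp [Finsupp.single_apply] at e10 e11 e12 e20 e21 e22 e31
  simp only [e10, mul_zero, sub_zero, zero_mul, zero_sub] at e11 e12 e31
  set a := bs.repr (φ (bs 0)) 0 with ha
  set e := bs.repr (φ (bs 1)) 1 with he
  set f := bs.repr (φ (bs 1)) 2 with hf
  set q := bs.repr (φ (bs 2)) 0 with hq'
  set h := bs.repr (φ (bs 2)) 1 with hh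
  set i := bs.repr (φ (bs 2)) 2 with hi
  have hq : q = 0 := by
    by_cases hα : α = 0
    · have ht : t = 0 := by rw [htd, hα, map_zero]
      have hf0 : f = 0 := by rw [e12, ht, mul_zero]
      have hu := bs.isUnit_det (bs.map φ.toLinearEquiv)
      rw [Module.Basis.det_apply, Matrix.det_fin_three] at hu
      have hu' : IsUnit ((a * i - q * bs.repr (φ (bs 0)) 2) * e) := by
        convert hu using 1
        simp only [Module.Basis.toMatrix_apply, Module.Basis.map_apply]
        show _ = a * e * i - a * h * f - bs.repr (φ (bs 1)) 0 * bs.repr (φ (bs 0)) 1 * i +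
          bs.repr (φ (bs 1)) 0 * h * bs.repr (φ (bs 0)) 2 + q * bs.repr (φ (bs 0)) 1 * f - q * e * bs.repr (φ (bs 0)) 2
        rw [e10, hf0]
        ring
      refine (isUnit_of_mul_isUnit_right hu').mul_right_eq_zero.mp ?_
      linear_combination e31
    · exact ((Ne.isUnit hα).map (algebraMap K A)).mul_right_eq_zero.mp e20
  simp only [hq, mul_zero, sub_zero] at e21 e22
  obtain ⟨hau, hD⟩ := Groth.Agent.LieThree.isUnit_det bs bs φ.toLinearEquiv e10 hq
  change IsUnit (e * i - f * h) at hD
  have hx : φ (bs 0) = a • bs 0 + bs.repr (φ (bs 0)) 1 • bs 1 + bs.repr (φ (bs 0)) 2 • bs 2 :=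
    Groth.Agent.LieThree.decomp bs _
  have hy : φ (bs 1) = e • bs 1 + f • bs 2 := by
    rw [Groth.Agent.LieThree.decomp bs (φ (bs 1)), e10, ← he, ← hf, zero_smul, zero_add]
  have hz : φ (bs 2) = h • bs 1 + i • bs 2 := by
    rw [Groth.Agent.LieThree.decomp bs (φ (bs 2)), ← hq', hq, ← hh, ← hi, zero_smul, zero_add]
  refine ⟨fun hα => ?_, fun hα => ?_⟩
  · have h1 : IsUnit (α ^ 2 - 1) := Ne.isUnit (sub_ne_zero.mpr hα)
    have h1' : IsUnit (t ^ 2 - 1) := by simpa [htd] using h1.map (algebraMap K A)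
    have h2 : IsUnit (t - 1) := by
      rw [show t ^ 2 - 1 = (t - 1) * (t + 1) by ring] at h1'
      exact isUnit_of_mul_isUnit_left h1'
    have hfh : f * h = 0 := by
      refine h1'.mul_right_eq_zero.mp ?_
      linear_combination t * f * e21 - h * e12
    rw [hfh, sub_zero] at hD
    have he1 := isUnit_of_mul_isUnit_left hD
    have hi1 := isUnit_of_mul_isUnit_right hD
    have ha1 : a = 1 := by
      refine sub_eq_zero.mp (he1.mul_left_eq_zero.mp ?_)
      linear_combination -e11
    have hf0 : f = 0 := by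
      refine h2.mul_right_eq_zero.mp ?_
      rw [ha1] at e12
      linear_combination -e12
    have hh0 : h = 0 := by
      refine h2.mul_right_eq_zero.mp ?_
      rw [ha1] at e21
      linear_combination e21
    refine ⟨bs.repr (φ (bs 0)) 1, bs.repr (φ (bs 0)) 2, e, i, he1, hi1, ?_, ?_, ?_⟩
    · rwa [ha1, one_smul] at hx
    · rw [hy, hf0, zero_smul, add_zero]
    · rw [hz, hh0, zero_smul, zero_add]
  · have ht : t = 1 := by rw [htd, hα, map_one]
    rw [ht] at e21 e22 e12
    have ha1 : a = 1 := by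
      refine sub_eq_zero.mp (hD.mul_left_eq_zero.mp ?_)
      linear_combination -i * e11 + h * e12
    exact ⟨bs.repr (φ (bs 0)) 1, bs.repr (φ (bs 0)) 2, e, f, h, i, hD, by rwa [ha1, one_smul] at hx, hy, hz⟩

end Groth.Agent.S13102
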