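import Groth.Statements.S13104
import Mathlib
-- import your own Groth.Agent.* helpers here

set_option autoImplicit false
universe u
open GrpSch

namespace Groth.Agent.S13104

open CategoryTheory AlgebraicGeometry in
/-- Let B be a commutative ring, B[ε] the ring of dual numbers (ε² = 0) and B[α, β]/(α², β²) the double
dual numbers, realised as dual numbers over the dual numbers with α the inner and β the outer
generator, and let ψ : B[ε] → B[α, β]/(α², β²) be the B-algebra homomorphism with ψ(ε) = αβ. Then
for every scheme G the map u ↦ Spec(ψ) ≫ u from morphisms Spec B[ε] → G to morphisms Spec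
B[α,β]/(α²,β²) → G is injective. (The printed statement is its consequence for a group scheme G: the
map Lie(G)(B) → G(B[α,β]/(α²,β²)), x ↦ exp(αβ x), is injective; the injectivity on all B[ε]-points
stated here is what the printed argument establishes.) -/
theorem result (B : Type u) [CommRing B]
    (ψ : DualNumber B →+* DualNumber (DualNumber B))
    (hψB : ∀ b : B, ψ (algebraMap B (DualNumber B) b) = algebraMap B (DualNumber (DualNumber B)) b)
    (hψ : ψ DualNumber.eps = algebraMap (DualNumber B) (DualNumber (DualNumber B)) DualNumber.eps * DualNumber.eps)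
    (G : Scheme.{u}) :
    Function.Injective (fun u : Spec (CommRingCat.of (DualNumber B)) ⟶ G =>
      Spec.map (CommRingCat.ofHom (R := DualNumber B) (S := DualNumber (DualNumber B)) ψ) ≫ u) := by
  intro u₁ u₂ h
  let φ : CommRingCat.of (DualNumber B) ⟶ CommRingCat.of (DualNumber (DualNumber B)) :=
    CommRingCat.ofHom (R := DualNumber B) (S := DualNumber (DualNumber B)) ψ
  let r : DualNumber (DualNumber B) → DualNumber B := fun x =>
    TrivSqZeroExt.inl x.fst.fst + TrivSqZeroExt.inr x.snd.snd
  have hψ' : ∀ y : DualNumber B, (ψ y).fst.fst = y.fst ∧ (ψ y).fst.snd = 0 ∧ (ψ y).snd.fst = 0 ∧ (ψ y).snd.snd = y.snd := by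
    intro y
    have hy : y = algebraMap B (DualNumber B) y.fst + algebraMap B (DualNumber B) y.snd * DualNumber.eps := by
      ext <;> simp [TrivSqZeroExt.algebraMap_eq_inl']
    rw [hy, map_add, map_mul, hψB, hψB, hψ]
    simp [TrivSqZeroExt.algebraMap_eq_inl']
  have hrad : ∀ (x : DualNumber (DualNumber B)) (y : DualNumber B), r (ψ y * x) = y * r x := by
    intro x y
    obtain ⟨h1, h2, h3, h4⟩ := hψ' y
    ext <;> simp [r, h1, h2, h3, h4] <;> ring
  have hr1 : r 1 = 1 := by ext <;> simp [r]
  haveI : Epi (Spec.map φ) := by
    apply CategoryTheory.Functor.epi_of_epi_map (Scheme.forgetToLocallyRingedSpace)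
    apply CategoryTheory.Functor.epi_of_epi_map (LocallyRingedSpace.forgetToSheafedSpace)
    refine SheafedSpace.epi_of_base_surjective_of_stalk_mono _ (fun (p : PrimeSpectrum (DualNumber B)) => ?_) fun (x : PrimeSpectrum (DualNumber (DualNumber B))) => ?_
    · let q : DualNumber (DualNumber B) →+* DualNumber B :=
        { toFun := fun x => TrivSqZeroExt.inl x.fst.fst
          map_one' := by ext <;> simp
          map_mul' := fun a b => by ext <;> simp
          map_zero' := by ext <;> simp
          map_add' := fun a b => by ext <;> simp }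
      refine ⟨PrimeSpectrum.comap q p, ?_⟩
      apply PrimeSpectrum.ext
      ext y
      show q (ψ y) ∈ p.asIdeal ↔ y ∈ p.asIdeal
      have hd : (q (ψ y) - y) * (q (ψ y) - y) = 0 := by
        ext <;> simp [q, (hψ' y).1]
      have hd' : q (ψ y) - y ∈ p.asIdeal := (p.isPrime.mem_or_mem (by rw [hd]; exact zero_mem _)).elim id id
      exact ⟨fun h => by simpa using sub_mem h hd', fun h => by simpa using add_mem hd' h⟩
    · apply ConcreteCategory.mono_of_injective
      have hl : Function.Injective (Localization.localRingHom (Ideal.comap ψ x.asIdeal) x.asIdeal ψ rfl) := by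
        rw [injective_iff_map_eq_zero]
        intro z hz
        obtain ⟨a, s, rfl⟩ := IsLocalization.exists_mk'_eq (Ideal.comap ψ x.asIdeal).primeCompl z
        rw [Localization.localRingHom_mk', IsLocalization.mk'_eq_zero_iff] at hz
        obtain ⟨⟨m, hm⟩, hma⟩ := hz
        rw [IsLocalization.mk'_eq_zero_iff]
        have h0 : r m * a = 0 := by
          rw [mul_comm, ← hrad]
          have : ψ a * m = 0 := (CommMagma.mul_comm (ψ a) m).trans hma
          rw [this]
          ext <;> simp [r]
        refine ⟨⟨r m, ?_⟩, h0⟩
        intro hmem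
        apply hm
        have h5 : (ψ (r m) - m) * (ψ (r m) - m) * (ψ (r m) - m) = 0 := by
          have hd : (ψ (r m) - m).fst.fst = 0 := by
            rw [TrivSqZeroExt.fst_sub, TrivSqZeroExt.fst_sub, (hψ' (r m)).1]
            simp [r]
          generalize ψ (r m) - m = d at hd ⊢
          ext <;> simp [hd] <;> ring
        have h6 : ψ (r m) - m ∈ x.asIdeal :=
          x.isPrime.mem_of_pow_mem 3 (by rw [pow_succ, pow_two, h5]; exact zero_mem _)
        have h7 : ψ (r m) ∈ x.asIdeal := hmem
        simpa using sub_mem h7 h6
      have e := ((MorphismProperty.monomorphisms CommRingCat).arrow_mk_iso_iff (Scheme.arrowStalkMapSpecIso φ x)).mpr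
        (ConcreteCategory.mono_of_injective _ hl)
      haveI : Mono ((Spec.map φ).stalkMap x) := e
      exact (ConcreteCategory.mono_iff_injective_of_preservesPullback _).mp this
  exact (cancel_epi (Spec.map φ)).mp h

end Groth.Agent.S13104
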