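import Groth.Statements.S13107
import Groth.Agent.GrpSchLib.LieThree
-- import your own Groth.Agent.* helpers here

set_option autoImplicit false
universe u v w
open GrpSch

namespace Groth.Agent.S13107

/-- Let k be a field, K = k((t)) the field of Laurent series over k, F a Lie algebra over K with a basis
x' = bF 0, y' = bF 1, z' = bF 2 and brackets [x',y'] = z', [x',z'] = t y', [y',z'] = 0, and L a Lie
algebra over K with a basis x = bL 0, y = bL 1, z = bL 2 and brackets [x,y] = y, [x,z] = −z, [y,z] =
0. Then there is no K-linear isomorphism of Lie algebras between L and F: F is a non-trivial form of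
L over K. (The published result is the classification of three-dimensional Lie algebras over k((t))
for k algebraically closed of characteristic not 2, with F its only non-split entry; this row states
the non-isomorphism of F and L over k((t)) for every field k.) -/
theorem result (k : Type u) [Field k]
    (F : Type v) [LieRing F] [LieAlgebra (LaurentSeries k) F] (bF : Module.Basis (Fin 3) (LaurentSeries k) F)
    (hF01 : ⁅bF 0, bF 1⁆ = bF 2) (hF02 : ⁅bF 0, bF 2⁆ = (HahnSeries.single 1 (1 : k) : LaurentSeries k) • bF 1)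
    (hF12 : ⁅bF 1, bF 2⁆ = 0)
    (L : Type w) [LieRing L] [LieAlgebra (LaurentSeries k) L] (bL : Module.Basis (Fin 3) (LaurentSeries k) L)
    (hL01 : ⁅bL 0, bL 1⁆ = bL 1) (hL02 : ⁅bL 0, bL 2⁆ = -bL 2) (hL12 : ⁅bL 1, bL 2⁆ = 0) :
    IsEmpty (L ≃ₗ⁅LaurentSeries k⁆ F) := by
  refine ⟨fun φ => ?_⟩
  have br : ∀ u v, ∀ j, bF.repr ⁅u, v⁆ j = _ := fun u v j =>
    congrArg (fun w => bF.repr w j) (Groth.Agent.LieThree.bracket_eq bF u v)
  simp only [hF01, hF02, hF12] at br
  have E1 := congrArg φ hL01
  rw [LieEquiv.map_lie] at E1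
  have e10 := br (φ (bL 0)) (φ (bL 1)) 0
  have e11 := br (φ (bL 0)) (φ (bL 1)) 1
  have e12 := br (φ (bL 0)) (φ (bL 1)) 2
  rw [E1] at e10 e11 e12
  simp [Finsupp.single_apply] at e10 e11 e12
  simp only [e10, mul_zero, sub_zero] at e11 e12
  set a := bF.repr (φ (bL 0)) 0
  set e := bF.repr (φ (bL 1)) 1 with he'
  set f := bF.repr (φ (bL 1)) 2 with hf'
  have he : e ≠ 0 := by
    intro he
    have hf : f = 0 := by rw [e12, he, mul_zero]
    apply bL.ne_zero 1
    apply φ.toLinearEquiv.injective
    rw [map_zero]
    show φ (bL 1) = 0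
    rw [Groth.Agent.LieThree.decomp bF (φ (bL 1)), e10, ← he', ← hf', he, hf]
    simp
  have key : a * a * (HahnSeries.single 1 (1 : k) : LaurentSeries k) = 1 := by
    refine mul_right_cancel₀ he ?_
    rw [one_mul]
    conv_rhs => rw [e11, e12]
    ring
  have ha : a ≠ 0 := fun h => by simp [h] at key
  have ho := congrArg HahnSeries.order key
  rw [HahnSeries.order_mul (mul_ne_zero ha ha) (by simp), HahnSeries.order_mul ha ha,
    HahnSeries.order_single one_ne_zero, HahnSeries.order_one] at ho
  omega

end Groth.Agent.S13107
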