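import Groth.Statements.S13108
import Groth.Agent.GrpSchLib.LieThree
-- import your own Groth.Agent.* helpers here

set_option autoImplicit false
universe u v w
open GrpSch

namespace Groth.Agent.S13108

/-- Let k be a field and t, t' ∈ k both non-zero; let L be a Lie algebra over k with a basis x = b 0, y
= b 1, z = b 2 and brackets [x,y] = y, [x,z] = t z, [y,z] = 0, and L' a Lie algebra over k with a
basis x' = b' 0, y' = b' 1, z' = b' 2 and brackets [x',y'] = y', [x',z'] = t' z', [y',z'] = 0. Then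
L and L' are isomorphic Lie algebras over k if and only if t' = t or t' = t⁻¹. -/
theorem result (k : Type u) [Field k] (t t' : k) (ht : t ≠ 0) (ht' : t' ≠ 0)
    (L : Type v) [LieRing L] [LieAlgebra k L] (b : Module.Basis (Fin 3) k L)
    (h01 : ⁅b 0, b 1⁆ = b 1) (h02 : ⁅b 0, b 2⁆ = t • b 2) (h12 : ⁅b 1, b 2⁆ = 0)
    (L' : Type w) [LieRing L'] [LieAlgebra k L'] (b' : Module.Basis (Fin 3) k L')
    (h01' : ⁅b' 0, b' 1⁆ = b' 1) (h02' : ⁅b' 0, b' 2⁆ = t' • b' 2) (h12' : ⁅b' 1, b' 2⁆ = 0) :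
    Nonempty (L ≃ₗ⁅k⁆ L') ↔ (t' = t ∨ t' = t⁻¹) := by
  constructor
  · rintro ⟨φ⟩
    have br : ∀ u v, ∀ j, b'.repr ⁅u, v⁆ j = _ := fun u v j =>
      congrArg (fun w => b'.repr w j) (Groth.Agent.LieThree.bracket_eq b' u v)
    simp only [h01', h02', h12'] at br
    have E1 := congrArg φ h01
    have E2 := congrArg φ h02
    rw [LieEquiv.map_lie] at E1 E2
    rw [map_smul] at E2
    have e10 := br (φ (b 0)) (φ (b 1)) 0
    have e11 := br (φ (b 0)) (φ (b 1)) 1
    have e12 := br (φ (b 0)) (φ (b 1)) 2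
    have e20 := br (φ (b 0)) (φ (b 2)) 0
    have e21 := br (φ (b 0)) (φ (b 2)) 1
    have e22 := br (φ (b 0)) (φ (b 2)) 2
    rw [E1] at e10 e11 e12
    rw [E2] at e20 e21 e22
    simp [Finsupp.single_apply] at e10 e11 e12 e20 e21 e22
    replace e20 : b'.repr (φ (b 2)) 0 = 0 := e20.resolve_left ht
    simp only [e10, e20, mul_zero, sub_zero] at e11 e12 e21 e22
    obtain ⟨-, hD⟩ := Groth.Agent.LieThree.isUnit_det b b' φ.toLinearEquiv e10 e20
    change IsUnit (b'.repr (φ (b 1)) 1 * b'.repr (φ (b 2)) 2 - b'.repr (φ (b 1)) 2 * b'.repr (φ (b 2)) 1) at hD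
    set a := b'.repr (φ (b 0)) 0
    set e := b'.repr (φ (b 1)) 1
    set f := b'.repr (φ (b 1)) 2
    set h := b'.repr (φ (b 2)) 1
    set i := b'.repr (φ (b 2)) 2
    by_cases he : e = 0
    · have hfh : f * h ≠ 0 := fun h0 => hD.ne_zero (by rw [he, h0, zero_mul, sub_zero])
      obtain ⟨hf, hh⟩ := mul_ne_zero_iff.mp hfh
      have hat : a * t' = 1 := mul_right_cancel₀ hf (by linear_combination -e12)
      have hta : t = a := mul_right_cancel₀ hh e21
      exact Or.inr (eq_inv_of_mul_eq_one_right (hta ▸ hat))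
    · have ha1 : a = 1 := mul_right_cancel₀ he (by linear_combination -e11)
      by_cases hi : i = 0
      · have hfh : f * h ≠ 0 := fun h0 => hD.ne_zero (by rw [hi, h0, mul_zero, sub_zero])
        obtain ⟨hf, hh⟩ := mul_ne_zero_iff.mp hfh
        rw [ha1] at e12 e21
        have ht1 : t' = 1 := mul_right_cancel₀ hf (by linear_combination -e12)
        have ht2 : t = 1 := mul_right_cancel₀ hh (by linear_combination e21)
        exact Or.inl (ht1.trans ht2.symm)
      · rw [ha1] at e22
        exact Or.inl (mul_right_cancel₀ hi (by linear_combination -e22))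
  · rintro (rfl | rfl)
    · refine Groth.Agent.LieThree.nonempty_lieEquiv b (b.equiv b' (Equiv.refl _)) ?_ ?_ ?_ <;>
        simp [h01, h02, h12, h01', h02', h12']
    · let bb : Module.Basis (Fin 3) k L' :=
        (b'.reindex (Equiv.swap 1 2)).unitsSMul (fun j => if j = 0 then Units.mk0 t ht else 1)
      have hb0 : bb 0 = t • b' 0 := by simp [bb, Module.Basis.unitsSMul_apply, Units.smul_def, Equiv.swap_apply_of_ne_of_ne]
      have hb1 : bb 1 = b' 2 := by simp [bb, Module.Basis.unitsSMul_apply]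
      have hb2 : bb 2 = b' 1 := by simp [bb, Module.Basis.unitsSMul_apply]
      have h21' : ⁅b' 2, b' 1⁆ = 0 := by rw [← lie_skew, h12', neg_zero]
      refine Groth.Agent.LieThree.nonempty_lieEquiv b (b.equiv bb (Equiv.refl _)) ?_ ?_ ?_ <;>
        simp [h01, h02, h12, h01', h02', h21', hb0, hb1, hb2, smul_smul, ht]

end Groth.Agent.S13108
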