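import Groth.Statements.S13109
import Groth.Agent.PtFunNormal.Semi
-- import your own Groth.Agent.* helpers here

set_option autoImplicit false
universe u
open HTop

namespace Groth.Agent.S13109

open AlgebraicGeometry W4c1hilbchowinc in
/-- Let A be a Noetherian seminormal ring whose integral closure in its total ring of fractions is a
finite A-module. Then a pointwise function on Spec A — one element of the residue field κ(y) for
every point y — which varies algebraically along complete discrete valuation rings (for every
complete discrete valuation ring R and every morphism Spec R → Spec A there is an element of R whose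
values at the two points of Spec R are the images of the chosen values) is the family of values of
exactly one global section. Seminormal is meant in the sense that x^3 = y^2 forces x = a^2 and y =
a^3 for a unique a, which for reduced Noetherian rings is equivalent to the criterion on elements of
the total ring of fractions; test rings range over the universe of A. -/
theorem result
    (A : Type u) [CommRing A] [IsNoetherianRing A] (hA : HTop.IsSeminormalRing A)
    (hfin : Module.Finite A (integralClosure A (FractionRing A)))
    (f : PtFun (Spec (CommRingCat.of A))) (hf : f.VariesAlongCompleteDVR) :
    ∃! a : Γ(Spec (CommRingCat.of A), ⊤), PtFun.ofSection (Spec (CommRingCat.of A)) a = f := by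
  haveI := AWNLib.isReduced_of_isSeminormalRing hA
  choose u v hv huv using fun y => PtFunNormal.exists_frac A y (f y)
  obtain ⟨b, hb⟩ := PtFunNormal.exists_mem_integralClosure A hfin f hf u v hv huv
  haveI : _root_.IsReduced (FractionRing A) :=
    isReduced_localizationPreserves (nonZeroDivisors A) _ inferInstance
  haveI : _root_.IsReduced (integralClosure A (FractionRing A)) :=
    isReduced_of_injective (integralClosure A (FractionRing A)).val Subtype.val_injective
  haveI := hfin
  have hinj : Function.Injective (algebraMap A (integralClosure A (FractionRing A))) := fun a a' h =>
    IsFractionRing.injective A (FractionRing A) (congrArg Subtype.val h)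
  obtain ⟨a, rfl⟩ := PtFunNormal.mem_range_of_seminormal A hA hinj b u v hv hb
  refine PtFunNormal.existsUnique_of_eval A f a fun y => ?_
  obtain ⟨x, hx⟩ := RingHom.IsIntegral.comap_surjective
    (f := algebraMap A (integralClosure A (FractionRing A)))
    (fun z => Algebra.IsIntegral.isIntegral z) hinj y
  have h1 := hb x y (congrArg PrimeSpectrum.asIdeal hx).symm
  rw [← map_mul, ← map_sub, ← Ideal.mem_comap, show x.asIdeal.comap _ = y.asIdeal from
    congrArg PrimeSpectrum.asIdeal hx, ← PtFunNormal.evalHom_eq_zero A y, map_sub, map_mul,
    sub_eq_zero, ← huv y] at h1
  exact (mul_right_cancel₀ (fun h0 => hv y ((PtFunNormal.evalHom_eq_zero A y _).mp h0)) h1).symm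

end Groth.Agent.S13109
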