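import Groth.Statements.S13110
import Groth.Agent.PtFunNormal.Alg
-- import your own Groth.Agent.* helpers here

set_option autoImplicit false
universe u
open HTop CategoryTheory

namespace Groth.Agent.S13110

open AlgebraicGeometry W4c1hilbchowinc in
/-- Let A be a reduced Noetherian ring, integrally closed inside its total ring of fractions
(equivalently, a finite product of integrally closed Noetherian domains). Then a pointwise function
on Spec A — one element of the residue field κ(y) for every point y — which varies algebraically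
along discrete valuation rings (for every discrete valuation ring R and every morphism Spec R → Spec
A there is an element of R whose values at the two points of Spec R are the images of the chosen
values) is the family of values of exactly one global section. Reducedness is part of the meaning of
integrally closed here; test rings range over the universe of A. -/
theorem result
    (A : Type u) [CommRing A] [IsReduced A] [IsNoetherianRing A] [IsIntegrallyClosed A]
    (f : PtFun (Spec (CommRingCat.of A))) (hf : f.VariesAlongDVR) :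
    ∃! a : Γ(Spec (CommRingCat.of A), ⊤), PtFun.ofSection (Spec (CommRingCat.of A)) a = f := by
  classical
  let X := Spec (CommRingCat.of A)
  let ev : ∀ x : X, A →+* X.residueField x := fun x =>
    ((Scheme.ΓSpecIso (CommRingCat.of A)).inv ≫ X.Γevaluation x).hom
  have hiso : ∀ (x : X) (a : A), ev x a =
      (Scheme.Spec.residueFieldIso (CommRingCat.of A) x).inv (algebraMap A x.asIdeal.ResidueField a) :=
    fun x a => (CategoryTheory.congr_fun (Scheme.Spec.algebraMap_residueFieldIso_inv (CommRingCat.of A) x) a).symm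
  have hev0 : ∀ (x : X) (a : A), ev x a = 0 ↔ a ∈ x.asIdeal := fun x a => by
    rw [hiso, ← Ideal.algebraMap_residueField_eq_zero (I := x.asIdeal)]
    exact map_eq_zero_iff _
      (Scheme.Spec.residueFieldIso (CommRingCat.of A) x).commRingCatIsoToRingEquiv.symm.injective
  have hfrac : ∀ x : X, ∃ b c : A, c ∉ x.asIdeal ∧ f x * ev x c = ev x b := fun x => by
    let e := (Scheme.Spec.residueFieldIso (CommRingCat.of A) x).commRingCatIsoToRingEquiv
    obtain ⟨b, c, hc, hbc⟩ :=
      IsFractionRing.div_surjective (A := A ⧸ x.asIdeal) (e (f x))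
    obtain ⟨b, rfl⟩ := Ideal.Quotient.mk_surjective b
    obtain ⟨c, rfl⟩ := Ideal.Quotient.mk_surjective c
    have hc' : c ∉ x.asIdeal := fun h0 => nonZeroDivisors.ne_zero hc (Ideal.Quotient.eq_zero_iff_mem.mpr h0)
    refine ⟨b, c, hc', e.injective ?_⟩
    have h1 : ∀ a, e (ev x a) = algebraMap A x.asIdeal.ResidueField a := fun a => by
      rw [hiso]; exact e.apply_symm_apply _
    have hc0 : algebraMap A x.asIdeal.ResidueField c ≠ 0 :=
      fun h0 => hc' (Ideal.algebraMap_residueField_eq_zero.mp h0)
    have hbc' : algebraMap A x.asIdeal.ResidueField b / algebraMap A x.asIdeal.ResidueField c = e (f x) := by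
      rw [← hbc]; rfl
    rw [map_mul, h1, h1, ← hbc', div_mul_cancel₀ _ hc0]
  -- the values seen by a discrete valuation ring
  have htest : ∀ (R : Type u) [CommRing R] [IsDomain R] [IsDiscreteValuationRing R] (φ : A →+* R),
      ∃ r : R, ∀ (P : PrimeSpectrum R) (x : X), x.asIdeal = P.asIdeal.comap φ → ∀ b c : A,
        f x * ev x c = ev x b → r * φ c - φ b ∈ P.asIdeal := by
    intro R _ _ _ φ
    let Y := Spec (CommRingCat.of R)
    let g : Y ⟶ X := Spec.map (CommRingCat.ofHom φ)
    obtain ⟨s, hs⟩ := hf R g
    refine ⟨(Scheme.ΓSpecIso (CommRingCat.of R)).hom s, fun P x hx b c hbc => ?_⟩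
    have hx' : g P = x := PrimeSpectrum.ext hx.symm
    subst hx'
    let evR : R →+* Y.residueField P :=
      ((Scheme.ΓSpecIso (CommRingCat.of R)).inv ≫ Y.Γevaluation P).hom
    have hnat : ∀ a : A, g.residueFieldMap P (ev (g P) a) = evR (φ a) := fun a => by
      show g.residueFieldMap P (X.Γevaluation (g P) ((Scheme.ΓSpecIso (CommRingCat.of A)).inv a)) = _
      rw [Scheme.Γevaluation_naturality_apply]
      exact congrArg (Y.Γevaluation P)
        (CategoryTheory.congr_fun (Scheme.ΓSpecIso_inv_naturality (CommRingCat.ofHom φ)) a).symm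
    have hr : evR ((Scheme.ΓSpecIso (CommRingCat.of R)).hom s) = g.residueFieldMap P (f (g P)) := by
      show Y.Γevaluation P ((Scheme.ΓSpecIso (CommRingCat.of R)).inv ((Scheme.ΓSpecIso (CommRingCat.of R)).hom s)) = _
      rw [CategoryTheory.Iso.hom_inv_id_apply]
      exact congrFun hs P
    have h0 : evR ((Scheme.ΓSpecIso (CommRingCat.of R)).hom s * φ c - φ b) = 0 := by
      rw [map_sub, map_mul, hr, ← hnat, ← hnat, ← map_mul, hbc, sub_self]
    have hR : ∀ a : R, evR a = 0 → a ∈ P.asIdeal := fun a ha => by
      rw [← Ideal.algebraMap_residueField_eq_zero (I := P.asIdeal)]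
      have h2 := CategoryTheory.congr_fun (Scheme.Spec.algebraMap_residueFieldIso_inv (CommRingCat.of R) P) a
      exact (map_eq_zero_iff _
        (Scheme.Spec.residueFieldIso (CommRingCat.of R) P).commRingCatIsoToRingEquiv.symm.injective).mp
          (h2.trans ha)
    exact hR _ h0
  let pt : ∀ p : minimalPrimes A, X := fun p => ⟨p.1, p.2.1.1⟩
  choose b c hc hbc using fun p : minimalPrimes A => hfrac (pt p)
  obtain ⟨a, ha⟩ := PtFunNormal.exists_of_forall_dvr b c hc (fun p R _ _ _ φ hφ => by
    obtain ⟨r, hr⟩ := htest R φ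
    refine ⟨r, sub_eq_zero.mp ?_⟩
    exact Ideal.mem_bot.mp (hr ⟨(⊥ : Ideal R), Ideal.isPrime_bot⟩ (pt p) (by rw [← RingHom.ker_eq_comap_bot, hφ])
      (b p) (c p) (hbc p)))
  have hall : ∀ x : X, f x = ev x a := by
    intro x
    obtain ⟨p, hp, hpx⟩ := Ideal.exists_minimalPrimes_le (bot_le : ⊥ ≤ x.asIdeal)
    let p' : minimalPrimes A := ⟨p, hp⟩
    rcases hpx.eq_or_lt with heq | hlt
    · obtain rfl : pt p' = x := PrimeSpectrum.ext heq
      refine mul_right_cancel₀ (b := ev (pt p') (c p')) (fun h0 => hc p' ((hev0 _ _).mp h0)) ?_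
      rw [hbc p', ← map_mul, ← sub_eq_zero, ← map_sub, hev0]
      exact ha p'
    · haveI : p.IsPrime := hp.1.1
      obtain ⟨R, iR, iD, iV, φ, hk, hm⟩ := PtFunNormal.exists_dvr_specialization p x.asIdeal hlt
      obtain ⟨r, hr⟩ := htest R φ
      have h1 : r = φ a := by
        have h2 := hr ⟨(⊥ : Ideal R), Ideal.isPrime_bot⟩ (pt p') (by rw [← RingHom.ker_eq_comap_bot, hk])
          (b p') (c p') (hbc p')
        have h3 : b p' - a * c p' ∈ RingHom.ker φ := by rw [hk]; exact ha p'
        rw [RingHom.mem_ker, map_sub, map_mul, sub_eq_zero] at h3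
        rw [Ideal.mem_bot, h3, ← sub_mul, mul_eq_zero, sub_eq_zero] at h2
        refine h2.resolve_right fun h0 => hc p' ?_
        show c p' ∈ p
        rw [← hk, RingHom.mem_ker, h0]
      obtain ⟨b', c', hc', hbc'⟩ := hfrac x
      have h4 := hr (IsLocalRing.closedPoint R) x hm.symm b' c' hbc'
      rw [h1, ← map_mul, ← map_sub] at h4
      have h5 : a * c' - b' ∈ x.asIdeal := hm ▸ h4
      refine mul_right_cancel₀ (b := ev x c') (fun h0 => hc' ((hev0 _ _).mp h0)) ?_
      rw [hbc', ← map_mul]
      exact (sub_eq_zero.mp (by rw [← map_sub, hev0]; exact h5)).symm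
  refine ⟨(Scheme.ΓSpecIso (CommRingCat.of A)).inv a, funext fun x => (hall x).symm, fun t ht => ?_⟩
  have ht' : ∀ x, ev x ((Scheme.ΓSpecIso (CommRingCat.of A)).hom t) = f x := fun x => by
    show X.Γevaluation x ((Scheme.ΓSpecIso (CommRingCat.of A)).inv ((Scheme.ΓSpecIso (CommRingCat.of A)).hom t)) = _
    rw [CategoryTheory.Iso.hom_inv_id_apply]
    exact congrFun ht x
  have hzero : (Scheme.ΓSpecIso (CommRingCat.of A)).hom t - a = 0 := by
    have h0 : (Scheme.ΓSpecIso (CommRingCat.of A)).hom t - a ∈ nilradical A := by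
      rw [nilradical_eq_sInf, Submodule.mem_sInf]
      intro P hP
      have h1 := (hev0 ⟨P, hP⟩ _).mp
        (show ev ⟨P, hP⟩ ((Scheme.ΓSpecIso (CommRingCat.of A)).hom t - a) = 0 by
          rw [map_sub, ht', ← hall, sub_self])
      exact h1
    rwa [nilradical_eq_zero, Submodule.zero_eq_bot, Ideal.mem_bot] at h0
  rw [← sub_eq_zero.mp hzero, CategoryTheory.Iso.hom_inv_id_apply]

end Groth.Agent.S13110
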