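import Groth.Statements.S13111
import Groth.Agent.AWNLib.Scheme2
-- import your own Groth.Agent.* helpers here

set_option autoImplicit false
universe u
open HTop

namespace Groth.Agent.S13111

open AlgebraicGeometry W4c1hilbchowinc in
/-- Let A be a reduced Noetherian ring whose integral closure in its total ring of fractions is a finite
A-module. Suppose that any pointwise function on Spec A that is algebraic along every discrete
valuation ring (for every discrete valuation ring R and every morphism Spec R → Spec A there is an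
element of R whose values at the two points of Spec R are the images of the chosen values) is the
family of values of exactly one global section. Then A is seminormal: whenever x^3 = y^2 there is
exactly one a with x = a^2 and y = a^3. Test rings range over the universe of A. -/
theorem result
    (A : Type u) [CommRing A] [IsReduced A] [IsNoetherianRing A]
    (hfin : Module.Finite A (integralClosure A (FractionRing A)))
    (h : ∀ f : PtFun (Spec (CommRingCat.of A)), f.VariesAlongDVR →
      ∃! a : Γ(Spec (CommRingCat.of A), ⊤), PtFun.ofSection (Spec (CommRingCat.of A)) a = f) :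
    HTop.IsSeminormalRing A := by
  classical
  let X := Spec (CommRingCat.of A)
  refine AWNLib.isSeminormalRing_of_equiv (Scheme.ΓSpecIso (CommRingCat.of A)).commRingCatIsoToRingEquiv
    (?_ : HTop.IsSeminormalRing Γ(X, ⊤))
  intro x y hxy
  have hev : ∀ P, X.Γevaluation P x ^ 3 = X.Γevaluation P y ^ 2 := fun P => by rw [← map_pow, hxy, map_pow]
  let f : PtFun X := fun P => if X.Γevaluation P x = 0 then 0 else X.Γevaluation P y / X.Γevaluation P x
  have hf : f.VariesAlongDVR := by
    intro R _ _ _ g
    have hR : ∃ a : R, (Scheme.ΓSpecIso (CommRingCat.of R)).hom (g.appTop x) = a ^ 2 ∧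
        (Scheme.ΓSpecIso (CommRingCat.of R)).hom (g.appTop y) = a ^ 3 := by
      set x' : R := (Scheme.ΓSpecIso (CommRingCat.of R)).hom (g.appTop x) with hx'
      set y' : R := (Scheme.ΓSpecIso (CommRingCat.of R)).hom (g.appTop y) with hy'
      have h' : x' ^ 3 = y' ^ 2 := by rw [hx', hy', ← map_pow, ← map_pow, hxy, map_pow, map_pow]
      by_cases h0 : x' = 0
      · rw [h0, zero_pow three_ne_zero] at h'
        exact ⟨0, by rw [h0, zero_pow two_ne_zero],
          by rw [(pow_eq_zero_iff two_ne_zero).1 h'.symm, zero_pow three_ne_zero]⟩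
      · let K := FractionRing R
        have hi := IsFractionRing.injective R K
        have h0' : algebraMap R K x' ≠ 0 := fun e => h0 (hi (by rw [e, map_zero]))
        have hq : (algebraMap R K y' / algebraMap R K x') ^ 2 = algebraMap R K x' := by
          rw [div_pow, div_eq_iff (pow_ne_zero 2 h0'), ← map_pow, ← h', map_pow]; ring
        obtain ⟨a, ha⟩ := IsIntegrallyClosed.algebraMap_eq_of_integral (R := R)
          (IsIntegral.of_pow two_pos (by rw [hq]; exact isIntegral_algebraMap) :
            IsIntegral R (algebraMap R K y' / algebraMap R K x'))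
        refine ⟨a, hi ?_, hi ?_⟩
        · rw [map_pow, ha, hq]
        · rw [map_pow, ha, pow_succ, hq, mul_div_cancel₀ _ h0']
    obtain ⟨a, h2, h3⟩ := hR
    refine ⟨(Scheme.ΓSpecIso (CommRingCat.of R)).inv a, funext fun P => ?_⟩
    have e2 : g.appTop x = (Scheme.ΓSpecIso (CommRingCat.of R)).inv a ^ 2 := by
      rw [← map_pow, ← h2, CategoryTheory.Iso.hom_inv_id_apply]
    have e3 : g.appTop y = (Scheme.ΓSpecIso (CommRingCat.of R)).inv a ^ 3 := by
      rw [← map_pow, ← h3, CategoryTheory.Iso.hom_inv_id_apply]
    show (Spec (CommRingCat.of R)).Γevaluation P _ = g.residueFieldMap P (f (g P))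
    have hgx : g.residueFieldMap P (X.Γevaluation (g P) x) =
        ((Spec (CommRingCat.of R)).Γevaluation P ((Scheme.ΓSpecIso (CommRingCat.of R)).inv a)) ^ 2 := by
      rw [Scheme.Γevaluation_naturality_apply, e2, map_pow]
    have hgy : g.residueFieldMap P (X.Γevaluation (g P) y) =
        ((Spec (CommRingCat.of R)).Γevaluation P ((Scheme.ΓSpecIso (CommRingCat.of R)).inv a)) ^ 3 := by
      rw [Scheme.Γevaluation_naturality_apply, e3, map_pow]
    by_cases h0 : X.Γevaluation (g P) x = 0
    · simp only [f, if_pos h0, map_zero]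
      rw [h0, map_zero] at hgx
      exact (pow_eq_zero_iff two_ne_zero).1 hgx.symm
    · simp only [f, if_neg h0]
      rw [map_div₀, hgx, hgy, pow_succ, mul_div_cancel_left₀ _ ?_]
      intro e
      rw [e] at hgx
      exact h0 ((map_eq_zero _).1 hgx)
  obtain ⟨s, hs, -⟩ := h f hf
  haveI : AlgebraicGeometry.IsReduced X := (affine_isReduced_iff _).mpr ‹_›
  have hzero : ∀ z : Γ(X, ⊤), (∀ P, X.Γevaluation P z = 0) → z = 0 := fun z hz => by
    refine (AlgebraicGeometry.basicOpen_eq_bot_iff z).1 (eq_bot_iff.2 fun P hP => ?_)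
    exact absurd (hz P) ((X.Γevaluation_ne_zero_iff_mem_basicOpen P z).2 hP)
  have hsP : ∀ P, X.Γevaluation P s = f P := fun P => congrFun hs P
  refine ⟨s, ⟨(sub_eq_zero.1 (hzero _ fun P => ?_)), (sub_eq_zero.1 (hzero _ fun P => ?_))⟩, fun b hb => ?_⟩
  · rw [map_sub, map_pow, hsP, sub_eq_zero]
    by_cases h0 : X.Γevaluation P x = 0
    · simp only [f, if_pos h0]; rw [h0, zero_pow two_ne_zero]
    · simp only [f, if_neg h0]
      rw [div_pow, eq_div_iff (pow_ne_zero 2 h0), ← hev P]; ring
  · rw [map_sub, map_pow, hsP, sub_eq_zero]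
    by_cases h0 : X.Γevaluation P x = 0
    · have := hev P
      rw [h0, zero_pow three_ne_zero] at this
      simp only [f, if_pos h0]
      rw [(pow_eq_zero_iff two_ne_zero).1 this.symm, zero_pow three_ne_zero]
    · simp only [f, if_neg h0]
      rw [div_pow, eq_div_iff (pow_ne_zero 3 h0), hev P]; ring
  · refine sub_eq_zero.1 (hzero _ fun P => ?_)
    rw [map_sub, hsP, sub_eq_zero]
    have h2 : X.Γevaluation P x = X.Γevaluation P b ^ 2 := by rw [hb.1, map_pow]
    have h3 : X.Γevaluation P y = X.Γevaluation P b ^ 3 := by rw [hb.2, map_pow]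
    by_cases h0 : X.Γevaluation P x = 0
    · simp only [f, if_pos h0]
      rw [h0] at h2
      exact (pow_eq_zero_iff two_ne_zero).1 h2.symm
    · simp only [f, if_neg h0]
      rw [h2] at h0 ⊢
      rw [h3, pow_succ, mul_div_cancel_left₀ _ h0]

end Groth.Agent.S13111
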