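import Groth.Statements.S13114
import Mathlib
-- import your own Groth.Agent.* helpers here

set_option autoImplicit false
universe u
open HilbChow

namespace Groth.Agent.S13114

/-- Let k be an algebraically closed field, A a commutative local k-algebra of finite dimension n over k
and u a unit of A. Then the determinant of multiplication by u on the k-vector space A, mapped to
the residue field of A, equals the n-th power of the residue class of u. -/
theorem result
    (k A : Type u) [Field k] [IsAlgClosed k] [CommRing A] [Algebra k A] [IsLocalRing A]
    [Module.Finite k A] (u : Aˣ) :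
    algebraMap k (IsLocalRing.ResidueField A) (Algebra.norm k (u : A)) =
      IsLocalRing.residue A (u : A) ^ Module.finrank k A := by
  have : IsArtinianRing A := IsArtinianRing.of_finite k A
  have : Algebra.IsIntegral k A := Algebra.IsIntegral.of_finite k A
  obtain ⟨c, hc⟩ := (IsAlgClosed.algebraMap_bijective_of_isIntegral (k := k)
    (K := IsLocalRing.ResidueField A)).2 (IsLocalRing.residue A (u : A))
  have hν : IsNilpotent ((u : A) - algebraMap k A c) := by
    refine mem_nilradical.mp ?_
    rw [nilradical_eq_sInf, Submodule.mem_sInf]
    intro q hq
    haveI : Ideal.IsPrime q := hq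
    rw [IsLocalRing.eq_maximalIdeal (IsArtinianRing.isMaximal_of_isPrime q), ← IsLocalRing.residue_eq_zero_iff,
      map_sub, sub_eq_zero, ← hc]
    rfl
  have hN : IsNilpotent (-(Algebra.lmul k A ((u : A) - algebraMap k A c))) :=
    (hν.map (Algebra.lmul k A)).neg
  have h := LinearMap.eval_charpoly (-(Algebra.lmul k A ((u : A) - algebraMap k A c))) c
  rw [IsNilpotent.charpoly_eq_X_pow_finrank hN, Polynomial.eval_pow, Polynomial.eval_X] at h
  have e : algebraMap k (Module.End k A) c - -(Algebra.lmul k A ((u : A) - algebraMap k A c))
      = Algebra.lmul k A (u : A) := by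
    rw [sub_neg_eq_add, map_sub, AlgHom.commutes, add_sub_cancel]
  rw [e] at h
  rw [← hc, ← map_pow, Algebra.norm_apply, h]

end Groth.Agent.S13114
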