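import Groth.Statements.S13115
import Mathlib
-- import your own Groth.Agent.* helpers here

set_option autoImplicit false
universe u
open scoped TensorProduct
open HilbChow

namespace Groth.Agent.S13115

/-- Let k be an infinite field, V a k-vector space and m a natural number. Then every symmetric tensor
in the m-fold tensor power of V — one fixed by every permutation of the factors — is a k-linear
combination of pure powers v ⊗ ⋯ ⊗ v with v in V. (The published statement concerns the ring of
functions of an affine scheme over an infinite field, where it gives the uniqueness of the algebra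
map defining the Hilbert-to-Chow morphism for zero-cycles; this row states it for any vector space.) -/
theorem result
    (k V : Type u) [Field k] [Infinite k] [AddCommGroup V] [Module k V] (m : ℕ)
    (x : ⨂[k] _ : Fin m, V)
    (hx : ∀ σ : Equiv.Perm (Fin m), PiTensorProduct.reindex k (fun _ : Fin m => V) σ x = x) :
    x ∈ Submodule.span k (Set.range fun v : V => PiTensorProduct.tprod k (fun _ : Fin m => v)) := by
  classical
  let b := Module.Free.chooseBasis k V
  let B := Basis.piTensorProduct (fun _ : Fin m => b)
  have hB : ∀ p, B p = PiTensorProduct.tprod k (fun i => b (p i)) := fun p => Basis.piTensorProduct_apply _ p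
  have hc : ∀ (σ : Equiv.Perm (Fin m)) f, B.repr x (f ∘ σ) = B.repr x f := by
    intro σ f
    have e : (B.coord f).comp (PiTensorProduct.reindex k (fun _ : Fin m => V) σ).toLinearMap
        = B.coord (f ∘ σ) := by
      refine B.ext fun g => ?_
      rw [LinearMap.comp_apply, LinearEquiv.coe_coe, hB g, PiTensorProduct.reindex_tprod]
      rw [show (PiTensorProduct.tprod k fun i => b (g (σ.symm i))) = B (g ∘ σ.symm) from (hB _).symm,
        ← hB g, Module.Basis.coord_apply, Module.Basis.coord_apply, Module.Basis.repr_self, Module.Basis.repr_self,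
        Finsupp.single_apply, Finsupp.single_apply]
      have he : (g ∘ σ.symm = f) ↔ (g = f ∘ σ) := by
        constructor
        · rintro rfl; ext i; simp
        · rintro rfl; ext i; simp
      simp only [he]
    have h := LinearMap.congr_fun e x
    rw [LinearMap.comp_apply, LinearEquiv.coe_coe, hx σ, Module.Basis.coord_apply, Module.Basis.coord_apply] at h
    exact h.symm
  by_contra hxW
  obtain ⟨φ, hφx, hφW⟩ := Submodule.exists_dual_map_eq_bot_of_notMem hxW inferInstance
  refine hφx ?_
  let s : Finset (Module.Free.ChooseBasisIndex k V) :=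
    (B.repr x).support.biUnion fun f => Finset.univ.image f
  let e : (Fin m → s) → (↥s →₀ ℕ) := fun f => ∑ i, Finsupp.single (f i) 1
  let a : (Fin m → s) → k := fun f => φ (B fun i => (f i).1)
  let P : MvPolynomial s k := ∑ f : Fin m → s, MvPolynomial.monomial (e f) (a f)
  have hP : P = 0 := by
    refine MvPolynomial.funext fun t => ?_
    rw [map_zero]
    have h0 : φ (PiTensorProduct.tprod k fun _ : Fin m => ∑ j : s, t j • b j.1) = 0 := by
      have h := Submodule.mem_map_of_mem (f := φ) (Submodule.subset_span
        (s := Set.range fun v : V => PiTensorProduct.tprod k (fun _ : Fin m => v)) ⟨∑ j : s, t j • b j.1, rfl⟩)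
      rw [hφW] at h
      exact h
    rw [MultilinearMap.map_sum, map_sum] at h0
    rw [← h0]
    simp only [P, map_sum]
    refine Finset.sum_congr rfl fun f _ => ?_
    rw [MultilinearMap.map_smul_univ, map_smul, MvPolynomial.eval_monomial, smul_eq_mul, ← hB, mul_comm]
    congr 1
    rw [← one_mul (Finsupp.prod _ _), ← MvPolynomial.eval_monomial]
    simp only [e]
    rw [MvPolynomial.monomial_sum_one, map_prod]
    simp [MvPolynomial.eval_monomial]
  have hfib : ∀ f g : Fin m → s, e f = e g →
      B.repr x (fun i => (f i).1) = B.repr x (fun i => (g i).1) := by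
    intro f g hfg
    have hcard : ∀ j : s, Fintype.card {i // g i = j} = Fintype.card {i // f i = j} := by
      intro j
      have h := DFunLike.congr_fun hfg.symm j
      simpa [e, Finsupp.single_apply, Finset.sum_boole, Fintype.card_subtype] using h
    let σ : Equiv.Perm (Fin m) := ((Equiv.sigmaFiberEquiv g).symm.trans
      (Equiv.sigmaCongrRight fun j => Fintype.equivOfCardEq (hcard j))).trans (Equiv.sigmaFiberEquiv f)
    have hσ : (fun i => (f i).1) ∘ σ = fun i => (g i).1 := by
      funext i
      exact congrArg Subtype.val
        (Fintype.equivOfCardEq (hcard (g i)) ⟨i, rfl⟩).2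
    rw [← hσ, hc]
  have hx' : x = ∑ f : Fin m → s, B.repr x (fun i => (f i).1) • B (fun i => (f i).1) := by
    conv_lhs => rw [← B.linearCombination_repr x, Finsupp.linearCombination_apply]
    rw [Finsupp.sum_of_support_subset (B.repr x)
      (s := Finset.univ.image fun f : Fin m → s => fun i => (f i).1) ?_ (fun i a => a • B i)
      (fun i _ => zero_smul k (B i)), Finset.sum_image ?_]
    · intro f _ g _ hfg
      exact funext fun i => Subtype.ext (congrFun hfg i)
    · intro f hf
      exact Finset.mem_image.mpr ⟨fun i => ⟨f i, Finset.mem_biUnion.mpr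
        ⟨f, hf, Finset.mem_image_of_mem f (Finset.mem_univ i)⟩⟩, Finset.mem_univ _, rfl⟩
  rw [hx', map_sum]
  simp only [map_smul, smul_eq_mul]
  rw [← Finset.sum_fiberwise_of_maps_to (g := e) (t := Finset.univ.image e)
    fun f _ => Finset.mem_image_of_mem e (Finset.mem_univ f)]
  refine Finset.sum_eq_zero fun d hd => ?_
  obtain ⟨f₀, -, rfl⟩ := Finset.mem_image.mp hd
  rw [Finset.sum_congr rfl fun f hf => by
    rw [hfib f f₀ (Finset.mem_filter.mp hf).2], ← Finset.mul_sum]
  have h := congrArg (MvPolynomial.coeff (e f₀)) hP
  simp only [P, MvPolynomial.coeff_sum, MvPolynomial.coeff_monomial, MvPolynomial.coeff_zero,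
    ← Finset.sum_filter, a] at h
  rw [h, mul_zero]

end Groth.Agent.S13115
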