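import Groth.Statements.S13116
import Groth.Agent.AmpleEmb.GenFinite
import Groth.Agent.AmpleEmb.FiniteSetQA
import Groth.Agent.AmpleLib.Pullback
-- import your own Groth.Agent.* helpers here

set_option autoImplicit false
set_option backward.isDefEq.respectTransparency false
universe u
open HilbChow

namespace Groth.Agent.S13116

open CategoryTheory CategoryTheory.Limits AlgebraicGeometry in
/-- Let k be a field, X an integral scheme smooth over k that is a closed subscheme of a projective
space over k, R a discrete valuation ring containing k, Z a subscheme of X ×_k Spec R which is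
finite over Spec R, and L an invertible module on X. Then the pullback of L to Z along Z → X ×_k
Spec R → X is isomorphic to the structure sheaf of Z (an isomorphism exists; none is singled out). -/
theorem result
    {k : Type u} [Field k] {X : Scheme.{u}} (sX : X ⟶ Spec (CommRingCat.of k))
    [IsIntegral X] [Smooth sX] (hproj : RelProj.IsHProjective sX)
    (R : Type u) [CommRing R] [IsDomain R] [IsDiscreteValuationRing R] [Algebra k R]
    {Z : Scheme.{u}}
    (i : Z ⟶ pullback sX (Spec.map (CommRingCat.ofHom (algebraMap k R)))) [IsImmersion i]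
    [IsFinite (i ≫ pullback.snd sX (Spec.map (CommRingCat.ofHom (algebraMap k R))))]
    (L : X.Modules) (hL : PicF.IsInvertible L) :
    Nonempty ((Scheme.Modules.pullback
        (i ≫ pullback.fst sX (Spec.map (CommRingCat.ofHom (algebraMap k R))))).obj L ≅
      Coh.structureModule Z) := by
  let g := i ≫ pullback.snd sX (Spec.map (CommRingCat.ofHom (algebraMap k R)))
  haveI : IsFinite g := ‹_›
  haveI : IsAffine Z := isAffine_of_isAffineHom g
  have hM := Groth.Agent.AmpleLib.isInvertible_pullback
    (i ≫ pullback.fst sX (Spec.map (CommRingCat.ofHom (algebraMap k R)))) hL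
  generalize (Scheme.Modules.pullback
    (i ≫ pullback.fst sX (Spec.map (CommRingCat.ofHom (algebraMap k R))))).obj L = M at hM ⊢
  let E : Set Z := g ⁻¹' {IsLocalRing.closedPoint R}
  obtain ⟨s, -, hE, -⟩ := Groth.Agent.AmpleEmb.exists_genLocus_finite_quasiAffine hM
    (g.finite_preimage_singleton _ : E.Finite) (show E ⊆ ((⊤ : Z.Opens) : Set Z) from fun _ _ => trivial)
  have htop : CohB1.genLocus M s = ⊤ := top_le_iff.1 fun z _ => by
    obtain ⟨z', hz, hz'⟩ := g.isClosedMap.specializingMap (IsLocalRing.specializes_closedPoint (g z))
    exact hz.mem_open (CohB1.genLocus M s).2 (hE hz')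
  haveI := Groth.Agent.GenMorph.isIso_of_genLocus_eq_top hM htop
  exact ⟨(asIso s).symm⟩

end Groth.Agent.S13116
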