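import Groth.Statements.S13117
import Groth.Agent.S13114
import Mathlib
-- import your own Groth.Agent.* helpers here

set_option autoImplicit false
universe u
open HilbChow

namespace Groth.Agent.S13117

/-- Let k be an algebraically closed field, A a finite-dimensional commutative k-algebra (the coordinate
ring of a zero-dimensional subscheme Z of length dim_k A) and f ∈ A. Then the determinant of
multiplication by f on A is the product over the points x of Z — the k-algebra homomorphisms A → k —
of the value f(x) raised to the length of the local ring of Z at x, that length being the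
k-dimension of the localisation of A at the corresponding maximal ideal. This is the formula by
which the Hilbert-to-Chow morphism for zero-cycles sends Z to its fundamental cycle Σ ℓ(O_{Z,x})[x]. -/
theorem result
    (k A : Type u) [Field k] [IsAlgClosed k] [CommRing A] [Algebra k A] [Module.Finite k A] (f : A) :
    Algebra.norm k f =
      ∏ᶠ φ : A →ₐ[k] k, φ f ^ Module.finrank k (Localization.AtPrime (Ideal.comap φ ⊥)) := by
  classical
  have : IsArtinianRing A := IsArtinianRing.of_finite k A
  have : Algebra.IsIntegral k A := Algebra.IsIntegral.of_finite k A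
  have : Fintype (MaximalSpectrum A) := Fintype.ofFinite _
  -- the norm of a product is the product of the norms
  have detpi : ∀ (ι : Type u) [Fintype ι] (M : ι → Type u) [∀ i, AddCommGroup (M i)]
      [∀ i, Module k (M i)] [∀ i, Module.Finite k (M i)] (g : ∀ i, M i →ₗ[k] M i),
      (LinearMap.pi fun i => (g i).comp (LinearMap.proj i)).det = ∏ i, (g i).det := by
    intro ι _ M _ _ _ g
    letI : LinearOrder ι := LinearOrder.lift' (Fintype.equivFin ι) (Equiv.injective _)
    let b := fun i => Module.Free.chooseBasis k (M i)
    let B := Pi.basis b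
    rw [← LinearMap.det_toMatrix B]
    have hM : LinearMap.toMatrix B B (LinearMap.pi fun i => (g i).comp (LinearMap.proj i)) =
        Matrix.blockDiagonal' (fun i => LinearMap.toMatrix (b i) (b i) (g i)) := by
      ext ⟨i, x⟩ ⟨j, y⟩
      rw [LinearMap.toMatrix_apply, Pi.basis_repr, Pi.basis_apply, LinearMap.pi_apply,
        LinearMap.comp_apply, LinearMap.proj_apply]
      rcases eq_or_ne i j with rfl | h
      · rw [Pi.single_eq_same, Matrix.blockDiagonal'_apply_eq, LinearMap.toMatrix_apply]
      · rw [Pi.single_eq_of_ne h, map_zero, map_zero, Finsupp.zero_apply,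
          Matrix.blockDiagonal'_apply_ne _ _ _ h]
    rw [hM, (Matrix.blockTriangular_blockDiagonal' _).det_fintype]
    refine Finset.prod_congr rfl fun i _ => ?_
    rw [← LinearMap.det_toMatrix (b i), ← Matrix.det_submatrix_equiv_self (Equiv.sigmaSubtype i).symm]
    congr 1
    ext x y
    simp [Matrix.toSquareBlock_def, Matrix.blockDiagonal'_apply_eq, Equiv.sigmaSubtype]
  let e0 := AlgEquiv.ofBijective
    (Pi.algHom k (fun m : MaximalSpectrum A => Localization.AtPrime m.asIdeal)
      (fun m => IsScalarTower.toAlgHom k A _)) ⟨MaximalSpectrum.toPiLocalization_injective A, fun y => by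
        obtain ⟨r, hr⟩ := PrimeSpectrum.toPiLocalization_bijective.2
          (fun p : PrimeSpectrum A => y ⟨p.asIdeal, IsArtinianRing.isMaximal_of_isPrime _⟩)
        exact ⟨r, funext fun m => congrFun hr ⟨m.asIdeal, m.isMaximal.isPrime⟩⟩⟩
  have hfin : ∀ m : MaximalSpectrum A, Module.Finite k (Localization.AtPrime m.asIdeal) := fun m =>
    Module.Finite.of_surjective (IsScalarTower.toAlgHom k A (Localization.AtPrime m.asIdeal)).toLinearMap
      (IsArtinianRing.localization_surjective m.asIdeal.primeCompl _)
  have hnorm : Algebra.norm k f =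
      ∏ m : MaximalSpectrum A, Algebra.norm k (algebraMap A (Localization.AtPrime m.asIdeal) f) := by
    rw [← Algebra.norm_eq_of_algEquiv e0 f, Algebra.norm_apply]
    simp only [Algebra.norm_apply]
    rw [← detpi]
    congr 1
  have hker : ∀ φ : A →ₐ[k] k, (Ideal.comap φ ⊥).IsMaximal := fun φ =>
    IsArtinianRing.isMaximal_of_isPrime _
  let F : (A →ₐ[k] k) → MaximalSpectrum A := fun φ => ⟨Ideal.comap φ ⊥, hker φ⟩
  have hval : ∀ φ : A →ₐ[k] k,
      Algebra.norm k (algebraMap A (Localization.AtPrime (F φ).asIdeal) f) =
        φ f ^ Module.finrank k (Localization.AtPrime (Ideal.comap φ ⊥)) := by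
    intro φ
    haveI := hfin (F φ)
    have hm : f - algebraMap k A (φ f) ∈ (F φ).asIdeal := by
      show φ (f - algebraMap k A (φ f)) = 0
      simp
    have hres : IsLocalRing.residue (Localization.AtPrime (F φ).asIdeal)
        (algebraMap A (Localization.AtPrime (F φ).asIdeal) f) =
        algebraMap k (IsLocalRing.ResidueField (Localization.AtPrime (F φ).asIdeal)) (φ f) := by
      rw [IsScalarTower.algebraMap_apply k (Localization.AtPrime (F φ).asIdeal)
        (IsLocalRing.ResidueField _), IsScalarTower.algebraMap_apply k A (Localization.AtPrime _)]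
      rw [← sub_eq_zero]
      show IsLocalRing.residue _ _ - IsLocalRing.residue _ _ = 0
      rw [← map_sub, IsLocalRing.residue_eq_zero_iff, ← map_sub]
      exact (IsLocalization.AtPrime.to_map_mem_maximal_iff _ (F φ).asIdeal _).mpr hm
    by_cases hu : IsUnit (algebraMap A (Localization.AtPrime (F φ).asIdeal) f)
    · have h := Groth.Agent.S13114.result k (Localization.AtPrime (F φ).asIdeal) hu.unit
      rw [IsUnit.unit_spec, hres, ← map_pow] at h
      exact (algebraMap k (IsLocalRing.ResidueField _)).injective h
    · have h0 : φ f = 0 := by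
        have h1 := (IsLocalRing.residue_eq_zero_iff _).mpr hu
        rw [hres] at h1
        exact (map_eq_zero _).mp h1
      have hpos : 0 < Module.finrank k (Localization.AtPrime (F φ).asIdeal) := Module.finrank_pos
      rw [h0, zero_pow hpos.ne']
      haveI : IsArtinianRing (Localization.AtPrime (F φ).asIdeal) := IsArtinianRing.of_finite k _
      obtain ⟨N, hN⟩ : IsNilpotent (algebraMap A (Localization.AtPrime (F φ).asIdeal) f) := by
        rw [← mem_nilradical, nilradical_eq_sInf, Submodule.mem_sInf]
        intro q hq
        haveI : Ideal.IsPrime q := hq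
        rw [IsLocalRing.eq_maximalIdeal (IsArtinianRing.isMaximal_of_isPrime q)]
        exact hu
      have h2 := congrArg (Algebra.norm k) hN
      rw [map_pow, Algebra.norm_zero] at h2
      exact eq_zero_of_pow_eq_zero h2
  have hbij : Function.Bijective F := by
    constructor
    · intro φ ψ h
      ext a
      have ha : a - algebraMap k A (φ a) ∈ Ideal.comap φ ⊥ := by
        show φ (a - algebraMap k A (φ a)) = 0
        simp
      rw [show Ideal.comap φ ⊥ = Ideal.comap ψ ⊥ from congrArg MaximalSpectrum.asIdeal h] at ha
      have ha' : ψ (a - algebraMap k A (φ a)) = 0 := ha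
      rw [map_sub, AlgHom.commutes, sub_eq_zero] at ha'
      exact ha'.symm
    · intro m
      haveI := m.isMaximal
      letI := Ideal.Quotient.field m.asIdeal
      haveI : Algebra.IsIntegral k (A ⧸ m.asIdeal) := Algebra.IsIntegral.of_finite k _
      let q := AlgEquiv.ofBijective (Algebra.ofId k (A ⧸ m.asIdeal))
        (IsAlgClosed.algebraMap_bijective_of_isIntegral (k := k))
      refine ⟨q.symm.toAlgHom.comp (Ideal.Quotient.mkₐ k m.asIdeal), ?_⟩
      apply MaximalSpectrum.ext
      ext a
      show q.symm (Ideal.Quotient.mk m.asIdeal a) = 0 ↔ a ∈ m.asIdeal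
      rw [map_eq_zero_iff q.symm q.symm.injective, Ideal.Quotient.eq_zero_iff_mem]
  rw [hnorm, ← finprod_eq_prod_of_fintype]
  exact (finprod_eq_of_bijective F hbij fun φ => (hval φ).symm).symm

end Groth.Agent.S13117
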