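import Groth.Statements.S13120
import Mathlib
import Groth.Agent.CharTwoQuad

set_option autoImplicit false
universe u
open KumFam

namespace Groth.Agent.S13120

open MvPolynomial Groth.Agent.CharTwoQuad

open MvPolynomial in
/-- Let R be a commutative ring of characteristic 2 and l0, l2, l4, s0, s2, s4, τ ∈ R with τ a unit.
Inside R[u, v] (u = X 0, v = X 1) let A = R[u², u³, v², v³] be the coordinate ring of the product of
two cuspidal curves, and let D be the R-derivation of R[u, v] with D(u) = v²(l0 u⁴ + τ u³ + l2 u² +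
l4) and D(v) = u²(s0 v⁴ + τ v³ + s2 v² + s4); D is u²v² times the rational vector field (l0 u² + τ u
+ l2 + l4 u⁻²) ∂_u + (s0 v² + τ v + s2 + s4 v⁻²) ∂_v, which maps A into itself, and u²v² is a
non-zero-divisor, so the kernel of that vector field on A is the set of a ∈ A with D(a) = 0. Then
for a ∈ A: D(a) = 0 if and only if a ∈ R[u², v², g], where g = (s0 v⁴ + s2 v² + s4) u³ + (l0 u⁴ + l2
u² + l4) v³ + τ u³ v³. (The published statement identifies this kernel with the ring of invariants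
of the corresponding action of the group scheme of square roots of unity; this row states the kernel
computation that is actually carried out.) -/
theorem result (R : Type u) [CommRing R] [CharP R 2]
    (l0 l2 l4 s0 s2 s4 τ : R) (hτ : IsUnit τ) (a : MvPolynomial (Fin 2) R)
    (ha : a ∈ Algebra.adjoin R
      ({X 0 ^ 2, X 0 ^ 3, X 1 ^ 2, X 1 ^ 3} : Set (MvPolynomial (Fin 2) R))) :
    MvPolynomial.mkDerivation R
        (![X 1 ^ 2 * (C l0 * X 0 ^ 4 + C τ * X 0 ^ 3 + C l2 * X 0 ^ 2 + C l4),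
          X 0 ^ 2 * (C s0 * X 1 ^ 4 + C τ * X 1 ^ 3 + C s2 * X 1 ^ 2 + C s4)] :
          Fin 2 → MvPolynomial (Fin 2) R) a = 0 ↔
      a ∈ Algebra.adjoin R
        ({X 0 ^ 2, X 1 ^ 2,
          (C s0 * X 1 ^ 4 + C s2 * X 1 ^ 2 + C s4) * X 0 ^ 3 +
            (C l0 * X 0 ^ 4 + C l2 * X 0 ^ 2 + C l4) * X 1 ^ 3 +
            C τ * X 0 ^ 3 * X 1 ^ 3} : Set (MvPolynomial (Fin 2) R)) := by
  classical
  have h2 : (2 : MvPolynomial (Fin 2) R) = 0 := CharTwo.two_eq_zero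
  set g : MvPolynomial (Fin 2) R := (C s0 * X 1 ^ 4 + C s2 * X 1 ^ 2 + C s4) * X 0 ^ 3 +
    (C l0 * X 0 ^ 4 + C l2 * X 0 ^ 2 + C l4) * X 1 ^ 3 + C τ * X 0 ^ 3 * X 1 ^ 3 with hg
  set α : MvPolynomial (Fin 2) R := C l0 * X 0 ^ 2 + C l2 * X 0 + C l4 with hα
  set β : MvPolynomial (Fin 2) R := C s0 * X 1 ^ 2 + C s2 * X 1 + C s4 with hβ
  set D := MvPolynomial.mkDerivation R
    (![X 1 ^ 2 * (C l0 * X 0 ^ 4 + C τ * X 0 ^ 3 + C l2 * X 0 ^ 2 + C l4),
      X 0 ^ 2 * (C s0 * X 1 ^ 4 + C τ * X 1 ^ 3 + C s2 * X 1 ^ 2 + C s4)] :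
      Fin 2 → MvPolynomial (Fin 2) R) with hD
  have hι : ∀ p, D (expand 2 p) = 0 := by
    intro p
    induction p using MvPolynomial.induction_on with
    | C r => rw [expand_C]; exact MvPolynomial.derivation_C D r
    | add p q hp hq => rw [map_add, map_add, hp, hq, add_zero]
    | mul_X p i hp =>
      rw [map_mul, expand_X, D.leibniz, hp, D.leibniz_pow, smul_zero, add_zero, nsmul_eq_mul,
        Nat.cast_ofNat, h2, zero_mul, smul_zero]
  set U : MvPolynomial (Fin 2) R := X 0 ^ 3 with hU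
  set V : MvPolynomial (Fin 2) R := X 1 ^ 3 with hV
  set m : MvPolynomial (Fin 2) R := X 0 ^ 2 * X 1 ^ 2 with hm
  have hDU : D U = m * (expand 2 α + expand 2 (C τ) * U) := by
    rw [hU, D.leibniz_pow]
    simp only [hm, hα, hD, mkDerivation_X, map_add, map_mul, map_pow, expand_X,
      expand_C, Matrix.cons_val_zero, nsmul_eq_mul, smul_eq_mul]
    push_cast
    linear_combination (X 0 ^ 2 * (X 1 ^ 2 * (C l0 * X 0 ^ 4 + C τ * X 0 ^ 3 + C l2 * X 0 ^ 2 + C l4))) * h2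
  have hDV : D V = m * (expand 2 β + expand 2 (C τ) * V) := by
    rw [hV, D.leibniz_pow]
    simp only [hm, hβ, hD, mkDerivation_X, map_add, map_mul, map_pow, expand_X,
      expand_C, Matrix.cons_val_one, Matrix.cons_val_zero, nsmul_eq_mul, smul_eq_mul]
    push_cast
    linear_combination (X 1 ^ 2 * (X 0 ^ 2 * (C s0 * X 1 ^ 4 + C τ * X 1 ^ 3 + C s2 * X 1 ^ 2 + C s4))) * h2
  have hreg : ∀ (i : Fin 2) (z : MvPolynomial (Fin 2) R), z * X i = 0 → z = 0 := fun i z hz =>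
    (isRegular_X (R := R) (n := i)).right (show z * X i = 0 * X i by rw [hz, zero_mul])
  have hind : ∀ q0 q1 q2 q3 : MvPolynomial (Fin 2) R,
      expand 2 q0 + expand 2 q1 * U + expand 2 q2 * V + expand 2 q3 * (U * V) = 0 →
      q0 = 0 ∧ q1 = 0 ∧ q2 = 0 ∧ q3 = 0 := by
    intro q0 q1 q2 q3 h
    have e : expand 2 q0 + expand 2 (q1 * X 0) * X 0 + expand 2 (q2 * X 1) * X 1 +
        expand 2 (q3 * X 0 * X 1) * (X 0 * X 1) = 0 := by
      rw [← h]; simp only [hU, hV, map_mul, expand_X]; ring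
    obtain ⟨a0, a1, a2, a3⟩ := expand_indep _ _ _ _ e
    exact ⟨a0, hreg 0 _ a1, hreg 1 _ a2, hreg 0 _ (hreg 1 _ a3)⟩
  have hmz : ∀ z, m * z = 0 → z = 0 := by
    intro z hz
    apply hreg 0; apply hreg 0; apply hreg 1; apply hreg 1
    rw [← hz, hm]; ring
  obtain ⟨p0, p1, p2, p3, rfl⟩ : ∃ p0 p1 p2 p3 : MvPolynomial (Fin 2) R,
      a = expand 2 p0 + expand 2 p1 * U + expand 2 p2 * V + expand 2 p3 * (U * V) := by
    induction ha using Algebra.adjoin_induction with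
    | mem x hx =>
      simp only [Set.mem_insert_iff, Set.mem_singleton_iff] at hx
      rcases hx with rfl | rfl | rfl | rfl
      · exact ⟨X 0, 0, 0, 0, by simp⟩
      · exact ⟨0, 1, 0, 0, by simp [hU]⟩
      · exact ⟨X 1, 0, 0, 0, by simp⟩
      · exact ⟨0, 0, 1, 0, by simp [hV]⟩
    | algebraMap r => exact ⟨C r, 0, 0, 0, by simp⟩
    | add x y _ _ hx hy =>
      obtain ⟨a0, a1, a2, a3, rfl⟩ := hx
      obtain ⟨b0, b1, b2, b3, rfl⟩ := hy
      exact ⟨a0 + b0, a1 + b1, a2 + b2, a3 + b3, by simp only [map_add]; ring⟩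
    | mul x y _ _ hx hy =>
      obtain ⟨a0, a1, a2, a3, rfl⟩ := hx
      obtain ⟨b0, b1, b2, b3, rfl⟩ := hy
      refine ⟨a0 * b0 + a1 * b1 * X 0 ^ 3 + a2 * b2 * X 1 ^ 3 + a3 * b3 * (X 0 ^ 3 * X 1 ^ 3),
        a0 * b1 + a1 * b0 + (a2 * b3 + a3 * b2) * X 1 ^ 3,
        a0 * b2 + a2 * b0 + (a1 * b3 + a3 * b1) * X 0 ^ 3,
        a0 * b3 + a3 * b0 + a1 * b2 + a2 * b1, ?_⟩
      simp only [hU, hV, map_add, map_mul, map_pow, expand_X]; ring
  have hgen : expand 2 β * U + expand 2 α * V + expand 2 (C τ) * (U * V) = g := by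
    simp only [hg, hα, hβ, hU, hV, map_add, map_mul, map_pow, expand_X, expand_C]; ring
  have hk := kernel_core (B := MvPolynomial (Fin 2) R) (expand (R := R) (σ := Fin 2) 2).toRingHom (fun x => D x)
    (fun x y => map_add D x y) (fun x y => D.leibniz x y) hι U V α β (C τ) (hτ.map C) m hmz hDU hDV hind p0 p1 p2 p3
  simp only [AlgHom.toRingHom_eq_coe, RingHom.coe_coe] at hk
  rw [hk, hgen]
  set Q : MvPolynomial (Fin 2) R := β ^ 2 * X 0 ^ 3 + α ^ 2 * X 1 ^ 3 + C (τ ^ 2) * X 0 ^ 3 * X 1 ^ 3 with hQ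
  have hgQ : g ^ 2 + expand 2 Q = 0 := by
    rw [← hgen, hQ]
    simp only [hU, hV, map_add, map_mul, map_pow, expand_X, expand_C]
    linear_combination ((expand 2 β * X 0 ^ 3) ^ 2 + (expand 2 α * X 1 ^ 3) ^ 2 + (C τ * X 0 ^ 3 * X 1 ^ 3) ^ 2 +
      expand 2 β * expand 2 α * X 0 ^ 3 * X 1 ^ 3 + expand 2 β * C τ * X 0 ^ 6 * X 1 ^ 3 +
      expand 2 α * C τ * X 0 ^ 3 * X 1 ^ 6) * h2
  have hset : ({X 0 ^ 2, X 1 ^ 2, g} : Set (MvPolynomial (Fin 2) R)) = Set.range ![X 0 ^ 2, X 1 ^ 2, g] := by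
    rw [Matrix.range_cons, Matrix.range_cons, Matrix.range_cons, Matrix.range_empty, Set.union_empty]
    simp only [Set.singleton_union]
  rw [hset, Algebra.adjoin_range_eq_range_aeval, mem_range_iff g Q hgQ]

end Groth.Agent.S13120
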