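import Groth.Statements.S13121
import Mathlib
import Groth.Agent.CharTwoQuad

set_option autoImplicit false
universe u
open KumFam

namespace Groth.Agent.S13121

open MvPolynomial Groth.Agent.CharTwoQuad

open MvPolynomial in
/-- Let R be a commutative ring of characteristic 2 and l0, l2, l4, s0, s2, s4, τ ∈ R with τ a unit. In
R[u, v] (u = X 0, v = X 1) put g = (s0 v⁴ + s2 v² + s4) u³ + (l0 u⁴ + l2 u² + l4) v³ + τ u³ v³. Then
the kernel of the R-algebra homomorphism R[a, b, c] → R[u, v] (a = X 0, b = X 1, c = X 2) with a ↦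
u², b ↦ v², c ↦ g is the ideal generated by c² + s0² a³ b⁴ + s2² a³ b² + s4² a³ + l0² a⁴ b³ + l2² a²
b³ + l4² b³ + τ² a³ b³; its image is the subalgebra R[u², v², g], which is therefore presented by
this one equation. -/
theorem result (R : Type u) [CommRing R] [CharP R 2]
    (l0 l2 l4 s0 s2 s4 τ : R) (hτ : IsUnit τ) :
    RingHom.ker (MvPolynomial.aeval (R := R) (S₁ := MvPolynomial (Fin 2) R)
        ![X 0 ^ 2, X 1 ^ 2,
          (C s0 * X 1 ^ 4 + C s2 * X 1 ^ 2 + C s4) * X 0 ^ 3 +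
            (C l0 * X 0 ^ 4 + C l2 * X 0 ^ 2 + C l4) * X 1 ^ 3 +
            C τ * X 0 ^ 3 * X 1 ^ 3]) =
      Ideal.span {(X 2 ^ 2 + C (s0 ^ 2) * X 0 ^ 3 * X 1 ^ 4 + C (s2 ^ 2) * X 0 ^ 3 * X 1 ^ 2 +
        C (s4 ^ 2) * X 0 ^ 3 + C (l0 ^ 2) * X 0 ^ 4 * X 1 ^ 3 + C (l2 ^ 2) * X 0 ^ 2 * X 1 ^ 3 +
        C (l4 ^ 2) * X 1 ^ 3 + C (τ ^ 2) * X 0 ^ 3 * X 1 ^ 3 : MvPolynomial (Fin 3) R)} := by
  classical
  have h2 : (2 : MvPolynomial (Fin 2) R) = 0 := CharTwo.two_eq_zero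
  set g : MvPolynomial (Fin 2) R := (C s0 * X 1 ^ 4 + C s2 * X 1 ^ 2 + C s4) * X 0 ^ 3 +
    (C l0 * X 0 ^ 4 + C l2 * X 0 ^ 2 + C l4) * X 1 ^ 3 + C τ * X 0 ^ 3 * X 1 ^ 3 with hg
  set α : MvPolynomial (Fin 2) R := C l0 * X 0 ^ 2 + C l2 * X 0 + C l4 with hα
  set β : MvPolynomial (Fin 2) R := C s0 * X 1 ^ 2 + C s2 * X 1 + C s4 with hβ
  set Q : MvPolynomial (Fin 2) R := β ^ 2 * X 0 ^ 3 + α ^ 2 * X 1 ^ 3 + C (τ ^ 2) * X 0 ^ 3 * X 1 ^ 3 with hQ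
  have hg2 : g = expand 2 (β * X 0) * X 0 + expand 2 (α * X 1) * X 1 + expand 2 (C τ * X 0 * X 1) * (X 0 * X 1) := by
    simp only [hg, hα, hβ, map_add, map_mul, map_pow, expand_X, expand_C]; ring
  have hgQ : g ^ 2 + expand 2 Q = 0 := by
    rw [hg2, hQ]
    simp only [map_add, map_mul, map_pow, expand_X, expand_C]
    linear_combination ((expand 2 β * X 0 ^ 3) ^ 2 + (expand 2 α * X 1 ^ 3) ^ 2 + (C τ * X 0 ^ 3 * X 1 ^ 3) ^ 2 +
      expand 2 β * expand 2 α * X 0 ^ 3 * X 1 ^ 3 + expand 2 β * C τ * X 0 ^ 6 * X 1 ^ 3 +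
      expand 2 α * C τ * X 0 ^ 3 * X 1 ^ 6) * h2
  have hind : ∀ r0 r1 : MvPolynomial (Fin 2) R, expand 2 r0 + expand 2 r1 * g = 0 → r0 = 0 ∧ r1 = 0 := by
    intro r0 r1 h
    have e : expand 2 r0 + expand 2 (r1 * (β * X 0)) * X 0 + expand 2 (r1 * (α * X 1)) * X 1 +
        expand 2 (r1 * (C τ * X 0 * X 1)) * (X 0 * X 1) = 0 := by
      rw [← h, hg2]; simp only [map_mul]; ring
    obtain ⟨h0, -, -, h3⟩ := expand_indep _ _ _ _ e
    refine ⟨h0, ?_⟩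
    obtain ⟨t, ht⟩ := hτ.exists_left_inv
    have e' : (r1 * X 0) * X 1 = 0 := by
      have : C t * (r1 * (C τ * X 0 * X 1)) = 0 := by rw [h3, mul_zero]
      rw [← this, show C t * (r1 * (C τ * X 0 * X 1)) = (C t * C τ) * (r1 * X 0 * X 1) by ring, ← map_mul, ht,
        map_one, one_mul]
    have e'' : r1 * X 0 = 0 :=
      (isRegular_X (R := R) (n := (1 : Fin 2))).right (show r1 * X 0 * X 1 = 0 * X 1 by rw [e', zero_mul])
    exact (isRegular_X (R := R) (n := (0 : Fin 2))).right (show r1 * X 0 = 0 * X 0 by rw [e'', zero_mul])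
  rw [ker_aeval g Q hgQ hind]
  congr 2
  rw [hQ, hα, hβ, CharTwo.add_sq, CharTwo.add_sq, CharTwo.add_sq, CharTwo.add_sq]
  simp only [incl, map_add, map_mul, map_pow, rename_C, rename_X, Matrix.cons_val_zero, Matrix.cons_val_one]
  ring

end Groth.Agent.S13121
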