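import Groth.Statements.S13122
import Mathlib
import Groth.Agent.CharTwoQuad

set_option autoImplicit false
universe u
open KumFam

namespace Groth.Agent.S13122

open MvPolynomial Groth.Agent.CharTwoQuad

open MvPolynomial in
/-- Let R be a commutative ring of characteristic 2 and l0, l2, l4, s0, s2, s4, τ ∈ R with τ a unit. On
R[x, y] (x = X 0, y = X 1; the coordinates u⁻¹, v⁻¹ of the smooth chart of the product of two
cuspidal curves) let D be the R-derivation with D(x) = l4 x⁴ + l2 x² + τ x + l0 and D(y) = s4 y⁴ +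
s2 y² + τ y + s0, and put h = (s4 y⁴ + s2 y² + s0) x + (l4 x⁴ + l2 x² + l0) y + τ x y. Then: (1) for
p ∈ R[x, y], D(p) = 0 if and only if p lies in the image of the R-algebra homomorphism R[a, b, c] →
R[x, y] (a = X 0, b = X 1, c = X 2) with a ↦ x², b ↦ y², c ↦ h; (2) the kernel of that homomorphism
is the ideal generated by c² + τ² a b + (s4² b⁴ + s2² b² + s0²) a + (l4² a⁴ + l2² a² + l0²) b. (The
published statement asserts that the ring of invariants of the action of the group scheme of square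
roots of unity given by this vector field is R[a, b, c] modulo this equation, by the same
computation as on the other chart; this row pins the generator h and states the kernel computation.) -/
theorem result (R : Type u) [CommRing R]
    [CharP R 2] (l0 l2 l4 s0 s2 s4 τ : R) (hτ : IsUnit τ) :
    (∀ p : MvPolynomial (Fin 2) R,
      MvPolynomial.mkDerivation R
          (![C l4 * X 0 ^ 4 + C l2 * X 0 ^ 2 + C τ * X 0 + C l0,
            C s4 * X 1 ^ 4 + C s2 * X 1 ^ 2 + C τ * X 1 + C s0] :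
            Fin 2 → MvPolynomial (Fin 2) R) p = 0 ↔
        p ∈ (MvPolynomial.aeval (R := R) (S₁ := MvPolynomial (Fin 2) R)
          ![X 0 ^ 2, X 1 ^ 2,
            (C s4 * X 1 ^ 4 + C s2 * X 1 ^ 2 + C s0) * X 0 +
              (C l4 * X 0 ^ 4 + C l2 * X 0 ^ 2 + C l0) * X 1 + C τ * X 0 * X 1]).range) ∧
    RingHom.ker (MvPolynomial.aeval (R := R) (S₁ := MvPolynomial (Fin 2) R)
        ![X 0 ^ 2, X 1 ^ 2,
          (C s4 * X 1 ^ 4 + C s2 * X 1 ^ 2 + C s0) * X 0 +
            (C l4 * X 0 ^ 4 + C l2 * X 0 ^ 2 + C l0) * X 1 + C τ * X 0 * X 1]) =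
      Ideal.span {(X 2 ^ 2 + C (τ ^ 2) * X 0 * X 1 +
        (C (s4 ^ 2) * X 1 ^ 4 + C (s2 ^ 2) * X 1 ^ 2 + C (s0 ^ 2)) * X 0 +
        (C (l4 ^ 2) * X 0 ^ 4 + C (l2 ^ 2) * X 0 ^ 2 + C (l0 ^ 2)) * X 1 : MvPolynomial (Fin 3) R)} := by
  classical
  have h2 : (2 : MvPolynomial (Fin 2) R) = 0 := CharTwo.two_eq_zero
  set g : MvPolynomial (Fin 2) R := (C s4 * X 1 ^ 4 + C s2 * X 1 ^ 2 + C s0) * X 0 +
    (C l4 * X 0 ^ 4 + C l2 * X 0 ^ 2 + C l0) * X 1 + C τ * X 0 * X 1 with hg
  set α : MvPolynomial (Fin 2) R := C l4 * X 0 ^ 2 + C l2 * X 0 + C l0 with hα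
  set β : MvPolynomial (Fin 2) R := C s4 * X 1 ^ 2 + C s2 * X 1 + C s0 with hβ
  have hgen : expand 2 β * X 0 + expand 2 α * X 1 + expand 2 (C τ) * (X 0 * X 1) = g := by
    simp only [hg, hα, hβ, map_add, map_mul, map_pow, expand_X, expand_C]; ring
  set Q : MvPolynomial (Fin 2) R := C (τ ^ 2) * X 0 * X 1 + β ^ 2 * X 0 + α ^ 2 * X 1 with hQ
  have hgQ : g ^ 2 + expand 2 Q = 0 := by
    rw [← hgen, hQ]
    simp only [map_add, map_mul, map_pow, expand_X, expand_C]
    linear_combination ((expand 2 β * X 0) ^ 2 + (expand 2 α * X 1) ^ 2 + (C τ * X 0 * X 1) ^ 2 +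
      expand 2 β * expand 2 α * X 0 * X 1 + expand 2 β * C τ * X 0 ^ 2 * X 1 +
      expand 2 α * C τ * X 0 * X 1 ^ 2) * h2
  refine ⟨fun p => ?_, ?_⟩
  · set D := MvPolynomial.mkDerivation R
      (![C l4 * X 0 ^ 4 + C l2 * X 0 ^ 2 + C τ * X 0 + C l0,
        C s4 * X 1 ^ 4 + C s2 * X 1 ^ 2 + C τ * X 1 + C s0] :
        Fin 2 → MvPolynomial (Fin 2) R) with hD
    have hι : ∀ p, D (expand 2 p) = 0 := by
      intro p
      induction p using MvPolynomial.induction_on with
      | C r => rw [expand_C]; exact MvPolynomial.derivation_C D r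
      | add p q hp hq => rw [map_add, map_add, hp, hq, add_zero]
      | mul_X p i hp =>
        rw [map_mul, expand_X, D.leibniz, hp, D.leibniz_pow, smul_zero, add_zero, nsmul_eq_mul,
          Nat.cast_ofNat, h2, zero_mul, smul_zero]
    have hDU : D (X 0) = 1 * (expand 2 α + expand 2 (C τ) * X 0) := by
      simp only [hα, hD, mkDerivation_X, map_add, map_mul, map_pow, expand_X, expand_C, Matrix.cons_val_zero]
      ring
    have hDV : D (X 1) = 1 * (expand 2 β + expand 2 (C τ) * X 1) := by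
      simp only [hβ, hD, mkDerivation_X, map_add, map_mul, map_pow, expand_X, expand_C, Matrix.cons_val_one,
        Matrix.cons_val_zero]
      ring
    obtain ⟨p0, p1, p2, p3, rfl⟩ := exists_expand_decomp p
    have hk := kernel_core (B := MvPolynomial (Fin 2) R) (expand (R := R) (σ := Fin 2) 2).toRingHom (fun x => D x)
      (fun x y => map_add D x y) (fun x y => D.leibniz x y) hι (X 0) (X 1) α β (C τ) (hτ.map C) 1
      (fun z hz => by rwa [one_mul] at hz) hDU hDV expand_indep p0 p1 p2 p3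
    simp only [AlgHom.toRingHom_eq_coe, RingHom.coe_coe] at hk
    rw [hk, hgen, mem_range_iff g Q hgQ]
  · have hind : ∀ r0 r1 : MvPolynomial (Fin 2) R, expand 2 r0 + expand 2 r1 * g = 0 → r0 = 0 ∧ r1 = 0 := by
      intro r0 r1 h
      have e : expand 2 r0 + expand 2 (r1 * β) * X 0 + expand 2 (r1 * α) * X 1 +
          expand 2 (r1 * C τ) * (X 0 * X 1) = 0 := by
        rw [← h, ← hgen]; simp only [map_mul]; ring
      obtain ⟨h0, -, -, h3⟩ := expand_indep _ _ _ _ e
      exact ⟨h0, ((hτ.map (C : R →+* MvPolynomial (Fin 2) R)).mul_left_eq_zero).1 h3⟩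
    rw [ker_aeval g Q hgQ hind]
    congr 2
    rw [hQ, hα, hβ, CharTwo.add_sq, CharTwo.add_sq, CharTwo.add_sq, CharTwo.add_sq]
    simp only [incl, map_add, map_mul, map_pow, rename_C, rename_X, Matrix.cons_val_zero, Matrix.cons_val_one]
    ring

end Groth.Agent.S13122
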