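import Groth.Statements.S13124
import Groth.Prelude.Def_GLin
import Mathlib

set_option autoImplicit false
universe u v w
open KumFam

namespace Groth.Agent.S13124

open TensorProduct
set_option backward.isDefEq.respectTransparency false

lemma isIntegrallyClosed_of_div {k P : Type*} [CommRing k] [CommRing P] [IsDomain P] [Algebra k P]
    [IsIntegrallyClosed P] (A : Subalgebra k P)
    (h : ∀ a b : P, a ∈ A → a * b ∈ A → a ≠ 0 → b ∈ A) : IsIntegrallyClosed A := by
  refine (isIntegrallyClosed_iff (FractionRing A)).2 fun {x} hx => ?_
  let F : FractionRing A →+* FractionRing P :=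
    IsFractionRing.lift (g := (algebraMap P (FractionRing P)).comp A.val.toRingHom)
      ((IsFractionRing.injective P (FractionRing P)).comp Subtype.val_injective)
  have hF : ∀ a : A, F (algebraMap A (FractionRing A) a) = algebraMap P (FractionRing P) a :=
    fun a => IsFractionRing.lift_algebraMap _ a
  have hx' : IsIntegral P (F x) :=
    hx.map_of_comp_eq A.val.toRingHom F (RingHom.ext fun a => (hF a).symm)
  obtain ⟨p, hp⟩ := IsIntegrallyClosed.isIntegral_iff.1 hx'
  obtain ⟨a, b, hb, rfl⟩ := IsFractionRing.div_surjective A x
  have hb0 : b ≠ 0 := nonZeroDivisors.ne_zero hb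
  have hb1 : (b : P) ≠ 0 := fun h => hb0 (Subtype.ext h)
  rw [map_div₀, hF, hF, eq_div_iff (by simpa using hb1), ← map_mul] at hp
  have hab : p * (b : P) = a := IsFractionRing.injective P (FractionRing P) hp
  refine ⟨⟨p, h b p b.2 (by rw [mul_comm, hab]; exact a.2) hb1⟩, ?_⟩
  rw [eq_div_iff (by simpa using hb0), ← map_mul]
  exact congrArg _ (Subtype.ext hab)

/-- Let k be a commutative ring, A a commutative k-bialgebra that is flat over k, and R a commutative
k-algebra which is an integrally closed domain, with a coaction R → R ⊗ A that is an algebra
homomorphism. Then the ring of invariants (the elements f with coaction f ⊗ 1) is an integrally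
closed domain. (The published statement is for a finite group scheme acting on a normal scheme whose
quotient is, locally, the spectrum of the ring of invariants; this row is the affine integral case
and allows any commutative bialgebra flat over k, flatness being automatic over a field.) -/
theorem result (k : Type u) [CommRing k]
    (A : Type v) [CommRing A] [Bialgebra k A] [Module.Flat k A]
    (R : Type w) [CommRing R] [Algebra k R] [IsDomain R] [IsIntegrallyClosed R]
    [HopfRep.Comod k A R] [GLin.IsCoactAlg k A R] :
    IsIntegrallyClosed (GLin.invariants k A R) := by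
  refine isIntegrallyClosed_of_div (k := k) (P := R) (GLin.invariants k A R) fun a b ha hab h0 => ?_
  change HopfRep.Comod.coact (k := k) (A := A) a = a ⊗ₜ[k] (1 : A) at ha
  change HopfRep.Comod.coact (k := k) (A := A) (a * b) = (a * b) ⊗ₜ[k] (1 : A) at hab
  show HopfRep.Comod.coact (k := k) (A := A) b = b ⊗ₜ[k] (1 : A)
  rw [GLin.IsCoactAlg.coact_mul, ha] at hab
  have hinj : Function.Injective (LinearMap.rTensor A (LinearMap.mulLeft k a)) :=
    Module.Flat.rTensor_preserves_injective_linearMap _ (fun x y h => mul_left_cancel₀ h0 h)
  have hmul : ∀ z : R ⊗[k] A, LinearMap.rTensor A (LinearMap.mulLeft k a) z = (a ⊗ₜ[k] (1 : A)) * z := by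
    intro z
    induction z using TensorProduct.induction_on with
    | zero => simp
    | tmul r c => simp
    | add x y hx hy => rw [map_add, mul_add, hx, hy]
  refine hinj ?_
  rw [hmul, hmul, hab]
  simp

end Groth.Agent.S13124
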