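import Groth.Statements.S13125
import Mathlib

set_option autoImplicit false
universe u v
open KumFam

namespace Groth.Agent.S13125

/-- Let A be a commutative ring graded by an additive monoid ι (an abelian group in the published
statement) through additive subgroups 𝒜 i, and I an ideal of A. Then I is a homogeneous ideal if and
only if A/I carries a structure of ι-graded ring ℬ for which the quotient map sends 𝒜 i into ℬ i for
all i. -/
theorem result (ι : Type u) [DecidableEq ι] [AddMonoid ι]
    (A : Type v) [CommRing A] (𝒜 : ι → AddSubgroup A) [GradedRing 𝒜] (I : Ideal A) :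
    I.IsHomogeneous 𝒜 ↔
      ∃ ℬ : ι → AddSubgroup (A ⧸ I), Nonempty (GradedRing ℬ) ∧
        ∀ i : ι, (𝒜 i).map (Ideal.Quotient.mk I : A →+ A ⧸ I) ≤ ℬ i := by
  classical
  let q : A →+ A ⧸ I := (Ideal.Quotient.mk I : A →+ A ⧸ I)
  have hq : ∀ a, q a = 0 ↔ a ∈ I := fun a => Ideal.Quotient.eq_zero_iff_mem
  constructor
  · intro hI
    let ℬ : ι → AddSubgroup (A ⧸ I) := fun i => (𝒜 i).map q
    have hgm : SetLike.GradedMonoid ℬ :=
      { one_mem := ⟨1, SetLike.GradedOne.one_mem, map_one (Ideal.Quotient.mk I)⟩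
        mul_mem := by
          rintro i j _ _ ⟨a, ha, rfl⟩ ⟨b, hb, rfl⟩
          exact ⟨a * b, SetLike.mul_mem_graded ha hb, map_mul (Ideal.Quotient.mk I) a b⟩ }
    let m : ∀ i, 𝒜 i →+ ℬ i := fun i =>
      { toFun := fun (a : 𝒜 i) => ⟨q a.1, (a : A), a.2, rfl⟩
        map_zero' := Subtype.ext (map_zero q)
        map_add' := fun a b => Subtype.ext (map_add q a.1 b.1) }
    let d : A →+ DirectSum ι fun i => ℬ i :=
      (DirectSum.map m).comp (DirectSum.decomposeAddEquiv 𝒜).toAddMonoidHom
    have hd : ∀ a ∈ I, d a = 0 := fun a ha => by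
      refine DFunLike.ext _ _ fun i => Subtype.ext ?_
      show q (DirectSum.decompose 𝒜 a i : A) = 0
      exact (hq _).2 (hI i ha)
    let d' : A ⧸ I →+ DirectSum ι fun i => ℬ i :=
      QuotientAddGroup.lift I.toAddSubgroup d (fun a ha => hd a ha)
    have hd' : ∀ a, d' (q a) = d a := fun a => rfl
    refine ⟨ℬ, ⟨{ toGradedMonoid := hgm, decompose' := d', left_inv := ?_, right_inv := ?_ }⟩, fun i => le_rfl⟩
    · intro x
      obtain ⟨a, rfl⟩ := Ideal.Quotient.mk_surjective x
      show DirectSum.coeAddMonoidHom ℬ (d' (q a)) = q a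
      rw [hd']
      have : (DirectSum.coeAddMonoidHom ℬ).comp (DirectSum.map m) = q.comp (DirectSum.coeAddMonoidHom 𝒜) := by
        refine DirectSum.addHom_ext' fun i => AddMonoidHom.ext fun b => ?_
        simp [m]
      have h2 := DFunLike.congr_fun this (DirectSum.decompose 𝒜 a)
      simp only [AddMonoidHom.coe_comp, Function.comp_apply] at h2
      refine h2.trans (congrArg q ?_)
      exact (DirectSum.decompose 𝒜).symm_apply_apply a
    · intro x
      show d' (DirectSum.coeAddMonoidHom ℬ x) = x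
      induction x using DirectSum.induction_on with
      | zero => simp
      | of i y =>
        obtain ⟨_, a, ha, rfl⟩ := y
        rw [DirectSum.coeAddMonoidHom_of, hd']
        show DirectSum.map m (DirectSum.decompose 𝒜 a) = _
        rw [DirectSum.decompose_of_mem 𝒜 ha, DirectSum.map_of]
        rfl
      | add x y hx hy => rw [map_add, map_add, hx, hy]
  · rintro ⟨ℬ, ⟨hℬ⟩, h⟩ i a ha
    have hmem : ∀ j, q (DirectSum.decompose 𝒜 a j : A) ∈ ℬ j := fun j => h j ⟨_, SetLike.coe_mem _, rfl⟩
    let m : ∀ j, 𝒜 j →+ ℬ j := fun j =>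
      { toFun := fun (a : 𝒜 j) => ⟨q a.1, h j ⟨(a : A), a.2, rfl⟩⟩
        map_zero' := Subtype.ext (map_zero q)
        map_add' := fun a b => Subtype.ext (map_add q a.1 b.1) }
    have e : (DirectSum.coeAddMonoidHom ℬ).comp (DirectSum.map m) = q.comp (DirectSum.coeAddMonoidHom 𝒜) := by
      refine DirectSum.addHom_ext' fun i => AddMonoidHom.ext fun b => ?_
      simp [m]
    have h2 := DFunLike.congr_fun e (DirectSum.decompose 𝒜 a)
    simp only [AddMonoidHom.coe_comp, Function.comp_apply] at h2
    have h3 : DirectSum.coeAddMonoidHom 𝒜 (DirectSum.decompose 𝒜 a) = a :=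
      (DirectSum.decompose 𝒜).symm_apply_apply a
    rw [h3, (hq a).2 ha, ← map_zero (DirectSum.coeAddMonoidHom ℬ)] at h2
    have h4 := congrArg (fun z : DirectSum ι fun j => ℬ j => (z i : A ⧸ I))
      ((DirectSum.Decomposition.isInternal ℬ).1 h2)
    exact (hq _).1 h4

end Groth.Agent.S13125
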