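import Groth.Statements.S13126
import Mathlib

set_option autoImplicit false
universe u
open KumFam

namespace Groth.Agent.S13126

open Polynomial in
/-- Let R be a commutative ring, n a natural number which is a unit in R, and ζ ∈ R with ζ^n = 1 and 1 −
ζ^i a unit for 0 < i < n (a primitive n-th root of unity in the fibrewise sense: the powers ζ^0, …,
ζ^(n−1) are roots of X^n − 1 with pairwise unit differences; over an integral domain in which n is a
unit this is the same as ζ having multiplicative order n). Then the R-algebra homomorphism R[X] →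
(Fin n → R) sending a polynomial to its values at ζ^0, …, ζ^(n−1) is surjective and its kernel is
the ideal generated by X^n − 1; hence R[X]/(X^n − 1) ≅ R^n as R-algebras, i.e. the scheme of n-th
roots of unity over Spec R is the disjoint union of n copies of Spec R. (The published statement
asks that R contain a primitive n-th root of unity without defining the term; its Chinese-remainder
argument uses that the ideals (X − ζ^i), i < n, are pairwise comaximal, which is the unit-difference
condition taken as the hypothesis here, whereas under the reading 'ζ has multiplicative order n'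
alone the surjectivity fails over a product of two fields. The published statement also asserts that
the isomorphism respects the group-scheme structures of the n-th roots of unity and of the constant
group ℤ/n; this row does not state that.) -/
theorem result (R : Type u) [CommRing R]
    (n : ℕ) (hn : IsUnit (n : R)) (ζ : R) (hζ : ζ ^ n = 1)
    (hprim : ∀ i : ℕ, 0 < i → i < n → IsUnit (1 - ζ ^ i)) :
    Function.Surjective (AlgHom.pi (fun i : Fin n => Polynomial.aeval (R := R) (ζ ^ (i : ℕ)))) ∧
      RingHom.ker (AlgHom.pi (fun i : Fin n => Polynomial.aeval (R := R) (ζ ^ (i : ℕ)))) =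
        Ideal.span {(X ^ n - 1 : R[X])} := by
  classical
  set x : Fin n → R := fun i => ζ ^ (i : ℕ) with hx
  have hu : IsUnit ζ ∨ n = 0 := by
    rcases Nat.eq_zero_or_pos n with h | h
    · exact Or.inr h
    · exact Or.inl (IsUnit.of_mul_eq_one (ζ ^ (n - 1)) (by rw [← pow_succ', Nat.sub_add_cancel h, hζ]))
  have hlt : ∀ i j : Fin n, i < j → IsUnit (x i - x j) := by
    intro i j hij
    have hij' : (i : ℕ) < j := hij
    have hz : IsUnit ζ := hu.resolve_right (by have := i.2; omega)
    have : x i - x j = ζ ^ (i : ℕ) * (1 - ζ ^ ((j : ℕ) - i)) := by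
      rw [mul_sub, mul_one, ← pow_add, Nat.add_sub_cancel' hij'.le]
    rw [this]
    exact (hz.pow _).mul (hprim _ (by omega) (by have := j.2; omega))
  have hne : ∀ i j, i ≠ j → IsUnit (x i - x j) := by
    intro i j hij
    rcases lt_or_gt_of_ne hij with h | h
    · exact hlt i j h
    · rw [← neg_sub]; exact (hlt j i h).neg
  have hker : ∀ f : R[X], AlgHom.pi (fun i : Fin n => Polynomial.aeval (R := R) (x i)) f = 0 →
      (∏ i, (X - C (x i))) ∣ f := by
    intro f hf
    refine Fintype.prod_dvd_of_coprime (fun i j hij => Polynomial.isCoprime_X_sub_C_of_isUnit_sub (hne i j hij)) fun i => ?_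
    rw [Polynomial.dvd_iff_isRoot]
    have := congrFun hf i
    simpa [Polynomial.IsRoot, Polynomial.coe_aeval_eq_eval] using this
  have hprod : (∏ i, (X - C (x i))) = (X ^ n - 1 : R[X]) := by
    nontriviality R
    have hd : (∏ i, (X - C (x i))) ∣ (X ^ n - 1 : R[X]) := hker _ (funext fun i => by
      simp only [hx, AlgHom.pi_apply, map_sub, map_pow, map_one, Polynomial.aeval_X, Pi.zero_apply]
      rw [← pow_mul, mul_comm, pow_mul, hζ, one_pow, sub_self])
    rcases Nat.eq_zero_or_pos n with h | h
    · subst h; simp at hζ ⊢
      exact absurd hn (by simp)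
    have hm1 : (X ^ n - 1 : R[X]).Monic := by
      simpa using Polynomial.monic_X_pow_sub_C (1 : R) h.ne'
    refine (Polynomial.eq_of_monic_of_dvd_of_natDegree_le
      (Polynomial.monic_prod_of_monic _ _ fun i _ => Polynomial.monic_X_sub_C _) hm1 hd ?_).symm
    rw [Polynomial.natDegree_prod_of_monic _ _ fun i _ => Polynomial.monic_X_sub_C _]
    simp [Polynomial.natDegree_X_sub_C]
    exact le_of_eq (by simpa using Polynomial.natDegree_X_pow_sub_C (r := (1 : R)) (n := n))
  refine ⟨?_, ?_⟩
  · intro v
    let L : Fin n → R[X] := fun i => ∏ j ∈ Finset.univ.erase i, (C (Ring.inverse (x i - x j)) * (X - C (x j)))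
    refine ⟨∑ i, C (v i) * L i, funext fun k => ?_⟩
    simp only [AlgHom.pi_apply, Polynomial.coe_aeval_eq_eval, L, Polynomial.eval_finsetSum,
      Polynomial.eval_mul, Polynomial.eval_C, Polynomial.eval_prod, Polynomial.eval_sub,
      Polynomial.eval_X]
    rw [Finset.sum_eq_single k]
    · rw [Finset.prod_eq_one fun j hj => ?_, mul_one]
      exact Ring.inverse_mul_cancel _ (hne k j (Finset.ne_of_mem_erase hj).symm)
    · intro i _ hik
      rw [Finset.prod_eq_zero (Finset.mem_erase.2 ⟨Ne.symm hik, Finset.mem_univ k⟩) (by simp [hx]), mul_zero]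
    · simp
  · ext f
    rw [RingHom.mem_ker, Ideal.mem_span_singleton, ← hprod]
    refine ⟨hker f, ?_⟩
    rintro ⟨g, rfl⟩
    refine funext fun i => ?_
    simp only [AlgHom.pi_apply, map_mul, map_prod, Pi.zero_apply, Pi.mul_apply, Finset.prod_apply]
    rw [Finset.prod_eq_zero (Finset.mem_univ i) (by simp [hx]), zero_mul]

end Groth.Agent.S13126
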