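import Groth.Statements.S13127
import Groth.Agent.PSAut.Basic

set_option autoImplicit false
universe u
open KumFam

namespace Groth.Agent.S13127

open MvPowerSeries in
/-- Let R be a commutative ring of characteristic 2 and l0, l2, l4, s0, s2, s4, τ, lam, sig ∈ R with l4,
s4, lam, sig units, and let κ₁, κ₂ ∈ R satisfy s4² κ₁³ = sig² and l4² κ₂³ = lam² (cube roots of
sig²/s4² and lam²/l4²). In the power series ring R[[a, b, c]] (a = X 0, b = X 1, c = X 2) put F = c²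
+ s0² a³ b⁴ + s2² a³ b² + s4² a³ + l0² a⁴ b³ + l2² a² b³ + l4² b³ + τ² a³ b³ and F₀ = c² + sig² a³ +
lam² b³. Then some R-algebra automorphism of R[[a, b, c]] maps F to F₀; consequently R[[a, b,
c]]/(F) ≅ R[[a, b, c]]/(F₀). (In the published statement lam, sig are the representatives in the
ground field of the residues of l4, s4 at a rational point, so that F₀ is the equation of the
special fibre made constant; this row takes them to be arbitrary units.) -/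
theorem result (R : Type u) [CommRing R] [CharP R 2]
    (l0 l2 l4 s0 s2 s4 τ lam sig κ₁ κ₂ : R) (hl4 : IsUnit l4) (hs4 : IsUnit s4) (hlam : IsUnit lam)
    (hsig : IsUnit sig) (h₁ : s4 ^ 2 * κ₁ ^ 3 = sig ^ 2) (h₂ : l4 ^ 2 * κ₂ ^ 3 = lam ^ 2) :
    ∃ φ : MvPowerSeries (Fin 3) R ≃ₐ[R] MvPowerSeries (Fin 3) R,
      φ ((X 2 ^ 2 + C (s0 ^ 2) * X 0 ^ 3 * X 1 ^ 4 + C (s2 ^ 2) * X 0 ^ 3 * X 1 ^ 2 +
          C (s4 ^ 2) * X 0 ^ 3 + C (l0 ^ 2) * X 0 ^ 4 * X 1 ^ 3 + C (l2 ^ 2) * X 0 ^ 2 * X 1 ^ 3 +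
          C (l4 ^ 2) * X 1 ^ 3 + C (τ ^ 2) * X 0 ^ 3 * X 1 ^ 3 : MvPowerSeries (Fin 3) R)) =
        (X 2 ^ 2 + C (sig ^ 2) * X 0 ^ 3 + C (lam ^ 2) * X 1 ^ 3 : MvPowerSeries (Fin 3) R) := by
  classical
  obtain ⟨a4, ha4⟩ := hl4.exists_left_inv
  obtain ⟨b4, hb4⟩ := hs4.exists_left_inv
  have hk1 : IsUnit κ₁ := (isUnit_pow_iff (by norm_num)).mp
    (isUnit_of_mul_isUnit_right (h₁ ▸ hsig.pow 2))
  have hk2 : IsUnit κ₂ := (isUnit_pow_iff (by norm_num)).mp
    (isUnit_of_mul_isUnit_right (h₂ ▸ hlam.pow 2))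
  obtain ⟨c1, hc1⟩ := hk1.exists_left_inv
  obtain ⟨c2, hc2⟩ := hk2.exists_left_inv
  let I : Ideal (MvPowerSeries (Fin 3) R) := Ideal.span (Set.range X)
  have hcube : ∀ e ∈ I, ∃ r : MvPowerSeries (Fin 3) R,
      r ^ 3 = 1 + e ∧ constantCoeff r = 1 := by
    intro e he
    obtain ⟨r, hr, hr1⟩ := HenselianRing.is_henselian (I := I)
      (Polynomial.X ^ 3 - Polynomial.C (1 + e))
      (Polynomial.monic_X_pow_sub_C _ (by norm_num)) 1 (by simpa using he) (by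
        have two : (2 : MvPowerSeries (Fin 3) R) = 0 := by
          have h := congrArg (C (σ := Fin 3)) (CharTwo.two_eq_zero (R := R))
          rwa [map_ofNat, map_zero] at h
        have h3 : (3 : MvPowerSeries (Fin 3) R) = 1 := by linear_combination two
        simp [two, h3])
    refine ⟨r, by simpa [sub_eq_zero] using hr, ?_⟩
    have : I ≤ RingHom.ker (constantCoeff (σ := Fin 3) (R := R)) := by
      rw [Ideal.span_le]; rintro _ ⟨i, rfl⟩; simp
    simpa [sub_eq_zero] using this hr1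
  have hI : ∀ i (f : MvPowerSeries (Fin 3) R), X i * f ∈ I := fun i f =>
    I.mul_mem_right _ (Ideal.subset_span (Set.mem_range_self i))
  obtain ⟨r1, hr1, hr1'⟩ := hcube _ (hI 1 (C (b4 ^ 2) *
    (C (s2 ^ 2) * X 1 + C (s0 ^ 2) * X 1 ^ 3 + C (τ ^ 2) * X 1 ^ 2)))
  obtain ⟨r2, hr2, hr2'⟩ := hcube _ (hI 0 (C (a4 ^ 2) *
    (C (l2 ^ 2) * X 0 + C (l0 ^ 2) * X 0 ^ 3)))
  let u : Fin 3 → MvPowerSeries (Fin 3) R :=
    fun i => if i = 0 then C c1 * r1 else if i = 1 then C c2 * r2 else 1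
  have hu : ∀ i, IsUnit (constantCoeff (u i)) := fun i => by
    by_cases h : i = 0
    · simp [u, h, hr1', IsUnit.of_mul_eq_one _ hc1]
    · by_cases h' : i = 1
      · simp [u, h', hr2', IsUnit.of_mul_eq_one _ hc2]
      · simp [u, h, h']
  let σ₁ := Groth.Agent.PSAut.mulXEquiv u hu
  refine ⟨σ₁.symm, ?_⟩
  rw [AlgEquiv.symm_apply_eq]
  have mapC : ∀ r : R, σ₁ (C r) = C r := fun r => by
    simpa [MvPowerSeries.algebraMap_apply] using σ₁.commutes r
  simp only [σ₁] at mapC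
  simp only [map_add, map_mul, map_pow, σ₁, Groth.Agent.PSAut.mulXEquiv_X, mapC, u,
    Fin.reduceEq, if_true, if_false, mul_one]
  simp only [map_mul, map_pow] at hr1 hr2
  have e1 : (C sig : MvPowerSeries (Fin 3) R) ^ 2 * (C c1) ^ 3 = C s4 ^ 2 := by
    rw [← map_pow, ← map_pow, ← map_mul, ← map_pow]
    congr 1
    rw [← h₁, mul_assoc, ← mul_pow, mul_comm κ₁, hc1, one_pow, mul_one]
  have e2 : (C lam : MvPowerSeries (Fin 3) R) ^ 2 * (C c2) ^ 3 = C l4 ^ 2 := by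
    rw [← map_pow, ← map_pow, ← map_mul, ← map_pow]
    congr 1
    rw [← h₂, mul_assoc, ← mul_pow, mul_comm κ₂, hc2, one_pow, mul_one]
  have e3 : (C s4 : MvPowerSeries (Fin 3) R) * C b4 = 1 := by
    rw [← map_mul, mul_comm, hb4, map_one]
  have e4 : (C l4 : MvPowerSeries (Fin 3) R) * C a4 = 1 := by
    rw [← map_mul, mul_comm, ha4, map_one]
  have two : (2 : MvPowerSeries (Fin 3) R) = 0 := by
    have h := congrArg (C (σ := Fin 3)) (CharTwo.two_eq_zero (R := R))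
    rwa [map_ofNat, map_zero] at h
  grind

end Groth.Agent.S13127
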