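import Groth.Statements.S13128
import Groth.Agent.PSAut.Basic

set_option autoImplicit false
universe u
open KumFam

namespace Groth.Agent.S13128

open MvPowerSeries in
/-- Let R be a commutative ring of characteristic 2, l0, l2, l4, s0, s2, s4, τ ∈ R with τ a unit, and α,
β ∈ R with l4² α⁴ + l2² α² + τ² α + l0² = 0 and s4² β⁴ + s2² β² + τ² β + s0² = 0. In characteristic
2 these relations give τ² α = (l4 α² + l2 α + l0)² and τ² β = (s4 β² + s2 β + s0)², so α = α′² and β
= β′² with α′ = (l4 α² + l2 α + l0)/τ and β′ = (s4 β² + s2 β + s0)/τ. In R[[a, b, c]] (a = X 0, b =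
X 1, c = X 2) put h = c² + τ² a b + (s4² b⁴ + s2² b²) a + (l4² a⁴ + l2² a²) b + l4² β a⁴ + l2² β a²
+ s4² α b⁴ + s2² α b²; this is the chart equation c² + τ² a b + (s4² b⁴ + s2² b² + s0²) a + (l4² a⁴
+ l2² a² + l0²) b after the substitution a ↦ a + α, b ↦ b + β, c ↦ c + τ α′ β′, which moves the
point (α, β, τ α′ β′) of that surface, where all partial derivatives vanish, to the origin. Then
some R-algebra automorphism of R[[a, b, c]] maps h to c² + a b; consequently R[[a, b, c]]/(h) ≅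
R[[a, b, c]]/(c² + a b), the completed local ring of an ordinary double point, constant over R. (The
published statement translates only a and b, so that its h carries the additional constant term τ² α
β; with that term h is a unit of R[[a, b, c]] whenever τ α β is a unit, for instance c² + a b + 1
over the field with two elements with l0 = s0 = τ = α = β = 1 and l2 = l4 = s2 = s4 = 0, and no ring
automorphism carries a unit to c² + a b. The published proof begins by shifting c by a polynomial in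
a, b whose constant term is τ α′ β′, a substitution of the polynomial ring which removes the term τ²
α β, and the rest of its argument takes place in R[[a, b, c]]; this row states the result for the
fully translated equation, which is what that argument proves.) -/
theorem result (R : Type u) [CommRing R] [CharP R 2]
    (l0 l2 l4 s0 s2 s4 τ α β : R) (hτ : IsUnit τ)
    (hα : l4 ^ 2 * α ^ 4 + l2 ^ 2 * α ^ 2 + τ ^ 2 * α + l0 ^ 2 = 0)
    (hβ : s4 ^ 2 * β ^ 4 + s2 ^ 2 * β ^ 2 + τ ^ 2 * β + s0 ^ 2 = 0) :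
    ∃ φ : MvPowerSeries (Fin 3) R ≃ₐ[R] MvPowerSeries (Fin 3) R,
      φ ((X 2 ^ 2 + C (τ ^ 2) * X 0 * X 1 + (C (s4 ^ 2) * X 1 ^ 4 + C (s2 ^ 2) * X 1 ^ 2) * X 0 +
          (C (l4 ^ 2) * X 0 ^ 4 + C (l2 ^ 2) * X 0 ^ 2) * X 1 + C (l4 ^ 2 * β) * X 0 ^ 4 +
          C (l2 ^ 2 * β) * X 0 ^ 2 + C (s4 ^ 2 * α) * X 1 ^ 4 + C (s2 ^ 2 * α) * X 1 ^ 2 :
          MvPowerSeries (Fin 3) R)) =
        (X 2 ^ 2 + X 0 * X 1 : MvPowerSeries (Fin 3) R) := by
  classical
  obtain ⟨t, rfl⟩ := hτ
  obtain ⟨qa, hqa⟩ : ∃ q : R, q ^ 2 = α := ⟨↑t⁻¹ * (l4 * α ^ 2 + l2 * α + l0), by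
    have h : (l4 * α ^ 2 + l2 * α + l0) ^ 2 = (t : R) ^ 2 * α := by
      simp only [CharTwo.add_sq, mul_pow, ← pow_mul]
      have h2 := hα
      rw [← CharTwo.sub_eq_add] at h2
      grind [CharTwo.two_eq_zero]
    rw [mul_pow, h, ← mul_assoc, ← mul_pow, Units.inv_mul, one_pow, one_mul]⟩
  obtain ⟨qb, hqb⟩ : ∃ q : R, q ^ 2 = β := ⟨↑t⁻¹ * (s4 * β ^ 2 + s2 * β + s0), by
    have h : (s4 * β ^ 2 + s2 * β + s0) ^ 2 = (t : R) ^ 2 * β := by
      simp only [CharTwo.add_sq, mul_pow, ← pow_mul]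
      grind [CharTwo.two_eq_zero]
    rw [mul_pow, h, ← mul_assoc, ← mul_pow, Units.inv_mul, one_pow, one_mul]⟩
  have two : (2 : MvPowerSeries (Fin 3) R) = 0 := by
    have h := congrArg (C (σ := Fin 3)) (CharTwo.two_eq_zero (R := R))
    rwa [map_ofNat, map_zero] at h
  let a : MvPowerSeries (Fin 3) R := C l4 * X 0 ^ 2 + C l2 * X 0
  let b : MvPowerSeries (Fin 3) R := C s4 * X 1 ^ 2 + C s2 * X 1
  let w : MvPowerSeries (Fin 3) R := C qb * a + C qa * b
  let v : MvPowerSeries (Fin 3) R := C ((t : R) ^ 2) + C (s4 ^ 2) * X 1 ^ 3 + C (s2 ^ 2) * X 1 +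
    C (l4 ^ 2) * X 0 ^ 3 + C (l2 ^ 2) * X 0
  let u : Fin 3 → MvPowerSeries (Fin 3) R := fun i => if i = 0 then v else 1
  have hu : ∀ i, IsUnit (constantCoeff (u i)) := fun i => by
    by_cases h : i = 0 <;> simp [u, h, v]
  have hw : constantCoeff w = 0 := by simp [w, a, b]
  have mapC : ∀ (φ : MvPowerSeries (Fin 3) R →ₐ[R] MvPowerSeries (Fin 3) R) (r : R),
      φ (C r) = C r := fun φ r => by
    simpa [MvPowerSeries.algebraMap_apply] using φ.commutes r
  have h0 : (0 : Fin 3) ≠ 2 := by decide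
  have h1 : (1 : Fin 3) ≠ 2 := by decide
  have hfix : substAlgHom (R := R) (Groth.Agent.PSAut.hasSubst_addX 2 w hw) w = w := by
    simp only [w, a, b, map_add, map_mul, map_pow, mapC, substAlgHom_X, if_neg h0, if_neg h1,
      add_zero]
  let σ₁ := Groth.Agent.PSAut.mulXEquiv u hu
  let σ₂ := Groth.Agent.PSAut.addXEquiv 2 w hw hfix
  refine ⟨(σ₁.trans σ₂).symm, ?_⟩
  rw [AlgEquiv.symm_apply_eq]
  simp only [AlgEquiv.trans_apply, map_add, map_mul, map_pow, σ₁,
    Groth.Agent.PSAut.mulXEquiv_X, u]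
  simp only [Fin.reduceEq, if_true, if_false, mul_one, map_one, v, map_add, map_mul, map_pow,
    σ₂, Groth.Agent.PSAut.addXEquiv_X, add_zero]
  have mapC' : ∀ r : R, σ₂ (C r) = C r := fun r => mapC σ₂.toAlgHom r
  simp only [σ₂] at mapC'
  simp only [mapC', Fin.reduceEq, if_true, if_false, add_zero, w, a, b, ← hqa, ← hqb, map_mul,
    map_pow]
  grind

end Groth.Agent.S13128
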