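import Groth.Statements.S13129
import Groth.Agent.RatSingLib.Main
import Groth.Agent.SurfPtBlow.Push
import Groth.Agent.ASp.PropDescend

set_option autoImplicit false
set_option linter.style.haveILetI false
universe u
open CategoryTheory CategoryTheory.Limits AlgebraicGeometry
open KumFam

namespace Groth.Agent.S13129

/-- Let k be an algebraically closed field, Y a proper normal surface over k (irreducible of dimension 2
with integrally closed local domains), X a proper smooth surface over k, and π : X → Y a k-morphism
which restricts to an isomorphism over Y minus a closed point y and whose fibre over y is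
one-dimensional (a resolution of the singularity (Y, y)). Then R¹π_* O_X = 0 (first higher direct
image of the underlying abelian sheaf) if and only if χ(X, O_X) = χ(Y, O_Y). -/
theorem result (k : Type u) [Field k] [IsAlgClosed k]
    (X Y : Scheme.{u}) [X.Over (Spec (CommRingCat.of k))] [Y.Over (Spec (CommRingCat.of k))]
    [IsProper (X ↘ Spec (CommRingCat.of k))] [IsProper (Y ↘ Spec (CommRingCat.of k))]
    [IrreducibleSpace X] [IrreducibleSpace Y] (hdX : topologicalKrullDim X = 2)
    (hdY : topologicalKrullDim Y = 2) [Smooth (X ↘ Spec (CommRingCat.of k))]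
    (hYn : Pi1.IsNormalScheme Y) (π : X ⟶ Y) [π.IsOver (Spec (CommRingCat.of k))]
    (y : Y) (hy : IsClosed ({y} : Set Y))
    (hiso : IsIso (π ∣_ (⟨({y} : Set Y)ᶜ, hy.isOpen_compl⟩ : Y.Opens)))
    (hfib : topologicalKrullDim ((fun x : X => π.base x) ⁻¹' ({y} : Set Y)) = 1) :
    IsZero ((Coh.RpushAb π 1).obj (Coh.toAb (Coh.structureModule X))) ↔
      Curv2.euler k X (Coh.structureModule X) = Curv2.euler k Y (Coh.structureModule Y) := by
  haveI : IsReduced X := Groth.Agent.ASp.isReduced_of_smooth (X ↘ Spec (CommRingCat.of k))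
  haveI : IsIntegral X := isIntegral_of_irreducibleSpace_of_isReduced _
  haveI : ∀ z : Y, _root_.IsReduced (Y.presheaf.stalk z) := fun z =>
    haveI := (hYn z).1
    inferInstance
  haveI : IsReduced Y := isReduced_of_isReduced_stalk Y
  haveI : IsIntegral Y := isIntegral_of_irreducibleSpace_of_isReduced _
  have hπ : π ≫ (Y ↘ Spec (CommRingCat.of k)) = X ↘ Spec (CommRingCat.of k) := comp_over π _
  haveI : IsProper π := by
    haveI : IsProper (π ≫ (Y ↘ (Spec (CommRingCat.of k)))) := hπ ▸ inferInstance
    exact IsProper.of_comp π (Y ↘ (Spec (CommRingCat.of k)))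
  have hd : topologicalKrullDim ({y} : Set Y) ≤ 0 := by
    haveI : Subsingleton (TopologicalSpace.IrreducibleCloseds ({y} : Set Y)) := ⟨fun a b => SetLike.coe_injective
      (Set.ext fun z => by
        obtain ⟨p, hp⟩ := a.isIrreducible.nonempty
        obtain ⟨q, hq⟩ := b.isIrreducible.nonempty
        exact ⟨fun _ => (Subsingleton.elim q z) ▸ hq, fun _ => (Subsingleton.elim p z) ▸ hp⟩)⟩
    exact Order.krullDim_nonpos_of_subsingleton
  have hne : ({y} : Set Y)ᶜ.Nonempty := by
    by_contra h
    rw [Set.not_nonempty_iff_eq_empty, Set.compl_empty_iff] at h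
    have : topologicalKrullDim Y ≤ 0 := by
      rw [← IsHomeomorph.topologicalKrullDim_eq _ (Homeomorph.Set.univ Y).isHomeomorph, ← h]
      exact hd
    rw [hdY] at this
    norm_cast at this
  exact Groth.Agent.RatSingLib.isZero_rpush_iff k π hπ
    (Groth.Agent.SurfPtBlow.isIso_unitToPush π ⟨_, hne, hiso⟩ fun z => (hYn z).2) hdX.le _ hy hd hne hiso
end Groth.Agent.S13129
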