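import Groth.Statements.S13130
import Mathlib.Algebra.MonoidAlgebra.Basic
import Mathlib.RingTheory.IntegralClosure.IsIntegral.Basic
import Mathlib.RingTheory.IntegralClosure.Algebra.Basic
import Mathlib.GroupTheory.Torsion

set_option autoImplicit false
universe u v
open KumFam

namespace Groth.Agent.S13130

/-- Let R be a nontrivial commutative ring and M a commutative group, with group algebra R[M], the
coordinate ring of the diagonalizable group scheme D(M) over Spec R. Then D(M) is integral over Spec
R, i.e. R[M] is an integral R-algebra, if and only if M is a torsion group. (The published statement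
is over an arbitrary base scheme; the question is local and this row is the affine form, with R
nontrivial so that the elements of M are R-linearly independent.) -/
theorem result (R : Type u) [CommRing R] [Nontrivial R]
    (M : Type v) [CommGroup M] :
    Algebra.IsIntegral R (MonoidAlgebra R M) ↔ IsMulTorsion M := by
  classical
  constructor
  · intro h m
    by_contra hm
    obtain ⟨p, hp, hpz⟩ := h.isIntegral (MonoidAlgebra.of R M m)
    have hinj : Function.Injective fun i : ℕ => m ^ i := injective_pow_iff_not_isOfFinOrder.2 hm
    rw [← Polynomial.aeval_def, Polynomial.aeval_eq_sum_range] at hpz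
    have h1 := congrArg (fun z : MonoidAlgebra R M => z.coeff (m ^ p.natDegree)) hpz
    simp only [MonoidAlgebra.of_apply, MonoidAlgebra.single_pow, one_pow, MonoidAlgebra.smul_single, smul_eq_mul, mul_one,
      MonoidAlgebra.coeff_sum, Finsupp.finsetSum_apply, MonoidAlgebra.coeff_single, Finsupp.single_apply, hinj.eq_iff,
      MonoidAlgebra.coeff_zero, Finsupp.coe_zero, Pi.zero_apply] at h1
    rw [Finset.sum_ite_eq', if_pos (Finset.mem_range.2 (Nat.lt_succ_self _)), ← Polynomial.leadingCoeff, hp.leadingCoeff] at h1
    exact one_ne_zero h1
  · intro h
    refine ⟨fun z => ?_⟩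
    induction z using MonoidAlgebra.induction_on with
    | of m =>
      obtain ⟨n, hn, hmn⟩ := isOfFinOrder_iff_pow_eq_one.1 (h m)
      exact IsIntegral.of_pow hn (by rw [← map_pow, hmn, map_one]; exact isIntegral_one)
    | add a b ha hb => exact ha.add hb
    | smul r a ha => exact ha.smul r

end Groth.Agent.S13130
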