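import Groth.Statements.S13131
import Mathlib

set_option autoImplicit false
universe u
open CategoryTheory CategoryTheory.Limits AlgebraicGeometry
open KumFam

namespace Groth.Agent.S13131

/-- Let S be a scheme, M a set and p : T → S a scheme over S. The S-morphisms T → ∐_{m ∈ M} S (the
constant S-scheme on M, with its structure map the codiagonal) are in bijection with the locally
constant maps T → M, a morphism f corresponding to the function sending t to the index of the copy
of S containing f(t). (In the published statement M is a group and ∐_M S the constant group scheme;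
the group structures play no role in this description of T-points.) -/
theorem result (S : Scheme.{u}) (M : Type u)
    (T : Scheme.{u}) (p : T ⟶ S) :
    ∃ e : {f : T ⟶ ∐ (fun _ : M => S) // f ≫ Sigma.desc (fun _ : M => 𝟙 S) = p} ≃
        LocallyConstant T M,
      ∀ (f : {f : T ⟶ ∐ (fun _ : M => S) // f ≫ Sigma.desc (fun _ : M => 𝟙 S) = p}) (t : T),
        e f t = ((sigmaMk (fun _ : M => S)).symm (f.1.base t)).1 := by
  let F : M → Scheme.{u} := fun _ => S
  let U : LocallyConstant T M → M → T.Opens := fun g m => ⟨g ⁻¹' {m}, g.isLocallyConstant.isOpen_fiber m⟩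
  have hU : ∀ g, TopologicalSpace.IsOpenCover (U g) := fun g => by
    rw [TopologicalSpace.IsOpenCover, eq_top_iff]
    exact fun t _ => TopologicalSpace.Opens.mem_iSup.2 ⟨g t, rfl⟩
  have hidx : ∀ (m : M) (s : S), ((sigmaMk F).symm (Sigma.ι F m s)).1 = m := fun m s => by
    rw [← sigmaMk_mk F m s, Homeomorph.symm_apply_apply]
  have hσd : ∀ m : M, Sigma.ι F m ≫ Sigma.desc (fun _ : M => 𝟙 S) = 𝟙 S := fun m => Sigma.ι_desc _ _
  let toF : {f : T ⟶ ∐ F // f ≫ Sigma.desc (fun _ : M => 𝟙 S) = p} → LocallyConstant T M := fun f =>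
    ⟨fun t => ((sigmaMk F).symm (f.1.base t)).1, by
      refine IsLocallyConstant.iff_isOpen_fiber.2 fun m => ?_
      have h1 : IsOpen (Sigma.fst ⁻¹' {m} : Set (Σ i, F i)) := by
        convert isOpen_range_sigmaMk (σ := fun i => (F i : Type u)) (i := m) using 1
        exact (Set.range_sigmaMk m).symm
      exact (h1.preimage (sigmaMk F).symm.continuous).preimage f.1.continuous⟩
  have hinj : Function.Injective toF := fun f f' h => by
    refine Subtype.ext ((T.openCoverOfIsOpenCover _ (hU (toF f))).hom_ext _ _ fun (m : M) => ?_)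
    have key : ∀ (k : {f : T ⟶ ∐ F // f ≫ Sigma.desc (fun _ : M => 𝟙 S) = p}),
        (∀ t ∈ U (toF f) m, toF k t = m) → (U (toF f) m).ι ≫ k.1 = ((U (toF f) m).ι ≫ p) ≫ Sigma.ι F m := by
      intro k hk
      have hr : Set.range ((U (toF f) m).ι ≫ k.1) ⊆ Set.range (Sigma.ι F m) := by
        rintro _ ⟨t, rfl⟩
        have hk' : ((sigmaMk F).symm (k.1.base ((U (toF f) m).ι t))).1 = m := hk _ t.2
        obtain ⟨⟨i, s⟩, hs⟩ := (sigmaMk F).surjective (k.1.base ((U (toF f) m).ι t))
        rw [← hs, Homeomorph.symm_apply_apply] at hk'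
        subst hk'
        exact ⟨s, (sigmaMk_mk F i s).symm.trans (hs.trans rfl)⟩
      have hl := IsOpenImmersion.lift_fac (Sigma.ι F m) ((U (toF f) m).ι ≫ k.1) hr
      rw [← hl]
      congr 1
      have := congrArg (· ≫ Sigma.desc (fun _ : M => 𝟙 S)) hl
      simp only [Category.assoc, k.2] at this
      rw [hσd] at this
      exact (Category.comp_id _).symm.trans (this.trans (congrArg ((U (toF f) m).ι ≫ ·) k.2))
    exact (key f fun t ht => ht).trans (key f' fun t ht => (DFunLike.congr_fun h t).symm.trans ht).symm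
  have hsurj : Function.Surjective toF := fun g => by
    let 𝒰 := T.openCoverOfIsOpenCover _ (hU g)
    have hgl : ∀ m m', Limits.pullback.fst (𝒰.f m) (𝒰.f m') ≫ ((U g m).ι ≫ p ≫ Sigma.ι F m) =
        Limits.pullback.snd (𝒰.f m) (𝒰.f m') ≫ ((U g m').ι ≫ p ≫ Sigma.ι F m') := fun m m' => by
      by_cases hmm : m = m'
      · subst hmm
        exact pullback.condition_assoc _
      · have : IsEmpty (Limits.pullback (𝒰.f m) (𝒰.f m') :) := ⟨fun z => hmm (by
          have h1 : (U g m).ι (Limits.pullback.fst (𝒰.f m) (𝒰.f m') z) =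
              (U g m').ι (Limits.pullback.snd (𝒰.f m) (𝒰.f m') z) :=
            congrArg (fun q => q.base z) (pullback.condition (f := 𝒰.f m) (g := 𝒰.f m'))
          exact (Limits.pullback.fst (𝒰.f m) (𝒰.f m') z).2.symm.trans
            ((congrArg g h1).trans (Limits.pullback.snd (𝒰.f m) (𝒰.f m') z).2))⟩
        exact (isInitialOfIsEmpty).hom_ext _ _
    let h := 𝒰.glueMorphisms (fun m => (U g m).ι ≫ p ≫ Sigma.ι F m) hgl
    have hι : ∀ m, (U g m).ι ≫ h = (U g m).ι ≫ p ≫ Sigma.ι F m := fun m => 𝒰.ι_glueMorphisms _ _ m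
    refine ⟨⟨h, 𝒰.hom_ext _ _ fun (m : M) => ?_⟩, LocallyConstant.ext fun t => ?_⟩
    · show (U g m).ι ≫ h ≫ _ = (U g m).ι ≫ p
      rw [reassoc_of% hι m, hσd, Category.comp_id]
    · show ((sigmaMk F).symm (h.base t)).1 = g t
      have e : h.base t = Sigma.ι F (g t) (p t) :=
        congrArg (fun q => q.base (⟨t, rfl⟩ : U g (g t))) (hι (g t))
      rw [e, hidx]
  exact ⟨Equiv.ofBijective toF ⟨hinj, hsurj⟩, fun f t => rfl⟩

end Groth.Agent.S13131
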