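import Mathlib
import Groth.Agent.ArtFlatRegLib.Basic
import Groth.Statements.S13132

set_option autoImplicit false
universe u v
open CAlg
open scoped Pointwise

namespace Groth.Agent.S13132

/-- Let A' be an Artinian local ring, I a proper ideal of A' and S' a flat A'-algebra. An element f' of
S' is a non-zero-divisor exactly when its image in S'/IS' is one; and when f' is a non-zero-divisor,
the quotient S'/(f') is flat over A'. (The published statement is for local Artinian algebras with a
fixed residue field over a ring of Witt vectors and a surjection between two of them; the argument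
uses only that A' is Artinian local and I is a proper ideal, which is the form taken here.) -/
theorem result
    {A' : Type u} [CommRing A'] [IsArtinianRing A'] [IsLocalRing A'] (I : Ideal A') (hI : I ≠ ⊤)
    {S' : Type v} [CommRing S'] [Algebra A' S'] [Module.Flat A' S'] (f' : S') :
    (f' ∈ nonZeroDivisors S' ↔
      Ideal.Quotient.mk (I.map (algebraMap A' S')) f' ∈ nonZeroDivisors (S' ⧸ I.map (algebraMap A' S'))) ∧
    (f' ∈ nonZeroDivisors S' → Module.Flat A' (S' ⧸ Ideal.span {f'})) := by
  open Groth.Agent.ArtFlatRegLib in
  set J := I.map (algebraMap A' S')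
  have hnzd : ∀ {R : Type v} [CommRing R] (r : R), r ∈ nonZeroDivisors R ↔ IsSMulRegular R r := by
    intro R _ r
    rw [mem_nonZeroDivisors_iff_right, isSMulRegular_iff_right_eq_zero_of_smul]
    exact ⟨fun h x hx => h x (by rwa [mul_comm]), fun h x hx => h x (by rwa [smul_eq_mul, mul_comm])⟩
  have e1 : IsSMulRegular (S' ⧸ J) f' ↔ IsSMulRegular (S' ⧸ J) (Ideal.Quotient.mk J f') :=
    (isSMulRegular_algebraMap_iff (A := S' ⧸ J) (M := S' ⧸ J) (r := f')).symm
  refine ⟨?_, fun hf => ?_⟩
  · rw [hnzd, hnzd, ← e1,
      ← (Submodule.quotEquivOfEq (J • ⊤ : Submodule S' S') J (by rw [smul_eq_mul, Ideal.mul_top])).isSMulRegular_congr f']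
    exact (isSMulRegular_quot_iff hI).symm
  · haveI := flat_quotSMulTop (A := A') ((hnzd f').1 hf)
    exact Module.Flat.of_linearEquiv
      ((Submodule.quotEquivOfEq (Ideal.span {f'}) (f' • ⊤ : Submodule S' S')
        (by rw [← Submodule.ideal_span_singleton_smul, smul_eq_mul, Ideal.mul_top])).restrictScalars A')

end Groth.Agent.S13132
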