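import Mathlib
import Groth.Agent.ArtFlatRegLib.Basic
import Groth.Statements.S13133

set_option autoImplicit false
universe u v
open CAlg

namespace Groth.Agent.S13133

/-- Let A' be an Artinian local ring, I a proper ideal of A', S' a flat A'-algebra and f'_1, …, f'_n
elements of S' with n ≥ 1. A family f'_1, …, f'_n in S' is a regular sequence exactly when its
reduction modulo I·S' is a regular sequence of S'/IS'. (Regular sequences are defined in the
published text over Noetherian rings; this row does not assume S' Noetherian, which the argument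
does not use. The published statement is for a surjection of local Artinian algebras with a fixed
residue field over a ring of Witt vectors; only the Artinian local base and the proper ideal are
used, which is the form taken here.) -/
theorem result
    {A' : Type u} [CommRing A'] [IsArtinianRing A'] [IsLocalRing A'] (I : Ideal A') (hI : I ≠ ⊤)
    {S' : Type v} [CommRing S'] [Algebra A' S'] [Module.Flat A' S'] {n : ℕ} (hn : 1 ≤ n)
    (f' : Fin n → S') :
    RingTheory.Sequence.IsRegular S' (List.ofFn f') ↔
      RingTheory.Sequence.IsRegular (S' ⧸ I.map (algebraMap A' S'))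
        (List.ofFn fun i => Ideal.Quotient.mk (I.map (algebraMap A' S')) (f' i)) := by
  open RingTheory.Sequence in
  set J := I.map (algebraMap A' S')
  have hmap : (List.ofFn fun i => Ideal.Quotient.mk J (f' i)) = (List.ofFn f').map (algebraMap S' (S' ⧸ J)) := by
    rw [List.map_ofFn]; rfl
  have hweak : IsWeaklyRegular (S' ⧸ J) (List.ofFn fun i => Ideal.Quotient.mk J (f' i)) ↔
      IsWeaklyRegular S' (List.ofFn f') := by
    rw [hmap, isWeaklyRegular_map_algebraMap_iff,
      ← (TensorProduct.rid S' (S' ⧸ J)).isWeaklyRegular_congr]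
    exact Groth.Agent.ArtFlatRegLib.isWeaklyRegular_tensor_iff hI _ S'
  have hnil : IsNilpotent J := by
    obtain ⟨n, hn⟩ := (isArtinianRing_iff_isNilpotent_maximalIdeal A').1 inferInstance
    refine ⟨n, ?_⟩
    rw [← Ideal.map_pow, eq_bot_iff.2 ((Ideal.pow_right_mono (IsLocalRing.le_maximalIdeal hI) n).trans hn.le),
      Ideal.map_bot, Ideal.zero_eq_bot]
  have htop : (⊤ : Submodule S' S') ≠ Ideal.ofList (List.ofFn f') • ⊤ ↔
      (⊤ : Submodule (S' ⧸ J) (S' ⧸ J)) ≠
        Ideal.ofList (List.ofFn fun i => Ideal.Quotient.mk J (f' i)) • ⊤ := by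
    rw [smul_eq_mul, Ideal.mul_top, smul_eq_mul, Ideal.mul_top, hmap, ← Ideal.map_ofList]
    refine not_congr ⟨fun h => ?_, fun h => ?_⟩
    · rw [← h, Ideal.map_top]
    · have h1 := Ideal.comap_map_of_surjective (Ideal.Quotient.mk J) Ideal.Quotient.mk_surjective
        (I := Ideal.ofList (List.ofFn f'))
      rw [← RingHom.ker_eq_comap_bot, Ideal.mk_ker] at h1
      have h2 : Ideal.ofList (List.ofFn f') ⊔ J = ⊤ := by
        rw [← h1]
        change Ideal.comap _ (Ideal.map (algebraMap S' (S' ⧸ J)) _) = ⊤
        rw [← h, Ideal.comap_top]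
      obtain ⟨n, hn⟩ := hnil
      have h3 := Ideal.sup_pow_eq_top (n := n) h2
      rw [hn, Ideal.zero_eq_bot, sup_bot_eq] at h3
      exact h3.symm
  rw [RingTheory.Sequence.isRegular_iff, RingTheory.Sequence.isRegular_iff, hweak, htop]

end Groth.Agent.S13133
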