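import Mathlib
import Groth.Statements.S13134
-- import your own Groth.Agent.* helpers here

set_option autoImplicit false
universe u v
open CAlg

namespace Groth.Agent.S13134

theorem le_of_le_sup_smul_nilpotent {R : Type u} {M : Type v} [CommRing R] [AddCommGroup M]
    [Module R M] {I : Ideal R} (hI : IsNilpotent I) {N S : Submodule R M} (h : N ≤ S ⊔ I • N) :
    N ≤ S := by
  obtain ⟨k, hk⟩ := hI
  have : ∀ j : ℕ, N ≤ S ⊔ I ^ j • N := by
    intro j
    induction j with
    | zero => simp
    | succ j ih =>
      refine ih.trans (sup_le le_sup_left ?_)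
      refine (Submodule.smul_mono le_rfl h).trans ?_
      rw [Submodule.smul_sup, pow_succ, Submodule.mul_smul]
      exact sup_le_sup_right Submodule.smul_le_right _
  simpa [hk] using this k

/-- Let A' be an Artinian local ring, I a proper ideal, A = A'/I and f_1, …, f_m ∈ A[x_1, …, x_n]. Every
flat A'-algebra B' equipped with a surjection π onto A[x]/(f_1, …, f_m) with kernel I·B', compatible
with A' → A, is a quotient of A'[x_1, …, x_n] by the ideal generated by some lifts f'_1, …, f'_m of
the f_i, compatibly with π and with reduction of polynomials modulo I. (The published statement is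
for a surjection of local Artinian algebras with a fixed residue field over a ring of Witt vectors;
only the Artinian local base and the proper ideal are used, which is the form taken here.) -/
theorem result
    {A' : Type u} [CommRing A'] [IsArtinianRing A'] [IsLocalRing A'] (I : Ideal A') (hI : I ≠ ⊤)
    {n m : ℕ} (f : Fin m → MvPolynomial (Fin n) (A' ⧸ I))
    {B' : Type v} [CommRing B'] [Algebra A' B'] [Module.Flat A' B']
    (π : B' →+* MvPolynomial (Fin n) (A' ⧸ I) ⧸ Ideal.span (Set.range f))
    (hπ : Function.Surjective π) (hker : RingHom.ker π = I.map (algebraMap A' B'))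
    (hcomp : π.comp (algebraMap A' B') =
      ((Ideal.Quotient.mk (Ideal.span (Set.range f))).comp MvPolynomial.C).comp (Ideal.Quotient.mk I)) :
    ∃ (f' : Fin m → MvPolynomial (Fin n) A') (ψ : MvPolynomial (Fin n) A' →ₐ[A'] B'),
      (∀ i, MvPolynomial.map (Ideal.Quotient.mk I) (f' i) = f i) ∧
      Function.Surjective ψ ∧ RingHom.ker ψ.toRingHom = Ideal.span (Set.range f') ∧
      ∀ q, π (ψ q) = Ideal.Quotient.mk (Ideal.span (Set.range f)) (MvPolynomial.map (Ideal.Quotient.mk I) q) := by
  classical
  have hnil : IsNilpotent I := by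
    obtain ⟨k, hk⟩ := IsArtinianRing.isNilpotent_jacobson_bot (R := A')
    refine ⟨k, le_bot_iff.mp ((Ideal.pow_right_mono ?_ k).trans hk.le)⟩
    rw [IsLocalRing.jacobson_eq_maximalIdeal ⊥ bot_ne_top]
    exact IsLocalRing.le_maximalIdeal hI
  choose y hy using fun i : Fin n =>
    hπ (Ideal.Quotient.mk (Ideal.span (Set.range f)) (MvPolynomial.X i))
  let ψ : MvPolynomial (Fin n) A' →ₐ[A'] B' := MvPolynomial.aeval y
  have hψπ : ∀ q, π (ψ q) =
      Ideal.Quotient.mk (Ideal.span (Set.range f)) (MvPolynomial.map (Ideal.Quotient.mk I) q) := by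
    have : π.comp ψ.toRingHom = (Ideal.Quotient.mk (Ideal.span (Set.range f))).comp
        (MvPolynomial.map (Ideal.Quotient.mk I)) := by
      apply MvPolynomial.ringHom_ext
      · intro r
        simpa [ψ] using congr($hcomp r)
      · intro i
        simpa [ψ] using hy i
    exact fun q => congr($this q)
  have hmapsurj : Function.Surjective (MvPolynomial.map (σ := Fin n) (Ideal.Quotient.mk I)) :=
    MvPolynomial.map_surjective _ Ideal.Quotient.mk_surjective
  have hψs : Function.Surjective ψ := by
    have h1 : (⊤ : Submodule A' B') ≤ LinearMap.range ψ.toLinearMap ⊔ I • ⊤ := by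
      intro b _
      obtain ⟨q, hq⟩ := Ideal.Quotient.mk_surjective (π b)
      obtain ⟨q', rfl⟩ := hmapsurj q
      have hb : b - ψ q' ∈ RingHom.ker π := by
        rw [RingHom.mem_ker, map_sub, hψπ, hq, sub_self]
      rw [hker] at hb
      refine Submodule.mem_sup.mpr ⟨ψ q', ⟨q', rfl⟩, b - ψ q', ?_, add_sub_cancel _ _⟩
      rw [Ideal.smul_top_eq_map]
      exact hb
    intro b
    exact le_of_le_sup_smul_nilpotent hnil h1 Submodule.mem_top
  choose g hg using fun i => hmapsurj (f i)
  have hlift : ∀ i, ∃ p, MvPolynomial.map (Ideal.Quotient.mk I) p = f i ∧ ψ p = 0 := by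
    intro i
    have h1 : ψ (g i) ∈ (I • ⊤ : Submodule A' B') := by
      rw [Ideal.smul_top_eq_map, Submodule.restrictScalars_mem, ← hker, RingHom.mem_ker, hψπ, hg,
        Ideal.Quotient.eq_zero_iff_mem]
      exact Ideal.subset_span ⟨i, rfl⟩
    have h2 : (I • ⊤ : Submodule A' B') =
        (I • ⊤ : Submodule A' (MvPolynomial (Fin n) A')).map ψ.toLinearMap := by
      rw [Submodule.map_smul'', Submodule.map_top, LinearMap.range_eq_top.mpr hψs]
    rw [h2] at h1
    obtain ⟨h, hh, hheq⟩ := h1
    rw [SetLike.mem_coe, Ideal.smul_top_eq_map, Submodule.restrictScalars_mem] at hh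
    have h0 : MvPolynomial.map (Ideal.Quotient.mk I) h = 0 := by
      rw [MvPolynomial.algebraMap_eq, MvPolynomial.mem_map_C_iff] at hh
      ext d
      rw [MvPolynomial.coeff_map, MvPolynomial.coeff_zero, Ideal.Quotient.eq_zero_iff_mem]
      exact hh d
    exact ⟨g i - h, by rw [map_sub, hg, h0, sub_zero],
      by rw [map_sub, ← hheq]; exact sub_self _⟩
  choose f' hf' hψf' using hlift
  refine ⟨f', ψ, hf', hψs, ?_, hψπ⟩
  set K : Submodule A' (MvPolynomial (Fin n) A') := LinearMap.ker ψ.toLinearMap
  have hKI : ∀ r, ψ r = 0 → MvPolynomial.map (Ideal.Quotient.mk I) r = 0 → r ∈ I • K := by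
    intro r hr hr0
    have hsum : ∑ d : r.support, MvPolynomial.coeff d.1 r • ψ (MvPolynomial.monomial d.1 1) = 0 := by
      rw [← hr]
      conv_rhs => rw [r.as_sum, map_sum, ← Finset.sum_coe_sort]
      refine Finset.sum_congr rfl fun d _ => ?_
      rw [← map_smul, MvPolynomial.smul_monomial, smul_eq_mul, mul_one]
    obtain ⟨l, a, z, hz, ha⟩ := Module.Flat.isTrivialRelation_of_sum_smul_eq_zero (R := A') (M := B')
      (f := fun d : r.support => MvPolynomial.coeff d.1 r)
      (x := fun d : r.support => ψ (MvPolynomial.monomial d.1 1)) hsum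
    choose q hq using fun j => hψs (z j)
    have hr' : r = ∑ d : r.support, MvPolynomial.coeff d.1 r •
        (MvPolynomial.monomial d.1 (1 : A') - ∑ j, a d j • q j) := by
      simp only [smul_sub, Finset.sum_sub_distrib, Finset.smul_sum, smul_smul]
      rw [Finset.sum_comm (f := fun (d : r.support) j =>
        (MvPolynomial.coeff d.1 r * a d j) • q j)]
      simp only [← Finset.sum_smul, ha, zero_smul, Finset.sum_const_zero, sub_zero]
      conv_lhs => rw [r.as_sum, ← Finset.sum_coe_sort]
      refine Finset.sum_congr rfl fun d _ => ?_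
      rw [MvPolynomial.smul_monomial, smul_eq_mul, mul_one]
    rw [hr']
    refine Submodule.sum_mem _ fun d _ => Submodule.smul_mem_smul ?_ ?_
    · rw [← Ideal.Quotient.eq_zero_iff_mem, ← MvPolynomial.coeff_map, hr0, MvPolynomial.coeff_zero]
    · rw [LinearMap.mem_ker]
      simp only [AlgHom.toLinearMap_apply, map_sub, map_sum, map_smul, hq, hz d, sub_self]
  apply le_antisymm
  · have hK : K ≤ (Ideal.span (Set.range f')).restrictScalars A' ⊔ I • K := by
      intro r hr
      have hr' : ψ r = 0 := hr
      have h1 : MvPolynomial.map (Ideal.Quotient.mk I) r ∈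
          Ideal.map (MvPolynomial.map (Ideal.Quotient.mk I)) (Ideal.span (Set.range f')) := by
        rw [Ideal.map_span, ← Set.range_comp,
          show (MvPolynomial.map (Ideal.Quotient.mk I)) ∘ f' = f from funext hf',
          ← Ideal.Quotient.eq_zero_iff_mem, ← hψπ, hr', map_zero]
      obtain ⟨p, hp, hpr⟩ := (Ideal.mem_map_iff_of_surjective _ hmapsurj).mp h1
      have hpK : ψ p = 0 := by
        refine (Ideal.span_le.mpr ?_ : Ideal.span (Set.range f') ≤ RingHom.ker ψ.toRingHom) hp
        rintro _ ⟨i, rfl⟩; exact hψf' i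
      exact Submodule.mem_sup.mpr ⟨p, hp, r - p,
        hKI _ (by rw [map_sub, hr', hpK, sub_zero]) (by rw [map_sub, hpr, sub_self]),
        add_sub_cancel _ _⟩
    exact fun r hr => le_of_le_sup_smul_nilpotent hnil hK hr
  · rw [Ideal.span_le]; rintro _ ⟨i, rfl⟩; exact hψf' i

end Groth.Agent.S13134
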