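import Groth.Statements.S13135
import Groth.Agent.ArtFlatRegLib.Basic

set_option autoImplicit false
universe u
open CAlg

namespace Groth.Agent.S13135

open RingTheory.Sequence in
theorem flat_quot_ofList {A : Type u} [CommRing A] [IsLocalRing A] [IsArtinianRing A] {S : Type u} [CommRing S] [Algebra A S]
    (rs : List S) : ∀ (M : Type u) [AddCommGroup M] [Module A M] [Module S M] [IsScalarTower A S M] [Module.Flat A M],
    IsWeaklyRegular M rs → Module.Flat A (M ⧸ (Ideal.ofList rs • ⊤ : Submodule S M)) := by
  induction rs with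
  | nil =>
    intro M _ _ _ _ _ _
    exact Module.Flat.of_linearEquiv ((Submodule.quotEquivOfEqBot (Ideal.ofList ([] : List S) • ⊤ : Submodule S M) (by simp)).restrictScalars A)
  | cons r rs ih =>
    intro M _ _ _ _ _ h
    rw [isWeaklyRegular_cons_iff] at h
    haveI := ArtFlatRegLib.flat_quotSMulTop (A := A) h.1
    haveI := ih (QuotSMulTop r M) h.2
    exact Module.Flat.of_linearEquiv ((Submodule.quotOfListConsSMulTopEquivQuotSMulTopInner M r rs).restrictScalars A)


/-- Let A' be an Artinian local ring, I a proper ideal, A = A'/I and f_1, …, f_m a regular sequence in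
A[x_1, …, x_n]. For every choice of lifts f'_1, …, f'_m in A'[x_1, …, x_n] the quotient A'[x]/(f'_1,
…, f'_m) is flat over A' (so it is a flat lifting of A[x]/(f_1, …, f_m)). (The published statement
is for a surjection of local Artinian algebras with a fixed residue field over a ring of Witt
vectors; only the Artinian local base and the proper ideal are used, which is the form taken here.) -/
theorem result
    {A' : Type u} [CommRing A'] [IsArtinianRing A'] [IsLocalRing A'] (I : Ideal A') (hI : I ≠ ⊤)
    {n m : ℕ} (f : Fin m → MvPolynomial (Fin n) (A' ⧸ I))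
    (hreg : RingTheory.Sequence.IsRegular (MvPolynomial (Fin n) (A' ⧸ I)) (List.ofFn f))
    (f' : Fin m → MvPolynomial (Fin n) A') (hf' : ∀ i, MvPolynomial.map (Ideal.Quotient.mk I) (f' i) = f i) :
    Module.Flat A' (MvPolynomial (Fin n) A' ⧸ Ideal.span (Set.range f')) := by
  let S := MvPolynomial (Fin n) A'
  let J : Ideal S := I.map (algebraMap A' S)
  let e := (MvPolynomial.quotientEquivQuotientMvPolynomial (σ := Fin n) I)
  have he : ∀ p : MvPolynomial (Fin n) A', e (MvPolynomial.map (Ideal.Quotient.mk I) p) = Ideal.Quotient.mk _ p := by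
    intro p
    induction p using MvPolynomial.induction_on with
    | C a => simp [e, MvPolynomial.quotientEquivQuotientMvPolynomial]
    | add a b ha hb => simp [ha, hb]
    | mul_X a i ha =>
      simp [e, MvPolynomial.quotientEquivQuotientMvPolynomial] at ha ⊢; rw [ha]
  have h1 : RingTheory.Sequence.IsWeaklyRegular (S ⧸ J) (List.ofFn f') := by
    refine (AddEquiv.isWeaklyRegular_congr (e := e.toAddEquiv) (as := List.ofFn f) ?_).1 hreg.toIsWeaklyRegular
    rw [List.forall₂_iff_get]
    refine ⟨by simp, fun i h h' x => ?_⟩
    simp only [List.get_eq_getElem, List.getElem_ofFn]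
    rw [← hf']
    change e (_ * x) = _
    rw [map_mul, he]
    rfl
  have h2 : RingTheory.Sequence.IsWeaklyRegular S (List.ofFn f') := by
    refine (ArtFlatRegLib.isWeaklyRegular_tensor_iff (A := A') hI (List.ofFn f') S).1 ?_
    exact ((TensorProduct.rid S (S ⧸ J)).isWeaklyRegular_congr _).2 h1
  haveI := flat_quot_ofList (A := A') _ S h2
  refine Module.Flat.of_linearEquiv ((Submodule.quotEquivOfEq _ (Ideal.ofList (List.ofFn f') • ⊤ : Submodule S S) ?_).restrictScalars A')
  rw [Ideal.smul_eq_mul, Ideal.mul_top, Ideal.ofList]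
  simp [List.mem_ofFn, Set.range]

end Groth.Agent.S13135
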