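import Groth.Statements.S13137
import Groth.Agent.W2Lib.Basic

set_option autoImplicit false
universe u v
open FrobAlg

namespace Groth.Agent.S13137

/-- For a perfect field k of characteristic p, a flat W₂(k)-algebra B and an ideal J of B, the quotient
B/J is flat over W₂(k) if and only if (p) ∩ J = pJ in B. (With B a flat lifting of A = B/pB this
says: B/J is a flat lifting of A modulo the image of J exactly when (p) ∩ J = pJ.) -/
theorem result
    (p : ℕ) [Fact p.Prime] (k : Type u) [Field k] [CharP k p] [PerfectRing k p]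
    (B : Type v) [CommRing B] [Algebra (FrobAlg.W2 p k) B] [Module.Flat (FrobAlg.W2 p k) B]
    (J : Ideal B) :
    Module.Flat (FrobAlg.W2 p k) (B ⧸ J) ↔
      Ideal.span {(p : B)} ⊓ J = Ideal.span {(p : B)} * J := by
  rw [Groth.Agent.W2Lib.flat_iff]
  have hsm : ∀ x : B, (p : FrobAlg.W2 p k) • x = (p : B) * x := fun x => by
    rw [Algebra.smul_def, map_natCast]
  have hq : ∀ x : B, (p : FrobAlg.W2 p k) • (Ideal.Quotient.mk J x) = Ideal.Quotient.mk J ((p : B) * x) := fun x => by
    rw [← hsm]; rfl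
  constructor
  · intro h
    refine le_antisymm (fun x hx => ?_) (le_inf Ideal.mul_le_left Ideal.mul_le_right)
    obtain ⟨b, rfl⟩ := Ideal.mem_span_singleton.1 hx.1
    obtain ⟨y', hy⟩ := h (Ideal.Quotient.mk J b) (by rw [hq, Ideal.Quotient.eq_zero_iff_mem]; exact hx.2)
    obtain ⟨y, rfl⟩ := Ideal.Quotient.mk_surjective y'
    rw [hq, Ideal.Quotient.mk_eq_mk_iff_sub_mem] at hy
    have hpp : (p : B) * p = 0 := Groth.Agent.W2Lib.p_mul_p' (algebraMap (FrobAlg.W2 p k) B)
    rw [show (p : B) * b = (p : B) * (b - (p : B) * y) by rw [mul_sub, ← mul_assoc, hpp, zero_mul, sub_zero]]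
    exact Ideal.mul_mem_mul (Ideal.mem_span_singleton_self _) hy
  · intro h m hm
    obtain ⟨b, rfl⟩ := Ideal.Quotient.mk_surjective m
    rw [hq, Ideal.Quotient.eq_zero_iff_mem] at hm
    have h1 : (p : B) * b ∈ Ideal.span {(p : B)} * J := h ▸ ⟨Ideal.mul_mem_right _ _ (Ideal.mem_span_singleton_self _), hm⟩
    obtain ⟨j, hj, hjb⟩ := Ideal.mem_span_singleton_mul.1 h1
    obtain ⟨y, hy⟩ := (Groth.Agent.W2Lib.flat_iff B).1 ‹_› (b - j) (by rw [hsm, mul_sub, hjb, sub_self])
    refine ⟨Ideal.Quotient.mk J y, ?_⟩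
    rw [hq, ← hsm, ← hy, map_sub, Ideal.Quotient.eq_zero_iff_mem.2 hj, sub_zero]

end Groth.Agent.S13137
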