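import Groth.Statements.S13138
import Groth.Agent.W2Lib.PolyLift

set_option autoImplicit false
universe u
open scoped BigOperators
open FrobAlg

namespace Groth.Agent.S13138

set_option backward.isDefEq.respectTransparency false
set_option maxHeartbeats 800000

/-- Let k be a perfect field of characteristic p, R' = W₂(k)[x_1, …, x_n], f'_1, …, f'_m ∈ R' with
reductions f_1, …, f_m ∈ R = k[x_1, …, x_n], J' = (f'_1, …, f'_m), J = (f_1, …, f_m), and assume B'
= R'/J' is flat over W₂(k), so that it is a flat lifting of B = R/J. The Frobenius of B lifts to B'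
— there is a ring endomorphism of B' semilinear for the Witt-vector Frobenius σ₂ of W₂(k) and
reducing to the p-th power map of B — if and only if there are h_1, …, h_n ∈ R' with F'(f'_i) −
f'_i^p − p·Σ_j (∂f'_i/∂x_j)^p h_j ∈ pJ' for every i, where F' is the standard Frobenius lift of R'
(σ₂ on coefficients, x_j ↦ x_j^p). Since multiplication by p identifies R with pR', this is the
congruence P(f'_i) ≡ Σ_j (∂f_i/∂x_j)^p h_j modulo J for the Frobenius residues P(f'_i) = (F'(f'_i) −
f'_i^p)/p. -/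
theorem result
    (p : ℕ) [Fact p.Prime] (k : Type u) [Field k] [CharP k p] [PerfectRing k p]
    {n m : ℕ} (f' : Fin m → MvPolynomial (Fin n) (FrobAlg.W2 p k))
    (hflat : ((Ideal.Quotient.mk (Ideal.span (Set.range f'))).comp
      (MvPolynomial.C : FrobAlg.W2 p k →+* MvPolynomial (Fin n) (FrobAlg.W2 p k))).Flat) :
    (∃ Φ : (MvPolynomial (Fin n) (FrobAlg.W2 p k) ⧸ Ideal.span (Set.range f')) →+*
        (MvPolynomial (Fin n) (FrobAlg.W2 p k) ⧸ Ideal.span (Set.range f')),
      Φ.comp ((Ideal.Quotient.mk (Ideal.span (Set.range f'))).comp MvPolynomial.C) =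
        ((Ideal.Quotient.mk (Ideal.span (Set.range f'))).comp MvPolynomial.C).comp (FrobAlg.sigma p k) ∧
      ∀ b, Ideal.quotientMap ((Ideal.span (Set.range f')).map (MvPolynomial.map (FrobAlg.res p k)))
          (MvPolynomial.map (FrobAlg.res p k)) Ideal.le_comap_map (Φ b) =
        (Ideal.quotientMap ((Ideal.span (Set.range f')).map (MvPolynomial.map (FrobAlg.res p k)))
          (MvPolynomial.map (FrobAlg.res p k)) Ideal.le_comap_map b) ^ p) ↔
    ∃ h : Fin n → MvPolynomial (Fin n) (FrobAlg.W2 p k), ∀ i,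
      FrobAlg.polyFrob p k (Fin n) (f' i) - f' i ^ p
        - (p : MvPolynomial (Fin n) (FrobAlg.W2 p k)) * ∑ j, MvPolynomial.pderiv j (f' i) ^ p * h j
        ∈ Ideal.span {(p : MvPolynomial (Fin n) (FrobAlg.W2 p k))} * Ideal.span (Set.range f') := by
  classical
  let J' := Ideal.span (Set.range f')
  let res' := MvPolynomial.map (FrobAlg.res p k) (σ := Fin n)
  let π₀ := Ideal.quotientMap (J'.map res') res' (Ideal.le_comap_map (I := J'))
  have hπ₀ : ∀ x, π₀ (Ideal.Quotient.mk J' x) = 0 ↔ res' x ∈ J'.map res' := fun x => by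
    simp only [π₀, Ideal.quotientMap_mk, Ideal.Quotient.eq_zero_iff_mem]
  have hcomm : π₀.comp ((Ideal.Quotient.mk J').comp MvPolynomial.C) =
      (algebraMap k (MvPolynomial (Fin n) k ⧸ J'.map res')).comp (FrobAlg.res p k) := RingHom.ext fun r => by
    simp only [π₀, RingHom.comp_apply, Ideal.quotientMap_mk, res', MvPolynomial.map_C]
    rfl
  have hJ : ∀ x, (p : MvPolynomial (Fin n) (FrobAlg.W2 p k)) * x ∈ J' →
      x ∈ J' ⊔ Ideal.span {(p : MvPolynomial (Fin n) (FrobAlg.W2 p k))} := by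
    intro x hx
    haveI : Module.Flat (FrobAlg.W2 p k) (MvPolynomial (Fin n) (FrobAlg.W2 p k) ⧸ J') :=
      RingHom.flat_algebraMap_iff.1 hflat
    have hs : ∀ q : MvPolynomial (Fin n) (FrobAlg.W2 p k) ⧸ J', (p : FrobAlg.W2 p k) • q =
        Ideal.Quotient.mk J' (p : MvPolynomial (Fin n) (FrobAlg.W2 p k)) * q := fun q => by
      rw [map_natCast (Ideal.Quotient.mk J')]
      exact (Algebra.smul_def (p : FrobAlg.W2 p k) q).trans (by rw [map_natCast])
    obtain ⟨y, hy⟩ := (Groth.Agent.W2Lib.flat_iff _).1 ‹Module.Flat _ _› (Ideal.Quotient.mk J' x) (by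
      rw [hs, ← map_mul]; exact Ideal.Quotient.eq_zero_iff_mem.2 hx)
    obtain ⟨y, rfl⟩ := Ideal.Quotient.mk_surjective y
    rw [hs, ← map_mul, Ideal.Quotient.eq] at hy
    exact Submodule.mem_sup.2 ⟨_, hy, _, Ideal.mem_span_singleton.2 (dvd_mul_right _ y), sub_add_cancel _ _⟩
  have hsurj : Function.Surjective π₀ :=
    Ideal.quotientMap_surjective Groth.Agent.W2Lib.map_res_surjective
  have hL := Groth.Agent.W2Lib.isLift_quotient f' π₀ hπ₀ hsurj hcomm hJ
  constructor
  · rintro ⟨Φ, hsemi, hred⟩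
    exact Groth.Agent.W2Lib.exists_congruence_of_frobLift f' ⟨hL, hsemi, hred⟩ (Ideal.Quotient.mk J') rfl
      Ideal.Quotient.mk_surjective Ideal.mk_ker
  · rintro ⟨h, hh⟩
    obtain ⟨Φ, hΦ, hred⟩ := Groth.Agent.W2Lib.exists_frobLift_of_congruence f' h hh
    refine ⟨Φ, hΦ, fun b => ?_⟩
    obtain ⟨x, rfl⟩ := Ideal.Quotient.mk_surjective b
    obtain ⟨y, hy, hΦx⟩ := hred x
    rw [hΦx, Ideal.quotientMap_mk, Ideal.quotientMap_mk, hy, map_pow]

end Groth.Agent.S13138
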