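import Groth.Statements.S13139
import Groth.Agent.W2Lib.PolyLift

set_option autoImplicit false
universe u
open scoped BigOperators
open FrobAlg

namespace Groth.Agent.S13139

set_option backward.isDefEq.respectTransparency false
set_option maxHeartbeats 800000

/-- Let k be a perfect field of characteristic p and f_1, …, f_m a regular sequence in R = k[x_1, …,
x_n]. The complete intersection A = R/(f_1, …, f_m) lifts to W₂(k) compatibly with Frobenius if and
only if for some lifts f'_1, …, f'_m ∈ R' = W₂(k)[x_1, …, x_n] of the f_i and some h_1, …, h_n ∈ R'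
one has F'(f'_i) − f'_i^p − p·Σ_j (∂f'_i/∂x_j)^p h_j ∈ p·(f'_1, …, f'_m) for every i, F' being the
standard Frobenius lift of R'. In terms of Frobenius residues P(f') = (F'(f') − f'^p)/p ∈ R, which
change by g^p when f' changes by pg, this is the congruence P_{f_i} + g_i^p ≡ Σ_j (∂f_i/∂x_j)^p h_j
modulo (f_1, …, f_m) for some g_i, h_j. -/
theorem result
    (p : ℕ) [Fact p.Prime] (k : Type u) [Field k] [CharP k p] [PerfectRing k p]
    {n m : ℕ} (f : Fin m → MvPolynomial (Fin n) k)
    (hreg : RingTheory.Sequence.IsRegular (MvPolynomial (Fin n) k) (List.ofFn f)) :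
    FrobAlg.IsFLiftable p k (MvPolynomial (Fin n) k ⧸ Ideal.span (Set.range f)) ↔
    ∃ (f' : Fin m → MvPolynomial (Fin n) (FrobAlg.W2 p k)) (h : Fin n → MvPolynomial (Fin n) (FrobAlg.W2 p k)),
      (∀ i, MvPolynomial.map (FrobAlg.res p k) (f' i) = f i) ∧
      ∀ i, FrobAlg.polyFrob p k (Fin n) (f' i) - f' i ^ p
        - (p : MvPolynomial (Fin n) (FrobAlg.W2 p k)) * ∑ j, MvPolynomial.pderiv j (f' i) ^ p * h j
        ∈ Ideal.span {(p : MvPolynomial (Fin n) (FrobAlg.W2 p k))} * Ideal.span (Set.range f') := by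
  classical
  let J := Ideal.span (Set.range f)
  let res' := MvPolynomial.map (FrobAlg.res p k) (σ := Fin n)
  constructor
  · rintro ⟨B, _, ι, π, Φ, hL⟩
    choose b hb using fun j : Fin n => hL.surj (Ideal.Quotient.mk J (MvPolynomial.X j))
    let ψ := MvPolynomial.eval₂Hom ι b
    have hC : ψ.comp MvPolynomial.C = ι := RingHom.ext fun r => MvPolynomial.eval₂Hom_C _ _ _
    have hcomp : π.comp ψ = (Ideal.Quotient.mk J).comp res' := by
      refine MvPolynomial.ringHom_ext (fun r => ?_) fun j => ?_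
      · show π (ψ (MvPolynomial.C r)) = Ideal.Quotient.mk J (res' (MvPolynomial.C r))
        rw [show ψ (MvPolynomial.C r) = ι r from MvPolynomial.eval₂Hom_C _ _ _,
          show res' (MvPolynomial.C r) = MvPolynomial.C (FrobAlg.res p k r) from MvPolynomial.map_C _ _,
          ← RingHom.comp_apply π, hL.comm]
        rfl
      · show π (ψ (MvPolynomial.X j)) = Ideal.Quotient.mk J (res' (MvPolynomial.X j))
        rw [show ψ (MvPolynomial.X j) = b j from MvPolynomial.eval₂Hom_X' _ _ _,
          show res' (MvPolynomial.X j) = MvPolynomial.X j from MvPolynomial.map_X _ _]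
        exact hb j
    have hπψ : ∀ x, π (ψ x) = Ideal.Quotient.mk J (res' x) := RingHom.congr_fun hcomp
    have hpp : (p : B) * p = 0 := Groth.Agent.W2Lib.p_mul_p' ι
    have hψp : ∀ x, ψ ((p : MvPolynomial (Fin n) (FrobAlg.W2 p k)) * x) = (p : B) * ψ x := fun x => by
      rw [map_mul, map_natCast]
    have hstep : ∀ c : B, ∃ x d, c = ψ x + (p : B) * d := fun c => by
      obtain ⟨y, hy⟩ := Ideal.Quotient.mk_surjective (π c)
      obtain ⟨x, rfl⟩ := Groth.Agent.W2Lib.map_res_surjective (p := p) y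
      obtain ⟨d, hd⟩ := Groth.Agent.W2Lib.exists_eq_p_mul_of_pi hL.toIsLift (x := c - ψ x)
        (by rw [map_sub, hπψ, hy, sub_self])
      exact ⟨x, d, by rw [← hd, add_sub_cancel]⟩
    have hψ : Function.Surjective ψ := fun c => by
      obtain ⟨x, d, rfl⟩ := hstep c
      obtain ⟨x', d', rfl⟩ := hstep d
      exact ⟨x + p * x', by rw [map_add, hψp, mul_add, ← mul_assoc (p : B) p, hpp, zero_mul, add_zero]⟩
    have hlift : ∀ i, ∃ g, res' g = f i ∧ ψ g = 0 := fun i => by
      obtain ⟨g, hg⟩ := Groth.Agent.W2Lib.map_res_surjective (p := p) (f i)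
      obtain ⟨e, he⟩ := Groth.Agent.W2Lib.exists_eq_p_mul_of_pi hL.toIsLift (x := ψ g)
        (by rw [hπψ]; exact Ideal.Quotient.eq_zero_iff_mem.2 (hg ▸ Ideal.subset_span ⟨i, rfl⟩))
      obtain ⟨e', rfl⟩ := hψ e
      refine ⟨g - p * e', ?_, by rw [map_sub, hψp, ← he, sub_self]⟩
      simp only [res', map_sub, Groth.Agent.W2Lib.map_res_p_mul, sub_zero]
      exact hg
    choose f' hf' hψf' using hlift
    have hmapJ : ∀ x, res' x ∈ J → ∃ y, x - p * y ∈ Ideal.span (Set.range f') := by
      intro x hx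
      have : J = (Ideal.span (Set.range f')).map res' := by
        rw [Ideal.map_span, ← Set.range_comp, show ⇑res' ∘ f' = f from funext hf']
      rw [this, Ideal.mem_map_iff_of_surjective _ Groth.Agent.W2Lib.map_res_surjective] at hx
      obtain ⟨z, hz, hzx⟩ := hx
      obtain ⟨y, hy⟩ := Groth.Agent.W2Lib.map_res_eq_zero_iff.1
        (show MvPolynomial.map (FrobAlg.res p k) (x - z) = 0 by rw [map_sub]; exact sub_eq_zero.2 hzx.symm)
      exact ⟨y, by rw [← hy, sub_sub_cancel]; exact hz⟩
    have hle : Ideal.span (Set.range f') ≤ RingHom.ker ψ := Ideal.span_le.2 (by rintro _ ⟨i, rfl⟩; exact hψf' i)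
    have hker : RingHom.ker ψ = Ideal.span (Set.range f') := by
      refine le_antisymm (fun x hx => ?_) hle
      rw [RingHom.mem_ker] at hx
      obtain ⟨y, hy⟩ := hmapJ x (by rw [← Ideal.Quotient.eq_zero_iff_mem, ← hπψ, hx, map_zero])
      have hy' := hle hy
      rw [RingHom.mem_ker, map_sub, hψp, hx, zero_sub, neg_eq_zero,
        Groth.Agent.W2Lib.p_mul_eq_zero_iff hL.toIsLift, hπψ, Ideal.Quotient.eq_zero_iff_mem] at hy'
      obtain ⟨z, hz⟩ := hmapJ y hy'
      have h2 := add_mem hy (Ideal.mul_mem_left _ (p : MvPolynomial (Fin n) (FrobAlg.W2 p k)) hz)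
      convert h2 using 1
      linear_combination z * Groth.Agent.W2Lib.poly_p_mul_p (p := p) (k := k) (n := n)
    obtain ⟨h, hh⟩ := Groth.Agent.W2Lib.exists_congruence_of_frobLift f' hL ψ hC hψ hker
    exact ⟨f', h, hf', hh⟩
  · rintro ⟨f', h, hf', hh⟩
    let J' := Ideal.span (Set.range f')
    have hJmap : J'.map res' = J := by
      rw [Ideal.map_span, ← Set.range_comp, show ⇑res' ∘ f' = f from funext hf']
    let π₀ := Ideal.quotientMap J res' (I := J') (Ideal.map_le_iff_le_comap.1 hJmap.le)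
    have hπ₀ : ∀ x, π₀ (Ideal.Quotient.mk J' x) = 0 ↔ res' x ∈ J'.map res' := fun x => by
      simp only [π₀, Ideal.quotientMap_mk, Ideal.Quotient.eq_zero_iff_mem, hJmap]
    have hcomm : π₀.comp ((Ideal.Quotient.mk J').comp MvPolynomial.C) =
        (algebraMap k (MvPolynomial (Fin n) k ⧸ J)).comp (FrobAlg.res p k) := RingHom.ext fun r => by
      simp only [π₀, RingHom.comp_apply, Ideal.quotientMap_mk, res', MvPolynomial.map_C]
      rfl
    have hweak : ∀ i : Fin m, ∀ a, a * f i ∈ Ideal.span (f '' {j | j < i}) → a ∈ Ideal.span (f '' {j | j < i}) := by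
      intro i a ha
      have hi : (i : ℕ) < (List.ofFn f).length := by simp
      have h1 := hreg.toIsWeaklyRegular.regular_mod_prev i hi
      have hset : Ideal.ofList ((List.ofFn f).take i) = Ideal.span (f '' {j | j < i}) := by
        refine congrArg Ideal.span (Set.ext fun y => ?_)
        rw [Set.mem_setOf_eq, List.mem_take_iff_getElem, Set.mem_image]
        constructor
        · rintro ⟨l, hl, rfl⟩
          rw [List.length_ofFn] at hl
          exact ⟨⟨l, by omega⟩, show (⟨l, _⟩ : Fin m) < i by rw [Fin.lt_def]; simp only; omega, (List.getElem_ofFn _).symm⟩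
        · rintro ⟨j, hj, rfl⟩
          have hj' : (j : ℕ) < i := hj
          exact ⟨j, by rw [List.length_ofFn]; omega, List.getElem_ofFn _⟩
      rw [← hset] at ha ⊢
      rw [smul_eq_mul, Ideal.mul_top] at h1
      have h2 : Ideal.Quotient.mk (Ideal.ofList ((List.ofFn f).take i)) a = 0 := by
        refine h1.right_eq_zero_of_smul ?_
        rw [Algebra.smul_def, Ideal.Quotient.algebraMap_eq, ← map_mul, Ideal.Quotient.eq_zero_iff_mem, mul_comm]
        simpa using ha
      exact Ideal.Quotient.eq_zero_iff_mem.1 h2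
    have hJ := Groth.Agent.W2Lib.mem_sup_of_regular f' f hf' hweak
    have hsurj : Function.Surjective π₀ := Ideal.quotientMap_surjective Groth.Agent.W2Lib.map_res_surjective
    have hL := Groth.Agent.W2Lib.isLift_quotient f' π₀ hπ₀ hsurj hcomm hJ
    obtain ⟨Φ, hΦ, hred⟩ := Groth.Agent.W2Lib.exists_frobLift_of_congruence f' h hh
    refine ⟨_, inferInstance, _, π₀, Φ, hL, hΦ, fun q => ?_⟩
    obtain ⟨x, rfl⟩ := Ideal.Quotient.mk_surjective q
    obtain ⟨y, hy, hΦx⟩ := hred x
    show π₀ (Φ (Ideal.Quotient.mk J' x)) = π₀ (Ideal.Quotient.mk J' x) ^ p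
    rw [hΦx, show π₀ (Ideal.Quotient.mk J' y) = Ideal.Quotient.mk J (res' y) from Ideal.quotientMap_mk,
      show π₀ (Ideal.Quotient.mk J' x) = Ideal.Quotient.mk J (res' x) from Ideal.quotientMap_mk, ← map_pow]
    exact congrArg _ hy

end Groth.Agent.S13139
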