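import Groth.Statements.S13140
import Mathlib

set_option autoImplicit false
universe u v w
open GrpAlg

namespace Groth.Agent.S13140

theorem result
    (R : Type u) [CommRing R] (G : Type v) [Group G] [Finite G] (hG : IsUnit ((Nat.card G : ℕ) : R))
    (M : Type w) [AddCommGroup M] [Module R M] [Module (MonoidAlgebra R G) M]
    [IsScalarTower R (MonoidAlgebra R G) M] [Module.Projective R M] :
    Module.Projective (MonoidAlgebra R G) M := by
  classical
  have := Fintype.ofFinite G
  obtain ⟨s, hs⟩ := Module.projective_def'.1 ‹Module.Projective R M›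
  let e : (M →₀ R) →ₗ[R] (M →₀ MonoidAlgebra R G) :=
    Finsupp.mapRange.linearMap ((MonoidAlgebra.lsingle (1 : G)) : R →ₗ[R] MonoidAlgebra R G)
  let P : (M →₀ MonoidAlgebra R G) →ₗ[MonoidAlgebra R G] M :=
    Finsupp.linearCombination (MonoidAlgebra R G) id
  have hPe : ∀ m, P (e (s m)) = m := by
    intro m
    have : ∀ w : M →₀ R, P (e w) = Finsupp.linearCombination R id w := by
      intro w
      induction w using Finsupp.induction_linear with
      | zero => simp
      | add a b ha hb => simp [ha, hb]
      | single a r =>
        simp only [e, P, Finsupp.mapRange.linearMap_apply, Finsupp.mapRange_single,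
          Finsupp.linearCombination_single, id]
        rw [← mul_one r]
        rw [show (MonoidAlgebra.lsingle (1 : G) (r * 1) : MonoidAlgebra R G) = r • 1 by
          simp [MonoidAlgebra.one_def]]
        simp
    rw [this]
    exact DFunLike.congr_fun hs m
  obtain ⟨u, hu⟩ := hG
  let h := (e.comp s).sumOfConjugatesEquivariant G
  refine Module.Projective.of_split (((↑u⁻¹ : R)) • h) P ?_
  apply LinearMap.ext
  intro m
  have hh := LinearMap.sumOfConjugatesEquivariant_apply G (e.comp s) m
  simp only [LinearMap.comp_apply, LinearMap.smul_apply, LinearMap.id_apply, h, hh, map_sum,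
    Finset.smul_sum]
  simp only [LinearMap.conjugate_apply, LinearMap.comp_apply, map_smul, hPe]
  have : ∀ g : G, P ((↑u⁻¹ : R) • (MonoidAlgebra.single g⁻¹ (1 : R) • e (s (MonoidAlgebra.single g (1 : R) • m))))
      = (↑u⁻¹ : R) • m := by
    intro g
    rw [LinearMap.map_smul_of_tower, map_smul, hPe, ← mul_smul]
    simp [MonoidAlgebra.single_mul_single, ← MonoidAlgebra.one_def]
  rw [Finset.sum_congr rfl fun g _ => this g, Finset.sum_const, Finset.card_univ, ← Nat.card_eq_fintype_card,
    ← Nat.cast_smul_eq_nsmul R, ← mul_smul, ← hu]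
  simp

end Groth.Agent.S13140
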