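import Groth.Statements.S13141
import Mathlib

set_option autoImplicit false
universe u v w w'
open scoped TensorProduct
open GrpAlg

namespace Groth.Agent.S13141

/-- Let G be a finite group, R a commutative ring with |G| invertible in R, M a projective R-module with
an R-linear G-action and S an R-algebra. The natural map M^G ⊗_R S → M ⊗_R S is injective and its
image is the submodule of G-invariants of M ⊗_R S (G acting on the first factor); that is, M^G ⊗_R S
→ (M ⊗_R S)^G is bijective. -/
theorem result
    (R : Type u) [CommRing R] (G : Type v) [Group G] [Finite G] (hG : IsUnit ((Nat.card G : ℕ) : R))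
    (M : Type w) [AddCommGroup M] [Module R M] [Module.Projective R M] (ρ : Representation R G M)
    (S : Type w') [CommRing S] [Algebra R S] :
    Function.Injective (TensorProduct.map ρ.invariants.subtype (LinearMap.id : S →ₗ[R] S)) ∧
    LinearMap.range (TensorProduct.map ρ.invariants.subtype (LinearMap.id : S →ₗ[R] S)) =
      ⨅ g : G, LinearMap.eqLocus (LinearMap.rTensor S (ρ g)) LinearMap.id := by
  classical
  haveI := Fintype.ofFinite G
  obtain ⟨u, hu⟩ := hG
  let π : M →ₗ[R] M := (↑u⁻¹ : R) • ∑ g : G, ρ g
  have hπ : ∀ x, π x ∈ ρ.invariants := by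
    intro x
    rw [Representation.mem_invariants]
    intro h
    simp only [π, LinearMap.smul_apply, LinearMap.sum_apply, map_smul, map_sum]
    congr 1
    exact Fintype.sum_equiv (Equiv.mulLeft h) _ _ (fun g => by simp [map_mul])
  have hfix : (π.codRestrict ρ.invariants hπ) ∘ₗ ρ.invariants.subtype = LinearMap.id := by
    refine LinearMap.ext fun x => Subtype.ext ?_
    have h1 : ∀ g : G, ρ g x.1 = x.1 := (Representation.mem_invariants ρ x.1).1 x.2
    show π x.1 = x.1
    simp only [π, LinearMap.smul_apply, LinearMap.sum_apply, h1]
    rw [Finset.sum_const, Finset.card_univ, ← Nat.card_eq_fintype_card,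
      ← Nat.cast_smul_eq_nsmul R, smul_smul, ← hu, Units.inv_mul, one_smul]
  constructor
  · intro a b hab
    have := congrArg (LinearMap.rTensor S (π.codRestrict ρ.invariants hπ)) hab
    change (LinearMap.rTensor S (π.codRestrict ρ.invariants hπ)) (LinearMap.rTensor S ρ.invariants.subtype a) =
      (LinearMap.rTensor S (π.codRestrict ρ.invariants hπ)) (LinearMap.rTensor S ρ.invariants.subtype b) at this
    simpa only [← LinearMap.comp_apply, ← LinearMap.rTensor_comp, hfix, LinearMap.rTensor_id,
      LinearMap.id_apply] using this
  · apply le_antisymm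
    · rintro _ ⟨a, rfl⟩
      rw [Submodule.mem_iInf]
      intro g
      rw [LinearMap.mem_eqLocus]
      have : ρ g ∘ₗ ρ.invariants.subtype = ρ.invariants.subtype :=
        LinearMap.ext fun x => (Representation.mem_invariants ρ x.1).1 x.2 g
      change LinearMap.rTensor S (ρ g) (LinearMap.rTensor S ρ.invariants.subtype a) =
        LinearMap.rTensor S ρ.invariants.subtype a
      rw [← LinearMap.comp_apply, ← LinearMap.rTensor_comp, this]
    · intro x hx
      rw [Submodule.mem_iInf] at hx
      refine ⟨LinearMap.rTensor S (π.codRestrict ρ.invariants hπ) x, ?_⟩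
      change LinearMap.rTensor S ρ.invariants.subtype _ = x
      rw [← LinearMap.comp_apply, ← LinearMap.rTensor_comp, LinearMap.subtype_comp_codRestrict]
      have h1 : ∀ g : G, LinearMap.rTensor S (ρ g) x = x := fun g => by
        simpa [LinearMap.mem_eqLocus] using hx g
      simp only [π, LinearMap.rTensor_smul, LinearMap.smul_apply]
      have h2 : LinearMap.rTensor S (∑ g : G, ρ g) x = ∑ g : G, LinearMap.rTensor S (ρ g) x := by
        rw [← LinearMap.coe_rTensorHom, map_sum, LinearMap.sum_apply]
      rw [h2]
      simp only [h1]
      rw [Finset.sum_const, Finset.card_univ, ← Nat.card_eq_fintype_card,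
        ← Nat.cast_smul_eq_nsmul R, smul_smul, ← hu, Units.inv_mul, one_smul]

end Groth.Agent.S13141
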