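import Groth.Statements.S13142
import Mathlib

set_option autoImplicit false
universe u v
open GrpAlg

namespace Groth.Agent.S13142

/-- Let G be a finite group and R a commutative ring with |G| invertible in R, acting on R[x_1, …, x_n]
by R-algebra automorphisms. The invariant subring R[x_1, …, x_n]^G is a flat R-module (so the
quotient of affine n-space over R by G is flat over R). -/
theorem result
    (R : Type u) [CommRing R] (G : Type v) [Group G] [Finite G] (hG : IsUnit ((Nat.card G : ℕ) : R))
    (n : ℕ) (ρ : G →* (MvPolynomial (Fin n) R ≃ₐ[R] MvPolynomial (Fin n) R)) :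
    Module.Flat R ↥(⨅ g : G, LinearMap.eqLocus (ρ g).toLinearMap (LinearMap.id : MvPolynomial (Fin n) R →ₗ[R] MvPolynomial (Fin n) R)) := by
  classical
  haveI := Fintype.ofFinite G
  obtain ⟨u, hu⟩ := hG
  set N : Submodule R (MvPolynomial (Fin n) R) := ⨅ g : G, LinearMap.eqLocus (ρ g).toLinearMap (LinearMap.id : MvPolynomial (Fin n) R →ₗ[R] MvPolynomial (Fin n) R) with hN
  let π : MvPolynomial (Fin n) R →ₗ[R] MvPolynomial (Fin n) R :=
    (↑u⁻¹ : R) • ∑ g : G, (ρ g).toLinearMap
  have hπ : ∀ x, π x ∈ N := by
    intro x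
    rw [hN, Submodule.mem_iInf]
    intro h
    rw [LinearMap.mem_eqLocus]
    simp only [π, LinearMap.smul_apply, LinearMap.sum_apply, AlgEquiv.toLinearMap_apply,
      LinearMap.id_apply, map_smul, map_sum]
    congr 1
    exact Fintype.sum_equiv (Equiv.mulLeft h) _ _ (fun g => by simp [map_mul])
  have hfix : ∀ x ∈ N, π x = x := by
    intro x hx
    rw [hN, Submodule.mem_iInf] at hx
    have h1 : ∀ g : G, ρ g x = x := fun g => by simpa [LinearMap.mem_eqLocus] using hx g
    simp only [π, LinearMap.smul_apply, LinearMap.sum_apply, AlgEquiv.toLinearMap_apply, h1]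
    rw [Finset.sum_const, Finset.card_univ, ← Nat.card_eq_fintype_card,
      ← Nat.cast_smul_eq_nsmul R, smul_smul, ← hu, Units.inv_mul, one_smul]
  haveI : Module.Projective R N :=
    Module.Projective.of_split N.subtype (π.codRestrict N hπ)
      (LinearMap.ext fun x => Subtype.ext (hfix x x.2))
  infer_instance

end Groth.Agent.S13142
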