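import Groth.Statements.S13143
import Groth.Agent.W2Lib.Basic
-- import your own Groth.Agent.* helpers here

set_option autoImplicit false
universe u
open FrobAlg

namespace Groth.Agent.S13143

/-- Let k be a perfect field of characteristic p and A → B a homomorphism of Noetherian k-algebras with
an A-linear retraction B → A. If B lifts flatly to W₂(k), so does A. (The published statement
phrases the descent for finite surjective morphisms of degree prime to p, via a trace splitting; the
argument uses exactly an A-linear splitting of A → B for an affine morphism, which is the hypothesis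
taken here.) -/
theorem result
    (p : ℕ) [Fact p.Prime] (k : Type u) [Field k] [CharP k p] [PerfectRing k p]
    (A B : Type u) [CommRing A] [CommRing B] [Algebra k A] [Algebra k B]
    [IsNoetherianRing A] [IsNoetherianRing B] [Algebra A B] [IsScalarTower k A B]
    (r : B →ₗ[A] A) (hr : ∀ a : A, r (algebraMap A B a) = a)
    (hB : FrobAlg.IsW2Liftable p k B) : FrobAlg.IsW2Liftable p k A := by
  obtain ⟨B', _, ιB, πB, hB⟩ := hB
  open Groth.Agent.W2Lib in
  have hinj : Function.Injective (algebraMap A B) := fun a b h => by rw [← hr a, ← hr b, h]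
  open Groth.Agent.W2Lib in
  let S : Subring B' := (algebraMap A B).range.comap πB
  open Groth.Agent.W2Lib in
  have hS : ∀ x : S, algebraMap A B (r (πB x.1)) = πB x.1 := by
    rintro ⟨x, a, ha⟩
    show algebraMap A B (r (πB x)) = πB x
    rw [← ha, hr]
  open Groth.Agent.W2Lib in
  let π₀ : S →+* A :=
    { toFun := fun x => r (πB x.1)
      map_one' := by
        show r (πB 1) = 1
        rw [map_one, ← map_one (algebraMap A B), hr]
      map_zero' := by show r (πB 0) = 0; rw [map_zero, map_zero]
      map_add' := fun x y => by show r (πB (x.1 + y.1)) = _; rw [map_add, map_add]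
      map_mul' := fun x y => hinj (by
        rw [map_mul, hS, hS, hS]
        show πB (x.1 * y.1) = _
        rw [map_mul]) }
  open Groth.Agent.W2Lib in
  let N : Ideal S :=
    { carrier := {x | ∃ b : B', x.1 = (p : B') * b ∧ r (πB b) = 0}
      zero_mem' := ⟨0, by simp, by simp⟩
      add_mem' := fun {x y} ⟨b, hb, hb'⟩ ⟨c, hc, hc'⟩ =>
        ⟨b + c, by rw [Subring.coe_add, hb, hc, mul_add], by rw [map_add, map_add, hb', hc', add_zero]⟩
      smul_mem' := fun s x ⟨b, hb, hb'⟩ => ⟨s.1 * b, by
        rw [smul_eq_mul, Subring.coe_mul, hb]; ring, by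
        rw [map_mul, ← hS s, ← Algebra.smul_def, map_smul, hb', smul_zero]⟩ }
  open Groth.Agent.W2Lib in
  have hN : ∀ x ∈ N, π₀ x = 0 := by
    rintro x ⟨b, hb, -⟩
    show r (πB x.1) = 0
    rw [hb, map_mul, pi_p hB, zero_mul, map_zero]
  open Groth.Agent.W2Lib in
  have hιS : ∀ w, ιB w ∈ S := fun w => ⟨algebraMap k A (FrobAlg.res p k w), by
    rw [← IsScalarTower.algebraMap_apply, ← RingHom.comp_apply, ← hB.comm, RingHom.comp_apply]⟩
  refine ⟨S ⧸ N, inferInstance, (Ideal.Quotient.mk N).comp (ιB.codRestrict S hιS),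
    Ideal.Quotient.lift N π₀ hN, Groth.Agent.W2Lib.isLift_of ?_ ?_ ?_ ?_⟩
  · intro a
    obtain ⟨x, hx⟩ := hB.surj (algebraMap A B a)
    exact ⟨Ideal.Quotient.mk N ⟨x, a, hx.symm⟩, show r (πB x) = a by rw [hx, hr]⟩
  · intro x hx
    obtain ⟨⟨x, hxS⟩, rfl⟩ := Ideal.Quotient.mk_surjective x
    have hx0 : πB x = 0 := by
      have h := hS ⟨x, hxS⟩
      rw [show r (πB x) = 0 from hx, map_zero] at h
      exact h.symm
    obtain ⟨b, rfl⟩ := Groth.Agent.W2Lib.exists_eq_p_mul_of_pi hB hx0
    obtain ⟨c, hc⟩ := hB.surj (algebraMap A B (r (πB b)))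
    refine ⟨Ideal.Quotient.mk N ⟨c, _, hc.symm⟩, ?_⟩
    rw [← map_natCast (Ideal.Quotient.mk N), ← map_mul, Ideal.Quotient.eq]
    refine ⟨b - c, ?_, ?_⟩
    · push_cast
      ring
    · rw [map_sub, hc, map_sub, hr, sub_self]
  · intro x hx
    obtain ⟨x, rfl⟩ := Ideal.Quotient.mk_surjective x
    rw [← map_natCast (Ideal.Quotient.mk N), ← map_mul, Ideal.Quotient.eq_zero_iff_mem] at hx
    obtain ⟨b, hb, hb'⟩ := hx
    show r (πB x.1) = 0
    rw [Subring.coe_mul, SubringClass.coe_natCast] at hb
    rw [(Groth.Agent.W2Lib.p_mul_eq_p_mul_iff hB).1 hb, hb']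
  · refine RingHom.ext fun w => ?_
    show r (πB (ιB w)) = _
    rw [← RingHom.comp_apply, hB.comm, RingHom.comp_apply, IsScalarTower.algebraMap_apply k A B, hr]
    rfl

end Groth.Agent.S13143
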