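import Groth.Statements.S13144
import Groth.Agent.W2Lib.Basic
-- import your own Groth.Agent.* helpers here

set_option autoImplicit false
universe u
open FrobAlg

namespace Groth.Agent.S13144

/-- Let k be a perfect field of characteristic p, A → B a homomorphism of Noetherian k-algebras with an
A-linear retraction B → A, and A' → B' a homomorphism over W₂(k) between flat liftings of A and B
which reduces to A → B. If the Frobenius of B lifts to B' (a σ₂-semilinear ring endomorphism
reducing to the p-th power map), then the Frobenius of A lifts to A'. (The published statement is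
for an affine morphism whose map on structure sheaves splits linearly; the affine case with an
A-linear splitting is taken here.) -/
theorem result
    (p : ℕ) [Fact p.Prime] (k : Type u) [Field k] [CharP k p] [PerfectRing k p]
    (A B : Type u) [CommRing A] [CommRing B] [Algebra k A] [Algebra k B]
    [IsNoetherianRing A] [IsNoetherianRing B] [Algebra A B] [IsScalarTower k A B]
    (r : B →ₗ[A] A) (hr : ∀ a : A, r (algebraMap A B a) = a)
    (A' B' : Type u) [CommRing A'] [CommRing B']
    (ιA : FrobAlg.W2 p k →+* A') (πA : A' →+* A) (hA : FrobAlg.IsLift p k A A' ιA πA)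
    (ιB : FrobAlg.W2 p k →+* B') (πB : B' →+* B) (hB : FrobAlg.IsLift p k B B' ιB πB)
    (φ' : A' →+* B') (hφι : φ'.comp ιA = ιB) (hφπ : πB.comp φ' = (algebraMap A B).comp πA)
    (ΦB : B' →+* B') (hΦB : FrobAlg.IsFrobLift p k B B' ιB πB ΦB) :
    ∃ ΦA : A' →+* A', FrobAlg.IsFrobLift p k A A' ιA πA ΦA := by
  open Groth.Agent.W2Lib in
  let P : A' → A' → Prop := fun a y => ∃ (b : B') (c : A'),
    ΦB (φ' a) = φ' (a ^ p) + (p : B') * b ∧ πA c = r (πB b) ∧ y = a ^ p + (p : A') * c
  open Groth.Agent.W2Lib in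
  have hex : ∀ a, ∃ y, P a y := by
    intro a
    obtain ⟨b, hb⟩ := exists_eq_p_mul_of_pi hB (x := ΦB (φ' a) - φ' (a ^ p)) (by
      rw [map_sub, hΦB.red, ← RingHom.comp_apply πB φ' (a ^ p), ← RingHom.comp_apply πB φ' a, hφπ,
        RingHom.comp_apply, RingHom.comp_apply, map_pow, map_pow, sub_self])
    obtain ⟨c, hc⟩ := hA.surj (r (πB b))
    exact ⟨_, b, c, by rw [← hb, add_sub_cancel], hc, rfl⟩
  open Groth.Agent.W2Lib in
  have huniq : ∀ a y y', P a y → P a y' → y = y' := by
    rintro a y y' ⟨b, c, hb, hc, rfl⟩ ⟨b', c', hb', hc', rfl⟩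
    have : πB b = πB b' := (p_mul_eq_p_mul_iff hB).1 (add_left_cancel (hb.symm.trans hb'))
    rw [(p_mul_eq_p_mul_iff hA).2 (show πA c = πA c' by rw [hc, hc', this])]
  open Groth.Agent.W2Lib in
  have hπφ : ∀ x, r (πB (φ' x)) = πA x := fun x => by
    rw [← RingHom.comp_apply, hφπ, RingHom.comp_apply, hr]
  choose Φ hΦ using hex
  open Groth.Agent.W2Lib in
  let ΦA : A' →+* A' :=
    { toFun := Φ
      map_one' := huniq _ _ _ (hΦ 1) ⟨0, 0, by simp, by simp, by simp⟩
      map_zero' := huniq _ _ _ (hΦ 0) ⟨0, 0, by simp [zero_pow (Fact.out : p.Prime).ne_zero],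
        by simp, by simp [zero_pow (Fact.out : p.Prime).ne_zero]⟩
      map_add' := fun x y => by
        obtain ⟨b, c, hb, hc, hy⟩ := hΦ x
        obtain ⟨b', c', hb', hc', hy'⟩ := hΦ y
        obtain ⟨z, hz⟩ := exists_add_pow_prime_eq (Fact.out : p.Prime) x y
        refine huniq _ _ _ (hΦ (x + y)) ⟨b + b' - φ' (x * y * z), c + c' - x * y * z, ?_, ?_, ?_⟩
        · simp only [hz, map_add, map_mul, map_natCast, map_pow] at hb hb' ⊢
          rw [hb, hb']; ring
        · rw [map_sub, map_add, map_sub, map_sub, map_add, map_add, hπφ, hc, hc']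
        · rw [hy, hy', hz]; ring
      map_mul' := fun x y => by
        obtain ⟨b, c, hb, hc, hy⟩ := hΦ x
        obtain ⟨b', c', hb', hc', hy'⟩ := hΦ y
        refine huniq _ _ _ (hΦ (x * y))
          ⟨φ' (x ^ p) * b' + φ' (y ^ p) * b, x ^ p * c' + y ^ p * c, ?_, ?_, ?_⟩
        · simp only [map_mul, map_pow, mul_pow] at hb hb' ⊢
          rw [hb, hb']
          linear_combination b * b' * p_mul_p' ιB
        · have : ∀ (a : A') (β : B'), r (πB (φ' a * β)) = πA a * r (πB β) := fun a β => by
            rw [map_mul, ← RingHom.comp_apply, hφπ, RingHom.comp_apply, ← Algebra.smul_def,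
              map_smul, smul_eq_mul]
          rw [map_add, map_add, map_mul, map_mul, map_add, this, this, hc, hc']
        · rw [hy, hy']
          linear_combination c * c' * p_mul_p' ιA }
  open Groth.Agent.W2Lib in
  refine ⟨ΦA, hA, RingHom.ext fun w => ?_, fun a => ?_⟩
  · obtain ⟨z, hz⟩ := exists_sigma_eq_pow_add w
    obtain ⟨b, c, hb, hc, hy⟩ := hΦ (ιA w)
    show Φ (ιA w) = ιA (FrobAlg.sigma p k w)
    refine huniq _ _ _ ⟨b, c, hb, hc, hy⟩ ⟨φ' (ιA z), ιA z, ?_, (hπφ _).symm, ?_⟩
    · have h1 : φ' (ιA w) = ιB w := RingHom.congr_fun hφι w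
      have h2 : ΦB (ιB w) = ιB (FrobAlg.sigma p k w) := RingHom.congr_fun hΦB.semi w
      rw [h1, h2, hz, map_add, map_mul, map_natCast, map_pow, map_pow, h1,
        ← RingHom.comp_apply φ' ιA z, hφι]
    · rw [hz, map_add, map_mul, map_natCast, map_pow]
  · obtain ⟨b, c, hb, hc, hy⟩ := hΦ a
    show πA (Φ a) = _
    rw [hy, map_add, map_mul, pi_p hA, zero_mul, add_zero, map_pow]

end Groth.Agent.S13144
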