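import Groth.Statements.S13147
import Groth.Agent.W2Lib.Basic

set_option autoImplicit false
universe u
open FrobAlg

namespace Groth.Agent.S13147

variable {p : ℕ} [Fact p.Prime] {A : Type u} [CommRing A] [CharP A p]

omit [CharP A p] in
theorem exists_versch {x : FrobAlg.W2 p A} (hx : FrobAlg.res p A x = 0) :
    ∃ Y : WittVector p A, x = WittVector.truncate 2 (WittVector.verschiebung Y) := by
  obtain ⟨X, rfl⟩ := WittVector.truncate_surjective p 2 A x
  rw [FrobAlg.res_truncate] at hx
  exact ⟨X.shift 1, congrArg _ (WittVector.eq_iterate_verschiebung (n := 1) fun i hi => by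
    obtain rfl : i = 0 := by omega
    exact hx)⟩

omit [CharP A p] in
theorem coeff_one_versch (Y : WittVector p A) :
    (WittVector.truncate 2 (WittVector.verschiebung Y) : FrobAlg.W2 p A).coeff 1 = Y.coeff 0 := by
  rw [WittVector.coeff_truncate]
  exact WittVector.verschiebung_coeff_succ Y 0

omit [CharP A p] in
theorem add_coeff_one {x y : FrobAlg.W2 p A} (hx : FrobAlg.res p A x = 0) (hy : FrobAlg.res p A y = 0) :
    (x + y).coeff 1 = x.coeff 1 + y.coeff 1 := by
  obtain ⟨X, rfl⟩ := exists_versch hx
  obtain ⟨Y, rfl⟩ := exists_versch hy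
  rw [← map_add, ← map_add, coeff_one_versch, coeff_one_versch, coeff_one_versch, WittVector.add_coeff_zero]

theorem mul_coeff_one (r : FrobAlg.W2 p A) {x : FrobAlg.W2 p A} (hx : FrobAlg.res p A x = 0) :
    (r * x).coeff 1 = FrobAlg.res p A r ^ p * x.coeff 1 := by
  obtain ⟨X, rfl⟩ := exists_versch hx
  obtain ⟨R, rfl⟩ := WittVector.truncate_surjective p 2 A r
  rw [← map_mul, mul_comm R, ← WittVector.verschiebung_mul_frobenius, coeff_one_versch, coeff_one_versch,
    WittVector.mul_coeff_zero, WittVector.coeff_frobenius_charP, FrobAlg.res_truncate, mul_comm]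

theorem p_coeff_one (r : FrobAlg.W2 p A) :
    ((p : FrobAlg.W2 p A) * r).coeff 1 = FrobAlg.res p A r ^ p := by
  obtain ⟨R, rfl⟩ := WittVector.truncate_surjective p 2 A r
  rw [← map_natCast (WittVector.truncate (p := p) (R := A) 2), ← map_mul, mul_comm,
    ← WittVector.verschiebung_frobenius, coeff_one_versch, WittVector.coeff_frobenius_charP, FrobAlg.res_truncate]

theorem res_natCast_p : FrobAlg.res p A (p : FrobAlg.W2 p A) = 0 := by
  rw [map_natCast, CharP.cast_eq_zero]

theorem mem_splitIdeal_iff (φ : A →+ A) (hφ : ∀ a b : A, φ (a ^ p * b) = a * φ b) {x : FrobAlg.W2 p A} :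
    x ∈ FrobAlg.splitIdeal p A φ ↔ FrobAlg.res p A x = 0 ∧ φ (x.coeff 1) = 0 := by
  refine ⟨fun h => ?_, fun h => Ideal.subset_span h⟩
  induction h using Submodule.span_induction with
  | mem y hy => exact hy
  | zero =>
    refine ⟨map_zero _, ?_⟩
    have h := p_coeff_one (p := p) (0 : FrobAlg.W2 p A)
    rw [mul_zero, map_zero, zero_pow (Fact.out : p.Prime).ne_zero] at h
    rw [h, map_zero]
  | add y z _ _ hy hz =>
    exact ⟨by rw [map_add, hy.1, hz.1, add_zero], by rw [add_coeff_one hy.1 hz.1, map_add, hy.2, hz.2, add_zero]⟩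
  | smul r y _ hy =>
    rw [smul_eq_mul]
    exact ⟨by rw [map_mul, hy.1, mul_zero], by rw [mul_coeff_one r hy.1, hφ, hy.2, mul_zero]⟩

/-- Let k be a perfect field of characteristic p and (A, φ) a k-algebra with a Frobenius splitting (φ
additive, φ(a^p b) = a φ(b), φ(1) = 1). The quotient of W₂(A) by the ideal generated by the Witt
vectors (0, a) with φ(a) = 0 — the ring of twisted Witt vectors of (A, φ) — is a flat lifting of A
over W₂(k): flat over W₂(k), with reduction map onto A induced by (a₀, a₁) ↦ a₀ whose kernel is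
generated by the maximal ideal of W₂(k). (The published statement also asserts that a morphism of
algebras with Frobenius splittings compatible with the splittings induces a ring map between these
quotients; that part is not stated here.) -/
theorem result
    (p : ℕ) [Fact p.Prime] (k : Type u) [Field k] [CharP k p] [PerfectRing k p]
    (A : Type u) [CommRing A] [Algebra k A] (φ : A →+ A)
    (hφ : ∀ a b : A, φ (a ^ p * b) = a * φ b) (hφ1 : φ 1 = 1) :
    FrobAlg.IsLift p k A (FrobAlg.W2 p A ⧸ FrobAlg.splitIdeal p A φ)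
      ((Ideal.Quotient.mk (FrobAlg.splitIdeal p A φ)).comp (WittGrp.truncMap p 2 (algebraMap k A)))
      (FrobAlg.splitRes p A φ) := by
  classical
  let π := FrobAlg.splitRes p A φ
  have hπ : ∀ x, π (Ideal.Quotient.mk _ x) = FrobAlg.res p A x := fun x => Ideal.Quotient.lift_mk _ _ _
  have hressurj : Function.Surjective (FrobAlg.res p A) := fun a =>
    ⟨WittVector.truncate 2 (WittVector.teichmuller p a),
      (FrobAlg.res_truncate p A _).trans (WittVector.teichmuller_coeff_zero p a)⟩
  refine Groth.Agent.W2Lib.isLift_of ?_ ?_ ?_ ?_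
  · intro a
    obtain ⟨x, hx⟩ := hressurj a
    exact ⟨Ideal.Quotient.mk _ x, (hπ x).trans hx⟩
  all_goals rcases subsingleton_or_nontrivial A with hA | hA
  · intro x hx
    haveI : Subsingleton (FrobAlg.W2 p A) := ⟨fun a b => TruncatedWittVector.ext fun i => Subsingleton.elim _ _⟩
    haveI := (Ideal.Quotient.mk_surjective (I := FrobAlg.splitIdeal p A φ)).subsingleton
    exact ⟨0, Subsingleton.elim _ _⟩
  · haveI : CharP A p := charP_of_injective_algebraMap (algebraMap k A).injective p
    intro x hx
    obtain ⟨x, rfl⟩ := Ideal.Quotient.mk_surjective x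
    rw [hπ] at hx
    obtain ⟨r, hr⟩ := hressurj (φ (x.coeff 1))
    refine ⟨Ideal.Quotient.mk _ r, ?_⟩
    rw [← map_natCast (Ideal.Quotient.mk (FrobAlg.splitIdeal p A φ)), ← map_mul, Ideal.Quotient.eq,
      mem_splitIdeal_iff φ hφ]
    have hres : FrobAlg.res p A (x - p * r) = 0 := by rw [map_sub, hx, map_mul, res_natCast_p, zero_mul, sub_zero]
    refine ⟨hres, ?_⟩
    have h1 := add_coeff_one hres (show FrobAlg.res p A ((p : FrobAlg.W2 p A) * r) = 0 by
      rw [map_mul, res_natCast_p, zero_mul])
    rw [sub_add_cancel, p_coeff_one, hr] at h1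
    have h2 : φ (φ (x.coeff 1) ^ p) = φ (x.coeff 1) := by
      simpa [hφ1] using hφ (φ (x.coeff 1)) 1
    have h3 := congrArg φ h1
    rw [map_add, h2] at h3
    exact add_eq_right.1 h3.symm
  · exact fun x _ => Subsingleton.elim _ _
  · haveI : CharP A p := charP_of_injective_algebraMap (algebraMap k A).injective p
    intro x hx
    obtain ⟨x, rfl⟩ := Ideal.Quotient.mk_surjective x
    rw [← map_natCast (Ideal.Quotient.mk (FrobAlg.splitIdeal p A φ)), ← map_mul, Ideal.Quotient.eq_zero_iff_mem,
      mem_splitIdeal_iff φ hφ, p_coeff_one] at hx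
    rw [hπ]
    simpa [hφ1] using (hφ (FrobAlg.res p A x) 1).symm.trans (by rw [mul_one]; exact hx.2)
  · exact RingHom.ext fun x => Subsingleton.elim _ _
  · refine RingHom.ext fun x => ?_
    show π (Ideal.Quotient.mk _ (WittGrp.truncMap p 2 (algebraMap k A) x)) = _
    rw [hπ, FrobAlg.res_apply, WittGrp.coeff_truncMap, RingHom.comp_apply, FrobAlg.res_apply]

end Groth.Agent.S13147
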