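import Groth.Statements.S13148
import Groth.Agent.W2Lib.FLift

set_option autoImplicit false
universe u
open FrobAlg

namespace Groth.Agent.S13148

/-- Over a perfect field k of characteristic p, every smooth affine scheme Spec A admits a flat lifting
over W₂(k) together with a lifting of Frobenius (not necessarily unique). -/
theorem result
    (p : ℕ) [Fact p.Prime] (k : Type u) [Field k] [CharP k p] [PerfectRing k p]
    (A : Type u) [CommRing A] [Algebra k A] [Algebra.Smooth k A] :
    FrobAlg.IsFLiftable p k A := by
  exact Groth.Agent.W2Lib.isFLiftable_of_smooth k A Groth.Agent.W2Lib.isFLiftable_self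

end Groth.Agent.S13148
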