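import Mathlib
import Groth.Statements.S13149

set_option autoImplicit false
universe u
open CAlg

namespace Groth.Agent.S13149

open Matrix

/-- Coordinates normalised on the standard frame force `p = 0`. -/
lemma core (p : ℕ) [Fact p.Prime] (A : Type u) [CommRing A] [IsLocalRing A]
    (W : (Fin 3 → ZMod p) → (Fin 3 → A))
    (hpt : ∀ v : Fin 3 → ZMod p, v ≠ 0 → ∃ i, IsUnit (W v i))
    (hcol : ∀ u v w : Fin 3 → ZMod p, u ≠ 0 → v ≠ 0 → w ≠ 0 →
      Matrix.det (Matrix.of ![u, v, w]) = 0 → Matrix.det (Matrix.of ![W u, W v, W w]) = 0)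
    (h0 : ∃ a : Aˣ, W ![1, 0, 0] = ![(a : A), 0, 0])
    (h1 : ∃ a : Aˣ, W ![0, 1, 0] = ![0, (a : A), 0])
    (h2 : ∃ a : Aˣ, W ![0, 0, 1] = ![0, 0, (a : A)])
    (h3 : ∃ a : Aˣ, W ![1, 1, 1] = ![(a : A), (a : A), (a : A)]) : (p : A) = 0 := by
  obtain ⟨a, ha⟩ := h0
  obtain ⟨b, hb⟩ := h1
  obtain ⟨c, hc⟩ := h2
  obtain ⟨e, he⟩ := h3
  have ne3 : ∀ x y : ZMod p, (![x, y, 1] : Fin 3 → ZMod p) ≠ 0 := fun x y h =>
    one_ne_zero (congrFun h 2)
  have n0 : (![1, 0, 0] : Fin 3 → ZMod p) ≠ 0 := fun h => one_ne_zero (congrFun h 0)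
  have n1 : (![0, 1, 0] : Fin 3 → ZMod p) ≠ 0 := fun h => one_ne_zero (congrFun h 1)
  have nd : (![1, 1, 0] : Fin 3 → ZMod p) ≠ 0 := fun h => one_ne_zero (congrFun h 0)
  -- the point at infinity of the diagonal
  obtain ⟨d, hd⟩ : ∃ d : Aˣ, W ![1, 1, 0] = ![(d : A), (d : A), 0] := by
    have q1 := hcol ![1, 1, 0] ![1, 0, 0] ![0, 1, 0] nd n0 n1 (by simp [det_fin_three])
    have q2 := hcol ![1, 1, 0] ![0, 0, 1] ![1, 1, 1] nd (ne3 0 0) (ne3 1 1) (by simp [det_fin_three])
    rw [ha, hb] at q1
    rw [hc, he] at q2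
    simp [det_fin_three] at q1 q2
    have hz : W ![1, 1, 0] 2 = 0 := by simpa using q1
    have hxy : W ![1, 1, 0] 0 = W ![1, 1, 0] 1 := by
      refine sub_eq_zero.1 ((c * e).isUnit.mul_right_eq_zero.1 ?_)
      push_cast
      first | linear_combination q2 | linear_combination -q2
    obtain ⟨i, hi⟩ := hpt _ nd
    have hu : IsUnit (W ![1, 1, 0] 0) := by
      fin_cases i
      · exact hi
      · exact hxy ▸ hi
      · exact absurd (hz ▸ hi) not_isUnit_zero
    exact ⟨hu.unit, by ext j; fin_cases j <;> simp [hz, hxy]⟩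
  -- the affine points of the horizontal axis
  have key : ∀ k : ℕ, ∃ t : Aˣ, W ![(k : ZMod p), 0, 1] = ![(k : A) * t, 0, (t : A)] := by
    intro k
    induction k with
    | zero => exact ⟨c, by simpa using hc⟩
    | succ k ih =>
        obtain ⟨t, ht⟩ := ih
        let B : Fin 3 → ZMod p := ![(k : ZMod p) + 1, 1, 1]
        have q1 := hcol B ![1, 0, 0] ![1, 1, 1] (ne3 _ _) n0 (ne3 1 1) (by simp [B, det_fin_three])
        have q2 := hcol B ![(k : ZMod p), 0, 1] ![1, 1, 0] (ne3 _ _) (ne3 _ _) nd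
          (by simp [B, det_fin_three])
        rw [ha, he] at q1
        rw [ht, hd] at q2
        simp [det_fin_three] at q1 q2
        have hy : W B 1 = W B 2 := by
          refine sub_eq_zero.1 ((a * e).isUnit.mul_right_eq_zero.1 ?_)
          push_cast
          first | linear_combination q1 | linear_combination -q1
        have hx : W B 0 = ((k : A) + 1) * W B 2 := by
          refine sub_eq_zero.1 ((t * d).isUnit.mul_right_eq_zero.1 ?_)
          push_cast
          rw [hy] at q2
          first | linear_combination q2 | linear_combination -q2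
        have hB : IsUnit (W B 2) := by
          obtain ⟨i, hi⟩ := hpt B (ne3 _ _)
          fin_cases i
          · have hi' : IsUnit (((k : A) + 1) * W B 2) := hx ▸ hi
            exact isUnit_of_mul_isUnit_right hi'
          · exact hy ▸ hi
          · exact hi
        let P : Fin 3 → ZMod p := ![(k : ZMod p) + 1, 0, 1]
        have r1 := hcol P ![1, 0, 0] ![0, 0, 1] (ne3 _ _) n0 (ne3 0 0) (by simp [P, det_fin_three])
        have r2 := hcol P B ![0, 1, 0] (ne3 _ _) (ne3 _ _) n1 (by simp [P, B, det_fin_three])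
        rw [ha, hc] at r1
        rw [hb] at r2
        simp [det_fin_three] at r1 r2
        have py : W P 1 = 0 := by simpa using r1
        have px : W P 0 = ((k : A) + 1) * W P 2 := by
          refine sub_eq_zero.1 ((hB.mul b.isUnit).mul_right_eq_zero.1 ?_)
          rw [hx] at r2
          first | linear_combination r2 | linear_combination -r2
        have hP : IsUnit (W P 2) := by
          obtain ⟨i, hi⟩ := hpt P (ne3 _ _)
          fin_cases i
          · have hi' : IsUnit (((k : A) + 1) * W P 2) := px ▸ hi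
            exact isUnit_of_mul_isUnit_right hi'
          · exact absurd (py ▸ hi) not_isUnit_zero
          · exact hi
        refine ⟨hP.unit, ?_⟩
        push_cast
        ext j
        fin_cases j
        · exact px
        · exact py
        · rfl
  obtain ⟨t, ht⟩ := key p
  rw [ZMod.natCast_self, hc] at ht
  simpa using (congrFun ht 0).symm

/-- Let A be a local ring and ρ a map from the points of the projective plane over F_p to the points of
the projective plane over A (vectors with a unit coordinate, up to units) taking collinear triples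
to collinear triples (three points are collinear when a vector with a unit coordinate is orthogonal
to all three). If ρ sends the standard frame (1:0:0), (0:1:0), (0:0:1), (1:1:1) to four points in
general position, then p = 0 in A. (The published statement asks only that ρ preserve collinearity;
a constant map does so over any ring, and the published argument begins by moving the images of the
standard frame to the standard frame, which needs them in general position — that condition is made
a hypothesis here.) -/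
theorem result
    (p : ℕ) [Fact p.Prime] (A : Type u) [CommRing A] [IsLocalRing A]
    (ρ : (Fin 3 → ZMod p) → (Fin 3 → A))
    (hpt : ∀ v : Fin 3 → ZMod p, v ≠ 0 → ∃ i, IsUnit (ρ v i))
    (hcol : ∀ u v w : Fin 3 → ZMod p, u ≠ 0 → v ≠ 0 → w ≠ 0 →
      Matrix.det (Matrix.of ![u, v, w]) = 0 →
      ∃ n : Fin 3 → A, (∃ i, IsUnit (n i)) ∧
        dotProduct (ρ u) n = 0 ∧ dotProduct (ρ v) n = 0 ∧ dotProduct (ρ w) n = 0)
    (hgen : IsUnit (Matrix.det (Matrix.of ![ρ (Pi.single 0 1), ρ (Pi.single 1 1), ρ (Pi.single 2 1)])) ∧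
      IsUnit (Matrix.det (Matrix.of ![ρ (Pi.single 0 1), ρ (Pi.single 1 1), ρ (fun _ => 1)])) ∧
      IsUnit (Matrix.det (Matrix.of ![ρ (Pi.single 0 1), ρ (Pi.single 2 1), ρ (fun _ => 1)])) ∧
      IsUnit (Matrix.det (Matrix.of ![ρ (Pi.single 1 1), ρ (Pi.single 2 1), ρ (fun _ => 1)]))) :
    (p : A) = 0 := by
  set M := Matrix.of ![ρ (Pi.single 0 1), ρ (Pi.single 1 1), ρ (Pi.single 2 1)] with hM
  have hd : ∀ u v w : Fin 3 → ZMod p, u ≠ 0 → v ≠ 0 → w ≠ 0 →
      Matrix.det (Matrix.of ![u, v, w]) = 0 →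
      Matrix.det (Matrix.of ![ρ u, ρ v, ρ w]) = 0 := by
    intro u v w hu hv hw h
    obtain ⟨n, ⟨i, hi⟩, h1, h2, h3⟩ := hcol u v w hu hv hw h
    have hmv : Matrix.mulVec (Matrix.of ![ρ u, ρ v, ρ w]) n = 0 := by
      ext j
      fin_cases j
      · exact h1
      · exact h2
      · exact h3
    have h4 := congrArg (Matrix.mulVec (Matrix.of ![ρ u, ρ v, ρ w]).adjugate) hmv
    rw [Matrix.mulVec_mulVec, Matrix.adjugate_mul, Matrix.smul_mulVec, Matrix.one_mulVec,
      Matrix.mulVec_zero] at h4
    exact hi.mul_left_eq_zero.1 (congrFun h4 i)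
  obtain ⟨hg, hg1, hg2, hg3⟩ := hgen
  set E := Matrix.vecMul (ρ fun _ => 1) M⁻¹ with hE
  have hEM : ρ (fun _ => 1) = Matrix.vecMul E M := by
    rw [hE, Matrix.vecMul_vecMul, Matrix.nonsing_inv_mul _ hg, Matrix.vecMul_one]
  have expand : ∀ j, ρ (fun _ => 1) j = E 0 * ρ (Pi.single 0 1) j + E 1 * ρ (Pi.single 1 1) j +
      E 2 * ρ (Pi.single 2 1) j := by
    intro j
    rw [hEM]
    simp [Matrix.vecMul, dotProduct, Fin.sum_univ_three, M]
  have e2 : IsUnit (E 2) := by
    refine isUnit_of_mul_isUnit_left (y := M.det) ?_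
    convert hg1 using 1
    simp only [M, Matrix.det_fin_three, expand, Matrix.of_apply, Matrix.cons_val]
    ring
  have e1 : IsUnit (E 1) := by
    refine isUnit_of_mul_isUnit_left (y := M.det) ?_
    convert hg2.neg using 1
    simp only [M, Matrix.det_fin_three, expand, Matrix.of_apply, Matrix.cons_val]
    ring
  have e0 : IsUnit (E 0) := by
    refine isUnit_of_mul_isUnit_left (y := M.det) ?_
    convert hg3 using 1
    simp only [M, Matrix.det_fin_three, expand, Matrix.of_apply, Matrix.cons_val]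
    ring
  let D : Fin 3 → Aˣ := ![e0.unit⁻¹, e1.unit⁻¹, e2.unit⁻¹]
  let N := M⁻¹ * Matrix.diagonal fun i => (D i : A)
  have hN : IsUnit N.det := by
    rw [Matrix.det_mul, Matrix.det_diagonal]
    refine (Matrix.isUnit_nonsing_inv_det _ hg).mul ?_
    rw [← Units.coe_prod]
    exact Units.isUnit _
  have hfr : ∀ i j, Matrix.vecMul (ρ (Pi.single i 1)) N j = if j = i then (D i : A) else 0 := by
    intro i j
    have : ρ (Pi.single i 1) = M i := by fin_cases i <;> rfl
    rw [this, ← Matrix.vecMul_vecMul, show Matrix.vecMul (M i) M⁻¹ = (M * M⁻¹) i from rfl,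
      Matrix.mul_nonsing_inv _ hg, Matrix.vecMul_diagonal]
    by_cases h : j = i
    · subst h; simp
    · simp [h, Ne.symm h]
  refine core p A (fun v => Matrix.vecMul (ρ v) N) (fun v hv => ?_) (fun u v w hu hv hw h => ?_)
    ?_ ?_ ?_ ?_
  · by_contra hnu
    push Not at hnu
    obtain ⟨i, hi⟩ := hpt v hv
    refine (IsLocalRing.mem_maximalIdeal _).1 ?_ hi
    have : ρ v = Matrix.vecMul (Matrix.vecMul (ρ v) N) N⁻¹ := by
      rw [Matrix.vecMul_vecMul, Matrix.mul_nonsing_inv _ hN, Matrix.vecMul_one]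
    rw [this]
    simp only [Matrix.vecMul, dotProduct]
    exact sum_mem fun j _ => Ideal.mul_mem_right _ _ ((IsLocalRing.mem_maximalIdeal _).2 (hnu j))
  · rw [show Matrix.of ![Matrix.vecMul (ρ u) N, Matrix.vecMul (ρ v) N, Matrix.vecMul (ρ w) N] =
      Matrix.of ![ρ u, ρ v, ρ w] * N by ext i j; fin_cases i <;> rfl,
      Matrix.det_mul, hd u v w hu hv hw h, zero_mul]
  · refine ⟨D 0, ?_⟩
    rw [show (![1, 0, 0] : Fin 3 → ZMod p) = Pi.single 0 1 by ext i; fin_cases i <;> simp]
    ext j
    rw [hfr]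
    fin_cases j <;> simp
  · refine ⟨D 1, ?_⟩
    rw [show (![0, 1, 0] : Fin 3 → ZMod p) = Pi.single 1 1 by ext i; fin_cases i <;> simp]
    ext j
    rw [hfr]
    fin_cases j <;> simp
  · refine ⟨D 2, ?_⟩
    rw [show (![0, 0, 1] : Fin 3 → ZMod p) = Pi.single 2 1 by ext i; fin_cases i <;> simp]
    ext j
    rw [hfr]
    fin_cases j <;> simp
  · refine ⟨1, ?_⟩
    rw [show (![1, 1, 1] : Fin 3 → ZMod p) = fun _ => 1 by ext i; fin_cases i <;> simp]
    ext j
    rw [← Matrix.vecMul_vecMul, ← hE, Matrix.vecMul_diagonal]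
    fin_cases j
    · exact e0.mul_val_inv
    · exact e1.mul_val_inv
    · exact e2.mul_val_inv

end Groth.Agent.S13149
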