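import Groth.Statements.S13150
import Groth.Agent.W2Lib.Basic
import Mathlib

set_option autoImplicit false
universe u
open FrobAlg

namespace Groth.Agent.S13150

open Groth.Agent.W2Lib in
theorem frobLift_iff_aux (p : ℕ) [Fact p.Prime] (k : Type u) [Field k] [CharP k p] [PerfectRing k p]
    {R : Type u} [CommRing R] (f g : FrobAlg.W2 p k →+* R) (I : Ideal R)
    (hfg : ∀ x, f x - g x ∈ I) (hp : ∀ d ∈ I, (p : R) * d = 0) (hsq : ∀ d ∈ I, ∀ e ∈ I, d * e = 0) :
    f = g := by
  have hpow : ∀ x, f (x ^ p) = g (x ^ p) := fun x => by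
    obtain ⟨c, hc⟩ := exists_add_pow_prime_eq (Fact.out : p.Prime) (g x) (f x - g x)
    rw [map_pow, map_pow]
    calc f x ^ p = (g x + (f x - g x)) ^ p := by ring
      _ = g x ^ p := by
        rw [hc]
        have h2 : (f x - g x) ^ p = 0 := by
          exact pow_eq_zero_of_le (Fact.out : p.Prime).two_le (by rw [sq, hsq _ (hfg x) _ (hfg x)])
        linear_combination h2 + g x * c * hp _ (hfg x)
  refine RingHom.ext fun x => ?_
  obtain ⟨X, rfl⟩ := WittVector.truncate_surjective p 2 k x
  obtain ⟨a, ha⟩ := surjective_frobenius k p (X.coeff 0)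
  rw [frobenius_def] at ha
  let u : FrobAlg.W2 p k := WittVector.truncate 2 (WittVector.teichmuller p a)
  obtain ⟨v, hv⟩ := exists_eq_p_mul (x := WittVector.truncate 2 X - u ^ p) (by
    rw [map_sub, map_pow, FrobAlg.res_truncate, FrobAlg.res_truncate, WittVector.teichmuller_coeff_zero, ha, sub_self])
  rw [sub_eq_iff_eq_add.1 hv, map_add, map_add, map_mul, map_mul, map_natCast, map_natCast, hpow]
  congr 1
  rw [← sub_eq_zero, ← mul_sub, hp _ (hfg v)]

/-- Let k be a perfect field of characteristic p and (B, ι, π) a flat lifting over W₂(k) of a Noetherian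
k-algebra A. The Frobenius of A lifts to B (a σ₂-semilinear ring endomorphism of B reducing to the
p-th power map) if and only if there is a ring homomorphism θ : B → W₂(A) over A (the zeroth Witt
component of θ(b) is π(b)) with θ ∘ ι equal to the map W₂(k) → W₂(A) induced by k → A. (The
published statement is for a flat W₂(k)-extension of the structure sheaf of a scheme and says: the
push-out of that extension along the Frobenius O_X → F_*O_X is isomorphic, as an extension by F_*O_X
over W₂(k), to W₂(O_X); by the universal property of the push-out this is the existence of a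
morphism of extensions to W₂(O_X), which in the affine case taken here is the map θ.) -/
theorem result
    (p : ℕ) [Fact p.Prime] (k : Type u) [Field k] [CharP k p] [PerfectRing k p]
    (A B : Type u) [CommRing A] [Algebra k A] [IsNoetherianRing A] [CommRing B]
    (ι : FrobAlg.W2 p k →+* B) (π : B →+* A) (hB : FrobAlg.IsLift p k A B ι π) :
    (∃ Φ : B →+* B, FrobAlg.IsFrobLift p k A B ι π Φ) ↔
      ∃ θ : B →+* FrobAlg.W2 p A,
        (FrobAlg.res p A).comp θ = π ∧ θ.comp ι = WittGrp.truncMap p 2 (algebraMap k A) := by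
  open Groth.Agent.W2Lib in
  have : CharP A p ∨ Subsingleton A := by
    rcases subsingleton_or_nontrivial A with h | h
    · exact Or.inr h
    · exact Or.inl (charP_of_injective_algebraMap (algebraMap k A).injective p)
  have hA : (p : A) = 0 := by
    rw [← map_natCast (algebraMap k A), CharP.cast_eq_zero, map_zero]
  have hpp : (p : B) * p = 0 := Groth.Agent.W2Lib.p_mul_p' ι
  have hker : ∀ {x : B}, π x = 0 → ∃ y, x = (p : B) * y := fun hx =>
    Groth.Agent.W2Lib.exists_eq_p_mul_of_pi hB hx
  have hcancel : ∀ {x y : B}, (p : B) * x = p * y → π x = π y := fun h =>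
    (Groth.Agent.W2Lib.p_mul_eq_p_mul_iff hB).1 h
  have hp0 : ∀ {x : B}, π x = 0 → (p : B) * x = 0 := fun hx => by
    obtain ⟨y, rfl⟩ := hker hx
    rw [← mul_assoc, hpp, zero_mul]
  -- the reduction W(B) → W₂(A)
  let Q : WittVector p B →+* FrobAlg.W2 p A := (WittVector.truncate 2).comp (WittVector.map π)
  have hQ : ∀ X (i : Fin 2), (Q X).coeff i = π (X.coeff i) := fun X i => by
    show (WittVector.truncate 2 (WittVector.map π X)).coeff i = _
    rw [WittVector.coeff_truncate, WittVector.map_coeff]
  have hQs : Function.Surjective Q := fun w => by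
    let X : WittVector p B := WittVector.mk p fun n => if h : n < 2 then (hB.surj (w.coeff ⟨n, h⟩)).choose else 0
    refine ⟨X, TruncatedWittVector.ext fun i => ?_⟩
    rw [hQ]
    simp only [X, WittVector.coeff_mk, dif_pos i.2]
    exact (hB.surj (w.coeff _)).choose_spec
  have hgh : ∀ X : WittVector p B, WittVector.ghostComponent 1 X = X.coeff 0 ^ p + (p : B) * X.coeff 1 := fun X => by
    rw [WittVector.ghostComponent_apply, wittPolynomial_one]
    simp [add_comm]
  have hkerQ : RingHom.ker Q ≤ RingHom.ker (WittVector.ghostComponent (p := p) (R := B) 1) := fun X hX => by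
    rw [RingHom.mem_ker] at hX ⊢
    have h : ∀ i : Fin 2, π (X.coeff i) = 0 := fun i => by
      rw [← hQ, hX, TruncatedWittVector.coeff_zero]
    obtain ⟨y, hy⟩ := hker (h 0)
    rw [hgh, hp0 (show π (X.coeff 1) = 0 from h 1), add_zero]
    refine pow_eq_zero_of_le (Fact.out : p.Prime).two_le ?_
    rw [show X.coeff 0 = (p : B) * y from hy, sq, mul_mul_mul_comm, hpp, zero_mul]
  let γ : FrobAlg.W2 p A →+* B := Q.liftOfSurjective hQs ⟨_, hkerQ⟩
  have hγ : ∀ X, γ (Q X) = X.coeff 0 ^ p + (p : B) * X.coeff 1 := fun X =>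
    (RingHom.liftOfRightInverse_comp_apply _ _ _ _ X).trans (hgh X)
  have hγπ : ∀ w, π (γ w) = FrobAlg.res p A w ^ p := fun w => by
    obtain ⟨X, rfl⟩ := hQs w
    rw [hγ, map_add, map_pow, map_mul, map_natCast, hA, zero_mul, add_zero, FrobAlg.res_apply, hQ]
    rfl
  have hγinj : ∀ v w, FrobAlg.res p A v = FrobAlg.res p A w → γ v = γ w → v = w := by
    intro v w h0 h
    obtain ⟨X, rfl⟩ := hQs v
    obtain ⟨Y, rfl⟩ := hQs w
    rw [FrobAlg.res_apply, FrobAlg.res_apply, hQ, hQ] at h0
    rw [hγ, hγ] at h
    obtain ⟨y, hy⟩ := hker (x := X.coeff 0 - Y.coeff 0) (by rw [map_sub]; exact sub_eq_zero.2 h0)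
    have hpow : X.coeff 0 ^ p = Y.coeff 0 ^ p := by
      obtain ⟨c, hc⟩ := exists_add_pow_prime_eq (Fact.out : p.Prime) (Y.coeff 0) ((p : B) * y)
      rw [show X.coeff 0 = Y.coeff 0 + (p : B) * y by rw [← hy]; ring, hc,
        pow_eq_zero_of_le (Fact.out : p.Prime).two_le (show ((p : B) * y) ^ 2 = 0 by rw [sq, mul_mul_mul_comm, hpp, zero_mul])]
      linear_combination Y.coeff 0 * c * y * hpp
    rw [hpow, add_right_inj] at h
    refine TruncatedWittVector.ext fun i => ?_
    rw [hQ, hQ]
    fin_cases i
    · exact h0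
    · exact hcancel h
  have hresp : (p : A) = 0 := hA
  have hf : (FrobAlg.res p A).comp (WittGrp.truncMap p 2 (algebraMap k A)) =
      (algebraMap k A).comp (FrobAlg.res p k) := by
    refine RingHom.ext fun x => ?_
    obtain ⟨X, rfl⟩ := WittVector.truncate_surjective p 2 k x
    simp [WittGrp.truncMap_truncate, FrobAlg.res_truncate]
  constructor
  · rintro ⟨Φ, hΦ⟩
    have hex : ∀ b, ∃ w, FrobAlg.res p A w = π b ∧ γ w = Φ b := fun b => by
      obtain ⟨d, hd⟩ := hker (x := Φ b - b ^ p) (by rw [map_sub, hΦ.red, map_pow, sub_self])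
      let X : WittVector p B := WittVector.mk p fun n => if n = 0 then b else d
      refine ⟨Q X, ?_, ?_⟩
      · rw [FrobAlg.res_apply, hQ]; simp [X]
      · rw [hγ]; simp only [X, WittVector.coeff_mk, one_ne_zero, if_true, if_false]; rw [← hd]; ring
    choose θ h0 h1 using hex
    let θ' : B →+* FrobAlg.W2 p A :=
      { toFun := θ
        map_one' := hγinj _ _ (by rw [h0, map_one, map_one]) (by rw [h1, map_one, map_one])
        map_mul' := fun a b => hγinj _ _ (by simp only [h0, map_mul]) (by simp only [h1, map_mul])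
        map_zero' := hγinj _ _ (by rw [h0, map_zero, map_zero]) (by rw [h1, map_zero, map_zero])
        map_add' := fun a b => hγinj _ _ (by simp only [h0, map_add]) (by simp only [h1, map_add]) }
    have hres : (FrobAlg.res p A).comp θ' = π := RingHom.ext h0
    refine ⟨θ', hres, frobLift_iff_aux p k _ _ (RingHom.ker (FrobAlg.res p A)) (fun x => ?_) ?_ ?_⟩
    · rw [RingHom.mem_ker, map_sub, sub_eq_zero]
      exact ((h0 _).trans (DFunLike.congr_fun hB.comm x)).trans (DFunLike.congr_fun hf x).symm
    · intro d hd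
      rw [RingHom.mem_ker] at hd
      refine hγinj _ _ (by rw [map_mul, map_natCast, hresp, zero_mul, map_zero]) ?_
      rw [map_mul, map_natCast, map_zero, hp0]
      rw [hγπ, hd, zero_pow (Fact.out : p.Prime).ne_zero]
    · intro d hd e he
      rw [RingHom.mem_ker] at hd he
      refine hγinj _ _ (by rw [map_mul, hd, zero_mul, map_zero]) ?_
      rw [map_mul, map_zero]
      obtain ⟨y, hy⟩ := hker (x := γ d) (by rw [hγπ, hd, zero_pow (Fact.out : p.Prime).ne_zero])
      obtain ⟨z, hz⟩ := hker (x := γ e) (by rw [hγπ, he, zero_pow (Fact.out : p.Prime).ne_zero])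
      rw [hy, hz, mul_mul_mul_comm, hpp, zero_mul]
  · rintro ⟨θ, h0, hι⟩
    refine ⟨γ.comp θ, { toIsLift := hB, semi := ?_, red := fun b => ?_ }⟩
    · refine frobLift_iff_aux p k _ _ (RingHom.ker π) (fun x => ?_) (fun d hd => hp0 hd) ?_
      · rw [RingHom.mem_ker, map_sub, sub_eq_zero]
        show π (γ (θ (ι x))) = π (ι (FrobAlg.sigma p k x))
        rw [hγπ, show FrobAlg.res p A (θ (ι x)) = π (ι x) from DFunLike.congr_fun h0 (ι x)]
        rw [show π (ι x) = algebraMap k A (FrobAlg.res p k x) from DFunLike.congr_fun hB.comm x,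
          show π (ι (FrobAlg.sigma p k x)) = algebraMap k A (FrobAlg.res p k (FrobAlg.sigma p k x)) from
            DFunLike.congr_fun hB.comm _, ← map_pow]
        congr 1
        obtain ⟨X, rfl⟩ := WittVector.truncate_surjective p 2 k x
        simp [WittGrp.frob_truncate, FrobAlg.res_truncate, WittVector.coeff_frobenius_charP]
      · intro d hd e he
        obtain ⟨y, rfl⟩ := hker hd
        obtain ⟨z, rfl⟩ := hker he
        rw [mul_mul_mul_comm, hpp, zero_mul]
    · show π (γ (θ b)) = π b ^ p
      rw [hγπ, show FrobAlg.res p A (θ b) = π b from DFunLike.congr_fun h0 b]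

end Groth.Agent.S13150
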