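import Groth.Statements.S13151
import Mathlib

set_option autoImplicit false
universe u
open CAlg

namespace Groth.Agent.S13151

/-- Let A → B be an injective ring homomorphism of integral domains which is integral, with A integrally
closed, and let π be an element of A. Then the contraction to A of the ideal πB is πA, i.e. an
element of A which is a multiple of π in B is already a multiple of π in A; in particular if B/πB is
an integral domain then A/πA is an integral domain. (The published statement is for an integral
dominant morphism of integral schemes flat over a discrete valuation ring, with normal target and π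
a uniformizer; flatness and the valuation ring play no role, so π is an arbitrary element here.) -/
theorem result {A B : Type u} [CommRing A] [CommRing B]
    [IsDomain A] [IsDomain B] [IsIntegrallyClosed A] [Algebra A B] [Algebra.IsIntegral A B]
    (hinj : Function.Injective (algebraMap A B)) (π : A) :
    (Ideal.span {algebraMap A B π}).comap (algebraMap A B) = Ideal.span {π} ∧
      (IsDomain (B ⧸ Ideal.span {algebraMap A B π}) → IsDomain (A ⧸ Ideal.span {π})) := by
  have h : (Ideal.span {algebraMap A B π}).comap (algebraMap A B) = Ideal.span {π} := by
    refine le_antisymm (fun a ha => ?_) ?_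
    · obtain ⟨b, hb⟩ := Ideal.mem_span_singleton'.mp ha
      by_cases hπ : π = 0
      · subst hπ
        rw [map_zero, mul_zero] at hb
        rw [hinj (hb.symm.trans (map_zero (algebraMap A B)).symm)]; exact zero_mem _
      let K := FractionRing A
      let L := FractionRing B
      have hi : Function.Injective ((algebraMap B L).comp (algebraMap A B)) := (IsFractionRing.injective B L).comp hinj
      let φ : K →+* L := IsFractionRing.lift hi
      have hφ : ∀ x, φ (algebraMap A K x) = algebraMap B L (algebraMap A B x) := IsFractionRing.lift_algebraMap hi
      have hπK : algebraMap A K π ≠ 0 := fun e => hπ (IsFractionRing.injective A K (by rw [e, map_zero]))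
      obtain ⟨P, hP, hPb⟩ := Algebra.IsIntegral.isIntegral (R := A) b
      let x : K := algebraMap A K a / algebraMap A K π
      have hx : φ x = algebraMap B L b := by
        rw [map_div₀, hφ, hφ, ← hb, map_mul, mul_div_assoc, div_self, mul_one]
        exact fun e => hπ (hi (by rw [map_zero]; exact e))
      have hxi : IsIntegral A x := ⟨P, hP, φ.injective (by
        rw [Polynomial.hom_eval₂, map_zero, hx, show φ.comp (algebraMap A K) = (algebraMap B L).comp (algebraMap A B) from RingHom.ext hφ,
          ← Polynomial.hom_eval₂, hPb, map_zero])⟩
      obtain ⟨c, hc⟩ := IsIntegrallyClosed.isIntegral_iff.mp hxi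
      refine Ideal.mem_span_singleton'.mpr ⟨c, IsFractionRing.injective A K ?_⟩
      rw [map_mul, hc, div_mul_cancel₀ _ hπK]
    · rw [Ideal.span_singleton_le_iff_mem, Ideal.mem_comap]; exact Ideal.mem_span_singleton_self _
  refine ⟨h, fun hd => ?_⟩
  have := (Ideal.Quotient.isDomain_iff_prime _).mp hd
  exact (Ideal.Quotient.isDomain_iff_prime _).mpr (h ▸ this.comap _)

end Groth.Agent.S13151
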