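import Mathlib
import Groth.Statements.S13153

set_option autoImplicit false
universe u
open CAlg TensorProduct

namespace Groth.Agent.S13153

theorem D_ne_zero_of_transcendental {K L : Type u} [Field K] [CharZero K] [Field L] [Algebra K L] {f : L}
    (hf : Transcendental K f) : KaehlerDifferential.D K L f ≠ 0 := by
  obtain ⟨t, hft, ht⟩ := exists_isTranscendenceBasis_superset (R := K) (s := {f})
    ((algebraicIndependent_singleton_iff (⟨f, rfl⟩ : ({f} : Set L))).mpr hf)
  let P := MvPolynomial t K
  let φ : P →ₐ[K] L := MvPolynomial.aeval (fun i : t => (i : L))
  have hφ : Function.Injective φ := ht.1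
  let _ : Algebra P L := φ.toRingHom.toAlgebra
  have : IsScalarTower K P L := IsScalarTower.of_algebraMap_eq fun r => (φ.commutes r).symm
  have : FaithfulSMul P L := (faithfulSMul_iff_algebraMap_injective P L).mpr hφ
  let F := FractionRing P
  let _ : Algebra F L := FractionRing.liftAlgebra P L
  have : IsScalarTower P F L := FractionRing.isScalarTower_liftAlgebra P L
  have halgP : Algebra.IsAlgebraic P L := by
    have h := ht.isAlgebraic
    refine ⟨fun x => ?_⟩
    exact IsAlgebraic.of_ringHom_of_comp_eq
      (f := (ht.1.aevalEquiv : P ≃ₐ[K] _).toAlgHom.toRingHom) (g := RingHom.id L)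
      (h.isAlgebraic x) (ht.1.aevalEquiv).surjective Function.injective_id (RingHom.ext fun p => rfl)
  have : Algebra.IsAlgebraic F L := (IsFractionRing.comap_isAlgebraic_iff (A := P)).mp halgP
  have : CharZero P := charZero_of_injective_algebraMap (R := K) (MvPolynomial.C_injective t K)
  have : CharZero F := charZero_of_injective_algebraMap (IsFractionRing.injective P F)
  have : Algebra.IsSeparable F L := Algebra.IsAlgebraic.isSeparable_of_perfectField
  have : Algebra.FormallyEtale F L := Algebra.FormallyEtale.of_isSeparable F L
  have : Algebra.FormallyEtale P F := Algebra.FormallyEtale.of_isLocalization (nonZeroDivisors P)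
  have : Algebra.FormallyEtale P L := Algebra.FormallyEtale.comp P F L
  have hinj : Function.Injective (KaehlerDifferential.mapBaseChange K P L) := by
    rw [injective_iff_map_eq_zero]
    intro x hx
    obtain ⟨z, rfl⟩ := (Algebra.H1Cotangent.exact_δ_mapBaseChange K P L x).mp hx
    rw [Subsingleton.elim z 0, map_zero]
  let i : t := ⟨f, hft rfl⟩
  intro h0
  have h1 : KaehlerDifferential.mapBaseChange K P L (1 ⊗ₜ KaehlerDifferential.D K P (MvPolynomial.X i)) = 0 := by
    rw [KaehlerDifferential.mapBaseChange_tmul, one_smul, KaehlerDifferential.map_D,
      show algebraMap P L (MvPolynomial.X i) = f from MvPolynomial.aeval_X _ i, h0]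
  have h2 := congrArg ((KaehlerDifferential.mvPolynomialBasis K t).baseChange L).repr
    (hinj (h1.trans (map_zero _).symm))
  have h3 := DFunLike.congr_fun h2 i
  rw [Module.Basis.baseChange_repr_tmul, KaehlerDifferential.mvPolynomialBasis_repr_D_X, Finsupp.single_eq_same,
    one_smul] at h3
  exact one_ne_zero h3

/-- Let R be a discrete valuation ring whose fraction field K has characteristic zero, A an integral
domain which is a faithfully flat R-algebra, with fraction field L, such that K is algebraically
closed in L (every element of L algebraic over K is in the image of K). If f ∈ A has vanishing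
differential, df = 0 in Ω_{A/R}, then f is the image of an element of R. (The published statement is
the sheaf form: for a faithfully flat morphism X → Spec R with geometrically integral generic fibre,
the kernel of d : O_X → Ω¹_{X/R} is the inverse image of O_{Spec R}; for integral X, geometric
integrality of the generic fibre in characteristic zero amounts to K being algebraically closed in
the function field, which is the form used here, and this row is the case of global sections over an
affine X = Spec A.) -/
theorem result (R : Type u) [CommRing R] [IsDomain R]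
    [IsDiscreteValuationRing R] [CharZero R] (K : Type u) [Field K] [Algebra R K] [IsFractionRing R K]
    (A : Type u) [CommRing A] [IsDomain A] [Algebra R A] [Module.FaithfullyFlat R A]
    (L : Type u) [Field L] [Algebra A L] [IsFractionRing A L] [Algebra R L] [Algebra K L]
    [IsScalarTower R A L] [IsScalarTower R K L]
    (hac : ∀ x : L, IsAlgebraic K x → x ∈ (algebraMap K L).range)
    (f : A) (hf : KaehlerDifferential.D R A f = 0) : f ∈ (algebraMap R A).range := by
  have : CharZero K := charZero_of_injective_algebraMap (IsFractionRing.injective R K)
  have h0 : KaehlerDifferential.D R L (algebraMap A L f) = 0 := by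
    rw [← KaehlerDifferential.map_D R R A L, hf, map_zero]
  have h1 : KaehlerDifferential.D K L (algebraMap A L f) = 0 := by
    have := KaehlerDifferential.map_D R K L L (algebraMap A L f)
    rw [h0, map_zero, Algebra.algebraMap_self_apply] at this
    exact this.symm
  have halg : IsAlgebraic K (algebraMap A L f) := by
    by_contra h
    exact D_ne_zero_of_transcendental h h1
  obtain ⟨x, hx⟩ := hac _ halg
  obtain ⟨a, b, hb, rfl⟩ := IsFractionRing.div_surjective (A := R) x
  have hbK : algebraMap R K b ≠ 0 := by simpa using nonZeroDivisors.ne_zero hb
  have h2 : algebraMap R A a = algebraMap R A b * f := by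
    apply IsFractionRing.injective A L
    rw [map_mul, ← hx, map_div₀, ← IsScalarTower.algebraMap_apply R A L, ← IsScalarTower.algebraMap_apply R A L,
      ← IsScalarTower.algebraMap_apply R K L, ← IsScalarTower.algebraMap_apply R K L]
    rw [mul_div_cancel₀]
    rw [IsScalarTower.algebraMap_apply R K L]
    exact (map_ne_zero_iff _ (algebraMap K L).injective).mpr hbK
  have h3 : a ∈ ((Ideal.span {b}).map (algebraMap R A)).comap (algebraMap R A) := by
    rw [Ideal.mem_comap, h2]
    exact Ideal.mul_mem_right _ _ (Ideal.mem_map_of_mem _ (Ideal.mem_span_singleton_self b))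
  rw [Ideal.comap_map_eq_self_of_faithfullyFlat] at h3
  obtain ⟨c, rfl⟩ := Ideal.mem_span_singleton.mp h3
  refine ⟨c, mul_left_cancel₀ ?_ (by rw [← h2, map_mul])⟩
  exact (map_ne_zero_iff _ (FaithfulSMul.algebraMap_injective R A)).mpr (nonZeroDivisors.ne_zero hb)

end Groth.Agent.S13153
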