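import Mathlib
import Groth.Statements.S13154

set_option autoImplicit false
universe u
open scoped TensorProduct
open CAlg

namespace Groth.Agent.S13154

/-- Let R be a discrete valuation ring with fraction field K, A a faithfully flat R-algebra (an affine
faithfully flat base change S' → S = Spec R) and B₁, B₂ flat R-algebras (two affine S-schemes X₁ =
Spec B₁, X₂ = Spec B₂, flat over S). Suppose given a K-algebra homomorphism φ_K : K ⊗ B₂ → K ⊗ B₁ (a
morphism of the generic fibres X₁,K → X₂,K) and an A-algebra homomorphism φ_A : A ⊗ B₂ → A ⊗ B₁ (a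
morphism X₁ ×_S S' → X₂ ×_S S' over S') which coincide after base change to K ⊗ A, in the sense that
for every b ∈ B₂ the images of φ_K(1 ⊗ b) and φ_A(1 ⊗ b) in (K ⊗ A) ⊗ B₁ agree. Then there is
exactly one R-algebra homomorphism φ : B₂ → B₁ (a morphism X₁ → X₂) whose base changes to K and to A
are φ_K and φ_A. (The published statement assumes only X₂ flat over S; flatness of X₁ is also
needed: with B₂ = R[t], B₁ = R[e]/(e², πe) for a uniformizer π and A = R[x], the maps t ↦ 0 over K
and t ↦ e x over A agree over K ⊗ A = K[x] but come from no map over R.) -/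
theorem result (R : Type u) [CommRing R] [IsDomain R]
    [IsDiscreteValuationRing R] (K : Type u) [Field K] [Algebra R K] [IsFractionRing R K]
    (A : Type u) [CommRing A] [Algebra R A] [Module.FaithfullyFlat R A]
    (B₁ B₂ : Type u) [CommRing B₁] [CommRing B₂] [Algebra R B₁] [Algebra R B₂]
    [Module.Flat R B₁] [Module.Flat R B₂]
    (φK : K ⊗[R] B₂ →ₐ[K] K ⊗[R] B₁) (φA : A ⊗[R] B₂ →ₐ[A] A ⊗[R] B₁)
    (hcomp : ∀ b : B₂,
      Algebra.TensorProduct.map (Algebra.TensorProduct.includeLeft : K →ₐ[R] K ⊗[R] A) (AlgHom.id R B₁)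
          (φK (1 ⊗ₜ b)) =
        Algebra.TensorProduct.map (Algebra.TensorProduct.includeRight : A →ₐ[R] K ⊗[R] A) (AlgHom.id R B₁)
          (φA (1 ⊗ₜ b))) :
    ∃! φ : B₂ →ₐ[R] B₁, (∀ b : B₂, φK (1 ⊗ₜ b) = 1 ⊗ₜ φ b) ∧ (∀ b : B₂, φA (1 ⊗ₜ b) = 1 ⊗ₜ φ b) := by
  have hincl : ∀ (M : Type u) [AddCommGroup M] [Module R M] [Module.Flat R M],
      Function.Injective (fun m : M => (1 : K) ⊗ₜ[R] m) := fun M _ _ _ => by
    have h := Module.Flat.rTensor_preserves_injective_linearMap (M := M) (Algebra.linearMap R K)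
      (IsFractionRing.injective R K)
    have e : (fun m : M => (1 : K) ⊗ₜ[R] m) =
        (Algebra.linearMap R K).rTensor M ∘ (TensorProduct.lid R M).symm := by
      funext m
      simp
    rw [e]
    exact h.comp (TensorProduct.lid R M).symm.injective
  set mK := Algebra.TensorProduct.map
    (Algebra.TensorProduct.includeLeft : K →ₐ[R] K ⊗[R] A) (AlgHom.id R B₁) with hmK
  set mA := Algebra.TensorProduct.map
    (Algebra.TensorProduct.includeRight : A →ₐ[R] K ⊗[R] A) (AlgHom.id R B₁) with hmA
  have hmAinj : Function.Injective mA := by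
    have h := Module.Flat.rTensor_preserves_injective_linearMap (M := B₁)
      (Algebra.TensorProduct.includeRight : A →ₐ[R] K ⊗[R] A).toLinearMap (hincl A)
    have e : mA.toLinearMap =
        (Algebra.TensorProduct.includeRight : A →ₐ[R] K ⊗[R] A).toLinearMap.rTensor B₁ := by
      apply TensorProduct.ext'
      intro a b
      simp [hmA]
    intro x y hxy
    apply h
    rw [← e]
    exact hxy
  have key : ∀ b : B₂, ∃ c : B₁, φK (1 ⊗ₜ b) = 1 ⊗ₜ c ∧ φA (1 ⊗ₜ b) = 1 ⊗ₜ c := by
    intro b
    obtain ⟨s, c, hs, hc⟩ : ∃ (s : R) (c : B₁), s ≠ 0 ∧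
        s • φK (1 ⊗ₜ b) = (1 : K) ⊗ₜ[R] c := by
      generalize φK (1 ⊗ₜ b) = y
      induction y with
      | zero => exact ⟨1, 0, one_ne_zero, by simp⟩
      | tmul k c =>
          obtain ⟨⟨a, s⟩, has⟩ := IsLocalization.surj (nonZeroDivisors R) k
          refine ⟨(s : R), a • c, nonZeroDivisors.coe_ne_zero s, ?_⟩
          rw [TensorProduct.smul_tmul', Algebra.smul_def, mul_comm, has,
            Algebra.algebraMap_eq_smul_one, TensorProduct.smul_tmul]
      | add y z hy hz =>
          obtain ⟨s, c, hs, hc⟩ := hy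
          obtain ⟨t, d, ht, hd⟩ := hz
          refine ⟨s * t, t • c + s • d, mul_ne_zero hs ht, ?_⟩
          rw [smul_add, TensorProduct.tmul_add, TensorProduct.tmul_smul, TensorProduct.tmul_smul,
            mul_smul, mul_smul, smul_comm s t (y : K ⊗[R] B₁), hc, hd]
    have hx : s • φA (1 ⊗ₜ b) = (1 : A) ⊗ₜ[R] c := by
      apply hmAinj
      rw [map_smul, ← hcomp b, ← map_smul, hc, Algebra.TensorProduct.map_tmul,
        Algebra.TensorProduct.map_tmul]
      simp [Algebra.TensorProduct.one_def]
    obtain ⟨c', hc'⟩ : ∃ c', c = s • c' := by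
      set N := LinearMap.range (LinearMap.lsmul R B₁ s)
      have h0 : (1 : A) ⊗ₜ[R] N.mkQ c = 0 := by
        rw [show (1 : A) ⊗ₜ[R] N.mkQ c = N.mkQ.lTensor A ((1 : A) ⊗ₜ c) from rfl, ← hx, map_smul]
        generalize φA (1 ⊗ₜ b) = x
        induction x with
        | zero => simp
        | tmul a d =>
            rw [LinearMap.lTensor_tmul, ← TensorProduct.tmul_smul, ← map_smul,
              Submodule.mkQ_apply, (Submodule.Quotient.mk_eq_zero N (x := s • d)).2 ⟨d, rfl⟩,
              TensorProduct.tmul_zero]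
        | add y z hy hz => rw [map_add, smul_add, hy, hz, add_zero]
      have := Module.FaithfullyFlat.tensorProduct_mk_injective (A := R) (B := A) (B₁ ⧸ N)
        (a₁ := N.mkQ c) (a₂ := 0) (by simpa using h0)
      obtain ⟨c', hc'⟩ := (Submodule.Quotient.mk_eq_zero N).1 this
      exact ⟨c', hc'.symm⟩
    have hy : φK (1 ⊗ₜ b) = 1 ⊗ₜ c' := by
      have hsK : IsUnit (algebraMap R K s) :=
        (IsFractionRing.to_map_ne_zero_of_mem_nonZeroDivisors
          (mem_nonZeroDivisors_of_ne_zero hs)).isUnit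
      rw [hc', TensorProduct.tmul_smul] at hc
      rw [← algebraMap_smul K s (φK _), ← algebraMap_smul K s ((1 : K) ⊗ₜ[R] c')] at hc
      exact hsK.smul_left_cancel.1 hc
    refine ⟨c', hy, hmAinj ?_⟩
    rw [← hcomp b, hy, Algebra.TensorProduct.map_tmul, Algebra.TensorProduct.map_tmul]
    simp [Algebra.TensorProduct.one_def]
  choose φ hφK hφA using key
  have inj := hincl B₁
  let Φ : B₂ →ₐ[R] B₁ :=
    { toFun := φ
      map_one' := inj (by
        simp only
        rw [← hφK, ← Algebra.TensorProduct.one_def, map_one, Algebra.TensorProduct.one_def])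
      map_mul' := fun x y => inj (by
        simp only
        rw [← hφK, show (1 : K) ⊗ₜ[R] (x * y) = (1 ⊗ₜ x) * (1 ⊗ₜ y) by simp, map_mul, hφK, hφK]
        simp)
      map_zero' := inj (by simp only; rw [← hφK, TensorProduct.tmul_zero, map_zero, TensorProduct.tmul_zero])
      map_add' := fun x y => inj (by
        simp only
        rw [← hφK, TensorProduct.tmul_add, map_add, hφK, hφK, TensorProduct.tmul_add])
      commutes' := fun r => inj (by
        simp only
        rw [← hφK, Algebra.algebraMap_eq_smul_one, Algebra.algebraMap_eq_smul_one,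
          TensorProduct.tmul_smul, TensorProduct.tmul_smul, AlgHom.map_smul_of_tower,
          ← Algebra.TensorProduct.one_def, map_one, ← Algebra.TensorProduct.one_def]) }
  exact ⟨Φ, ⟨hφK, hφA⟩, fun ψ hψ => AlgHom.ext fun b => inj ((hψ.1 b).symm.trans (hφK b))⟩

end Groth.Agent.S13154
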