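import Groth.Statements.S13155
-- import your own Groth.Agent.* helpers here

set_option autoImplicit false
universe u
open CAlg

namespace Groth.Agent.S13155

/-- Let R be a discrete valuation ring of characteristic zero with uniformizer π, and A a Noetherian
integrally closed domain which is an R-algebra with injective structure map and in which πA is a
prime ideal (X = Spec A is normal, flat over R, with integral special fibre). Let m ≥ 1 and let f ∈
A be invertible in A[1/π] (so Z^m = f defines a μ_m-torsor over the generic fibre), such that S =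
A[1/π][Z]/(Z^m − f) is an integral domain and, writing B for the integral closure of A in S (the
normalization of X in that cover), πB is a prime ideal of B (the normalization has integral special
fibre). Then f is, up to a unit of A, an m-th power of a power of π: f = π^{mq}·u with q ≥ 0 and u ∈
A^×, so that the cover extends to the μ_m-torsor Z^m = u over all of X. (The published statement is
the existence and uniqueness of the extending μ_m-torsor over a normal faithfully flat R-scheme with
integral fibres, R containing a primitive m-th root of unity; this row is the affine computation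
that carries the proof.) -/
theorem result (R : Type u) [CommRing R]
    [IsDomain R] [IsDiscreteValuationRing R] [CharZero R] (ϖ : R) (hϖ : Irreducible ϖ)
    (A : Type u) [CommRing A] [IsDomain A] [IsNoetherianRing A] [IsIntegrallyClosed A] [Algebra R A]
    (hinj : Function.Injective (algebraMap R A)) (hprime : (Ideal.span {algebraMap R A ϖ}).IsPrime)
    (m : ℕ) (hm : 0 < m) (f : A) (hf : IsUnit (algebraMap A (Localization.Away (algebraMap R A ϖ)) f))
    [IsDomain (AdjoinRoot (Polynomial.X ^ m - Polynomial.C (algebraMap A (Localization.Away (algebraMap R A ϖ)) f)))]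
    (hsp : (Ideal.span {algebraMap A (integralClosure A
        (AdjoinRoot (Polynomial.X ^ m - Polynomial.C (algebraMap A (Localization.Away (algebraMap R A ϖ)) f))))
          (algebraMap R A ϖ)}).IsPrime) :
    ∃ (q : ℕ) (u : Aˣ), f = algebraMap R A ϖ ^ (m * q) * (u : A) := by
  classical
  let t : A := algebraMap R A ϖ
  let A' := Localization.Away t
  let P : Polynomial A' := Polynomial.X ^ m - Polynomial.C (algebraMap A A' f)
  let L := AdjoinRoot P
  let B := integralClosure A L
  have ht0 : t ≠ 0 := fun h => hϖ.ne_zero (hinj (h.trans (map_zero _).symm))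
  have ht : Prime t := (Ideal.span_singleton_prime ht0).1 hprime
  have key : ∀ (n : ℕ) (a g : A), a * g = t ^ n → ∃ (j : ℕ) (u : Aˣ), a = t ^ j * (u : A) := by
    intro n
    induction n with
    | zero =>
      intro a g h
      rw [pow_zero] at h
      exact ⟨0, Units.mkOfMulEqOne a g h, by simp⟩
    | succ n ih =>
      intro a g h
      rcases ht.dvd_or_dvd (show t ∣ a * g by rw [h, pow_succ']; exact dvd_mul_right t _) with ⟨a', rfl⟩ | ⟨g', rfl⟩
      · rw [pow_succ', mul_assoc] at h
        obtain ⟨j, u, hu⟩ := ih a' g (mul_left_cancel₀ ht0 h)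
        exact ⟨j + 1, u, by rw [hu, pow_succ', mul_assoc]⟩
      · rw [pow_succ', mul_left_comm] at h
        exact ih a g' (mul_left_cancel₀ ht0 h)
  obtain ⟨v, hv⟩ := hf.exists_right_inv
  obtain ⟨n, g, hg⟩ := IsLocalization.Away.surj t v
  have hfg : f * g = t ^ n := by
    apply IsLocalization.injective A' (powers_le_nonZeroDivisors_of_noZeroDivisors ht0)
    rw [map_mul, ← hg, map_pow, ← mul_assoc, hv, one_mul]
  obtain ⟨j, u, hu⟩ := key n f g hfg
  suffices h : m ∣ j by
    obtain ⟨q, rfl⟩ := h
    exact ⟨q, u, hu⟩
  have hdeg : P.degree ≠ 0 := by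
    haveI : Nontrivial A' :=
      (IsLocalization.injective A' (powers_le_nonZeroDivisors_of_noZeroDivisors ht0) : Function.Injective (algebraMap A A')).nontrivial
    rw [Polynomial.degree_X_pow_sub_C hm]
    exact_mod_cast hm.ne'
  haveI : IsDomain A' := IsLocalization.isDomain_localization (powers_le_nonZeroDivisors_of_noZeroDivisors ht0)
  have hAL : Function.Injective (algebraMap A L) := by
    rw [IsScalarTower.algebraMap_eq A A' L]
    exact (AdjoinRoot.of.injective_of_degree_ne_zero hdeg).comp
      (IsLocalization.injective A' (powers_le_nonZeroDivisors_of_noZeroDivisors ht0))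
  have hAB : Function.Injective (algebraMap A B) := fun a b h => hAL (congrArg Subtype.val h)
  let b : B := algebraMap A B t
  have hb0 : b ≠ 0 := fun h => ht0 (hAB (h.trans (map_zero _).symm))
  have hb : Prime b := (Ideal.span_singleton_prime hb0).1 hsp
  have hroot : AdjoinRoot.root P ^ m = algebraMap A L f := by
    have h := AdjoinRoot.eval₂_root P
    rw [show P = Polynomial.X ^ m - Polynomial.C (algebraMap A A' f) from rfl, Polynomial.eval₂_sub,
      Polynomial.eval₂_X_pow, Polynomial.eval₂_C, sub_eq_zero] at h
    rw [IsScalarTower.algebraMap_apply A A' L]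
    exact h
  have hint : IsIntegral A (AdjoinRoot.root P) := IsIntegral.of_pow hm (by rw [hroot]; exact isIntegral_algebraMap)
  let x : B := ⟨AdjoinRoot.root P, hint⟩
  have hx : x ^ m = b ^ j * algebraMap A B (u : A) := by
    rw [← map_pow, ← map_mul, ← hu]
    exact Subtype.ext hroot
  have hbu : IsUnit (algebraMap A B (u : A)) := u.isUnit.map _
  suffices h : ∀ (j : ℕ) (y : B), y ^ m = b ^ j * algebraMap A B (u : A) → m ∣ j from h j x hx
  intro j
  induction j using Nat.strong_induction_on with
  | _ j ih =>
    intro y hy
    rcases Nat.eq_zero_or_pos j with rfl | hj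
    · exact dvd_zero m
    obtain ⟨y', rfl⟩ : b ∣ y := hb.dvd_of_dvd_pow (n := m) (by rw [hy]; exact (dvd_pow_self b hj.ne').mul_right _)
    rw [mul_pow] at hy
    rcases lt_or_ge j m with hlt | hge
    · obtain ⟨k, rfl⟩ := Nat.exists_eq_add_of_lt hlt
      rw [add_assoc, pow_add, mul_assoc] at hy
      have h := mul_left_cancel₀ (pow_ne_zero j hb0) hy
      exact absurd (isUnit_of_dvd_unit ((dvd_pow_self b k.succ_ne_zero).mul_right _) (h ▸ hbu)) hb.not_unit
    · obtain ⟨k, rfl⟩ := Nat.exists_eq_add_of_le hge
      rw [pow_add, mul_assoc] at hy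
      exact dvd_add dvd_rfl (ih k (Nat.lt_add_of_pos_left hm) y' (mul_left_cancel₀ (pow_ne_zero m hb0) hy))

end Groth.Agent.S13155
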