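import Mathlib
import Groth.Agent.ExpPolyLib.Basic
import Groth.Statements.S13156

set_option autoImplicit false
universe u
open scoped Polynomial
open CAlg

namespace Groth.Agent.S13156

/-- Let p be a prime number, A a commutative ring in which (p−1)! is invertible, μ an element of A, and
F ∈ A[X] a polynomial of degree at most p − 1 with coefficients a_0, a_1, …. Then the identity
F(S)·F(T) − a_0² = F(S + T + μST) − a_0 holds in the polynomial ring A[S, T] if and only if a_1·F(S)
= F′(S)·(1 + μS) holds in A[S], F′ the formal derivative. (The published statement is over the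
quotient of a discrete valuation ring of residue characteristic p by a nonzero element of its
maximal ideal; only the invertibility of 1, …, p − 1 is used, so an arbitrary such ring A is allowed
here.) -/
theorem result (A : Type u) [CommRing A] (p : ℕ) [Fact p.Prime]
    (hu : IsUnit ((Nat.factorial (p - 1) : ℕ) : A)) (μ : A) (F : A[X]) (hF : F.natDegree < p) :
    (Polynomial.aeval (MvPolynomial.X 0 : MvPolynomial (Fin 2) A) F *
          Polynomial.aeval (MvPolynomial.X 1 : MvPolynomial (Fin 2) A) F - MvPolynomial.C (F.coeff 0 ^ 2) =
        Polynomial.aeval (MvPolynomial.X 0 + MvPolynomial.X 1 +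
            MvPolynomial.C μ * MvPolynomial.X 0 * MvPolynomial.X 1 : MvPolynomial (Fin 2) A) F -
          MvPolynomial.C (F.coeff 0)) ↔
      F * Polynomial.C (F.coeff 1) = Polynomial.derivative F * (1 + Polynomial.C μ * Polynomial.X) := by
  classical
  open Polynomial in
  let ψ : MvPolynomial (Fin 2) A →ₐ[A] Polynomial A[X] := MvPolynomial.aeval ![C X, X]
  let φ : Polynomial A[X] →+* MvPolynomial (Fin 2) A :=
    eval₂RingHom (Polynomial.aeval (MvPolynomial.X 0 : MvPolynomial (Fin 2) A)).toRingHom (MvPolynomial.X 1)
  have hψinj : Function.Injective ψ := by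
    refine Function.LeftInverse.injective (g := φ) fun z => ?_
    induction z using MvPolynomial.induction_on with
    | C a => simp [ψ, φ]
    | add a b ha hb => rw [map_add, map_add, ha, hb]
    | mul_X a i ha =>
      rw [map_mul, map_mul, ha]
      congr 1
      fin_cases i <;> simp [ψ, φ]
  set a₀ := F.coeff 0 with ha₀
  set a₁ := F.coeff 1 with ha₁
  let u : Polynomial A[X] := C X + X * (1 + C (C μ * X))
  let G : Polynomial A[X] := F.map C
  let H : Polynomial A[X] := Polynomial.aeval u F
  have hAC : ∀ z : A, algebraMap A (Polynomial A[X]) z = C (C z) := fun z => rfl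
  have hG : Polynomial.aeval (X : Polynomial A[X]) F = G := by
    show Polynomial.aeval (X : Polynomial A[X]) F = F.map C
    rw [← Polynomial.eval₂_C_X (p := F.map C), Polynomial.eval₂_map]; rfl
  have hCX : Polynomial.aeval (C X : Polynomial A[X]) F = C F := by
    rw [show (C X : Polynomial A[X]) = algebraMap A[X] (Polynomial A[X]) (X : A[X]) from rfl,
      Polynomial.aeval_algebraMap_apply, Polynomial.aeval_X_left_apply]; rfl
  rw [← hψinj.eq_iff]
  have el : ψ (Polynomial.aeval (MvPolynomial.X 0 : MvPolynomial (Fin 2) A) F *
      Polynomial.aeval (MvPolynomial.X 1 : MvPolynomial (Fin 2) A) F - MvPolynomial.C (a₀ ^ 2)) =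
      C F * G - C (C (a₀ ^ 2)) := by
    rw [map_sub, map_mul, ← Polynomial.aeval_algHom_apply, ← Polynomial.aeval_algHom_apply]
    simp [ψ, hG, hCX, hAC]
  have er : ψ (Polynomial.aeval (MvPolynomial.X 0 + MvPolynomial.X 1 +
      MvPolynomial.C μ * MvPolynomial.X 0 * MvPolynomial.X 1 : MvPolynomial (Fin 2) A) F -
        MvPolynomial.C a₀) = H - C (C a₀) := by
    rw [map_sub, ← Polynomial.aeval_algHom_apply]
    have : ψ (MvPolynomial.X 0 + MvPolynomial.X 1 + MvPolynomial.C μ * MvPolynomial.X 0 * MvPolynomial.X 1) = u := by
      simp [ψ, u, hAC]; ring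
    rw [this]; simp [ψ, H, hAC]
  rw [el, er]
  have hdH : derivative H = Polynomial.aeval u (derivative F) * (1 + C (C μ * X)) := by
    have hu' : derivative u = 1 + C (C μ * X) := by simp [u]
    show derivative (Polynomial.aeval u F) = _
    rw [show Polynomial.aeval u F = (F.map C).comp u by
      rw [Polynomial.comp, Polynomial.eval₂_map]; rfl, Polynomial.derivative_comp, Polynomial.derivative_map,
      Polynomial.comp, Polynomial.eval₂_map, hu', mul_comm]
    rfl
  constructor
  · intro h
    have h1 := congrArg (fun z : Polynomial A[X] => (derivative z).eval 0) h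
    simp only [derivative_sub, derivative_C, sub_zero, derivative_mul, zero_mul, zero_add, hdH, eval_mul, eval_C] at h1
    rw [show (derivative G).eval 0 = C a₁ by
        rw [← Polynomial.coeff_zero_eq_eval_zero, Polynomial.coeff_derivative]; simp [G, ha₁],
      show (Polynomial.aeval u (derivative F)).eval 0 = derivative F by
        rw [← Polynomial.coe_aeval_eq_eval, ← AlgHom.restrictScalars_apply A, ← Polynomial.aeval_algHom_apply]
        simp [u]] at h1
    simpa using h1
  · intro h
    have hrec := (Groth.Agent.ExpPolyLib.eq_iff_rec F a₁ μ).1 h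
    have hunit := Groth.Agent.ExpPolyLib.isUnit_natCast_of_factorial (B := A) hu
    have hpos : ∀ r, (a₀ - 1) * F.coeff (r + 1) = 0 := by
      intro r
      induction r with
      | zero =>
        have := hrec 0
        simp only [Nat.cast_zero, zero_mul, sub_zero, zero_add, Nat.cast_one, one_mul] at this
        linear_combination -this
      | succ r ih =>
        rcases lt_or_ge (r + 2) p with hr | hr
        · refine (hunit _ (Nat.succ_pos _) hr).mul_right_eq_zero.1 ?_
          have := hrec (r + 1)
          linear_combination (a₀ - 1) * this + (a₁ - ((r + 1 : ℕ) : A) * μ) * ih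
        · rw [Polynomial.coeff_eq_zero_of_natDegree_lt (hF.trans_le hr), mul_zero]
    have hF0 : C F * C (C (a₀ - 1)) = C (C (a₀ * (a₀ - 1))) := by
      rw [← map_mul C]
      congr 1
      ext r
      rcases r with _ | r
      · simp [ha₀]
      · rw [coeff_mul_C, coeff_C_succ, mul_comm, hpos]
    have hcan : C (C a₁) * C (C (a₀ ^ 2 - a₀)) = (0 : Polynomial A[X]) := by
      rw [← map_mul, ← map_mul, show a₁ * (a₀ ^ 2 - a₀) = a₀ * ((a₀ - 1) * F.coeff (0 + 1)) by ring, hpos,
        mul_zero, map_zero, map_zero]
    have hderG : derivative G * (1 + C (C μ) * X) = G * C (C a₁) := by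
      have := congrArg (Polynomial.map (C : A →+* A[X])) h
      simp only [Polynomial.map_mul, Polynomial.map_add, Polynomial.map_one, Polynomial.map_C, Polynomial.map_X,
        ← Polynomial.derivative_map] at this
      exact this.symm
    have hderH : derivative H * (1 + C (C μ) * X) = H * C (C a₁) := by
      have := congrArg (Polynomial.aeval u) h
      simp only [map_mul, map_add, map_one, Polynomial.aeval_C, Polynomial.aeval_X, hAC] at this
      rw [hdH]
      refine Eq.trans ?_ this.symm
      simp only [u, map_mul]
      ring
    let D : Polynomial A[X] := C F * G - H - C (C (a₀ ^ 2 - a₀))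
    suffices hD : D = 0 by
      have hD' : C F * G - H - C (C (a₀ ^ 2 - a₀)) = 0 := hD
      rw [map_sub, map_sub] at hD'
      linear_combination hD'
    refine Groth.Agent.ExpPolyLib.eq_zero_of_rec (p := p) (fun r h0 hr => ?_) D (C a₁) (C μ) ?_ ?_ ?_
    · simpa using (hunit r h0 hr).map (C : A →+* A[X])
    · refine lt_of_le_of_lt ?_ hF
      refine (natDegree_sub_le _ _).trans (max_le ((natDegree_sub_le _ _).trans (max_le ?_ ?_)) ((natDegree_C _).trans_le (Nat.zero_le _)))
      · exact (natDegree_C_mul_le _ _).trans natDegree_map_le
      · show (Polynomial.aeval u F).natDegree ≤ _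
        rw [show Polynomial.aeval u F = (F.map C).comp u by rw [Polynomial.comp, Polynomial.eval₂_map]; rfl]
        refine natDegree_comp_le.trans ?_
        calc (F.map C).natDegree * u.natDegree ≤ F.natDegree * 1 := by
              refine Nat.mul_le_mul natDegree_map_le ?_
              refine (natDegree_add_le _ _).trans (max_le (by simp) ?_)
              refine natDegree_mul_le.trans ?_
              rw [show (1 + C (C μ * X) : Polynomial A[X]) = C (1 + C μ * X) by simp, natDegree_C]
              simpa using natDegree_X_le
          _ = _ := mul_one _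
    · rw [Polynomial.coeff_zero_eq_eval_zero]
      simp only [D, eval_sub, eval_mul, eval_C]
      rw [show G.eval 0 = C a₀ by rw [← Polynomial.coeff_zero_eq_eval_zero]; simp [G, ha₀],
        show H.eval 0 = F by
          show (Polynomial.aeval u F).eval 0 = F
          rw [← Polynomial.coe_aeval_eq_eval, ← AlgHom.restrictScalars_apply A, ← Polynomial.aeval_algHom_apply]
          simp [u]]
      have e := congrArg (Polynomial.eval (0 : A[X])) hF0
      simp only [eval_mul, eval_C, map_mul, map_sub, map_one, map_pow, eval_sub, eval_one, eval_pow] at e ⊢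
      linear_combination e
    · simp only [D, derivative_sub, derivative_mul, derivative_C, zero_mul, zero_add, sub_zero]
      linear_combination hderH - C F * hderG - hcan

end Groth.Agent.S13156
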