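import Mathlib
import Groth.Agent.ExpPolyLib.Basic
import Groth.Statements.S13157

set_option autoImplicit false
universe u
open scoped Polynomial
open CAlg

namespace Groth.Agent.S13157

/-- (i) ⇔ (ii): let p be a prime number, A a commutative ring in which (p−1)! is invertible, μ ∈ A, and
F ∈ A[X] a polynomial of degree at most p − 1 with constant term a_0 = 1 and coefficients a_1, a_2,
…. Then the relations a_{r−1}·a_1 = (r − 1)μ·a_{r−1} + r·a_r for 1 ≤ r ≤ p (with a_p = 0), written
here as the single identity a_1·F = F′·(1 + μX), hold if and only if r!·a_r = ∏_{k=0}^{r−1} (a_1 −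
kμ) for every 1 ≤ r ≤ p − 1 and ∏_{k=0}^{p−1} (a_1 − kμ) = 0. (The published statement lists the
relations only for 1 ≤ r ≤ p − 1, while its proof uses and derives the relation for r = p as well,
which is needed for the vanishing of the last product; it is included here. The published setting is
the quotient of a discrete valuation ring of residue characteristic p by a nonzero non-unit; only
the invertibility of 1, …, p − 1 is used.) -/
theorem result (A : Type u) [CommRing A] (p : ℕ) [Fact p.Prime]
    (hu : IsUnit ((Nat.factorial (p - 1) : ℕ) : A)) (μ : A) (F : A[X]) (hF : F.natDegree < p)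
    (h0 : F.coeff 0 = 1) :
    F * Polynomial.C (F.coeff 1) = Polynomial.derivative F * (1 + Polynomial.C μ * Polynomial.X) ↔
      ((∀ r : ℕ, 1 ≤ r → r < p →
          (r.factorial : A) * F.coeff r = ∏ k ∈ Finset.range r, (F.coeff 1 - (k : A) * μ)) ∧
        ∏ k ∈ Finset.range p, (F.coeff 1 - (k : A) * μ) = 0) := by
  classical
  rw [Groth.Agent.ExpPolyLib.eq_iff_rec]
  have hp : 0 < p := (Fact.out : p.Prime).pos
  have hunit := Groth.Agent.ExpPolyLib.isUnit_factorial hu
  constructor
  · intro h
    have key : ∀ r, (r.factorial : A) * F.coeff r = ∏ k ∈ Finset.range r, (F.coeff 1 - (k : A) * μ) := by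
      intro r
      induction r with
      | zero => simp [h0]
      | succ r ih =>
        rw [Finset.prod_range_succ, ← ih, Nat.factorial_succ, Nat.cast_mul]
        linear_combination (r.factorial : A) * h r
    refine ⟨fun r _ _ => key r, ?_⟩
    rw [← key p, Polynomial.coeff_eq_zero_of_natDegree_lt hF, mul_zero]
  · rintro ⟨h1, h2⟩ r
    have h1' : ∀ r, r < p → (r.factorial : A) * F.coeff r = ∏ k ∈ Finset.range r, (F.coeff 1 - (k : A) * μ) := by
      intro r hr
      rcases r with _ | r
      · simp [h0]
      · exact h1 _ r.succ_pos hr
    rcases lt_or_ge r p with hr | hr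
    · refine (hunit r hr).mul_left_cancel ?_
      rcases lt_or_ge (r + 1) p with hr1 | hr1
      · have a := h1' _ hr
        have b := h1' _ hr1
        rw [Nat.factorial_succ, Finset.prod_range_succ, Nat.cast_mul] at b
        linear_combination b - (F.coeff 1 - (r : A) * μ) * a
      · have a := h1' _ hr
        have e : r + 1 = p := by omega
        rw [← e, Finset.prod_range_succ] at h2
        rw [Polynomial.coeff_eq_zero_of_natDegree_lt (hF.trans_le hr1), mul_zero, mul_zero]
        linear_combination -h2 - (F.coeff 1 - (r : A) * μ) * a
    · rw [Polynomial.coeff_eq_zero_of_natDegree_lt (hF.trans_le hr),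
        Polynomial.coeff_eq_zero_of_natDegree_lt (hF.trans_le (by omega : p ≤ r + 1)), mul_zero, mul_zero]

end Groth.Agent.S13157
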