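import Mathlib
import Groth.Statements.S13158

set_option autoImplicit false
universe u
open CAlg

namespace Groth.Agent.S13158

/-- Let R be a discrete valuation ring of characteristic zero whose maximal ideal contains the prime
number p, let n ≥ 1, and let λ be a nonzero element of R such that λ^(p^(n−1)(p−1)) divides p (the
condition v(p) ≥ p^(n−1)(p−1)·v(λ) under which the polynomial ((1 + λT)^(p^n) − 1)/λ^(p^n) has
coefficients in R). Let A be an integrally closed integral domain which is a faithfully flat
R-algebra. Then for every unit x of A, λ^(p^n) divides x^(p^n) − 1 in A if and only if λ divides x −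
1 in A. -/
theorem result (R : Type u) [CommRing R]
    [IsDomain R] [IsDiscreteValuationRing R] [CharZero R] (p n : ℕ) [Fact p.Prime] (hn : 1 ≤ n)
    (hp : (p : R) ∈ IsLocalRing.maximalIdeal R) (lam : R) (hlam : lam ≠ 0)
    (hstar : lam ^ (p ^ (n - 1) * (p - 1)) ∣ (p : R))
    (A : Type u) [CommRing A] [IsDomain A] [IsIntegrallyClosed A] [Algebra R A] [Module.FaithfullyFlat R A]
    (x : Aˣ) :
    (algebraMap R A lam ^ p ^ n ∣ (x : A) ^ p ^ n - 1) ↔ (algebraMap R A lam ∣ (x : A) - 1) := by
  classical
  let L : A := algebraMap R A lam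
  have hpr : p.Prime := Fact.out
  let q : ℕ := p ^ n
  let e : ℕ := p ^ (n - 1) * (p - 1)
  have hL : L ≠ 0 := fun h =>
    hlam ((FaithfulSMul.algebraMap_injective R A) (by rw [map_zero]; exact h))
  have hLp : L ^ e ∣ (p : A) := by
    have := map_dvd (algebraMap R A) hstar
    rwa [map_pow, map_natCast] at this
  have hq : 2 ≤ q := hpr.two_le.trans (Nat.le_self_pow (by omega) p)
  have hineq : ∀ d j : ℕ, p ^ (j + d) ≤ p ^ j + d * (p ^ (j + d - 1) * (p - 1)) := by
    intro d
    induction d with
    | zero => intro j; simp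
    | succ d ih =>
      intro j
      have h1 := ih j
      have h2 : p ^ (j + d - 1) * (p - 1) ≤ p ^ (j + d) * (p - 1) :=
        Nat.mul_le_mul_right _ (Nat.pow_le_pow_right hpr.pos (by omega))
      have h3 : p ^ (j + d + 1) = p ^ (j + d) + p ^ (j + d) * (p - 1) := by
        obtain ⟨a, ha⟩ := Nat.exists_eq_add_of_le hpr.one_le
        rw [pow_succ, ha, Nat.add_sub_cancel_left]
        ring
      have h4 : d * (p ^ (j + d - 1) * (p - 1)) ≤ d * (p ^ (j + d) * (p - 1)) :=
        Nat.mul_le_mul_left d h2
      rw [← add_assoc j d 1, Nat.add_sub_cancel, h3, Nat.succ_mul]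
      omega
  have hcoef : ∀ i, i ≠ 0 → i < q → ∃ c : A, (q.choose i : A) * L ^ i = L ^ q * c := by
    intro i hi0 hiq
    have hj : p ^ i.factorization p ≤ i := Nat.ordProj_le p hi0
    have hjn : i.factorization p ≤ n :=
      (Nat.pow_le_pow_iff_right hpr.one_lt).1 (hj.trans hiq.le)
    have hdvd : p ^ (n - i.factorization p) ∣ q.choose i := by
      rw [← Nat.factorization_choose_prime_pow hpr hiq.le hi0]
      exact Nat.ordProj_dvd _ p
    have hA : L ^ ((n - i.factorization p) * e) ∣ (q.choose i : A) := by
      have h1 := pow_dvd_pow_of_dvd hLp (n - i.factorization p)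
      rw [← pow_mul, mul_comm, ← Nat.cast_pow] at h1
      exact h1.trans (Nat.cast_dvd_cast hdvd)
    have h2 := hineq (n - i.factorization p) (i.factorization p)
    rw [Nat.add_sub_cancel' hjn] at h2
    have h3 : L ^ q ∣ (q.choose i : A) * L ^ i := by
      refine (pow_dvd_pow L (show q ≤ (n - i.factorization p) * e + i from ?_)).trans ?_
      · change p ^ n ≤ (n - i.factorization p) * (p ^ (n - 1) * (p - 1)) + i
        omega
      · rw [pow_add]
        exact mul_dvd_mul_right hA _
    exact h3
  choose! c hc using hcoef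
  have hexp : ∀ y : A, (1 + y) ^ q - 1 =
      y ^ q + ∑ i ∈ Finset.Ioo 0 q, (q.choose i : A) * y ^ i := by
    intro y
    have hr : Finset.range (q + 1) = insert 0 (insert q (Finset.Ioo 0 q)) := by
      ext i
      simp only [Finset.mem_range, Finset.mem_insert, Finset.mem_Ioo]
      omega
    rw [add_comm 1 y, add_pow, hr, Finset.sum_insert (by simp; omega),
      Finset.sum_insert (by simp)]
    simp only [pow_zero, one_pow, mul_one, one_mul, Nat.choose_zero_right, Nat.cast_one,
      Nat.choose_self]
    rw [add_sub_cancel_left]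
    congr 1
    exact Finset.sum_congr rfl fun i _ => mul_comm _ _
  have hx : (x : A) ^ q - 1 = (1 + ((x : A) - 1)) ^ q - 1 := by rw [add_sub_cancel]
  change L ^ q ∣ (x : A) ^ q - 1 ↔ L ∣ (x : A) - 1
  constructor
  · rintro ⟨a, ha⟩
    rw [hx, hexp] at ha
    let K := FractionRing A
    let φ := algebraMap A K
    have hLK : φ L ≠ 0 := by
      simpa [φ] using (map_ne_zero_iff _ (IsFractionRing.injective A K)).2 hL
    let t : K := φ ((x : A) - 1) / φ L
    have ht : φ ((x : A) - 1) = φ L * t := (mul_div_cancel₀ _ hLK).symm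
    have hint : IsIntegral A t := by
      refine ⟨Polynomial.X ^ q + (∑ i ∈ Finset.Ioo 0 q, Polynomial.C (c i) * Polynomial.X ^ i -
        Polynomial.C a), Polynomial.monic_X_pow_add ?_, ?_⟩
      · refine (Polynomial.degree_sub_le _ _).trans_lt (max_lt ?_ ?_)
        · refine (Polynomial.degree_sum_le _ _).trans_lt ((Finset.sup_lt_iff ?_).2 fun i hi => ?_)
          · exact WithBot.bot_lt_coe q
          · exact (Polynomial.degree_C_mul_X_pow_le i (c i)).trans_lt
              (WithBot.coe_lt_coe.2 (Finset.mem_Ioo.1 hi).2)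
        · exact Polynomial.degree_C_le.trans_lt (WithBot.coe_lt_coe.2 (show 0 < q by omega))
      · rw [← Polynomial.aeval_def]
        simp only [map_add, map_sub, map_pow, Polynomial.aeval_X, map_sum, map_mul, Polynomial.aeval_C]
        have h1 : φ L ^ q * (t ^ q + (∑ i ∈ Finset.Ioo 0 q, φ (c i) * t ^ i - φ a)) = 0 := by
          have h2 := congrArg φ ha
          rw [map_add, map_pow, map_sum, map_mul, map_pow, ht, mul_pow] at h2
          have h3 : ∀ i ∈ Finset.Ioo 0 q, φ ((q.choose i : A) * ((x : A) - 1) ^ i) =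
              φ L ^ q * (φ (c i) * t ^ i) := by
            intro i hi
            have := congrArg φ (hc i (by have := (Finset.mem_Ioo.1 hi).1; omega) (Finset.mem_Ioo.1 hi).2)
            rw [map_mul, map_pow, map_mul, map_pow] at this
            rw [map_mul, map_pow, ht, mul_pow, ← mul_assoc, this]
            ring
          rw [Finset.sum_congr rfl h3, ← Finset.mul_sum] at h2
          linear_combination h2
        exact (mul_eq_zero.1 h1).resolve_left (pow_ne_zero _ hLK)
    obtain ⟨s, hs⟩ := IsIntegrallyClosed.isIntegral_iff.1 hint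
    refine ⟨s, IsFractionRing.injective A K ?_⟩
    rw [map_mul, hs]
    exact ht
  · rintro ⟨y, hy⟩
    rw [hx, hexp, hy, mul_pow]
    refine dvd_add (dvd_mul_right _ _) (Finset.dvd_sum fun i hi => ?_)
    rw [mul_pow, ← mul_assoc,
      hc i (by have := (Finset.mem_Ioo.1 hi).1; omega) (Finset.mem_Ioo.1 hi).2, mul_assoc]
    exact dvd_mul_right _ _

end Groth.Agent.S13158
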