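import Groth.Statements.S13159
import Mathlib

set_option autoImplicit false
universe u
open CAlg

namespace Groth.Agent.S13159

/-- Let R be a discrete valuation ring with fraction field K, C an R-algebra which is finitely generated
as an R-module (the coordinate ring of a finite R-scheme G), and A an integral domain which is an
R-algebra with injective structure map and fraction field L, K → L being compatible, such that every
element of L algebraic over K lies in the image of K (the condition satisfied by the rings of
nonempty opens of an R-scheme with geometrically integral fibres). Then every R-algebra homomorphism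
C → A factors uniquely through the structure map R → A: the points of G with values in A are the
R-points of G. (The published statement is that for Y → Spec R with geometrically integral fibres
and G finite flat, the map H¹(Y, G) → H⁰(Y_Zar, R¹f_*G) from the Leray spectral sequence of Y_fl →
Y_Zar is bijective; this row is the step asserting that G restricted to the Zariski site of Y is the
constant sheaf G(R), for an affine open with function ring A.) -/
theorem result (R : Type u) [CommRing R]
    [IsDomain R] [IsDiscreteValuationRing R] (K : Type u) [Field K] [Algebra R K] [IsFractionRing R K]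
    (C : Type u) [CommRing C] [Algebra R C] [Module.Finite R C]
    (A : Type u) [CommRing A] [IsDomain A] [Algebra R A] (hinj : Function.Injective (algebraMap R A))
    (L : Type u) [Field L] [Algebra A L] [IsFractionRing A L] [Algebra R L] [Algebra K L]
    [IsScalarTower R A L] [IsScalarTower R K L]
    (hac : ∀ x : L, IsAlgebraic K x → x ∈ (algebraMap K L).range)
    (φ : C →ₐ[R] A) : ∃! ψ : C →ₐ[R] R, φ = (Algebra.ofId R A).comp ψ := by
  haveI : FaithfulSMul R A := (faithfulSMul_iff_algebraMap_injective R A).2 hinj
  have hmem : ∀ c, φ c ∈ (Algebra.ofId R A).range := by
    intro c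
    have hint : IsIntegral R (algebraMap A L (φ c)) :=
      ((Algebra.IsIntegral.isIntegral (R := R) c).map φ).algebraMap
    obtain ⟨a, ha⟩ := hac _ (IsIntegral.tower_top (A := K) hint).isAlgebraic
    rw [← ha, isIntegral_algebraMap_iff (algebraMap K L).injective] at hint
    obtain ⟨r, hr⟩ := IsIntegrallyClosed.isIntegral_iff.1 hint
    refine ⟨r, IsFractionRing.injective A L ?_⟩
    show algebraMap A L (algebraMap R A r) = _
    rw [← ha, ← hr, ← IsScalarTower.algebraMap_apply, ← IsScalarTower.algebraMap_apply]
  let ψ : C →ₐ[R] R :=
    (AlgEquiv.ofInjective (Algebra.ofId R A) hinj).symm.toAlgHom.comp (φ.codRestrict _ hmem)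
  have hψ : ∀ c, algebraMap R A (ψ c) = φ c := fun c =>
    congrArg Subtype.val ((AlgEquiv.ofInjective (Algebra.ofId R A) hinj).apply_symm_apply ⟨φ c, hmem c⟩)
  refine ⟨ψ, AlgHom.ext fun c => (hψ c).symm, fun ψ' h => AlgHom.ext fun c => hinj ?_⟩
  rw [hψ, h]
  rfl

end Groth.Agent.S13159
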