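import Mathlib
import Groth.Statements.S13160

set_option autoImplicit false
universe u
open CAlg

namespace Groth.Agent.S13160

/-- Let R be a discrete valuation ring, p a prime number and λ an element of R dividing p (so that R/λR
is an 𝔽_p-algebra), and let a and b be p-typical Witt vectors with coefficients in R/λR which are
killed by the Frobenius endomorphism. Then the Witt sum a + b has components a_n + b_n for every n.
(The published statement allows an arbitrary λ ∈ R and is stated for Witt vectors with finitely many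
nonzero components; this row assumes that λ divides p, so that p = 0 in R/λR, and allows all Witt
vectors.) -/
theorem result (R : Type u) [CommRing R] [IsDomain R]
    [IsDiscreteValuationRing R] (p : ℕ) [Fact p.Prime] (lam : R) (hlam : lam ∣ (p : R))
    (a b : WittVector p (R ⧸ Ideal.span {lam})) (ha : WittVector.frobenius a = 0)
    (hb : WittVector.frobenius b = 0) (n : ℕ) : (a + b).coeff n = a.coeff n + b.coeff n := by
  classical
  rcases subsingleton_or_nontrivial (R ⧸ Ideal.span {lam}) with hs | hs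
  · exact Subsingleton.elim _ _
  have hpr : p.Prime := Fact.out
  have hp0 : (p : (R ⧸ Ideal.span {lam})) = 0 := by
    rw [← map_natCast (Ideal.Quotient.mk (Ideal.span {lam}))]
    exact Ideal.Quotient.eq_zero_iff_mem.2 (Ideal.mem_span_singleton.2 hlam)
  haveI : CharP (R ⧸ Ideal.span {lam}) p := (CharP.charP_iff_prime_eq_zero hpr).2 hp0
  let v : Fin 2 × ℕ → (R ⧸ Ideal.span {lam}) := fun i => (if i.1 = 0 then a else b).coeff i.2
  have hv : ∀ i, v i ^ p = 0 := fun i => by
    simp only [v]
    split_ifs
    · rw [← WittVector.coeff_frobenius_charP, ha, WittVector.zero_coeff]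
    · rw [← WittVector.coeff_frobenius_charP, hb, WittVector.zero_coeff]
  let I : Ideal (MvPolynomial (Fin 2 × ℕ) ℤ) := MvPolynomial.idealOfVars _ ℤ ^ p
  have hI : ∀ g ∈ I, MvPolynomial.aeval v g = 0 := by
    intro g hg
    rw [MvPolynomial.mem_pow_idealOfVars_iff] at hg
    rw [MvPolynomial.as_sum g, map_sum]
    refine Finset.sum_eq_zero fun s hs => ?_
    rw [MvPolynomial.aeval_monomial]
    refine mul_eq_zero_of_right _ ?_
    choose y hy using fun i => Ideal.Quotient.mk_surjective (v i)
    rw [show (s.prod fun i e => v i ^ e) = Ideal.Quotient.mk _ (s.prod fun i e => y i ^ e) by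
      rw [map_finsuppProd]; simp [hy], Ideal.Quotient.eq_zero_iff_mem, Ideal.mem_span_singleton]
    refine (IsIntegrallyClosed.pow_dvd_pow_iff hpr.ne_zero).1 ?_
    have h1 : lam ^ s.degree ∣ (s.prod fun i e => y i ^ e) ^ p := by
      rw [Finsupp.prod, ← Finset.prod_pow, Finsupp.degree_apply, ← Finset.prod_pow_eq_pow_sum]
      refine Finset.prod_dvd_prod_of_dvd _ _ fun i _ => ?_
      rw [← pow_mul, mul_comm, pow_mul]
      refine pow_dvd_pow_of_dvd ?_ _
      rw [← Ideal.mem_span_singleton, ← Ideal.Quotient.eq_zero_iff_mem, map_pow, hy, hv]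
    exact (pow_dvd_pow lam (hg s hs)).trans h1
  let Z := MvPolynomial (Fin 2 × ℕ) ℤ ⧸ I
  let φ : Z →+* (R ⧸ Ideal.span {lam}) := Ideal.Quotient.lift I (MvPolynomial.aeval v).toRingHom hI
  let z : Fin 2 → WittVector p Z := fun j => WittVector.mk p fun m => Ideal.Quotient.mk I (MvPolynomial.X (j, m))
  have hz : ∀ j m, (z j).coeff m = Ideal.Quotient.mk I (MvPolynomial.X (j, m)) := fun j m => rfl
  have hN : ∀ w ∈ (MvPolynomial.idealOfVars (Fin 2 × ℕ) ℤ).map (Ideal.Quotient.mk I), w ^ p = 0 := fun w hw => by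
    obtain ⟨w, hw', rfl⟩ := (Ideal.mem_map_iff_of_surjective _ Ideal.Quotient.mk_surjective).1 hw
    rw [← map_pow, Ideal.Quotient.eq_zero_iff_mem]
    exact Ideal.pow_mem_pow hw' p
  have htor : ∀ (k : ℕ) (w : Z), (p : Z) ^ k * w = 0 → w = 0 := by
    intro k w hw
    obtain ⟨w, rfl⟩ := Ideal.Quotient.mk_surjective w
    rw [← map_natCast (Ideal.Quotient.mk I), ← map_pow, ← map_mul, Ideal.Quotient.eq_zero_iff_mem,
      MvPolynomial.mem_pow_idealOfVars_iff'] at hw
    rw [Ideal.Quotient.eq_zero_iff_mem, MvPolynomial.mem_pow_idealOfVars_iff']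
    intro s hs
    have := hw s hs
    rw [← map_natCast (MvPolynomial.C : ℤ →+* _), ← map_pow, MvPolynomial.coeff_C_mul] at this
    exact (mul_eq_zero.1 this).resolve_left (pow_ne_zero _ (by exact_mod_cast hpr.ne_zero))
  have hghost : ∀ (w : WittVector p Z) (m : ℕ),
      (∀ j, j < m → w.coeff j ∈ (MvPolynomial.idealOfVars (Fin 2 × ℕ) ℤ).map (Ideal.Quotient.mk I)) →
      WittVector.ghostComponent m w = (p : Z) ^ m * w.coeff m := by
    intro w m hw
    rw [WittVector.ghostComponent_apply, wittPolynomial_eq_sum_C_mul_X_pow, map_sum, Finset.sum_range_succ,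
      Finset.sum_eq_zero fun j hj => ?_, zero_add]
    · simp
    · have hj' := Finset.mem_range.1 hj
      obtain ⟨d, hd⟩ : ∃ d, m - j = d + 1 := ⟨m - j - 1, by omega⟩
      simp [hd, pow_succ', pow_mul, hN _ (hw j hj'), hpr.ne_zero]
  have hmem : ∀ j m, (z j).coeff m ∈ (MvPolynomial.idealOfVars (Fin 2 × ℕ) ℤ).map (Ideal.Quotient.mk I) :=
    fun j m => by rw [hz]; exact Ideal.mem_map_of_mem _ (Ideal.subset_span ⟨_, rfl⟩)
  have hsum : ∀ m, (z 0 + z 1).coeff m = (z 0).coeff m + (z 1).coeff m := by
    intro m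
    induction m using Nat.strong_induction_on with
    | _ m ih =>
      refine sub_eq_zero.1 (htor m _ ?_)
      rw [mul_sub, sub_eq_zero, mul_add, ← hghost _ m fun j _ => hmem 0 j, ← hghost _ m fun j _ => hmem 1 j,
        ← map_add, hghost _ m fun j hj => by rw [ih j hj]; exact add_mem (hmem 0 j) (hmem 1 j)]
  have hmap : ∀ j, WittVector.map φ (z j) = if j = 0 then a else b := fun j => by
    ext m
    rw [WittVector.map_coeff, hz]
    show (MvPolynomial.aeval v) (MvPolynomial.X (j, m)) = _
    rw [MvPolynomial.aeval_X]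
  have h := congrArg φ (hsum n)
  rw [map_add, ← WittVector.map_coeff, ← WittVector.map_coeff, ← WittVector.map_coeff, map_add, hmap, hmap] at h
  simpa using h

end Groth.Agent.S13160
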