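import Groth.Statements.S13161
import Mathlib

set_option autoImplicit false
universe u
open scoped TensorProduct
open CAlg

open TensorProduct
namespace Groth.Agent.S13161

/-- Let R be a discrete valuation ring with fraction field K, A an R-algebra which is semireflexive as
an R-module (the map to its double dual is injective: every nonzero a ∈ A has an R-linear form f : A
→ R with f(a) ≠ 0), and B an A-algebra which is finitely generated as an A-module and flat over R.
Suppose B ⊗ K is semireflexive as a module over A ⊗ K, which for such B amounts to: every nonzero b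
∈ B has an A-linear map g : B → A ⊗_R K with g(b) ≠ 0. Then B is semireflexive as an R-module: every
nonzero b ∈ B has an R-linear form h : B → R with h(b) ≠ 0. (The published statement phrases the
hypothesis on B_K as an A_K-module; for B flat over R and finite over A this is the elementwise
condition used here.) -/
theorem result (R : Type u) [CommRing R] [IsDomain R]
    [IsDiscreteValuationRing R] (K : Type u) [Field K] [Algebra R K] [IsFractionRing R K]
    (A B : Type u) [CommRing A] [CommRing B] [Algebra R A] [Algebra R B] [Algebra A B] [IsScalarTower R A B]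
    [Module.Finite A B] [Module.Flat R B]
    (hA : ∀ a : A, a ≠ 0 → ∃ f : A →ₗ[R] R, f a ≠ 0)
    (hBK : ∀ b : B, b ≠ 0 → ∃ g : B →ₗ[A] A ⊗[R] K, g b ≠ 0) :
    ∀ b : B, b ≠ 0 → ∃ h : B →ₗ[R] R, h b ≠ 0 := by
  intro b hb
  classical
  obtain ⟨g, hg⟩ := hBK b hb
  haveI : IsLocalization (nonZeroDivisors R) K := inferInstance
  have htf : ∀ (r : R) (a : A), r ≠ 0 → r • a = 0 → a = 0 := by
    intro r a hr h
    by_contra ha
    obtain ⟨f, hf⟩ := hA a ha
    have := congrArg f h
    rw [map_smul, map_zero, smul_eq_mul, mul_eq_zero] at this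
    exact this.elim hr hf
  let ι : A →ₗ[A] A ⊗[R] K := (Algebra.TensorProduct.includeLeft : A →ₐ[A] A ⊗[R] K).toLinearMap
  have hinj : Function.Injective ι := by
    haveI : Module.IsTorsionFree R A := Module.isTorsionFree_iff_smul_eq_zero.2
      (fun r a h => by
        by_cases hr : r = 0
        · exact Or.inl hr
        · exact Or.inr (htf r a hr h))
    haveI : Module.Flat R A := inferInstance
    exact Algebra.TensorProduct.includeLeft_injective (S := A) (IsFractionRing.injective R K)
  have hden : ∀ z : A ⊗[R] K, ∃ r : R, r ≠ 0 ∧ r • z ∈ LinearMap.range ι := by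
    intro z
    induction z using TensorProduct.induction_on with
    | zero => exact ⟨1, one_ne_zero, by simp⟩
    | add a b ha hb =>
      obtain ⟨r, hr, a', ha'⟩ := ha
      obtain ⟨s, hs, b', hb'⟩ := hb
      refine ⟨r * s, mul_ne_zero hr hs, s • a' + r • b', ?_⟩
      rw [map_add, LinearMap.map_smul_of_tower, LinearMap.map_smul_of_tower, ha', hb', smul_add, smul_smul,
        smul_smul, mul_comm s r]
    | tmul a c =>
      obtain ⟨n, d, hd, rfl⟩ := IsFractionRing.div_surjective (A := R) c
      refine ⟨d, nonZeroDivisors.ne_zero hd, n • a, ?_⟩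
      show (n • a) ⊗ₜ[R] (1 : K) = d • (a ⊗ₜ[R] (algebraMap R K n / algebraMap R K d))
      rw [TensorProduct.smul_tmul, TensorProduct.smul_tmul', TensorProduct.smul_tmul, Algebra.smul_def,
        Algebra.smul_def, mul_one, mul_div_cancel₀ _ (IsFractionRing.to_map_ne_zero_of_mem_nonZeroDivisors hd)]
  obtain ⟨s, hs⟩ := (Module.Finite.fg_top : (⊤ : Submodule A B).FG)
  choose d hd0 hd using fun z : B => hden (g z)
  let D := ∏ z ∈ s, d z
  have hD0 : D ≠ 0 := Finset.prod_ne_zero_iff.2 fun z _ => hd0 z
  have hmem : ∀ z, D • g z ∈ LinearMap.range ι := by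
    intro z
    have hz : z ∈ Submodule.span A (s : Set B) := hs ▸ Submodule.mem_top
    induction hz using Submodule.span_induction with
    | mem z hz =>
      obtain ⟨e, he⟩ := Finset.dvd_prod_of_mem d hz
      obtain ⟨a, ha⟩ := hd z
      refine ⟨e • a, ?_⟩
      rw [LinearMap.map_smul_of_tower, ha, smul_smul]
      exact congrArg (fun t => t • g z) (by rw [mul_comm]; exact he.symm)
    | zero => simp
    | add x y _ _ hx hy => rw [map_add, smul_add]; exact add_mem hx hy
    | smul a x _ hx => rw [map_smul, smul_comm]; exact Submodule.smul_mem _ _ hx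
  let h : B →ₗ[A] A :=
    (LinearEquiv.ofInjective ι hinj).symm.toLinearMap ∘ₗ (D • g).codRestrict (LinearMap.range ι) hmem
  have hh : ι (h b) = D • g b :=
    congrArg Subtype.val ((LinearEquiv.ofInjective ι hinj).apply_symm_apply ⟨D • g b, hmem b⟩)
  have hne : h b ≠ 0 := by
    intro h0
    rw [h0, map_zero] at hh
    refine hg ?_
    have hu : IsUnit (algebraMap R (A ⊗[R] K) D) := by
      have h2 : IsUnit (algebraMap R K D) :=
        isUnit_iff_ne_zero.2 (IsFractionRing.to_map_ne_zero_of_mem_nonZeroDivisors (mem_nonZeroDivisors_of_ne_zero hD0))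
      have h3 := h2.map (Algebra.TensorProduct.includeRight : K →ₐ[R] A ⊗[R] K)
      rwa [AlgHom.commutes] at h3
    rw [Algebra.smul_def] at hh
    exact hu.mul_right_eq_zero.1 hh.symm
  obtain ⟨f, hf⟩ := hA _ hne
  exact ⟨f ∘ₗ h.restrictScalars R, hf⟩

end Groth.Agent.S13161
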