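import Groth.Statements.S13162
import Mathlib

set_option autoImplicit false
universe u v
open ZeroCyc

namespace Groth.Agent.S13162

/-- Let a finite group G act on a commutative ring A by ring automorphisms and let p be a prime such
that every integer prime to p is a unit in A. If I is an ideal of A and f ∈ A has G-invariant class
modulo I, then f^(p^k) is congruent modulo I to a G-invariant element of A, where p^k is the exact
power of p dividing the order of G. (The published statement assumes I stable under G, so that G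
acts on A/I and the claim reads: the p^k-th power of an invariant of A/I lies in the image of the
invariants of A; the form here asks only that the class of f be invariant.) -/
theorem result {A : Type u} [CommRing A] {G : Type v} [Group G] [Fintype G]
    [MulSemiringAction G A] (p : ℕ) [Fact p.Prime]
    (hA : ∀ m : ℕ, ¬ p ∣ m → IsUnit (m : A))
    (I : Ideal A) (f : A) (hf : ∀ g : G, g • f - f ∈ I) :
    ∃ a : A, (∀ g : G, g • a = a) ∧ a - f ^ (p ^ (Fintype.card G).factorization p) ∈ I := by
  classical
  obtain ⟨P⟩ : Nonempty (Sylow p G) := inferInstance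
  have hcard : Nat.card P = p ^ (Fintype.card G).factorization p := by
    rw [P.card_eq_multiplicity, Nat.card_eq_fintype_card]
  let N : G → A := fun g => ∏ h : (P : Subgroup G), (g * (h : G)) • f
  have hN : ∀ g₁ g₂ : G, g₁⁻¹ * g₂ ∈ (P : Subgroup G) → N g₁ = N g₂ := fun g₁ g₂ h => by
    refine (Fintype.prod_equiv (Equiv.mulLeft (⟨g₁⁻¹ * g₂, h⟩ : (P : Subgroup G))) _ _ fun x => ?_).symm
    show (g₂ * (x : G)) • f = (g₁ * ((g₁⁻¹ * g₂) * (x : G))) • f
    rw [mul_assoc g₁⁻¹, mul_inv_cancel_left]
  have hNmod : ∀ g, N g - f ^ (p ^ (Fintype.card G).factorization p) ∈ I := fun g => by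
    rw [← Ideal.Quotient.eq, map_pow, map_prod]
    refine (Finset.prod_congr (g := fun _ => Ideal.Quotient.mk I f) (s₁ := (Finset.univ : Finset (P : Subgroup G))) rfl fun h _ => Ideal.Quotient.eq.2 (hf (g * ((h : (P : Subgroup G)) : G)))).trans ?_
    rw [Finset.prod_const, Finset.card_univ, ← Nat.card_eq_fintype_card, hcard]
  let F : G ⧸ (P : Subgroup G) → A := fun q => Quotient.liftOn' q N fun g₁ g₂ h => hN g₁ g₂ (QuotientGroup.leftRel_apply.1 h)
  have hm : ¬ p ∣ Fintype.card (G ⧸ (P : Subgroup G)) := by
    rw [← Nat.card_eq_fintype_card]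
    exact P.not_dvd_index
  obtain ⟨v, hv⟩ := hA _ hm
  refine ⟨(↑v⁻¹ : A) * ∑ q, F q, fun g => ?_, ?_⟩
  · rw [smul_mul', Finset.smul_sum]
    congr 1
    · have h : g • (v : A) = v := by rw [hv, MulSemiringAction.toRingHom_apply G A g _ |>.symm, map_natCast]
      calc g • (↑v⁻¹ : A) = g • (↑v⁻¹ : A) * ((v : A) * ↑v⁻¹) := by rw [Units.mul_inv, mul_one]
        _ = g • ((↑v⁻¹ : A) * v) * ↑v⁻¹ := by rw [smul_mul', h, mul_assoc]
        _ = ↑v⁻¹ := by rw [Units.inv_mul, smul_one, one_mul]
    · refine Fintype.sum_equiv (MulAction.toPerm g) _ _ fun q => ?_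
      induction q using QuotientGroup.induction_on with
      | H x =>
        show g • N x = N (g * x)
        simp only [N, Finset.smul_prod', smul_smul, mul_assoc]
  · rw [← Ideal.Quotient.eq, map_mul, map_sum, Finset.sum_congr rfl fun q _ => ?_, Finset.sum_const, Finset.card_univ,
      nsmul_eq_mul, ← map_natCast (Ideal.Quotient.mk I), ← hv, ← mul_assoc, ← map_mul, Units.inv_mul, map_one, one_mul]
    induction q using QuotientGroup.induction_on with
    | H x => exact Ideal.Quotient.eq.2 (hNmod x)

end Groth.Agent.S13162
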