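import Groth.Statements.S13163
import Mathlib

set_option autoImplicit false
universe u
open ZeroCyc

namespace Groth.Agent.S13163

open Polynomial in
/-- Let P_d(T) = ∏_{0 ≤ i < j ≤ d} (T^i − T^j) − 1 ∈ ℤ[T]. Every residue field of ℤ[T]/(P_d), i.e. every
field receiving a ring homomorphism from it, has at least d + 1 elements. -/
theorem result (d : ℕ) (k : Type u) [Field k]
    (φ : (ℤ[X] ⧸ Ideal.span {(∏ j ∈ Finset.range (d + 1), ∏ i ∈ Finset.range j,
        ((X : ℤ[X]) ^ i - X ^ j)) - 1}) →+* k) :
    ((d + 1 : ℕ) : Cardinal) ≤ Cardinal.mk k := by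
  set t : k := φ (Ideal.Quotient.mk _ X)
  have h1 : ∏ j ∈ Finset.range (d + 1), ∏ i ∈ Finset.range j, (t ^ i - t ^ j) = 1 := by
    have h : ((φ.comp (Ideal.Quotient.mk _)) ((∏ j ∈ Finset.range (d + 1), ∏ i ∈ Finset.range j,
        ((X : ℤ[X]) ^ i - X ^ j)) - 1)) = 0 := by
      rw [RingHom.comp_apply, Ideal.Quotient.eq_zero_iff_mem.2 (Ideal.mem_span_singleton_self _), map_zero]
    rw [map_sub, map_one, sub_eq_zero, map_prod] at h
    simp only [map_prod, map_sub, map_pow, RingHom.comp_apply] at h
    exact h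
  have hinj : Function.Injective fun i : Fin (d + 1) => t ^ (i : ℕ) := by
    suffices ∀ i j : Fin (d + 1), i < j → t ^ (i : ℕ) ≠ t ^ (j : ℕ) by
      intro i j hij
      rcases lt_trichotomy i j with h | h | h
      · exact absurd hij (this i j h)
      · exact h
      · exact absurd (Eq.symm hij) (this j i h)
    intro i j hij he
    refine one_ne_zero (h1.symm.trans ?_)
    exact Finset.prod_eq_zero (Finset.mem_range.2 j.2)
      (Finset.prod_eq_zero (Finset.mem_range.2 hij) (sub_eq_zero.2 he))
  have := Cardinal.mk_le_of_injective (f := fun i : ULift.{u} (Fin (d + 1)) => t ^ (i.down : ℕ))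
    (hinj.comp ULift.down_injective)
  simpa using this

end Groth.Agent.S13163
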