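import Groth.Statements.S13166
import Mathlib

set_option autoImplicit false
universe u
open ZeroCyc

namespace Groth.Agent.S13166

open CategoryTheory CategoryTheory.Limits AlgebraicGeometry

/-- A space is not the union of at most as many proper subspaces as there are scalars. -/
theorem exists_avoid {k : Type u} [Field k] {V : Type u} [AddCommGroup V] [Module k V] {ι : Type} (W : ι → Submodule k V)
    (hW : ∀ i, W i ≠ ⊤) (s : Finset ι) (hs : (s.card : Cardinal.{u}) ≤ Cardinal.mk k) : ∃ v, ∀ i ∈ s, v ∉ W i := by
  classical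
  induction s using Finset.induction_on with
  | empty => exact ⟨0, by simp⟩
  | @insert a s ha ih =>
    rw [Finset.card_insert_of_notMem ha] at hs
    obtain ⟨b, hb⟩ := ih ((Nat.cast_le.2 (Nat.le_succ _)).trans hs)
    by_cases hba : b ∈ W a
    · obtain ⟨c, -, hc⟩ := SetLike.exists_of_lt (hW a).lt_top
      by_contra hall
      push Not at hall
      choose φ hφ hφmem using fun t : k => hall (c + t • b)
      have hφs : ∀ t, φ t ∈ s := fun t => by
        refine (Finset.mem_insert.1 (hφ t)).resolve_left fun h => hc ?_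
        have h1 := h ▸ hφmem t
        exact (Submodule.add_mem_iff_left _ (Submodule.smul_mem _ t hba)).1 h1
      have hinj : Function.Injective (fun t => (ULift.up.{u} (⟨φ t, hφs t⟩ : {i // i ∈ s}))) := fun t t' h => by
        by_contra hne
        have h' : φ t = φ t' := congrArg (fun z => z.down.1) h
        refine hb _ (hφs t) ?_
        have h1 := Submodule.sub_mem _ (hφmem t) (h' ▸ hφmem t')
        rw [add_sub_add_left_eq_sub, ← sub_smul] at h1
        exact (Submodule.smul_mem_iff _ (sub_ne_zero.2 hne)).1 h1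
      have h2 := hs.trans (Cardinal.mk_le_of_injective hinj)
      simp only [Cardinal.mk_fintype, Fintype.card_ulift, Fintype.card_coe, Nat.cast_le] at h2
      omega
    · exact ⟨b, fun i hi => (Finset.mem_insert.1 hi).elim (fun h => h ▸ hba) (hb i)⟩


/-- Let k be a field, B a k-algebra generated as an algebra by a k-subspace V, k'/k a field extension
and x_1, …, x_d pairwise distinct k'-points of B ⊗_k k' (equivalently, distinct k-algebra
homomorphisms B → k'). If k has at least d(d − 1)/2 elements, then there is b ∈ V whose values at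
x_1, …, x_d are pairwise distinct. -/
theorem result {k : Type u} [Field k] {B : Type u} [CommRing B] [Algebra k B] (V : Submodule k B)
    (hV : Algebra.adjoin k (V : Set B) = ⊤) {k' : Type u} [Field k'] [Algebra k k']
    {d : ℕ} (x : Fin d → (B →ₐ[k] k')) (hx : Function.Injective x)
    (hk : ((d.choose 2 : ℕ) : Cardinal) ≤ Cardinal.mk k) :
    ∃ b ∈ V, Function.Injective fun i => x i b := by
  classical
  let s : Finset (Fin d × Fin d) := Finset.univ.filter fun q => q.1 < q.2
  have hscard : s.card ≤ d.choose 2 := by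
    refine le_trans ?_ (le_of_eq ((Sym2.card_subtype_not_diag (α := Fin d)).trans (by rw [Fintype.card_fin])))
    rw [Fintype.card_subtype]
    refine Finset.card_le_card_of_injOn (fun q => s(q.1, q.2)) (fun q hq => ?_) fun q hq q' hq' h => ?_
    · simpa using (Finset.mem_filter.1 hq).2.ne
    · have h1 := (Finset.mem_filter.1 (Finset.mem_coe.1 hq)).2
      have h2 := (Finset.mem_filter.1 (Finset.mem_coe.1 hq')).2
      rcases Sym2.eq_iff.1 h with ⟨a, b⟩ | ⟨a, b⟩
      · exact Prod.ext a b
      · exact absurd (a ▸ b ▸ h1) (lt_asymm h2)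
  obtain ⟨v, hv⟩ : ∃ v : V, ∀ q ∈ s, v ∉ LinearMap.ker (((x q.1).toLinearMap - (x q.2).toLinearMap) ∘ₗ V.subtype) := by
    have hW : ∀ q : {q : Fin d × Fin d // q ∈ s},
        LinearMap.ker (((x q.1.1).toLinearMap - (x q.1.2).toLinearMap) ∘ₗ V.subtype) ≠ ⊤ := fun q htop => by
      refine (Finset.mem_filter.1 q.2).2.ne (hx (AlgHom.ext_of_adjoin_eq_top hV fun b hb => ?_))
      have := LinearMap.congr_fun (LinearMap.ker_eq_top.1 htop) ⟨b, hb⟩
      simpa [sub_eq_zero] using this
    obtain ⟨v, hv⟩ := exists_avoid (k := k) (V := V) _ hW Finset.univ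
      ((Nat.cast_le.2 (by rw [Finset.card_univ, Fintype.card_coe]; exact hscard)).trans hk)
    exact ⟨v, fun q hq => hv ⟨q, hq⟩ (Finset.mem_univ _)⟩
  refine ⟨v, v.2, fun i j hij => ?_⟩
  by_contra hne
  simp only at hij
  rcases lt_or_gt_of_ne hne with h | h
  · exact hv (i, j) (Finset.mem_filter.2 ⟨Finset.mem_univ _, h⟩) (by simpa [sub_eq_zero] using hij)
  · exact hv (j, i) (Finset.mem_filter.2 ⟨Finset.mem_univ _, h⟩) (by simpa [sub_eq_zero] using hij.symm)

end Groth.Agent.S13166
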