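import Groth.Statements.S13167
import Mathlib

set_option autoImplicit false
universe u
open AlgebraicGeometry
open ZeroCyc

namespace Groth.Agent.S13167

/-- Let B be a graded R-algebra generated by its degree-one part B_1, with B_1 a finitely generated
R-module, and let x_1, …, x_d be points of X = Proj B lying over one and the same prime p of R. If
the residue field of p has at least d elements, then some f ∈ B_1 ⊆ Γ(X, O_X(1)) has all the x_i in
D_+(f). (Without the hypothesis on the residue field such an f exists in some B_n with n ≥ 1; that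
first assertion is a known property of ample sheaves and is not restated here.) -/
theorem result {R A : Type u} [CommRing R] [CommRing A] [Algebra R A] (𝒜 : ℕ → Submodule R A) [GradedAlgebra 𝒜]
    (hgen : Algebra.adjoin R (𝒜 1 : Set A) = ⊤) (hfg : (𝒜 1).FG)
    (p : Ideal R) [p.IsPrime] {d : ℕ} (x : Fin d → Proj 𝒜)
    (hx : ∀ i, ((x i).asHomogeneousIdeal.toIdeal).comap (algebraMap R A) = p)
    (hcard : (d : Cardinal) ≤ Cardinal.mk p.ResidueField) :
    ∃ g ∈ 𝒜 1, ∀ i, x i ∈ Proj.basicOpen 𝒜 g := by
  classical
  suffices key : ∀ s : Finset (Fin d), ∃ g ∈ 𝒜 1, ∀ i ∈ s, g ∉ (x i).asHomogeneousIdeal.toIdeal by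
    obtain ⟨g, hg, hgx⟩ := key Finset.univ
    exact ⟨g, hg, fun i => hgx i (Finset.mem_univ i)⟩
  intro s
  induction s using Finset.induction_on with
  | empty => exact ⟨0, zero_mem _, by simp⟩
  | @insert a s ha ih =>
    obtain ⟨b, hb1, hb⟩ := ih
    by_cases hba : b ∈ (x a).asHomogeneousIdeal.toIdeal
    · obtain ⟨c, hc1, hc⟩ : ∃ c ∈ 𝒜 1, c ∉ (x a).asHomogeneousIdeal.toIdeal := by
        by_contra h
        push Not at h
        refine (x a).not_irrelevant_le ((HomogeneousIdeal.irrelevant_le _).mpr fun N hN y hy => ?_)
        have hmem : ∀ z : A, ∃ r : R, z - algebraMap R A r ∈ (x a).asHomogeneousIdeal.toIdeal := fun z => by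
          have : z ∈ Algebra.adjoin R (𝒜 1 : Set A) := hgen ▸ Algebra.mem_top
          induction this using Algebra.adjoin_induction with
          | mem z hz => exact ⟨0, by simpa using h z hz⟩
          | algebraMap r => exact ⟨r, by simp⟩
          | add u v _ _ hu hv =>
            obtain ⟨r, hr⟩ := hu
            obtain ⟨r', hr'⟩ := hv
            exact ⟨r + r', by rw [map_add, add_sub_add_comm]; exact add_mem hr hr'⟩
          | mul u v _ _ hu hv =>
            obtain ⟨r, hr⟩ := hu
            obtain ⟨r', hr'⟩ := hv
            refine ⟨r * r', ?_⟩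
            rw [map_mul, show u * v - algebraMap R A r * algebraMap R A r' =
              (u - algebraMap R A r) * v + algebraMap R A r * (v - algebraMap R A r') by ring]
            exact add_mem (Ideal.mul_mem_right _ _ hr) (Ideal.mul_mem_left _ _ hr')
        obtain ⟨r, hr⟩ := hmem y
        have h2 := (x a).asHomogeneousIdeal.isHomogeneous N hr
        have e1 : (DirectSum.decompose 𝒜 y N : A) = y := DirectSum.decompose_of_mem_same 𝒜 hy
        have e2 : (DirectSum.decompose 𝒜 (algebraMap R A r) N : A) = 0 :=
          DirectSum.decompose_of_mem_ne 𝒜 (SetLike.algebraMap_mem_graded 𝒜 r) (Ne.symm hN.ne')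
        rw [DirectSum.decompose_sub, DirectSum.sub_apply] at h2
        rw [Submodule.coe_sub, e1, e2, sub_zero] at h2
        exact h2
      by_contra hall
      push Not at hall
      have hrep : ∀ t : p.ResidueField, ∃ r w : R, w ∉ p ∧ algebraMap R p.ResidueField r = t * algebraMap R p.ResidueField w := by
        intro t
        obtain ⟨r', w', hw', ht⟩ := IsFractionRing.div_surjective (R ⧸ p) t
        obtain ⟨r, rfl⟩ := Ideal.Quotient.mk_surjective r'
        obtain ⟨w, rfl⟩ := Ideal.Quotient.mk_surjective w'
        have hw0 : (Ideal.Quotient.mk p w : R ⧸ p) ≠ 0 := nonZeroDivisors.ne_zero hw'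
        refine ⟨r, w, fun h => hw0 (Ideal.Quotient.eq_zero_iff_mem.2 h), ?_⟩
        rw [← ht]
        exact (div_mul_cancel₀ _ (IsFractionRing.to_map_ne_zero_of_mem_nonZeroDivisors hw')).symm
      choose r w hw hrw using hrep
      choose φ hφ hφmem using fun t : p.ResidueField => hall (w t • c + r t • b)
        (add_mem (Submodule.smul_mem _ _ hc1) (Submodule.smul_mem _ _ hb1))
      have hnot : ∀ i, ∀ z : R, ∀ y : A, z ∉ p → y ∉ (x i).asHomogeneousIdeal.toIdeal → z • y ∉ (x i).asHomogeneousIdeal.toIdeal := by
        intro i z y hz hy hzy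
        rw [Algebra.smul_def] at hzy
        rcases (x i).isPrime.mem_or_mem hzy with h | h
        · exact hz (by rw [← hx i]; exact h)
        · exact hy h
      have hφs : ∀ t, φ t ∈ s := fun t => by
        refine (Finset.mem_insert.1 (hφ t)).resolve_left fun h => hnot a _ _ (hw t) hc ?_
        have h1 := h ▸ hφmem t
        exact ((x a).asHomogeneousIdeal.toIdeal.add_mem_iff_left
          (by rw [Algebra.smul_def]; exact Ideal.mul_mem_left _ _ hba)).1 h1
      have hinj : Function.Injective (fun t => (ULift.up.{u} (⟨φ t, hφs t⟩ : {i // i ∈ s}))) := fun t t' h => by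
        have h' : φ t = φ t' := congrArg (fun z => z.down.1) h
        by_contra hne
        refine hnot (φ t) (w t' * r t - w t * r t') b (fun hp => hne ?_) (hb _ (hφs t)) ?_
        · have h0 := Ideal.algebraMap_residueField_eq_zero.2 hp
          rw [map_sub, map_mul, map_mul, hrw, hrw, sub_eq_zero] at h0
          have hne0 : ∀ t, algebraMap R p.ResidueField (w t) ≠ 0 := fun t h => hw t (Ideal.algebraMap_residueField_eq_zero.1 h)
          exact mul_right_cancel₀ (mul_ne_zero (hne0 t) (hne0 t')) (by linear_combination h0)
        · have h1 := hφmem t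
          have h2 : w t' • c + r t' • b ∈ (x (φ t)).asHomogeneousIdeal.toIdeal := h' ▸ hφmem t'
          have h3 := Submodule.sub_mem _ (Submodule.smul_mem _ (algebraMap R A (w t')) h1) (Submodule.smul_mem _ (algebraMap R A (w t)) h2)
          simp only [Algebra.smul_def, map_sub, map_mul, smul_eq_mul, Algebra.algebraMap_self_apply] at h3 ⊢
          convert h3 using 1
          ring
      have hd : (insert a s).card ≤ d := by simpa using Finset.card_le_univ (insert a s)
      rw [Finset.card_insert_of_notMem ha] at hd
      have h2 := hcard.trans (Cardinal.mk_le_of_injective hinj)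
      simp only [Cardinal.mk_fintype, Fintype.card_ulift, Fintype.card_coe, Nat.cast_le] at h2
      omega
    · exact ⟨b, hb1, fun i hi => (Finset.mem_insert.1 hi).elim (fun h => h ▸ hba) (hb i)⟩

end Groth.Agent.S13167
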