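import Groth.Statements.S13171
import Groth.Agent.ProjTwistLib.Ample


set_option autoImplicit false
universe u
open AlgebraicGeometry
open ZeroCyc

namespace Groth.Agent.S13171

open CategoryTheory CategoryTheory.Limits AlgebraicGeometry

open Groth.Agent Groth.Agent.ProjTwist Opposite TopologicalSpace
set_option backward.isDefEq.respectTransparency false

/-- Let B be a graded R-algebra generated by homogeneous elements f_1, …, f_s of positive degrees d_1,
…, d_s, let l be the least common multiple of the d_i and X = Proj B. For n ≥ (s − 1)(l − 1), O_X(n)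
is generated by its global sections b/1, b ∈ B_n. -/
theorem result {R A : Type u} [CommRing R] [CommRing A] [Algebra R A] (𝒜 : ℕ → Submodule R A) [GradedAlgebra 𝒜]
    {s : ℕ} (f : Fin s → A) (deg : Fin s → ℕ) (hdeg : ∀ i, 0 < deg i) (hf : ∀ i, f i ∈ 𝒜 (deg i))
    (hgen : Algebra.adjoin R (Set.range f) = ⊤) (n : ℕ) (hn : (s - 1) * (Finset.univ.lcm deg - 1) ≤ n) :
    ProjUP.GeneratedBy (Twist.twist 𝒜 (n : ℤ))
      (fun b : 𝒜 n => (Twist.globalOf 𝒜 b : ProjUP.Γm (Twist.twist 𝒜 (n : ℤ)))) := by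
  classical
  intro x
  obtain ⟨j, hj⟩ : ∃ j, x ∈ Proj.basicOpen 𝒜 (f j) := by
    have h := ProjTwistLib.iSup_basicOpen_of_adjoin hf hgen
    exact Opens.mem_iSup.1 (h.symm ▸ (trivial : x ∈ (⊤ : (Proj 𝒜).Opens)))
  obtain ⟨l, hldef⟩ : ∃ l, l = Finset.univ.lcm deg := ⟨_, rfl⟩
  rw [← hldef] at hn
  have hdvd : ∀ i, deg i ∣ l := fun i => hldef ▸ Finset.dvd_lcm (Finset.mem_univ i)
  have hl : 0 < l := by
    refine Nat.pos_of_ne_zero fun h => ?_
    rw [hldef] at h
    obtain ⟨i, -, hi⟩ := Finset.lcm_eq_zero_iff.1 h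
    exact (hdeg i).ne' hi
  have hprod : ∀ α : Fin s → ℕ, ∏ i, f i ^ α i ∈ 𝒜 (∑ i, α i * deg i) := fun α =>
    SetLike.prod_mem_graded (A := 𝒜) (i := fun i => α i * deg i) (g := fun i => f i ^ α i) fun i _ => by
      simpa [mul_comm] using SetLike.pow_mem_graded (α i) (hf i)
  have hspan : ∀ (N : ℕ) (a : A), a ∈ 𝒜 N →
      a ∈ Submodule.span R {g | ∃ α : Fin s → ℕ, ∑ i, α i * deg i = N ∧ g = ∏ i, f i ^ α i} := by
    intro N a ha
    have hall : a ∈ Submodule.span R (Set.range fun α : Fin s → ℕ => ∏ i, f i ^ α i) := by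
      have h : a ∈ Algebra.adjoin R (Set.range f) := hgen ▸ Algebra.mem_top
      clear ha
      induction h using Algebra.adjoin_induction with
      | mem y hy =>
        obtain ⟨i, rfl⟩ := hy
        refine Submodule.subset_span ⟨Pi.single i 1, ?_⟩
        show ∏ i', f i' ^ (Pi.single i 1 : Fin s → ℕ) i' = f i
        rw [Finset.prod_eq_single i (fun b _ hb => by rw [Pi.single_eq_of_ne hb, pow_zero])
          (fun h => absurd (Finset.mem_univ _) h), Pi.single_eq_same, pow_one]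
      | algebraMap r =>
        rw [Algebra.algebraMap_eq_smul_one]
        exact Submodule.smul_mem _ _ (Submodule.subset_span ⟨0, by simp⟩)
      | add y z _ _ hy hz => exact add_mem hy hz
      | mul y z _ _ hy hz =>
        refine (?_ : _ ≤ Submodule.span R _) (Submodule.mul_mem_mul hy hz)
        rw [Submodule.span_mul_span, Submodule.span_le]
        rintro _ ⟨_, ⟨α, rfl⟩, _, ⟨β, rfl⟩, rfl⟩
        exact Submodule.subset_span ⟨α + β, by simp [pow_add, Finset.prod_mul_distrib]⟩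
    rw [← DirectSum.decompose_of_mem_same 𝒜 ha]
    clear ha
    induction hall using Submodule.span_induction with
    | mem y hy =>
      obtain ⟨α, rfl⟩ := hy
      by_cases hα : ∑ i, α i * deg i = N
      · rw [DirectSum.decompose_of_mem_same 𝒜 (hα ▸ hprod α)]
        exact Submodule.subset_span ⟨α, hα, rfl⟩
      · rw [DirectSum.decompose_of_mem_ne 𝒜 (hprod α) hα]
        exact zero_mem _
    | zero => simp
    | add y z _ _ hy hz => rw [DirectSum.decompose_add, DirectSum.add_apply, Submodule.coe_add]; exact add_mem hy hz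
    | smul c y _ hy =>
      rw [DirectSum.decompose_smul]
      exact Submodule.smul_mem _ c hy
  set S := Submodule.span ((Proj 𝒜).presheaf.stalk x)
    (Set.range fun b : 𝒜 n => ((Twist.twist 𝒜 (n : ℤ)).presheaf.germ ⊤ x trivial).hom
      (Twist.globalOf 𝒜 b : ProjUP.Γm (Twist.twist 𝒜 (n : ℤ)))) with hS
  refine eq_top_iff.2 fun z _ => ?_
  obtain ⟨U, hxU, m, rfl⟩ := TopCat.Presheaf.exists_germ_eq (Twist.twist 𝒜 (n : ℤ)).presheaf z
  obtain ⟨W, hxW, iW, i₀, j₀, a, s₀, nin, hc, hw⟩ := (m : Twist.sectN (𝒜 := 𝒜) (n : ℤ) (op U)).2 ⟨x, hxU⟩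
  rw [← TopCat.Presheaf.germ_res_apply (Twist.twist 𝒜 (n : ℤ)).presheaf iW x hxW m]
  rcases hc with hc | hc
  swap
  · have h0 : (Twist.twist 𝒜 (n : ℤ)).presheaf.map iW.op m = 0 := sect_ext fun y => by
      show _ = (0 : Twist.Loc 𝒜 y.1)
      refine (hw y).trans ?_
      rw [hc]
      exact Localization.mk_zero _
    rw [h0, map_zero]
    exact zero_mem _
  have hi₀ : i₀ = j₀ + n := by exact_mod_cast hc
  let O : (Proj 𝒜).Opens := W ⊓ Proj.basicOpen 𝒜 (f j)
  have hxO : x ∈ O := ⟨hxW, hj⟩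
  let E := l * j₀
  let s' : 𝒜 E := ⟨s₀.1 ^ l, by simpa [E] using SetLike.pow_mem_graded l s₀.2⟩
  have hOs : O ≤ Proj.basicOpen 𝒜 s'.1 := fun y hy => by
    show s₀.1 ^ l ∉ y.asHomogeneousIdeal
    exact fun h => nin ⟨y, hy.1⟩ (y.isPrime.mem_of_pow_mem l h)
  have hN : ((n + E : ℕ) : ℤ) = (E : ℤ) + (n : ℤ) := by push_cast; ring
  have ha' : a.1 * s₀.1 ^ (l - 1) ∈ 𝒜 (n + E) := by
    have h := SetLike.mul_mem_graded a.2 (SetLike.pow_mem_graded (l - 1) s₀.2)
    convert h using 2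
    obtain ⟨k, hk⟩ : ∃ k, l = k + 1 := ⟨l - 1, by omega⟩
    simp [E, hk, hi₀]
    ring
  suffices key : ∀ g : A, g ∈ Submodule.span R
        {g | ∃ α : Fin s → ℕ, ∑ i, α i * deg i = n + E ∧ g = ∏ i, f i ^ α i} →
      ∃ hg : g ∈ 𝒜 (n + E), (Twist.twist 𝒜 (n : ℤ)).presheaf.germ O x hxO
        (ProjTwistLib.frac 𝒜 ⟨g, hg⟩ s' (n : ℤ) hN hOs) ∈ S by
    obtain ⟨_, h⟩ := key _ (hspan _ _ ha')
    have e : ProjTwistLib.frac 𝒜 ⟨a.1 * s₀.1 ^ (l - 1), ha'⟩ s' (n : ℤ) hN hOs =
        (Twist.twist 𝒜 (n : ℤ)).presheaf.map (homOfLE (inf_le_left : O ≤ W)).op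
          ((Twist.twist 𝒜 (n : ℤ)).presheaf.map iW.op m) := sect_ext fun y => by
      rw [ProjTwistLib.valAt_frac, valAt_res]
      refine Eq.trans ?_ (hw ⟨y.1, y.2.1⟩).symm
      refine Localization.mk_eq_mk_iff.2 (Localization.r_iff_exists.2 ⟨1, ?_⟩)
      obtain ⟨k, hk⟩ : ∃ k, l = k + 1 := ⟨l - 1, by omega⟩
      simp [s', hk, pow_succ]
      ring
    rw [e, TopCat.Presheaf.germ_res_apply] at h
    exact h
  intro g hg
  induction hg using Submodule.span_induction with
  | zero =>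
    refine ⟨zero_mem _, ?_⟩
    rw [show ProjTwistLib.frac 𝒜 (⟨0, zero_mem _⟩ : 𝒜 (n + E)) s' (n : ℤ) hN hOs = 0 from
      sect_ext fun y => Localization.mk_zero _, map_zero]
    exact zero_mem _
  | add g g' _ _ hg hg' =>
    obtain ⟨h₁, h₁'⟩ := hg
    obtain ⟨h₂, h₂'⟩ := hg'
    refine ⟨add_mem h₁ h₂, ?_⟩
    rw [show ProjTwistLib.frac 𝒜 (⟨g + g', add_mem h₁ h₂⟩ : 𝒜 (n + E)) s' (n : ℤ) hN hOs =
        ProjTwistLib.frac 𝒜 ⟨g, h₁⟩ s' (n : ℤ) hN hOs + ProjTwistLib.frac 𝒜 ⟨g', h₂⟩ s' (n : ℤ) hN hOs from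
      sect_ext fun y => (Localization.add_mk_self _ _ _).symm, map_add]
    exact add_mem h₁' h₂'
  | smul c g _ hg =>
    obtain ⟨h₁, h₁'⟩ := hg
    refine ⟨Submodule.smul_mem _ c h₁, ?_⟩
    rw [show ProjTwistLib.frac 𝒜 (⟨c • g, Submodule.smul_mem _ c h₁⟩ : 𝒜 (n + E)) s' (n : ℤ) hN hOs =
        fracSec 𝒜 (⟨algebraMap R A c, SetLike.algebraMap_mem_graded _ c⟩ : 𝒜 0) ⟨1, SetLike.GradedOne.one_mem⟩
          (V := O) (fun y _ => y.isPrime.one_notMem) • ProjTwistLib.frac 𝒜 ⟨g, h₁⟩ s' (n : ℤ) hN hOs from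
      sect_ext fun y => by
        rw [valAt_fracSec_smul, ProjTwistLib.valAt_frac, ProjTwistLib.valAt_frac, Localization.mk_mul]
        refine Localization.mk_eq_mk_iff.2 (Localization.r_iff_exists.2 ⟨1, ?_⟩)
        simp [Algebra.smul_def], ParaFLib.germ_smul']
    exact Submodule.smul_mem _ _ h₁'
  | mem g hg =>
    obtain ⟨α, hα, rfl⟩ := hg
    refine ⟨hα ▸ hprod α, ?_⟩
    let r : Fin s → ℕ := fun i => α i % (l / deg i)
    have hr : ∀ i, r i * deg i ≤ l - 1 := fun i => by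
      obtain ⟨q, hq⟩ := hdvd i
      have hq0 : 0 < q := Nat.pos_of_ne_zero fun h => by simp [h] at hq; omega
      have h1 : r i + 1 ≤ q := by
        simp only [r]; rw [hq, Nat.mul_div_cancel_left _ (hdeg i)]; exact Nat.mod_lt _ hq0
      have h2 := Nat.mul_le_mul_right (deg i) h1
      rw [add_mul, one_mul, mul_comm q, ← hq] at h2
      have := hdeg i
      omega
    let I : Finset (Fin s) := Finset.univ.erase j
    have hR : ∑ i ∈ I, r i * deg i ≤ n := by
      refine le_trans (Finset.sum_le_sum fun i _ => hr i) (le_trans ?_ hn)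
      simp [I]
    have hdiv : ∀ i, deg j ∣ (α i - r i) * deg i := fun i => by
      obtain ⟨q, hq⟩ := hdvd i
      refine (hdvd j).trans ⟨α i / q, ?_⟩
      simp only [r]
      have := Nat.mod_add_div (α i) q
      rw [hq, Nat.mul_div_cancel_left _ (hdeg i), show α i - α i % q = q * (α i / q) by omega]
      ring
    have hsum : α j * deg j + ∑ i ∈ I, (α i - r i) * deg i + ∑ i ∈ I, r i * deg i = n + E := by
      rw [add_assoc, ← Finset.sum_add_distrib, ← hα, ← Finset.add_sum_erase _ _ (Finset.mem_univ j)]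
      refine congrArg _ (Finset.sum_congr rfl fun i _ => ?_)
      rw [← add_mul, Nat.sub_add_cancel (Nat.mod_le _ _)]
    obtain ⟨t, ht⟩ : deg j ∣ n - ∑ i ∈ I, r i * deg i := by
      have h1 : deg j ∣ α j * deg j + ∑ i ∈ I, (α i - r i) * deg i :=
        dvd_add (dvd_mul_left _ _) (Finset.dvd_sum fun i _ => hdiv i)
      have h2 : α j * deg j + ∑ i ∈ I, (α i - r i) * deg i = (n - ∑ i ∈ I, r i * deg i) + E := by omega
      rw [h2] at h1
      exact (Nat.dvd_add_left ((hdvd j).trans (dvd_mul_right l j₀))).1 h1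
    let γ : Fin s → ℕ := Function.update r j t
    let δ : Fin s → ℕ := Function.update (fun i => α i - r i) j (α j)
    have hγ : ∑ i, γ i * deg i = n := by
      rw [← Finset.add_sum_erase _ _ (Finset.mem_univ j), Finset.sum_congr rfl (g := fun i => r i * deg i)
        (fun i hi => by simp only [γ]; rw [Function.update_of_ne (Finset.ne_of_mem_erase hi)])]
      simp only [γ, Function.update_self]
      rw [mul_comm, ← ht]
      exact Nat.sub_add_cancel hR
    have hδ : ∑ i, δ i * deg i = E + t * deg j := by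
      rw [← Finset.add_sum_erase _ _ (Finset.mem_univ j), Finset.sum_congr rfl
        (g := fun i => (α i - r i) * deg i)
        (fun i hi => by simp only [δ]; rw [Function.update_of_ne (Finset.ne_of_mem_erase hi)])]
      simp only [δ, Function.update_self]
      change α j * deg j + ∑ i ∈ I, (α i - r i) * deg i = _
      rw [mul_comm t, ← ht]
      omega
    have hprodeq : (∏ i, f i ^ δ i) * ∏ i, f i ^ γ i = (∏ i, f i ^ α i) * f j ^ t := by
      rw [← Finset.prod_mul_distrib, ← Finset.mul_prod_erase _ _ (Finset.mem_univ j),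
        ← Finset.mul_prod_erase _ (fun i => f i ^ α i) (Finset.mem_univ j)]
      rw [Finset.prod_congr rfl (g := fun i => f i ^ α i) fun i hi => by
        simp only [γ, δ, Function.update_of_ne (Finset.ne_of_mem_erase hi)]
        rw [← pow_add, Nat.sub_add_cancel (Nat.mod_le _ _)]]
      simp only [γ, δ, Function.update_self]
      ring
    let den : 𝒜 (E + t * deg j) := ⟨s'.1 * f j ^ t, SetLike.mul_mem_graded s'.2
      (by simpa using SetLike.pow_mem_graded t (hf j))⟩
    have hden : O ≤ Proj.basicOpen 𝒜 den.1 := fun y hy h =>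
      (y.isPrime.mem_or_mem h).elim (hOs hy) fun h => hy.2 (y.isPrime.mem_of_pow_mem t h)
    rw [show ProjTwistLib.frac 𝒜 (⟨∏ i, f i ^ α i, hα ▸ hprod α⟩ : 𝒜 (n + E)) s' (n : ℤ) hN hOs =
        fracSec 𝒜 (⟨∏ i, f i ^ δ i, hδ ▸ hprod δ⟩ : 𝒜 (E + t * deg j)) den hden •
          (Twist.twist 𝒜 (n : ℤ)).presheaf.map (homOfLE (le_top : O ≤ ⊤)).op
            (Twist.globalOf 𝒜 (⟨∏ i, f i ^ γ i, hγ ▸ hprod γ⟩ : 𝒜 n) : ProjUP.Γm (Twist.twist 𝒜 (n : ℤ))) from
      sect_ext fun y => by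
        rw [valAt_fracSec_smul, ProjTwistLib.valAt_frac, valAt_res]
        show _ = _ * Localization.mk (∏ i, f i ^ γ i) _
        rw [Localization.mk_mul]
        refine Localization.mk_eq_mk_iff.2 (Localization.r_iff_exists.2 ⟨1, ?_⟩)
        simp only [den, OneMemClass.coe_one, one_mul, Submonoid.coe_mul, mul_one, hprodeq]
        ring, ParaFLib.germ_smul']
    refine Submodule.smul_mem _ _ (Submodule.subset_span ⟨⟨∏ i, f i ^ γ i, hγ ▸ hprod γ⟩, ?_⟩)
    exact (TopCat.Presheaf.germ_res_apply _ _ x hxO _).symm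


end Groth.Agent.S13171
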