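import Groth.Statements.S13177
import Groth.Agent.QuotLib.GeomLift

set_option autoImplicit false
universe u
open CategoryTheory CategoryTheory.Limits AlgebraicGeometry
open ZeroCyc

namespace Groth.Agent.S13177

/-- Let a finite group G act on a scheme X with quotient q : X → Y (affine, G-invariant, O_Y = the
invariant sections), let i : Z → X be a G-stable closed subscheme with the induced action and r : Z
→ W a quotient of Z by G, and let q(Z) be the scheme-theoretic image of Z in Y. Then the morphism W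
→ q(Z) through which Z → q(Z) factors via r is a schematically dominant universal homeomorphism.
(The published statement assumes the quotient of X exists; here both quotients are hypotheses.) -/
theorem result {X Y Z W : Scheme.{u}} {G : Type u} [Group G] [Finite G]
    (ρ : G →* Aut X) (q : X ⟶ Y) (hquot : SGA1.IsQuot ρ q)
    (i : Z ⟶ X) [IsClosedImmersion i] (ρZ : G →* Aut Z) (hρZ : ∀ σ : G, (ρZ σ).hom ≫ i = i ≫ (ρ σ).hom)
    (r : Z ⟶ W) (hr : SGA1.IsQuot ρZ r)
    (m : W ⟶ (i ≫ q).ker.subscheme) (hm : r ≫ m ≫ (i ≫ q).ker.subschemeι = i ≫ q) :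
    FlatMor.IsUnivHomeo m ∧ IsSchemeTheoreticallyDominant m := by
  haveI := Groth.Agent.QuotLib.isIntegralHom hquot
  haveI : IsIntegralHom (i ≫ q) := inferInstance
  haveI : IsIntegralHom ((r ≫ m) ≫ (i ≫ q).ker.subschemeι) := by rw [Category.assoc, hm]; infer_instance
  haveI : IsIntegralHom (r ≫ m) := IsIntegralHom.of_comp (r ≫ m) (i ≫ q).ker.subschemeι
  have hto : r ≫ m = (i ≫ q).toImage := by
    rw [← cancel_mono (i ≫ q).ker.subschemeι, Category.assoc, hm]
    exact (Scheme.Hom.toImage_imageι _).symm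
  haveI : IsDominant (r ≫ m) := by rw [hto]; infer_instance
  haveI : Surjective (r ≫ m) := ⟨fun y => by
    have hr' : IsClosed (Set.range (r ≫ m)) := (r ≫ m).isClosedMap.isClosed_range
    have : y ∈ closure (Set.range (r ≫ m)) := (r ≫ m).denseRange y
    rwa [hr'.closure_eq] at this⟩
  refine ⟨Groth.Agent.QuotLib.isUnivHomeo_of_quot hr m fun K _ _ a b hab => ?_, ⟨?_⟩⟩
  · have h1 := congrArg (· ≫ (i ≫ q).ker.subschemeι) hab
    simp only [Category.assoc, hm] at h1
    obtain ⟨g, hg⟩ := Groth.Agent.QuotLib.exists_comp_eq_point hquot (a ≫ i) (b ≫ i)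
      (by simpa only [Category.assoc] using h1)
    refine ⟨g, (cancel_mono i).1 ?_⟩
    rw [Category.assoc, hρZ, ← Category.assoc]
    exact hg
  · refine le_bot_iff.1 ((Scheme.Hom.le_ker_comp r m).trans ?_)
    rw [hto]
    refine le_of_eq (Scheme.IdealSheafData.ext_of_iSup_eq_top
      (fun U : Y.affineOpens => (⟨(i ≫ q).imageι ⁻¹ᵁ U.1, U.2.preimage (i ≫ q).imageι⟩ :
        (i ≫ q).image.affineOpens)) ?_ fun U => ?_)
    · exact eq_top_iff.2 fun x _ => by
        obtain ⟨U, hU⟩ := TopologicalSpace.Opens.mem_iSup.1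
          (show (i ≫ q).imageι x ∈ ⨆ U : Y.affineOpens, U.1 by rw [iSup_affineOpens_eq_top]; trivial)
        exact TopologicalSpace.Opens.mem_iSup.2 ⟨U, hU⟩
    · rw [Scheme.Hom.ker_apply, (RingHom.injective_iff_ker_eq_bot _).1 ((i ≫ q).toImage_app_injective U)]
      simp

end Groth.Agent.S13177
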