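import Groth.Statements.S13182
import Groth.Agent.ProjLcmEmbLib.Main

set_option autoImplicit false
universe u
open CategoryTheory CategoryTheory.Limits AlgebraicGeometry
open ZeroCyc
set_option linter.style.haveILetI false

namespace Groth.Agent.S13182

/-- Let B be a graded R-algebra generated by homogeneous elements f_1, …, f_s of positive degrees d_1,
…, d_s, let l be the least common multiple of the d_i and X = Proj B. For n = a l with a ≥ max(1, s
− 1) there is a closed immersion i of X into a projective space over R, over Spec R, with O_X(n) ≅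
i^*O(1); in particular O_X(n) is very ample relative to Spec R. (The published statement takes for i
the canonical morphism into P(B_n) given by the sections B_n; this row asserts only a closed
immersion into some projective space P^N over R with an isomorphism O_X(n) ≅ i^*O(1).) -/
theorem result {R A : Type u} [CommRing R] [CommRing A] [Algebra R A] (𝒜 : ℕ → Submodule R A) [GradedAlgebra 𝒜]
    {s : ℕ} (f : Fin s → A) (deg : Fin s → ℕ) (hdeg : ∀ i, 0 < deg i) (hf : ∀ i, f i ∈ 𝒜 (deg i))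
    (hgen : Algebra.adjoin R (Set.range f) = ⊤) (a : ℕ) (ha : 0 < a) (has : s - 1 ≤ a) :
    ∃ (N : ℕ) (i : Proj 𝒜 ⟶ CohB1.ProjSpaceOver N (Spec (CommRingCat.of R))), IsClosedImmersion i ∧
      i ≫ pullback.snd (CohB1.ProjSpace.toSpec N (ULift.{u} ℤ)) (specULiftZIsTerminal.from (Spec (CommRingCat.of R))) =
        Proj.toSpecZero 𝒜 ≫ Spec.map (CommRingCat.ofHom (algebraMap R (𝒜 0))) ∧
      Nonempty (Twist.twist 𝒜 ((a * Finset.univ.lcm deg : ℕ) : ℤ) ≅
        (Scheme.Modules.pullback i).obj (Twist.twistOver N (Spec (CommRingCat.of R)) 1)) := by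
  classical
  set l := Finset.univ.lcm deg with hl
  set n := a * l with hndef
  have hl0 : 0 < l := Nat.pos_of_ne_zero fun h => by
    obtain ⟨i, -, hi⟩ := Finset.lcm_eq_zero_iff.1 h
    exact (hdeg i).ne' hi
  have hn : 0 < n := Nat.mul_pos ha hl0
  have hfg : (𝒜 n).FG := by
    rw [SmallAlgLib.GradedGen.eq_span 𝒜 f deg hf hgen n]
    refine Submodule.fg_span ((Set.finite_range fun e : Fin s → Fin (n + 1) => ∏ i, f i ^ (e i).1).subset ?_)
    rintro _ ⟨e, he, rfl⟩
    refine ⟨fun i => ⟨e i, Nat.lt_succ_of_le (le_trans (Nat.le_mul_of_pos_right _ (hdeg i)) ?_)⟩, rfl⟩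
    exact he ▸ Finset.single_le_sum (fun j _ => Nat.zero_le (e j * deg j)) (Finset.mem_univ i)
  obtain ⟨M, g, hg⟩ := Submodule.fg_iff_exists_fin_generating_family.1 hfg
  let b : Fin (M + 1) → 𝒜 n :=
    Fin.cons 0 fun i => ⟨g i, hg.le (Submodule.subset_span ⟨i, rfl⟩)⟩
  have hspan : Submodule.span R (Set.range fun i => (b i).1) = 𝒜 n := by
    refine le_antisymm (Submodule.span_le.2 ?_) ?_
    · rintro _ ⟨i, rfl⟩
      exact (b i).2
    · refine hg.ge.trans (Submodule.span_mono ?_)
      rintro _ ⟨i, rfl⟩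
      exact ⟨i.succ, by simp [b]⟩
  have hcov : ∀ x : Proj 𝒜, ∃ g : 𝒜 n, x ∈ Proj.basicOpen 𝒜 g.1 := fun x =>
    TopologicalSpace.Opens.mem_iSup.1
      ((SmallAlgLib.GradedGen.iSup_basicOpen 𝒜 f deg hdeg hf hgen a ha).ge (TopologicalSpace.Opens.mem_top x))
  obtain ⟨N, j, hj, hjq, hiso⟩ := ProjLcmEmbLib.isRelVeryAmplePn_twist 𝒜 hn hcov b hspan
    (SmallAlgLib.GradedGen.pow_eq 𝒜 f deg hdeg hf hgen a has)
  haveI : Algebra.FiniteType R A := ⟨⟨Finset.univ.image f, by
    rw [Finset.coe_image, Finset.coe_univ, Set.image_univ, hgen]⟩⟩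
  haveI : IsScalarTower R (𝒜 0) A := ⟨fun r x y => smul_mul_assoc r x.1 y⟩
  haveI : Algebra.FiniteType (𝒜 0) A := Algebra.FiniteType.of_restrictScalars_finiteType R (𝒜 0) A
  haveI : IsClosedImmersion (Spec.map (CommRingCat.ofHom (algebraMap R (𝒜 0)))) := by
    refine IsClosedImmersion.spec_of_surjective _ fun z => ?_
    have hz : z.1 ∈ (1 : Submodule R A) := by
      rw [← SmallAlgLib.GradedGen.eq_zero_one 𝒜 f deg hdeg hf hgen]
      exact z.2
    obtain ⟨r, hr⟩ := Submodule.mem_one.1 hz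
    exact ⟨r, Subtype.ext hr⟩
  haveI : IsProper (ProjCoh.projToSpec 𝒜) := by
    rw [ProjCoh.projToSpec]
    infer_instance
  exact ⟨N, j, ProjLcmEmbLib.isClosedImmersion_of_proper j hjq, hjq, hiso⟩

end Groth.Agent.S13182
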