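import Groth.Statements.S13183
import Groth.Agent.ProjLcmEmbLib.Main

set_option autoImplicit false
universe u
open CategoryTheory CategoryTheory.Limits AlgebraicGeometry
open ZeroCyc

namespace Groth.Agent.S13183

open CategoryTheory CategoryTheory.Limits AlgebraicGeometry

set_option backward.isDefEq.respectTransparency false
set_option linter.style.haveILetI false
universe v

open Groth.Agent.DCohLib Groth.Agent.ParaFLib Groth.Agent.AmpleLib Groth.Agent.ProjLcmEmbLib

variable {R A : Type u} [CommRing R] [CommRing A] [Algebra R A] (𝒜 : ℕ → Submodule R A) [GradedAlgebra 𝒜]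

/-- Ratios by one section generate when every form becomes a product after multiplying by its powers. -/
theorem ratios_surjective_of_sat {n : ℕ} {ι : Type} (b : ι → 𝒜 n) (hn : 0 < n)
    (hspan : Submodule.span R (Set.range fun a => (b a).1) = 𝒜 n) (h0 : 𝒜 0 = 1) (i : ι)
    (hsat : ∀ k, ∀ c ∈ 𝒜 (k * n), ∃ j, c * (b i).1 ^ j ∈ 𝒜 n ^ (k + j))
    {U : (Proj 𝒜).Opens} (hU : U = Proj.basicOpen 𝒜 (b i).1) :
    Function.Surjective (MvPolynomial.eval₂Hom (ProjCoh.φV (ProjCoh.projφ 𝒜) U)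
      (fun a => ProjTwist.fracSec 𝒜 (b a) (b i) hU.le)) := by
  subst hU
  let ev : MvPolynomial ι R →+* Γ(Proj 𝒜, Proj.basicOpen 𝒜 (b i).1) :=
    MvPolynomial.eval₂Hom (ProjCoh.φV (ProjCoh.projφ 𝒜) (Proj.basicOpen 𝒜 (b i).1))
      (fun a => ProjTwist.fracSec 𝒜 (b a) (b i) le_rfl)
  let P : ℕ → A → Prop := fun k c => ∃ p, ∀ x : Proj.basicOpen 𝒜 (b i).1,
    secVal 𝒜 (ev p) x = Localization.mk c ⟨(b i).1 ^ k, pow_notMem 𝒜 k x⟩
  have hadd : ∀ k c c', P k c → P k c' → P k (c + c') := fun k c c' ⟨p, hp⟩ ⟨p', hp'⟩ =>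
    ⟨p + p', fun x => by rw [map_add, secVal_add, hp, hp', Localization.add_mk_self]⟩
  have hC : ∀ r : R, P 0 (algebraMap R A r) := fun r => ⟨MvPolynomial.C r, fun x => by
    rw [show ev (MvPolynomial.C r) = _ from MvPolynomial.eval₂Hom_C _ _ r]
    exact secVal_const 𝒜 (b i).2 hn r x⟩
  have hmul : ∀ k l c c', P k c → P l c' → P (k + l) (c * c') := fun k l c c' ⟨p, hp⟩ ⟨p', hp'⟩ =>
    ⟨p * p', fun x => by
      rw [map_mul, secVal_mul, hp, hp', Localization.mk_mul]
      congr 1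
      exact Subtype.ext (pow_add _ _ _).symm⟩
  have hone : ∀ y ∈ 𝒜 n, P 1 y := by
    intro y hy
    rw [← hspan] at hy
    induction hy using Submodule.span_induction with
    | mem y hy =>
      obtain ⟨a, rfl⟩ := hy
      refine ⟨MvPolynomial.X a, fun x => ?_⟩
      rw [show ev (MvPolynomial.X a) = _ from MvPolynomial.eval₂Hom_X' _ _ a, secVal_fracSec]
      congr 1
      exact Subtype.ext (pow_one _).symm
    | zero =>
      refine ⟨0, fun x => ?_⟩
      rw [Localization.mk_zero, map_zero]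
      exact HomogeneousLocalization.val_zero
    | add y z _ _ hy hz => exact hadd _ _ _ hy hz
    | smul r y _ hy =>
      rw [Algebra.smul_def]
      exact hmul 0 1 _ _ (hC r) hy
  have hall : ∀ k, ∀ c ∈ 𝒜 n ^ k, P k c := by
    intro k
    induction k with
    | zero =>
      intro c hc
      rw [pow_zero] at hc
      obtain ⟨r, rfl⟩ := Submodule.mem_one.1 hc
      exact hC r
    | succ k ih =>
      intro c hc
      rw [pow_succ] at hc
      exact Submodule.mul_induction_on hc (fun y hy z hz => hmul k 1 _ _ (ih y hy) (hone z hz))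
        (fun y z hy hz => hadd _ _ _ hy hz)
  intro g
  obtain ⟨z, rfl⟩ := (ConcreteCategory.bijective_of_isIso
    (Proj.basicOpenIsoAway 𝒜 (b i).1 (b i).2 hn).hom).2 g
  obtain ⟨k, c, hc, rfl⟩ := HomogeneousLocalization.Away.mk_surjective 𝒜 (b i).2 z
  obtain ⟨j, hj⟩ := hsat k c (by simpa using hc)
  obtain ⟨p, hp⟩ := hall (k + j) _ hj
  refine ⟨p, secVal_ext 𝒜 fun x => (hp x).trans (Eq.trans ?_ (secVal_awayMk 𝒜 (b i).2 k c hc x).symm)⟩
  refine Localization.mk_eq_mk_iff.2 (Localization.r_iff_exists.2 ⟨1, ?_⟩)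
  simp only [OneMemClass.coe_one, one_mul]
  rw [pow_add]
  ring

theorem exists_finite_gens {A' : Type u} [CommRing A'] [Algebra R A'] [Algebra.FiniteType R A'] (U : Set A')
    (h : Algebra.adjoin R U = ⊤) : ∃ s : Finset A', ↑s ⊆ U ∧ Algebra.adjoin R (s : Set A') = ⊤ := by
  classical
  obtain ⟨T, hT⟩ := Algebra.FiniteType.out (R := R) (A := A')
  have key : ∀ t : A', ∃ s : Finset A', ↑s ⊆ U ∧ t ∈ Algebra.adjoin R (s : Set A') := by
    intro t
    have ht : t ∈ Algebra.adjoin R U := h ▸ Algebra.mem_top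
    induction ht using Algebra.adjoin_induction with
    | mem x hx => exact ⟨{x}, by simpa using hx, Algebra.subset_adjoin (by simp)⟩
    | algebraMap r => exact ⟨∅, by simp, Subalgebra.algebraMap_mem _ r⟩
    | add x y _ _ hx hy =>
      obtain ⟨s, hs, hxs⟩ := hx
      obtain ⟨s', hs', hys⟩ := hy
      exact ⟨s ∪ s', by simp [hs, hs'], add_mem (Algebra.adjoin_mono (by simp) hxs) (Algebra.adjoin_mono (by simp) hys)⟩
    | mul x y _ _ hx hy =>
      obtain ⟨s, hs, hxs⟩ := hx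
      obtain ⟨s', hs', hys⟩ := hy
      exact ⟨s ∪ s', by simp [hs, hs'], mul_mem (Algebra.adjoin_mono (by simp) hxs) (Algebra.adjoin_mono (by simp) hys)⟩
  choose s hs hts using key
  refine ⟨T.biUnion s, fun x hx => ?_, top_le_iff.1 (hT ▸ Algebra.adjoin_le fun t ht => ?_)⟩
  · obtain ⟨t, -, hx⟩ := Finset.mem_biUnion.1 (Finset.mem_coe.1 hx)
    exact hs t hx
  · exact Algebra.adjoin_mono (Finset.coe_subset.2 (Finset.subset_biUnion_of_mem s ht)) (hts t)

theorem prod_mem_prod' {ι : Type*} (t : Finset ι) (M : ι → Submodule R A) (x : ι → A) (h : ∀ i ∈ t, x i ∈ M i) :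
    ∏ i ∈ t, x i ∈ ∏ i ∈ t, M i := by
  classical
  induction t using Finset.induction_on with
  | empty => simpa using Submodule.mem_one.2 ⟨(1 : R), map_one (algebraMap R A)⟩
  | insert a t ha ih =>
    rw [Finset.prod_insert ha, Finset.prod_insert ha]
    exact Submodule.mul_mem_mul (h a (Finset.mem_insert_self _ _)) (ih fun i hi => h i (Finset.mem_insert_of_mem hi))

/-- Forms become products of forms of degree `n` after multiplying by powers of `g ^ n`, `g` linear. -/
theorem sat_of_gens {s : ℕ} (f : Fin s → A) (deg : Fin s → ℕ) (hf : ∀ i, f i ∈ 𝒜 (deg i))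
    (hgen : Algebra.adjoin R (Set.range f) = ⊤) {n : ℕ} (hn : 0 < n) (hle : ∀ i, deg i ≤ n) {g : A} (hg : g ∈ 𝒜 1)
    (k : ℕ) (c : A) (hc : c ∈ 𝒜 (k * n)) : ∃ j, c * (g ^ n) ^ j ∈ 𝒜 n ^ (k + j) := by
  have hgn : g ^ n ∈ 𝒜 n := by simpa using SetLike.pow_mem_graded n hg
  have hup : ∀ {x : A} {j : ℕ}, x * (g ^ n) ^ j ∈ 𝒜 n ^ (k + j) → ∀ l, x * (g ^ n) ^ (j + l) ∈ 𝒜 n ^ (k + (j + l)) := by
    intro x j hx l
    rw [← add_assoc, pow_add (g ^ n), ← mul_assoc, pow_add (𝒜 n)]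
    exact Submodule.mul_mem_mul hx (Submodule.pow_mem_pow _ hgn l)
  rw [Groth.Agent.SmallAlgLib.GradedGen.eq_span 𝒜 f deg hf hgen] at hc
  induction hc using Submodule.span_induction with
  | mem x hx =>
    obtain ⟨e, he, rfl⟩ := hx
    have hk : k ≤ ∑ i, e i := by
      have h1 : k * n ≤ (∑ i, e i) * n := by
        rw [← he, Finset.sum_mul]
        exact Finset.sum_le_sum fun i _ => Nat.mul_le_mul_left _ (hle i)
      exact Nat.le_of_mul_le_mul_right h1 hn
    refine ⟨(∑ i, e i) - k, ?_⟩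
    rw [Nat.add_sub_cancel' hk]
    have hsum : ∑ i, e i * (n - deg i) = n * ((∑ i, e i) - k) := by
      have h1 : ∑ i, e i * (n - deg i) + ∑ i, e i * deg i = (∑ i, e i) * n := by
        rw [← Finset.sum_add_distrib, Finset.sum_mul]
        exact Finset.sum_congr rfl fun i _ => by rw [← Nat.mul_add, Nat.sub_add_cancel (hle i)]
      rw [Nat.mul_sub, mul_comm n (∑ i, e i), mul_comm n k]
      omega
    rw [← pow_mul, ← hsum, ← Finset.prod_pow_eq_pow_sum, ← Finset.prod_pow_eq_pow_sum, ← Finset.prod_mul_distrib]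
    refine prod_mem_prod' _ _ _ fun i _ => ?_
    rw [mul_comm (e i), pow_mul, ← mul_pow]
    refine Submodule.pow_mem_pow _ ?_ _
    have := SetLike.mul_mem_graded (hf i) (SetLike.pow_mem_graded (n - deg i) hg)
    rwa [smul_eq_mul, mul_one, Nat.add_sub_cancel' (hle i)] at this
  | zero => exact ⟨0, by simp⟩
  | add x y _ _ hx hy =>
    obtain ⟨j, hj⟩ := hx
    obtain ⟨l, hl⟩ := hy
    refine ⟨j + l, ?_⟩
    rw [add_mul]
    refine add_mem (hup hj l) ?_
    rw [add_comm j l]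
    exact hup hl j
  | smul r x _ hx =>
    obtain ⟨j, hj⟩ := hx
    exact ⟨j, by rw [smul_mul_assoc]; exact Submodule.smul_mem _ _ hj⟩


/-- Let B be a graded R-algebra of finite type, generated by elements of degrees between 1 and d, such
that X = Proj B is covered by the opens D_+(g), g ∈ B_1. For n ≥ d, n ≥ 1, there is a closed
immersion i of X into a projective space over R, over Spec R, with O_X(n) ≅ i^*O(1); in particular
O_X(n) is very ample relative to Spec R. (The published statement assumes neither finite generation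
nor that the generators have positive degree, and its target is P(B_n) with i the canonical morphism
given by B_n; a closed immersion into a projective space of finite type over R needs X proper over
R, so B is taken of finite type with generators of positive degree; existence of the isomorphism
only.) -/
theorem result {R A : Type u} [CommRing R] [CommRing A] [Algebra R A] (𝒜 : ℕ → Submodule R A) [GradedAlgebra 𝒜]
    (d : ℕ) (hgen : Algebra.adjoin R (⋃ i ∈ Finset.Icc 1 d, (𝒜 i : Set A)) = ⊤)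
    (hcov : (⨆ g : 𝒜 1, Proj.basicOpen 𝒜 (g : A)) = ⊤) [Algebra.FiniteType R A] (n : ℕ) (hn : d ≤ n) (hn1 : 0 < n) :
    ∃ (N : ℕ) (i : Proj 𝒜 ⟶ CohB1.ProjSpaceOver N (Spec (CommRingCat.of R))), IsClosedImmersion i ∧
      i ≫ pullback.snd (CohB1.ProjSpace.toSpec N (ULift.{u} ℤ)) (specULiftZIsTerminal.from (Spec (CommRingCat.of R))) =
        Proj.toSpecZero 𝒜 ≫ Spec.map (CommRingCat.ofHom (algebraMap R (𝒜 0))) ∧
      Nonempty (Twist.twist 𝒜 (n : ℤ) ≅
        (Scheme.Modules.pullback i).obj (Twist.twistOver N (Spec (CommRingCat.of R)) 1)) := by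
  classical
  obtain ⟨T, hTU, hTgen⟩ := exists_finite_gens (⋃ i ∈ Finset.Icc 1 d, (𝒜 i : Set A)) hgen
  have hT : ∀ t : T, ∃ i ∈ Finset.Icc 1 d, t.1 ∈ 𝒜 i := fun t => by simpa using hTU t.2
  choose degT hdegT hmemT using hT
  let f : Fin (Fintype.card T) → A := fun i => ((Fintype.equivFin T).symm i).1
  let deg : Fin (Fintype.card T) → ℕ := fun i => degT ((Fintype.equivFin T).symm i)
  have hf : ∀ i, f i ∈ 𝒜 (deg i) := fun i => hmemT _
  have hdeg : ∀ i, 0 < deg i := fun i => (Finset.mem_Icc.1 (hdegT _)).1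
  have hle : ∀ i, deg i ≤ n := fun i => (Finset.mem_Icc.1 (hdegT _)).2.trans hn
  have hgenf : Algebra.adjoin R (Set.range f) = ⊤ := by
    rw [← hTgen]
    congr 1
    ext x
    exact ⟨by rintro ⟨i, rfl⟩; exact ((Fintype.equivFin T).symm i).2,
      fun hx => ⟨Fintype.equivFin T ⟨x, hx⟩, by simp [f]⟩⟩
  have h0 := Groth.Agent.SmallAlgLib.GradedGen.eq_zero_one 𝒜 f deg hdeg hf hgenf
  haveI : IsScalarTower R (𝒜 0) A := ⟨fun r x y => smul_mul_assoc r x.1 y⟩
  haveI : Algebra.FiniteType (𝒜 0) A := Algebra.FiniteType.of_restrictScalars_finiteType R (𝒜 0) A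
  haveI : IsClosedImmersion (Spec.map (CommRingCat.ofHom (algebraMap R (𝒜 0)))) := by
    refine IsClosedImmersion.spec_of_surjective _ fun z => ?_
    have hz : z.1 ∈ (1 : Submodule R A) := by rw [← h0]; exact z.2
    obtain ⟨r, hr⟩ := Submodule.mem_one.1 hz
    exact ⟨r, Subtype.ext hr⟩
  haveI : IsProper (ProjCoh.projToSpec 𝒜) := by
    rw [ProjCoh.projToSpec]
    infer_instance
  haveI : CompactSpace (Proj 𝒜) := QuasiCompact.compactSpace_of_compactSpace (ProjCoh.projToSpec 𝒜)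
  obtain ⟨Gs, hGs⟩ := isCompact_univ.elim_finite_subcover (fun g : 𝒜 1 => (Proj.basicOpen 𝒜 (g : A) : Set (Proj 𝒜)))
    (fun g => (Proj.basicOpen 𝒜 (g : A)).isOpen) (fun x _ => by
      obtain ⟨g, hg⟩ := TopologicalSpace.Opens.mem_iSup.1 (hcov.ge (TopologicalSpace.Opens.mem_top x))
      exact Set.mem_iUnion.2 ⟨g, hg⟩)
  have hfg : (𝒜 n).FG := by
    rw [Groth.Agent.SmallAlgLib.GradedGen.eq_span 𝒜 f deg hf hgenf n]
    refine Submodule.fg_span ((Set.finite_range fun e : Fin (Fintype.card T) → Fin (n + 1) =>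
      ∏ i, f i ^ (e i).1).subset ?_)
    rintro _ ⟨e, he, rfl⟩
    refine ⟨fun i => ⟨e i, Nat.lt_succ_of_le (le_trans (Nat.le_mul_of_pos_right _ (hdeg i)) ?_)⟩, rfl⟩
    exact he ▸ Finset.single_le_sum (fun j _ => Nat.zero_le (e j * deg j)) (Finset.mem_univ i)
  obtain ⟨B0, hB0⟩ := hfg
  let B : Finset A := insert 0 (B0 ∪ Gs.image fun g => g.1 ^ n)
  have hB : ∀ y ∈ B, y ∈ 𝒜 n := fun y hy => by
    rcases Finset.mem_insert.1 hy with rfl | hy
    · exact zero_mem _
    rcases Finset.mem_union.1 hy with hy | hy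
    · exact hB0.le (Submodule.subset_span hy)
    · obtain ⟨g, -, rfl⟩ := Finset.mem_image.1 hy
      simpa using SetLike.pow_mem_graded n g.2
  obtain ⟨m, hm⟩ : ∃ m, Fintype.card B = m + 1 :=
    ⟨Fintype.card B - 1, (Nat.succ_pred_eq_of_pos (Fintype.card_pos_iff.2 ⟨⟨0, Finset.mem_insert_self _ _⟩⟩)).symm⟩
  let eB : Fin (m + 1) ≃ B := (finCongr hm.symm).trans (Fintype.equivFin B).symm
  let b : Fin (m + 1) → 𝒜 n := fun i => ⟨(eB i).1, hB _ (eB i).2⟩
  have hspan : Submodule.span R (Set.range fun i => (b i).1) = 𝒜 n := by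
    refine le_antisymm (Submodule.span_le.2 ?_) ?_
    · rintro _ ⟨i, rfl⟩
      exact (b i).2
    · refine hB0.ge.trans (Submodule.span_mono fun x hx => ?_)
      exact ⟨eB.symm ⟨x, Finset.mem_insert_of_mem (Finset.mem_union_left _ hx)⟩, by simp [b]⟩
  let S : Set (Fin (m + 1)) := {i | ∃ g : 𝒜 1, (b i).1 = g.1 ^ n}
  have hcovS : ∀ x : Proj 𝒜, ∃ i ∈ S, x ∈ Proj.basicOpen 𝒜 (b i).1 := fun x => by
    obtain ⟨g, hg, hxg⟩ := Set.mem_iUnion₂.1 (hGs (Set.mem_univ x))
    let i := eB.symm ⟨g.1 ^ n, Finset.mem_insert_of_mem (Finset.mem_union_right _ (Finset.mem_image.2 ⟨g, hg, rfl⟩))⟩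
    have hi : (b i).1 = g.1 ^ n := by simp [b, i]
    refine ⟨i, ⟨g, hi⟩, ?_⟩
    rw [hi, Proj.basicOpen_pow 𝒜 _ n hn1]
    exact hxg
  have hu : ∀ x : Proj 𝒜, Groth.Agent.ProjTwistLib.HasUnit 𝒜 (n : ℤ) x := fun x => by
    obtain ⟨i, -, hg⟩ := hcovS x
    exact Groth.Agent.ProjTwistLib.hasUnit_of_mem (b i) hg
  have hQ := Groth.Agent.ProjTwistLib.isInvertible_of_hasUnit hu
  have hloc := fun i => genLocus_formSec 𝒜 hu (b i)
  let F := Groth.Agent.AmpleEmb.familyOfSections hQ (fun i => formSec 𝒜 (b i))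
    (fun i => (hloc i).symm ▸ Proj.isAffineOpen_basicOpen 𝒜 (b i).1 (b i).2 hn1)
    (fun x => (hcovS x).imp fun i h => (hloc i).ge h.2)
    (fun i a => ProjTwist.fracSec 𝒜 (b a) (b i) (hloc i).le)
    (fun i a => ratio_formSec 𝒜 (b i) (b a) (hloc i).le)
  obtain ⟨N, j, hj, hjq, hiso⟩ := Groth.Agent.AmpleEmb.isRelVeryAmplePn_of_ratios (ProjCoh.projToSpec 𝒜) F (Iso.refl _)
    (fun i => formSec 𝒜 (b i)) (fun i => Groth.Agent.AmpleEmb.gen_genLocus hQ _)
    (fun i a => ratio_formSec 𝒜 (b i) (b a) (hloc i).le) S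
    (fun i hi => ⟨⊤, isAffineOpen_top _, le_top, by
      refine eval₂Hom_comp_surjective _ (Scheme.ΓSpecIso (CommRingCat.of R)).inv.hom _
        (ratios_surjective_of_sat 𝒜 b hn1 hspan h0 i ?_ (hloc i))
      obtain ⟨g, hg⟩ := hi
      intro k c hc
      rw [hg]
      exact sat_of_gens 𝒜 f deg hf hgenf hn1 hle g.2 k c hc⟩)
    (fun x => (hcovS x).imp fun i h => ⟨h.1, (hloc i).ge h.2⟩)
  haveI := hj
  exact ⟨N, j, isClosedImmersion_of_proper j hjq, hjq, hiso⟩

end Groth.Agent.S13183
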