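import Groth.Statements.S13184
import Mathlib

set_option autoImplicit false
universe u
open ZeroCyc

namespace Groth.Agent.S13184

open CategoryTheory CategoryTheory.Limits AlgebraicGeometry

theorem pow_mem_range {k : Type u} [Field k] (p : ℕ) [Fact p.Prime] [CharP k p]
    {Ω : Type u} [Field Ω] [Algebra k Ω] (e : ℕ) (y : Ω)
    (hy : y ∈ IntermediateField.adjoin k {y : Ω | y ^ (p ^ e) ∈ Set.range (algebraMap k Ω)}) :
    y ^ (p ^ e) ∈ Set.range (algebraMap k Ω) := by
  haveI : CharP Ω p := charP_of_injective_algebraMap (algebraMap k Ω).injective p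
  induction hy using IntermediateField.adjoin_induction with
  | mem x hx => exact hx
  | algebraMap r => exact ⟨r ^ (p ^ e), map_pow _ _ _⟩
  | add x y _ _ hx hy =>
    obtain ⟨a, ha⟩ := hx
    obtain ⟨b, hb⟩ := hy
    exact ⟨a + b, by rw [map_add, ha, hb, add_pow_char_pow]⟩
  | inv x _ hx =>
    obtain ⟨a, ha⟩ := hx
    exact ⟨a⁻¹, by rw [map_inv₀, ha, inv_pow]⟩
  | mul x y _ _ hx hy =>
    obtain ⟨a, ha⟩ := hx
    obtain ⟨b, hb⟩ := hy
    exact ⟨a * b, by rw [map_mul, ha, hb, mul_pow]⟩


/-- Let k ⊆ K be a finite extension of fields of characteristic p > 0, viewed inside an algebraically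
closed field Ω, and for e ≥ 0 let k^{p^{-e}} ⊆ Ω be the field of elements whose p^e-th power lies in
k. Then the compositum k^{p^{-e}}K is separable over k^{p^{-e}} if and only if x^{p^e} is separable
over k for every x ∈ K; hence the exponent of K/k (the least n ≥ 1 with K^n separable over k, a
power of p) is the least p^e for which k^{p^{-e}} ⊆ k^{p^{-e}}K is separable. -/
theorem result {k : Type u} [Field k] (p : ℕ) [Fact p.Prime] [CharP k p]
    {K : Type u} [Field K] [Algebra k K] [FiniteDimensional k K]
    {Ω : Type u} [Field Ω] [Algebra k Ω] [Algebra K Ω] [IsScalarTower k K Ω] [IsAlgClosed Ω] (e : ℕ) :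
    (∀ x : Ω, x ∈ IntermediateField.adjoin k {y : Ω | y ^ (p ^ e) ∈ Set.range (algebraMap k Ω)} ⊔
        IntermediateField.adjoin k (Set.range (algebraMap K Ω)) →
      IsSeparable (IntermediateField.adjoin k {y : Ω | y ^ (p ^ e) ∈ Set.range (algebraMap k Ω)}) x) ↔
    ∀ x : K, x ^ (p ^ e) ∈ separableClosure k K := by
  classical
  haveI : CharP Ω p := charP_of_injective_algebraMap (algebraMap k Ω).injective p
  let q := p ^ e
  let ke := IntermediateField.adjoin k {y : Ω | y ^ (p ^ e) ∈ Set.range (algebraMap k Ω)}
  constructor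
  · intro h x
    have hsep : IsSeparable ke (algebraMap K Ω x) :=
      h _ (le_sup_right (a := ke) (IntermediateField.subset_adjoin _ _ ⟨x, rfl⟩))
    have hr : ∀ y : ke, ∃ a : k, algebraMap k Ω a = (y : Ω) ^ q := fun y => pow_mem_range p e (y : Ω) y.2
    choose φ hφ using hr
    have hinj := (algebraMap k Ω).injective
    let Φ : ke →+* k :=
      { toFun := φ
        map_one' := hinj (by rw [hφ, map_one]; simp)
        map_mul' := fun a b => hinj (by rw [hφ, map_mul, hφ, hφ]; simp [mul_pow])
        map_zero' := hinj (by rw [hφ, map_zero]; simp [q, zero_pow (pow_ne_zero e (Fact.out : p.Prime).ne_zero)])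
        map_add' := fun a b => hinj (by rw [hφ, map_add, hφ, hφ]; simp [q, add_pow_char_pow]) }
    have hroot : Polynomial.aeval ((algebraMap K Ω x) ^ q) ((minpoly ke (algebraMap K Ω x)).map Φ) = 0 := by
      have h0 := congrArg (iterateFrobenius Ω p e) (minpoly.aeval ke (algebraMap K Ω x))
      rw [map_zero, Polynomial.aeval_def, Polynomial.hom_eval₂] at h0
      rw [Polynomial.aeval_def, Polynomial.eval₂_map]
      refine Eq.trans ?_ h0
      congr 1
      exact RingHom.ext fun y => hφ y
    rw [mem_separableClosure_iff]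
    refine Polynomial.Separable.of_dvd (Polynomial.Separable.map (f := Φ) (hsep : (minpoly ke (algebraMap K Ω x)).Separable)) ?_
    refine minpoly.dvd k _ ((algebraMap K Ω).injective ?_)
    rw [map_zero, ← Polynomial.aeval_algebraMap_apply, map_pow]
    exact hroot
  · intro h x hx
    let L : IntermediateField k Ω := (separableClosure ke Ω).restrictScalars k
    suffices hle : ke ⊔ IntermediateField.adjoin k (Set.range (algebraMap K Ω)) ≤ L from
      mem_separableClosure_iff.1 (hle hx)
    refine sup_le (fun y hy => ?_) (IntermediateField.adjoin_le_iff.2 ?_)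
    · exact mem_separableClosure_iff.2 (isSeparable_algebraMap (⟨y, hy⟩ : ke))
    · rintro _ ⟨a, rfl⟩
      set z := (algebraMap K Ω a) ^ q with hz
      have hzk : IsSeparable k z := by
        have h1 : (minpoly k (a ^ q)).Separable := mem_separableClosure_iff.1 (h a)
        show (minpoly k z).Separable
        rwa [hz, ← map_pow, minpoly.algebraMap_eq (algebraMap K Ω).injective]
      have hzL : z ∈ L := by
        refine mem_separableClosure_iff.2 ?_
        exact IsSeparable.tower_top ke hzk
      have hmem : ∀ w ∈ IntermediateField.adjoin k {z ^ q}, ∃ v ∈ L, v ^ q = w := by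
        intro w hw
        induction hw using IntermediateField.adjoin_induction with
        | mem w hw => exact ⟨z, hzL, (Set.mem_singleton_iff.1 hw).symm⟩
        | algebraMap r =>
          obtain ⟨v, hv⟩ := IsAlgClosed.exists_pow_nat_eq (algebraMap k Ω r) (pow_pos (Fact.out : p.Prime).pos e)
          exact ⟨v, mem_separableClosure_iff.2 (isSeparable_algebraMap
            (⟨v, IntermediateField.subset_adjoin _ _ ⟨r, hv.symm⟩⟩ : ke)), hv⟩
        | add x y _ _ hx hy =>
          obtain ⟨v, hv, rfl⟩ := hx
          obtain ⟨w, hw, rfl⟩ := hy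
          exact ⟨v + w, add_mem hv hw, add_pow_char_pow ..⟩
        | inv x _ hx =>
          obtain ⟨v, hv, rfl⟩ := hx
          exact ⟨v⁻¹, inv_mem hv, inv_pow ..⟩
        | mul x y _ _ hx hy =>
          obtain ⟨v, hv, rfl⟩ := hx
          obtain ⟨w, hw, rfl⟩ := hy
          exact ⟨v * w, mul_mem hv hw, mul_pow ..⟩
      haveI : ExpChar k p := ExpChar.prime Fact.out
      obtain ⟨v, hv, hvz⟩ := hmem z (by
        have := IntermediateField.adjoin_simple_eq_adjoin_pow_expChar_pow_of_isSeparable k Ω hzk p e
        exact this.le (IntermediateField.mem_adjoin_simple_self k z))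
      have : v = algebraMap K Ω a := iterateFrobenius_inj Ω p e hvz
      exact this ▸ hv

end Groth.Agent.S13184
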