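import Groth.Statements.S13185
import Groth.Agent.GalCohLib.Delta

set_option autoImplicit false
universe u v w x
open GalCoh

namespace Groth.Agent.S13185

/-- Let a group G act by automorphisms on groups A, B, C and let 1 → A → B → C → 1 (maps ι, π) be a
G-equivariant short exact sequence. For G-fixed elements c, c' of C, the connecting map to H¹(G, A)
takes equal values on c and c' if and only if c' = π(b) · c for some G-fixed b in B: the fibres of
the connecting map are the orbits of the fixed points of B acting on the fixed points of C by left
multiplication. (The published statement is for a Galois group acting on discrete modules; this row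
takes an arbitrary group acting on groups, which is what the argument proves.) -/
theorem result {G : Type u} {A : Type v} {B : Type w} {C : Type x}
    [Group G] [Group A] [Group B] [Group C]
    [MulDistribMulAction G A] [MulDistribMulAction G B] [MulDistribMulAction G C]
    {ι : A →* B} {π : B →* C} (h : GpH1.IsGExt G ι π)
    (c c' : MulAction.fixedPoints G C) :
    GpH1.delta0 h c = GpH1.delta0 h c' ↔
      ∃ b : B, b ∈ MulAction.fixedPoints G B ∧ (c' : C) = π b * (c : C) := by
  obtain ⟨b, hb⟩ := h.surjective c
  obtain ⟨b', hb'⟩ := h.surjective c'
  rw [Groth.Agent.GalCohLib.delta0_eq h c b hb, Groth.Agent.GalCohLib.delta0_eq h c' b' hb',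
    GpH1.OneCocycle.cl_eq_cl_iff, Groth.Agent.GalCohLib.cohom_iff, hb, hb']
  rfl

end Groth.Agent.S13185
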