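import Groth.Statements.S13186
import Groth.Agent.S11079


set_option autoImplicit false
universe u
open GalCoh

namespace Groth.Agent.S13186

/-- Let L/K be a finite Galois extension of fields, n a natural number, and B a map from the Galois
group of L over K to the invertible n × n matrices over L such that B(σ) · σ(B(τ)) = B(στ) for all
σ, τ (σ acting on matrices entrywise, στ applying τ first) and det B(σ) = 1 for every σ. Then there
is an invertible matrix A over L of determinant 1 with B(σ) = A⁻¹ · σ(A) for every σ; that is, every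
1-cocycle of the Galois group with values in SL_n(L) is the coboundary of an element of SL_n(L), so
H¹ of the Galois group with values in SL_n(L) is a point. (The published statement says that every
torsor under the special linear group over K is trivial; this row is the finite-Galois-level cocycle
form that its proof establishes.) -/
theorem result (K L : Type u) [Field K] [Field L]
    [Algebra K L] [FiniteDimensional K L] [IsGalois K L] (n : ℕ)
    (B : (L ≃ₐ[K] L) → GL (Fin n) L)
    (hB : ∀ σ τ : L ≃ₐ[K] L,
      (B σ : Matrix (Fin n) (Fin n) L) * (B τ : Matrix (Fin n) (Fin n) L).map σ =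
        (B (σ * τ) : Matrix (Fin n) (Fin n) L))
    (hdet : ∀ σ : L ≃ₐ[K] L, Matrix.det (B σ : Matrix (Fin n) (Fin n) L) = 1) :
    ∃ A : GL (Fin n) L, Matrix.det (A : Matrix (Fin n) (Fin n) L) = 1 ∧ ∀ σ : L ≃ₐ[K] L,
      (B σ : Matrix (Fin n) (Fin n) L) =
        ((A⁻¹ : GL (Fin n) L) : Matrix (Fin n) (Fin n) L) * (A : Matrix (Fin n) (Fin n) L).map σ := by
  classical
  obtain ⟨A, hA⟩ := Groth.Agent.S11079.result K L n B hB
  let c : L := Matrix.det (A : Matrix (Fin n) (Fin n) L)
  have hc : c ≠ 0 := (Matrix.isUnit_iff_isUnit_det _ |>.1 A.isUnit).ne_zero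
  have hfix : ∀ σ : L ≃ₐ[K] L, σ c = c := fun σ => by
    have h := congrArg Matrix.det (hA σ)
    rw [hdet σ, Matrix.det_mul, show (A : Matrix (Fin n) (Fin n) L).map σ =
      (σ.toRingEquiv.toRingHom).mapMatrix (A : Matrix (Fin n) (Fin n) L) from rfl, ← RingHom.map_det] at h
    have hi : Matrix.det ((A⁻¹ : GL (Fin n) L) : Matrix (Fin n) (Fin n) L) * c = 1 := by
      rw [← Matrix.det_mul, ← Units.val_mul, inv_mul_cancel, Units.val_one, Matrix.det_one]
    exact (mul_left_cancel₀ (left_ne_zero_of_mul_eq_one hi) (hi.trans h)).symm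
  rcases Nat.eq_zero_or_pos n with hn | hn
  · subst hn
    exact ⟨A, Matrix.det_isEmpty, hA⟩
  let D : GL (Fin n) L := (Matrix.GeneralLinearGroup.mkOfDetNeZero
    (Matrix.diagonal fun i : Fin n => if i = ⟨0, hn⟩ then c⁻¹ else 1) (by simp [Matrix.det_diagonal, hc]))
  refine ⟨D * A, ?_, fun σ => ?_⟩
  · rw [Units.val_mul, Matrix.det_mul]
    show Matrix.det (Matrix.diagonal _) * c = 1
    rw [Matrix.det_diagonal, Finset.prod_ite_eq']
    simp [hc]
  · have hD : (D : Matrix (Fin n) (Fin n) L).map σ = D := by
      show (Matrix.diagonal _).map σ = Matrix.diagonal _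
      rw [Matrix.diagonal_map (map_zero σ)]
      congr 1
      funext i
      split <;> simp [map_inv₀, hfix σ]
    rw [Units.val_mul, show ∀ P Q : Matrix (Fin n) (Fin n) L, (P * Q).map σ = P.map σ * Q.map σ from
      fun P Q => map_mul (σ.toRingEquiv.toRingHom).mapMatrix P Q, mul_inv_rev, Units.val_mul]
    rw [hD, mul_assoc, ← mul_assoc ((D⁻¹ : GL (Fin n) L) : Matrix (Fin n) (Fin n) L),
      ← Units.val_mul, inv_mul_cancel, Units.val_one, one_mul]
    exact hA σ

end Groth.Agent.S13186
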