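import Groth.Statements.S13188
import Groth.Agent.BrauerClassLib.RedNormSep
-- import your own Groth.Agent.* helpers here

set_option autoImplicit false
universe u v w
open Brauer

namespace Groth.Agent.S13188

/-- Let K be a field with property C_2 for systems of forms and D a finite-dimensional central division
algebra over K with dim_K D = d². Let N : D → K be multiplicative, a reduced norm of D over K, and
given in the coordinates of a K-basis b of D by a homogeneous polynomial F of degree d, i.e. N(Σ x_i
b_i) = F(x) for every coordinate vector x (the reduced norm of a central simple algebra of dimension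
d² is such a polynomial map of degree d; these data record it). Then N : D → K is surjective. -/
theorem result (K : Type u) [Field K] (hK : Curves.IsCi K 2)
    (D : Type v) [DivisionRing D] [Algebra K D] [Algebra.IsCentral K D] [FiniteDimensional K D]
    (d : ℕ) (hd : Module.finrank K D = d ^ 2)
    (N : D →* K) (hN : CSAGal.IsRedNorm K D N)
    {ι : Type w} [Fintype ι] (b : Module.Basis ι K D)
    (F : MvPolynomial ι K) (hF : F.IsHomogeneous d)
    (hNF : ∀ x : ι → K, N (∑ i, x i • b i) = MvPolynomial.eval x F) :
    Function.Surjective N := by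
  classical
  intro c
  by_cases hc : c = 0
  · obtain ⟨n, hn⟩ := Groth.Agent.BrauerClassLib.RedNorm.exists_sq (k := K) D
    obtain ⟨f⟩ := Groth.Agent.BrauerClassLib.RedNorm.exists_split (k := K) (A := D) hn
    refine ⟨0, ?_⟩
    apply (algebraMap K (AlgebraicClosure K)).injective
    rw [Groth.Agent.BrauerClassLib.RedNorm.redNorm_det hn hN f, map_zero, hc, map_zero]
    haveI : Nonempty (Fin n) := ⟨⟨0, Groth.Agent.BrauerClassLib.RedNorm.deg_pos hn⟩⟩
    exact Matrix.det_zero
  have hd0 : 0 < d := Groth.Agent.BrauerClassLib.RedNorm.deg_pos hd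
  let e := (Fintype.equivFin ι)
  have hcard : Fintype.card ι = d ^ 2 := by rw [← hd, Module.finrank_eq_card_basis b]
  let g : Option ι ≃ Fin (Fintype.card (Option ι)) := Fintype.equivFin _
  let G : MvPolynomial (Fin (Fintype.card (Option ι))) K :=
    MvPolynomial.rename (fun i => g (some i)) F - MvPolynomial.C c * MvPolynomial.X (g none) ^ d
  have hG : G.IsHomogeneous d := by
    refine hF.rename_isHomogeneous.sub ?_
    simpa using (MvPolynomial.isHomogeneous_C (Fin (Fintype.card (Option ι))) c).mul
      ((MvPolynomial.isHomogeneous_X K (g none)).pow d)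
  obtain ⟨a, ha, haG⟩ := hK 1 (Fintype.card (Option ι)) (fun _ => G) (fun _ => d) (fun _ => hG) (fun _ => hd0) (by
    simp [Fintype.card_option, hcard])
  have h0 := haG 0
  simp only [G, map_sub, MvPolynomial.eval_rename, map_mul, map_pow, MvPolynomial.eval_C, MvPolynomial.eval_X,
    sub_eq_zero] at h0
  let v : D := ∑ i, a (g (some i)) • b i
  have hv : N v = c * a (g none) ^ d := by rw [hNF]; exact h0
  by_cases ht : a (g none) = 0
  · rw [ht, zero_pow hd0.ne', mul_zero] at hv
    have hv0 : v = 0 := by
      by_contra h
      exact ((isUnit_iff_ne_zero.2 h).map N).ne_zero hv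
    refine absurd (funext fun z => ?_) ha
    obtain ⟨o, rfl⟩ := g.surjective z
    cases o with
    | none => exact ht
    | some i => exact Fintype.linearIndependent_iff.1 b.linearIndependent _ hv0 i
  · refine ⟨(a (g none))⁻¹ • v, ?_⟩
    have hs : ∀ r : K, N (r • v) = r ^ d * N v := fun r => by
      have h1 : r • v = ∑ i, (r * a (g (some i))) • b i := by simp [v, Finset.smul_sum, smul_smul]
      rw [h1, hNF, show v = ∑ i, a (g (some i)) • b i from rfl, hNF]
      rw [MvPolynomial.eval_eq, MvPolynomial.eval_eq, Finset.mul_sum]
      refine Finset.sum_congr rfl fun m hm => ?_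
      have hdeg : ∑ i ∈ m.support, m i = d := by
        have := hF (MvPolynomial.mem_support_iff.1 hm)
        simpa [Finsupp.weight_apply, Finsupp.sum] using this
      rw [Finset.prod_congr rfl fun i _ => mul_pow r (a (g (some i))) (m i), Finset.prod_mul_distrib,
        Finset.prod_pow_eq_pow_sum, hdeg]
      ring
    rw [hs, hv, inv_pow, mul_left_comm, inv_mul_cancel₀ (pow_ne_zero _ ht), mul_one]

end Groth.Agent.S13188
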