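import Groth.Statements.S13191
import Mathlib.Tactic.Group

set_option autoImplicit false
universe u v w x
open GalCoh

namespace Groth.Agent.S13191

/-- Let a group G act by automorphisms on a group A, and let E and E' each be a G-equivariant right
A-torsor (a set with a simply transitive right action of A, written m ↦ m·a, and a left action of G
with g(m·a) = (gm)·(ga)). Let m ∈ E and m' ∈ E' be points with attached maps a, a' : G → A (g·m =
m·a(g) and g·m' = m'·a'(g) for all g). Then there is a bijection E ≃ E' commuting with the actions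
of G and of A if and only if a and a' are cohomologous. (The published statement is for a Galois
group acting on discrete modules; this row takes an arbitrary group acting on a group.) -/
theorem result {G : Type u} {A : Type v} {E : Type w} {E' : Type x}
    [Group G] [Group A] [MulDistribMulAction G A]
    [MulAction G E] [MulAction Aᵐᵒᵖ E]
    (hfree : ∀ m₁ m₂ : E, ∃! a : A, m₂ = MulOpposite.op a • m₁)
    (hcompat : ∀ (g : G) (a : A) (m : E), g • (MulOpposite.op a • m) = MulOpposite.op (g • a) • g • m)
    [MulAction G E'] [MulAction Aᵐᵒᵖ E']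
    (hfree' : ∀ m₁ m₂ : E', ∃! a : A, m₂ = MulOpposite.op a • m₁)
    (hcompat' : ∀ (g : G) (a : A) (m : E'), g • (MulOpposite.op a • m) = MulOpposite.op (g • a) • g • m)
    (m : E) (a : G → A) (ha : ∀ g : G, g • m = MulOpposite.op (a g) • m)
    (m' : E') (a' : G → A) (ha' : ∀ g : G, g • m' = MulOpposite.op (a' g) • m') :
    (∃ f : E ≃ E', (∀ (g : G) (e : E), f (g • e) = g • f e) ∧
        ∀ (b : A) (e : E), f (MulOpposite.op b • e) = MulOpposite.op b • f e) ↔
      GpH1.Cohomologous a a' := by
  have cancel : ∀ (x y : A) (n : E'), MulOpposite.op x • n = MulOpposite.op y • n → x = y := fun x y n h =>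
    (hfree' n (MulOpposite.op x • n)).unique rfl h
  have act : ∀ (x y : A) (n : E'), MulOpposite.op x • MulOpposite.op y • n = MulOpposite.op (y * x) • n := fun x y n => by
    rw [smul_smul, ← MulOpposite.op_mul]
  constructor
  · rintro ⟨f, hg, hA⟩
    obtain ⟨c, hc, -⟩ := hfree' m' (f m)
    refine ⟨c, fun σ => ?_⟩
    have h1 := hg σ m
    rw [ha, hA, hc, hcompat', ha', act, act] at h1
    rw [show a σ = c⁻¹ * (c * a σ) by group, cancel _ _ _ h1]; group
  · rintro ⟨c, hc⟩
    choose r hr hr' using fun e : E => hfree m e
    refine ⟨Equiv.ofBijective (fun e => MulOpposite.op (c * r e) • m') ⟨fun e e' h => ?_, fun n => ?_⟩, fun g e => ?_, fun b e => ?_⟩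
    · rw [hr e, hr e', mul_left_cancel (cancel _ _ _ h)]
    · obtain ⟨d, hd, -⟩ := hfree' m' n
      refine ⟨MulOpposite.op (c⁻¹ * d) • m, ?_⟩
      simp only
      rw [← hr' (MulOpposite.op (c⁻¹ * d) • m) (c⁻¹ * d) rfl, hd]; group
    · show MulOpposite.op (c * r (g • e)) • m' = g • MulOpposite.op (c * r e) • m'
      have : r (g • e) = a g * g • r e := (hr' (g • e) _ (by
        show g • e = MulOpposite.op (a g * g • r e) • m
        conv_lhs => rw [hr e]
        rw [hcompat, ha, smul_smul, ← MulOpposite.op_mul])).symm
      rw [this, hcompat', ha', act, hc, smul_mul']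
      congr 2; group
    · show MulOpposite.op (c * r (MulOpposite.op b • e)) • m' = MulOpposite.op b • MulOpposite.op (c * r e) • m'
      have : r (MulOpposite.op b • e) = r e * b := (hr' (MulOpposite.op b • e) _ (by
        show MulOpposite.op b • e = MulOpposite.op (r e * b) • m
        conv_lhs => rw [hr e]
        rw [smul_smul, ← MulOpposite.op_mul])).symm
      rw [this, act, mul_assoc]

end Groth.Agent.S13191
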