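import Groth.Statements.S13192
import Mathlib.Tactic.Group

set_option autoImplicit false
universe u v
open GalCoh

namespace Groth.Agent.S13192

/-- Let a group G act by automorphisms on a group A and let a : G → A be a 1-cocycle. Then there exist a
G-equivariant right A-torsor E (a set with a simply transitive right action of A, written m ↦ m·a,
and a left action of G with g(m·a) = (gm)·(ga)) and a point m of E whose attached map is a, i.e. g·m
= m·a(g) for every g in G. (E is taken in the universe of A. The published statement is for a Galois
group acting on discrete modules; this row takes an arbitrary group acting on a group.) -/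
theorem result {G : Type u} {A : Type v}
    [Group G] [Group A] [MulDistribMulAction G A] (a : G → A) (ha : GpH1.IsOneCocycle a) :
    ∃ (E : Type v) (_ : MulAction G E) (_ : MulAction Aᵐᵒᵖ E) (m : E),
      (∀ m₁ m₂ : E, ∃! b : A, m₂ = MulOpposite.op b • m₁) ∧
      (∀ (g : G) (b : A) (e : E), g • (MulOpposite.op b • e) = MulOpposite.op (g • b) • g • e) ∧
      ∀ g : G, g • m = MulOpposite.op (a g) • m := by
  have h1 : a 1 = 1 := by have := ha 1 1; simpa using this
  refine ⟨A,
    { smul := fun g e => a g * g • e
      one_smul := fun e => show a 1 * (1 : G) • e = e by rw [h1, one_mul, one_smul]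
      mul_smul := fun g g' e => show a (g * g') * (g * g') • e = a g * g • (a g' * g' • e) by
        rw [ha g g', smul_mul', mul_smul, mul_assoc] },
    { smul := fun b e => e * b.unop
      one_smul := fun e => mul_one e
      mul_smul := fun b b' e => show e * (b * b').unop = e * b'.unop * b.unop by rw [MulOpposite.unop_mul, mul_assoc] },
    (1 : A), fun m₁ m₂ => ⟨m₁⁻¹ * m₂, show m₂ = m₁ * (m₁⁻¹ * m₂) by group, fun b hb => by rw [show m₂ = m₁ * b from hb]; group⟩,
    fun g b e => show a g * g • (e * b) = a g * g • e * g • b by rw [smul_mul', mul_assoc],
    fun g => show a g * g • (1 : A) = 1 * a g by rw [smul_one, one_mul, mul_one]⟩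

end Groth.Agent.S13192
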