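import Groth.Statements.S13194
import Mathlib
-- import your own Groth.Agent.* helpers here

set_option autoImplicit false
universe u
open GalCoh

namespace Groth.Agent.S13194

/-- Let K be a field of characteristic p > 0, L a separable closure of K, and χ a locally constant map
from the automorphism group of L over K (Krull topology) to Z/pZ with χ(στ) = χ(σ) + χ(τ) for all σ,
τ — a continuous 1-cocycle for the trivial action. Then there is an element x of L with x^p − x in K
such that σ(x) − x equals χ(σ), read in the prime field of L, for every σ. Together with the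
elementary facts that σ ↦ σ(x) − x is such a cocycle for every x with x^p − x in K and vanishes
exactly when x lies in K, this identifies the first continuous cohomology group of the absolute
Galois group of K with coefficients Z/pZ with K/℘(K), ℘(y) = y^p − y. -/
theorem result (p : ℕ) [Fact p.Prime]
    (K L : Type u) [Field K] [Field L] [Algebra K L] [CharP K p] [IsSepClosure K L]
    (χ : (L ≃ₐ[K] L) → ZMod p) (hχ : ∀ σ τ : L ≃ₐ[K] L, χ (σ * τ) = χ σ + χ τ)
    (hlc : IsLocallyConstant χ) :
    ∃ x : L, x ^ p - x ∈ Set.range (algebraMap K L) ∧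
      ∀ σ : L ≃ₐ[K] L, σ x - x = ((χ σ).val : L) := by
  classical
  haveI : IsGalois K L := IsSepClosure.isGalois
  haveI : CharP L p := charP_of_injective_algebraMap (algebraMap K L).injective p
  haveI : NeZero p := ⟨(Fact.out : p.Prime).ne_zero⟩
  let c : ZMod p →+* L := ZMod.castHom dvd_rfl L
  have h1 : χ 1 = 0 := by simpa using hχ 1 1
  have hnhds : {σ : L ≃ₐ[K] L | χ σ = 0} ∈ nhds (1 : L ≃ₐ[K] L) := (hlc.isOpen_fiber 0).mem_nhds h1
  obtain ⟨E, hfin, hnor, hE⟩ := (krullTopology_mem_nhds_one_iff_of_normal K L _).mp hnhds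
  haveI : IsGalois K E := ⟨⟩
  choose s hs using AlgEquiv.restrictNormalHom_surjective (F := K) (K₁ := E) L
  have hfac : ∀ σ : L ≃ₐ[K] L, χ σ = χ (s (AlgEquiv.restrictNormalHom E σ)) := by
    intro σ
    have hmem : σ⁻¹ * s (AlgEquiv.restrictNormalHom E σ) ∈ E.fixingSubgroup := by
      rw [IntermediateField.mem_fixingSubgroup_iff]
      refine (AlgEquiv.restrictNormal_eq_one_iff E _).mp ?_
      show AlgEquiv.restrictNormalHom E _ = 1
      rw [map_mul, map_inv, hs, inv_mul_cancel]
    have h := hχ σ (σ⁻¹ * s (AlgEquiv.restrictNormalHom E σ))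
    rw [mul_inv_cancel_left, show χ (σ⁻¹ * s (AlgEquiv.restrictNormalHom E σ)) = 0 from hE hmem,
      add_zero] at h
    exact h.symm
  let f : (E ≃ₐ[K] E) → L := fun g => c (χ (s g))
  obtain ⟨θ, hθ⟩ := Algebra.trace_surjective K E 1
  have hsum : ∑ g : (E ≃ₐ[K] E), ((g θ : E) : L) = 1 := by
    have h := trace_eq_sum_automorphisms (K := K) θ
    rw [hθ, map_one] at h
    have h' := congrArg (fun z : E => (z : L)) h
    simpa using h'.symm
  let x : L := -∑ g : (E ≃ₐ[K] E), f g * ((g θ : E) : L)
  have hσc : ∀ (σ : L ≃ₐ[K] L) (z : ZMod p), σ (c z) = c z := fun σ z => by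
    rw [← ZMod.natCast_zmod_val z, map_natCast, map_natCast]
  have hact : ∀ σ : L ≃ₐ[K] L, σ x - x = c (χ σ) := by
    intro σ
    set r := AlgEquiv.restrictNormalHom E σ with hr
    have e1 : σ (∑ g : (E ≃ₐ[K] E), f g * ((g θ : E) : L)) =
        ∑ g : (E ≃ₐ[K] E), (f (r * g) - c (χ σ)) * (((r * g) θ : E) : L) := by
      rw [map_sum]
      refine Finset.sum_congr rfl fun g _ => ?_
      rw [map_mul, hσc, AlgEquiv.mul_apply, hr, AlgEquiv.restrictNormalHom_apply]
      congr 1
      show _ = c (χ (s (r * g))) - c (χ σ)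
      have h2 : χ (s (r * g)) = χ σ + χ (s g) := by
        have h3 := hfac (σ * s g)
        rw [map_mul, hs, ← hr, hχ] at h3
        exact h3.symm
      rw [h2, map_add, add_sub_cancel_left]
    have e2 : ∑ g : (E ≃ₐ[K] E), (f (r * g) - c (χ σ)) * (((r * g) θ : E) : L) =
        ∑ g : (E ≃ₐ[K] E), (f g - c (χ σ)) * ((g θ : E) : L) :=
      Fintype.sum_equiv (Equiv.mulLeft r) _ _ fun _ => rfl
    simp only [x, map_neg]
    rw [e1, e2]
    simp only [sub_mul, Finset.sum_sub_distrib, ← Finset.mul_sum, hsum, mul_one]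
    ring
  have hcast : ∀ z : ZMod p, c z = ((z.val : ℕ) : L) := fun z => by
    conv_lhs => rw [← ZMod.natCast_zmod_val z]
    rw [map_natCast]
  refine ⟨x, (InfiniteGalois.mem_range_algebraMap_iff_fixed _).mpr fun σ => ?_, fun σ => ?_⟩
  · have h : σ x = x + c (χ σ) := by rw [← hact σ]; ring
    rw [map_sub, map_pow, h, add_pow_char, ← map_pow, ZMod.pow_card]
    ring
  · rw [hact σ, hcast]

end Groth.Agent.S13194
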