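import Groth.Statements.S13195
import Groth.Agent.GrpCohLib.Descent
import Mathlib.RepresentationTheory.Homological.GroupCohomology.Hilbert90
-- import your own Groth.Agent.* helpers here

set_option autoImplicit false
set_option backward.isDefEq.respectTransparency false
universe u
open GalCoh

namespace Groth.Agent.S13195

/-- Let K be a field and L a separable closure of K. Every map a from the automorphism group of L over K
to the units of L which is locally constant for the Krull topology and satisfies the 1-cocycle
identity a(στ) = a(σ) · σ(a(τ)) for all σ, τ has the form a(σ) = c⁻¹ · σ(c) for a single unit c of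
L; that is, the first cohomology set of the absolute Galois group of K with continuous cochains and
values in the multiplicative group of the separable closure is reduced to its base point. (The
finite-level statement for a finite Galois extension is the classical Hilbert 90; this row is the
statement for the absolute Galois group.) -/
theorem result (K L : Type u) [Field K] [Field L]
    [Algebra K L] [IsSepClosure K L] (a : (L ≃ₐ[K] L) → Lˣ)
    (ha : ∀ σ τ : L ≃ₐ[K] L, a (σ * τ) = a σ * σ • a τ) (hlc : IsLocallyConstant a) :
    ∃ c : Lˣ, ∀ σ : L ≃ₐ[K] L, a σ = c⁻¹ * σ • c := by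
  have h1 : a 1 = 1 := by
    have := ha 1 1
    rwa [one_mul, one_smul, left_eq_mul] at this
  obtain ⟨E, _, _, hfac, hfix⟩ := Groth.Agent.GrpCohLib.exists_level a ha h1 hlc fun σ => Units.ext (map_one σ)
  choose s hs using AlgEquiv.restrictNormalHom_surjective (F := K) (K₁ := E) L
  have hmem : ∀ σ, (a σ : L) ∈ E := fun σ => Groth.Agent.GrpCohLib.mem_of_fixed fun h hh => congrArg Units.val (hfix σ h hh)
  let f : (E ≃ₐ[K] E) → Eˣ := fun g => Units.mk0 ⟨a (s g), hmem _⟩ fun h => (a (s g)).ne_zero (congrArg Subtype.val h)
  have hf : groupCohomology.IsMulCocycle₁ f := fun g h => Units.ext (Subtype.ext (by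
    have e : AlgEquiv.restrictNormalHom E (s (g * h)) = AlgEquiv.restrictNormalHom E (s g * s h) := by
      rw [map_mul, hs, hs, hs]
    show (a (s (g * h)) : L) = (g ⟨a (s h), hmem _⟩ : E) * (a (s g) : L)
    rw [hfac _ _ e, ha, Units.val_mul, mul_comm]
    congr 1
    conv_rhs => rw [← hs g]
    exact Eq.trans (rfl : _ = s g (a (s h) : L)) (AlgEquiv.restrictNormalHom_apply E (s g) ⟨_, hmem _⟩).symm))
  obtain ⟨β, hβ⟩ := groupCohomology.isMulCoboundary₁_of_isMulCocycle₁_of_aut_to_units f hf
  refine ⟨Units.map (algebraMap E L) β, fun σ => ?_⟩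
  have h2 := congrArg (fun u : Eˣ => ((u : E) : L)) (hβ (AlgEquiv.restrictNormalHom E σ))
  have h3 : a σ = a (s (AlgEquiv.restrictNormalHom E σ)) := hfac _ _ (hs _).symm
  refine Units.ext ?_
  rw [h3, ← div_eq_inv_mul, Units.val_div_eq_div_val]
  simp only [Units.val_div_eq_div_val] at h2
  refine h2.symm.trans ?_
  show ((AlgEquiv.restrictNormalHom E σ (β : E) : E) : L) / ((β : E) : L) = σ ((β : E) : L) / ((β : E) : L)
  rw [AlgEquiv.restrictNormalHom_apply]

end Groth.Agent.S13195
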