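import Groth.Statements.S13196
import Groth.Agent.GrpCohLib.Descent
import Mathlib.RingTheory.Trace.Basic
-- import your own Groth.Agent.* helpers here

set_option autoImplicit false
set_option backward.isDefEq.respectTransparency false
universe u
open GalCoh

namespace Groth.Agent.S13196

/-- Let K be a field and L a separable closure of K. Every map a from the automorphism group of L over K
to L which is locally constant for the Krull topology and satisfies a(στ) = a(σ) + σ(a(τ)) for all
σ, τ is of the form a(σ) = σ(y) − y for a single y in L. (The published statement asserts vanishing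
in every positive degree; this row is the degree-one statement for the absolute Galois group with
continuous cochains.) -/
theorem result (K L : Type u) [Field K] [Field L] [Algebra K L]
    [IsSepClosure K L] (a : (L ≃ₐ[K] L) → L)
    (ha : ∀ σ τ : L ≃ₐ[K] L, a (σ * τ) = a σ + σ (a τ)) (hlc : IsLocallyConstant a) :
    ∃ y : L, ∀ σ : L ≃ₐ[K] L, a σ = σ y - y := by
  let a' : (L ≃ₐ[K] L) → Multiplicative L := fun σ => Multiplicative.ofAdd (a σ)
  letI : MulAction (L ≃ₐ[K] L) (Multiplicative L) :=
    { smul := fun σ x => Multiplicative.ofAdd (σ x.toAdd)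
      one_smul := fun x => rfl
      mul_smul := fun σ τ x => rfl }
  have h1 : a 1 = 0 := by
    have := ha 1 1
    rwa [one_mul, AlgEquiv.one_apply, left_eq_add] at this
  obtain ⟨E, _, _, hfac, hfix⟩ := Groth.Agent.GrpCohLib.exists_level a' (fun σ τ => congrArg Multiplicative.ofAdd (ha σ τ))
    (congrArg Multiplicative.ofAdd h1) (hlc.comp _) fun σ => congrArg Multiplicative.ofAdd (map_zero σ)
  have hmem : ∀ σ, a σ ∈ E := fun σ => Groth.Agent.GrpCohLib.mem_of_fixed fun h hh => congrArg Multiplicative.toAdd (hfix σ h hh)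
  have hfac' : ∀ σ τ : L ≃ₐ[K] L, AlgEquiv.restrictNormalHom E σ = AlgEquiv.restrictNormalHom E τ → a σ = a τ :=
    fun σ τ h => congrArg Multiplicative.toAdd (hfac σ τ h)
  choose s hs using AlgEquiv.restrictNormalHom_surjective (F := K) (K₁ := E) L
  haveI : Algebra.IsSeparable K E := Algebra.isSeparable_tower_bot_of_isSeparable K E L
  haveI : IsGalois K E := ⟨⟩
  haveI := Fintype.ofFinite (E ≃ₐ[K] E)
  obtain ⟨c, hc⟩ := Algebra.trace_surjective K E 1
  let y : L := -∑ g : E ≃ₐ[K] E, a (s g) * ((g c : E) : L)
  refine ⟨y, fun σ => ?_⟩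
  let r := AlgEquiv.restrictNormalHom E σ
  have hsum : ∑ g : E ≃ₐ[K] E, ((g c : E) : L) = 1 := by
    have h2 := congrArg (algebraMap K E) hc
    rw [trace_eq_sum_automorphisms, map_one] at h2
    rw [← AddSubmonoidClass.coe_finsetSum]
    convert congrArg (algebraMap E L) h2 using 1
    · exact congrArg Subtype.val (Finset.sum_congr (by apply Finset.ext; intro x; simp) fun _ _ => rfl)
    · exact (map_one _).symm
  have hterm : ∀ g : E ≃ₐ[K] E, σ (a (s g) * ((g c : E) : L)) =
      a (s (r * g)) * (((r * g) c : E) : L) - a σ * (((r * g) c : E) : L) := fun g => by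
    rw [map_mul, ← sub_mul, hfac' (s (r * g)) (σ * s g) (by rw [map_mul, hs, hs]), ha, add_sub_cancel_left]
    congr 1
    exact (AlgEquiv.restrictNormalHom_apply E σ (g c)).symm
  simp only [y, map_neg, map_sum, hterm, Finset.sum_sub_distrib, ← Finset.mul_sum]
  rw [Fintype.sum_equiv (Equiv.mulLeft r) (fun g => a (s (r * g)) * (((r * g) c : E) : L))
      (fun g => a (s g) * ((g c : E) : L)) fun g => rfl,
    Fintype.sum_equiv (Equiv.mulLeft r) (fun g => (((r * g) c : E) : L)) (fun g => ((g c : E) : L)) fun g => rfl, hsum]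
  ring

end Groth.Agent.S13196
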