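import Mathlib
import Groth.Agent.ArtinApproxLib.GRing
import Groth.Agent.CMCat.ComplQuot
import Groth.Statements.S13200

set_option autoImplicit false
universe u
open Hensel

namespace Groth.Agent.S13200

/-- Let R be an excellent local ring which is strictly henselian (henselian with separably closed
residue field), and let R^ denote its completion at the maximal ideal. An element Δ of R is a prime
element of R exactly when its image in R^ is a prime element of R^. -/
theorem result
    (R : Type u) [CommRing R] [HenselianLocalRing R] [IsSepClosed (IsLocalRing.ResidueField R)]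
    (hR : EGA4.IsExcellent R) (Δ : R) :
    Prime Δ ↔ Prime (algebraMap R (AdicCompletion (IsLocalRing.maximalIdeal R) R) Δ) := by
  classical
  haveI : IsNoetherianRing R := hR.1
  haveI := RegLocal.isNoetherianRing_completion R (IsLocalRing.maximalIdeal R)
  have hreg := GRingCompleteLib.isRegularHom_adicCompletion R hR.2.2.1 (IsLocalRing.maximalIdeal R)
  haveI := hreg.1
  let M := (IsLocalRing.maximalIdeal R).map (algebraMap R (AdicCompletion (IsLocalRing.maximalIdeal R) R))
  haveI hM : M.IsMaximal := ArtinApproxLib.map_maximalIdeal_isMaximal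
  haveI : IsAdicComplete M (AdicCompletion (IsLocalRing.maximalIdeal R) R) :=
    AdicCompletion.isAdicComplete_self _ (IsLocalRing.maximalIdeal R).fg_of_isNoetherianRing
  haveI : IsLocalRing (AdicCompletion (IsLocalRing.maximalIdeal R) R) :=
    IsLocalRing.of_unique_max_ideal ⟨M, hM, fun M' hM' => (hM.eq_of_le hM'.ne_top
      ((IsAdicComplete.le_jacobson_bot M).trans (sInf_le ⟨bot_le, hM'⟩))).symm⟩
  haveI : IsLocalHom (algebraMap R (AdicCompletion (IsLocalRing.maximalIdeal R) R)) :=
    ((IsLocalRing.local_hom_TFAE _).out 0 2 rfl rfl).mpr (le_of_eq (IsLocalRing.eq_maximalIdeal hM))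
  haveI : Module.FaithfullyFlat R (AdicCompletion (IsLocalRing.maximalIdeal R) R) :=
    Module.FaithfullyFlat.of_flat_of_isLocalHom
  have hdvd : ∀ a : R, algebraMap R (AdicCompletion (IsLocalRing.maximalIdeal R) R) Δ ∣ algebraMap R _ a → Δ ∣ a := by
    intro a ha
    rw [← Ideal.mem_span_singleton, ← Set.image_singleton, ← Ideal.map_span, ← Ideal.mem_comap,
      Ideal.comap_map_eq_self_of_faithfullyFlat] at ha
    exact Ideal.mem_span_singleton.1 ha
  constructor
  · rintro ⟨h0, hu, hp⟩
    refine ⟨fun h => h0 ?_, fun h => hu (IsUnit.of_map _ Δ h), fun a b hab => ?_⟩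
    · exact FaithfulSMul.algebraMap_injective R (AdicCompletion (IsLocalRing.maximalIdeal R) R) (h.trans (map_zero _).symm)
    by_contra hcon
    rw [not_or] at hcon
    let K : Ideal (AdicCompletion (IsLocalRing.maximalIdeal R) R) := Ideal.span {algebraMap R _ Δ}
    have hK : K ≠ ⊤ := fun h => hu (IsUnit.of_map (algebraMap R _) Δ (Ideal.span_singleton_eq_top.1 h))
    have hN : ∀ x, ¬ algebraMap R (AdicCompletion (IsLocalRing.maximalIdeal R) R) Δ ∣ x →
        ∃ n : ℕ, x ∉ K ⊔ M ^ n := fun x hx => by
      by_contra h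
      push_neg at h
      exact hx (Ideal.mem_span_singleton.1 (CMCat.mem_of_forall_mem_sup_pow hK hM.ne_top h))
    obtain ⟨na, hna⟩ := hN a hcon.1
    obtain ⟨nb, hnb⟩ := hN b hcon.2
    obtain ⟨c, hc⟩ := hab
    let F : Fin 1 → MvPolynomial (Fin 3) R := fun _ =>
      MvPolynomial.X 0 * MvPolynomial.X 1 - MvPolynomial.C Δ * MvPolynomial.X 2
    obtain ⟨s, hs, hsa⟩ := ArtinApproxLib.exists_approx (IsLocalRing.maximalIdeal R) hreg F ![a, b, c]
      (fun _ => by simp [F, hc]) (max na nb)
    have hs0 : s 0 * s 1 = Δ * s 2 := by simpa [F, sub_eq_zero] using hs 0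
    rcases hp (s 0) (s 1) ⟨s 2, hs0⟩ with h | h
    · refine hna ?_
      have h1 : a - algebraMap R _ (s 0) ∈ M ^ na := Ideal.pow_le_pow_right (le_max_left na nb) (by
        rw [show M ^ max na nb = _ from (Ideal.map_pow _ _ _).symm]; simpa using hsa 0)
      simpa using add_mem (Ideal.mem_sup_right (S := K) h1)
        (Ideal.mem_sup_left (T := M ^ na) (Ideal.mem_span_singleton.2 (map_dvd (algebraMap R _) h) : algebraMap R _ (s 0) ∈ K))
    · refine hnb ?_
      have h1 : b - algebraMap R _ (s 1) ∈ M ^ nb := Ideal.pow_le_pow_right (le_max_right na nb) (by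
        rw [show M ^ max na nb = _ from (Ideal.map_pow _ _ _).symm]; simpa using hsa 1)
      simpa using add_mem (Ideal.mem_sup_right (S := K) h1)
        (Ideal.mem_sup_left (T := M ^ nb) (Ideal.mem_span_singleton.2 (map_dvd (algebraMap R _) h) : algebraMap R _ (s 1) ∈ K))
  · rintro ⟨h0, hu, hp⟩
    exact ⟨fun h => h0 (by rw [h, map_zero]), fun h => hu (h.map _), fun a b hab =>
      (hp _ _ (by rw [← map_mul]; exact map_dvd _ hab)).imp (hdvd a) (hdvd b)⟩

end Groth.Agent.S13200
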