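import Groth.Statements.S13201
import Groth.Agent.NodeSeriesLib.Basic
import Groth.Agent.NodeSeriesLib.Content
import Groth.Agent.NodeSeriesLib.Fibral
import Groth.Agent.NodeSeriesLib.Poly
import Groth.Agent.NodeSeriesLib.UFD
import Groth.Agent.RegLocal.UFD

set_option autoImplicit false
universe u
open CAlg

namespace Groth.Agent.S13201

open IsLocalRing Groth.Agent.NodeSeriesLib in
/-- Products of two series without constant term modulo the maximal ideal have no linear term. -/
lemma coeff_single_mem {R : Type u} [CommRing R] [IsLocalRing R] (F G : MvPowerSeries (Fin 2) R)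
    (hF : MvPowerSeries.constantCoeff F ∈ maximalIdeal R) (hG : MvPowerSeries.constantCoeff G ∈ maximalIdeal R) :
    MvPowerSeries.coeff (Finsupp.single (0 : Fin 2) 1) (F * G) ∈ maximalIdeal R := by
  classical
  rw [MvPowerSeries.coeff_mul, Finsupp.antidiagonal_single, Finset.sum_map]
  refine Ideal.sum_mem _ fun x hx => ?_
  rw [Finset.HasAntidiagonal.mem_antidiagonal] at hx
  rcases Nat.eq_zero_or_pos x.1 with h | h
  · simp only [Function.Embedding.prodMap, Function.Embedding.coeFn_mk, Prod.map]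
    rw [h, Finsupp.single_zero]
    exact Ideal.mul_mem_right _ _ (by simpa using hF)
  · simp only [Function.Embedding.prodMap, Function.Embedding.coeFn_mk, Prod.map]
    rw [show x.2 = 0 by omega, Finsupp.single_zero]
    exact Ideal.mul_mem_left _ _ (by simpa using hG)

open MvPowerSeries in
/-- Let R be a complete regular local ring and Δ an element of the maximal ideal of R. The quotient of
the power series ring R[[u,v]] in two variables by the ideal generated by uv − Δ is an integral
domain with unique factorization exactly when Δ is a prime element of R. -/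
theorem result
    (R : Type u) [CommRing R] [IsRegularLocalRing R] [IsAdicComplete (IsLocalRing.maximalIdeal R) R]
    (Δ : R) (hΔ : Δ ∈ IsLocalRing.maximalIdeal R) :
    (IsDomain (MvPowerSeries (Fin 2) R ⧸ Ideal.span {(X 0 * X 1 - C Δ : MvPowerSeries (Fin 2) R)}) ∧
      UniqueFactorizationMonoid (MvPowerSeries (Fin 2) R ⧸ Ideal.span {(X 0 * X 1 - C Δ : MvPowerSeries (Fin 2) R)}))
      ↔ Prime Δ := by
  classical
  have : IsDomain R := Groth.Agent.RegLocal.isDomain R
  have : UniqueFactorizationMonoid R := Groth.Agent.RegLocal.ufd R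
  refine ⟨fun ⟨hdom, hufd⟩ => ?_, fun h => NodeSeriesLib.ufd_seriesModel h⟩
  set mk := Ideal.Quotient.mk (Ideal.span {(X 0 * X 1 - C Δ : MvPowerSeries (Fin 2) R)}) with hmk
  have hlin : ∀ z ∈ Ideal.span {(X 0 * X 1 - C Δ : MvPowerSeries (Fin 2) R)},
      coeff (Finsupp.single (0 : Fin 2) 1) z ∈ IsLocalRing.maximalIdeal R := by
    intro z hz
    obtain ⟨w, rfl⟩ := Ideal.mem_span_singleton'.1 hz
    rw [mul_comm, show (X 0 * X 1 - C Δ : MvPowerSeries (Fin 2) R) = NodeSeriesLib.eqn Δ from rfl,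
      ← NodeSeriesLib.idx_zero_right, NodeSeriesLib.coeff_eqn_mul, if_pos (Or.inr rfl), zero_sub]
    exact neg_mem (Ideal.mul_mem_right _ _ hΔ)
  have h1 : (1 : R) ∉ IsLocalRing.maximalIdeal R := fun h => h isUnit_one
  have hX1 : coeff (Finsupp.single (0 : Fin 2) 1) (X 0 : MvPowerSeries (Fin 2) R) = 1 := by
    rw [coeff_X, if_pos rfl]
  have hx0 : mk (X 0) ≠ 0 := fun h => h1 (hX1 ▸ hlin _ (Ideal.Quotient.eq_zero_iff_mem.1 h))
  have hxy : mk (X 0) * mk (X 1) = mk (C Δ) := by
    rw [hmk, ← map_mul, Ideal.Quotient.eq]; exact Ideal.subset_span rfl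
  have hΔu : ¬ IsUnit Δ := hΔ
  have hΔ0 : Δ ≠ 0 := by
    rintro rfl
    rcases mul_eq_zero.1 (hxy.trans (by simp : mk (C 0) = 0)) with h | h
    · exact hx0 h
    · obtain ⟨w, hw⟩ := Ideal.mem_span_singleton'.1 (Ideal.Quotient.eq_zero_iff_mem.1 h)
      have := congrArg (coeff (Finsupp.single (1 : Fin 2) 1)) hw
      rw [mul_comm, show (X 0 * X 1 - C 0 : MvPowerSeries (Fin 2) R) = NodeSeriesLib.eqn 0 from rfl,
        ← NodeSeriesLib.idx_zero_left, NodeSeriesLib.coeff_eqn_mul, if_pos (Or.inl rfl), zero_mul,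
        sub_zero, NodeSeriesLib.idx_zero_left, coeff_X, if_pos rfl] at this
      exact zero_ne_one this
  by_contra hnp
  have hnirr : ¬ Irreducible Δ := fun h => hnp (UniqueFactorizationMonoid.irreducible_iff_prime.1 h)
  rw [irreducible_iff] at hnirr
  push_neg at hnirr
  obtain ⟨π, ρ, hπρ, hπu, hρu⟩ := hnirr hΔu
  have hirr : Irreducible (mk (X 0)) := by
    refine irreducible_iff.2 ⟨fun hu => ?_, fun a b hab => ?_⟩
    · obtain ⟨b, hb⟩ := isUnit_iff_exists_inv.1 hu
      obtain ⟨B, rfl⟩ := Ideal.Quotient.mk_surjective b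
      rw [hmk, ← map_mul, ← map_one (Ideal.Quotient.mk _), Ideal.Quotient.eq] at hb
      obtain ⟨w, hw⟩ := Ideal.mem_span_singleton'.1 hb
      have := congrArg constantCoeff hw
      simp at this
      exact hΔu (isUnit_iff_exists_inv'.2 ⟨constantCoeff w, by linear_combination this⟩)
    · by_contra hc
      push_neg at hc
      obtain ⟨A, rfl⟩ := Ideal.Quotient.mk_surjective a
      obtain ⟨B, rfl⟩ := Ideal.Quotient.mk_surjective b
      have hmem : ∀ F, ¬ IsUnit (mk F) → constantCoeff F ∈ IsLocalRing.maximalIdeal R := fun F hF hu =>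
        hF ((MvPowerSeries.isUnit_iff_constantCoeff.2 hu).map mk)
      rw [hmk, ← map_mul, Ideal.Quotient.eq] at hab
      have h2 := hlin _ hab
      rw [map_sub, hX1] at h2
      have h3 := add_mem h2 (coeff_single_mem A B (hmem A hc.1) (hmem B hc.2))
      rw [sub_add_cancel] at h3
      exact h1 h3
  have hp : Prime (mk (X 0)) := UniqueFactorizationMonoid.irreducible_iff_prime.1 hirr
  have hdvd : mk (X 0) ∣ mk (C π) * mk (C ρ) :=
    ⟨mk (X 1), by rw [hxy, ← map_mul, ← map_mul]; exact congrArg (fun z => mk (C z)) hπρ.symm⟩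
  have key : ∀ a b : R, Δ = a * b → ¬ IsUnit b → ¬ mk (X 0) ∣ mk (C a) := by
    rintro a b hab hb ⟨c, hc⟩
    obtain ⟨W, rfl⟩ := Ideal.Quotient.mk_surjective c
    rw [hmk, ← map_mul, Ideal.Quotient.eq] at hc
    obtain ⟨w, hw⟩ := Ideal.mem_span_singleton'.1 hc
    have h2 := congrArg (NodeSeriesLib.edge (Ideal.span {Δ}) 1) hw
    rw [map_mul, show (X 0 * X 1 - C Δ : MvPowerSeries (Fin 2) R) = NodeSeriesLib.eqn Δ from rfl,
      NodeSeriesLib.edge_eqn' (Ideal.mem_span_singleton_self Δ), mul_zero, map_sub, map_mul,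
      NodeSeriesLib.edge_C, NodeSeriesLib.edge_X_of_ne _ (by decide), zero_mul, sub_zero,
      ← map_zero PowerSeries.C, PowerSeries.C_injective.eq_iff, eq_comm,
      Ideal.Quotient.eq_zero_iff_mem, Ideal.mem_span_singleton] at h2
    obtain ⟨d, hd⟩ := h2
    refine hb (isUnit_iff_exists_inv.2 ⟨d, ?_⟩)
    have ha : a ≠ 0 := fun h => hΔ0 (by rw [hab, h, zero_mul])
    exact mul_left_cancel₀ ha (by rw [← mul_assoc, ← hab, ← hd, mul_one])
  rcases hp.dvd_or_dvd hdvd with h | h
  · exact key π ρ hπρ hρu h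
  · exact key ρ π (by rw [hπρ, mul_comm]) hπu h

end Groth.Agent.S13201
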