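import Groth.Statements.S17730
import Groth.Agent.FBaseLib.SHPrime
import Groth.Agent.S0539
open IsLocalRing
-- import your own Groth.Agent.* helpers here

set_option autoImplicit false
universe u
open Hensel

namespace Groth.Agent.S17730

open IsLocalRing in
/-- Let R be a Noetherian local ring which is strictly henselian (henselian with separably closed
residue field), Δ a prime element of R, R' a smooth R-algebra, q a prime ideal of R' containing the
image of the maximal ideal of R, and T a strict henselization of the localization R'_q. Then the
image of Δ in T is a prime element of T. (This is the published statement, that a prime element of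
the étale local ring of the base at a geometric point remains prime in the étale local ring of a
smooth scheme over it at a geometric point above, written for the base the spectrum of R; the
published hypothesis that the base be smooth-factorial, meaning that all its smooth schemes are
locally factorial, is not used by the argument and is omitted; R is taken Noetherian, which the
published statement does not state and the argument requires.) -/
theorem result
    (R R' T : Type u) [CommRing R] [IsNoetherianRing R] [HenselianLocalRing R]
    [IsSepClosed (ResidueField R)]
    [CommRing R'] [Algebra R R'] [Algebra.Smooth R R']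
    (q : Ideal R') [q.IsPrime] (hq : (maximalIdeal R).map (algebraMap R R') ≤ q)
    [CommRing T] [IsLocalRing T] [Algebra (Localization.AtPrime q) T]
    [IsLocalHom (algebraMap (Localization.AtPrime q) T)]
    [Hensel.IsStrictHenselization (Localization.AtPrime q) T]
    (Δ : R) (hΔ : Prime Δ) :
    Prime (algebraMap (Localization.AtPrime q) T
      (algebraMap R' (Localization.AtPrime q) (algebraMap R R' Δ))) := by
  haveI : (Ideal.span {Δ}).IsPrime := (Ideal.span_singleton_prime hΔ.ne_zero).2 hΔ
  have h := Groth.Agent.FBaseLib.prime_map_strictHenselization q hq (T := T) (Ideal.span {Δ})
  rw [Ideal.map_span, Set.image_singleton, Ideal.map_span, Set.image_singleton] at h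
  rw [← IsScalarTower.algebraMap_apply R R' (Localization.AtPrime q)]
  refine (Ideal.span_singleton_prime ?_).1 h
  haveI : Module.Flat R (Localization.AtPrime q) :=
    haveI : Module.Flat R' (Localization.AtPrime q) := IsLocalization.flat _ q.primeCompl
    Module.Flat.trans R R' _
  haveI : IsLocalHom (algebraMap R (Localization.AtPrime q)) := ⟨fun r hr => by
    by_contra hn
    rw [IsScalarTower.algebraMap_apply R R' (Localization.AtPrime q), IsLocalization.AtPrime.isUnit_to_map_iff _ q] at hr
    exact hr (hq (Ideal.mem_map_of_mem _ hn))⟩
  haveI : Module.FaithfullyFlat R (Localization.AtPrime q) := Module.FaithfullyFlat.of_flat_of_isLocalHom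
  haveI := Groth.Agent.S0539.result (Localization.AtPrime q) T

  intro h0
  have h1 := FaithfulSMul.algebraMap_injective (Localization.AtPrime q) T (h0.trans (map_zero _).symm)
  exact hΔ.ne_zero (FaithfulSMul.algebraMap_injective R (Localization.AtPrime q) (h1.trans (map_zero _).symm))

end Groth.Agent.S17730
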