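import Groth.Statements.S13202
import Groth.Agent.S0537
import Groth.Agent.S0540
import Groth.Agent.S9460
import Groth.Agent.S17730

set_option autoImplicit false
universe u
open Hensel

namespace Groth.Agent.S13202

open TensorProduct

/-- Let R be a Noetherian regular ring (every localization at a prime ideal is a regular local ring) and
Δ ∈ R. The element Δ is étale-universally prime — meaning that for every prime ideal p of R
containing Δ and every strict henselization T of R_p, the image of Δ in T is a prime element —
exactly when for every smooth R-algebra R', every prime ideal q of R' and every strict henselization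
T of R'_q, the image of Δ in T is either invertible or a prime element. (Smooth R-algebras and their
strict henselizations are taken in the universe of R.) -/
theorem result
    (R : Type u) [CommRing R] [IsNoetherianRing R]
    (hreg : ∀ (p : Ideal R) [p.IsPrime], IsRegularLocalRing (Localization.AtPrime p)) (Δ : R) :
    (∀ (p : Ideal R) [p.IsPrime], Δ ∈ p →
        ∀ (T : Type u) [CommRing T] [IsLocalRing T] [Algebra (Localization.AtPrime p) T]
          [IsLocalHom (algebraMap (Localization.AtPrime p) T)]
          [Hensel.IsStrictHenselization (Localization.AtPrime p) T],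
          Prime (algebraMap (Localization.AtPrime p) T (algebraMap R (Localization.AtPrime p) Δ))) ↔
    (∀ (R' : Type u) [CommRing R'] [Algebra R R'] [Algebra.Smooth R R'] (q : Ideal R') [q.IsPrime]
        (T : Type u) [CommRing T] [IsLocalRing T] [Algebra (Localization.AtPrime q) T]
          [IsLocalHom (algebraMap (Localization.AtPrime q) T)]
          [Hensel.IsStrictHenselization (Localization.AtPrime q) T],
        IsUnit (algebraMap (Localization.AtPrime q) T (algebraMap R' (Localization.AtPrime q) (algebraMap R R' Δ))) ∨
          Prime (algebraMap (Localization.AtPrime q) T (algebraMap R' (Localization.AtPrime q) (algebraMap R R' Δ)))) := by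
  refine ⟨fun h R' _ _ _ q _ T _ _ _ _ _ => ?_, fun h p _ hΔ T _ _ _ _ _ => ?_⟩
  · let p : Ideal R := q.comap (algebraMap R R')
    haveI : q.LiesOver p := ⟨rfl⟩
    by_cases hΔ : Δ ∈ p
    swap
    · exact Or.inl ((IsLocalization.map_units (Localization.AtPrime q) (⟨algebraMap R R' Δ, hΔ⟩ : q.primeCompl)).map
        (algebraMap (Localization.AtPrime q) T))
    refine Or.inr ?_
    obtain ⟨Rh, _, _, _, _, hRh⟩ := Groth.Agent.S0537.result (Localization.AtPrime p)
    have hprime := h p hΔ Rh
    haveI : IsNoetherianRing (Localization.AtPrime p) :=
      IsLocalization.isNoetherianRing p.primeCompl _ inferInstance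
    haveI : IsNoetherianRing Rh := (Groth.Agent.S0540.result (Localization.AtPrime p) Rh).1 inferInstance
    haveI : HenselianLocalRing Rh := hRh.henselian
    haveI hT : HenselianLocalRing T := ‹Hensel.IsStrictHenselization (Localization.AtPrime q) T›.henselian
    haveI := hRh.isSepClosure
    haveI : IsSepClosed (IsLocalRing.ResidueField Rh) :=
      IsSepClosure.sep_closed (IsLocalRing.ResidueField (Localization.AtPrime p))
    haveI : Algebra.IsSeparable (IsLocalRing.ResidueField (Localization.AtPrime p)) (IsLocalRing.ResidueField Rh) :=
      IsSepClosure.separable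
    haveI := ‹Hensel.IsStrictHenselization (Localization.AtPrime q) T›.isSepClosure
    haveI : IsSepClosed (IsLocalRing.ResidueField T) :=
      IsSepClosure.sep_closed (IsLocalRing.ResidueField (Localization.AtPrime q))
    let f : Localization.AtPrime p →+* T :=
      (algebraMap (Localization.AtPrime q) T).comp (Localization.localRingHom p q (algebraMap R R') rfl)
    haveI : IsLocalHom f := inferInstanceAs (IsLocalHom ((algebraMap (Localization.AtPrime q) T).comp _))
    let τ : IsLocalRing.ResidueField Rh →+* IsLocalRing.ResidueField T :=
      letI : Algebra (IsLocalRing.ResidueField (Localization.AtPrime p)) (IsLocalRing.ResidueField T) :=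
        (IsLocalRing.ResidueField.map f).toAlgebra
      (IsSepClosed.lift : IsLocalRing.ResidueField Rh →ₐ[IsLocalRing.ResidueField (Localization.AtPrime p)]
        IsLocalRing.ResidueField T).toRingHom
    obtain ⟨g, ⟨hg, hgτ⟩, -⟩ := hRh.universal T f τ (by
      letI : Algebra (IsLocalRing.ResidueField (Localization.AtPrime p)) (IsLocalRing.ResidueField T) :=
        (IsLocalRing.ResidueField.map f).toAlgebra
      exact RingHom.ext fun x => (IsSepClosed.lift : IsLocalRing.ResidueField Rh →ₐ[IsLocalRing.ResidueField (Localization.AtPrime p)]
        IsLocalRing.ResidueField T).commutes x)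
    letI : Algebra R Rh := ((algebraMap (Localization.AtPrime p) Rh).comp (algebraMap R _)).toAlgebra
    haveI : IsScalarTower R (Localization.AtPrime p) Rh := IsScalarTower.of_algebraMap_eq fun _ => rfl
    letI : Algebra R' T := ((algebraMap (Localization.AtPrime q) T).comp (algebraMap R' _)).toAlgebra
    haveI : IsScalarTower R' (Localization.AtPrime q) T := IsScalarTower.of_algebraMap_eq fun _ => rfl
    letI : Algebra R T := ((algebraMap R' T).comp (algebraMap R R')).toAlgebra
    haveI : IsScalarTower R R' T := IsScalarTower.of_algebraMap_eq fun _ => rfl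
    letI : Algebra Rh T := g.toAlgebra
    haveI : IsScalarTower R Rh T := IsScalarTower.of_algebraMap_eq fun x => by
      refine Eq.trans ?_ (RingHom.congr_fun hg (algebraMap R (Localization.AtPrime p) x)).symm
      exact congrArg (algebraMap (Localization.AtPrime q) T)
        (Localization.localRingHom_to_map p q (algebraMap R R') rfl x).symm
    let Q : Ideal (Rh ⊗[R] R') := Ideal.comap (Algebra.TensorProduct.lift (IsScalarTower.toAlgHom R Rh T)
      (IsScalarTower.toAlgHom R R' T) (fun _ _ => Commute.all _ _)) (IsLocalRing.maximalIdeal T)
    obtain ⟨E, _, _, _, _, hE⟩ := Groth.Agent.S0537.result (Localization.AtPrime Q)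
    obtain ⟨e, he⟩ := Groth.Agent.S9460.result R R' p q Rh T E
    have hQ : (IsLocalRing.maximalIdeal Rh).map (algebraMap Rh (Rh ⊗[R] R')) ≤ Q := by
      rw [Ideal.map_le_iff_le_comap]
      intro x hx
      refine Ideal.mem_comap.2 (Ideal.mem_comap.2 ?_)
      rw [Algebra.TensorProduct.algebraMap_apply, Algebra.TensorProduct.lift_tmul, map_one, mul_one,
        ← IsLocalRing.residue_eq_zero_iff]
      exact (hgτ x).trans (by rw [(IsLocalRing.residue_eq_zero_iff x).2 hx, map_zero])
    have hP := Groth.Agent.S17730.result Rh (Rh ⊗[R] R') E Q hQ _ hprime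
    have h2 := (MulEquiv.prime_iff e.toMulEquiv).2 hP
    rw [RingEquiv.toMulEquiv_eq_coe, RingEquiv.coe_toMulEquiv, he, Algebra.TensorProduct.algebraMap_apply,
      Algebra.TensorProduct.lift_tmul, map_one, mul_one] at h2
    exact (show algebraMap Rh T (algebraMap R Rh Δ) = algebraMap R' T (algebraMap R R' Δ) from
      (IsScalarTower.algebraMap_apply R Rh T Δ).symm.trans (IsScalarTower.algebraMap_apply R R' T Δ)) ▸ h2
  · have hnu : ¬ IsUnit (algebraMap (Localization.AtPrime p) T (algebraMap R (Localization.AtPrime p) Δ)) := fun hu =>
      (IsLocalization.AtPrime.isUnit_to_map_iff (Localization.AtPrime p) p Δ).1 ((isUnit_map_iff _ _).1 hu) hΔ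
    exact (h R p T).resolve_left hnu


end Groth.Agent.S13202
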