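import Groth.Statements.S13203
import Groth.Agent.NMPLib.Basic

set_option autoImplicit false
universe u
open CategoryTheory AlgebraicGeometry
open Neron

namespace Groth.Agent.S13203
open CategoryTheory CategoryTheory.Limits AlgebraicGeometry MonObj

/-- Let S be a scheme, U ⊆ S a schematically dense open subscheme and N → S a smooth S-scheme with the
Néron mapping property with respect to U: for every smooth S-scheme Y, sending an S-morphism Y → N
to its restriction Y ×_S U → N ×_S U is a bijection onto the U-morphisms. Then for every smooth
morphism g : S' → S the base change N ×_S S' → S' (again smooth) has the Néron mapping property with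
respect to g⁻¹(U): for every smooth S'-scheme Y', restriction to g⁻¹(U) is a bijection from
S'-morphisms Y' → N ×_S S' onto g⁻¹(U)-morphisms. (The published statement is for models which are
algebraic spaces, tested against smooth algebraic spaces, and also says that separatedness is
preserved; this row states the case of a smooth scheme model tested against smooth schemes.) -/
theorem result
    {S S' : Scheme.{u}} (g : S' ⟶ S) [Smooth g]
    (U : S.Opens) (hU : CInt.IsSchematicallyDense U) (N : Over S) [Smooth N.hom]
    (hN : ∀ Y : Over S, Smooth Y.hom →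
      Function.Bijective (fun f : Y ⟶ N => (Over.pullback U.ι).map f))
    (Y' : Over S') [Smooth Y'.hom] :
    Function.Bijective (fun f : Y' ⟶ (Over.pullback g).obj N => (Over.pullback (g ⁻¹ᵁ U).ι).map f) := by
  rw [NMPLib.bijective_iff_opens]
  intro q hq
  haveI : Smooth ((Over.map g).obj Y').hom := show Smooth (Y'.hom ≫ g) from inferInstance
  have hb := (NMPLib.bijective_iff_opens U ((Over.map g).obj Y') N).1 (hN _ inferInstance)
  obtain ⟨F, hF, huniq⟩ := hb (q ≫ pullback.fst N.hom g) (by
    rw [Category.assoc, pullback.condition]
    exact (reassoc_of% hq) g)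
  refine ⟨Over.homMk (pullback.lift F.left Y'.hom (Over.w F)) (pullback.lift_snd _ _ _), ?_, fun f hf => ?_⟩
  · refine pullback.hom_ext ?_ ?_
    · exact (Category.assoc _ _ _).trans ((congrArg ((Y'.hom ⁻¹ᵁ g ⁻¹ᵁ U).ι ≫ ·) (pullback.lift_fst _ _ _)).trans hF)
    · exact (Category.assoc _ _ _).trans ((congrArg ((Y'.hom ⁻¹ᵁ g ⁻¹ᵁ U).ι ≫ ·) (pullback.lift_snd _ _ _)).trans hq.symm)
  · have h1 := huniq (Over.homMk (f.left ≫ pullback.fst N.hom g) (by
      show (f.left ≫ pullback.fst N.hom g) ≫ N.hom = Y'.hom ≫ g
      rw [Category.assoc, pullback.condition, ← Category.assoc]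
      exact congrArg (· ≫ g) (Over.w f)))
      ((Category.assoc _ _ _).symm.trans (congrArg (· ≫ pullback.fst N.hom g) hf))
    refine Over.OverMorphism.ext (pullback.hom_ext ?_ ((Over.w f).trans (pullback.lift_snd _ _ _).symm))
    exact (congrArg (fun t : (Over.map g).obj Y' ⟶ N => t.left) h1).trans (pullback.lift_fst _ _ _).symm

end Groth.Agent.S13203
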