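import Groth.Statements.S13204
import Groth.Agent.DVRCrit.Field

set_option autoImplicit false
universe u
open Neron

namespace Groth.Agent.S13204

open Polynomial in
theorem eval_one_mem {R K : Type u} [CommRing R] [IsDomain R] [IsLocalRing R]
    [UniqueFactorizationMonoid R] [Field K] [Algebra R K] [IsFractionRing R K]
    (a b : R) (hb0 : b ≠ 0) (ha : ¬ IsUnit a) (hb : ¬ IsUnit b) (hcop : IsRelPrime a b)
    (x : K) (hx : x * algebraMap R K b = algebraMap R K a) :
    ∀ (n : ℕ) (P : R[X]), P.natDegree ≤ n → aeval x P = 0 →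
      P.eval 1 ∈ IsLocalRing.maximalIdeal R := by
  have hi := IsFractionRing.injective R K
  intro n
  induction n with
  | zero =>
    intro P hP hP0
    rw [eq_C_of_natDegree_le_zero hP] at hP0 ⊢
    rw [aeval_C] at hP0
    rw [eval_C, hi (hP0.trans (map_zero _).symm)]
    exact zero_mem _
  | succ n ih =>
    intro P hP hP0
    -- the leading coefficient is divisible by `b`
    have hsum : ∑ i ∈ Finset.range (n + 2), P.coeff i * a ^ i * b ^ (n + 1 - i) = 0 := by
      apply hi
      rw [map_sum, map_zero]
      calc ∑ i ∈ Finset.range (n + 2), algebraMap R K (P.coeff i * a ^ i * b ^ (n + 1 - i))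
          = ∑ i ∈ Finset.range (n + 2), (algebraMap R K b) ^ (n + 1) * (algebraMap R K (P.coeff i) * x ^ i) := by
            refine Finset.sum_congr rfl fun i hi' => ?_
            obtain ⟨j, hj⟩ := Nat.exists_eq_add_of_le (Nat.lt_succ_iff.1 (Finset.mem_range.1 hi'))
            rw [map_mul, map_mul, map_pow, map_pow, ← hx, mul_pow, hj, Nat.add_sub_cancel_left, pow_add]
            ring
        _ = (algebraMap R K b) ^ (n + 1) * aeval x P := by
            rw [← Finset.mul_sum, aeval_eq_sum_range' (Nat.lt_succ_of_le hP)]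
            simp [Algebra.smul_def]
        _ = 0 := by rw [hP0, mul_zero]
    have hdvd : b ∣ P.coeff (n + 1) * a ^ (n + 1) := by
      rw [Finset.sum_range_succ, Nat.sub_self, pow_zero, mul_one] at hsum
      rw [eq_neg_of_add_eq_zero_right hsum, dvd_neg]
      refine Finset.dvd_sum fun i hi' => Dvd.dvd.mul_left ?_ _
      exact dvd_pow_self b (by have := Finset.mem_range.1 hi'; omega)
    obtain ⟨c, hc⟩ := (IsRelPrime.pow_right (n := n + 1) hcop.symm).dvd_of_dvd_mul_right hdvd
    let P' := P - (C b * X - C a) * (C c * X ^ n)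
    have hP' : P'.natDegree ≤ n := by
      rw [natDegree_le_iff_coeff_eq_zero]
      intro m hm
      have hexp : (C b * X - C a) * (C c * X ^ n) = C (b * c) * X ^ (n + 1) - C (a * c) * X ^ n := by
        rw [C_mul, C_mul]; ring
      simp only [P', hexp, coeff_sub, coeff_C_mul, coeff_X_pow, if_neg (show ¬ m = n by omega)]
      rcases eq_or_lt_of_le (Nat.succ_le_of_lt hm) with h | h
      · subst h; rw [if_pos rfl, ← hc]; ring
      · rw [if_neg (by omega), coeff_eq_zero_of_natDegree_lt (by omega)]; ring
    have hx' : aeval x P' = 0 := by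
      simp only [P', map_sub, map_mul, hP0, aeval_C, aeval_X]
      rw [show algebraMap R K b * x - algebraMap R K a = 0 by rw [← hx]; ring]
      ring
    have h1 : P.eval 1 = P'.eval 1 + (b - a) * c := by
      simp [P']
    rw [h1]
    exact add_mem (ih P' hP' hx') (Ideal.mul_mem_right _ _ (sub_mem hb ha))


/-- Let R be a strictly henselian Noetherian local unique factorization domain and Δ₁, Δ₂ two non-units
of R with no common prime factor. Then there are a discrete valuation ring A and an injective local
homomorphism f : R → A — so that Spec A → Spec R sends the closed point to the closed point and the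
generic point to the generic point, which lies in every dense open subset — such that f(Δ₁) is a
non-zero non-unit and f(Δ₁) = u · f(Δ₂) for some unit u of A congruent to 1 modulo the maximal
ideal. (The published statement asks for the images of Δ₁ and Δ₂ in A to be equal, with the generic
point of Spec A sent into a given dense open subset of Spec R; that cannot hold in general — for R =
ℂ[[a,b]], Δ₁ = a, Δ₂ = b and the dense open D(a − b), any local map to a discrete valuation ring
identifying a and b sends the generic point into V(a − b) — so this row asks instead for f(Δ₁) = u ·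
f(Δ₂) with u a unit congruent to 1 modulo the maximal ideal.) -/
theorem result
    (R : Type u) [CommRing R] [IsDomain R] [IsNoetherianRing R] [UniqueFactorizationMonoid R]
    [HenselianLocalRing R] [IsSepClosed (IsLocalRing.ResidueField R)]
    (Δ₁ Δ₂ : R) (h₁ : ¬ IsUnit Δ₁) (h₂ : ¬ IsUnit Δ₂) (hcop : IsRelPrime Δ₁ Δ₂) :
    ∃ (A : Type u) (_ : CommRing A) (_ : IsDomain A) (_ : IsDiscreteValuationRing A) (f : R →+* A),
      IsLocalHom f ∧ Function.Injective f ∧ ¬ IsUnit (f Δ₁) ∧
        ∃ u : Aˣ, (u : A) - 1 ∈ IsLocalRing.maximalIdeal A ∧ f Δ₁ = (u : A) * f Δ₂ := by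
  classical
  let K := FractionRing R
  have hb0 : Δ₂ ≠ 0 := fun h => h₁ (hcop dvd_rfl (h ▸ dvd_zero Δ₁))
  have hbK : algebraMap R K Δ₂ ≠ 0 := fun h =>
    hb0 (IsFractionRing.injective R K (h.trans (map_zero _).symm))
  let x : K := algebraMap R K Δ₁ / algebraMap R K Δ₂
  have hx : x * algebraMap R K Δ₂ = algebraMap R K Δ₁ := div_mul_cancel₀ _ hbK
  let B := Algebra.adjoin R ({x} : Set K)
  haveI : IsNoetherianRing B := Algebra.FiniteType.isNoetherianRing R B (h :=
    (Subalgebra.fg_iff_finiteType B).1 ⟨{x}, by rw [Finset.coe_singleton]⟩)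
  haveI : IsFractionRing B K := DVRCrit.isFractionRing_subalgebra B
    (DVRCrit.closure_eq_top (A := R) (K := K) (s := (⊥ : Set K))
      (by
        ext y
        simp only [IntermediateField.mem_top, iff_true]
        exact (IntermediateField.adjoin K (⊥ : Set K)).algebraMap_mem y) _
      (by rintro _ ⟨a, rfl⟩; exact Subalgebra.algebraMap_mem _ a)
      (fun y hy => hy.elim))
  let xB : B := ⟨x, Algebra.subset_adjoin rfl⟩
  let ψ : Polynomial R →ₐ[R] B := Polynomial.aeval xB
  have hval : ∀ P : Polynomial R, (ψ P : K) = Polynomial.aeval x P := fun P => by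
    rw [show x = B.val xB from rfl, Polynomial.aeval_algHom_apply]; rfl
  have hψ : Function.Surjective ψ := fun y => by
    have hy : (y : K) ∈ Algebra.adjoin R ({x} : Set K) := y.2
    rw [Algebra.adjoin_singleton_eq_range_aeval] at hy
    obtain ⟨P, hP⟩ := hy
    exact ⟨P, Subtype.ext ((hval P).trans hP)⟩
  let Q' : Ideal (Polynomial R) := (IsLocalRing.maximalIdeal R).comap (Polynomial.evalRingHom 1)
  have hker : RingHom.ker ψ.toRingHom ≤ Q' := fun P hP => by
    refine eval_one_mem Δ₁ Δ₂ hb0 h₁ h₂ hcop x hx P.natDegree P le_rfl ?_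
    rw [← hval, show ψ P = 0 from hP]; rfl
  let Q : Ideal B := Q'.map ψ.toRingHom
  haveI : Q.IsPrime := Ideal.map_isPrime_of_surjective hψ hker
  have hmemQ : ∀ P ∈ Q', ψ P ∈ Q := fun P hP => Ideal.mem_map_of_mem _ hP
  have hm : ∀ r ∈ IsLocalRing.maximalIdeal R, algebraMap R B r ∈ Q := fun r hr => by
    simpa [ψ] using hmemQ (Polynomial.C r) (by simpa [Q'] using hr)
  have hQ : Q ≠ ⊥ := fun h => by
    have := hm Δ₂ h₂
    rw [h, Submodule.mem_bot] at this
    exact hbK (congrArg (fun y : B => (y : K)) this)
  obtain ⟨V, hV, h1, h2⟩ := DVRCrit.exists_dvr_of_prime (L := K) Q hQ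
  let f : R →+* V := ((algebraMap B K).comp (algebraMap R B)).codRestrict V.toSubring fun r => h1 _
  have hf : ∀ r ∈ IsLocalRing.maximalIdeal R, ¬ IsUnit (f r) := fun r hr => by
    have := h2 _ (hm r hr)
    rw [← IsLocalRing.notMem_maximalIdeal, not_not]
    exact ValuationSubring.coe_mem_nonunits_iff.1 this
  have hxV : x - 1 ∈ V.nonunits := h2 _ (by
    have := hmemQ (Polynomial.X - 1) (by simp [Q'])
    rwa [map_sub, map_one, show ψ Polynomial.X = xB from Polynomial.aeval_X _] at this : (xB - 1 : B) ∈ Q)
  have hxu : IsUnit (⟨x, h1 xB⟩ : V) := by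
    rw [← IsLocalRing.notMem_maximalIdeal]
    intro h
    have h' : (⟨x, h1 xB⟩ : V) - 1 ∈ IsLocalRing.maximalIdeal V := ValuationSubring.coe_mem_nonunits_iff.1 hxV
    have := sub_mem h h'
    rw [sub_sub_cancel] at this
    exact (IsLocalRing.maximalIdeal.isMaximal V).ne_top ((Ideal.eq_top_iff_one _).2 this)
  refine ⟨V, inferInstance, inferInstance, hV, f, ⟨fun r hr => ?_⟩,
    fun a b h => IsFractionRing.injective R K (congrArg Subtype.val h), hf Δ₁ h₁, hxu.unit,
    ValuationSubring.coe_mem_nonunits_iff.1 hxV, Subtype.ext hx.symm⟩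
  by_contra h
  exact hf r h hr

end Groth.Agent.S13204
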