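import Groth.Statements.S13206
import Groth.Agent.WeilClosedLib.Equalizer

set_option autoImplicit false
set_option backward.isDefEq.respectTransparency false
set_option backward.isDefEq.respectTransparency.types false
universe u
open CategoryTheory AlgebraicGeometry
open AlgGrp

namespace Groth.Agent.S13206

/-- Let X → S be a separated morphism of schemes and let a finite group G act on X through
S-automorphisms. Then the functor of G-fixed points is represented by a closed subscheme of X: there
are a scheme Z and a closed immersion i : Z → X with i ∘ g = i for all g ∈ G such that every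
morphism x : T → X with g ∘ x = x for all g ∈ G factors uniquely through i. (The published statement
is for an algebraic space X over S, also treats the locally separated case and notes compatibility
with base change; this row is the separated case for schemes.) -/
theorem result
    {X S : Scheme.{u}} (p : X ⟶ S) [IsSeparated p]
    (G : Type u) [Group G] [Finite G] (ρ : G →* Aut X) (hρ : ∀ g : G, (ρ g).hom ≫ p = p) :
    ∃ (Z : Scheme.{u}) (i : Z ⟶ X), IsClosedImmersion i ∧ (∀ g : G, i ≫ (ρ g).hom = i) ∧
      ∀ (T : Scheme.{u}) (x : T ⟶ X), (∀ g : G, x ≫ (ρ g).hom = x) → ∃! z : T ⟶ Z, z ≫ i = x := by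
  have hsepX : IsSeparated (Over.mk p).hom := inferInstanceAs (IsSeparated p)
  let r : G → (Over.mk p ⟶ Over.mk p) := fun g => Over.homMk (ρ g).hom (hρ g)
  have key : ∀ s : Finset G, ∃ (Z : Over S) (i : Z ⟶ Over.mk p), IsClosedImmersion i.left ∧
      ∀ (W : Over S) (w : W ⟶ Over.mk p), (∃ z : W ⟶ Z, z ≫ i = w) ↔ ∀ g ∈ s, w ≫ r g = w := by
    classical
    intro s
    induction s using Finset.induction_on with
    | empty =>
      exact ⟨Over.mk p, 𝟙 _, inferInstanceAs (IsClosedImmersion (𝟙 X)),
        fun W w => ⟨fun _ g hg => by simp at hg, fun _ => ⟨w, Category.comp_id _⟩⟩⟩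
    | insert g s _ ih =>
      obtain ⟨Z, i, hi, hZ⟩ := ih
      obtain ⟨E, j, -, hsep, -, hE⟩ := WeilClosedLib.exists_immersion_equalizer (i ≫ r g) i
      haveI := hsep hsepX
      refine ⟨E, j ≫ i, inferInstanceAs (IsClosedImmersion (j.left ≫ i.left)), fun W w => ⟨?_, ?_⟩⟩
      · rintro ⟨z, rfl⟩ g' hg'
        rcases Finset.mem_insert.1 hg' with rfl | hg'
        · have := (hE W (z ≫ j)).1 ⟨z, rfl⟩
          simpa using this
        · exact (hZ W (z ≫ j ≫ i)).1 ⟨z ≫ j, Category.assoc _ _ _⟩ g' hg'
      · intro h
        obtain ⟨z, hz⟩ := (hZ W w).2 fun g' hg' => h g' (Finset.mem_insert_of_mem hg')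
        obtain ⟨l, hl⟩ := (hE W z).2 (by rw [← Category.assoc, hz]; exact h g (Finset.mem_insert_self g s))
        exact ⟨l, by rw [← Category.assoc, hl, hz]⟩
  haveI := Fintype.ofFinite G
  obtain ⟨Z, i, hi, hZ⟩ := key Finset.univ
  refine ⟨Z.left, i.left, hi, fun g => ?_, fun T x hx => ?_⟩
  · exact congrArg CommaMorphism.left ((hZ Z i).1 ⟨𝟙 Z, Category.id_comp _⟩ g (Finset.mem_univ g))
  · obtain ⟨z, hz⟩ := (hZ (Over.mk (x ≫ p)) (Over.homMk x rfl)).2
      fun g _ => Over.OverMorphism.ext (hx g)
    refine ⟨z.left, congrArg CommaMorphism.left hz, fun y hy => ?_⟩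
    rw [← cancel_mono i.left, hy]
    exact (congrArg CommaMorphism.left hz).symm

end Groth.Agent.S13206
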