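import Groth.Statements.S13207
import Groth.Agent.NMPLib.Sigma

set_option autoImplicit false
universe u
open CategoryTheory CategoryTheory.Limits AlgebraicGeometry
open Neron

namespace Groth.Agent.S13207
open CategoryTheory CategoryTheory.Limits AlgebraicGeometry

/-- Let (S_i)_{i ∈ I} be a family of schemes, (N_i → S_i)_{i ∈ I} morphisms of schemes, S = ∐ S_i and N
= ∐ N_i with the induced morphism N → S, and U ⊆ S a schematically dense open subscheme with
preimages U_i ⊆ S_i. Then N → S is smooth with the Néron mapping property with respect to U — for
every smooth S-scheme Y, restriction to U is a bijection from S-morphisms Y → N onto U-morphisms Y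
×_S U → N ×_S U — if and only if every N_i → S_i is smooth with the Néron mapping property with
respect to U_i. (The published statement is for algebraic spaces N_i tested against smooth algebraic
spaces, and has the same form for separated models; this row is the not-necessarily-separated case
for schemes tested against smooth schemes.) -/
theorem result
    {I : Type u} (B N : I → Scheme.{u}) (f : ∀ i, N i ⟶ B i)
    (U : (∐ B).Opens) (hU : CInt.IsSchematicallyDense U) :
    (Smooth (Limits.Sigma.map f) ∧ ∀ Y : Over (∐ B), Smooth Y.hom →
        Function.Bijective (fun g : Y ⟶ Over.mk (Limits.Sigma.map f) => (Over.pullback U.ι).map g)) ↔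
    ∀ i, Smooth (f i) ∧ ∀ Y : Over (B i), Smooth Y.hom →
        Function.Bijective (fun g : Y ⟶ Over.mk (f i) => (Over.pullback ((Limits.Sigma.ι B i) ⁻¹ᵁ U).ι).map g) := by
  refine ⟨fun ⟨hs, hb⟩ i => ?_, fun h => ?_⟩
  · refine ⟨MorphismProperty.of_isPullback (Groth.Agent.SchDesc.isPullback_sigmaMap f i) hs, fun Y hY => ?_⟩
    haveI := hY
    exact NMPLib.bijective_component B N f U i Y (hb _ (show Smooth (Y.hom ≫ Limits.Sigma.ι B i) from inferInstance))
  · refine ⟨Groth.Agent.SchDesc.prop_sigmaMap @Smooth f fun i => (h i).1, fun Y hY => ?_⟩
    haveI := hY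
    exact NMPLib.bijective_sigma B N f U Y fun i => (h i).2 _
      (show Smooth (pullback.snd Y.hom (Limits.Sigma.ι B i)) from inferInstance)

end Groth.Agent.S13207
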