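import Mathlib
import Groth.Agent.ArtinApproxLib.GRing
import Groth.Agent.CMCat.ComplQuot
import Groth.Agent.ArtFunLib.PS
import Groth.Agent.GRingCompleteLib.Descend
import Groth.Agent.GRingCompleteLib.Completion
import Groth.Agent.RegLocal.Completion
import Groth.Statements.S19894

set_option autoImplicit false
universe u
open IsLocalRing
open Hensel

namespace Groth.Agent.S19894

open MvPowerSeries in
/-- Let R be a strictly henselian (henselian with separably closed residue field) excellent Noetherian
local domain which is a unique factorization domain and whose completion R^ at the maximal ideal is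
also a unique factorization domain; let Δ ≠ 0 and t₁, t₂ be elements of the maximal ideal of R with
t₁ t₂ = Δ, and let C be a local R-algebra, essentially of finite type over R with local structure
map, given with a ring isomorphism ψ from the completion C^ of C onto R^[[u,v]]/(uv − Δ) compatible
with the structure maps from R. Then there are an R-algebra homomorphism g : C → R and a ring
homomorphism ĝ : C^ → R^ inducing g (ĝ restricted to C is g followed by R → R^) such that ĝ(ψ⁻¹(u))
generates the ideal t₁R^ and ĝ(ψ⁻¹(v)) generates t₂R^. (This is the local-ring form of the statement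
that, for a base scheme S with étale local ring R at a geometric point s̄, an S-scheme X of finite
presentation and a closed point x of the geometric fibre whose completed étale local ring is
presented as R^[[u,v]]/(uv − Δ), some étale neighbourhood of s̄ carries a section of X through x
sending u, v to generators of (t₁), (t₂); the retraction g of the local ring C of X ×_S Spec R at x
is such a section by finite presentation. The source assumes S excellent and smooth-factorial and
takes R^ to be factorial; here the properties of R that the argument uses are assumed directly, so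
that the statement covers in particular every strictly henselian excellent regular local ring. The
published statement allows Δ = 0; this one assumes Δ ≠ 0.) -/
theorem result
    (R : Type u) [CommRing R] [IsNoetherianRing R] [IsDomain R] [UniqueFactorizationMonoid R] [HenselianLocalRing R]
    [IsSepClosed (ResidueField R)] (hR : EGA4.IsExcellent R)
    [IsDomain (AdicCompletion (maximalIdeal R) R)] [UniqueFactorizationMonoid (AdicCompletion (maximalIdeal R) R)]
    (Δ t₁ t₂ : R) (hΔ : Δ ≠ 0) (ht₁ : t₁ ∈ maximalIdeal R) (ht₂ : t₂ ∈ maximalIdeal R) (ht : t₁ * t₂ = Δ)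
    (C : Type u) [CommRing C] [IsLocalRing C] [Algebra R C] [IsLocalHom (algebraMap R C)]
    [Algebra.EssFiniteType R C]
    (ψ : AdicCompletion (maximalIdeal C) C ≃+*
      (MvPowerSeries (Fin 2) (AdicCompletion (maximalIdeal R) R) ⧸
        Ideal.span {(X 0 * X 1 - MvPowerSeries.C (algebraMap R (AdicCompletion (maximalIdeal R) R) Δ) :
          MvPowerSeries (Fin 2) (AdicCompletion (maximalIdeal R) R))}))
    (hψ : ψ.toRingHom.comp ((algebraMap C (AdicCompletion (maximalIdeal C) C)).comp (algebraMap R C)) =
      (Ideal.Quotient.mk _).comp ((MvPowerSeries.C : AdicCompletion (maximalIdeal R) R →+*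
        MvPowerSeries (Fin 2) (AdicCompletion (maximalIdeal R) R)).comp
          (algebraMap R (AdicCompletion (maximalIdeal R) R)))) :
    ∃ (g : C →ₐ[R] R) (ĝ : AdicCompletion (maximalIdeal C) C →+* AdicCompletion (maximalIdeal R) R),
      ĝ.comp (algebraMap C (AdicCompletion (maximalIdeal C) C)) =
        (algebraMap R (AdicCompletion (maximalIdeal R) R)).comp g.toRingHom ∧
      Ideal.span {ĝ (ψ.symm (Ideal.Quotient.mk _ (X 0)))} =
        Ideal.span {algebraMap R (AdicCompletion (maximalIdeal R) R) t₁} ∧
      Ideal.span {ĝ (ψ.symm (Ideal.Quotient.mk _ (X 1)))} =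
        Ideal.span {algebraMap R (AdicCompletion (maximalIdeal R) R) t₂} := by
  classical
  haveI := RegLocal.isNoetherianRing_completion R (IsLocalRing.maximalIdeal R)
  haveI : IsNoetherianRing C := Algebra.EssFiniteType.isNoetherianRing R C
  let Rh : Type u := AdicCompletion (maximalIdeal R) R
  let M : Ideal (AdicCompletion (maximalIdeal R) R) := (maximalIdeal R).map (algebraMap R _)
  haveI hM : M.IsMaximal := ArtinApproxLib.map_maximalIdeal_isMaximal
  haveI : IsAdicComplete M (AdicCompletion (maximalIdeal R) R) :=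
    AdicCompletion.isAdicComplete_self _ (maximalIdeal R).fg_of_isNoetherianRing
  haveI : IsLocalRing (AdicCompletion (maximalIdeal R) R) :=
    IsLocalRing.of_unique_max_ideal ⟨M, hM, fun M' hM' => (hM.eq_of_le hM'.ne_top
      ((IsAdicComplete.le_jacobson_bot M).trans (sInf_le ⟨bot_le, hM'⟩))).symm⟩
  have hMeq : M = maximalIdeal (AdicCompletion (maximalIdeal R) R) := IsLocalRing.eq_maximalIdeal hM
  haveI : IsLocalHom (algebraMap R (AdicCompletion (maximalIdeal R) R)) :=
    ((IsLocalRing.local_hom_TFAE _).out 0 2 rfl rfl).mpr (le_of_eq (IsLocalRing.eq_maximalIdeal hM))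
  -- the substitution
  have hb : ∀ i, ![algebraMap R (AdicCompletion (maximalIdeal R) R) t₁, algebraMap R _ t₂] i ∈ M := fun i => by
    fin_cases i
    · exact Ideal.mem_map_of_mem _ ht₁
    · exact Ideal.mem_map_of_mem _ ht₂
  obtain ⟨G₁, hG₁⟩ := ArtFunLib.ps_exists_lift (Λ := AdicCompletion (maximalIdeal R) R) M
    ![algebraMap R (AdicCompletion (maximalIdeal R) R) t₁, algebraMap R _ t₂] hb
  let rel : MvPowerSeries (Fin 2) (AdicCompletion (maximalIdeal R) R) :=
    X 0 * X 1 - MvPowerSeries.C (algebraMap R (AdicCompletion (maximalIdeal R) R) Δ)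
  have hCc : ∀ r, G₁ (MvPowerSeries.C r) = r := fun r => G₁.commutes r
  have hrel : G₁ rel = 0 := by
    rw [map_sub, map_mul, hG₁, hG₁, hCc]
    simp [← map_mul, ht]
  let G₀ : (MvPowerSeries (Fin 2) (AdicCompletion (maximalIdeal R) R) ⧸ Ideal.span {rel}) →+*
      AdicCompletion (maximalIdeal R) R :=
    Ideal.Quotient.lift _ G₁.toRingHom fun a ha => by
      obtain ⟨z, rfl⟩ := Ideal.mem_span_singleton.1 ha
      show G₁ (rel * z) = 0
      rw [map_mul, hrel, zero_mul]
  let G : AdicCompletion (maximalIdeal C) C →+* AdicCompletion (maximalIdeal R) R := G₀.comp ψ.toRingHom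
  have hGsurj : Function.Surjective G := fun r =>
    ⟨ψ.symm (Ideal.Quotient.mk _ (MvPowerSeries.C r)), by
      show G₀ (ψ (ψ.symm _)) = r
      rw [ψ.apply_symm_apply]
      exact hCc r⟩
  haveI : IsLocalRing (AdicCompletion (maximalIdeal C) C) :=
    RegLocal.isLocalRing_completion C _ (maximalIdeal.isMaximal C).ne_top
  have hMC : (maximalIdeal C).map (algebraMap C (AdicCompletion (maximalIdeal C) C)) =
      maximalIdeal (AdicCompletion (maximalIdeal C) C) := by
    haveI := ArtinApproxLib.map_maximalIdeal_isMaximal (A := C)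
    exact IsLocalRing.eq_maximalIdeal inferInstance
  haveI : IsLocalHom G := hGsurj.isLocalHom G
  have hGM : ∀ z ∈ (maximalIdeal C).map (algebraMap C (AdicCompletion (maximalIdeal C) C)), G z ∈ M := fun z hz => by
    rw [hMeq]
    rw [hMC] at hz
    exact ((IsLocalRing.local_hom_TFAE G).out 0 2 rfl rfl).mp inferInstance (Ideal.mem_map_of_mem G hz)
  have hG_R : ∀ r, G (algebraMap C _ (algebraMap R C r)) = algebraMap R _ r := fun r => by
    show G₀ (ψ.toRingHom (algebraMap C _ (algebraMap R C r))) = _
    rw [show ψ.toRingHom (algebraMap C _ (algebraMap R C r)) = _ from RingHom.congr_fun hψ r]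
    exact hCc _
  -- bound on the order of approximation
  let D := {d : Associates (AdicCompletion (maximalIdeal R) R) //
    d ∣ Associates.mk (algebraMap R (AdicCompletion (maximalIdeal R) R) Δ)}
  have hΔ0 : algebraMap R (AdicCompletion (maximalIdeal R) R) Δ ≠ 0 := fun h => hΔ (by
    haveI := (GRingCompleteLib.isRegularHom_adicCompletion R hR.2.2.1 (maximalIdeal R)).1
    haveI : Module.FaithfullyFlat R (AdicCompletion (maximalIdeal R) R) :=
      Module.FaithfullyFlat.of_flat_of_isLocalHom
    exact FaithfulSMul.algebraMap_injective R (AdicCompletion (maximalIdeal R) R) (h.trans (map_zero _).symm))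
  haveI : Fintype D := UniqueFactorizationMonoid.fintypeSubtypeDvd _ (Associates.mk_ne_zero.2 hΔ0)
  have hsep : ∀ (w : AdicCompletion (maximalIdeal R) R) (d : D), ∃ n : ℕ, ∀ a : AdicCompletion (maximalIdeal R) R,
      Associates.mk a = d.1 → a - w ∈ M ^ n → a ∣ w := by
    intro w d
    obtain ⟨a₀, ha₀⟩ := Associates.mk_surjective d.1
    by_cases hdvd : a₀ ∣ w
    · exact ⟨0, fun a ha _ => ((Associates.mk_eq_mk_iff_associated.1 (ha.trans ha₀.symm)).dvd.trans hdvd)⟩
    · by_contra hcon
      push_neg at hcon
      have hK : Ideal.span {a₀} ≠ ⊤ := fun h => hdvd ((Ideal.span_singleton_eq_top.1 h).dvd)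
      refine hdvd (Ideal.mem_span_singleton.1 (CMCat.mem_of_forall_mem_sup_pow hK hM.ne_top fun n => ?_))
      obtain ⟨a, ha, haw, -⟩ := hcon n
      have ha' : a ∈ Ideal.span {a₀} :=
        Ideal.mem_span_singleton.2 (Associates.mk_eq_mk_iff_associated.1 (ha.trans ha₀.symm)).symm.dvd
      simpa using sub_mem (Ideal.mem_sup_left (T := M ^ n) ha') (Ideal.mem_sup_right (S := Ideal.span {a₀}) haw)
  choose n₁ hn₁ using hsep (algebraMap R _ t₁)
  choose n₂ hn₂ using hsep (algebraMap R _ t₂)
  let N : ℕ := Finset.univ.sup n₁ + Finset.univ.sup n₂ + 1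
  have hN₁ : Finset.univ.sup n₁ ≤ N := by omega
  have hN₂ : Finset.univ.sup n₂ ≤ N := by omega
  -- approximate
  obtain ⟨C₀, q, hq, hft, hloc⟩ := GRingCompleteLib.exists_model R C
  haveI := hq
  haveI := hft
  haveI := hloc
  haveI : Algebra.FinitePresentation R C₀ := Algebra.FinitePresentation.of_finiteType.1 inferInstance
  let h₀ : C₀ →+* AdicCompletion (maximalIdeal R) R :=
    (G.comp (algebraMap C _)).comp (algebraMap C₀ C)
  obtain ⟨k, π, hπ, s, hs⟩ := Algebra.FinitePresentation.out (R := R) (A := C₀)
  let a : Fin k → AdicCompletion (maximalIdeal R) R := fun i => h₀ (π (MvPolynomial.X i))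
  let F : Fin s.card → MvPolynomial (Fin k) R := fun j => (s.equivFin.symm j).1
  have heval : ∀ p, MvPolynomial.aeval a p = h₀ (π p) := by
    intro p
    refine RingHom.congr_fun (?_ : (MvPolynomial.aeval a).toRingHom = h₀.comp π.toRingHom) p
    refine MvPolynomial.ringHom_ext (fun r => ?_) (fun i => ?_)
    · simp only [RingHom.comp_apply, AlgHom.toRingHom_eq_coe, RingHom.coe_coe, MvPolynomial.aeval_C]
      rw [← MvPolynomial.algebraMap_eq, π.commutes]
      show _ = G (algebraMap C _ (algebraMap C₀ C (algebraMap R C₀ r)))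
      rw [← IsScalarTower.algebraMap_apply R C₀ C, hG_R]
    · simp [a]
  obtain ⟨b, hbF, hab⟩ := ArtinApproxLib.exists_approx (maximalIdeal R)
    (GRingCompleteLib.isRegularHom_adicCompletion R hR.2.2.1 (maximalIdeal R)) F a (fun j => by
      rw [heval, show π (s.equivFin.symm j).1 = 0 from
        RingHom.mem_ker.1 (hs ▸ Ideal.subset_span (s.equivFin.symm j).2), map_zero]) N
  have hker : RingHom.ker π.toRingHom ≤ RingHom.ker (MvPolynomial.aeval (R := R) b).toRingHom := by
    rw [← hs, Ideal.span_le]
    intro p hp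
    simpa [F] using hbF (s.equivFin ⟨p, hp⟩)
  let g₀ : C₀ →ₐ[R] R := AlgHom.liftOfSurjective π hπ (MvPolynomial.aeval b) hker
  let J : Ideal (AdicCompletion (maximalIdeal R) R) := (maximalIdeal R ^ N).map (algebraMap R _)
  have hJ : J = M ^ N := Ideal.map_pow _ _ _
  have hJM : J ≤ M := Ideal.map_mono (Ideal.pow_le_self (Nat.succ_ne_zero _))
  have hcong₀ : (Ideal.Quotient.mk J).comp ((algebraMap R _).comp g₀.toRingHom) = (Ideal.Quotient.mk J).comp h₀ := by
    refine RingHom.ext fun x => ?_
    obtain ⟨p, rfl⟩ := hπ x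
    refine RingHom.congr_fun (?_ : ((Ideal.Quotient.mk J).comp ((algebraMap R _).comp g₀.toRingHom)).comp π.toRingHom =
      ((Ideal.Quotient.mk J).comp h₀).comp π.toRingHom) p
    refine MvPolynomial.ringHom_ext (fun r => ?_) (fun i => ?_)
    · simp only [RingHom.comp_apply, AlgHom.toRingHom_eq_coe, RingHom.coe_coe]
      rw [← MvPolynomial.algebraMap_eq, π.commutes, g₀.commutes]
      congr 1
      show _ = G (algebraMap C _ (algebraMap C₀ C (algebraMap R C₀ r)))
      rw [← IsScalarTower.algebraMap_apply R C₀ C, hG_R]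
      rfl
    · simp only [RingHom.comp_apply, AlgHom.toRingHom_eq_coe, RingHom.coe_coe]
      rw [show g₀ (π (MvPolynomial.X i)) = b i by rw [AlgHom.liftOfSurjective_apply, MvPolynomial.aeval_X],
        Ideal.Quotient.eq, ← neg_sub]
      exact neg_mem (hab i)
  have hunit : ∀ y : q.primeCompl, IsUnit (g₀ y) := fun y => by
    have hy : IsUnit (h₀ y) :=
      (((IsLocalization.map_units C y).map (algebraMap C (AdicCompletion (maximalIdeal C) C))).map G)
    refine IsUnit.of_map (algebraMap R (AdicCompletion (maximalIdeal R) R)) _ ?_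
    refine Hensel.isUnit_of_sub_mem (I := M) (IsAdicComplete.le_jacobson_bot _) hy ?_
    exact hJM (Ideal.Quotient.eq.1 (RingHom.congr_fun hcong₀ y))
  let g : C →ₐ[R] R :=
    { IsLocalization.lift (M := q.primeCompl) (g := g₀.toRingHom) hunit with
      commutes' := fun r => by
        show IsLocalization.lift (M := q.primeCompl) (g := g₀.toRingHom) hunit (algebraMap R C r) = r
        rw [IsScalarTower.algebraMap_apply R C₀ C, IsLocalization.lift_eq]
        exact g₀.commutes r }
  have hcong : (Ideal.Quotient.mk J).comp ((algebraMap R _).comp g.toRingHom) =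
      (Ideal.Quotient.mk J).comp (G.comp (algebraMap C _)) := by
    refine IsLocalization.ringHom_ext q.primeCompl (RingHom.ext fun x => ?_)
    have h1 := RingHom.congr_fun hcong₀ x
    simp only [RingHom.comp_apply] at h1 ⊢
    rw [show g.toRingHom (algebraMap C₀ C x) = g₀.toRingHom x from IsLocalization.lift_eq _ x, h1]
    rfl
  have hgsurj : Function.Surjective g := fun r => ⟨algebraMap R C r, g.commutes r⟩
  haveI : IsLocalHom g.toRingHom := hgsurj.isLocalHom g.toRingHom
  have hgm : (maximalIdeal C).map g.toRingHom ≤ maximalIdeal R :=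
    ((IsLocalRing.local_hom_TFAE g.toRingHom).out 0 2 rfl rfl).mp inferInstance
  let ĝ := CMCat.complHom g.toRingHom (maximalIdeal C) (maximalIdeal R) hgm
  have hĝC : ∀ x, ĝ (algebraMap C _ x) = algebraMap R _ (g x) := fun x => CMCat.complHom_algebraMap _ _ _ _ x
  -- congruence on the completion
  have hĝ : ∀ z, ĝ z - G z ∈ M ^ N := by
    intro z
    obtain ⟨x, hx⟩ := Ideal.Quotient.mk_surjective (AdicCompletion.evalₐ (maximalIdeal C) N z)
    have h1 := ArtinApproxLib.mem_of_evalₐ_eq (maximalIdeal C).fg_of_isNoetherianRing N z x hx.symm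
    have h2 : ĝ (z - algebraMap C _ x) ∈ M ^ N := by
      have := Ideal.mem_map_of_mem ĝ h1
      rw [Ideal.map_map, show ĝ.comp (algebraMap C _) = (algebraMap R _).comp g.toRingHom from RingHom.ext hĝC,
        ← Ideal.map_map] at this
      refine Ideal.map_mono ?_ this |> (Ideal.map_pow (algebraMap R _) (maximalIdeal R) N).le
      rw [Ideal.map_pow]
      exact Ideal.pow_right_mono hgm N
    have h3 : G (z - algebraMap C _ x) ∈ M ^ N := by
      rw [Ideal.map_pow] at h1
      have := Ideal.mem_map_of_mem G h1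
      rw [Ideal.map_pow] at this
      exact Ideal.pow_right_mono (Ideal.map_le_iff_le_comap.2 hGM) N this
    have h4 : algebraMap R _ (g x) - G (algebraMap C _ x) ∈ M ^ N :=
      hJ.le (Ideal.Quotient.eq.1 (RingHom.congr_fun hcong x))
    rw [map_sub, hĝC] at h2
    rw [map_sub] at h3
    have := add_mem (sub_mem h2 h3) h4
    convert this using 1
    ring
  refine ⟨g, ĝ, RingHom.ext hĝC, ?_⟩
  let U := ĝ (ψ.symm (Ideal.Quotient.mk _ (X 0)))
  let V := ĝ (ψ.symm (Ideal.Quotient.mk _ (X 1)))
  have hGu : G (ψ.symm (Ideal.Quotient.mk _ (X 0))) = algebraMap R _ t₁ := by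
    show G₀ (ψ (ψ.symm _)) = _
    rw [ψ.apply_symm_apply]
    exact hG₁ 0
  have hGv : G (ψ.symm (Ideal.Quotient.mk _ (X 1))) = algebraMap R _ t₂ := by
    show G₀ (ψ (ψ.symm _)) = _
    rw [ψ.apply_symm_apply]
    exact hG₁ 1
  have hUV : U * V = algebraMap R _ Δ := by
    show ĝ _ * ĝ _ = _
    rw [← map_mul, ← map_mul, ← map_mul]
    have h1 : (Ideal.Quotient.mk (Ideal.span {rel}) (X 0 * X 1) : _ ⧸ Ideal.span {rel}) =
        ψ (algebraMap C _ (algebraMap R C Δ)) := by
      rw [show ψ (algebraMap C _ (algebraMap R C Δ)) = _ from RingHom.congr_fun hψ Δ]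
      exact Ideal.Quotient.eq.2 (Ideal.mem_span_singleton_self rel)
    rw [show ψ.symm (Ideal.Quotient.mk _ (X 0 * X 1)) = algebraMap C _ (algebraMap R C Δ) from
      ψ.symm_apply_eq.2 h1, hĝC, g.commutes]
    rfl
  have hU : U ∣ algebraMap R _ t₁ := by
    refine hn₁ ⟨Associates.mk U, Associates.mk_dvd_mk.2 ⟨V, hUV.symm⟩⟩ U rfl ?_
    refine Ideal.pow_le_pow_right ((Finset.le_sup (f := n₁) (Finset.mem_univ _)).trans hN₁) ?_
    rw [← hGu]
    exact hĝ _
  have hV : V ∣ algebraMap R _ t₂ := by
    refine hn₂ ⟨Associates.mk V, Associates.mk_dvd_mk.2 ⟨U, by rw [mul_comm, hUV]⟩⟩ V rfl ?_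
    refine Ideal.pow_le_pow_right ((Finset.le_sup (f := n₂) (Finset.mem_univ _)).trans hN₂) ?_
    rw [← hGv]
    exact hĝ _
  obtain ⟨x, hx⟩ := hU
  obtain ⟨y, hy⟩ := hV
  have hxy : x * y = 1 := by
    have h1 : U * V * (x * y) = U * V * 1 := by
      rw [mul_one, mul_mul_mul_comm, ← hx, ← hy, ← map_mul, ht, hUV]
    exact mul_left_cancel₀ (by rw [hUV]; exact hΔ0) h1
  constructor
  · rw [hx, Ideal.span_singleton_mul_right_unit (IsUnit.of_mul_eq_one y hxy)]
  · rw [hy, Ideal.span_singleton_mul_right_unit (IsUnit.of_mul_eq_one x (by rw [mul_comm, hxy]))]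

end Groth.Agent.S19894
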