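import Groth.Statements.S13209
import Groth.Agent.ASp.Affine
import Groth.Agent.ASp.ClosedIdeal
import Groth.Agent.ASp.YonExt

set_option autoImplicit false
set_option backward.isDefEq.respectTransparency false
set_option backward.isDefEq.respectTransparency.types false
set_option linter.style.haveILetI false
universe u
open CategoryTheory CategoryTheory.Limits AlgebraicGeometry
open Neron

namespace Groth.Agent.S13209

open AlgSp Groth.Agent.ASp

variable {S : Scheme.{u}} (U : S.Opens)

/-- `Y ×_S U` over `S`. -/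
noncomputable abbrev W : Over S ⥤ Over S := Over.pullback U.ι ⋙ Over.map U.ι

/-- The projection to `U`. -/
noncomputable def q (Y : Over S) : (W U).obj Y ⟶ Over.mk U.ι :=
  Over.homMk (pullback.snd Y.hom U.ι) rfl

theorem map_q {Y Y' : Over S} (a : Y ⟶ Y') : (W U).map a ≫ q U Y' = q U Y := by
  apply Over.OverMorphism.ext
  simp [q]

/-- The point of `F × h_U` over `Y ×_S U` defined by a point of `F` over `Y`. -/
noncomputable def θ {F : Sp S} {Y : Over S} (a : (yon S).obj Y ⟶ F) :
    (yon S).obj ((W U).obj Y) ⟶ F ⨯ (yon S).obj (Over.mk U.ι) :=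
  prod.lift ((yon S).map ((Over.mapPullbackAdj U.ι).counit.app Y) ≫ a) ((yon S).map (q U Y))

theorem map_θ {F : Sp S} {Y Y' : Over S} (a : Y ⟶ Y') (b : (yon S).obj Y' ⟶ F) :
    (yon S).map ((W U).map a) ≫ θ U b = θ U ((yon S).map a ≫ b) := by
  apply prod.hom_ext
  · simp only [θ, Category.assoc, prod.lift_fst, ← Functor.map_comp_assoc]
    exact congrArg (fun m => (yon S).map m ≫ b) ((Over.mapPullbackAdj U.ι).counit.naturality a)
  · simp only [θ, Category.assoc, prod.lift_snd, ← Functor.map_comp, map_q]

theorem θ_ext {F : Sp S} {V : Over S} {p : (yon S).obj V ⟶ F} (he : RepWith @Etale p)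
    (hs : RepWith @Surjective p) {G : Sp S} {f g : F ⨯ (yon S).obj (Over.mk U.ι) ⟶ G}
    (h : θ U p ≫ f = θ U p ≫ g) : f = g := by
  refine hom_ext_of_yon fun T b => ?_
  obtain ⟨T', c', t, sq⟩ := exists_isPullback_yon (g := p) he.1 (b ≫ prod.fst)
  haveI : Epi ((yon S).map t) := epi_of_etale_surjective
    ((repWith_yon_map_iff @Etale t).2 (he.2 _ _ t sq)) ((repWith_yon_map_iff @Surjective t).2 (hs.2 _ _ t sq))
  rw [← cancel_epi ((yon S).map t)]
  obtain ⟨s, hs'⟩ := (yon S).map_surjective (b ≫ prod.snd)
  let l : T' ⟶ (W U).obj V := Over.homMk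
    (pullback.lift c'.left (t ≫ s).left ((Over.w c').trans (Over.w (t ≫ s)).symm)) (by
      show pullback.lift _ _ _ ≫ pullback.snd _ _ ≫ U.ι = _
      rw [pullback.lift_snd_assoc]
      exact Over.w (t ≫ s))
  have hl : (yon S).map t ≫ b = (yon S).map l ≫ θ U p := by
    apply prod.hom_ext
    · rw [Category.assoc, ← sq.w, Category.assoc, θ, prod.lift_fst, ← Functor.map_comp_assoc]
      congr 2
      apply Over.OverMorphism.ext
      simp [l, Over.mapPullbackAdj]
    · rw [Category.assoc, ← hs', Category.assoc, θ, prod.lift_snd, ← Functor.map_comp, ← Functor.map_comp]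
      congr 1
      apply Over.OverMorphism.ext
      simp [l, q]
  rw [reassoc_of% hl, reassoc_of% hl, h]

/-- Let S be a scheme, U ⊆ S a schematically dense open subscheme and N → S a smooth S-scheme with the
Néron mapping property for schemes with respect to U: for every smooth S-scheme Y, composition with
the projection Y ×_S U → Y is a bijection from S-morphisms Y → N onto S-morphisms Y ×_S U → N
(equivalently, onto U-morphisms Y ×_S U → N ×_S U). Then N also has the Néron mapping property with
respect to smooth algebraic spaces: for every algebraic space F over S (an fppf sheaf of sets on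
S-schemes with representable diagonal and an étale surjective chart from a scheme) whose structure
map to h_S is smooth, composition with the first projection F × h_U → F is a bijection from
morphisms of sheaves F → h_N onto morphisms F × h_U → h_N. -/
theorem result
    {S : Scheme.{u}} (U : S.Opens) (hU : CInt.IsSchematicallyDense U) (N : Over S) [Smooth N.hom]
    (hN : ∀ Y : Over S, Smooth Y.hom →
      Function.Bijective (fun g : Y ⟶ N => (Over.mapPullbackAdj U.ι).counit.app Y ≫ g))
    (F : AlgSp.Sp S) (hF : AlgSp.IsAlgSpace F)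
    (sF : F ⟶ (AlgSp.yon S).obj (Over.mk (𝟙 S))) (hsm : AlgSp.LocP @Smooth sF) :
    Function.Bijective (fun φ : F ⟶ (AlgSp.yon S).obj N =>
      (Limits.prod.fst : F ⨯ (AlgSp.yon S).obj (Over.mk U.ι) ⟶ F) ≫ φ) := by
  obtain ⟨V, p, he, hs⟩ := hF.atlas
  haveI : Epi p := epi_of_etale_surjective he hs
  have hVs : Smooth V.hom := by
    obtain ⟨h, hh⟩ := (yon S).map_surjective (p ≫ sF)
    have h1 := hsm p (𝟙 _) h he (repWith_id _ _) (by rw [Category.comp_id, hh])
    have h2 : h.left = V.hom := (Category.comp_id _).symm.trans (Over.w h)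
    exact h2 ▸ h1
  have hfst : ∀ φ : F ⟶ (yon S).obj N, θ U p ≫ prod.fst ≫ φ =
      (yon S).map ((Over.mapPullbackAdj U.ι).counit.app V) ≫ p ≫ φ := fun φ => by
    rw [θ, prod.lift_fst_assoc, Category.assoc]
  constructor
  · intro φ φ' h
    obtain ⟨g, hg⟩ := (yon S).map_surjective (p ≫ φ)
    obtain ⟨g', hg'⟩ := (yon S).map_surjective (p ≫ φ')
    rw [← cancel_epi p, ← hg, ← hg', (hN V hVs).1 (a₁ := g) (a₂ := g') ((yon S).map_injective ?_)]
    simp only [Functor.map_comp, hg, hg', ← hfst]
    exact congrArg (θ U p ≫ ·) h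
  · intro ψ
    obtain ⟨R, a, t, sq⟩ := exists_isPullback_yon (g := p) he.1 p
    haveI : Etale t.left := he.2 _ _ t sq
    have hRs : Smooth R.hom := by
      rw [← Over.w t]
      haveI := hVs
      infer_instance
    obtain ⟨k, hk⟩ := (yon S).map_surjective (θ U p ≫ ψ)
    obtain ⟨g, hg⟩ := (hN V hVs).2 k
    have key : a ≫ g = t ≫ g := (hN R hRs).1 ((yon S).map_injective (by
      have hn : ∀ c : R ⟶ V, (Over.mapPullbackAdj U.ι).counit.app R ≫ c ≫ g = (W U).map c ≫ k := fun c => by
        rw [← hg]
        exact (Category.assoc _ _ _).symm.trans ((congrArg (· ≫ g)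
          ((Over.mapPullbackAdj U.ι).counit.naturality c).symm).trans (Category.assoc _ _ _))
      show (yon S).map (_ ≫ a ≫ g) = (yon S).map (_ ≫ t ≫ g)
      rw [hn, hn, Functor.map_comp, Functor.map_comp, hk, ← Category.assoc, ← Category.assoc, map_θ, map_θ, sq.w]))
    obtain ⟨φ, hφ⟩ := exists_desc_of_epi p sq ((yon S).map g) (by rw [← Functor.map_comp, ← Functor.map_comp, key])
    refine ⟨φ, θ_ext U he hs ?_⟩
    rw [hfst, hφ, ← Functor.map_comp]
    exact (congrArg (yon S).map hg).trans hk

end Groth.Agent.S13209
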