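import Groth.Statements.S13210
import Groth.Agent.ASp.Quot
import Groth.Agent.ASp.LqfRep
-- import your own Groth.Agent.* helpers here

set_option autoImplicit false
set_option backward.isDefEq.respectTransparency false
set_option backward.isDefEq.respectTransparency.types false
universe u
open CategoryTheory CategoryTheory.Limits AlgebraicGeometry
open AlgGrp

namespace Groth.Agent.S13210

/-- Let S be a scheme, F an algebraic space over S which is separated over S, and G a finite group
acting on F by S-automorphisms. If i : Z → F exhibits the fppf sheaf Z as the sub-sheaf of G-fixed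
points of F (i is G-invariant and every G-invariant morphism W → F factors uniquely through i), then
Z is an algebraic space and i is a closed immersion (representable by closed immersions). (The
published statement also treats a locally separated F, whose fixed points form a subspace, and
compatibility with base change; this row states only the separated case.) -/
theorem result
    {S : Scheme.{u}} (F : AlgSp.Sp S) (hF : AlgSp.IsAlgSpace F) (hsep : AlgSp.IsSeparatedSp F)
    (G : Type u) [Group G] [Finite G] (ρ : G →* Aut F)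
    (Z : AlgSp.Sp S) (i : Z ⟶ F) (hi : ∀ g : G, i ≫ (ρ g).hom = i)
    (huniv : ∀ (W : AlgSp.Sp S) (x : W ⟶ F), (∀ g : G, x ≫ (ρ g).hom = x) → ∃! z : W ⟶ Z, z ≫ i = x) :
    AlgSp.IsAlgSpace Z ∧ AlgSp.RepWith @IsClosedImmersion i := by
  classical
  have key : ∀ s : Finset G, ∃ (W : AlgSp.Sp S) (j : W ⟶ F), AlgSp.IsAlgSpace W ∧ AlgSp.RepWith @IsClosedImmersion j ∧
      (∀ g ∈ s, j ≫ (ρ g).hom = j) ∧
      ∀ (T : AlgSp.Sp S) (x : T ⟶ F), (∀ g ∈ s, x ≫ (ρ g).hom = x) → ∃ z : T ⟶ W, z ≫ j = x := by
    intro s
    induction s using Finset.induction with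
    | empty => exact ⟨F, 𝟙 F, hF, Groth.Agent.ASp.repWith_of_isIso _, by simp, fun T x _ => ⟨x, Category.comp_id x⟩⟩
    | insert g s hg ih =>
      obtain ⟨W, j, hW, hj, hinv, hu⟩ := ih
      let l : W ⟶ F ⨯ F := prod.lift j (j ≫ (ρ g).hom)
      let e := pullback.snd (Limits.diag F) l
      have he : AlgSp.RepWith @IsClosedImmersion e :=
        Groth.Agent.ASp.repWith_of_isPullback (IsPullback.of_hasPullback (Limits.diag F) l) hsep
      have h1 := pullback.condition (f := Limits.diag F) (g := l) =≫ (prod.fst : F ⨯ F ⟶ F)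
      have h2 := pullback.condition (f := Limits.diag F) (g := l) =≫ (prod.snd : F ⨯ F ⟶ F)
      simp only [l, Limits.diag, Category.assoc, prod.lift_fst, prod.lift_snd] at h1 h2
      refine ⟨pullback (Limits.diag F) l, e ≫ j,
        Groth.Agent.ASp.isAlgSpace_pullback (Groth.Agent.ASp.isAlgSpace_prod hF hF).diag hF hW _ _,
        Groth.Agent.ASp.repWith_comp he hj, ?_, ?_⟩
      · intro a ha
        rcases Finset.mem_insert.1 ha with rfl | ha
        · rw [Category.assoc, ← h2, h1]
        · rw [Category.assoc, hinv a ha]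
      · intro T x hx
        obtain ⟨z, hz⟩ := hu T x fun a ha => hx a (Finset.mem_insert_of_mem ha)
        refine ⟨pullback.lift x z ?_, by rw [pullback.lift_snd_assoc, hz]⟩
        apply prod.hom_ext
        · simp [l, hz]
        · simp [l, reassoc_of% hz, hx g (Finset.mem_insert_self g s)]
  haveI : Fintype G := Fintype.ofFinite G
  obtain ⟨W, j, hW, hj, hinv, hu⟩ := key Finset.univ
  obtain ⟨a, ha, -⟩ := huniv W j fun g => hinv g (Finset.mem_univ g)
  obtain ⟨b, hb⟩ := hu Z i fun g _ => hi g
  haveI : Mono j := Groth.Agent.ASp.mono_of_repWith (P := @IsClosedImmersion)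
    (fun g hg => haveI : IsClosedImmersion g := hg; inferInstance) hj
  have hab : a ≫ b = 𝟙 W := by rw [← cancel_mono j, Category.assoc, hb, ha, Category.id_comp]
  have hba : b ≫ a = 𝟙 Z := by
    obtain ⟨z, -, hz⟩ := huniv Z i hi
    rw [hz (b ≫ a) (by show (b ≫ a) ≫ i = i; rw [Category.assoc, ha, hb]), hz (𝟙 Z) (Category.id_comp i)]
  let e : W ≅ Z := ⟨a, b, hab, hba⟩
  refine ⟨hW.of_iso e, ?_⟩
  have hij : i = e.inv ≫ j := hb.symm
  rw [hij]
  haveI : IsIso e.inv := ⟨e.hom, e.inv_hom_id, e.hom_inv_id⟩
  exact Groth.Agent.ASp.repWith_comp (Groth.Agent.ASp.repWith_of_isIso _) hj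

end Groth.Agent.S13210
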