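import Groth.Statements.S1328
import Groth.Agent.NearGen.Fibre

set_option autoImplicit false
universe u
open FlatMor

namespace Groth.Agent.S1328

open AlgebraicGeometry CategoryTheory Limits in
/-- Let f be of finite type with irreducible target. If the generic fibre has exactly n irreducible
components, then over some nonempty open of the target every fibre has at least n irreducible
components. -/
theorem result {X Y : Scheme.{u}} (f : X ⟶ Y) [IrreducibleSpace ↑Y] [LocallyOfFiniteType f] [QuasiCompact f] (n : ℕ)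
    (h : (irreducibleComponents ↑(f.fiber (genericPoint ↑Y))).encard = n) :
    ∃ V : Y.Opens, (V : Set ↑Y).Nonempty ∧ ∀ y ∈ V, (n : ℕ∞) ≤ (irreducibleComponents ↑(f.fiber y)).encard := by
  classical
  have hfin : (irreducibleComponents ↑(f.fiber (genericPoint ↑Y))).Finite := Set.finite_of_encard_eq_coe h
  haveI := hfin.to_subtype
  haveI := Fintype.ofFinite (irreducibleComponents ↑(f.fiber (genericPoint ↑Y)))
  have hιy : ∀ y z, f (f.fiberι y z) = y := fun y z => (f.fiberHomeo y z).2
  -- an open subset of each component, missing the others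
  let o : irreducibleComponents ↑(f.fiber (genericPoint ↑Y)) → Set ↑(f.fiber (genericPoint ↑Y)) :=
    fun C => (⋃₀ (irreducibleComponents _ \ {C.1}))ᶜ
  have ho : ∀ C, IsOpen (o C) := fun C => by
    refine isOpen_compl_iff.2 ?_
    rw [Set.sUnion_eq_biUnion]
    exact hfin.sdiff.isClosed_biUnion fun W hW => isClosed_of_mem_irreducibleComponents W hW.1
  have hone : ∀ C, (o C).Nonempty := fun C => by
    by_contra hempty
    rw [Set.not_nonempty_iff_eq_empty, Set.compl_empty_iff] at hempty
    obtain ⟨ξ, hξ⟩ := QuasiSober.sober C.2.1 (isClosed_of_mem_irreducibleComponents C.1 C.2)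
    obtain ⟨W, hW, hξW⟩ := hempty.ge (Set.mem_univ ξ)
    have hle : C.1 ⊆ W := hξ.def ▸ closure_minimal (Set.singleton_subset_iff.2 hξW) (isClosed_of_mem_irreducibleComponents W hW.1)
    exact hW.2 (le_antisymm (C.2.2 hW.1.1 hle) hle)
  have hdisj : ∀ C C', C ≠ C' → o C ∩ o C' = ∅ := fun C C' hne => Set.eq_empty_iff_forall_notMem.2 fun z hz => by
    have hmem : ∀ D, z ∈ o D → irreducibleComponent z = D.1 := fun D hD => by
      by_contra hh
      exact hD (Set.mem_sUnion.2 ⟨_, ⟨irreducibleComponent_mem_irreducibleComponents z, hh⟩, mem_irreducibleComponent⟩)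
    exact hne (Subtype.ext ((hmem C hz.1).symm.trans (hmem C' hz.2)))
  choose O hO hOo using fun C => (f.fiberι (genericPoint ↑Y)).isEmbedding.isInducing.isOpen_iff.1 (ho C)
  have hW1 : ∀ C C', C ≠ C' → ∃ V : Y.Opens, genericPoint Y ∈ V ∧ ∀ x, f x ∈ V → x ∉ O C ∩ O C' := fun C C' hne => by
    obtain ⟨V, hη, hV⟩ := NearGen.exists_subset f (O C ∩ O C')ᶜ ((hO C).inter (hO C')).isClosed_compl (fun x hx hxO => by
      refine (Set.eq_empty_iff_forall_notMem.1 (hdisj C C' hne)) ((f.fiberHomeo _).symm ⟨x, hx⟩) ?_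
      rw [← hOo, ← hOo, Set.mem_inter_iff, Set.mem_preimage, Set.mem_preimage, f.fiberι_fiberHomeo_symm]
      exact hxO)
    exact ⟨V, hη, fun x hx => hV x hx⟩
  have hW2 : ∀ C, ∃ V : Y.Opens, genericPoint Y ∈ V ∧ ∀ y ∈ V, ∃ x ∈ O C, f x = y := fun C => by
    obtain ⟨z, hz⟩ := hone C
    rw [← hOo] at hz
    exact NearGen.exists_nonempty f (O C) (hO C) _ (hιy _ z) hz
  choose V1 hV1η hV1 using hW1
  choose V2 hV2η hV2 using hW2
  let V : Y.Opens := (Finset.univ.inf V2) ⊓
    Finset.univ.inf fun C => Finset.univ.inf fun C' => if hne : C = C' then ⊤ else V1 C C' hne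
  have hfin_mem : ∀ (s : Finset (irreducibleComponents ↑(f.fiber (genericPoint ↑Y)))) (G : _ → Y.Opens),
      (∀ C, genericPoint Y ∈ G C) → genericPoint Y ∈ s.inf G := fun s G hG => by
    induction s using Finset.induction_on with
    | empty => simp
    | insert a s has ih => rw [Finset.inf_insert]; exact ⟨hG a, ih⟩
  refine ⟨V, ⟨genericPoint Y, hfin_mem _ _ hV2η, hfin_mem _ _ fun C => hfin_mem _ _ fun C' => ?_⟩, fun y hy => ?_⟩
  · by_cases hne : C = C'
    · simp [hne]
    · rw [dif_neg hne]; exact hV1η C C' hne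
  choose x hxO hxy using fun C => hV2 C y (SetLike.le_def.1 (Finset.inf_le (Finset.mem_univ C)) hy.1)
  have key : ∀ C, ∃ D ∈ irreducibleComponents ↑(f.fiber y), ∀ ξ, IsGenericPoint ξ D → f.fiberι y ξ ∈ O C := fun C => by
    refine ⟨irreducibleComponent ((f.fiberHomeo y).symm ⟨x C, hxy C⟩), irreducibleComponent_mem_irreducibleComponents _,
      fun ξ hξ => ?_⟩
    refine (hξ.specializes mem_irreducibleComponent |>.map (f.fiberι y).continuous).mem_open (hO C) ?_
    rw [f.fiberι_fiberHomeo_symm]
    exact hxO C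
  choose D hD hDO using key
  have hinj : Function.Injective fun C => (⟨D C, hD C⟩ : irreducibleComponents ↑(f.fiber y)) := by
    intro C C' he
    by_contra hne
    obtain ⟨ξ, hξ⟩ := QuasiSober.sober (hD C).1 (isClosed_of_mem_irreducibleComponents _ (hD C))
    have he' : D C = D C' := congrArg Subtype.val he
    refine hV1 C C' hne (f.fiberι y ξ) ?_ ⟨hDO C ξ hξ, hDO C' ξ (he' ▸ hξ)⟩
    rw [hιy]
    have := SetLike.le_def.1 ((Finset.inf_le (Finset.mem_univ C)).trans (Finset.inf_le (Finset.mem_univ C'))) hy.2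
    rwa [dif_neg hne] at this
  rw [← h]
  exact Function.Embedding.encard_le ⟨_, hinj⟩

end Groth.Agent.S1328
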