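import Groth.Statements.S1329
import Groth.Agent.NearGen.Fibre

set_option autoImplicit false
universe u
open FlatMor

namespace Groth.Agent.S1329

open AlgebraicGeometry CategoryTheory Limits in
/-- Let f be of finite type with irreducible target. If the generic fibre has exactly n connected
components, then over some nonempty open of the target every fibre has at least n connected
components. -/
theorem result {X Y : Scheme.{u}} (f : X ⟶ Y) [IrreducibleSpace ↑Y] [LocallyOfFiniteType f] [QuasiCompact f] (n : ℕ)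
    (h : ENat.card (_root_.ConnectedComponents ↑(f.fiber (genericPoint ↑Y))) = n) :
    ∃ V : Y.Opens, (V : Set ↑Y).Nonempty ∧ ∀ y ∈ V, (n : ℕ∞) ≤ ENat.card (_root_.ConnectedComponents ↑(f.fiber y)) := by
  classical
  haveI : Finite (_root_.ConnectedComponents ↑(f.fiber (genericPoint ↑Y))) := ENat.card_lt_top.1 (h ▸ ENat.natCast_lt_top n)
  haveI := Fintype.ofFinite (_root_.ConnectedComponents ↑(f.fiber (genericPoint ↑Y)))
  have hιy : ∀ y z, f (f.fiberι y z) = y := fun y z => (f.fiberHomeo y z).2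
  have ho : ∀ C : _root_.ConnectedComponents ↑(f.fiber (genericPoint ↑Y)), IsOpen (ConnectedComponents.mk ⁻¹' {C}) := fun C =>
    (isOpen_discrete {C}).preimage ConnectedComponents.continuous_coe
  choose O hO hOo using fun C => (f.fiberι (genericPoint ↑Y)).isEmbedding.isInducing.isOpen_iff.1 (ho C)
  have hmemO : ∀ z C, f.fiberι (genericPoint ↑Y) z ∈ O C ↔ ConnectedComponents.mk z = C := fun z C => by
    rw [← Set.mem_preimage, hOo]; rfl
  have hW1 : ∀ C C', C ≠ C' → ∃ V : Y.Opens, genericPoint Y ∈ V ∧ ∀ x, f x ∈ V → x ∉ O C ∩ O C' := fun C C' hne => by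
    obtain ⟨V, hη, hV⟩ := NearGen.exists_subset f (O C ∩ O C')ᶜ ((hO C).inter (hO C')).isClosed_compl (fun x hx hxO => by
      obtain ⟨z, rfl⟩ : ∃ z, f.fiberι _ z = x := ⟨_, f.fiberι_fiberHomeo_symm _ ⟨x, hx⟩⟩
      exact hne (((hmemO _ C).1 hxO.1).symm.trans ((hmemO _ C').1 hxO.2)))
    exact ⟨V, hη, fun x hx => hV x hx⟩
  obtain ⟨V0, hV0η, hV0⟩ := NearGen.exists_disjoint f (⋃ C, O C)ᶜ (isOpen_iUnion hO).isClosed_compl (fun x hx hxO => by
    refine hxO (Set.mem_iUnion.2 ⟨ConnectedComponents.mk ((f.fiberHomeo _).symm ⟨x, hx⟩), ?_⟩)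
    have := (hmemO ((f.fiberHomeo _).symm ⟨x, hx⟩) _).2 rfl
    rwa [f.fiberι_fiberHomeo_symm] at this)
  have hW2 : ∀ C, ∃ V : Y.Opens, genericPoint Y ∈ V ∧ ∀ y ∈ V, ∃ x ∈ O C, f x = y := fun C => by
    obtain ⟨z, rfl⟩ := ConnectedComponents.surjective_coe C
    exact NearGen.exists_nonempty f _ (hO _) _ (hιy _ z) ((hmemO z _).2 rfl)
  choose V1 hV1η hV1 using hW1
  choose V2 hV2η hV2 using hW2
  let V : Y.Opens := V0 ⊓ ((Finset.univ.inf V2) ⊓
    Finset.univ.inf fun C => Finset.univ.inf fun C' => if hne : C = C' then ⊤ else V1 C C' hne)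
  have hfin_mem : ∀ (s : Finset (_root_.ConnectedComponents ↑(f.fiber (genericPoint ↑Y)))) (G : _ → Y.Opens),
      (∀ C, genericPoint Y ∈ G C) → genericPoint Y ∈ s.inf G := fun s G hG => by
    induction s using Finset.induction_on with
    | empty => simp
    | insert a s has ih => rw [Finset.inf_insert]; exact ⟨hG a, ih⟩
  refine ⟨V, ⟨genericPoint Y, hV0η, hfin_mem _ _ hV2η, hfin_mem _ _ fun C => hfin_mem _ _ fun C' => ?_⟩, fun y hy => ?_⟩
  · by_cases hne : C = C'
    · simp [hne]
    · rw [dif_neg hne]; exact hV1η C C' hne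
  have hcov : ∀ z : ↑(f.fiber y), ∃ C, f.fiberι y z ∈ O C := fun z => by
    have := hV0 (f.fiberι y z) ((hιy y z).symm ▸ hy.1)
    exact Set.mem_iUnion.1 (not_not.1 this)
  choose c hc using hcov
  have huniq : ∀ z C, f.fiberι y z ∈ O C → c z = C := fun z C hC => by
    by_contra hne
    refine hV1 (c z) C hne (f.fiberι y z) ?_ ⟨hc z, hC⟩
    rw [hιy]
    have := SetLike.le_def.1 ((Finset.inf_le (Finset.mem_univ (c z))).trans (Finset.inf_le (Finset.mem_univ C))) hy.2.2
    rwa [dif_neg hne] at this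
  have hcl : IsLocallyConstant c := IsLocallyConstant.iff_exists_open _ |>.2 fun z =>
    ⟨f.fiberι y ⁻¹' O (c z), (hO _).preimage (f.fiberι y).continuous, hc z, fun z' hz' => huniq z' _ hz'⟩
  have hsurj : Function.Surjective c := fun C => by
    obtain ⟨x, hxO, hxy⟩ := hV2 C y (SetLike.le_def.1 (Finset.inf_le (Finset.mem_univ C)) hy.2.1)
    exact ⟨(f.fiberHomeo y).symm ⟨x, hxy⟩, huniq _ _ (by rw [f.fiberι_fiberHomeo_symm]; exact hxO)⟩
  have hsurj' : Function.Surjective hcl.continuous.connectedComponentsLift := fun C => by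
    obtain ⟨z, rfl⟩ := hsurj C
    exact ⟨ConnectedComponents.mk z, hcl.continuous.connectedComponentsLift_apply_coe z⟩
  rw [← h]
  exact ENat.card_le_card_of_injective (Function.injective_surjInv hsurj')

end Groth.Agent.S1329
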