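import Groth.Statements.S13341
import Mathlib

set_option autoImplicit false
open CategoryTheory
universe u
open FCompl

namespace Groth.Agent.S13341

open AlgebraicGeometry CategoryTheory CategoryTheory.Limits

theorem h9_graph_square {X0 X1 Y0 Y1 S0 S1 : Scheme.{u}} (iX : X0 ⟶ X1) (iY : Y0 ⟶ Y1) (iS : S0 ⟶ S1)
    [Mono iX] [Mono iY] (p0 : X0 ⟶ S0) (p1 : X1 ⟶ S1) (q0 : Y0 ⟶ S0) (q1 : Y1 ⟶ S1)
    (ep : p0 ≫ iS = iX ≫ p1) (eq : q0 ≫ iS = iY ≫ q1)
    (g0 : X0 ⟶ pullback p0 q0) (g1 : X1 ⟶ pullback p1 q1)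
    (h0 : g0 ≫ pullback.fst p0 q0 = 𝟙 _) (h1 : g1 ≫ pullback.fst p1 q1 = 𝟙 _)
    (comm : iX ≫ g1 = g0 ≫ pullback.map p0 q0 p1 q1 iX iY iS ep eq) :
    IsPullback iX g0 g1 (pullback.map p0 q0 p1 q1 iX iY iS ep eq) := by
  haveI hm : Mono (pullback.map p0 q0 p1 q1 iX iY iS ep eq) := ⟨fun {T} a b hab => by
    apply pullback.hom_ext
    · rw [← cancel_mono iX]
      have := congrArg (· ≫ pullback.fst p1 q1) hab
      simpa [pullback.map, Category.assoc, pullback.lift_fst] using this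
    · rw [← cancel_mono iY]
      have := congrArg (· ≫ pullback.snd p1 q1) hab
      simpa [pullback.map, Category.assoc, pullback.lift_snd] using this⟩
  refine IsPullback.of_isLimit' ⟨comm⟩ ?_
  have key : ∀ s : PullbackCone g1 (pullback.map p0 q0 p1 q1 iX iY iS ep eq),
      (s.snd ≫ pullback.fst p0 q0) ≫ iX = s.fst := by
    intro s
    have := congrArg (· ≫ pullback.fst p1 q1) s.condition
    simp only [pullback.map, Category.assoc, pullback.lift_fst, h1, Category.comp_id] at this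
    rw [Category.assoc]; exact this.symm
  refine PullbackCone.IsLimit.mk _ (fun s => s.snd ≫ pullback.fst p0 q0) key ?_ ?_
  · intro s
    rw [← cancel_mono (pullback.map p0 q0 p1 q1 iX iY iS ep eq), ← s.condition, Category.assoc, ← comm,
      ← Category.assoc, key]
  · intro s m _ hm
    rw [← hm, Category.assoc, h0, Category.comp_id]

open AlgebraicGeometry in
/-- Formal schemes are presented as locally Noetherian adic systems of thickenings and the fibre product
is taken levelwise (it presents the fibre product of formal schemes since one factor is adic over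
the base). Let 𝔖 be a locally Noetherian formal system, 𝔛 and 𝔜 locally Noetherian formal systems
over 𝔖 such that 𝔛 or 𝔜 is of finite type over 𝔖, and 𝔜 separated over 𝔖 at level 0. Then for every
𝔖-morphism f : 𝔛 → 𝔜 the graph morphism 𝔛 → 𝔛 ×_𝔖 𝔜 is a closed immersion: adic, with level 0 a
closed immersion. -/
theorem result {𝔛 𝔜 𝔖 : FSch.Sys.{u}} (h𝔖 : 𝔖.IsLocNoethFormal) (h𝔛 : 𝔛.IsLocNoethFormal)
    (h𝔜 : 𝔜.IsLocNoethFormal) (p : 𝔛 ⟶ 𝔖) (q : 𝔜 ⟶ 𝔖) (hpq : FSch.IsFiniteTypeHom p ∨ FSch.IsFiniteTypeHom q)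
    (hq : IsSeparated ((q : FSch.Hom 𝔜 𝔖).app 0)) (f : 𝔛 ⟶ 𝔜) (w : f ≫ q = p) :
    FSch.IsClosedImmHom (FSch.graph f p q w) := by
  refine ⟨fun n => ?_, ?_⟩
  · haveI := (h𝔛.1 n).1
    haveI := (h𝔜.1 n).1
    exact h9_graph_square (𝔛.ι n) (𝔜.ι n) (𝔖.ι n) ((p : FSch.Hom _ _).app n) ((p : FSch.Hom _ _).app (n + 1))
      ((q : FSch.Hom _ _).app n) ((q : FSch.Hom _ _).app (n + 1)) ((p : FSch.Hom _ _).comm n) ((q : FSch.Hom _ _).comm n)
      ((FSch.graph f p q w : FSch.Hom _ _).app n)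
      ((FSch.graph f p q w : FSch.Hom _ _).app (n + 1)) (pullback.lift_fst _ _ _) (pullback.lift_fst _ _ _)
      ((FSch.graph f p q w : FSch.Hom _ _).comm n).symm
  · haveI := hq
    haveI : IsSeparated (pullback.fst ((p : FSch.Hom _ _).app 0) ((q : FSch.Hom _ _).app 0)) :=
      MorphismProperty.of_isPullback (P := @IsSeparated) (IsPullback.of_hasPullback _ _).flip hq
    let g0 : 𝔛.X 0 ⟶ pullback ((p : FSch.Hom _ _).app 0) ((q : FSch.Hom _ _).app 0) :=
      (FSch.graph f p q w : FSch.Hom _ _).app 0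
    haveI : IsClosedImmersion (g0 ≫ pullback.fst ((p : FSch.Hom _ _).app 0) ((q : FSch.Hom _ _).app 0)) := by
      rw [show g0 ≫ pullback.fst ((p : FSch.Hom _ _).app 0) ((q : FSch.Hom _ _).app 0) = 𝟙 _ from pullback.lift_fst _ _ _]
      infer_instance
    exact IsClosedImmersion.of_comp g0
      (pullback.fst ((p : FSch.Hom _ _).app 0) ((q : FSch.Hom _ _).app 0))

end Groth.Agent.S13341
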