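import Groth.Statements.S13352
import Groth.Agent.AdicRingLib.TFTFinite
import Groth.Agent.AdicRingLib.HeightOne
import Groth.Agent.S11525

set_option autoImplicit false
universe u
open scoped TensorProduct
open AdicRing

namespace Groth.Agent.S13352

/-- Let R be a complete valuation ring of height one with t a nonzero element generating an ideal of
definition and K its field of fractions, A an admissible R-algebra, and f_1, ..., f_n elements of A
⊗_R K that are integral over A. Then A' = A[f_1, ..., f_n], a subalgebra of A ⊗_R K, is an
admissible R-algebra which is finite over A. (The published hypothesis is that each f_i has supremum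
seminorm at most 1 on the affinoid algebra A ⊗_R K; integrality of the f_i over A is what is derived
from it and used, and is the hypothesis taken here.) -/
theorem result
    (R : Type u) [CommRing R] [IsDomain R] [ValuationRing R] [Ring.KrullDimLE 1 R]
    (t : R) (ht : t ≠ 0) [IsAdicComplete (Ideal.span {t}) R]
    (A : Type u) [CommRing A] [Algebra R A] (hA : AdicRing.Admissible R (Ideal.span {t}) A)
    (n : ℕ) (f : Fin n → A ⊗[R] FractionRing R) (hf : ∀ i, IsIntegral A (f i)) :
    AdicRing.Admissible R (Ideal.span {t}) ↥(Algebra.adjoin A (Set.range f)) ∧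
      Module.Finite A ↥(Algebra.adjoin A (Set.range f)) := by
  classical
  have hbase := Groth.Agent.AdicRingLib.HeightOne.isBase (R := R) ht
  have hfin : Module.Finite A (Algebra.adjoin A (Set.range f)) := Module.Finite.iff_fg.2
    (fg_adjoin_of_finite (Set.finite_range _) (by rintro _ ⟨i, rfl⟩; exact hf i))
  have htf : AdicRing.NoPowTorsion (Ideal.span {t}) (A ⊗[R] FractionRing R) := by
    intro x k hk
    have h1 := hk (t ^ k) (Ideal.pow_mem_pow (Ideal.mem_span_singleton_self t) k)
    have hu : IsUnit (algebraMap R (A ⊗[R] FractionRing R) (t ^ k)) := by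
      have h2 : IsUnit (algebraMap R (FractionRing R) (t ^ k)) := isUnit_iff_ne_zero.2
        ((map_ne_zero_iff _ (IsFractionRing.injective R (FractionRing R))).2 (pow_ne_zero k ht))
      rw [← (Algebra.TensorProduct.includeRight (A := A)).commutes]
      exact h2.map _
    rw [show t ^ k • x = algebraMap R (A ⊗[R] FractionRing R) (t ^ k) * x by
      rw [← algebraMap_smul (A ⊗[R] FractionRing R) (t ^ k) x, smul_eq_mul]] at h1
    exact hu.mul_right_eq_zero.1 h1
  have hT : AdicRing.NoPowTorsion (Ideal.span {t}) ↥(Algebra.adjoin A (Set.range f)) :=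
    fun x k hk => Subtype.ext (htf x.1 k fun a ha => congrArg Subtype.val (hk a ha))
  obtain ⟨⟨m, φ, hφ, -⟩, -⟩ := hA
  have hTFT := Groth.Agent.AdicRingLib.tft_of_finite hbase ⟨m, φ, hφ⟩
    ↥(Algebra.adjoin A (Set.range f))
  exact ⟨⟨Groth.Agent.S11525.result R _ hbase _ hTFT hT, hT⟩, hfin⟩

end Groth.Agent.S13352
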