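import Groth.Statements.S13353
import Groth.Agent.AdicRingLib.HeightOne

set_option autoImplicit false
universe u
open scoped TensorProduct
open AdicRing

namespace Groth.Agent.S13353

/-- Let R be a complete valuation ring of height one with t a nonzero element generating an ideal of
definition and K its field of fractions, A an admissible R-algebra, f_1, ..., f_n elements of A ⊗_R
K integral over A, c a nonzero element of R and g_1, ..., g_n elements of A with g_i = c f_i in A
⊗_R K; put 𝔞 = (c, g_1, ..., g_n) and A' = A[f_1, ..., f_n] ⊂ A ⊗_R K. If D is an admissible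
R-algebra and φ : A → D an R-algebra homomorphism such that the ideal 𝔞D is generated by the image
of c, or by the image of some g_i, then 𝔞D is generated by c and φ extends to exactly one R-algebra
homomorphism A' → D. (This is the universal property through which Spf A' → Spf A is identified with
the formal blowing-up of 𝔞 on Spf A; the published hypothesis on the f_i is a supremum-seminorm
bound, from which their integrality over A is derived.) -/
theorem result
    (R : Type u) [CommRing R] [IsDomain R] [ValuationRing R] [Ring.KrullDimLE 1 R]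
    (t : R) (ht : t ≠ 0) [IsAdicComplete (Ideal.span {t}) R]
    (A : Type u) [CommRing A] [Algebra R A] (hA : AdicRing.Admissible R (Ideal.span {t}) A)
    (n : ℕ) (f : Fin n → A ⊗[R] FractionRing R) (hf : ∀ i, IsIntegral A (f i))
    (c : R) (hc : c ≠ 0) (g : Fin n → A)
    (hg : ∀ i, algebraMap A (A ⊗[R] FractionRing R) (g i) = c • f i)
    (D : Type u) [CommRing D] [Algebra R D] (hD : AdicRing.Admissible R (Ideal.span {t}) D)
    (φ : A →ₐ[R] D)
    (hgen : (Ideal.span (insert (algebraMap R A c) (Set.range g))).map φ =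
          Ideal.span {algebraMap R D c} ∨
      ∃ i, (Ideal.span (insert (algebraMap R A c) (Set.range g))).map φ = Ideal.span {φ (g i)}) :
    (Ideal.span (insert (algebraMap R A c) (Set.range g))).map φ = Ideal.span {algebraMap R D c} ∧
      ∃! ψ : ↥(Algebra.adjoin A (Set.range f)) →ₐ[R] D,
        ψ.comp (IsScalarTower.toAlgHom R A ↥(Algebra.adjoin A (Set.range f))) = φ := by
  classical
  have hval := Groth.Agent.AdicRingLib.HeightOne.isValBase (R := R) ht
  have hcK : algebraMap R (FractionRing R) c ≠ 0 :=
    (map_ne_zero_iff _ (IsFractionRing.injective R (FractionRing R))).2 hc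
  have hflat : ∀ (B : Type u) [CommRing B] [Algebra R B], AdicRing.NoPowTorsion (Ideal.span {t}) B →
      Module.Flat R B := fun B _ _ hB => Groth.Agent.AdicRingLib.IsValBase.flat_of_torsionFree B hval
    fun x hx => hB x 1 fun a ha => by
      rw [pow_one] at ha
      obtain ⟨b, rfl⟩ := Ideal.mem_span_singleton.1 ha
      rw [mul_comm, mul_smul, hx, smul_zero]
  haveI := hflat A hA.2
  haveI := hflat D hD.2
  have hinjA : Function.Injective (algebraMap A (A ⊗[R] FractionRing R)) :=
    Algebra.TensorProduct.includeLeft_injective (S := A) (IsFractionRing.injective R (FractionRing R))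
  have hinjD : Function.Injective (algebraMap D (D ⊗[R] FractionRing R)) :=
    Algebra.TensorProduct.includeLeft_injective (S := D) (IsFractionRing.injective R (FractionRing R))
  have hcunit : ∀ (B : Type u) [CommRing B] [Algebra R B],
      IsUnit (algebraMap R (B ⊗[R] FractionRing R) c) := fun B _ _ => by
    rw [← (Algebra.TensorProduct.includeRight (A := B)).commutes]
    exact (isUnit_iff_ne_zero.2 hcK).map _
  set cD := algebraMap R D c
  have hcD : cD ∈ nonZeroDivisors D := by
    rw [mem_nonZeroDivisors_iff_right]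
    intro x hx
    refine hinjD ?_
    rw [map_zero]
    refine (hcunit D).mul_left_eq_zero.1 ?_
    rw [IsScalarTower.algebraMap_apply R D (D ⊗[R] FractionRing R), ← map_mul, hx, map_zero]
  have hmem : ∀ i, ∃ d, φ (g i) = cD * d := by
    intro i
    rcases subsingleton_or_nontrivial D with hDs | hDn
    · exact ⟨0, Subsingleton.elim _ _⟩
    have hgmem : φ (g i) ∈ (Ideal.span (insert (algebraMap R A c) (Set.range g))).map φ :=
      Ideal.mem_map_of_mem _ (Ideal.subset_span (Set.mem_insert_of_mem _ ⟨i, rfl⟩))
    rcases hgen with h | ⟨j, h⟩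
    · rw [h] at hgmem
      obtain ⟨d, hd⟩ := Ideal.mem_span_singleton'.1 hgmem
      exact ⟨d, by rw [← hd, mul_comm]⟩
    -- the generator is associated with `c`
    have hc' : cD ∈ Ideal.span {φ (g j)} := by
      rw [← h]
      have := Ideal.mem_map_of_mem φ (Ideal.subset_span (Set.mem_insert (algebraMap R A c) (Set.range g)))
      rwa [φ.commutes] at this
    obtain ⟨d, hd⟩ := Ideal.mem_span_singleton'.1 hc'
    obtain ⟨p, hpm, hp⟩ := hf j
    have h0 : (p.scaleRoots (algebraMap R A c)).eval (g j) = 0 := by
      refine hinjA ?_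
      rw [map_zero, ← Polynomial.eval₂_at_apply, hg j,
        show c • f j = algebraMap R (A ⊗[R] FractionRing R) c * f j by
          rw [← algebraMap_smul (A ⊗[R] FractionRing R) c (f j), smul_eq_mul],
        IsScalarTower.algebraMap_apply R A (A ⊗[R] FractionRing R)]
      exact Polynomial.scaleRoots_eval₂_eq_zero _ hp
    set q := (p.map φ.toRingHom).scaleRoots d
    have hq : φ (g j) ^ q.natDegree * q.eval 1 = 0 := by
      have h1 := Polynomial.scaleRoots_eval₂_mul (p := q) (RingHom.id D) 1 (φ (g j))
      simp only [RingHom.id_apply, mul_one] at h1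
      have hs : q.scaleRoots (φ (g j)) = (p.scaleRoots (algebraMap R A c)).map φ.toRingHom := by
        rw [← Polynomial.scaleRoots_mul, hd, Polynomial.map_scaleRoots _ _ _ (by
          rw [hpm.leadingCoeff, map_one]; exact one_ne_zero)]
        rw [show φ.toRingHom (algebraMap R A c) = cD from φ.commutes c]
      rw [hs] at h1
      rw [← Polynomial.eval₂_id, ← h1, Polynomial.eval₂_map, RingHom.id_comp,
        show φ (g j) = φ.toRingHom (g j) from rfl, Polynomial.eval₂_at_apply, h0, map_zero]
    have hG : φ (g j) ∈ nonZeroDivisors D := (mul_mem_nonZeroDivisors.1 (hd.symm ▸ hcD)).2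
    have hq1 : q.eval 1 = 0 := (mem_nonZeroDivisors_iff_right.1 (pow_mem hG _) _
      (by rw [mul_comm]; exact hq))
    have hunit : IsUnit d := by
      rw [Polynomial.eval_eq_sum_range, Finset.sum_range_succ] at hq1
      simp only [one_pow, mul_one] at hq1
      have hlead : q.coeff q.natDegree = 1 := by
        simp only [q, Polynomial.natDegree_scaleRoots, Polynomial.coeff_scaleRoots_natDegree]
        exact (hpm.map φ.toRingHom).leadingCoeff
      rw [hlead] at hq1
      have hdvd : d ∣ ∑ i ∈ Finset.range q.natDegree, q.coeff i := Finset.dvd_sum fun i hi => by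
        rw [Polynomial.coeff_scaleRoots]
        refine Dvd.dvd.mul_left (dvd_pow_self d ?_) _
        have := Finset.mem_range.1 hi
        rw [Polynomial.natDegree_scaleRoots] at this
        omega
      obtain ⟨e, he⟩ := hdvd
      refine IsUnit.of_mul_eq_one (-e) ?_
      rw [he] at hq1
      linear_combination -hq1
    rw [h] at hgmem
    obtain ⟨e, he⟩ := Ideal.mem_span_singleton'.1 hgmem
    obtain ⟨u, hu⟩ := hunit.exists_left_inv
    exact ⟨e * u, by rw [← he, ← hd]; linear_combination -(e * φ (g j)) * hu⟩
  refine ⟨le_antisymm (Ideal.map_le_iff_le_comap.2 (Ideal.span_le.2 ?_))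
    ((Ideal.span_singleton_le_iff_mem _).2 ?_), ?_⟩
  · rintro x (rfl | ⟨i, rfl⟩)
    · exact Ideal.mem_span_singleton.2 (dvd_of_eq (φ.commutes c).symm)
    · obtain ⟨d, hd⟩ := hmem i
      exact Ideal.mem_span_singleton.2 ⟨d, hd⟩
  · have := Ideal.mem_map_of_mem φ
      (Ideal.subset_span (Set.mem_insert (algebraMap R A c) (Set.range g)))
    rwa [φ.commutes] at this
  -- the extension
  let Φ : A ⊗[R] FractionRing R →ₐ[R] D ⊗[R] FractionRing R :=
    Algebra.TensorProduct.map φ (AlgHom.id R (FractionRing R))
  let ι : D →ₐ[R] D ⊗[R] FractionRing R := IsScalarTower.toAlgHom R D _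
  have hΦA : ∀ a : A, Φ (algebraMap A _ a) = ι (φ a) := fun a => by
    show Φ (a ⊗ₜ 1) = φ a ⊗ₜ 1
    rw [Algebra.TensorProduct.map_tmul, map_one]
  have hsmul : ∀ y : D ⊗[R] FractionRing R,
      c • y = algebraMap R (D ⊗[R] FractionRing R) c * y := fun y => by
    rw [← algebraMap_smul (D ⊗[R] FractionRing R) c y, smul_eq_mul]
  have hrange : ∀ x ∈ Algebra.adjoin A (Set.range f), Φ x ∈ ι.range := by
    intro x hx
    induction hx using Algebra.adjoin_induction with
    | mem x hx =>
      obtain ⟨i, rfl⟩ := hx
      obtain ⟨d, hd⟩ := hmem i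
      refine ⟨d, (hcunit D).mul_left_cancel ?_⟩
      show algebraMap R _ c * ι d = algebraMap R _ c * Φ (f i)
      rw [← ι.commutes, ← map_mul, show cD = algebraMap R D c from rfl] at *
      rw [← hd, ← hΦA, hg, map_smul, hsmul, ι.commutes]
    | algebraMap a => exact ⟨φ a, (hΦA a).symm⟩
    | add x y _ _ hx hy => rw [map_add]; exact add_mem hx hy
    | mul x y _ _ hx hy => rw [map_mul]; exact mul_mem hx hy
  let e := AlgEquiv.ofInjective ι hinjD
  let ψ : ↥(Algebra.adjoin A (Set.range f)) →ₐ[R] D := e.symm.toAlgHom.comp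
    ((Φ.comp ((Algebra.adjoin A (Set.range f)).val.restrictScalars R)).codRestrict ι.range
      fun x => hrange x.1 x.2)
  have hψ : ∀ x, ι (ψ x) = Φ x.1 := fun x => congrArg Subtype.val (e.apply_symm_apply ⟨Φ x.1, hrange x.1 x.2⟩)
  refine ⟨ψ, AlgHom.ext fun a => hinjD ((hψ _).trans (hΦA a)), fun ψ' hψ' => ?_⟩
  refine AlgHom.ext fun x => hinjD ?_
  show ι (ψ' x) = ι (ψ x)
  rw [hψ]
  obtain ⟨x, hx⟩ := x
  induction hx using Algebra.adjoin_induction with
  | mem x hx =>
    obtain ⟨i, rfl⟩ := hx
    refine (hcunit D).mul_left_cancel ?_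
    rw [← ι.commutes, ← map_mul, ← Algebra.smul_def, ← map_smul]
    have h1 : c • (⟨f i, Algebra.subset_adjoin ⟨i, rfl⟩⟩ : ↥(Algebra.adjoin A (Set.range f))) =
        IsScalarTower.toAlgHom R A _ (g i) := Subtype.ext (hg i).symm
    rw [h1, show ψ' (IsScalarTower.toAlgHom R A _ (g i)) = φ (g i) from
      congrArg (fun G : A →ₐ[R] D => G (g i)) hψ', ← hΦA, hg, map_smul, hsmul,
      ι.commutes]
  | algebraMap a =>
    exact (congrArg ι (congrArg (fun G : A →ₐ[R] D => G a) hψ')).trans (hΦA a).symm
  | add x y hx hy ihx ihy =>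
    rw [map_add, ← ihx, ← ihy, ← map_add, ← map_add]; rfl
  | mul x y hx hy ihx ihy =>
    rw [map_mul, ← ihx, ← ihy, ← map_mul, ← map_mul]; rfl

end Groth.Agent.S13353
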