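import Groth.Statements.S13354
import Groth.Agent.AdicRingLib.RigPoint

set_option autoImplicit false
universe u
open AdicRing

namespace Groth.Agent.S13354

/-- Let R be a complete valuation ring of height one with t a nonzero element generating an ideal of
definition, B an admissible R-algebra which is a local integral domain of Krull dimension one (the
algebra of a rig-point), and b_1, ..., b_n elements of B, not all zero. Then there is a B-subalgebra
B' of the field of fractions of B which is finite over B, is again a local ring of Krull dimension
one, and in which the ideal generated by b_1, ..., b_n is generated by one of the b_i alone (hence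
is invertible). (This is the algebraic step by which a rig-point is lifted along the formal
blowing-up of a finitely generated open ideal; the resulting bijection between rig-points of the
blowing-up and of the base is not stated here.) -/
theorem result
    (R : Type u) [CommRing R] [IsDomain R] [ValuationRing R] [Ring.KrullDimLE 1 R]
    (t : R) (ht : t ≠ 0) [IsAdicComplete (Ideal.span {t}) R]
    (B : Type u) [CommRing B] [Algebra R B] [IsDomain B] [IsLocalRing B]
    (hB : AdicRing.Admissible R (Ideal.span {t}) B) (hdim : ringKrullDim B = 1)
    (n : ℕ) (b : Fin n → B) (hb : ∃ i, b i ≠ 0) :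
    ∃ B' : Subalgebra B (FractionRing B), Module.Finite B ↥B' ∧ IsLocalRing ↥B' ∧ ringKrullDim ↥B' = 1 ∧
      ∃ i, Ideal.span (Set.range (fun j => algebraMap B ↥B' (b j))) =
        Ideal.span {algebraMap B ↥B' (b i)} := by
  classical
  haveI := Groth.Agent.AdicRingLib.RigPoint.valuationRing_integralClosure ht hB hdim
  haveI := Groth.Agent.AdicRingLib.HeightOne.module_finite ht hB hdim
  let L := FractionRing B
  let C := integralClosure B L
  obtain ⟨i, -, hi⟩ := Groth.Agent.AdicRingLib.RigPoint.exists_dvd_all (C := C) Finset.univ
    ⟨hb.choose, Finset.mem_univ _⟩ (fun j => algebraMap B C (b j))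
  choose c hc using fun j => hi j (Finset.mem_univ j)
  let B' : Subalgebra B L := Algebra.adjoin B (Set.range fun j => (c j : L))
  have hfin : Module.Finite B B' := Module.Finite.iff_fg.2
    (fg_adjoin_of_finite (Set.finite_range _) (by rintro _ ⟨j, rfl⟩; exact (c j).2))
  have hle : B' ≤ C := Algebra.adjoin_le (by rintro _ ⟨j, rfl⟩; exact (c j).2)
  have hloc : IsLocalRing B' := by
    letI := (Subalgebra.inclusion hle).toRingHom.toAlgebra
    haveI : IsScalarTower B B' C := IsScalarTower.of_algebraMap_eq fun x => rfl
    haveI : Algebra.IsIntegral B C := ⟨fun x => (isIntegral_algebraMap_iff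
      (B := L) Subtype.val_injective).1 x.2⟩
    haveI : Algebra.IsIntegral B' C := Algebra.IsIntegral.tower_top (R := B)
    haveI := (faithfulSMul_iff_algebraMap_injective B' C).2
      (Subalgebra.inclusion_injective hle)
    exact (algebraMap B' C).domain_isLocalRing
  refine ⟨B', hfin, hloc, ?_, i, ?_⟩
  · haveI : Ring.KrullDimLE 1 B := Ring.krullDimLE_iff.2 (le_of_eq hdim)
    haveI : Ring.KrullDimLE 1 B' := Groth.Agent.AdicRingLib.RigPoint.krullDimLE_one_up (B₀ := B)
    haveI : FaithfulSMul B B' := (faithfulSMul_iff_algebraMap_injective B B').2 fun x y hxy =>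
      IsFractionRing.injective B L (congrArg Subtype.val hxy)
    refine Groth.Agent.AdicRingLib.RigPoint.dim_one (s := algebraMap B B' (algebraMap R B t))
      (fun h => ?_) (fun h => ?_)
    · exact Groth.Agent.AdicRingLib.HeightOne.algebraMap_t_ne_zero ht hB
        (IsFractionRing.injective B L ((congrArg Subtype.val h).trans (map_zero _).symm))
    · exact Groth.Agent.AdicRingLib.RigPoint.not_isUnit_algebraMap_t ht hB
        (isUnit_of_map_unit (algebraMap B B') _ h)
  · refine le_antisymm (Ideal.span_le.2 ?_) (Ideal.span_mono (by rintro _ rfl; exact ⟨i, rfl⟩))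
    rintro _ ⟨j, rfl⟩
    refine Ideal.mem_span_singleton.2 ⟨⟨c j, Algebra.subset_adjoin ⟨j, rfl⟩⟩, Subtype.ext ?_⟩
    exact (congrArg Subtype.val (hc j) :)

end Groth.Agent.S13354
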