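import Groth.Statements.S13361
import Mathlib
import Groth.Agent.ProComplLib.Basic
-- import your own Groth.Agent.* helpers here

set_option autoImplicit false
universe u
open ProCompl

namespace Groth.Agent.S13361

/-- A finite abelian group with a nonzero element contained in every nonzero subgroup is isomorphic to a
cyclic group of prime-power order Z/p^n. -/
theorem result {A : Type u} [AddCommGroup A] [Finite A]
    (a : A) (ha : a ≠ 0) (h : ∀ B : AddSubgroup A, B ≠ ⊥ → a ∈ B) :
    ∃ p n : ℕ, p.Prime ∧ Nonempty (A ≃+ ZMod (p ^ n)) := by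
  classical
  obtain ⟨ι, _, p, hp, e, ⟨f⟩⟩ := AddCommGroup.equiv_directSum_zmod_of_finite A
  have hmem : ∀ i, e i ≠ 0 → ∀ j, j ≠ i → f a j = 0 := by
    intro i hi j hj
    have : Fact (1 < p i ^ e i) := ⟨one_lt_pow₀ (hp i).one_lt hi⟩
    let g := f.symm.toAddMonoidHom.comp (DirectSum.of (fun i => ZMod (p i ^ e i)) i)
    have hg : g.range ≠ ⊥ := by
      intro h0
      have h1 : g 1 ∈ (⊥ : AddSubgroup A) := h0 ▸ ⟨1, rfl⟩
      rw [AddSubgroup.mem_bot] at h1
      have h2 : DirectSum.of (fun i => ZMod (p i ^ e i)) i 1 = 0 :=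
        f.symm.injective (h1.trans (map_zero f.symm).symm)
      exact one_ne_zero (DirectSum.of_injective i (h2.trans (map_zero _).symm))
    obtain ⟨x, hx⟩ := h _ hg
    rw [← hx]
    show f (f.symm _) j = 0
    rw [AddEquiv.apply_symm_apply, DirectSum.of_eq_of_ne _ _ _ hj]
  have hsub : ∀ i, e i = 0 → ∀ z : ZMod (p i ^ e i), z = 0 := by
    intro i hi z
    have : p i ^ e i = 1 := by rw [hi, pow_zero]
    have : Subsingleton (ZMod (p i ^ e i)) := by rw [this]; infer_instance
    exact Subsingleton.elim _ _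
  obtain ⟨i, hi⟩ : ∃ i, f a i ≠ 0 := by
    by_contra h0
    push Not at h0
    exact ha (f.injective (by rw [map_zero]; exact DFinsupp.ext h0))
  have hother : ∀ j, j ≠ i → e j = 0 := fun j hj => by
    by_contra hje
    exact hi (hmem j hje i hj.symm)
  refine ⟨p i, e i, hp i, ⟨AddEquiv.ofBijective
    ((DFinsupp.evalAddMonoidHom (β := fun i => ZMod (p i ^ e i)) i).comp f.toAddMonoidHom) ⟨?_, ?_⟩⟩⟩
  · refine (injective_iff_map_eq_zero _).2 fun x hx => f.injective ?_
    rw [map_zero]
    refine DFinsupp.ext fun j => ?_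
    by_cases hj : j = i
    · subst hj; exact hx
    · exact hsub j (hother j hj) _
  · intro z
    refine ⟨f.symm (DirectSum.of _ i z), ?_⟩
    show f (f.symm _) i = z
    rw [AddEquiv.apply_symm_apply, DirectSum.of_eq_same]

end Groth.Agent.S13361
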