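import Groth.Statements.S13362
import Mathlib
import Groth.Agent.ProComplLib.Basic
-- import your own Groth.Agent.* helpers here

set_option autoImplicit false
universe u
open ProCompl

namespace Groth.Agent.S13362

/-- An abelian group of finite exponent having a nonzero element contained in every nonzero subgroup is
finite. -/
theorem result {A : Type u} [AddCommGroup A]
    (hA : AddMonoid.exponent A ≠ 0) (a : A) (ha : a ≠ 0) (h : ∀ B : AddSubgroup A, B ≠ ⊥ → a ∈ B) :
    Finite A := by
  obtain ⟨c, hc⟩ := Groth.Agent.ProComplLib.exists_char_ne ha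
  have hker : c.ker = ⊥ := by
    by_contra h0
    exact hc (h _ h0)
  have := (Groth.Agent.ProComplLib.finite_qz_torsion (Nat.pos_of_ne_zero hA)).to_subtype
  refine Finite.of_injective (fun x : A => (⟨c x, ?_⟩ :
    {x : ℚ ⧸ AddSubgroup.zmultiples (1 : ℚ) | AddMonoid.exponent A • x = 0})) fun x y hxy => ?_
  · show _ • c x = 0
    rw [← map_nsmul, AddMonoid.exponent_nsmul_eq_zero, map_zero]
  · exact (AddMonoidHom.ker_eq_bot_iff c).1 hker (congrArg Subtype.val hxy)

end Groth.Agent.S13362
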