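import Groth.Statements.S13365
import Mathlib
import Groth.Agent.ProComplLib.Basic
-- import your own Groth.Agent.* helpers here

set_option autoImplicit false
universe u
open ProCompl

namespace Groth.Agent.S13365

/-- The quotient of a profinite (compact, Hausdorff, totally disconnected) abelian topological group by
a compact subgroup is profinite. -/
theorem result {A : Type u} [AddCommGroup A] [TopologicalSpace A]
    [IsTopologicalAddGroup A] [CompactSpace A] [T2Space A] [TotallyDisconnectedSpace A]
    (B : AddSubgroup A) (hB : IsCompact (B : Set A)) :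
    CompactSpace (A ⧸ B) ∧ T2Space (A ⧸ B) ∧ TotallyDisconnectedSpace (A ⧸ B) := by
  have : IsClosed (B : Set A) := hB.isClosed
  refine ⟨inferInstance, inferInstance, ?_⟩
  suffices TotallySeparatedSpace (A ⧸ B) from inferInstance
  rw [totallySeparatedSpace_iff_exists_isClopen]
  intro x y hxy
  obtain ⟨a, ha⟩ := QuotientAddGroup.mk_surjective (y - x)
  have haB : a ∉ B := fun h => hxy
    (sub_eq_zero.1 (ha.symm.trans ((QuotientAddGroup.eq_zero_iff a).2 h))).symm
  obtain ⟨H, hHo, -, hH⟩ := Groth.Agent.ProComplLib.exists_compact_open_subgroup (U := (fun g : A => a + g) ⁻¹' (B : Set A)ᶜ)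
    ((this.isOpen_compl.preimage (continuous_const.add continuous_id)).mem_nhds (by simpa using haB))
  have hH' : IsOpen ((H.map (QuotientAddGroup.mk' B) : AddSubgroup (A ⧸ B)) : Set (A ⧸ B)) :=
    QuotientAddGroup.isOpenMap_coe _ hHo
  refine ⟨(fun z => z - x) ⁻¹' (H.map (QuotientAddGroup.mk' B) : AddSubgroup (A ⧸ B)),
    (IsClopen.preimage ⟨AddSubgroup.isClosed_of_isOpen _ hH', hH'⟩
      (continuous_id.sub continuous_const)), by simp only [Set.mem_preimage, sub_self]; exact zero_mem _, ?_⟩
  rintro ⟨h, hh, hhy⟩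
  change (h : A ⧸ B) = y - x at hhy
  rw [← ha] at hhy
  refine hH (H.neg_mem hh) ?_
  show a + -h ∈ B
  rw [← sub_eq_add_neg, ← QuotientAddGroup.eq_iff_sub_mem, hhy]

end Groth.Agent.S13365
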