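import Groth.Statements.S13375
import Mathlib.Algebra.Homology.HomologicalComplexAbelian
import Mathlib.CategoryTheory.Abelian.Exact
import Mathlib.CategoryTheory.Abelian.Refinements
import Mathlib.CategoryTheory.Preadditive.Injective.Basic
import Mathlib.Algebra.Homology.ShortComplex.ExactFunctor

set_option autoImplicit false
universe u v
open CechDer

namespace Groth.Agent.S13375

section
open CategoryTheory CategoryTheory.Limits HomologicalComplex
variable {V : Type u} [Category.{v} V] [Abelian V] {A B J : CochainComplex V ℕ}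

/-- Extend `v` along `u`, provided it kills the kernel of `u`. -/
theorem extend_injective {X Y W : V} [Injective W] (u : X ⟶ Y) (v : X ⟶ W)
    (h : ∀ (T : V) (t : T ⟶ X), t ≫ u = 0 → ∃ (T' : V) (π : T' ⟶ T) (_ : Epi π), π ≫ t ≫ v = 0) :
    ∃ ψ : Y ⟶ W, u ≫ ψ = v := by
  obtain ⟨T', π, _, hπ⟩ := h _ (kernel.ι u) (kernel.condition u)
  have hv : kernel.ι u ≫ v = 0 := by rw [← cancel_epi π, hπ, comp_zero]
  exact ⟨(ShortComplex.exact_kernel u).descToInjective v hv, (ShortComplex.exact_kernel u).comp_descToInjective v hv⟩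

theorem exists_boundary {K : CochainComplex V ℕ} (m : ℕ) (hK : K.ExactAt (m + 1)) {T : V} (a : T ⟶ K.X (m + 1))
    (ha : a ≫ K.d (m + 1) (m + 2) = 0) :
    ∃ (T' : V) (π : T' ⟶ T) (_ : Epi π) (b : T' ⟶ K.X m), π ≫ a = b ≫ K.d m (m + 1) :=
  ((exactAt_iff' K m (m + 1) (m + 2) (by simp) (by simp)).1 hK).exact_up_to_refinements a ha

theorem exists_extension (i : A ⟶ B) (φ : A ⟶ J) [∀ n, Injective (J.X n)]
    (hA : ∀ n, 0 < n → A.ExactAt n) (hB : ∀ n, 0 < n → B.ExactAt n)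
    (H : ∀ (n : ℕ) (T : V) (a : T ⟶ A.X n), a ≫ i.f n ≫ B.d n (n + 1) = 0 →
      ∃ (T' : V) (π : T' ⟶ T) (_ : Epi π) (a' : T' ⟶ A.X n),
        a' ≫ A.d n (n + 1) = 0 ∧ a' ≫ i.f n = π ≫ a ≫ i.f n ∧ a' ≫ φ.f n = π ≫ a ≫ φ.f n)
    (γ : B.homology 0 ⟶ J.homology 0) (hγ : homologyMap i 0 ≫ γ = homologyMap φ 0) :
    ∃ ψ : B ⟶ J, i ≫ ψ = φ ∧ homologyMap ψ 0 = γ := by
  let δ : B.cycles 0 ⟶ J.cycles 0 := B.homologyπ 0 ≫ γ ≫ inv (J.homologyπ 0)
  have hδ : cyclesMap i 0 ≫ δ = cyclesMap φ 0 := by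
    rw [← cancel_mono (J.homologyπ 0)]
    simp only [δ, Category.assoc, IsIso.inv_hom_id, Category.comp_id]
    rw [← homologyπ_naturality_assoc, hγ, homologyπ_naturality]
  -- degree zero
  obtain ⟨ψ₀, hψ₀⟩ : ∃ ψ₀ : B.X 0 ⟶ J.X 0,
      biprod.desc (i.f 0) (B.iCycles 0) ≫ ψ₀ = biprod.desc (φ.f 0) (δ ≫ J.iCycles 0) := by
    refine extend_injective _ _ fun T t ht => ?_
    have e : (t ≫ biprod.fst) ≫ i.f 0 + (t ≫ biprod.snd) ≫ B.iCycles 0 = 0 := by
      rw [Category.assoc, Category.assoc, ← Preadditive.comp_add, ← biprod.desc_eq]; exact ht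
    have hd : (t ≫ biprod.fst) ≫ i.f 0 ≫ B.d 0 (0 + 1) = 0 := by
      rw [← Category.assoc _ (i.f 0), eq_neg_of_add_eq_zero_left e, Preadditive.neg_comp, Category.assoc,
        iCycles_d, comp_zero, neg_zero]
    obtain ⟨T', π, hπ, a', h1, h2, h3⟩ := H 0 _ _ hd
    let za := A.liftCycles a' 1 (by simp) h1
    have hz : za ≫ cyclesMap i 0 + π ≫ t ≫ biprod.snd = 0 := by
      rw [← cancel_mono (B.iCycles 0), zero_comp, Preadditive.add_comp, Category.assoc, cyclesMap_i,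
        liftCycles_i_assoc, h2]
      simp only [Category.assoc] at e ⊢
      rw [← Preadditive.comp_add, e, comp_zero]
    refine ⟨T', π, hπ, ?_⟩
    have hφ : π ≫ t ≫ biprod.fst ≫ φ.f 0 = za ≫ cyclesMap i 0 ≫ δ ≫ J.iCycles 0 := by
      rw [reassoc_of% hδ, cyclesMap_i, liftCycles_i_assoc, h3, Category.assoc]
    rw [biprod.desc_eq, Preadditive.comp_add, Preadditive.comp_add, hφ]
    simpa only [Preadditive.add_comp, Category.assoc, zero_comp] using hz =≫ (δ ≫ J.iCycles 0)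
  have hψ₀i : i.f 0 ≫ ψ₀ = φ.f 0 := by simpa using (biprod.inl ≫= hψ₀)
  have hψ₀z : B.iCycles 0 ≫ ψ₀ = δ ≫ J.iCycles 0 := by simpa using (biprod.inr ≫= hψ₀)
  -- the inductive step
  let Good : ∀ n, (B.X n ⟶ J.X n) → Prop := fun n u => i.f n ≫ u = φ.f n ∧
    ∀ (T : V) (z : T ⟶ B.X n), z ≫ B.d n (n + 1) = 0 → z ≫ u ≫ J.d n (n + 1) = 0
  have good₀ : Good 0 ψ₀ := ⟨hψ₀i, fun T z hz => by
    rw [← B.liftCycles_i z 1 (by simp) hz, Category.assoc, reassoc_of% hψ₀z, iCycles_d, comp_zero, comp_zero]⟩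
  have step : ∀ m, ∀ u : {u : B.X m ⟶ J.X m // Good m u},
      ∃ w : {w : B.X (m + 1) ⟶ J.X (m + 1) // Good (m + 1) w}, u.1 ≫ J.d m (m + 1) = B.d m (m + 1) ≫ w.1 := by
    rintro m ⟨u, hu1, hu2⟩
    obtain ⟨w, hw⟩ : ∃ w : B.X (m + 1) ⟶ J.X (m + 1),
        biprod.desc (i.f (m + 1)) (B.d m (m + 1)) ≫ w = biprod.desc (φ.f (m + 1)) (u ≫ J.d m (m + 1)) := by
      refine extend_injective _ _ fun T t ht => ?_
      have e : (t ≫ biprod.fst) ≫ i.f (m + 1) + (t ≫ biprod.snd) ≫ B.d m (m + 1) = 0 := by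
        rw [Category.assoc, Category.assoc, ← Preadditive.comp_add, ← biprod.desc_eq]; exact ht
      have hd : (t ≫ biprod.fst) ≫ i.f (m + 1) ≫ B.d (m + 1) (m + 1 + 1) = 0 := by
        rw [← Category.assoc _ (i.f (m + 1)), eq_neg_of_add_eq_zero_left e, Preadditive.neg_comp, Category.assoc,
          d_comp_d, comp_zero, neg_zero]
      obtain ⟨T', π, hπ, a', h1, h2, h3⟩ := H _ _ _ hd
      obtain ⟨T'', π', hπ', b, hb⟩ := exists_boundary m (hA _ m.succ_pos) a' h1
      let z := b ≫ i.f m + π' ≫ π ≫ t ≫ biprod.snd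
      have hz : z ≫ B.d m (m + 1) = 0 := by
        simp only [z, Preadditive.add_comp, Category.assoc]
        rw [i.comm, ← reassoc_of% hb, h2, ← Preadditive.comp_add, ← Preadditive.comp_add]
        simp only [Category.assoc] at e ⊢
        rw [e, comp_zero, comp_zero]
      refine ⟨T'', π' ≫ π, epi_comp _ _, ?_⟩
      have := hu2 _ z hz
      simp only [z, Preadditive.add_comp, Category.assoc, reassoc_of% hu1, φ.comm] at this
      rw [biprod.desc_eq, Preadditive.comp_add, Preadditive.comp_add, ← this]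
      simp only [Category.assoc] at h3 ⊢
      rw [← h3, reassoc_of% hb]
    have hwi : i.f (m + 1) ≫ w = φ.f (m + 1) := by simpa using (biprod.inl ≫= hw)
    have hwd : B.d m (m + 1) ≫ w = u ≫ J.d m (m + 1) := by simpa using (biprod.inr ≫= hw)
    refine ⟨⟨w, hwi, fun T z hz => ?_⟩, hwd.symm⟩
    obtain ⟨T', π, hπ, b, hb⟩ := exists_boundary m (hB _ m.succ_pos) z hz
    rw [← cancel_epi π, reassoc_of% hb, reassoc_of% hwd, d_comp_d, comp_zero, comp_zero, comp_zero]
  choose F hF using step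
  let ψ : ∀ n, {u : B.X n ⟶ J.X n // Good n u} := fun n => Nat.rec ⟨ψ₀, good₀⟩ F n
  let Ψ : B ⟶ J :=
    { f := fun n => (ψ n).1
      comm' := fun p q (hpq : p + 1 = q) => by subst hpq; exact hF p (ψ p) }
  refine ⟨Ψ, HomologicalComplex.hom_ext _ _ fun n => (ψ n).2.1, ?_⟩
  rw [← cancel_epi (B.homologyπ 0), homologyπ_naturality]
  have : cyclesMap Ψ 0 = δ := by
    rw [← cancel_mono (J.iCycles 0), cyclesMap_i]; exact hψ₀z
  rw [this]
  simp [δ]

end

open CategoryTheory CategoryTheory.Limits in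
/-- In an abelian category, given two degreewise left exact sequences of nonnegatively graded cochain
complexes 0 → C' → C → C'' and 0 → I' → I → I'', each complex exact in positive degrees and the I's
termwise injective, every commutative ladder of maps g', g, g'' between their degree-zero
cohomologies is induced by chain maps f' : C' → I', f : C → I, f'' : C'' → I'' commuting with the
given maps of complexes. -/
theorem result {V : Type u} [Category.{v} V]
    [Abelian V] (C' C C'' I' I I'' : CochainComplex V ℕ)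
    (jC : C' ⟶ C) (πC : C ⟶ C'') (jI : I' ⟶ I) (πI : I ⟶ I'')
    (mC : ∀ n, Mono (jC.f n)) (wC : ∀ n, jC.f n ≫ πC.f n = 0)
    (exC : ∀ n, (ShortComplex.mk (jC.f n) (πC.f n) (wC n)).Exact)
    (mI : ∀ n, Mono (jI.f n)) (wI : ∀ n, jI.f n ≫ πI.f n = 0)
    (exI : ∀ n, (ShortComplex.mk (jI.f n) (πI.f n) (wI n)).Exact)
    (hC' : ∀ n, 0 < n → C'.ExactAt n) (hC : ∀ n, 0 < n → C.ExactAt n) (hC'' : ∀ n, 0 < n → C''.ExactAt n)
    (hI' : ∀ n, 0 < n → I'.ExactAt n) (hI : ∀ n, 0 < n → I.ExactAt n) (hI'' : ∀ n, 0 < n → I''.ExactAt n)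
    (injI' : ∀ n, Injective (I'.X n)) (injI : ∀ n, Injective (I.X n)) (injI'' : ∀ n, Injective (I''.X n))
    (g' : C'.homology 0 ⟶ I'.homology 0) (g : C.homology 0 ⟶ I.homology 0)
    (g'' : C''.homology 0 ⟶ I''.homology 0)
    (hg1 : HomologicalComplex.homologyMap jC 0 ≫ g = g' ≫ HomologicalComplex.homologyMap jI 0)
    (hg2 : HomologicalComplex.homologyMap πC 0 ≫ g'' = g ≫ HomologicalComplex.homologyMap πI 0) :
    ∃ (f' : C' ⟶ I') (f : C ⟶ I) (f'' : C'' ⟶ I''),
      jC ≫ f = f' ≫ jI ∧ πC ≫ f'' = f ≫ πI ∧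
      HomologicalComplex.homologyMap f' 0 = g' ∧ HomologicalComplex.homologyMap f 0 = g ∧
      HomologicalComplex.homologyMap f'' 0 = g'' := by
  obtain ⟨f', -, hf'⟩ := exists_extension (0 : C' ⟶ C') (0 : C' ⟶ I') hC' hC'
    (fun n T a _ => ⟨T, 𝟙 T, inferInstance, 0, by simp⟩) g' (by simp)
  obtain ⟨f, hf1, hf⟩ := exists_extension jC (f' ≫ jI) hC' hC
    (fun n T a ha => ⟨T, 𝟙 T, inferInstance, a, by
      haveI := mC (n + 1)
      rw [← cancel_mono (jC.f (n + 1)), Category.assoc, ← jC.comm, ha, zero_comp], by simp, by simp⟩)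
    g (by rw [hg1, HomologicalComplex.homologyMap_comp, hf'])
  obtain ⟨f'', hf''1, hf''⟩ := exists_extension πC (f ≫ πI) hC hC''
    (fun n T a ha => by
      obtain ⟨T₁, π₁, _, c, hc⟩ := (exC (n + 1)).exact_up_to_refinements (a ≫ C.d n (n + 1)) (by
        dsimp; rw [Category.assoc, ← πC.comm]; exact ha)
      dsimp at c hc
      haveI := mC (n + 1 + 1)
      have hcd : c ≫ C'.d (n + 1) (n + 2) = 0 := by
        rw [← cancel_mono (jC.f (n + 1 + 1)), Category.assoc, ← jC.comm, ← Category.assoc, ← hc]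
        simp
      obtain ⟨T₂, π₂, _, e, he⟩ := exists_boundary n (hC' _ n.succ_pos) c hcd
      have key : jC.f n ≫ f.f n ≫ πI.f n = 0 := by
        rw [← Category.assoc, ← HomologicalComplex.comp_f, hf1, HomologicalComplex.comp_f, Category.assoc, wI, comp_zero]
      refine ⟨T₂, π₂ ≫ π₁, epi_comp _ _, π₂ ≫ π₁ ≫ a - e ≫ jC.f n, ?_, ?_, ?_⟩
      · simp only [Preadditive.sub_comp, Category.assoc]
        rw [jC.comm, ← reassoc_of% he, hc, sub_self]
      · simp [Preadditive.sub_comp, Category.assoc, wC]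
      · simp [Preadditive.sub_comp, Category.assoc, key])
    g'' (by rw [hg2, HomologicalComplex.homologyMap_comp, hf])
  exact ⟨f', f, f'', hf1, hf''1, hf', hf, hf''⟩

end Groth.Agent.S13375
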