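import Groth.Statements.S13378
import Mathlib
import Groth.Agent.ProComplLib.Profinite
import Groth.Agent.ProComplLib.Basic
-- import your own Groth.Agent.* helpers here

set_option autoImplicit false
universe u
open ProCompl

namespace Groth.Agent.S13378

/-- For an abelian group A (written multiplicatively, discrete) and a subgroup A' such that the quotient
A/A' has no nontrivial divisible element and its torsion elements are killed by one positive
integer, the map induced on profinite completions by the inclusion of A' in A is injective. (The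
published statement is for topological abelian groups in which every nA is open, with completions
formed from open subgroups of finite index; this row is the case of the discrete topology.) -/
theorem result (A : Type u) [CommGroup A] (A' : Subgroup A)
    (hdiv : ∀ x : A ⧸ A', (∀ n : ℕ, 0 < n → ∃ y : A ⧸ A', y ^ n = x) → x = 1)
    (htors : ∃ N : ℕ, 0 < N ∧ ∀ x : A ⧸ A', IsOfFinOrder x → x ^ N = 1) :
    Function.Injective (ProfiniteGrp.profiniteCompletion.map (GrpCat.ofHom A'.subtype)).hom := by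
  obtain ⟨N, hN, hN'⟩ := htors
  rw [injective_iff_map_eq_one]
  intro x hx
  refine Subtype.ext (funext fun M => ?_)
  obtain ⟨a, ha⟩ := QuotientGroup.mk_surjective (x.1 M)
  rw [← ha]
  refine (QuotientGroup.eq_one_iff a).2 (by_contra fun haM => ?_)
  obtain ⟨n, hn, hpn⟩ : ∃ n, 0 < n ∧ ∀ y : A', y ^ n ∈ M.toSubgroup :=
    ⟨_, Nat.pos_of_ne_zero M.isFiniteIndex'.index_ne_zero, M.toSubgroup.pow_index_mem⟩
  obtain ⟨k, hkdef⟩ : ∃ k, k = n * N := ⟨_, rfl⟩
  obtain ⟨T, hTdef, hTM, hTk⟩ : ∃ T : Subgroup A,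
      T = M.toSubgroup.map A'.subtype ⊔ (powMonoidHom k).range ∧
      (∀ b : A', b ∈ M.toSubgroup → (b : A) ∈ T) ∧ ∀ y : A, y ^ k ∈ T :=
    ⟨_, rfl, fun b hb => SetLike.le_def.1 le_sup_left (Subgroup.mem_map_of_mem A'.subtype hb),
      fun y => SetLike.le_def.1 le_sup_right ⟨y, rfl⟩⟩
  have hT : (a : A) ∉ T := by
    intro h
    rw [hTdef] at h
    obtain ⟨_, ⟨m, hm, rfl⟩, _, ⟨y, rfl⟩, hmy⟩ := Subgroup.mem_sup.1 h
    change (m : A) * y ^ k = a at hmy
    have hy : y ^ k ∈ A' := (Subgroup.mul_mem_cancel_left A' m.2).1 (hmy ▸ a.2)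
    have hyN : y ^ N ∈ A' := by
      rw [← QuotientGroup.eq_one_iff, QuotientGroup.mk_pow]
      refine hN' _ (isOfFinOrder_iff_pow_eq_one.2 ⟨k, hkdef ▸ Nat.mul_pos hn hN, ?_⟩)
      rw [← QuotientGroup.mk_pow, QuotientGroup.eq_one_iff]
      exact hy
    have hpow : (⟨y ^ N, hyN⟩ : A') ^ n ∈ M.toSubgroup := hpn _
    have : a = m * (⟨y ^ N, hyN⟩ : A') ^ n := by
      ext
      rw [Subgroup.coe_mul, SubmonoidClass.coe_pow, ← pow_mul, mul_comm N n, ← hkdef, hmy]
    exact haM (this ▸ mul_mem hm hpow)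
  obtain ⟨c, hc, hca⟩ := Groth.Agent.ProComplLib.exists_char_ne_of_not_mem (H := T.toAddSubgroup)
    (a := Additive.ofMul (a : A)) hT
  let W : Subgroup A := Subgroup.toAddSubgroup.symm c.ker
  have hk : ∀ b : Additive A, (n * N) • c b = 0 := fun b => by
    have hbT : (Additive.toMul b) ^ k ∈ T :=
      hTk _
    have hbT' : Additive.ofMul ((Additive.toMul b) ^ k) ∈ Subgroup.toAddSubgroup T := hbT
    rw [← map_nsmul, ← hkdef, ← ofMul_toMul b, ← ofMul_pow]
    exact hc hbT'
  have : W.FiniteIndex := ⟨by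
    rw [← Subgroup.index_toAddSubgroup, OrderIso.apply_symm_apply]
    exact (Groth.Agent.ProComplLib.finiteIndex_ker_of_nsmul c (Nat.mul_pos hn hN) hk).index_ne_zero⟩
  let K : FiniteIndexNormalSubgroup (GrpCat.of A) := FiniteIndexNormalSubgroup.ofSubgroup W
  have hle : M ≤ K.comap (GrpCat.ofHom A'.subtype).hom := fun b hb => by
    show c (Additive.ofMul (b : A)) = 0
    have hbT : (b : A) ∈ T :=
      hTM b hb
    have hbT' : Additive.ofMul (b : A) ∈ Subgroup.toAddSubgroup T := hbT
    exact hc hbT'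
  have h1 : x.1 (K.comap (GrpCat.ofHom A'.subtype).hom) = 1 := by
    apply Groth.Agent.ProComplLib.map_component_injective (GrpCat.ofHom A'.subtype) K
    exact (Groth.Agent.ProComplLib.map_component (GrpCat.ofHom A'.subtype) x K).symm.trans (congrArg (fun z => z.1 K) hx)
  have h2 := x.2 (CategoryTheory.homOfLE hle)
  rw [h1, ← ha] at h2
  exact hca ((QuotientGroup.eq_one_iff a).1 h2)

end Groth.Agent.S13378
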