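import Groth.Statements.S13379
import Mathlib
import Groth.Agent.ProComplLib.Profinite
import Groth.Agent.ProComplLib.Basic
-- import your own Groth.Agent.* helpers here

set_option autoImplicit false
universe u
open ProCompl

namespace Groth.Agent.S13379

/-- Profinite completion is right exact: for an abelian group A (written multiplicatively, discrete) and
a subgroup A', the map on profinite completions induced by A → A/A' is surjective and its kernel is
the image of the completion of A'. (The published statement is right-exactness for topological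
abelian groups with completions formed from open subgroups of finite index; this row is the case of
the discrete topology.) -/
theorem result (A : Type u) [CommGroup A] (A' : Subgroup A) :
    Function.Surjective (ProfiniteGrp.profiniteCompletion.map (GrpCat.ofHom (QuotientGroup.mk' A'))).hom ∧
      (ProfiniteGrp.profiniteCompletion.map (GrpCat.ofHom (QuotientGroup.mk' A'))).hom.toMonoidHom.ker =
        (ProfiniteGrp.profiniteCompletion.map (GrpCat.ofHom A'.subtype)).hom.toMonoidHom.range := by
  let q := GrpCat.ofHom (QuotientGroup.mk' A')
  let ι := GrpCat.ofHom A'.subtype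
  constructor
  · intro z
    refine Groth.Agent.ProComplLib.mem_range_of_components q z fun K => ?_
    obtain ⟨c, hc⟩ := QuotientGroup.mk_surjective (z.1 K)
    obtain ⟨b, rfl⟩ := QuotientGroup.mk_surjective c
    exact ⟨b, hc⟩
  · ext y
    constructor
    · intro hy
      refine Groth.Agent.ProComplLib.mem_range_of_components ι y fun K => ?_
      have : (K.toSubgroup.map (QuotientGroup.mk' A')).FiniteIndex := ⟨fun h0 =>
        K.isFiniteIndex'.index_ne_zero (Nat.eq_zero_of_zero_dvd (h0 ▸ K.toSubgroup.index_map_dvd
          (QuotientGroup.mk'_surjective A')))⟩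
      let W : FiniteIndexNormalSubgroup (GrpCat.of (A ⧸ A')) :=
        FiniteIndexNormalSubgroup.ofSubgroup (K.toSubgroup.map (QuotientGroup.mk' A'))
      have hle : K ≤ W.comap q.hom := fun v hv => ⟨v, hv, rfl⟩
      have h1 : y.1 (W.comap q.hom) = 1 := by
        apply Groth.Agent.ProComplLib.map_component_injective q W
        exact (Groth.Agent.ProComplLib.map_component q y W).symm.trans (congrArg (fun z => z.1 W) hy)
      obtain ⟨b, hb⟩ := QuotientGroup.mk_surjective (y.1 K)
      have h2 := y.2 (CategoryTheory.homOfLE hle)
      rw [h1, ← hb] at h2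
      obtain ⟨v, hv, hvb⟩ : b ∈ (W.comap q.hom).toSubgroup := (QuotientGroup.eq_one_iff b).1 h2
      have hbv : b * v⁻¹ ∈ A' := by
        rw [← QuotientGroup.eq_one_iff, QuotientGroup.mk_mul, QuotientGroup.mk_inv]
        exact mul_inv_eq_one.2 hvb.symm
      refine ⟨⟨b * v⁻¹, hbv⟩, ?_⟩
      rw [← hb]
      show ((b * v⁻¹ : A) : A ⧸ K.toSubgroup) = b
      rw [QuotientGroup.mk_mul, QuotientGroup.mk_inv, (QuotientGroup.eq_one_iff v).2 hv,
        inv_one, mul_one]
    · rintro ⟨x, rfl⟩
      refine Subtype.ext (funext fun W => ?_)
      show ((ProfiniteGrp.profiniteCompletion.map q).hom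
        ((ProfiniteGrp.profiniteCompletion.map ι).hom x)).1 W = 1
      refine (Groth.Agent.ProComplLib.map_component q _ W).trans ?_
      refine (congrArg _ (Groth.Agent.ProComplLib.map_component ι x (W.comap q.hom))).trans ?_
      obtain ⟨a, ha⟩ := QuotientGroup.mk_surjective (x.1 ((W.comap q.hom).comap ι.hom))
      refine (congrArg _ (congrArg _ ha.symm)).trans ?_
      show ((QuotientGroup.mk' A' (a : A) : A ⧸ A') : (A ⧸ A') ⧸ W.toSubgroup) = 1
      rw [show QuotientGroup.mk' A' (a : A) = 1 from (QuotientGroup.eq_one_iff (a : A)).2 a.2]
      rfl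

end Groth.Agent.S13379
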