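import Groth.Statements.S13384
import Groth.Agent.TorusPowLib.Basic
import Groth.Agent.GrpSchLib.DeligneScheme
import Groth.Agent.GrpSchLib.TorsionLift
import Groth.Agent.GrpQuotLib.KerGrp

set_option autoImplicit false
set_option backward.isDefEq.respectTransparency false
set_option backward.isDefEq.respectTransparency.types false
set_option maxHeartbeats 1000000
set_option synthInstance.maxHeartbeats 400000
universe u
open AlgGrpK

open CategoryTheory AlgebraicGeometry
open CategoryTheory.Limits CategoryTheory.MonoidalCategory CategoryTheory.CartesianMonoidalCategory CategoryTheory.MonObj CategoryTheory.GrpObj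
namespace Groth.Agent.S13384

open CategoryTheory AlgebraicGeometry MonoidalCategory in
/-- If an affine commutative group scheme G of finite type over a field k contains a subtorus T with
finite quotient G/T (given as a flat surjective homomorphism with kernel T onto a finite k-group),
then G receives an isogeny — a flat surjective homomorphism with finite kernel — from the product of
a finite k-group scheme and a k-torus. (The published statement also gives two further equivalent
conditions, on the reduced identity component over an algebraic closure and on Weil restrictions of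
split tori; this row states only this implication.) -/
theorem result (k : Type u) [Field k]
    (G : Over (Spec (CommRingCat.of k))) [GrpObj G] [IsCommMonObj G]
    [LocallyOfFiniteType G.hom] [QuasiCompact G.hom] [IsAffine G.left]
    (T Q : Over (Spec (CommRingCat.of k))) [GrpObj T] [GrpObj Q] (j : T ⟶ G) (q : G ⟶ Q)
    [IsMonHom j] [IsMonHom q] [Mono j] (hT : Red.IsTorus T) (hker : AlgGrp.IsKernel j q)
    [Flat q.left] [Surjective q.left] [IsFinite Q.hom] :
    ∃ (A T' : Over (Spec (CommRingCat.of k))) (_ : GrpObj A) (_ : GrpObj T') (f : A ⊗ T' ⟶ G) (_ : IsMonHom f),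
      IsFinite A.hom ∧ Red.IsTorus T' ∧ SGA7.IsIsogenyOver f ∧ Flat f.left := by
  haveI : IsSeparated Q.hom := inferInstance
  haveI : QuasiCompact (q.left ≫ Q.hom) := by rw [Over.w q]; infer_instance
  haveI : QuasiCompact q.left := QuasiCompact.of_comp q.left Q.hom
  haveI : Groth.Agent.SchDesc.IsFpqc q.left := ⟨inferInstance, inferInstance, inferInstance⟩
  haveI := Groth.Agent.CommGrpAbLib.epi_tensor q
  haveI : IsCommMonObj Q := isCommMonObj_iff_commutator_eq_toUnit_η.2 (by
    rw [← Hom.one_def]
    refine (Groth.Agent.MultExtCentral.com_eq_one_iff _ _).2 ?_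
    rw [← cancel_epi (q ⊗ₘ q), MonObj.comp_mul, MonObj.comp_mul, tensorHom_fst, tensorHom_snd, ← MonObj.mul_comp,
      ← MonObj.mul_comp, _root_.mul_comm])
  haveI : IsMonHom (𝟙 G) := inferInstance
  haveI : Flat Q.hom := inferInstance
  haveI : LocallyOfFinitePresentation Q.hom := inferInstance
  let n := Scheme.Hom.finrank Q.hom (IsLocalRing.closedPoint k)
  have hn : 0 < n := by
    have h := Scheme.Hom.one_le_finrank_map Q.hom ((η[Q] : 𝟙_ (Over (Spec (CommRingCat.of k))) ⟶ Q).left (IsLocalRing.closedPoint k))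
    rwa [Subsingleton.elim (α := PrimeSpectrum k) (Q.hom _) (IsLocalRing.closedPoint k)] at h
  have hQn : ∀ (X : Over (Spec (CommRingCat.of k))) (x : X ⟶ Q), x ^ n = 1 := fun X x =>
    Groth.Agent.GrpSchLib.pow_eq_one_of_finrank Q n
      (fun s => by rw [Subsingleton.elim (α := PrimeSpectrum k) s (IsLocalRing.closedPoint k)]) X x
  obtain ⟨pG, hpG⟩ := Groth.Agent.CommGrpAbLib.exists_kernel_lift j q hker (𝟙 G ^ n) (by
    rw [MonObj.pow_comp, Category.id_comp, hQn])
  haveI : IsMonHom (𝟙 G ^ n : G ⟶ G) := Groth.Agent.GrpSchLib.isMonHom_pow (𝟙 G) n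
  haveI : IsMonHom pG := Groth.Agent.CommGrpAbLib.isMonHom_of_mono j pG (𝟙 G ^ n) hpG
  have hmt := Groth.Agent.SplitHom.isMultTypeFT_of_isTorus hT
  haveI : IsCommMonObj T := isCommMonObj_iff_commutator_eq_toUnit_η.2 (by
    rw [← Hom.one_def]
    refine (Groth.Agent.MultExtCentral.com_eq_one_iff _ _).2 ?_
    rw [← cancel_mono j, MonObj.mul_comp, MonObj.mul_comp, _root_.mul_comm])
  haveI hTfin := Groth.Agent.MultExtSch.isFinite_pow hmt n hn
  obtain ⟨hTfl, hTs⟩ := Groth.Agent.TorusPow.flat_surjective_pow hT n hn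
  haveI : IsFinite (𝟙 Q ^ n : Q ⟶ Q).left := by
    haveI : IsFinite ((𝟙 Q ^ n : Q ⟶ Q).left ≫ Q.hom) := by rw [Over.w]; infer_instance
    exact IsFinite.of_comp _ Q.hom
  haveI : IsFinite (𝟙 G ^ n : G ⟶ G).left := Groth.Agent.MultExtSch.isFinite_pow_ext q j hker n
  let A := pullback (𝟙 G ^ n) η[G]
  let a : A ⟶ G := pullback.fst _ _
  obtain ⟨gA, ha⟩ := Groth.Agent.GrpQuotLib.exists_grpObj_kernel (𝟙 G ^ n : G ⟶ G)
  letI := gA
  haveI : IsMonHom a := ha
  have hA : AlgGrp.IsKernel a (𝟙 G ^ n) := by
    have h : IsPullback a (pullback.snd (𝟙 G ^ n) η[G]) (𝟙 G ^ n) η[G] := IsPullback.of_hasPullback _ _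
    rwa [toUnit_unique (pullback.snd (𝟙 G ^ n) η[G]) (toUnit A)] at h
  haveI : Mono a := Groth.Agent.MultExtSch.mono_kernel _ a hA
  have hAfin : IsFinite A.hom := by
    have h := MorphismProperty.of_isPullback (P := @IsFinite)
      (Groth.Agent.MultExtSch.isPullback_left hA) inferInstance
    exact h
  let f : A ⊗ T ⟶ G := (fst A T ≫ a) * (snd A T ≫ j)
  have hpw : ∀ {X : Over (Spec (CommRingCat.of k))} (x : X ⟶ G), x ≫ (𝟙 G ^ n) = x ^ n := fun x => by
    rw [MonObj.comp_pow, Category.comp_id]
  haveI hf : IsMonHom f := by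
    refine ⟨?_, ?_⟩
    · show η ≫ ((fst A T ≫ a) * (snd A T ≫ j)) = _
      rw [MonObj.comp_mul, IsMonHom.one_hom (fst A T ≫ a), IsMonHom.one_hom (snd A T ≫ j), ← IsMonHom.one_hom (𝟙 G),
        Category.comp_id, show η[G] = (1 : 𝟙_ (Over (Spec (CommRingCat.of k))) ⟶ G) by
          rw [Hom.one_def, toUnit_unique (toUnit _) (𝟙 _), Category.id_comp], _root_.mul_one]
    · have h2 : ∀ g : A ⊗ T ⟶ G, (g ⊗ₘ g) ≫ μ[G] = (fst _ _ ≫ g) * (snd _ _ ≫ g) := fun g => by
        rw [Hom.mul_def]; congr 1
      show μ ≫ ((fst A T ≫ a) * (snd A T ≫ j)) = _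
      rw [MonObj.comp_mul, IsMonHom.mul_hom (fst A T ≫ a), IsMonHom.mul_hom (snd A T ≫ j), h2, h2, h2, MonObj.comp_mul,
        MonObj.comp_mul]
      exact mul_mul_mul_comm _ _ _ _
  have hsq : IsPullback f (snd A T) pG (𝟙 T ^ n) := by
    refine Groth.Agent.MultExtSch.isPullback_of_points ?_ (fun X x y e => ?_) (fun X z z' e1 e2 => ?_)
    · rw [← cancel_mono j, Category.assoc, hpG, hpw, Category.assoc, MonObj.pow_comp, Category.id_comp,
        MonObj.comp_pow, mul_pow, ← hpw (fst A T ≫ a), Groth.Agent.MultExtSch.comp_p _ a hA, _root_.one_mul]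
    · have hx : x ^ n = (y ≫ j) ^ n := by
        rw [← hpw, ← hpG, ← Category.assoc, e, Category.assoc, MonObj.pow_comp, Category.id_comp, MonObj.comp_pow]
      obtain ⟨l, hl⟩ := Groth.Agent.CommGrpAbLib.exists_kernel_lift a _ hA (x * (y ≫ j)⁻¹) (by
        rw [hpw, mul_pow, inv_pow, hx, _root_.mul_inv_cancel])
      exact ⟨lift l y, by rw [MonObj.comp_mul, lift_fst_assoc, lift_snd_assoc, hl, inv_mul_cancel_right], lift_snd _ _⟩
    · refine CartesianMonoidalCategory.hom_ext _ _ ?_ e2
      rw [MonObj.comp_mul, MonObj.comp_mul] at e1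
      rw [← cancel_mono a]
      rw [← Category.assoc, ← Category.assoc, ← Category.assoc, ← Category.assoc, e2] at e1
      exact mul_right_cancel e1
  have hsq' := (Groth.Agent.MultExtSch.isPullback_left hsq).flip
  haveI : Flat f.left := MorphismProperty.of_isPullback hsq' hTfl
  haveI : Surjective f.left := MorphismProperty.of_isPullback hsq' hTs
  haveI : IsFinite f.left := MorphismProperty.of_isPullback hsq' hTfin
  refine ⟨A, T, inferInstance, inferInstance, f, hf, hAfin, hT, ⟨inferInstance, fun N i hN => ?_⟩, inferInstance⟩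
  exact MorphismProperty.of_isPullback (P := @IsFinite) (Groth.Agent.MultExtSch.isPullback_left hN) inferInstance

end Groth.Agent.S13384
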