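import Groth.Statements.S13389
import Groth.Agent.SpanDpLib.Basic

set_option autoImplicit false
universe u
open ZeroCyc

namespace Groth.Agent.S13389

open Polynomial in
/-- Let P_d(T) = ∏_{0 ≤ i < j ≤ d} (T^i − T^j) − 1 ∈ ℤ[T]. If A is an algebra over ℤ[T]/(P_d), i.e.
receives a ring homomorphism from it, then for every A-module M the degree-d piece Γ^d_A(M) of the
divided power algebra Γ_A(M) is spanned over A by the d-th divided powers γ_d(m), m ∈ M. (The
published statement adds that consequently every ring has a finite faithfully flat extension,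
independent of M, over which this holds; that clause is not restated.) -/
theorem result {A M : Type u} [CommRing A] [AddCommGroup M]
    [Module A M] (d : ℕ)
    (φ : (ℤ[X] ⧸ Ideal.span {(∏ j ∈ Finset.range (d + 1), ∏ i ∈ Finset.range j,
        ((X : ℤ[X]) ^ i - X ^ j)) - 1}) →+* A) :
    Submodule.span A (Set.range (DividedPowerAlgebra.dp A d : M → DividedPowerAlgebra A M)) =
      PolLaw.gammaPiece A M d := by
  refine SpanDpLib.span_dp_eq_gammaPiece d fun p => Or.inl ?_
  set t : A := φ (Ideal.Quotient.mk _ X) with ht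
  have hrel : (∏ j ∈ Finset.range (d + 1), ∏ i ∈ Finset.range j, (t ^ i - t ^ j)) = 1 := by
    have h0 : φ (Ideal.Quotient.mk _ ((∏ j ∈ Finset.range (d + 1), ∏ i ∈ Finset.range j,
        ((X : ℤ[X]) ^ i - X ^ j)) - 1)) = 0 := by
      rw [Ideal.Quotient.eq_zero_iff_mem.2 (Ideal.mem_span_singleton_self _), map_zero]
    simp only [map_sub, map_one, map_prod, map_pow, ← ht, sub_eq_zero] at h0
    exact h0
  have hinj : Function.Injective
      (fun i : Fin d => algebraMap A p.asIdeal.ResidueField (t ^ (i : ℕ))) := by
    intro i j hij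
    by_contra hne
    wlog hlt : (i : ℕ) < j generalizing i j
    · exact this hij.symm (Ne.symm hne) (by have := Fin.val_ne_of_ne hne; omega)
    have hu : IsUnit (t ^ (i : ℕ) - t ^ (j : ℕ)) := by
      refine isUnit_of_dvd_one (hrel ▸ ?_)
      exact dvd_trans (Finset.dvd_prod_of_mem (fun a => t ^ a - t ^ (j : ℕ)) (Finset.mem_range.2 hlt))
        (Finset.dvd_prod_of_mem (fun b => ∏ a ∈ Finset.range b, (t ^ a - t ^ b))
          (Finset.mem_range.2 (by omega : (j : ℕ) < d + 1)))
    exact (hu.map (algebraMap A p.asIdeal.ResidueField)).ne_zero (by rw [map_sub, sub_eq_zero]; exact hij)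
  have := Cardinal.mk_le_of_injective (hinj.comp (Equiv.ulift.{u, 0}.injective))
  simpa using this

end Groth.Agent.S13389
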