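import Groth.Statements.S13390
import Groth.Agent.SpanDpLib.SymCover

set_option autoImplicit false
universe u
open scoped TensorProduct
open ZeroCyc

namespace Groth.Agent.S13390

/-- Let A be a commutative ring, B a graded A-algebra generated by its degree-one part B_1 with B_1 a
finitely generated A-module, and d ≥ 0. Inside the d-fold tensor power T^d_A(B) let C_k be the
A-span of the pure tensors b_1 ⊗ ⋯ ⊗ b_d with all b_i ∈ B_k, let C = Σ_k C_k (the A-subalgebra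
generated by these pure tensors; Proj C is the d-fold fibre product of X = Proj B over S = Spec A)
and let D = C ∩ TS^d_A(B) be its subring of symmetric tensors, graded by D_k = C_k ∩ TS^d_A(B), so
that Proj D is the symmetric product Sym^d(X/S). Then Proj D is covered in degree one: every t ∈ D_k
with k ≥ 1 has some power t^m, m ≥ 1, in the ideal of D generated by D_1. -/
theorem result {A B : Type u} [CommRing A] [CommRing B] [Algebra A B]
    (𝒜 : ℕ → Submodule A B) [GradedAlgebra 𝒜] (hgen : Algebra.adjoin A (𝒜 1 : Set B) = ⊤) (hfg : (𝒜 1).FG) (d : ℕ)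
    (D : Subalgebra A (⨂[A] _ : Fin d, B))
    (hD : D = Algebra.adjoin A {t | ∃ (k : ℕ) (b : Fin d → B), (∀ i, b i ∈ 𝒜 k) ∧ t = PiTensorProduct.tprod A b}
      ⊓ SymTen.TS A B d)
    (k : ℕ) (hk : 0 < k) (t : ⨂[A] _ : Fin d, B) (htD : t ∈ D)
    (htk : t ∈ Submodule.span A {s | ∃ b : Fin d → B, (∀ i, b i ∈ 𝒜 k) ∧ s = PiTensorProduct.tprod A b}) :
    ∃ m : ℕ, 0 < m ∧ (⟨t, htD⟩ : D) ^ m ∈
      Ideal.span {x : D | (x : ⨂[A] _ : Fin d, B) ∈
        Submodule.span A {s | ∃ b : Fin d → B, (∀ i, b i ∈ 𝒜 1) ∧ s = PiTensorProduct.tprod A b}} := by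
  rcases Nat.eq_zero_or_pos d with rfl | hd
  · refine ⟨1, one_pos, ?_⟩
    rw [Ideal.eq_top_iff_one _ |>.2 (Ideal.subset_span ?_)]
    · exact Submodule.mem_top
    · exact Submodule.subset_span ⟨fun _ => 0, fun i => i.elim0,
        (show (1 : ⨂[A] _ : Fin 0, B) = _ by rw [PiTensorProduct.one_def]; congr 1; funext i; exact i.elim0)⟩
  obtain ⟨m, hm, hmem⟩ := SpanDpLib.pow_mem_span_of_primes 𝒜 d D hD htD htk hd
    {x | x ∈ SpanDpLib.Cpc 𝒜 d 1 ∧ x ∈ SymTen.TS A B d} (fun x hx => ⟨1, hx.1⟩) (fun x hx => hx.2)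
    fun Q hQ hSQ => by
      by_cases hy : ∀ i, ∃ b ∈ 𝒜 1, SpanDpLib.slot d Q i b ≠ 0
      · obtain ⟨x, hx1, hx2, hx3⟩ := SpanDpLib.exists_orbitSum_notMem 𝒜 d hfg Q hy
        exact absurd (hSQ ⟨hx1, hx2⟩) hx3
      · push Not at hy
        obtain ⟨i, hi⟩ := hy
        exact SpanDpLib.mem_of_slot_eq_zero 𝒜 d hgen Q i hi hk htk
  exact ⟨m, hm, Ideal.span_mono (fun x hx => hx.1) hmem⟩

end Groth.Agent.S13390
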