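import Groth.Statements.S13391
import Groth.Agent.SpanDpLib.SymCover

set_option autoImplicit false
universe u
open scoped TensorProduct
open ZeroCyc

namespace Groth.Agent.S13391

/-- Let A be a commutative ring, B a graded A-algebra generated by its degree-one part B_1 with B_1 a
finitely generated A-module, and d ≥ 0. Inside the d-fold tensor power T^d_A(B) let C_k be the
A-span of the pure tensors b_1 ⊗ ⋯ ⊗ b_d with all b_i ∈ B_k, let C = Σ_k C_k (the A-subalgebra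
generated by these pure tensors; Proj C is the d-fold fibre product of X = Proj B over S = Spec A)
and let D = C ∩ TS^d_A(B) be its subring of symmetric tensors, graded by D_k = C_k ∩ TS^d_A(B), so
that Proj D is the symmetric product Sym^d(X/S). Then Sym^d(X/S) is covered by the affine opens
Sym^d(X_f/S) = D_+(f ⊗ ⋯ ⊗ f), f ∈ B_n, n ≥ 1: every t ∈ D_k with k ≥ 1 has some power t^m, m ≥ 1,
in the ideal of D generated by the tensors f ⊗ f ⊗ ⋯ ⊗ f with f homogeneous of positive degree. -/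
theorem result {A B : Type u} [CommRing A] [CommRing B] [Algebra A B]
    (𝒜 : ℕ → Submodule A B) [GradedAlgebra 𝒜] (hgen : Algebra.adjoin A (𝒜 1 : Set B) = ⊤) (hfg : (𝒜 1).FG) (d : ℕ)
    (D : Subalgebra A (⨂[A] _ : Fin d, B))
    (hD : D = Algebra.adjoin A {t | ∃ (k : ℕ) (b : Fin d → B), (∀ i, b i ∈ 𝒜 k) ∧ t = PiTensorProduct.tprod A b}
      ⊓ SymTen.TS A B d)
    (k : ℕ) (hk : 0 < k) (t : ⨂[A] _ : Fin d, B) (htD : t ∈ D)
    (htk : t ∈ Submodule.span A {s | ∃ b : Fin d → B, (∀ i, b i ∈ 𝒜 k) ∧ s = PiTensorProduct.tprod A b}) :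
    ∃ m : ℕ, 0 < m ∧ (⟨t, htD⟩ : D) ^ m ∈
      Ideal.span {x : D | ∃ (n : ℕ) (f : B), 0 < n ∧ f ∈ 𝒜 n ∧
        (x : ⨂[A] _ : Fin d, B) = PiTensorProduct.tprod A (fun _ : Fin d => f)} := by
  rcases Nat.eq_zero_or_pos d with rfl | hd
  · refine ⟨1, one_pos, ?_⟩
    rw [Ideal.eq_top_iff_one _ |>.2 (Ideal.subset_span ?_)]
    · exact Submodule.mem_top
    · exact ⟨1, 0, one_pos, zero_mem _, (show (1 : ⨂[A] _ : Fin 0, B) = _ by rw [PiTensorProduct.one_def]; congr 1; funext i; exact i.elim0)⟩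
  refine SpanDpLib.pow_mem_span_of_primes 𝒜 d D hD htD htk hd
    {x | ∃ (n : ℕ) (f : B), 0 < n ∧ f ∈ 𝒜 n ∧ x = PiTensorProduct.tprod A (fun _ : Fin d => f)} ?_ ?_ fun Q hQ hSQ => ?_
  · rintro _ ⟨n, f, -, hf, rfl⟩
    exact ⟨n, Submodule.subset_span ⟨_, fun _ => hf, rfl⟩⟩
  · rintro _ ⟨n, f, -, -, rfl⟩
    exact (SymTen.tpow A B d f).2
  · by_cases hy : ∀ i, ∃ b ∈ 𝒜 1, SpanDpLib.slot d Q i b ≠ 0
    · obtain ⟨n, hn, f, hf, hf'⟩ :=
        SpanDpLib.exists_homogeneous_ne_zero 𝒜 (SpanDpLib.slot d Q) hy Finset.univ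
      have := Ideal.Quotient.eq_zero_iff_mem.2 (hSQ ⟨n, f, hn, hf, rfl⟩)
      rw [SpanDpLib.mk_tprod] at this
      exact absurd this (Finset.prod_ne_zero_iff.2 fun i hi => hf' i hi)
    · push Not at hy
      obtain ⟨i, hi⟩ := hy
      exact SpanDpLib.mem_of_slot_eq_zero 𝒜 d hgen Q i hi hk htk

end Groth.Agent.S13391
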