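import Groth.Statements.S13393
import Groth.Agent.FlatSymLib.CompareUnit
import Groth.Agent.FlatSymLib.ProdQuot

set_option autoImplicit false
set_option backward.isDefEq.respectTransparency false
set_option backward.isDefEq.respectTransparency.types false
set_option linter.style.haveILetI false
universe u
open CategoryTheory CategoryTheory.Limits AlgebraicGeometry
open ZeroCyc

namespace Groth.Agent.S13393

/-- Scheme case. Let f : X → S be separated and let (Y, q, g) be a d-th symmetric product of X over S: q
: (X/S)^d → Y is a quotient of the d-fold fibre product by the symmetric group permuting the factors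
and g : Y → S its structure map. Let S' → S be a morphism, let the symmetric group act on (X/S)^d
×_S S' through the first factor (this is the d-fold fibre product of X' = X ×_S S' over S' with its
permutation action), let r : (X/S)^d ×_S S' → Y' be a quotient by that action, i.e. a symmetric
product Sym^d(X'/S'), and let m : Y' → Y ×_S S' be the morphism with r ≫ m = q × id. Then m induces
an isomorphism on residue fields at every point of Y' (trivial residue field extensions); if every
positive integer is invertible in Γ(S', O_{S'}) then m is an isomorphism; and if X' → S' is flat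
then m is a closed immersion. (The published statement is for X a separated algebraic space over S,
where the symmetric products always exist as algebraic spaces; this row is the case of schemes in
which both quotients exist as schemes, taken as hypotheses, and leaves the universal-homeomorphism
clause to the general finite-group statement.) -/
theorem result {X S S' Y Y' : Scheme.{u}} (f : X ⟶ S) [IsSeparated f] (d : ℕ)
    (q : SymProd.fibPow f d ⟶ Y) (g : Y ⟶ S) (hq : SymProd.IsSymProd f d q g)
    (gS : S' ⟶ S)
    (ρ' : ULift.{u} (Equiv.Perm (Fin d)) →* Aut (pullback (WidePullback.base fun _ : Fin d => f) gS))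
    (hρ' : ∀ σ, (ρ' σ).hom ≫ pullback.fst (WidePullback.base fun _ : Fin d => f) gS =
        pullback.fst (WidePullback.base fun _ : Fin d => f) gS ≫ SymProd.permHom f d σ.down ∧
      (ρ' σ).hom ≫ pullback.snd (WidePullback.base fun _ : Fin d => f) gS =
        pullback.snd (WidePullback.base fun _ : Fin d => f) gS)
    (r : pullback (WidePullback.base fun _ : Fin d => f) gS ⟶ Y') (hr : SGA1.IsQuot ρ' r)
    (m : Y' ⟶ pullback g gS)
    (hm : r ≫ m = pullback.map (WidePullback.base fun _ : Fin d => f) gS g gS q (𝟙 S') (𝟙 S)
      ((Category.comp_id _).trans hq.over.symm) ((Category.comp_id gS).trans (Category.id_comp gS).symm)) :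
    (∀ y : Y', IsIso (m.residueFieldMap y)) ∧
    ((∀ n : ℕ, 0 < n → IsUnit ((n : ℕ) : Γ(S', ⊤))) → IsIso m) ∧
    (Flat (pullback.snd f gS) → IsClosedImmersion m) := by
  have hrov : r ≫ m ≫ pullback.snd g gS = pullback.snd _ gS := by
    rw [← Category.assoc, hm, pullback.map, pullback.lift_snd, Category.comp_id]
  have hrm1 : r ≫ m ≫ pullback.fst g gS = pullback.fst _ gS ≫ q := by
    rw [← Category.assoc, hm, pullback.map, pullback.lift_fst]
  let e := FlatSymLib.fibBC f gS d
  haveI : Finite (ULift.{u} (Equiv.Perm (Fin d))) := inferInstance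
  have hr₁ : SGA1.IsQuot (SymProd.permActU (pullback.snd f gS) d) (e.hom ≫ r) :=
    FlatSymLib.isQuot_source_iso hr _ e fun σ => by
      apply pullback.hom_ext
      · rw [Category.assoc, Category.assoc, (hρ' σ).1, SymProd.permActU_hom, FlatSymLib.fibBC_perm, Category.assoc]
      · rw [Category.assoc, Category.assoc, (hρ' σ).2, SymProd.permActU_hom, FlatSymLib.fibBC_hom_snd,
          SymProd.permHom_base]
  have hov : (e.hom ≫ r) ≫ m ≫ pullback.snd g gS = WidePullback.base _ := by
    rw [Category.assoc, hrov, FlatSymLib.fibBC_hom_snd]
  have hm1 : (e.hom ≫ r) ≫ m ≫ pullback.fst g gS = (e.hom ≫ pullback.fst _ gS) ≫ q := by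
    rw [Category.assoc, hrm1, Category.assoc]
  haveI : IsClosedImmersion (pullback.lift (pullback.fst f gS) (pullback.snd f gS) pullback.condition) := by
    rw [show pullback.lift (pullback.fst f gS) (pullback.snd f gS) pullback.condition = 𝟙 _ from
      pullback.hom_ext (by simp) (by simp)]
    infer_instance
  have hcond : (m ≫ pullback.fst g gS) ≫ g = (m ≫ pullback.snd g gS) ≫ gS := by
    rw [Category.assoc, Category.assoc, pullback.condition]
  have hmeq : m = pullback.lift (m ≫ pullback.fst g gS) (m ≫ pullback.snd g gS) hcond :=
    pullback.hom_ext (by simp) (by simp)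
  refine ⟨?_, fun hn => ?_, fun hflat => ?_⟩
  · rw [hmeq]
    exact fun y => FlatSymLib.isIso_residueFieldMap _ y (FlatSymLib.residueFieldMap_compare_surjective
      pullback.condition hq (e.hom ≫ pullback.fst _ gS) (FlatSymLib.fibBC_hom_fst_π f gS d)
      (FlatSymLib.fibBC_hom_fst_base f gS d) hr₁ hov _ hm1 hcond y)
  · have hn' : IsUnit ((Nat.card (ULift.{u} (Equiv.Perm (Fin d))) : ℕ) : Γ(S', ⊤)) := by
      rw [FlatSymLib.natCard_perm]
      exact hn _ d.factorial_pos
    have hQ := FlatSymLib.isQuot_baseChange_of_isUnit hq.isQuot g _ hq.over gS hn' ρ'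
      (fun σ => by rw [(hρ' σ).1]; rfl) (fun σ => (hρ' σ).2)
      (r ≫ m) (by rw [Category.assoc, hrm1]) (by rw [Category.assoc, hrov])
    obtain ⟨j, hj⟩ := FlatSymLib.exists_iso_quot hr hQ (Iso.refl _) (fun σ => by simp)
    rw [Iso.refl_hom, Category.id_comp] at hj
    rw [← QuotLib.eq_of_comp_eq hr hj]
    infer_instance
  · rw [hmeq]
    haveI := hflat
    exact FlatSymLib.isClosedImmersion_compare pullback.condition hq (e.hom ≫ pullback.fst _ gS)
      (FlatSymLib.fibBC_hom_fst_π f gS d) (FlatSymLib.fibBC_hom_fst_base f gS d) hr₁ hov _ hm1 hcond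

end Groth.Agent.S13393
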