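import Groth.Statements.S13394
import Groth.Agent.FlatSymLib.CompareUnit
import Groth.Agent.FlatSymLib.ProdQuot

set_option autoImplicit false
set_option backward.isDefEq.respectTransparency false
set_option backward.isDefEq.respectTransparency.types false
set_option linter.style.haveILetI false
universe u
open CategoryTheory CategoryTheory.Limits AlgebraicGeometry
open ZeroCyc

namespace Groth.Agent.S13394

/-- Scheme case. Let f : X → S be separated, let (Y, q, g) be a d-th symmetric product of X over S (q :
(X/S)^d → Y a quotient of the d-fold fibre product by the symmetric group, g : Y → S), let i : Z → X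
be a closed immersion and (W, r, g_W) a d-th symmetric product of Z over S, let q((Z/S)^d) ⊆ Y be
the scheme-theoretic image of the composite (Z/S)^d → (X/S)^d → Y, and let m : W → q((Z/S)^d) be the
morphism through which that composite factors via r. Then m induces an isomorphism on residue fields
at every point of W (trivial residue field extensions); if every positive integer is invertible in
Γ(S, O_S) then m is an isomorphism; and if Z → S is flat then m is a closed immersion. (The
published statement is for X a separated algebraic space over S; this row is the case of schemes in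
which both symmetric products exist as schemes, taken as hypotheses, and leaves the
universal-homeomorphism clause to the general finite-group statement.) -/
theorem result {X Z S Y W : Scheme.{u}} (f : X ⟶ S) [IsSeparated f] (d : ℕ)
    (q : SymProd.fibPow f d ⟶ Y) (g : Y ⟶ S) (hq : SymProd.IsSymProd f d q g)
    (i : Z ⟶ X) [IsClosedImmersion i]
    (r : SymProd.fibPow (i ≫ f) d ⟶ W) (gW : W ⟶ S) (hr : SymProd.IsSymProd (i ≫ f) d r gW)
    (m : W ⟶ (SymProd.fibPowMap (i ≫ f) d f i rfl ≫ q).ker.subscheme)
    (hm : r ≫ m ≫ (SymProd.fibPowMap (i ≫ f) d f i rfl ≫ q).ker.subschemeι =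
      SymProd.fibPowMap (i ≫ f) d f i rfl ≫ q) :
    (∀ w : W, IsIso (m.residueFieldMap w)) ∧
    ((∀ n : ℕ, 0 < n → IsUnit ((n : ℕ) : Γ(S, ⊤))) → IsIso m) ∧
    (Flat (i ≫ f) → IsClosedImmersion m) := by
  let π := SymProd.fibPowMap (i ≫ f) d f i rfl
  let m1 := m ≫ (π ≫ q).ker.subschemeι
  have hm1 : r ≫ m1 = π ≫ q := hm
  have hπ : ∀ k, π ≫ WidePullback.π (fun _ : Fin d => f) k = WidePullback.π (fun _ : Fin d => i ≫ f) k ≫ i :=
    fun k => SymProd.fibPowMap_π (i ≫ f) d f i rfl k
  have hπb : π ≫ WidePullback.base (fun _ : Fin d => f) = WidePullback.base (fun _ : Fin d => i ≫ f) ≫ 𝟙 S := by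
    rw [Category.comp_id]
    exact SymProd.fibPowMap_base (i ≫ f) d f i rfl
  have w : i ≫ f = (i ≫ f) ≫ 𝟙 S := (Category.comp_id _).symm
  haveI : IsClosedImmersion (pullback.lift i (i ≫ f) w) := by
    haveI : IsClosedImmersion (pullback.lift i (i ≫ f) w ≫ pullback.fst f (𝟙 S)) := by
      rw [pullback.lift_fst]; infer_instance
    exact IsClosedImmersion.of_comp_isClosedImmersion _ (pullback.fst f (𝟙 S))
  have hcond : m1 ≫ g = gW ≫ 𝟙 S := by
    refine QuotLib.eq_of_comp_eq hr.isQuot ?_
    rw [reassoc_of% hm1, hq.over, hπb, Category.comp_id, Category.comp_id, hr.over]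
  refine ⟨fun z => ?_, fun hn => ?_, fun hflat => ?_⟩
  · have h1 := FlatSymLib.residueFieldMap_compare_surjective w hq π hπ hπb hr.isQuot hr.over m1 hm1 hcond z
    haveI : IsIso ((pullback.fst g (𝟙 S)).residueFieldMap (pullback.lift m1 gW hcond z)) := inferInstance
    have h2 : Function.Surjective ((pullback.lift m1 gW hcond ≫ pullback.fst g (𝟙 S)).residueFieldMap z) := by
      rw [Scheme.residueFieldMap_comp]
      exact h1.comp (ConcreteCategory.bijective_of_isIso
        ((pullback.fst g (𝟙 S)).residueFieldMap (pullback.lift m1 gW hcond z))).2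
    have h3 : Function.Surjective (m1.residueFieldMap z) := by
      revert h2
      rw [pullback.lift_fst]
      exact id
    rw [Scheme.residueFieldMap_comp] at h3
    exact FlatSymLib.isIso_residueFieldMap m z fun y => by
      obtain ⟨a, ha⟩ := h3 y
      exact ⟨_, ha⟩
  · have hn' : IsUnit ((Nat.card (ULift.{u} (Equiv.Perm (Fin d))) : ℕ) : Γ(Y, ⊤)) := by
      rw [FlatSymLib.natCard_perm]
      exact FlatSymLib.isUnit_natCast_top g (hn _ d.factorial_pos)
    haveI : IsClosedImmersion π := FlatSymLib.fibPowMap_mem @IsClosedImmersion (i ≫ f) f i rfl inferInstance d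
    haveI := hq.isQuot.affine
    haveI := hr.isQuot.affine
    haveI : IsClosedImmersion m1 := FlatSymLib.isClosedImmersion_of_average hq.isQuot hn' hr.isQuot π (fun σ => by
      rw [SymProd.permActU_hom, SymProd.permActU_hom]
      refine WidePullback.hom_ext _ _ _ (fun k => ?_) ?_
      · rw [Category.assoc, Category.assoc, hπ, SymProd.permHom_π_assoc, SymProd.permHom_π, hπ]
      · rw [Category.assoc, Category.assoc, hπb, SymProd.permHom_base_assoc, SymProd.permHom_base, hπb]) m1 hm1
    refine FlatSymLib.isIso_of_ker_eq m1 _ ?_ m rfl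
    rw [← FlatSymLib.ker_comp_quot hr.isQuot m1]
    congr 1
    exact hm1.symm
  · haveI := hflat
    haveI := FlatSymLib.isClosedImmersion_compare w hq π hπ hπb hr.isQuot hr.over m1 hm1 hcond
    haveI : IsClosedImmersion m1 := by
      rw [← pullback.lift_fst m1 gW hcond]
      infer_instance
    exact IsClosedImmersion.of_comp_isClosedImmersion m (π ≫ q).ker.subschemeι

end Groth.Agent.S13394
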