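import Groth.Statements.S13397
import Groth.Agent.ZC.Symm

set_option autoImplicit false
universe u
open scoped TensorProduct
open ZeroCyc

namespace Groth.Agent.S13397

/-- Let A be a commutative ring, B an A-algebra, d ≥ 0, and let (C, γ) be the degree-d divided power
algebra Γ^d_A(B) with its universal multiplicative law γ : B → C of degree d (every multiplicative
law of degree d out of B factors uniquely through γ). Let φ : Γ^d_A(B) → TS^d_A(B) be the canonical
homomorphism to the symmetric tensors, taken here as data characterised by: after any base change S,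
φ ∘ γ sends Σ_j s_j ⊗ b_j to Σ_{c : [d] → [n]} (∏_i s_{c(i)}) ⊗ (b_{c(1)} ⊗ ⋯ ⊗ b_{c(d)}), i.e. φ
corresponds to the law x ↦ x ⊗ ⋯ ⊗ x. Then there is a multiplicative law F : TS^d_A(B) → Γ^d_A(B),
homogeneous of degree d!, such that φ ∘ F and F ∘ φ are both the d!-th power law x ↦ x^{d!}. (The
published statement calls F canonical; this row asserts the existence of such an F.) -/
theorem result {A B C : Type u} [CommRing A] [CommRing B] [Algebra A B] [CommRing C] [Algebra A C] (d : ℕ)
    (γ : PolLaw.MulLaw A B C d) (hγ : PolLaw.IsGammaD γ) (φ : C →ₐ[A] SymTen.TS A B d)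
    (hφ : ∀ (S : Type u) [CommSemiring S] [Algebra A S] (n : ℕ) (s : Fin n → S) (b : Fin n → B),
      ((SymTen.TS A B d).val.comp φ).toLinearMap.lTensor S (γ.law.toFun' S (∑ j, s j ⊗ₜ[A] b j)) =
        ∑ c : Fin d → Fin n, (∏ i, s (c i)) ⊗ₜ[A] PiTensorProduct.tprod A (fun i => b (c i))) :
    ∃ F : PolLaw.MulLaw A (SymTen.TS A B d) C d.factorial,
      PolLaw.MulLaw.postcomp φ F = PolLaw.MulLaw.pow A (SymTen.TS A B d) d.factorial ∧
      PolLaw.MulLaw.precomp F φ = PolLaw.MulLaw.pow A C d.factorial := by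
  obtain ⟨F, hF₁, hF₂⟩ := Groth.Agent.ZC.exists_symmGamma γ hγ φ (Groth.Agent.ZC.postcomp_eq_tpow hφ)
  have hg : ∀ z, ((SymTen.TS A B d).val (φ (F.law.ground z)) : ⨂[A] _ : Fin d, B) =
      ∏ σ : Equiv.Perm (Fin d), SymTen.perm A B d σ z := fun z => by
    have h : ((SymTen.TS A B d).val.comp φ).toLinearMap.lTensor A (F.law.toFun' A ((1 : A) ⊗ₜ[A] z)) =
        (SymTen.symmLaw A B d).law.toFun' A ((1 : A) ⊗ₜ[A] z) :=
      congrFun (congrArg (fun G : PolLaw.MulLaw A (⨂[A] _ : Fin d, B) (⨂[A] _ : Fin d, B) d.factorial => G.law.toFun' A) hF₁) _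
    rw [Groth.Agent.ZC.symmLaw_toFun] at h
    simp only [Algebra.TensorProduct.map_tmul, AlgHom.id_apply, Groth.Agent.ZC.prod_tmul, Finset.prod_const_one] at h
    have h2 := congrArg (TensorProduct.lid A _) h
    rw [TensorProduct.lid_tmul, one_smul] at h2
    rw [← h2, PolynomialLaw.ground_apply]
    generalize F.law.toFun' A ((1 : A) ⊗ₜ[A] z) = w
    induction w using TensorProduct.induction_on with
    | zero => simp
    | tmul a c => simp [LinearMap.lTensor_tmul]
    | add x y hx hy => simp only [map_add, AddMemClass.coe_add, hx, hy]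
  refine ⟨F.precomp (SymTen.TS A B d).val, ?_, hF₂⟩
  refine PolLaw.MulLaw.ext (Groth.Agent.ZC.postcomp_injective (g := (SymTen.TS A B d).val.toLinearMap)
    Subtype.val_injective (PolynomialLaw.ext (funext fun S => funext fun _ => funext fun _ => funext fun x => ?_)))
  show (SymTen.TS A B d).val.toLinearMap.lTensor S (φ.toLinearMap.lTensor S (F.law.toFun' S _)) =
    (SymTen.TS A B d).val.toLinearMap.lTensor S (x ^ d.factorial)
  rw [← Groth.Agent.ZC.lTensor_comp_apply]
  exact (congrFun (congrArg (fun G : PolLaw.MulLaw A (⨂[A] _ : Fin d, B) (⨂[A] _ : Fin d, B) d.factorial =>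
    G.law.toFun' S) hF₁) _).trans (Groth.Agent.ZC.pow_eq_of_fixed x)

end Groth.Agent.S13397
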