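import Groth.Statements.S13398
import Groth.Agent.ZC.Symm

set_option autoImplicit false
universe u
open scoped TensorProduct
open ZeroCyc

namespace Groth.Agent.S13398

/-- Let A be a commutative ring, B an A-algebra, d ≥ 0, and let (C, γ) be the degree-d divided power
algebra Γ^d_A(B) with its universal multiplicative law γ : B → C of degree d (every multiplicative
law of degree d out of B factors uniquely through γ). Let φ : Γ^d_A(B) → TS^d_A(B) be the canonical
homomorphism to the symmetric tensors, taken here as data characterised by: after any base change S,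
φ ∘ γ sends Σ_j s_j ⊗ b_j to Σ_{c : [d] → [n]} (∏_i s_{c(i)}) ⊗ (b_{c(1)} ⊗ ⋯ ⊗ b_{c(d)}), i.e. φ
corresponds to the law x ↦ x ⊗ ⋯ ⊗ x. Then x^{d!} = 0 for every x in the kernel of φ, and y^{d!}
lies in the image of φ for every symmetric tensor y ∈ TS^d_A(B). -/
theorem result {A B C : Type u} [CommRing A] [CommRing B] [Algebra A B] [CommRing C] [Algebra A C] (d : ℕ)
    (γ : PolLaw.MulLaw A B C d) (hγ : PolLaw.IsGammaD γ) (φ : C →ₐ[A] SymTen.TS A B d)
    (hφ : ∀ (S : Type u) [CommSemiring S] [Algebra A S] (n : ℕ) (s : Fin n → S) (b : Fin n → B),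
      ((SymTen.TS A B d).val.comp φ).toLinearMap.lTensor S (γ.law.toFun' S (∑ j, s j ⊗ₜ[A] b j)) =
        ∑ c : Fin d → Fin n, (∏ i, s (c i)) ⊗ₜ[A] PiTensorProduct.tprod A (fun i => b (c i))) :
    (∀ x : C, φ x = 0 → x ^ d.factorial = 0) ∧
      (∀ y : SymTen.TS A B d, y ^ d.factorial ∈ φ.range) := by
  obtain ⟨F, hF₁, hF₂⟩ := Groth.Agent.ZC.exists_symmGamma γ hγ φ (Groth.Agent.ZC.postcomp_eq_tpow hφ)
  have hg : ∀ z, ((SymTen.TS A B d).val (φ (F.law.ground z)) : ⨂[A] _ : Fin d, B) =
      ∏ σ : Equiv.Perm (Fin d), SymTen.perm A B d σ z := fun z => by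
    have h : ((SymTen.TS A B d).val.comp φ).toLinearMap.lTensor A (F.law.toFun' A ((1 : A) ⊗ₜ[A] z)) =
        (SymTen.symmLaw A B d).law.toFun' A ((1 : A) ⊗ₜ[A] z) :=
      congrFun (congrArg (fun G : PolLaw.MulLaw A (⨂[A] _ : Fin d, B) (⨂[A] _ : Fin d, B) d.factorial => G.law.toFun' A) hF₁) _
    rw [Groth.Agent.ZC.symmLaw_toFun] at h
    simp only [Algebra.TensorProduct.map_tmul, AlgHom.id_apply, Groth.Agent.ZC.prod_tmul, Finset.prod_const_one] at h
    have h2 := congrArg (TensorProduct.lid A _) h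
    rw [TensorProduct.lid_tmul, one_smul] at h2
    rw [← h2, PolynomialLaw.ground_apply]
    generalize F.law.toFun' A ((1 : A) ⊗ₜ[A] z) = w
    induction w using TensorProduct.induction_on with
    | zero => simp
    | tmul a c => simp [LinearMap.lTensor_tmul]
    | add x y hx hy => simp only [map_add, AddMemClass.coe_add, hx, hy]
  have hval : ∀ y : SymTen.TS A B d, φ (F.law.ground (y : ⨂[A] _ : Fin d, B)) = y ^ d.factorial := fun y => by
    apply Subtype.ext
    refine (hg _).trans ?_
    rw [Finset.prod_congr rfl fun σ _ => (SymTen.perm_apply A B d σ _).trans (y.2 σ), Finset.prod_const,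
      Finset.card_univ, Fintype.card_perm, Fintype.card_fin]
    rfl
  refine ⟨fun x hx => ?_, fun y => ⟨_, hval y⟩⟩
  have h : F.law.toFun' A ((SymTen.TS A B d).val.toLinearMap.lTensor A (φ.toLinearMap.lTensor A ((1 : A) ⊗ₜ[A] x))) =
      ((1 : A) ⊗ₜ[A] x) ^ d.factorial :=
    congrFun (congrArg (fun G : PolLaw.MulLaw A C C d.factorial => G.law.toFun' A) hF₂) _
  rw [LinearMap.lTensor_tmul, AlgHom.toLinearMap_apply, hx, TensorProduct.tmul_zero, map_zero] at h
  have h0 := F.homog A (0 : A) 0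
  rw [zero_smul, zero_pow (Nat.factorial_ne_zero d), zero_smul] at h0
  rw [h0, Algebra.TensorProduct.tmul_pow, one_pow] at h
  simpa using (congrArg (TensorProduct.lid A C) h).symm

end Groth.Agent.S13398
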