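import Groth.Statements.S13402
import Groth.Agent.HopfFF.Coinv
-- import your own Groth.Agent.* helpers here

set_option autoImplicit false
universe u v w
open Hopf

namespace Groth.Agent.S13402

/-- Let k be a field and let A and B be finite-dimensional commutative and cocommutative Hopf algebras
over k (finite commutative k-group schemes G = Spec A and H = Spec B). Let f : B → A be a bialgebra
map (a homomorphism G → H) which is injective and such that the ideal of A generated by the image of
the augmentation ideal of B is the augmentation ideal of A (the homomorphism G → H has trivial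
kernel). Then f is bijective, so G → H is an isomorphism; this is what makes the category of finite
commutative k-group schemes abelian. -/
theorem result (k : Type u) [Field k] (A : Type v) (B : Type w)
    [CommRing A] [HopfAlgebra k A] [Module.Finite k A] [Coalgebra.IsCocomm k A]
    [CommRing B] [HopfAlgebra k B] [Module.Finite k B] [Coalgebra.IsCocomm k B]
    (f : B →ₐc[k] A) (hinj : Function.Injective f)
    (hker : Ideal.map f (RingHom.ker (Bialgebra.counitAlgHom k B)) = RingHom.ker (Bialgebra.counitAlgHom k A)) :
    Function.Bijective f := by
  refine ⟨hinj, fun a => ?_⟩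
  have hB := HopfFF.isHopfSub_range f
  let I : Ideal A := RingHom.ker (Bialgebra.counitAlgHom k A)
  have hI : I ≤ Ideal.span {b : A | b ∈ (f : B →ₐ[k] A).range ∧ Coalgebra.counit (R := k) b = 0} := by
    rw [show I = Ideal.map f (RingHom.ker (Bialgebra.counitAlgHom k B)) from hker.symm, Ideal.map_le_iff_le_comap]
    intro b hb
    exact Ideal.subset_span ⟨⟨b, rfl⟩, (CoalgHomClass.counit_comp_apply f b).trans hb⟩
  refine HopfFF.mem_of_right_coinv hB hI (a := a) ?_
  let j : k →ₗ[k] A ⧸ I := Algebra.linearMap k _
  have hq : (Ideal.Quotient.mkₐ k I).toLinearMap = j ∘ₗ Coalgebra.counit (R := k) := by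
    refine LinearMap.ext fun x => ?_
    change Ideal.Quotient.mk I x = Ideal.Quotient.mk I (algebraMap k A (Coalgebra.counit (R := k) x))
    refine Ideal.Quotient.eq.mpr ?_
    change Bialgebra.counitAlgHom k A (x - algebraMap k A (Bialgebra.counitAlgHom k A x)) = 0
    rw [map_sub, AlgHom.commutes, Algebra.algebraMap_self_apply, sub_self]
  rw [hq, LinearMap.lTensor_comp_apply, Coalgebra.lTensor_counit_comul, LinearMap.lTensor_tmul]
  simp [j]

end Groth.Agent.S13402
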