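import Groth.Statements.S13405
import Groth.Agent.S7949
import Groth.Agent.AdicRingLib.Maps
import Groth.Agent.WildQuotLib.PSReg
import Groth.Agent.AdicEasyLib.Basic
-- import your own Groth.Agent.* helpers here

set_option autoImplicit false
universe u v
open Hopf

namespace Groth.Agent.S13405

set_option maxHeartbeats 1000000
set_option linter.style.haveILetI false
set_option backward.isDefEq.respectTransparency false

open IsLocalRing TensorProduct

/-- Series without terms of degree `< n` lie in `(X)^n`. -/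
theorem mem_pow_of_truncTotal_eq_zero {σ k : Type*} [Finite σ] [CommRing k] (n : ℕ) (f : MvPowerSeries σ k)
    (hf : MvPowerSeries.truncTotal n f = 0) :
    f ∈ (MvPolynomial.idealOfVars σ k ^ n).map MvPolynomial.coeToMvPowerSeries.ringHom := by
  let J := MvPolynomial.idealOfVars σ k
  let e := MvPowerSeries.toAdicCompletionAlgEquiv σ k
  have hk : (e f) ∈ (J ^ n • ⊤ : Submodule (MvPolynomial σ k) (AdicCompletion J (MvPolynomial σ k))) := by
    rw [AdicCompletion.pow_smul_top_eq_ker_eval (MvPolynomial.idealOfVars_fg σ k), LinearMap.mem_ker,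
      AdicCompletion.eval_apply, MvPowerSeries.toAdicCompletionAlgEquiv_apply,
      MvPowerSeries.toAdicCompletion_apply_eq_mk_truncTotal, hf]
    exact Submodule.Quotient.mk_zero _
  have hs := Submodule.mem_map_of_mem (f := e.symm.toLinearMap) hk
  rw [Submodule.map_smul''] at hs
  have hf' : f ∈ (J ^ n • ⊤ : Submodule (MvPolynomial σ k) (MvPowerSeries σ k)) := by
    rw [show e.symm.toLinearMap (e f) = f from e.symm_apply_apply f] at hs
    exact Submodule.smul_mono le_rfl le_top hs
  rw [Ideal.smul_top_eq_map] at hf'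
  exact hf'

section

variable {n : ℕ} (q : Fin n → ℕ)

/-- Exponents in the box `d i < q i`. -/
abbrev Box := ∀ i, Fin (q i)

/-- The exponent vector of a point of the box. -/
noncomputable def expo (a : Box q) : Fin n →₀ ℕ := Finsupp.equivFunOnFinite.symm fun i => (a i : ℕ)

theorem expo_injective : Function.Injective (expo q) := fun a b h => funext fun i =>
  Fin.ext (DFunLike.congr_fun h i)

variable (k : Type*) [CommRing k]

/-- The ideal of the truncated polynomial algebra. -/
noncomputable abbrev truncIdeal : Ideal (MvPolynomial (Fin n) k) :=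
  Ideal.span (Set.range fun i : Fin n => (MvPolynomial.X i : MvPolynomial (Fin n) k) ^ q i)

theorem mem_truncIdeal_iff (p : MvPolynomial (Fin n) k) :
    p ∈ truncIdeal q k ↔ ∀ d ∈ p.support, ∃ i, q i ≤ d i := by
  have : truncIdeal q k = Ideal.span ((fun s => MvPolynomial.monomial s (1 : k)) ''
      Set.range fun i => Finsupp.single i (q i)) := by
    rw [truncIdeal, ← Set.range_comp]
    congr 2
    funext i
    simp [MvPolynomial.X_pow_eq_monomial]
  rw [this, MvPolynomial.mem_ideal_span_monomial_image]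
  simp [Finsupp.single_le_iff]

theorem exists_box (d : Fin n →₀ ℕ) (h : ∀ i, d i < q i) : ∃ a : Box q, expo q a = d :=
  ⟨fun i => ⟨d i, h i⟩, by ext i; rfl⟩

theorem span_box (p : MvPolynomial (Fin n) k) :
    ∃ c : Box q → k, p - ∑ a, MvPolynomial.monomial (expo q a) (c a) ∈ truncIdeal q k := by
  classical
  refine ⟨fun a => p.coeff (expo q a), (mem_truncIdeal_iff q k _).2 fun d hd => ?_⟩
  by_contra hlt
  push Not at hlt
  obtain ⟨a, rfl⟩ := exists_box q d hlt
  refine MvPolynomial.mem_support_iff.1 hd ?_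
  rw [MvPolynomial.coeff_sub, MvPolynomial.coeff_sum, Finset.sum_eq_single a]
  · simp
  · intro b _ hb
    rw [MvPolynomial.coeff_monomial, if_neg fun e => hb (expo_injective q e)]
  · simp

theorem indep_box (c : Box q → k) (h : ∑ a, MvPolynomial.monomial (expo q a) (c a) ∈ truncIdeal q k) (a : Box q) :
    c a = 0 := by
  classical
  have hc : (∑ b, MvPolynomial.monomial (expo q b) (c b)).coeff (expo q a) = c a := by
    rw [MvPolynomial.coeff_sum, Finset.sum_eq_single a]
    · simp
    · intro b _ hb
      rw [MvPolynomial.coeff_monomial, if_neg fun e => hb (expo_injective q e)]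
    · simp
  by_contra hne
  obtain ⟨i, hi⟩ := (mem_truncIdeal_iff q k _).1 h _ (MvPolynomial.mem_support_iff.2 (by rwa [hc]))
  exact absurd hi (not_le.2 (a i).2)

theorem exists_box_approx (f : MvPowerSeries (Fin n) k) :
    ∃ c : Box q → k, f - ((∑ a, MvPolynomial.monomial (expo q a) (c a) : MvPolynomial (Fin n) k) : MvPowerSeries (Fin n) k) ∈
      (truncIdeal q k).map MvPolynomial.coeToMvPowerSeries.ringHom := by
  classical
  let M := ∑ i, q i + 1
  let p : MvPolynomial (Fin n) k := MvPowerSeries.truncTotal M f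
  obtain ⟨c, hc⟩ := span_box q k p
  refine ⟨c, ?_⟩
  have h1 : f - (p : MvPowerSeries (Fin n) k) ∈ (truncIdeal q k).map MvPolynomial.coeToMvPowerSeries.ringHom := by
    have h0 : MvPowerSeries.truncTotal M (f - (p : MvPowerSeries (Fin n) k)) = 0 := by
      ext d
      rw [map_sub, MvPolynomial.coeff_sub, MvPolynomial.coeff_zero, sub_eq_zero]
      rcases lt_or_ge (Finsupp.degree d) M with hlt | hge
      · rw [MvPowerSeries.coeff_truncTotal _ hlt, MvPowerSeries.coeff_truncTotal _ hlt, MvPolynomial.coeff_coe,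
          MvPowerSeries.coeff_truncTotal _ hlt]
      · rw [MvPowerSeries.coeff_truncTotal_eq_zero _ hge, MvPowerSeries.coeff_truncTotal_eq_zero _ hge]
    refine Ideal.map_mono ?_ (mem_pow_of_truncTotal_eq_zero M _ h0)
    intro g hg
    refine (mem_truncIdeal_iff q k g).2 fun d hd => ?_
    have hdeg := (MvPolynomial.mem_pow_idealOfVars_iff M g).1 hg d hd
    by_contra hlt
    push Not at hlt
    have : Finsupp.degree d ≤ ∑ i, q i := by
      rw [Finsupp.degree_eq_sum]
      exact Finset.sum_le_sum fun i _ => (hlt i).le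
    omega
  have h2 := Ideal.mem_map_of_mem MvPolynomial.coeToMvPowerSeries.ringHom hc
  rw [map_sub] at h2
  have := add_mem h1 h2
  convert this using 1
  simp only [MvPolynomial.coeToMvPowerSeries.ringHom_apply]
  abel

end

theorem exists_psLift {Λ : Type u} {B : Type v} [CommRing Λ] [CommRing B] [Algebra Λ B] {n : ℕ} (K : Ideal B)
    [IsAdicComplete K B] (b : Fin n → B) (hb : ∀ i, b i ∈ K) :
    ∃ g : MvPowerSeries (Fin n) Λ →ₐ[Λ] B, ∀ p : MvPolynomial (Fin n) Λ,
      g (p : MvPowerSeries (Fin n) Λ) = MvPolynomial.aeval b p := by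
  let J := MvPolynomial.idealOfVars (Fin n) Λ
  let f : MvPolynomial (Fin n) Λ →ₐ[Λ] B := MvPolynomial.aeval b
  have hf : J.map f ≤ K := by
    rw [Ideal.map_le_iff_le_comap]
    refine Ideal.span_le.mpr (Set.range_subset_iff.mpr fun i => ?_)
    change f (MvPolynomial.X i) ∈ K
    rw [MvPolynomial.aeval_X]
    exact hb i
  obtain ⟨G, hG⟩ := Groth.Agent.AdicRingLib.exists_algHom_completion (R := Λ) J K f hf
  refine ⟨G.comp ((MvPowerSeries.toAdicCompletionAlgEquiv (Fin n) Λ).restrictScalars Λ).toAlgHom, fun p => ?_⟩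
  have e := (MvPowerSeries.toAdicCompletionAlgEquiv (Fin n) Λ).commutes p
  rw [show algebraMap (MvPolynomial (Fin n) Λ) (MvPowerSeries (Fin n) Λ) p = (p : MvPowerSeries (Fin n) Λ) by
    simp [MvPowerSeries.algebraMap_apply']] at e
  change G (MvPowerSeries.toAdicCompletionAlgEquiv (Fin n) Λ (p : MvPowerSeries (Fin n) Λ)) = _
  rw [e, hG]

/-- Let R be a complete discrete valuation ring whose residue field is perfect of characteristic p > 0,
and let G = Spec A be a connected finite flat group scheme over R: A is a commutative Hopf algebra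
over R, finite and flat as an R-module, and a local ring. Then for some n there are natural numbers
e_1, ..., e_n and power series f_1, ..., f_n in R[[x_1, ..., x_n]] such that A is isomorphic as an
R-algebra to R[[x_1, ..., x_n]]/(f_1, ..., f_n) and each f_i is x_i ^ (p ^ e_i) plus a polynomial
all of whose coefficients lie in the maximal ideal of R and whose degree in x_i is less than p ^
e_i. -/
theorem result (R : Type u) [CommRing R] [IsDomain R]
    [IsDiscreteValuationRing R] [IsAdicComplete (IsLocalRing.maximalIdeal R) R]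
    (p : ℕ) [Fact p.Prime] [CharP (IsLocalRing.ResidueField R) p] [PerfectField (IsLocalRing.ResidueField R)]
    (A : Type v) [CommRing A] [HopfAlgebra R A] [Module.Finite R A] [Module.Flat R A] [IsLocalRing A] :
    ∃ (n : ℕ) (e : Fin n → ℕ) (g : Fin n → MvPolynomial (Fin n) R),
      (∀ i, (∀ d, (g i).coeff d ∈ IsLocalRing.maximalIdeal R) ∧ (g i).degreeOf i < p ^ e i) ∧
      Nonempty (A ≃ₐ[R] (MvPowerSeries (Fin n) R ⧸
        Ideal.span (Set.range fun i => (MvPowerSeries.X i : MvPowerSeries (Fin n) R) ^ p ^ e i + ↑(g i)))) := by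
  classical
  haveI : Module.Free R A := Module.free_of_flat_of_isLocalRing
  let k := ResidueField R
  let A₀ := k ⊗[R] A
  have hπs : Function.Surjective (Algebra.TensorProduct.includeRight : A →ₐ[R] A₀) :=
    Algebra.TensorProduct.includeRight_surjective A IsLocalRing.residue_surjective
  let π : A →ₐ[R] A₀ := Algebra.TensorProduct.includeRight
  haveI : Nontrivial A₀ := (TensorProduct.comm R k A).toEquiv.nontrivial
  haveI : IsLocalRing A₀ := IsLocalRing.of_surjective' π.toRingHom hπs
  have hkerπ : ∀ z : A, π z = 0 → z ∈ (maximalIdeal R).map (algebraMap R A) := fun z hz => by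
    have h := congrArg (TensorProduct.quotTensorEquivQuotSMul A (maximalIdeal R))
      (show (Ideal.Quotient.mk (maximalIdeal R) 1) ⊗ₜ[R] z = 0 from hz)
    rw [map_zero, TensorProduct.quotTensorEquivQuotSMul_mk_tmul, one_smul, Submodule.Quotient.mk_eq_zero,
      Ideal.smul_top_eq_map] at h
    exact h
  obtain ⟨n, e, he, ⟨ψ⟩⟩ := Groth.Agent.S7949.result k A₀ p
  let q : Fin n → ℕ := fun i => p ^ e i
  have hq0 : ∀ i, 0 < q i := fun i => pow_pos (Fact.out : p.Prime).pos _
  choose x hx using fun i => hπs (ψ.symm (Ideal.Quotient.mk _ (MvPolynomial.X i)))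
  have hπx : ∀ P : MvPolynomial (Fin n) R, π (MvPolynomial.aeval x P) =
      ψ.symm (Ideal.Quotient.mk _ (MvPolynomial.map (residue R) P)) := fun P => by
    refine DFunLike.congr_fun (f := π.toRingHom.comp (MvPolynomial.aeval x).toRingHom)
      (g := ((ψ.symm.toAlgHom.toRingHom).comp ((Ideal.Quotient.mk (truncIdeal q k)).comp
        (MvPolynomial.map (residue R))))) (MvPolynomial.ringHom_ext (fun r => ?_) fun i => ?_) P
    · show π (MvPolynomial.aeval x (MvPolynomial.C r)) = ψ.symm (Ideal.Quotient.mk _ (MvPolynomial.map (residue R) (MvPolynomial.C r)))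
      rw [MvPolynomial.aeval_C, AlgHom.commutes, MvPolynomial.map_C]
      exact ((ψ.symm.commutes (residue R r)).trans (IsScalarTower.algebraMap_apply R k A₀ r).symm).symm
    · show π (MvPolynomial.aeval x (MvPolynomial.X i)) = ψ.symm (Ideal.Quotient.mk _ (MvPolynomial.map (residue R) (MvPolynomial.X i)))
      rw [MvPolynomial.aeval_X, MvPolynomial.map_X]
      exact hx i
  -- the monomials in the box form a basis of `A`
  let mon : Box q → A := fun a => MvPolynomial.aeval x (MvPolynomial.monomial (expo q a) (1 : R))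
  have hcomb : ∀ c : Box q → R, ∑ a, c a • mon a =
      MvPolynomial.aeval x (∑ a, MvPolynomial.monomial (expo q a) (c a)) := fun c => by
    rw [map_sum]
    refine Finset.sum_congr rfl fun a _ => ?_
    rw [← map_smul, MvPolynomial.smul_monomial, smul_eq_mul, mul_one]
  have hmapc : ∀ c : Box q → R, MvPolynomial.map (residue R) (∑ a, MvPolynomial.monomial (expo q a) (c a)) =
      ∑ a, MvPolynomial.monomial (expo q a) (residue R (c a)) := fun c => by
    simp only [map_sum, MvPolynomial.map_monomial]
  have hred : ∀ c : Box q → R, π (∑ a, c a • mon a) = 0 → ∀ a, c a ∈ maximalIdeal R := fun c hc a => by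
    rw [hcomb, hπx, map_eq_zero_iff _ ψ.symm.injective, Ideal.Quotient.eq_zero_iff_mem, hmapc] at hc
    exact (residue_eq_zero_iff _).1 (indep_box q k _ hc a)
  have hspanmod : ∀ z : A, ∃ c : Box q → R, z - ∑ a, c a • mon a ∈ (maximalIdeal R).map (algebraMap R A) := by
    intro z
    obtain ⟨P, hP⟩ := Ideal.Quotient.mk_surjective (ψ (π z))
    obtain ⟨c₀, hc₀⟩ := span_box q k P
    choose c hc using fun a => IsLocalRing.residue_surjective (c₀ a)
    refine ⟨c, hkerπ _ ?_⟩
    rw [map_sub, hcomb, hπx, hmapc, sub_eq_zero, ← ψ.symm_apply_apply (π z), ← hP]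
    refine congrArg ψ.symm (Ideal.Quotient.eq.2 ?_)
    simp only [hc]
    exact hc₀
  have hsp : Submodule.span R (Set.range mon) = ⊤ := by
    refine top_le_iff.1 (Submodule.le_of_le_smul_of_le_jacobson_bot Module.Finite.fg_top
      (maximalIdeal_le_jacobson ⊥) fun z _ => ?_)
    obtain ⟨c, hc⟩ := hspanmod z
    rw [← add_sub_cancel (∑ a, c a • mon a) z]
    refine Submodule.add_mem_sup (sum_mem fun a _ => Submodule.smul_mem _ _ (Submodule.subset_span ⟨a, rfl⟩)) ?_
    rw [Ideal.smul_top_eq_map]
    exact hc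
  have hli : LinearIndependent R mon := by
    have hcard : Fintype.card (Box q) = Module.finrank R A := by
      rw [← Module.finrank_baseChange (R := k) (S := R) (M' := A)]
      let v : Box q → A₀ := fun a => π (mon a)
      have hv : ∀ c : Box q → R, ∑ a, residue R (c a) • v a = π (∑ a, c a • mon a) := fun c => by
        rw [map_sum]
        refine Finset.sum_congr rfl fun a _ => ?_
        rw [map_smul]
        exact (algebraMap_smul k (c a) (v a))
      have hv1 : LinearIndependent k v := Fintype.linearIndependent_iff.2 fun g hg a => by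
        choose c hc using fun a => IsLocalRing.residue_surjective (g a)
        simp only [← hc] at hg ⊢
        rw [hv] at hg
        exact (residue_eq_zero_iff _).2 (hred c hg a)
      have hv2 : ⊤ ≤ Submodule.span k (Set.range v) := fun z _ => by
        obtain ⟨w, rfl⟩ := hπs z
        obtain ⟨c, hc⟩ := (Submodule.mem_span_range_iff_exists_fun R).1 (hsp ▸ Submodule.mem_top (x := w))
        rw [← hc]
        exact hv c ▸ sum_mem fun a _ => Submodule.smul_mem _ _ (Submodule.subset_span ⟨a, rfl⟩)
      exact (Module.finrank_eq_card_basis (Module.Basis.mk hv1 hv2)).symm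
    exact linearIndependent_of_top_le_span_of_card_eq_finrank hsp.ge hcard
  -- the relations
  have hrel : ∀ i, ∃ c : Box q → R, (∀ a, c a ∈ maximalIdeal R) ∧ x i ^ q i = ∑ a, c a • mon a := by
    intro i
    obtain ⟨c, hc⟩ := (Submodule.mem_span_range_iff_exists_fun R).1 (hsp ▸ Submodule.mem_top (x := x i ^ q i))
    refine ⟨c, hred c ?_, hc.symm⟩
    have h := hπx (MvPolynomial.X i ^ q i)
    rw [map_pow, MvPolynomial.aeval_X, map_pow (MvPolynomial.map (residue R)), MvPolynomial.map_X] at h
    rw [hc, h, map_eq_zero_iff _ ψ.symm.injective, Ideal.Quotient.eq_zero_iff_mem]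
    exact Ideal.subset_span ⟨i, rfl⟩
  choose c hcm hc using hrel
  let g : Fin n → MvPolynomial (Fin n) R := fun i => -∑ a, MvPolynomial.monomial (expo q a) (c i a)
  have hgm : ∀ i d, (g i).coeff d ∈ maximalIdeal R := fun i d => by
    rw [MvPolynomial.coeff_neg, MvPolynomial.coeff_sum]
    refine neg_mem (sum_mem fun a _ => ?_)
    rw [MvPolynomial.coeff_monomial]
    split_ifs
    · exact hcm i a
    · exact zero_mem _
  refine ⟨n, e, g, fun i => ⟨hgm i, ?_⟩, ?_⟩
  · show (g i).degreeOf i < q i
    refine (MvPolynomial.degreeOf_lt_iff (hq0 i)).2 fun d hd => ?_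
    by_contra hdi
    refine MvPolynomial.mem_support_iff.1 hd ?_
    rw [MvPolynomial.coeff_neg, MvPolynomial.coeff_sum, Finset.sum_eq_zero, neg_zero]
    intro a _
    rw [MvPolynomial.coeff_monomial, if_neg fun h => hdi ?_]
    rw [← h]; exact (a i).2
  -- the evaluation map
  let I := (maximalIdeal R).map (algebraMap R A)
  haveI : IsAdicComplete (maximalIdeal R) A := Groth.Agent.AdicEasyLib.isAdicComplete_of_finite (maximalIdeal R) A
  haveI : IsAdicComplete I A := (IsAdicComplete.map_algebraMap_iff (maximalIdeal R) A).2 inferInstance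
  let K := I ⊔ Ideal.span (Set.range x)
  have hxq : ∀ i, x i ^ q i ∈ I := fun i => by
    rw [hc i]
    refine sum_mem fun a _ => ?_
    rw [Algebra.smul_def]
    exact Ideal.mul_mem_right _ _ (Ideal.mem_map_of_mem _ (hcm i a))
  obtain ⟨M, hM⟩ : ∃ M, K ^ (M + 1) ≤ I := by
    have hfg : (Ideal.span (Set.range x)).FG := Submodule.fg_span (Set.finite_range x)
    have hrad : Ideal.span (Set.range x) ≤ I.radical := Ideal.span_le.2 (by
      rintro _ ⟨i, rfl⟩; exact ⟨q i, hxq i⟩)
    obtain ⟨M, hM⟩ := Ideal.exists_pow_le_of_le_radical_of_fg hrad hfg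
    exact ⟨M, (Ideal.sup_pow_add_le_pow_sup_pow (n := 1) (m := M)).trans (sup_le (by rw [pow_one]) hM) |> fun h => by
      rwa [add_comm] at h⟩
  haveI : IsAdicComplete K A :=
    Groth.Agent.WildQuotLib.isAdicComplete_of_pow_le (I := I) le_sup_left (Nat.succ_pos M) hM
  obtain ⟨Φ, hΦ⟩ := exists_psLift (Λ := R) K x fun i => Ideal.mem_sup_right (Ideal.subset_span ⟨i, rfl⟩)
  let Rel : Fin n → MvPowerSeries (Fin n) R := fun i =>
    (MvPowerSeries.X i : MvPowerSeries (Fin n) R) ^ p ^ e i + ↑(g i)
  have hRel : ∀ i, Rel i = ((MvPolynomial.X i ^ q i + g i : MvPolynomial (Fin n) R) : MvPowerSeries (Fin n) R) := by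
    intro i; simp [Rel, q]
  have hJ : Ideal.span (Set.range Rel) ≤ RingHom.ker Φ := Ideal.span_le.2 (by
    rintro _ ⟨i, rfl⟩
    rw [SetLike.mem_coe, RingHom.mem_ker, hRel, hΦ, map_add, map_pow, MvPolynomial.aeval_X, map_neg, ← hcomb, hc i,
      add_neg_cancel])
  let Φ' : (MvPowerSeries (Fin n) R ⧸ Ideal.span (Set.range Rel)) →ₐ[R] A :=
    Ideal.Quotient.liftₐ _ Φ fun z hz => hJ hz
  let W : (Box q → R) →ₗ[R] (MvPowerSeries (Fin n) R ⧸ Ideal.span (Set.range Rel)) :=
    Fintype.linearCombination R fun a =>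
      Ideal.Quotient.mk _ ((MvPolynomial.monomial (expo q a) (1 : R) : MvPolynomial (Fin n) R) : MvPowerSeries (Fin n) R)
  have hW : ∀ d : Box q → R, W d =
      Ideal.Quotient.mk _ ((∑ a, MvPolynomial.monomial (expo q a) (d a) : MvPolynomial (Fin n) R) : MvPowerSeries (Fin n) R) := by
    intro d
    rw [Fintype.linearCombination_apply, ← MvPolynomial.coeToMvPowerSeries.ringHom_apply, map_sum, map_sum]
    refine Finset.sum_congr rfl fun a _ => ?_
    rw [← Ideal.Quotient.mkₐ_eq_mk R, ← map_smul, MvPolynomial.coeToMvPowerSeries.ringHom_apply]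
    congr 1
    rw [← MvPolynomial.coe_smul, MvPolynomial.smul_monomial, smul_eq_mul, mul_one]
  haveI : Nontrivial (MvPowerSeries (Fin n) R ⧸ Ideal.span (Set.range Rel)) := Φ'.toRingHom.domain_nontrivial
  haveI : IsLocalRing (MvPowerSeries (Fin n) R ⧸ Ideal.span (Set.range Rel)) :=
    IsLocalRing.of_surjective' (Ideal.Quotient.mk _) Ideal.Quotient.mk_surjective
  haveI : IsHausdorff (maximalIdeal R) (MvPowerSeries (Fin n) R ⧸ Ideal.span (Set.range Rel)) := by
    have hne : (maximalIdeal R).map (algebraMap R (MvPowerSeries (Fin n) R ⧸ Ideal.span (Set.range Rel))) ≠ ⊤ := by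
      intro h
      have h' := congrArg (Ideal.map Φ'.toRingHom) h
      rw [Ideal.map_map, Ideal.map_top, show Φ'.toRingHom.comp (algebraMap R _) = algebraMap R A from Φ'.comp_algebraMap] at h'
      have hn : (π : A →+* A₀) '' (I : Set A) ⊆ {0} := by
        rintro _ ⟨z, hz, rfl⟩
        refine (Ideal.map_le_iff_le_comap.2 ?_ : I ≤ RingHom.ker π.toRingHom) hz
        intro r hr
        show π (algebraMap R A r) = 0
        rw [AlgHom.commutes, IsScalarTower.algebraMap_apply R k A₀, show algebraMap R k r = 0 from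
          (residue_eq_zero_iff r).2 hr, map_zero]
      have h1 : (1 : A) ∈ I := by show (1 : A) ∈ Ideal.map _ _; rw [h']; trivial
      exact one_ne_zero (map_one (π : A →+* A₀) ▸ hn ⟨1, h1, rfl⟩)
    refine ⟨fun z hz => IsHausdorff.haus (IsHausdorff.of_isLocalRing
      ((maximalIdeal R).map (algebraMap R (MvPowerSeries (Fin n) R ⧸ Ideal.span (Set.range Rel)))) _ hne) z
        fun m => ?_⟩
    have h := SModEq.zero.1 (hz m)
    rw [Ideal.smul_top_eq_map, Ideal.map_pow] at h
    rw [SModEq.zero, smul_eq_mul, Ideal.mul_top]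
    exact h
  haveI : IsAdicComplete (maximalIdeal R) (Box q → R) := Groth.Agent.AdicEasyLib.isAdicComplete_of_finite _ _
  have hWs : Function.Surjective W := surjective_of_mkQ_comp_surjective (I := maximalIdeal R) fun z => by
    obtain ⟨z, rfl⟩ := Submodule.Quotient.mk_surjective _ z
    obtain ⟨f, rfl⟩ := Ideal.Quotient.mk_surjective z
    obtain ⟨d, hd⟩ := exists_box_approx q R f
    refine ⟨d, ?_⟩
    show Submodule.Quotient.mk (W d) = _
    rw [Submodule.Quotient.eq, Ideal.smul_top_eq_map, hW, ← neg_sub, neg_mem_iff, ← map_sub]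
    refine (Ideal.map_le_iff_le_comap.2 (Ideal.span_le.2 ?_) : (truncIdeal q R).map
      MvPolynomial.coeToMvPowerSeries.ringHom ≤ Ideal.comap (Ideal.Quotient.mk (Ideal.span (Set.range Rel)))
        ((maximalIdeal R).map (algebraMap R _))) hd
    rintro _ ⟨i, rfl⟩
    simp only [SetLike.mem_coe, Ideal.mem_comap]
    rw [MvPolynomial.coeToMvPowerSeries.ringHom_apply]
    have hi : Rel i ∈ Ideal.span (Set.range Rel) := Ideal.subset_span ⟨i, rfl⟩
    rw [show (((MvPolynomial.X i : MvPolynomial (Fin n) R) ^ q i : MvPolynomial (Fin n) R) : MvPowerSeries (Fin n) R) =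
      Rel i - (g i : MvPowerSeries (Fin n) R) by rw [hRel]; simp, map_sub, Ideal.Quotient.eq_zero_iff_mem.2 hi, zero_sub,
      neg_mem_iff]
    rw [(g i).as_sum, ← MvPolynomial.coeToMvPowerSeries.ringHom_apply, map_sum, map_sum]
    refine sum_mem fun d _ => ?_
    rw [← mul_one (MvPolynomial.coeff d (g i)), ← MvPolynomial.C_mul_monomial, map_mul, map_mul]
    refine Ideal.mul_mem_right _ _ ?_
    rw [MvPolynomial.coeToMvPowerSeries.ringHom_apply, MvPolynomial.coe_C]
    exact Ideal.mem_map_of_mem _ (hgm i d)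
  have hcomp : ∀ d : Box q → R, Φ' (W d) = ∑ a, d a • mon a := fun d => by
    rw [hW, hcomb]
    exact hΦ _
  refine ⟨(AlgEquiv.ofBijective Φ' ⟨fun u w huw => ?_, fun z => ?_⟩).symm⟩
  · obtain ⟨u, rfl⟩ := hWs u
    obtain ⟨w, rfl⟩ := hWs w
    rw [hcomp, hcomp] at huw
    exact congrArg W (funext fun a => Fintype.linearIndependent_iffₛ.1 hli u w huw a)
  · obtain ⟨d, hd⟩ := (Submodule.mem_span_range_iff_exists_fun R).1 (hsp ▸ Submodule.mem_top (x := z))
    exact ⟨W d, (hcomp d).trans hd⟩

end Groth.Agent.S13405
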