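import Groth.Statements.S13407
import Mathlib
import Groth.Agent.HopfSat.Basic
-- import your own Groth.Agent.* helpers here

set_option autoImplicit false
universe u
open TensorProduct
open Hopf

namespace Groth.Agent.S13407

/-- Let R be a Dedekind domain with fraction field K and let G = Spec A be a finite flat group scheme
over R (A a commutative Hopf algebra over R, finite and flat as an R-module). Closed flat R-subgroup
schemes of G correspond one-to-one to closed K-subgroup schemes of the generic fibre G_K under H ↦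
H_K: the map sending a Hopf ideal J' of A with A/J' flat over R to the ideal it generates in K ⊗_R A
is a bijection onto the set of Hopf ideals of the Hopf algebra K ⊗_R A over K (its inverse takes a
Hopf ideal of K ⊗_R A to its preimage in A). -/
theorem result (R : Type u) [CommRing R] [IsDedekindDomain R]
    (K : Type u) [Field K] [Algebra R K] [IsFractionRing R K]
    (A : Type u) [CommRing A] [HopfAlgebra R A] [Module.Finite R A] [Module.Flat R A] :
    Set.BijOn (fun J' : Ideal A => Ideal.map (Algebra.TensorProduct.includeRight : A →ₐ[R] K ⊗[R] A) J')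
      {J' : Ideal A | J'.IsHopfIdeal R ∧ Module.Flat R (A ⧸ J')}
      {J : Ideal (K ⊗[R] A) | J.IsHopfIdeal K} := by
  refine ⟨fun J' hJ' => ?_, fun J₁ h₁ J₂ h₂ h => ?_, fun J hJ => ?_⟩
  · haveI := hJ'.1
    exact HopfSat.isHopfIdeal_map R K A J'
  · haveI := h₁.2
    haveI := h₂.2
    rw [← HopfSat.comap_map (R := R) (K := K) J₁, ← HopfSat.comap_map (R := R) (K := K) J₂]
    exact congrArg (Ideal.comap (Algebra.TensorProduct.includeRight : A →ₐ[R] K ⊗[R] A)) h
  · haveI : J.IsHopfIdeal K := hJ
    refine ⟨J.comap (Algebra.TensorProduct.includeRight : A →ₐ[R] K ⊗[R] A),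
      ⟨HopfSat.isHopfIdeal_comap J, ?_⟩, HopfSat.map_comap J⟩
    let J' := J.comap (Algebra.TensorProduct.includeRight : A →ₐ[R] K ⊗[R] A)
    let ι : (A ⧸ J') →ₐ[R] (K ⊗[R] A) ⧸ J :=
      Ideal.Quotient.liftₐ J' ((Ideal.Quotient.mkₐ R J).comp Algebra.TensorProduct.includeRight)
        fun a ha => Ideal.Quotient.eq_zero_iff_mem.mpr ha
    have hι : Function.Injective ι := (injective_iff_map_eq_zero ι).mpr fun x hx => by
      obtain ⟨a, rfl⟩ := Ideal.Quotient.mk_surjective x
      exact Ideal.Quotient.eq_zero_iff_mem.mpr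
        (Ideal.Quotient.eq_zero_iff_mem.mp hx : (Algebra.TensorProduct.includeRight : A →ₐ[R] K ⊗[R] A) a ∈ J)
    haveI : Module.IsTorsionFree R ((K ⊗[R] A) ⧸ J) := Module.IsTorsionFree.trans_faithfulSMul R K _
    haveI : Module.IsTorsionFree R (A ⧸ J') :=
      Function.Injective.moduleIsTorsionFree _ hι (map_smul ι.toLinearMap)
    exact IsDedekindDomain.flat_iff_torsion_eq_bot.mpr (Submodule.isTorsionFree_iff_torsion_eq_bot.mp inferInstance)

end Groth.Agent.S13407
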