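import Groth.Statements.S13414
import Groth.Agent.HLocCdLib.Main
import Groth.Agent.S3242
import Groth.Agent.S3246
import Groth.Agent.CdFieldLib.Basic

set_option autoImplicit false
universe u
open CategoryTheory CategoryTheory.Limits AlgebraicGeometry
open HLoc2

namespace Groth.Agent.S13414

open CategoryTheory CategoryTheory.Limits AlgebraicGeometry

set_option linter.style.haveILetI false

/-- Let `k` be an algebraically closed field of characteristic zero, `R₀` an excellent normal henselian
local `k`-domain of Krull dimension two with residue field `k`, `K` a finite extension of its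
fraction field, `O_K` the integral closure of `R₀` in `K`, and `X` the open subscheme of `Spec O_K`
of non-closed points; let `U` be a nonempty open subscheme of `X`. Assume, as holds in this
situation, that `K` has etale cohomological dimension at most 2 and that the residue field of every
closed point of `U` has cohomological dimension at most 1. (The published text asserts both facts
for this situation without proof; this row carries them as hypotheses.) Then `H^r(U, G_m) = 0` for
every `r ≥ 4`. (The published item also contains a four-term exact sequence involving the Brauer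
groups of `K` and of its completions, which is not restated here.) -/
theorem result
    (k : Type u) [Field k] [IsAlgClosed k] [CharZero k]
    (R₀ : Type u) [CommRing R₀] [IsDomain R₀] [HenselianLocalRing R₀] [Algebra k R₀]
    [IsIntegrallyClosed R₀] (hexc : EGA4.IsExcellent R₀) (hdim : ringKrullDim R₀ = 2)
    (hres : Function.Surjective (fun a : k => IsLocalRing.residue R₀ (algebraMap k R₀ a)))
    (K : Type u) [Field K] [Algebra R₀ K] [Algebra (FractionRing R₀) K]
    [IsScalarTower R₀ (FractionRing R₀) K] [FiniteDimensional (FractionRing R₀) K]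
    (U : (Spec (CommRingCat.of ↥(integralClosure R₀ K))).Opens)
    (hU : ∀ x : ↥(Spec (CommRingCat.of ↥(integralClosure R₀ K))), x ∈ U →
      ¬ IsClosed ({x} : Set ↥(Spec (CommRingCat.of ↥(integralClosure R₀ K)))))
    (hne : Nonempty ↥(↑U : Scheme.{u}))
    (hcdK : EtCoh.CohDimLE (Spec (CommRingCat.of K)) 2)
    (hcdv : ∀ x : ↥(↑U : Scheme.{u}), IsClosed ({x} : Set ↥(↑U : Scheme.{u})) →
      EtCoh.CohDimLE (Spec ((↑U : Scheme.{u}).residueField x)) 1)
    (r : ℕ) (hr : 4 ≤ r) :
    Subsingleton (EtCoh.H (↑U : Scheme.{u}) (EtCoh.Gm (↑U : Scheme.{u})) r) := by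
  obtain ⟨_, _, hcd, hdimU, hℓ⟩ := HLocCdLib.facts k R₀ hexc hdim K U hU hne hcdK hcdv
  have htors := S3242.result (↑U : Scheme.{u}) hdimU r (by omega)
  have hp : ∀ ℓ : ℕ, ℓ.Prime → ∀ ξ : EtCoh.H (↑U : Scheme.{u}) (EtCoh.Gm (↑U : Scheme.{u})) r, ℓ • ξ = 0 → ξ = 0 := by
    intro ℓ hℓp ξ hξ
    refine (S3246.result (↑U : Scheme.{u}) ℓ hℓp 3 ((CdFieldLib.cdLE_singleton_iff hℓp).1 fun G hG =>
      hcd G (RpushTorsLib.isLTorsion_univ (RpushTorsLib.isTorsion_of_isLTorsion hG)))).2 (fun y => ?_) r hr ξ
      ⟨1, by rwa [pow_one]⟩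
    have hu := (hℓ ℓ hℓp y).map ((↑U : Scheme.{u}).residue y).hom
    rw [map_natCast] at hu
    exact hu.ne_zero
  refine subsingleton_of_forall_eq 0 fun x => ?_
  obtain ⟨N, hN, hNx⟩ := isOfFinAddOrder_iff_nsmul_eq_zero.1 (htors x)
  induction N using Nat.strong_induction_on generalizing x with
  | _ N ih =>
    by_cases h1 : N = 1
    · rwa [h1, one_nsmul] at hNx
    · obtain ⟨p, hpp, M, rfl⟩ := Nat.exists_prime_and_dvd h1
      have hM : 0 < M := Nat.pos_of_mul_pos_left hN
      exact ih M (lt_mul_of_one_lt_left hM hpp.one_lt) x hM (hp p hpp _ (by rwa [smul_smul]))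

end Groth.Agent.S13414
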