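import Groth.Statements.S13416
import Groth.Agent.S0137
import Groth.Agent.S0627
import Groth.Agent.S0101
import Groth.Agent.EtPtsLib.UnitMono
import Groth.Agent.EtPtsLib.Immersion
import Groth.Agent.EtPtsLib.Support
import Groth.Agent.EtPtsLib.GermEq
import Groth.Agent.FLCLib.Strata
import Groth.Agent.FLCLib.Gen

set_option autoImplicit false
universe u
open CategoryTheory CategoryTheory.Limits AlgebraicGeometry
open HLoc2

namespace Groth.Agent.S13416

open CategoryTheory CategoryTheory.Limits AlgebraicGeometry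

set_option linter.style.haveILetI false
set_option backward.isDefEq.respectTransparency false
set_option backward.isDefEq.respectTransparency.types false
set_option maxHeartbeats 1000000

open TopologicalSpace

attribute [local instance] Groth.Agent.S0101.result

/-- The units of two jointly surjective morphisms. -/
theorem mono_lift_units₂ {X Z₁ Z₂ : Scheme.{u}} (f₁ : Z₁ ⟶ X) (f₂ : Z₂ ⟶ X)
    (h : ∀ x : X, x ∈ Set.range f₁ ∨ x ∈ Set.range f₂) (F : EtCoh.Ab X) :
    Mono (biprod.lift ((EtCoh.pullPushAdj f₁).unit.app F) ((EtCoh.pullPushAdj f₂).unit.app F)) := by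
  have pick : ∀ x : X, ∃ (Ω : Type u) (_ : Field Ω) (_ : IsSepClosed Ω) (ξ : Spec (CommRingCat.of Ω) ⟶ X),
      ξ default = x ∧ ∀ a b, (EtCoh.stalk ξ).map (biprod.lift ((EtCoh.pullPushAdj f₁).unit.app F)
        ((EtCoh.pullPushAdj f₂).unit.app F)) a = (EtCoh.stalk ξ).map (biprod.lift ((EtCoh.pullPushAdj f₁).unit.app F)
        ((EtCoh.pullPushAdj f₂).unit.app F)) b → a = b := by
    intro x
    rcases h x with ⟨z, hz⟩ | ⟨z, hz⟩
    · refine ⟨SeparableClosure (Z₁.residueField z), inferInstance, inferInstance, EtPtsLib.geomPt z ≫ f₁,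
        by rw [Scheme.Hom.comp_apply, EtPtsLib.geomPt_default, hz], fun a b hab => ?_⟩
      refine EtPtsLib.stalk_unit_injective f₁ (EtPtsLib.geomPt z) F ?_
      have h' := congrArg ((EtCoh.stalk (EtPtsLib.geomPt z ≫ f₁)).map biprod.fst) hab
      change ((EtCoh.stalk _).map _ ≫ (EtCoh.stalk _).map _) a = ((EtCoh.stalk _).map _ ≫ (EtCoh.stalk _).map _) b at h'
      rw [← Functor.map_comp, biprod.lift_fst] at h'
      exact h'
    · refine ⟨SeparableClosure (Z₂.residueField z), inferInstance, inferInstance, EtPtsLib.geomPt z ≫ f₂,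
        by rw [Scheme.Hom.comp_apply, EtPtsLib.geomPt_default, hz], fun a b hab => ?_⟩
      refine EtPtsLib.stalk_unit_injective f₂ (EtPtsLib.geomPt z) F ?_
      have h' := congrArg ((EtCoh.stalk (EtPtsLib.geomPt z ≫ f₂)).map biprod.snd) hab
      change ((EtCoh.stalk _).map _ ≫ (EtCoh.stalk _).map _) a = ((EtCoh.stalk _).map _ ≫ (EtCoh.stalk _).map _) b at h'
      rw [← Functor.map_comp, biprod.lift_snd] at h'
      exact h'
  choose K iK sK ξ hξ hinj using pick
  haveI : Sheaf.IsLocallyInjective (biprod.lift ((EtCoh.pullPushAdj f₁).unit.app F) ((EtCoh.pullPushAdj f₂).unit.app F)) :=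
    SitePts.isLocallyInjective (EtPtsLib.detects_of_points K ξ hξ) (biprod.lift ((EtCoh.pullPushAdj f₁).unit.app F)
      ((EtCoh.pullPushAdj f₂).unit.app F)).hom fun x a b hab => hinj x a b hab
  exact Sheaf.mono_of_isLocallyInjective _

theorem supp_push_closed {T Z : Scheme.{u}} (i : Z ⟶ T) [IsClosedImmersion i] (G : EtCoh.Ab Z) :
    EtPBC.supp ((EtCoh.push i).obj G) ⊆ Set.range i := by
  rintro x ⟨Ω, _, _, ξ, hξ, hne⟩
  have hx : ξ default = x := Set.mem_singleton_iff.1 (hξ ▸ Set.mem_range_self _)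
  subst hx
  by_contra hn
  exact hne (EtPtsLib.isZero_stalk_push_ab i ξ i.isClosedEmbedding.isClosed_range hn _)

theorem smul_eq_zero_of_killedBy_const {X : Scheme.{u}} (hX : Nonempty X) (M : Type) [AddCommGroup M] (m : ℕ)
    (h : EtCoh.KilledBy m (EtCoh.const X M)) (x : M) : m • x = 0 := by
  obtain ⟨p⟩ := hX
  let U : X.Etale := Scheme.Etale.mk (𝟙 X)
  let p' : U.left := p
  obtain ⟨l, -⟩ := EtPtsLib.exists_lift_geomPt (U := U) p'
  let A : AddCommGrpCat.{u + 1} := AddCommGrpCat.of (ULift.{u + 1} M)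
  have hb := (EtPtsLib.germ_cst_bijective (EtPtsLib.geomPt (U.hom p')) A l).1
  have h0 : EtPtsLib.cst A U (m • ULift.up x) = EtPtsLib.cst A U 0 := by
    rw [map_nsmul, map_zero]
    exact h U _
  exact congrArg ULift.down (hb (congrArg (EtPtsLib.germ _ _ l) h0))

theorem finite_of_height_le {C : Type u} [CommRing C] [IsDomain C] [IsNoetherianRing C]
    (hd : ringKrullDim C ≤ 2) (W : Set (PrimeSpectrum C)) (hW : IsClosed W) (h0 : ⊥ ∉ W) :
    {p ∈ W | ¬ p.asIdeal.IsMaximal}.Finite := by
  obtain ⟨I, rfl⟩ := (PrimeSpectrum.isClosed_iff_zeroLocus_ideal _).1 hW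
  refine ((Ideal.finite_minimalPrimes_of_isNoetherianRing C I).preimage
    (fun a _ b _ hab => PrimeSpectrum.ext hab)).subset ?_
  rintro p ⟨hp, hmax⟩
  refine ⟨⟨p.isPrime, (PrimeSpectrum.mem_zeroLocus _ _).1 hp⟩, fun q hq hqp => ?_⟩
  by_contra hne
  let Q : PrimeSpectrum C := ⟨q, hq.1⟩
  have h1 : (⊥ : PrimeSpectrum C) < Q := bot_lt_iff_ne_bot.2 fun e => h0 (e ▸ (PrimeSpectrum.mem_zeroLocus _ _).2 hq.2)
  have h2 : Q < p := (show Q ≤ p from hqp).lt_of_ne fun e => hne (e ▸ le_rfl)
  obtain ⟨𝔪, h𝔪, hle⟩ := Ideal.exists_le_maximal _ p.isPrime.ne_top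
  let M : PrimeSpectrum C := ⟨𝔪, h𝔪.isPrime⟩
  have h3 : p < M := (show p ≤ M from hle).lt_of_ne fun e => hmax (by rw [e]; exact h𝔪)
  let s : LTSeries (PrimeSpectrum C) :=
    ((((RelSeries.singleton _ (⊥ : PrimeSpectrum C)).snoc Q h1).snoc p (by simpa using h2)).snoc M (by simpa using h3))
  have h4 : ((3 : ℕ) : WithBot ℕ∞) ≤ 2 := le_trans (le_of_eq (by rfl)) ((Order.LTSeries.length_le_krullDim s).trans hd)
  exact absurd h4 (by decide)

theorem ringKrullDim_integralClosure_le (R L : Type u) [CommRing R] [CommRing L] [Algebra R L] :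
    ringKrullDim ↥(integralClosure R L) ≤ ringKrullDim R := by
  refine Order.krullDim_le_of_strictMono (PrimeSpectrum.comap (algebraMap R ↥(integralClosure R L))) fun P Q h => ?_
  haveI := P.isPrime
  exact Ideal.IsIntegral.comap_lt_comap (I := P.asIdeal) (J := Q.asIdeal) h
/-- Let `k` be an algebraically closed field of characteristic zero, `R₀` an excellent normal henselian
local `k`-domain of Krull dimension two with residue field `k`, `K` a finite extension of its
fraction field, `O_K` the integral closure of `R₀` in `K`, and `X` the open subscheme of `Spec O_K`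
of non-closed points; let `U` be a nonempty open subscheme of `X`. Assume, as holds in this
situation, that `K` has etale cohomological dimension at most 2 and that the residue field of every
closed point of `U` has cohomological dimension at most 1. (The published text asserts both facts
for this situation without proof; this row carries them as hypotheses.) Let `F` be a constructible
abelian etale sheaf on `U` with `mF = 0` for some `m ≥ 1`, `V` a nonempty open of `U`, and `π : U_n
→ U` a finite surjective morphism from an integral scheme with integrally closed local rings (for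
instance the normalisation of `U` in a finite extension of `K`, which is the morphism the published
statement uses) that is etale over `V` and such that the pullback of `F` to `π⁻¹(V)` is a constant
sheaf with finite value group. Then there exist a finite abelian group `M` with `mM = 0`, a
constructible abelian etale sheaf `F_f` on `U` with finite support, and a monomorphism `F →
π_*(M_{U_n}) ⊕ F_f` of abelian etale sheaves on `U`. -/
theorem result
    (k : Type u) [Field k] [IsAlgClosed k] [CharZero k]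
    (R₀ : Type u) [CommRing R₀] [IsDomain R₀] [HenselianLocalRing R₀] [Algebra k R₀]
    [IsIntegrallyClosed R₀] (hexc : EGA4.IsExcellent R₀) (hdim : ringKrullDim R₀ = 2)
    (hres : Function.Surjective (fun a : k => IsLocalRing.residue R₀ (algebraMap k R₀ a)))
    (K : Type u) [Field K] [Algebra R₀ K] [Algebra (FractionRing R₀) K]
    [IsScalarTower R₀ (FractionRing R₀) K] [FiniteDimensional (FractionRing R₀) K]
    (U : (Spec (CommRingCat.of ↥(integralClosure R₀ K))).Opens)
    (hU : ∀ x : ↥(Spec (CommRingCat.of ↥(integralClosure R₀ K))), x ∈ U →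
      ¬ IsClosed ({x} : Set ↥(Spec (CommRingCat.of ↥(integralClosure R₀ K)))))
    (hne : Nonempty ↥(↑U : Scheme.{u}))
    (hcdK : EtCoh.CohDimLE (Spec (CommRingCat.of K)) 2)
    (hcdv : ∀ x : ↥(↑U : Scheme.{u}), IsClosed ({x} : Set ↥(↑U : Scheme.{u})) →
      EtCoh.CohDimLE (Spec ((↑U : Scheme.{u}).residueField x)) 1)
    (F : EtCoh.Ab (↑U : Scheme.{u})) (hF : EtPBC.IsConstructible F) (m : ℕ) (hm : 1 ≤ m)
    (hmF : EtCoh.KilledBy m F) (V : (↑U : Scheme.{u}).Opens) (hV : Nonempty ↥(↑V : Scheme.{u}))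
    (Un : Scheme.{u}) [IsIntegral Un] (hnorm : ∀ y : ↥Un, IsIntegrallyClosed ↑(Un.presheaf.stalk y))
    (π : Un ⟶ (↑U : Scheme.{u})) [IsFinite π] [Surjective π] [Etale (π ∣_ V)] (M₀ : Type) [AddCommGroup M₀] [Finite M₀]
    (hconst : Nonempty ((EtCoh.pull (π ⁻¹ᵁ V).ι).obj ((EtCoh.pull π).obj F) ≅
      EtCoh.const (↑(π ⁻¹ᵁ V) : Scheme.{u}) M₀)) :
    ∃ (M : Type) (_ : AddCommGroup M) (_ : Finite M), (∀ x : M, m • x = 0) ∧
      ∃ (Ff : EtCoh.Ab (↑U : Scheme.{u})), EtPBC.IsConstructible Ff ∧ (EtPBC.supp Ff).Finite ∧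
        ∃ ι : F ⟶ (EtCoh.push π).obj (EtCoh.const Un M) ⊞ Ff, Mono ι := by
  classical
  haveI : IsNoetherianRing R₀ := hexc.1
  haveI : CharZero R₀ := charZero_of_injective_algebraMap (algebraMap k R₀).injective
  haveI : CharZero (FractionRing R₀) := charZero_of_injective_algebraMap (IsFractionRing.injective R₀ (FractionRing R₀))
  haveI : Module.Finite R₀ ↥(integralClosure R₀ K) :=
    IsIntegralClosure.finite R₀ (FractionRing R₀) K ↥(integralClosure R₀ K)
  haveI : IsNoetherianRing ↥(integralClosure R₀ K) := IsNoetherianRing.of_finite R₀ _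
  haveI : IsNoetherian (↑U : Scheme.{u}) := by
    haveI : IsLocallyNoetherian (↑U : Scheme.{u}) := isLocallyNoetherian_of_isOpenImmersion U.ι
    haveI : CompactSpace ↥(↑U : Scheme.{u}) := isCompact_iff_compactSpace.1 (NoetherianSpace.isCompact (α := ↥(Spec (CommRingCat.of ↥(integralClosure R₀ K)))) (U : Set _))
    exact {}
  -- the finite complement
  let W : Set (PrimeSpectrum ↥(integralClosure R₀ K)) := U.ι '' (V : Set ↥(↑U : Scheme.{u}))
  have hWo : IsOpen W := U.ι.isOpenEmbedding.isOpenMap _ V.isOpen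
  have hgen : (⊥ : PrimeSpectrum ↥(integralClosure R₀ K)) ∈ W := by
    obtain ⟨v⟩ := hV
    exact ((PrimeSpectrum.le_iff_specializes _ _).1 bot_le).mem_open hWo ⟨v.1, v.2, rfl⟩
  have hfin : ((V : Set ↥(↑U : Scheme.{u}))ᶜ).Finite := by
    have hd : ringKrullDim ↥(integralClosure R₀ K) ≤ 2 := hdim ▸ ringKrullDim_integralClosure_le R₀ K
    refine ((finite_of_height_le hd Wᶜ hWo.isClosed_compl fun h => h hgen).preimage
      U.ι.isOpenEmbedding.injective.injOn).subset fun x hx => ⟨?_, fun hmax => ?_⟩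
    · rintro ⟨y, hy, hyx⟩
      exact hx (U.ι.isOpenEmbedding.injective hyx ▸ hy)
    · exact hU _ x.2 ((PrimeSpectrum.isClosed_singleton_iff_isMaximal _).2 hmax)
  let I := Scheme.IdealSheafData.vanishingIdeal (⟨(V : Set ↥(↑U : Scheme.{u}))ᶜ, V.isOpen.isClosed_compl⟩ : Closeds ↥(↑U : Scheme.{u}))
  let i := I.subschemeι
  have hi : Set.range i = (V : Set ↥(↑U : Scheme.{u}))ᶜ := by
    rw [Scheme.IdealSheafData.range_subschemeι, Scheme.IdealSheafData.coe_support_vanishingIdeal]
    rfl
  haveI : LocallyOfFinitePresentation i := inferInstance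
  let j := (π ⁻¹ᵁ V).ι
  have hne' : Nonempty ↥(↑(π ⁻¹ᵁ V) : Scheme.{u}) := by
    obtain ⟨v⟩ := hV
    obtain ⟨y, hy⟩ := π.surjective v.1
    exact ⟨⟨y, show π y ∈ V from hy ▸ v.2⟩⟩
  obtain ⟨e⟩ := hconst
  haveI : (EtCoh.pull π).Additive := (EtCoh.pullPushAdj π).left_adjoint_additive
  haveI : (EtCoh.pull j).Additive := (EtCoh.pullPushAdj j).left_adjoint_additive
  have hM : ∀ x : M₀, m • x = 0 := by
    refine smul_eq_zero_of_killedBy_const hne' M₀ m ((FLCLib.killedBy_iff _ _).2 ?_)
    have h1 := (FLCLib.killedBy_iff _ _).1 hmF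
    have h2 := congrArg (fun f => e.inv ≫ (EtCoh.pull j).map ((EtCoh.pull π).map f) ≫ e.hom) h1
    simpa [Functor.map_nsmul, Preadditive.comp_nsmul, Preadditive.nsmul_comp, j] using h2
  haveI : IsIso ((EtCoh.pullPushAdj j).unit.app (EtCoh.const Un M₀)) := S0627.result Un hnorm (π ⁻¹ᵁ V) (by
    obtain ⟨y⟩ := hne'
    exact ⟨y.1, y.2⟩) M₀
  let E : (EtCoh.push (j ≫ π)).obj ((EtCoh.pull (j ≫ π)).obj F) ≅ (EtCoh.push π).obj (EtCoh.const Un M₀) :=
    (EtCoh.push (j ≫ π)).mapIso ((EtCore.pullComp j π).app F ≪≫ e ≪≫ (EtCore.pullConst j M₀).symm) ≪≫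
      ((EtCoh.pushComp π j).app _).symm ≪≫
      (EtCoh.push π).mapIso (asIso ((EtCoh.pullPushAdj j).unit.app (EtCoh.const Un M₀))).symm
  have hcov : ∀ x, x ∈ Set.range (j ≫ π) ∨ x ∈ Set.range i := fun x => by
    by_cases hx : x ∈ V
    · obtain ⟨y, hy⟩ := π.surjective x
      refine Or.inl ⟨⟨y, show π y ∈ V from hy ▸ hx⟩, ?_⟩
      rw [Scheme.Hom.comp_apply]
      exact hy
    · exact Or.inr (hi ▸ hx)
  haveI := mono_lift_units₂ (j ≫ π) i hcov F
  refine ⟨M₀, inferInstance, inferInstance, hM, (EtCoh.push i).obj ((EtCoh.pull i).obj F),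
    S0137.result i _ (FLCLib.isConstructible_pull i hF), hfin.subset ((supp_push_closed i _).trans hi.subset),
    biprod.lift ((EtCoh.pullPushAdj (j ≫ π)).unit.app F) ((EtCoh.pullPushAdj i).unit.app F) ≫
      biprod.map E.hom (𝟙 _), ?_⟩
  haveI : IsIso (biprod.map E.hom (𝟙 ((EtCoh.push i).obj ((EtCoh.pull i).obj F)))) :=
    (biprod.mapIso E (Iso.refl _)).isIso_hom
  exact mono_comp _ _

end Groth.Agent.S13416
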