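import Groth.Statements.S1964
import Groth.Agent.WLocalLib.Olivier
import Groth.Agent.Hensel.Local
import Groth.Agent.Hensel.Idempotent
-- import your own Groth.Agent.* helpers here

set_option autoImplicit false
universe u
open EtAlg

namespace Groth.Agent.S1964

/-- A domain B integral over a henselian local ring A is itself henselian local, and the structure map A
-> B is local; if the residue field of A is separably closed, so is that of B, and the residue field
extension is purely inseparable. -/
theorem result (A B : Type u) [CommRing A] [HenselianLocalRing A] [CommRing B]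
    [IsDomain B] [Algebra A B] [Algebra.IsIntegral A B] :
    ∃ _ : HenselianLocalRing B, IsLocalHom (algebraMap A B) ∧
      (IsSepClosed (IsLocalRing.ResidueField A) →
        IsSepClosed (IsLocalRing.ResidueField B) ∧
        ∀ _ : IsLocalHom (algebraMap A B),
          letI := (IsLocalRing.ResidueField.map (algebraMap A B)).toAlgebra
          IsPurelyInseparable (IsLocalRing.ResidueField A) (IsLocalRing.ResidueField B)) := by
  haveI : IsLocalRing B := WLocalLib.isLocalRing_of_isIntegral A B
  have hcomap : Ideal.comap (algebraMap A B) (IsLocalRing.maximalIdeal B) = IsLocalRing.maximalIdeal A :=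
    IsLocalRing.eq_maximalIdeal (Ideal.isMaximal_comap_of_isIntegral_of_isMaximal _)
  haveI hlh : IsLocalHom (algebraMap A B) :=
    ((IsLocalRing.local_hom_TFAE (algebraMap A B)).out 4 0).1 hcomap
  haveI : HenselianLocalRing B := by
    haveI : HenselianRing A (IsLocalRing.maximalIdeal A) := Hensel.henselianRing_maximalIdeal_iff.2 inferInstance
    haveI := Hensel.of_isIntegral (I := IsLocalRing.maximalIdeal A) B
    refine Hensel.henselianRing_maximalIdeal_iff.1 ((Hensel.iff_of_radical_eq ?_).1 this)
    rw [(IsLocalRing.maximalIdeal.isMaximal B).isPrime.isRadical.radical]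
    refine le_antisymm ((IsLocalRing.maximalIdeal.isMaximal B).isPrime.radical_le_iff.2
      (Ideal.map_le_iff_le_comap.2 hcomap.ge)) ?_
    rw [Ideal.radical_eq_sInf]
    refine le_sInf fun P hP => ?_
    obtain ⟨hle, hP⟩ : (IsLocalRing.maximalIdeal A).map (algebraMap A B) ≤ P ∧ P.IsPrime := hP
    haveI := hP
    have h1 : Ideal.comap (algebraMap A B) P = IsLocalRing.maximalIdeal A :=
      ((IsLocalRing.maximalIdeal.isMaximal A).eq_of_le (Ideal.IsPrime.comap _).ne_top
        (Ideal.map_le_iff_le_comap.1 hle)).symm
    exact (IsLocalRing.eq_maximalIdeal (Ideal.isMaximal_of_isIntegral_of_isMaximal_comap (R := A) P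
      (by rw [h1]; exact IsLocalRing.maximalIdeal.isMaximal A))).ge
  refine ⟨inferInstance, hlh, fun hs => ?_⟩
  haveI := hs
  haveI : Algebra.IsAlgebraic (IsLocalRing.ResidueField A) (IsLocalRing.ResidueField B) := by
    haveI : Algebra.IsIntegral (IsLocalRing.ResidueField A) (IsLocalRing.ResidueField B) := ⟨fun x => by
      obtain ⟨t, rfl⟩ := IsLocalRing.residue_surjective x
      exact ((Algebra.IsIntegral.isIntegral (R := A) t).map
        (IsScalarTower.toAlgHom A B (IsLocalRing.ResidueField B))).tower_top⟩
    exact Algebra.IsIntegral.isAlgebraic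
  refine ⟨Algebra.IsAlgebraic.isSepClosed (F := IsLocalRing.ResidueField A), fun _ => ?_⟩
  convert (inferInstance : IsPurelyInseparable (IsLocalRing.ResidueField A) (IsLocalRing.ResidueField B))
  refine Algebra.algebra_ext _ _ fun x => ?_
  obtain ⟨a, rfl⟩ := IsLocalRing.residue_surjective x
  rfl

end Groth.Agent.S1964
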