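import Groth.Statements.S13417
import Groth.Agent.S1964
import Groth.Agent.Unibranch.Normal
import Groth.Agent.GrSegreLib.Dim

set_option autoImplicit false
universe u
open scoped TensorProduct
open HLoc2

namespace Groth.Agent.S13417

set_option linter.style.haveILetI false
set_option backward.isDefEq.respectTransparency false

/-- Integral elements with denominators and coefficients in an integrally closed subring. -/
theorem mem_range_of_isIntegral {A B : Type u} [CommRing A] [IsDomain A] [IsIntegrallyClosed A] [CommRing B]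
    [IsDomain B] (f : A →+* B) (hf : Function.Injective f) {a : B} {b : nonZeroDivisors B}
    (ha : ∃ a', f a' = a) (hb : ∃ b', f b' = b) (q : Polynomial B) (hqm : q.Monic)
    (hq : ∀ i < q.natDegree + 1, ∃ c, f c = q.coeff i)
    (hqx : q.eval₂ (algebraMap B (FractionRing B)) (IsLocalization.mk' (FractionRing B) a b) = 0) :
    ∃ y, algebraMap B (FractionRing B) y = IsLocalization.mk' (FractionRing B) a b := by
  obtain ⟨a', rfl⟩ := ha
  obtain ⟨b', hb'⟩ := hb
  have hb0 : b' ≠ 0 := fun h => nonZeroDivisors.ne_zero b.2 (by rw [← hb', h, map_zero])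
  obtain ⟨q', hq', -, hq'm⟩ := Polynomial.lifts_and_degree_eq_and_monic
    ((Polynomial.lifts_iff_coeff_lifts _).2 fun i => by
      by_cases hi : i < q.natDegree + 1
      · exact hq i hi
      · exact ⟨0, by rw [map_zero, Polynomial.coeff_eq_zero_of_natDegree_lt (by omega)]⟩) hqm
  let g : FractionRing A →+* FractionRing B :=
    IsFractionRing.lift (g := (algebraMap B (FractionRing B)).comp f) ((IsFractionRing.injective B _).comp hf)
  have hg : ∀ u, g (algebraMap A _ u) = algebraMap B _ (f u) := fun u => IsFractionRing.lift_algebraMap _ u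
  let x' := IsLocalization.mk' (FractionRing A) a' ⟨b', mem_nonZeroDivisors_iff_ne_zero.2 hb0⟩
  have hx' : g x' = IsLocalization.mk' (FractionRing B) (f a') b := by
    rw [IsLocalization.eq_mk'_iff_mul_eq, ← hb', ← hg, ← map_mul, ← hg]
    congr 1
    exact IsLocalization.mk'_spec (FractionRing A) a' ⟨b', mem_nonZeroDivisors_iff_ne_zero.2 hb0⟩
  have hgc : g.comp (algebraMap A (FractionRing A)) = (algebraMap B (FractionRing B)).comp f := RingHom.ext hg
  have hint : IsIntegral A x' := ⟨q', hq'm, g.injective (by
    rw [Polynomial.hom_eval₂, hgc, ← Polynomial.eval₂_map, hq', map_zero, hx', hqx])⟩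
  obtain ⟨y, hy⟩ := IsIntegrallyClosed.algebraMap_eq_of_integral hint
  exact ⟨f y, by rw [← hx', ← hy, hg]⟩

set_option maxHeartbeats 400000 in
/-- A normal domain stays normal after a separable algebraic extension of a ground field, if still a domain. -/
theorem isIntegrallyClosed_tensor (k R L : Type u) [Field k] [CommRing R] [IsDomain R] [IsIntegrallyClosed R]
    [Algebra k R] [Field L] [Algebra k L] [Algebra.IsSeparable k L] [IsDomain (R ⊗[k] L)] :
    IsIntegrallyClosed (R ⊗[k] L) := by
  classical
  let φ : ∀ E : IntermediateField k L, R ⊗[k] E →ₐ[R] R ⊗[k] L := fun E =>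
    Algebra.TensorProduct.map (AlgHom.id R R) E.val
  have hinj : ∀ E : IntermediateField k L, Function.Injective (φ E) := fun E =>
    Module.Flat.lTensor_preserves_injective_linearMap (M := R) E.val.toLinearMap Subtype.val_injective
  have hic : ∀ E : IntermediateField k L, FiniteDimensional k E → IsIntegrallyClosed (R ⊗[k] E) := fun E _ => by
    haveI : Algebra.Etale k E := ⟨Algebra.FormallyEtale.of_isSeparable k E, Algebra.FinitePresentation.of_finiteType.1 inferInstance⟩
    haveI : IsDomain (R ⊗[k] E) := (hinj E).isDomain (φ E).toRingHom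
    exact IsIntegrallyClosed.of_localization_maximal fun M _ hM =>
      (Unibranch.isDomain_isIntegrallyClosed_of_etale (A := R) M).2
  have hmem : ∀ x : R ⊗[k] L, ∃ s : Finset L, ∀ E : IntermediateField k L, ↑s ⊆ (E : Set L) → ∃ y, φ E y = x := by
    intro x
    induction x with
    | zero => exact ⟨∅, fun E _ => ⟨0, map_zero _⟩⟩
    | add a b ha hb =>
      obtain ⟨s, hs⟩ := ha
      obtain ⟨t, ht⟩ := hb
      refine ⟨s ∪ t, fun E hE => ?_⟩
      rw [Finset.coe_union, Set.union_subset_iff] at hE
      obtain ⟨u, rfl⟩ := hs E hE.1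
      obtain ⟨v, rfl⟩ := ht E hE.2
      exact ⟨u + v, map_add _ _ _⟩
    | tmul r l =>
      exact ⟨{l}, fun E hE => ⟨r ⊗ₜ ⟨l, hE (by simp)⟩, by simp [φ]⟩⟩
  choose s hs using hmem
  rw [isIntegrallyClosed_iff (FractionRing (R ⊗[k] L))]
  intro x ⟨q, hqm, hqx⟩
  obtain ⟨a, b, rfl⟩ := IsLocalization.exists_mk'_eq (nonZeroDivisors (R ⊗[k] L)) x
  let S : Finset L := s a ∪ s b ∪ (Finset.range (q.natDegree + 1)).biUnion fun i => s (q.coeff i)
  let E := IntermediateField.adjoin k (S : Set L)
  haveI : FiniteDimensional k E :=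
    IntermediateField.finiteDimensional_adjoin fun z _ => (Algebra.IsSeparable.isSeparable k z).isIntegral
  haveI := hic E inferInstance
  haveI : IsDomain (R ⊗[k] E) := (hinj E).isDomain (φ E).toRingHom
  have hS : ↑S ⊆ (E : Set L) := IntermediateField.subset_adjoin k _
  simp only [S, Finset.coe_union, Set.union_subset_iff] at hS
  refine mem_range_of_isIntegral (A := R ⊗[k] E) (B := R ⊗[k] L) ((φ E).toRingHom) (hinj E) (hs a E hS.1.1) (hs b E hS.1.2) q hqm (fun i hi => ?_) hqx
  exact hs _ E ((Finset.coe_subset.2 (Finset.subset_biUnion_of_mem (fun i => s (q.coeff i))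
    (Finset.mem_range.2 hi))).trans hS.2)

/-- Let `k` be a field with separable closure `kˢ` and `R₀` a commutative local `k`-algebra which is
excellent, henselian, integrally closed, of Krull dimension two, with residue field `k`, and
geometrically integral (`R₀ ⊗_k kˢ` is a domain). Then `R₀ ⊗_k kˢ` is a henselian local ring which
is integrally closed, of Krull dimension two, and whose residue field is `kˢ` (the composite `kˢ →
R₀ ⊗_k kˢ →` residue field is surjective). (The published statement also asserts that `R₀ ⊗_k kˢ` is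
excellent; that assertion is not restated here.) -/
theorem result
    (k : Type u) [Field k] (R₀ : Type u) [CommRing R₀] [IsDomain R₀] [HenselianLocalRing R₀] [Algebra k R₀]
    [IsIntegrallyClosed R₀] (hexc : EGA4.IsExcellent R₀) (hdim : ringKrullDim R₀ = 2)
    (hres : Function.Surjective (fun a : k => IsLocalRing.residue R₀ (algebraMap k R₀ a)))
    [IsDomain (R₀ ⊗[k] SeparableClosure k)] :
    ∃ _ : HenselianLocalRing (R₀ ⊗[k] SeparableClosure k),
      IsIntegrallyClosed (R₀ ⊗[k] SeparableClosure k) ∧
      ringKrullDim (R₀ ⊗[k] SeparableClosure k) = 2 ∧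
      Function.Surjective (fun a : SeparableClosure k =>
        IsLocalRing.residue (R₀ ⊗[k] SeparableClosure k)
          ((Algebra.TensorProduct.includeRight : SeparableClosure k →ₐ[k] R₀ ⊗[k] SeparableClosure k) a)) := by
  haveI : Algebra.IsIntegral R₀ (R₀ ⊗[k] SeparableClosure k) := inferInstance
  obtain ⟨hh, hloc, -⟩ := S1964.result R₀ (R₀ ⊗[k] SeparableClosure k)
  refine ⟨hh, isIntegrallyClosed_tensor k R₀ (SeparableClosure k), ?_, fun y => ?_⟩
  · rw [← hdim]
    exact (GrSegreLib.ringKrullDim_eq_of_integral_injective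
      (Algebra.TensorProduct.includeLeft : R₀ →ₐ[R₀] R₀ ⊗[k] SeparableClosure k).toRingHom
      (Algebra.TensorProduct.includeLeft_injective (S := R₀) (algebraMap k (SeparableClosure k)).injective)
      (algebraMap_isIntegral_iff.2 inferInstance)).symm
  · obtain ⟨x, rfl⟩ := IsLocalRing.residue_surjective y
    induction x with
    | zero => exact ⟨0, by simp⟩
    | add a b ha hb =>
      obtain ⟨u, hu⟩ := ha
      obtain ⟨v, hv⟩ := hb
      dsimp only at hu hv
      refine ⟨u + v, ?_⟩
      dsimp only
      rw [map_add, map_add, hu, hv, map_add]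
    | tmul r l =>
      obtain ⟨c, hc⟩ := hres (IsLocalRing.residue R₀ r)
      refine ⟨c • l, ?_⟩
      dsimp only
      have hm : r - algebraMap k R₀ c ∈ IsLocalRing.maximalIdeal R₀ := Ideal.Quotient.eq.1 hc.symm
      refine (Ideal.Quotient.eq.2 ?_).symm
      have e : r ⊗ₜ[k] l - (Algebra.TensorProduct.includeRight : SeparableClosure k →ₐ[k] R₀ ⊗[k] SeparableClosure k)
          (c • l) = ((r - algebraMap k R₀ c) ⊗ₜ[k] (1 : SeparableClosure k)) * ((1 : R₀) ⊗ₜ[k] l) := by
        rw [TensorProduct.sub_tmul, sub_mul, Algebra.TensorProduct.tmul_mul_tmul, Algebra.TensorProduct.tmul_mul_tmul, one_mul, mul_one, mul_one,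
          Algebra.TensorProduct.includeRight_apply, Algebra.algebraMap_eq_smul_one, TensorProduct.smul_tmul]
      rw [e]
      refine Ideal.mul_mem_right _ _ ?_
      have h2 := ((IsLocalRing.local_hom_TFAE _).out 0 2 rfl rfl).1 hloc
      exact h2 (Ideal.mem_map_of_mem _ hm)

end Groth.Agent.S13417
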