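import Groth.Statements.S13418
import Groth.Agent.NeronMapLib.Basic
import Mathlib

set_option autoImplicit false
universe u
open CategoryTheory AlgebraicGeometry
open NeronHD

namespace Groth.Agent.S13418

open CategoryTheory CategoryTheory.Limits AlgebraicGeometry Groth.Agent.NeronMapLib
set_option backward.isDefEq.respectTransparency false

/-- Let S be a locally Noetherian scheme over a field of characteristic 0 and S₀ ⊆ S a
scheme-theoretically dense open. If N and M are smooth S-schemes having the Néron mapping property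
for S₀ ⊆ S (for every smooth S-scheme Z, restriction to S₀ is a bijection from S-morphisms Z → N
onto S₀-morphisms Z|S₀ → N|S₀), then the fibre product N ×_S M has the Néron mapping property for S₀
⊆ S (its smoothness over S being automatic). (This row is the case of schemes, with smooth test
schemes, of a statement about algebraic spaces.) -/
theorem result {k : Type u} [Field k] [CharZero k] {S : Scheme.{u}} (σ : S ⟶ Spec (CommRingCat.of k)) [IsLocallyNoetherian S] (S₀ : S.Opens) (hS₀ : CInt.IsSchematicallyDense S₀)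
    (N M : Over S) [Smooth N.hom] [Smooth M.hom]
    (hN : ∀ Z : Over S, Smooth Z.hom → Function.Bijective (fun g : Z ⟶ N => (Over.pullback S₀.ι).map g))
    (hM : ∀ Z : Over S, Smooth Z.hom → Function.Bijective (fun g : Z ⟶ M => (Over.pullback S₀.ι).map g)) :
    ∀ Z : Over S, Smooth Z.hom → Function.Bijective (fun g : Z ⟶ Over.mk (Limits.pullback.fst N.hom M.hom ≫ N.hom) => (Over.pullback S₀.ι).map g) := by
  intro Z hZ
  rw [bijective_iff_preimage]
  intro h hh
  have hh' : h ≫ pullback.fst N.hom M.hom ≫ N.hom = (Z.hom ⁻¹ᵁ S₀).ι ≫ Z.hom := hh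
  obtain ⟨a, ⟨ha, ha'⟩, hau⟩ := (bijective_iff_preimage S₀ Z N).1 (hN Z hZ) (h ≫ pullback.fst _ _) (by
    rw [Category.assoc, hh'])
  obtain ⟨b, ⟨hb, hb'⟩, hbu⟩ := (bijective_iff_preimage S₀ Z M).1 (hM Z hZ) (h ≫ pullback.snd _ _) (by
    rw [Category.assoc, ← pullback.condition, hh'])
  refine ⟨pullback.lift a b (ha.trans hb.symm), ⟨?_, ?_⟩, fun g hg => ?_⟩
  · show pullback.lift a b _ ≫ pullback.fst _ _ ≫ N.hom = _
    rw [pullback.lift_fst_assoc, ha]
  · apply pullback.hom_ext
    · rw [Category.assoc, pullback.lift_fst, ha']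
    · rw [Category.assoc, pullback.lift_snd, hb']
  · obtain ⟨hg1, hg2⟩ : g ≫ pullback.fst N.hom M.hom ≫ N.hom = Z.hom ∧ (Z.hom ⁻¹ᵁ S₀).ι ≫ g = h := hg
    apply pullback.hom_ext
    · rw [pullback.lift_fst]
      exact hau _ ⟨by rw [Category.assoc, hg1], by rw [← Category.assoc, hg2]⟩
    · rw [pullback.lift_snd]
      exact hbu _ ⟨by rw [Category.assoc, ← pullback.condition, hg1], by rw [← Category.assoc, hg2]⟩

end Groth.Agent.S13418
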