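import Groth.Statements.S13419
import Groth.Agent.NeronMapLib.Basic
import Mathlib

set_option autoImplicit false
universe u
open CategoryTheory AlgebraicGeometry
open NeronHD

namespace Groth.Agent.S13419

open CategoryTheory CategoryTheory.Limits AlgebraicGeometry Groth.Agent.NeronMapLib
set_option backward.isDefEq.respectTransparency false

/-- Let S be a locally Noetherian scheme over a field of characteristic 0, S₀ ⊆ S₁ ⊆ S opens with S₀
scheme-theoretically dense in S, and N a smooth S-scheme. If N has the Néron mapping property for S₁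
⊆ S and the restriction N|S₁ has the Néron mapping property for S₀ ⊆ S₁ (in both cases: restriction
of morphisms from smooth schemes over the base is bijective), then N has the Néron mapping property
for S₀ ⊆ S. (Case of schemes, with smooth test schemes, of a statement about algebraic spaces.) -/
theorem result {k : Type u} [Field k] [CharZero k] {S : Scheme.{u}} (σ : S ⟶ Spec (CommRingCat.of k)) [IsLocallyNoetherian S] (S₀ S₁ : S.Opens) (h01 : S₀ ≤ S₁) (hS₀ : CInt.IsSchematicallyDense S₀)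
    (N : Over S) [Smooth N.hom]
    (hN1 : ∀ Z : Over S, Smooth Z.hom → Function.Bijective (fun g : Z ⟶ N => (Over.pullback S₁.ι).map g))
    (hN10 : ∀ Z : Over (S₁ : Scheme.{u}), Smooth Z.hom → Function.Bijective (fun g : Z ⟶ (Over.pullback S₁.ι).obj N => (Over.pullback (S₁.ι ⁻¹ᵁ S₀).ι).map g)) :
    ∀ Z : Over S, Smooth Z.hom → Function.Bijective (fun g : Z ⟶ N => (Over.pullback S₀.ι).map g) := by
  intro Z hZ
  let Z₁ : Over (S₁ : Scheme.{u}) := Over.mk (Z.hom ∣_ S₁)
  have hZ₁ : Smooth Z₁.hom := IsZariskiLocalAtTarget.restrict hZ S₁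
  let W := Z₁.hom ⁻¹ᵁ (S₁.ι ⁻¹ᵁ S₀)
  have sq := isPullback_inner S₁ S₀ h01
    ((isPullback_morphismRestrict Z₁.hom (S₁.ι ⁻¹ᵁ S₀)).flip.paste_horiz (isPullback_morphismRestrict Z.hom S₁).flip) 
  rw [bijective_iff S₀.ι Z N sq]
  intro h hh
  obtain ⟨g₁, ⟨hg1, hg1'⟩, hg1u⟩ := (bijective_iff_preimage (S₁.ι ⁻¹ᵁ S₀) Z₁ _).1 (hN10 Z₁ hZ₁)
    (pullback.lift h (W.ι ≫ Z₁.hom) (by
      rw [hh, Category.assoc, Category.assoc]
      congr 1
      exact (morphismRestrict_ι Z.hom S₁).symm)) (pullback.lift_snd _ _ _)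
  have hg1'' : g₁ ≫ pullback.snd N.hom S₁.ι = Z₁.hom := hg1
  obtain ⟨g, ⟨hg, hg'⟩, hgu⟩ := (bijective_iff_preimage S₁ Z N).1 (hN1 Z hZ) (g₁ ≫ pullback.fst _ _) (by
    rw [Category.assoc, pullback.condition, ← Category.assoc, hg1'']
    exact morphismRestrict_ι Z.hom S₁)
  refine ⟨g, ⟨hg, ?_⟩, fun b hb => ?_⟩
  · have : W.ι ≫ g₁ ≫ pullback.fst _ _ = h := by
      rw [← Category.assoc]
      exact (congrArg (· ≫ pullback.fst N.hom S₁.ι) hg1').trans (pullback.lift_fst _ _ _)
    rw [← this, Category.assoc]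
    exact congrArg (W.ι ≫ ·) hg'
  · obtain ⟨hb1, hb2⟩ := hb
    refine hgu b ⟨hb1, ?_⟩
    have hlift : ((Z.hom ⁻¹ᵁ S₁).ι ≫ b) ≫ N.hom = Z₁.hom ≫ S₁.ι := by
      rw [Category.assoc, hb1]
      exact (morphismRestrict_ι Z.hom S₁).symm
    have h2 := hg1u (pullback.lift _ _ hlift) ⟨pullback.lift_snd _ _ _, by
      apply pullback.hom_ext
      · rw [Category.assoc, pullback.lift_fst, pullback.lift_fst]
        exact (Category.assoc _ _ _).symm.trans hb2
      · rw [Category.assoc, pullback.lift_snd]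
        exact (pullback.lift_snd _ _ _).symm⟩
    rw [← h2, pullback.lift_fst]

end Groth.Agent.S13419
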