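import Groth.Statements.S13420
import Groth.Agent.NeronMapLib.Basic
import Mathlib

set_option autoImplicit false
universe u
open CategoryTheory AlgebraicGeometry
open NeronHD

namespace Groth.Agent.S13420

open CategoryTheory CategoryTheory.Limits AlgebraicGeometry Groth.Agent.NeronMapLib
set_option backward.isDefEq.respectTransparency false

/-- Let S be a locally Noetherian scheme over a field of characteristic 0, S₀ ⊆ S₁ ⊆ S opens with S₀
scheme-theoretically dense in S, and N a smooth S-scheme. If N has the Néron mapping property for S₀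
⊆ S and N|S₁ has the Néron mapping property for S₀ ⊆ S₁ (restriction of morphisms from smooth
schemes over the base is bijective), then N has the Néron mapping property for S₁ ⊆ S. (Case of
schemes, with smooth test schemes, of a statement about algebraic spaces.) -/
theorem result {k : Type u} [Field k] [CharZero k] {S : Scheme.{u}} (σ : S ⟶ Spec (CommRingCat.of k)) [IsLocallyNoetherian S] (S₀ S₁ : S.Opens) (h01 : S₀ ≤ S₁) (hS₀ : CInt.IsSchematicallyDense S₀)
    (N : Over S) [Smooth N.hom]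
    (hN0 : ∀ Z : Over S, Smooth Z.hom → Function.Bijective (fun g : Z ⟶ N => (Over.pullback S₀.ι).map g))
    (hN10 : ∀ Z : Over (S₁ : Scheme.{u}), Smooth Z.hom → Function.Bijective (fun g : Z ⟶ (Over.pullback S₁.ι).obj N => (Over.pullback (S₁.ι ⁻¹ᵁ S₀).ι).map g)) :
    ∀ Z : Over S, Smooth Z.hom → Function.Bijective (fun g : Z ⟶ N => (Over.pullback S₁.ι).map g) := by
  intro Z hZ
  rw [bijective_iff_preimage]
  intro h hh
  let Z₁ : Over (S₁ : Scheme.{u}) := Over.mk (Z.hom ∣_ S₁)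
  have hZ₁ : Smooth Z₁.hom := IsZariskiLocalAtTarget.restrict hZ S₁
  let W := Z₁.hom ⁻¹ᵁ (S₁.ι ⁻¹ᵁ S₀)
  have sq := isPullback_inner S₁ S₀ h01
    ((isPullback_morphismRestrict Z₁.hom (S₁.ι ⁻¹ᵁ S₀)).flip.paste_horiz (isPullback_morphismRestrict Z.hom S₁).flip) 
  have hE := (bijective_iff S₀.ι Z N sq).1 (hN0 Z hZ)
  obtain ⟨g, ⟨hg, hg'⟩, hgu⟩ := hE (W.ι ≫ h) (by
    rw [Category.assoc, hh, ← Category.assoc])
  have hlift : ∀ k : (Z.hom ⁻¹ᵁ S₁).toScheme ⟶ N.left, k ≫ N.hom = (Z.hom ⁻¹ᵁ S₁).ι ≫ Z.hom →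
      k ≫ N.hom = Z₁.hom ≫ S₁.ι := fun k hk => hk.trans (morphismRestrict_ι Z.hom S₁).symm
  have hgg : (Z.hom ⁻¹ᵁ S₁).ι ≫ g = h := by
    have hk : ((Z.hom ⁻¹ᵁ S₁).ι ≫ g) ≫ N.hom = (Z.hom ⁻¹ᵁ S₁).ι ≫ Z.hom := by rw [Category.assoc, hg]
    obtain ⟨c, -, hcu⟩ := (bijective_iff_preimage (S₁.ι ⁻¹ᵁ S₀) Z₁ _).1 (hN10 Z₁ hZ₁)
      (W.ι ≫ pullback.lift _ _ (hlift h hh)) (by
        exact (Category.assoc _ _ _).trans (congrArg (W.ι ≫ ·) (pullback.lift_snd _ _ _)))
    have e1 := hcu (pullback.lift _ _ (hlift h hh)) ⟨pullback.lift_snd _ _ _, rfl⟩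
    have e2 := hcu (pullback.lift _ _ (hlift _ hk)) ⟨pullback.lift_snd _ _ _, by
      apply pullback.hom_ext
      · simp only [Category.assoc]
        refine (congrArg (W.ι ≫ ·) (pullback.lift_fst _ _ _)).trans ?_
        refine Eq.trans ?_ (congrArg (W.ι ≫ ·) (pullback.lift_fst _ _ _)).symm
        exact ((Category.assoc _ _ _).symm.trans hg' :)
      · simp only [Category.assoc]
        exact congrArg (W.ι ≫ ·) ((pullback.lift_snd _ _ _).trans (pullback.lift_snd _ _ _).symm)⟩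
    have := congrArg (· ≫ pullback.fst N.hom S₁.ι) (e2.trans e1.symm)
    exact ((pullback.lift_fst _ _ _).symm.trans this).trans (pullback.lift_fst _ _ _)
  refine ⟨g, ⟨hg, hgg⟩, fun b hb => hgu b ⟨hb.1, ?_⟩⟩
  rw [← hb.2, Category.assoc]

end Groth.Agent.S13420
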