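import Groth.Statements.S13421
import Groth.Agent.NeronMapLib.Basic
import Mathlib

set_option autoImplicit false
universe u
open CategoryTheory AlgebraicGeometry
open NeronHD

namespace Groth.Agent.S13421

open CategoryTheory CategoryTheory.Limits AlgebraicGeometry Groth.Agent.NeronMapLib
set_option backward.isDefEq.respectTransparency false

/-- Let T be a locally Noetherian scheme over a field of characteristic 0 and T₀ ⊆ T a
scheme-theoretically dense open. Let f : S → T be étale and such that S, viewed as a T-scheme, has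
the Néron mapping property for T₀ ⊆ T, and let g : N → S be smooth and such that N, viewed as an
S-scheme, has the Néron mapping property for f⁻¹(T₀) ⊆ S (restriction of morphisms from smooth
schemes over the base is bijective). Then N → T, the composite g ≫ f, has the Néron mapping property
for T₀ ⊆ T. (Case of schemes, with smooth test schemes, of a statement about algebraic spaces.) -/
theorem result {k : Type u} [Field k] [CharZero k] {T : Scheme.{u}} (τ : T ⟶ Spec (CommRingCat.of k)) [IsLocallyNoetherian T] (T₀ : T.Opens) (hT₀ : CInt.IsSchematicallyDense T₀)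
    {S N : Scheme.{u}} (f : S ⟶ T) [Etale f] (g : N ⟶ S) [Smooth g]
    (hS : ∀ Z : Over T, Smooth Z.hom → Function.Bijective (fun g : Z ⟶ Over.mk f => (Over.pullback T₀.ι).map g))
    (hN : ∀ Z : Over S, Smooth Z.hom → Function.Bijective (fun g : Z ⟶ Over.mk g => (Over.pullback (f ⁻¹ᵁ T₀).ι).map g)) :
    ∀ Z : Over T, Smooth Z.hom → Function.Bijective (fun g : Z ⟶ Over.mk (g ≫ f) => (Over.pullback T₀.ι).map g) := by
  intro Z hZ
  rw [bijective_iff_preimage]
  intro h hh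
  set w := (Z.hom ⁻¹ᵁ T₀).ι with hw
  have hh' : h ≫ g ≫ f = w ≫ Z.hom := hh
  obtain ⟨s, ⟨hs, hs'⟩, hsu⟩ := (bijective_iff_preimage T₀ Z (Over.mk f)).1 (hS Z hZ) (h ≫ g) (by
    show (h ≫ g) ≫ f = _
    rw [Category.assoc, hh'])
  have hs1 : s ≫ f = Z.hom := hs
  haveI : Smooth (s ≫ f) := by rw [hs1]; exact hZ
  have hsm := smooth_of_comp_etale s f
  have sq : IsPullback (s ⁻¹ᵁ (f ⁻¹ᵁ T₀)).ι (s ∣_ (f ⁻¹ᵁ T₀)) s (f ⁻¹ᵁ T₀).ι :=
    (isPullback_morphismRestrict s (f ⁻¹ᵁ T₀)).flip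
  have hpre : s ⁻¹ᵁ (f ⁻¹ᵁ T₀) = Z.hom ⁻¹ᵁ T₀ := by rw [← hs1]; rfl
  have sq' : IsPullback w ((Z.left.isoOfEq hpre).inv ≫ (s ∣_ (f ⁻¹ᵁ T₀))) s (f ⁻¹ᵁ T₀).ι :=
    sq.of_iso (Z.left.isoOfEq hpre) (Iso.refl _) (Iso.refl _) (Iso.refl _) (by simp [hw]) (by simp) (by simp) (by simp)
  have hN' := (bijective_iff (f ⁻¹ᵁ T₀).ι (Over.mk s) (Over.mk g) sq').1 (hN (Over.mk s) hsm) h hs'.symm
  obtain ⟨a, ⟨ha, ha'⟩, hau⟩ := hN'
  have ha1 : a ≫ g = s := ha
  refine ⟨a, ⟨?_, ha'⟩, fun b hb => ?_⟩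
  · show a ≫ g ≫ f = _
    rw [← Category.assoc, ha1, hs1]
  · obtain ⟨hb1, hb2⟩ : b ≫ g ≫ f = Z.hom ∧ w ≫ b = h := hb
    exact hau b ⟨hsu (b ≫ g) ⟨(Category.assoc _ _ _).trans hb1, by rw [← Category.assoc, hb2]⟩, hb2⟩

end Groth.Agent.S13421
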