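import Groth.Statements.S13422
import Mathlib
import Groth.Agent.S0413
import Groth.Agent.ASp.SchDenseImage

set_option autoImplicit false
universe u
open CategoryTheory AlgebraicGeometry
open NeronHD

namespace Groth.Agent.S13422

open Limits

/-- morphisms to an affine scheme agree if they agree after a scheme-theoretically dominant morphism. -/
theorem eq_of_comp_eq {W X Y : Scheme.{u}} [IsAffine Y] (w : W ⟶ X) [IsSchemeTheoreticallyDominant w]
    [QuasiCompact w] (a b : X ⟶ Y) (h : w ≫ a = w ≫ b) : a = b := by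
  apply ext_of_isAffine
  ext t
  apply w.app_injective ⊤
  have := congrArg (fun φ => φ.appTop t) h
  simp only [Scheme.Hom.comp_appTop, CommRingCat.comp_apply] at this
  exact this

theorem charZero_residueField {k : Type u} [Field k] [CharZero k] {S : Scheme.{u}}
    (σ : S ⟶ Spec (CommRingCat.of k)) (s : S) : CharZero (S.residueField s) :=
  charZero_of_injective_ringHom (Spec.preimage (S.fromSpecResidueField s ≫ σ)).hom.injective

theorem finite_residue_of_isClosed {X S : Scheme.{u}} (f : X ⟶ S) [LocallyOfFiniteType f] (x : X)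
    (hx : IsClosed ({f.asFiber x} : Set (f.fiber (f x)))) : (f.residueFieldMap x).hom.Finite := by
  haveI : LocallyOfFiniteType (f.fiberToSpecResidueField (f x)) := by
    change LocallyOfFiniteType (pullback.snd f (S.fromSpecResidueField (f x)))
    infer_instance
  haveI : IsClosedImmersion (f.asFiberHom x) :=
    .of_isPreimmersion _ (by rw [Scheme.Hom.range_asFiberHom]; exact hx)
  haveI : LocallyOfFiniteType (Spec.map (f.residueFieldMap x)) := by
    rw [← f.asFiberHom_fiberToSpecResidueField]; infer_instance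
  exact (IsFinite.SpecMap_iff _).mp (isFinite_iff_locallyOfFiniteType_of_jacobsonSpace.mpr inferInstance)

/-- Let S be a locally Noetherian scheme over a field of characteristic 0, S₀ ⊆ S a scheme-theoretically
dense open, and N a smooth S-scheme with the weak Néron mapping property for S₀ ⊆ S: for every étale
S-scheme U, restriction to S₀ is a bijection from S-morphisms U → N onto S₀-morphisms U|S₀ → N|S₀.
Then N has the uniqueness half of the Néron mapping property: for every smooth S-scheme Z,
restriction of S-morphisms Z → N to S₀ is injective. (Case of schemes of a statement about algebraic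
spaces.) -/
theorem result {k : Type u} [Field k] [CharZero k] {S : Scheme.{u}} (σ : S ⟶ Spec (CommRingCat.of k)) [IsLocallyNoetherian S] (S₀ : S.Opens) (hS₀ : CInt.IsSchematicallyDense S₀)
    (N : Over S) [Smooth N.hom]
    (hN : ∀ U : Over S, Etale U.hom → Function.Bijective (fun g : U ⟶ N => (Over.pullback S₀.ι).map g))
    (Z : Over S) [Smooth Z.hom] :
    Function.Injective (fun g : Z ⟶ N => (Over.pullback S₀.ι).map g) := by
  intro g₁ g₂ h
  have hrestr : pullback.fst Z.hom S₀.ι ≫ g₁.left = pullback.fst Z.hom S₀.ι ≫ g₂.left := by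
    have := congrArg (fun m => CommaMorphism.left m ≫ pullback.fst N.hom S₀.ι) h
    simp at this
    erw [pullback.lift_fst, pullback.lift_fst] at this
    exact this
  -- agreement at points closed in their fibres
  have hclosed : ∀ z : Z.left, IsClosed ({Z.hom.asFiber z} : Set (Z.hom.fiber (Z.hom z))) →
      g₁.left z = g₂.left z := by
    intro z hz
    haveI := charZero_residueField σ (Z.hom z)
    have hfin := finite_residue_of_isClosed Z.hom z hz
    have hsep : @Algebra.IsSeparable (S.residueField (Z.hom z)) (Z.left.residueField z) _ _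
        (Z.hom.residueFieldMap z).hom.toAlgebra := by
      letI := (Z.hom.residueFieldMap z).hom.toAlgebra
      haveI : Module.Finite (S.residueField (Z.hom z)) (Z.left.residueField z) := hfin
      infer_instance
    obtain ⟨U, i, u₀, -, het, hiz, -⟩ := Groth.Agent.S0413.result Z.hom z hz hsep
    let iO : Over.mk (i ≫ Z.hom) ⟶ Z := Over.homMk i rfl
    have he : iO ≫ g₁ = iO ≫ g₂ := by
      refine (hN _ het).1 ?_
      show (Over.pullback S₀.ι).map (iO ≫ g₁) = (Over.pullback S₀.ι).map (iO ≫ g₂)
      rw [Functor.map_comp, Functor.map_comp]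
      exact congrArg _ h
    have := congrArg (fun m : Over.mk (i ≫ Z.hom) ⟶ N => (m.left : U ⟶ N.left) u₀) he
    rw [← hiz]
    exact this
  apply Over.OverMorphism.ext
  refine Scheme.hom_ext_of_forall _ _ fun z => ?_
  -- a closed point of the fibre below z
  obtain ⟨w, hw, hwc⟩ := nonempty_inter_closedPoints (X := Z.hom.fiber (Z.hom z))
    (Z := closure {Z.hom.asFiber z}) ⟨_, subset_closure rfl⟩ isClosed_closure.isLocallyClosed
  let z' := Z.hom.fiberι _ w
  have hsp : z ⤳ z' := by
    have := (specializes_iff_mem_closure.mpr hw).map (Z.hom.fiberι _).continuous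
    rwa [Scheme.Hom.fiberι_asFiber] at this
  have hzz : Z.hom z' = Z.hom z := (Z.hom.fiberHomeo _ w).2
  have hz' : IsClosed ({Z.hom.asFiber z'} : Set (Z.hom.fiber (Z.hom z'))) := by
    have key : ∀ (s : S) (v : Z.hom.fiber s), IsClosed ({v} : Set (Z.hom.fiber s)) →
        ∀ x, Z.hom.fiberι s v = x → IsClosed ({Z.hom.asFiber x} : Set (Z.hom.fiber (Z.hom x))) := by
      intro s v hv x hx
      have hs : Z.hom x = s := by rw [← hx]; exact (Z.hom.fiberHomeo _ v).2
      subst hs
      rwa [(Z.hom.fiberι _).isEmbedding.injective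
        ((Z.hom.fiberι_asFiber x).trans hx.symm)]
    exact key _ w hwc z' rfl
  obtain ⟨_, ⟨V : N.left.Opens, hV, rfl⟩, hzV, -⟩ := N.left.isBasis_affineOpens.exists_subset_of_mem_open
    (Set.mem_univ (g₁.left z')) isOpen_univ
  let O : Z.left.Opens := g₁.left ⁻¹ᵁ V ⊓ g₂.left ⁻¹ᵁ V
  have hzO : z ∈ O := hsp.mem_open O.2 ⟨hzV, by
    show g₂.left z' ∈ V
    rw [← hclosed z' hz']
    exact hzV⟩
  refine ⟨O, hzO, ?_⟩
  haveI : IsAffine V := hV
  have h1 : Set.range (O.ι ≫ g₁.left) ⊆ Set.range V.ι := by
    rintro _ ⟨x, rfl⟩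
    rw [Scheme.Opens.range_ι]
    exact x.2.1
  have h2 : Set.range (O.ι ≫ g₂.left) ⊆ Set.range V.ι := by
    rintro _ ⟨x, rfl⟩
    rw [Scheme.Opens.range_ι]
    exact x.2.2
  rw [← IsOpenImmersion.lift_fac V.ι _ h1, ← IsOpenImmersion.lift_fac V.ι _ h2]
  congr 1
  haveI : IsSchemeTheoreticallyDominant S₀.ι := ⟨Groth.Agent.ASp.ker_ι_eq_bot hS₀⟩
  haveI : IsLocallyNoetherian S := inferInstance
  haveI : QuasiCompact S₀.ι := inferInstance
  haveI : Flat (O.ι ≫ Z.hom) := inferInstance
  refine eq_of_comp_eq (pullback.fst (O.ι ≫ Z.hom) S₀.ι) _ _ ?_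
  rw [← cancel_mono V.ι, Category.assoc, Category.assoc, IsOpenImmersion.lift_fac,
    IsOpenImmersion.lift_fac]
  have hfac : pullback.lift (pullback.fst (O.ι ≫ Z.hom) S₀.ι ≫ O.ι) (pullback.snd _ _)
      (by rw [Category.assoc, pullback.condition]) ≫ pullback.fst Z.hom S₀.ι =
      pullback.fst (O.ι ≫ Z.hom) S₀.ι ≫ O.ι := pullback.lift_fst _ _ _
  rw [← Category.assoc, ← Category.assoc, ← hfac]
  exact (Category.assoc _ _ _).trans ((congrArg _ hrestr).trans (Category.assoc _ _ _).symm)

end Groth.Agent.S13422
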