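import Groth.Statements.S13423
import Groth.Agent.FlatLocus.SmoothFibres
import Groth.Agent.SmoothQFLib.Basic
import Groth.Agent.UnramSecLib.Basic
import Groth.Agent.BranchInv.RadicialPt
-- import your own Groth.Agent.* helpers here

set_option autoImplicit false
universe u
open CategoryTheory AlgebraicGeometry
open NeronHD

namespace Groth.Agent.S13423

open CategoryTheory CategoryTheory.Limits AlgebraicGeometry Topology Groth.Agent

set_option backward.isDefEq.respectTransparency false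

/-- A smooth quasi-finite morphism is formally unramified. -/
theorem formallyUnramified_of_smooth_lqf {P T : Scheme.{u}} (g : P ⟶ T) [Smooth g] [LocallyQuasiFinite g] :
    FormallyUnramified g := by
  rw [HasRingHomProperty.iff_appLE (P := @FormallyUnramified)]
  intro U V e
  algebraize [(g.appLE U V e).hom]
  haveI : Algebra.Smooth Γ(T, U) Γ(P, V) := RingHom.smooth_algebraMap.mp (g.smooth_appLE U.2 V.2 e)
  haveI : Algebra.QuasiFinite Γ(T, U) Γ(P, V) :=
    RingHom.quasiFinite_algebraMap.mp (HasRingHomProperty.appLE (P := @LocallyQuasiFinite) g ‹_› U V e)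
  haveI := SmoothQFLib.etale_of_smooth_quasiFinite Γ(T, U) Γ(P, V)
  exact RingHom.formallyUnramified_algebraMap.mpr inferInstance

/-- A quasi-compact open of a locally Noetherian scheme meets finitely many components. -/
theorem finite_max {T : Scheme.{u}} [IsLocallyNoetherian T] (W : T.Opens) (hW : IsCompact (W : Set T)) :
    {ξ : T | ξ ∈ W ∧ ∀ ξ', ξ' ⤳ ξ → ξ' = ξ}.Finite := by
  haveI : IsLocallyNoetherian (W : Scheme.{u}) := isLocallyNoetherian_of_isOpenImmersion W.ι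
  haveI : CompactSpace ↥(W : Scheme.{u}) := isCompact_iff_compactSpace.mp hW
  haveI : IsNoetherian (W : Scheme.{u}) := {}
  refine ((genericPoints.finite TopologicalSpace.NoetherianSpace.finite_irreducibleComponents).image W.ι).subset ?_
  rintro ξ ⟨hξW, hξ⟩
  refine ⟨⟨ξ, hξW⟩, ?_, rfl⟩
  rw [BranchInv.mem_genericPoints_iff]
  exact fun ξ' h' => W.ι.isOpenEmbedding.injective (hξ _ (h'.map W.ι.continuous))


/-- Let S be a reduced, locally Noetherian scheme over a field of characteristic 0 whose local rings are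
all geometrically unibranch, and let f : X → S be quasi-finite (locally of finite type,
quasi-compact, with finite discrete fibres), separated and dominant, with X connected and nonempty,
such that every fibre X_s over the residue field k(s) is smooth. Then f is étale. (Case of schemes
of a statement about algebraic spaces.) -/
theorem result {k : Type u} [Field k] [CharZero k] {S : Scheme.{u}} (σ : S ⟶ Spec (CommRingCat.of k)) [IsLocallyNoetherian S] [IsReduced S]
    (hS : ∀ s : S, CAlg2.IsGeomUnibranch (S.presheaf.stalk s))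
    {X : Scheme.{u}} (f : X ⟶ S) [LocallyOfFiniteType f] [QuasiCompact f] [LocallyQuasiFinite f] [IsSeparated f] [IsDominant f]
    [ConnectedSpace X]
    (hfib : ∀ s : S, Smooth (Limits.pullback.snd f (S.fromSpecResidueField s))) :
    Etale f := by
  haveI : IsLocallyNoetherian X := LocallyOfFiniteType.isLocallyNoetherian f
  haveI : FormallyUnramified f := Groth.Agent.FlatLocus.formallyUnramified_of_fibres f fun s => by
    haveI : Smooth (f.fiberToSpecResidueField s) := hfib s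
    haveI : LocallyQuasiFinite (f.fiberToSpecResidueField s) :=
      MorphismProperty.pullback_snd (P := @LocallyQuasiFinite) _ _ ‹_›
    exact formallyUnramified_of_smooth_lqf _
  -- maximal points over maximal points
  have hmaxX : ∀ x' : X, (∀ s, s ⤳ f x' → s = f x') → ∀ ξ, ξ ⤳ x' → ξ = x' := fun x' h ξ hξ => by
    haveI := isDiscrete_iff_discreteTopology.mp (f.isDiscrete_preimage_singleton (f x'))
    exact congrArg Subtype.val (specializes_iff_eq.mp
      ((IsInducing.subtypeVal).specializes_iff (x := (⟨ξ, h _ (hξ.map f.continuous)⟩ : ↥(f ⁻¹' {f x'})))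
        (y := ⟨x', rfl⟩) |>.mp hξ))
  let E : Set X := {x | ∃ U : X.Opens, x ∈ U ∧ Etale (U.ι ≫ f)}
  have hfwd : ∀ x ∈ E, ∃ x', x' ⤳ x ∧ ∀ s, s ⤳ f x' → s = f x' := fun x ⟨U, hxU, hU⟩ => by
    obtain ⟨η, hη, hηmax⟩ := Groth.Agent.Unibranch.exists_max_specializes (f x)
    obtain ⟨a, ha, he⟩ := Flat.generalizingMap (U.ι ≫ f) (a := ⟨x, hxU⟩) hη
    exact ⟨U.ι a, ha.map U.ι.continuous, fun s hs => by
      rw [← Scheme.Hom.comp_apply] at hs ⊢
      rw [he] at hs ⊢
      exact hηmax s hs⟩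
  have hbwd : ∀ x x' : X, x' ⤳ x → (∀ s, s ⤳ f x' → s = f x') → x ∈ E := fun x x' hx' hmax => by
    obtain ⟨η₀, hη₀, hgen⟩ := Groth.Agent.UnramSecLib.exists_generic_at (f x) (hS _)
    have hηx' : η₀ = f x' := hmax _ (hgen _ (hx'.map f.continuous))
    obtain ⟨W₀, hW₀, hyW₀, -⟩ := exists_isAffineOpen_mem_and_subset (x := f x) (U := ⊤) (by trivial)
    have hG := finite_max W₀ hW₀.isCompact
    let W : S.Opens := ⟨(W₀ : Set S) \ ⋃ ξ ∈ {ξ ∈ {ξ : S | ξ ∈ W₀ ∧ ∀ ξ', ξ' ⤳ ξ → ξ' = ξ} | ¬ ξ ⤳ f x}, closure {ξ},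
      W₀.2.sdiff ((hG.subset fun ξ h => h.1).isClosed_biUnion fun ξ _ => isClosed_closure)⟩
    have hyW : f x ∈ W := ⟨hyW₀, fun h => by
      obtain ⟨ξ, hξ, h'⟩ := Set.mem_iUnion₂.1 h
      exact hξ.2 (specializes_iff_mem_closure.2 h')⟩
    have hWη : ∀ w ∈ W, η₀ ⤳ w := fun w hw => by
      obtain ⟨ξ, hξ, hξmax⟩ := Groth.Agent.Unibranch.exists_max_specializes w
      by_cases h : ξ ⤳ f x
      · exact (hgen ξ h).trans hξ
      · exact absurd (Set.mem_iUnion₂.2 ⟨ξ, ⟨⟨hξ.mem_open W₀.2 hw.1, hξmax⟩, h⟩, hξ.mem_closure⟩) hw.2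
    have hη₀W : η₀ ∈ W := hη₀.mem_open W.2 hyW
    have hirr : IsGenericPoint (⟨η₀, hη₀W⟩ : (W : Scheme.{u})) Set.univ :=
      Set.eq_univ_of_forall fun w => specializes_iff_mem_closure.1
        ((W.ι.isOpenEmbedding.isInducing.specializes_iff).1 (hWη _ w.2))
    haveI : IrreducibleSpace ↥(W : Scheme.{u}) := by
      haveI : Nonempty ↥(W : Scheme.{u}) := ⟨⟨η₀, hη₀W⟩⟩
      exact { isPreirreducible_univ := hirr.isIrreducible.isPreirreducible, toNonempty := inferInstance }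
    haveI : IsReduced (W : Scheme.{u}) := isReduced_of_isOpenImmersion W.ι
    haveI : IsIntegral (W : Scheme.{u}) := isIntegral_of_irreducibleSpace_of_isReduced _
    haveI : FormallyUnramified (f ∣_ W) := IsZariskiLocalAtTarget.restrict ‹_› W
    have hx'W : x' ∈ f ⁻¹ᵁ W := hx'.mem_open (f ⁻¹ᵁ W).2 hyW
    have hW' : (f ∣_ W) ⟨x, hyW⟩ = ⟨f x, hyW⟩ := W.ι.isOpenEmbedding.injective (by
      rw [← Scheme.Hom.comp_apply, morphismRestrict_ι]
      rfl)
    obtain ⟨T, hxT, hT⟩ := Groth.Agent.Unibranch.exists_etale_nbhd (f ∣_ W) ⟨x, hyW⟩ (by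
        rw [hW']
        exact Groth.Agent.SteinConn.isGeomUnibranch_of_ringEquiv
          (W.stalkIso ⟨f x, hyW⟩).commRingCatIsoToRingEquiv.symm (hS _))
      ⟨⟨x', hx'W⟩, ((f ⁻¹ᵁ W).ι.isOpenEmbedding.isInducing.specializes_iff).1 hx', by
        refine (W.ι.isOpenEmbedding.injective ?_).trans (hirr.eq (genericPoint_spec ↥(W : Scheme.{u})))
        rw [← Scheme.Hom.comp_apply, morphismRestrict_ι]
        exact hηx'.symm⟩
      ⟨⊤, trivial, MorphismProperty.comp_mem @FormallyUnramified _ _ inferInstance inferInstance⟩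
    haveI := hT
    refine ⟨(f ⁻¹ᵁ W).ι ''ᵁ T, ⟨⟨x, hyW⟩, hxT, rfl⟩, ?_⟩
    haveI : Etale (T.ι ≫ (f ∣_ W) ≫ W.ι) := by
      rw [← Category.assoc]
      infer_instance
    rw [← Scheme.Hom.isoImage_inv_ι_assoc (f ⁻¹ᵁ W).ι T, ← morphismRestrict_ι]
    infer_instance
  have hopen : IsOpen E := isOpen_iff_forall_mem_open.2 fun x ⟨U, hxU, hU⟩ =>
    ⟨U, fun z hz => ⟨U, hz, hU⟩, U.2, hxU⟩
  have hclosed : IsClosed E := isClosed_of_closure_subset fun x hx => by
    obtain ⟨O, hO, hxO, -⟩ := exists_isAffineOpen_mem_and_subset (x := x) (U := ⊤) (by trivial)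
    have hfin : {ξ : X | ξ ∈ O ∧ ∀ s, s ⤳ f ξ → s = f ξ}.Finite :=
      (finite_max O hO.isCompact).subset fun ξ h => ⟨h.1, hmaxX ξ h.2⟩
    have hsub : x ∈ closure (⋃ ξ ∈ {ξ : X | ξ ∈ O ∧ ∀ s, s ⤳ f ξ → s = f ξ}, closure {ξ}) := by
      refine closure_mono ?_ (O.2.inter_closure ⟨hxO, hx⟩)
      rintro e ⟨heO, heE⟩
      obtain ⟨ξ, hξ, hξm⟩ := hfwd e heE
      exact Set.mem_iUnion₂.2 ⟨ξ, ⟨hξ.mem_open O.2 heO, hξm⟩, hξ.mem_closure⟩
    rw [(hfin.isClosed_biUnion fun ξ _ => isClosed_closure).closure_eq] at hsub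
    obtain ⟨ξ, hξ, hx'⟩ := Set.mem_iUnion₂.1 hsub
    exact hbwd x ξ (specializes_iff_mem_closure.2 hx') hξ.2
  have hne : E.Nonempty := by
    obtain ⟨x₀⟩ := (inferInstance : Nonempty X)
    obtain ⟨η, -, hηmax⟩ := Groth.Agent.Unibranch.exists_max_specializes (f x₀)
    obtain ⟨W₀, hW₀, hηW₀, -⟩ := exists_isAffineOpen_mem_and_subset (x := η) (U := ⊤) (by trivial)
    have hc : IsCompact ((f ⁻¹ᵁ W₀ : X.Opens) : Set X) := f.isCompact_preimage hW₀.isCompact
    have hsub : η ∈ closure (⋃ ξ ∈ {ξ : X | ξ ∈ f ⁻¹ᵁ W₀ ∧ ∀ ξ', ξ' ⤳ ξ → ξ' = ξ}, closure {f ξ}) := by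
      refine closure_mono ?_ (W₀.2.inter_closure ⟨hηW₀, f.denseRange η⟩)
      rintro _ ⟨hW, ⟨z, rfl⟩⟩
      obtain ⟨ξ, hξ, hξm⟩ := Groth.Agent.Unibranch.exists_max_specializes z
      exact Set.mem_iUnion₂.2 ⟨ξ, ⟨hξ.mem_open (f ⁻¹ᵁ W₀).2 hW, hξm⟩, (hξ.map f.continuous).mem_closure⟩
    rw [((finite_max _ hc).isClosed_biUnion fun ξ _ => isClosed_closure).closure_eq] at hsub
    obtain ⟨ξ, -, hξη⟩ := Set.mem_iUnion₂.1 hsub
    have hfξ : f ξ = η := hηmax _ (specializes_iff_mem_closure.2 hξη)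
    exact ⟨ξ, hbwd ξ ξ specializes_rfl (by rw [hfξ]; exact hηmax)⟩
  have hE := IsClopen.eq_univ ⟨hclosed, hopen⟩ hne
  choose Ux hxU hUx using fun x : X => (hE.ge (Set.mem_univ x) : x ∈ E)
  exact (IsZariskiLocalAtSource.iff_of_iSup_eq_top Ux
    (eq_top_iff.2 fun x _ => TopologicalSpace.Opens.mem_iSup.2 ⟨x, hxU x⟩)).2 hUx

end Groth.Agent.S13423
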