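import Groth.Statements.S13424
import Groth.Agent.Unibranch.NormalStalk
-- import your own Groth.Agent.* helpers here

set_option autoImplicit false
set_option backward.isDefEq.respectTransparency false
universe u
open CategoryTheory AlgebraicGeometry
open GrpSch

namespace Groth.Agent.S13424

open AlgebraicGeometry in
/-- On a locally Noetherian scheme with domain stalks the closure of an open set is open. -/
lemma isOpen_closure_of_isDomain_stalk {W : Scheme.{u}} [IsLocallyNoetherian W]
    (hW : ∀ x : W, IsDomain (W.presheaf.stalk x)) {U : Set W} (hU : IsOpen U) :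
    IsOpen (closure U) := by
  refine isOpen_iff_forall_mem_open.mpr fun x hx ↦ ?_
  haveI := hW x
  obtain ⟨V, hV, hxV, -⟩ := exists_isAffineOpen_mem_and_subset (x := x) (U := ⊤) trivial
  haveI : IsNoetherianRing Γ(W, V) := IsLocallyNoetherian.component_noetherian ⟨V, hV⟩
  let j := hV.fromSpec
  let ξ : W := W.fromSpecStalk x (⟨⊥, Ideal.isPrime_bot⟩ : PrimeSpectrum _)
  let M : Set W := {c | ∃ p ∈ minimalPrimes Γ(W, V), ∃ hp : p.IsPrime,
    j (⟨p, hp⟩ : PrimeSpectrum _) = c ∧ ¬ c ⤳ x}
  have hMfin : M.Finite := by
    haveI := (minimalPrimes.finite_of_isNoetherianRing Γ(W, V)).to_subtype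
    refine (Set.finite_range (fun p : minimalPrimes Γ(W, V) ↦
      j (⟨p.1, p.2.1.1⟩ : PrimeSpectrum _))).subset ?_
    rintro c ⟨p, hp, hpp, rfl, -⟩
    exact ⟨⟨p, hp⟩, rfl⟩
  let N : Set W := (V : Set W) \ ⋃ c ∈ M, closure {c}
  have hNo : IsOpen N := V.2.sdiff (hMfin.isClosed_biUnion fun _ _ ↦ isClosed_closure)
  have hxN : x ∈ N := by
    refine ⟨hxV, ?_⟩
    simp only [Set.mem_iUnion, not_exists]
    intro c hc h
    obtain ⟨p, -, hpp, rfl, hn⟩ := hc
    exact hn (specializes_iff_mem_closure.mpr h)
  have hN : ∀ z ∈ N, ξ ⤳ z := by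
    rintro z ⟨hzV, hz⟩
    obtain ⟨q, rfl⟩ : z ∈ Set.range j := hV.range_fromSpec.superset hzV
    obtain ⟨p, hp, hpq⟩ := Ideal.exists_minimalPrimes_le (bot_le : (⊥ : Ideal Γ(W, V)) ≤ q.asIdeal)
    have hsp : j (⟨p, hp.1.1⟩ : PrimeSpectrum _) ⤳ j q :=
      ((PrimeSpectrum.le_iff_specializes (⟨p, hp.1.1⟩ : PrimeSpectrum _) q).1 hpq).map j.continuous
    have hcx : j (⟨p, hp.1.1⟩ : PrimeSpectrum _) ⤳ x := by
      by_contra h
      refine hz ?_
      simp only [Set.mem_iUnion]
      exact ⟨_, ⟨p, hp, hp.1.1, rfl, h⟩, specializes_iff_mem_closure.mp hsp⟩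
    obtain ⟨P, hP⟩ : j (⟨p, hp.1.1⟩ : PrimeSpectrum _) ∈ Set.range (W.fromSpecStalk x) := by
      rw [Scheme.range_fromSpecStalk]; exact hcx
    refine Specializes.trans ?_ hsp
    rw [← hP]
    exact ((PrimeSpectrum.le_iff_specializes (⟨⊥, Ideal.isPrime_bot⟩ : PrimeSpectrum _) P).1
      bot_le).map (W.fromSpecStalk x).continuous
  refine ⟨N, fun z hz ↦ ?_, hNo, hxN⟩
  obtain ⟨y, hyN, hyU⟩ := mem_closure_iff.mp hx N hNo hxN
  have hξ : ξ ∈ U := (hN y hyN).mem_open hU hyU
  exact closure_mono (Set.singleton_subset_iff.mpr hξ)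
    (specializes_iff_mem_closure.mp (hN z hz))

open AlgebraicGeometry in
/-- The kernel of a quasi-compact morphism with reduced source is the vanishing ideal of the
closure of its image. -/
lemma ker_eq_vanishingIdeal_closure {X Y : Scheme.{u}} [IsReduced X] (i : X ⟶ Y) [QuasiCompact i] :
    i.ker = Scheme.IdealSheafData.vanishingIdeal ⟨closure (Set.range i), isClosed_closure⟩ := by
  have h : i.ker = Scheme.IdealSheafData.vanishingIdeal i.ker.support := by
    rw [Scheme.IdealSheafData.vanishingIdeal_support]
    refine le_antisymm (Scheme.IdealSheafData.le_radical _) fun U a ha ↦ ?_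
    rw [Scheme.Hom.ker_apply, RingHom.mem_ker]
    obtain ⟨n, hn⟩ := ha
    rw [Scheme.Hom.ker_apply, RingHom.mem_ker, map_pow] at hn
    exact IsReduced.eq_zero _ ⟨n, hn⟩
  rw [h]
  congr 1
  exact TopologicalSpace.Closeds.ext (Scheme.Hom.support_ker i)

/-- Let S be a normal, locally Noetherian scheme over a field of characteristic 0. Let p : G → S and q :
H → S be smooth morphisms with sections e_G and e_H, and f : G → H an étale morphism over S with f ∘
e_G = e_H (the case in view: an étale homomorphism of smooth group schemes and their unit sections).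
Call such a pointed S-scheme aligned when the scheme-theoretic image of its section is étale over S.
If H is aligned then G is aligned. (The published statement has an arbitrary locally Noetherian
base; over the reducible curve xy = 0 the étale group scheme obtained from two copies of the base
glued along the complement of one branch maps to the trivial group by an étale homomorphism and is
not aligned, so the base is taken normal here, where the closure of the section is a union of
connected components of the preimage of the image of e_H. Schemes only.) -/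
theorem result {k : Type u} [Field k] [CharZero k] {S : Scheme.{u}} (σ : S ⟶ Spec (CommRingCat.of k)) [IsLocallyNoetherian S] (hS : Pi1.IsNormalScheme S)
    {G H : Scheme.{u}} (p : G ⟶ S) (q : H ⟶ S) [Smooth p] [Smooth q]
    (eG : S ⟶ G) (eH : S ⟶ H) (heG : eG ≫ p = 𝟙 S) (heH : eH ≫ q = 𝟙 S)
    (f : G ⟶ H) [Etale f] (hf : f ≫ q = p) (hfe : eG ≫ f = eH)
    (hH : Etale (eH.ker.subschemeι ≫ q)) :
    Etale (eG.ker.subschemeι ≫ p) := by
  let j := eH.ker.subschemeι
  let W := Limits.pullback f j
  let i : W ⟶ G := Limits.pullback.fst f j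
  let w : W ⟶ S := Limits.pullback.snd f j ≫ j ≫ q
  have hw : i ≫ p = w := by
    rw [← hf, Limits.pullback.condition_assoc]
  haveI : Etale (j ≫ q) := hH
  haveI : Etale w := MorphismProperty.comp_mem _ _ _ inferInstance inferInstance
  haveI : IsLocallyNoetherian W := LocallyOfFiniteType.isLocallyNoetherian w
  haveI : IsReduced S := by
    haveI : ∀ s : S, _root_.IsReduced (S.presheaf.stalk s) := fun s ↦ by
      haveI := (hS s).1; infer_instance
    exact isReduced_of_isReduced_stalk S
  have hWd : ∀ x : W, IsDomain (W.presheaf.stalk x) := fun x ↦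
    (Groth.Agent.Unibranch.normal_stalk_of_etale w x (hS _)).1
  haveI : IsReduced W := by
    haveI : ∀ x : W, _root_.IsReduced (W.presheaf.stalk x) := fun x ↦ by
      haveI := hWd x; infer_instance
    exact isReduced_of_isReduced_stalk W
  let s : S ⟶ W := Limits.pullback.lift eG eH.toImage (by rw [hfe]; exact eH.toImage_imageι.symm)
  have hsi : s ≫ i = eG := Limits.pullback.lift_fst _ _ _
  have hsw : s ≫ w = 𝟙 S := by rw [← hw, ← Category.assoc, hsi, heG]
  haveI : IsOpenImmersion s := by
    haveI : IsOpenImmersion (s ≫ w) := by rw [hsw]; infer_instance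
    haveI : Etale (s ≫ w) := by rw [hsw]; infer_instance
    haveI : Mono s := by
      haveI : Mono (s ≫ w) := by rw [hsw]; infer_instance
      exact mono_of_mono s w
    haveI : Etale s := Etale.of_comp s w
    exact IsOpenImmersion.of_flat_of_mono s
  let C : W.Opens := ⟨closure (Set.range s),
    isOpen_closure_of_isDomain_stalk hWd s.isOpenEmbedding.isOpen_range⟩
  haveI : IsClosedImmersion C.ι :=
    IsClosedImmersion.of_isPreimmersion C.ι (by
      rw [Scheme.Opens.range_ι]; exact isClosed_closure)
  haveI : IsReduced C.toScheme := isReduced_of_isOpenImmersion C.ι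
  have hkC : s.ker = C.ι.ker := by
    rw [ker_eq_vanishingIdeal_closure s, ker_eq_vanishingIdeal_closure C.ι]
    congr 1
    apply TopologicalSpace.Closeds.ext
    show closure (Set.range s) = closure (Set.range C.ι)
    rw [Scheme.Opens.range_ι]
    exact closure_closure.symm
  haveI : IsClosedImmersion i := MorphismProperty.pullback_fst _ _ inferInstance
  have hk : eG.ker = (C.ι ≫ i).ker := by
    rw [← hsi, ← Scheme.IdealSheafData.map_ker, hkC, Scheme.IdealSheafData.map_ker]
  rw [hk]
  have he : (C.ι ≫ i).toImage ≫ (C.ι ≫ i).ker.subschemeι = C.ι ≫ i :=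
    (C.ι ≫ i).toImage_imageι
  rw [← MorphismProperty.cancel_left_of_respectsIso @Etale (C.ι ≫ i).toImage, ← Category.assoc,
    he, Category.assoc, hw]
  infer_instance

end Groth.Agent.S13424
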