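import Groth.Statements.S13425
import Mathlib
import Groth.Agent.S4809
import Groth.Agent.SmoothQFLib.Basic
import Groth.Agent.S1471
import Groth.Agent.AVLib.IdSub
import Groth.Agent.NearGen.SmoothDense

set_option autoImplicit false
universe u
open CategoryTheory AlgebraicGeometry
open NeronHD

namespace Groth.Agent.S13425

/-- A smooth quasi-finite morphism is formally unramified. -/
theorem formallyUnramified_of_smooth_lqf {P T : Scheme.{u}} (g : P ⟶ T) [Smooth g] [LocallyQuasiFinite g] :
    FormallyUnramified g := by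
  rw [HasRingHomProperty.iff_appLE (P := @FormallyUnramified)]
  intro U V e
  algebraize [(g.appLE U V e).hom]
  haveI : Algebra.Smooth Γ(T, U) Γ(P, V) := RingHom.smooth_algebraMap.mp (g.smooth_appLE U.2 V.2 e)
  haveI : Algebra.QuasiFinite Γ(T, U) Γ(P, V) :=
    RingHom.quasiFinite_algebraMap.mp (HasRingHomProperty.appLE (P := @LocallyQuasiFinite) g ‹_› U V e)
  haveI := Groth.Agent.SmoothQFLib.etale_of_smooth_quasiFinite Γ(T, U) Γ(P, V)
  exact RingHom.formallyUnramified_algebraMap.mpr inferInstance

theorem lqf_of_injective_points {k : Type u} [Field k] [IsAlgClosed k]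
    {X Y : Scheme.{u}} (sX : X ⟶ Spec (CommRingCat.of k)) (sY : Y ⟶ Spec (CommRingCat.of k))
    [LocallyOfFiniteType sX] [LocallyOfFiniteType sY] (f : X ⟶ Y) [LocallyOfFiniteType f] (hf : f ≫ sY = sX)
    (hinj : ∀ a b : Spec (CommRingCat.of k) ⟶ X, a ≫ sX = 𝟙 _ → b ≫ sX = 𝟙 _ → a ≫ f = b ≫ f → a = b) :
    LocallyQuasiFinite f := by
  haveI : JacobsonSpace X := LocallyOfFiniteType.jacobsonSpace sX
  have hpt : ∀ x x' : X, IsClosed ({x} : Set X) → IsClosed ({x'} : Set X) → f x = f x' → x = x' := by
    intro x x' hx hx' h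
    let a := pointOfClosedPoint sX x hx
    let b := pointOfClosedPoint sX x' hx'
    have hab : a = b := hinj a b (pointOfClosedPoint_comp sX x hx) (pointOfClosedPoint_comp sX x' hx')
      (ext_of_apply_closedPoint_eq sY (by rw [Category.assoc, hf]; exact pointOfClosedPoint_comp sX x hx)
        (by rw [Category.assoc, hf]; exact pointOfClosedPoint_comp sX x' hx')
        (by
          show f (pointOfClosedPoint sX x hx (IsLocalRing.closedPoint k)) = f (pointOfClosedPoint sX x' hx' (IsLocalRing.closedPoint k))
          exact (congrArg f (pointOfClosedPoint_apply sX x hx _)).trans (h.trans (congrArg f (pointOfClosedPoint_apply sX x' hx' _)).symm)))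
    rw [← pointOfClosedPoint_apply sX x hx (IsLocalRing.closedPoint k),
      ← pointOfClosedPoint_apply sX x' hx' (IsLocalRing.closedPoint k)]
    exact congrArg (fun m : Spec (CommRingCat.of k) ⟶ X => m (IsLocalRing.closedPoint k)) hab
  have hcl : ∀ x : X, IsClosed ({x} : Set X) → f.QuasiFiniteAt x := by
    intro x hx
    rw [Scheme.Hom.quasiFiniteAt_iff_isOpen_singleton_asFiber]
    have hy : IsClosed ({f x} : Set Y) := by
      let a := pointOfClosedPoint sX x hx ≫ f
      have ha : a ≫ sY = 𝟙 _ := by rw [Category.assoc, hf]; exact pointOfClosedPoint_comp sX x hx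
      have h := ((pointEquivClosedPoint sY) ⟨a, ha⟩).2
      have h' : (((pointEquivClosedPoint sY) ⟨a, ha⟩ : closedPoints Y) : Y) = f x := by
        exact congrArg f (pointOfClosedPoint_apply sX x hx _)
      rwa [h'] at h
    have hsub : f ⁻¹' {f x} ⊆ {x} := by
      have h1 := JacobsonSpace.closure_inter_closedPoints_eq_closure (X := X) (hy.preimage f.continuous).isLocallyClosed
      intro z hz
      have h2 : z ∈ closure (f ⁻¹' {f x}) := subset_closure hz
      rw [← h1] at h2
      refine hx.closure_eq ▸ closure_mono ?_ h2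
      rintro w ⟨hw1, hw2⟩
      exact hpt w x hw2 hx hw1
    have : ({f.asFiber x} : Set (f.fiber (f x))) = Set.univ := by
      refine Set.eq_univ_of_forall fun z => ?_
      apply (f.fiberHomeo (f x)).injective
      apply Subtype.ext
      have h2 := hsub ((f.fiberHomeo (f x) z).2)
      have h3 : ((f.fiberHomeo (f x)) (f.asFiber x) : X) = x := by simp [Scheme.Hom.asFiber]
      rw [h3]
      exact h2
    rw [this]
    exact isOpen_univ
  rw [← Scheme.Hom.quasiFiniteLocus_eq_top_iff]
  by_contra hne
  obtain ⟨z, hz⟩ := nonempty_inter_closedPoints (Z := (f.quasiFiniteLocus : Set X)ᶜ) (by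
      rw [Set.nonempty_compl]
      exact fun h => hne (TopologicalSpace.Opens.ext h)) f.quasiFiniteLocus.isOpen.isClosed_compl.isLocallyClosed
  exact hz.1 (Scheme.Hom.mem_quasiFiniteLocus.2 (hcl z hz.2))

theorem mono_of_injective_points {k : Type u} [Field k] [IsAlgClosed k]
    {U Y : Scheme.{u}} (sU : U ⟶ Spec (CommRingCat.of k)) (sY : Y ⟶ Spec (CommRingCat.of k))
    [LocallyOfFiniteType sU] [LocallyOfFiniteType sY] (g : U ⟶ Y) [FormallyUnramified g] [LocallyOfFiniteType g]
    (hg : g ≫ sY = sU)
    (hinj : ∀ a b : Spec (CommRingCat.of k) ⟶ U, a ≫ sU = 𝟙 _ → b ≫ sU = 𝟙 _ → a ≫ g = b ≫ g → a = b) :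
    Mono g := by
  let Δ := Limits.pullback.diagonal g
  let sP : Limits.pullback g g ⟶ Spec (CommRingCat.of k) := Limits.pullback.fst g g ≫ sU
  haveI : JacobsonSpace ↥(Limits.pullback g g) := LocallyOfFiniteType.jacobsonSpace sP
  have hcl : ∀ p : ↥(Limits.pullback g g), IsClosed ({p} : Set _) → p ∈ Set.range Δ := by
    intro p hp
    let q := pointOfClosedPoint sP p hp
    have hq : q ≫ sP = 𝟙 _ := pointOfClosedPoint_comp sP p hp
    have hab : q ≫ Limits.pullback.fst g g = q ≫ Limits.pullback.snd g g := by
      refine hinj _ _ (by rw [Category.assoc]; exact hq) ?_ (by rw [Category.assoc, Category.assoc, Limits.pullback.condition])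
      rw [← hg, Category.assoc, ← Limits.pullback.condition_assoc, hg]
      exact hq
    have hq' : q = (q ≫ Limits.pullback.fst g g) ≫ Δ := by
      apply Limits.pullback.hom_ext <;> simp [Δ, hab]
    refine ⟨(q ≫ Limits.pullback.fst g g) (IsLocalRing.closedPoint k), ?_⟩
    exact (congrArg (fun m : Spec (CommRingCat.of k) ⟶ Limits.pullback g g => m (IsLocalRing.closedPoint k)) hq').symm.trans
      (pointOfClosedPoint_apply sP p hp _)
  haveI : Surjective Δ := ⟨fun p => by
    by_contra hp
    have hO : IsOpen (Set.range Δ) := Δ.isOpenEmbedding.isOpen_range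
    obtain ⟨z, hz⟩ := nonempty_inter_closedPoints (Z := (Set.range Δ)ᶜ) ⟨p, hp⟩ hO.isClosed_compl.isLocallyClosed
    exact hz.1 (hcl z hz.2)⟩
  haveI : IsIso Δ := (isIso_iff_isOpenImmersion_and_surjective Δ).2 ⟨inferInstance, inferInstance⟩
  exact Limits.pullback.isIso_diagonal_iff g |>.1 inferInstance

/-- Let k be a characteristic-zero algebraically closed field and X, Y integral schemes, separated and
of finite type over k, with Y normal, and let f : X → Y be a dominant k-morphism which is injective
on k-rational points. Then f is an open immersion. (Case of schemes of a statement about algebraic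
spaces.) -/
theorem result {k : Type u} [Field k] [IsAlgClosed k] [CharZero k]
    {X Y : Scheme.{u}} (sX : X ⟶ Spec (CommRingCat.of k)) (sY : Y ⟶ Spec (CommRingCat.of k))
    [IsIntegral X] [IsIntegral Y] [IsSeparated sX] [IsSeparated sY]
    [LocallyOfFiniteType sX] [QuasiCompact sX] [LocallyOfFiniteType sY] [QuasiCompact sY]
    (hY : Pi1.IsNormalScheme Y)
    (f : X ⟶ Y) (hf : f ≫ sY = sX) [IsDominant f]
    (hinj : ∀ a b : Spec (CommRingCat.of k) ⟶ X, a ≫ sX = 𝟙 _ → b ≫ sX = 𝟙 _ → a ≫ f = b ≫ f → a = b) :
    IsOpenImmersion f := by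
  haveI : IsLocallyNoetherian Y := LocallyOfFiniteType.isLocallyNoetherian sY
  haveI : LocallyOfFiniteType f := by
    haveI : LocallyOfFiniteType (f ≫ sY) := by rw [hf]; infer_instance
    exact locallyOfFiniteType_of_comp f sY
  haveI : IsSeparated f := by
    haveI : IsSeparated (f ≫ sY) := by rw [hf]; infer_instance
    exact IsSeparated.of_comp f sY
  haveI : LocallyOfFinitePresentation f := inferInstance
  haveI := lqf_of_injective_points sX sY f hf hinj
  have hgen : f (genericPoint X) = genericPoint Y :=
    ((genericPoint_spec X).image f.continuous).eq (by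
      rw [Set.image_univ, f.denseRange.closure_eq]; exact genericPoint_spec Y)
  have hsep : GeometricallyReduced (f.fiberToSpecResidueField (f (genericPoint X))) := by
    haveI : IsReduced (f.fiber (f (genericPoint X))) := by
      rw [hgen]
      exact Groth.Agent.S1471.isReduced_fiber_of_max f _ fun y' hy' =>
        (hy'.antisymm (genericPoint_specializes y')).eq
    haveI : CharZero (Y.residueField (f (genericPoint X))) :=
      charZero_of_injective_ringHom (Spec.preimage (Y.fromSpecResidueField (f (genericPoint X)) ≫ sY)).hom.injective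
    exact Groth.Agent.AVLib.geometricallyReduced_of_perfect (K := Y.residueField (f (genericPoint X)))
      (f.fiberToSpecResidueField (f (genericPoint X)))
  let U : X.Opens := f.smoothLocus
  have hξU : genericPoint X ∈ U := by
    obtain ⟨x, -, hx⟩ := dense_iff_inter_open.1 (Groth.Agent.NearGen.dense_smoothLocus f hsep) _ isOpen_univ
      ⟨genericPoint X, trivial⟩
    exact ((genericPoint_spec X).specializes (Set.mem_univ x)).mem_open U.isOpen hx
  haveI : Smooth (U.ι ≫ f) := by
    rw [← Scheme.Hom.smoothLocus_eq_top_iff, ← Scheme.Hom.preimage_smoothLocus_eq]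
    exact U.ι_preimage_self
  haveI : FormallyUnramified (U.ι ≫ f) := formallyUnramified_of_smooth_lqf _
  haveI : Mono (U.ι ≫ f) := mono_of_injective_points (U.ι ≫ sX) sY (U.ι ≫ f) (by rw [Category.assoc, hf])
    fun a b ha hb hab => by
      rw [← cancel_mono U.ι]
      exact hinj _ _ (by rw [Category.assoc]; exact ha) (by rw [Category.assoc]; exact hb)
        (by rw [Category.assoc, Category.assoc]; exact hab)
  haveI : IsOpenImmersion (U.ι ≫ f) := IsOpenImmersion.of_flat_of_mono _
  let ξ : U.toScheme := ⟨genericPoint X, hξU⟩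
  haveI hbir : IsIso (f.stalkMap (U.ι ξ)) := by
    have h1 : IsIso ((U.ι ≫ f).stalkMap ξ) := inferInstance
    rw [Scheme.Hom.stalkMap_comp] at h1
    haveI := h1
    haveI : IsIso (U.ι.stalkMap ξ) := inferInstance
    exact @IsIso.of_isIso_comp_right _ _ _ _ _ (f.stalkMap (U.ι ξ)) (U.ι.stalkMap ξ) _ h1
  exact (Groth.Agent.S4809.result (fun y => (hY y).2) f hgen hbir).2 inferInstance

end Groth.Agent.S13425
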