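import Groth.Statements.S13427
import Groth.Agent.NeronMapLib.Basic
import Mathlib

set_option autoImplicit false
universe u
open CategoryTheory AlgebraicGeometry
open NeronHD

namespace Groth.Agent.S13427

open CategoryTheory CategoryTheory.Limits AlgebraicGeometry Groth.Agent.NeronMapLib
set_option backward.isDefEq.respectTransparency false

/-- Let S be a locally Noetherian scheme over a field of characteristic 0, S₀ ⊆ S a scheme-theoretically
dense open, and G, H smooth S-schemes with the Néron mapping property for S₀ ⊆ S (restriction to S₀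
of S-morphisms from smooth S-schemes is bijective). Let f : G → H be an S-morphism and e : S → H a
section of H → S, and let K = G ×_H S be the fibre of f over e (the case in view: f a homomorphism
of smooth group schemes, e the unit, K the kernel, so that 1 → K → G → H is left exact). If K → S is
smooth, then K has the Néron mapping property for S₀ ⊆ S. (Case of schemes, with smooth test
schemes, of a statement about group algebraic spaces.) -/
theorem result {k : Type u} [Field k] [CharZero k] {S : Scheme.{u}} (σ : S ⟶ Spec (CommRingCat.of k)) [IsLocallyNoetherian S] (S₀ : S.Opens) (hS₀ : CInt.IsSchematicallyDense S₀)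
    (G H : Over S) [Smooth G.hom] [Smooth H.hom]
    (hG : ∀ Z : Over S, Smooth Z.hom → Function.Bijective (fun g : Z ⟶ G => (Over.pullback S₀.ι).map g))
    (hH : ∀ Z : Over S, Smooth Z.hom → Function.Bijective (fun g : Z ⟶ H => (Over.pullback S₀.ι).map g))
    (f : G ⟶ H) (e : S ⟶ H.left) (he : e ≫ H.hom = 𝟙 S)
    [Smooth (Limits.pullback.snd f.left e)] :
    ∀ Z : Over S, Smooth Z.hom → Function.Bijective (fun g : Z ⟶ Over.mk (Limits.pullback.snd f.left e) => (Over.pullback S₀.ι).map g) := by
  intro Z hZ
  rw [bijective_iff_preimage]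
  intro h hh
  set w := (Z.hom ⁻¹ᵁ S₀).ι
  have hh' : h ≫ pullback.snd f.left e = w ≫ Z.hom := hh
  have hG' : pullback.fst f.left e ≫ G.hom = pullback.snd f.left e := by
    rw [← Over.w f, ← Category.assoc, pullback.condition, Category.assoc, he, Category.comp_id]
  obtain ⟨a, ⟨ha, ha'⟩, hau⟩ := (bijective_iff_preimage S₀ Z G).1 (hG Z hZ) (h ≫ pullback.fst _ _) (by
    rw [Category.assoc, hG', hh'])
  have hfe : a ≫ f.left = Z.hom ≫ e := by
    obtain ⟨c, -, hcu⟩ := (bijective_iff_preimage S₀ Z H).1 (hH Z hZ) (w ≫ Z.hom ≫ e) (by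
      simp only [Category.assoc, he, Category.comp_id]
      rfl)
    rw [hcu (a ≫ f.left) ⟨by rw [Category.assoc, Over.w, ha], ?_⟩, hcu (Z.hom ≫ e) ⟨by rw [Category.assoc, he, Category.comp_id], rfl⟩]
    rw [← Category.assoc, ha', Category.assoc, pullback.condition, ← Category.assoc, hh', Category.assoc]
  refine ⟨pullback.lift a Z.hom hfe, ⟨pullback.lift_snd _ _ _, ?_⟩, fun g hg => ?_⟩
  · apply pullback.hom_ext
    · rw [Category.assoc, pullback.lift_fst, ha']
    · rw [Category.assoc, pullback.lift_snd, hh']
  · obtain ⟨hg1, hg2⟩ : g ≫ pullback.snd f.left e = Z.hom ∧ w ≫ g = h := hg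
    apply pullback.hom_ext
    · rw [pullback.lift_fst]
      exact hau _ ⟨by rw [Category.assoc, hG', hg1], by rw [← Category.assoc, hg2]⟩
    · rw [pullback.lift_snd, hg1]

end Groth.Agent.S13427
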