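import Groth.Statements.S13428
import Mathlib
import Groth.Agent.RatDense.Basic

set_option autoImplicit false
universe u
open CategoryTheory AlgebraicGeometry
open NeronHD

namespace Groth.Agent.S13428

theorem reldim_zero {A B C : Type u} [CommRing A] [CommRing B] [CommRing C] [Nontrivial C]
    (φ : A →+* B) (hφ : φ.IsStandardSmooth) (ψ : B →+* C)
    (hψ : RingHom.IsStandardSmoothOfRelativeDimension 0 ψ)
    (hc : RingHom.IsStandardSmoothOfRelativeDimension 0 (ψ.comp φ)) :
    RingHom.IsStandardSmoothOfRelativeDimension 0 φ := by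
  letI := φ.toAlgebra
  haveI : Algebra.IsStandardSmooth A B := hφ
  obtain ⟨ι, σ, _, _, ⟨P⟩⟩ := ‹Algebra.IsStandardSmooth A B›.out
  have hn : Algebra.IsStandardSmoothOfRelativeDimension P.dimension A B :=
    P.isStandardSmoothOfRelativeDimension rfl
  have h1 : RingHom.IsStandardSmoothOfRelativeDimension P.dimension φ := hn
  have h2 := hψ.comp h1
  rw [zero_add] at h2
  letI := (ψ.comp φ).toAlgebra
  haveI : Algebra.IsStandardSmoothOfRelativeDimension P.dimension A C := h2
  haveI : Algebra.IsStandardSmoothOfRelativeDimension 0 A C := hc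
  have h3 := Algebra.IsStandardSmoothOfRelativeDimension.rank_kaehlerDifferential (R := A) (S := C) P.dimension
  rw [Algebra.IsStandardSmoothOfRelativeDimension.rank_kaehlerDifferential 0] at h3
  have h4 : P.dimension = 0 := by exact_mod_cast h3.symm
  rwa [h4] at h1

/-- A smooth morphism which is étale on a dense open is étale. -/
theorem etale_of_dense {X Y : Scheme.{u}} (f : X ⟶ Y) [Smooth f] (D : X.Opens) (hD : Dense (D : Set X))
    [Etale (D.ι ≫ f)] : Etale f := by
  rw [Etale.iff_smoothOfRelativeDimension_zero]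
  refine ⟨fun x => ?_⟩
  obtain ⟨U, hU, V, hV, hxV, e, hstd⟩ := Smooth.exists_isStandardSmooth f x
  refine ⟨U, hU, V, hV, hxV, e, ?_⟩
  obtain ⟨y, hyV, hyD⟩ := dense_iff_inter_open.1 hD V V.isOpen ⟨x, hxV⟩
  obtain ⟨a, haD, hya⟩ := hV.exists_basicOpen_le ⟨y, hyD⟩ hyV
  let W := X.basicOpen a
  have hWV : W ≤ V := X.basicOpen_le a
  have eW : W ≤ f ⁻¹ᵁ U := hWV.trans e
  haveI : Etale (f.resLE U W eW) := by
    haveI : Etale (f.resLE U W eW ≫ U.ι) := by
      rw [Scheme.Hom.resLE_comp_ι, show W.ι = X.homOfLE haD ≫ D.ι from (Scheme.homOfLE_ι _ _).symm, Category.assoc]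
      infer_instance
    exact Etale.of_comp _ U.ι
  have hW : IsAffineOpen W := hV.basicOpen a
  haveI : IsAffine U.toScheme := hU
  haveI : IsAffine W.toScheme := hW
  have h := (f.resLE U W eW).etale_appLE (U := ⊤) (isAffineOpen_top _) (V := ⊤) (isAffineOpen_top _) le_top
  have e2 := Scheme.Hom.resLE_appLE f eW ⊤ ⊤ le_top
  erw [e2, Scheme.Hom.appLE_congr _ _ (Scheme.Opens.ι_image_top U) (Scheme.Opens.ι_image_top W)
    (fun {R S} g => g.hom.Etale)] at h
  haveI : IsLocalization.Away a Γ(X, W) := hV.isLocalization_basicOpen a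
  haveI : Nonempty W := ⟨⟨y, hya⟩⟩
  refine reldim_zero _ hstd (X.presheaf.map (homOfLE hWV).op).hom
    (RingHom.IsStandardSmoothOfRelativeDimension.algebraMap_isLocalizationAway a) ?_
  rw [← CommRingCat.hom_comp, Scheme.Hom.appLE_map, ← RingHom.etale_iff_isStandardSmoothOfRelativeDimension_zero]
  exact h

theorem mono_of_dense {S M N : Scheme.{u}} (φ : M ⟶ N) [Etale φ] [IsSeparated φ] (D : N.Opens)
    (hD : Dense (D : Set N))
    (h : ∀ {W : Scheme.{u}} (a b : W ⟶ M), a ≫ φ = b ≫ φ → (∀ w, φ (a w) ∈ D) → a = b) : Mono φ := by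
  let P := Limits.pullback φ φ
  let Δ := Limits.pullback.diagonal φ
  let Q : P.Opens := ⟨(Set.range Δ)ᶜ, Δ.isClosedEmbedding.isClosed_range.isOpen_compl⟩
  let T : P.Opens := Q ⊓ (Limits.pullback.fst φ φ ≫ φ) ⁻¹ᵁ D
  have hT : ∀ p : P, p ∉ T := by
    intro p hp
    let a := T.ι ≫ Limits.pullback.fst φ φ
    let b := T.ι ≫ Limits.pullback.snd φ φ
    have hab : a = b := h a b (by simp only [a, b, Category.assoc, Limits.pullback.condition])
      fun w => by
        have := w.2.2
        exact this
    have hfac : T.ι = a ≫ Δ := by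
      apply Limits.pullback.hom_ext
      · simp [a, Δ]
      · simp only [Δ, Category.assoc, Limits.pullback.diagonal_snd, Category.comp_id]
        rw [hab]
    apply hp.1
    refine ⟨a ⟨p, hp⟩, ?_⟩
    show (a ≫ Δ) ⟨p, hp⟩ = p
    rw [← hfac]
    rfl
  have hQ : ∀ p : P, p ∈ Set.range Δ := by
    intro p
    by_contra hp
    haveI : Etale (Limits.pullback.fst φ φ ≫ φ) := inferInstance
    obtain ⟨n, hn, hnD⟩ := dense_iff_inter_open.1 hD _
      ((Limits.pullback.fst φ φ ≫ φ).isOpenMap _ Q.isOpen) ⟨_, p, hp, rfl⟩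
    obtain ⟨q, hq, rfl⟩ := hn
    exact hT q ⟨hq, hnD⟩
  haveI : Surjective Δ := ⟨hQ⟩
  haveI : IsIso Δ := (isIso_iff_isOpenImmersion_and_surjective Δ).2 ⟨inferInstance, inferInstance⟩
  exact Limits.pullback.isIso_diagonal_iff φ |>.1 inferInstance

/-- Let S be a normal Noetherian scheme over a field of characteristic 0 and S₀ ⊆ S a
scheme-theoretically dense open. Let N be a smooth, separated and quasi-compact S-scheme with the
Néron mapping property for S₀ ⊆ S (restriction to S₀ of S-morphisms from smooth S-schemes is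
bijective) such that N|S₀ → S₀ is étale, so that N is a quasi-projective Néron model of the
quasi-projective étale S₀-scheme N|S₀. If M is a separated, quasi-compact, étale S-scheme and φ : M
→ N is an S-morphism restricting to an isomorphism over S₀ (so M is another quasi-projective étale
extension of N|S₀, and φ is its canonical map to the Néron model), then φ is an open immersion.
(Case of schemes of the published statement.) -/
theorem result {k : Type u} [Field k] [CharZero k] {S : Scheme.{u}} (σ : S ⟶ Spec (CommRingCat.of k)) [IsNoetherian S] (hS : Pi1.IsNormalScheme S) (S₀ : S.Opens) (hS₀ : CInt.IsSchematicallyDense S₀)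
    (N : Over S) [Smooth N.hom] [IsSeparated N.hom] [QuasiCompact N.hom]
    (hN : ∀ Z : Over S, Smooth Z.hom → Function.Bijective (fun g : Z ⟶ N => (Over.pullback S₀.ι).map g))
    [Etale ((Over.pullback S₀.ι).obj N).hom]
    (M : Over S) [Etale M.hom] [IsSeparated M.hom] [QuasiCompact M.hom]
    (φ : M ⟶ N) [IsIso ((Over.pullback S₀.ι).map φ)] :
    IsOpenImmersion φ.left := by
  have hd : Dense (S₀ : Set S) := RatDense.dense_of_isSchematicallyDense hS₀
  let D : N.left.Opens := N.hom ⁻¹ᵁ S₀
  have hDd : Dense (D : Set N.left) := hd.preimage N.hom.isOpenMap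
  haveI : Etale (D.ι ≫ N.hom) := by
    have h1 : Etale (N.hom ∣_ S₀) := by
      have h2 : Etale (Limits.pullback.snd N.hom S₀.ι) := (inferInstance : Etale ((Over.pullback S₀.ι).obj N).hom)
      show Etale ((pullbackRestrictIsoRestrict N.hom S₀).inv ≫ Limits.pullback.snd N.hom S₀.ι)
      infer_instance
    show Etale ((N.hom ⁻¹ᵁ S₀).ι ≫ N.hom)
    rw [← morphismRestrict_ι]
    infer_instance
  haveI : Etale N.hom := etale_of_dense N.hom D hDd
  haveI : Etale φ.left := by
    haveI : Etale (φ.left ≫ N.hom) := by rw [Over.w]; infer_instance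
    exact Etale.of_comp _ N.hom
  haveI : IsSeparated φ.left := by
    haveI : IsSeparated (φ.left ≫ N.hom) := by rw [Over.w]; infer_instance
    exact IsSeparated.of_comp φ.left N.hom
  haveI : Mono φ.left := mono_of_dense (S := S) φ.left D hDd fun {W} a b hab hD => by
    let h0 := IsOpenImmersion.lift S₀.ι (a ≫ M.hom) (by
      rw [Scheme.Opens.range_ι]
      rintro _ ⟨w, rfl⟩
      show M.hom (a w) ∈ S₀
      rw [← Over.w φ]
      exact hD w)
    have hh : h0 ≫ S₀.ι = a ≫ M.hom := IsOpenImmersion.lift_fac _ _ _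
    have hh' : h0 ≫ S₀.ι = b ≫ M.hom := by
      rw [hh, ← Over.w φ, ← Category.assoc, hab, Category.assoc]
    let a' : W ⟶ ((Over.pullback S₀.ι).obj M).left := Limits.pullback.lift a h0 hh.symm
    let b' : W ⟶ ((Over.pullback S₀.ι).obj M).left := Limits.pullback.lift b h0 hh'.symm
    haveI : IsIso ((Over.pullback S₀.ι).map φ).left := Functor.map_isIso (Over.forget _) ((Over.pullback S₀.ι).map φ)
    have h3 : a' = b' := by
      rw [← cancel_mono ((Over.pullback S₀.ι).map φ).left]
      apply Limits.pullback.hom_ext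
      · simp only [a', b', Over.pullback_map_left, Category.assoc]
        erw [Limits.pullback.lift_fst, Limits.pullback.lift_fst_assoc, Limits.pullback.lift_fst_assoc]
        exact hab
      · simp only [a', b', Over.pullback_map_left, Category.assoc]
        erw [Limits.pullback.lift_snd, Limits.pullback.lift_snd, Limits.pullback.lift_snd]
    exact ((Limits.pullback.lift_fst a h0 hh.symm).symm.trans
      (congrArg (fun m => m ≫ Limits.pullback.fst M.hom S₀.ι) h3)).trans (Limits.pullback.lift_fst b h0 hh'.symm)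
  exact IsOpenImmersion.of_flat_of_mono φ.left

end Groth.Agent.S13428
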