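import Groth.Statements.S13432
import Mathlib
import Groth.Agent.NeronHDLib.EtaleImage
import Groth.Agent.RegLocLib.NorLocus
import Groth.Agent.RatDense.Basic

set_option autoImplicit false
universe u
open CategoryTheory AlgebraicGeometry
open NeronHD

namespace Groth.Agent.S13432

theorem isNormalRing_sections {X : Scheme.{u}} (hX : Pi1.IsNormalScheme X) {W : X.Opens} (hW : IsAffineOpen W) :
    EGA4.IsNormalRing Γ(X, W) := fun p hp => by
  let y : PrimeSpectrum Γ(X, W) := ⟨p, hp⟩
  have hy : hW.fromSpec y ∈ W := by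
    rw [← SetLike.mem_coe, ← hW.range_fromSpec]; exact Set.mem_range_self _
  letI := X.presheaf.algebra_section_stalk (⟨hW.fromSpec y, hy⟩ : W)
  haveI : IsLocalization.AtPrime (X.presheaf.stalk (hW.fromSpec y)) p := hW.isLocalization_stalk' y hy
  let e := (IsLocalization.algEquiv p.primeCompl (X.presheaf.stalk (hW.fromSpec y)) (Localization.AtPrime p)).toRingEquiv
  haveI := (hX (hW.fromSpec y)).1
  haveI := (hX (hW.fromSpec y)).2
  haveI hd : IsDomain (Localization.AtPrime p) := e.symm.injective.isDomain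
  exact ⟨hd, IsIntegrallyClosed.of_equiv e⟩

/-- Maps out of a reduced scheme into a separated one agree as soon as they agree on a dense open. -/
theorem ext_dense {X T S : Scheme.{u}} [IsReduced X] (s : T ⟶ S) [IsSeparated s] (O : X.Opens)
    (hO : Dense (O : Set X)) {a b : X ⟶ T} (h : a ≫ s = b ≫ s) (h' : O.ι ≫ a = O.ι ≫ b) : a = b := by
  haveI : IsDominant O.ι := ⟨by rw [DenseRange, Scheme.Opens.range_ι]; exact hO⟩
  exact ext_of_isDominant_of_isSeparated s h O.ι h'

theorem dense_preimage {X Y : Scheme.{u}} (f : X ⟶ Y) [IsOpenImmersion f] {O : Y.Opens} (hO : Dense (O : Set Y)) :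
    Dense ((f ⁻¹ᵁ O : X.Opens) : Set X) :=
  hO.preimage f.isOpenEmbedding.isOpenMap

/-- Local extension into a finite scheme, landing in the smooth locus. -/
theorem exists_local {S Z T : Scheme.{u}} [IsNoetherian S] (hS : Pi1.IsNormalScheme S) (π : T ⟶ S)
    [IsFinite π] [LocallyOfFinitePresentation π] (hT : Pi1.IsNormalScheme T) (f : Z ⟶ S) [Smooth f]
    (D : Z.Opens) (hD : Dense (D : Set Z)) (k₀ : (D : Scheme.{u}) ⟶ T) (hk₀ : k₀ ≫ π = D.ι ≫ f) (z : Z) :
    ∃ (W : Z.Opens), z ∈ W ∧ IsReduced (W : Scheme.{u}) ∧ ∃ k : (W : Scheme.{u}) ⟶ T,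
      k ≫ π = W.ι ≫ f ∧ Z.homOfLE (inf_le_left : W ⊓ D ≤ W) ≫ k = Z.homOfLE (inf_le_right : W ⊓ D ≤ D) ≫ k₀ ∧
      ∀ w, k w ∈ π.smoothLocus := by
  obtain ⟨U, hU, hzU⟩ : ∃ U : S.Opens, IsAffineOpen U ∧ f z ∈ U := by
    obtain ⟨_, ⟨U, hU, rfl⟩, hzU, -⟩ :=
      S.isBasis_affineOpens.exists_subset_of_mem_open (Set.mem_univ (f z)) isOpen_univ
    exact ⟨U, hU, hzU⟩
  obtain ⟨V, hV, hzV, hVU⟩ : ∃ V : Z.Opens, IsAffineOpen V ∧ z ∈ V ∧ V ≤ f ⁻¹ᵁ U := by
    obtain ⟨_, ⟨V, hV, rfl⟩, hzV, hVU⟩ := Z.isBasis_affineOpens.exists_subset_of_mem_open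
      (show z ∈ f ⁻¹ᵁ U from hzU) (f ⁻¹ᵁ U).isOpen
    exact ⟨V, hV, hzV, hVU⟩
  haveI : IsNoetherianRing Γ(S, U) := IsLocallyNoetherian.component_noetherian ⟨U, hU⟩
  haveI : IsLocallyNoetherian Z := LocallyOfFiniteType.isLocallyNoetherian f
  haveI : IsNoetherianRing Γ(Z, V) := IsLocallyNoetherian.component_noetherian ⟨V, hV⟩
  have hnV : EGA4.IsNormalRing Γ(Z, V) := by
    letI := (f.appLE U V hVU).hom.toAlgebra
    haveI : Algebra.Smooth Γ(S, U) Γ(Z, V) := HasRingHomProperty.appLE @Smooth f inferInstance ⟨U, hU⟩ ⟨V, hV⟩ hVU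
    exact (Groth.Agent.S1182.result Γ(S, U) Γ(Z, V)).1 (isNormalRing_sections hS hU)
  haveI := (hnV (hV.primeIdealOf ⟨z, hzV⟩).asIdeal).1
  obtain ⟨a, ha, hdom⟩ := RegLocLib.exists_isDomain_away (hV.primeIdealOf ⟨z, hzV⟩)
  let W := Z.basicOpen a
  have hW : IsAffineOpen W := hV.basicOpen a
  have hzW : z ∈ W := by
    have h1 : hV.primeIdealOf ⟨z, hzV⟩ ∈ hV.fromSpec ⁻¹ᵁ Z.basicOpen a := by
      rw [hV.fromSpec_preimage_basicOpen]
      exact ha
    have h2 : hV.fromSpec (hV.primeIdealOf ⟨z, hzV⟩) ∈ W := h1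
    rwa [hV.fromSpec_primeIdealOf] at h2
  haveI : IsLocalization.Away a Γ(Z, W) := hV.isLocalization_basicOpen a
  haveI : IsDomain Γ(Z, W) :=
    (IsLocalization.algEquiv (Submonoid.powers a) Γ(Z, W) (Localization.Away a)).toRingEquiv.injective.isDomain
  have hWU : W ≤ f ⁻¹ᵁ U := (Z.basicOpen_le a).trans hVU
  haveI : IsNoetherianRing Γ(Z, W) := IsLocallyNoetherian.component_noetherian ⟨W, hW⟩
  have hTU : IsAffineOpen (π ⁻¹ᵁ U) := hU.preimage π
  let A := Γ(S, U)
  let B := Γ(T, π ⁻¹ᵁ U)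
  let C := Γ(Z, W)
  letI : Algebra A B := (π.appLE U (π ⁻¹ᵁ U) le_rfl).hom.toAlgebra
  letI : Algebra A C := (f.appLE U W hWU).hom.toAlgebra
  haveI : Algebra.Smooth A C := HasRingHomProperty.appLE @Smooth f inferInstance ⟨U, hU⟩ ⟨W, hW⟩ hWU
  haveI : Algebra.FinitePresentation A B :=
    HasRingHomProperty.appLE @LocallyOfFinitePresentation π inferInstance ⟨U, hU⟩ ⟨_, hTU⟩ le_rfl
  haveI : Module.Finite A B := by
    have h := IsFinite.finite_app (f := π) U hU
    rw [Scheme.Hom.app_eq_appLE] at h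
    exact h
  have hnC : EGA4.IsNormalRing C := (Groth.Agent.S1182.result A C).1 (isNormalRing_sections hS hU)
  haveI : IsIntegrallyClosed C := NormalTensor.isIntegrallyClosed_of_isNormalRing hnC
  haveI : IsReduced (W : Scheme.{u}) := by
    haveI : IsReduced (Spec Γ(Z, W)) := inferInstance
    exact isReduced_of_isOpenImmersion hW.isoSpec.hom
  let K := CommRingCat.of (FractionRing C)
  let ξ : Spec K ⟶ Z := Spec.map (CommRingCat.ofHom (algebraMap C (FractionRing C))) ≫ hW.fromSpec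
  have hgen : ∀ y : Spec K, ∀ w ∈ W, ξ y ⤳ w := by
    intro y w hw
    have h1 : (Spec.map (CommRingCat.ofHom (algebraMap C (FractionRing C))) y : PrimeSpectrum C) ⤳ hW.primeIdealOf ⟨w, hw⟩ := by
      refine (PrimeSpectrum.le_iff_specializes (Spec.map (CommRingCat.ofHom (algebraMap C (FractionRing C))) y : PrimeSpectrum C) (hW.primeIdealOf ⟨w, hw⟩)).1 ?_
      intro c hc
      have h0 : algebraMap C (FractionRing C) c ∈ (y : PrimeSpectrum (FractionRing C)).asIdeal := hc
      rw [(Ideal.eq_bot_or_top _).resolve_right (y : PrimeSpectrum (FractionRing C)).isPrime.ne_top, Ideal.mem_bot,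
        map_eq_zero_iff _ (IsFractionRing.injective C (FractionRing C))] at h0
      rw [h0]
      exact zero_mem _
    have h2 := h1.map hW.fromSpec.continuous
    rw [hW.fromSpec_primeIdealOf] at h2
    exact h2
  have hξD : ∀ y : Spec K, ξ y ∈ W ⊓ D := by
    intro y
    refine ⟨by rw [← hW.range_fromSpec]; exact ⟨Spec.map (CommRingCat.ofHom (algebraMap C (FractionRing C))) y, rfl⟩, ?_⟩
    obtain ⟨w, hwW, hwD⟩ := dense_iff_inter_open.1 hD W W.isOpen ⟨z, hzW⟩
    exact (hgen y w hwW).mem_open D.isOpen hwD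
  let ξ' : Spec K ⟶ (W ⊓ D : Z.Opens) := IsOpenImmersion.lift (W ⊓ D).ι ξ (by
    rw [Scheme.Opens.range_ι]; rintro _ ⟨y, rfl⟩; exact hξD y)
  have hξ' : ξ' ≫ (W ⊓ D).ι = ξ := IsOpenImmersion.lift_fac _ _ _
  let j : Spec K ⟶ T := ξ' ≫ Z.homOfLE inf_le_right ≫ k₀
  have hj : j ≫ π = ξ ≫ f := by
    simp only [j, Category.assoc, hk₀, Scheme.homOfLE_ι_assoc]
    rw [← Category.assoc, hξ']
  have hjU : Set.range j ⊆ Set.range hTU.fromSpec := by
    rintro _ ⟨y, rfl⟩
    rw [hTU.range_fromSpec]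
    show (j ≫ π) y ∈ U
    rw [hj]
    exact hWU (hξD y).1
  let ψ : CommRingCat.of B ⟶ K := Spec.preimage (IsOpenImmersion.lift hTU.fromSpec j hjU)
  have hψ : Spec.map ψ ≫ hTU.fromSpec = j := by
    rw [Spec.map_preimage, IsOpenImmersion.lift_fac]
  have hψA : π.appLE U (π ⁻¹ᵁ U) le_rfl ≫ ψ = f.appLE U W hWU ≫ CommRingCat.ofHom (algebraMap C (FractionRing C)) := by
    apply Spec.map_injective
    rw [← cancel_mono hU.fromSpec, Spec.map_comp, Spec.map_comp, Category.assoc, Category.assoc,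
      IsAffineOpen.SpecMap_appLE_fromSpec π hU hTU, IsAffineOpen.SpecMap_appLE_fromSpec f hU hW,
      ← Category.assoc, hψ, hj]
    exact Category.assoc _ _ _
  have hint : ∀ b : B, ψ.hom b ∈ Set.range (algebraMap C (FractionRing C)) := by
    intro b
    obtain ⟨p, hp, hpb⟩ := Algebra.IsIntegral.isIntegral (R := A) b
    have h1 : IsIntegral C (ψ.hom b) := by
      refine ⟨p.map (algebraMap A C), hp.map _, ?_⟩
      rw [Polynomial.eval₂_map, show (algebraMap C (FractionRing C)).comp (algebraMap A C) = ψ.hom.comp (algebraMap A B) from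
        (congrArg CommRingCat.Hom.hom hψA).symm, ← Polynomial.hom_eval₂, hpb, map_zero]
    exact IsIntegrallyClosed.isIntegral_iff.1 h1
  let e := RingEquiv.ofBijective (algebraMap C (FractionRing C)).rangeRestrict
    ⟨fun x y h => IsFractionRing.injective C (FractionRing C) (congrArg Subtype.val h), RingHom.rangeRestrict_surjective _⟩
  let φ : B →+* C := e.symm.toRingHom.comp (ψ.hom.codRestrict _ fun b => RingHom.mem_range.2 (hint b))
  have hφ : CommRingCat.ofHom φ ≫ CommRingCat.ofHom (algebraMap C (FractionRing C)) = ψ := by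
    ext b
    exact congrArg Subtype.val (e.apply_symm_apply _)
  have hφA : π.appLE U (π ⁻¹ᵁ U) le_rfl ≫ CommRingCat.ofHom φ = f.appLE U W hWU := by
    ext x
    apply IsFractionRing.injective C (FractionRing C)
    exact (congrArg (fun m => (π.appLE U (π ⁻¹ᵁ U) le_rfl ≫ m) x) hφ).trans (congrArg (fun m => m x) hψA)
  let k : (W : Scheme.{u}) ⟶ T := W.toSpecΓ ≫ Spec.map (CommRingCat.ofHom φ) ≫ hTU.fromSpec
  have hkπ : k ≫ π = W.ι ≫ f := by
    simp only [k, Category.assoc]
    rw [← IsAffineOpen.SpecMap_appLE_fromSpec π hU hTU (le_refl _), ← Spec.map_comp_assoc, hφA,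
      IsAffineOpen.SpecMap_appLE_fromSpec f hU hW hWU, ← Category.assoc]
    exact congrArg (· ≫ f) hW.toSpecΓ_fromSpec
  refine ⟨W, hzW, inferInstance, k, hkπ, ?_, fun w => ?_⟩
  · haveI : IsReduced ((W ⊓ D : Z.Opens) : Scheme.{u}) :=
      isReduced_of_isOpenImmersion (Z.homOfLE (inf_le_left : W ⊓ D ≤ W))
    haveI : Nonempty (Spec K) := inferInstanceAs (Nonempty (PrimeSpectrum (FractionRing C)))
    haveI : IsDominant ξ' := ⟨fun x => by
      obtain ⟨y⟩ := (inferInstance : Nonempty (Spec K))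
      refine closure_mono (Set.singleton_subset_iff.2 (Set.mem_range_self y)) ?_
      rw [← specializes_iff_mem_closure, ← (W ⊓ D).ι.isEmbedding.isInducing.specializes_iff, ← Scheme.Hom.comp_apply, hξ']
      exact hgen y _ x.2.1⟩
    refine ext_of_isDominant_of_isSeparated π ?_ ξ' ?_
    · refine ((Category.assoc _ _ _).trans (congrArg _ hkπ)).trans ?_
      rw [Category.assoc, hk₀, Scheme.homOfLE_ι_assoc, Scheme.homOfLE_ι_assoc]
    · have h1 : ξ' ≫ Z.homOfLE (inf_le_left : W ⊓ D ≤ W) ≫ W.toSpecΓ =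
          Spec.map (CommRingCat.ofHom (algebraMap C (FractionRing C))) := by
        rw [← cancel_mono hW.fromSpec]
        simp only [Category.assoc]
        erw [hW.toSpecΓ_fromSpec]
        rw [Scheme.homOfLE_ι, hξ']
      show ξ' ≫ Z.homOfLE _ ≫ W.toSpecΓ ≫ Spec.map (CommRingCat.ofHom φ) ≫ hTU.fromSpec = j
      rw [← hψ, ← hφ, Spec.map_comp, ← h1]
      simp only [Category.assoc]
  · letI : Algebra B C := φ.toAlgebra
    haveI : IsScalarTower A B C := .of_algebraMap_eq' (congrArg CommRingCat.Hom.hom hφA).symm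
    let P : Spec C := W.toSpecΓ w
    obtain ⟨g, hgP, hg⟩ := NeronHDLib.exists_etale_away A B C (isNormalRing_sections hT hTU) P
    let V' := T.basicOpen g
    have hwV : k w ∈ V' := by
      show hTU.fromSpec (Spec.map (CommRingCat.ofHom φ) P) ∈ V'
      have h1 : Spec.map (CommRingCat.ofHom φ) P ∈ hTU.fromSpec ⁻¹ᵁ T.basicOpen g := by
        rw [hTU.fromSpec_preimage_basicOpen]
        exact hgP
      exact h1
    have eV : V' ≤ π ⁻¹ᵁ U := T.basicOpen_le g
    haveI : IsLocalization.Away g Γ(T, V') := hTU.isLocalization_basicOpen g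
    letI : Algebra A Γ(T, V') := (π.appLE U V' eV).hom.toAlgebra
    haveI : IsScalarTower A B Γ(T, V') :=
      .of_algebraMap_eq' (congrArg CommRingCat.Hom.hom (Scheme.Hom.appLE_map π le_rfl (homOfLE eV).op)).symm
    have het : Algebra.Etale A Γ(T, V') :=
      Algebra.Etale.of_equiv ((IsLocalization.algEquiv (Submonoid.powers g) (Localization.Away g) Γ(T, V')).restrictScalars A)
    haveI : IsAffine U.toScheme := hU
    haveI : IsAffine V'.toScheme := hTU.basicOpen g
    haveI : Etale (π.resLE U V' eV) := by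
      rw [HasRingHomProperty.iff_of_isAffine (P := @Etale)]
      haveI : (RingHom.toMorphismProperty RingHom.Etale).RespectsIso :=
        RingHom.toMorphismProperty_respectsIso_iff.mp RingHom.Etale.respectsIso
      exact (MorphismProperty.arrow_mk_iso_iff (RingHom.toMorphismProperty RingHom.Etale)
        (arrowResLEAppIso π U V' eV)).mpr het
    haveI : Smooth (V'.ι ≫ π) := by
      rw [← Scheme.Hom.resLE_comp_ι π eV]
      infer_instance
    have h3 : V'.ι ⁻¹ᵁ π.smoothLocus = ⊤ := by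
      rw [Scheme.Hom.preimage_smoothLocus_eq, Scheme.Hom.smoothLocus_eq_top]
    have h4 : (⟨k w, hwV⟩ : V'.toScheme) ∈ V'.ι ⁻¹ᵁ π.smoothLocus := by rw [h3]; trivial
    exact h4

/-- Let S be a normal Noetherian scheme over a field of characteristic 0 and S₀ ⊆ S a
scheme-theoretically dense open. Let π : T → S be finite with T normal, and let N ⊆ T be the open
subscheme where π is smooth (equivalently étale, π being finite). Then N → S has the Néron mapping
property for S₀ ⊆ S: for every smooth S-scheme Z, restriction to S₀ is a bijection from S-morphisms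
Z → N onto S₀-morphisms Z|S₀ → N|S₀. (In the published statement T is the normal finite S-scheme
compactifying a given quasi-projective étale S-scheme and N is the maximal quasi-projective étale
scheme containing it; that origin of T plays no role in this part of the proof, so any finite T → S
with T normal is allowed here. Case of schemes, with smooth test schemes, of a statement about
algebraic spaces.) -/
theorem result {k : Type u} [Field k] [CharZero k] {S : Scheme.{u}} (σ : S ⟶ Spec (CommRingCat.of k)) [IsNoetherian S] (hS : Pi1.IsNormalScheme S) (S₀ : S.Opens) (hS₀ : CInt.IsSchematicallyDense S₀)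
    {T : Scheme.{u}} (π : T ⟶ S) [IsFinite π] [LocallyOfFinitePresentation π] (hT : Pi1.IsNormalScheme T) :
    ∀ Z : Over S, Smooth Z.hom → Function.Bijective (fun g : Z ⟶ Over.mk (π.smoothLocus.ι ≫ π) => (Over.pullback S₀.ι).map g) := by
  intro Z hZ
  haveI := hZ
  haveI : IsLocallyNoetherian Z.left := LocallyOfFiniteType.isLocallyNoetherian Z.hom
  let D : Z.left.Opens := Z.hom ⁻¹ᵁ S₀
  have hD : Dense (D : Set Z.left) := (RatDense.dense_of_isSchematicallyDense hS₀).preimage Z.hom.isOpenMap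
  let N := π.smoothLocus
  let R := (Over.pullback S₀.ι)
  have hfst : ∀ g : Z ⟶ Over.mk (N.ι ≫ π), (R.map g).left ≫ Limits.pullback.fst (N.ι ≫ π) S₀.ι =
      Limits.pullback.fst Z.hom S₀.ι ≫ g.left := fun g => by
    simp only [R, Over.pullback_map_left]
    exact Limits.pullback.lift_fst ..
  let r := pullbackRestrictIsoRestrict Z.hom S₀
  have hr : r.inv ≫ Limits.pullback.fst Z.hom S₀.ι = D.ι := by
    rw [Iso.inv_comp_eq, pullbackRestrictIsoRestrict_hom_ι]
  have hloc : ∀ g₀ : R.obj Z ⟶ R.obj (Over.mk (N.ι ≫ π)),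
      (r.inv ≫ g₀.left ≫ Limits.pullback.fst (N.ι ≫ π) S₀.ι ≫ N.ι) ≫ π = D.ι ≫ Z.hom := fun g₀ => by
    have hw : g₀.left ≫ Limits.pullback.snd (N.ι ≫ π) S₀.ι = Limits.pullback.snd Z.hom S₀.ι := Over.w g₀
    have hc : Limits.pullback.fst (N.ι ≫ π) S₀.ι ≫ N.ι ≫ π = Limits.pullback.snd (N.ι ≫ π) S₀.ι ≫ S₀.ι :=
      Limits.pullback.condition
    simp only [Category.assoc]
    rw [hc, reassoc_of% hw, ← Limits.pullback.condition, reassoc_of% hr]
  constructor
  · intro g₁ g₂ hg
    haveI : IsReduced Z.left := by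
      haveI : ∀ x : Z.left, _root_.IsReduced (Z.left.presheaf.stalk x) := fun x => by
        obtain ⟨W, hx, hW, -⟩ := exists_local hS π hT Z.hom D hD _ (hloc (R.map g₁)) x
        haveI := hW
        let x' : W.toScheme := ⟨x, hx⟩
        haveI : IsIso (W.ι.stalkMap x') := inferInstance
        exact isReduced_of_injective (asIso (W.ι.stalkMap x')).commRingCatIsoToRingEquiv.toRingHom
          (asIso (W.ι.stalkMap x')).commRingCatIsoToRingEquiv.injective
      exact isReduced_of_isReduced_stalk _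
    apply Over.OverMorphism.ext
    rw [← cancel_mono N.ι]
    refine ext_dense π D hD ?_ ?_
    · rw [Category.assoc, Category.assoc]
      exact (Over.w g₁).trans (Over.w g₂).symm
    · rw [← hr, Category.assoc, Category.assoc, ← reassoc_of% (hfst g₁), ← reassoc_of% (hfst g₂),
        show R.map g₁ = R.map g₂ from hg]
  · intro g₀
    let k₀ := r.inv ≫ g₀.left ≫ Limits.pullback.fst (N.ι ≫ π) S₀.ι ≫ N.ι
    choose W hzW hWr k hk hkD hkN using exists_local hS π hT Z.hom D hD k₀ (hloc g₀)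
    have hW : TopologicalSpace.IsOpenCover W := TopologicalSpace.IsOpenCover.mk <| eq_top_iff.2 fun z _ => TopologicalSpace.Opens.mem_iSup.2 ⟨z, hzW z⟩
    have hcompat : ∀ x y, Z.left.homOfLE (inf_le_left : W x ⊓ W y ≤ W x) ≫ k x =
        Z.left.homOfLE (inf_le_right : W x ⊓ W y ≤ W y) ≫ k y := by
      intro x y
      haveI := hWr x
      haveI : IsReduced ((W x ⊓ W y : Z.left.Opens) : Scheme.{u}) :=
        isReduced_of_isOpenImmersion (Z.left.homOfLE (inf_le_left : W x ⊓ W y ≤ W x))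
      refine ext_dense π ((W x ⊓ W y).ι ⁻¹ᵁ D) (dense_preimage _ hD) ?_ ?_
      · rw [Category.assoc, Category.assoc, hk, hk, Scheme.homOfLE_ι_assoc, Scheme.homOfLE_ι_assoc]
      · let O := (W x ⊓ W y).ι ⁻¹ᵁ D
        let u : O.toScheme ⟶ Z.left := O.ι ≫ (W x ⊓ W y).ι
        have hu : ∀ V : Z.left.Opens, W x ⊓ W y ≤ V → Set.range u ⊆ Set.range (V ⊓ D).ι := by
          intro V hV
          rw [Scheme.Opens.range_ι]
          rintro _ ⟨o, rfl⟩
          exact ⟨hV o.1.2, o.2⟩
        have key : ∀ (v : Z.left) (hle : W x ⊓ W y ≤ W v), O.ι ≫ Z.left.homOfLE hle ≫ k v =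
            IsOpenImmersion.lift D.ι u ((hu _ hle).trans (by
              rw [Scheme.Opens.range_ι, Scheme.Opens.range_ι]; exact fun _ h => h.2)) ≫ k₀ := by
          intro v hle
          let u' := IsOpenImmersion.lift (W v ⊓ D).ι u (hu _ hle)
          have e1 : O.ι ≫ Z.left.homOfLE hle = u' ≫ Z.left.homOfLE inf_le_left := by
            rw [← cancel_mono (W v).ι]
            simp [u', u]
          have e2 : IsOpenImmersion.lift D.ι u ((hu _ hle).trans (by
              rw [Scheme.Opens.range_ι, Scheme.Opens.range_ι]; exact fun _ h => h.2)) =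
              u' ≫ Z.left.homOfLE inf_le_right := by
            rw [← cancel_mono D.ι]
            simp [u', u]
          rw [← Category.assoc, e1, e2, Category.assoc, Category.assoc, hkD]
        rw [key x inf_le_left, key y inf_le_right]
    let 𝒰 := Z.left.openCoverOfIsOpenCover W hW
    let h := 𝒰.glueMorphisms k fun (x : Z.left) (y : Z.left) => by
      refine (cancel_epi (isPullback_opens_inf (W x) (W y)).isoPullback.hom).1 ?_
      erw [IsPullback.isoPullback_hom_fst_assoc, IsPullback.isoPullback_hom_snd_assoc]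
      exact hcompat x y
    have hh : ∀ x, (W x).ι ≫ h = k x := fun x => Scheme.Cover.ι_glueMorphisms ..
    have hπ : h ≫ π = Z.hom := 𝒰.hom_ext _ _ fun x => by
      show (W x).ι ≫ h ≫ π = (W x).ι ≫ Z.hom
      exact (Category.assoc _ _ _).symm.trans ((congrArg (· ≫ π) (hh x)).trans (hk x))
    let h' : Z.left ⟶ N := IsOpenImmersion.lift N.ι h (by
      rw [Scheme.Opens.range_ι]
      rintro _ ⟨z, rfl⟩
      have := hkN z ⟨z, hzW z⟩
      rw [← hh] at this
      exact this)
    have hh' : h' ≫ N.ι = h := IsOpenImmersion.lift_fac _ _ _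
    refine ⟨Over.homMk h' (by show h' ≫ N.ι ≫ π = Z.hom; rw [← Category.assoc, hh', hπ]), ?_⟩
    apply Over.OverMorphism.ext
    apply Limits.pullback.hom_ext
    · refine (hfst _).trans ?_
      rw [← cancel_epi r.inv, ← cancel_mono N.ι]
      simp only [Over.homMk_left, Category.assoc, hh']
      show r.inv ≫ Limits.pullback.fst Z.hom S₀.ι ≫ h = k₀
      rw [← Category.assoc, hr]
      refine (Scheme.openCoverOfIsOpenCover D.toScheme (fun x => D.ι ⁻¹ᵁ W x)
        (TopologicalSpace.IsOpenCover.mk <| eq_top_iff.2 fun d _ => TopologicalSpace.Opens.mem_iSup.2 ⟨D.ι d, hzW _⟩)).hom_ext _ _ fun x => ?_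
      show (D.ι ⁻¹ᵁ W x).ι ≫ D.ι ≫ h = (D.ι ⁻¹ᵁ W x).ι ≫ k₀
      let u := (D.ι ⁻¹ᵁ W x).ι ≫ D.ι
      let u' := IsOpenImmersion.lift (W x ⊓ D).ι u (by
        rw [Scheme.Opens.range_ι]; rintro _ ⟨o, rfl⟩; exact ⟨o.2, o.1.2⟩)
      have e1 : (D.ι ⁻¹ᵁ W x).ι ≫ D.ι = u' ≫ Z.left.homOfLE inf_le_left ≫ (W x).ι := by simp [u', u]
      have e2 : (D.ι ⁻¹ᵁ W x).ι = u' ≫ Z.left.homOfLE inf_le_right := by
        rw [← cancel_mono D.ι]; simp [u', u]
      rw [← Category.assoc, e1, Category.assoc, Category.assoc]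
      erw [hh]
      refine (congrArg (u' ≫ ·) (hkD x)).trans ?_
      exact (Category.assoc _ _ _).symm.trans (congrArg (· ≫ k₀) e2.symm)
    · exact (Over.w (R.map _)).trans (Over.w g₀).symm

end Groth.Agent.S13432
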