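import Groth.Statements.S13429
import Mathlib
import Groth.Agent.S13432
import Groth.Agent.S9673
import Groth.Agent.NeronMapLib.Basic
import Groth.Agent.SmoothQFLib.Basic

set_option autoImplicit false
universe u
open CategoryTheory AlgebraicGeometry
open NeronHD

namespace Groth.Agent.S13429

section aux
open CategoryTheory CategoryTheory.Limits AlgebraicGeometry TopologicalSpace TensorProduct

/-- The integral closure of a normal Noetherian domain in a ring with enough maps to étale algebras. -/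
theorem finite_integralClosure (A L : Type u) [CommRing A] [IsDomain A] [IsNoetherianRing A] [IsIntegrallyClosed A]
    [CommRing L] [Algebra A L] {κ : Type*} [Finite κ] (B : κ → Type u) [∀ c, CommRing (B c)] [∀ c, Algebra A (B c)]
    [∀ c, Algebra.Etale A (B c)] (r : ∀ c, L →ₐ[A] B c) (hr : ∀ x, (∀ c, r c x = 0) → x = 0) :
    Module.Finite A (integralClosure A L) := by
  classical
  let F := FractionRing A
  have hE : ∀ c, ∃ (I : Type u) (_ : Finite I) (Ai : I → Type u) (_ : ∀ i, Field (Ai i))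
      (_ : ∀ i, Algebra F (Ai i)) (_ : (F ⊗[A] B c) ≃ₐ[F] Π i, Ai i),
        ∀ i, Module.Finite F (Ai i) ∧ Algebra.IsSeparable F (Ai i) := fun c =>
    (Algebra.Etale.iff_exists_algEquiv_prod F _).1 inferInstance
  choose I hI Ai hF hA e he using hE
  haveI := fun c => hI c
  haveI := fun c i => (he c i).1
  haveI := fun c i => (he c i).2
  letI : ∀ c i, Algebra A (Ai c i) := fun c i => ((algebraMap F (Ai c i)).comp (algebraMap A F)).toAlgebra
  haveI : ∀ c i, IsScalarTower A F (Ai c i) := fun c i => IsScalarTower.of_algebraMap_eq' rfl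
  haveI : ∀ c i, Module.Finite A (integralClosure A (Ai c i)) := fun c i =>
    IsIntegralClosure.finite A F (Ai c i) (integralClosure A (Ai c i))
  let φ : ∀ c i, L →ₐ[A] Ai c i := fun c i =>
    ((((Pi.evalAlgHom F (Ai c) i).comp (e c).toAlgHom)).restrictScalars A).comp
      (Algebra.TensorProduct.includeRight.comp (r c))
  let Φ : integralClosure A L →ₗ[A] Π p : Σ c, I c, integralClosure A (Ai p.1 p.2) :=
    LinearMap.pi fun p =>
      LinearMap.codRestrict (Subalgebra.toSubmodule (integralClosure A (Ai p.1 p.2)))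
        ((φ p.1 p.2).toLinearMap.comp (integralClosure A L).val.toLinearMap) fun x => x.2.map (φ p.1 p.2)
  refine Module.Finite.of_injective Φ ?_
  rw [injective_iff_map_eq_zero]
  intro x hx
  refine Subtype.ext (hr x.1 fun c => ?_)
  refine Algebra.TensorProduct.includeRight_injective (IsFractionRing.injective A F) ?_
  rw [map_zero]
  refine (e c).injective (funext fun i => ?_)
  rw [map_zero]
  exact congrArg Subtype.val (congrFun hx ⟨c, i⟩)

variable {S N₀ : Scheme.{u}} (f : N₀ ⟶ S) [Etale f] [IsSeparated f] [QuasiCompact f] [IsNoetherian S]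
  (hS : Pi1.IsNormalScheme S)

include f hS in
theorem isNormalScheme_source : Pi1.IsNormalScheme N₀ := fun y => by
  obtain ⟨_, ⟨U, hU, rfl⟩, hyU, -⟩ :=
    S.isBasis_affineOpens.exists_subset_of_mem_open (Set.mem_univ (f y)) isOpen_univ
  obtain ⟨_, ⟨W, hW, rfl⟩, hyW, hWU⟩ :=
    N₀.isBasis_affineOpens.exists_subset_of_mem_open (show y ∈ f ⁻¹ᵁ U from hyU) (f ⁻¹ᵁ U).isOpen
  letI := (f.appLE U W hWU).hom.toAlgebra
  haveI : Algebra.Smooth Γ(S, U) Γ(N₀, W) := RingHom.smooth_algebraMap.mp (f.smooth_appLE hU hW hWU)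
  have hn : EGA4.IsNormalRing Γ(N₀, W) :=
    (Groth.Agent.S1182.result Γ(S, U) Γ(N₀, W)).1 (S13432.isNormalRing_sections hS hU)
  letI := N₀.presheaf.algebra_section_stalk (⟨y, hyW⟩ : W)
  haveI := hW.isLocalization_stalk ⟨y, hyW⟩
  let p := (hW.primeIdealOf ⟨y, hyW⟩).asIdeal
  let q := (IsLocalization.algEquiv p.primeCompl (N₀.presheaf.stalk y) (Localization.AtPrime p)).toRingEquiv
  haveI := (hn p).1
  haveI := (hn p).2
  exact ⟨q.injective.isDomain, IsIntegrallyClosed.of_equiv q.symm⟩

include hS in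
theorem exists_isFinite_normal :
    IsFinite f.fromNormalization ∧ Pi1.IsNormalScheme f.normalization := by
  haveI : IsLocallyNoetherian N₀ := LocallyOfFiniteType.isLocallyNoetherian f
  haveI : CompactSpace N₀ := QuasiCompact.compactSpace_of_compactSpace f
  haveI : IsNoetherian N₀ := {}
  refine ⟨?_, ((Groth.Agent.S9673.result f (isNormalScheme_source f hS) (@locallyFinite_of_finite _ _ _
    (TopologicalSpace.NoetherianSpace.finite_irreducibleComponents (α := N₀)).to_subtype _))).1⟩
  haveI : LocallyOfFiniteType f.fromNormalization := by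
    refine (HasRingHomProperty.iff_exists_appLE (P := @LocallyOfFiniteType)
      (RingHom.finiteType_stableUnderComposition.stableUnderCompositionWithLocalizationAway RingHom.finiteType_holdsForLocalizationAway).1).2 fun t => ?_
    obtain ⟨_, ⟨U₀, hU₀, rfl⟩, htU₀, -⟩ :=
      S.isBasis_affineOpens.exists_subset_of_mem_open (Set.mem_univ (f.fromNormalization t)) isOpen_univ
    haveI : IsNoetherianRing Γ(S, U₀) := IsLocallyNoetherian.component_noetherian ⟨U₀, hU₀⟩
    haveI := (S13432.isNormalRing_sections hS hU₀ (hU₀.primeIdealOf ⟨_, htU₀⟩).asIdeal).1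
    obtain ⟨a, ha, hdom⟩ := RegLocLib.exists_isDomain_away (hU₀.primeIdealOf ⟨_, htU₀⟩)
    let U := S.basicOpen a
    have hU : IsAffineOpen U := hU₀.basicOpen a
    have htU : f.fromNormalization t ∈ U := by
      have h1 : hU₀.primeIdealOf ⟨_, htU₀⟩ ∈ hU₀.fromSpec ⁻¹ᵁ S.basicOpen a := by
        rw [hU₀.fromSpec_preimage_basicOpen]
        exact ha
      have h2 : hU₀.fromSpec (hU₀.primeIdealOf ⟨_, htU₀⟩) ∈ U := h1
      rwa [hU₀.fromSpec_primeIdealOf] at h2
    haveI : IsLocalization.Away a Γ(S, U) := hU₀.isLocalization_basicOpen a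
    haveI : IsDomain Γ(S, U) :=
      (IsLocalization.algEquiv (Submonoid.powers a) Γ(S, U) (Localization.Away a)).toRingEquiv.injective.isDomain
    haveI : IsNoetherianRing Γ(S, U) := IsLocallyNoetherian.component_noetherian ⟨U, hU⟩
    haveI : IsIntegrallyClosed Γ(S, U) :=
      NormalTensor.isIntegrallyClosed_of_isNormalRing (S13432.isNormalRing_sections hS hU)
    let A := Γ(S, U)
    let L := Γ(N₀, f ⁻¹ᵁ U)
    letI : Algebra A L := (f.app U).hom.toAlgebra
    haveI : CompactSpace ↥(f ⁻¹ᵁ U) := isCompact_iff_compactSpace.1 (f.isCompact_preimage hU.isCompact)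
    obtain ⟨κ, hκ⟩ := IsCompact.elim_finite_subcover (f.isCompact_preimage hU.isCompact)
      (fun W : {W : N₀.affineOpens // W.1 ≤ f ⁻¹ᵁ U} => (W.1.1 : Set N₀)) (fun W => W.1.1.isOpen) (fun y hy => by
        obtain ⟨_, ⟨W, hW, rfl⟩, hyW, hWU⟩ := N₀.isBasis_affineOpens.exists_subset_of_mem_open hy (f ⁻¹ᵁ U).isOpen
        exact Set.mem_iUnion.2 ⟨⟨⟨W, hW⟩, hWU⟩, hyW⟩)
    let B : κ → Type u := fun W => Γ(N₀, W.1.1.1)
    letI : ∀ W : κ, CommRing (B W) := fun W => inferInstanceAs (CommRing Γ(N₀, W.1.1.1))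
    letI : ∀ W : κ, Algebra A (B W) := fun W => (f.appLE U W.1.1.1 W.1.2).hom.toAlgebra
    haveI : ∀ W : κ, Algebra.Etale A (B W) := fun W =>
      RingHom.etale_algebraMap.1 (HasRingHomProperty.appLE @Etale f inferInstance ⟨U, hU⟩ W.1.1 W.1.2)
    let r : ∀ W : κ, L →ₐ[A] B W := fun W =>
      { (N₀.presheaf.map (homOfLE W.1.2).op).hom with commutes' := fun _ => rfl }
    haveI : Module.Finite A (integralClosure A L) := by
      refine finite_integralClosure A L B r fun x hx => ?_
      refine TopCat.Presheaf.section_ext N₀.sheaf (f ⁻¹ᵁ U) x 0 fun y hy => ?_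
      obtain ⟨W, hWκ, hyW⟩ := Set.mem_iUnion₂.1 (hκ hy)
      rw [map_zero]
      refine (TopCat.Presheaf.germ_res_apply N₀.presheaf (homOfLE W.2) y hyW x).symm.trans ?_
      exact (congrArg _ (hx ⟨W, hWκ⟩)).trans (map_zero _)
    refine ⟨⟨U, hU⟩, ⟨_, hU.preimage f.fromNormalization⟩, htU, le_rfl, ?_⟩
    rw [← Scheme.Hom.app_eq_appLE, f.fromNormalization_app hU, CommRingCat.hom_comp]
    refine RingHom.FiniteType.comp (RingHom.FiniteType.of_surjective _
      (f.normalizationObjIso hU).symm.commRingCatIsoToRingEquiv.surjective) ?_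
    rw [CommRingCat.hom_ofHom, RingHom.finiteType_algebraMap]
    infer_instance
  exact (IsFinite.iff_isIntegralHom_and_locallyOfFiniteType _).2 ⟨inferInstance, inferInstance⟩

theorem isOpenImmersion_toNormalization : IsOpenImmersion f.toNormalization := by
  haveI : LocallyQuasiFinite f := by
    rw [HasRingHomProperty.iff_appLE (P := @LocallyQuasiFinite)]
    intro U W e
    have h := HasRingHomProperty.appLE @Etale f inferInstance U W e
    algebraize [(f.appLE U W e).hom]
    exact RingHom.quasiFinite_algebraMap.mpr inferInstance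
  obtain ⟨U, hU, hUq⟩ := f.exists_isIso_morphismRestrict_toNormalization
  have htop : f.toNormalization ⁻¹ᵁ U = ⊤ := by
    refine Opens.ext ?_
    show (f.toNormalization ⁻¹ᵁ U).1 = Set.univ
    rw [hUq]
    have hq := f.quasiFiniteLocus_eq_top
    refine Set.eq_univ_of_forall fun x => ?_
    have hx : x ∈ f.quasiFiniteLocus := by rw [hq]; trivial
    exact f.mem_quasiFiniteLocus.1 hx
  have h := morphismRestrict_ι f.toNormalization U
  haveI : IsIso (f.toNormalization ⁻¹ᵁ U).ι := by rw [htop]; exact N₀.topIso.isIso_hom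
  rw [show f.toNormalization = inv (f.toNormalization ⁻¹ᵁ U).ι ≫ (f.toNormalization ∣_ U) ≫ U.ι by
    rw [h, IsIso.inv_hom_id_assoc]]
  infer_instance

end aux

/-- Let S be a normal Noetherian scheme over a field of characteristic 0, S₀ ⊆ S a scheme-theoretically
dense open, and N₀ → S₀ separated, quasi-compact and étale (a quasi-projective étale S₀-scheme).
Then N₀ has a quasi-projective Néron model: there exist a separated, quasi-compact, étale S-scheme N
and an isomorphism of S₀-schemes N|S₀ ≅ N₀ such that N has the Néron mapping property for S₀ ⊆ S,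
i.e. for every smooth S-scheme Z restriction to S₀ is a bijection from S-morphisms Z → N onto
S₀-morphisms Z|S₀ → N|S₀ (this determines N up to unique isomorphism). (Case of schemes, with smooth
test schemes, of the published statement.) -/
theorem result {k : Type u} [Field k] [CharZero k] {S : Scheme.{u}} (σ : S ⟶ Spec (CommRingCat.of k)) [IsNoetherian S] (hS : Pi1.IsNormalScheme S) (S₀ : S.Opens) (hS₀ : CInt.IsSchematicallyDense S₀)
    (N₀ : Over (S₀ : Scheme.{u})) [Etale N₀.hom] [IsSeparated N₀.hom] [QuasiCompact N₀.hom] :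
    ∃ (N : Over S) (e : (Over.pullback S₀.ι).obj N ≅ N₀), Etale N.hom ∧ IsSeparated N.hom ∧ QuasiCompact N.hom ∧
      ∀ Z : Over S, Smooth Z.hom → Function.Bijective (fun g : Z ⟶ N => (Over.pullback S₀.ι).map g) := by
  classical
  haveI : QuasiCompact S₀.ι := inferInstance
  let f : N₀.left ⟶ S := N₀.hom ≫ S₀.ι
  haveI : Etale f := inferInstance
  obtain ⟨hfin, hTn⟩ := exists_isFinite_normal f hS
  haveI := hfin
  haveI := isOpenImmersion_toNormalization f
  let T := f.normalization
  let π : T ⟶ S := f.fromNormalization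
  haveI : IsLocallyNoetherian T := LocallyOfFiniteType.isLocallyNoetherian π
  haveI : CompactSpace T := QuasiCompact.compactSpace_of_compactSpace π
  haveI : IsNoetherian T := {}
  haveI : LocallyOfFinitePresentation π := inferInstance
  let j : N₀.left ⟶ T := f.toNormalization
  have hj : j ≫ π = N₀.hom ≫ S₀.ι := f.toNormalization_fromNormalization
  let B : Set T := (π ⁻¹ᵁ S₀ : Set T) \ Set.range j
  let V : T.Opens := π.smoothLocus ⊓ ⟨(closure B)ᶜ, isClosed_closure.isOpen_compl⟩
  have hjS : ∀ n, j n ∈ π ⁻¹ᵁ S₀ := fun n => by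
    show (j ≫ π) n ∈ S₀
    rw [hj]
    exact (N₀.hom n).2
  have hjsm : ∀ n, j n ∈ π.smoothLocus := fun n => by
    have h1 : j ⁻¹ᵁ π.smoothLocus = ⊤ := by
      haveI : Smooth (j ≫ π) := by rw [hj]; infer_instance
      rw [Scheme.Hom.preimage_smoothLocus_eq, Scheme.Hom.smoothLocus_eq_top]
    show n ∈ j ⁻¹ᵁ π.smoothLocus
    rw [h1]
    trivial
  have hjV : ∀ n, j n ∈ V := fun n => by
    refine ⟨hjsm n, fun hc => ?_⟩
    obtain ⟨t, ht, -, ht'⟩ := mem_closure_iff.1 hc _ j.isOpenEmbedding.isOpen_range ⟨n, rfl⟩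
    exact ht' ht
  let jV : N₀.left ⟶ V := IsOpenImmersion.lift V.ι j (by
    rw [Scheme.Opens.range_ι]; rintro _ ⟨n, rfl⟩; exact hjV n)
  have hjVι : jV ≫ V.ι = j := IsOpenImmersion.lift_fac _ _ _
  haveI : IsOpenImmersion jV := by
    haveI : IsOpenImmersion (jV ≫ V.ι) := by rw [hjVι]; infer_instance
    exact IsOpenImmersion.of_comp jV V.ι
  have hrange : Set.range jV = (((V.ι ≫ π) ⁻¹ᵁ S₀ : V.toScheme.Opens) : Set V.toScheme) := by
    refine Set.Subset.antisymm ?_ fun v hv => ?_
    · rintro _ ⟨n, rfl⟩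
      show π ((jV ≫ V.ι) n) ∈ S₀
      rw [hjVι]
      exact hjS n
    · by_contra hcon
      refine v.2.2 (subset_closure ⟨hv, ?_⟩)
      rintro ⟨n, hn⟩
      refine hcon ⟨n, V.ι.injective ?_⟩
      rw [← Scheme.Hom.comp_apply, hjVι]
      exact hn
  let N : Over S := Over.mk (V.ι ≫ π)
  haveI : Smooth (V.ι ≫ π) := by
    rw [← Scheme.Hom.smoothLocus_eq_top_iff, ← Scheme.Hom.preimage_smoothLocus_eq]
    refine TopologicalSpace.Opens.ext (Set.eq_univ_of_forall fun v => ?_)
    exact v.2.1
  haveI : Etale (V.ι ≫ π) := by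
    rw [HasRingHomProperty.iff_appLE (P := @Etale)]
    intro U W e
    algebraize [((V.ι ≫ π).appLE U W e).hom]
    haveI : Algebra.Smooth Γ(S, U) Γ(V.toScheme, W) :=
      RingHom.smooth_algebraMap.mp ((V.ι ≫ π).smooth_appLE U.2 W.2 e)
    haveI : Algebra.QuasiFinite Γ(S, U) Γ(V.toScheme, W) :=
      RingHom.quasiFinite_algebraMap.mp (HasRingHomProperty.appLE (P := @LocallyQuasiFinite) (V.ι ≫ π) inferInstance U W e)
    haveI := Groth.Agent.SmoothQFLib.etale_of_smooth_quasiFinite Γ(S, U) Γ(V.toScheme, W)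
    exact RingHom.etale_algebraMap.mpr inferInstance
  have hP : IsPullback jV N₀.hom (V.ι ≫ π) S₀.ι := by
    refine (IsOpenImmersion.isPullback N₀.hom jV S₀.ι (V.ι ≫ π) ?_ ?_).flip
    · rw [← Category.assoc, hjVι, hj]
    · refine TopologicalSpace.Opens.ext ?_
      show ((V.ι ≫ π) ⁻¹ᵁ S₀.ι.opensRange : Set V.toScheme) = Set.range jV
      rw [hrange, Scheme.Opens.opensRange_ι]
  let e : (Over.pullback S₀.ι).obj N ≅ N₀ := Over.isoMk hP.isoPullback.symm (IsPullback.isoPullback_inv_snd hP)
  refine ⟨N, e, inferInstanceAs (Etale (V.ι ≫ π)), inferInstanceAs (IsSeparated (V.ι ≫ π)),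
    inferInstanceAs (QuasiCompact (V.ι ≫ π)), fun Z hZ => ?_⟩
  haveI := hZ
  let N' : Over S := Over.mk (π.smoothLocus.ι ≫ π)
  let m : N ⟶ N' := Over.homMk (T.homOfLE inf_le_left) (by
    show T.homOfLE _ ≫ π.smoothLocus.ι ≫ π = V.ι ≫ π
    rw [← Category.assoc, Scheme.homOfLE_ι])
  haveI : Mono m.left := inferInstanceAs (Mono (T.homOfLE inf_le_left))
  haveI : Mono m := Over.mono_of_mono_left m
  have hbij := S13432.result σ hS S₀ hS₀ π hTn Z hZ
  let R := Over.pullback S₀.ι
  refine ⟨fun g₁ g₂ hg => ?_, fun g₀ => ?_⟩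
  · refine (cancel_mono m).1 (hbij.1 ?_)
    show R.map (g₁ ≫ m) = R.map (g₂ ≫ m)
    rw [Functor.map_comp, Functor.map_comp, show R.map g₁ = R.map g₂ from hg]
  obtain ⟨h, hh⟩ := hbij.2 (g₀ ≫ R.map m)
  replace hh : R.map h = g₀ ≫ R.map m := hh
  have hopen : IsOpenMap h.left := by
    haveI : Etale (π.smoothLocus.ι ≫ π) := by
      haveI : Smooth (π.smoothLocus.ι ≫ π) := by
        rw [← Scheme.Hom.smoothLocus_eq_top_iff, ← Scheme.Hom.preimage_smoothLocus_eq]
        exact TopologicalSpace.Opens.ext (Set.eq_univ_of_forall fun v => v.2)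
      rw [HasRingHomProperty.iff_appLE (P := @Etale)]
      intro U W e
      algebraize [((π.smoothLocus.ι ≫ π).appLE U W e).hom]
      haveI : Algebra.Smooth Γ(S, U) Γ(π.smoothLocus.toScheme, W) :=
        RingHom.smooth_algebraMap.mp ((π.smoothLocus.ι ≫ π).smooth_appLE U.2 W.2 e)
      haveI : Algebra.QuasiFinite Γ(S, U) Γ(π.smoothLocus.toScheme, W) :=
        RingHom.quasiFinite_algebraMap.mp
          (HasRingHomProperty.appLE (P := @LocallyQuasiFinite) (π.smoothLocus.ι ≫ π) inferInstance U W e)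
      haveI := Groth.Agent.SmoothQFLib.etale_of_smooth_quasiFinite Γ(S, U) Γ(π.smoothLocus.toScheme, W)
      exact RingHom.etale_algebraMap.mpr inferInstance
    haveI : Smooth (h.left ≫ π.smoothLocus.ι ≫ π) := by
      have := Over.w h
      rw [show h.left ≫ π.smoothLocus.ι ≫ π = Z.hom from this]
      exact hZ
    haveI : Smooth h.left := NeronMapLib.smooth_of_comp_etale h.left (π.smoothLocus.ι ≫ π)
    exact h.left.isOpenMap
  have hfst : (R.map h).left ≫ Limits.pullback.fst (π.smoothLocus.ι ≫ π) S₀.ι = Limits.pullback.fst Z.hom S₀.ι ≫ h.left := by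
    simp only [R, Over.pullback_map_left]
    exact Limits.pullback.lift_fst ..
  have hlocB : ∀ z : Z.left, π.smoothLocus.ι (h.left z) ∉ B := fun z hzB => by
    have hz : Z.hom z ∈ S₀ := by
      rw [← Over.w h]
      exact hzB.1
    obtain ⟨w, hw, -⟩ := Scheme.Pullback.exists_preimage_pullback (f := Z.hom) (g := S₀.ι) z ⟨Z.hom z, hz⟩ rfl
    have h1 : h.left z = ((R.map h).left ≫ Limits.pullback.fst (π.smoothLocus.ι ≫ π) S₀.ι) w := by
      rw [hfst]; exact congrArg h.left hw.symm
    rw [hh] at h1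
    have h2 : (R.map m).left ≫ Limits.pullback.fst (π.smoothLocus.ι ≫ π) S₀.ι = Limits.pullback.fst (V.ι ≫ π) S₀.ι ≫ m.left := by
      simp only [R, Over.pullback_map_left]
      exact Limits.pullback.lift_fst ..
    have h3 : π.smoothLocus.ι (h.left z) = j (hP.isoPullback.inv (g₀.left w)) := by
      rw [h1, ← hjVι]
      have h4 : (g₀ ≫ R.map m).left ≫ Limits.pullback.fst (π.smoothLocus.ι ≫ π) S₀.ι ≫ π.smoothLocus.ι =
          g₀.left ≫ hP.isoPullback.inv ≫ jV ≫ V.ι := by
        rw [hP.isoPullback_inv_fst_assoc, Over.comp_left, Category.assoc, reassoc_of% h2]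
        simp only [m, Over.homMk_left, Scheme.homOfLE_ι]
      exact congrArg (fun q => q w) h4
    exact hzB.2 ⟨_, h3.symm⟩
  have hrangeV : Set.range h.left ⊆ Set.range m.left := by
    rintro _ ⟨z, rfl⟩
    have hz : π.smoothLocus.ι (h.left z) ∉ closure B := fun hc => by
      have h1 : z ∈ h.left ⁻¹' (π.smoothLocus.ι ⁻¹' closure B) := hc
      rw [π.smoothLocus.ι.isOpenEmbedding.isOpenMap.preimage_closure_eq_closure_preimage π.smoothLocus.ι.continuous,
        hopen.preimage_closure_eq_closure_preimage h.left.continuous] at h1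
      rw [show h.left ⁻¹' (π.smoothLocus.ι ⁻¹' B) = ∅ from Set.eq_empty_of_forall_notMem fun z' hz' => hlocB z' hz',
        closure_empty] at h1
      exact h1
    let z' : π.smoothLocus.toScheme := h.left z
    exact ⟨(⟨π.smoothLocus.ι z', z'.2, hz⟩ : V.toScheme), π.smoothLocus.ι.injective
      (congrArg (fun q : V.toScheme ⟶ T => q (⟨π.smoothLocus.ι z', z'.2, hz⟩ : V.toScheme))
        (Scheme.homOfLE_ι T (inf_le_left : V ≤ π.smoothLocus)))⟩
  haveI : IsOpenImmersion m.left := inferInstanceAs (IsOpenImmersion (T.homOfLE inf_le_left))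
  let g : Z ⟶ N := Over.homMk (IsOpenImmersion.lift m.left h.left hrangeV) (by
    rw [← Over.w m, ← Category.assoc, IsOpenImmersion.lift_fac]
    exact Over.w h)
  have hg : g ≫ m = h := Over.OverMorphism.ext (IsOpenImmersion.lift_fac _ _ _)
  haveI : Mono (R.map m) := inferInstance
  refine ⟨g, (cancel_mono (R.map m)).1 ?_⟩
  show R.map g ≫ R.map m = g₀ ≫ R.map m
  rw [← Functor.map_comp, hg]
  exact hh

end Groth.Agent.S13429
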