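import Groth.Statements.S13430
import Mathlib

set_option autoImplicit false
universe u
open CategoryTheory MonoidalCategory CartesianMonoidalCategory MonObj GrpObj AlgebraicGeometry
open NeronHD

namespace Groth.Agent.S13430

open Limits

theorem smooth_tensor {S : Scheme.{u}} (X Y : Over S) [Smooth X.hom] [Smooth Y.hom] :
    Smooth (X ⊗ Y).hom := by
  rw [Over.tensorObj_hom]
  infer_instance

/-- The implication ⇐: let S be a locally Noetherian scheme over a field of characteristic 0 and S₀ ⊆ S
a scheme-theoretically dense open. Let G be a smooth group scheme over S and N a smooth S-scheme,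
both with the Néron mapping property for S₀ ⊆ S (restriction to S₀ of S-morphisms from smooth
S-schemes is bijective), and let a be an action of G on N over S whose translation map G ×_S N → N
×_S N, (g, x) ↦ (g·x, x), restricts to an isomorphism over S₀, so that N|S₀ is a pseudo-torsor under
G|S₀ and a is the unique extension of that action. If N → S is surjective, then the translation map
is an isomorphism: N is a pseudo-torsor under G over all of S (and then a torsor for the étale
topology, N → S being smooth and surjective). (Case of schemes of a statement about group algebraic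
spaces; the converse 'torsor ⇒ surjective' presumes local triviality.) -/
theorem result {k : Type u} [Field k] [CharZero k] {S : Scheme.{u}} (σ : S ⟶ Spec (CommRingCat.of k)) [IsLocallyNoetherian S] (S₀ : S.Opens) (hS₀ : CInt.IsSchematicallyDense S₀)
    (G : Over S) [GrpObj G] [Smooth G.hom]
    (hG : ∀ Z : Over S, Smooth Z.hom → Function.Bijective (fun g : Z ⟶ G => (Over.pullback S₀.ι).map g))
    (N : Over S) [Smooth N.hom] [Surjective N.hom]
    (hN : ∀ Z : Over S, Smooth Z.hom → Function.Bijective (fun g : Z ⟶ N => (Over.pullback S₀.ι).map g))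
    (a : AlgGrp.Action G N)
    (h0 : IsIso ((Over.pullback S₀.ι).map (lift a.act (snd G N)))) :
    NonAbH1.IsPseudoTorsorSch a := by
  show IsIso (lift a.act (snd G N))
  let F := Over.pullback S₀.ι
  let Φ : G ⊗ N ⟶ N ⊗ N := lift a.act (snd G N)
  haveI : IsIso (F.map Φ) := h0
  have hNN := smooth_tensor N N
  have hGN := smooth_tensor G N
  obtain ⟨g₁, hg₁⟩ := (hG (N ⊗ N) hNN).2 (inv (F.map Φ) ≫ F.map (fst G N))
  obtain ⟨g₂, hg₂⟩ := (hN (N ⊗ N) hNN).2 (inv (F.map Φ) ≫ F.map (snd G N))
  let ψ : N ⊗ N ⟶ G ⊗ N := lift g₁ g₂
  have h1 : Φ ≫ ψ = 𝟙 (G ⊗ N) := by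
    apply CartesianMonoidalCategory.hom_ext
    · refine (hG (G ⊗ N) hGN).1 ?_
      show F.map _ = F.map _
      rw [Category.id_comp, Category.assoc, lift_fst, Functor.map_comp, show F.map g₁ = _ from hg₁,
        IsIso.hom_inv_id_assoc]
    · refine (hN (G ⊗ N) hGN).1 ?_
      show F.map _ = F.map _
      rw [Category.id_comp, Category.assoc, lift_snd, Functor.map_comp, show F.map g₂ = _ from hg₂,
        IsIso.hom_inv_id_assoc]
  have h2 : F.map (ψ ≫ Φ) = 𝟙 _ := by
    rw [← cancel_epi (F.map Φ), ← F.map_comp, ← Category.assoc, h1, Category.id_comp, Category.comp_id]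
  refine ⟨ψ, h1, ?_⟩
  apply CartesianMonoidalCategory.hom_ext
  · refine (hN (N ⊗ N) hNN).1 ?_
    show F.map _ = F.map _
    rw [Functor.map_comp, h2, Category.id_comp, Category.id_comp]
  · refine (hN (N ⊗ N) hNN).1 ?_
    show F.map _ = F.map _
    rw [Functor.map_comp, h2, Category.id_comp, Category.id_comp]

end Groth.Agent.S13430
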