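import Groth.Statements.S13431
import Mathlib

set_option autoImplicit false
universe u
open CategoryTheory MonoidalCategory CartesianMonoidalCategory MonObj GrpObj AlgebraicGeometry
open NeronHD

namespace Groth.Agent.S13431

noncomputable abbrev Z0 {S : Scheme.{u}} (S₀ : S.Opens) (Z : Over S) : Over S :=
  (Over.map S₀.ι).obj ((Over.pullback S₀.ι).obj Z)

noncomputable abbrev eps {S : Scheme.{u}} (S₀ : S.Opens) (Z : Over S) : Z0 S₀ Z ⟶ Z :=
  (Over.mapPullbackAdj S₀.ι).counit.app Z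

noncomputable abbrev M0 {S : Scheme.{u}} (S₀ : S.Opens) {Z Z' : Over S} (f : Z' ⟶ Z) : Z0 S₀ Z' ⟶ Z0 S₀ Z :=
  (Over.map S₀.ι).map ((Over.pullback S₀.ι).map f)

theorem M0_eps {S : Scheme.{u}} (S₀ : S.Opens) {Z Z' : Over S} (f : Z' ⟶ Z) :
    M0 S₀ f ≫ eps S₀ Z = eps S₀ Z' ≫ f :=
  (Over.mapPullbackAdj S₀.ι).counit.naturality f

/-- Restriction is precomposition with the counit. -/
theorem bij_iff {S : Scheme.{u}} (S₀ : S.Opens) (X Z : Over S) :
    Function.Bijective (fun g : Z ⟶ X => (Over.pullback S₀.ι).map g) ↔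
      Function.Bijective (fun g : Z ⟶ X => eps S₀ Z ≫ g) := by
  let E := ((Over.mapPullbackAdj S₀.ι).homEquiv ((Over.pullback S₀.ι).obj Z) X).symm
  have h : (fun g : Z ⟶ X => eps S₀ Z ≫ g) = E ∘ (fun g : Z ⟶ X => (Over.pullback S₀.ι).map g) := by
    funext g
    show eps S₀ Z ≫ g = E ((Over.pullback S₀.ι).map g)
    rw [Adjunction.homEquiv_counit]
    exact (M0_eps S₀ g).symm
  rw [h]
  exact (Function.Bijective.of_comp_iff' E.bijective _).symm

noncomputable def torsEquiv {S : Scheme.{u}} {G N : Over S} [GrpObj G] (a : AlgGrp.Action G N)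
    (ha : NonAbH1.IsPseudoTorsorSch a) {T : Over S} (x : T ⟶ N) : (T ⟶ G) ≃ (T ⟶ N) :=
  haveI : IsIso (lift a.act (snd G N)) := ha
  { toFun := fun g => lift g x ≫ a.act
    invFun := fun h => lift h x ≫ inv (lift a.act (snd G N)) ≫ fst G N
    left_inv := fun g => by
      have h : lift (lift g x ≫ a.act) x = lift g x ≫ lift a.act (snd G N) := by
        rw [comp_lift, lift_snd]
      dsimp only
      rw [h, Category.assoc, IsIso.hom_inv_id_assoc, lift_fst]
    right_inv := fun h => by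
      let q := lift h x ≫ inv (lift a.act (snd G N))
      have hq : q ≫ lift a.act (snd G N) = lift h x := by
        show (lift h x ≫ inv (lift a.act (snd G N))) ≫ _ = _
        rw [Category.assoc, IsIso.inv_hom_id, Category.comp_id]
      have h1 := congrArg (fun m => m ≫ fst N N) hq
      have h2 := congrArg (fun m => m ≫ snd N N) hq
      simp only [Category.assoc, lift_fst, lift_snd] at h1 h2
      have h3 : lift (q ≫ fst G N) x = q := by
        ext <;> simp [h2]
      show lift (lift h x ≫ inv (lift a.act (snd G N)) ≫ fst G N) x ≫ a.act = h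
      rw [← Category.assoc (lift h x)]
      change lift (q ≫ fst G N) x ≫ a.act = h
      rw [h3, h1] }

theorem swap_bij {S : Scheme.{u}} (S₀ : S.Opens) {G N : Over S} [GrpObj G] (a : AlgGrp.Action G N)
    (ha : NonAbH1.IsPseudoTorsorSch a) {Z : Over S} (x : Z ⟶ N) :
    Function.Bijective (fun g : Z ⟶ G => eps S₀ Z ≫ g) ↔ Function.Bijective (fun g : Z ⟶ N => eps S₀ Z ≫ g) := by
  let e1 := torsEquiv a ha x
  let e2 := torsEquiv a ha (eps S₀ Z ≫ x)
  have h : (fun g : Z ⟶ N => eps S₀ Z ≫ g) ∘ e1 = e2 ∘ (fun g : Z ⟶ G => eps S₀ Z ≫ g) := by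
    funext g
    show eps S₀ Z ≫ lift g x ≫ a.act = lift (eps S₀ Z ≫ g) (eps S₀ Z ≫ x) ≫ a.act
    rw [← Category.assoc, comp_lift]
  rw [← Function.Bijective.of_comp_iff _ e1.bijective, h, Function.Bijective.of_comp_iff' e2.bijective]

instance mono_eps {S : Scheme.{u}} (S₀ : S.Opens) (Z : Over S) : Mono (eps S₀ Z) := by
  haveI : Mono (eps S₀ Z).left := by
    show Mono ((Over.mapPullbackAdj S₀.ι).counit.app Z).left
    rw [Over.mapPullbackAdj_counit_app]
    exact (inferInstance : Mono (Limits.pullback.fst Z.hom S₀.ι))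
  exact Over.mono_of_mono_left _

theorem epi_fst {S : Scheme.{u}} (N Z : Over S) [Smooth N.hom] [Surjective N.hom] :
    EffectiveEpi (fst Z N).left := by
  show EffectiveEpi (Limits.pullback.fst Z.hom N.hom)
  infer_instance

/-- Bijectivity descends along a smooth surjection. -/
theorem descend {S : Scheme.{u}} (S₀ : S.Opens) (N X : Over S) [Smooth N.hom] [Surjective N.hom]
    (h : ∀ T : Over S, Smooth T.hom → (T ⟶ N) → Function.Bijective (fun g : T ⟶ X => eps S₀ T ≫ g))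
    (Z : Over S) (hZ : Smooth Z.hom) : Function.Bijective (fun g : Z ⟶ X => eps S₀ Z ≫ g) := by
  have hsm : ∀ T : Over S, Smooth T.hom → Smooth (T ⊗ N).hom := fun T hT => by
    haveI := hT
    show Smooth (Limits.pullback.fst T.hom N.hom ≫ T.hom)
    infer_instance
  haveI := epi_fst N Z
  haveI : Epi (fst Z N) := Over.epi_of_epi_left _
  have hZ' := h _ (hsm Z hZ) (snd Z N)
  refine ⟨fun g₁ g₂ hg => ?_, fun g₀ => ?_⟩
  · rw [← cancel_epi (fst Z N)]
    apply hZ'.1
    show eps S₀ (Z ⊗ N) ≫ fst Z N ≫ g₁ = eps S₀ (Z ⊗ N) ≫ fst Z N ≫ g₂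
    have hg' : eps S₀ Z ≫ g₁ = eps S₀ Z ≫ g₂ := hg
    rw [← Category.assoc, ← Category.assoc, ← M0_eps, Category.assoc, hg', Category.assoc]
  obtain ⟨g', hg'⟩ := hZ'.2 (M0 S₀ (fst Z N) ≫ g₀)
  change eps S₀ (Z ⊗ N) ≫ g' = _ at hg'
  let p₁ : (Z ⊗ N) ⊗ N ⟶ Z ⊗ N := fst _ _
  let p₂ : (Z ⊗ N) ⊗ N ⟶ Z ⊗ N := lift (fst _ _ ≫ fst Z N) (snd _ _)
  have hp : p₂ ≫ fst Z N = p₁ ≫ fst Z N := lift_fst _ _
  have heq : p₁ ≫ g' = p₂ ≫ g' := by
    apply (h _ (hsm _ (hsm Z hZ)) (snd _ _)).1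
    show eps S₀ _ ≫ p₁ ≫ g' = eps S₀ _ ≫ p₂ ≫ g'
    rw [← Category.assoc, ← M0_eps, Category.assoc, hg', ← Category.assoc (eps S₀ _) p₂, ← M0_eps,
      Category.assoc, hg', ← Category.assoc, ← Category.assoc]
    simp only [M0, ← Functor.map_comp, hp]
  have hpair : ∀ {W : Scheme.{u}} (a b : W ⟶ (Z ⊗ N).left), a ≫ (fst Z N).left = b ≫ (fst Z N).left →
      a ≫ g'.left = b ≫ g'.left := by
    intro W a b hab
    let A : Over.mk (a ≫ (Z ⊗ N).hom) ⟶ Z ⊗ N := Over.homMk a
    let B : Over.mk (a ≫ (Z ⊗ N).hom) ⟶ Z ⊗ N := Over.homMk b (by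
      show b ≫ (Z ⊗ N).hom = a ≫ (Z ⊗ N).hom
      rw [← Over.w (fst Z N), ← Category.assoc, ← hab, Category.assoc])
    have hAB : A ≫ fst Z N = B ≫ fst Z N := Over.OverMorphism.ext hab
    have hB : lift A (B ≫ snd Z N) ≫ p₂ = B := by
      ext1 <;> simp [p₂, hAB]
    have := congrArg (fun m => lift A (B ≫ snd Z N) ≫ m) heq
    simp only [← Category.assoc, hB, show lift A (B ≫ snd Z N) ≫ p₁ = A from lift_fst _ _] at this
    exact congrArg CommaMorphism.left this
  let dl := EffectiveEpi.desc (fst Z N).left g'.left hpair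
  have hdl : (fst Z N).left ≫ dl = g'.left := EffectiveEpi.fac _ _ _
  let d : Z ⟶ X := Over.homMk dl (by
    rw [← cancel_epi (fst Z N).left, ← Category.assoc, hdl, Over.w, Over.w])
  have hd : fst Z N ≫ d = g' := Over.OverMorphism.ext hdl
  refine ⟨d, ?_⟩
  haveI := epi_fst N (Z0 S₀ Z)
  haveI : Epi (fst (Z0 S₀ Z) N) := Over.epi_of_epi_left _
  show eps S₀ Z ≫ d = g₀
  rw [← cancel_epi (fst (Z0 S₀ Z) N)]
  let t : Z0 S₀ Z ⊗ N ⟶ Z ⊗ N := lift (fst _ _ ≫ eps S₀ Z) (snd _ _)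
  let q : Over S₀.toScheme := Over.mk ((fst (Z0 S₀ Z) N).left ≫ ((Over.pullback S₀.ι).obj Z).hom)
  let i : Z0 S₀ Z ⊗ N ⟶ (Over.map S₀.ι).obj q := Over.homMk (𝟙 _) (by
    show 𝟙 _ ≫ ((fst (Z0 S₀ Z) N).left ≫ ((Over.pullback S₀.ι).obj Z).hom) ≫ S₀.ι = (Z0 S₀ Z ⊗ N).hom
    rw [Category.id_comp, Category.assoc]
    exact Over.w (fst (Z0 S₀ Z) N))
  let i' : (Over.map S₀.ι).obj q ⟶ Z0 S₀ Z ⊗ N := Over.homMk (𝟙 _) (by
    show 𝟙 _ ≫ (Z0 S₀ Z ⊗ N).hom = ((fst (Z0 S₀ Z) N).left ≫ ((Over.pullback S₀.ι).obj Z).hom) ≫ S₀.ι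
    rw [Category.id_comp, Category.assoc]
    exact (Over.w (fst (Z0 S₀ Z) N)).symm)
  let v : Z0 S₀ Z ⊗ N ⟶ Z0 S₀ (Z ⊗ N) :=
    i ≫ (Over.map S₀.ι).map ((Over.mapPullbackAdj S₀.ι).homEquiv q (Z ⊗ N) (i' ≫ t))
  have hv : v ≫ eps S₀ (Z ⊗ N) = t := by
    have h1 := ((Over.mapPullbackAdj S₀.ι).homEquiv_counit (X := q) (Y := Z ⊗ N)
      (g := (Over.mapPullbackAdj S₀.ι).homEquiv q (Z ⊗ N) (i' ≫ t))).symm
    rw [Equiv.symm_apply_apply] at h1
    show (i ≫ _) ≫ _ = t
    rw [Category.assoc]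
    refine (congrArg (fun m => i ≫ m) h1).trans ?_
    exact Over.OverMorphism.ext ((Category.id_comp _).trans (Category.id_comp _))
  have hvf : v ≫ M0 S₀ (fst Z N) = fst (Z0 S₀ Z) N := by
    rw [← cancel_mono (eps S₀ Z), Category.assoc, M0_eps, ← Category.assoc, hv]
    exact lift_fst _ _
  calc fst (Z0 S₀ Z) N ≫ eps S₀ Z ≫ d = t ≫ fst Z N ≫ d := by
        rw [← Category.assoc, ← Category.assoc t, show t ≫ fst Z N = _ from lift_fst _ _]
    _ = v ≫ eps S₀ _ ≫ g' := by rw [hd, ← Category.assoc, hv]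
    _ = fst (Z0 S₀ Z) N ≫ g₀ := by rw [hg', ← Category.assoc, hvf]

/-- Let S be a locally Noetherian scheme over a field of characteristic 0 and S₀ ⊆ S a
scheme-theoretically dense open. Let G be a smooth group scheme over S and N a smooth S-scheme with
N → S surjective, equipped with an action of G making N a pseudo-torsor: the translation map G ×_S N
→ N ×_S N, (g, x) ↦ (g·x, x), is an isomorphism. Then G has the Néron mapping property for S₀ ⊆ S
(restriction to S₀ of S-morphisms from smooth S-schemes is bijective) if and only if N has it. (The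
published statement says 'G-torsor' with torsor defined as an action whose translation map is an
isomorphism; for N empty that holds and N has the mapping property while G need not, so surjectivity
of N → S — which gives étale-local sections — is assumed here, as the published proof uses. Case of
schemes of a statement about algebraic spaces.) -/
theorem result {k : Type u} [Field k] [CharZero k] {S : Scheme.{u}} (σ : S ⟶ Spec (CommRingCat.of k)) [IsLocallyNoetherian S] (S₀ : S.Opens) (hS₀ : CInt.IsSchematicallyDense S₀)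
    (G : Over S) [GrpObj G] [Smooth G.hom]
    (N : Over S) [Smooth N.hom] [Surjective N.hom]
    (a : AlgGrp.Action G N) (ha : NonAbH1.IsPseudoTorsorSch a) :
    (∀ Z : Over S, Smooth Z.hom → Function.Bijective (fun g : Z ⟶ G => (Over.pullback S₀.ι).map g)) ↔
    (∀ Z : Over S, Smooth Z.hom → Function.Bijective (fun g : Z ⟶ N => (Over.pullback S₀.ι).map g)) := by
  constructor
  · intro hG Z hZ
    rw [bij_iff]
    exact descend S₀ N N (fun T hT x => (swap_bij S₀ a ha x).1 ((bij_iff S₀ G T).1 (hG T hT))) Z hZ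
  · intro hN Z hZ
    rw [bij_iff]
    exact descend S₀ N G (fun T hT x => (swap_bij S₀ a ha x).2 ((bij_iff S₀ N T).1 (hN T hT))) Z hZ

end Groth.Agent.S13431
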