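import Groth.Statements.S13434
import Groth.Agent.HilbPnLib.Tgt

set_option autoImplicit false
universe u
open W4c1hilbpn

namespace Groth.Agent.S13434

open Groth.Agent W4c1hilbpn

open W4c1hilbpn in
/-- Let k be an infinite field, n ≥ 2, S the polynomial ring over k in n variables, I a monomial ideal
of S of finite colength and T(I) = Hom_S(I, S/I) with its grading by integer vectors. The graded
piece of T(I) in every multidegree all of whose entries are nonnegative, or all of whose entries are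
negative, vanishes, and T(I) is spanned by its pieces of non-constant sign pattern (the spans, over
the sets N of variable indices that are neither empty nor all indices, of the graded pieces whose
multidegree is negative exactly at N). -/
theorem result (k : Type u) [Field k] [Infinite k]
    (n : ℕ) (hn : 2 ≤ n) (I : Ideal (MvPolynomial (Fin n) k)) (hI : IsMonomial I)
    [Module.Finite k (MvPolynomial (Fin n) k ⧸ I)] :
    (∀ α : Fin n → ℤ, ((∀ i, 0 ≤ α i) ∨ (∀ i, α i < 0)) → tPiece I α = ⊥) ∧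
      (⨆ N : {N : Set (Fin n) // N.Nonempty ∧ N ≠ Set.univ}, sigPiece I N.1) = ⊤ := by
  haveI : Nontrivial (Fin n) := Fin.nontrivial_iff_two_le.2 hn
  have h : ∀ α : Fin n → ℤ, ((∀ i, 0 ≤ α i) ∨ (∀ i, α i < 0)) → tPiece I α = ⊥ := by
    rintro α (h | h)
    · exact HilbPnLib.tPiece_eq_bot_of_nonneg hI h
    · obtain ⟨i, j, hij⟩ := exists_pair_ne (Fin n)
      exact HilbPnLib.tPiece_eq_bot_of_two_neg hI (fun l => (h l).le) hij (h i) (h j)
  refine ⟨h, eq_top_iff.2 ?_⟩
  rw [← HilbPnLib.iSup_tPiece_eq_top hI]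
  refine iSup_le fun α => ?_
  by_cases hα : (∀ i, 0 ≤ α i) ∨ (∀ i, α i < 0)
  · rw [h α hα]; exact bot_le
  · push Not at hα
    obtain ⟨⟨i, hi⟩, ⟨j, hj⟩⟩ := hα
    refine le_trans ?_ (le_iSup (fun N : {N : Set (Fin n) // N.Nonempty ∧ N ≠ Set.univ} => sigPiece I N.1)
      ⟨{l | α l < 0}, ⟨i, hi⟩, fun hu => absurd (show α j < 0 from (Set.eq_univ_iff_forall.1 hu) j) (by omega)⟩)
    exact le_iSup (fun a : {a : Fin n → ℤ // ∀ l, a l < 0 ↔ l ∈ {l | α l < 0}} => tPiece I a.1) ⟨α, fun l => Iff.rfl⟩

end Groth.Agent.S13434
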