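import Groth.Statements.S13435
import Groth.Agent.HilbPnLib.Pow

set_option autoImplicit false
universe u
open W4c1hilbpn

namespace Groth.Agent.S13435

open Groth.Agent W4c1hilbpn

open W4c1hilbpn in
/-- Let k be an infinite field, n ≥ 2, S the polynomial ring over k in n variables with irrelevant ideal
m, r a natural number and α an integer vector; write w for the sum of the absolute values of the
negative entries of α. The graded piece of T(m^r) = Hom_S(m^r, S/m^r) of multidegree α is zero
unless the entries of α sum to -1 and w ≤ r, and in that case its dimension is the binomial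
coefficient C(n + r - w - 1, n - 1). (The published statement allows any number of variables; in one
variable it fails: the map (x^2) → k[x]/(x^2) sending x^2 to 1 is nonzero of degree −2. This row
assumes n ≥ 2.) -/
theorem result (k : Type u) [Field k] [Infinite k]
    (n : ℕ) (hn : 2 ≤ n) (r : ℕ) (α : Fin n → ℤ) :
    Module.finrank k ↥(tPiece ((Ideal.span (Set.range (MvPolynomial.X : Fin n → MvPolynomial (Fin n) k))) ^ r) α) =
      if (∑ i, α i = -1 ∧ ∑ i, (-α i).toNat ≤ r)
        then Nat.choose (n + r - (∑ i, (-α i).toNat) - 1) (n - 1) else 0 := by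
  classical
  have h := HilbPnLib.finrank_iSup_tPiece (k := k) hn r ({α} : Set (Fin n → ℤ))
  rw [show (⨆ a : ({α} : Set (Fin n → ℤ)), tPiece (HilbPnLib.powVars n k r) a.1) = tPiece (HilbPnLib.powVars n k r) α from
    le_antisymm (iSup_le fun ⟨a, (ha : a = α)⟩ => by subst ha; exact le_rfl)
      (le_iSup (fun a : ({α} : Set (Fin n → ℤ)) => tPiece (HilbPnLib.powVars n k r) a.1) ⟨α, rfl⟩)] at h
  refine h.trans ?_
  have hsum : ∀ β : Fin n →₀ ℕ, β.degree = ∑ i, β i := fun β => Finsupp.degree_eq_sum β
  have hP : ((∑ i, (α i).toNat : ℕ) : ℤ) - ((∑ i, (-α i).toNat : ℕ) : ℤ) = ∑ i, α i := by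
    push_cast
    rw [← Finset.sum_sub_distrib]
    exact Finset.sum_congr rfl fun i _ => by omega
  have hp : ∀ p : HilbPnLib.Pairs n r, HilbPnLib.pdeg p = α →
      ∀ i, (-α i).toNat ≤ p.1.1 i ∧ p.1.2 i = p.1.1 i - (-α i).toNat + (α i).toNat := fun p hp i => by
    have := congrFun hp i
    simp only [HilbPnLib.pdeg] at this
    omega
  split_ifs with hc
  · obtain ⟨hc1, hc2⟩ := hc
    rw [show n + r - (∑ i, (-α i).toNat) - 1 = n + (r - ∑ i, (-α i).toNat) - 1 by omega,
      Nat.choose_symm_of_eq_add (show n + (r - ∑ i, (-α i).toNat) - 1 = (n - 1) + (r - ∑ i, (-α i).toNat) by omega),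
      ← Nat.multichoose_eq, ← HilbPnLib.card_sum_eq]
    refine Nat.card_congr
      { toFun := fun p => ⟨fun i => p.1.1.1 i - (-α i).toNat, by
          have h1 := p.1.2.1
          rw [hsum] at h1
          rw [Finset.sum_tsub_distrib _ fun i _ => (hp p.1 p.2 i).1, h1]⟩
        invFun := fun f => ⟨⟨(Finsupp.equivFunOnFinite.symm fun i => f.1 i + (-α i).toNat,
            Finsupp.equivFunOnFinite.symm fun i => f.1 i + (α i).toNat), by
          constructor <;>
          · rw [hsum]
            simp only [Finsupp.equivFunOnFinite_symm_apply_apply, Finset.sum_add_distrib, f.2]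
            omega⟩, funext fun i => by simp [HilbPnLib.pdeg]⟩
        left_inv := fun p => by
          refine Subtype.ext (Subtype.ext (Prod.ext (Finsupp.ext fun i => ?_) (Finsupp.ext fun i => ?_)))
          · have := hp p.1 p.2 i; simp; omega
          · have := hp p.1 p.2 i; simp; omega
        right_inv := fun f => Subtype.ext (funext fun i => by simp) }
  · rw [Nat.card_eq_zero]
    refine Or.inl ⟨fun p => hc ?_⟩
    have h1 := p.1.2.1
    have h2 := p.1.2.2
    rw [hsum] at h1 h2
    have e1 : ∑ i, (p.1.1.1 i - (-α i).toNat) + ∑ i, (-α i).toNat = r := by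
      rw [← Finset.sum_add_distrib]
      exact (Finset.sum_congr rfl fun i _ => Nat.sub_add_cancel (hp p.1 p.2 i).1).trans h1
    have e2 : ∑ i, p.1.1.2 i = ∑ i, (p.1.1.1 i - (-α i).toNat) + ∑ i, (α i).toNat := by
      rw [← Finset.sum_add_distrib]
      exact Finset.sum_congr rfl fun i _ => (hp p.1 p.2 i).2
    omega

end Groth.Agent.S13435
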