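import Groth.Statements.S13436
import Groth.Agent.HilbPnLib.DualityHom

set_option autoImplicit false
universe u
open W4c1hilbpn

namespace Groth.Agent.S13436

section
open Groth.Agent.HilbPnLib W4c1hilbpn

theorem stairZ_eq_card {k : Type*} [Field k] (I : Ideal (MvPolynomial (Fin 3) k)) (i j : ℕ) :
    Nat.card {β : Std I // cst β.1 ∈ ({α | α 0 = (i : ℤ) ∧ α 1 = (j : ℤ)} : Set (Fin 3 → ℤ))} = stairZ I i j := by
  refine Nat.card_congr
    { toFun := fun β => ⟨β.1.1 2, ?_⟩
      invFun := fun c => ⟨⟨e3 i j c.1, c.2⟩, by simp [cst, e3_apply]⟩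
      left_inv := fun β => Subtype.ext (Subtype.ext ?_)
      right_inv := fun c => Subtype.ext (by simp [e3_apply]) }
  · obtain ⟨h0, h1⟩ := β.2
    simp only [cst, Nat.cast_inj] at h0 h1
    have := β.1.2
    rwa [eq_e3 β.1.1, h0, h1] at this
  · obtain ⟨h0, h1⟩ := β.2
    simp only [cst, Nat.cast_inj] at h0 h1
    conv_rhs => rw [eq_e3 β.1.1, h0, h1]

end

open W4c1hilbpn in
/-- Let k be an infinite field, S = k[x,y,z], and T(I) = Hom_S(I, S/I) graded by triples of integers (a
graded piece is indexed by its multidegree; its sign pattern records which of the three entries are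
negative); let I be a monomial ideal of finite colength with staircase numbers b_{i,j} = the number
of c with x^i y^j z^c outside I. For all natural numbers i, j, the span of the graded pieces of T(I)
of multidegrees (i, j, c), c ranging over the integers, has dimension b_{i,j} plus the dimension of
the span of the graded pieces of multidegrees (-i-1, -j-1, c). -/
theorem result (k : Type u) [Field k] [Infinite k]
    (I : Ideal (MvPolynomial (Fin 3) k)) (hI : IsMonomial I) [Module.Finite k (MvPolynomial (Fin 3) k ⧸ I)] (i j : ℕ) :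
    Module.finrank k ↥(⨆ α : {α : Fin 3 → ℤ // α 0 = (i : ℤ) ∧ α 1 = (j : ℤ)}, tPiece I α.1) =
      stairZ I i j +
        Module.finrank k ↥(⨆ α : {α : Fin 3 → ℤ // α 0 = -(i : ℤ) - 1 ∧ α 1 = -(j : ℤ) - 1}, tPiece I α.1) := by
  let P : Set (Fin 3 → ℤ) := {α | α 0 = (i : ℤ) ∧ α 1 = (j : ℤ)}
  have hper : Groth.Agent.HilbPnLib.shf P (Groth.Agent.HilbPnLib.cst (Groth.Agent.HilbPnLib.ev 2)) = P := by
    ext α
    simp [P, Groth.Agent.HilbPnLib.shf, Groth.Agent.HilbPnLib.cst, Groth.Agent.HilbPnLib.ev]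
  have hr : Groth.Agent.HilbPnLib.refl' P = {α | α 0 = -(i : ℤ) - 1 ∧ α 1 = -(j : ℤ) - 1} := by
    ext α
    simp only [P, Groth.Agent.HilbPnLib.refl', Set.mem_setOf_eq, Pi.sub_apply, Pi.neg_apply, Pi.one_apply]
    omega
  have h := Groth.Agent.HilbPnLib.finrank_iSup_tPiece_refl 2 hper hI
  haveI : IsEmpty {β : Groth.Agent.HilbPnLib.Std I //
      Groth.Agent.HilbPnLib.cst β.1 ∈ Groth.Agent.HilbPnLib.refl' P} := ⟨fun β => by
    have := β.2.1
    simp [Groth.Agent.HilbPnLib.cst] at this
    omega⟩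
  rw [Nat.card_of_isEmpty, add_zero, stairZ_eq_card, hr, add_comm] at h
  exact h

end Groth.Agent.S13436
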