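import Groth.Statements.S13437
import Groth.Agent.HilbPnLib.DualityCor

set_option autoImplicit false
universe u
open W4c1hilbpn

namespace Groth.Agent.S13437

section
open Groth.Agent.HilbPnLib W4c1hilbpn

theorem finrank_tgt_eq {k : Type*} [Field k] {I : Ideal (MvPolynomial (Fin 3) k)}
    [Module.Finite k (MvPolynomial (Fin 3) k ⧸ I)] (hI : IsMonomial I) :
    Module.finrank k (Tgt I) =
      2 * ∑ i : Fin 3, Module.finrank k ↥(sigPiece I ({i}ᶜ : Set (Fin 3))) +
        3 * Module.finrank k (MvPolynomial (Fin 3) k ⧸ I) := by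
  classical
  have hall : ∀ (F : Finset (Finset (Fin 3))),
      Module.finrank k ↥(TP hI (⋃ N ∈ F, sigSet (N : Set (Fin 3)))) =
        ∑ N ∈ F, Module.finrank k ↥(TP hI (sigSet (N : Set (Fin 3)))) := by
    intro F
    induction F using Finset.induction_on with
    | empty =>
      simp only [Finset.sum_empty]
      rw [show TP hI (⋃ N ∈ (∅ : Finset (Finset (Fin 3))), sigSet (N : Set (Fin 3))) = ⊥ by
        rw [← iSup_tPiece_eq_TP hI]
        exact eq_bot_iff.2 (iSup_le fun α => absurd α.2 (by simp)), finrank_bot]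
    | insert N F hN ih =>
      rw [Finset.set_biUnion_insert, finrank_TP_union hI, Finset.sum_insert hN, ih]
      rw [Set.disjoint_iUnion₂_right]
      intro M hM
      exact disjoint_sigSet fun he => hN (Finset.coe_injective he ▸ hM)
  have hU : (⋃ N ∈ (Finset.univ : Finset (Finset (Fin 3))), sigSet (N : Set (Fin 3))) = Set.univ := by
    refine Set.eq_univ_of_forall fun α => Set.mem_iUnion₂.2
      ⟨Finset.univ.filter fun l => α l < 0, Finset.mem_univ _, fun l => by simp⟩
  have htop : TP hI Set.univ = ⊤ := eq_top_iff.2 fun φ _ γ _ β _ hd => absurd trivial hd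
  have h := hall Finset.univ
  rw [hU, htop, finrank_top] at h
  have huniv : (Finset.univ : Finset (Finset (Fin 3))) =
      {∅, {0}, {1}, {2}, {1, 2}, {0, 2}, {0, 1}, {0, 1, 2}} := by decide
  rw [huniv] at h
  repeat (rw [Finset.sum_insert (by decide)] at h)
  rw [Finset.sum_singleton] at h
  have c : ∀ i : Fin 3, ∀ S : Finset (Fin 3), (∀ l, l ∈ S ↔ l ≠ i) → (S : Set (Fin 3)) = {i}ᶜ :=
    fun i S hS => by ext l; simp [hS]
  have h3 : ((({0, 1, 2} : Finset (Fin 3))) : Set (Fin 3)) = Set.univ :=
    Set.eq_univ_of_forall fun l => by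
      simp only [Finset.mem_coe]
      revert l; decide
  rw [c 0 {1, 2} (by decide), c 1 {0, 2} (by decide), c 2 {0, 1} (by decide), h3, Finset.coe_empty,
    TP_sigSet_empty hI, TP_sigSet_univ hI, finrank_bot, Finset.coe_singleton, Finset.coe_singleton,
    Finset.coe_singleton, ← sigPiece_eq hI, ← sigPiece_eq hI, ← sigPiece_eq hI, ← sigPiece_eq hI,
    ← sigPiece_eq hI, ← sigPiece_eq hI, finrank_sigPiece_singleton hI 0, finrank_sigPiece_singleton hI 1,
    finrank_sigPiece_singleton hI 2] at h
  rw [h, Fin.sum_univ_three]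
  ring

end

open W4c1hilbpn in
/-- Let k be an infinite field, S = k[x,y,z] and I a monomial ideal of S of finite colength d. Then the
dimension of Hom_S(I, S/I) is congruent to d modulo 2. -/
theorem result (k : Type u) [Field k] [Infinite k]
    (I : Ideal (MvPolynomial (Fin 3) k)) (hI : IsMonomial I) [Module.Finite k (MvPolynomial (Fin 3) k ⧸ I)] :
    Module.finrank k (Tgt I) % 2 = Module.finrank k (MvPolynomial (Fin 3) k ⧸ I) % 2 := by
  rw [finrank_tgt_eq hI]
  omega

end Groth.Agent.S13437
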