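import Groth.Statements.S13438
import Groth.Agent.HilbPnLib.Tgt

set_option autoImplicit false
universe u
open W4c1hilbpn

namespace Groth.Agent.S13438

open Groth.Agent W4c1hilbpn

theorem core {k : Type u} [Field k] {I : Ideal (MvPolynomial (Fin 3) k)} (hI : IsMonomial I)
    [Module.Finite k (MvPolynomial (Fin 3) k ⧸ I)] {i j l : Fin 3} (hij : i ≠ j) (hil : i ≠ l) (hjl : j ≠ l)
    {β : Fin 3 →₀ ℕ} (hβ : β ∈ exps I) (hi : β i ≠ 0) (hj : β j ≠ 0) (hl : β l = 0)
    (hmi : β - Finsupp.single i 1 ∉ exps I) (hmj : β - Finsupp.single j 1 ∉ exps I) {p : Fin 3 →₀ ℕ}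
    (hp : p ∉ exps I) (hpi : p + Finsupp.single i (β i) ∈ exps I) (hpj : p + Finsupp.single j (β j) ∈ exps I)
    (hpi0 : p i = 0) (hpj0 : p j = 0) : sigPiece I ({i, j} : Set (Fin 3)) ≠ ⊥ := by
  have hcov : ∀ m : Fin 3, m = i ∨ m = j ∨ m = l := by omega
  have hmin : ∀ m, β m ≠ 0 → β - Finsupp.single m 1 ∉ exps I := fun m hm => by
    obtain rfl | rfl | rfl := hcov m
    · exact hmi
    · exact hmj
    · exact absurd hl hm
  obtain ⟨γ, hpγ, hγ, hsoc⟩ := HilbPnLib.exists_socle hI hp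
  have hlt : ∀ m, m = i ∨ m = j → γ m < β m := fun m hm => by
    by_contra hc
    push Not at hc
    refine hγ (HilbPnLib.exps_up (?_ : p + Finsupp.single m (β m) ∈ exps I) fun t => ?_)
    · obtain rfl | rfl := hm
      · exact hpi
      · exact hpj
    · have := hpγ t
      rw [Finsupp.add_apply]
      rcases eq_or_ne m t with rfl | ht
      · rw [Finsupp.single_eq_same, show p m = 0 by obtain rfl | rfl := hm <;> assumption]; omega
      · rw [Finsupp.single_eq_of_ne ht.symm]; omega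
  have hne := HilbPnLib.exists_ne_zero hI hβ (HilbPnLib.min_of_sub_notMem hmin) hγ hsoc
  intro hbot
  refine hne (eq_bot_iff.2 (hbot ▸ le_iSup (fun a : {a : Fin 3 → ℤ // ∀ m, a m < 0 ↔ m ∈ ({i, j} : Set (Fin 3))} => tPiece I a.1)
    ⟨fun m => (γ m : ℤ) - β m, fun m => ?_⟩))
  simp only [Set.mem_insert_iff, Set.mem_singleton_iff]
  constructor
  · intro h
    obtain rfl | rfl | rfl := hcov m
    · exact Or.inl rfl
    · exact Or.inr rfl
    · rw [hl] at h; simp at h; omega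
  · intro h
    have := hlt m h
    omega

open W4c1hilbpn in
/-- Let k be an infinite field, S = k[x,y,z], and T(I) = Hom_S(I, S/I) graded by triples of integers (a
graded piece is indexed by its multidegree; its sign pattern records which of the three entries are
negative); let I be a monomial ideal of finite colength whose minimal monomial generators include
x^a1 y^a2, x^b1 z^b3 and y^c2 z^c3 with all six exponents positive, and assume a1 ≥ b1 and a2 ≥ c2,
or b1 ≥ a1 and b3 ≥ c3, or c2 ≥ a2 and c3 ≥ b3. Then T(I) has a nonzero graded piece whose sign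
pattern is negative at exactly two of the three variables. (The published statement draws the
conclusion that the corresponding point of the Hilbert scheme of points of affine 3-space is
singular; this row records the nonvanishing of a tangent piece of forbidden sign pattern, from which
singularity follows by the smoothness criterion for monomial points.) -/
theorem result (k : Type u) [Field k] [Infinite k]
    (I : Ideal (MvPolynomial (Fin 3) k)) (hI : IsMonomial I) [Module.Finite k (MvPolynomial (Fin 3) k ⧸ I)]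
    (a1 a2 b1 b3 c2 c3 : ℕ) (ha1 : 0 < a1) (ha2 : 0 < a2) (hb1 : 0 < b1) (hb3 : 0 < b3)
    (hc2 : 0 < c2) (hc3 : 0 < c3)
    (hA : e3 a1 a2 0 ∈ exps I ∧ e3 (a1 - 1) a2 0 ∉ exps I ∧ e3 a1 (a2 - 1) 0 ∉ exps I)
    (hB : e3 b1 0 b3 ∈ exps I ∧ e3 (b1 - 1) 0 b3 ∉ exps I ∧ e3 b1 0 (b3 - 1) ∉ exps I)
    (hC : e3 0 c2 c3 ∈ exps I ∧ e3 0 (c2 - 1) c3 ∉ exps I ∧ e3 0 c2 (c3 - 1) ∉ exps I)
    (hcase : (b1 ≤ a1 ∧ c2 ≤ a2) ∨ (a1 ≤ b1 ∧ c3 ≤ b3) ∨ (a2 ≤ c2 ∧ b3 ≤ c3)) :
    sigPiece I ({0, 1} : Set (Fin 3)) ≠ ⊥ ∨ sigPiece I ({0, 2} : Set (Fin 3)) ≠ ⊥ ∨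
      sigPiece I ({1, 2} : Set (Fin 3)) ≠ ⊥ := by
  obtain ⟨hA, hA1, hA2⟩ := hA
  obtain ⟨hB, hB1, hB2⟩ := hB
  obtain ⟨hC, hC1, hC2⟩ := hC
  have up : ∀ {a b c a' b' c' : ℕ}, e3 a b c ∈ exps I → a ≤ a' → b ≤ b' → c ≤ c' → e3 a' b' c' ∈ exps I :=
    fun h h0 h1 h2 => HilbPnLib.exps_up h (HilbPnLib.e3_le h0 h1 h2)
  have hs : ∀ a b c, e3 a b c - Finsupp.single 0 1 = e3 (a - 1) b c ∧ e3 a b c - Finsupp.single 1 1 = e3 a (b - 1) c ∧
      e3 a b c - Finsupp.single 2 1 = e3 a b (c - 1) := fun a b c => by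
    refine ⟨?_, ?_, ?_⟩ <;> ext m <;> fin_cases m <;> simp [e3]
  have hadd : ∀ a b c t, e3 a b c + Finsupp.single 0 t = e3 (a + t) b c ∧ e3 a b c + Finsupp.single 1 t = e3 a (b + t) c ∧
      e3 a b c + Finsupp.single 2 t = e3 a b (c + t) := fun a b c t => by
    refine ⟨?_, ?_, ?_⟩ <;> ext m <;> fin_cases m <;> simp [e3]
  have hev : ∀ a b c, (e3 a b c) 0 = a ∧ (e3 a b c) 1 = b ∧ (e3 a b c) 2 = c := HilbPnLib.e3_apply
  obtain ⟨h1, h2⟩ | ⟨h1, h2⟩ | ⟨h1, h2⟩ := hcase
  · refine Or.inl (core hI (i := 0) (j := 1) (l := 2) (by decide) (by decide) (by decide) hA (by simp [hev]; omega) (by simp [hev]; omega)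
      (by simp [hev]) (by rw [(hs _ _ _).1]; exact hA1) (by rw [(hs _ _ _).2.1]; exact hA2) (p := e3 0 0 (max b3 c3)) ?_ ?_ ?_ (by simp [hev]) (by simp [hev]))
    · intro h
      rcases le_total b3 c3 with hh | hh
      · rw [max_eq_right hh] at h; exact hC1 (up h le_rfl (Nat.zero_le _) le_rfl)
      · rw [max_eq_left hh] at h; exact hB1 (up h (Nat.zero_le _) le_rfl le_rfl)
    · rw [(hev _ _ _).1, (hadd _ _ _ _).1]; exact up hB (by omega) le_rfl (by omega)
    · rw [(hev _ _ _).2.1, (hadd _ _ _ _).2.1]; exact up hC le_rfl (by omega) (by omega)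
  · refine Or.inr (Or.inl (core hI (i := 0) (j := 2) (l := 1) (by decide) (by decide) (by decide) hB (by simp [hev]; omega) (by simp [hev]; omega)
      (by simp [hev]) (by rw [(hs _ _ _).1]; exact hB1) (by rw [(hs _ _ _).2.2]; exact hB2) (p := e3 0 (max a2 c2) 0) ?_ ?_ ?_ (by simp [hev]) (by simp [hev])))
    · intro h
      rcases le_total a2 c2 with hh | hh
      · rw [max_eq_right hh] at h; exact hC2 (up h le_rfl le_rfl (Nat.zero_le _))
      · rw [max_eq_left hh] at h; exact hA1 (up h (Nat.zero_le _) le_rfl le_rfl)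
    · rw [(hev _ _ _).1, (hadd _ _ _ _).1]; exact up hA (by omega) (by omega) le_rfl
    · rw [(hev _ _ _).2.2, (hadd _ _ _ _).2.2]; exact up hC le_rfl (by omega) (by omega)
  · refine Or.inr (Or.inr (core hI (i := 1) (j := 2) (l := 0) (by decide) (by decide) (by decide) hC (by simp [hev]; omega) (by simp [hev]; omega)
      (by simp [hev]) (by rw [(hs _ _ _).2.1]; exact hC1) (by rw [(hs _ _ _).2.2]; exact hC2) (p := e3 (max a1 b1) 0 0) ?_ ?_ ?_ (by simp [hev]) (by simp [hev])))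
    · intro h
      rcases le_total a1 b1 with hh | hh
      · rw [max_eq_right hh] at h; exact hB2 (up h le_rfl le_rfl (Nat.zero_le _))
      · rw [max_eq_left hh] at h; exact hA2 (up h le_rfl (Nat.zero_le _) le_rfl)
    · rw [(hev _ _ _).2.1, (hadd _ _ _ _).2.1]; exact up hA (by omega) (by omega) le_rfl
    · rw [(hev _ _ _).2.2, (hadd _ _ _ _).2.2]; exact up hB (by omega) le_rfl (by omega)

end Groth.Agent.S13438
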