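import Groth.Statements.S13439
import Groth.Agent.HilbPnLib.Tgt

set_option autoImplicit false
universe u
open W4c1hilbpn

namespace Groth.Agent.S13439

open Groth.Agent W4c1hilbpn

open W4c1hilbpn in
/-- Let k be an infinite field, S = k[x,y,z], and T(I) = Hom_S(I, S/I) graded by triples of integers (a
graded piece is indexed by its multidegree; its sign pattern records which of the three entries are
negative); let I be a strongly stable ideal of finite colength (variables ordered x > y > z). Then x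
lies in I if and only if the three graded pieces of T(I) whose sign pattern is negative at exactly
two of the three variables all vanish. (The published statement phrases the right-hand side as
smoothness of the corresponding point of the Hilbert scheme of points of affine 3-space, which for a
monomial point is equivalent to this vanishing; the row records the vanishing condition, which is
what the argument establishes.) -/
theorem result (k : Type u) [Field k] [Infinite k]
    (I : Ideal (MvPolynomial (Fin 3) k)) (hI : IsStronglyStable I) [Module.Finite k (MvPolynomial (Fin 3) k ⧸ I)] :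
    (MvPolynomial.X 0 : MvPolynomial (Fin 3) k) ∈ I ↔
      (sigPiece I ({1, 2} : Set (Fin 3)) = ⊥ ∧ sigPiece I ({0, 2} : Set (Fin 3)) = ⊥ ∧
        sigPiece I ({0, 1} : Set (Fin 3)) = ⊥) := by
  have hX : (MvPolynomial.X 0 : MvPolynomial (Fin 3) k) ∈ I ↔ e3 1 0 0 ∈ exps I := by
    show _ ↔ MvPolynomial.monomial (e3 1 0 0) (1 : k) ∈ I
    rw [show e3 1 0 0 = Finsupp.single (0 : Fin 3) 1 by ext m; fin_cases m <;> simp [e3], MvPolynomial.X]
  rw [hX]
  constructor
  · intro hx
    have h0 : ∀ α : Fin 3 → ℤ, ∀ i : Fin 3, i ≠ 0 → α i < 0 → ∀ φ ∈ tPiece I α, ∀ β hβ, β 0 ≠ 0 → φ (HilbPnLib.gen β hβ) = 0 := by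
      intro α i hi0 hi φ hφ β hβ hb
      have hle : e3 1 0 0 ≤ β := by
        intro m
        fin_cases m <;> simp [e3]
        omega
      rw [HilbPnLib.map_gen_of_le φ hle hx hβ, HilbPnLib.apply_gen_eq_zero hφ hx (i := i), smul_zero]
      fin_cases i <;> simp_all [e3]
    have hkill : ∀ α : Fin 3 → ℤ, ∀ i : Fin 3, i ≠ 0 → α i < 0 → (α 0 < 0 ∨ ∃ j, j ≠ 0 ∧ j ≠ i ∧ α j < 0) → tPiece I α = ⊥ := by
      intro α i hi0 hi hor
      by_cases hc : α 0 = 0
      · obtain h | ⟨j, hj0, hji, hj⟩ := hor
        · omega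
        · refine HilbPnLib.tPiece_eq_bot_of_two_neg hI.1 (fun l => ?_) hji hj hi
          obtain rfl | rfl | rfl : l = 0 ∨ l = j ∨ l = i := by omega
          · omega
          · omega
          · omega
      refine (Submodule.eq_bot_iff _).2 fun φ hφ => HilbPnLib.tgt_ext hI.1 fun β hβ => ?_
      rw [LinearMap.zero_apply]
      by_cases hb : β 0 = 0
      · rcases lt_or_gt_of_ne hc with h | h
        · exact HilbPnLib.apply_gen_eq_zero hφ hβ (i := 0) (by omega)
        · refine HilbPnLib.apply_gen_eq_zero_of_shift hφ hβ fun hn => HilbPnLib.exps_up hx fun m => ?_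
          have := HilbPnLib.shift_cast hn 0
          fin_cases m <;> simp [e3]
          omega
      · exact h0 α i hi0 hi φ hφ β hβ hb
    refine ⟨?_, ?_, ?_⟩ <;> refine iSup_eq_bot.2 fun α => ?_
    · exact hkill α.1 1 (by decide) ((α.2 1).2 (by simp)) (Or.inr ⟨2, by decide, by decide, (α.2 2).2 (by simp)⟩)
    · exact hkill α.1 2 (by decide) ((α.2 2).2 (by simp)) (Or.inl ((α.2 0).2 (by simp)))
    · exact hkill α.1 1 (by decide) ((α.2 1).2 (by simp)) (Or.inl ((α.2 0).2 (by simp)))
  · rintro ⟨-, -, hbot⟩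
    by_contra hx
    classical
    have up : ∀ {a b c a' b' c' : ℕ}, e3 a b c ∈ exps I → a ≤ a' → b ≤ b' → c ≤ c' → e3 a' b' c' ∈ exps I :=
      fun h h0 h1 h2 => HilbPnLib.exps_up h (HilbPnLib.e3_le h0 h1 h2)
    have hZ : ∃ c, e3 0 0 c ∈ exps I := by
      obtain ⟨N, hN⟩ := HilbPnLib.exists_single_mem hI.1 2
      exact ⟨N, by rwa [show e3 0 0 N = Finsupp.single (2 : Fin 3) N by ext m; fin_cases m <;> simp [e3]]⟩
    have hY : ∃ b, e3 1 b 0 ∈ exps I := by
      obtain ⟨N, hN⟩ := HilbPnLib.exists_single_mem hI.1 1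
      exact ⟨N, HilbPnLib.exps_up hN fun m => by fin_cases m <;> simp [e3]⟩
    obtain ⟨c, hcc⟩ : ∃ c, Nat.find hZ = c + 1 := by
      refine ⟨Nat.find hZ - 1, ?_⟩
      have : Nat.find hZ ≠ 0 := fun h => hx (up (Nat.find_spec hZ) (Nat.zero_le _) le_rfl (by omega))
      omega
    obtain ⟨t, htt⟩ : ∃ t, Nat.find hY = t + 1 := by
      refine ⟨Nat.find hY - 1, ?_⟩
      have : Nat.find hY ≠ 0 := fun h => hx (by simpa [h] using Nat.find_spec hY)
      omega
    have hc0 : e3 0 0 c ∉ exps I := Nat.find_min hZ (by omega)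
    have hc1 : e3 0 0 (c + 1) ∈ exps I := hcc ▸ Nat.find_spec hZ
    have ht0 : e3 1 t 0 ∉ exps I := Nat.find_min hY (by omega)
    have ht1 : e3 1 (t + 1) 0 ∈ exps I := htt ▸ Nat.find_spec hY
    have ht2 : e3 0 (t + 1) 0 ∉ exps I := fun h => ht0 (HilbPnLib.step_yx hI h)
    have hmin : ∀ d : Fin 3 →₀ ℕ, d ∈ exps I → d ≤ e3 1 (t + 1) 0 → d = e3 1 (t + 1) 0 := by
      intro d hd hle
      have l0 := hle 0
      have l1 := hle 1
      have l2 := hle 2
      simp [e3] at l0 l1 l2
      rw [HilbPnLib.eq_e3 d] at hd ⊢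
      rcases eq_or_ne (d 0) 1 with h0 | h0
      · rcases eq_or_ne (d 1) (t + 1) with h1 | h1
        · rw [h0, h1, l2]
        · exact absurd (up hd (by omega) (by omega) (by omega)) ht0
      · exact absurd (up hd (by omega) (by omega) (by omega)) ht2
    have hne := HilbPnLib.exists_ne_zero hI.1 ht1 hmin hc0 (fun d hle hd => by
      rw [HilbPnLib.eq_e3 d] at hd ⊢
      have l2 := hle 2
      simp [e3] at l2
      rcases Nat.eq_zero_or_pos (d 0) with h0 | h0
      · rcases Nat.eq_zero_or_pos (d 1) with h1 | h1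
        · refine up hc1 (Nat.zero_le _) (Nat.zero_le _) ?_
          by_contra hlt
          refine hd ?_
          rw [h0, h1, show d 2 = c by omega]
        · exact up (HilbPnLib.step_zy hI hc1) (Nat.zero_le _) h1 l2
      · exact up (HilbPnLib.step_zx hI hc1) h0 (Nat.zero_le _) l2)
    refine hne (eq_bot_iff.2 (hbot ▸ le_iSup (fun a : {a : Fin 3 → ℤ // ∀ m, a m < 0 ↔ m ∈ ({0, 1} : Set (Fin 3))} => tPiece I a.1) ⟨_, fun m => ?_⟩))
    fin_cases m <;> simp [e3] <;> omega

end Groth.Agent.S13439
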