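import Groth.Statements.S13440
import Groth.Agent.HilbPnLib.Tgt

set_option autoImplicit false
universe u
open W4c1hilbpn

namespace Groth.Agent.S13440

open Groth.Agent W4c1hilbpn

theorem lt_stairZ {k : Type u} [Field k] {I : Ideal (MvPolynomial (Fin 3) k)} (hI : IsMonomial I)
    [Module.Finite k (MvPolynomial (Fin 3) k ⧸ I)] (a b c : ℕ) : e3 a b c ∉ exps I ↔ c < stairZ I a b := by
  classical
  have hex : ∃ c, e3 a b c ∈ exps I := by
    obtain ⟨N, hN⟩ := HilbPnLib.exists_single_mem hI 2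
    exact ⟨N, HilbPnLib.exps_up hN fun m => by fin_cases m <;> simp [e3]⟩
  have h : ∀ c, e3 a b c ∉ exps I ↔ c < Nat.find hex := fun c => by
    rw [Nat.lt_find_iff]
    exact ⟨fun h m hm hm' => h (HilbPnLib.exps_up hm' (HilbPnLib.e3_le le_rfl le_rfl hm)), fun h => h c le_rfl⟩
  rw [h, stairZ, Nat.card_congr (Equiv.subtypeEquivRight h), Nat.card_congr (Fin.equivSubtype (n := Nat.find hex)).symm, Nat.card_fin]

open W4c1hilbpn in
/-- Let k be an infinite field, S = k[x,y,z], and T(I) = Hom_S(I, S/I) graded by triples of integers (a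
graded piece is indexed by its multidegree; its sign pattern records which of the three entries are
negative); let I be a monomial ideal of finite colength with staircase numbers b_{i,j} = the number
of c with x^i y^j z^c outside I. For all natural numbers a1, a2, the span of the graded pieces of
T(I) of multidegrees (a1, a2, c) with c < 0 has dimension at most the sum, over all i ≥ a1 and j ≥
a2, of b_{i,j} - max(b_{i+1,j}, b_{i,j+1}) (a sum with finitely many nonzero terms). -/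
theorem result (k : Type u) [Field k] [Infinite k]
    (I : Ideal (MvPolynomial (Fin 3) k)) (hI : IsMonomial I) [Module.Finite k (MvPolynomial (Fin 3) k ⧸ I)] (a1 a2 : ℕ) :
    Module.finrank k ↥(⨆ α : {α : Fin 3 → ℤ // α 0 = (a1 : ℤ) ∧ α 1 = (a2 : ℤ) ∧ α 2 < 0}, tPiece I α.1) ≤
      ∑ᶠ p : ℕ × ℕ, (if a1 ≤ p.1 ∧ a2 ≤ p.2
        then stairZ I p.1 p.2 - max (stairZ I (p.1 + 1) p.2) (stairZ I p.1 (p.2 + 1)) else 0) := by
  classical
  let F : Finset (ℕ × ℕ) := (HilbPnLib.finite_compl_exps hI).toFinset.image fun g => (g 0, g 1)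
  let P : Finset (Σ _ : ℕ × ℕ, ℕ) := (F.filter fun p => a1 ≤ p.1 ∧ a2 ≤ p.2).sigma fun p =>
    Finset.Ico (max (stairZ I (p.1 + 1) p.2) (stairZ I p.1 (p.2 + 1))) (stairZ I p.1 p.2)
  have hnot : ∀ {a b c : ℕ}, stairZ I a b ≤ c → e3 a b c ∈ exps I := fun {a b c} h => by
    by_contra hc
    exact absurd ((lt_stairZ hI a b c).1 hc) (by omega)
  let Ψ : Tgt I →ₗ[k] ({x // x ∈ P} → k) :=
    { toFun := fun φ p => HilbPnLib.cf hI (e3 p.1.1.1 p.1.1.2 p.1.2)
        (φ (HilbPnLib.gen (e3 (p.1.1.1 - a1) (p.1.1.2 - a2) (stairZ I (p.1.1.1 - a1) (p.1.1.2 - a2))) (hnot le_rfl)))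
      map_add' := fun φ ψ => funext fun p => by simp
      map_smul' := fun c φ => funext fun p => by simp }
  let M : Submodule k (Tgt I) := ⨆ α : {α : Fin 3 → ℤ // α 0 = (a1 : ℤ) ∧ α 1 = (a2 : ℤ) ∧ α 2 < 0}, tPiece I α.1
  have hinj : Function.Injective (Ψ ∘ₗ M.subtype) := by
    rw [injective_iff_map_eq_zero]
    intro φ hφ
    refine Subtype.ext (HilbPnLib.tgt_ext hI fun β hβ => HilbPnLib.eq_of_cf hI fun γ hγ => ?_)
    rw [ZeroMemClass.coe_zero, LinearMap.zero_apply, map_zero]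
    let α : Fin 3 → ℤ := fun i => (γ i : ℤ) - β i
    have hnn : ∀ i, 0 ≤ (β i : ℤ) + α i := fun i => by simp [α]
    have hsh : shift β α = γ := HilbPnLib.shift_eq fun i => by simp [α]
    have hcomp : ∀ ψ : Tgt I, HilbPnLib.cf hI γ (HilbPnLib.comp hI α ψ (HilbPnLib.gen β hβ)) = HilbPnLib.cf hI γ (ψ (HilbPnLib.gen β hβ)) := fun ψ => by
      rw [HilbPnLib.comp, HilbPnLib.mkHom_gen, HilbPnLib.compFun, dif_pos hβ, if_pos hnn, hsh, map_smul,
        HilbPnLib.cf_mono_self hI hγ, smul_eq_mul, mul_one]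
    by_contra hne
    by_cases hA : α 0 = (a1 : ℤ) ∧ α 1 = (a2 : ℤ) ∧ α 2 < 0
    swap
    · refine hne ?_
      rw [← hcomp]
      refine Submodule.iSup_induction _ (motive := fun ψ => HilbPnLib.cf hI γ (HilbPnLib.comp hI α ψ (HilbPnLib.gen β hβ)) = 0)
        φ.2 (fun a ψ hψ => ?_) (by rw [hcomp, LinearMap.zero_apply, map_zero]) (fun x y hx hy => ?_)
      · rw [HilbPnLib.comp_of_ne hI (fun h => hA (by rw [h]; exact a.2)) hψ, LinearMap.zero_apply, map_zero]
      · rw [hcomp] at hx hy ⊢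
        rw [LinearMap.add_apply, map_add, hx, hy, add_zero]
    obtain ⟨e0, e1, e2⟩ := hA
    simp only [α] at e0 e1 e2
    let V : (Fin 3 →₀ ℕ) → Prop := fun g => g ∉ exps I ∧ ∃ b, ∃ hb : b ∈ exps I,
      (∀ i, (g i : ℤ) = b i + α i) ∧ HilbPnLib.cf hI g (HilbPnLib.comp hI α φ.1 (HilbPnLib.gen b hb)) ≠ 0
    have hV0 : V γ := ⟨hγ, β, hβ, fun i => by simp [α], by rwa [hcomp]⟩
    have hfin : {g | V g}.Finite := (HilbPnLib.finite_compl_exps hI).subset fun g hg => hg.1
    obtain ⟨g, hgV, hgmin⟩ := hfin.exists_minimalFor (fun g : Fin 3 →₀ ℕ => g 2) _ ⟨γ, hV0⟩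
    obtain ⟨g', hg', hgmax⟩ := (hfin.subset (fun x (hx : V x ∧ x 2 = g 2) => hx.1)).exists_maximalFor
      (fun x : Fin 3 →₀ ℕ => x 0 + x 1) _ ⟨g, hgV, rfl⟩
    obtain ⟨⟨hge, b, hb, hbe, hbne⟩, hz⟩ := hg'
    have hup : ∀ i : Fin 3, i ≠ 2 → Finsupp.single i 1 + g' ∈ exps I := fun i hi => by
      by_contra hc
      have hv : V (Finsupp.single i 1 + g') := ⟨hc, Finsupp.single i 1 + b, HilbPnLib.exps_up hb le_add_self, fun l => by
        simp only [Finsupp.add_apply]; push_cast; rw [hbe l]; ring, by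
        rw [HilbPnLib.map_gen_add _ (Finsupp.single i 1) hb, HilbPnLib.cf_smul hI hc]; exact hbne⟩
      have h2 : (Finsupp.single i 1 + g' : Fin 3 →₀ ℕ) 2 = g 2 := by
        rw [Finsupp.add_apply, Finsupp.single_eq_of_ne hi.symm, zero_add, hz]
      have := hgmax ⟨hv, h2⟩
      obtain rfl | rfl : i = 0 ∨ i = 1 := by omega
      · simp at this
      · simp at this
    have hdown : b - Finsupp.single 2 1 ∉ exps I := fun hc => by
      have hb2 : 1 ≤ b 2 := by have := hbe 2; simp only [α] at this; omega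
      have e := HilbPnLib.map_gen_of_le (HilbPnLib.comp hI α φ.1) (tsub_le_self : b - Finsupp.single 2 1 ≤ b) hc hb
      rw [tsub_tsub_cancel_of_le (Finsupp.single_le_iff.2 hb2)] at e
      rw [e] at hbne
      by_cases hg0 : g' 2 = 0
      · exact hbne (HilbPnLib.cf_smul_not_le hI (fun hle => by have := hle 2; simp [hg0] at this) _)
      · obtain ⟨g2, rfl⟩ := le_iff_exists_add.1 (Finsupp.single_le_iff.2 (show 1 ≤ g' 2 by omega))
        rw [HilbPnLib.cf_smul hI hge] at hbne
        have hv : V g2 := ⟨fun h => hge (HilbPnLib.exps_up h (by simp)), _, hc, fun l => by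
          have := hbe l
          simp only [Finsupp.add_apply, Finsupp.tsub_apply] at this ⊢
          rcases eq_or_ne 2 l with rfl | hl
          · rw [Finsupp.single_eq_same] at this ⊢; omega
          · rw [Finsupp.single_eq_of_ne hl.symm] at this ⊢; omega, hbne⟩
        have hlt : g2 2 < g 2 := by rw [← hz, Finsupp.add_apply, Finsupp.single_eq_same]; omega
        exact absurd (hgmin hv hlt.le) (by simp only; omega)
    have hb0 := hbe 0
    have hb1 := hbe 1
    have hb2 := hbe 2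
    simp only [α] at hb0 hb1 hb2
    have hbst : stairZ I (b 0) (b 1) = b 2 := by
      apply le_antisymm
      · by_contra hlt
        exact (lt_stairZ hI _ _ _).2 (by omega : b 2 < stairZ I (b 0) (b 1)) (HilbPnLib.eq_e3 b ▸ hb)
      · have : b 2 - 1 < stairZ I (b 0) (b 1) := (lt_stairZ hI _ _ _).1 fun h => hdown (by
          convert h using 1
          ext m; fin_cases m <;> simp [e3])
        omega
    have hst : ∀ i j, e3 i j (g' 2) ∈ exps I → stairZ I i j ≤ g' 2 := fun i j h => by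
      by_contra hlt; exact (lt_stairZ hI _ _ _).2 (by omega : g' 2 < stairZ I i j) h
    have hp : (⟨(g' 0, g' 1), g' 2⟩ : Σ _ : ℕ × ℕ, ℕ) ∈ P := by
      simp only [P, Finset.mem_sigma, Finset.mem_filter, Finset.mem_Ico, max_le_iff]
      refine ⟨⟨Finset.mem_image.2 ⟨g', (Set.Finite.mem_toFinset _).2 hge, rfl⟩, by omega, by omega⟩, ⟨?_, ?_⟩, ?_⟩
      · refine hst _ _ ?_
        convert hup 0 (by decide) using 1
        ext m; fin_cases m <;> simp [e3] <;> omega
      · refine hst _ _ ?_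
        convert hup 1 (by decide) using 1
        ext m; fin_cases m <;> simp [e3] <;> omega
      · exact (lt_stairZ hI _ _ _).1 (HilbPnLib.eq_e3 g' ▸ hge)
    refine hbne ?_
    have hbnn : ∀ i, 0 ≤ (b i : ℤ) + α i := fun i => by rw [← hbe i]; positivity
    rw [HilbPnLib.comp, HilbPnLib.mkHom_gen, HilbPnLib.compFun, dif_pos hb, if_pos hbnn,
      HilbPnLib.shift_eq hbe, map_smul, HilbPnLib.cf_mono_self hI hge, smul_eq_mul, mul_one]
    have h0 : HilbPnLib.cf hI (e3 (g' 0) (g' 1) (g' 2))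
        (φ.1 (HilbPnLib.gen (e3 (g' 0 - a1) (g' 1 - a2) (stairZ I (g' 0 - a1) (g' 1 - a2))) (hnot le_rfl))) = 0 :=
      congrFun hφ ⟨⟨(g' 0, g' 1), g' 2⟩, hp⟩
    refine Eq.trans ?_ h0
    rw [← HilbPnLib.eq_e3 g']
    refine congrArg (fun x => HilbPnLib.cf hI g' (φ.1 x)) (Subtype.ext ?_)
    simp only [HilbPnLib.gen]
    conv_lhs => rw [HilbPnLib.eq_e3 b]
    rw [show g' 0 - a1 = b 0 by omega, show g' 1 - a2 = b 1 by omega, hbst]
  refine le_trans (LinearMap.finrank_le_finrank_of_injective hinj) ?_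
  rw [Module.finrank_pi, Fintype.card_coe]
  simp only [P, Finset.card_sigma, Nat.card_Ico]
  rw [Finset.sum_filter, finsum_eq_sum_of_support_subset _ (s := F) ?_]
  intro p hp
  simp only [Function.mem_support] at hp
  split_ifs at hp
  · refine Finset.mem_image.2 ⟨e3 p.1 p.2 0, (Set.Finite.mem_toFinset _).2 ((lt_stairZ hI _ _ _).2 (by omega)), by simp [e3]⟩
  · simp at hp

end Groth.Agent.S13440
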