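import Groth.Statements.S13441
import Groth.Agent.HilbPnLib.Basic

set_option autoImplicit false
universe u
open W4c1hilbpn

namespace Groth.Agent.S13441

theorem card_compl_le {P Q : ℕ → Prop} [Finite {x // ¬ Q x}] (h : ∀ x, Q x → P x) :
    Nat.card {x // ¬ P x} ≤ Nat.card {x // ¬ Q x} :=
  Nat.card_le_card_of_injective (fun c => (⟨c.1, fun hc => c.2 (h _ hc)⟩ : {x // ¬ Q x}))
    fun _ _ h => Subtype.ext (Subtype.mk.inj h)

open W4c1hilbpn in
/-- Let k be an infinite field, S = k[x,y,z] with variables ordered x > y > z, and I a strongly stable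
ideal of finite colength, with staircase numbers b^z_{i,j} = the number of c with x^i y^j z^c
outside I and b^y_{i,j} = the number of b with x^i y^b z^j outside I. Then b^z_{i+1,j} ≤ b^z_{i,j+1}
and b^y_{i+1,j} ≤ b^y_{i,j+1} for all i and j (equivalently the maximum of the two neighbouring
staircase numbers is the second one). -/
theorem result (k : Type u) [Field k] [Infinite k]
    (I : Ideal (MvPolynomial (Fin 3) k)) (hI : IsStronglyStable I) [Module.Finite k (MvPolynomial (Fin 3) k ⧸ I)] (i j : ℕ) :
    stairZ I (i + 1) j ≤ stairZ I i (j + 1) ∧ stairY I (i + 1) j ≤ stairY I i (j + 1) := by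
  have := HilbPnLib.finite_stairZ hI.1 i (j + 1)
  have := HilbPnLib.finite_stairY hI.1 i (j + 1)
  exact ⟨card_compl_le (Q := fun c => e3 i (j + 1) c ∈ exps I) fun c h => HilbPnLib.step_yx hI h,
    card_compl_le (Q := fun b => e3 i b (j + 1) ∈ exps I) fun c h => HilbPnLib.step_zx hI h⟩

end Groth.Agent.S13441
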