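import Groth.Statements.S13442
import Groth.Agent.HilbPnLib.Pow

set_option autoImplicit false
universe u
open W4c1hilbpn

namespace Groth.Agent.S13442

open Groth.Agent W4c1hilbpn

theorem sum3 (f : Fin 3 → ℕ) (i : Fin 3) : ∑ m, f m = f i + f (i + 1) + f (i + 2) := by
  rw [Fin.sum_univ_three]; fin_cases i <;> simp <;> omega

/-- vector with prescribed entries -/
noncomputable def mk3 (i : Fin 3) (a b c : ℕ) : Fin 3 →₀ ℕ :=
  Finsupp.equivFunOnFinite.symm fun m => if m = i then a else if m = i + 1 then b else c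

theorem mk3_apply (i : Fin 3) (a b c : ℕ) : mk3 i a b c i = a ∧ mk3 i a b c (i + 1) = b ∧ mk3 i a b c (i + 2) = c := by
  fin_cases i <;> simp [mk3]

theorem eq_mk3 (i : Fin 3) (x : Fin 3 →₀ ℕ) : mk3 i (x i) (x (i + 1)) (x (i + 2)) = x := by
  ext m; fin_cases i <;> fin_cases m <;> simp [mk3]

theorem deg_mk3 (i : Fin 3) (a b c : ℕ) : (mk3 i a b c).degree = a + b + c := by
  rw [Finsupp.degree_eq_sum, sum3 _ i, (mk3_apply i a b c).1, (mk3_apply i a b c).2.1, (mk3_apply i a b c).2.2]

theorem deg3 (i : Fin 3) (x : Fin 3 →₀ ℕ) : x.degree = x i + x (i + 1) + x (i + 2) := by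
  rw [Finsupp.degree_eq_sum, sum3 _ i]

theorem cases3 (i m : Fin 3) : m = i ∨ m = i + 1 ∨ m = i + 2 := by fin_cases i <;> fin_cases m <;> simp

theorem ne3 (i : Fin 3) : i + 1 ≠ i ∧ i + 2 ≠ i ∧ i + 1 ≠ i + 2 := by fin_cases i <;> decide

theorem card_aux (r m : ℕ) : Nat.card {f : Fin 5 → ℕ // ∑ x, f x + m = r} = if m ≤ r then (r - m + 4).choose 4 else 0 := by
  split_ifs with h
  · rw [show r - m + 4 = 5 + (r - m) - 1 by omega, Nat.choose_symm_of_eq_add (show 5 + (r - m) - 1 = 4 + (r - m) by omega),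
      ← Nat.multichoose_eq, ← HilbPnLib.card_sum_eq]
    exact Nat.card_congr (Equiv.subtypeEquivRight fun f => by omega)
  · rw [Nat.card_eq_zero]
    exact Or.inl ⟨fun f => by have := f.2; omega⟩

theorem card_one (r : ℕ) (i : Fin 3) :
    Nat.card {p : HilbPnLib.Pairs 3 r // HilbPnLib.pdeg p ∈ {α : Fin 3 → ℤ | ∀ m, α m < 0 ↔ m ∈ ({i} : Set (Fin 3))}} = (r + 3).choose 4 := by
  have hne := ne3 i
  have key : ∀ p : HilbPnLib.Pairs 3 r, (∀ m, HilbPnLib.pdeg p m < 0 ↔ m ∈ ({i} : Set (Fin 3))) →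
      p.1.2 i < p.1.1 i ∧ p.1.1 (i + 1) ≤ p.1.2 (i + 1) ∧ p.1.1 (i + 2) ≤ p.1.2 (i + 2) := fun p hp => by
    have h0 := (hp i).2 rfl
    have h1 := mt (hp (i + 1)).1 (by simpa using hne.1)
    have h2 := mt (hp (i + 2)).1 (by simpa using hne.2.1)
    simp only [HilbPnLib.pdeg] at h0 h1 h2
    omega
  trans Nat.card {f : Fin 5 → ℕ // ∑ x, f x + 1 = r}
  · refine Nat.card_congr
      { toFun := fun p => ⟨![p.1.1.1 (i + 1), p.1.1.2 (i + 1) - p.1.1.1 (i + 1), p.1.1.1 (i + 2),
            p.1.1.2 (i + 2) - p.1.1.1 (i + 2), p.1.1.2 i], by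
          have := key p.1 p.2
          have h2 := p.1.2.2
          rw [deg3 i] at h2
          simp [Fin.sum_univ_five]; omega⟩
        invFun := fun f => ⟨⟨(mk3 i (f.1 1 + f.1 3 + f.1 4 + 1) (f.1 0) (f.1 2), mk3 i (f.1 4) (f.1 0 + f.1 1) (f.1 2 + f.1 3)), by
          have h := f.2
          rw [Fin.sum_univ_five] at h
          rw [deg_mk3, deg_mk3]; omega⟩, fun m => by
            rcases cases3 i m with rfl | rfl | rfl <;>
              simp [HilbPnLib.pdeg, mk3_apply, hne.1, hne.2.1] <;> omega⟩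
        left_inv := fun p => by
          have := key p.1 p.2
          have h1 := p.1.2.1
          have h2 := p.1.2.2
          rw [deg3 i] at h1 h2
          refine Subtype.ext (Subtype.ext (Prod.ext ?_ ?_))
          · conv_rhs => rw [← eq_mk3 i p.1.1.1]
            simp only [Matrix.cons_val]
            congr 1; omega
          · conv_rhs => rw [← eq_mk3 i p.1.1.2]
            simp only [Matrix.cons_val]
            congr 1 <;> omega
        right_inv := fun f => by
          refine Subtype.ext (funext fun x => ?_)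
          fin_cases x <;> simp [mk3_apply] }
  · rw [card_aux]
    split_ifs with h
    · rw [show r - 1 + 4 = r + 3 by omega]
    · rw [Nat.choose_eq_zero_of_lt (by omega)]

theorem card_two (r : ℕ) (i : Fin 3) :
    Nat.card {p : HilbPnLib.Pairs 3 r // HilbPnLib.pdeg p ∈ {α : Fin 3 → ℤ | ∀ m, α m < 0 ↔ m ∈ ({i}ᶜ : Set (Fin 3))}} = (r + 2).choose 4 := by
  have hne := ne3 i
  have key : ∀ p : HilbPnLib.Pairs 3 r, (∀ m, HilbPnLib.pdeg p m < 0 ↔ m ∈ ({i}ᶜ : Set (Fin 3))) →
      p.1.1 i ≤ p.1.2 i ∧ p.1.2 (i + 1) < p.1.1 (i + 1) ∧ p.1.2 (i + 2) < p.1.1 (i + 2) := fun p hp => by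
    have h0 := mt (hp i).1 (by simp)
    have h1 := (hp (i + 1)).2 (by simpa using hne.1)
    have h2 := (hp (i + 2)).2 (by simpa using hne.2.1)
    simp only [HilbPnLib.pdeg] at h0 h1 h2
    omega
  trans Nat.card {f : Fin 5 → ℕ // ∑ x, f x + 2 = r}
  · refine Nat.card_congr
      { toFun := fun p => ⟨![p.1.1.1 i, p.1.1.2 (i + 1), p.1.1.1 (i + 1) - p.1.1.2 (i + 1) - 1,
            p.1.1.1 (i + 2) - p.1.1.2 (i + 2) - 1, p.1.1.2 (i + 2)], by
          have := key p.1 p.2
          have h2 := p.1.2.1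
          rw [deg3 i] at h2
          simp [Fin.sum_univ_five]; omega⟩
        invFun := fun f => ⟨⟨(mk3 i (f.1 0) (f.1 1 + 1 + f.1 2) (f.1 4 + 1 + f.1 3), mk3 i (f.1 0 + f.1 2 + f.1 3 + 1) (f.1 1) (f.1 4)), by
          have h := f.2
          rw [Fin.sum_univ_five] at h
          rw [deg_mk3, deg_mk3]; omega⟩, fun m => by
            rcases cases3 i m with rfl | rfl | rfl <;>
              simp [HilbPnLib.pdeg, mk3_apply, hne.1, hne.2.1] <;> omega⟩
        left_inv := fun p => by
          have := key p.1 p.2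
          have h1 := p.1.2.1
          have h2 := p.1.2.2
          rw [deg3 i] at h1 h2
          refine Subtype.ext (Subtype.ext (Prod.ext ?_ ?_))
          · conv_rhs => rw [← eq_mk3 i p.1.1.1]
            simp only [Matrix.cons_val]
            congr 1 <;> omega
          · conv_rhs => rw [← eq_mk3 i p.1.1.2]
            simp only [Matrix.cons_val]
            congr 1; omega
        right_inv := fun f => by
          refine Subtype.ext (funext fun x => ?_)
          fin_cases x <;> simp [mk3_apply] <;> omega }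
  · rw [card_aux]
    split_ifs with h
    · rw [show r - 2 + 4 = r + 2 by omega]
    · rw [Nat.choose_eq_zero_of_lt (by omega)]

open W4c1hilbpn in
/-- Let k be an infinite field, S = k[x,y,z], and T(I) = Hom_S(I, S/I) graded by triples of integers (a
graded piece is indexed by its multidegree; its sign pattern records which of the three entries are
negative); let m = (x,y,z) and r a natural number. For each variable index i, the span of the graded
pieces of T(m^r) negative exactly at i has dimension C(r+3, 4), the span of those negative exactly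
at the other two indices has dimension C(r+2, 4), and T(m^r) itself has dimension C(r+2, 2) · C(r+1,
2). -/
theorem result (k : Type u) [Field k] [Infinite k] (r : ℕ)
    (i : Fin 3) :
    Module.finrank k ↥(sigPiece ((Ideal.span (Set.range (MvPolynomial.X : Fin 3 → MvPolynomial (Fin 3) k))) ^ r) {i}) = Nat.choose (r + 3) 4 ∧
      Module.finrank k ↥(sigPiece ((Ideal.span (Set.range (MvPolynomial.X : Fin 3 → MvPolynomial (Fin 3) k))) ^ r) ({i}ᶜ : Set (Fin 3))) = Nat.choose (r + 2) 4 ∧
        Module.finrank k (Tgt ((Ideal.span (Set.range (MvPolynomial.X : Fin 3 → MvPolynomial (Fin 3) k))) ^ r)) = Nat.choose (r + 2) 2 * Nat.choose (r + 1) 2 := by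
  refine ⟨(HilbPnLib.finrank_iSup_tPiece (by norm_num) r _).trans (card_one r i),
    (HilbPnLib.finrank_iSup_tPiece (by norm_num) r _).trans (card_two r i),
    (HilbPnLib.finrank_tgt (by norm_num) r).trans ?_⟩
  rw [show Nat.card (HilbPnLib.Pairs 3 r) = Nat.card ({b : Fin 3 →₀ ℕ // b.degree = r} × {b : Fin 3 →₀ ℕ // b.degree + 1 = r}) from
    Nat.card_congr (Equiv.subtypeProdEquivProd (p := fun b : Fin 3 →₀ ℕ => b.degree = r) (q := fun b : Fin 3 →₀ ℕ => b.degree + 1 = r)),
    Nat.card_prod, HilbPnLib.card_deg_eq, Nat.multichoose_eq,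
    Nat.choose_symm_of_eq_add (show 3 + r - 1 = r + 2 by omega), show 3 + r - 1 = r + 2 by omega]
  congr 1
  cases r with
  | zero => simp
  | succ s =>
    rw [show Nat.card {b : Fin 3 →₀ ℕ // b.degree + 1 = s + 1} = Nat.card {b : Fin 3 →₀ ℕ // b.degree = s} from
      Nat.card_congr (Equiv.subtypeEquivRight fun b => by omega), HilbPnLib.card_deg_eq, Nat.multichoose_eq,
      Nat.choose_symm_of_eq_add (show 3 + s - 1 = s + 2 by omega), show 3 + s - 1 = s + 2 by omega]

end Groth.Agent.S13442
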