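import Groth.Statements.S13443
import Groth.Agent.HilbPnLib.Stair
import Groth.Agent.HilbPnLib.StairY
import Groth.Agent.HilbPnLib.DualityCor
import Groth.Agent.S13440
import Groth.Agent.S13441
import Groth.Agent.S13442

set_option autoImplicit false
universe u
open W4c1hilbpn

namespace Groth.Agent.S13443

open Groth.Agent

theorem telescope (f : ℕ → ℕ) (hf : ∀ n, f (n + 1) ≤ f n) (n : ℕ) :
    ∑ j ∈ Finset.range n, (j + 1) * (f j - f (j + 1)) + n * f n = ∑ j ∈ Finset.range n, f j := by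
  induction n with
  | zero => simp
  | succ n ih =>
    rw [Finset.sum_range_succ, Finset.sum_range_succ, ← ih]
    obtain ⟨d, hd⟩ := Nat.exists_eq_add_of_le (hf n)
    rw [hd, show f (n + 1) + d - f (n + 1) = d by omega]
    ring

theorem finrank_sig_le {k : Type u} [Field k] {I : Ideal (MvPolynomial (Fin 3) k)} (hI : IsMonomial I)
    [Module.Finite k (MvPolynomial (Fin 3) k ⧸ I)] (N : Set (Fin 3)) (u v w : Fin 3)
    (hN : ∀ α : Fin 3 → ℤ, (∀ l, α l < 0 ↔ l ∈ N) → 0 ≤ α u ∧ 0 ≤ α v ∧ α w < 0)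
    (st : ℕ → ℕ → ℕ) (Q : Finset (ℕ × ℕ × ℕ)) (hst : ∀ a b c, (a, b, c) ∈ Q ↔ c < st a b)
    (hmono : ∀ a b, st a (b + 1) ≤ st a b) (hmax : ∀ a b, st (a + 1) b ≤ st a (b + 1))
    (hb : ∀ a1 a2 : ℕ, Module.finrank k ↥(⨆ α : {α : Fin 3 → ℤ // α u = (a1 : ℤ) ∧ α v = (a2 : ℤ) ∧ α w < 0}, tPiece I α.1) ≤
      ∑ᶠ p : ℕ × ℕ, (if a1 ≤ p.1 ∧ a2 ≤ p.2
        then st p.1 p.2 - max (st (p.1 + 1) p.2) (st p.1 (p.2 + 1)) else 0)) :
    Module.finrank k ↥(sigPiece I N) ≤ ∑ q ∈ Q, (q.1 + 1) := by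
  classical
  haveI := HilbPnLib.finite_tgt hI
  set n := Q.sup (fun q => max q.1 q.2.1) + 1 with hn
  have hzero : ∀ a b, n ≤ a ∨ n ≤ b → st a b = 0 := fun a b hab => by
    by_contra h
    have := Finset.le_sup (f := fun q : ℕ × ℕ × ℕ => max q.1 q.2.1) ((hst a b 0).2 (Nat.pos_of_ne_zero h))
    simp only at this
    omega
  let box := Finset.range n ×ˢ Finset.range n
  let bd : ℕ × ℕ → ℕ := fun a => ∑ p ∈ box, if a.1 ≤ p.1 ∧ a.2 ≤ p.2 then st p.1 p.2 - st p.1 (p.2 + 1) else 0
  let M : ℕ × ℕ → Submodule k (Tgt I) := fun a =>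
    ⨆ α : {α : Fin 3 → ℤ // α u = (a.1 : ℤ) ∧ α v = (a.2 : ℤ) ∧ α w < 0}, tPiece I α.1
  have hM : ∀ a, Module.finrank k (M a) ≤ bd a := fun a => by
    refine (hb a.1 a.2).trans (le_of_eq ?_)
    rw [finsum_eq_sum_of_support_subset _ (s := box) ?_]
    · exact Finset.sum_congr rfl fun p _ => by rw [max_eq_right (hmax _ _)]
    · intro p hp
      simp only [Function.mem_support] at hp
      simp only [box, Finset.coe_product, Finset.coe_range, Set.mem_prod, Set.mem_Iio]
      by_contra hc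
      have := hzero p.1 p.2 (by omega)
      exact hp (by split_ifs <;> omega)
  have hle : sigPiece I N ≤ box.sup M := by
    refine iSup_le fun α => ?_
    obtain ⟨h0, h1, h2⟩ := hN α.1 α.2
    by_cases hbox : ((α.1 u).toNat, (α.1 v).toNat) ∈ box
    · refine le_trans ?_ (Finset.le_sup hbox)
      exact le_iSup (fun a : {a : Fin 3 → ℤ // a u = ((α.1 u).toNat : ℤ) ∧ a v = ((α.1 v).toNat : ℤ) ∧ a w < 0} => tPiece I a.1)
        ⟨α.1, by omega, by omega, h2⟩
    · have h0' : M ((α.1 u).toNat, (α.1 v).toNat) = ⊥ := by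
        refine Submodule.finrank_eq_zero.1 (Nat.le_zero.1 ((hM _).trans (le_of_eq (Finset.sum_eq_zero fun p hp => ?_))))
        simp only [box, Finset.mem_product, Finset.mem_range] at hp hbox
        rw [if_neg]
        omega
      refine le_trans ?_ bot_le (b := (⊥ : Submodule k (Tgt I)))
      rw [← h0']
      exact le_iSup (fun a : {a : Fin 3 → ℤ // a u = ((α.1 u).toNat : ℤ) ∧ a v = ((α.1 v).toNat : ℤ) ∧ a w < 0} => tPiece I a.1)
        ⟨α.1, by omega, by omega, h2⟩
  refine (Submodule.finrank_mono hle).trans ?_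
  have hsup : ∀ s : Finset (ℕ × ℕ), Module.finrank k ↥(s.sup M) ≤ ∑ a ∈ s, bd a := by
    intro s
    induction s using Finset.induction_on with
    | empty => simp
    | insert a s ha ih =>
      rw [Finset.sup_insert, Finset.sum_insert ha]
      exact (Submodule.finrank_add_le_finrank_add_finrank _ _).trans (add_le_add (hM a) ih)
  refine (hsup box).trans (le_of_eq ?_)
  simp only [bd]
  rw [Finset.sum_comm]
  have h1 : ∀ p ∈ box, (∑ a ∈ box, if a.1 ≤ p.1 ∧ a.2 ≤ p.2 then st p.1 p.2 - st p.1 (p.2 + 1) else 0) =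
      (p.1 + 1) * ((p.2 + 1) * (st p.1 p.2 - st p.1 (p.2 + 1))) := fun p hp => by
    rw [← Finset.sum_filter, Finset.sum_const, smul_eq_mul, ← mul_assoc]
    congr 1
    rw [show box.filter (fun a : ℕ × ℕ => a.1 ≤ p.1 ∧ a.2 ≤ p.2) = Finset.range (p.1 + 1) ×ˢ Finset.range (p.2 + 1) by
      simp only [box, Finset.mem_product, Finset.mem_range] at hp
      ext a; simp only [box, Finset.mem_filter, Finset.mem_product, Finset.mem_range]; omega]
    rw [Finset.card_product, Finset.card_range, Finset.card_range]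
  rw [Finset.sum_congr rfl h1, Finset.sum_product]
  have h2 : ∀ i, ∑ j ∈ Finset.range n, (i + 1) * ((j + 1) * (st i j - st i (j + 1))) = ∑ j ∈ Finset.range n, (i + 1) * st i j := fun i => by
    rw [← Finset.mul_sum, ← Finset.mul_sum, ← telescope (st i) (hmono i) n, hzero i n (Or.inr le_rfl), mul_zero, add_zero]
  rw [Finset.sum_congr rfl fun i _ => h2 i]
  rw [show ∑ i ∈ Finset.range n, ∑ j ∈ Finset.range n, (i + 1) * st i j =
      ∑ q ∈ box.sigma (fun p => Finset.range (st p.1 p.2)), (q.1.1 + 1) by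
    rw [Finset.sum_sigma, Finset.sum_product]; simp [mul_comm]]
  refine Finset.sum_nbij' (fun q => (q.1.1, q.1.2, q.2)) (fun q => ⟨(q.1, q.2.1), q.2.2⟩) (fun q hq => ?_) (fun q hq => ?_)
    (fun _ _ => rfl) (fun _ _ => rfl) (fun _ _ => rfl)
  · simp only [Finset.mem_coe, Finset.mem_sigma, Finset.mem_range] at hq
    exact (hst _ _ _).2 hq.2
  · simp only [box, Finset.mem_coe, Finset.mem_sigma, Finset.mem_product, Finset.mem_range]
    have hlt := (hst q.1 q.2.1 q.2.2).1 hq
    refine ⟨⟨?_, ?_⟩, hlt⟩ <;> by_contra hc <;> have := hzero q.1 q.2.1 (by omega) <;> omega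

open W4c1hilbpn in
/-- Let k be an infinite field, S = k[x,y,z], and T(I) = Hom_S(I, S/I) graded by triples of integers (a
graded piece is indexed by its multidegree; its sign pattern records which of the three entries are
negative), variables ordered x > y > z; let m = (x,y,z), r a natural number and I a strongly stable
ideal of colength C(r+2, 3) = dim S/m^r. Then the spans of the graded pieces of T(I) negative
exactly at z, resp. exactly at y, have dimension at most C(r+3, 4), the spans of those negative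
exactly at x and y, resp. exactly at x and z, have dimension at most C(r+2, 4) (these are the
corresponding dimensions for m^r), and in each of the four cases equality holds if and only if I =
m^r. (The published statement assumes the ideal Borel-fixed over a field of characteristic zero,
which for monomial ideals means strongly stable; the argument uses only strong stability, and the
row is stated in that form.) -/
theorem result (k : Type u) [Field k] [Infinite k] (r : ℕ)
    (I : Ideal (MvPolynomial (Fin 3) k)) (hI : IsStronglyStable I) [Module.Finite k (MvPolynomial (Fin 3) k ⧸ I)]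
    (hd : Module.finrank k (MvPolynomial (Fin 3) k ⧸ I) = Nat.choose (r + 2) 3) :
    (Module.finrank k ↥(sigPiece I ({2} : Set (Fin 3))) ≤ Nat.choose (r + 3) 4 ∧
      (Module.finrank k ↥(sigPiece I ({2} : Set (Fin 3))) = Nat.choose (r + 3) 4 ↔ I = (Ideal.span (Set.range (MvPolynomial.X : Fin 3 → MvPolynomial (Fin 3) k))) ^ r)) ∧
    (Module.finrank k ↥(sigPiece I ({1} : Set (Fin 3))) ≤ Nat.choose (r + 3) 4 ∧
      (Module.finrank k ↥(sigPiece I ({1} : Set (Fin 3))) = Nat.choose (r + 3) 4 ↔ I = (Ideal.span (Set.range (MvPolynomial.X : Fin 3 → MvPolynomial (Fin 3) k))) ^ r)) ∧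
    (Module.finrank k ↥(sigPiece I ({0, 1} : Set (Fin 3))) ≤ Nat.choose (r + 2) 4 ∧
      (Module.finrank k ↥(sigPiece I ({0, 1} : Set (Fin 3))) = Nat.choose (r + 2) 4 ↔ I = (Ideal.span (Set.range (MvPolynomial.X : Fin 3 → MvPolynomial (Fin 3) k))) ^ r)) ∧
    (Module.finrank k ↥(sigPiece I ({0, 2} : Set (Fin 3))) ≤ Nat.choose (r + 2) 4 ∧
      (Module.finrank k ↥(sigPiece I ({0, 2} : Set (Fin 3))) = Nat.choose (r + 2) 4 ↔ I = (Ideal.span (Set.range (MvPolynomial.X : Fin 3 → MvPolynomial (Fin 3) k))) ^ r)) := by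
  classical
  have hm := hI.1
  have hD : (HilbPnLib.triples hm).card = Nat.choose (r + 2) 3 := by rw [HilbPnLib.card_triples, hd]
  obtain ⟨hw, hweq⟩ := (HilbPnLib.stair3_triples hI).wt_le r hD.le
  have c4 : Nat.choose (r + 3) 4 = Nat.choose (r + 2) 3 + Nat.choose (r + 2) 4 := Nat.choose_succ_succ' (r + 2) 3
  have hsum : ∑ q ∈ HilbPnLib.triples hm, (q.1 + 1) = HilbPnLib.Stair.wt3 (HilbPnLib.triples hm) + Nat.choose (r + 2) 3 := by
    rw [Finset.sum_add_distrib, ← Finset.card_eq_sum_ones, hD]; rfl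
  have hz : Module.finrank k ↥(sigPiece I ({2} : Set (Fin 3))) ≤ ∑ q ∈ HilbPnLib.triples hm, (q.1 + 1) := by
    refine finrank_sig_le hm _ 0 1 2 (fun α h => ?_) (stairZ I) _
      (fun a b c => (HilbPnLib.mem_triples hm).trans (S13440.lt_stairZ hm a b c))
      (fun a b => ?_) (fun a b => (S13441.result k I hI a b).1) (fun a1 a2 => S13440.result k I hm a1 a2)
    · exact ⟨not_lt.1 fun hl => by simpa using (h 0).1 hl, not_lt.1 fun hl => by simpa using (h 1).1 hl, (h 2).2 rfl⟩
    · by_contra hlt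
      exact (S13440.lt_stairZ hm a (b + 1) (stairZ I a b)).2 (by omega)
        (HilbPnLib.exps_up (by_contra fun hc => lt_irrefl _ ((S13440.lt_stairZ hm a b (stairZ I a b)).1 hc))
          (HilbPnLib.e3_le le_rfl (Nat.le_succ _) le_rfl))
  have hy : Module.finrank k ↥(sigPiece I ({1} : Set (Fin 3))) ≤ ∑ q ∈ HilbPnLib.triples hm, (q.1 + 1) := by
    let sw : ℕ × ℕ × ℕ → ℕ × ℕ × ℕ := fun q => (q.1, q.2.2, q.2.1)
    have hsw : Function.Injective sw := fun p q h => by
      simp only [sw, Prod.ext_iff] at h ⊢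
      exact ⟨h.1, h.2.2, h.2.1⟩
    rw [show ∑ q ∈ HilbPnLib.triples hm, (q.1 + 1) = ∑ q ∈ (HilbPnLib.triples hm).image sw, (q.1 + 1) by
      rw [Finset.sum_image fun p _ q _ h => hsw h]]
    refine finrank_sig_le hm _ 0 2 1 (fun α h => ?_) (stairY I) _ (fun a b c => ?_)
      (fun a b => ?_) (fun a b => (S13441.result k I hI a b).2) (fun a1 a2 => HilbPnLib.finrank_iSup_tPiece_pnp_le k I hm a1 a2)
    · exact ⟨not_lt.1 fun hl => by simpa using (h 0).1 hl, not_lt.1 fun hl => by simpa using (h 2).1 hl, (h 1).2 rfl⟩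
    · rw [show (a, b, c) = sw (a, c, b) from rfl, hsw.mem_finset_image, HilbPnLib.mem_triples hm, HilbPnLib.lt_stairY hm]
    · by_contra hlt
      exact (HilbPnLib.lt_stairY hm a (b + 1) (stairY I a b)).2 (by omega)
        (HilbPnLib.exps_up (by_contra fun hc => lt_irrefl _ ((HilbPnLib.lt_stairY hm a b (stairY I a b)).1 hc))
          (HilbPnLib.e3_le le_rfl le_rfl (Nat.le_succ _)))
  rw [hsum] at hz hy
  have hpair : ∀ (i : Fin 3) (N : Set (Fin 3)), ({i}ᶜ : Set (Fin 3)) = N →
      Module.finrank k ↥(sigPiece I {i}) = Module.finrank k ↥(sigPiece I N) + Nat.choose (r + 2) 3 := fun i N h => by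
    subst h; rw [HilbPnLib.finrank_sigPiece_singleton hm i, hd]
  have e01 := hpair 2 {0, 1} (by ext m; fin_cases m <;> simp)
  have e02 := hpair 1 {0, 2} (by ext m; fin_cases m <;> simp)
  have heq : ∀ i : Fin 3, Module.finrank k ↥(sigPiece I ({i} : Set (Fin 3))) ≤ HilbPnLib.Stair.wt3 (HilbPnLib.triples hm) + Nat.choose (r + 2) 3 →
      (Module.finrank k ↥(sigPiece I ({i} : Set (Fin 3))) ≤ Nat.choose (r + 3) 4 ∧
        (Module.finrank k ↥(sigPiece I ({i} : Set (Fin 3))) = Nat.choose (r + 3) 4 ↔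
          I = (Ideal.span (Set.range (MvPolynomial.X : Fin 3 → MvPolynomial (Fin 3) k))) ^ r)) := fun i h => by
    refine ⟨by omega, fun he => ?_, fun he => ?_⟩
    · exact HilbPnLib.eq_powVars_of_deg_lt hm (hweq (by omega)) hD
    · subst he
      exact (S13442.result k r i).1
  obtain ⟨hz1, hz2⟩ := heq 2 hz
  obtain ⟨hy1, hy2⟩ := heq 1 hy
  refine ⟨⟨hz1, hz2⟩, ⟨hy1, hy2⟩, ⟨by omega, ?_⟩, by omega, ?_⟩
  · rw [← hz2]; omega
  · rw [← hy2]; omega

end Groth.Agent.S13443
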