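import Groth.Statements.S13446
import Groth.Agent.HilbPnLib.SliceBound
import Groth.Agent.S13442

set_option autoImplicit false
universe u
open W4c1hilbpn

namespace Groth.Agent.S13446

open Groth.Agent

theorem choose_id (r : ℕ) : 3 * (r + 1) * Nat.choose (r + 2) 3 = 2 * (Nat.choose (r + 2) 2 * Nat.choose (r + 1) 2) := by
  have h2 : Nat.choose (r + 2) 3 * 3 = Nat.choose (r + 2) 2 * r := by
    have h := Nat.choose_succ_right_eq (r + 2) 2
    rwa [show r + 2 - 2 = r by omega] at h
  have h1 : Nat.choose (r + 1) 2 * 2 = (r + 1) * r := by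
    have h := Nat.choose_succ_right_eq (r + 1) 1
    rwa [Nat.choose_one_right, show r + 1 - 1 = r by omega] at h
  calc 3 * (r + 1) * Nat.choose (r + 2) 3 = (r + 1) * (Nat.choose (r + 2) 3 * 3) := by ring
    _ = Nat.choose (r + 2) 2 * ((r + 1) * r) := by rw [h2]; ring
    _ = 2 * (Nat.choose (r + 2) 2 * Nat.choose (r + 1) 2) := by rw [← h1]; ring

open W4c1hilbpn in
/-- Let k be an infinite field, S = k[x,y,z] with irrelevant ideal m, and d, r, p natural numbers with d
≤ C(r+2, 3) and 4p ≤ 3r + 1. For every monomial ideal I of S of colength d containing x^p, the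
dimension of Hom_S(I, S/I) is at most that of Hom_S(m^r, S/m^r). -/
theorem result (k : Type u) [Field k] [Infinite k] (d r p : ℕ)
    (hdr : d ≤ Nat.choose (r + 2) 3) (hp : 4 * p ≤ 3 * r + 1) (I : Ideal (MvPolynomial (Fin 3) k)) (hI : IsMonomial I)
    [Module.Finite k (MvPolynomial (Fin 3) k ⧸ I)] (hd : Module.finrank k (MvPolynomial (Fin 3) k ⧸ I) = d)
    (hx : (MvPolynomial.X 0 : MvPolynomial (Fin 3) k) ^ p ∈ I) :
    Module.finrank k (Tgt I) ≤ Module.finrank k (Tgt ((Ideal.span (Set.range (MvPolynomial.X : Fin 3 → MvPolynomial (Fin 3) k))) ^ r)) := by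
  have hmem : Finsupp.single 0 p ∈ exps I := by
    show MvPolynomial.monomial (Finsupp.single 0 p) (1 : k) ∈ I
    rwa [← MvPolynomial.X_pow_eq_monomial]
  rw [(S13442.result k r 0).2.2]
  have h := HilbPnLib.finrank_tgt_le_of_single_mem hI hmem
  rw [hd] at h
  refine h.trans ?_
  have e := choose_id r
  have h1 : 2 * ((2 * p + 1) * d) ≤ 3 * (r + 1) * Nat.choose (r + 2) 3 := by
    rw [← mul_assoc]
    exact Nat.mul_le_mul (by omega) hdr
  omega

end Groth.Agent.S13446
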