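import Groth.Statements.S13445
import Groth.Agent.HilbPnLib.SliceBound
import Groth.Agent.HilbPnLib.Degen
import Groth.Agent.S13446

set_option autoImplicit false
universe u
open W4c1hilbpn

namespace Groth.Agent.S13445

open Groth.Agent MvPolynomial

section helpers
variable {k : Type u} [Field k]

theorem finrank_tgt_map (I : Ideal (MvPolynomial (Fin 3) k)) (σ : MvPolynomial (Fin 3) k ≃ₐ[k] MvPolynomial (Fin 3) k) :
    Module.finrank k (Tgt (I.map σ.toRingEquiv)) = Module.finrank k (Tgt I) ∧
      Nonempty ((MvPolynomial (Fin 3) k ⧸ I) ≃ₐ[k] MvPolynomial (Fin 3) k ⧸ I.map σ.toRingEquiv) := by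
  let Q := Ideal.quotientEquivAlg I (I.map σ.toRingEquiv) σ rfl
  have hm : ∀ f, f ∈ I → σ f ∈ I.map σ.toRingEquiv := fun f hf => Ideal.mem_map_of_mem _ hf
  have hm' : ∀ f, f ∈ I.map σ.toRingEquiv → σ.symm f ∈ I := fun f hf => by
    obtain ⟨g, hg, rfl⟩ := (Ideal.mem_map_iff_of_surjective _ σ.toRingEquiv.surjective).1 hf
    simpa using hg
  have hQ : ∀ (r : MvPolynomial (Fin 3) k) (x : MvPolynomial (Fin 3) k ⧸ I), Q (r • x) = σ r • Q x := fun r x => by
    obtain ⟨q, rfl⟩ := Ideal.Quotient.mk_surjective x
    show Q (Ideal.Quotient.mk I (r * q)) = σ r • Q (Ideal.Quotient.mk I q)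
    simp only [Q, Ideal.quotientEquivAlg_mk, map_mul]
    rfl
  have hQ' : ∀ (r : MvPolynomial (Fin 3) k) (x : MvPolynomial (Fin 3) k ⧸ I.map σ.toRingEquiv), Q.symm (r • x) = σ.symm r • Q.symm x := fun r x => by
    apply Q.injective
    rw [Q.apply_symm_apply, hQ, σ.apply_symm_apply, Q.apply_symm_apply]
  let e : Tgt I ≃ₗ[k] Tgt (I.map σ.toRingEquiv) :=
    { toFun := fun φ =>
        { toFun := fun f => Q (φ ⟨σ.symm f.1, hm' _ f.2⟩)
          map_add' := fun f g => by
            rw [← map_add, ← map_add]
            congr 2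
            exact Subtype.ext (map_add σ.symm _ _)
          map_smul' := fun r f => by
            rw [RingHom.id_apply]
            conv_rhs => rw [← σ.apply_symm_apply r, ← hQ, ← map_smul]
            congr 2
            exact Subtype.ext (map_mul σ.symm _ _) }
      invFun := fun ψ =>
        { toFun := fun f => Q.symm (ψ ⟨σ f.1, hm _ f.2⟩)
          map_add' := fun f g => by
            rw [← map_add, ← map_add]
            congr 2
            exact Subtype.ext (map_add σ _ _)
          map_smul' := fun r f => by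
            rw [RingHom.id_apply]
            conv_rhs => rw [← σ.symm_apply_apply r, ← hQ', ← map_smul]
            congr 2
            exact Subtype.ext (map_mul σ _ _) }
      left_inv := fun φ => LinearMap.ext fun f => by simp
      right_inv := fun ψ => LinearMap.ext fun f => by simp
      map_add' := fun φ ψ => LinearMap.ext fun f => by simp
      map_smul' := fun c φ => LinearMap.ext fun f => by simp }
  exact ⟨e.finrank_eq.symm, ⟨Q⟩⟩

theorem exists_low_degree (r : ℕ) (I : Ideal (MvPolynomial (Fin 3) k)) [Module.Finite k (MvPolynomial (Fin 3) k ⧸ I)]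
    (hd : Module.finrank k (MvPolynomial (Fin 3) k ⧸ I) ≤ Nat.choose (r + 2) 3) :
    ∃ f ∈ I, f ≠ 0 ∧ f.totalDegree ≤ r := by
  classical
  by_contra hc
  push Not at hc
  let T := {f : Fin 4 → ℕ // ∑ i, f i = r}
  haveI : Finite {b : Fin 4 →₀ ℕ // b.degree = r} :=
    ((Finsupp.finite_of_degree_le r).subset fun b (hb : b.degree = r) => show b.degree ≤ r from hb.le).to_subtype
  haveI : Finite T := Finite.of_equiv _ (HilbPnLib.degEquiv 4 r)
  haveI : Fintype T := Fintype.ofFinite T
  let ι : T → (Fin 3 →₀ ℕ) := fun f => e3 (f.1 0) (f.1 1) (f.1 2)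
  have hι : Function.Injective ι := fun f g h => by
    have h0 : f.1 0 = g.1 0 := by simpa [ι, e3] using congrArg (fun x : Fin 3 →₀ ℕ => x 0) h
    have h1 : f.1 1 = g.1 1 := by simpa [ι, e3] using congrArg (fun x : Fin 3 →₀ ℕ => x 1) h
    have h2 : f.1 2 = g.1 2 := by simpa [ι, e3] using congrArg (fun x : Fin 3 →₀ ℕ => x 2) h
    have hf := f.2
    have hg := g.2
    rw [Fin.sum_univ_four] at hf hg
    refine Subtype.ext (funext fun i => ?_)
    fin_cases i <;> simp <;> omega
  have hli : LinearIndependent k (fun t : T => Ideal.Quotient.mk I (monomial (ι t) (1 : k))) := by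
    rw [linearIndependent_iff']
    intro S l hl i hi
    let f : MvPolynomial (Fin 3) k := ∑ s ∈ S, monomial (ι s) (l s)
    have hcoeff : f.coeff (ι i) = l i := by
      rw [coeff_sum, Finset.sum_eq_single i]
      · rw [coeff_monomial, if_pos rfl]
      · exact fun s _ hs => by rw [coeff_monomial, if_neg fun h => hs (hι h)]
      · exact fun h => absurd hi h
    by_contra hne
    have hf0 : f ≠ 0 := fun h => hne (by rw [← hcoeff, h, coeff_zero])
    have hfI : f ∈ I := by
      rw [← Ideal.Quotient.eq_zero_iff_mem, map_sum, ← hl]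
      refine Finset.sum_congr rfl fun s _ => ?_
      rw [← Ideal.Quotient.mkₐ_eq_mk k, ← map_smul, smul_monomial, smul_eq_mul, mul_one]
    refine absurd (hc f hfI hf0) (not_lt.2 (Finset.sup_le fun d hd => ?_))
    obtain ⟨s, -, hs⟩ := Finset.exists_ne_zero_of_sum_ne_zero (show (∑ s ∈ S, (monomial (ι s) (l s)).coeff d) ≠ 0 by
      rw [← coeff_sum]; exact mem_support_iff.1 hd)
    obtain rfl : ι s = d := by by_contra h; rw [coeff_monomial, if_neg h] at hs; exact hs rfl
    rw [Finsupp.sum_fintype _ _ (fun _ => rfl), Fin.sum_univ_three]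
    have := s.2
    rw [Fin.sum_univ_four] at this
    simp [ι, e3]
    omega
  have h := hli.fintype_card_le_finrank
  rw [← Nat.card_eq_fintype_card, show Nat.card T = Nat.multichoose 4 r from HilbPnLib.card_sum_eq 4 r, Nat.multichoose_eq,
    show 4 + r - 1 = r + 3 by omega, Nat.choose_symm_add] at h
  have := Nat.choose_succ_succ' (r + 2) 2
  have := Nat.choose_pos (show 2 ≤ r + 2 by omega)
  simp only [add_assoc, Nat.reduceAdd] at *
  omega

theorem exists_good_change [Infinite k] (f : MvPolynomial (Fin 3) k) (hf : f ≠ 0) :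
    ∃ σ : MvPolynomial (Fin 3) k ≃ₐ[k] MvPolynomial (Fin 3) k,
      (σ f).totalDegree ≤ f.totalDegree ∧ (σ f).coeff (Finsupp.single 0 f.totalDegree) ≠ 0 := by
  classical
  set p := f.totalDegree with hp
  rcases Nat.eq_zero_or_pos p with h0 | hpos
  · refine ⟨AlgEquiv.refl, le_rfl, ?_⟩
    rw [AlgEquiv.coe_refl, id_eq, h0, Finsupp.single_zero]
    intro h
    rw [hp] at h0
    rw [totalDegree_eq_zero_iff_eq_C.1 h0] at hf
    exact hf (by rw [h, C_0])
  have hh : homogeneousComponent p f ≠ 0 := by
    obtain ⟨d, hd, hdeg⟩ := Finset.exists_mem_eq_sup f.support (support_nonempty.2 hf) (fun d => d.sum fun _ e => e)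
    intro h
    have := congrArg (fun q => q.coeff d) h
    simp only [coeff_zero] at this
    rw [coeff_homogeneousComponent, if_pos (by rw [hp, totalDegree, hdeg]; rfl)] at this
    exact mem_support_iff.1 hd this
  obtain ⟨v, hv⟩ : ∃ v : Fin 3 → k, eval v (homogeneousComponent p f) ≠ 0 := by
    by_contra hc
    push Not at hc
    exact hh (MvPolynomial.funext fun v => by rw [hc v, map_zero])
  obtain ⟨i, hi⟩ : ∃ i, v i ≠ 0 := by
    by_contra hc
    push Not at hc
    refine hv ?_
    rw [eval_eq, Finset.sum_eq_zero]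
    intro d hd
    rw [mem_support_iff, coeff_homogeneousComponent] at hd
    have hdp : d.degree = p := by by_contra h; rw [if_neg h] at hd; exact hd rfl
    obtain ⟨j, hj⟩ : ∃ j, d j ≠ 0 := by
      by_contra hz
      push Not at hz
      rw [show d = 0 from Finsupp.ext hz, map_zero] at hdp
      omega
    rw [Finset.prod_eq_zero (Finsupp.mem_support_iff.2 hj) (by rw [hc j, zero_pow hj]), mul_zero]
  let π : Equiv.Perm (Fin 3) := Equiv.swap 0 i
  let σ' : MvPolynomial (Fin 3) k →ₐ[k] MvPolynomial (Fin 3) k :=
    aeval fun j => C (v j) * X 0 + if j = i then 0 else X (π j)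
  let τ : MvPolynomial (Fin 3) k →ₐ[k] MvPolynomial (Fin 3) k :=
    aeval fun m => if m = 0 then C (v i)⁻¹ * X i else X (π m) - C (v (π m) * (v i)⁻¹) * X i
  have hst : σ'.comp τ = AlgHom.id k _ := algHom_ext fun m => by
    simp only [AlgHom.comp_apply, τ, aeval_X, AlgHom.id_apply]
    split_ifs with hm
    · subst hm
      simp only [σ', map_mul, aeval_C, aeval_X, if_true, add_zero]
      rw [MvPolynomial.algebraMap_eq, ← mul_assoc, ← C_mul, inv_mul_cancel₀ hi, C_1, one_mul]
    · have hne : π m ≠ i := fun h => hm (π.injective (h.trans (Equiv.swap_apply_left 0 i).symm))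
      simp only [σ', map_sub, map_mul, aeval_C, aeval_X, if_neg hne, if_true, add_zero]
      rw [show π (π m) = m from Equiv.swap_apply_self 0 i m, MvPolynomial.algebraMap_eq,
        show C (v (π m)) * C (v i)⁻¹ * (C (v i) * X 0) = (C (v (π m)) * X 0 : MvPolynomial (Fin 3) k) by
          rw [← mul_assoc, mul_assoc (C (v (π m))), ← C_mul, inv_mul_cancel₀ hi, C_1, mul_one]]
      ring
  have hts : τ.comp σ' = AlgHom.id k _ := algHom_ext fun j => by
    simp only [AlgHom.comp_apply, σ', aeval_X, AlgHom.id_apply, map_add, map_mul, τ, aeval_C, if_true]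
    rw [MvPolynomial.algebraMap_eq]
    split_ifs with hj
    · subst hj
      rw [map_zero, add_zero, ← mul_assoc, ← C_mul, mul_inv_cancel₀ hi, C_1, one_mul]
    · have hne : π j ≠ 0 := fun h => hj (π.injective (h.trans (Equiv.swap_apply_right 0 i).symm))
      rw [aeval_X, if_neg hne, show π (π j) = j from Equiv.swap_apply_self 0 i j]
      ring
  refine ⟨AlgEquiv.ofAlgHom σ' τ hst hts, ?_, ?_⟩
  · show (σ' f).totalDegree ≤ p
    rw [f.as_sum, map_sum]
    refine (totalDegree_finset_sum _ _).trans (Finset.sup_le fun d hd => ?_)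
    simp only [σ', aeval_monomial, MvPolynomial.algebraMap_eq]
    refine (totalDegree_mul _ _).trans ?_
    rw [totalDegree_C, zero_add]
    refine (totalDegree_finset_prod _ _).trans ?_
    refine le_trans (Finset.sum_le_sum (g := fun j => d j) fun j _ => ?_) ?_
    · refine (totalDegree_pow _ _).trans ?_
      refine (Nat.mul_le_mul_left _ ?_).trans (le_of_eq (mul_one _))
      refine (totalDegree_add _ _).trans (max_le ((totalDegree_mul _ _).trans (by rw [totalDegree_C, totalDegree_X, zero_add])) ?_)
      split_ifs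
      · rw [totalDegree_zero]; exact Nat.zero_le _
      · rw [totalDegree_X]
    · rw [hp]; exact le_totalDegree hd
  · show (σ' f).coeff (Finsupp.single 0 p) ≠ 0
    let ev : MvPolynomial (Fin 3) k →ₐ[k] Polynomial k := aeval fun j => if j = 0 then Polynomial.X else 0
    have hev : ∀ g : MvPolynomial (Fin 3) k, (ev g).coeff p = g.coeff (Finsupp.single 0 p) := fun g => by
      induction g using MvPolynomial.induction_on' with
      | add a b ha hb => rw [map_add, Polynomial.coeff_add, ha, hb, coeff_add]
      | monomial d a =>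
        simp only [ev, aeval_monomial]
        rw [Finsupp.prod_fintype _ _ (fun _ => pow_zero _), Fin.prod_univ_three]
        simp only [if_true, show ((1 : Fin 3) = 0) = False by decide, show ((2 : Fin 3) = 0) = False by decide, if_false]
        rw [coeff_monomial]
        by_cases h12 : d 1 = 0 ∧ d 2 = 0
        · rw [h12.1, h12.2, pow_zero, mul_one, mul_one, Polynomial.algebraMap_eq, Polynomial.coeff_C_mul, Polynomial.coeff_X_pow]
          have : d = Finsupp.single 0 p ↔ p = d 0 := by
            refine ⟨fun h => by rw [h, Finsupp.single_eq_same], fun h => ?_⟩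
            ext m; fin_cases m <;> simp [h, h12.1, h12.2]
          by_cases hpd : p = d 0
          · rw [if_pos hpd, if_pos (this.2 hpd), mul_one]
          · rw [if_neg hpd, if_neg (mt this.1 hpd), mul_zero]
        · rw [if_neg (fun h => h12 (by subst h; simp))]
          rcases not_and_or.1 h12 with h | h <;> simp [zero_pow h]
    rw [← hev, show ev (σ' f) = aeval (fun j => Polynomial.C (v j) * Polynomial.X) f by
      rw [← AlgHom.comp_apply]
      congr 1
      refine algHom_ext fun j => ?_
      simp only [σ', ev, AlgHom.comp_apply, aeval_X, map_add, map_mul, aeval_C, if_true, Polynomial.algebraMap_eq]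
      split_ifs with hj
      · simp
      · rw [aeval_X, if_neg fun h => hj (π.injective (h.trans (Equiv.swap_apply_right 0 i).symm)), add_zero]]
    convert hv using 1
    rw [aeval_def, eval₂_eq, Polynomial.finset_sum_coeff, homogeneousComponent_apply, map_sum, Finset.sum_filter]
    refine Finset.sum_congr rfl fun d _ => ?_
    rw [Polynomial.algebraMap_eq, Polynomial.coeff_C_mul]
    simp only [mul_pow]
    rw [Finset.prod_mul_distrib, Finset.prod_pow_eq_pow_sum]
    simp only [← map_pow]
    rw [← map_prod, Polynomial.coeff_C_mul, Polynomial.coeff_X_pow, ← Finsupp.degree_apply]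
    split_ifs with h1 h2 h2
    · rw [eval_monomial, mul_one]; rfl
    · exact absurd h1.symm h2
    · exact absurd h2.symm h1
    · rw [mul_zero, mul_zero]

end helpers

open W4c1hilbpn in
/-- Let k be an infinite field, S = k[x,y,z] with irrelevant ideal m, and d, r natural numbers with d ≤
C(r+2, 3). For every ideal I of S of colength d, three times the dimension of Hom_S(I, S/I) is at
most four times the dimension of Hom_S(m^r, S/m^r). -/
theorem result (k : Type u) [Field k] [Infinite k] (d r : ℕ)
    (hdr : d ≤ Nat.choose (r + 2) 3) (I : Ideal (MvPolynomial (Fin 3) k)) [Module.Finite k (MvPolynomial (Fin 3) k ⧸ I)]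
    (hd : Module.finrank k (MvPolynomial (Fin 3) k ⧸ I) = d) :
    3 * Module.finrank k (Tgt I) ≤ 4 * Module.finrank k (Tgt ((Ideal.span (Set.range (MvPolynomial.X : Fin 3 → MvPolynomial (Fin 3) k))) ^ r)) := by
  classical
  obtain ⟨f, hfI, hf0, hdeg⟩ := exists_low_degree r I (hd ▸ hdr)
  obtain ⟨σ, hσd, hσc⟩ := exists_good_change f hf0
  obtain ⟨heq, ⟨Q⟩⟩ := finrank_tgt_map I σ
  set J := I.map σ.toRingEquiv with hJ
  haveI : Module.Finite k (MvPolynomial (Fin 3) k ⧸ J) := Module.Finite.equiv Q.toLinearEquiv
  let o : MonomialOrder (Fin 3) := MonomialOrder.degLex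
  set p := f.totalDegree
  have hlead : Finsupp.single 0 p ∈ HilbPnLib.Degen.lead o J := by
    refine ⟨σ f, Ideal.mem_map_of_mem _ hfI, fun h => hσc (by rw [h, coeff_zero]), o.toSyn.injective (le_antisymm ?_ (o.le_degree (mem_support_iff.2 hσc)))⟩
    refine o.degree_le_iff.2 fun d hd => MonomialOrder.degLex_le_iff.2 (Finsupp.DegLex.le_iff.2 ?_)
    have hdp : d.degree ≤ p := (le_totalDegree hd).trans hσd
    rcases hdp.lt_or_eq with h | h
    · exact Or.inl (by simpa using h)
    · refine Or.inr ⟨by simpa using h, ?_⟩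
      have hd3 : d 0 + d 1 + d 2 = p := by rw [← h, Finsupp.degree_eq_sum, Fin.sum_univ_three]
      by_cases h0 : d 0 = p
      · exact le_of_eq (congrArg toLex (by ext m; fin_cases m <;> simp <;> omega))
      · exact le_of_lt (Finsupp.Lex.lt_iff.2 ⟨0, fun j hj => absurd hj (by omega), by
          simp only [ofLex_toLex, ofDegLex_toDegLex, Finsupp.single_eq_same]; omega⟩)
  haveI := HilbPnLib.Degen.finite_ini o J
  have h1 := (HilbPnLib.Degen.finrank_tgt_le o J).2
  have h2 := HilbPnLib.finrank_tgt_le_of_single_mem (HilbPnLib.Degen.isMonomial_ini o J)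
    ((HilbPnLib.Degen.mem_exps_ini o J).2 hlead)
  rw [HilbPnLib.Degen.finrank_ini, ← Q.toLinearEquiv.finrank_eq, hd] at h2
  rw [(S13442.result k r 0).2.2]
  rw [heq] at h1
  have e := S13446.choose_id r
  have h3 : (2 * p + 1) * d ≤ 2 * (r + 1) * Nat.choose (r + 2) 3 := Nat.mul_le_mul (by omega) hdr
  have h4 : 3 * (2 * (r + 1) * Nat.choose (r + 2) 3) = 2 * (3 * (r + 1) * Nat.choose (r + 2) 3) := by ring
  omega

end Groth.Agent.S13445
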