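import Groth.Statements.S13448
import Groth.Agent.HilbPnLib.TwoBlock

set_option autoImplicit false
universe u
open W4c1hilbpn

namespace Groth.Agent.S13448

open Groth.Agent W4c1hilbpn HilbPnLib.TwoBlock MvPolynomial

open W4c1hilbpn in
/-- Let k be a field and S = k[x_0, ..., x_n] with its standard grading; for an ideal I write Hom_S(I,
S/I)_0 for the degree-0 homomorphisms (for a monomial ideal: the span of the multigraded pieces
whose multidegree has entry sum 0). Let n ≥ 4 and I = x_0·(x_0, ..., x_{n-1}) + x_1·(x_1, ...,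
x_{n-2}) (the case q = 1, r = 1 of the two-block family). Then Hom_S(I, S/I)_0 has dimension 6n - 6.
(The published statement gives this as the dimension of the tangent space to the Hilbert scheme at
the point I; the row records the dimension count.) -/
theorem result (k : Type u) [Field k] (n : ℕ) (hn : 4 ≤ n) :
    Module.finrank k ↥(⨆ α : {α : Fin (n + 1) → ℤ // ∑ i, α i = 0}, tPiece (Ideal.span ({f : MvPolynomial (Fin (n + 1)) k | ∃ i : Fin (n + 1), i.val + 1 ≤ n ∧ f = MvPolynomial.X 0 * MvPolynomial.X i} ∪ {f : MvPolynomial (Fin (n + 1)) k | ∃ i : Fin (n + 1), 1 ≤ i.val ∧ i.val ≤ n - 2 ∧ f = MvPolynomial.X 1 * MvPolynomial.X i})) α.1) = 6 * n - 6 := by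
  have h := finrank_twoBlock (k := k) (n := n) (q := 1) (s := n - 2) (by omega) le_rfl (by omega) (by omega) (by omega)
  have e : Ideal.span ({f : MvPolynomial (Fin (n + 1)) k | ∃ i : Fin (n + 1), i.val + 1 ≤ n ∧ f = X 0 * X i} ∪
      {f : MvPolynomial (Fin (n + 1)) k | ∃ i : Fin (n + 1), 1 ≤ i.val ∧ i.val ≤ n - 2 ∧ f = X 1 * X i}) = idl k n 1 (n - 2) := by
    rw [← span_eq_idl n 1 (n - 2)]
    simp only [pow_one]
  rw [e]
  rw [h, card_single _ _ _ (by omega), card_lidx _ _ _ (by omega)]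
  haveI : Unique {j : Fin (n + 1) // j.val < n ∧ 1 = 1 ∧ ∀ m : ℕ, n - 2 < m → m < n → m = j.val} :=
    ⟨⟨⟨⟨n - 1, by omega⟩, by simp; omega, rfl, fun m h h' => by simp; omega⟩⟩, fun ⟨j, hj, _, hm⟩ => by
      refine Subtype.ext (Fin.ext ?_)
      exact (hm (n - 1) (by omega) (by omega)).symm⟩
  rw [Nat.card_unique (α := {j : Fin (n + 1) // j.val < n ∧ 1 = 1 ∧ ∀ m : ℕ, n - 2 < m → m < n → m = j.val}), show n - (n - 2) = 2 by omega]
  have h2 := card_midx n 1 (by omega)
  rw [show n + 1 - 1 = (n - 1) + 1 by omega, Nat.choose_succ_self_right] at h2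
  omega

end Groth.Agent.S13448
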