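import Groth.Statements.S13449
import Groth.Agent.HilbPnLib.TwoBlock

set_option autoImplicit false
universe u
open W4c1hilbpn

namespace Groth.Agent.S13449

open Groth.Agent W4c1hilbpn HilbPnLib.TwoBlock MvPolynomial

open W4c1hilbpn in
/-- Let k be a field and S = k[x_0, ..., x_n] with its standard grading; for an ideal I write Hom_S(I,
S/I)_0 for the degree-0 homomorphisms (for a monomial ideal: the span of the multigraded pieces
whose multidegree has entry sum 0). Let n ≥ 3 and I = x_0·(x_0, ..., x_{n-1}) + x_1·(x_1, ...,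
x_{n-1}) (the case q = 1, r = 0 of the two-block family). Then Hom_S(I, S/I)_0 has dimension 6n - 4.
(The published statement gives this as the dimension of the tangent space to the Hilbert scheme at
the point I; the row records the dimension count.) -/
theorem result (k : Type u) [Field k] (n : ℕ) (hn : 3 ≤ n) :
    Module.finrank k ↥(⨆ α : {α : Fin (n + 1) → ℤ // ∑ i, α i = 0}, tPiece (Ideal.span ({f : MvPolynomial (Fin (n + 1)) k | ∃ i : Fin (n + 1), i.val + 1 ≤ n ∧ f = MvPolynomial.X 0 * MvPolynomial.X i} ∪ {f : MvPolynomial (Fin (n + 1)) k | ∃ i : Fin (n + 1), 1 ≤ i.val ∧ i.val ≤ n - 1 ∧ f = MvPolynomial.X 1 * MvPolynomial.X i})) α.1) = 6 * n - 4 := by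
  have h := finrank_twoBlock (k := k) (n := n) (q := 1) (s := n - 1) (by omega) le_rfl (by omega) (by omega) (by omega)
  have e : Ideal.span ({f : MvPolynomial (Fin (n + 1)) k | ∃ i : Fin (n + 1), i.val + 1 ≤ n ∧ f = X 0 * X i} ∪
      {f : MvPolynomial (Fin (n + 1)) k | ∃ i : Fin (n + 1), 1 ≤ i.val ∧ i.val ≤ n - 1 ∧ f = X 1 * X i}) = idl k n 1 (n - 1) := by
    rw [← span_eq_idl n 1 (n - 1)]
    simp only [pow_one]
  rw [e]
  rw [h, card_single _ _ _ (by omega), card_lidx' _ _ _ (by omega) ⟨rfl, by omega⟩]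
  rw [show Nat.card {j : Fin (n + 1) // j.val < n ∧ 1 = 1 ∧ ∀ m : ℕ, n - 1 < m → m < n → m = j.val} = n from
    (Nat.card_congr (Equiv.subtypeEquivRight (q := fun j : Fin (n + 1) => j.val < n) fun j =>
      ⟨fun h => h.1, fun h => ⟨h, rfl, fun m h1 h2 => by omega⟩⟩)).trans (card_low n n (by omega))]
  rw [show n - (n - 1) = 1 by omega]
  have h2 := card_midx n 1 (by omega)
  rw [show n + 1 - 1 = (n - 1) + 1 by omega, Nat.choose_succ_self_right] at h2
  omega

end Groth.Agent.S13449
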