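import Groth.Statements.S1345
import Groth.Agent.CMFlatLib.BaseChange
-- import your own Groth.Agent.* helpers here

set_option autoImplicit false
universe u
open FlatMor

namespace Groth.Agent.S1345

open AlgebraicGeometry CategoryTheory Limits in
/-- Let f have locally Noetherian fibres and let f' be its base change along a morphism locally of
finite type. If f is Cohen–Macaulay at the image of a point x' of the new source, then f' is
Cohen–Macaulay at x'. -/
theorem result {X Y X' Y' : Scheme.{u}} (f : X ⟶ Y) (hN : ∀ y : Y, IsLocallyNoetherian (f.fiber y))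
    (f' : X' ⟶ Y') (g' : X' ⟶ X) (g : Y' ⟶ Y) [LocallyOfFiniteType g] (hc : IsPullback g' f' f g) (x' : X')
    (h : MoreMor.IsCMAt f (g' x')) : MoreMor.IsCMAt f' x' := by
  rw [CMFlatLib.isCMAt_iff] at h ⊢
  exact ⟨CMFlatLib.flat_stalkMap_baseChange hc x' h.1,
    (CMFlatLib.cmFibre_isPullback_iff hc x' (CMFlatLib.noethFibre_of_isLocallyNoetherian _ (hN _)) (Or.inl inferInstance)).2 h.2⟩

end Groth.Agent.S1345
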