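import Groth.Statements.S13450
import Groth.Agent.HilbPnLib.Deg0
import Groth.Agent.HilbPnLib.Pow

set_option autoImplicit false
universe u
open W4c1hilbpn

namespace Groth.Agent.S13450

open Groth.Agent W4c1hilbpn MvPolynomial

variable {n : ℕ} {k : Type u} [Field k]

/-- unit exponent vector -/
noncomputable abbrev E (i : Fin (n + 1)) : Fin (n + 1) →₀ ℕ := Finsupp.single i 1

/-- generators -/
def gset (n q : ℕ) : Set (Fin (n + 1) →₀ ℕ) :=
  {g | ∃ i : Fin (n + 1), i.val + 1 ≤ n ∧ g = E 0 + E i} ∪ {Finsupp.single 1 q}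

variable (k) in
/-- the ideal -/
noncomputable abbrev idl (n q : ℕ) : Ideal (MvPolynomial (Fin (n + 1)) k) :=
  Ideal.span ((fun g => monomial g (1 : k)) '' gset n q)

theorem mem_exps {q : ℕ} (hn : 1 ≤ n) {β : Fin (n + 1) →₀ ℕ} :
    β ∈ exps (idl k n q) ↔ (1 ≤ β 0 ∧ (2 ≤ β 0 ∨ ∃ i : Fin (n + 1), 1 ≤ i.val ∧ i.val < n ∧ 1 ≤ β i)) ∨ q ≤ β 1 := by
  rw [HilbPnLib.mem_exps_span]
  constructor
  · rintro ⟨g, ⟨i, hi, rfl⟩ | rfl, hle⟩
    · rcases eq_or_ne i 0 with rfl | h0
      · have := hle 0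
        simp at this
        exact Or.inl ⟨by omega, Or.inl this⟩
      · have h1 := hle 0
        have h2 := hle i
        simp [h0, h0.symm] at h1 h2
        exact Or.inl ⟨h1, Or.inr ⟨i, by have := Fin.val_ne_zero_iff.2 h0; omega, by omega, h2⟩⟩
    · exact Or.inr (Finsupp.single_le_iff.1 hle)
  · rintro (⟨h0, h | ⟨i, hi1, hi2, hi⟩⟩ | h)
    · refine ⟨E 0 + E 0, Or.inl ⟨0, by simp; omega, rfl⟩, fun m => ?_⟩
      rw [← Finsupp.single_add, Finsupp.single_apply]
      split_ifs with hm
      · subst hm; omega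
      · exact Nat.zero_le _
    · refine ⟨E 0 + E i, Or.inl ⟨i, by omega, rfl⟩, fun m => ?_⟩
      have hne : i ≠ 0 := fun h => by subst h; simp at hi1
      rcases eq_or_ne m 0 with rfl | h1
      · simp [hne.symm]; omega
      · rcases eq_or_ne m i with rfl | h2
        · simp [h1]; omega
        · simp [h1, h2]
    · exact ⟨_, Or.inr rfl, Finsupp.single_le_iff.2 h⟩

theorem notMem_zero {q : ℕ} (hn : 1 ≤ n) {β : Fin (n + 1) →₀ ℕ} (h0 : β 0 = 0) (h1 : β 1 < q) : β ∉ exps (idl k n q) := by
  rw [mem_exps hn]; omega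

theorem notMem_one {q : ℕ} (hn : 1 ≤ n) {β : Fin (n + 1) →₀ ℕ} (h0 : β 0 ≤ 1) (h1 : β 1 < q)
    (h2 : ∀ i : Fin (n + 1), 1 ≤ i.val → i.val < n → β i = 0) : β ∉ exps (idl k n q) := by
  rw [mem_exps hn]
  rintro (⟨-, h | ⟨i, hi1, hi2, hi⟩⟩ | h)
  · omega
  · rw [h2 i hi1 hi2] at hi; omega
  · omega

theorem count_deg (n q : ℕ) :
    Nat.card {γ : Fin (n + 1) →₀ ℕ // γ.degree = q ∧ γ 0 = 0} = Nat.multichoose n q := by
  rw [← HilbPnLib.card_deg_eq n q]
  refine Nat.card_congr ⟨fun γ => ⟨Finsupp.tail γ.1, ?_⟩, fun b => ⟨Finsupp.cons 0 b.1, ?_⟩, fun γ => ?_, fun b => ?_⟩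
  · have h := γ.2.1
    rw [Finsupp.degree_eq_sum, Fin.sum_univ_succ, γ.2.2, zero_add] at h
    rw [Finsupp.degree_eq_sum]; simpa [Finsupp.tail_apply] using h
  · refine ⟨?_, Finsupp.cons_zero _ _⟩
    have h := b.2
    rw [Finsupp.degree_eq_sum] at h ⊢
    rw [Fin.sum_univ_succ, Finsupp.cons_zero, zero_add]; simpa [Finsupp.cons_succ] using h
  · refine Subtype.ext (Eq.trans ?_ (Finsupp.cons_tail γ.1))
    show Finsupp.cons 0 _ = _
    rw [γ.2.2]
  · exact Subtype.ext (Finsupp.tail_cons _ _)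

set_option maxHeartbeats 1600000 in
theorem main (q : ℕ) (hcase : (n = 3 ∧ 4 ≤ q) ∨ (4 ≤ n ∧ 2 ≤ q)) :
    Module.finrank k ↥(⨆ α : {α : Fin (n + 1) → ℤ // ∑ i, α i = 0}, tPiece (idl k n q) α.1) =
      2 * n - 1 + Nat.choose (n + q - 1) (n - 1) := by
  classical
  have hn3 : 3 ≤ n := by omega
  have hq : 2 ≤ q := by omega
  have hn : 1 ≤ n := by omega
  have hI : IsMonomial (idl k n q) := HilbPnLib.isMonomial_span _
  let T : Fin (n + 1) := Fin.last n
  let x1 : Fin (n + 1) := 1
  let x2 : Fin (n + 1) := ⟨2, by omega⟩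
  have hT : T.val = n := rfl
  have v1 : x1.val = 1 := by show ((1 : Fin (n + 1)) : ℕ) = 1; rw [Fin.val_one', Nat.mod_eq_of_lt (by omega)]
  have v2 : x2.val = 2 := rfl
  have v0 : (0 : Fin (n + 1)).val = 0 := rfl
  have T0 : T ≠ 0 := fun h => by have := congrArg Fin.val h; omega
  have T1 : T ≠ x1 := fun h => by have := congrArg Fin.val h; omega
  have T2 : T ≠ x2 := fun h => by have := congrArg Fin.val h; omega
  have h20 : x2 ≠ 0 := fun h => by have := congrArg Fin.val h; omega
  have h21 : x2 ≠ x1 := fun h => by have := congrArg Fin.val h; omega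
  have h10 : x1 ≠ 0 := fun h => by have := congrArg Fin.val h; omega
  have gen0 : ∀ i : Fin (n + 1), i.val < n → E 0 + E i ∈ exps (idl k n q) := fun i hi =>
    HilbPnLib.mem_exps_span.2 ⟨_, Or.inl ⟨i, hi, rfl⟩, le_rfl⟩
  have genq : Finsupp.single x1 q ∈ exps (idl k n q) := HilbPnLib.mem_exps_span.2 ⟨_, Or.inr rfl, le_rfl⟩
  let Z : Finset (Fin (n + 1) →₀ ℕ) := ((Finsupp.finite_of_degree_le q).subset
    (fun γ (hγ : γ.degree = q ∧ γ 0 = 0) => show γ.degree ≤ q from hγ.1.le)).toFinset
  have hZ : ∀ γ, γ ∈ Z ↔ γ.degree = q ∧ γ 0 = 0 := fun γ => Set.Finite.mem_toFinset _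
  let D : Finset (Fin (n + 1) →₀ ℕ) := insert (E 0 + Finsupp.single T (q - 1)) ((Z.erase (Finsupp.single x1 q)).erase (Finsupp.single T q))
  have hD : ∀ γ ∈ D, γ.degree = q ∧ γ ∉ exps (idl k n q) ∧ ∃ m : Fin (n + 1), m.val < n ∧ 1 ≤ γ m := by
    intro γ hγ
    rcases Finset.mem_insert.1 hγ with rfl | hγ
    · refine ⟨by rw [map_add, Finsupp.degree_single, Finsupp.degree_single]; omega,
        notMem_one hn (by simp [T0.symm]) (show (E 0 + Finsupp.single T (q - 1) : Fin (n + 1) →₀ ℕ) x1 < q by simp [T1.symm, h10]; omega)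
          (fun i hi1 hi2 => by
            have h0 : i ≠ 0 := fun h => by subst h; omega
            have h' : i ≠ T := fun h => by subst h; omega
            simp [h0, h']), 0, by omega, by simp⟩
    · obtain ⟨hne, hne', hZm⟩ := Finset.mem_erase.1 hγ |>.imp id fun h => Finset.mem_erase.1 h
      obtain ⟨hd, h0⟩ := (hZ γ).1 hZm
      refine ⟨hd, notMem_zero hn h0 ?_, ?_⟩
      · show γ x1 < q
        by_contra hc
        push Not at hc
        obtain ⟨r, hr⟩ := le_iff_exists_add.1 (Finsupp.single_le_iff.2 hc)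
        rw [hr, map_add, Finsupp.degree_single] at hd
        exact hne' (by rw [hr, (Finsupp.degree_eq_zero_iff r).1 (by omega), add_zero])
      · by_contra hc
        push Not at hc
        refine hne ?_
        have hsum := hd
        rw [Finsupp.degree_eq_sum, Finset.sum_eq_single T (fun m _ hm => by
          have hm' : m.val < n := by have := m.isLt; have : m.val ≠ n := fun h => hm (Fin.ext h); omega
          exact Nat.lt_one_iff.1 (hc m hm')) (by simp)] at hsum
        ext m
        rcases eq_or_ne m T with rfl | hm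
        · simp [hsum]
        · have hm' : m.val < n := by have := m.isLt; have : m.val ≠ n := fun h => hm (Fin.ext h); omega
          simp [hm, Nat.lt_one_iff.1 (hc m hm')]
  have Hl : ∀ l : Fin (n + 1), ∀ β ∈ exps (idl k n q), ¬ E 0 ≤ β → ∀ β', β ≤ β' → E 0 ≤ β' →
      β' - E 0 + E l ∈ exps (idl k n q) := by
    intro l β hβ h β' hle _
    refine HilbPnLib.exps_up hβ fun m => ?_
    have := hle m
    rw [Finsupp.add_apply, Finsupp.tsub_apply]
    rcases eq_or_ne m 0 with rfl | hm
    · have : β 0 = 0 := by by_contra hc; exact h (Finsupp.single_le_iff.2 (by omega))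
      omega
    · simp [hm]; omega
  have Hab : ∀ j : Fin (n + 1), j.val < n → ∀ β ∈ exps (idl k n q), ¬ E 0 + E j ≤ β → ∀ β', β ≤ β' → E 0 + E j ≤ β' →
      β' - (E 0 + E j) + (E 0 + E T) ∈ exps (idl k n q) := by
    intro j hj β hβ h β' hle hg
    have l0 := hle 0
    have l1 := hle x1
    have g0 := hg 0
    rw [mem_exps hn] at hβ ⊢
    by_cases hj0 : j = 0
    · subst hj0
      have hb0 : β 0 < 2 := by
        by_contra hc
        push Not at hc
        exact h (by rw [← Finsupp.single_add]; exact Finsupp.single_le_iff.2 hc)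
      simp [T0.symm] at g0
      rcases hβ with ⟨hb, hh | ⟨i, hi1, hi2, hi⟩⟩ | hb
      · omega
      · have li := hle i
        have hi0 : i ≠ 0 := fun e => by subst e; omega
        have hiT : i ≠ T := fun e => by subst e; omega
        refine Or.inl ⟨by simp [T0.symm], Or.inr ⟨i, hi1, hi2, ?_⟩⟩
        simp [hi0, hiT]; omega
      · refine Or.inr (show q ≤ (β' - (E 0 + E 0) + (E 0 + E T) : Fin (n + 1) →₀ ℕ) x1 from ?_)
        simp [h10, T1.symm]
        exact le_trans hb l1
    · have hj0' : (0 : Fin (n + 1)) ≠ j := Ne.symm hj0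
      have gj := hg j
      have hjT : j ≠ T := fun e => by subst e; omega
      simp [T0.symm, hj0'] at g0
      simp [hj0, hjT] at gj
      rcases hβ with ⟨hb, hh | ⟨i, hi1, hi2, hi⟩⟩ | hb
      · exact Or.inl ⟨by simp [T0.symm, hj0'], Or.inl (by simp [T0.symm, hj0']; omega)⟩
      · rcases eq_or_ne i j with rfl | hij
        · refine absurd (fun m => ?_) h
          rcases eq_or_ne m 0 with rfl | h1
          · simp [hj0']; omega
          · rcases eq_or_ne m i with rfl | h2
            · simp [h1]; omega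
            · simp [h1, h2]
        · have li := hle i
          have hi0 : i ≠ 0 := fun e => by subst e; omega
          have hiT : i ≠ T := fun e => by subst e; omega
          refine Or.inl ⟨by simp [T0.symm, hj0'], Or.inr ⟨i, hi1, hi2, ?_⟩⟩
          simp [hi0, hiT, hij]; omega
      · have hq' : q ≤ β' x1 := le_trans hb l1
        rcases eq_or_ne j x1 with rfl | hj1
        · refine Or.inl ⟨by simp [T0.symm, hj0'], Or.inr ⟨x1, by omega, by omega, ?_⟩⟩
          simp [h10, T1.symm]; omega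
        · refine Or.inr (show q ≤ (β' - (E 0 + E j) + (E 0 + E T) : Fin (n + 1) →₀ ℕ) x1 from ?_)
          simp [h10, T1.symm, hj1.symm]; omega
  have Hd : ∀ γ : D, ∀ β ∈ exps (idl k n q), ¬ Finsupp.single x1 q ≤ β → ∀ β', β ≤ β' → Finsupp.single x1 q ≤ β' →
      β' - Finsupp.single x1 q + γ.1 ∈ exps (idl k n q) := by
    intro γ β hβ h β' hle _
    obtain ⟨-, -, m, hm, hγm⟩ := hD γ.1 γ.2
    rw [mem_exps hn] at hβ ⊢
    have hb1 : ¬ q ≤ β x1 := fun hc => h (Finsupp.single_le_iff.2 hc)
    rcases hβ with ⟨hb, -⟩ | hb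
    · have := hle 0
      refine Or.inl ⟨by simp [h10.symm]; omega, ?_⟩
      rcases eq_or_ne m 0 with rfl | hm0
      · exact Or.inl (by simp [h10.symm]; omega)
      · exact Or.inr ⟨m, by have := Fin.val_ne_zero_iff.2 hm0; omega, hm, by simp; omega⟩
    · exact absurd hb hb1
  let P := Unit ⊕ {j : Fin (n + 1) // 1 ≤ j.val ∧ j.val < n} ⊕ {l : Fin (n + 1) // l ≠ 0} ⊕ D
  let e : P → Tgt (idl k n q) :=
    Sum.elim (fun _ => HilbPnLib.substHom hI _ _ (Hab 0 (by omega)))
      (Sum.elim (fun j => HilbPnLib.substHom hI _ _ (Hab j.1 j.2.2))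
        (Sum.elim (fun l => HilbPnLib.substHom hI _ _ (Hl l.1)) (fun γ => HilbPnLib.substHom hI _ _ (Hd γ))))
  let C : P → Tgt (idl k n q) →ₗ[k] k :=
    Sum.elim (fun _ => HilbPnLib.cfAt hI (gen0 0 (by omega)) (E 0 + E T) - HilbPnLib.cfAt hI (gen0 x2 (by omega)) (E x2 + E T))
      (Sum.elim (fun j => HilbPnLib.cfAt hI (gen0 j.1 j.2.2) (E 0 + E T))
        (Sum.elim (fun l => HilbPnLib.cfAt hI (gen0 x2 (by omega)) (E x2 + E l.1)) (fun γ => HilbPnLib.cfAt hI genq γ.1)))
  have s0T : E 0 + E T ∉ exps (idl k n q) := notMem_one hn (by simp [T0.symm])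
    (show (E 0 + E T : Fin (n + 1) →₀ ℕ) x1 < q by simp [h10, T1.symm]; omega)
    (fun i hi1 hi2 => by
      have h0 : i ≠ 0 := fun h => by subst h; omega
      have h' : i ≠ T := fun h => by subst h; omega
      simp [h0, h'])
  have s2l : ∀ l : Fin (n + 1), l ≠ 0 → E x2 + E l ∉ exps (idl k n q) := fun l hl => notMem_zero hn
    (by simp [h20.symm, hl.symm])
    (show (E x2 + E l : Fin (n + 1) →₀ ℕ) x1 < q by
      rcases eq_or_ne l x1 with rfl | h
      · simp [h21.symm]; omega
      · simp [h21.symm, h.symm]; omega)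
  have sq : ∀ γ : D, γ.1 ∉ exps (idl k n q) := fun γ => (hD γ.1 γ.2).2.1
  have nle1 : ∀ i : Fin (n + 1), ¬ Finsupp.single x1 q ≤ E 0 + E i := fun i h => by
    have := h x1
    rcases eq_or_ne i x1 with rfl | hi
    · simp [h10] at this; omega
    · simp [h10, hi.symm] at this; omega
  have nle2 : ∀ i : Fin (n + 1), ¬ E 0 + E i ≤ Finsupp.single x1 q := fun i h => by
    have := h 0
    simp [h10.symm] at this
  have nle3 : ¬ E 0 ≤ Finsupp.single x1 q := fun h => by
    have := h 0
    simp [h10.symm] at this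
  have geq : ∀ i j : Fin (n + 1), E 0 + E i ≤ E 0 + E j → i = j := fun i j h => by
    by_contra hne
    have := (add_le_add_iff_left (E (0 : Fin (n + 1)))).1 h i
    simp [hne] at this
  have sub1 : ∀ i l : Fin (n + 1), E 0 + E i - E 0 + E l = E i + E l := fun i l => by rw [add_tsub_cancel_left]
  have sub2 : ∀ i : Fin (n + 1), E 0 + E i - (E 0 + E i) + (E 0 + E T) = E 0 + E T := fun i => by rw [tsub_self, zero_add]
  have neq0 : ∀ l : Fin (n + 1), ∀ i, i ≠ 0 → l ≠ 0 → E i + E l ≠ E 0 + E T := fun l i hi hl h => by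
    have := congrArg (fun f : Fin (n + 1) →₀ ℕ => f 0) h
    simp [hi.symm, hl.symm, T0.symm] at this
  have inl' : ∀ l l' : Fin (n + 1), E x2 + E l = E x2 + E l' → l = l' := fun l l' h =>
    Finsupp.single_left_injective one_ne_zero (add_left_cancel h)
  rw [HilbPnLib.finrank_of_pivots _ e ?_ C ?_ ?_ ?_]
  · have hcardD : D.card + 1 = Nat.choose (n + q - 1) (n - 1) := by
      have hz : Z.card = Nat.choose (n + q - 1) (n - 1) := by
        have : Z.card = Nat.card {γ : Fin (n + 1) →₀ ℕ // γ.degree = q ∧ γ 0 = 0} := by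
          rw [← Nat.card_eq_finsetCard]
          exact Nat.card_congr (Equiv.subtypeEquivRight hZ)
        rw [this, count_deg, Nat.multichoose_eq, Nat.choose_symm_of_eq_add]
        omega
      have m1 : Finsupp.single x1 q ∈ Z := (hZ _).2 ⟨Finsupp.degree_single _ _, by simp [h10.symm]⟩
      have m2 : Finsupp.single T q ∈ Z.erase (Finsupp.single x1 q) := Finset.mem_erase.2
        ⟨fun h => T1 (Finsupp.single_left_injective (by omega) h), (hZ _).2 ⟨Finsupp.degree_single _ _, by simp [T0.symm]⟩⟩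
      have m0 : E 0 + Finsupp.single T (q - 1) ∉ (Z.erase (Finsupp.single x1 q)).erase (Finsupp.single T q) := fun h => by
        have := ((hZ _).1 (Finset.mem_of_mem_erase (Finset.mem_of_mem_erase h))).2
        simp [T0.symm] at this
      have : 0 < (Z.erase (Finsupp.single x1 q)).card := Finset.card_pos.2 ⟨_, m2⟩
      rw [Finset.card_insert_of_notMem m0, Finset.card_erase_of_mem m2]
      rw [Finset.card_erase_of_mem m1] at this ⊢
      omega
    have hb : Nat.card {j : Fin (n + 1) // 1 ≤ j.val ∧ j.val < n} = n - 1 := by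
      rw [← Nat.card_fin (n - 1)]
      exact Nat.card_congr ⟨fun j => ⟨j.1.val - 1, by have := j.2; omega⟩, fun i => ⟨⟨i.val + 1, by omega⟩, by simp; omega⟩,
        fun j => Subtype.ext (Fin.ext (by have := j.2; simp; omega)), fun i => Fin.ext (by simp)⟩
    have hl : Nat.card {l : Fin (n + 1) // l ≠ 0} = n := by
      simp [Nat.card_eq_fintype_card, Fintype.card_subtype_compl]
    rw [Nat.card_sum, Nat.card_sum, Nat.card_sum, hb, hl, Nat.card_unique, Nat.card_eq_finsetCard]
    omega
  · rintro (_ | j | l | γ)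
    · exact HilbPnLib.substHom_mem hI (Hab 0 (by omega)) (by simp [map_add])
    · exact HilbPnLib.substHom_mem hI (Hab j.1 j.2.2) (by simp [map_add])
    · exact HilbPnLib.substHom_mem hI (Hl l.1) (by simp)
    · exact HilbPnLib.substHom_mem hI (Hd γ) (by rw [Finsupp.degree_single]; exact (hD γ.1 γ.2).1)
  · rintro (_ | j | l | γ)
    · simp only [C, e, Sum.elim_inl, LinearMap.sub_apply, HilbPnLib.cfAt_substHom hI _ _ s0T, HilbPnLib.cfAt_substHom hI _ _ (s2l T T0)]
      rw [if_pos ⟨le_rfl, sub2 0⟩, if_neg (fun h => h20 (geq _ _ h.1).symm), sub_zero]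
    · simp only [C, e, Sum.elim_inl, Sum.elim_inr, HilbPnLib.cfAt_substHom hI _ _ s0T]
      rw [if_pos ⟨le_rfl, sub2 _⟩]
    · simp only [C, e, Sum.elim_inl, Sum.elim_inr, HilbPnLib.cfAt_substHom hI _ _ (s2l l.1 l.2)]
      rw [if_pos ⟨le_self_add, sub1 _ _⟩]
    · simp only [C, e, Sum.elim_inr, HilbPnLib.cfAt_substHom hI _ _ (sq γ)]
      rw [if_pos ⟨le_rfl, by rw [tsub_self, zero_add]⟩]
  · rintro (_ | j | l | γ) (_ | j' | l' | γ') hne
    · exact absurd rfl hne
    · have : (0 : Fin (n + 1)) ≠ j'.1 := fun h => by have := congrArg Fin.val h; have := j'.2.1; omega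
      simp only [C, e, Sum.elim_inl, Sum.elim_inr, LinearMap.sub_apply, HilbPnLib.cfAt_substHom hI _ _ s0T, HilbPnLib.cfAt_substHom hI _ _ (s2l T T0)]
      rw [if_neg (fun h => this (geq _ _ h.1).symm), if_neg (fun h => neq0 T x2 h20 T0 (by
        have hj := geq _ _ h.1
        have e := h.2
        rw [hj, sub2] at e
        exact e.symm)), sub_zero]
    · simp only [C, e, Sum.elim_inl, Sum.elim_inr, LinearMap.sub_apply, HilbPnLib.cfAt_substHom hI _ _ s0T, HilbPnLib.cfAt_substHom hI _ _ (s2l T T0)]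
      by_cases hl : l'.1 = T
      · rw [if_pos ⟨le_self_add, by rw [sub1, hl]⟩, if_pos ⟨le_self_add, by rw [sub1, hl]⟩, sub_self]
      · rw [if_neg (fun h => hl ?_), if_neg (fun h => hl (inl' _ _ ((sub1 _ _).symm.trans h.2))), sub_zero]
        exact Finsupp.single_left_injective one_ne_zero (add_left_cancel ((sub1 _ _).symm.trans h.2))
    · simp only [C, e, Sum.elim_inl, Sum.elim_inr, LinearMap.sub_apply, HilbPnLib.cfAt_substHom hI _ _ s0T, HilbPnLib.cfAt_substHom hI _ _ (s2l T T0)]
      rw [if_neg (fun h => nle1 _ h.1), if_neg (fun h => nle1 _ h.1), sub_zero]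
    · have : (0 : Fin (n + 1)) ≠ j.1 := fun h => by have := congrArg Fin.val h; have := j.2.1; omega
      simp only [C, e, Sum.elim_inl, Sum.elim_inr, HilbPnLib.cfAt_substHom hI _ _ s0T]
      rw [if_neg (fun h => this (geq _ _ h.1))]
    · simp only [C, e, Sum.elim_inl, Sum.elim_inr, HilbPnLib.cfAt_substHom hI _ _ s0T]
      rw [if_neg (fun h => hne (by rw [Subtype.ext (geq _ _ h.1)]))]
    · simp only [C, e, Sum.elim_inl, Sum.elim_inr, HilbPnLib.cfAt_substHom hI _ _ s0T]
      have : j.1 ≠ 0 := fun h => by have := congrArg Fin.val h; have := j.2.1; omega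
      rw [if_neg (fun h => neq0 _ _ this l'.2 ((sub1 _ _).symm.trans h.2))]
    · simp only [C, e, Sum.elim_inl, Sum.elim_inr, HilbPnLib.cfAt_substHom hI _ _ s0T]
      rw [if_neg (fun h => nle1 _ h.1)]
    · simp only [C, e, Sum.elim_inl, Sum.elim_inr, HilbPnLib.cfAt_substHom hI _ _ (s2l l.1 l.2)]
      rw [if_neg (fun h => h20 (geq _ _ h.1).symm)]
    · simp only [C, e, Sum.elim_inl, Sum.elim_inr, HilbPnLib.cfAt_substHom hI _ _ (s2l l.1 l.2)]
      rw [if_neg (fun h => neq0 _ x2 h20 l.2 (by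
        have hj := geq _ _ h.1
        have e := h.2
        rw [hj, sub2] at e
        exact e.symm))]
    · simp only [C, e, Sum.elim_inl, Sum.elim_inr, HilbPnLib.cfAt_substHom hI _ _ (s2l l.1 l.2)]
      rw [if_neg (fun h => hne (by rw [Subtype.ext (inl' _ _ ((sub1 _ _).symm.trans h.2))]))]
    · simp only [C, e, Sum.elim_inr, Sum.elim_inl, HilbPnLib.cfAt_substHom hI _ _ (s2l l.1 l.2)]
      rw [if_neg (fun h => nle1 _ h.1)]
    · simp only [C, e, Sum.elim_inl, Sum.elim_inr, HilbPnLib.cfAt_substHom hI _ _ (sq γ)]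
      rw [if_neg (fun h => nle2 _ h.1)]
    · simp only [C, e, Sum.elim_inl, Sum.elim_inr, HilbPnLib.cfAt_substHom hI _ _ (sq γ)]
      rw [if_neg (fun h => nle2 _ h.1)]
    · simp only [C, e, Sum.elim_inl, Sum.elim_inr, HilbPnLib.cfAt_substHom hI _ _ (sq γ)]
      rw [if_neg (fun h => nle3 h.1)]
    · simp only [C, e, Sum.elim_inr, HilbPnLib.cfAt_substHom hI _ _ (sq γ)]
      rw [if_neg (fun h => hne (by
        have := h.2
        rw [tsub_self, zero_add] at this
        rw [Subtype.ext this.symm]))]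
  · intro φ hM hC
    have ca : HilbPnLib.cfAt hI (gen0 0 (by omega)) (E 0 + E T) φ - HilbPnLib.cfAt hI (gen0 x2 (by omega)) (E x2 + E T) φ = 0 := hC (Sum.inl ())
    have cb : ∀ (j : Fin (n + 1)) (h1 : 1 ≤ j.val) (h2 : j.val < n), HilbPnLib.cfAt hI (gen0 j h2) (E 0 + E T) φ = 0 :=
      fun j h1 h2 => hC (Sum.inr (Sum.inl ⟨j, h1, h2⟩))
    have cl : ∀ l : Fin (n + 1), l ≠ 0 → HilbPnLib.cfAt hI (gen0 x2 (by omega)) (E x2 + E l) φ = 0 :=
      fun l h => hC (Sum.inr (Sum.inr (Sum.inl ⟨l, h⟩)))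
    have cd : ∀ γ ∈ D, HilbPnLib.cfAt hI genq γ φ = 0 := fun γ h => hC (Sum.inr (Sum.inr (Sum.inr ⟨γ, h⟩)))
    have h2a : ∀ γ : Fin (n + 1) →₀ ℕ, γ 0 = 0 → γ x1 < q → γ.degree = 2 →
        HilbPnLib.cfAt hI (gen0 x2 (by omega)) γ φ = 0 := by
      intro γ h0 hq1 hdeg
      by_cases h2 : γ x2 = 0
      · obtain ⟨j, hj1, hj2, hj3, hτ⟩ : ∃ j : Fin (n + 1), 1 ≤ j.val ∧ j.val < n ∧ j ≠ x2 ∧ E j + γ ∉ exps (idl k n q) := by
          rcases hcase with ⟨hn', hq'⟩ | ⟨hn', -⟩
          · refine ⟨x1, by omega, by omega, h21.symm, notMem_zero hn (by simp [h10.symm, h0]) ?_⟩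
            show (E x1 + γ : Fin (n + 1) →₀ ℕ) x1 < q
            have : γ x1 ≤ 2 := by rw [← hdeg]; exact Finsupp.le_degree _ _
            simp; omega
          · have e1 : (⟨3, by omega⟩ : Fin (n + 1)) ≠ x1 := fun h => by have := congrArg Fin.val h; simp at this; omega
            have e0 : (⟨3, by omega⟩ : Fin (n + 1)) ≠ 0 := fun h => by have := congrArg Fin.val h; simp at this
            have e2 : (⟨3, by omega⟩ : Fin (n + 1)) ≠ x2 := fun h => by have := congrArg Fin.val h; simp [x2] at this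
            refine ⟨⟨3, by omega⟩, by simp, by simp; omega, e2, notMem_zero hn (by simp [e0.symm, h0]) ?_⟩
            show (E ⟨3, by omega⟩ + γ : Fin (n + 1) →₀ ℕ) x1 < q
            simp [e1.symm]; exact hq1
        refine HilbPnLib.cfAt_rel_zero hI φ (δ := E j) (δ' := E x2) _ (gen0 j hj2) (by abel) hτ ?_
        intro hle
        have := hle x2
        simp [hj3.symm, h2] at this
      · obtain ⟨r, rfl⟩ := le_iff_exists_add.1 (Finsupp.single_le_iff.2 (show 1 ≤ γ x2 by omega))
        rw [map_add, Finsupp.degree_single] at hdeg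
        obtain ⟨l, rfl⟩ := HilbPnLib.eq_single_of_degree_eq_one (show r.degree = 1 by omega)
        refine cl l fun hl => ?_
        subst hl
        simp [h20.symm] at h0
    have hja : ∀ (i : Fin (n + 1)) (h1 : 1 ≤ i.val) (h2 : i.val < n) (γ : Fin (n + 1) →₀ ℕ), γ 0 = 0 → γ x1 < q → γ.degree = 2 →
        HilbPnLib.cfAt hI (gen0 i h2) γ φ = 0 := by
      intro i h1 h2 γ h0 hq1 hdeg
      by_cases hi2 : i = x2
      · subst hi2; exact h2a γ h0 hq1 hdeg
      have hi0 : i ≠ 0 := fun h => by subst h; omega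
      have hτ : E x2 + γ ∉ exps (idl k n q) := notMem_zero hn (by simp [h20.symm, h0])
        (show (E x2 + γ : Fin (n + 1) →₀ ℕ) x1 < q by simp [h21.symm]; exact hq1)
      by_cases hle : E i ≤ E x2 + γ
      · obtain ⟨γ', hγ'⟩ := le_iff_exists_add.1 hle
        rw [HilbPnLib.cfAt_rel hI φ (δ := E x2) (δ' := E i) _ (gen0 x2 (by omega)) (by abel) hτ hγ']
        have e0 := congrArg (fun f : Fin (n + 1) →₀ ℕ => f 0) hγ'
        have e1 := congrArg (fun f : Fin (n + 1) →₀ ℕ => f x1) hγ'
        have e := congrArg Finsupp.degree hγ'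
        simp [h20.symm, hi0.symm, h0] at e0
        simp [h21.symm] at e1
        rw [map_add, map_add, Finsupp.degree_single, Finsupp.degree_single] at e
        refine h2a γ' e0.symm ?_ (by omega)
        omega
      · exact HilbPnLib.cfAt_rel_zero hI φ (δ := E x2) (δ' := E i) _ (gen0 x2 (by omega)) (by abel) hτ hle
    have hgen : ∀ g, ∀ hg : g ∈ gset n q, ∀ γ, γ ∉ exps (idl k n q) → γ.degree = g.degree →
        HilbPnLib.cfAt hI (HilbPnLib.mem_exps_span.2 ⟨g, hg, le_rfl⟩ : g ∈ exps (idl k n q)) γ φ = 0 := by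
      rintro g (⟨i, hi, rfl⟩ | rfl) γ hγ hdeg
      · have hγ' := hγ
        rw [mem_exps hn] at hγ'
        push Not at hγ'
        have hq1 : γ x1 < q := hγ'.2
        rw [map_add, Finsupp.degree_single, Finsupp.degree_single] at hdeg
        by_cases h0 : γ 0 = 0
        · by_cases hi0 : i = 0
          · subst hi0
            refine HilbPnLib.cfAt_rel_zero hI φ (δ := E x2) (δ' := E 0) _ (gen0 x2 (by omega)) (by abel)
              (notMem_zero hn (by simp [h20.symm, h0]) (show (E x2 + γ : Fin (n + 1) →₀ ℕ) x1 < q by simp [h21.symm]; exact hq1)) ?_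
            intro hle
            have := hle 0
            simp [h20.symm, h0] at this
          · exact hja i (by have := Fin.val_ne_zero_iff.2 hi0; omega) (by omega) γ h0 hq1 hdeg
        · obtain ⟨h02, hzero⟩ := hγ'.1 (by omega)
          obtain ⟨r, rfl⟩ := le_iff_exists_add.1 (Finsupp.single_le_iff.2 (show 1 ≤ γ 0 by omega))
          rw [map_add, Finsupp.degree_single] at hdeg
          obtain ⟨l, rfl⟩ := HilbPnLib.eq_single_of_degree_eq_one (show r.degree = 1 by omega)
          obtain rfl : l = T := by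
            by_contra hlT
            have hlv : l.val < n := by have := l.isLt; have : l.val ≠ n := fun h => hlT (Fin.ext h); omega
            rcases eq_or_ne l 0 with rfl | hl0
            · simp at h02
            · have := hzero l (by have := Fin.val_ne_zero_iff.2 hl0; omega) hlv
              simp at this
          by_cases hi0 : i = 0
          · subst hi0
            rw [cl T T0, sub_zero] at ca
            exact ca
          · exact cb i (by have := Fin.val_ne_zero_iff.2 hi0; omega) (by omega)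
      · have hdeg' : γ.degree = q := by rw [hdeg]; exact Finsupp.degree_single _ _
        by_cases hT : γ = Finsupp.single T q
        · subst hT
          refine HilbPnLib.cfAt_rel_zero hI φ (δ := E 0) (δ' := Finsupp.single x1 (q - 1)) genq (gen0 x1 (by omega)) ?_
            (notMem_one hn (by simp [T0.symm]) (show (E 0 + Finsupp.single T q : Fin (n + 1) →₀ ℕ) x1 < q by simp [h10, T1.symm]; omega)
              fun m hm1 hm2 => by
                have a0 : m ≠ 0 := fun h => by subst h; omega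
                have a1 : m ≠ T := fun h => by subst h; omega
                simp [a0, a1]) ?_
          · rw [show Finsupp.single x1 (q - 1) + (E 0 + E x1) = E 0 + (Finsupp.single x1 (q - 1) + E x1) by abel,
              ← Finsupp.single_add, show q - 1 + 1 = q by omega]
          · intro hle
            have := hle x1
            simp [h10, T1.symm] at this
            omega
        · refine cd γ ?_
          have hγ' := hγ
          rw [mem_exps hn] at hγ'
          push Not at hγ'
          by_cases h0 : γ 0 = 0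
          · refine Finset.mem_insert_of_mem (Finset.mem_erase.2 ⟨hT, Finset.mem_erase.2 ⟨fun h => ?_, (hZ γ).2 ⟨hdeg', h0⟩⟩⟩)
            have := hγ'.2
            rw [h] at this
            simp [x1] at this
          · refine Finset.mem_insert.2 (Or.inl ?_)
            obtain ⟨h02, hzero⟩ := hγ'.1 (by omega)
            have hd := hdeg'
            rw [Finsupp.degree_eq_sum, ← Finset.add_sum_erase _ _ (Finset.mem_univ (0 : Fin (n + 1))),
              Finset.sum_eq_single T (fun m hm hmT => by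
                have hm0 := (Finset.mem_erase.1 hm).1
                have hmv : m.val < n := by have := m.isLt; have : m.val ≠ n := fun h => hmT (Fin.ext h); omega
                exact Nat.lt_one_iff.1 (hzero m (by have := Fin.val_ne_zero_iff.2 hm0; omega) hmv))
                (fun h => absurd (Finset.mem_erase.2 ⟨T0, Finset.mem_univ T⟩) h)] at hd
            ext m
            rcases eq_or_ne m 0 with rfl | hm0
            · simp [T0.symm]; omega
            · rcases eq_or_ne m T with rfl | hmT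
              · simp [T0]; omega
              · have hmv : m.val < n := by have := m.isLt; have : m.val ≠ n := fun h => hmT (Fin.ext h); omega
                simp [hm0, hmT, Nat.lt_one_iff.1 (hzero m (by have := Fin.val_ne_zero_iff.2 hm0; omega) hmv)]
    refine HilbPnLib.tgt_ext_span fun g hg => HilbPnLib.eq_of_cf hI fun γ hγ => ?_
    rw [LinearMap.zero_apply, map_zero]
    by_cases hd : γ.degree = g.degree
    · exact hgen g hg γ hγ hd
    · exact HilbPnLib.cfAt_eq_zero_of_degree_ne hI hM _ hd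

open W4c1hilbpn in
/-- Let k be a field and S = k[x_0, ..., x_n] with its standard grading; for an ideal I write Hom_S(I,
S/I)_0 for the degree-0 homomorphisms (for a monomial ideal: the span of the multigraded pieces
whose multidegree has entry sum 0). Let n and q satisfy n = 3 and q ≥ 4, or n ≥ 4 and q ≥ 2, and let
I = x_0·(x_0, ..., x_{n-1}) + (x_1^q). Then Hom_S(I, S/I)_0 has dimension 2n - 1 + C(n+q-1, n-1).
(The published statement gives this as the dimension of the tangent space to the Hilbert scheme at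
the point I; the row records the dimension count.) -/
theorem result (k : Type u) [Field k] (n q : ℕ)
    (hcase : (n = 3 ∧ 4 ≤ q) ∨ (4 ≤ n ∧ 2 ≤ q)) :
    Module.finrank k ↥(⨆ α : {α : Fin (n + 1) → ℤ // ∑ i, α i = 0},
      tPiece (Ideal.span ({f : MvPolynomial (Fin (n + 1)) k | ∃ i : Fin (n + 1), i.val + 1 ≤ n ∧ f = MvPolynomial.X 0 * MvPolynomial.X i} ∪ {MvPolynomial.X 1 ^ q})) α.1) =
      2 * n - 1 + Nat.choose (n + q - 1) (n - 1) := by
  suffices h : (Ideal.span ({f : MvPolynomial (Fin (n + 1)) k | ∃ i : Fin (n + 1), i.val + 1 ≤ n ∧ f = MvPolynomial.X 0 * MvPolynomial.X i} ∪ {MvPolynomial.X 1 ^ q})) = idl k n q by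
    rw [h]; exact main q hcase
  congr 1
  ext f
  constructor
  · rintro (⟨i, hi, rfl⟩ | rfl)
    · exact ⟨_, Or.inl ⟨i, hi, rfl⟩, by rw [X, X, monomial_mul, one_mul]⟩
    · exact ⟨_, Or.inr rfl, by rw [X_pow_eq_monomial]⟩
  · rintro ⟨g, ⟨i, hi, rfl⟩ | rfl, rfl⟩
    · exact Or.inl ⟨i, hi, by rw [X, X, monomial_mul, one_mul]⟩
    · exact Or.inr (show monomial (Finsupp.single (1 : Fin (n + 1)) q) (1 : k) = X 1 ^ q by rw [X_pow_eq_monomial])

end Groth.Agent.S13450
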