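import Groth.Statements.S13451
import Groth.Agent.HilbPnLib.Span

set_option autoImplicit false
universe u
open W4c1hilbpn

namespace Groth.Agent.S13451

open Groth.Agent W4c1hilbpn MvPolynomial

/-- generators: one variable of `A` times one of `B` -/
def gset {σ : Type*} (A B : Set σ) : Set (σ →₀ ℕ) :=
  {g | ∃ i ∈ A, ∃ j ∈ B, g = Finsupp.single i 1 + Finsupp.single j 1}

theorem mem_gens {σ : Type*} {k : Type*} [Field k] {A B : Set σ} (hd : Disjoint A B) {β : σ →₀ ℕ} :
    β ∈ exps (Ideal.span ((fun g => monomial g (1 : k)) '' gset A B)) ↔ (∃ i ∈ A, β i ≠ 0) ∧ (∃ j ∈ B, β j ≠ 0) := by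
  rw [HilbPnLib.mem_exps_span]
  constructor
  · rintro ⟨_, ⟨i, hi, j, hj, rfl⟩, hle⟩
    have hij : i ≠ j := fun h => Set.disjoint_left.1 hd hi (h ▸ hj)
    refine ⟨⟨i, hi, fun h => ?_⟩, ⟨j, hj, fun h => ?_⟩⟩
    · have := hle i; simp [h] at this
    · have := hle j; simp [h] at this
  · rintro ⟨⟨i, hi, hβi⟩, ⟨j, hj, hβj⟩⟩
    have hij : i ≠ j := fun h => Set.disjoint_left.1 hd hi (h ▸ hj)
    refine ⟨_, ⟨i, hi, j, hj, rfl⟩, fun m => ?_⟩
    rw [Finsupp.add_apply]
    rcases eq_or_ne i m with rfl | h1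
    · rw [Finsupp.single_eq_same, Finsupp.single_eq_of_ne hij]; omega
    · rw [Finsupp.single_eq_of_ne h1.symm]
      rcases eq_or_ne j m with rfl | h2
      · rw [Finsupp.single_eq_same]; omega
      · rw [Finsupp.single_eq_of_ne h2.symm]; omega

theorem side {σ : Type*} [Fintype σ] [DecidableEq σ] {k : Type*} [Field k] {A B : Set σ} (hd : Disjoint A B) (hA : A.Nontrivial)
    {I : Ideal (MvPolynomial σ k)} (hI : IsMonomial I) (hIdef : I = Ideal.span ((fun g => monomial g (1 : k)) '' gset A B))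
    {α : σ → ℤ} (hs : ∑ i, α i = 0) {φ : Tgt I} (hφ : φ ∈ tPiece I α) {a b : σ} (ha : a ∈ A) (hb : b ∈ B)
    {g : σ →₀ ℕ} (hg : g = Finsupp.single a 1 + Finsupp.single b 1) (hgI : g ∈ exps I)
    (hne : φ (HilbPnLib.gen g hgI) ≠ 0) (hB : ∀ j ∈ B, shift g α j = 0) :
    ∃ l, l ∉ B ∧ α = HilbPnLib.shiftDeg b l ∧ φ ∈ Submodule.span k {HilbPnLib.shiftHom hI b l} := by
  subst hg
  subst hIdef
  obtain ⟨hn, hγ, hc⟩ := HilbPnLib.piece_nonzero_data hI hφ hgI hne
  set γ := shift (Finsupp.single a 1 + Finsupp.single b 1) α with hγdef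
  have hmem : ∀ a' ∈ A, Finsupp.single a' 1 + Finsupp.single b 1 ∈ exps (Ideal.span ((fun g => monomial g (1 : k)) '' gset A B)) :=
    fun a' ha' => HilbPnLib.mem_exps_span.2 ⟨_, ⟨a', ha', b, hb, rfl⟩, le_rfl⟩
  have hstep : ∀ a' (ha' : a' ∈ A), a' ≠ a → γ a ≠ 0 ∧
      HilbPnLib.cf hI (shift (Finsupp.single a' 1 + Finsupp.single b 1) α) (φ (HilbPnLib.gen _ (hmem a' ha'))) =
        HilbPnLib.cf hI γ (φ (HilbPnLib.gen _ hgI)) := by
    intro a' ha' hne'
    have e1 := HilbPnLib.map_gen_add φ (Finsupp.single a' 1) hgI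
    have e2 := HilbPnLib.map_gen_add φ (Finsupp.single a 1) (hmem a' ha')
    rw [show HilbPnLib.gen (Finsupp.single a 1 + (Finsupp.single a' 1 + Finsupp.single b 1)) _ =
        HilbPnLib.gen (Finsupp.single a' 1 + (Finsupp.single a 1 + Finsupp.single b 1)) (HilbPnLib.exps_up hgI le_add_self)
      from Subtype.ext (by simp only [HilbPnLib.gen]; rw [add_left_comm]), e1] at e2
    have hout : Finsupp.single a' 1 + γ ∉ exps (Ideal.span ((fun g => monomial g (1 : k)) '' gset A B)) := by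
      rw [mem_gens hd]
      rintro ⟨-, j, hj, h⟩
      have hja : a' ≠ j := fun h' => Set.disjoint_left.1 hd ha' (h' ▸ hj)
      rw [Finsupp.add_apply, Finsupp.single_eq_of_ne hja.symm, zero_add] at h
      exact h (hB j hj)
    have e3 := congrArg (HilbPnLib.cf hI (Finsupp.single a' 1 + γ)) e2
    rw [HilbPnLib.cf_smul hI hout] at e3
    by_cases hle : Finsupp.single a 1 ≤ Finsupp.single a' 1 + γ
    · have h1 : 1 ≤ γ a := by
        have := hle a
        rwa [Finsupp.single_eq_same, Finsupp.add_apply, Finsupp.single_eq_of_ne hne'.symm, zero_add] at this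
      refine ⟨by omega, ?_⟩
      have hsh : Finsupp.single a 1 + shift (Finsupp.single a' 1 + Finsupp.single b 1) α = Finsupp.single a' 1 + γ := by
        ext m
        have hnm := hn m
        simp only [hγdef, HilbPnLib.shift_apply, Finsupp.add_apply] at h1 ⊢
        simp only [Finsupp.add_apply] at hnm
        rcases eq_or_ne a m with rfl | ham
        · simp only [Finsupp.single_eq_same, Finsupp.single_eq_of_ne hne'.symm] at *; omega
        · simp only [Finsupp.single_eq_of_ne ham.symm] at *; omega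
      rw [e3, ← hsh, HilbPnLib.cf_smul hI (by rwa [hsh])]
    · exact absurd (e3.trans (HilbPnLib.cf_smul_not_le hI hle _)) hc
  obtain ⟨a₁, ha₁, hne₁⟩ := hA.exists_ne a
  have hγa := (hstep a₁ ha₁ hne₁).1
  obtain ⟨r, hr⟩ := le_iff_exists_add.1 (Finsupp.single_le_iff.2 (show 1 ≤ γ a by omega))
  have hdeg : γ.degree = 2 := by
    rw [hγdef, HilbPnLib.degree_shift hn hs, map_add, Finsupp.degree_single, Finsupp.degree_single]
  rw [hr, map_add, Finsupp.degree_single] at hdeg
  obtain ⟨l, rfl⟩ := HilbPnLib.eq_single_of_degree_eq_one (show r.degree = 1 by omega)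
  have hlB : l ∉ B := fun hl => by
    have := hB l hl
    rw [hr] at this
    simp at this
  have hbl : b ≠ l := fun h => hlB (h ▸ hb)
  have hsi : ∀ x m : σ, ((Finsupp.single x 1 : σ →₀ ℕ) m : ℤ) = if m = x then 1 else 0 := fun x m => by
    rw [Finsupp.single_apply]; split_ifs <;> first | rfl | simp_all
  have hαeq : α = HilbPnLib.shiftDeg b l := by
    funext m
    have h1 := HilbPnLib.shift_cast hn m
    rw [← hγdef, hr, Finsupp.add_apply, Finsupp.add_apply, Nat.cast_add, Nat.cast_add, hsi, hsi, hsi] at h1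
    simp only [HilbPnLib.shiftDeg]
    omega
  refine ⟨l, hlB, hαeq, Submodule.mem_span_singleton.2 ⟨HilbPnLib.cf hI γ (φ (HilbPnLib.gen _ hgI)), ?_⟩⟩
  refine HilbPnLib.tgt_ext_span fun g' hg' => ?_
  obtain ⟨a', ha', b', hb', rfl⟩ := hg'
  rw [LinearMap.smul_apply, HilbPnLib.shiftHom, HilbPnLib.mkHom_gen]
  have hab : ∀ x ∈ A, x ≠ b := fun x hx h => Set.disjoint_left.1 hd hx (h ▸ hb)
  rcases eq_or_ne b' b with rfl | hbb
  · have hn' : ∀ m, 0 ≤ ((Finsupp.single a' 1 + Finsupp.single b' 1 : σ →₀ ℕ) m : ℤ) + α m := fun m => by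
      rw [hαeq, Finsupp.add_apply, Nat.cast_add, hsi, hsi]
      simp only [HilbPnLib.shiftDeg]
      split_ifs <;> omega
    have hsh : shift (Finsupp.single a' 1 + Finsupp.single b' 1) α = Finsupp.single a' 1 + Finsupp.single l 1 :=
      HilbPnLib.shift_eq fun m => by
        rw [hαeq, Finsupp.add_apply, Finsupp.add_apply, Nat.cast_add, Nat.cast_add, hsi, hsi, hsi]
        simp only [HilbPnLib.shiftDeg]
        omega
    rw [if_neg (by simp), HilbPnLib.apply_gen_of_mem hI hφ _ hn', hsh, add_tsub_cancel_right]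
    congr 1
    rcases eq_or_ne a' a with rfl | haa
    · rw [← hsh]
    · rw [← (hstep a' ha' haa).2, hsh]
  · have h0 : (Finsupp.single a' 1 + Finsupp.single b' 1 : σ →₀ ℕ) b = 0 := by
      simp [Finsupp.single_apply, hab a' ha', hbb]
    rw [if_pos h0, smul_zero, HilbPnLib.apply_gen_eq_zero hφ _ (i := b)]
    rw [h0, hαeq]
    simp [HilbPnLib.shiftDeg, hbl]

theorem shiftHom_ne {σ : Type*} [DecidableEq σ] {k : Type*} [Field k] {A B : Set σ} (hd : Disjoint A B) (hA : A.Nonempty)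
    {I : Ideal (MvPolynomial σ k)} (hI : IsMonomial I) (hIdef : I = Ideal.span ((fun g => monomial g (1 : k)) '' gset A B))
    {b l : σ} (hb : b ∈ B) (hl : l ∉ B) : HilbPnLib.shiftHom hI b l ≠ 0 := by
  subst hIdef
  obtain ⟨a, ha⟩ := hA
  intro h0
  have hg : Finsupp.single a 1 + Finsupp.single b 1 ∈ exps (Ideal.span ((fun g => monomial g (1 : k)) '' gset A B)) :=
    HilbPnLib.mem_exps_span.2 ⟨_, ⟨a, ha, b, hb, rfl⟩, le_rfl⟩
  have hab : a ≠ b := fun h => Set.disjoint_left.1 hd ha (h ▸ hb)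
  have hout : Finsupp.single a 1 + Finsupp.single l 1 ∉ exps (Ideal.span ((fun g => monomial g (1 : k)) '' gset A B)) := by
    rw [mem_gens hd]
    rintro ⟨-, j, hj, h⟩
    have h1 : a ≠ j := fun h' => Set.disjoint_left.1 hd ha (h' ▸ hj)
    have h2 : l ≠ j := fun h' => hl (h' ▸ hj)
    simp [Finsupp.single_apply, h1, h2] at h
  have := congrArg (fun ψ => HilbPnLib.cf hI (Finsupp.single a 1 + Finsupp.single l 1) (ψ (HilbPnLib.gen _ hg))) h0
  simp only [HilbPnLib.shiftHom, HilbPnLib.mkHom_gen, LinearMap.zero_apply, map_zero] at this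
  rw [if_neg (by simp), add_tsub_cancel_right, HilbPnLib.cf_mono_self hI hout] at this
  exact one_ne_zero this

theorem count {σ : Type*} [Fintype σ] [DecidableEq σ] {k : Type*} [Field k] {A B : Set σ} (hd : Disjoint A B)
    (hA : A.Nontrivial) (hB : B.Nontrivial) {I : Ideal (MvPolynomial σ k)}
    (hIdef : I = Ideal.span ((fun g => monomial g (1 : k)) '' gset A B)) :
    Module.finrank k ↥(⨆ α : {α : σ → ℤ // ∑ i, α i = 0}, tPiece I α.1) =
      Nat.card B * Nat.card {l // l ∉ B} + Nat.card A * Nat.card {l // l ∉ A} := by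
  have hI : IsMonomial I := hIdef ▸ HilbPnLib.isMonomial_span _
  have hsym : gset B A = gset A B := by
    ext g
    constructor <;> rintro ⟨i, hi, j, hj, rfl⟩ <;> exact ⟨j, hj, i, hi, add_comm _ _⟩
  have hdef' : I = Ideal.span ((fun g => monomial g (1 : k)) '' gset B A) := by rw [hsym]; exact hIdef
  have hsum : ∀ b l : σ, ∑ i, HilbPnLib.shiftDeg b l i = 0 := fun b l => by
    simp [HilbPnLib.shiftDeg, Finset.sum_sub_distrib]
  let P := (B × {l // l ∉ B}) ⊕ (A × {l // l ∉ A})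
  let pr : P → σ × σ := Sum.elim (fun x => (x.1.1, x.2.1)) (fun x => (x.1.1, x.2.1))
  have hpr : ∀ p, (pr p).1 ≠ (pr p).2 := by
    rintro (⟨⟨b, hb⟩, ⟨l, hl⟩⟩ | ⟨⟨b, hb⟩, ⟨l, hl⟩⟩) <;> exact fun h => hl ((show b = l from h) ▸ hb)
  refine Eq.trans ?_ (show Nat.card P = _ by simp [P, Nat.card_sum, Nat.card_prod])
  refine HilbPnLib.finrank_iSup_of_family hI {α : σ → ℤ | ∑ i, α i = 0} (fun p => HilbPnLib.shiftHom hI (pr p).1 (pr p).2)
    (fun p => HilbPnLib.shiftDeg (pr p).1 (pr p).2) (fun p q h => ?_) (fun p => hsum _ _) (fun p => HilbPnLib.shiftHom_mem hI (hpr p))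
    ?_ (fun α hα φ hφ hne => ?_)
  · have e1 : pr p = pr q := by
      have h1 := congrFun h (pr p).1
      have h2 := congrFun h (pr p).2
      simp only [HilbPnLib.shiftDeg, if_pos, if_neg (hpr p), if_neg (hpr p).symm] at h1 h2
      have := hpr q
      refine Prod.ext ?_ ?_
      · by_contra hc; rw [if_neg hc] at h1; split_ifs at h1 <;> omega
      · by_contra hc; rw [if_neg hc] at h2; split_ifs at h2 <;> omega
    rcases p with ⟨⟨b, hb⟩, ⟨l, hl⟩⟩ | ⟨⟨b, hb⟩, ⟨l, hl⟩⟩ <;> rcases q with ⟨⟨b', hb'⟩, ⟨l', hl'⟩⟩ | ⟨⟨b', hb'⟩, ⟨l', hl'⟩⟩ <;>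
      simp only [pr, Sum.elim_inl, Sum.elim_inr, Prod.mk.injEq] at e1 <;> obtain ⟨rfl, rfl⟩ := e1
    · rfl
    · exact absurd hb (Set.disjoint_left.1 hd hb')
    · exact absurd hb' (Set.disjoint_left.1 hd hb)
    · rfl
  · rintro (⟨⟨b, hb⟩, ⟨l, hl⟩⟩ | ⟨⟨b, hb⟩, ⟨l, hl⟩⟩)
    · exact shiftHom_ne hd hA.nonempty hI hIdef hb hl
    · exact shiftHom_ne hd.symm hB.nonempty hI hdef' hb hl
  · subst hIdef
    obtain ⟨g, hg, hgne⟩ := HilbPnLib.exists_gen_ne_zero hne
    obtain ⟨a, ha, b, hb, rfl⟩ := hg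
    have hout := (HilbPnLib.piece_nonzero_data hI hφ _ hgne).2.1
    by_cases hz : ∀ j ∈ B, shift (Finsupp.single a 1 + Finsupp.single b 1) α j = 0
    · obtain ⟨l, hl, h1, h2⟩ := side hd hA hI rfl hα hφ ha hb rfl _ hgne hz
      exact ⟨Sum.inl (⟨b, hb⟩, ⟨l, hl⟩), h1.symm, h2⟩
    · have hz' : ∀ j ∈ A, shift (Finsupp.single a 1 + Finsupp.single b 1) α j = 0 := fun j hj => by
        by_contra h
        push Not at hz
        exact hout ((mem_gens hd).2 ⟨⟨j, hj, h⟩, hz⟩)
      obtain ⟨l, hl, h1, h2⟩ := side hd.symm hB hI hdef' hα hφ hb ha (add_comm _ _) _ hgne hz'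
      exact ⟨Sum.inr (⟨a, ha⟩, ⟨l, hl⟩), h1.symm, h2⟩

open W4c1hilbpn in
/-- Let k be an algebraically closed field of characteristic different from 2, S = k[x_0, ..., x_n] with
its standard grading, 2 ≤ c ≤ d with n ≥ c + d, and I = (x_0, ..., x_{c-1})·(x_{n-d+1}, ..., x_n),
the ideal of the union of two coordinate linear spaces of codimensions c and d meeting transversely
and not spanning the ambient space. Then the degree-0 homomorphisms Hom_S(I, S/I)_0 form a space of
dimension c(n-c+1) + d(n-d+1). (The published statement gives this number as the dimension of the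
tangent space to the Hilbert scheme at the pair of planes, for every n; the row records the count of
degree-0 homomorphisms in the non-spanning range n ≥ c + d, where that tangent space is Hom_S(I,
S/I)_0.) -/
theorem result (k : Type u) [Field k] [IsAlgClosed k] (hchar : ringChar k ≠ 2)
    (n c d : ℕ) (hc : 2 ≤ c) (hcd : c ≤ d) (hn : c + d ≤ n) :
    Module.finrank k ↥(⨆ α : {α : Fin (n + 1) → ℤ // ∑ i, α i = 0},
      tPiece (Ideal.span {f : MvPolynomial (Fin (n + 1)) k | ∃ i j : Fin (n + 1), i.val + 1 ≤ c ∧ n + 1 ≤ j.val + d ∧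
        f = MvPolynomial.X i * MvPolynomial.X j}) α.1) = c * (n - c + 1) + d * (n - d + 1) := by
  let A : Set (Fin (n + 1)) := {i | i.val + 1 ≤ c}
  let B : Set (Fin (n + 1)) := {j | n + 1 ≤ j.val + d}
  have hdis : Disjoint A B := Set.disjoint_left.2 fun x (h1 : x.val + 1 ≤ c) (h2 : n + 1 ≤ x.val + d) => by omega
  have hA : A.Nontrivial := ⟨⟨0, by omega⟩, show 0 + 1 ≤ c by omega, ⟨1, by omega⟩, show 1 + 1 ≤ c by omega, by simp⟩
  have hB : B.Nontrivial := ⟨⟨n, by omega⟩, show n + 1 ≤ n + d by omega, ⟨n - 1, by omega⟩, show n + 1 ≤ n - 1 + d by omega,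
    by simp; omega⟩
  refine (count hdis hA hB ?_).trans ?_
  · congr 1
    ext f
    constructor
    · rintro ⟨i, j, hi, hj, rfl⟩
      exact ⟨_, ⟨i, hi, j, hj, rfl⟩, by rw [X, X, monomial_mul, one_mul]⟩
    · rintro ⟨_, ⟨i, hi, j, hj, rfl⟩, rfl⟩
      exact ⟨i, j, hi, hj, by rw [X, X, monomial_mul, one_mul]⟩
  · have hcA : Nat.card A = c := by
      rw [← Nat.card_fin c]
      exact Nat.card_congr ⟨fun i => ⟨i.1.val, i.2⟩, fun i => ⟨⟨i.val, by omega⟩, show i.val + 1 ≤ c by omega⟩,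
        fun i => rfl, fun i => rfl⟩
    have hcB : Nat.card B = d := by
      rw [← Nat.card_fin d]
      exact Nat.card_congr ⟨fun i => ⟨i.1.val + d - (n + 1), by have := i.1.isLt; have h : n + 1 ≤ i.1.val + d := i.2; omega⟩,
        fun i => ⟨⟨i.val + (n + 1) - d, by omega⟩, show n + 1 ≤ i.val + (n + 1) - d + d by omega⟩,
        fun i => Subtype.ext (Fin.ext (by have h : n + 1 ≤ i.1.val + d := i.2; simp; omega)), fun i => Fin.ext (by simp; omega)⟩
    have hco : ∀ S : Set (Fin (n + 1)), Nat.card {l // l ∉ S} = n + 1 - Nat.card S := fun S => by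
      classical
      simp [Nat.card_eq_fintype_card, Fintype.card_subtype_compl]
    rw [hco, hco, hcA, hcB, show n + 1 - c = n - c + 1 by omega, show n + 1 - d = n - d + 1 by omega, add_comm]

end Groth.Agent.S13451
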