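import Groth.Statements.S13453
import Groth.Agent.HilbPnLib.Basic

set_option autoImplicit false
universe u
open W4c1hilbpn

namespace Groth.Agent.S13453

open W4c1hilbpn in
/-- Let k be an infinite field, S = k[x,y,z] with variables ordered x > y > z, and I a strongly stable
ideal of finite colength; write I_i for the ideal of polynomials f in k[y,z] with x^i f in I (so I
is the direct sum of the x^i I_i). Then each I_i is a strongly stable ideal of k[y,z] (with y > z)
and the ideal quotient (I_i : y) is contained in I_{i+1}. -/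
theorem result (k : Type u) [Field k] [Infinite k]
    (I : Ideal (MvPolynomial (Fin 3) k)) (hI : IsStronglyStable I) [Module.Finite k (MvPolynomial (Fin 3) k ⧸ I)] (i : ℕ) :
    IsStronglyStable (sliceX I i) ∧
      (sliceX I i).colon {(MvPolynomial.X 0 : MvPolynomial (Fin 2) k)} ≤ sliceX I (i + 1) := by
  refine ⟨⟨HilbPnLib.isMonomial_sliceX hI.1 i, fun β hβ a b hab hb => ?_⟩, fun f hf => ?_⟩
  · obtain ⟨rfl, rfl⟩ : a = 0 ∧ b = 1 := by omega
    rw [HilbPnLib.mem_exps_sliceX] at hβ ⊢
    obtain ⟨c, hc⟩ : ∃ c, β 1 = c + 1 := ⟨β 1 - 1, by omega⟩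
    rw [hc] at hβ
    simpa [hc] using HilbPnLib.step_zy hI hβ
  · refine HilbPnLib.mem_of_support fun d hd => ?_
    rw [Submodule.mem_colon_singleton, smul_eq_mul] at hf
    have h : d + Finsupp.single 0 1 ∈ exps (sliceX I i) :=
      HilbPnLib.isMonomial_sliceX hI.1 i _ hf _ (by
        rw [MvPolynomial.mem_support_iff] at hd ⊢
        rwa [MvPolynomial.coeff_mul_X])
    rw [HilbPnLib.mem_exps_sliceX] at h ⊢
    simp at h
    exact HilbPnLib.step_yx hI h

end Groth.Agent.S13453
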