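import Groth.Statements.S13454
import Groth.Agent.HilbPnLib.Stair

set_option autoImplicit false
universe u
open W4c1hilbpn

namespace Groth.Agent.S13454

open Groth.Agent MvPolynomial

theorem finrank_slice {k : Type u} [Field k] {I : Ideal (MvPolynomial (Fin 3) k)}
    [Module.Finite k (MvPolynomial (Fin 3) k ⧸ I)] (hI : IsMonomial I) (i : ℕ) :
    Module.finrank k (MvPolynomial (Fin 2) k ⧸ sliceX I i) =
      (HilbPnLib.Stair.sl (HilbPnLib.Stair.sh3^[i] (HilbPnLib.triples hI))).card := by
  let f : MvPolynomial (Fin 2) k →ₗ[k] MvPolynomial (Fin 3) k ⧸ I :=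
    { toFun := fun q => Ideal.Quotient.mk I (rename Fin.succ q * X 0 ^ i)
      map_add' := fun q q' => by simp [add_mul]
      map_smul' := fun c q => by
        rw [RingHom.id_apply, map_smul, smul_mul_assoc, ← Ideal.Quotient.mkₐ_eq_mk k, map_smul] }
  let g : (MvPolynomial (Fin 2) k ⧸ sliceX I i) →ₗ[k] MvPolynomial (Fin 3) k ⧸ I :=
    (Submodule.liftQ ((sliceX I i).restrictScalars k) f fun q hq =>
      LinearMap.mem_ker.2 (Ideal.Quotient.eq_zero_iff_mem.2 (HilbPnLib.mem_sliceX.1 hq))) ∘ₗ
      (Submodule.Quotient.restrictScalarsEquiv k (sliceX I i)).symm.toLinearMap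
  haveI : Module.Finite k (MvPolynomial (Fin 2) k ⧸ sliceX I i) := by
    refine Module.Finite.of_injective g ((injective_iff_map_eq_zero g).2 fun m hm => ?_)
    obtain ⟨q, rfl⟩ := Submodule.Quotient.mk_surjective _ m
    exact (Submodule.Quotient.mk_eq_zero _).2 (HilbPnLib.mem_sliceX.2 (Ideal.Quotient.eq_zero_iff_mem.1 hm))
  rw [← HilbPnLib.card_compl_exps (HilbPnLib.isMonomial_sliceX hI i)]
  refine Finset.card_nbij (fun γ => (γ 0, γ 1)) (fun γ hγ => ?_) (fun a _ b _ h => ?_) (fun p hp => ?_)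
  · simp only [Set.Finite.coe_toFinset, Set.mem_setOf_eq, HilbPnLib.mem_exps_sliceX] at hγ
    simp only [Finset.mem_coe, HilbPnLib.Stair.mem_sl, HilbPnLib.Stair.mem_iterate, HilbPnLib.mem_triples hI, zero_add]
    exact hγ
  · simp only [Prod.mk.injEq] at h
    ext l; fin_cases l <;> simp [h]
  · obtain ⟨b, c⟩ := p
    simp only [Finset.mem_coe, HilbPnLib.Stair.mem_sl, HilbPnLib.Stair.mem_iterate, HilbPnLib.mem_triples hI, zero_add] at hp
    refine ⟨Finsupp.equivFunOnFinite.symm ![b, c], ?_, by simp⟩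
    simp [HilbPnLib.mem_exps_sliceX, hp]

open W4c1hilbpn in
/-- Let k be an infinite field, S = k[x,y,z] with variables ordered x > y > z and irrelevant ideal m, r
a natural number, and I a strongly stable ideal of colength at most C(r+2, 3) = dim S/m^r; write I_i
for the ideal of polynomials f in k[y,z] with x^i f in I. Then for every j ≤ r the sum over j ≤ i <
r of dim k[y,z]/I_i is at most the sum over the same i of C(r-i+1, 2) = dim k[y,z]/(y,z)^{r-i}, and
if equality holds for every j < r then I = m^r. -/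
theorem result (k : Type u) [Field k] [Infinite k] (r : ℕ)
    (I : Ideal (MvPolynomial (Fin 3) k)) (hI : IsStronglyStable I) [Module.Finite k (MvPolynomial (Fin 3) k ⧸ I)]
    (hd : Module.finrank k (MvPolynomial (Fin 3) k ⧸ I) ≤ Nat.choose (r + 2) 3) :
    (∀ j, j ≤ r → ∑ i ∈ Finset.Ico j r, Module.finrank k (MvPolynomial (Fin 2) k ⧸ sliceX I i) ≤
        ∑ i ∈ Finset.Ico j r, Nat.choose (r - i + 1) 2) ∧
    ((∀ j, j < r → ∑ i ∈ Finset.Ico j r, Module.finrank k (MvPolynomial (Fin 2) k ⧸ sliceX I i) =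
        ∑ i ∈ Finset.Ico j r, Nat.choose (r - i + 1) 2) → I = (Ideal.span (Set.range (MvPolynomial.X : Fin 3 → MvPolynomial (Fin 3) k))) ^ r) := by
  have hsum : ∀ j, j ≤ r → ∑ i ∈ Finset.Ico j r, Module.finrank k (MvPolynomial (Fin 2) k ⧸ sliceX I i) =
      (HilbPnLib.Stair.sh3^[j] (HilbPnLib.triples hI.1)).card ∧
      ∑ i ∈ Finset.Ico j r, Nat.choose (r - i + 1) 2 = (r - j + 2).choose 3 := fun j hj => by
    rw [Finset.sum_congr rfl fun i _ => finrank_slice hI.1 i]
    exact (HilbPnLib.stair3_triples hI).sum_slices (by rwa [HilbPnLib.card_triples]) (r - j) j (by omega)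
  have hc : (HilbPnLib.triples hI.1).card ≤ (r + 2).choose 3 := by rwa [HilbPnLib.card_triples]
  refine ⟨fun j hj => ?_, fun heq => ?_⟩
  · obtain ⟨e1, e2⟩ := hsum j hj
    rw [e1, e2]
    exact (HilbPnLib.stair3_triples hI).iterate_card_le hc j
  · have key : ∀ j, j ≤ r → (HilbPnLib.Stair.sh3^[j] (HilbPnLib.triples hI.1)).card = (r - j + 2).choose 3 := by
      intro j hj
      rcases hj.lt_or_eq with hlt | rfl
      · obtain ⟨e1, e2⟩ := hsum j hj
        rw [← e1, ← e2, heq j hlt]
      · have := (HilbPnLib.stair3_triples hI).iterate_card_le hc j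
        simp only [Nat.sub_self, zero_add] at this ⊢
        simp [Nat.choose] at this ⊢
        simp [this]
    have h0 := key 0 (Nat.zero_le _)
    rw [Function.iterate_zero_apply, Nat.sub_zero] at h0
    refine HilbPnLib.eq_powVars_of_deg_lt hI.1 ?_ h0
    rcases Nat.eq_zero_or_pos r with rfl | hr
    · intro p hp
      rw [Finset.card_eq_zero.1 (h0.trans (by decide))] at hp
      exact absurd hp (Finset.notMem_empty p)
    · refine ((HilbPnLib.stair3_triples hI).sh_card_le hc).2 ?_
      have h1 := key 1 hr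
      rwa [Function.iterate_one, show r - 1 + 2 = r + 1 by omega] at h1

end Groth.Agent.S13454
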