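import Groth.Statements.S13455
import Mathlib

set_option autoImplicit false
universe u
open W4c1hilbpn

namespace Groth.Agent.S13455

open MvPolynomial in
theorem mem_span_monomials {σ : Type} {k : Type u} [CommRing k] (G : Set (MvPolynomial σ k)) (S : Set (σ →₀ ℕ))
    (hG : G = (fun s => monomial s (1 : k)) '' S) (f : MvPolynomial σ k) :
    f ∈ Ideal.span G ↔ ∀ d ∈ f.support, ∃ s ∈ S, s ≤ d := by
  subst hG; exact mem_ideal_span_monomial_image

/-- Let k be an algebraically closed field of characteristic different from 2, k0 ≥ 1 and n ≥ 2k0 - 1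
natural numbers, S = k[x_0, ..., x_n], and e1 ≤ e2 ≤ k0 - 1. The ideal generated by all products x_p
x_q with e1 ≤ p, q ≤ e2 together with the products x_p x_{n-k0+1+q} for e1 ≤ p < q ≤ e2 is the
intersection, over j from e1 to e2, of the ideals generated by the variables x_i with e1 ≤ i ≤ e2
and i ≠ j, the square x_j^2, and the variables x_{n-k0+1+q} for j < q ≤ e2 (a primary decomposition
of this monomial ideal). -/
theorem result (k : Type u) [Field k] [IsAlgClosed k] (hchar : ringChar k ≠ 2)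
    (n k0 e1 e2 : ℕ) (hk : 1 ≤ k0) (hn : 2 * k0 ≤ n + 1) (he : e1 ≤ e2) (he2 : e2 + 1 ≤ k0) :
    Ideal.span ({f : MvPolynomial (Fin (n + 1)) k | ∃ p q : Fin (n + 1), e1 ≤ p.val ∧ p.val ≤ e2 ∧ e1 ≤ q.val ∧ q.val ≤ e2 ∧
        f = MvPolynomial.X p * MvPolynomial.X q} ∪
      {f : MvPolynomial (Fin (n + 1)) k | ∃ p q m : Fin (n + 1), e1 ≤ p.val ∧ p.val < q.val ∧ q.val ≤ e2 ∧
        m.val + k0 = n + 1 + q.val ∧ f = MvPolynomial.X p * MvPolynomial.X m}) =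
    ⨅ j : Fin (n + 1), ⨅ (_ : e1 ≤ j.val ∧ j.val ≤ e2),
      Ideal.span ({f : MvPolynomial (Fin (n + 1)) k | ∃ i : Fin (n + 1), e1 ≤ i.val ∧ i.val ≤ e2 ∧ i ≠ j ∧ f = MvPolynomial.X i} ∪
        {MvPolynomial.X j ^ 2} ∪
        {f : MvPolynomial (Fin (n + 1)) k | ∃ q m : Fin (n + 1), j.val < q.val ∧ q.val ≤ e2 ∧ m.val + k0 = n + 1 + q.val ∧
          f = MvPolynomial.X m}) := by
  classical
  set N := n + 1 with hN
  have hXX : ∀ p q : Fin N, (MvPolynomial.X p * MvPolynomial.X q : MvPolynomial (Fin N) k) =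
      MvPolynomial.monomial (Finsupp.single p 1 + Finsupp.single q 1) 1 := fun p q => by
    simp [MvPolynomial.X, MvPolynomial.monomial_mul]
  let SL : Set (Fin N →₀ ℕ) :=
    {s | ∃ p q : Fin N, e1 ≤ p.val ∧ p.val ≤ e2 ∧ e1 ≤ q.val ∧ q.val ≤ e2 ∧ s = Finsupp.single p 1 + Finsupp.single q 1} ∪
    {s | ∃ p q m : Fin N, e1 ≤ p.val ∧ p.val < q.val ∧ q.val ≤ e2 ∧ m.val + k0 = n + 1 + q.val ∧
      s = Finsupp.single p 1 + Finsupp.single m 1}
  let SR : Fin N → Set (Fin N →₀ ℕ) := fun j =>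
    {s | ∃ i : Fin N, e1 ≤ i.val ∧ i.val ≤ e2 ∧ i ≠ j ∧ s = Finsupp.single i 1} ∪ {Finsupp.single j 2} ∪
    {s | ∃ q m : Fin N, j.val < q.val ∧ q.val ≤ e2 ∧ m.val + k0 = n + 1 + q.val ∧ s = Finsupp.single m 1}
  ext f
  simp only [Ideal.mem_iInf]
  rw [mem_span_monomials _ SL ?hL]
  swap
  · ext g
    simp only [SL, Set.mem_image, Set.mem_union, Set.mem_ofPred_eq]
    constructor
    · rintro (⟨p, q, h1, h2, h3, h4, rfl⟩ | ⟨p, q, m, h1, h2, h3, h4, rfl⟩)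
      · exact ⟨_, Or.inl ⟨p, q, h1, h2, h3, h4, rfl⟩, (hXX p q).symm⟩
      · exact ⟨_, Or.inr ⟨p, q, m, h1, h2, h3, h4, rfl⟩, (hXX p m).symm⟩
    · rintro ⟨s, (⟨p, q, h1, h2, h3, h4, rfl⟩ | ⟨p, q, m, h1, h2, h3, h4, rfl⟩), rfl⟩
      · exact Or.inl ⟨p, q, h1, h2, h3, h4, (hXX p q).symm⟩
      · exact Or.inr ⟨p, q, m, h1, h2, h3, h4, (hXX p m).symm⟩
  have hR : ∀ j : Fin N, ({f : MvPolynomial (Fin N) k | ∃ i : Fin N, e1 ≤ i.val ∧ i.val ≤ e2 ∧ i ≠ j ∧ f = MvPolynomial.X i} ∪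
        {MvPolynomial.X j ^ 2} ∪
        {f : MvPolynomial (Fin N) k | ∃ q m : Fin N, j.val < q.val ∧ q.val ≤ e2 ∧ m.val + k0 = n + 1 + q.val ∧
          f = MvPolynomial.X m}) = (fun s => MvPolynomial.monomial s (1 : k)) '' SR j := by
    intro j
    ext g
    simp only [SR, Set.mem_image, Set.mem_union, Set.mem_ofPred_eq, Set.mem_singleton_iff]
    constructor
    · rintro ((⟨i, h1, h2, h3, rfl⟩ | rfl) | ⟨q, m, h1, h2, h3, rfl⟩)
      · exact ⟨_, Or.inl (Or.inl ⟨i, h1, h2, h3, rfl⟩), rfl⟩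
      · exact ⟨_, Or.inl (Or.inr rfl), (MvPolynomial.X_pow_eq_monomial).symm⟩
      · exact ⟨_, Or.inr ⟨q, m, h1, h2, h3, rfl⟩, rfl⟩
    · rintro ⟨s, ((⟨i, h1, h2, h3, rfl⟩ | rfl) | ⟨q, m, h1, h2, h3, rfl⟩), rfl⟩
      · exact Or.inl (Or.inl ⟨i, h1, h2, h3, rfl⟩)
      · exact Or.inl (Or.inr MvPolynomial.X_pow_eq_monomial.symm)
      · exact Or.inr ⟨q, m, h1, h2, h3, rfl⟩
  constructor
  · intro h j hj
    refine (mem_span_monomials _ _ (hR j) f).2 fun d hd => ?_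
    obtain ⟨s, (⟨p, q, h1, h2, h3, h4, rfl⟩ | ⟨p, q, m, h1, h2, h3, h4, rfl⟩), hle⟩ := h d hd
    · by_cases hp : p = j
      · by_cases hq : q = j
        · subst hp hq
          exact ⟨_, Or.inl (Or.inr rfl), le_trans (le_of_eq (Finsupp.single_add _ 1 1)) hle⟩
        · exact ⟨_, Or.inl (Or.inl ⟨q, h3, h4, hq, rfl⟩), le_trans le_add_self hle⟩
      · exact ⟨_, Or.inl (Or.inl ⟨p, h1, h2, hp, rfl⟩), le_trans le_self_add hle⟩
    · by_cases hp : p = j
      · subst hp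
        exact ⟨_, Or.inr ⟨q, m, h2, h3, h4, rfl⟩, le_trans le_add_self hle⟩
      · exact ⟨_, Or.inl (Or.inl ⟨p, h1, by omega, hp, rfl⟩), le_trans le_self_add hle⟩
  · intro h d hd
    let j₀ : Fin N := ⟨e2, by omega⟩
    by_cases hex : ∃ i : Fin N, e1 ≤ i.val ∧ i.val ≤ e2 ∧ d i ≠ 0
    · obtain ⟨i, hi1, hi2, hi⟩ := hex
      obtain ⟨s, ((⟨i', h1, h2, h3, rfl⟩ | rfl) | ⟨q, m, h1, h2, h3, rfl⟩), hle⟩ := (mem_span_monomials _ _ (hR i) f).1 (h i ⟨hi1, hi2⟩) d hd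
      · refine ⟨_, Or.inl ⟨i, i', hi1, hi2, h1, h2, rfl⟩, fun x => ?_⟩
        have hi' := Finsupp.single_le_iff.1 hle
        rcases eq_or_ne x i with rfl | hx
        · simp [Ne.symm h3, Nat.one_le_iff_ne_zero, hi]
        · rcases eq_or_ne x i' with rfl | hx'
          · simpa [hx] using hi'
          · simp [hx, hx']
      · exact ⟨_, Or.inl ⟨i, i, hi1, hi2, hi1, hi2, rfl⟩, le_trans (le_of_eq (Finsupp.single_add _ 1 1).symm) hle⟩
      · refine ⟨_, Or.inr ⟨i, q, m, hi1, h1, h2, h3, rfl⟩, fun x => ?_⟩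
        have hm' := Finsupp.single_le_iff.1 hle
        have him : i ≠ m := fun e => by subst e; omega
        rcases eq_or_ne x i with rfl | hx
        · simp [him, Nat.one_le_iff_ne_zero, hi]
        · rcases eq_or_ne x m with rfl | hx'
          · simpa [hx] using hm'
          · simp [hx, hx']
    · push Not at hex
      obtain ⟨s, ((⟨i', h1, h2, h3, rfl⟩ | rfl) | ⟨q, m, h1, h2, h3, rfl⟩), hle⟩ := (mem_span_monomials _ _ (hR j₀) f).1 (h j₀ ⟨he, le_rfl⟩) d hd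
      · have := Finsupp.single_le_iff.1 hle
        rw [hex i' h1 h2] at this; omega
      · have := Finsupp.single_le_iff.1 hle
        rw [hex j₀ he le_rfl] at this; omega
      · have h1' : e2 < q.val := h1
        omega

end Groth.Agent.S13455
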