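import Groth.Statements.S13460
import Mathlib

set_option autoImplicit false
universe u
open CategoryTheory CategoryTheory.Limits AlgebraicGeometry TopologicalSpace
open WDiv

namespace Groth.Agent.S13460

open AlgebraicGeometry
set_option backward.isDefEq.respectTransparency false

/-- Let A be a Noetherian integral domain which is a unique factorization domain, and X = Spec A. Then
the divisor class group of X vanishes: every Weil divisor D on X, an integer-valued function on the
points of X with finite support inside the points of coheight 1 (codimension one), is the divisor of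
a nonzero rational function f on X, i.e. the order of vanishing of f at every point x of coheight 1
is D(x). (The published statement assumes only that A is a unique factorization domain; this row
also assumes A Noetherian.) -/
theorem result (A : Type u) [CommRing A] [IsDomain A] [IsNoetherianRing A]
    [UniqueFactorizationMonoid A]
    (D : ↥(Spec (CommRingCat.of A)) → ℤ) (hD : ∀ x, Order.coheight x ≠ 1 → D x = 0) (hfin : {x | D x ≠ 0}.Finite) :
    ∃ f : ↑(Spec (CommRingCat.of A)).functionField, f ≠ 0 ∧
      ∀ x : ↥(Spec (CommRingCat.of A)), Order.coheight x = 1 → Scheme.ord f x = D x := by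
  classical
  let X := Spec (CommRingCat.of A)
  let B := Γ(X, ⊤)
  let eA : B ≃+* A := (Scheme.ΓSpecIso (CommRingCat.of A)).commRingCatIsoToRingEquiv
  haveI : UniqueFactorizationMonoid B := eA.symm.toMulEquiv.uniqueFactorizationMonoid ‹_›
  haveI : IsNoetherianRing B := isNoetherianRing_of_ringEquiv A eA.symm
  have hV : IsAffineOpen (⊤ : X.Opens) := isAffineOpen_top X
  let p : X → Ideal B := fun x => (hV.primeIdealOf ⟨x, trivial⟩).asIdeal
  have hp : ∀ x, (p x).IsPrime := fun x => (hV.primeIdealOf ⟨x, trivial⟩).isPrime
  have hinj : ∀ x y, p x = p y → x = y := fun x y h => by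
    have h1 : hV.primeIdealOf ⟨x, trivial⟩ = hV.primeIdealOf ⟨y, trivial⟩ := PrimeSpectrum.ext h
    have h2 := congrArg (fun q => hV.fromSpec q) h1
    simpa only [IsAffineOpen.fromSpec_primeIdealOf] using h2
  have hht : ∀ x, Order.coheight x = 1 → (p x).height = 1 := fun x hx => by
    letI := (X.presheaf.germ ⊤ x trivial).hom.toAlgebra
    haveI := hp x
    haveI : IsLocalization.AtPrime (X.presheaf.stalk x) (p x) := hV.isLocalization_stalk ⟨x, trivial⟩
    have h1 := IsLocalization.AtPrime.ringKrullDim_eq_height (p x) (X.presheaf.stalk x)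
    rw [ringKrullDim_stalk_eq_coheight, hx] at h1
    exact_mod_cast h1.symm
  have hex : ∀ x, ∃ π : B, Order.coheight x = 1 → Prime π ∧ p x = Ideal.span {π} := fun x => by
    by_cases hx : Order.coheight x = 1
    · haveI := hp x
      have hne : p x ≠ ⊥ := fun h => by
        have := hht x hx; rw [h, Ideal.height_bot] at this; exact zero_ne_one this
      obtain ⟨π, hπm, hπ⟩ := Ideal.IsPrime.exists_mem_prime_of_ne_bot (hp x) hne
      refine ⟨π, fun _ => ⟨hπ, ?_⟩⟩
      haveI : (Ideal.span {π}).IsPrime := (Ideal.span_singleton_prime hπ.ne_zero).2 hπ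
      refine ((eq_or_lt_of_le ((Ideal.span_singleton_le_iff_mem _).2 hπm)).resolve_right fun hlt => ?_).symm
      have h1 := Ideal.height_strict_mono_of_isPrime hlt
      have h0 := Ideal.height_strict_mono_of_isPrime (I := (⊥ : Ideal B)) (bot_lt_iff_ne_bot.2 fun e => hπ.ne_zero (Ideal.span_singleton_eq_bot.1 e) : _ < Ideal.span {π})
      rw [hht x hx, ENat.lt_one_iff_eq_zero] at h1
      rw [h1, Ideal.height_bot] at h0
      exact lt_irrefl _ h0
    · exact ⟨0, fun h => absurd h hx⟩
  choose π hπ using hex
  haveI : Nonempty (⊤ : X.Opens) := ⟨⟨Nonempty.some inferInstance, trivial⟩⟩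
  let g := (X.germToFunctionField ⊤).hom
  let S := hfin.toFinset
  have hS : ∀ y ∈ S, Order.coheight y = 1 := fun y hy => by
    by_contra h; exact (hfin.mem_toFinset.1 hy) (hD y h)
  have hg0 : ∀ y ∈ S, g (π y) ≠ 0 := fun y hy => by
    have h1 : Function.Injective g := X.germToFunctionField_injective ⊤
    exact fun h => (hπ y (hS y hy)).1.ne_zero (h1 (h.trans (map_zero g).symm))
  refine ⟨∏ y ∈ S, g (π y) ^ D y, Finset.prod_ne_zero_iff.2 fun y hy => zpow_ne_zero _ (hg0 y hy), fun x hx => ?_⟩
  have hord : ∀ y ∈ S, X.ordHom x hx (g (π y)) = if y = x then WithZero.exp (1 : ℤ) else 1 := by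
    intro y hy
    letI := (X.presheaf.germ ⊤ x trivial).hom.toAlgebra
    haveI := hp x
    haveI : IsLocalization.AtPrime (X.presheaf.stalk x) (p x) := hV.isLocalization_stalk ⟨x, trivial⟩
    haveI : Ring.KrullDimLE 1 (X.presheaf.stalk x) := AlgebraicGeometry.krullDimLE_of_coheight_le hx.le
    show Ring.ordFrac (X.presheaf.stalk x) (g (π y)) = _
    rw [show g (π y) = algebraMap (X.presheaf.stalk x) X.functionField (algebraMap B (X.presheaf.stalk x) (π y)) from
      (AlgebraicGeometry.Scheme.algebraMap_germ_eq_germToFunctionField X (U := (⊤ : X.Opens)) (show x ∈ (⊤ : X.Opens) from trivial) (π y)).symm]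
    split_ifs with h
    · subst h
      have hm : IsLocalRing.maximalIdeal (X.presheaf.stalk y) = Ideal.span {algebraMap B (X.presheaf.stalk y) (π y)} := by
        rw [← IsLocalization.AtPrime.map_eq_maximalIdeal (p y) (X.presheaf.stalk y), (hπ y hx).2, Ideal.map_span, Set.image_singleton]
      have hnf : ¬ IsField (X.presheaf.stalk y) := fun hF => by
        have h1 := IsLocalRing.isField_iff_maximalIdeal_eq.1 hF
        rw [h1, eq_comm, Ideal.span_singleton_eq_bot] at hm
        have h2 := AlgebraicGeometry.Scheme.algebraMap_germ_eq_germToFunctionField X (U := (⊤ : X.Opens)) (show y ∈ (⊤ : X.Opens) from trivial) (π y)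
        exact hg0 y hy (h2.symm.trans ((congrArg _ hm).trans (map_zero _)))
      haveI : IsNoetherianRing (X.presheaf.stalk y) := IsLocalization.isNoetherianRing (p y).primeCompl _ inferInstance
      haveI : IsDiscreteValuationRing (X.presheaf.stalk y) :=
        ((IsDiscreteValuationRing.TFAE _ hnf).out 4 0).1 (show (IsLocalRing.maximalIdeal (X.presheaf.stalk y)).IsPrincipal from ⟨_, hm⟩)
      exact Ring.ordFrac_irreducible ((IsDiscreteValuationRing.irreducible_iff_uniformizer _).2 hm)
    · haveI : IsNoetherianRing (X.presheaf.stalk x) := IsLocalization.isNoetherianRing (p x).primeCompl _ inferInstance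
      refine Ring.ordFrac_of_isUnit (R := X.presheaf.stalk x) ((IsLocalization.AtPrime.isUnit_to_map_iff (X.presheaf.stalk x) (p x) _).2 fun hmem => h ?_)
      apply hinj
      have hle : p y ≤ p x := by rw [(hπ y (hS y hy)).2, Ideal.span_singleton_le_iff_mem]; exact hmem
      refine hle.eq_of_not_lt fun hlt => ?_
      haveI := hp y
      have h1 := Ideal.height_strict_mono_of_isPrime hlt
      rw [hht x hx, hht y (hS y hy)] at h1
      exact lt_irrefl _ h1
  rw [Scheme.ord_eq_iff hx (Finset.prod_ne_zero_iff.2 fun y hy => zpow_ne_zero _ (hg0 y hy)), map_prod]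
  simp_rw [map_zpow₀]
  rw [Finset.prod_congr rfl (fun y hy => by rw [hord y hy])]
  by_cases hxS : x ∈ S
  · rw [Finset.prod_eq_single x (fun y _ hy => by simp [hy]) (fun h => absurd hxS h), if_pos rfl, ← WithZero.exp_zsmul]
    simp
    rfl
  · rw [Finset.prod_eq_one (fun y hy => by rw [if_neg (fun e : y = x => hxS (e ▸ hy)), one_zpow])]
    have : D x = 0 := by by_contra h; exact hxS (hfin.mem_toFinset.2 h)
    simp [this]

end Groth.Agent.S13460
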