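import Groth.Statements.S13461
import Groth.Agent.CurveFF.Duality
import Groth.Agent.CurveFF.BC
import Groth.Agent.CurveFF.Pic
import Groth.Agent.K0PnLib.Euler
import Groth.Agent.CurveFormsLib.Nondeg
import Groth.Agent.CurveFF.GenusLe

set_option autoImplicit false
universe u
open CategoryTheory CategoryTheory.Limits AlgebraicGeometry TopologicalSpace
open Curves

namespace Groth.Agent.S13461

open CategoryTheory CategoryTheory.Limits AlgebraicGeometry

set_option backward.isDefEq.respectTransparency false
set_option backward.isDefEq.respectTransparency.types false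
set_option linter.style.haveILetI false
set_option maxHeartbeats 1000000

attribute [local instance] Curv2.stalkAlgebra
attribute [local instance high] FunFld.Place.algRes

open Groth.Agent in
theorem exists_kernel {k : Type u} [Field k] {X : Scheme.{u}} [X.Over (Spec (CommRingCat.of k))]
    [IsProper (X ↘ Spec (CommRingCat.of k))] {r : ℕ} (d : ℤ)
    (i : X ⟶ CohB1.ProjSpace r k) (hi : i ≫ CohB1.ProjSpace.toSpec r k = X ↘ Spec (CommRingCat.of k))
    (h : Module.finrank k (Coh.HH X ((Scheme.Modules.pullback i).obj (Twist.twistProjSpace r k d)) 0) <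
      Module.finrank k (Coh.HH (CohB1.ProjSpace r k) (Twist.twistProjSpace r k d) 0))
    [Module.Finite k (Coh.HH X ((Scheme.Modules.pullback i).obj (Twist.twistProjSpace r k d)) 0)] :
    ∃ Q : Γ(Twist.twistProjSpace r k d, ⊤), Q ≠ 0 ∧ OmegaSh.pullSect i (Twist.twistProjSpace r k d) ⊤ Q = 0 := by
  let P := CohB1.ProjSpace r k
  let O1 : P.Modules := Twist.twistProjSpace r k d
  let L := (Scheme.Modules.pullback i).obj O1
  let pS : Coh.HH P O1 0 → LinSer.Sect X L := fun x => OmegaSh.pullSect i O1 ⊤ (CurveLib.secOf O1 x)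
  have hadd : ∀ a b, pS (a + b) = pS a + pS b := fun a b =>
    (congrArg (OmegaSh.pullSect i O1 ⊤) (map_add (CurveLib.secOf O1) a b)).trans (map_add _ _ _)
  have hsm : ∀ (c : k) (x : Coh.HH P O1 0), pS (c • x) =
      (Coh.toGlobal (X ↘ Spec (CommRingCat.of k)) c) • pS x := by
    intro c x
    show OmegaSh.pullSect i O1 ⊤ _ = _
    rw [CurveLib.secOf_smul (k := k) O1 c x]
    refine (Scheme.Modules.Hom.app_smul ((Scheme.Modules.pullbackPushforwardAdjunction i).unit.app O1)
      (Coh.toGlobal (P ↘ Spec (CommRingCat.of k)) c) _).trans ?_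
    rw [show Coh.toGlobal (X ↘ Spec (CommRingCat.of k)) c = i.app ⊤ (Coh.toGlobal (P ↘ Spec (CommRingCat.of k)) c) from by
      rw [← hi]; exact RingHom.congr_fun (ProjCoh.toGlobal_comp (CohB1.ProjSpace.toSpec r k) i) c]
    rfl
  let F : Coh.HH P O1 0 →ₗ[k] Coh.HH X L 0 :=
    { toFun := fun x => (CurveLib.secOf L).symm (pS x)
      map_add' := fun a b => (congrArg _ (hadd a b)).trans (map_add _ _ _)
      map_smul' := fun c a => (CurveLib.secOf L).injective
        (((CurveLib.secOf L).apply_symm_apply _).trans ((hsm c a).trans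
          ((CurveLib.secOf_smul (k := k) L c _).trans
            (congrArg _ ((CurveLib.secOf L).apply_symm_apply _))).symm)) }
  have hF : ¬ Function.Injective F := fun hF => (LinearMap.finrank_le_finrank_of_injective hF).not_gt h
  rw [injective_iff_map_eq_zero] at hF
  push Not at hF
  obtain ⟨x, hx, hne⟩ := hF
  refine ⟨CurveLib.secOf O1 x, fun h => hne ((CurveLib.secOf O1).injective (h.trans (map_zero _).symm)), ?_⟩
  have h1 := congrArg (CurveLib.secOf L) hx
  exact ((CurveLib.secOf L).apply_symm_apply _).symm.trans (h1.trans (map_zero _))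


/-- Let k be a field and X a smooth proper geometrically connected curve over k (proper, smooth and
geometrically connected over k, of dimension one) of genus dim_k H^1(X, O_X) = 4, and let i : X →
P^3_k be a closed immersion over k whose pullback of O(1) is isomorphic to the sheaf of
differentials Ω_{X/k} (X is canonically embedded, hence not hyperelliptic). Then X lies on a quadric
surface: there is a nonzero global section Q of O_{P^3_k}(2) whose pullback along i is the zero
section of i^*O(2). (The published statement goes on to assert that X is the complete intersection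
of such a quadric with a cubic surface; this row states only the existence of the quadric.) -/
theorem result (k : Type u) [Field k] (X : Scheme.{u}) [X.Over (Spec (CommRingCat.of k))]
    [IsProper (X ↘ (Spec (CommRingCat.of k)))] [Smooth (X ↘ (Spec (CommRingCat.of k)))] [GeometricallyConnected (X ↘ (Spec (CommRingCat.of k)))]
    (hdim : topologicalKrullDim X = 1) (hg : Curv2.genus k X = 4)
    (i : X ⟶ CohB1.ProjSpace 3 k) [IsClosedImmersion i] (hi : i ≫ CohB1.ProjSpace.toSpec 3 k = X ↘ (Spec (CommRingCat.of k)))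
    (hcan : Nonempty ((Scheme.Modules.pullback i).obj (Twist.twistProjSpace 3 k 1) ≅ Omega.sheaf (X ↘ (Spec (CommRingCat.of k))))) :
    ∃ Q : Γ(Twist.twistProjSpace 3 k 2, ⊤), Q ≠ 0 ∧
      OmegaSh.pullSect i (Twist.twistProjSpace 3 k 2) ⊤ Q = 0 := by
  classical
  haveI : ConnectedSpace ↥(Curv2.bc k X (AlgebraicClosure k)) :=
    GeometricallyConnected.geometrically_connectedSpace _ _ _ (IsPullback.of_hasPullback _ _)
  haveI : ConnectedSpace X :=
    GeometricallyConnected.geometrically_connectedSpace (f := X ↘ Spec (CommRingCat.of k)) (𝟙 (Spec (CommRingCat.of k)))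
      (𝟙 X) (X ↘ Spec (CommRingCat.of k)) (IsPullback.id_horiz _)
  haveI := Groth.Agent.EulerIneqLib.isNoetherian_proper (X := X) k
  haveI := Groth.Agent.CurveLib.isIntegral_of_smooth (X := X) k
  haveI := Groth.Agent.VBLib.isRegCurve_of_smooth (X := X) k hdim.le
  have h0 : Module.finrank k (Coh.HH X (Coh.structureModule X) 0) = 1 := by
    let K := AlgebraicClosure k
    haveI : Smooth (Curv2.bc k X K ↘ Spec (CommRingCat.of K)) := Groth.Agent.CurveP1Lib.smooth_bc k K
    haveI := Groth.Agent.EulerIneqLib.isNoetherian_proper (X := Curv2.bc k X K) K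
    haveI : IsIntegral (Curv2.bc k X K) := Groth.Agent.CurveLib.isIntegral_of_smooth K
    haveI : Coh.IsQCoh (Coh.structureModule X) := Groth.Agent.CohBase.isQCoh_structureModule
    rw [← Groth.Agent.ShBCLib.finrank_HH_bc k K (Coh.structureModule X) 0]
    exact (Groth.Agent.ShBCLib.finrank_HH_iso (Groth.Agent.DCohLib.pullStructureIso (Curv2.bcFst k X K)) 0).trans
      Groth.Agent.CurveLib.finrank_H0_structure
  obtain ⟨eΩ⟩ := hcan
  let O1 := Twist.twistProjSpace 3 k 1
  let e2 : (Scheme.Modules.pullback i).obj (Twist.twistProjSpace 3 k 2) ≅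
      CohB1.tensorMod (Groth.Agent.CurveFF.om k X) (Groth.Agent.CurveFF.om k X) :=
    (Scheme.Modules.pullback i).mapIso (Groth.Agent.K0PnLib.twistAddIso (k := k) (n := 3) (a := 1) (b := 1) (c := 2) rfl).symm ≪≫
      Groth.Agent.AmpleLib.pullTensor i O1 O1 ≪≫ Groth.Agent.AmpleLib.tIso eΩ eΩ
  have hΩ : PicF.IsInvertible (Groth.Agent.CurveFF.om k X) :=
    Groth.Agent.ParaFLib.isInvertible_of_iso eΩ (Groth.Agent.AmpleLib.isInvertible_pullback i (Groth.Agent.AmpleEmb.isInvertible_twistOne 3 k))
  have hL := Groth.Agent.AmpleLib.isInvertible_tensor hΩ hΩ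
  have hd := Groth.Agent.CurveLib.deg_tensor_add (k := k) hdim.le hΩ hΩ
  rw [(Groth.Agent.CurveFF.omega_deg_h0 k hdim h0).1, hg] at hd
  obtain ⟨e, he⟩ := Groth.Agent.CurveFF.exists_base hL
  obtain ⟨D, hD⟩ := Groth.Agent.CurveFF.exists_isDiv hdim h0 hL he
  obtain ⟨hgen, hdeg⟩ := Groth.Agent.CurveFF.genus_and_deg hdim h0 hL he hD
  have hl := Groth.Agent.FF.ell_of_deg_large (Groth.Agent.CurveFF.isFunctionField k hdim h0) (D := D) (by omega)
  haveI : Module.Finite k (Coh.HH X ((Scheme.Modules.pullback i).obj (Twist.twistProjSpace 3 k 2)) 0) :=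
    Groth.Agent.EulerIneqLib.finite_HH (k := k) (Groth.Agent.CurveLib.isCoh_of_isInvertible
      (Groth.Agent.ParaFLib.isInvertible_of_iso e2.symm hL)) 0
  refine exists_kernel 2 i hi ?_
  obtain ⟨eH⟩ := Groth.Agent.ProjTwist.nonempty_H0 3 k 2
  rw [show (2 : ℤ) = ((2 : ℕ) : ℤ) from rfl] at e2 ⊢
  rw [Groth.Agent.ShBCLib.finrank_HH_iso e2 0, Groth.Agent.CurveFF.finrank_H0_eq_ell hdim hL he hD,
    eH.finrank_eq.trans (Groth.Agent.S4466.finrank_forms k 3 2)]
  have : (2 + 3 : ℕ).choose 3 = 10 := rfl
  omega

end Groth.Agent.S13461
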