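import Groth.Statements.S13470
import Groth.Agent.CharExtLib.Core
import Groth.Agent.TorusField.Bridge

set_option autoImplicit false
set_option backward.isDefEq.respectTransparency false
set_option backward.isDefEq.respectTransparency.types false
universe u
open GmDual

namespace Groth.Agent.S13470

section aux
open CategoryTheory AlgebraicGeometry MonoidalCategory CartesianMonoidalCategory MonObj Opposite WithConv

variable {k : Type u} [Field k]

/-- The Hopf algebra of a commutative affine group is cocommutative. -/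
theorem isCocomm {G : Over (Spec (CommRingCat.of k))} [GrpObj G] [IsCommMonObj G] {A : Type u} [CommRing A]
    [HopfAlgebra k A] (e : TorusField.specGrp k A ≅ Grp.mk G) : Coalgebra.IsCocomm k A := by
  let T := TensorProduct k A A
  have hc : ∀ a b : WithConv (A →ₐ[k] T), a * b = b * a := fun a b =>
    ((Spec.mapMulEquiv (R := k) (S := A) (T := T)).trans (FixedSmooth.grpEquiv e _)).injective
      (by rw [map_mul, map_mul, mul_comm])
  constructor
  refine LinearMap.ext fun a => ?_
  have h := congrArg (fun f : WithConv (A →ₐ[k] T) => f.ofConv a)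
    (hc (toConv Algebra.TensorProduct.includeRight) (toConv Algebra.TensorProduct.includeLeft))
  simp only [AlgHom.convMul_apply] at h
  show TensorProduct.comm k A A (Coalgebra.comul a) = Coalgebra.comul a
  refine Eq.trans ?_ (h.trans ?_) <;>
    · generalize Coalgebra.comul (R := k) a = y
      induction y using TensorProduct.induction_on with
      | zero => simp
      | add p q hp hq => simp only [map_add, hp, hq]
      | tmul p q => simp [T]

/-- A map of sheaves of points comes from a homomorphism of groups. -/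
theorem exists_ptsMap {S : Scheme.{u}} {G H : Over S} [GrpObj G] [IsCommMonObj G] [GrpObj H] [IsCommMonObj H]
    (φ : CGrpSh.pts Scheme.fppfPrecoverage H ⟶ CGrpSh.pts Scheme.fppfPrecoverage G) :
    ∃ (u : H ⟶ G) (_ : IsMonHom u), φ = CGrpSh.ptsMap Scheme.fppfPrecoverage u := by
  let x0 : (CGrpSh.pts Scheme.fppfPrecoverage H).obj.obj (op H) := ULift.up (Additive.ofMul (𝟙 H))
  let u : H ⟶ G := (φ.hom.app (op H) x0).down.toMul
  have hu : ∀ (T : Over S) (x : (CGrpSh.pts Scheme.fppfPrecoverage H).obj.obj (op T)),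
      (φ.hom.app (op T) x).down.toMul = x.down.toMul ≫ u := fun T x => by
    have hx : x = (CGrpSh.pts Scheme.fppfPrecoverage H).obj.map (x.down.toMul : T ⟶ H).op x0 :=
      ULift.ext _ _ (congrArg Additive.ofMul (Category.comp_id (x.down.toMul : T ⟶ H)).symm)
    conv_lhs => rw [hx, NatTrans.naturality_apply]
    rfl
  have hmul : ∀ (T : Over S) (a b : T ⟶ H), (a * b) ≫ u = (a ≫ u) * (b ≫ u) := fun T a b => by
    have h := hu T (ULift.up (Additive.ofMul a) + ULift.up (Additive.ofMul b))
    rw [map_add] at h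
    exact (h.symm.trans (congrArg₂ (· * ·) (hu T (ULift.up (Additive.ofMul a)))
      (hu T (ULift.up (Additive.ofMul b)))))
  refine ⟨u, { one_hom := ?_, mul_hom := ?_ }, ?_⟩
  · have h := hmul (𝟙_ (Over S)) 1 1
    rw [_root_.one_mul] at h
    have h1 : (1 : (𝟙_ (Over S)) ⟶ H) ≫ u = 1 := left_eq_mul.mp h
    simpa [Hom.one_def] using h1
  · have h := hmul (H ⊗ H) (fst H H) (snd H H)
    simp only [Hom.mul_def, lift_fst_snd, Category.id_comp] at h
    rw [h]; simp [Category.comp_id]
  · refine Sheaf.hom_ext (NatTrans.ext (funext fun T => AddCommGrpCat.ext fun x => ULift.ext _ _ ?_))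
    exact congrArg Additive.ofMul (hu T.unop x)

open TorusField in
theorem exists_specHom {A B : Type u} [CommRing A] [HopfAlgebra k A] [CommRing B] [HopfAlgebra k B]
    (m : specGrp k B ⟶ specGrp k A) : ∃ π : A →ₐc[k] B, specHom π = m := by
  let m' := (hopfSpec.fullyFaithful (R := CommRingCat.of k)).preimage (X := op (CommHopfAlgCat.of k B))
    (Y := op (CommHopfAlgCat.of k A)) m
  exact ⟨m'.unop.hom, (hopfSpec.fullyFaithful (R := CommRingCat.of k)).map_preimage _⟩

open TorusField in
theorem surjective_of_specHom {A B : Type u} [CommRing A] [HopfAlgebra k A] [CommRing B] [HopfAlgebra k B]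
    (π : A →ₐc[k] B) (h : IsClosedImmersion (specHom π).hom.hom.left) : Function.Surjective π := by
  let g := CommRingCat.ofHom (π : A →ₐ[k] B).toRingHom
  haveI : IsClosedImmersion (Spec.map g) := h
  obtain ⟨-, h2⟩ := IsClosedImmersion.isAffine_surjective_of_isAffine (Spec.map g)
  intro b
  obtain ⟨a, ha⟩ := h2 ((Scheme.ΓSpecIso _).inv b)
  refine ⟨(Scheme.ΓSpecIso _).hom a, ?_⟩
  have := congrArg (fun m => m.hom a) (Scheme.ΓSpecIso_naturality g)
  exact this.symm.trans ((congrArg (Scheme.ΓSpecIso _).hom.hom ha).trans (by simp))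

theorem exists_lift_gen [IsAlgClosed k] {A C : Type u} [CommRing A] [HopfAlgebra k A] [CommRing C] [HopfAlgebra k C]
    [Coalgebra.IsCocomm k A] (π : A →ₐc[k] C) (hπ : Function.Surjective π)
    (β : MonoidAlgebra k (Multiplicative ℤ) →ₐc[k] C) :
    ∃ β' : MonoidAlgebra k (Multiplicative ℤ) →ₐc[k] A, π.comp β' = β := by
  obtain ⟨ψ, hψ, hψχ⟩ := CharExtLib.exists_groupLike_lift π hπ
    (χ := β (MonoidAlgebra.single (Multiplicative.ofAdd (1 : ℤ)) 1))
    (IsGroupLikeElem.map β ⟨by simp, by simp [MonoidAlgebra.comul_single]⟩)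
  let f : Multiplicative ℤ →* GroupLike k A := zpowersHom _ ⟨ψ, hψ⟩
  let F : Multiplicative ℤ →* A :=
    { toFun := fun z => (f z).val, map_one' := by simp, map_mul' := fun a b => by simp }
  refine ⟨BialgHom.ofAlgHom (MonoidAlgebra.lift k A (Multiplicative ℤ) F) ?_ ?_, ?_⟩
  · refine MonoidAlgebra.algHom_ext (fun z => ?_) ?_ <;> [skip; ext]
    simpa [F] using (f z).isGroupLikeElem_val.counit_eq_one
  · refine MonoidAlgebra.algHom_ext (fun z => ?_) ?_ <;> [skip; ext]
    simpa [F, MonoidAlgebra.comul_single] using ((f z).isGroupLikeElem_val.comul_eq_tmul_self).symm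
  · have h0 : ((π : A →ₐ[k] C).comp (MonoidAlgebra.lift k A (Multiplicative ℤ) F)) = (β : _ →ₐ[k] C) := by
      apply (MonoidAlgebra.lift k C (Multiplicative ℤ)).symm.injective
      ext
      simpa [F, f] using hψχ
    exact BialgHom.ext (AlgHom.congr_fun h0)

open TorusField in
theorem specHom_comp {A B C : Type u} [CommRing A] [HopfAlgebra k A] [CommRing B] [HopfAlgebra k B] [CommRing C]
    [HopfAlgebra k C] (g : B →ₐc[k] C) (f : A →ₐc[k] B) : specHom (g.comp f) = specHom g ≫ specHom f :=
  (hopfSpec (CommRingCat.of k)).map_comp (CommHopfAlgCat.ofHom g).op (CommHopfAlgCat.ofHom f).op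

end aux

open CategoryTheory AlgebraicGeometry MonObj in
/-- Let k be an algebraically closed field and i : H → G a homomorphism of affine commutative k-group
schemes of finite type which is a closed immersion. Then the restriction map Ĝ(k) → Ĥ(k) on
characters defined over k (morphisms of abelian sheaves on the big fppf site of Spec k from the
sheaf of points to the multiplicative group, restricted along i) is surjective. -/
theorem result (k : Type u) [Field k] [IsAlgClosed k]
    (H G : Over (Spec (CommRingCat.of k))) [GrpObj H] [IsCommMonObj H] [GrpObj G] [IsCommMonObj G]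
    [IsAffine H.left] [LocallyOfFiniteType H.hom] [IsAffine G.left] [LocallyOfFiniteType G.hom]
    (i : H ⟶ G) [IsMonHom i] [IsClosedImmersion i.left] :
    Function.Surjective (Preadditive.leftComp (CGrpSh2.Gm Scheme.fppfPrecoverage (Spec (CommRingCat.of k)))
      (CGrpSh.ptsMap Scheme.fppfPrecoverage i)) := by
  intro φ
  obtain ⟨u, _, hu⟩ := exists_ptsMap φ
  obtain ⟨A, _, _, ⟨eG⟩⟩ := TorusField.exists_hopf k G
  obtain ⟨C, _, _, ⟨eH⟩⟩ := TorusField.exists_hopf k H
  haveI := isCocomm eG
  let iG : Grp.mk H ⟶ Grp.mk G := Grp.homMk i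
  obtain ⟨π, hπ⟩ := exists_specHom (eH.hom ≫ iG ≫ eG.inv)
  let uG : Grp.mk H ⟶ Grp.mk (Red.DS (Spec (CommRingCat.of k)) ℤ) := Grp.homMk u
  let d := TorusField.dsIso k ℤ
  obtain ⟨β, hβ⟩ := exists_specHom (eH.hom ≫ uG ≫ d.hom)
  have hsurj : Function.Surjective π := surjective_of_specHom π (by
    haveI : IsIso eH.hom.hom.hom.left := inferInstance
    haveI : IsIso eG.inv.hom.hom.left := inferInstance
    rw [hπ]
    show IsClosedImmersion (eH.hom.hom.hom.left ≫ i.left ≫ eG.inv.hom.hom.left)
    infer_instance)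
  obtain ⟨β', hβ'⟩ := exists_lift_gen π hsurj β
  let v := eG.inv ≫ TorusField.specHom β' ≫ d.inv
  have hv : iG ≫ v = uG := by
    have hc := specHom_comp π β'
    rw [hβ', hπ, hβ] at hc
    rw [← cancel_epi eH.hom]
    calc eH.hom ≫ iG ≫ v = ((eH.hom ≫ iG ≫ eG.inv) ≫ TorusField.specHom β') ≫ d.inv := by
          simp [v]
      _ = _ := by rw [← hc]; simp
  haveI : IsMonHom v.hom.hom := v.hom.isMonHom_hom
  refine ⟨CGrpSh.ptsMap Scheme.fppfPrecoverage v.hom.hom, ?_⟩
  rw [hu]
  show CGrpSh.ptsMap Scheme.fppfPrecoverage i ≫ CGrpSh.ptsMap Scheme.fppfPrecoverage v.hom.hom = _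
  rw [← CGrpSh.ptsMap_comp]
  congr 1
  exact congrArg (fun m => m.hom.hom) hv

end Groth.Agent.S13470
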