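import Groth.Statements.S13469
import Groth.Agent.CharFinLib.Pow
import Groth.Agent.S13470
import Mathlib.RingTheory.Finiteness.Finsupp

set_option autoImplicit false
set_option backward.isDefEq.respectTransparency false
set_option backward.isDefEq.respectTransparency.types false
set_option maxHeartbeats 800000
universe u
open GmDual

noncomputable section

namespace Groth.Agent.S13469

section aux
open CategoryTheory AlgebraicGeometry MonoidalCategory CartesianMonoidalCategory MonObj Opposite WithConv TorusField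

variable {k : Type u} [Field k]

/-- The function of a point of the multiplicative group. -/
def val {H : Over (Spec (CommRingCat.of k))} [GrpObj H] {C : Type u} [CommRing C] [HopfAlgebra k C]
    (e : specGrp k C ≅ Grp.mk H) : (H ⟶ Red.Gm (Spec (CommRingCat.of k))) →* C :=
  { toFun := fun w => ((Spec.mapMulEquiv (R := k) (S := MonoidAlgebra k (Multiplicative ℤ)) (T := C)).symm
      (FixedSmooth.grpEquiv (dsIso k ℤ) _ (e.hom.hom.hom ≫ w))).ofConv
        (MonoidAlgebra.single (Multiplicative.ofAdd (1 : ℤ)) 1)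
    map_one' := by
      rw [MonObj.comp_one, map_one, map_one, AlgHom.convOne_apply]
      simp
    map_mul' := fun a b => by
      rw [MonObj.comp_mul, map_mul, map_mul, AlgHom.convMul_apply]
      simp [MonoidAlgebra.comul_single] }

theorem val_injective {H : Over (Spec (CommRingCat.of k))} [GrpObj H] {C : Type u} [CommRing C] [HopfAlgebra k C]
    (e : specGrp k C ≅ Grp.mk H) : Function.Injective (val e) := by
  intro a b h
  let e' : (specGrp k C).X ≅ H := (Grp.forget _).mapIso e
  apply (cancel_epi e'.hom).1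
  apply (FixedSmooth.grpEquiv (dsIso k ℤ) _).injective
  apply (Spec.mapMulEquiv (R := k) (S := MonoidAlgebra k (Multiplicative ℤ)) (T := C)).symm.injective
  refine WithConv.ofConv_injective ?_
  apply (MonoidAlgebra.lift k C (Multiplicative ℤ)).symm.injective
  ext
  exact h

theorem val_eq {H : Over (Spec (CommRingCat.of k))} [GrpObj H] {C : Type u} [CommRing C] [HopfAlgebra k C]
    (e : specGrp k C ≅ Grp.mk H) (w : Grp.mk H ⟶ Grp.mk (Red.DS (Spec (CommRingCat.of k)) ℤ))
    (β : MonoidAlgebra k (Multiplicative ℤ) →ₐc[k] C) (h : specHom β = e.hom ≫ w ≫ (dsIso k ℤ).hom) :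
    val e w.hom.hom = β (MonoidAlgebra.single (Multiplicative.ofAdd (1 : ℤ)) 1) := by
  have h1 : Spec.mapMulEquiv (R := k) (toConv (β : MonoidAlgebra k (Multiplicative ℤ) →ₐ[k] C)) =
      FixedSmooth.grpEquiv (dsIso k ℤ) _ (e.hom.hom.hom ≫ w.hom.hom) := by
    show (specHom β).hom.hom = (e.hom.hom.hom ≫ w.hom.hom) ≫ (dsIso k ℤ).hom.hom.hom
    rw [h, Category.assoc]
    rfl
  show ((Spec.mapMulEquiv (R := k) (S := MonoidAlgebra k (Multiplicative ℤ)) (T := C)).symm
      (FixedSmooth.grpEquiv (dsIso k ℤ) _ (e.hom.hom.hom ≫ w.hom.hom))).ofConv _ = _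
  rw [← h1, MulEquiv.symm_apply_apply]
  rfl

/-- The bialgebra homomorphism of a group-like element. -/
theorem exists_gen {A : Type u} [CommRing A] [HopfAlgebra k A] {ψ : A} (hψ : IsGroupLikeElem k ψ) :
    ∃ β : MonoidAlgebra k (Multiplicative ℤ) →ₐc[k] A,
      β (MonoidAlgebra.single (Multiplicative.ofAdd (1 : ℤ)) 1) = ψ := by
  let f : Multiplicative ℤ →* GroupLike k A := zpowersHom _ ⟨ψ, hψ⟩
  let F : Multiplicative ℤ →* A :=
    { toFun := fun z => (f z).val, map_one' := by simp, map_mul' := fun a b => by simp }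
  refine ⟨BialgHom.ofAlgHom (MonoidAlgebra.lift k A (Multiplicative ℤ) F) ?_ ?_, ?_⟩
  · refine MonoidAlgebra.algHom_ext (fun z => ?_) ?_ <;> [skip; ext]
    simpa [F] using (f z).isGroupLikeElem_val.counit_eq_one
  · refine MonoidAlgebra.algHom_ext (fun z => ?_) ?_ <;> [skip; ext]
    simpa [F, MonoidAlgebra.comul_single] using ((f z).isGroupLikeElem_val.comul_eq_tmul_self).symm
  · simp [F, f]

variable {H : Over (Spec (CommRingCat.of k))} [GrpObj H] [IsCommMonObj H]

/-- The underlying map of a character. -/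
def charMor (φ : CGrpSh.pts Scheme.fppfPrecoverage H ⟶ CGrpSh2.Gm Scheme.fppfPrecoverage (Spec (CommRingCat.of k))) :
    H ⟶ Red.Gm (Spec (CommRingCat.of k)) :=
  (φ.hom.app (op H) (ULift.up (Additive.ofMul (𝟙 H)))).down.toMul

theorem charMor_ptsMap (u : H ⟶ Red.Gm (Spec (CommRingCat.of k))) [IsMonHom u] :
    charMor (CGrpSh.ptsMap Scheme.fppfPrecoverage u) = u :=
  Category.id_comp u

theorem charMor_injective : Function.Injective (charMor (H := H)) := by
  intro a b h
  obtain ⟨u, _, rfl⟩ := S13470.exists_ptsMap a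
  obtain ⟨v, _, rfl⟩ := S13470.exists_ptsMap b
  rw [charMor_ptsMap, charMor_ptsMap] at h
  subst h
  rfl

theorem charMor_add (φ ψ : CGrpSh.pts Scheme.fppfPrecoverage H ⟶
      CGrpSh2.Gm Scheme.fppfPrecoverage (Spec (CommRingCat.of k))) :
    charMor (φ + ψ) = charMor φ * charMor ψ :=
  rfl

end aux

open CategoryTheory AlgebraicGeometry MonObj in
/-- Let k be a field and i : H → G a homomorphism of affine commutative k-group schemes of finite type
which is a closed immersion. Then the restriction map Ĝ(k) → Ĥ(k) on characters defined over k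
(morphisms of abelian sheaves on the big fppf site of Spec k from the sheaf of points to the
multiplicative group, restricted along i) has finite cokernel: its image is a subgroup of finite
index. -/
theorem result (k : Type u) [Field k]
    (H G : Over (Spec (CommRingCat.of k))) [GrpObj H] [IsCommMonObj H] [GrpObj G] [IsCommMonObj G]
    [IsAffine H.left] [LocallyOfFiniteType H.hom] [IsAffine G.left] [LocallyOfFiniteType G.hom]
    (i : H ⟶ G) [IsMonHom i] [IsClosedImmersion i.left] :
    (Preadditive.leftComp (CGrpSh2.Gm Scheme.fppfPrecoverage (Spec (CommRingCat.of k)))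
      (CGrpSh.ptsMap Scheme.fppfPrecoverage i)).range.FiniteIndex := by
  obtain ⟨A, _, _, ⟨eG⟩⟩ := TorusField.exists_hopf k G
  obtain ⟨C, _, _, ⟨eH⟩⟩ := TorusField.exists_hopf k H
  haveI := S13470.isCocomm eG
  haveI : Algebra.FiniteType k C := by
    let e' : (TorusField.specGrp k C).X ≅ H := (Grp.forget _).mapIso eH
    have h1 : LocallyOfFiniteType (TorusField.specGrp k C).X.hom := by
      rw [← Over.w e'.hom]
      infer_instance
    have h2 : RingHom.FiniteType (CommRingCat.ofHom (algebraMap k C)).hom :=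
      (HasRingHomProperty.Spec_iff (P := @LocallyOfFiniteType)).1 h1
    rw [CommRingCat.hom_ofHom] at h2
    exact RingHom.finiteType_algebraMap.1 h2
  let iG : Grp.mk H ⟶ Grp.mk G := Grp.homMk i
  obtain ⟨π, hπ⟩ := S13470.exists_specHom (eH.hom ≫ iG ≫ eG.inv)
  have hsurj : Function.Surjective π := S13470.surjective_of_specHom π (by
    haveI : IsIso eH.hom.hom.hom.left := inferInstance
    haveI : IsIso eG.inv.hom.hom.left := inferInstance
    rw [hπ]
    show IsClosedImmersion (eH.hom.hom.hom.left ≫ i.left ≫ eG.inv.hom.hom.left)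
    infer_instance)
  let d := TorusField.dsIso k ℤ
  have hgl : ∀ φ, IsGroupLikeElem k (val eH (charMor (H := H) φ)) := fun φ => by
    obtain ⟨u, _, rfl⟩ := S13470.exists_ptsMap φ
    rw [charMor_ptsMap]
    obtain ⟨β, hβ⟩ := S13470.exists_specHom (eH.hom ≫ (Grp.homMk u : Grp.mk H ⟶ _) ≫ d.hom)
    show IsGroupLikeElem k (val eH u)
    rw [show val eH u = _ from val_eq eH (Grp.homMk u) β hβ]
    exact IsGroupLikeElem.map β ⟨by simp, by simp [MonoidAlgebra.comul_single]⟩
  -- the characters form a finitely generated group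
  let j : (CGrpSh.pts Scheme.fppfPrecoverage H ⟶ CGrpSh2.Gm Scheme.fppfPrecoverage (Spec (CommRingCat.of k))) →+
      Additive (GroupLike k C) :=
    AddMonoidHom.mk' (fun φ => Additive.ofMul ⟨val eH (charMor φ), hgl φ⟩) fun a b => by
      refine congrArg Additive.ofMul (GroupLike.val_injective ?_)
      show val eH (charMor (a + b)) = val eH (charMor a) * val eH (charMor b)
      rw [charMor_add, map_mul]
  have hj : Function.Injective j := fun a b h => charMor_injective
    (val_injective eH (congrArg GroupLike.val (Additive.ofMul.injective h)))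
  haveI : Group.FG (GroupLike k C) := CharFinLib.fg_groupLike
  haveI : Module.Finite ℤ (Additive (GroupLike k C)) := Module.Finite.iff_addGroup_fg.2 inferInstance
  haveI : Module.Finite ℤ (CGrpSh.pts Scheme.fppfPrecoverage H ⟶
      CGrpSh2.Gm Scheme.fppfPrecoverage (Spec (CommRingCat.of k))) :=
    Module.Finite.of_injective j.toIntLinearMap hj
  let R := (Preadditive.leftComp (CGrpSh2.Gm Scheme.fppfPrecoverage (Spec (CommRingCat.of k)))
      (CGrpSh.ptsMap Scheme.fppfPrecoverage i)).range
  have htor : AddMonoid.IsTorsion (_ ⧸ R) := fun q => by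
    obtain ⟨φ, rfl⟩ := QuotientAddGroup.mk_surjective q
    obtain ⟨n, ψ, hn, hψ, hπψ⟩ := CharFinLib.exists_pow_lift π hsurj (hgl φ)
    obtain ⟨β', hβ'⟩ := exists_gen hψ
    let v := eG.inv ≫ TorusField.specHom β' ≫ d.inv
    haveI : IsMonHom v.hom.hom := v.hom.isMonHom_hom
    refine isOfFinAddOrder_iff_nsmul_eq_zero.2 ⟨n, hn, ?_⟩
    rw [← QuotientAddGroup.mk_nsmul, QuotientAddGroup.eq_zero_iff]
    refine ⟨CGrpSh.ptsMap Scheme.fppfPrecoverage v.hom.hom, hj ?_⟩
    refine Eq.trans ?_ (map_nsmul j n φ).symm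
    refine congrArg Additive.ofMul (GroupLike.val_injective ?_)
    show val eH (charMor (CGrpSh.ptsMap Scheme.fppfPrecoverage i ≫
      CGrpSh.ptsMap Scheme.fppfPrecoverage v.hom.hom)) = (val eH (charMor φ)) ^ n
    rw [← CGrpSh.ptsMap_comp, charMor_ptsMap, ← hπψ, ← hβ']
    show val eH (iG ≫ v).hom.hom = _
    refine (val_eq eH (iG ≫ v) (π.comp β') ?_).trans rfl
    rw [S13470.specHom_comp π β', hπ]
    simp [v, d]
  haveI : AddGroup.FG (CGrpSh.pts Scheme.fppfPrecoverage H ⟶
      CGrpSh2.Gm Scheme.fppfPrecoverage (Spec (CommRingCat.of k))) := Module.Finite.iff_addGroup_fg.1 inferInstance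
  haveI : AddGroup.FG (_ ⧸ R) := AddGroup.fg_of_surjective (f := QuotientAddGroup.mk' R) (QuotientAddGroup.mk'_surjective R)
  haveI : Finite (_ ⧸ R) := AddCommGroup.finite_of_fg_torsion _ htor
  exact AddSubgroup.finiteIndex_of_finite_quotient

end Groth.Agent.S13469
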