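import Groth.Statements.S1348
import Groth.Agent.RegSeqSlice.Scheme

set_option autoImplicit false
universe u
open FlatMor

namespace Groth.Agent.S1348

open AlgebraicGeometry CategoryTheory Limits in
/-- Let f be locally of finite presentation and flat at a point x with image s, and let h be an element
of the maximal ideal of the local ring at x whose image in the local ring of the fibre (the local
ring at x modulo the ideal generated by the maximal ideal at s) is a nonzerodivisor. Then there is
an affine open neighbourhood U of x and a nonzerodivisor of its coordinate ring with germ h at x (so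
its zero locus is an effective Cartier divisor of U through x) whose zero scheme is flat and locally
of finite presentation over the base. -/
theorem result {X S : Scheme.{u}} (f : X ⟶ S) [LocallyOfFinitePresentation f] (x : X)
    (hflat : (f.stalkMap x).hom.Flat) (h : X.presheaf.stalk x) (hm : h ∈ IsLocalRing.maximalIdeal (X.presheaf.stalk x))
    (hreg : Ideal.Quotient.mk (Ideal.map (f.stalkMap x).hom (IsLocalRing.maximalIdeal (S.presheaf.stalk (f x)))) h ∈
      nonZeroDivisors (X.presheaf.stalk x ⧸ Ideal.map (f.stalkMap x).hom (IsLocalRing.maximalIdeal (S.presheaf.stalk (f x))))) :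
    ∃ (U : X.Opens) (hU : IsAffineOpen U) (hx : x ∈ U) (h' : Γ(X, U)), X.presheaf.germ U x hx h' = h ∧ h' ∈ nonZeroDivisors Γ(X, U) ∧
      Flat (Spec.map (CommRingCat.ofHom (Ideal.Quotient.mk (Ideal.span {h'}))) ≫ hU.fromSpec ≫ f) ∧
      LocallyOfFinitePresentation (Spec.map (CommRingCat.ofHom (Ideal.Quotient.mk (Ideal.span {h'}))) ≫ hU.fromSpec ≫ f) := by
  obtain ⟨U, hU, hx, b, hb, hwr, -, -, h1, h2, -⟩ := Groth.Agent.RegSeqSlice.exists_regular_slice f x hflat (fun _ : Fin 1 => h) (fun _ => hm) (by
    simp only [List.ofFn_succ, List.ofFn_zero]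
    rw [RingTheory.Sequence.isWeaklyRegular_singleton_iff]
    intro a c hac
    simp only [smul_eq_mul] at hac
    exact (isRegular_iff_mem_nonZeroDivisors.2 hreg).left hac)
  have hI : Ideal.ofList (List.ofFn b) = Ideal.span {b 0} := by
    simp [List.ofFn_succ, Ideal.ofList]
  rw [hI] at h1 h2
  refine ⟨U, hU, hx, b 0, hb 0, ?_, h1, h2⟩
  simp only [List.ofFn_succ, List.ofFn_zero, RingTheory.Sequence.isWeaklyRegular_singleton_iff] at hwr
  exact mem_nonZeroDivisors_iff_right.2 fun z hz => hwr (by simp only [smul_eq_mul, mul_zero]; rw [mul_comm, hz])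

end Groth.Agent.S1348
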