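import Groth.Statements.S1349
import Groth.Agent.CMSliceLib.Choose

set_option autoImplicit false
universe u
open FlatMor

namespace Groth.Agent.S1349

open AlgebraicGeometry CategoryTheory Limits in
/-- Let f be locally of finite presentation and Cohen–Macaulay at a point x which is closed in its
fibre. Then there are an open neighbourhood V of x and a regular closed immersion i into V whose
image contains x, such that the composite Z ⟶ V ⟶ X ⟶ S is flat, locally of finite presentation and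
locally quasi-finite, and x is the only point of (the image of) Z lying over the image of x. -/
theorem result {X S : Scheme.{u}} (f : X ⟶ S) [LocallyOfFinitePresentation f] (x : X)
    (hcm : MoreMor.IsCMAt f x) (hcl : IsClosed ({f.asFiber x} : Set ↑(f.fiber (f x)))) :
    ∃ (V : X.Opens) (Z : Scheme.{u}) (i : Z ⟶ (V : Scheme.{u})), Mor2.IsRegularClosedImmersion i ∧ x ∈ Set.range ⇑(i ≫ V.ι) ∧
      Flat (i ≫ V.ι ≫ f) ∧ LocallyOfFinitePresentation (i ≫ V.ι ≫ f) ∧ LocallyQuasiFinite (i ≫ V.ι ≫ f) ∧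
      ∀ z : Z, f (V.ι (i z)) = f x → V.ι (i z) = x := by
  haveI : LocallyOfFiniteType f := inferInstance
  obtain ⟨n, hn⟩ := Groth.Agent.CMFlatLib.exists_nat_fibreDimAt f x
  obtain ⟨c, φ, g, hg, hP⟩ := Groth.Agent.CMFlatLib.exists_chart_flat f x n hcm hn
  haveI := Groth.Agent.CMFlatLib.chart_finitePresentation c
  have hmax : c.Q.asIdeal.IsMaximal := by
    obtain ⟨G, hG, hGQ⟩ := c.exists_fibre_embedding
    refine (PrimeSpectrum.isClosed_singleton_iff_isMaximal c.Q).1 ?_
    have h : G ⁻¹' {f.asFiber x} = ({c.Q} : Set _) := by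
      rw [← hGQ]
      exact Set.eq_singleton_iff_unique_mem.2 ⟨rfl, fun z hz => hG.injective hz⟩
    exact h ▸ hcl.preimage hG.continuous
  obtain ⟨g', rs, hg', hrs, hreg, hflat, hqf, honly⟩ :=
    Groth.Agent.CMSliceLib.exists_slice c.p.asIdeal c.q.asIdeal c.Q c.comap_Q hmax φ g hg hP
  let B₂ := Localization.Away g'
  let rs₂ : List B₂ := rs.map (algebraMap c.B B₂)
  let D := B₂ ⧸ Ideal.ofList rs₂
  haveI : Algebra.FinitePresentation c.A D := by
    haveI : Algebra.FinitePresentation c.B B₂ := IsLocalization.Away.finitePresentation g'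
    haveI : Algebra.FinitePresentation c.A B₂ := Algebra.FinitePresentation.trans c.A c.B B₂
    refine Algebra.FinitePresentation.quotient (Submodule.fg_def.2 ⟨{z | z ∈ rs₂}, List.finite_toSet _, rfl⟩)
  let a : Spec (CommRingCat.of B₂) ⟶ Spec (CommRingCat.of c.B) := Spec.map (CommRingCat.ofHom (algebraMap c.B B₂))
  haveI : IsOpenImmersion a := IsOpenImmersion.of_isLocalization g'
  let V := (a ≫ c.j).opensRange
  let e := (a ≫ c.j).isoOpensRange
  haveI : IsAffine (V : Scheme.{u}) := IsAffine.of_isIso e.inv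
  let m : Spec (CommRingCat.of D) ⟶ Spec (CommRingCat.of B₂) := Spec.map (CommRingCat.ofHom (Ideal.Quotient.mk (Ideal.ofList rs₂)))
  haveI : IsClosedImmersion m := IsClosedImmersion.spec_of_surjective _ Ideal.Quotient.mk_surjective
  have hiV : (m ≫ e.hom) ≫ V.ι = m ≫ a ≫ c.j := by
    rw [Category.assoc, Scheme.Hom.isoOpensRange_hom_ι]
  have hcomp : (m ≫ e.hom) ≫ V.ι ≫ f = Spec.map (CommRingCat.ofHom (algebraMap c.A D)) ≫ c.i := by
    rw [← Category.assoc, hiV, Category.assoc, Category.assoc, c.w]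
    simp only [m, a, ← Spec.map_comp_assoc, ← CommRingCat.ofHom_comp]
  haveI : Flat (Spec.map (CommRingCat.ofHom (algebraMap c.A D))) :=
    HasRingHomProperty.Spec_iff.2 (RingHom.flat_algebraMap_iff.2 hflat)
  haveI : LocallyQuasiFinite (Spec.map (CommRingCat.ofHom (algebraMap c.A D))) :=
    HasRingHomProperty.Spec_iff.2 (RingHom.quasiFinite_algebraMap.2 hqf)
  haveI : LocallyOfFinitePresentation (Spec.map (CommRingCat.ofHom (algebraMap c.A D))) :=
    HasRingHomProperty.Spec_iff.2 (RingHom.finitePresentation_algebraMap.2 ‹_›)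
  have hpt : ∀ z : Spec (CommRingCat.of D), V.ι ((m ≫ e.hom) z) = c.j (a (m z)) := fun z => by
    rw [← Scheme.Hom.comp_apply, hiV]
    rfl
  obtain ⟨hq1, hq2⟩ := Groth.Agent.CMSliceLib.under_away g' hg'
  have hJ : Ideal.ofList rs₂ ≤ c.q.asIdeal.map (algebraMap c.B B₂) := Ideal.span_le.2 fun z hz => by
    obtain ⟨r, hr, rfl⟩ := List.mem_map.1 hz
    exact Ideal.mem_map_of_mem _ (hrs r hr)
  let z₀ : Spec (CommRingCat.of D) := (⟨(c.q.asIdeal.map (algebraMap c.B B₂)).map (Ideal.Quotient.mk _),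
    Ideal.map_isPrime_of_surjective Ideal.Quotient.mk_surjective (by rwa [Ideal.mk_ker])⟩ : PrimeSpectrum D)
  have hz₀ : a (m z₀) = c.q := PrimeSpectrum.ext (by
    show Ideal.comap (algebraMap c.B B₂) (Ideal.comap (Ideal.Quotient.mk (Ideal.ofList rs₂))
      ((c.q.asIdeal.map (algebraMap c.B B₂)).map (Ideal.Quotient.mk (Ideal.ofList rs₂)))) = c.q.asIdeal
    rw [Ideal.comap_map_of_surjective _ Ideal.Quotient.mk_surjective, ← RingHom.ker_eq_comap_bot, Ideal.mk_ker,
      sup_eq_left.2 hJ]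
    exact hq2)
  refine ⟨V, Spec (CommRingCat.of D), m ≫ e.hom, ⟨inferInstance, fun z => ?_⟩, ⟨z₀, ?_⟩, ?_, ?_, ?_, fun z hz => ?_⟩
  · haveI : IsIso e.hom.appTop := inferInstanceAs (IsIso (e.hom.app ⊤))
    let E : Γ((V : Scheme.{u}), ⊤) ≃+* B₂ :=
      (asIso e.hom.appTop ≪≫ Scheme.ΓSpecIso (CommRingCat.of B₂)).commRingCatIsoToRingEquiv
    refine ⟨⊤, isAffineOpen_top _, trivial, rs₂.map E.symm, ?_, ?_⟩
    · have hne : (⊤ : Submodule B₂ B₂) ≠ Ideal.ofList rs₂ • (⊤ : Submodule B₂ B₂) := by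
        rw [smul_eq_mul, Ideal.mul_top]
        exact fun h => hq1.ne_top (top_le_iff.1 (h.le.trans hJ))
      refine (AddEquiv.isRegular_congr (e := E.symm.toAddEquiv) ?_).1 ⟨hreg, hne⟩
      exact List.forall₂_map_right_iff.2 (List.forall₂_same.2 fun r _ y => map_mul E.symm r y)
    · haveI : QuasiCompact (m ≫ e.hom) := inferInstance
      rw [Scheme.Hom.ker_apply]
      refine Eq.trans ?_ (Ideal.map_ofList E.symm.toRingHom rs₂)
      refine Eq.trans ?_ (Ideal.map_symm (f := E)).symm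
      ext y
      rw [Ideal.mem_comap]
      refine Iff.trans ?_ Ideal.Quotient.eq_zero_iff_mem
      have hn := congrArg (fun t => t (e.hom.appTop y)) (Scheme.ΓSpecIso_naturality (CommRingCat.ofHom (Ideal.Quotient.mk (Ideal.ofList rs₂))))
      simp only [CommRingCat.comp_apply] at hn
      rw [RingHom.mem_ker]
      show m.appTop (e.hom.appTop y) = 0 ↔ Ideal.Quotient.mk (Ideal.ofList rs₂) ((Scheme.ΓSpecIso (CommRingCat.of B₂)).hom (e.hom.appTop y)) = 0
      rw [← map_eq_zero_iff _ (ConcreteCategory.bijective_of_isIso (Scheme.ΓSpecIso (CommRingCat.of D)).hom).1]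
      exact Eq.congr_left hn
  · rw [Scheme.Hom.comp_apply, hpt, hz₀, c.hq]
  · rw [hcomp]; infer_instance
  · rw [hcomp]; infer_instance
  · rw [hcomp]; infer_instance
  · let P : PrimeSpectrum c.B := a (m z)
    have hP' : P.asIdeal.under c.A = c.p.asIdeal := by
      have h1 : c.i (PrimeSpectrum.comap (algebraMap c.A c.B) P) = c.i c.p := by
        rw [← c.apply_j, c.hp]
        exact (congrArg f (hpt z)).symm.trans hz
      exact congrArg PrimeSpectrum.asIdeal (c.i.isOpenEmbedding.injective h1)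
    have hgP : g' ∉ P.asIdeal := fun h => (m z).isPrime.ne_top
      ((m z).asIdeal.eq_top_of_isUnit_mem h (IsLocalization.Away.algebraMap_isUnit g'))
    have hrP : ∀ r ∈ rs, r ∈ P.asIdeal := fun r hr => by
      show Ideal.Quotient.mk (Ideal.ofList rs₂) (algebraMap c.B B₂ r) ∈ z.asIdeal
      rw [(Ideal.Quotient.eq_zero_iff_mem (I := Ideal.ofList rs₂)).2 (Ideal.subset_span (List.mem_map.2 ⟨r, hr, rfl⟩ : algebraMap c.B B₂ r ∈ rs₂))]
      exact zero_mem _
    rw [hpt, show a (m z) = c.q from PrimeSpectrum.ext (honly P hgP hrP hP'), c.hq]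

end Groth.Agent.S1349
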