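import Groth.Statements.S13495
import Groth.Agent.DerCompLib.OverScheme
import Groth.Agent.DCohMore.RHomCoh

set_option autoImplicit false
set_option backward.isDefEq.respectTransparency false
set_option backward.isDefEq.respectTransparency.types false
set_option maxHeartbeats 8000000
set_option linter.style.haveILetI false
universe u
open CategoryTheory CategoryTheory.Limits Opposite TopologicalSpace AlgebraicGeometry
attribute [local instance] HasDerivedCategory.standard
open DerComp

namespace Groth.Agent.S13495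

open CategoryTheory.Pretriangulated Groth.Agent.DerCompLib

/-- Let X be a locally Noetherian scheme, I a quasi-coherent sheaf of ideals of O_X and F a coherent
O_X-module; then H^p(U, F^) = 0 for all p ≠ 0 and all affine opens U of X, with F^ denoting the
derived I-completion of F. Quasi-coherence of I is stated as: on every affine open U and every basic
open D(g) inside it, I(D(g)) is the ideal generated by the restriction of I(U). H^p(U, K) for K in
D(O_X) is the group of morphisms from the extension by zero of O_U, placed in degree 0, to K[p]. -/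
theorem result (X : Scheme.{u}) [IsLocallyNoetherian X] (𝓘 : DerComp.IdealSh X.sheaf) (hqc : ∀ (U : X.affineOpens) (g : Γ(X, ↑U)), 𝓘.ideal (X.basicOpen g) = Ideal.map (X.presheaf.map (homOfLE (X.basicOpen_le g)).op).hom (𝓘.ideal ↑U)) [DerComp.HasDerCompletion X.sheaf 𝓘] (F : X.Modules) (hF : Coh.IsCoh F) (U : X.Opens) (hU : IsAffineOpen U) (p : ℤ) (hp : p ≠ 0) : Subsingleton (SiteCmp.inD X.sheaf (ModSite.freeOn X.sheaf U) ⟶ ((DerComp.derCompletion X.sheaf 𝓘).obj (SiteCmp.inD X.sheaf F)).obj⟦p⟧) := by
  haveI : IsAffine (U : Scheme.{u}) := hU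
  obtain ⟨r, a, haI, hgen⟩ := exists_isGenBy_over U 𝓘 hqc hU
  obtain ⟨N, α, d, hT⟩ := distinguished_cocone_triangle₁ (DerComp.toDerCompletion 𝓘 (SiteCmp.inD X.sheaf F))
  have hN : LOrth (genList (O := X.sheaf) U a) ((DerCompLib.restrD X.sheaf U).obj N) :=
    (leftOrth_fibre X.sheaf hT).lOrth_restrD a hgen
  obtain ⟨hE1, hE2, hE3⟩ := mapDerived_ofEquivalence (overE U)
  let s : Fin r → DerComp.GSec (X.sheaf.over U) := fun i => DerComp.GSec.ofSect X.sheaf U (a i)
  have hN' := (hN.mono (l' := (List.finRange r).map s) (fun x hx => by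
    obtain ⟨i, rfl⟩ := List.mem_ofFn.1 hx
    exact List.mem_map.2 ⟨i, List.mem_finRange i, rfl⟩)).map (overE U).mapDerivedCategory s (fun i => toU U (s i))
      fun i Y => mapDerived_smul (overE U) (toU U) (smulCompat_overE U) (s i) Y
  have hK' : ∀ i, Compl (toU U (s i)) ((overE U).mapDerivedCategory.obj ((DerCompLib.restrD X.sheaf U).obj
      ((DerComp.derCompletion X.sheaf 𝓘).obj (SiteCmp.inD X.sheaf F)).obj)) := fun i =>
    Compl.mapDerived (overE U) (smulCompat_overE U)
      (compl_restr X.sheaf U (haI i) ((DerComp.derCompletion X.sheaf 𝓘).obj (SiteCmp.inD X.sheaf F)).property)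
  let G : ModSite.Mod (U : Scheme.{u}).sheaf := (overE U).obj ((ModSite.restr X.sheaf U).obj F)
  have hG : Coh.IsCoh (X := (U : Scheme.{u})) G :=
    DCohLib.isCoh_iso ((Scheme.Modules.overFunctorEquiv U).app F).symm (DCohMore.isCoh_restrict' hF U)
  let e : (overE U).mapDerivedCategory.obj ((DerCompLib.restrD X.sheaf U).obj (SiteCmp.inD X.sheaf F)) ≅
      SiteCmp.inD (U : Scheme.{u}).sheaf G :=
    (overE U).mapDerivedCategory.mapIso (((ModSite.restr X.sheaf U).mapDerivedCategorySingleFunctor 0).app F) ≪≫
      ((overE U).mapDerivedCategorySingleFunctor 0).app ((ModSite.restr X.sheaf U).obj F)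
  have hT' := (overE U).mapDerivedCategory.map_distinguished _
    ((DerCompLib.restrD X.sheaf U).map_distinguished _ hT)
  have hsub := subsingleton_completion_single (U : Scheme.{u}) G hG (fun i => toU U (s i)) e hT' hN' hK' hp
  obtain ⟨e₁⟩ := exists_equiv_of_adj (ModSite.extZeroAdj X.sheaf U) (ModSite.unit (X.sheaf.over U))
    ((DerComp.derCompletion X.sheaf 𝓘).obj (SiteCmp.inD X.sheaf F)).obj p
  obtain ⟨e₂⟩ := exists_equiv_of_fullyFaithful (overE U) (nonempty_overE_unit U).some
    ((DerCompLib.restrD X.sheaf U).obj ((DerComp.derCompletion X.sheaf 𝓘).obj (SiteCmp.inD X.sheaf F)).obj) p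
  exact @Equiv.subsingleton _ _ (e₁.trans e₂) hsub

end Groth.Agent.S13495
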