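import Groth.Statements.S13496
import Groth.Agent.DerCompLib.AffGlobal
import Groth.Agent.DerCompLib.CplTransfer

set_option autoImplicit false
set_option backward.isDefEq.respectTransparency false
set_option backward.isDefEq.respectTransparency.types false
set_option maxHeartbeats 8000000
set_option linter.style.haveILetI false
universe u
open CategoryTheory CategoryTheory.Limits Opposite TopologicalSpace AlgebraicGeometry
attribute [local instance] HasDerivedCategory.standard
open DerComp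

namespace Groth.Agent.S13496

open CategoryTheory.Pretriangulated Groth.Agent.DerCompLib

/-- Affine case U = X: let X be an affine Noetherian scheme, A its ring of global sections, I an ideal
of A and J = I O_X the (quasi-coherent) sheaf of ideals generated by the elements of I; take a
pseudo-coherent K in D(O_X), and write K^ for its derived J-completion. Then for every p, H^p(X, K^)
= lim_n H^p(X, K)/I^n H^p(X, K), the I-adic completion of H^p(X, K): precisely, H^p(X, K^) is
I-adically complete and the map H^p(X, K) -> H^p(X, K^) induced by K -> K^ identifies H^p(X, K)/I^n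
with H^p(X, K^)/I^n for every n. Here H^p(X, -) is the A-module of morphisms from O_X in degree 0 to
the p-th shift. (The published statement is for an affine open U of a locally Noetherian scheme;
restricting to U reduces it to this case since derived completion commutes with restriction to
opens; its second equality, with the derived completion of the module H^p(X, K), is not stated.) -/
theorem result (X : Scheme.{u}) [IsAffine X] [IsNoetherian X] (I : Ideal (DerComp.GSec X.sheaf)) (𝓘 : DerComp.IdealSh X.sheaf) (h𝓘 : 𝓘.IsGenBy (fun a : I => (a : DerComp.GSec X.sheaf))) [DerComp.HasDerCompletion X.sheaf 𝓘] (K : DerivedCategory (ModSite.Mod X.sheaf)) (hK : ∀ m : ℤ, DCoh.IsPseudoCoherentD (X := X) m K) (p : ℤ) : IsAdicComplete I (SiteCmp.inD X.sheaf (ModSite.unit X.sheaf) ⟶ ((DerComp.derCompletion X.sheaf 𝓘).obj K).obj⟦p⟧) ∧ ∀ n : ℕ, (∀ y : (SiteCmp.inD X.sheaf (ModSite.unit X.sheaf) ⟶ ((DerComp.derCompletion X.sheaf 𝓘).obj K).obj⟦p⟧), ∃ x : (SiteCmp.inD X.sheaf (ModSite.unit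 X.sheaf) ⟶ K⟦p⟧), (Linear.rightComp (DerComp.GSec X.sheaf) (SiteCmp.inD X.sheaf (ModSite.unit X.sheaf)) ((shiftFunctor (DerivedCategory (ModSite.Mod X.sheaf)) p).map (DerComp.toDerCompletion 𝓘 K))) x - y ∈ (I ^ n • ⊤ : Submodule (DerComp.GSec X.sheaf) (SiteCmp.inD X.sheaf (ModSite.unit X.sheaf) ⟶ ((DerComp.derCompletion X.sheaf 𝓘).obj K).obj⟦p⟧))) ∧ (∀ x : (SiteCmp.inD X.sheaf (ModSite.unit X.sheaf) ⟶ K⟦p⟧), (Linear.rightComp (DerComp.GSec X.sheaf) (SiteCmp.inD X.sheaf (ModSite.unit X.sheaf)) ((shiftFunctor (DerivedCategory (ModSite.Mod X.sheaf)) p).map (DerComp.toDerCompletion 𝓘 K))) x ∈ (I ^ n • ⊤ : Submodule (DerComp.GSec X.sheaf) (SiteCmp.inD X.sheaf (ModSite.unit X.sheaf) ⟶ ((DerComp.derCompletion X.sheaf 𝓘).obj K).obj⟦p⟧)) → x ∈ (I ^ n • ⊤ : Submodule (DerComp.GSec X.sheaf) (SiteCmp.inD X.sheaf (ModSite.unit X.sheaf) ⟶ K⟦p⟧))) := by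
  haveI : IsNoetherianRing Γ(X, ⊤) := IsLocallyNoetherian.component_noetherian ⟨⊤, isAffineOpen_top X⟩
  have hσ := (secOf_bijective X).2
  let J : Ideal Γ(X, ⊤) := I.comap (secOf X)
  have hJ : J.map (secOf X) = I := Ideal.map_comap_of_surjective _ hσ I
  obtain ⟨r, g, hg⟩ := Submodule.fg_iff_exists_fin_generating_family.1 (IsNoetherian.noetherian J)
  have hgJ : ∀ i, g i ∈ J := fun i => hg ▸ Submodule.subset_span ⟨i, rfl⟩
  let L : List (Fin r) := List.finRange r
  have hL : Ideal.span {x | x ∈ L.map g} = J := by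
    rw [← hg]
    refine congrArg Ideal.span (Set.ext fun x => ?_)
    simp [L]
  have hgen : 𝓘.IsGenBy fun i => secOf X (g i) := by
    refine ⟨fun i U => h𝓘.1 ⟨_, hgJ i⟩ U, fun 𝓘' h' => h𝓘.2 𝓘' fun a U => ?_⟩
    let φ : Γ(X, ⊤) →+* Γ(X, U) := (X.presheaf.map (homOfLE (le_top : U ≤ ⊤)).op).hom
    have hle : J ≤ (𝓘'.ideal U).comap φ := by
      rw [← hg]
      refine Submodule.span_le.2 ?_
      rintro _ ⟨i, rfl⟩
      exact h' i U
    have h1 := hle (show (a : DerComp.GSec X.sheaf).1 ⊤ ∈ J by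
      show secOf X _ ∈ I
      rw [secOf_val]
      exact a.2)
    exact (congrArg (· ∈ 𝓘'.ideal U) ((a : DerComp.GSec X.sheaf).2 (homOfLE (le_top : U ≤ ⊤)))).mp h1
  let l : List (DerComp.GSec X.sheaf) := L.map fun i => secOf X (g i)
  have hmem : ∀ {s}, s ∈ l → ∃ i, secOf X (g i) = s := fun hs => by
    obtain ⟨i, -, rfl⟩ := List.mem_map.1 hs
    exact ⟨i, rfl⟩
  have hKc : ∀ s ∈ l, Compl s ((DerComp.derCompletion X.sheaf 𝓘).obj K).obj := fun s hs => by
    obtain ⟨i, rfl⟩ := hmem hs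
    exact (isDerComp_iff_compl X.sheaf _ 𝓘 hgen _).1 ((DerComp.derCompletion X.sheaf 𝓘).obj K).property i
  have hcoh : DCoh.IsCohD (X := X) K := TensorCohLib.isCohD_of_pc (X := X) K hK
  have hMe := exists_phiD_of_isCoh X K hcoh
  obtain ⟨M, hM, he⟩ := hMe
  obtain ⟨N, a, c, hTK⟩ := distinguished_cocone_triangle₁ (DerComp.toDerCompletion 𝓘 K)
  have hN : LOrth l N := fun Z hZ u => (leftOrth_fibre X.sheaf hTK) Z
    ((isDerComp_iff_compl X.sheaf _ 𝓘 hgen Z).2 fun i => hZ _ (List.mem_map.2 ⟨i, List.mem_finRange i, rfl⟩)) u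
  have hlI : ∀ s ∈ l, s ∈ I := fun s hs => by
    obtain ⟨i, rfl⟩ := hmem hs
    exact hgJ i
  obtain ⟨M', C, f, b, d, hT, hC, hcpl⟩ := exists_phiD_completion X J g L hL M hM
  rw [hJ] at hcpl
  exact isCplMap_of_completion hlI hT hC hcpl he.some hTK hN hKc p

end Groth.Agent.S13496
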