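import Groth.Statements.S13501
import Groth.Agent.FLCLib.Colim
import Groth.Agent.S0134
import Mathlib.CategoryTheory.Limits.Types.Colimits
-- import your own Groth.Agent.* helpers here

set_option autoImplicit false
set_option backward.isDefEq.respectTransparency false
universe u
open CategoryTheory CategoryTheory.Limits AlgebraicGeometry Opposite
open EtPBC

namespace Groth.Agent.S13501

/-- Let X be a quasi-compact and quasi-separated scheme and F a torsion abelian sheaf on X_et. If Hom(F,
-) commutes with filtered colimits (of shape any small filtered category in the universe of the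
sheaf category's morphisms), then F is constructible. This is the converse of the compactness of
constructible sheaves. -/
theorem result (X : Scheme.{u}) [CompactSpace X]
    [QuasiSeparatedSpace X] (F : EtCoh.Ab X) (hF : EtCoh.IsTorsion F)
    (hc : ∀ (J : Type (u + 1)) [SmallCategory J] [IsFiltered J],
      PreservesColimitsOfShape J (coyoneda.obj (op F))) :
    EtPBC.IsConstructible F := by
  obtain ⟨J, _, _, D, c, hcl, hD, ⟨e⟩⟩ := S0134.result X F hF
  haveI := hc J
  obtain ⟨j, s, hs⟩ := Types.jointly_surjective _ (isColimitOfPreserves (coyoneda.obj (op F)) hcl) e.inv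
  change F ⟶ D.obj j at s
  change s ≫ c.ι.app j = e.inv at hs
  let π : D.obj j ⟶ F := c.ι.app j ≫ e.hom
  have hsπ : s ≫ π = 𝟙 F := by rw [← Category.assoc, hs, e.inv_hom_id]
  let p : D.obj j ⟶ D.obj j := 𝟙 _ - π ≫ s
  have hp : s ≫ p = 0 := by
    rw [Preadditive.comp_sub, Category.comp_id, ← Category.assoc, hsπ, Category.id_comp, sub_self]
  refine FLCLib.isConstructible_of_iso ?_ (FLCLib.isConstructible_kernel_cokernel p (hD j) (hD j)).1
  refine ⟨kernel.ι p ≫ π, kernel.lift p s hp, ?_, ?_⟩
  · rw [← cancel_mono (kernel.ι p), Category.assoc, kernel.lift_ι, Category.id_comp, Category.assoc]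
    have h := kernel.condition p
    rw [Preadditive.comp_sub, Category.comp_id, sub_eq_zero] at h
    exact h.symm
  · rw [kernel.lift_ι_assoc, hsπ]

end Groth.Agent.S13501
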