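import Groth.Statements.S13516
import Groth.Agent.FibSiteLib.Map
import Groth.Agent.FibSiteLib.Pointed
import Groth.Agent.FibSiteLib.Summand
import Mathlib.CategoryTheory.Limits.Constructions.LimitsOfProductsAndEqualizers
import Mathlib.CategoryTheory.Limits.Preserves.Shapes.Pullbacks

set_option autoImplicit false
universe u
open CategoryTheory CategoryTheory.Limits Opposite Pseudofunctor.CoGrothendieck
open scoped CategoryTheory.Pseudofunctor.StrongTrans
open FibSite

namespace Groth.Agent.S13516

/-- Let `F` and `G` be fibred sites over a small category `𝒮` with small fibres and let `α : G ⟶ F` be a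
strong transformation of pseudofunctors, i.e. a cartesian functor `∫ᶜ G ⥤ ∫ᶜ F` over `𝒮`. If the
induced functor between the total categories is a morphism of sites from the total site of `F` to
the total site of `G` (continuous, with left exact inverse image on sheaves of sets), then `α` is a
morphism of fibred sites: for every `S` the fibre functor `α_S : G(S) ⥤ F(S)` is a morphism of sites
from `(F(S), J S)` to `(G(S), K S)`. (The published statement is for an arbitrary functor over `𝒮`
between the total categories; this row takes a cartesian one.) -/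
theorem result {𝒮 : Type u} [SmallCategory 𝒮]
    (F G : Pseudofunctor (LocallyDiscrete 𝒮ᵒᵖ) Cat.{u, u}) (J : FibSite.Topologies F) (K : FibSite.Topologies G)
    (hF : FibSite.IsFibSite F J) (hG : FibSite.IsFibSite G K) (α : G ⟶ F)
    (hα : ∃ (_ : (Pseudofunctor.CoGrothendieck.map α).IsContinuous
        (FibSite.totalTopology G K) (FibSite.totalTopology F J))
      (_ : ((Pseudofunctor.CoGrothendieck.map α).sheafPushforwardContinuous (Type u)
        (FibSite.totalTopology G K) (FibSite.totalTopology F J)).IsRightAdjoint),
      PreservesFiniteLimits ((Pseudofunctor.CoGrothendieck.map α).sheafPullback (Type u)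
        (FibSite.totalTopology G K) (FibSite.totalTopology F J))) (S : 𝒮) :
    ∃ (_ : (α.app ⟨op S⟩).toFunctor.IsContinuous (K S) (J S))
      (_ : ((α.app ⟨op S⟩).toFunctor.sheafPushforwardContinuous (Type u) (K S) (J S)).IsRightAdjoint),
      PreservesFiniteLimits ((α.app ⟨op S⟩).toFunctor.sheafPullback (Type u) (K S) (J S)) := by
  obtain ⟨hm, _, hLE⟩ := hα
  haveI hcF := Groth.Agent.FibSiteLib.isContinuous_ι J hF.isPreFibSite S
  haveI hcG := Groth.Agent.FibSiteLib.isContinuous_ι K hG.isPreFibSite S
  haveI := Groth.Agent.FibSiteLib.isCocontinuous_ι J hF.isPreFibSite S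
  haveI := Groth.Agent.FibSiteLib.isCocontinuous_ι K hG.isPreFibSite S
  haveI : ∀ f : S ⟶ S, (FibSite.invImage G f).IsContinuous (K S) (K S) := fun f => hG.isPreFibSite f
  let fα := Groth.Agent.FibSiteLib.fib α S
  haveI : (ι G S ⋙ Pseudofunctor.CoGrothendieck.map α).IsContinuous (K S) (FibSite.totalTopology F J) :=
    Functor.isContinuous_comp _ _ (K S) (FibSite.totalTopology G K) (FibSite.totalTopology F J)
  haveI hcomp : (fα ⋙ ι F S).IsContinuous (K S) (FibSite.totalTopology F J) :=
    Functor.isContinuous_of_iso (Groth.Agent.FibSiteLib.ιMapIso α S) _ _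
  have hcp : CoverPreserving (K S) (J S) fα := ⟨fun {U T} hT => by
    have h := (CoverPreserving.of_isContinuous (fα ⋙ ι F S) (K S) (FibSite.totalTopology F J)).cover_preserve hT
    rw [Sieve.functorPushforward_comp] at h
    have h' := (Groth.Agent.FibSiteLib.mem_totalTopology_iff J hF.isPreFibSite _).1 h
    rw [Groth.Agent.FibSiteLib.fibSieve_functorPushforward] at h'
    exact h'⟩
  haveI : fα.IsContinuous (K S) (J S) := Groth.Agent.FibSiteLib.isContinuous_of_pointed fα hcp fun H pt => by
    obtain ⟨s, r, hsr⟩ := Groth.Agent.FibSiteLib.exists_retract_ran S H.obj pt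
    refine Groth.Agent.FibSiteLib.isSheaf_of_retract (Functor.whiskerLeft fα.op s) (Functor.whiskerLeft fα.op r)
      (by rw [← Functor.whiskerLeft_comp, hsr]; rfl) ?_
    exact (fα ⋙ ι F S).op_comp_isSheaf_of_types (K S) (FibSite.totalTopology F J)
      ((FibSite.coextend F J (Type u) S).obj H)
  refine ⟨inferInstanceAs (fα.IsContinuous (K S) (J S)), inferInstance, ?_⟩
  let L := fα.sheafPullback (Type u) (K S) (J S)
  haveI : PreservesFiniteLimits (FibSite.restr F J (Type u) S) :=
    haveI : PreservesLimitsOfSize.{0, 0} (FibSite.restr F J (Type u) S) :=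
      ((ι F S).sheafAdjunctionContinuous (Type u) (J S) (FibSite.totalTopology F J)).rightAdjoint_preservesLimits
    inferInstance
  haveI : PreservesFiniteLimits (FibSite.restr G K (Type u) S) :=
    haveI : PreservesLimitsOfSize.{0, 0} (FibSite.restr G K (Type u) S) :=
      ((ι G S).sheafAdjunctionContinuous (Type u) (K S) (FibSite.totalTopology G K)).rightAdjoint_preservesLimits
    inferInstance
  haveI : PreservesFiniteLimits ((Pseudofunctor.CoGrothendieck.map α).sheafPullback (Type u)
      (FibSite.totalTopology G K) (FibSite.totalTopology F J) ⋙ FibSite.restr F J (Type u) S) :=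
    comp_preservesFiniteLimits _ _
  haveI hRL : PreservesFiniteLimits (FibSite.restr G K (Type u) S ⋙ L) :=
    preservesFiniteLimits_of_natIso (Groth.Agent.FibSiteLib.pullMapRestrIso α S J K)
  haveI : PreservesColimitsOfShape (Discrete WalkingPair) L :=
    haveI : PreservesColimitsOfSize.{0, 0} L :=
      (fα.sheafAdjunctionContinuous (Type u) (K S) (J S)).leftAdjoint_preservesColimits
    inferInstance
  haveI : PreservesLimitsOfShape WalkingCospan L := ⟨fun {Kd} => by
    haveI : PreservesLimit (cospan (Kd.map WalkingCospan.Hom.inl) (Kd.map WalkingCospan.Hom.inr)) L :=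
      preservesLimit_of_preserves_limit_cone (IsPullback.of_hasPullback _ _).isLimit
        ((isLimitMapConePullbackConeEquiv L pullback.condition).symm
          (Groth.Agent.FibSiteLib.isPullback_map_of_extend K L (IsPullback.of_hasPullback _ _)).isLimit)
    exact preservesLimit_of_iso_diagram L (diagramIsoCospan Kd).symm⟩
  haveI : PreservesLimitsOfShape (Discrete PEmpty.{1}) L := by
    let T := ⊤_ (FibSite.TotSh G K (Type u))
    haveI h₁ := hRL.preservesFiniteLimits (Discrete PEmpty.{1})
    haveI : PreservesLimit (Functor.empty.{0} (FibSite.TotSh G K (Type u))) (FibSite.restr G K (Type u) S ⋙ L) :=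
      h₁.preservesLimit
    haveI : PreservesLimit (Functor.empty.{0} (FibSite.TotSh G K (Type u))) (FibSite.restr G K (Type u) S) :=
      ((inferInstance : PreservesFiniteLimits (FibSite.restr G K (Type u) S)).preservesFiniteLimits
        (Discrete PEmpty.{1})).preservesLimit
    haveI : PreservesLimit (Functor.empty.{0} (Sheaf (K S) (Type u))) L :=
      preservesLimit_of_preserves_limit_cone
        (IsTerminal.isTerminalObj (FibSite.restr G K (Type u) S) T terminalIsTerminal)
        ((isLimitMapConeEmptyConeEquiv L _).symm
          (IsTerminal.isTerminalObj (FibSite.restr G K (Type u) S ⋙ L) T terminalIsTerminal))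
    exact preservesLimitsOfShape_pempty_of_preservesTerminal L
  exact preservesFiniteLimits_of_preservesTerminal_and_pullbacks L

end Groth.Agent.S13516
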