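import Groth.Statements.S1352
import Groth.Agent.GenIrredLib.Poly
-- import your own Groth.Agent.* helpers here

set_option autoImplicit false
universe u
open FlatMor

namespace Groth.Agent.S1352

/-- For a domain A and a polynomial P in finitely many variables over A which is irreducible over an
algebraic closure of the fraction field of A: Then there is a nonzero f in A such that for every
ring map from A[1/f] to a field (in the same universe) the image of P is irreducible. (The source
leaves the nonvanishing of f implicit; for f = 0 the conclusion would be vacuous.) -/
theorem result {A : Type u} [CommRing A] [IsDomain A] {n : ℕ} (P : MvPolynomial (Fin n) A)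
    (hP : Irreducible (MvPolynomial.map (algebraMap A (AlgebraicClosure (FractionRing A))) P)) :
    ∃ f : A, f ≠ 0 ∧ ∀ (κ : Type u) [Field κ] (φ : Localization.Away f →+* κ),
      Irreducible (MvPolynomial.map (φ.comp (algebraMap A (Localization.Away f))) P) := by
  let k := AlgebraicClosure (FractionRing A)
  haveI : FaithfulSMul A k := (faithfulSMul_iff_algebraMap_injective A k).mpr (by
    rw [IsScalarTower.algebraMap_eq A (FractionRing A) k, RingHom.coe_comp]
    exact (algebraMap (FractionRing A) k).injective.comp (IsFractionRing.injective A (FractionRing A)))
  let e : Fin n ≃ ULift.{u} (Fin n) := Equiv.ulift.symm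
  have hren : ∀ (R : Type u) [CommRing R] (φ : A →+* R),
      Irreducible (MvPolynomial.map φ (MvPolynomial.rename e P)) ↔ Irreducible (MvPolynomial.map φ P) := by
    intro R _ φ
    rw [MvPolynomial.map_rename]
    exact MulEquiv.irreducible_iff (MvPolynomial.renameEquiv R e).toMulEquiv (x := MvPolynomial.map φ P)
  obtain ⟨f, hf, H⟩ := GenIrredLib.exists_irreducible_spread k (MvPolynomial.rename e P) ((hren k _).mpr hP)
  refine ⟨f, hf, fun κ _ φ => ?_⟩
  letI : Algebra A κ := (φ.comp (algebraMap A (Localization.Away f))).toAlgebra
  exact (hren κ _).mp (H κ ((IsLocalization.Away.algebraMap_isUnit f).map φ).ne_zero)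

end Groth.Agent.S1352
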