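import Groth.Statements.S13523
import Groth.Agent.FibDescLib.CechBase

set_option autoImplicit false
universe u
open CategoryTheory CategoryTheory.Limits Opposite TopologicalSpace
open FibDesc

namespace Groth.Agent.S13523

/-- A surjective local homeomorphism `f : X ⟶ S` of topological spaces is universally of cohomological
1-descent for abelian sheaves. -/
theorem result {X S : TopCat.{u}} (f : X ⟶ S)
    (hf : IsLocalHomeomorph f) (hsurj : Function.Surjective f) : FibDesc.IsUnivCohDescentMap f := by
  intro S' g
  choose x hx using fun s' : S' => hsurj (g s')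
  let W : S' → Opens S' := fun s' =>
    ⟨g ⁻¹' (hf.localInverseAt (x s')).source, (hf.localInverseAt (x s')).open_source.preimage g.hom.continuous⟩
  refine Groth.Agent.FibDescLib.isCohDescentMap_of_local _ (V := fun s' => TopCat.of (W s'))
    (fun s' => TopCat.ofHom ⟨Subtype.val, continuous_subtype_val⟩)
    (fun s' => (W s').isOpen.isOpenEmbedding_subtypeVal)
    (fun s' => ⟨s', ⟨s', show g s' ∈ (hf.localInverseAt (x s')).source by
      rw [← hx s']; exact hf.apply_self_mem_localInverseAt_source⟩, rfl⟩) fun s' => ?_
  let i : TopCat.of (W s') ⟶ S' := TopCat.ofHom ⟨Subtype.val, continuous_subtype_val⟩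
  let σ : TopCat.of (W s') ⟶ X := TopCat.ofHom ⟨fun w => hf.localInverseAt (x s') (g w.1),
    (hf.localInverseAt (x s')).continuousOn.comp_continuous (g.hom.continuous.comp continuous_subtype_val)
      fun w => w.2⟩
  have hσ : σ ≫ f = i ≫ g := TopCat.hom_ext (ContinuousMap.ext fun w =>
    hf.apply_localInverseAt_of_mem (x := x s') w.2)
  exact Groth.Agent.FibDescLib.isCohDescentMap_of_section _
    (pullback.lift (pullback.lift σ i hσ) (𝟙 _) (by rw [pullback.lift_snd, Category.id_comp]))
    (pullback.lift_snd _ _ _)

end Groth.Agent.S13523
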