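import Groth.Statements.S9515
import Groth.Agent.IdealMulLib.Killed
import Groth.Agent.SubLib.ExtendWO
import Mathlib.RingTheory.Filtration


set_option autoImplicit false
universe u
open CategoryTheory CategoryTheory.Limits AlgebraicGeometry
attribute [local instance] HasDerivedCategory.standard
open Coherent

namespace Groth.Agent.S9515

open CategoryTheory CategoryTheory.Limits AlgebraicGeometry

set_option backward.isDefEq.respectTransparency false

theorem aux_ar {R M : Type u} [CommRing R] [AddCommGroup M] [Module R M] [IsNoetherianRing R] [Module.Finite R M]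
    (I : Ideal R) (N : Submodule R M) (k : ℕ) (hN : I ^ k • N = ⊥) :
    ∃ c : ℕ, ∀ s ∈ I ^ c • (⊤ : Submodule R M), s ∈ N → s = 0 := by
  obtain ⟨k₀, hk₀⟩ := Ideal.exists_pow_inf_eq_pow_smul I N
  refine ⟨k₀ + k, fun s hs hsN => ?_⟩
  have h : s ∈ I ^ (k₀ + k) • ⊤ ⊓ N := ⟨hs, hsN⟩
  rw [hk₀ _ (Nat.le_add_right k₀ k), Nat.add_sub_cancel_left] at h
  have h' := Submodule.smul_mono le_rfl (inf_le_right : I ^ k₀ • ⊤ ⊓ N ≤ N) h
  rwa [hN, Submodule.mem_bot] at h'

open CategoryTheory Limits AlgebraicGeometry Groth.Agent.IdealMulLib in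
theorem aux {X : Scheme.{u}} [IsNoetherian X] {P G : X.Modules} (hP : Coh.IsCoh P) (hG : Coh.IsCoh G)
    (I : X.IdealSheafData) (U : X.Opens) (hU : (U : Set X) = (I.support : Set X)ᶜ) (π : P ⟶ G)
    [IsIso ((Scheme.Modules.restrictFunctor U.ι).map π)] :
    ∃ (n c : ℕ) (l : (Dual3.idealMul (I ^ n)).obj G ⟶ (Dual3.idealMul (I ^ c)).obj P),
      l ≫ Dual3.idealMulι (I ^ c) P ≫ π = Dual3.idealMulι (I ^ n) G := by
  haveI := hP.1
  haveI := hG.1
  haveI : Coh.IsQCoh (kernel π) := (Groth.Agent.QCohLib.isQCoh_image π hP.1 hG.1).1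
  haveI : Coh.IsQCoh (cokernel π) := (Groth.Agent.QCohLib.isQCoh_image π hP.1 hG.1).2
  have hK : Coh.IsCoh (kernel π) := Groth.Agent.QCohLib.isCoh_of_mono (kernel.ι π) hP inferInstance
  have hrK : (Scheme.Modules.restrictFunctor U.ι).map (kernel.ι π) = 0 := by
    rw [← cancel_mono ((Scheme.Modules.restrictFunctor U.ι).map π), ← Functor.map_comp, kernel.condition,
      Functor.map_zero, zero_comp]
  have hrC : (Scheme.Modules.restrictFunctor U.ι).map (cokernel.π π) = 0 := by
    rw [← cancel_epi ((Scheme.Modules.restrictFunctor U.ι).map π), ← Functor.map_comp, cokernel.condition,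
      Functor.map_zero, comp_zero]
  have key : ∀ y : X, ∃ (W : X.Opens) (m c : ℕ), IsAffineOpen W ∧ y ∈ W ∧ ∀ hW : IsAffineOpen W,
      (∀ s ∈ I.ideal ⟨W, hW⟩ ^ m • (⊤ : Submodule Γ(X, W) Γ(G, W)), ∃ t, π.app W t = s) ∧
      (∀ t ∈ I.ideal ⟨W, hW⟩ ^ c • (⊤ : Submodule Γ(X, W) Γ(P, W)), π.app W t = 0 → t = 0) := fun y => by
    obtain ⟨_, ⟨W : X.Opens, hW, rfl⟩, hy, -⟩ :=
      X.isBasis_affineOpens.exists_subset_of_mem_open (Set.mem_univ y) isOpen_univ
    haveI : IsNoetherianRing Γ(X, W) := IsLocallyNoetherian.component_noetherian ⟨W, hW⟩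
    haveI : Module.Finite Γ(X, W) Γ(P, W) := Groth.Agent.QCohLib.finite_sections_of_isCoh hP hW
    obtain ⟨m, hm⟩ := exists_pow_app_eq_zero hG I U hU (cokernel.π π) hrC hW
    obtain ⟨k, hk⟩ := exists_pow_app_eq_zero hK I U hU (kernel.ι π) hrK hW
    let N := LinearMap.range (Groth.Agent.QCohLib.appLinear (kernel.ι π) W)
    obtain ⟨c, hc⟩ := aux_ar (I.ideal ⟨W, hW⟩) N k (by
      rw [show N = Submodule.map (Groth.Agent.QCohLib.appLinear (kernel.ι π) W) ⊤ from (Submodule.map_top _).symm,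
        ← Submodule.map_smul'', eq_bot_iff]
      rintro _ ⟨s, hs, rfl⟩
      exact hk s hs)
    refine ⟨W, m, c, hW, hy, fun _ => ⟨fun s hs => ?_, fun t ht h0 => hc t ht ?_⟩⟩
    · have h : s ∈ LinearMap.ker (Groth.Agent.FlatLocus.appL (cokernel.π π) W) := hm s hs
      rw [(Groth.Agent.FlatLocus.cokernel_sections π hW).2] at h
      exact h
    · exact Groth.Agent.QCohLib.kernel_app_exact π W t h0
  choose W m c hW hyW hk using key
  obtain ⟨t, ht⟩ := IsCompact.elim_finite_subcover (isCompact_univ : IsCompact (Set.univ : Set X))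
    (fun y => (W y : Set X)) (fun y => (W y).2) fun y _ => Set.mem_iUnion.2 ⟨y, hyW y⟩
  let cc := t.sup c
  let n := cc + t.sup m
  let α := Dual3.idealMulι (I ^ cc) P ≫ π
  haveI : Coh.IsQCoh ((Dual3.idealMul (I ^ cc)).obj P) := isQCoh_idealMul _ P
  haveI : Coh.IsQCoh ((Dual3.idealMul (I ^ n)).obj G) := isQCoh_idealMul _ G
  haveI : Coh.IsQCoh (kernel α) := (Groth.Agent.QCohLib.isQCoh_image α inferInstance hG.1).1
  haveI : Mono α := by
    refine Preadditive.mono_of_kernel_zero (eq_zero_of_cover (kernel.ι α) fun y => ?_)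
    obtain ⟨p, hp, hyp⟩ := Set.mem_iUnion₂.1 (ht (Set.mem_univ y))
    refine ⟨W p, hW p, hyp, fun x => ?_⟩
    have hmem : (Dual3.idealMulι (I ^ cc) P).app (W p) ((kernel.ι α).app (W p) x) ∈
        I.ideal ⟨W p, hW p⟩ ^ c p • (⊤ : Submodule Γ(X, W p) Γ(P, W p)) :=
      Submodule.smul_mono_left (Ideal.pow_le_pow_right (Finset.le_sup hp))
        ((range_app_idealMulι (I ^ cc) P (hW p) _).1 ⟨_, rfl⟩)
    have h0 := (hk p (hW p)).2 _ hmem (by
      show ((kernel.ι α) ≫ α).app (W p) x = 0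
      rw [kernel.condition]
      rfl)
    exact (Groth.Agent.CohBase.sections_injective
      ((Groth.Agent.QCohLib.toAbF X).map (Dual3.idealMulι (I ^ cc) P)) (W p)) (h0.trans (map_zero _).symm)
  have hz : Dual3.idealMulι (I ^ n) G ≫ cokernel.π α = 0 := by
    refine eq_zero_of_cover _ fun y => ?_
    obtain ⟨p, hp, hyp⟩ := Set.mem_iUnion₂.1 (ht (Set.mem_univ y))
    refine ⟨W p, hW p, hyp, fun x => ?_⟩
    have hx : (Dual3.idealMulι (I ^ n) G).app (W p) x ∈
        Submodule.map (Groth.Agent.QCohLib.appLinear π (W p))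
          (I.ideal ⟨W p, hW p⟩ ^ cc • (⊤ : Submodule Γ(X, W p) Γ(P, W p))) := by
      rw [Submodule.map_smul'', Submodule.map_top]
      have h1 : I.ideal ⟨W p, hW p⟩ ^ n • (⊤ : Submodule Γ(X, W p) Γ(G, W p)) ≤
          I.ideal ⟨W p, hW p⟩ ^ cc • LinearMap.range (Groth.Agent.QCohLib.appLinear π (W p)) := by
        rw [pow_add, Submodule.mul_smul]
        refine Submodule.smul_mono le_rfl fun s hs => (hk p (hW p)).1 s ?_
        exact Submodule.smul_mono_left (Ideal.pow_le_pow_right (Finset.le_sup hp)) hs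
      exact h1 ((range_app_idealMulι (I ^ n) G (hW p) _).1 ⟨x, rfl⟩)
    obtain ⟨q, hq, hqe⟩ := hx
    obtain ⟨q', rfl⟩ := (range_app_idealMulι (I ^ cc) P (hW p) q).2 hq
    show (cokernel.π α).app (W p) ((Dual3.idealMulι (I ^ n) G).app (W p) x) = 0
    refine (congrArg _ hqe.symm).trans ?_
    show (α ≫ cokernel.π α).app (W p) q' = 0
    rw [cokernel.condition]
    rfl
  exact ⟨n, cc, Abelian.monoLift α _ hz, Abelian.monoLift_comp _ _ _⟩

/-- Let X be a Noetherian scheme, F a quasi-coherent O_X-module, G a coherent O_X-module and I a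
quasi-coherent sheaf of ideals, with U the open complement of the closed subset cut out by I. For
every morphism φ : G|_U → F|_U there are an n ≥ 0 and a morphism ψ : I^n G → F whose restriction to
U is the restriction of the inclusion I^n G → G followed by φ. (Here I^n G ⊆ G is the submodule
sheaf Dual3.idealMul (I^n) G.) -/
theorem result (X : Scheme.{u}) [IsNoetherian X] (F G : X.Modules)
    (hF : Coh.IsQCoh F) (hG : Coh.IsCoh G) (I : X.IdealSheafData)
    (U : X.Opens) (hU : (U : Set X) = (I.support : Set X)ᶜ)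
    (φ : (Scheme.Modules.restrictFunctor U.ι).obj G ⟶
      (Scheme.Modules.restrictFunctor U.ι).obj F) :
    ∃ (n : ℕ) (ψ : (Dual3.idealMul (I ^ n)).obj G ⟶ F),
      (Scheme.Modules.restrictFunctor U.ι).map ψ =
        (Scheme.Modules.restrictFunctor U.ι).map (Dual3.idealMulι (I ^ n) G) ≫ φ := by
  haveI := hF
  haveI := hG.1
  let R := Scheme.Modules.restrictFunctor U.ι
  haveI : R.Additive := inferInstance
  let M := G ⊞ F
  haveI : Coh.IsQCoh M := Groth.Agent.DCohLib.isQCoh_biprod' hG.1 hF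
  let i : R.obj G ⟶ R.obj M := R.map biprod.inl + φ ≫ R.map biprod.inr
  have hi₁ : i ≫ R.map biprod.fst = 𝟙 _ := by
    rw [Preadditive.add_comp, Category.assoc, ← Functor.map_comp, ← Functor.map_comp, biprod.inl_fst, biprod.inr_fst,
      Functor.map_zero, comp_zero, add_zero, CategoryTheory.Functor.map_id]
  have hi₂ : i ≫ R.map biprod.snd = φ := by
    rw [Preadditive.add_comp, Category.assoc, ← Functor.map_comp, ← Functor.map_comp, biprod.inl_snd, biprod.inr_snd,
      Functor.map_zero, zero_add, CategoryTheory.Functor.map_id, Category.comp_id]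
  haveI : Mono i := mono_of_mono_fac hi₁
  have hGU := Groth.Agent.ProjBundleLib.isCoh_restrict_open hG.1 hG.2 U
  haveI := hGU.1
  have hUc : IsCompact (U : Set X) := TopologicalSpace.NoetherianSpace.isCompact _
  obtain ⟨N, hN, hgood⟩ := Groth.Agent.SubLib.exists_good_qcqs hUc
    (Groth.Agent.SubLib.good_base (M := M) i hGU.2)
  obtain ⟨P, j, e, -, hPq, hPf, he⟩ := Groth.Agent.SubLib.exists_ext_of_good i hN hgood
  have hπ : R.map (j ≫ biprod.fst) = e.hom := by
    rw [Functor.map_comp]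
    refine (congrArg (· ≫ R.map biprod.fst) he.symm).trans ?_
    rw [Category.assoc, hi₁, Category.comp_id]
  haveI : IsIso ((Scheme.Modules.restrictFunctor U.ι).map (j ≫ biprod.fst)) := hπ ▸ inferInstanceAs (IsIso e.hom)
  obtain ⟨n, c, l, hl⟩ := aux ⟨hPq, hPf⟩ hG I U hU (j ≫ biprod.fst)
  refine ⟨n, (l ≫ Dual3.idealMulι (I ^ c) P) ≫ j ≫ biprod.snd, ?_⟩
  rw [← hl, ← Category.assoc l, Functor.map_comp, Functor.map_comp _ (l ≫ Dual3.idealMulι (I ^ c) P)]
  rw [show (Scheme.Modules.restrictFunctor U.ι).map (j ≫ biprod.snd) = e.hom ≫ φ by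
    rw [Functor.map_comp]
    refine (congrArg (· ≫ R.map biprod.snd) he.symm).trans ?_
    rw [Category.assoc, hi₂]]
  rw [show (Scheme.Modules.restrictFunctor U.ι).map (j ≫ biprod.fst) = e.hom from hπ]
  simp only [Category.assoc]

end Groth.Agent.S9515
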