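import Groth.Statements.S13530
import Groth.Agent.TPowGenLib.Basic
import Groth.Agent.NApproxLib.Main
import Groth.Agent.QCohLib.Push
import Groth.Agent.AmpleEmb.Generated
import Groth.Agent.ExactConstrLib.LocFree

set_option autoImplicit false
set_option backward.isDefEq.respectTransparency false
set_option maxHeartbeats 1600000
universe u
open CategoryTheory CategoryTheory.Limits AlgebraicGeometry
open ResProp

namespace Groth.Agent.S13530

open CategoryTheory CategoryTheory.Limits AlgebraicGeometry TopologicalSpace Opposite in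
/-- A local section of the direct image that is hit, is hit by the transposed map. -/
theorem germ_mem_range {X Z : Scheme.{u}} (q : X ⟶ Z) {M : X.Modules} {T : Z.Modules}
    (g : T ⟶ (Scheme.Modules.pushforward q).obj M) {U : Z.Opens} (s : Γ(M, q ⁻¹ᵁ U)) (x : X) (hx : q x ∈ U)
    (h : ∃ (V : Z.Opens) (_ : q x ∈ V) (hV : V ≤ U) (w : Γ(T, V)),
      g.app V w = ((Scheme.Modules.pushforward q).obj M).presheaf.map (homOfLE hV).op s) :
    M.presheaf.germ (q ⁻¹ᵁ U) x hx s ∈
      LinearMap.range (PullbackMod.stalkLin (((Scheme.Modules.pullbackPushforwardAdjunction q).homEquiv T M).symm g) x) := by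
  obtain ⟨V, hxV, hV, w, hw⟩ := h
  let t := ((Scheme.Modules.pullbackPushforwardAdjunction q).homEquiv T M).symm g
  have hg : (Scheme.Modules.pullbackPushforwardAdjunction q).unit.app T ≫ (Scheme.Modules.pushforward q).map t = g := by
    refine (((Scheme.Modules.pullbackPushforwardAdjunction q).homEquiv_unit (f := t)).symm).trans ?_
    exact Equiv.apply_symm_apply _ _
  refine ⟨((Scheme.Modules.pullback q).obj T).presheaf.germ (q ⁻¹ᵁ V) x hxV
    (((Scheme.Modules.pullbackPushforwardAdjunction q).unit.app T).app V w), ?_⟩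
  erw [PullbackMod.stalkLin_germ]
  have h1 : t.app (q ⁻¹ᵁ V) (((Scheme.Modules.pullbackPushforwardAdjunction q).unit.app T).app V w) =
      ((Scheme.Modules.pushforward q).obj M).presheaf.map (homOfLE hV).op s :=
    (ConcreteCategory.congr_hom (congrArg (fun r => Scheme.Modules.Hom.app r V) hg) w).trans hw
  refine (congrArg (M.presheaf.germ (q ⁻¹ᵁ V) x hxV) h1).trans ?_
  exact TopCat.Presheaf.germ_res_apply M.presheaf (homOfLE (q.preimage_mono hV)) x hxV s


/-- On a quasi-compact quasi-separated scheme there is a finitely presented quasi-coherent module F such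
that every finitely presented quasi-coherent module is a quotient of a finite direct sum of copies
of a tensor power of F; more precisely, for all sufficiently large n and m there is an epimorphism
from the direct sum of m copies of the n-th tensor power of F. -/
theorem result (X : Scheme.{u}) [CompactSpace X] [QuasiSeparatedSpace X] :
    ∃ F : X.Modules, Coh.IsQCoh F ∧ CohB1.IsFP F ∧
      ∀ M : X.Modules, Coh.IsQCoh M → CohB1.IsFP M →
        ∃ n₀ m₀ : ℕ, ∀ n m : ℕ, n₀ ≤ n → m₀ ≤ m →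
          ∃ π : (∐ fun _ : Fin m => CohB1.tensorPow F n) ⟶ M, Epi π := by
  classical
  obtain ⟨Z, q, hq, hc, hf⟩ := NApproxLib.hasFTZ X
  haveI := hq
  haveI := hc
  haveI : IsLocallyNoetherian Z := NApproxLib.isLocallyNoetherian_of_isFTZ hf
  haveI : IsNoetherian Z := {}
  obtain ⟨t, ht⟩ := IsCompact.elim_finite_subcover (isCompact_univ : IsCompact (Set.univ : Set Z))
    (fun U : Z.affineOpens => (U.1 : Set Z)) (fun U => U.1.2) (fun z _ => by
      obtain ⟨_, ⟨U, hU, rfl⟩, hz, -⟩ :=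
        Z.isBasis_affineOpens.exists_subset_of_mem_open (Set.mem_univ z) isOpen_univ
      exact Set.mem_iUnion.2 ⟨⟨U, hU⟩, hz⟩)
  let e := t.equivFin.symm
  let U : Fin t.card → Z.affineOpens := fun i => (e i).1
  have hcov : ∀ z : Z, ∃ i, z ∈ (U i).1 := fun z => by
    obtain ⟨W, hW, hz⟩ := Set.mem_iUnion₂.1 (ht (Set.mem_univ z))
    refine ⟨e.symm ⟨W, hW⟩, ?_⟩
    show z ∈ ((e (e.symm ⟨W, hW⟩)).1).1
    rw [Equiv.apply_symm_apply]
    exact hz
  let I : Fin t.card → Z.IdealSheafData := fun i =>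
    Scheme.IdealSheafData.vanishingIdeal ⟨((U i).1 : Set Z)ᶜ, (U i).1.2.isClosed_compl⟩
  have hI : ∀ i, ((U i).1 : Set Z) = ((I i).support : Set Z)ᶜ := fun i => by
    simp only [I, Scheme.IdealSheafData.coe_support_vanishingIdeal]
    exact (compl_compl _).symm
  have hidl : ∀ i, Coh.IsCoh (TPowGenLib.idl (I i)) := fun i => by
    haveI := (DevLib.isCoh_structureModule Z).1
    exact QCohLib.isCoh_of_mono (Dual3.idealMulι (I i) _) (DevLib.isCoh_structureModule Z)
      (IdealMulLib.isQCoh_idealMul _ _)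
  let F₁ := ∐ fun i => TPowGenLib.idl (I i)
  let F₀ : Z.Modules := Coh.structureModule Z ⊞ F₁
  have hF₀ : Coh.IsCoh F₀ := DevLib.isCoh_biprod (DevLib.isCoh_structureModule Z)
    (CMRegLib.isCoh_sigma_fin _ hidl)
  haveI : Coh.IsQCoh F₀ := hF₀.1
  refine ⟨(Scheme.Modules.pullback q).obj F₀, PullbackMod.isQCoh_pullback q F₀,
    PullbackMod.isFP_pullback q F₀ ?_, fun M hM hMf => ?_⟩
  · exact (QCohLib.isCoh_iff_isFP F₀).1 hF₀
  haveI := hM
  let G := (Scheme.Modules.pushforward q).obj M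
  haveI : Coh.IsQCoh G := QCohLib.isQCoh_pushforward M q
  have hfin : ∀ i, Module.Finite Γ(X, q ⁻¹ᵁ (U i).1) Γ(M, q ⁻¹ᵁ (U i).1) := fun i =>
    QCohLib.finite_sections M (ExactConstrLib.isFT_of_isFP hMf) ((U i).2.preimage q)
  choose S hS using fun i => (hfin i).fg_top
  let π₀ : ∀ i, F₀ ⟶ TPowGenLib.idl (I i) := fun i =>
    biprod.snd ≫ Sigma.desc fun j => if h : j = i then eqToHom (by rw [h]) else 0
  haveI : ∀ i, Epi (π₀ i) := fun i =>
    SplitEpi.epi ⟨Sigma.ι (fun i => TPowGenLib.idl (I i)) i ≫ biprod.inr, by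
      simp only [π₀, Category.assoc]
      erw [biprod.inr_snd_assoc, Sigma.ι_desc]
      simp⟩
  haveI : Epi (biprod.fst : F₀ ⟶ Coh.structureModule Z) :=
    SplitEpi.epi ⟨biprod.inl, biprod.inl_fst⟩
  choose n₁ hn₁ using fun p : (Σ i, {σ // σ ∈ S i}) =>
    TPowGenLib.exists_hom (I p.1) G (U p.1).1 (hI p.1) p.2.1 (π₀ p.1) biprod.fst
  let K := Fintype.card (Σ i, {σ // σ ∈ S i})
  refine ⟨Finset.univ.sup n₁, K, fun n m hn hm => ?_⟩
  choose g hg using fun p : (Σ i, {σ // σ ∈ S i}) =>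
    hn₁ p n (le_trans (Finset.le_sup (Finset.mem_univ p)) hn)
  let f : ∀ j : Fin m, CohB1.tensorPow ((Scheme.Modules.pullback q).obj F₀) n ⟶ M := fun j =>
    if h : j.1 < K then (AmpleLib.pullPow q F₀ n).inv ≫
      ((Scheme.Modules.pullbackPushforwardAdjunction q).homEquiv _ M).symm
        (g ((Fintype.equivFin _).symm ⟨j.1, h⟩))
    else 0
  refine ⟨Sigma.desc f, (PullbackMod.epi_iff_stalk _).2 fun x => LinearMap.range_eq_top.1 ?_⟩
  obtain ⟨i, hi⟩ := hcov (q x)
  refine eq_top_iff.2 ?_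
  rw [← AmpleEmb.span_germ_eq_top M ((U i).2.preimage q) (show x ∈ q ⁻¹ᵁ (U i).1 from hi) (hS i), Submodule.span_le]
  rintro _ ⟨σ, hσ, rfl⟩
  let p : Σ i, {σ // σ ∈ S i} := ⟨i, σ, hσ⟩
  let j : Fin m := ⟨(Fintype.equivFin _ p).1, lt_of_lt_of_le (Fintype.equivFin _ p).2 hm⟩
  obtain ⟨w, hw⟩ := germ_mem_range q (g p) σ x hi (hg p (q x) hi)
  let T := CohB1.tensorPow ((Scheme.Modules.pullback q).obj F₀) n
  refine ⟨PullbackMod.stalkLin (Sigma.ι (fun _ : Fin m => T) j) x
    (PullbackMod.stalkLin (AmpleLib.pullPow q F₀ n).hom x w), ?_⟩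
  have hfj : (AmpleLib.pullPow q F₀ n).hom ≫ Sigma.ι (fun _ : Fin m => T) j ≫ Sigma.desc f =
      ((Scheme.Modules.pullbackPushforwardAdjunction q).homEquiv _ M).symm (g p) := by
    rw [Sigma.ι_desc]
    simp only [f, j, K, dif_pos (Fintype.equivFin _ p).2, Fin.eta, Equiv.symm_apply_apply, Iso.hom_inv_id_assoc]
  refine Eq.trans ?_ hw
  conv_rhs => rw [← hfj]
  rw [PullbackMod.stalkLin_comp, PullbackMod.stalkLin_comp]
  rfl

end Groth.Agent.S13530
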