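import Groth.Statements.S13532
import Groth.Agent.DimFormulaLib.General
import Groth.Agent.DimFormulaLib.FibrePoints
import Groth.Agent.DimFormulaLib.Misc
import Groth.Agent.DimFormulaLib.FibreComp
import Groth.Agent.DimFormulaLib.Equidim
import Groth.Agent.FlatDim.Trdeg


set_option autoImplicit false
universe u
open CategoryTheory CategoryTheory.Limits AlgebraicGeometry
open ResProp

namespace Groth.Agent.S13532

open CategoryTheory CategoryTheory.Limits AlgebraicGeometry

open Groth.Agent CategoryTheory AlgebraicGeometry TopologicalSpace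
open Groth.Agent.DimFormulaLib
set_option backward.isDefEq.respectTransparency false

theorem ringKrullDim_pos_of_specializes {Y : Scheme.{u}} {η y : Y} (h : η ⤳ y) (hne : η ≠ y) :
    (1 : WithBot ℕ∞) ≤ ringKrullDim (Y.presheaf.stalk y) := by
  rw [ringKrullDim_stalk_eq_coheight]
  have hlt : y < η := lt_of_le_not_ge (Scheme.le_iff_specializes.2 h) fun h' =>
    hne (h.antisymm (Scheme.le_iff_specializes.1 h')).eq
  exact_mod_cast Order.one_le_iff_pos.2 (Order.coheight_pos.2 hlt.not_isMax)

/-- A morphism of finite type between locally Noetherian schemes which is birational (an isomorphism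
over a dense open of the target whose preimage is dense in the source) has finite fibres over all
points of the target of codimension at most 1, i.e. whose local ring has Krull dimension at most 1. -/
theorem result {X Y : Scheme.{u}}
    [IsLocallyNoetherian X] [IsLocallyNoetherian Y] (f : Y ⟶ X) [LocallyOfFiniteType f] [QuasiCompact f]
    (U : X.Opens) (hU : Dense (U : Set X)) (hU' : Dense ((f ⁻¹ᵁ U : Y.Opens) : Set Y)) (hiso : IsIso (f ∣_ U))
    (x : X) (hx : ringKrullDim (X.presheaf.stalk x) ≤ 1) :
    (f.base ⁻¹' {x}).Finite := by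
  let V : Y.Opens := f ⁻¹ᵁ U
  haveI := hiso
  have hgen : ∀ η : Y, (∀ w : Y, w ⤳ η → w = η) → η ∈ V := fun η hη => mem_of_dense V.2 hU' hη
  have h0 : ∀ η : Y, η ∈ V → resTrdegAt f η = 0 := fun η hη => by
    have h := resTrdegAt_ι (f := f) (U := V) (⟨η, hη⟩ : V)
    rw [FlatDim.resTrdegAt_congr (morphismRestrict_ι f U).symm, FlatDim.resTrdegAt_comp,
      FlatDim.resTrdegAt_preimmersion, FlatDim.resTrdegAt_preimmersion, add_zero] at h
    exact h.symm
  by_cases hxU : x ∈ U
  · refine (Set.subsingleton_of_forall_eq ?_ fun y hy => ?_).finite (s := f.base ⁻¹' {x})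
    · exact ((inv (f ∣_ U)) ⟨x, hxU⟩ : V).1
    · have hy' : f y = x := hy
      have h : (f ∣_ U) ⟨y, show f y ∈ U by rwa [hy']⟩ = ⟨x, hxU⟩ := Subtype.ext (by
        simpa [morphismRestrict_base] using hy')
      rw [← h, ← Scheme.Hom.comp_apply, IsIso.hom_inv_id]
      rfl
  have htr : ∀ y : Y, f y = x → resTrdegAt f y = 0 := fun y hy => by
    obtain ⟨n, hn⟩ := exists_nat_resTrdegAt f y
    obtain ⟨η, hηy, hη⟩ := exists_maximal_point y
    have hne : η ≠ y := fun e => hxU (hy ▸ (e ▸ hgen η hη : y ∈ V))
    have h := stalk_dim_add_trdeg_le f y n 0 hn fun ξ hξ _ => by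
      rw [h0 ξ (hgen ξ fun w hw => ?_)]
      · simp
      · have h' := hξ.2 isIrreducible_singleton.closure (specializes_iff_closure_subset.1 hw)
        exact (hw.antisymm (specializes_iff_mem_closure.2 (h' (subset_closure rfl)))).eq
    have h1 := ringKrullDim_pos_of_specializes hηy hne
    rw [hy] at h
    have h2 : (1 : WithBot ℕ∞) + n ≤ 1 := by
      refine (add_le_add_left h1 _).trans (h.trans ?_) |>.trans' (by rw [add_comm])
      simpa using hx
    have : n = 0 := by
      have h3 : ((1 + n : ℕ) : WithBot ℕ∞) ≤ ((1 : ℕ) : WithBot ℕ∞) := by exact_mod_cast h2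
      have h4 : 1 + n ≤ 1 := by exact_mod_cast h3
      omega
    rw [hn, this, Nat.cast_zero]
  have hT1 : ∀ a b : f.fiber x, a ⤳ b → a = b := fun a b hab => by
    refine (f.fiberι x).isEmbedding.injective ?_
    by_contra hne
    have hab' : f.fiberι x a ⤳ f.fiberι x b := hab.map (f.fiberι x).continuous
    have hmem : ∀ c : f.fiber x, f (f.fiberι x c) = x := fun c => (f.range_fiberι x).subset ⟨c, rfl⟩
    let s : LTSeries ↥Y := ⟨1, ![f.fiberι x b, f.fiberι x a], fun i => by
      fin_cases i
      exact lt_of_le_not_ge (Scheme.le_iff_specializes.2 hab') fun h' =>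
        hne (hab'.antisymm (Scheme.le_iff_specializes.1 h')).eq⟩
    have := length_add_trdeg_le_of_chain_in_fibre f s (fun i => by
      have hlast : f s.last = x := hmem a
      rw [hlast]
      fin_cases i
      · exact hmem b
      · exact hmem a) 0 (by rw [Nat.cast_zero]; exact htr _ (hmem a))
    exact Nat.not_succ_le_zero _ this
  haveI : LocallyOfFiniteType (f.fiberToSpecResidueField x) :=
    MorphismProperty.pullback_snd f (X.fromSpecResidueField x) inferInstance
  haveI : QuasiCompact (f.fiberToSpecResidueField x) :=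
    MorphismProperty.pullback_snd f (X.fromSpecResidueField x) inferInstance
  haveI : IsLocallyNoetherian (f.fiber x) :=
    LocallyOfFiniteType.isLocallyNoetherian (f.fiberToSpecResidueField x)
  haveI : CompactSpace ↥(f.fiber x) := QuasiCompact.compactSpace_of_compactSpace (f.fiberToSpecResidueField x)
  haveI : IsNoetherian (f.fiber x) := {}
  haveI : Finite ↥(f.fiber x) := by
    have hfin := NoetherianSpace.finite_irreducibleComponents (α := ↥(f.fiber x))
    have hsub : (Set.univ : Set ↥(f.fiber x)) ⊆ ⋃ Z ∈ irreducibleComponents ↥(f.fiber x), Z := fun y _ =>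
      Set.mem_biUnion (irreducibleComponent_mem_irreducibleComponents y) mem_irreducibleComponent
    refine Set.finite_univ_iff.1 ((hfin.biUnion fun Z hZ => ?_).subset hsub)
    obtain ⟨η, hη⟩ := QuasiSober.sober hZ.1 (isClosed_of_mem_irreducibleComponents Z hZ)
    refine (Set.finite_singleton η).subset fun z hz => ?_
    exact (hT1 η z (hη.specializes hz)).symm
  rw [← f.range_fiberι x]
  exact Set.finite_range _


end Groth.Agent.S13532
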