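import Groth.Statements.S13534
import Groth.Agent.FlatCoverLib.Basic

set_option autoImplicit false
set_option linter.style.haveILetI false
universe u
open CategoryTheory CategoryTheory.Limits AlgebraicGeometry
open ResProp

namespace Groth.Agent.S13534

/-- In the case of schemes, on a quasi-compact scheme with affine diagonal (the intersection of any two
affine opens is affine) every quasi-coherent module is a quotient of a flat quasi-coherent module.
(The published statement is for quasi-compact algebraic stacks with affine diagonal; this row is the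
case of schemes.) -/
theorem result (X : Scheme.{u}) [CompactSpace X]
    (hd : ∀ V W : X.Opens, IsAffineOpen V → IsAffineOpen W → IsAffineOpen (V ⊓ W))
    (M : X.Modules) (hM : Coh.IsQCoh M) :
    ∃ (F : X.Modules) (π : F ⟶ M), Coh.IsQCoh F ∧ FlatMod.IsFlat F ∧ Epi π := by
  obtain ⟨s, hs, hcov⟩ :=
    (isCompact_and_isOpen_iff_finite_and_eq_biUnion_affineOpens (X := X)).1 ⟨isCompact_univ, isOpen_univ⟩
  obtain ⟨n, ⟨e⟩⟩ := @Finite.exists_equiv_fin _ hs.to_subtype
  haveI := hM
  let U : Fin n → X.Opens := fun i => (e.symm i).1.1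
  have ha : ∀ i, IsAffineHom (U i).ι := fun i => ⟨fun W hW => by
    rw [← (U i).ι.isAffineOpen_iff_of_isOpenImmersion, (U i).ι.image_preimage_eq_opensRange_inf,
      Scheme.Opens.opensRange_ι]
    exact hd _ _ (e.symm i).1.2 hW⟩
  obtain ⟨Q, π, hQ, hπ, hfl⟩ := FlatCoverLib.exists_flat_cover n U (fun i => (e.symm i).1.2) ha M
  refine ⟨Q, π, hQ, fun x => ?_, hπ⟩
  have hx : x ∈ (Set.univ : Set X) := trivial
  rw [hcov] at hx
  simp only [Set.mem_iUnion, exists_prop] at hx
  obtain ⟨V, hV, hxV⟩ := hx
  refine hfl (e ⟨V, hV⟩) x ?_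
  simpa [U] using hxV

end Groth.Agent.S13534
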