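import Groth.Statements.S13535
import Groth.Agent.AlterAmpleLib.ProjIso
import Groth.Agent.AmpleFamLib.TopVanPush
import Groth.Agent.AmpleFamLib.Descend
import Groth.Agent.RpushLib.Finite
-- import your own Groth.Agent.* helpers here

set_option autoImplicit false
universe u
open CategoryTheory CategoryTheory.Limits AlgebraicGeometry
open ResProp

namespace Groth.Agent.S13535

/-- Let X and Y be proper over a Noetherian ring A and let f : Y ⟶ X be a finite A-morphism. If a
sequence (E_n) of coherent modules on X is cohomologically d-ample (d a positive integer), meaning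
that for every coherent F the groups H^i(X, F ⊗ E_n) vanish for all i ≥ d + 1 and all large n, then
so is the sequence of pullbacks (f^*E_n) on Y. -/
theorem result (A : Type u) [CommRing A] [IsNoetherianRing A]
    {X Y : Scheme.{u}} (pX : X ⟶ Spec (CommRingCat.of A)) (pY : Y ⟶ Spec (CommRingCat.of A))
    [IsProper pX] [IsProper pY] (f : Y ⟶ X) (hf : f ≫ pX = pY) [IsFinite f]
    (d : ℕ) (hd : 0 < d) (E : ℕ → X.Modules) (hE : ∀ n, Coh.IsCoh (E n))
    (hamp : ∀ F : X.Modules, Coh.IsCoh F → ∃ n₀ : ℕ, ∀ n : ℕ, n₀ ≤ n → ∀ i : ℕ, d + 1 ≤ i →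
        Subsingleton (Coh.HH X (CohB1.tensorMod F (E n)) i)) :
    ∀ F : Y.Modules, Coh.IsCoh F → ∃ n₀ : ℕ, ∀ n : ℕ, n₀ ≤ n → ∀ i : ℕ, d + 1 ≤ i →
        Subsingleton (Coh.HH Y (CohB1.tensorMod F ((Scheme.Modules.pullback f).obj (E n))) i) := by
  intro F hF
  haveI : IsLocallyNoetherian X := LocallyOfFiniteType.isLocallyNoetherian pX
  haveI : IsLocallyNoetherian Y := LocallyOfFiniteType.isLocallyNoetherian pY
  haveI := hF.1
  obtain ⟨n₀, hn₀⟩ := hamp _ (Groth.Agent.RpushLib.isCoh_push f hF)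
  refine ⟨n₀, fun n hn i hi => ?_⟩
  have hM : Coh.IsCoh (CohB1.tensorMod F ((Scheme.Modules.pullback f).obj (E n))) :=
    Groth.Agent.CurveLib.isCoh_tmod hF (Groth.Agent.PullbackMod.isCoh_pullback f _ (hE n))
  haveI := hM.1
  haveI : IsIso (Groth.Agent.DCohLib.projMap f F (E n)) :=
    Groth.Agent.DCohLib.isIso_of_local _ fun x => by
      obtain ⟨V, hV, hx, -⟩ := exists_isAffineOpen_mem_and_subset (x := x) (U := (⊤ : X.Opens)) trivial
      exact ⟨V, V.ι, inferInstance, ⟨x, hx⟩, rfl,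
        Groth.Agent.AlterAmpleLib.isIso_restrict_projMap_of_affine f V hV (hE n) hF.1⟩
  obtain ⟨e, -⟩ := Groth.Agent.ProperFin.exists_pushEquiv f
    (M := CohB1.tensorMod F ((Scheme.Modules.pullback f).obj (E n)))
    (fun _ hV m => Groth.Agent.CohBase.affine_vanishing _ (hV.preimage f) m) i
  exact @Equiv.subsingleton _ _ e.toEquiv (Groth.Agent.CurveLib.subsingleton_HH_iso (asIso (Groth.Agent.DCohLib.projMap f F (E n))) i (hn₀ n hn i hi))

end Groth.Agent.S13535
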