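import Groth.Statements.S13537
import Groth.Agent.AmpleFamLib.Descend
import Groth.Agent.S13532
import Groth.Agent.S10860

set_option autoImplicit false
universe u
open CategoryTheory CategoryTheory.Limits AlgebraicGeometry
attribute [local instance] HasDerivedCategory.standard
open ResProp
open TopologicalSpace Groth.Agent.ParaFLib Groth.Agent.AmpleLib Groth.Agent.AmpleFamLib
set_option linter.style.haveILetI false

namespace Groth.Agent.S13537

theorem mem_of_isMinPt {X : Scheme.{u}} [IsNoetherian X] {U : X.Opens} (hd : Dense (U : Set X)) {v : X}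
    (hv : IsMinPt v) : v ∈ U := by
  obtain ⟨N, hvN, hN⟩ := exists_nhd_maximal (isClosed_univ (X := X)) (z := v) fun w _ h => hv w h
  obtain ⟨w, hwN, hwU⟩ := hd.inter_open_nonempty N N.2 ⟨v, hvN⟩
  exact (hN w hwN trivial).mem_open U.2 hwU

theorem range_restrict_comp {X : Scheme.{u}} {T : Scheme.{u}} {V₁ : X.Opens} (ι : T ⟶ (V₁ : Scheme.{u}))
    (Vp : (V₁ : Scheme.{u}).Opens) :
    Set.range ((ι ∣_ Vp) ≫ (V₁.ι.isoImage Vp).hom ≫ (V₁.ι ''ᵁ Vp).ι).base =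
      V₁.ι '' (Set.range ι ∩ (Vp : Set (V₁ : Scheme.{u}))) := by
  rw [Scheme.Hom.isoImage_hom_ι, ← Category.assoc, morphismRestrict_ι, Category.assoc]
  ext x
  constructor
  · rintro ⟨t, rfl⟩
    exact ⟨ι t.1, ⟨⟨t.1, rfl⟩, t.2⟩, rfl⟩
  · rintro ⟨_, ⟨⟨t, rfl⟩, ht⟩, rfl⟩
    exact ⟨⟨t, ht⟩, rfl⟩

/-- Let f : X' ⟶ X be a proper morphism of Noetherian schemes, X' separated with an ample invertible
module L', and let U be the largest open of X over which f is an isomorphism; suppose U is dense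
with dense preimage (f is birational). Then U is contained in an open V such that (i) V minus U
underlies an affine closed subscheme of V, (ii) V contains all points of codimension at most 1,
(iii) f is finite over V, and (iv) V carries an ample family of invertible modules whose pullbacks
along f are all isomorphic to the restriction of one positive tensor power of L'. -/
theorem result {X X' : Scheme.{u}} [IsNoetherian X] [IsNoetherian X']
    (f : X' ⟶ X) [IsProper f] [X'.IsSeparated] (L' : X'.Modules) (hL' : CohB1.IsAmple L')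
    (U : X.Opens) (hU : IsIso (f ∣_ U)) (hmax : ∀ W : X.Opens, IsIso (f ∣_ W) → W ≤ U)
    (hd : Dense (U : Set X)) (hd' : Dense ((f ⁻¹ᵁ U : X'.Opens) : Set X')) :
    ∃ V : X.Opens, U ≤ V ∧
      (∃ (T : Scheme.{u}) (g : T ⟶ (V : Scheme.{u})), IsClosedImmersion g ∧ IsAffine T ∧
        Set.range (g ≫ V.ι).base = (V : Set X) \ (U : Set X)) ∧
      (∀ y : X, ringKrullDim (X.presheaf.stalk y) ≤ 1 → y ∈ V) ∧ IsFinite (f ∣_ V) ∧
      ∃ (ι : Type u) (L : ι → (V : Scheme.{u}).Modules) (n : ℕ), KSix.IsAmpleFamily L ∧ 1 ≤ n ∧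
        ∀ i : ι, Nonempty ((Scheme.Modules.pullback (f ∣_ V)).obj (L i) ≅
          (CohB1.tensorPow L' n).restrict (f ⁻¹ᵁ V).ι) := by
  classical
  -- finite fibres, codimension one points
  obtain ⟨Vf, hVf, hfin⟩ := S10860.result f
  have hmemVf : ∀ y : X, (f.base ⁻¹' {y}).Finite → y ∈ Vf := fun y h => hVf.ge h
  have hinjU : ∀ a b : X', f a ∈ U → f a = f b → a = b := fun a b ha hab => by
    have hb : f b ∈ U := hab ▸ ha
    have h := (f ∣_ U).homeomorph.injective (a₁ := ⟨a, ha⟩) (a₂ := ⟨b, hb⟩) (Subtype.ext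
      (((morphismRestrict_base_coe f U ⟨a, ha⟩).trans hab).trans (morphismRestrict_base_coe f U ⟨b, hb⟩).symm))
    exact congrArg Subtype.val h
  have hUVf : U ≤ Vf := fun y hy => hmemVf y
    (Set.Subsingleton.finite fun a ha b hb => hinjU a b (show f a ∈ U from ha.symm ▸ hy) (ha.trans hb.symm))
  let C : Set X := (U : Set X)ᶜ
  have hC : IsClosed C := U.2.isClosed_compl
  let P : Set X := {y | ringKrullDim (X.presheaf.stalk y) ≤ 1 ∧ y ∈ C}
  have hPmax : ∀ y ∈ P, ∀ w ∈ C, w ⤳ y → w = y := fun y hy w hw hwy => by_contra fun hne =>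
    hw (mem_of_isMinPt hd (isMinPt_of_specializes hy.1 hwy hne))
  have hPfin : P.Finite := (finite_maximal hC).subset fun y hy => ⟨hy.2, hPmax y hy⟩
  haveI := hPfin.to_subtype
  have hPfib : ∀ y ∈ P, (f.base ⁻¹' {y}).Finite := fun y hy => S13532.result f U hd hd' hU y hy.1
  choose N hpN hN using fun p : P => exists_nhd_maximal hC (hPmax p.1 p.2)
  let S : P → X.Opens := fun p => ⟨(⋃ q : {q : P // q ≠ p}, closure {q.1.1})ᶜ,
    (isClosed_iUnion_of_finite fun q => isClosed_closure).isOpen_compl⟩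
  have hO : ∀ p : P, ∃ O : X.Opens, IsAffineOpen O ∧ p.1 ∈ O ∧ (O : Set X) ⊆ ↑(Vf ⊓ N p ⊓ S p) := fun p =>
    exists_isAffineOpen_mem_and_subset ⟨⟨hmemVf _ (hPfib _ p.2), hpN p⟩, fun h => by
      obtain ⟨q, hq⟩ := Set.mem_iUnion.1 h
      exact q.2 (Subtype.ext (hPmax p.1 p.2 q.1.1 q.1.2.2 (specializes_iff_mem_closure.2 hq)))⟩
  choose O hOa hpO hOsub using hO
  have hdisj : ∀ p q : P, p ≠ q → ∀ w ∈ C, w ∈ O p → w ∉ O q := fun p q hne w hwC hwp hwq =>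
    (hOsub q hwq).2 (Set.mem_iUnion.2 ⟨⟨p, hne⟩,
      specializes_iff_mem_closure.1 (hN p w (hOsub p hwp).1.2 hwC)⟩)
  let V₁ : X.Opens := U ⊔ ⨆ p, O p
  have hV₁f : V₁ ≤ Vf := sup_le hUVf (iSup_le fun p w hw => (hOsub p hw).1.1)
  let IS := Scheme.IdealSheafData.vanishingIdeal (X := (V₁ : Scheme.{u}))
    ⟨V₁.ι ⁻¹' C, hC.preimage V₁.ι.continuous⟩
  let T := IS.subscheme
  let ι : T ⟶ (V₁ : Scheme.{u}) := IS.subschemeι
  have hrange : Set.range ι = V₁.ι ⁻¹' C := by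
    rw [IS.range_subschemeι]
    exact Scheme.IdealSheafData.coe_support_vanishingIdeal _
  haveI : NoetherianSpace (V₁ : Scheme.{u}) := V₁.ι.isOpenEmbedding.isInducing.noetherianSpace
  have hTC : ∀ t : T, V₁.ι (ι t) ∈ C := fun t => hrange.le ⟨t, rfl⟩
  haveI hTaff : IsAffine T := by
    let R : P → T.Opens := fun p => ι ⁻¹ᵁ (V₁.ι ⁻¹ᵁ O p)
    have hR : ∀ p, IsAffineOpen (R p) := fun p => ((hOa p).preimage_of_isOpenImmersion V₁.ι (by
      rw [Scheme.Opens.opensRange_ι]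
      exact (le_iSup O p).trans le_sup_right)).preimage ι
    have htop : iSup R = ⊤ := top_le_iff.1 fun t _ => by
      obtain ⟨p, hp⟩ := Opens.mem_iSup.1 ((ι t).2.resolve_left (hTC t))
      exact Opens.mem_iSup.2 ⟨p, hp⟩
    have h := IsAffineOpen.iSup_of_disjoint hR fun p q hne => disjoint_iff.2 (le_bot_iff.1 fun t ht =>
      hdisj p q hne _ (hTC t) ht.1 ht.2)
    rw [htop] at h
    haveI : IsAffine ((⊤ : T.Opens) : Scheme.{u}) := h
    exact IsAffine.of_isIso T.topIso.inv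
  have hPV₁ : P ⊆ V₁ := fun p hp => Or.inr (Opens.mem_iSup.2 ⟨⟨p, hp⟩, hpO _⟩)
  -- a section of a power of `L'`
  have hZ : (f.base ⁻¹' P).Finite := hPfin.preimage' hPfib
  obtain ⟨n₁, s₁, hZs, hs₁, hA⟩ := AmpleEmb.exists_genLocus_finite hL' hZ (U := f ⁻¹ᵁ V₁)
    fun x hx => hPV₁ hx
  let A : X'.Opens := CohB1.genLocus _ s₁
  let K : Set X := f.base '' (A : Set X')ᶜ
  have hK : IsClosed K := f.isClosedMap _ A.2.isClosed_compl
  obtain ⟨g, hgK, hgP⟩ := exists_function (X := T) (isAffineOpen_top T) (C := (ι ≫ V₁.ι).base ⁻¹' K)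
    (hK.preimage (ι ≫ V₁.ι).continuous) (T := (ι ≫ V₁.ι).base ⁻¹' P)
    (hPfin.preimage ((V₁.ι.isOpenEmbedding.injective.comp ι.isClosedEmbedding.injective).injOn))
    (fun _ _ => trivial) (Set.disjoint_left.2 fun t ht htK => by
      obtain ⟨x, hxA, hx⟩ := htK
      exact hxA (hZs (show f x ∈ P from hx.symm ▸ ht)))
  let Vp : (V₁ : Scheme.{u}).Opens := ⟨(ι '' ((T.basicOpen g : Set T))ᶜ)ᶜ,
    (ι.isClosedEmbedding.isClosedMap _ (T.basicOpen g).2.isClosed_compl).isOpen_compl⟩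
  have hVp : ∀ t : T, ι t ∈ Vp ↔ t ∈ T.basicOpen g := fun t => by
    show ι t ∉ ι '' ((T.basicOpen g : Set T))ᶜ ↔ _
    rw [ι.isClosedEmbedding.injective.mem_set_image]
    exact not_not
  let V : X.Opens := V₁.ι ''ᵁ Vp
  have hVV₁ : V ≤ V₁ := (V₁.ι.image_mono le_top).trans V₁.ι_image_top.le
  have hmemV : ∀ w : (V₁ : Scheme.{u}), V₁.ι w ∈ V ↔ w ∈ Vp := fun w =>
    ⟨fun ⟨w', hw', e⟩ => V₁.ι.isOpenEmbedding.injective e ▸ hw', fun h => ⟨w, h, rfl⟩⟩
  have hUV : U ≤ V := fun y hy => (hmemV ⟨y, Or.inl hy⟩).2 fun ⟨t, _, ht⟩ => by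
    have h := hTC t
    rw [ht] at h
    exact h hy
  refine ⟨V, hUV, ?_, fun y hy => ?_, morphismRestrict_of_le' f (hVV₁.trans hV₁f) hfin, ?_⟩
  · refine ⟨(ι ⁻¹ᵁ Vp : T.Opens), (ι ∣_ Vp) ≫ (V₁.ι.isoImage Vp).hom, ?_, ?_, ?_⟩
    · haveI : IsClosedImmersion (ι ∣_ Vp) := IsZariskiLocalAtTarget.restrict (P := @IsClosedImmersion)
        (inferInstanceAs (IsClosedImmersion ι)) Vp
      infer_instance
    · have e : ι ⁻¹ᵁ Vp = T.basicOpen g := Opens.ext (Set.ext hVp)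
      rw [e]
      exact (isAffineOpen_top T).basicOpen g
    · rw [Category.assoc, range_restrict_comp, hrange]
      ext x
      constructor
      · rintro ⟨w, ⟨hwC, hwV⟩, rfl⟩
        exact ⟨(hmemV w).2 hwV, hwC⟩
      · rintro ⟨⟨w, hw, rfl⟩, hxU⟩
        exact ⟨w, ⟨hxU, hw⟩, rfl⟩
  · by_cases hyU : y ∈ U
    · exact hUV hyU
    obtain ⟨t, ht⟩ : (⟨y, hPV₁ ⟨hy, hyU⟩⟩ : (V₁ : Scheme.{u})) ∈ Set.range ι := by
      rw [hrange]
      exact hyU
    refine (hmemV ⟨y, hPV₁ ⟨hy, hyU⟩⟩).2 ?_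
    rw [← ht, hVp]
    refine hgP (show V₁.ι (ι t) ∈ P from ?_)
    rw [ht]
    exact ⟨hy, hyU⟩
  -- the function on `A`
  let r : (A : Scheme.{u}) ⟶ (V₁ : Scheme.{u}) := f.resLE V₁ A hs₁
  have hr : ∀ x, V₁.ι (r x) = f x.1 := fun x =>
    congrArg (fun φ : (A : Scheme.{u}) ⟶ X => φ x) (Scheme.Hom.resLE_comp_ι f hs₁)
  haveI : IsAffine (A : Scheme.{u}) := hA
  obtain ⟨G, hG⟩ := (IsClosedImmersion.isAffine_surjective_of_isAffine (f := pullback.snd ι r)).2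
    ((pullback.fst ι r).appTop g)
  have hGg : ∀ x : (A : Scheme.{u}), ∀ t : T, ι t = r x →
      (x ∈ (A : Scheme.{u}).basicOpen G ↔ t ∈ T.basicOpen g) := fun x t h => by
    obtain ⟨z, hz1, hz2⟩ := Scheme.Pullback.exists_preimage_pullback t x h
    have e : pullback.snd ι r ⁻¹ᵁ (A : Scheme.{u}).basicOpen G = pullback.fst ι r ⁻¹ᵁ T.basicOpen g := by
      rw [Scheme.preimage_basicOpen, Scheme.preimage_basicOpen]
      exact congrArg _ hG
    rw [← hz1, ← hz2]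
    exact iff_of_eq (congrArg (z ∈ ·) e)
  let hG' : Γ(X', A) := X'.presheaf.map (homOfLE A.ι_image_top.ge).op ((A.ι.appIso ⊤).inv G)
  obtain ⟨n₂, s₂, hs₂⟩ := exists_genLocus_eq_basicOpen hL'.1 s₁ hG'
  have hD : ∀ x : X', x ∈ X'.basicOpen hG' ↔
      ∃ hx : x ∈ A, (⟨x, hx⟩ : (A : Scheme.{u})) ∈ (A : Scheme.{u}).basicOpen G := fun x => by
    rw [Scheme.basicOpen_res, ← Scheme.image_basicOpen]
    exact ⟨fun ⟨hx, ⟨w, hw, e⟩⟩ => ⟨hx, by subst e; exact hw⟩,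
      fun ⟨hx, hw⟩ => ⟨hx, ⟨⟨x, hx⟩, hw, rfl⟩⟩⟩
  have hDV : ∀ x ∈ X'.basicOpen hG', f x ∈ V := fun x hx => by
    obtain ⟨hxA, hxG⟩ := (hD x).1 hx
    rw [← hr ⟨x, hxA⟩]
    exact (hmemV _).2 fun ⟨t, ht, e⟩ => ht ((hGg _ t e).1 hxG)
  have hVD : ∀ x, f x ∈ V → f x ∉ U → x ∈ X'.basicOpen hG' := fun x hxV hxU => by
    obtain ⟨w, hw, e⟩ := hxV
    obtain ⟨t, rfl⟩ : w ∈ Set.range ι := by
      rw [hrange]
      exact fun h => hxU ((show V₁.ι w = f x from e) ▸ (show V₁.ι w ∈ U from h))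
    have htg := (hVp t).1 hw
    have hxA : x ∈ A := by_contra fun hn => hgK t htg ⟨x, hn, e.symm⟩
    exact (hD x).2 ⟨hxA, (hGg _ t (V₁.ι.isOpenEmbedding.injective (e.trans (hr ⟨x, hxA⟩).symm))).2 htg⟩
  -- descent to `V`
  let V' : X'.Opens := f ⁻¹ᵁ V
  let fV : (V' : Scheme.{u}) ⟶ (V : Scheme.{u}) := f ∣_ V
  haveI : IsFinite fV := morphismRestrict_of_le' f (hVV₁.trans hV₁f) hfin
  haveI : NoetherianSpace (V : Scheme.{u}) := V.ι.isOpenEmbedding.isInducing.noetherianSpace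
  haveI : IsNoetherian (V : Scheme.{u}) := ⟨⟩
  haveI : NoetherianSpace (V' : Scheme.{u}) := V'.ι.isOpenEmbedding.isInducing.noetherianSpace
  let U' : (V : Scheme.{u}).Opens := V.ι ⁻¹ᵁ U
  haveI : IsIso (fV ∣_ U') := by
    refine ((MorphismProperty.isomorphisms Scheme.{u}).arrow_mk_iso_iff (morphismRestrictRestrict f V U')).2 ?_
    exact morphismRestrict_of_le' (P := MorphismProperty.isomorphisms Scheme.{u}) f (V.ι.image_preimage_le U) hU
  haveI : Surjective fV := ⟨fun z => by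
    have hd₁ : Dense (U' : Set (V : Scheme.{u})) := hd.preimage V.ι.isOpenEmbedding.isOpenMap
    have hsub : (U' : Set (V : Scheme.{u})) ⊆ Set.range fV := fun w hw => by
      obtain ⟨v, hv⟩ := (fV ∣_ U').homeomorph.surjective ⟨w, hw⟩
      exact ⟨v.1, (morphismRestrict_base_coe fV U' v).symm.trans (congrArg Subtype.val hv)⟩
    exact (fV.isClosedMap.isClosed_range.closure_subset_iff.2 hsub) (hd₁ z)⟩
  let M : (V' : Scheme.{u}).Modules := (CohB1.tensorPow L' (n₂ + 1)).restrict V'.ι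
  have hM : CohB1.IsAmple M := isAmple_restrict V'.ι ((isAmple_pow_iff hL'.1 (Nat.succ_pos _)).2 hL')
  let sM : Coh.structureModule (V' : Scheme.{u}) ⟶ M := pullS V'.ι s₂ ≫ (restrictIso V'.ι _).symm.hom
  have hsM : CohB1.genLocus M sM = V'.ι ⁻¹ᵁ X'.basicOpen hG' := by
    rw [genLocus_comp_iso, genLocus_pullS _ (isInvertible_tensorPow hL'.1 _), hs₂]
  let W : (V : Scheme.{u}).Opens :=
    ⟨(fV '' ((V'.ι ⁻¹ᵁ X'.basicOpen hG' : (V' : Scheme.{u}).Opens) : Set (V' : Scheme.{u}))ᶜ)ᶜ,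
      (fV.isClosedMap _ (V'.ι ⁻¹ᵁ X'.basicOpen hG').2.isClosed_compl).isOpen_compl⟩
  have hcompl : ∀ x : (V' : Scheme.{u}), x.1 ∉ X'.basicOpen hG' → f x.1 ∈ U := fun x hx =>
    by_contra fun hn => hx (hVD x.1 x.2 hn)
  have hfV : ∀ x : (V' : Scheme.{u}), (fV x).1 = f x.1 := fun x => morphismRestrict_base_coe f V x
  have hW : fV ⁻¹ᵁ W = V'.ι ⁻¹ᵁ X'.basicOpen hG' := by
    ext x
    constructor
    · intro hx
      by_contra hn
      exact hx ⟨x, hn, rfl⟩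
    · rintro hx ⟨v, hv, e⟩
      have e' : f v.1 = f x.1 := by rw [← hfV, ← hfV, e]
      have := hinjU v.1 x.1 (hcompl v hv) e'
      exact hv (show v.1 ∈ X'.basicOpen hG' from this.symm ▸ hx)
  have hUW : ∀ z, z ∈ U' ∨ z ∈ W := fun z => or_iff_not_imp_left.2 fun hz ⟨v, hv, e⟩ =>
    hz (show z.1 ∈ U by rw [← e, hfV]; exact hcompl v hv)
  have hWa : IsAffineOpen (fV ⁻¹ᵁ W) := by
    rw [hW]
    exact (hA.basicOpen hG').preimage_of_isOpenImmersion V'.ι (by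
      rw [Scheme.Opens.opensRange_ι]
      exact hDV)
  obtain ⟨L, hL, hθ⟩ := exists_isAmple_descend fV U' W hUW hM sM (hsM.trans hW.symm) hWa
  exact ⟨PUnit, fun _ => L, n₂ + 1, ⟨hL.2.1, quasiSeparatedSpace_of_isAmple hL, fun _ => hL.1,
    fun z => ⟨PUnit.unit, hL.2.2 z⟩⟩, Nat.succ_pos _, fun _ => hθ⟩

end Groth.Agent.S13537
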