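import Groth.Statements.S13538
import Groth.Agent.AmpleFamLib.ChowOpen
import Groth.Agent.AmpleFamLib.SmallCoh
import Groth.Agent.S13537
import Groth.Agent.SubLib.ExtendWO
import Groth.Agent.H1ZeroLib.Relative
import Groth.Agent.AmpleEmb.Resolution
import Groth.Agent.CurveLib.Inv
import Groth.Agent.ProjBundleLib.FTQuot

set_option autoImplicit false
universe u
open CategoryTheory CategoryTheory.Limits AlgebraicGeometry
open ResProp
open TopologicalSpace Groth.Agent.ParaFLib Groth.Agent.AmpleLib Groth.Agent.AmpleFamLib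
set_option linter.style.haveILetI false

namespace Groth.Agent.S13538

/-- A map on an open into a coherent module extends to a coherent extension of its source. -/
theorem exists_ext_hom {X : Scheme.{u}} [IsNoetherian X] (V : X.Opens) {N : (V : Scheme.{u}).Modules}
    (hN : Coh.IsCoh N) {M : X.Modules} (hM : Coh.IsCoh M) (φ : N ⟶ M.restrict V.ι) :
    ∃ (F : X.Modules) (ψ : F ⟶ M) (e : F.restrict V.ι ≅ N),
      Coh.IsCoh F ∧ e.inv ≫ (Scheme.Modules.restrictFunctor V.ι).map ψ = φ := by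
  let R := Scheme.Modules.restrictFunctor V.ι
  let adj := Scheme.Modules.restrictAdjunction V.ι
  let push := Scheme.Modules.pushforward V.ι
  haveI := hN.1
  haveI := hM.1
  haveI : Coh.IsQCoh (push.obj N) := QCohLib.isQCoh_pushforward N V.ι
  haveI : Coh.IsQCoh (M.restrict V.ι) := inferInstance
  haveI : Coh.IsQCoh (push.obj (R.obj M)) := QCohLib.isQCoh_pushforward (R.obj M) V.ι
  let u : M ⟶ push.obj (R.obj M) := adj.unit.app M
  let g : push.obj N ⟶ push.obj (R.obj M) := push.map φ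
  -- the fibre product
  let K := kernel (biprod.desc g (-u))
  haveI : Coh.IsQCoh (push.obj N ⊞ M) := DCohLib.isQCoh_biprod' inferInstance inferInstance
  haveI hK : Coh.IsQCoh K := H1ZeroLib.isQCoh_kernel _
  let k₁ : K ⟶ push.obj N := kernel.ι _ ≫ biprod.fst
  let k₂ : K ⟶ M := kernel.ι _ ≫ biprod.snd
  have hk : k₁ ≫ g = k₂ ≫ u := by
    have h : k₁ ≫ g + k₂ ≫ (-u) = 0 := by
      refine Eq.trans ?_ (kernel.condition (biprod.desc g (-u)))
      simp only [k₁, k₂, Category.assoc, ← Preadditive.comp_add, ← biprod.desc_eq]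
    rw [Preadditive.comp_neg, ← sub_eq_add_neg, sub_eq_zero] at h
    exact h
  haveI : IsIso (R.map u) := by
    haveI : IsIso (R.map u ≫ adj.counit.app (R.obj M)) := by
      rw [adj.left_triangle_components]
      infer_instance
    exact IsIso.of_isIso_comp_right (R.map u) (adj.counit.app (R.obj M))
  have hinv : inv (R.map u) = adj.counit.app (R.obj M) :=
    IsIso.inv_eq_of_hom_inv_id (adj.left_triangle_components M)
  haveI : PreservesLimitsOfShape WalkingParallelPair R :=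
    (CxOX.extZeroAdj V.ι).rightAdjoint_preservesLimits.preservesLimitsOfShape
  -- the map from `N`
  let n₁ : N ⟶ R.obj (push.obj N) := inv (adj.counit.app N)
  let n₂ : N ⟶ R.obj M := φ
  have hn : n₁ ≫ R.map g = n₂ ≫ R.map u := by
    rw [← cancel_mono (adj.counit.app (R.obj M)), Category.assoc, Category.assoc, adj.left_triangle_components,
      show R.map g ≫ adj.counit.app (R.obj M) = adj.counit.app N ≫ φ from adj.counit_naturality φ]
    simp [n₁, n₂, R]
  let w : N ⟶ R.obj K := kernel.lift _ (n₁ ≫ R.map biprod.inl + n₂ ≫ R.map biprod.inr) (by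
    rw [Preadditive.add_comp, Category.assoc, Category.assoc, ← R.map_comp, ← R.map_comp, biprod.inl_desc,
      biprod.inr_desc, R.map_neg, Preadditive.comp_neg, hn, add_neg_cancel]) ≫ (PreservesKernel.iso R _).inv
  have hw : w ≫ R.map (kernel.ι _) = n₁ ≫ R.map biprod.inl + n₂ ≫ R.map biprod.inr := by
    simp [w]
  have hw1 : w ≫ R.map k₁ = n₁ := by
    rw [R.map_comp, ← Category.assoc, hw, Preadditive.add_comp, Category.assoc, Category.assoc, ← R.map_comp,
      ← R.map_comp, biprod.inl_fst, biprod.inr_fst, R.map_id, R.map_zero, comp_zero, add_zero, Category.comp_id]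
  have hw2 : w ≫ R.map k₂ = φ := by
    rw [R.map_comp, ← Category.assoc, hw, Preadditive.add_comp, Category.assoc, Category.assoc, ← R.map_comp,
      ← R.map_comp, biprod.inl_snd, biprod.inr_snd, R.map_id, R.map_zero, comp_zero, zero_add, Category.comp_id]
  haveI : Mono w := by
    haveI : Mono (w ≫ R.map k₁) := by rw [hw1]; infer_instance
    exact mono_of_mono w (R.map k₁)
  obtain ⟨S, hS, hgood⟩ := SubLib.exists_good_top
    (fun x => ⟨⊤, trivial, noetherian_univ_iff.2 inferInstance⟩)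
    (SubLib.good_base (M := K) w hN.2)
  obtain ⟨F, i', e, -, hFq, hFf, he⟩ := SubLib.exists_ext_of_good w hS hgood
  refine ⟨F, i' ≫ k₂, e, ⟨hFq, hFf⟩, ?_⟩
  rw [R.map_comp, ← he, Category.assoc, e.inv_hom_id_assoc, hw2]

theorem modules_hom_ext {X : Scheme.{u}} {ι : Type u} (V : ι → X.Opens) (hV : iSup V = ⊤) {M N : X.Modules}
    {a b : M ⟶ N}
    (h : ∀ i, (Scheme.Modules.restrictFunctor (V i).ι).map a = (Scheme.Modules.restrictFunctor (V i).ι).map b) :
    a = b := by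
  ext O s
  refine TopCat.Sheaf.eq_of_locally_eq' (C := Ab.{u}) ⟨N.presheaf, N.isSheaf⟩
    (fun i => (V i).ι ''ᵁ ((V i).ι ⁻¹ᵁ O)) O (fun i => homOfLE ((V i).ι.image_preimage_le O)) (fun x hx => by
      obtain ⟨i, hi⟩ := Opens.mem_iSup.1 (hV.ge (Opens.mem_top x))
      exact Opens.mem_iSup.2 ⟨i, ⟨x, hi⟩, hx, rfl⟩) _ _ fun i => ?_
  show N.presheaf.map _ (a.app O s) = N.presheaf.map _ (b.app O s)
  refine ((ConcreteCategory.congr_hom (a.mapPresheaf.naturality _) s).symm.trans ?_).trans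
    (ConcreteCategory.congr_hom (b.mapPresheaf.naturality _) s)
  exact ConcreteCategory.congr_hom
    (congrArg (fun z : (Scheme.Modules.restrictFunctor (V i).ι).obj M ⟶ (Scheme.Modules.restrictFunctor (V i).ι).obj N =>
      z.app ((V i).ι ⁻¹ᵁ O)) (h i)) _

/-- Pullback commutes with restriction to an open of the target. -/
noncomputable def pullRestrict {X' X : Scheme.{u}} (f : X' ⟶ X) (V : X.Opens) (F : X.Modules) :
    ((Scheme.Modules.pullback f).obj F).restrict (f ⁻¹ᵁ V).ι ≅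
      (Scheme.Modules.pullback (f ∣_ V)).obj (F.restrict V.ι) :=
  restrictIso _ _ ≪≫ (Scheme.Modules.pullbackComp (f ⁻¹ᵁ V).ι f).app F ≪≫
    (Scheme.Modules.pullbackCongr (morphismRestrict_ι f V).symm).app F ≪≫
    ((Scheme.Modules.pullbackComp (f ∣_ V) V.ι).app F).symm ≪≫
    (Scheme.Modules.pullback (f ∣_ V)).mapIso (restrictIso _ _).symm

/-- The conditions on a member of an almost ample family. -/
def IsMember {X : Scheme.{u}} (F : X.Modules) (V : X.Opens) : Prop :=
  (Coh.IsCoh F ∧ (∀ y : X, ringKrullDim (X.presheaf.stalk y) ≤ 1 → y ∈ V) ∧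
    PicF.IsInvertible (F.restrict V.ι)) ∧
  ∃ (X' : Scheme.{u}) (f : X' ⟶ X) (W : X.Opens) (L' : X'.Modules), IsProper f ∧
    Dense (W : Set X) ∧ Dense ((f ⁻¹ᵁ W : X'.Opens) : Set X') ∧ IsIso (f ∣_ W) ∧ CohB1.IsAmple L' ∧
    Nonempty (CohB1.tensorMod (((Scheme.Modules.pullback f).obj F).restrict (f ⁻¹ᵁ V).ι)
      (L'.restrict (f ⁻¹ᵁ V).ι) ≅ Coh.structureModule (f ⁻¹ᵁ V : Scheme.{u}))

theorem isMember_of_dual {X X' : Scheme.{u}} (f : X' ⟶ X) [IsProper f] {W : X.Opens} (hd : Dense (W : Set X))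
    (hd' : Dense ((f ⁻¹ᵁ W : X'.Opens) : Set X')) (hiso : IsIso (f ∣_ W)) {L' : X'.Modules} (hL' : CohB1.IsAmple L')
    {V : X.Opens} (hV : ∀ y : X, ringKrullDim (X.presheaf.stalk y) ≤ 1 → y ∈ V)
    {L : (V : Scheme.{u}).Modules} {n : ℕ} (hn : 1 ≤ n)
    (θ : (Scheme.Modules.pullback (f ∣_ V)).obj L ≅ (CohB1.tensorPow L' n).restrict (f ⁻¹ᵁ V).ι)
    {F : X.Modules} (hF : Coh.IsCoh F) {N : (V : Scheme.{u}).Modules} (e : F.restrict V.ι ≅ N)
    {r : ℕ} (hr : 0 < r) (ε : CohB1.tensorMod N (CohB1.tensorPow L r) ≅ Coh.structureModule (V : Scheme.{u})) :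
    IsMember F V := by
  refine ⟨⟨hF, hV, isInvertible_of_iso e.symm (isInvertible_of_tensor_iso ε)⟩, X', f, W,
    CohB1.tensorPow (CohB1.tensorPow L' n) r, inferInstance, hd, hd', hiso,
    (isAmple_pow_iff (isInvertible_tensorPow hL'.1 n) hr).2 ((isAmple_pow_iff hL'.1 hn).2 hL'), ⟨?_⟩⟩
  exact tIso (pullRestrict f V F ≪≫ (Scheme.Modules.pullback (f ∣_ V)).mapIso e)
      (restrictPow _ _ r ≪≫ powCongr θ.symm r ≪≫ (pullPow (f ∣_ V) L r).symm) ≪≫
    (pullTensor (f ∣_ V) _ _).symm ≪≫ (Scheme.Modules.pullback (f ∣_ V)).mapIso ε ≪≫ pullO _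

theorem exists_max_iso {X' X : Scheme.{u}} (f : X' ⟶ X) :
    ∃ U : X.Opens, IsIso (f ∣_ U) ∧ ∀ W : X.Opens, IsIso (f ∣_ W) → W ≤ U := by
  let O : {W : X.Opens // IsIso (f ∣_ W)} → X.Opens := Subtype.val
  refine ⟨iSup O, ?_, fun W hW => le_iSup O ⟨W, hW⟩⟩
  refine (IsZariskiLocalAtTarget.iff_of_iSup_eq_top (P := MorphismProperty.isomorphisms Scheme.{u})
    (fun W => (iSup O).ι ⁻¹ᵁ O W) ?_).2 fun W => ?_
  · rw [← Scheme.Hom.preimage_iSup]
    exact (iSup O).ι_preimage_self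
  · refine ((MorphismProperty.isomorphisms Scheme.{u}).arrow_mk_iso_iff (morphismRestrictRestrict f _ _)).2 ?_
    exact morphismRestrict_of_le' (P := MorphismProperty.isomorphisms Scheme.{u}) f ((iSup O).ι.image_preimage_le _) W.2

/-- A scheme X separated and of finite type over a Noetherian ring admits an almost ample family:
coherent modules F_i with opens V_i covering X such that (i) each V_i contains all points of
codimension at most 1 and F_i restricted to V_i is invertible, (ii) for each i some proper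
birational X' ⟶ X carries an ample invertible module L' whose tensor product with the pullback of
F_i is trivial over the preimage of V_i (there L' is dual to the pullback of F_i), and (iii) every
coherent module on X is a quotient of a finite direct sum of positive tensor powers of the F_i. -/
theorem result (A : Type u) [CommRing A] [IsNoetherianRing A]
    (X : Scheme.{u}) (p : X ⟶ Spec (CommRingCat.of A)) [IsSeparated p] [LocallyOfFiniteType p] [QuasiCompact p] :
    ∃ (ι : Type u) (F : ι → X.Modules) (V : ι → X.Opens),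
      (∀ i, Coh.IsCoh (F i) ∧ (∀ y : X, ringKrullDim (X.presheaf.stalk y) ≤ 1 → y ∈ V i) ∧
        PicF.IsInvertible ((F i).restrict (V i).ι)) ∧
      (⨆ i, V i) = ⊤ ∧
      (∀ i, ∃ (X' : Scheme.{u}) (f : X' ⟶ X) (W : X.Opens) (L' : X'.Modules), IsProper f ∧
        Dense (W : Set X) ∧ Dense ((f ⁻¹ᵁ W : X'.Opens) : Set X') ∧ IsIso (f ∣_ W) ∧ CohB1.IsAmple L' ∧
        Nonempty (CohB1.tensorMod (((Scheme.Modules.pullback f).obj (F i)).restrict (f ⁻¹ᵁ (V i)).ι)
          (L'.restrict (f ⁻¹ᵁ (V i)).ι) ≅ Coh.structureModule (f ⁻¹ᵁ (V i) : Scheme.{u}))) ∧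
      (∀ M : X.Modules, Coh.IsCoh M → ∃ (m : ℕ) (j : Fin m → ι) (n : Fin m → ℕ)
        (π : (∐ fun t : Fin m => CohB1.tensorPow (F (j t)) (n t + 1)) ⟶ M), Epi π) := by
  classical
  haveI : IsLocallyNoetherian X := LocallyOfFiniteType.isLocallyNoetherian p
  haveI : CompactSpace X := QuasiCompact.compactSpace_of_compactSpace p
  haveI : IsNoetherian X := ⟨⟩
  -- one point at a time
  have hpt : ∀ x : X, ∃ (X' : Scheme.{u}) (f : X' ⟶ X) (W : X.Opens) (L' : X'.Modules) (V : X.Opens) (ι : Type u)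
      (L : ι → (V : Scheme.{u}).Modules) (n : ℕ), IsProper f ∧ Dense (W : Set X) ∧
      Dense ((f ⁻¹ᵁ W : X'.Opens) : Set X') ∧ IsIso (f ∣_ W) ∧ CohB1.IsAmple L' ∧ x ∈ V ∧
      (∀ y : X, ringKrullDim (X.presheaf.stalk y) ≤ 1 → y ∈ V) ∧ KSix.IsAmpleFamily L ∧ 1 ≤ n ∧
      ∀ i, Nonempty ((Scheme.Modules.pullback (f ∣_ V)).obj (L i) ≅
        (CohB1.tensorPow L' n).restrict (f ⁻¹ᵁ V).ι) := fun x => by
    obtain ⟨U₀, hxU₀, hbig⟩ := exists_affine_big x
    obtain ⟨X', f, L', hf, hiso, hdense, hL'⟩ := exists_chow_open p U₀.2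
    haveI := hf
    haveI : IsLocallyNoetherian X' := LocallyOfFiniteType.isLocallyNoetherian f
    haveI : CompactSpace X' := QuasiCompact.compactSpace_of_compactSpace f
    haveI : IsNoetherian X' := ⟨⟩
    haveI : X'.IsSeparated := ⟨by rw [← terminal.comp_from (f ≫ p)]; infer_instance⟩
    have hd : Dense (U₀.1 : Set X) := fun z => by
      obtain ⟨v, hv, hvz⟩ := exists_isMinPt z
      exact closure_mono (Set.singleton_subset_iff.2 (hbig v hv)) (specializes_iff_mem_closure.1 hvz)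
    obtain ⟨U, hU, hmax⟩ := exists_max_iso f
    have hle : U₀.1 ≤ U := hmax _ hiso
    obtain ⟨V, hUV, -, hVcod, -, ι, L, n, hL, hn, hθ⟩ := S13537.result f L' hL' U hU hmax (hd.mono hle)
      (hdense.mono (f.preimage_mono hle))
    exact ⟨X', f, U₀.1, L', V, ι, L, n, hf, hd, hdense, hiso, hL', hUV (hle hxU₀), hVcod, hL, hn, hθ⟩
  choose X' f W L' V ιL L n hf hd hd' hiso hL' hxV hVcod hL hn hθ using hpt
  obtain ⟨S, Fs, hFs, hsmall⟩ := exists_small_coh X
  haveI : ∀ x, IsNoetherian (V x : Scheme.{u}) := fun x => by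
    haveI : NoetherianSpace (V x : Scheme.{u}) := (V x).ι.isOpenEmbedding.isInducing.noetherianSpace
    exact ⟨⟩
  let idx : Type u := {q : S × X // IsMember (Fs q.1) (V q.2)}
  -- every such extension occurs in the family
  have hmem : ∀ (x : X) (i : ιL x) (F : X.Modules) (N : (V x : Scheme.{u}).Modules) (_ : Coh.IsCoh F)
      (_ : F.restrict (V x).ι ≅ N) (r : ℕ) (_ : 0 < r)
      (_ : CohB1.tensorMod N (CohB1.tensorPow (L x i) r) ≅ Coh.structureModule (V x : Scheme.{u})),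
      ∃ q : idx, q.1.2 = x ∧ Nonempty (F ≅ Fs q.1.1) := fun x i F N hF e r hr ε => by
    obtain ⟨s, ⟨es⟩⟩ := hsmall F hF
    haveI := hf x
    exact ⟨⟨(s, x), isMember_of_dual (f x) (hd x) (hd' x) (hiso x) (hL' x) (hVcod x) (hn x) (hθ x i).some
      (hFs s) ((Scheme.Modules.restrictFunctor (V x).ι).mapIso es.symm ≪≫ e) hr ε⟩, rfl, ⟨es⟩⟩
  have hstruct : Coh.IsCoh (Coh.structureModule X) := DevLib.isCoh_structureModule X
  refine ⟨idx, fun q => Fs q.1.1, fun q => V q.1.2, fun q => q.2.1, ?_, fun q => q.2.2, fun M hM => ?_⟩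
  · refine top_le_iff.1 fun x _ => ?_
    obtain ⟨i, -, -, -, -⟩ := (hL x).2.2.2 ⟨x, hxV x⟩
    obtain ⟨N, hN, ⟨ε⟩⟩ := AmpleEmb.exists_isInverseOf (isInvertible_tensorPow ((hL x).2.2.1 i) 1)
    obtain ⟨F, -, e, hF, -⟩ := exists_ext_hom (V x) (CurveLib.isCoh_of_isInvertible hN) hstruct 0
    obtain ⟨q, hq, -⟩ := hmem x i F N hF e 1 one_pos (comm _ _ ≪≫ ε)
    exact Opens.mem_iSup.2 ⟨q, show x ∈ V q.1.2 from hq.symm ▸ hxV x⟩
  obtain ⟨t, ht⟩ := isCompact_univ.elim_finite_subcover (fun x => (V x : Set X)) (fun x => (V x).2)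
    fun x _ => Set.mem_iUnion.2 ⟨x, hxV x⟩
  have hepi : ∀ x : X, ∃ (m : ℕ) (j : Fin m → idx) (ψ : ∀ a, Fs (j a).1.1 ⟶ M),
      ∀ {Z : X.Modules} (a b : M ⟶ Z), (∀ c, ψ c ≫ a = ψ c ≫ b) →
        (Scheme.Modules.restrictFunctor (V x).ι).map a = (Scheme.Modules.restrictFunctor (V x).ι).map b := fun x => by
    haveI := (hL x).1
    haveI := (hL x).2.1
    haveI : Coh.IsQCoh (M.restrict (V x).ι) := by haveI := hM.1; infer_instance
    obtain ⟨m, N, π, hπ, hN⟩ := AmpleEmb.exists_epi_sigma_negPow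
      (fun q : ιL x × ℕ => CohB1.tensorPow (L x q.1) (q.2 + 1))
      (fun q => isInvertible_tensorPow ((hL x).2.2.1 q.1) _)
      (fun z => by
        obtain ⟨i, k, s, hz, ha⟩ := (hL x).2.2.2 z
        exact ⟨(i, k), s, hz, ha⟩) (M.restrict (V x).ι) (ProjBundleLib.isCoh_restrict_open hM.1 hM.2 _).2
    choose hNinv q k hk hε using hN
    choose F φ e hF hφ using fun a => exists_ext_hom (V x) (CurveLib.isCoh_of_isInvertible (hNinv a)) hM
      (Sigma.ι N a ≫ π)
    choose j hj hes using fun a => hmem x (q a).1 (F a) (N a) (hF a) (e a) (((q a).2 + 1) * k a)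
      (Nat.mul_pos (Nat.succ_pos _) (hk a))
      (tIso (Iso.refl _) (powMul (L x (q a).1) ((q a).2 + 1) (k a)).symm ≪≫ (hε a).some)
    refine ⟨m, j, fun a => (hes a).some.inv ≫ φ a, fun {Z} a b hab => ?_⟩
    rw [← cancel_epi π]
    refine Sigma.hom_ext _ _ fun c => ?_
    have h : φ c ≫ a = φ c ≫ b := by
      have := congrArg ((hes c).some.hom ≫ ·) (hab c)
      simpa only [Category.assoc, Iso.hom_inv_id_assoc] using this
    rw [← Category.assoc, ← Category.assoc, ← hφ, Category.assoc, Category.assoc, ← Functor.map_comp,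
      ← Functor.map_comp, h]
  choose m j ψ hψ using hepi
  let I := Σ x : t, Fin (m x.1)
  let E := Fintype.equivFin I
  let J : Fin (Fintype.card I) → idx := fun a => j (E.symm a).1.1 (E.symm a).2
  refine ⟨Fintype.card I, J, fun _ => 0,
    Sigma.desc fun a => (powOne _).hom ≫ ψ (E.symm a).1.1 (E.symm a).2, ⟨fun {Z} a b hab => ?_⟩⟩
  refine modules_hom_ext (ι := {x // x ∈ t}) (fun x => V x.1) (top_le_iff.1 fun z _ => ?_)
    fun x => hψ x.1 a b fun c => ?_
  · obtain ⟨x, hx, hz⟩ := Set.mem_iUnion₂.1 (ht (Set.mem_univ z))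
    exact Opens.mem_iSup.2 ⟨⟨x, hx⟩, hz⟩
  · obtain ⟨d, hd⟩ : ∃ d : Fin (Fintype.card I), E.symm d = ⟨x, c⟩ := ⟨E ⟨x, c⟩, E.symm_apply_apply _⟩
    have h := congrArg (Sigma.ι (fun a => CohB1.tensorPow (Fs (J a).1.1) (0 + 1)) d ≫ ·) hab
    simp only [Sigma.ι_desc_assoc, Category.assoc, cancel_epi] at h
    have e : ∀ y : I, y = ⟨x, c⟩ → ψ y.1.1 y.2 ≫ a = ψ y.1.1 y.2 ≫ b → ψ x.1 c ≫ a = ψ x.1 c ≫ b := by
      rintro _ rfl h
      exact h
    exact e _ hd h

end Groth.Agent.S13538
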