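import Groth.Statements.S13539
import Groth.Agent.AlterAmpleLib.Glue
-- import your own Groth.Agent.* helpers here

set_option autoImplicit false
universe u
open CategoryTheory CategoryTheory.Limits AlgebraicGeometry
open ResProp

namespace Groth.Agent.S13539

/-- Let X and Y be d-dimensional schemes proper over a Noetherian ring A and f : Y ⟶ X an alteration
over A (proper, surjective, and finite over a dense open of X whose preimage is dense in Y). Then a
sequence (E_n) of coherent modules on X is cohomologically (d-1)-ample (for every coherent F, H^i(X,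
F ⊗ E_n) = 0 for all i ≥ d and all large n) if and only if the sequence of pullbacks (f^*E_n) is
cohomologically (d-1)-ample on Y. -/
theorem result (A : Type u) [CommRing A] [IsNoetherianRing A]
    {X Y : Scheme.{u}} (pX : X ⟶ Spec (CommRingCat.of A)) (pY : Y ⟶ Spec (CommRingCat.of A))
    [IsProper pX] [IsProper pY] (f : Y ⟶ X) (hf : f ≫ pX = pY) [IsProper f] [Surjective f]
    (U : X.Opens) (hU : Dense (U : Set X)) (hU' : Dense ((f ⁻¹ᵁ U : Y.Opens) : Set Y)) (hfin : IsFinite (f ∣_ U))
    (d : ℕ) (hX : topologicalKrullDim X = d) (hY : topologicalKrullDim Y = d)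
    (E : ℕ → X.Modules) (hE : ∀ n, Coh.IsCoh (E n)) :
    (∀ F : X.Modules, Coh.IsCoh F → ∃ n₀ : ℕ, ∀ n : ℕ, n₀ ≤ n → ∀ i : ℕ, d ≤ i →
        Subsingleton (Coh.HH X (CohB1.tensorMod F (E n)) i)) ↔
    (∀ F : Y.Modules, Coh.IsCoh F → ∃ n₀ : ℕ, ∀ n : ℕ, n₀ ≤ n → ∀ i : ℕ, d ≤ i →
        Subsingleton (Coh.HH Y (CohB1.tensorMod F ((Scheme.Modules.pullback f).obj (E n))) i)) := by
  have key := Groth.Agent.AlterAmpleLib.amp_iff A pX pY f U hU hU' hfin d hX hY E hE
  constructor
  · intro h F hF
    obtain ⟨n₀, hn₀⟩ := key.1 (fun F' hF' => (h F' hF').imp fun n₀ hn n hle => hn n hle d le_rfl) F hF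
    exact ⟨n₀, fun n hn i hi => (lt_or_eq_of_le hi).elim
      (fun hlt => by
        haveI : IsLocallyNoetherian Y := LocallyOfFiniteType.isLocallyNoetherian pY
        haveI : CompactSpace Y := QuasiCompact.compactSpace_of_compactSpace pY
        haveI : IsNoetherian Y := ⟨⟩
        exact Groth.Agent.CurveLib.subsingleton_HH_of_dim _ hY.le hlt)
      fun e => e ▸ hn₀ n hn⟩
  · intro h F hF
    obtain ⟨n₀, hn₀⟩ := key.2 (fun F' hF' => (h F' hF').imp fun n₀ hn n hle => hn n hle d le_rfl) F hF
    exact ⟨n₀, fun n hn i hi => (lt_or_eq_of_le hi).elim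
      (fun hlt => by
        haveI : IsLocallyNoetherian X := LocallyOfFiniteType.isLocallyNoetherian pX
        haveI : CompactSpace X := QuasiCompact.compactSpace_of_compactSpace pX
        haveI : IsNoetherian X := ⟨⟩
        exact Groth.Agent.CurveLib.subsingleton_HH_of_dim _ hX.le hlt)
      fun e => e ▸ hn₀ n hn⟩

end Groth.Agent.S13539
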