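import Groth.Statements.S13540
import Groth.Agent.AmpleFamLib.TopVanPush
import Groth.Agent.S13538
import Groth.Agent.S13532
import Groth.Agent.S10860
import Groth.Agent.ModTensor.Basic

set_option autoImplicit false
universe u
open CategoryTheory CategoryTheory.Limits AlgebraicGeometry
open ResProp
open TopologicalSpace Groth.Agent.PullbackMod Groth.Agent.DCohLib Groth.Agent.AmpleFamLib
set_option linter.style.haveILetI false
set_option maxHeartbeats 1000000

namespace Groth.Agent.S13540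


theorem stalk_bijective_of_iso {X : Scheme.{u}} {M N : X.Modules} (φ : M ⟶ N) [IsIso φ] (y : X) :
    Function.Bijective (stalkLin φ y) :=
  (isIso_iff_stalk φ).1 inferInstance y

theorem bijective_comp_iff_left {X : Scheme.{u}} {A B C : X.Modules} (a : A ⟶ B) (b : B ⟶ C) (y : X)
    (h : Function.Bijective (stalkLin b y)) :
    Function.Bijective (stalkLin (a ≫ b) y) ↔ Function.Bijective (stalkLin a y) := by
  rw [stalkLin_comp, LinearMap.coe_comp]
  exact Function.Bijective.of_comp_iff' h _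

theorem injective_restrict {X : Scheme.{u}} {U : X.Opens} {M N : X.Modules} (φ : M ⟶ N) (y : (U : Scheme.{u}))
    (h : Function.Injective (stalkLin ((Scheme.Modules.restrictFunctor U.ι).map φ) y)) :
    Function.Injective (stalkLin φ (U.ι y)) := by
  intro a b hab
  let eM := ((Scheme.Modules.restrictStalkNatIso U.ι y).app M).addCommGroupIsoToAddEquiv
  let eN := ((Scheme.Modules.restrictStalkNatIso U.ι y).app N).addCommGroupIsoToAddEquiv
  obtain ⟨a, rfl⟩ := eM.surjective a
  obtain ⟨b, rfl⟩ := eM.surjective b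
  refine congrArg eM (h (eN.injective ?_))
  exact (restrict_stalk_natural φ y a).trans (hab.trans (restrict_stalk_natural φ y b).symm)

theorem injective_restrict' {X : Scheme.{u}} {U : X.Opens} {M N : X.Modules} (φ : M ⟶ N) (y : (U : Scheme.{u}))
    (h : Function.Injective (stalkLin φ (U.ι y))) :
    Function.Injective (stalkLin ((Scheme.Modules.restrictFunctor U.ι).map φ) y) := by
  intro a b hab
  let eM := ((Scheme.Modules.restrictStalkNatIso U.ι y).app M).addCommGroupIsoToAddEquiv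
  let eN := ((Scheme.Modules.restrictStalkNatIso U.ι y).app N).addCommGroupIsoToAddEquiv
  refine eM.injective (h ?_)
  exact ((restrict_stalk_natural φ y a).symm.trans (congrArg eN hab)).trans
    (restrict_stalk_natural φ y b)

/-- A map on a large open, injective on a dense open and surjective, transfers vanishing in the top degree. -/
theorem subsingleton_of_hom_on_open {X : Scheme.{u}} [IsNoetherian X] {d : ℕ} (hd : 1 ≤ d)
    (hX : topologicalKrullDim X ≤ d) {V W : X.Opens} (hWV : W ≤ V)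
    (hV : ∀ x ∉ V, (2 : WithBot ℕ∞) ≤ ringKrullDim (X.presheaf.stalk x))
    (hW : ∀ x ∉ W, (1 : WithBot ℕ∞) ≤ ringKrullDim (X.presheaf.stalk x))
    {A B : X.Modules} (hA : Coh.IsCoh A) (hB : Coh.IsCoh B) (φ : A.restrict V.ι ⟶ B.restrict V.ι) (hφ : Epi φ)
    (hinj : ∀ z : (V : Scheme.{u}), V.ι z ∈ W → Function.Injective (stalkLin φ z))
    (hB0 : Subsingleton (Coh.HH X B d)) : Subsingleton (Coh.HH X A d) := by
  let R := Scheme.Modules.restrictFunctor V.ι
  haveI := hA.1
  haveI := hB.1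
  have hAB : Coh.IsCoh (A ⊞ B) := DevLib.isCoh_biprod hA hB
  obtain ⟨G, ψ, e, hG, hψ⟩ := S13538.exists_ext_hom V (ProjBundleLib.isCoh_restrict_open hA.1 hA.2 V) hAB
    (R.map biprod.inl + φ ≫ R.map biprod.inr)
  have hRψ : R.map ψ = e.hom ≫ (R.map biprod.inl + φ ≫ R.map biprod.inr) := (Iso.inv_comp_eq e).1 hψ
  have h1 : R.map (ψ ≫ biprod.fst) = e.hom := by
    rw [R.map_comp, hRψ, Category.assoc, Preadditive.add_comp, Category.assoc, ← R.map_comp, ← R.map_comp,
      biprod.inl_fst, biprod.inr_fst, R.map_id, R.map_zero, comp_zero, add_zero]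
    exact Category.comp_id _
  have h2 : R.map (ψ ≫ biprod.snd) = e.hom ≫ φ := by
    rw [R.map_comp, hRψ, Category.assoc, Preadditive.add_comp, Category.assoc, ← R.map_comp, ← R.map_comp,
      biprod.inl_snd, biprod.inr_snd, R.map_id, R.map_zero, zero_add]
    exact congrArg (e.hom ≫ ·) (Category.comp_id _)
  have hbij : ∀ y ∈ V, Function.Bijective (stalkLin (ψ ≫ biprod.fst) y) := fun y hy =>
    bijective_stalk_of_isIso_restrict _ V (show IsIso (R.map _) by rw [h1]; infer_instance) hy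
  have hsurj : ∀ y ∈ V, Function.Surjective (stalkLin (ψ ≫ biprod.snd) y) := fun y hy => by
    refine (surjective_stalkLin_restrict V.ι _ (⟨y, hy⟩ : (V : Scheme.{u}))).1 ?_
    haveI : Epi (R.map (ψ ≫ biprod.snd)) := by rw [h2]; exact @epi_comp _ _ _ _ _ _ inferInstance _ hφ
    exact (epi_iff_stalk _).1 inferInstance _
  have hinj' : ∀ y ∈ W, Function.Injective (stalkLin (ψ ≫ biprod.snd) y) := fun y hy => by
    refine injective_restrict (U := V) _ (⟨y, hWV hy⟩ : (V : Scheme.{u})) ?_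
    show Function.Injective (stalkLin (R.map (ψ ≫ biprod.snd)) _)
    rw [h2]
    erw [stalkLin_comp]
    exact (hinj _ hy).comp (stalk_bijective_of_iso e.hom _).1
  obtain ⟨j, rfl⟩ : ∃ j, d = j + 1 := ⟨d - 1, by omega⟩
  have hG0 : Subsingleton (Coh.HH X G (j + 1)) := subsingleton_HH_source (ψ ≫ biprod.snd) j hB0
    (subsingleton_HH_of_codim W.2.isClosed_compl (m := 1) hX hW
      (support_kernel_subset_of_injective _ _ hinj') (by omega))
    (subsingleton_HH_of_codim V.2.isClosed_compl (m := 2) hX hV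
      (support_cokernel_subset_of_surjective _ _ hsurj) (by omega))
  exact subsingleton_HH_target (ψ ≫ biprod.fst) (j + 1) hG0
    (subsingleton_HH_of_codim V.2.isClosed_compl (m := 2) hX hV
      (support_kernel_subset_of_injective _ _ fun y hy => (hbij y hy).1) (by omega))
    (subsingleton_HH_of_codim V.2.isClosed_compl (m := 2) hX hV
      (support_cokernel_subset_of_surjective _ _ fun y hy => (hbij y hy).2) (by omega))

/-- The same, for a global map followed by an isomorphism on the open. -/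
theorem subsingleton_of_comparison {X : Scheme.{u}} [IsNoetherian X] {d : ℕ} (hd : 1 ≤ d)
    (hX : topologicalKrullDim X ≤ d) {V W : X.Opens} (hWV : W ≤ V)
    (hV : ∀ x ∉ V, (2 : WithBot ℕ∞) ≤ ringKrullDim (X.presheaf.stalk x))
    (hW : ∀ x ∉ W, (1 : WithBot ℕ∞) ≤ ringKrullDim (X.presheaf.stalk x))
    {A B' B : X.Modules} (hA : Coh.IsCoh A) (hB : Coh.IsCoh B) (α : A ⟶ B')
    (β : (Scheme.Modules.restrictFunctor V.ι).obj B' ≅ (Scheme.Modules.restrictFunctor V.ι).obj B)
    (hepi : Epi ((Scheme.Modules.restrictFunctor V.ι).map α))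
    (hinj : ∀ y ∈ W, Function.Injective (stalkLin α y))
    (hB0 : Subsingleton (Coh.HH X B d)) : Subsingleton (Coh.HH X A d) :=
  subsingleton_of_hom_on_open hd hX hWV hV hW hA hB ((Scheme.Modules.restrictFunctor V.ι).map α ≫ β.hom)
    (@epi_comp _ _ _ _ _ _ hepi _ inferInstance) (fun z hz => by
      rw [stalkLin_comp]
      exact (stalk_bijective_of_iso β.hom z).1.comp (injective_restrict' _ z (hinj _ hz))) hB0

theorem isInvertible_restrict_le {X : Scheme.{u}} {M : X.Modules} {W V : X.Opens} (h : W ≤ V)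
    (hM : PicF.IsInvertible (M.restrict V.ι)) : PicF.IsInvertible (M.restrict W.ι) :=
  ParaFLib.isInvertible_of_iso ((ParaFLib.restrictComp (X.homOfLE h) V.ι M).symm ≪≫
    ParaFLib.restrictCongr (X.homOfLE_ι h) M) (ParaFLib.isInvertible_restrict _ hM)

theorem isInvertible_of_pullback {Z Z' : Scheme.{u}} (g : Z' ⟶ Z) [IsIso g] (N : Z.Modules)
    (h : PicF.IsInvertible ((Scheme.Modules.pullback g).obj N)) : PicF.IsInvertible N :=
  ParaFLib.isInvertible_of_iso ((Scheme.Modules.pullbackComp (inv g) g).app N ≪≫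
    (Scheme.Modules.pullbackCongr (IsIso.inv_hom_id g)).app N ≪≫ (Scheme.Modules.pullbackId Z).app N)
    (AmpleLib.isInvertible_pullback (inv g) h)

theorem exists_free_nhd {X : Scheme.{u}} {M : X.Modules} {W : X.Opens} (h : PicF.IsInvertible (M.restrict W.ι))
    {y : X} (hy : y ∈ W) : ∃ O : X.Opens, y ∈ O ∧
      Nonempty ((Scheme.Modules.restrictFunctor O.ι).obj M ≅ FlatMod.freeMod (O : Scheme.{u}) 1) := by
  obtain ⟨O₂, hy₂, ⟨e⟩⟩ := h ⟨y, hy⟩
  let j := (W.ι.isoImage O₂).inv
  refine ⟨W.ι ''ᵁ O₂, ⟨⟨y, hy⟩, hy₂, rfl⟩, ⟨ParaFLib.restrictCongr (W.ι.isoImage_inv_ι O₂).symm M ≪≫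
    ParaFLib.restrictComp j (O₂.ι ≫ W.ι) M ≪≫
    (Scheme.Modules.restrictFunctor j).mapIso (ParaFLib.restrictComp O₂.ι W.ι M ≪≫ e) ≪≫ DCohLib.restrictUnit j ≪≫
    (coproductUniqueIso fun _ : Fin 1 => Coh.structureModule (↑(W.ι ''ᵁ O₂) : Scheme.{u})).symm⟩⟩

theorem isCoh_tensorPow {X : Scheme.{u}} [IsLocallyNoetherian X] {F : X.Modules} (hF : Coh.IsCoh F) :
    ∀ n, Coh.IsCoh (CohB1.tensorPow F n)
  | 0 => DevLib.isCoh_structureModule X
  | n + 1 => CurveLib.isCoh_tmod (isCoh_tensorPow hF n) hF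

theorem isMinPt_of_dim {X : Scheme.{u}} {y : X} (hy : ringKrullDim (X.presheaf.stalk y) ≤ 0) : IsMinPt y := by
  letI := specializationPreorder X
  rw [ringKrullDim_stalk_eq_coheight] at hy
  have h0 : Order.coheight y = 0 := nonpos_iff_eq_zero.1 (by exact_mod_cast hy)
  intro w hw
  exact (Specializes.antisymm hw (Order.coheight_eq_zero.1 h0 hw)).eq

theorem chain {X Y : Scheme.{u}} [IsNoetherian X] [IsNoetherian Y] (f : Y ⟶ X) [IsProper f] (W : X.Opens)
    [IsIso (f ∣_ W)] {G : X.Modules} (hG : Coh.IsCoh G) :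
    ∃ (I G₁ Im : X.Modules) (v : G₁ ⟶ G) (a : G₁ ⟶ Im)
      (w : tmod ((Scheme.Modules.pushforward f).obj ((Scheme.Modules.pullback f).obj G)) I ⟶ Im),
      Coh.IsCoh I ∧ PicF.IsInvertible (I.restrict W.ι) ∧ Epi a ∧
        (∀ y ∈ W, Function.Bijective (stalkLin v y)) ∧ (∀ y ∈ W, Function.Bijective (stalkLin a y)) ∧
          ∀ y ∈ W, Function.Bijective (stalkLin w y) := by
  let R := Scheme.Modules.restrictFunctor W.ι
  let H : Y.Modules := (Scheme.Modules.pullback f).obj G
  have hH : Coh.IsCoh H := PullbackMod.isCoh_pullback f G hG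
  let Q : X.Modules := (Scheme.Modules.pushforward f).obj H
  haveI := hH.1
  have hQ : Coh.IsCoh Q := RpushLib.isCoh_push f hH
  haveI := StalkHomLib.isIso_unit_of_isIso (f ∣_ W) (R.obj G)
  let eW : R.obj Q ≅ R.obj G := (restrictPushIso f W).app H ≪≫
    (Scheme.Modules.pushforward (f ∣_ W)).mapIso
      ((pullResIso f W).app G ≪≫ (AmpleLib.restrictIso (f ∣_ W) (R.obj G)).symm) ≪≫
    (asIso ((Scheme.Modules.restrictAdjunction (f ∣_ W)).unit.app (R.obj G))).symm
  -- `G₁` maps to `G` and to `f_* H`, both isomorphisms over `W`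
  obtain ⟨G₁, ψ, e, hG₁, hψ⟩ := S13538.exists_ext_hom W (ProjBundleLib.isCoh_restrict_open hG.1 hG.2 W)
    (DevLib.isCoh_biprod hG hQ) (R.map biprod.inl + eW.inv ≫ R.map biprod.inr)
  have hRψ : R.map ψ = e.hom ≫ (R.map biprod.inl + eW.inv ≫ R.map biprod.inr) := (Iso.inv_comp_eq e).1 hψ
  let v : G₁ ⟶ G := ψ ≫ biprod.fst
  let u : G₁ ⟶ Q := ψ ≫ biprod.snd
  have hv : R.map v = e.hom := by
    rw [R.map_comp, hRψ, Category.assoc, Preadditive.add_comp, Category.assoc, ← R.map_comp, ← R.map_comp,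
      biprod.inl_fst, biprod.inr_fst, R.map_id, R.map_zero, comp_zero, add_zero]
    exact Category.comp_id _
  have hu : R.map u = e.hom ≫ eW.inv := by
    rw [R.map_comp, hRψ, Category.assoc, Preadditive.add_comp, Category.assoc, ← R.map_comp, ← R.map_comp,
      biprod.inl_snd, biprod.inr_snd, R.map_id, R.map_zero, zero_add]
    exact congrArg (e.hom ≫ ·) (Category.comp_id _)
  have hvb : ∀ y ∈ W, Function.Bijective (stalkLin v y) := fun y hy =>
    bijective_stalk_of_isIso_restrict _ W (show IsIso (R.map v) by rw [hv]; infer_instance) hy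
  have hub : ∀ y ∈ W, Function.Bijective (stalkLin u y) := fun y hy =>
    bijective_stalk_of_isIso_restrict _ W (show IsIso (R.map u) by rw [hu]; infer_instance) hy
  -- the image of `u` and the ideal killing the cokernel
  have hC : Coh.IsCoh (cokernel u) := (QCohLib.isCoh_kernel_cokernel u hG₁ hQ).2
  haveI := hC.1
  let J := ClSubLib.annIdeal (cokernel u) hC.2
  let I := ClSub.idealMod J
  let i := ClSub.idealModι J
  have hI : Coh.IsCoh I := RefOne.isCoh_idealMod J
  have hCW : CohB1.support (cokernel u) ⊆ (W : Set X)ᶜ :=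
    support_cokernel_subset_of_surjective u _ fun y hy => (hub y hy).2
  haveI : Mono i := inferInstanceAs (Mono (kernel.ι _))
  have hib : ∀ y ∈ W, Function.Bijective (stalkLin i y) := fun y hy => by
    refine ⟨(mono_iff_stalk i).1 inferInstance y, fun b => ?_⟩
    obtain ⟨r, rfl⟩ := (ParaFLib.bijective_oneG y).2 b
    refine (HilbObsLib.mem_range_idealModι J y r).2 ?_
    rw [HilbObsLib.stalkIdeal_eq_top J fun hmem => hCW ((ClSubLib.range_annIdeal _ _).le hmem) hy]
    trivial
  let T := DCoh.tensorBi (X := X)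
  let ρ := Groth.Agent.ModTensor.tensorUnitRight X.sheaf
  let w₀ : tmod Q I ⟶ Q := (T.obj Q).map i ≫ (ρ.app Q).hom
  have hw₀ : w₀ ≫ cokernel.π u = 0 := by
    have h1 : (T.map (cokernel.π u)).app _ ≫ (ρ.app (cokernel u)).hom = (ρ.app Q).hom ≫ cokernel.π u :=
      ρ.hom.naturality (cokernel.π u)
    have h2 : (T.obj Q).map i ≫ (T.map (cokernel.π u)).app _ =
        (T.map (cokernel.π u)).app _ ≫ (T.obj (cokernel u)).map i := (T.map (cokernel.π u)).naturality i
    exact (Category.assoc _ _ _).trans (((congrArg ((T.obj Q).map i ≫ ·) h1).symm).trans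
      ((Category.assoc _ _ _).symm.trans ((congrArg (· ≫ _) (h2.trans
        (by rw [tensor_annIdeal_eq_zero]; exact comp_zero))).trans zero_comp)))
  let w : tmod Q I ⟶ Abelian.image u := kernel.lift _ w₀ hw₀
  have hιb : ∀ y ∈ W, Function.Bijective (stalkLin (Abelian.image.ι u) y) := fun y hy => by
    refine ⟨(mono_iff_stalk _).1 inferInstance y, fun b => ?_⟩
    obtain ⟨a, rfl⟩ := (hub y hy).2 b
    refine ⟨stalkLin (Abelian.factorThruImage u) y a, ?_⟩
    rw [← LinearMap.comp_apply, ← stalkLin_comp, Abelian.image.fac]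
  have hab : ∀ y ∈ W, Function.Bijective (stalkLin (Abelian.factorThruImage u) y) := fun y hy =>
    (bijective_comp_iff_left _ (Abelian.image.ι u) y (hιb y hy)).1 (by rw [Abelian.image.fac]; exact hub y hy)
  have hwb : ∀ y ∈ W, Function.Bijective (stalkLin w y) := fun y hy => by
    refine (bijective_comp_iff_left w (Abelian.image.ι u) y (hιb y hy)).1 ?_
    rw [show w ≫ Abelian.image.ι u = w₀ from kernel.lift_ι _ _ _]
    exact (bijective_comp_iff_left ((T.obj Q).map i) (ρ.app Q).hom y (@stalk_bijective_of_iso _ _ _ (ρ.app Q).hom (Iso.isIso_hom _) y)).2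
      (bijective_stalk_tensor_right i Q (hib y hy))
  haveI hiI : IsIso (R.map i) := isIso_restrict_of_bijective i W hib
  exact ⟨I, G₁, Abelian.image u, v, Abelian.factorThruImage u, w, hI,
    ParaFLib.isInvertible_of_iso (asIso (R.map i) ≪≫ DCohLib.restrictUnit W.ι).symm
      ParaFLib.isInvertible_structureModule, inferInstance, hvb, hab, hwb⟩

theorem finish {X : Scheme.{u}} [IsNoetherian X] {d : ℕ} (hd : 1 ≤ d)
    (hXd : topologicalKrullDim X ≤ (d : WithBot ℕ∞)) {W : X.Opens}
    (hW : ∀ x ∉ W, (1 : WithBot ℕ∞) ≤ ringKrullDim (X.presheaf.stalk x))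
    {G Q I G₁ Im Tn : X.Modules} (v : G₁ ⟶ G) (a : G₁ ⟶ Im) [Epi a] (w : tmod Q I ⟶ Im)
    (hvb : ∀ y ∈ W, Function.Bijective (stalkLin v y)) (hab : ∀ y ∈ W, Function.Bijective (stalkLin a y))
    (hwb : ∀ y ∈ W, Function.Bijective (stalkLin w y))
    (hA' : Subsingleton (Coh.HH X (tmod (tmod Q I) Tn) d)) :
    Subsingleton (Coh.HH X (CohB1.tensorMod G Tn) d) := by
  let T := DCoh.tensorBi (X := X)
  obtain ⟨j, rfl⟩ : ∃ j, d = j + 1 := ⟨d - 1, by omega⟩
  have hsmall : ∀ {A' B' : X.Modules} (α : A' ⟶ B'), (∀ y ∈ W, Function.Bijective (stalkLin α y)) →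
      (∀ p, j + 1 ≤ p → Subsingleton (Coh.HH X (kernel α) p)) ∧
        ∀ p, j + 1 ≤ p → Subsingleton (Coh.HH X (cokernel α) p) := fun α h =>
    ⟨fun p hp => subsingleton_HH_of_codim W.2.isClosed_compl (m := 1) hXd hW
      (support_kernel_subset_of_injective _ _ fun y hy => (h y hy).1) (by omega),
    fun p hp => subsingleton_HH_of_codim W.2.isClosed_compl (m := 1) hXd hW
      (support_cokernel_subset_of_surjective _ _ fun y hy => (h y hy).2) (by omega)⟩
  have hw' := hsmall ((T.map w).app Tn) fun y hy => bijective_stalk_tensor_left w Tn (hwb y hy)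
  have hIm : Subsingleton (Coh.HH X ((T.obj (Im)).obj Tn) (j + 1)) :=
    subsingleton_HH_target ((T.map w).app Tn) (j + 1) hA' (hw'.1 _ (by omega)) (hw'.2 _ le_rfl)
  haveI : Epi ((T.map a).app Tn) := DCohMore.epi_tmod_left _ _
  have ha' := hsmall ((T.map a).app Tn) fun y hy =>
    bijective_stalk_tensor_left _ Tn (hab y hy)
  have hG₁0 : Subsingleton (Coh.HH X ((T.obj G₁).obj Tn) (j + 1)) :=
    subsingleton_HH_source ((T.map a).app Tn) j hIm (ha'.1 _ le_rfl)
      (subsingleton_HH_of_isZero (isZero_cokernel_of_epi _) j)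
  have hv' := hsmall ((T.map v).app Tn) fun y hy => bijective_stalk_tensor_left v Tn (hvb y hy)
  exact subsingleton_HH_target ((T.map v).app Tn) (j + 1) hG₁0 (hv'.1 _ (by omega)) (hv'.2 _ le_rfl)


/-- The twisted comparison over the open where `f^*F` is `L`. -/
noncomputable def betaIso {X Y : Scheme.{u}} (f : Y ⟶ X) {V₀ V : X.Opens} (hle : V₀ ≤ V) {F : X.Modules}
    {L : Y.Modules} (θ : ((Scheme.Modules.pullback f).obj F).restrict (f ⁻¹ᵁ V).ι ≅ L.restrict (f ⁻¹ᵁ V).ι)
    (H : Y.Modules) (I : X.Modules) (n : ℕ) :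
    (CohB1.tensorMod H ((Scheme.Modules.pullback f).obj (CohB1.tensorMod I (CohB1.tensorPow F n)))).restrict
        (f ⁻¹ᵁ V₀).ι ≅
      (CohB1.tensorMod (CohB1.tensorMod H ((Scheme.Modules.pullback f).obj I)) (CohB1.tensorPow L n)).restrict
        (f ⁻¹ᵁ V₀).ι :=
  let φ := Y.homOfLE (f.preimage_mono hle)
  let θ₀ : ((Scheme.Modules.pullback f).obj F).restrict (f ⁻¹ᵁ V₀).ι ≅ L.restrict (f ⁻¹ᵁ V₀).ι :=
    ParaFLib.restrictCongr (Y.homOfLE_ι (f.preimage_mono hle)).symm _ ≪≫ ParaFLib.restrictComp φ (f ⁻¹ᵁ V).ι _ ≪≫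
      (Scheme.Modules.restrictFunctor φ).mapIso θ ≪≫ (ParaFLib.restrictComp φ (f ⁻¹ᵁ V).ι _).symm ≪≫
      ParaFLib.restrictCongr (Y.homOfLE_ι (f.preimage_mono hle)) _
  (Scheme.Modules.restrictFunctor (f ⁻¹ᵁ V₀).ι).mapIso
      (AmpleLib.tIso (Iso.refl H) (AmpleLib.pullTensor f I (CohB1.tensorPow F n) ≪≫
        AmpleLib.tIso (Iso.refl _) (AmpleLib.pullPow f F n)) ≪≫ (AmpleLib.assoc H _ _).symm) ≪≫
    AmpleLib.restrictTensor _ _ _ ≪≫ AmpleLib.tIso (Iso.refl _)
      (AmpleLib.restrictPow _ _ n ≪≫ AmpleLib.powCongr θ₀ n ≪≫ (AmpleLib.restrictPow _ _ n).symm) ≪≫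
    (AmpleLib.restrictTensor _ _ _).symm

/-- Let f : Y ⟶ X be a proper birational morphism (an isomorphism over a dense open with dense preimage)
of d-dimensional schemes proper over a Noetherian ring A, with Y carrying an ample invertible module
L. If a coherent module F on X pulls back to a module isomorphic to L over the preimage of an open V
of X containing all points of codimension at most 1, then F is cohomologically (d-1)-ample: for
every coherent G on X the groups H^i(X, G ⊗ F^n) (tensor powers) vanish for all i ≥ d and all large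
n. Here d ≥ 1: for d = 0 the vanishing would include degree 0 and fails when X = Y is the spectrum
of a field and F = L is the structure sheaf; (d-1)-ampleness presupposes d ≥ 1. -/
theorem result (A : Type u) [CommRing A] [IsNoetherianRing A]
    {X Y : Scheme.{u}} (pX : X ⟶ Spec (CommRingCat.of A)) (pY : Y ⟶ Spec (CommRingCat.of A))
    [IsProper pX] [IsProper pY] (f : Y ⟶ X) (hf : f ≫ pX = pY) [IsProper f]
    (U : X.Opens) (hU : Dense (U : Set X)) (hU' : Dense ((f ⁻¹ᵁ U : Y.Opens) : Set Y)) (hiso : IsIso (f ∣_ U))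
    (d : ℕ) (hd : 1 ≤ d) (hX : topologicalKrullDim X = d) (hY : topologicalKrullDim Y = d)
    (L : Y.Modules) (hL : CohB1.IsAmple L)
    (V : X.Opens) (hV : ∀ y : X, ringKrullDim (X.presheaf.stalk y) ≤ 1 → y ∈ V)
    (F : X.Modules) (hF : Coh.IsCoh F)
    (hFL : Nonempty (((Scheme.Modules.pullback f).obj F).restrict (f ⁻¹ᵁ V).ι ≅ L.restrict (f ⁻¹ᵁ V).ι)) :
    ∀ G : X.Modules, Coh.IsCoh G → ∃ n₀ : ℕ, ∀ n : ℕ, n₀ ≤ n → ∀ i : ℕ, d ≤ i →
      Subsingleton (Coh.HH X (CohB1.tensorMod G (CohB1.tensorPow F n)) i) := by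
  classical
  haveI : IsLocallyNoetherian X := LocallyOfFiniteType.isLocallyNoetherian pX
  haveI : CompactSpace X := QuasiCompact.compactSpace_of_compactSpace pX
  haveI : IsNoetherian X := ⟨⟩
  haveI : IsLocallyNoetherian Y := LocallyOfFiniteType.isLocallyNoetherian pY
  haveI : CompactSpace Y := QuasiCompact.compactSpace_of_compactSpace pY
  have hXd : topologicalKrullDim X ≤ (d : WithBot ℕ∞) := hX.le
  intro G hG
  obtain ⟨Vf, hVf, hfin⟩ := S10860.result f
  let V₀ : X.Opens := V ⊓ Vf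
  have hV₀ : ∀ x ∉ V₀, (2 : WithBot ℕ∞) ≤ ringKrullDim (X.presheaf.stalk x) := fun x hx => by
    by_contra h
    have h1 : ringKrullDim (X.presheaf.stalk x) ≤ 1 := by
      rw [ringKrullDim_stalk_eq_coheight] at h ⊢
      exact WithBot.coe_le_coe.2 (Order.le_of_lt_add_one (lt_of_not_ge fun h2 => h (WithBot.coe_le_coe.2 (by rwa [one_add_one_eq_two] at h2))))
    exact hx ⟨hV x h1, hVf.ge (S13532.result f U hU hU' hiso x h1)⟩
  let W : X.Opens := U ⊓ V₀
  have hW : ∀ x ∉ W, (1 : WithBot ℕ∞) ≤ ringKrullDim (X.presheaf.stalk x) := fun x hx => by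
    by_contra h
    have h0 : ringKrullDim (X.presheaf.stalk x) ≤ 0 := by
      rw [ringKrullDim_stalk_eq_coheight] at h ⊢
      exact WithBot.coe_le_coe.2 (ENat.lt_one_iff_eq_zero.1 (lt_of_not_ge fun h2 => h (WithBot.coe_le_coe.2 h2))).le
    exact hx ⟨S13537.mem_of_isMinPt hU (isMinPt_of_dim h0), by_contra fun hc =>
      absurd ((hV₀ x hc).trans h0) (by decide)⟩
  have hWU : W ≤ U := inf_le_left
  haveI : IsIso (f ∣_ W) := morphismRestrict_of_le' (P := MorphismProperty.isomorphisms Scheme.{u}) f hWU hiso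
  haveI : IsFinite (f ∣_ V₀) := morphismRestrict_of_le' (P := @IsFinite) f inf_le_right hfin
  haveI : IsNoetherian Y := ⟨⟩
  obtain ⟨I, G₁, Im, v, a, w, hI, hIW, ha, hvb, hab, hwb⟩ := chain f W hG
  let H : Y.Modules := (Scheme.Modules.pullback f).obj G
  have hH : Coh.IsCoh H := PullbackMod.isCoh_pullback f G hG
  haveI := hH.1
  let Q : X.Modules := (Scheme.Modules.pushforward f).obj H
  have hQ : Coh.IsCoh Q := RpushLib.isCoh_push f hH
  -- invertibility of `F` on `W`
  have hWV : W ≤ V := inf_le_right.trans inf_le_left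
  have hLV : PicF.IsInvertible (((Scheme.Modules.pullback f).obj F).restrict (f ⁻¹ᵁ W).ι) :=
    isInvertible_restrict_le (f.preimage_mono hWV) (ParaFLib.isInvertible_of_iso hFL.some.symm
      (ParaFLib.isInvertible_restrict _ hL.1))
  have hFW : PicF.IsInvertible (F.restrict W.ι) := isInvertible_of_pullback (f ∣_ W) _
    (ParaFLib.isInvertible_of_iso ((pullResIso f W).app F) hLV)
  have hE : ∀ n, PicF.IsInvertible ((CohB1.tensorMod I (CohB1.tensorPow F n)).restrict W.ι) := fun n =>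
    ParaFLib.isInvertible_of_iso (AmpleLib.restrictTensor W.ι I _ ≪≫ AmpleLib.tIso (Iso.refl _)
      (AmpleLib.restrictPow W.ι F n)).symm
      (AmpleLib.isInvertible_tensor hIW (AmpleLib.isInvertible_tensorPow hFW n))
  -- Serre vanishing upstairs
  let M' : Y.Modules := CohB1.tensorMod H ((Scheme.Modules.pullback f).obj I)
  have hM' : Coh.IsCoh M' := CurveLib.isCoh_tmod hH (PullbackMod.isCoh_pullback f I hI)
  obtain ⟨n₀, hn₀⟩ := subsingleton_HH_push_twist f pY hL hM'
  refine ⟨n₀, fun n hn i' hi' => ?_⟩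
  have hFn : Coh.IsCoh (CohB1.tensorPow F n) := isCoh_tensorPow hF n
  rcases eq_or_lt_of_le hi' with rfl | hlt
  swap
  · exact CurveLib.subsingleton_HH_of_dim _ hXd hlt
  let Tn := CohB1.tensorPow F n
  let E := CohB1.tensorMod I Tn
  have hEc : Coh.IsCoh E := CurveLib.isCoh_tmod hI hFn
  let B := (Scheme.Modules.pushforward f).obj (CohB1.tensorMod M' (CohB1.tensorPow L n))
  have hM2 : Coh.IsCoh (CohB1.tensorMod M' (CohB1.tensorPow L n)) :=
    CurveLib.isCoh_tmod (M := M') hM' (isCoh_tensorPow (CurveLib.isCoh_of_isInvertible hL.1) n)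
  have hB : Coh.IsCoh B := by
    haveI := hM2.1
    exact RpushLib.isCoh_push f hM2
  let β₀ := betaIso f (inf_le_left : V₀ ≤ V) hFL.some H I n
  let RV := Scheme.Modules.restrictFunctor V₀.ι
  let β : RV.obj ((Scheme.Modules.pushforward f).obj (CohB1.tensorMod H ((Scheme.Modules.pullback f).obj E))) ≅
      RV.obj B :=
    (restrictPushIso f V₀).app _ ≪≫ (Scheme.Modules.pushforward (f ∣_ V₀)).mapIso β₀ ≪≫
      ((restrictPushIso f V₀).app _).symm
  have hepi : Epi (RV.map (projMap f H E)) := by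
    refine (epi_iff_stalk _).2 fun z => ?_
    obtain ⟨O, hO, hzO, hOV⟩ := exists_isAffineOpen_mem_and_subset (x := V₀.ι z) (U := V₀) z.2
    haveI : IsFinite (f ∣_ O) := morphismRestrict_of_le' (P := @IsFinite) f hOV ‹IsFinite (f ∣_ V₀)›
    haveI := epi_restrict_projMap_of_affine f O hO hEc.1 hEc.2 hH.1
    refine (surjective_stalkLin_restrict V₀.ι _ z).2 ?_
    exact (surjective_stalkLin_restrict O.ι _ (⟨V₀.ι z, hzO⟩ : (O : Scheme.{u}))).1
      ((epi_iff_stalk _).1 inferInstance _)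
  have hinj : ∀ y ∈ W, Function.Injective (stalkLin (projMap f H E) y) := fun y hy => by
    obtain ⟨O, hyO, ⟨eO⟩⟩ := exists_free_nhd (hE n) hy
    exact (bijective_stalk_of_isIso_restrict _ O (isIso_restrict_projMap_of_free f O eO H) hyO).1
  have hQE : Coh.IsCoh (tmod Q E) := CurveLib.isCoh_tmod hQ hEc
  have hB0 : Subsingleton (Coh.HH X B d) := hn₀ n hn d hd
  have hA : Subsingleton (Coh.HH X (tmod Q E) d) :=
    subsingleton_of_comparison (B := B) hd hXd (inf_le_right : W ≤ V₀) hV₀ hW hQE hB (projMap f H E) β hepi hinj hB0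
  have hA' : Subsingleton (Coh.HH X (tmod (tmod Q I) Tn) d) :=
    CurveLib.subsingleton_HH_iso (AmpleLib.assoc Q I Tn).symm d hA
  exact finish hd hXd hW v a w hvb hab hwb hA'

end Groth.Agent.S13540
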