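import Groth.Statements.S13541
import Groth.Agent.RelSpecLib.SymData
import Groth.Agent.RelSpecLib.Gen
import Groth.Agent.RelSpecLib.Basic
import Groth.Agent.SpecQCAlg.Basic
import Groth.Agent.ProjBundleLib.DegOne
import Groth.Agent.ProjBundleLib.FTSub
import Groth.Agent.ProjBundleLib.Exist
import Groth.Agent.FormalSysLib.Sections
import Groth.Agent.FibreVanishQC.GlobGen
import Groth.Agent.CurveLib.Inv
import Groth.Agent.S8267

set_option autoImplicit false
set_option linter.style.haveILetI false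
set_option backward.isDefEq.respectTransparency false
universe u
open CategoryTheory CategoryTheory.Limits AlgebraicGeometry Opposite TopologicalSpace
open ResProp

namespace Groth.Agent.S13541

/-- The augmentation of a symmetric algebra. -/
private noncomputable def fstSym (R N : Type u) [CommRing R] [AddCommGroup N] [Module R N] :
    SymmetricAlgebra R N →ₐ[R] R :=
  SymmetricAlgebra.lift 0

/-- The linear part of an element of a symmetric algebra. -/
private noncomputable def sndSym (R N : Type u) [CommRing R] [AddCommGroup N] [Module R N] :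
    SymmetricAlgebra R N →ₗ[R] N :=
  letI : Module Rᵐᵒᵖ N := Module.compHom N ((RingEquiv.toOpposite R).symm.toRingHom)
  haveI : IsCentralScalar R N := ⟨fun _ _ => rfl⟩
  (TrivSqZeroExt.sndHom R N).comp (SymmetricAlgebra.lift (TrivSqZeroExt.inrHom R N)).toLinearMap

private theorem sndSym_ι {R N : Type u} [CommRing R] [AddCommGroup N] [Module R N] (n : N) :
    sndSym R N (SymmetricAlgebra.ι R N n) = n := by
  simp [sndSym]

private theorem sndSym_algebraMap {R N : Type u} [CommRing R] [AddCommGroup N] [Module R N] (r : R) :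
    sndSym R N (algebraMap R _ r) = 0 := by
  simp [sndSym, TrivSqZeroExt.algebraMap_eq_inl]

private theorem sndSym_mul {R N : Type u} [CommRing R] [AddCommGroup N] [Module R N]
    (x y : SymmetricAlgebra R N) :
    sndSym R N (x * y) = fstSym R N x • sndSym R N y + fstSym R N y • sndSym R N x := by
  letI : Module Rᵐᵒᵖ N := Module.compHom N ((RingEquiv.toOpposite R).symm.toRingHom)
  haveI : IsCentralScalar R N := ⟨fun _ _ => rfl⟩
  have hf : (TrivSqZeroExt.fstHom R R N).comp (SymmetricAlgebra.lift (TrivSqZeroExt.inrHom R N)) =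
      fstSym R N := by
    refine SymmetricAlgebra.algHom_ext (LinearMap.ext fun n => ?_)
    simp [fstSym]
  rw [← hf]
  simp [sndSym, op_smul_eq_smul]

private theorem sndSym_map {R R' N N' : Type u} [CommRing R] [CommRing R'] [AddCommGroup N]
    [AddCommGroup N'] [Module R N] [Module R' N'] (σ : R →+* R') (f : N →+ N')
    (hf : ∀ (r : R) (n : N), f (r • n) = σ r • f n)
    (F : SymmetricAlgebra R N →+* SymmetricAlgebra R' N')
    (h1 : ∀ r, F (algebraMap R _ r) = algebraMap R' _ (σ r))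
    (h2 : ∀ n, F (SymmetricAlgebra.ι R N n) = SymmetricAlgebra.ι R' N' (f n)) (x : SymmetricAlgebra R N) :
    sndSym R' N' (F x) = f (sndSym R N x) := by
  refine (show fstSym R' N' (F x) = σ (fstSym R N x) ∧ sndSym R' N' (F x) = f (sndSym R N x) from ?_).2
  induction x using SymmetricAlgebra.induction with
  | algebraMap r =>
    exact ⟨by simp [h1], by rw [h1, sndSym_algebraMap, sndSym_algebraMap, map_zero]⟩
  | ι n =>
    exact ⟨by simp [h2, fstSym], by rw [h2, sndSym_ι, sndSym_ι]⟩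
  | mul a b ha hb =>
    refine ⟨by rw [map_mul, map_mul, map_mul, map_mul, ha.1, hb.1], ?_⟩
    rw [map_mul, sndSym_mul, sndSym_mul, map_add, hf, hf, ha.2, hb.2, ha.1, hb.1]
  | add a b ha hb =>
    exact ⟨by rw [map_add, map_add, map_add, map_add, ha.1, hb.1],
      by rw [map_add, map_add, map_add, map_add, ha.2, hb.2]⟩

/-- The projection of `Sym M` onto its linear part. -/
private theorem exists_proj {S : Scheme.{u}} (M : S.Modules) [Coh.IsQCoh M] :
    ∃ pr : (RelSpecLib.symAlg M).toModule ⟶ M,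
      ∀ (U : S.AffineZariskiSite) (b : (RelSpecLib.symAlg M).presheaf.obj (op U.1)),
        pr.app U.1 b = sndSym Γ(S, U.1) Γ(M, U.1) ((RelSpecLib.symData M).affIso.hom.app (op U) b) := by
  refine (ProjBundleLib.exists_hom_of_affine (E := (RelSpecLib.symAlg M).toModule) (N := M)
    (fun U => ((sndSym Γ(S, U.1) Γ(M, U.1)).toAddMonoidHom.comp
      ((RelSpecLib.symData M).affIso.hom.app (op U)).hom.toAddMonoidHom)) (fun U hU r e => ?_) fun U a e => ?_).imp
        fun pr hpr U b => hpr U.1 U.2 b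
  · let U' : S.AffineZariskiSite := ⟨U, hU⟩
    let i : U'.basicOpen r ⟶ U' := homOfLE (Scheme.AffineZariskiSite.basicOpen_le (U := U') r)
    refine Eq.trans ?_ (congrArg (sndSym Γ(S, S.basicOpen r) Γ(M, S.basicOpen r))
      (ConcreteCategory.congr_hom ((RelSpecLib.symData M).affIso.hom.naturality i.op) e).symm)
    exact (sndSym_map (S.presheaf.map (homOfLE (S.basicOpen_le r)).op).hom
      (M.presheaf.map (homOfLE (S.basicOpen_le r)).op).hom
      (fun a m => Scheme.Modules.map_smul M (homOfLE (S.basicOpen_le r)) a m)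
      (RelSpecLib.symRes M (S.basicOpen_le r))
      (fun a => RelSpecLib.symRes_algebraMap M (S.basicOpen_le r) a)
      (fun m => RelSpecLib.symRes_ι M (S.basicOpen_le r) m) _).symm
  · show sndSym Γ(S, U.1) Γ(M, U.1) ((RelSpecLib.symData M).affIso.hom.app (op U)
      ((RelSpecLib.symAlg M).str.app (op U.1) a * (show (RelSpecLib.symAlg M).presheaf.obj (op U.1) from e))) =
      a • sndSym Γ(S, U.1) Γ(M, U.1) ((RelSpecLib.symData M).affIso.hom.app (op U) e)
    erw [map_mul, RelSpecLib.aff_str]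
    exact (congrArg (sndSym Γ(S, U.1) Γ(M, U.1)) (Algebra.smul_def a
      (show SymmetricAlgebra Γ(S, U.1) Γ(M, U.1) from _)).symm).trans (map_smul _ a _)

/-- In the case of schemes, a Noetherian scheme S has the resolution property exactly when each affine
finite-type morphism X ⟶ S factors over S through a closed immersion of X into a vector bundle V(E)
= Spec Sym(E), E a finite locally free module on S (V(E) is given as the relative spectrum of a
quasi-coherent algebra A with a map E ⟶ A making A the symmetric algebra of E). (The published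
statement is for Noetherian algebraic stacks; this row is the case of schemes.) -/
theorem result (S : Scheme.{u}) [IsNoetherian S] :
    PerfAux.HasResolutionProperty S ↔
      ∀ (X : Scheme.{u}) (f : X ⟶ S) [IsAffineHom f] [LocallyOfFiniteType f],
        ∃ (E : S.Modules) (A : RelSpec.QCAlg S) (j : E ⟶ A.toModule) (i : X ⟶ A.spec),
          Coh.IsQCoh E ∧ FlatMod.IsFinLocFree E ∧ RelSpec.IsSymAlg E A j ∧ IsClosedImmersion i ∧ i ≫ A.π = f := by
  constructor
  · intro hres X f _ _
    classical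
    obtain ⟨t, ht⟩ := isCompact_univ.elim_finite_subcover
      (fun V : S.affineOpens => ((V : S.Opens) : Set S)) (fun V => V.1.isOpen) fun y _ => by
        obtain ⟨_, ⟨V, hV, rfl⟩, hy, -⟩ :=
          S.isBasis_affineOpens.exists_subset_of_mem_open (Set.mem_univ y) isOpen_univ
        exact Set.mem_iUnion.mpr ⟨⟨V, hV⟩, hy⟩
    have hgen : ∀ V : S.affineOpens, ∃ T : Finset Γ(X, f ⁻¹ᵁ V.1), ∀ R : Subring Γ(X, f ⁻¹ᵁ V.1),
        (∀ r, (f.app V.1).hom r ∈ R) → (∀ b ∈ T, b ∈ R) → R = ⊤ := fun V => by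
      have h := HasRingHomProperty.appLE (P := @LocallyOfFiniteType) f inferInstance V
        ⟨f ⁻¹ᵁ V.1, V.2.preimage f⟩ le_rfl
      rw [Scheme.Hom.appLE_eq_app] at h
      letI := (f.app V.1).hom.toAlgebra
      haveI : Algebra.FiniteType Γ(S, V.1) Γ(X, f ⁻¹ᵁ V.1) := h
      obtain ⟨c, hc⟩ := (Algebra.FiniteType.out : (⊤ : Subalgebra Γ(S, V.1) Γ(X, f ⁻¹ᵁ V.1)).FG)
      refine ⟨c, fun R h1 h2 => eq_top_iff.mpr fun z _ => ?_⟩
      exact (Algebra.adjoin_le (S := { R with algebraMap_mem' := h1 }) fun w hw => h2 w hw)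
        (hc ▸ Algebra.mem_top : z ∈ Algebra.adjoin Γ(S, V.1) (c : Set Γ(X, f ⁻¹ᵁ V.1)))
    choose T hT using hgen
    let F := RelSpec.QCAlg.directImage f
    haveI : Coh.IsQCoh F.toModule := ProjBundleLib.isQCoh_toModule F
    obtain ⟨G, i, hG, hft, -, hmem⟩ := ProjBundleLib.exists_ft_through (M := F.toModule)
      (ι := Σ V : t, {b // b ∈ T V.1}) (fun k => k.1.1.1) (fun k => k.1.1.2) (fun k => k.2.1)
    obtain ⟨E, π, hE, hπ⟩ := hres G hG hft
    haveI := hπ
    haveI hEq : Coh.IsQCoh E := (PullbackMod.isQCoh_and_isFP_of_isFinLocFree E hE).1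
    have hA := RelSpecLib.isSymAlg_symAlg E
    let A := RelSpecLib.symAlg E
    obtain ⟨ψ, hψ, -⟩ := hA F (π ≫ i)
    let j := RelSpecLib.lift A f ψ.hom
    have hj : j ≫ A.π = f := RelSpecLib.lift_π A f ψ.hom ψ.comm
    refine ⟨E, A, RelSpecLib.symJ E, j, hEq, hE, hA, ?_, hj⟩
    refine IsZariskiLocalAtTarget.of_iSup_eq_top (fun V : t => A.π ⁻¹ᵁ V.1.1) ?_ fun V => ?_
    · refine eq_top_iff.mpr fun z _ => ?_
      obtain ⟨V, hV, hz⟩ := Set.mem_iUnion₂.mp (ht (Set.mem_univ (A.π z)))
      exact Opens.mem_iSup.mpr ⟨⟨V, hV⟩, hz⟩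
    have hpre : j ⁻¹ᵁ (A.π ⁻¹ᵁ V.1.1) = f ⁻¹ᵁ V.1.1 := by rw [← Scheme.Hom.comp_preimage, hj]
    haveI : IsAffine (A.π ⁻¹ᵁ V.1.1).toScheme := RelSpecLib.isAffineOpen_preimage A V.1.1 V.1.2
    haveI : IsAffine (j ⁻¹ᵁ (A.π ⁻¹ᵁ V.1.1)).toScheme := by rw [hpre]; exact V.1.2.preimage f
    refine IsClosedImmersion.of_surjective_of_isAffine _ ?_
    haveI := SpecQCAlg.isIso_gammaAff A V.1.1 V.1.2
    have hψsur : Function.Surjective (ψ.hom.app (op V.1.1)).hom := by
      rw [← RingHom.range_eq_top]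
      refine hT V.1 _ (fun r => ?_) fun b hb => ?_
      · exact ⟨(A.str.app (op V.1.1)).hom r,
          congrArg (fun p : S.presheaf ⟶ F.presheaf => (p.app (op V.1.1)).hom r) ψ.comm⟩
      · obtain ⟨g, hg⟩ := hmem ⟨V, b, hb⟩
        obtain ⟨e, rfl⟩ := FormalSys.app_surjective_of_epi π hEq hG V.1.2 g
        refine ⟨RelSpecLib.jsec A (RelSpecLib.symJ E) e, Eq.trans ?_ hg⟩
        exact congrArg (fun q : E ⟶ F.toModule => q.app V.1.1 e) hψ
    have hsur : Function.Surjective (j.appLE (A.π ⁻¹ᵁ V.1.1) (f ⁻¹ᵁ V.1.1) hpre.ge).hom := by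
      have h := RelSpecLib.gammaAff_algMap A f j hj V.1.1 V.1.2
      rw [show RelSpecLib.algMap A f j hj = ψ.hom from RelSpecLib.algMap_lift A f ψ.hom ψ.comm] at h
      rw [← h]
      exact hψsur.comp (ConcreteCategory.bijective_of_isIso (A.gammaAff V.1.1 V.1.2)).2
    have hgenW : ∀ (W : A.spec.Opens) (e : f ⁻¹ᵁ V.1.1 = j ⁻¹ᵁ W), W = A.π ⁻¹ᵁ V.1.1 →
        Function.Surjective (j.app W) := fun W e hW => by
      subst hW
      intro z
      obtain ⟨w, hw⟩ := hsur ((X.presheaf.map (eqToHom e).op).hom z)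
      refine ⟨w, (ConcreteCategory.bijective_of_isIso (X.presheaf.map (eqToHom e).op)).1 (hw ▸ ?_)⟩
      rw [Scheme.Hom.appLE, CommRingCat.comp_apply]
      rfl
    rw [morphismRestrict_appTop]
    refine (ConcreteCategory.bijective_of_isIso (X.presheaf.map _)).2.comp ?_
    refine hgenW _ ?_ (Scheme.Opens.ι_image_top _)
    rw [Scheme.Opens.ι_image_top, hpre]
  · intro h M hM hft
    haveI := hM
    let B := RelSpecLib.symAlg M
    have hB := RelSpecLib.isSymAlg_symAlg M
    haveI := Groth.Agent.S8267.result M ⟨hM, hft⟩ B (RelSpecLib.symJ M) hB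
    obtain ⟨E, A, j, i, hEq, hE, hA, hi, hiπ⟩ := h B.spec B.π
    haveI := hi
    let ψ : A ⟶ B := ⟨RelSpecLib.algMap A B.π i hiπ ≫ B.gammaMap, by
      rw [← Category.assoc, RelSpecLib.str_algMap, B.π_c_gammaMap]⟩
    obtain ⟨pr, hpr⟩ := exists_proj M
    let p : E ⟶ M := j ≫ RelSpec.QCAlg.Hom.toModuleMap ψ ≫ pr
    refine ⟨E, p, hE, FibreVanishQC.epi_of_surjective_app p fun U hU m => ?_⟩
    have hsurj : Function.Surjective (ψ.hom.app (op U)) := by
      have hγB : Function.Surjective (B.gammaMap.app (op U)) := by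
        haveI := SpecQCAlg.isIso_gammaMap B
        exact (ConcreteCategory.bijective_of_isIso (B.gammaMap.app (op U))).2
      have hα : Function.Surjective ((RelSpecLib.algMap A B.π i hiπ).app (op U)) := by
        have hle : B.π ⁻¹ᵁ U = i ⁻¹ᵁ (A.π ⁻¹ᵁ U) := by rw [← Scheme.Hom.comp_preimage, hiπ]
        have hi1 : Function.Surjective
            (i.appLE (A.π ⁻¹ᵁ U) (B.π ⁻¹ᵁ U) (RelSpecLib.preimage_le A B.π hiπ U)) := by
          have : Function.Surjective
              (i.app (A.π ⁻¹ᵁ U) ≫ B.spec.presheaf.map (eqToHom hle).op) :=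
            (ConcreteCategory.bijective_of_isIso (B.spec.presheaf.map (eqToHom hle).op)).2.comp
              (i.app_surjective _ (RelSpecLib.isAffineOpen_preimage A U hU))
          exact this
        rw [← RelSpecLib.gammaAff_algMap A B.π i hiπ U hU] at hi1
        exact Function.Surjective.of_comp hi1
      exact hγB.comp hα
    obtain ⟨a, ha⟩ := hsurj (RelSpecLib.jsec B (RelSpecLib.symJ M) m)
    let D := fun a : A.presheaf.obj (op U) =>
      (RelSpecLib.symData M).affIso.hom.app (op ⟨U, hU⟩) (ψ.hom.app (op U) a)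
    suffices ∃ e, p.app U e = sndSym Γ(S, U) Γ(M, U) (D a) by
      obtain ⟨e, he⟩ := this
      refine ⟨e, he.trans ?_⟩
      simp only [D, ha, RelSpecLib.jsec]
      erw [RelSpecLib.symJ_app M ⟨U, hU⟩ m, RelSpecLib.aff_jAff, sndSym_ι]
    have hmem : a ∈ RelSpecLib.gen A j U := by rw [RelSpecLib.gen_eq_top A j hEq hA hU]; trivial
    clear ha
    refine Subring.closure_induction (p := fun a _ => ∃ e, p.app U e = sndSym Γ(S, U) Γ(M, U) (D a))
      ?_ ?_ ?_ ?_ ?_ ?_ hmem
    · rintro _ (⟨r, rfl⟩ | ⟨e, rfl⟩)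
      · refine ⟨0, ?_⟩
        have h1 : ψ.hom.app (op U) (A.str.app (op U) r) = B.str.app (op U) r :=
          ConcreteCategory.congr_hom (NatTrans.congr_app ψ.comm (op U)) r
        simp only [D, map_zero]
        erw [h1, RelSpecLib.aff_str M ⟨U, hU⟩ r, sndSym_algebraMap]
      · exact ⟨e, hpr ⟨U, hU⟩ _⟩
    · exact ⟨0, by simp [D]⟩
    · refine ⟨0, ?_⟩
      simp only [D, map_one, map_zero]
      rw [← map_one (algebraMap Γ(S, U) (SymmetricAlgebra Γ(S, U) Γ(M, U)))]
      exact (sndSym_algebraMap _).symm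
    · rintro x y - - ⟨ex, hx⟩ ⟨ey, hy⟩
      exact ⟨ex + ey, by simp [D, hx, hy]⟩
    · rintro x - ⟨ex, hx⟩
      exact ⟨-ex, by simp [D, hx]⟩
    · rintro x y - - ⟨ex, hx⟩ ⟨ey, hy⟩
      refine ⟨fstSym Γ(S, U) Γ(M, U) (D x) • ey + fstSym Γ(S, U) Γ(M, U) (D y) • ex, ?_⟩
      rw [map_add, Scheme.Modules.Hom.app_smul, Scheme.Modules.Hom.app_smul, hx, hy]
      simp only [D, map_mul]
      exact (sndSym_mul _ _).symm

end Groth.Agent.S13541
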