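import Groth.Statements.S13542
import Groth.Agent.DCohMore.FinPushRes
import Groth.Agent.DirImgLib.Colimit
import Groth.Agent.BCLib.TensorQCoh
import Groth.Agent.DCohLib.HDCoprod

set_option autoImplicit false
set_option backward.isDefEq.respectTransparency false
set_option linter.style.haveILetI false
universe u
open CategoryTheory CategoryTheory.Limits AlgebraicGeometry
open ResProp

namespace Groth.Agent.S13542

/-- Direct images along affine morphisms commute with colimits of quasi-coherent modules. -/
theorem preservesColimit_push {X S : Scheme.{u}} {J : Type u} [SmallCategory J] (D : J ⥤ X.Modules)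
    (f : X ⟶ S) [IsAffineHom f] (hD : ∀ j, Coh.IsQCoh (D.obj j)) :
    PreservesColimit D (Scheme.Modules.pushforward f) := by
  haveI := Groth.Agent.DirImgLib.preservesColimit_dirAb D f hD
  let e : Groth.Agent.DirImgLib.dirAb f ≅
      Scheme.Modules.pushforward f ⋙ SheafOfModules.toSheaf S.ringCatSheaf :=
    NatIso.ofComponents (fun M => Iso.refl _) fun g => by rfl
  haveI : PreservesColimit D (Scheme.Modules.pushforward f ⋙ SheafOfModules.toSheaf S.ringCatSheaf) :=
    preservesColimit_of_natIso D e
  haveI : PreservesColimitsOfShape J (SheafOfModules.toSheaf.{u} S.ringCatSheaf) := inferInstance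
  haveI : PreservesColimit (D ⋙ Scheme.Modules.pushforward f) (SheafOfModules.toSheaf S.ringCatSheaf) := PreservesColimitsOfShape.preservesColimit
  haveI : ReflectsColimit (D ⋙ Scheme.Modules.pushforward f) (SheafOfModules.toSheaf S.ringCatSheaf) :=
    reflectsColimit_of_reflectsIsomorphisms _ _
  exact preservesColimit_of_reflects_of_preserves _ (SheafOfModules.toSheaf S.ringCatSheaf)

open Groth.Agent Groth.Agent.DCohLib Groth.Agent.DCohMore in
/-- In the case of schemes over an affine base, let f : X ⟶ Y be finite, flat, of finite presentation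
and surjective between quasi-compact quasi-separated schemes. If a family (E_i) of finitely
presented quasi-coherent modules on X is generating, i.e. every quasi-coherent module on X is a
quotient of a direct sum of copies of the E_i, then the family of direct images (f_*E_i) is
generating on Y. (The published statement is for morphisms of algebraic stacks and families
generating relative to a further morphism; this row is the case of schemes with the absolute notion
of a generating family.) -/
theorem result {X Y : Scheme.{u}}
    [CompactSpace X] [QuasiSeparatedSpace X] [CompactSpace Y] [QuasiSeparatedSpace Y]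
    (f : X ⟶ Y) [IsFinite f] [Flat f] [LocallyOfFinitePresentation f] [Surjective f]
    {ι : Type u} (E : ι → X.Modules) (hE : ∀ i, Coh.IsQCoh (E i) ∧ CohB1.IsFP (E i))
    (hgen : ∀ M : X.Modules, Coh.IsQCoh M →
      ∃ (κ : Type u) (j : κ → ι) (π : (∐ fun k : κ => E (j k)) ⟶ M), Epi π) :
    ∀ N : Y.Modules, Coh.IsQCoh N →
      ∃ (κ : Type u) (j : κ → ι) (π : (∐ fun k : κ => (Scheme.Modules.pushforward f).obj (E (j k))) ⟶ N), Epi π := by
  intro N hN
  have hf : Mor2.IsFinLocFree f := ⟨inferInstance, inferInstance, inferInstance⟩
  let A := (Scheme.Modules.pushforward f).obj (Coh.structureModule X)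
  have hA := FinLocFreeLib.isFinLocFree_push f hf
  haveI : ModSite.HasSheafHom (O := Y.sheaf) A := ModTensor.hasSheafHom (O := Y.sheaf) _
  let D := (StalkHomLib.hF A).obj (Coh.structureModule Y)
  haveI hDq : Coh.IsQCoh D := (PullbackMod.isQCoh_and_isFP_of_isFinLocFree D (DCohMore.isFinLocFree_dual A hA)).1
  haveI := hN
  haveI : Coh.IsQCoh (tmod D N) := BCLib.isQCoh_tmod D N
  haveI hq := PullbackMod.isQCoh_pullback f (tmod D N)
  obtain ⟨κ, j, π, hπ⟩ := hgen _ hq
  haveI := hπ
  haveI := epi_push_of_qcoh f (DCohLib.isQCoh_sigma_modules _ fun k => (hE (j k)).1) hq π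
  haveI := preservesColimit_push (Discrete.functor fun k : κ => E (j k)) f fun k => (hE (j k.as)).1
  obtain ⟨p⟩ := nonempty_push_pullback f hf (tmod D N)
  let T := DCoh.tensorBi (X := Y)
  haveI := epi_ev A hA (nontrivial_stalk_push' f)
  haveI h₂ : Epi ((T.map (StalkHomLib.ev A (Coh.structureModule Y))).app N) := epi_tmod_left _ N
  exact ⟨κ, j, (PreservesCoproduct.iso (Scheme.Modules.pushforward f) fun k => E (j k)).inv ≫
      (Scheme.Modules.pushforward f).map π ≫ p.inv ≫ ((ModTensor.tensorAssoc Y.sheaf D N).app A).inv ≫
        (T.map (ModTensor.tensComm Y.sheaf A D).hom).app N ≫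
          (T.map (StalkHomLib.ev A (Coh.structureModule Y))).app N ≫ ((isoTensorUnit Y).app N).hom,
    inferInstance⟩

end Groth.Agent.S13542
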