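import Groth.Statements.S13544
import Groth.Agent.BirNilLib.Basic
-- import your own Groth.Agent.* helpers here

set_option autoImplicit false
universe u
open CategoryTheory CategoryTheory.Limits AlgebraicGeometry
open ResProp

set_option linter.style.haveILetI false

set_option backward.isDefEq.respectTransparency false
set_option maxHeartbeats 1000000

namespace Groth.Agent.S13544

/-- Let f : X' ⟶ X be a surjective closed immersion of Noetherian schemes which is an isomorphism over a
dense open, W the largest such open and Y its closed complement (the support of the kernel ideal).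
Then W is contained in an open V such that V ∩ Y is dense in Y and underlies an affine closed
subscheme of V, and every finite locally free module on the preimage of V is the pullback of a
finite locally free module on V. (The published statement also asserts that global sections of the
module on the preimage extend to sections of the lift; that clause is not restated.) -/
theorem result {X X' : Scheme.{u}} [IsNoetherian X] [IsNoetherian X']
    (f : X' ⟶ X) [IsClosedImmersion f] [Surjective f]
    (W : X.Opens) (hW : IsIso (f ∣_ W)) (hmax : ∀ W' : X.Opens, IsIso (f ∣_ W') → W' ≤ W) (hd : Dense (W : Set X)) :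
    ∃ V : X.Opens, W ≤ V ∧ (W : Set X)ᶜ ⊆ closure ((V : Set X) ∩ (W : Set X)ᶜ) ∧
      (∃ (T : Scheme.{u}) (g : T ⟶ (V : Scheme.{u})), IsClosedImmersion g ∧ IsAffine T ∧
        Set.range (g ≫ V.ι).base = (V : Set X) ∩ (W : Set X)ᶜ) ∧
      ∀ E' : (f ⁻¹ᵁ V : Scheme.{u}).Modules, FlatMod.IsFinLocFree E' →
        ∃ E : (V : Scheme.{u}).Modules, FlatMod.IsFinLocFree E ∧
          Nonempty ((Scheme.Modules.pullback (f ∣_ V)).obj E ≅ E') := by
  classical
  set Y : Set X := (W : Set X)ᶜ with hY
  have hYc : IsClosed Y := W.2.isClosed_compl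
  obtain ⟨S, hSfin, hScl, hSirr, hSY⟩ := TopologicalSpace.NoetherianSpace.exists_finite_set_isClosed_irreducible hYc
  let S' : Set (Set X) := {t | Maximal (· ∈ S) t}
  have hS' : S'.Finite := hSfin.subset fun t ht => ht.prop
  haveI : Finite S' := hS'.to_subtype
  obtain ⟨n, ⟨e⟩⟩ := Finite.exists_equiv_fin S'
  let Z : Fin n → Set X := fun j => (e.symm j).1
  have hZmax : ∀ j, Maximal (· ∈ S) (Z j) := fun j => (e.symm j).2
  have hη : ∀ j, ∃ x : X, IsGenericPoint x (Z j) := fun j =>
    QuasiSober.sober (hSirr _ (hZmax j).prop) (hScl _ (hZmax j).prop)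
  choose η hη using hη
  have hZcov : ∀ x ∈ Y, ∃ j, x ∈ Z j := fun x hx => by
    rw [hSY] at hx
    obtain ⟨t, ht, hxt⟩ := hx
    obtain ⟨b, hb, hbmax⟩ := hSfin.exists_le_maximal ht
    exact ⟨e ⟨b, hbmax⟩, by simpa [Z] using hb hxt⟩
  have hZY : ∀ j, Z j ⊆ Y := fun j => hSY ▸ Set.subset_sUnion_of_mem (hZmax j).prop
  have hO : ∀ j, ∃ O : X.Opens, IsAffineOpen O ∧ η j ∈ O ∧ ∀ i, i ≠ j → ∀ x ∈ O, x ∉ Z i := by
    intro j
    have hC : IsClosed (⋃ i ∈ ({j}ᶜ : Set (Fin n)), Z i) :=
      (Set.toFinite _).isClosed_biUnion fun i _ => hScl _ (hZmax i).prop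
    have hjC : η j ∉ ⋃ i ∈ ({j}ᶜ : Set (Fin n)), Z i := fun h => by
      obtain ⟨i, hi, hij⟩ := Set.mem_iUnion₂.mp h
      have hsub : Z j ⊆ Z i := by
        rw [← (hη j).def]
        exact closure_minimal (Set.singleton_subset_iff.2 hij) (hScl _ (hZmax i).prop)
      exact hi (e.symm.injective (Subtype.ext ((hZmax j).eq_of_le (hZmax i).prop hsub).symm))
    obtain ⟨_, ⟨O, hO, rfl⟩, hjO, hOC⟩ :=
      X.isBasis_affineOpens.exists_subset_of_mem_open (a := η j) hjC hC.isOpen_compl
    exact ⟨O, hO, hjO, fun i hi x hx hxi => hOC hx (Set.mem_biUnion (x := i) hi hxi)⟩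
  choose O hOaff hηO hOZ using hO
  have hOO : ∀ i j, i ≠ j → O i ⊓ O j ≤ W := fun i j hij x hx => by
    by_contra hxW
    obtain ⟨k, hk⟩ := hZcov x hxW
    rcases eq_or_ne k i with rfl | hki
    · exact hOZ j k hij x hx.2 hk
    · exact hOZ i k hki x hx.1 hk
  let V : X.Opens := W ⊔ ⨆ j, O j
  have hOV : ∀ j, O j ≤ V := fun j => le_sup_of_le_right (le_iSup O j)
  have hmemV : ∀ x ∈ V, x ∈ W ∨ ∃ j, x ∈ O j := fun x hx => by
    rcases hx with hx | hx
    · exact Or.inl hx
    · exact Or.inr (TopologicalSpace.Opens.mem_iSup.1 hx)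
  have hOVaff : ∀ j, IsAffineOpen (V.ι ⁻¹ᵁ O j) := fun j =>
    ((hOaff j).preimage_of_isOpenImmersion V.ι (by rw [Scheme.Opens.opensRange_ι]; exact hOV j))
  refine ⟨V, le_sup_left, ?_, ?_, fun E' hE' => ?_⟩
  · intro x hx
    obtain ⟨j, hj⟩ := hZcov x hx
    rw [← (hη j).def] at hj
    exact closure_mono (Set.singleton_subset_iff.2 (show η j ∈ (V : Set X) ∩ Y from ⟨hOV j (hηO j), hZY j (hη j).mem⟩)) hj
  · let YV : TopologicalSpace.Closeds (V : Scheme.{u}) := ⟨V.ι ⁻¹' Y, hYc.preimage V.ι.continuous⟩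
    let K := Scheme.IdealSheafData.vanishingIdeal YV
    let g := K.subschemeι
    have hrange : Set.range g = V.ι ⁻¹' Y := by
      rw [Scheme.IdealSheafData.range_subschemeι, Scheme.IdealSheafData.coe_support_vanishingIdeal]
      rfl
    refine ⟨K.subscheme, g, inferInstance, ?_, ?_⟩
    · let T : Fin n → K.subscheme.Opens := fun j => g ⁻¹ᵁ (V.ι ⁻¹ᵁ O j)
      have hT : ∀ j, IsAffineOpen (T j) := fun j => (hOVaff j).preimage g
      have hTY : ∀ t : K.subscheme, (V.ι (g t)) ∈ Y := fun t => by
        have : g t ∈ Set.range g := ⟨t, rfl⟩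
        rw [hrange] at this
        exact this
      have hdisj : Pairwise (Function.onFun Disjoint T) := fun i j hij => by
        rw [Function.onFun, disjoint_iff, eq_bot_iff]
        rintro t ⟨hi, hj⟩
        exact absurd (hOO i j hij ⟨hi, hj⟩) (hTY t)
      have htop : iSup T = ⊤ := by
        refine eq_top_iff.2 fun t _ => TopologicalSpace.Opens.mem_iSup.2 ?_
        rcases hmemV _ (g t).2 with h | ⟨j, hj⟩
        · exact absurd h (hTY t)
        · exact ⟨j, hj⟩
      have haff := IsAffineOpen.iSup_of_disjoint hT hdisj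
      rw [htop] at haff
      haveI : IsAffine (⊤ : K.subscheme.Opens).toScheme := haff
      exact IsAffine.of_isIso K.subscheme.topIso.inv
    · show Set.range (V.ι ∘ g) = _
      rw [Set.range_comp, hrange, Set.image_preimage_eq_inter_range, Scheme.Opens.range_ι, Set.inter_comm]
  · haveI : IsClosedImmersion (f ∣_ V) := IsZariskiLocalAtTarget.restrict ‹_› V
    haveI : Surjective (f ∣_ V) := IsZariskiLocalAtTarget.restrict ‹_› V
    haveI : CompactSpace (V : Scheme.{u}) := isCompact_iff_compactSpace.mp (TopologicalSpace.NoetherianSpace.isCompact _)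
    haveI : AlgebraicGeometry.IsNoetherian (V : Scheme.{u}) := ⟨⟩
    refine BirNilLib.exists_lift_cover (f ∣_ V) (V.ι ⁻¹ᵁ W) ?_ (fun j => V.ι ⁻¹ᵁ O j) hOVaff
      (fun i j hij x hx => hOO i j hij hx) (fun x => hmemV x.1 x.2) E' hE'
    have h1 : IsIso (f ∣_ V.ι ''ᵁ (V.ι ⁻¹ᵁ W)) :=
      AmpleFamLib.morphismRestrict_of_le' (P := MorphismProperty.isomorphisms Scheme) f
        (V.ι.image_preimage_le W) hW
    exact ((MorphismProperty.isomorphisms Scheme).arrow_mk_iso_iff (morphismRestrictRestrict f V (V.ι ⁻¹ᵁ W))).2 h1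

end Groth.Agent.S13544
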