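import Groth.Statements.S13546
import Groth.Agent.FMKLib.RelEquiv
-- import your own Groth.Agent.* helpers here

set_option autoImplicit false
set_option backward.isDefEq.respectTransparency false
set_option maxHeartbeats 800000
set_option synthInstance.maxHeartbeats 200000
universe u
open CategoryTheory AlgebraicGeometry
attribute [local instance] HasDerivedCategory.standard
open DEquiv

namespace Groth.Agent.S13546

/-- Let X → S and Y → S be smooth proper morphisms and let K, a complex of modules on X ×_S Y, be a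
Fourier–Mukai kernel giving a relative equivalence over S from X to Y. The derived functors involved
are assumed to exist (instance binders), and the Fourier–Mukai functor Φ_K = Rpr_{2,*}(Lpr_1^*(−)
⊗^L K) is assumed to send objects with quasi-coherent cohomology sheaves to such objects (hypothesis
h). Then Φ_K : D_QCoh(O_X) ⥤ D_QCoh(O_Y) is an equivalence of categories. -/
theorem result {S X Y : Scheme.{u}} (a : X ⟶ S) (b : Y ⟶ S)
    [Smooth a] [IsProper a] [Smooth b] [IsProper b]
    (K : CochainComplex (Limits.pullback a b).Modules ℤ)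
    [DCoh.HasLpull (Limits.pullback.fst a b)] [DCoh.HasLTensorCx K] [DCoh.HasRpush (Limits.pullback.snd a b)]
    [DCoh.HasLpull (FMK.p12 a b a)] [DCoh.HasRpush (FMK.p13 a b a)]
    [∀ L : CochainComplex (FMK.T a b a).Modules ℤ, DCoh.HasLTensorCx L]
    [DCoh.HasLpull (FMK.p12 b a b)] [DCoh.HasRpush (FMK.p13 b a b)]
    [∀ L : CochainComplex (FMK.T b a b).Modules ℤ, DCoh.HasLTensorCx L]
    (hK : FMK.IsRelEquivKernel a b K)
    (h : ∀ M : DCoh.D X, DCoh.IsQCohD M → DCoh.IsQCohD ((FMK.phi a b K).obj M)) :
    (FMK.phiOn a b K DCoh.IsQCohD DCoh.IsQCohD h).IsEquivalence := by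
  haveI := DCohLib.hasLpull (Limits.pullback.fst b a)
  haveI := DCohMore.BC.hasRpush (Limits.pullback.snd b a)
  obtain ⟨K', hK', ⟨e⟩, ⟨e'⟩⟩ := FMKLib.exists_inverse a b K hK
  have hG : ∀ N : DCoh.D Y, DCoh.IsQCohD N → DCoh.IsQCohD ((FMK.phi b a K').obj N) := fun N hN => by
    have h1 : DCoh.IsQCohD ((DCoh.Lpull (Limits.pullback.fst b a)).obj N) := TildeD.isQCohD_lpull _ N hN
    have h2 : DCoh.IsQCohD ((DCoh.LTensorCx K').obj ((DCoh.Lpull (Limits.pullback.fst b a)).obj N)) :=
      TildeD.isQCohD_lTensorCx K' (DCohMore.isQCohD_of_isPerfect hK') _ h1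
    exact DCohMore.isQCohD_rpush (Limits.pullback.snd b a) _ h2
  have key := FMKLib.isEquivalence_lift (DCoh.IsQCohD (X := X)) (DCoh.IsQCohD (X := Y)) (FMK.phi a b K) (FMK.phi b a K') h
    hG e e'
  exact key

end Groth.Agent.S13546
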