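import Groth.Statements.S13547
import Groth.Agent.FMKLib.RelEquiv
-- import your own Groth.Agent.* helpers here

set_option autoImplicit false
set_option backward.isDefEq.respectTransparency false
set_option maxHeartbeats 800000
set_option synthInstance.maxHeartbeats 200000
universe u
open CategoryTheory AlgebraicGeometry
attribute [local instance] HasDerivedCategory.standard
open DEquiv

namespace Groth.Agent.S13547

/-- Let X → S and Y → S be smooth proper morphisms and let K, a complex of modules on X ×_S Y, be a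
Fourier–Mukai kernel giving a relative equivalence over S from X to Y. The derived functors involved
are assumed to exist (instance binders), and the Fourier–Mukai functor Φ_K = Rpr_{2,*}(Lpr_1^*(−)
⊗^L K) is assumed to send perfect objects to perfect objects (hypothesis h). Then Φ_K : D_perf(O_X)
⥤ D_perf(O_Y) is an equivalence of categories. -/
theorem result {S X Y : Scheme.{u}} (a : X ⟶ S) (b : Y ⟶ S)
    [Smooth a] [IsProper a] [Smooth b] [IsProper b]
    (K : CochainComplex (Limits.pullback a b).Modules ℤ)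
    [DCoh.HasLpull (Limits.pullback.fst a b)] [DCoh.HasLTensorCx K] [DCoh.HasRpush (Limits.pullback.snd a b)]
    [DCoh.HasLpull (FMK.p12 a b a)] [DCoh.HasRpush (FMK.p13 a b a)]
    [∀ L : CochainComplex (FMK.T a b a).Modules ℤ, DCoh.HasLTensorCx L]
    [DCoh.HasLpull (FMK.p12 b a b)] [DCoh.HasRpush (FMK.p13 b a b)]
    [∀ L : CochainComplex (FMK.T b a b).Modules ℤ, DCoh.HasLTensorCx L]
    (hK : FMK.IsRelEquivKernel a b K)
    (h : ∀ M : DCoh.D X, SGA6.perfP X M → SGA6.perfP Y ((FMK.phi a b K).obj M)) :
    (FMK.phiOn a b K (SGA6.perfP X) (SGA6.perfP Y) h).IsEquivalence := by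
  haveI := DCohLib.hasLpull (Limits.pullback.fst b a)
  haveI := DCohMore.BC.hasRpush (Limits.pullback.snd b a)
  obtain ⟨K', hK', ⟨e⟩, ⟨e'⟩⟩ := FMKLib.exists_inverse a b K hK
  exact FMKLib.isEquivalence_lift _ _ (FMK.phi a b K) (FMK.phi b a K') h
    (fun N hN => FMKLib.isPerfect_phi b a K' hK' N hN)
    (Functor.isoWhiskerLeft _ (Functor.leftUnitor _).symm ≪≫
      FMKLib.whiskerProp (P := SGA6.perfP X) (𝟭 _) (fun E hE => DCohMore.isQCohD_of_isPerfect hE)
        (e ≪≫ (Functor.rightUnitor _).symm) ≪≫ Functor.isoWhiskerLeft _ (Functor.leftUnitor _) ≪≫ Functor.rightUnitor _)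
    (Functor.isoWhiskerLeft _ (Functor.leftUnitor _).symm ≪≫
      FMKLib.whiskerProp (P := SGA6.perfP Y) (𝟭 _) (fun E hE => DCohMore.isQCohD_of_isPerfect hE)
        (e' ≪≫ (Functor.rightUnitor _).symm) ≪≫ Functor.isoWhiskerLeft _ (Functor.leftUnitor _) ≪≫ Functor.rightUnitor _)

end Groth.Agent.S13547
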