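import Groth.Statements.S13548
import Groth.Agent.FMKLib.DiagBC
-- import your own Groth.Agent.* helpers here

set_option autoImplicit false
set_option backward.isDefEq.respectTransparency false
set_option maxHeartbeats 800000
set_option synthInstance.maxHeartbeats 200000
universe u
open CategoryTheory AlgebraicGeometry
attribute [local instance] HasDerivedCategory.standard
open DEquiv

namespace Groth.Agent.S13548

/-- Let X → S and Y → S be smooth proper morphisms, K (a complex of modules on X ×_S Y) a Fourier–Mukai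
kernel giving a relative equivalence over S from X to Y, and S₁ → S a morphism of schemes; put X₁ =
X ×_S S₁ and Y₁ = Y ×_S S₁. The derived functors involved are assumed to exist (instance binders).
Then every complex K₁ of modules on X₁ ×_{S₁} Y₁ whose image in D(O_{X₁ ×_{S₁} Y₁}) is isomorphic to
the derived inverse image of K along the induced morphism X₁ ×_{S₁} Y₁ → X ×_S Y is a Fourier–Mukai
kernel giving a relative equivalence over S₁ from X₁ to Y₁. -/
theorem result {S S₁ X Y : Scheme.{u}} (a : X ⟶ S) (b : Y ⟶ S) (g : S₁ ⟶ S)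
    [Smooth a] [IsProper a] [Smooth b] [IsProper b]
    (K : CochainComplex (Limits.pullback a b).Modules ℤ)
    [DCoh.HasLpull (FMK.p12 a b a)] [DCoh.HasRpush (FMK.p13 a b a)]
    [∀ L : CochainComplex (FMK.T a b a).Modules ℤ, DCoh.HasLTensorCx L]
    [DCoh.HasLpull (FMK.p12 b a b)] [DCoh.HasRpush (FMK.p13 b a b)]
    [∀ L : CochainComplex (FMK.T b a b).Modules ℤ, DCoh.HasLTensorCx L]
    (hK : FMK.IsRelEquivKernel a b K)
    [DCoh.HasLpull (FMK.p12 (Limits.pullback.snd a g) (Limits.pullback.snd b g) (Limits.pullback.snd a g))]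
    [DCoh.HasRpush (FMK.p13 (Limits.pullback.snd a g) (Limits.pullback.snd b g) (Limits.pullback.snd a g))]
    [∀ L : CochainComplex (FMK.T (Limits.pullback.snd a g) (Limits.pullback.snd b g) (Limits.pullback.snd a g)).Modules ℤ, DCoh.HasLTensorCx L]
    [DCoh.HasLpull (FMK.p12 (Limits.pullback.snd b g) (Limits.pullback.snd a g) (Limits.pullback.snd b g))]
    [DCoh.HasRpush (FMK.p13 (Limits.pullback.snd b g) (Limits.pullback.snd a g) (Limits.pullback.snd b g))]
    [∀ L : CochainComplex (FMK.T (Limits.pullback.snd b g) (Limits.pullback.snd a g) (Limits.pullback.snd b g)).Modules ℤ, DCoh.HasLTensorCx L]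
    [DCoh.HasLpull (Limits.pullback.map (Limits.pullback.snd a g) (Limits.pullback.snd b g) a b
      (Limits.pullback.fst a g) (Limits.pullback.fst b g) g (Limits.pullback.condition).symm (Limits.pullback.condition).symm)]
    (K₁ : CochainComplex (Limits.pullback (Limits.pullback.snd a g) (Limits.pullback.snd b g)).Modules ℤ)
    (hK₁ : Nonempty (DCoh.toD _ K₁ ≅ (DCoh.Lpull (Limits.pullback.map (Limits.pullback.snd a g) (Limits.pullback.snd b g) a b
      (Limits.pullback.fst a g) (Limits.pullback.fst b g) g (Limits.pullback.condition).symm (Limits.pullback.condition).symm)).obj (DCoh.toD _ K))) :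
    FMK.IsRelEquivKernel (Limits.pullback.snd a g) (Limits.pullback.snd b g) K₁ := by
  obtain ⟨hKp, K', hK'p, ⟨e1⟩, ⟨e2⟩⟩ := hK
  obtain ⟨eK⟩ := hK₁
  let m := FMKLib.map₂ a b g
  let m' := FMKLib.map₂ b a g
  haveI := DCohLib.hasLpull m'
  haveI := DCohLib.hasLpull (FMKLib.map₂ a a g)
  haveI := DCohLib.hasLpull (FMKLib.map₂ b b g)
  let K'₁ := DerivedCategory.Q.objPreimage ((DCoh.Lpull m').obj (DCoh.toD _ K'))
  let eK' : DerivedCategory.Q.obj K'₁ ≅ (DCoh.Lpull m').obj (DCoh.toD _ K') :=
    DerivedCategory.Q.objObjPreimageIso _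
  have qK := DCohMore.isQCohD_of_isPerfect hKp
  have qK' := DCohMore.isQCohD_of_isPerfect hK'p
  refine ⟨DCohLib.isPerfect_iso eK.symm (DCohLib.isPerfect_lpull m _ hKp), K'₁,
    DCohLib.isPerfect_iso eK'.symm (DCohLib.isPerfect_lpull m' _ hK'p), ?_, ?_⟩
  · obtain ⟨d⟩ := FMKLib.nonempty_lpull_diagO a g
    obtain ⟨c⟩ := FMKLib.nonempty_lpull_conv a b a g K K' qK qK' K₁ K'₁ eK eK'
    exact ⟨d.symm ≪≫ (DCoh.Lpull (FMKLib.map₂ a a g)).mapIso e1 ≪≫ c⟩
  · obtain ⟨d⟩ := FMKLib.nonempty_lpull_diagO b g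
    obtain ⟨c⟩ := FMKLib.nonempty_lpull_conv b a b g K' K qK' qK K'₁ K₁ eK' eK
    exact ⟨d.symm ≪≫ (DCoh.Lpull (FMKLib.map₂ b b g)).mapIso e2 ≪≫ c⟩

end Groth.Agent.S13548
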