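import Groth.Statements.S1355
import Groth.Agent.GeomIrred.FinSep
import Groth.Agent.S9734

set_option autoImplicit false
universe u
set_option backward.isDefEq.respectTransparency false
open FlatMor

namespace Groth.Agent.S1355

open AlgebraicGeometry CategoryTheory Limits in
/-- Let f : X → S and s a point of S. The fibre of f over s is geometrically connected if and only if
for every étale morphism U → S and every point u over s, the fibre over u of the base change of f to
U is connected. -/
theorem result {X S : Scheme.{u}} (f : X ⟶ S) (s : S) :
    GeometricallyConnected (f.fiberToSpecResidueField s) ↔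
      ∀ (U : Scheme.{u}) (g : U ⟶ S) (u : U), Etale g → g u = s → ConnectedSpace ↑((pullback.snd f g).fiber u) := by
  have key : ∀ (U : Scheme.{u}) (g : U ⟶ S) (u : U), IsPullback _ ((pullback.snd f g).fiberToSpecResidueField u)
      (f.fiberToSpecResidueField (g u)) (Spec.map (g.residueFieldMap u)) :=
    fun U g u => isPullback_fiberToSpecResidueField_of_isPullback (IsPullback.of_hasPullback f g) u
  constructor
  · intro h U g u _ hu
    subst hu
    haveI := h
    haveI : ConnectedSpace ↥(pullback (f.fiberToSpecResidueField (g u)) (Spec.map (g.residueFieldMap u))) := by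
      haveI : Subsingleton ↥(Spec (U.residueField u)) := inferInstanceAs (Subsingleton (PrimeSpectrum (U.residueField u)))
      haveI : Nonempty ↥(Spec (U.residueField u)) := inferInstanceAs (Nonempty (PrimeSpectrum (U.residueField u)))
      exact GeometricallyConnected.connectedSpace_of_subsingleton (pullback.snd _ _)
    exact (key U g u).isoPullback.hom.homeomorph.symm.surjective.connectedSpace
      (key U g u).isoPullback.hom.homeomorph.symm.continuous
  · intro h
    refine Groth.Agent.GeomIrred.geometricallyConnected_of_finite_separable (k := S.residueField s)
      (f.fiberToSpecResidueField s) fun L _ _ _ _ => ?_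
    obtain ⟨U, g, u, hu, hg, hiso⟩ := Groth.Agent.S9734.result S s L
    subst hu
    letI : Algebra (S.residueField (g u)) (U.residueField u) :=
      ((S.residueFieldCongr (rfl : g u = g u)).inv ≫ g.residueFieldMap u).hom.toAlgebra
    obtain ⟨e⟩ := hiso
    haveI := h U g u hg rfl
    let ε : CommRingCat.of L ≅ U.residueField u := e.toRingEquiv.toCommRingCatIso
    have heq : CommRingCat.ofHom (algebraMap (S.residueField (g u)) L) ≫ ε.hom = g.residueFieldMap u := by
      ext r
      refine (e.commutes r).trans ?_
      simp [RingHom.algebraMap_toAlgebra]
    let sq : IsPullback (pullback.fst (f.fiberToSpecResidueField (g u)) (Spec.map (g.residueFieldMap u)))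
        (pullback.snd _ _ ≫ Spec.map ε.hom) (f.fiberToSpecResidueField (g u))
        (Spec.map (CommRingCat.ofHom (algebraMap (S.residueField (g u)) L))) :=
      (IsPullback.of_hasPullback _ _).of_iso (Iso.refl _) (Iso.refl _) (asIso (Spec.map ε.hom)) (Iso.refl _)
        (by simp) (by simp) (by simp) (by simp [← heq])
    let θ := ((key U g u).isoPullback ≪≫ sq.isoPullback).hom.homeomorph
    exact θ.surjective.connectedSpace θ.continuous

end Groth.Agent.S1355
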