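import Groth.Statements.S13555
import Groth.Agent.TwistShriek.KernelAdj
import Groth.Agent.S7865
import Groth.Agent.S3600
-- import your own Groth.Agent.* helpers here

set_option autoImplicit false
set_option backward.isDefEq.respectTransparency false
set_option maxHeartbeats 800000
set_option synthInstance.maxHeartbeats 200000
universe u
open CategoryTheory AlgebraicGeometry
attribute [local instance] HasDerivedCategory.standard
open DEquiv Groth.Agent

namespace Groth.Agent.S13555

/-- Let S, X and Y be quasi-compact quasi-separated schemes, X → S proper, flat and of finite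
presentation, Y → S a morphism, and K a complex of modules on X ×_S Y defining a perfect object with
quasi-coherent cohomology sheaves. Let a denote the right adjoint of Rpr_{2,*} : D_QCoh(O_{X ×_S Y})
→ D_QCoh(O_Y) (assumed to exist, instance binder), a(O_Y) its value on the structure sheaf in degree
0, and let K' be a complex of modules on Y ×_S X whose image in the derived category is isomorphic
to the derived pullback, along the symmetry Y ×_S X → X ×_S Y, of RHom(K, a(O_Y)). The derived
functors involved are assumed to exist and the two Fourier–Mukai functors are assumed to preserve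
objects with quasi-coherent cohomology sheaves (hypotheses h, h'). Then Φ_{K'} : D_QCoh(O_Y) ⥤
D_QCoh(O_X) is right adjoint to Φ_K : D_QCoh(O_X) ⥤ D_QCoh(O_Y) (existence of an adjunction; the
published statement names the comparison map Hom(M, Φ_{K'} N) → Hom(Φ_K M, N), which is not
constructed here). -/
theorem result {S X Y : Scheme.{u}} (a : X ⟶ S) (b : Y ⟶ S)
    [CompactSpace S] [QuasiSeparatedSpace S] [CompactSpace X] [QuasiSeparatedSpace X]
    [CompactSpace Y] [QuasiSeparatedSpace Y]
    [IsProper a] [Flat a] [LocallyOfFinitePresentation a]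
    (K : CochainComplex (Limits.pullback a b).Modules ℤ) (hK : DCoh.IsPerfect (DCoh.toD _ K))
    (hKq : DCoh.IsQCohD (DCoh.toD _ K))
    [DCoh.HasLpull (Limits.pullback.fst a b)] [DCoh.HasLTensorCx K] [DCoh.HasRpush (Limits.pullback.snd a b)]
    [DCoh.HasRSheafHom K]
    (hR : DCoh.RpushPreservesQCoh (Limits.pullback.snd a b)) [DCoh.HasShriek (Limits.pullback.snd a b) hR]
    (OY : DCoh.DQCoh Y) (hOY : OY.obj ≅ DCoh.inD Y (Coh.structureModule Y))
    [DCoh.HasLpull (Limits.pullbackSymmetry b a).hom]
    (K' : CochainComplex (Limits.pullback b a).Modules ℤ)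
    (hK' : Nonempty (DCoh.toD _ K' ≅ (DCoh.Lpull (Limits.pullbackSymmetry b a).hom).obj
      ((DCoh.RSheafHom K).obj (DCoh.dualizingCx (Limits.pullback.snd a b) hR OY))))
    [DCoh.HasLpull (Limits.pullback.fst b a)] [DCoh.HasLTensorCx K'] [DCoh.HasRpush (Limits.pullback.snd b a)]
    (h : ∀ M : DCoh.D X, DCoh.IsQCohD M → DCoh.IsQCohD ((FMK.phi a b K).obj M))
    (h' : ∀ N : DCoh.D Y, DCoh.IsQCohD N → DCoh.IsQCohD ((FMK.phi b a K').obj N)) :
    Nonempty (FMK.phiOn a b K DCoh.IsQCohD DCoh.IsQCohD h ⊣ FMK.phiOn b a K' DCoh.IsQCohD DCoh.IsQCohD h') := by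
  let p := Limits.pullback.fst a b
  let q := Limits.pullback.snd a b
  haveI : IsProper q := MorphismProperty.pullback_snd a b ‹IsProper a›
  haveI : Flat q := MorphismProperty.pullback_snd a b ‹Flat a›
  haveI : LocallyOfFinitePresentation q := MorphismProperty.pullback_snd a b ‹LocallyOfFinitePresentation a›
  haveI : CompactSpace (Limits.pullback a b : Scheme.{u}) := QuasiCompact.compactSpace_of_compactSpace q
  haveI : QuasiSeparatedSpace (Limits.pullback a b : Scheme.{u}) := quasiSeparatedSpace_of_quasiSeparated q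
  haveI := DCohMore.BC.hasRpush p
  haveI : DCoh.HasLpull q := DCohLib.hasLpull q
  obtain ⟨_, _⟩ := TwistShriek.qcqs_hom p
  have hp : DCoh.RpushPreservesQCoh p := fun M hM => DCohMore.isQCohD_rpush p M hM
  let ω := DCoh.dualizingCx q hR OY
  let E := DerivedCategory.Q.objPreimage ω
  let eE : DerivedCategory.Q.obj E ≅ ω := DerivedCategory.Q.objObjPreimageIso ω
  let sh := DCoh.shriek q hR
  obtain ⟨ea⟩ := S7865.result _ Y q hR sh (DCoh.shriekAdj q hR)
    (fun J => S3600.result _ Y q hR sh (DCoh.shriekAdj q hR) J) OY ⟨hOY⟩ E ⟨eE⟩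
  have hEq : DCoh.IsQCohD (DerivedCategory.Q.obj E) := TildeD.isQCohD_of_iso eE.symm (sh.obj OY).property
  let T := DerivedCategory.Q.objPreimage ((DCoh.RSheafHom K).obj (DerivedCategory.Q.obj E))
  let eT : DerivedCategory.Q.obj T ≅ (DCoh.RSheafHom K).obj (DerivedCategory.Q.obj E) :=
    DerivedCategory.Q.objObjPreimageIso _
  obtain ⟨eK'⟩ := hK'
  obtain ⟨tr⟩ := TwistShriek.nonempty_kernel_transport (Limits.pullbackSymmetry b a).hom q p
    (Limits.pullback.fst b a) (Limits.pullback.snd b a) (Limits.pullbackSymmetry_hom_comp_snd b a)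
    (Limits.pullbackSymmetry_hom_comp_fst b a) T K'
    (eK' ≪≫ (DCoh.Lpull _).mapIso ((DCoh.RSheafHom K).mapIso eE.symm ≪≫ eT.symm))
  exact TwistShriek.nonempty_phi_adjunction p q hp hR sh (DCoh.shriekAdj q hR) K hK E hEq ea T eT _ _
    (ObjectProperty.liftCompιIso _ _ _)
    (ObjectProperty.liftCompιIso _ _ _ ≪≫ Functor.isoWhiskerLeft _ tr)

end Groth.Agent.S13555
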