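import Groth.Statements.S13558
import Groth.Agent.FMKLib.CompConv
import Groth.Agent.DCohMore.GoodMain
-- import your own Groth.Agent.* helpers here

set_option autoImplicit false
set_option backward.isDefEq.respectTransparency false
set_option maxHeartbeats 800000
set_option synthInstance.maxHeartbeats 200000
universe u
open CategoryTheory AlgebraicGeometry
attribute [local instance] HasDerivedCategory.standard
open DEquiv

namespace Groth.Agent.S13558

/-- Let S be a Noetherian scheme, X, Y, Z schemes proper and flat over S, and K on X ×_S Y, K' on Y ×_S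
Z complexes of modules defining perfect objects. The derived functors involved are assumed to exist
(instance binders). Then the convolution K'' = Rpr_{13,*}(Lpr_{12}^* K ⊗^L pr_{23}^* K') on X ×_S Z
(pr_{23} is flat here, so the termwise inverse image is the derived one) is a perfect object, and
for every complex N on X ×_S Z whose image in the derived category is isomorphic to K'' the
Fourier–Mukai functor Φ_N = Rpr_{2,*}(Lpr_1^*(−) ⊗^L N), restricted to perfect objects of D(O_X), is
isomorphic to Φ_K followed by Φ_{K'} (existence of an isomorphism of functors). -/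
theorem result {S X Y Z : Scheme.{u}}
    [IsNoetherian S] (a : X ⟶ S) (b : Y ⟶ S) (c : Z ⟶ S)
    [IsProper a] [Flat a] [IsProper b] [Flat b] [IsProper c] [Flat c]
    (K : CochainComplex (Limits.pullback a b).Modules ℤ) (K' : CochainComplex (Limits.pullback b c).Modules ℤ)
    (hK : DCoh.IsPerfect (DCoh.toD _ K)) (hK' : DCoh.IsPerfect (DCoh.toD _ K'))
    [DCoh.HasLpull (Limits.pullback.fst a b)] [DCoh.HasLTensorCx K] [DCoh.HasRpush (Limits.pullback.snd a b)]
    [DCoh.HasLpull (Limits.pullback.fst b c)] [DCoh.HasLTensorCx K'] [DCoh.HasRpush (Limits.pullback.snd b c)]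
    [DCoh.HasLpull (FMK.p12 a b c)] [DCoh.HasLTensorCx ((FMK.cxPull (FMK.p23 a b c)).obj K')] [DCoh.HasRpush (FMK.p13 a b c)]
    [DCoh.HasLpull (Limits.pullback.fst a c)] [DCoh.HasRpush (Limits.pullback.snd a c)] :
    DCoh.IsPerfect (FMK.conv a b c K ((FMK.cxPull (FMK.p23 a b c)).obj K')) ∧
      ∀ (N : CochainComplex (Limits.pullback a c).Modules ℤ) [DCoh.HasLTensorCx N],
        Nonempty (DCoh.toD _ N ≅ FMK.conv a b c K ((FMK.cxPull (FMK.p23 a b c)).obj K')) →
        Nonempty (ObjectProperty.ι (SGA6.perfP X) ⋙ FMK.phi a c N ≅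
          ObjectProperty.ι (SGA6.perfP X) ⋙ FMK.phi a b K ⋙ FMK.phi b c K') := by
  let L := (FMK.cxPull (FMK.p23 a b c)).obj K'
  haveI : Flat (FMK.p23 a b c) := FMKLib.flat_p23 a b c
  haveI := DCohLib.hasLpull (FMK.p23 a b c)
  obtain ⟨eL⟩ := FMKLib.nonempty_lpull_Q_flat (FMK.p23 a b c) K'
  have hLp : DCoh.IsPerfect (DerivedCategory.Q.obj L) :=
    DCohLib.isPerfect_iso eL (DCohLib.isPerfect_lpull (FMK.p23 a b c) _ hK')
  refine ⟨?_, fun N _ hN => ?_⟩
  · let L' := (DCohLib.resX _).obj L
    haveI := DCohLib.quasiIso_resXπ L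
    haveI : IsIso (DerivedCategory.Q.map ((DCohLib.resXπ _).app L)) := inferInstance
    obtain ⟨l⟩ := DCohLib.nonempty_lTensor_of_iso (E := L) (E' := L') (asIso (DerivedCategory.Q.map ((DCohLib.resXπ _).app L)))
    haveI : LocallyOfFinitePresentation b := by
      rw [HasRingHomProperty.iff_appLE (P := @LocallyOfFinitePresentation)]
      intro W E e
      haveI : IsNoetherianRing ↥Γ(S, W) := IsLocallyNoetherian.component_noetherian W
      exact RingHom.FinitePresentation.of_finiteType.1
        (HasRingHomProperty.appLE (P := @LocallyOfFiniteType) b inferInstance W E e)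
    haveI : IsProper (FMK.p13 a b c) :=
      MorphismProperty.of_isPullback (P := @IsProper) (FMKLib.isPullback_p13 a b c).flip inferInstance
    haveI : Flat (FMK.p13 a b c) := FMKLib.flat_p13 a b c
    haveI : LocallyOfFinitePresentation (FMK.p13 a b c) :=
      MorphismProperty.of_isPullback (P := @LocallyOfFinitePresentation) (FMKLib.isPullback_p13 a b c).flip inferInstance
    refine DCohMore.isPerfect_rpush_proper _ _ (DCohLib.isPerfect_iso (l.app _) ?_)
    exact DCohLib.isPerfect_lTensor L' (DCohLib.isKFlat_resX L)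
      (DCohLib.isPerfect_iso (asIso (DerivedCategory.Q.map ((DCohLib.resXπ _).app L))).symm hLp) _
      (DCohLib.isPerfect_lpull (FMK.p12 a b c) _ hK)
  · obtain ⟨eN⟩ := hN
    haveI : QuasiSeparated a := inferInstance
    obtain ⟨e⟩ := FMKLib.nonempty_phi_comp a b c (Or.inl inferInstance) K K' (DCohMore.isQCohD_of_isPerfect hK)
      (DCohMore.isQCohD_of_isPerfect hK') L eL.symm N eN
    exact ⟨Functor.isoWhiskerLeft _ (Functor.leftUnitor _).symm ≪≫
      FMKLib.whiskerProp (P := SGA6.perfP X) (𝟭 _) (fun E hE => DCohMore.isQCohD_of_isPerfect hE) e ≪≫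
      Functor.isoWhiskerLeft _ (Functor.leftUnitor _)⟩

end Groth.Agent.S13558
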