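import Groth.Statements.S13559
import Groth.Agent.ShriekBridge.FMKernel
import Groth.Agent.S13555
import Groth.Agent.S14008
-- import your own Groth.Agent.* helpers here

set_option autoImplicit false
set_option backward.isDefEq.respectTransparency false
set_option maxHeartbeats 800000
set_option synthInstance.maxHeartbeats 200000
universe u
open CategoryTheory AlgebraicGeometry
attribute [local instance] HasDerivedCategory.standard
open DEquiv

namespace Groth.Agent.S13559

/-- Let S be a Noetherian scheme, X → S and Y → S proper flat morphisms with X → S a Gorenstein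
morphism, and K a complex of modules on X ×_S Y defining a perfect object, with dual K^∨ = RHom(K,
O). Let ω_{X/S} = a(O_S) be the relative dualizing complex of X over S, a being the right adjoint of
R(X → S)_* on D_QCoh (assumed to exist) and O_S the structure sheaf in degree 0. The derived
functors involved are assumed to exist (instance binders). Then for every complex W on X ×_S Y
representing Lpr_1^* ω_{X/S} and every complex K' on Y ×_S X whose image in the derived category is
isomorphic to the derived pullback, along the symmetry Y ×_S X → X ×_S Y, of K^∨ ⊗^L W: K' defines a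
perfect object, and, assuming the two Fourier–Mukai functors preserve perfect objects (hypotheses h,
h'), Φ_{K'} : D_perf(O_Y) ⥤ D_perf(O_X) is right adjoint to Φ_K : D_perf(O_X) ⥤ D_perf(O_Y)
(existence of an adjunction). -/
theorem result {S X Y : Scheme.{u}} [IsNoetherian S] (a : X ⟶ S) (b : Y ⟶ S)
    [IsProper a] [Flat a] [IsProper b] [Flat b]
    (K : CochainComplex (Limits.pullback a b).Modules ℤ) (hK : DCoh.IsPerfect (DCoh.toD _ K))
    [DCoh.HasLpull (Limits.pullback.fst a b)] [DCoh.HasLTensorCx K] [DCoh.HasRpush (Limits.pullback.snd a b)]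
    [DCoh.HasRSheafHom K]
    (hG : Dual3.IsGorensteinMor a)
    [DCoh.HasRpush a] (hRa : DCoh.RpushPreservesQCoh a) [DCoh.HasShriek a hRa]
    (OS : DCoh.DQCoh S) (hOS : OS.obj ≅ DCoh.inD S (Coh.structureModule S))
    (W : CochainComplex (Limits.pullback a b).Modules ℤ) [DCoh.HasLTensorCx W]
    (hW : Nonempty (DCoh.toD _ W ≅ (DCoh.Lpull (Limits.pullback.fst a b)).obj (DCoh.dualizingCx a hRa OS)))
    [DCoh.HasLpull (Limits.pullbackSymmetry b a).hom]
    (K' : CochainComplex (Limits.pullback b a).Modules ℤ)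
    (hK' : Nonempty (DCoh.toD _ K' ≅ (DCoh.Lpull (Limits.pullbackSymmetry b a).hom).obj
      ((DCoh.LTensorCx W).obj ((DCoh.RSheafHom K).obj (DCoh.inD _ (Coh.structureModule (Limits.pullback a b)))))))
    [DCoh.HasLpull (Limits.pullback.fst b a)] [DCoh.HasLTensorCx K'] [DCoh.HasRpush (Limits.pullback.snd b a)]
    (h : ∀ M : DCoh.D X, SGA6.perfP X M → SGA6.perfP Y ((FMK.phi a b K).obj M))
    (h' : ∀ N : DCoh.D Y, SGA6.perfP Y N → SGA6.perfP X ((FMK.phi b a K').obj N)) :
    DCoh.IsPerfect (DCoh.toD _ K') ∧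
      Nonempty (FMK.phiOn a b K (SGA6.perfP X) (SGA6.perfP Y) h ⊣ FMK.phiOn b a K' (SGA6.perfP Y) (SGA6.perfP X) h') := by
    let p := Limits.pullback.fst a b
    let q := Limits.pullback.snd a b
    let σ := (Limits.pullbackSymmetry b a).hom
    let P := Limits.pullback a b
    haveI : IsLocallyNoetherian X := LocallyOfFiniteType.isLocallyNoetherian a
    haveI : IsLocallyNoetherian Y := LocallyOfFiniteType.isLocallyNoetherian b
    haveI : CompactSpace X := QuasiCompact.compactSpace_of_compactSpace a
    haveI : CompactSpace Y := QuasiCompact.compactSpace_of_compactSpace b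
    haveI : IsNoetherian X := {}
    haveI : IsNoetherian Y := {}
    haveI : IsProper q := MorphismProperty.pullback_snd a b ‹IsProper a›
    haveI : IsProper p := MorphismProperty.pullback_fst a b ‹IsProper b›
    haveI : CompactSpace (↑P : Scheme.{u}) := QuasiCompact.compactSpace_of_compactSpace q
    haveI : QuasiSeparatedSpace (↑P : Scheme.{u}) := quasiSeparatedSpace_of_quasiSeparated q
    haveI : IsProper (Limits.pullback.snd b a) := MorphismProperty.pullback_snd b a ‹IsProper b›
    haveI : LocallyOfFinitePresentation a := S14008.lfp_of_lft a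
    haveI : ∀ (U V : Scheme.{u}) (j : U ⟶ V) [IsOpenImmersion j],
        Limits.PreservesFiniteLimits (Scheme.Modules.restrictFunctor j) := fun U V j _ => inferInstance
    haveI : DCoh.HasLpull q := DCohLib.hasLpull q
    have hR : DCoh.RpushPreservesQCoh q := fun M hM => DCohMore.isQCohD_rpush q M hM
    haveI : DCoh.HasShriek q hR := TwistShriek.isLeftAdjoint_rpushQ' q
    let OY : DCoh.DQCoh Y := ⟨DCoh.inD Y (Coh.structureModule Y),
      DCohMore.isQCohD_of_isPerfect (DCohLib.isPerfect_inD (BCLib.isFinLocFree_structureModule Y))⟩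
    obtain ⟨eW⟩ := hW
    obtain ⟨ω⟩ := ShriekBridge.nonempty_shriek_snd a b (DCoh.shriekAdj a hRa) (DCoh.shriekAdj q hR) OS ⟨hOS⟩ OY
      ⟨Iso.refl _⟩
    have hWp : DCoh.IsPerfect (DCoh.toD _ W) := DCohLib.isPerfect_iso eW.symm (DCohLib.isPerfect_lpull p _
      (ShriekBridge.isPerfect_of_isInvertibleD
        (ShriekBridge.isInvertibleD_dualizingCx a hG (DCoh.shriekAdj a hRa) OS ⟨hOS⟩)))
    obtain ⟨eK'⟩ := hK'
    obtain ⟨t⟩ := ShriekBridge.nonempty_lTensor_dual K hK W
    have hK'p : DCoh.IsPerfect (DCoh.toD _ K') := DCohLib.isPerfect_iso eK'.symm (DCohLib.isPerfect_lpull σ _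
      (FMPerfLib.isPerfect_lTensorCx W hWp _ (ShriekBridge.isPerfect_dual K hK)))
    refine ⟨hK'p, ?_⟩
    have hKq := DCohMore.isQCohD_of_isPerfect hK
    have hK'q := DCohMore.isQCohD_of_isPerfect hK'p
    obtain ⟨adj⟩ := S13555.result a b K hK hKq hR OY (Iso.refl _) K'
      ⟨eK' ≪≫ (DCoh.Lpull σ).mapIso (t ≪≫ (DCoh.RSheafHom K).mapIso (eW ≪≫ ω))⟩
      (fun M hM => ShriekBridge.isQCohD_phi a b K hKq M hM) (fun M hM => ShriekBridge.isQCohD_phi b a K' hK'q M hM)
    let iX : (SGA6.perfP X).FullSubcategory ⥤ DCoh.DQCoh X :=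
      ObjectProperty.ιOfLE (fun M (hM : SGA6.perfP X M) => DCohMore.isQCohD_of_isPerfect hM)
    let iY : (SGA6.perfP Y).FullSubcategory ⥤ DCoh.DQCoh Y :=
      ObjectProperty.ιOfLE (fun M (hM : SGA6.perfP Y M) => DCohMore.isQCohD_of_isPerfect hM)
    exact ⟨adj.restrictFullyFaithful (iC := iX) (iD := iY) (ObjectProperty.fullyFaithfulιOfLE _)
      (ObjectProperty.fullyFaithfulιOfLE _) (Iso.refl _) (Iso.refl _)⟩

end Groth.Agent.S13559
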