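import Groth.Statements.S13561
import Groth.Agent.ShriekBridge.FMLeft
import Groth.Agent.S7865
import Groth.Agent.S3600
import Groth.Agent.S14008
-- import your own Groth.Agent.* helpers here

set_option autoImplicit false
set_option backward.isDefEq.respectTransparency false
set_option maxHeartbeats 800000
set_option synthInstance.maxHeartbeats 200000
universe u
open CategoryTheory AlgebraicGeometry
attribute [local instance] HasDerivedCategory.standard
open DEquiv Groth.Agent

namespace Groth.Agent.S13561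

/-- Let S be a Noetherian scheme, Y → S a flat proper Gorenstein morphism, X → S a morphism of finite
type, and K a complex of modules on X ×_S Y defining a perfect object with quasi-coherent cohomology
sheaves, with dual K^∨ = RHom(K, O). Let ω_{Y/S} = a(O_S) be the relative dualizing complex of Y
over S, a being the right adjoint of R(Y → S)_* on D_QCoh (assumed to exist) and O_S the structure
sheaf in degree 0. The derived functors involved are assumed to exist (instance binders). Then for
every complex W on X ×_S Y representing Lpr_2^* ω_{Y/S} and every complex K' on Y ×_S X whose image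
in the derived category is isomorphic to the derived pullback, along the symmetry Y ×_S X → X ×_S Y,
of K^∨ ⊗^L W, and assuming the two Fourier–Mukai functors preserve objects with quasi-coherent
cohomology sheaves (hypotheses h, h'), Φ_{K'} : D_QCoh(O_Y) ⥤ D_QCoh(O_X) is left adjoint to Φ_K :
D_QCoh(O_X) ⥤ D_QCoh(O_Y) (existence of an adjunction; the published statement names the isomorphism
Hom(N, Φ_K M) → Hom(Φ_{K'} N, M), which is not constructed here). -/
theorem result {S X Y : Scheme.{u}} [IsNoetherian S]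
    (a : X ⟶ S) (b : Y ⟶ S) [LocallyOfFiniteType a] [QuasiCompact a] [IsProper b] [Flat b]
    (hG : Dual3.IsGorensteinMor b)
    (K : CochainComplex (Limits.pullback a b).Modules ℤ) (hK : DCoh.IsPerfect (DCoh.toD _ K))
    (hKq : DCoh.IsQCohD (DCoh.toD _ K))
    [DCoh.HasLpull (Limits.pullback.fst a b)] [DCoh.HasLTensorCx K] [DCoh.HasRpush (Limits.pullback.snd a b)]
    [DCoh.HasRSheafHom K]
    [DCoh.HasRpush b] (hRb : DCoh.RpushPreservesQCoh b) [DCoh.HasShriek b hRb]
    (OS : DCoh.DQCoh S) (hOS : OS.obj ≅ DCoh.inD S (Coh.structureModule S))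
    [DCoh.HasLpull (Limits.pullback.snd a b)]
    (W : CochainComplex (Limits.pullback a b).Modules ℤ) [DCoh.HasLTensorCx W]
    (hW : Nonempty (DCoh.toD _ W ≅ (DCoh.Lpull (Limits.pullback.snd a b)).obj (DCoh.dualizingCx b hRb OS)))
    [DCoh.HasLpull (Limits.pullbackSymmetry b a).hom]
    (K' : CochainComplex (Limits.pullback b a).Modules ℤ)
    (hK' : Nonempty (DCoh.toD _ K' ≅ (DCoh.Lpull (Limits.pullbackSymmetry b a).hom).obj
      ((DCoh.LTensorCx W).obj ((DCoh.RSheafHom K).obj (DCoh.inD _ (Coh.structureModule (Limits.pullback a b)))))))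
    [DCoh.HasLpull (Limits.pullback.fst b a)] [DCoh.HasLTensorCx K'] [DCoh.HasRpush (Limits.pullback.snd b a)]
    (h : ∀ M : DCoh.D X, DCoh.IsQCohD M → DCoh.IsQCohD ((FMK.phi a b K).obj M))
    (h' : ∀ N : DCoh.D Y, DCoh.IsQCohD N → DCoh.IsQCohD ((FMK.phi b a K').obj N)) :
    Nonempty (FMK.phiOn b a K' DCoh.IsQCohD DCoh.IsQCohD h' ⊣ FMK.phiOn a b K DCoh.IsQCohD DCoh.IsQCohD h) := by
    let p := Limits.pullback.fst a b
    let q := Limits.pullback.snd a b
    let P := Limits.pullback a b
    haveI : IsLocallyNoetherian X := LocallyOfFiniteType.isLocallyNoetherian a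
    haveI : IsLocallyNoetherian Y := LocallyOfFiniteType.isLocallyNoetherian b
    haveI : CompactSpace X := QuasiCompact.compactSpace_of_compactSpace a
    haveI : CompactSpace Y := QuasiCompact.compactSpace_of_compactSpace b
    haveI : IsNoetherian X := {}
    haveI : IsNoetherian Y := {}
    haveI : IsProper p := MorphismProperty.pullback_fst a b ‹IsProper b›
    haveI : IsLocallyNoetherian (↑P : Scheme.{u}) := LocallyOfFiniteType.isLocallyNoetherian p
    haveI : CompactSpace (↑P : Scheme.{u}) := QuasiCompact.compactSpace_of_compactSpace p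
    haveI : IsNoetherian (↑P : Scheme.{u}) := {}
    haveI : Flat p := MorphismProperty.pullback_fst a b ‹Flat b›
    haveI : LocallyOfFinitePresentation p := S14008.lfp_of_lft p
    haveI : ∀ (U V : Scheme.{u}) (j : U ⟶ V) [IsOpenImmersion j],
        Limits.PreservesFiniteLimits (Scheme.Modules.restrictFunctor j) := fun U V j _ => inferInstance
    haveI := DCohLib.hasLpull q
    haveI := DCohMore.BC.hasRpush p
    obtain ⟨_, _⟩ := TwistShriek.qcqs_hom q
    have hp : DCoh.RpushPreservesQCoh p := TwistShriek.rpushQC p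
    have hq : DCoh.RpushPreservesQCoh q := TwistShriek.rpushQC q
    haveI : DCoh.HasShriek p hp := TwistShriek.isLeftAdjoint_rpushQ' p
    let OX : DCoh.DQCoh X := ⟨DCoh.inD X (Coh.structureModule X),
      DCohMore.isQCohD_of_isPerfect (DCohLib.isPerfect_inD (BCLib.isFinLocFree_structureModule X))⟩
    obtain ⟨ω⟩ := ShriekBridge.nonempty_shriek_baseChange (IsPullback.of_hasPullback a b).flip hG
      (DCoh.shriekAdj b hRb) (DCoh.shriekAdj p hp) OS ⟨hOS⟩ OX ⟨Iso.refl _⟩
    obtain ⟨eW⟩ := hW
    have hWi : Dual3.IsInvertibleD (DCoh.toD _ W) := fun x => by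
      obtain ⟨U, n, hx, ⟨e⟩⟩ := ShriekBridge.isInvertibleD_lpull q
        (ShriekBridge.isInvertibleD_dualizingCx b hG (DCoh.shriekAdj b hRb) OS ⟨hOS⟩) x
      exact ⟨U, n, hx, ⟨(DCoh.restrictD U.ι).mapIso eW ≪≫ e⟩⟩
    obtain ⟨ea⟩ := S7865.result _ _ p hp (DCoh.shriek p hp) (DCoh.shriekAdj p hp)
      (fun J => S3600.result _ _ p hp (DCoh.shriek p hp) (DCoh.shriekAdj p hp) J) OX ⟨Iso.refl _⟩ W ⟨eW ≪≫ ω⟩
    let T := (DCohLib.resX P).obj (DerivedCategory.Q.objPreimage ((DCoh.LTensorCx W).obj
      ((DCoh.RSheafHom K).obj (DCoh.inD _ (Coh.structureModule P)))))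
    haveI := DCohLib.hasRSheafHom_of_isKFlat T (DCohLib.isKFlat_resX _)
    let eT : DerivedCategory.Q.obj T ≅ (DCoh.LTensorCx W).obj
      ((DCoh.RSheafHom K).obj (DCoh.inD _ (Coh.structureModule P))) := DCohLib.resXIso _
    obtain ⟨eK'⟩ := hK'
    obtain ⟨tr⟩ := TwistShriek.nonempty_kernel_transport (Limits.pullbackSymmetry b a).hom q p
      (Limits.pullback.fst b a) (Limits.pullback.snd b a) (Limits.pullbackSymmetry_hom_comp_snd b a)
      (Limits.pullbackSymmetry_hom_comp_fst b a) T K' (eK' ≪≫ (DCoh.Lpull _).mapIso eT.symm)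
    exact ShriekBridge.nonempty_phi_leftAdjoint p q hp hq (DCoh.shriek p hp) (DCoh.shriekAdj p hp) K W T hK hWi ea eT
      _ _ (ObjectProperty.liftCompιIso _ _ _) (ObjectProperty.liftCompιIso _ _ _ ≪≫ Functor.isoWhiskerLeft _ tr)

end Groth.Agent.S13561
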