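import Groth.Statements.S13569
import Groth.Agent.ASt.PtsDesc
import Groth.Agent.ASt.StkAlg
import Groth.Agent.ASt.PtsTop
-- import your own Groth.Agent.* helpers here

set_option autoImplicit false
set_option backward.isDefEq.respectTransparency false
universe u
open CategoryTheory AlgebraicGeometry
open AlgSt

namespace Groth.Agent.S13569

/-- (2) ⇒ (1): let `f : 𝒳 ⟶ 𝒴` be a morphism of algebraic stacks over `S`. If for every affine scheme
`Z` over `S` and every `Z ⟶ 𝒴` the projection `Z ×_𝒴 𝒳 ⟶ Z` is universally injective, then `f` is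
universally injective (every base change to an algebraic stack is injective on points). The converse
implication is the base-change property. -/
theorem result {S : Scheme.{u}} {𝒳 𝒴 : AlgSt.Cat S}
    (h𝒳 : AlgSt.IsAlgStack Scheme.fppfPrecoverage 𝒳) (h𝒴 : AlgSt.IsAlgStack Scheme.fppfPrecoverage 𝒴) (f : 𝒳 ⥤ᵇ 𝒴)
    (h : ∀ (Z : Over S) [IsAffine Z.left] (z : FibCat.overCat Z ⥤ᵇ 𝒴),
      AlgSt.IsUnivInjective Scheme.fppfPrecoverage (FibCat.fpFst z f)) :
    AlgSt.IsUnivInjective Scheme.fppfPrecoverage f := by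
  haveI := h𝒳.isStack.1
  haveI := h𝒴.isStack.1
  intro 𝒵 h𝒵 g
  haveI := h𝒵.isStack.1
  refine ASt.injective_fpFst_of_liftsIso (ASt.liftsIso_of_forall_field fun p z => ?_) g
  haveI : IsAffine (Over.mk p.str).left := inferInstanceAs (IsAffine (Spec (CommRingCat.of p.K)))
  haveI : FibCat.IsFibGrpd (FibCat.fp z f).p := ASt.isFibGrpd_fp
  have hF := ASt.isAlgStack_fp (ASt.isPrestack_of_isStack h𝒴.isStack) h𝒴.diag
    (ASt.isAlgStack_overCat (Over.mk p.str)) h𝒳 z f
  exact ASt.liftsIso_of_surjective_diag (ASt.surjective_diag_of_injective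
    (h (Over.mk p.str) z (FibCat.fp z f) hF (FibCat.fpFst z f)))

end Groth.Agent.S13569
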