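import Groth.Statements.S1357
import Groth.Agent.S1654
import Groth.Agent.ResLiftLib.Basic
-- import your own Groth.Agent.* helpers here

set_option backward.isDefEq.respectTransparency false
set_option backward.isDefEq.respectTransparency.types false
set_option linter.style.haveILetI false

set_option autoImplicit false
universe u
open FlatMor

namespace Groth.Agent.S1357

open CategoryTheory CategoryTheory.Limits AlgebraicGeometry Polynomial

/-- Geometric irreducibility of a reduced closed subscheme only depends on the underlying set. -/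
theorem geomIrred_of_range {Z Z' X S : Scheme.{u}} (i : Z ⟶ X) (i' : Z' ⟶ X) [IsPreimmersion i] [IsPreimmersion i']
    (h : Set.range i' = Set.range i) (s : X ⟶ S) [GeometricallyIrreducible (i ≫ s)] :
    GeometricallyIrreducible (i' ≫ s) := by
  refine ⟨geometrically_iff_of_isClosedUnderIsomorphisms.mpr fun K _ x => ?_⟩
  have key : ∀ {W : Scheme.{u}} (j : W ⟶ X) [IsPreimmersion j],
      IrreducibleSpace ↥(pullback (j ≫ s) x) ↔ IsIrreducible (pullback.fst s x ⁻¹' Set.range j) := by
    intro W j _
    let m := (pullbackRightPullbackFstIso s x j).inv ≫ pullback.snd j (pullback.fst s x)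
    have hr : Set.range m = pullback.fst s x ⁻¹' Set.range j := by
      rw [Scheme.Hom.comp_base, TopCat.coe_comp, Set.range_comp,
        Set.range_eq_univ.mpr (Scheme.Hom.surjective (pullbackRightPullbackFstIso s x j).inv),
        Set.image_univ, Scheme.Pullback.range_snd]
    haveI : IsPreimmersion m := inferInstance
    rw [← hr, m.isEmbedding.toHomeomorph.irreducibleSpace_iff, ← isIrreducible_iff_irreducibleSpace]
  rw [key, h, ← key]
  exact geometrically_iff_of_isClosedUnderIsomorphisms.mp
    (GeometricallyIrreducible.geometrically_irreducibleSpace (f := i ≫ s)) K x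

/-- Transfer to a base change whose point has residue field `L`. -/
theorem fibre_transfer {X Y Y' : Scheme.{u}} (f : X ⟶ Y) (η : Y) (L : Type u) [Field L]
    [Algebra (Y.residueField η) L] (h : Y' ⟶ Y) (z : Y') (θ : Spec (CommRingCat.of L) ⟶ Spec (Y'.residueField z)) [IsIso θ]
    (hθ : θ ≫ Y'.fromSpecResidueField z ≫ h =
      Spec.map (CommRingCat.ofHom (algebraMap (Y.residueField η) L)) ≫ Y.fromSpecResidueField η)
    (hL : ∀ (T : Set ↥(pullback (f.fiberToSpecResidueField η)
        (Spec.map (CommRingCat.ofHom (algebraMap (Y.residueField η) L)))))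
      (hT : T ∈ irreducibleComponents _),
        GeometricallyIrreducible ((Scheme.IdealSheafData.vanishingIdeal
          ⟨T, isClosed_of_mem_irreducibleComponents T hT⟩).subschemeι ≫ pullback.snd _ _)) :
    ∀ (Z : Set ↑((pullback.snd f h).fiber z)) (hZ : Z ∈ irreducibleComponents ↑((pullback.snd f h).fiber z)),
      GeometricallyIrreducible ((Scheme.IdealSheafData.vanishingIdeal
        (⟨Z, isClosed_of_mem_irreducibleComponents Z hZ⟩ : TopologicalSpace.Closeds _)).subschemeι ≫
          (pullback.snd f h).fiberToSpecResidueField z) := by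
  intro Z hZ
  let a := Spec.map (CommRingCat.ofHom (algebraMap (Y.residueField η) L))
  have h1 : IsPullback (pullback.fst (pullback.snd f h) (Y'.fromSpecResidueField z) ≫ pullback.fst f h)
      ((pullback.snd f h).fiberToSpecResidueField z) f (Y'.fromSpecResidueField z ≫ h) :=
    (IsPullback.of_hasPullback _ _).paste_horiz (IsPullback.of_hasPullback f h)
  have h2 : IsPullback (pullback.fst (f.fiberToSpecResidueField η) a ≫ pullback.fst f (Y.fromSpecResidueField η))
      (pullback.snd (f.fiberToSpecResidueField η) a ≫ θ) f (Y'.fromSpecResidueField z ≫ h) :=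
    ((IsPullback.of_hasPullback (f.fiberToSpecResidueField η) a).paste_horiz
      (IsPullback.of_hasPullback f (Y.fromSpecResidueField η))).of_iso (Iso.refl _) (Iso.refl _) (asIso θ) (Iso.refl _)
      (by simp) (by simp) (by simp) (by simpa using hθ.symm)
  let e := h1.isoIsPullback _ _ h2
  have he : e.hom ≫ pullback.snd (f.fiberToSpecResidueField η) a ≫ θ = (pullback.snd f h).fiberToSpecResidueField z :=
    h1.isoIsPullback_hom_snd _ _ h2
  let T : Set ↥(pullback (f.fiberToSpecResidueField η) a) := e.inv ⁻¹' Z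
  have hT : T ∈ irreducibleComponents _ :=
    preimage_mem_irreducibleComponents hZ e.inv.isOpenEmbedding
      (by rw [Set.range_eq_univ.mpr e.inv.surjective, Set.inter_univ]; exact hZ.1.nonempty)
  let t := (Scheme.IdealSheafData.vanishingIdeal ⟨T, isClosed_of_mem_irreducibleComponents T hT⟩).subschemeι
  let i := (Scheme.IdealSheafData.vanishingIdeal
        (⟨Z, isClosed_of_mem_irreducibleComponents Z hZ⟩ : TopologicalSpace.Closeds _)).subschemeι
  haveI := hL T hT
  haveI : GeometricallyIrreducible ((t ≫ e.inv) ≫ (pullback.snd f h).fiberToSpecResidueField z) := by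
    rw [← he, Category.assoc, Iso.inv_hom_id_assoc, ← Category.assoc]
    refine (MorphismProperty.cancel_right_of_respectsIso @GeometricallyIrreducible _ θ).mpr ?_
    exact hL T hT
  refine geomIrred_of_range (t ≫ e.inv) i ?_ _
  rw [Scheme.IdealSheafData.range_subschemeι, Scheme.IdealSheafData.coe_support_vanishingIdeal,
    Scheme.Hom.comp_base, TopCat.coe_comp, Set.range_comp, Scheme.IdealSheafData.range_subschemeι,
    Scheme.IdealSheafData.coe_support_vanishingIdeal]
  exact (Set.image_preimage_eq _ e.inv.surjective).symm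

variable {R L : Type u} [CommRing R] [Field L]

/-- The kernel of the evaluation at a root of a minimal monic polynomial. -/
theorem ker_eq (φ : R →+* L) {F : R[X]} (hF : F.Monic) {x : L} (hx : eval₂ φ x F = 0)
    (hmin : ∀ r : R[X], r.degree < F.degree → eval₂ φ x r = 0 → ∀ i, φ (r.coeff i) = 0) :
    RingHom.ker (AdjoinRoot.lift φ x hx) = (RingHom.ker φ).map (AdjoinRoot.of F) := by
  refine le_antisymm (fun w hw => ?_) ?_
  · obtain ⟨G, rfl⟩ := AdjoinRoot.mk_surjective w
    have hG : AdjoinRoot.mk F G = AdjoinRoot.mk F (G %ₘ F) := by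
      rw [AdjoinRoot.mk_eq_mk]
      exact ⟨G /ₘ F, by linear_combination (modByMonic_add_div G F).symm⟩
    rw [RingHom.mem_ker, hG, AdjoinRoot.lift_mk hx] at hw
    haveI := φ.domain_nontrivial
    have hc := hmin _ (degree_modByMonic_lt G hF) hw
    rw [hG, ← (G %ₘ F).sum_C_mul_X_pow_eq, sum_def, map_sum]
    refine Ideal.sum_mem _ fun i _ => ?_
    rw [map_mul, AdjoinRoot.mk_C]
    exact Ideal.mul_mem_right _ _ (Ideal.mem_map_of_mem _ (hc i))
  · rw [Ideal.map_le_iff_le_comap]
    intro a ha
    show AdjoinRoot.lift φ x hx (AdjoinRoot.of F a) = 0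
    rw [AdjoinRoot.lift_of]; exact ha

/-- The only prime over the kernel. -/
theorem prime_eq (φ : R →+* L) {F : R[X]} (hF : F.Monic) {x : L} (hx : eval₂ φ x F = 0)
    (hmin : ∀ r : R[X], r.degree < F.degree → eval₂ φ x r = 0 → ∀ i, φ (r.coeff i) = 0)
    (Q : Ideal (AdjoinRoot F)) [Q.IsPrime] (hQ : Q.comap (AdjoinRoot.of F) = RingHom.ker φ) :
    Q = RingHom.ker (AdjoinRoot.lift φ x hx) := by
  haveI : Module.Finite R (AdjoinRoot F) := hF.finite_adjoinRoot
  have hle : RingHom.ker (AdjoinRoot.lift φ x hx) ≤ Q := by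
    rw [ker_eq φ hF hx hmin, Ideal.map_le_iff_le_comap, hQ]
  haveI : (RingHom.ker (AdjoinRoot.lift φ x hx)).IsPrime := RingHom.ker_isPrime _
  by_contra hne
  have hlt := lt_of_le_of_ne hle fun h => hne h.symm
  have h2 := Ideal.IsIntegral.comap_lt_comap (R := R) hlt
  have h3 : (RingHom.ker (AdjoinRoot.lift φ x hx)).comap (algebraMap R (AdjoinRoot F)) = RingHom.ker φ :=
    Ideal.ext fun a => by simp [AdjoinRoot.algebraMap_eq]
  rw [AdjoinRoot.algebraMap_eq] at h2 h3
  exact lt_irrefl _ (lt_of_lt_of_le h2 (hQ.le.trans h3.symm.le))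

/-- The algebra part: a finite etale algebra over a localisation, generated over the point. -/
theorem exists_algebra [Algebra R L] {x : L} {F : R[X]} (hF : F.Monic) (hx : eval₂ (algebraMap R L) x F = 0)
    (hmin : ∀ r : R[X], r.degree < F.degree → eval₂ (algebraMap R L) x r = 0 → ∀ i, algebraMap R L (r.coeff i) = 0)
    (hd : eval₂ (algebraMap R L) x (derivative F) ≠ 0) :
    ∃ f : R, algebraMap R L f ≠ 0 ∧ ∀ φ' : Localization.Away f →+* L, φ'.comp (algebraMap R _) = algebraMap R L →
      ∃ (S : Type u) (_ : CommRing S) (_ : Algebra (Localization.Away f) S) (_ : Algebra.Etale (Localization.Away f) S)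
        (_ : Module.Finite (Localization.Away f) S) (_ : Module.FaithfullyFlat (Localization.Away f) S) (ψ : S →+* L),
        ψ.comp (algebraMap _ S) = φ' ∧ x ∈ Set.range ψ ∧
          ∀ Q : Ideal S, Q.IsPrime → Q.comap (algebraMap (Localization.Away f) S) = RingHom.ker φ' → Q = RingHom.ker ψ := by
  classical
  haveI : Module.Finite R (AdjoinRoot F) := hF.finite_adjoinRoot
  let d := AdjoinRoot.mk F (derivative F)
  obtain ⟨f, hfI, hf⟩ : ∃ f : R, f ∈ (Ideal.span {d}).comap (AdjoinRoot.of F) ∧ algebraMap R L f ≠ 0 := by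
    by_contra hcon
    push Not at hcon
    haveI : (RingHom.ker (algebraMap R L)).IsPrime := RingHom.ker_isPrime _
    obtain ⟨Q, hQ, hQp, hQc⟩ := Ideal.exists_ideal_over_prime_of_isIntegral (RingHom.ker (algebraMap R L))
      (Ideal.span {d}) (fun a ha => RingHom.mem_ker.2 (hcon a ha))
    haveI := hQp
    have hdQ : d ∈ Q := hQ (Ideal.mem_span_singleton_self d)
    rw [prime_eq _ hF hx hmin Q hQc, RingHom.mem_ker, AdjoinRoot.lift_mk hx] at hdQ
    exact hd hdQ
  refine ⟨f, hf, fun φ' hφ' => ?_⟩
  let A := Localization.Away f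
  let F' : A[X] := F.map (algebraMap R A)
  have hF' : F'.Monic := hF.map _
  have hev : ∀ r : R[X], eval₂ φ' x (r.map (algebraMap R A)) = eval₂ (algebraMap R L) x r := fun r => by
    rw [eval₂_map, hφ']
  have hx' : eval₂ φ' x F' = 0 := (hev F).trans hx
  haveI : Nontrivial A := φ'.domain_nontrivial
  haveI : Nontrivial R := (algebraMap R L).domain_nontrivial
  have hunit : IsUnit (algebraMap R A f) := IsLocalization.Away.algebraMap_isUnit f
  have hmin' : ∀ r : A[X], r.degree < F'.degree → eval₂ φ' x r = 0 → ∀ i, φ' (r.coeff i) = 0 := by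
    intro r hr h0 i
    obtain ⟨b, hb, hbr⟩ := IsLocalization.integerNormalization_spec (Submonoid.powers f) r
    have hbu : IsUnit (algebraMap R A b) := IsLocalization.map_units A (⟨b, hb⟩ : Submonoid.powers f)
    set r₀ := IsLocalization.integerNormalization (Submonoid.powers f) r
    have hne : φ' (algebraMap R A b) ≠ 0 := (hbu.map φ').ne_zero
    have hbr' : r₀.map (algebraMap R A) = C (algebraMap R A b) * r := by
      rw [hbr, ← smul_eq_C_mul, algebraMap_smul]
    have hdeg : r₀.degree < F.degree := by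
      rw [hF.degree_map] at hr
      refine lt_of_le_of_lt ((Polynomial.degree_le_iff_coeff_zero _ _).2 fun m hm => ?_) hr
      exact notMem_support_iff.mp fun h => notMem_support_iff.mpr (coeff_eq_zero_of_degree_lt hm)
        (IsLocalization.integerNormalization_support _ _ h)
    have h1 := hmin r₀ hdeg (by rw [← hev, hbr', eval₂_mul, h0, mul_zero]) i
    have h2 : algebraMap R L (r₀.coeff i) = φ' (algebraMap R A b) * φ' (r.coeff i) := by
      rw [← map_mul, ← coeff_C_mul, ← hbr', coeff_map, ← RingHom.comp_apply, hφ']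
    exact (mul_eq_zero.1 (h2.symm.trans h1)).resolve_left hne
  obtain ⟨u₀, hu₀⟩ := hunit
  obtain ⟨c, hc⟩ := Ideal.mem_span_singleton'.1 hfI
  obtain ⟨c, rfl⟩ := AdjoinRoot.mk_surjective c
  have hdvd : F ∣ c * derivative F - C f := by
    rw [← AdjoinRoot.mk_eq_mk, map_mul, AdjoinRoot.mk_C]; exact hc
  obtain ⟨q, hq⟩ := hdvd
  let P : StandardEtalePair A := ⟨F', hF', 1, C (↑u₀⁻¹ : A) * c.map (algebraMap R A),
    - C (↑u₀⁻¹ : A) * q.map (algebraMap R A), 1, by
      have h1 := congrArg (Polynomial.map (algebraMap R A)) hq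
      simp only [Polynomial.map_sub, Polynomial.map_mul, map_C, ← derivative_map] at h1
      have h2 : (C (↑u₀⁻¹ : A) : A[X]) * C (algebraMap R A f) = 1 := by
        rw [← C_mul, ← hu₀, Units.inv_mul, C_1]
      show derivative F' * _ + F' * _ = _
      linear_combination C (↑u₀⁻¹ : A) * h1 + h2⟩
  have hroot : P.HasMap (AdjoinRoot.root F') :=
    ⟨by rw [AdjoinRoot.aeval_eq]; exact AdjoinRoot.mk_self, by
      show IsUnit (aeval _ (1 : A[X]))
      simp⟩
  let σ : AdjoinRoot F' ≃ₐ[A] P.Ring := AlgEquiv.ofAlgHom (AdjoinRoot.liftAlgHom F' _ P.X P.hasMap_X.1)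
    (P.lift _ hroot) (StandardEtalePair.hom_ext (by simp)) (AdjoinRoot.algHom_ext (by simp))
  haveI : Algebra.Etale A (AdjoinRoot F') := Algebra.Etale.of_equiv σ.symm
  haveI : Module.Finite A (AdjoinRoot F') := hF'.finite_adjoinRoot
  haveI : Module.Free A (AdjoinRoot F') := hF'.free_adjoinRoot
  haveI : Nontrivial (AdjoinRoot F') := (AdjoinRoot.lift φ' x hx').domain_nontrivial
  haveI : Module.FaithfullyFlat A (AdjoinRoot F') := inferInstance
  refine ⟨AdjoinRoot F', inferInstance, inferInstance, inferInstance, inferInstance, inferInstance,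
    AdjoinRoot.lift φ' x hx', ?_, ⟨AdjoinRoot.root F', AdjoinRoot.lift_root hx'⟩, fun Q hQ hQc => ?_⟩
  · rw [AdjoinRoot.algebraMap_eq]
    exact RingHom.ext fun a => AdjoinRoot.lift_of hx'
  · haveI := hQ
    exact prime_eq φ' hF' hx' hmin' Q (by rw [← hQc, AdjoinRoot.algebraMap_eq])

open AlgebraicGeometry CategoryTheory Limits in
/-- Let f be of finite type with irreducible target Y. Then there are a nonempty open V of Y and a
surjective finite étale morphism g from an irreducible affine scheme Y' to V such that, for the base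
change f' of f to Y', every irreducible component of the generic fibre of f' (with its reduced
induced structure) is geometrically irreducible over the residue field of the generic point of Y'. -/
theorem result {X Y : Scheme.{u}} (f : X ⟶ Y) [IrreducibleSpace ↑Y] [LocallyOfFiniteType f] [QuasiCompact f] :
    ∃ (V : Y.Opens) (Y' : Scheme.{u}) (g : Y' ⟶ (V : Scheme.{u})) (hY' : IrreducibleSpace ↑Y'), (V : Set ↑Y).Nonempty ∧ IsAffine Y' ∧ Surjective g ∧ IsFinite g ∧ Etale g ∧
      ∀ (Z : Set ↑((pullback.snd f (g ≫ V.ι)).fiber (genericPoint ↑Y'))) (hZ : Z ∈ irreducibleComponents ↑((pullback.snd f (g ≫ V.ι)).fiber (genericPoint ↑Y'))),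
        GeometricallyIrreducible ((Scheme.IdealSheafData.vanishingIdeal (⟨Z, isClosed_of_mem_irreducibleComponents Z hZ⟩ : TopologicalSpace.Closeds _)).subschemeι ≫
          (pullback.snd f (g ≫ V.ι)).fiberToSpecResidueField (genericPoint ↑Y')) := by
  classical
  let η := genericPoint ↑Y
  let κ := Y.residueField η
  letI : (f.fiber η).Over (Spec (CommRingCat.of κ)) := ⟨f.fiberToSpecResidueField η⟩
  haveI : LocallyOfFiniteType (f.fiberToSpecResidueField η) := MorphismProperty.pullback_snd _ _ inferInstance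
  haveI : LocallyOfFiniteType (f.fiber η ↘ Spec (CommRingCat.of κ)) :=
    inferInstanceAs (LocallyOfFiniteType (f.fiberToSpecResidueField η))
  have hfin : (irreducibleComponents (f.fiber η : Type u)).Finite := by
    haveI : QuasiCompact (f.fiberToSpecResidueField η) := MorphismProperty.pullback_snd _ _ inferInstance
    haveI : IsLocallyNoetherian (f.fiber η) := LocallyOfFiniteType.isLocallyNoetherian (f.fiberToSpecResidueField η)
    haveI : CompactSpace (f.fiber η) := QuasiCompact.compactSpace_of_compactSpace (f.fiberToSpecResidueField η)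
    haveI : IsNoetherian (f.fiber η) := ⟨⟩
    exact TopologicalSpace.NoetherianSpace.finite_irreducibleComponents
  obtain ⟨L, _, _, _, _, hL⟩ := Groth.Agent.S1654.result κ (f.fiber η) hfin
  obtain ⟨α, hα⟩ := Field.exists_primitive_element κ L
  obtain ⟨W, hW, hηW, -⟩ := exists_isAffineOpen_mem_and_subset (x := η) (U := ⊤) trivial
  let R : CommRingCat.{u} := Γ(Y, W)
  let ev : R ⟶ κ := Y.evaluation W η hηW
  have hev : Y.fromSpecResidueField η = Spec.map ev ≫ hW.fromSpec := by
    show Spec.map (Y.residue η) ≫ Y.fromSpecStalk η = _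
    rw [← hW.fromSpecStalk_eq_fromSpecStalk hηW, IsAffineOpen.fromSpecStalk, ← Category.assoc, ← Spec.map_comp]
    rfl
  letI : Algebra R L := ((algebraMap κ L).comp ev.hom).toAlgebra
  let G₀ := ResLiftLib.genField (algebraMap R L)
  have hκ : ∀ y : κ, algebraMap κ L y ∈ G₀ := fun y => by
    obtain ⟨y, rfl⟩ := Scheme.residue_surjective Y η y
    letI := TopCat.Presheaf.algebra_section_stalk Y.presheaf (⟨η, hηW⟩ : W)
    haveI := hW.isLocalization_stalk ⟨η, hηW⟩
    obtain ⟨⟨a, s⟩, has⟩ := IsLocalization.surj (M := (hW.primeIdealOf ⟨η, hηW⟩).asIdeal.primeCompl) y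
    have hsu : IsUnit (algebraMap R (Y.presheaf.stalk η) s) := IsLocalization.map_units _ s
    have h1 := congrArg (fun w => algebraMap κ L ((Y.residue η).hom w)) has
    simp only [map_mul] at h1
    have h2 : algebraMap κ L ((Y.residue η).hom (algebraMap R (Y.presheaf.stalk η) s)) ≠ 0 :=
      ((hsu.map _).map (algebraMap κ L)).ne_zero
    rw [eq_div_of_mul_eq h2 h1]
    exact div_mem (ResLiftLib.apply_mem (algebraMap R L) a) (ResLiftLib.apply_mem (algebraMap R L) s)
  letI : Algebra κ G₀ := ((algebraMap κ L).codRestrict _ hκ).toAlgebra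
  haveI : IsScalarTower κ G₀ L := IsScalarTower.of_algebraMap_eq fun _ => rfl
  obtain ⟨s, F, hs, hF, hroot, hmin, hder⟩ := ResLiftLib.exists_lift (algebraMap R L) α
    (Algebra.IsIntegral.isIntegral (R := κ) α).tower_top
  obtain ⟨c, hc, halg⟩ := exists_algebra hF hroot hmin (hder ((Algebra.IsSeparable.isSeparable κ α).tower_top G₀))
  let A := Localization.Away c
  let φ' : A →+* L := IsLocalization.Away.lift c (isUnit_iff_ne_zero.2 hc)
  have hφ' : φ'.comp (algebraMap R A) = algebraMap R L := IsLocalization.Away.lift_comp _ _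
  obtain ⟨S, _, _, _, _, _, ψ, hψ, ⟨x₀, hx₀⟩, huniq⟩ := halg φ' hφ'
  let w : Spec (CommRingCat.of A) ⟶ Y := Spec.map (CommRingCat.ofHom (algebraMap R A)) ≫ hW.fromSpec
  haveI : IsOpenImmersion (Spec.map (CommRingCat.ofHom (algebraMap R A))) := inferInstance
  haveI : IsOpenImmersion w := inferInstance
  let Y' : Scheme.{u} := Spec (CommRingCat.of S)
  let r : Y' ⟶ Spec (CommRingCat.of A) := Spec.map (CommRingCat.ofHom (algebraMap A S))
  let g : Y' ⟶ (w.opensRange : Scheme.{u}) := r ≫ w.isoOpensRange.hom
  have hg : g ≫ w.opensRange.ι = r ≫ w := by simp [g]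
  let m : Spec (CommRingCat.of L) ⟶ Y' := Spec.map (CommRingCat.ofHom ψ)
  let a := Spec.map (CommRingCat.ofHom (algebraMap κ L))
  have hm : m ≫ r ≫ w = a ≫ Y.fromSpecResidueField η := by
    rw [hev]
    simp only [m, r, w, a, ← Category.assoc, ← Spec.map_comp]
    congr 2
    refine CommRingCat.hom_ext ?_
    show (ψ.comp (algebraMap A S)).comp (algebraMap R A) = _
    rw [hψ, hφ']
    rfl
  let z : Y' := m.base (IsLocalRing.closedPoint L)
  have hzη : (r ≫ w).base z = η := by
    show (m ≫ r ≫ w).base (IsLocalRing.closedPoint L) = η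
    rw [hm, Scheme.Hom.comp_apply]
    exact Scheme.fromSpecResidueField_apply _ _
  have hzker : (z : PrimeSpectrum S).asIdeal = RingHom.ker ψ := by
    show (IsLocalRing.closedPoint L).asIdeal.comap ψ = _
    rw [show (IsLocalRing.closedPoint L).asIdeal = (⊥ : Ideal L) from IsLocalRing.maximalIdeal_eq_bot]
    rfl
  have hgen : ∀ y : Y', z ⤳ y := fun y => by
    have h1 : r.base z ⤳ r.base y := by
      rw [← w.isOpenEmbedding.isInducing.specializes_iff, ← Scheme.Hom.comp_apply, hzη]
      exact genericPoint_specializes _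
    have hle := (PrimeSpectrum.le_iff_specializes _ _).2 h1
    haveI : Algebra.HasGoingDown A S := inferInstance
    haveI : (y : PrimeSpectrum S).asIdeal.LiesOver (r.base y : PrimeSpectrum A).asIdeal := ⟨rfl⟩
    obtain ⟨Q, hQy, hQp, hQc⟩ := Ideal.exists_ideal_le_liesOver_of_le (p := (r.base z : PrimeSpectrum A).asIdeal)
      (q := ((r.base y : PrimeSpectrum A)).asIdeal) (y : PrimeSpectrum S).asIdeal hle
    have hQ : Q = RingHom.ker ψ := huniq Q hQp (hQc.over.symm.trans (by
      show (z : PrimeSpectrum S).asIdeal.comap (algebraMap A S) = _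
      rw [hzker, RingHom.comap_ker, hψ]))
    refine (PrimeSpectrum.le_iff_specializes _ _).1 ?_
    show (z : PrimeSpectrum S).asIdeal ≤ _
    rw [hzker, ← hQ]; exact hQy
  have hzspec : IsGenericPoint z (Set.univ : Set Y') :=
    Set.eq_univ_of_forall fun y => (hgen y).mem_closure
  haveI hirr : IrreducibleSpace Y' := (irreducibleSpace_def _).2 hzspec.isIrreducible
  have hz : genericPoint Y' = z := (genericPoint_spec Y').eq hzspec
  haveI : IsFinite r := (IsFinite.SpecMap_iff _).2 (RingHom.finite_algebraMap.2 inferInstance)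
  haveI : Etale r := (HasRingHomProperty.Spec_iff (P := @Etale)).2 (RingHom.etale_algebraMap.2 inferInstance)
  haveI : Surjective r := ⟨PrimeSpectrum.comap_surjective_of_faithfullyFlat (A := A) (B := S)⟩
  refine ⟨w.opensRange, Y', g, hirr, ⟨η, ⟨r.base z, hzη⟩⟩, inferInstance, inferInstance, inferInstance, inferInstance,
    ?_⟩
  -- the residue field at the generic point
  obtain ⟨θ, hθiso, hθ⟩ : ∃ θ : Spec (CommRingCat.of L) ⟶ Spec (Y'.residueField z), IsIso θ ∧
      θ ≫ Y'.fromSpecResidueField z = m := by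
    have hfac : Spec.map (Y'.descResidueField (Scheme.stalkClosedPointTo m)) ≫ Y'.fromSpecResidueField z = m :=
      Scheme.descResidueField_stalkClosedPointTo_fromSpecResidueField L Y' m
    refine ⟨_, ?_, hfac⟩
    let d : Y'.residueField z ⟶ CommRingCat.of L := Y'.descResidueField (Scheme.stalkClosedPointTo m)
    have hd : Spec.preimage (Y'.fromSpecResidueField z) ≫ d = CommRingCat.ofHom ψ :=
      Spec.map_injective (by rw [Spec.map_comp, Spec.map_preimage]; exact hfac)
    have hmem : ∀ v, ψ v ∈ d.hom.fieldRange := fun v => ⟨_, RingHom.congr_fun (congrArg CommRingCat.Hom.hom hd) v⟩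
    have hA : ∀ v, φ' v ∈ d.hom.fieldRange := fun v => hψ ▸ hmem _
    have hG : G₀ ≤ d.hom.fieldRange := Subfield.closure_le.2 fun y ⟨v, hv⟩ =>
      hv ▸ hφ' ▸ hA _
    have hα' : α ∈ d.hom.fieldRange := by
      have h1 : algebraMap R L s * α ∈ d.hom.fieldRange := hx₀ ▸ hmem x₀
      have := mul_mem (inv_mem (hG (ResLiftLib.apply_mem (algebraMap R L) s))) h1
      rwa [← mul_assoc, inv_mul_cancel₀ hs, one_mul] at this
    let M : IntermediateField κ L := d.hom.fieldRange.toIntermediateField fun y => hG (hκ y)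
    have hM : (⊤ : IntermediateField κ L) ≤ M := hα ▸ IntermediateField.adjoin_simple_le_iff.2 hα'
    have hsurj : Function.Surjective d.hom := fun y => hM (IntermediateField.mem_top (x := y))
    haveI : IsIso d := (ConcreteCategory.isIso_iff_bijective d).2 ⟨d.hom.injective, hsurj⟩
    exact inferInstanceAs (IsIso (Spec.map d))
  haveI := hθiso
  intro Z hZ
  revert Z
  rw [show genericPoint ↑Y' = z from hz]
  refine fibre_transfer f η L (g ≫ w.opensRange.ι) z θ ?_ hL
  rw [← Category.assoc, hθ, hg]
  exact hm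

end Groth.Agent.S1357
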