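import Groth.Statements.S13580
import Groth.Agent.SiteBase.SuppSeq
-- import your own Groth.Agent.* helpers here

set_option autoImplicit false
universe w' w u
open CategoryTheory CategoryTheory.Limits
open ExtSupp

namespace Groth.Agent.S13580

/-- Let `U`, `V` be objects of a ringed site which together cover it, with `V` subterminal (every object
has at most one morphism to `V`, so that `V` is an open of the topos and the closed complement `Z`
of `U` is contained in it), and let `M`, `N` be sheaves of modules. Then `Ext^i_Z(M, N)` computed on
the whole site is isomorphic to `Ext^i_{Z}(V; M|_V, N|_V)`, the Ext group with supports computed on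
the localised site over `V` with support the complement of `U × V ⟶ V`. Existence of an isomorphism
of groups in each degree only. (The published statement is for a ringed space, where every open set
is subterminal, a locally closed `Z` and an isomorphism of cohomological functors; this row is the
closed case on a ringed site, degree by degree, with the subterminality of `V` made an explicit
hypothesis. Without the covering hypothesis the statement fails, e.g. for `V = U`; without the
subterminality of `V` it fails already in degree `0`, because restricting to the localised site over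
an object that receives two different morphisms from one object can enlarge the group of sections.) -/
theorem result {C : Type u} [SmallCategory C] [HasBinaryProducts C]
    {J : GrothendieckTopology C} {O : Sheaf J CommRingCat.{u}} [HasExt.{w} (ModSite.Mod O)]
    (U V : C) [HasExt.{w'} (ModSite.Mod (O.over V))]
    (hV : ∀ X : C, Subsingleton (X ⟶ V)) (hUV : J.CoversTop (fun b : Bool => cond b U V)) (M N : ModSite.Mod O)
    (i : ℕ) :
    Nonempty (ExtSupp.ExtZ U M N i ≃+ ExtSupp.ExtZover V (Over.mk (prod.snd : U ⨯ V ⟶ V)) M N i) := by
  haveI := hV
  haveI : HasBinaryProducts (Over V) := by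
    haveI : ∀ {A B : Over V}, HasLimit (pair A B) := fun {A B} => by
      let P : Over V := Over.mk ((Limits.prod.fst : A.left ⨯ B.left ⟶ A.left) ≫ A.hom)
      let p₁ : P ⟶ A := Over.homMk Limits.prod.fst
      let p₂ : P ⟶ B := Over.homMk Limits.prod.snd (Subsingleton.elim _ _)
      exact ⟨⟨{ cone := BinaryFan.mk p₁ p₂
                isLimit := BinaryFan.isLimitMk
                  (fun s => Over.homMk (prod.lift s.fst.left s.snd.left) (Subsingleton.elim _ _))
                  (fun s => Over.OverMorphism.ext (prod.lift_fst _ _))
                  (fun s => Over.OverMorphism.ext (prod.lift_snd _ _))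
                  (fun s m h₁ h₂ => Over.OverMorphism.ext (prod.hom_ext
                    ((congrArg CommaMorphism.left h₁).trans (prod.lift_fst _ _).symm)
                    ((congrArg CommaMorphism.left h₂).trans (prod.lift_snd _ _).symm))) }⟩⟩
    exact hasBinaryProducts_of_hasLimit_pair _
  let W : Over V := Over.mk (prod.snd : U ⨯ V ⟶ V)
  let q := ModSite.quotOn O U
  let c := (ModSite.extZeroAdj O V).counit.app M
  let e₁ : ModSite.extZero O V ⋙ q ≅ ModSite.quotOn (O.over V) W ⋙ ModSite.extZero O V :=
    Adjunction.leftAdjointUniq
      (((ModSite.extZeroAdj O V).comp (Groth.Agent.SiteBase.OpenQuot.quotSectAdj O U)).ofNatIsoRight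
        (Groth.Agent.SiteBase.SectRestr.sectRestrIso O V U))
      ((Groth.Agent.SiteBase.OpenQuot.quotSectAdj (O.over V) W).comp (ModSite.extZeroAdj O V))
  haveI : Mono c := Groth.Agent.SiteBase.SuppSeq.mono_counit O V hV M
  haveI : Mono (q.map c) := Groth.Agent.SiteBase.OpenQuot.mono_quotOn_map O U c
  haveI : Epi (q.map c) := by
    rw [Preadditive.epi_iff_cancel_zero]
    intro Z g hg
    let π := (ModSite.quotOnπ O U).app M
    haveI : Epi π := inferInstanceAs (Epi (cokernel.π ((ModSite.extZeroAdj O U).counit.app M)))
    have hVz : (ModSite.restr O V).map (π ≫ g) = 0 := by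
      refine (ExtSupp.mem_homZ_iff V (π ≫ g)).2 ?_
      show c ≫ π ≫ g = 0
      have e : c ≫ π = (ModSite.quotOnπ O U).app _ ≫ q.map c := (ModSite.quotOnπ O U).naturality c
      rw [← Category.assoc, e, Category.assoc, hg, comp_zero]
    have hUz : (ModSite.restr O U).map (π ≫ g) = 0 := by
      refine (ExtSupp.mem_homZ_iff U (π ≫ g)).2 ?_
      exact (Category.assoc _ _ _).symm.trans
        ((congrArg (· ≫ g) (cokernel.condition _)).trans zero_comp)
    refine (cancel_epi π).1 (Eq.trans ?_ comp_zero.symm)
    refine SheafOfModules.hom_ext (PresheafOfModules.hom_ext fun X => ?_)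
    induction X with
    | op X =>
      ext s
      refine ((isSheaf_iff_isSheaf_of_type _ _).1
        ((sheafCompose J (forget AddCommGrpCat.{u})).obj (ModSite.toAb Z)).property _
          (hUV X)).isSeparatedFor.ext fun Y f hf => ?_
      obtain ⟨b, ⟨k⟩⟩ := hf
      show Z.val.map f.op ((π ≫ g).val.app (Opposite.op X) s) = Z.val.map f.op 0
      rw [← PresheafOfModules.naturality_apply, map_zero]
      cases b
      · exact (Groth.Agent.SiteBase.SectRestr.restr_map_eq_zero_iff O V _).1 hVz Y k _
      · exact (Groth.Agent.SiteBase.SectRestr.restr_map_eq_zero_iff O U _).1 hUz Y k _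
  haveI : IsIso (q.map c) := isIso_of_mono_of_epi _
  let e : q.obj M ≅ (ModSite.extZero O V).obj
      ((ModSite.quotOn (O.over V) W).obj ((ModSite.restr O V).obj M)) :=
    (asIso (q.map c)).symm ≪≫ e₁.app ((ModSite.restr O V).obj M)
  haveI : EnoughInjectives (ModSite.Mod O) :=
    Groth.Agent.SiteBase.enoughInjectives_sheafOfModules (ModSite.ringSh O)
  let E₁ : Abelian.Ext.{w} (q.obj M) N i ≃+ Abelian.Ext.{w} ((ModSite.extZero O V).obj
      ((ModSite.quotOn (O.over V) W).obj ((ModSite.restr O V).obj M))) N i :=
    { toFun := fun x => (Abelian.Ext.mk₀ e.inv).comp x (zero_add i)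
      invFun := fun x => (Abelian.Ext.mk₀ e.hom).comp x (zero_add i)
      left_inv := fun x => by simp
      right_inv := fun x => by simp
      map_add' := fun x y => Abelian.Ext.comp_add _ x y _ }
  exact ⟨E₁.trans (Groth.Agent.SiteBase.extAdjEquiv (ModSite.extZeroAdj O V)
    ((ModSite.quotOn (O.over V) W).obj ((ModSite.restr O V).obj M))
    (fun I _ n => Abelian.Ext.subsingleton_of_injective _ _ n) N i)⟩

end Groth.Agent.S13580
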