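import Groth.Statements.S13582
import Groth.Agent.SpSeqLib.ExtSuppSeq
-- import your own Groth.Agent.* helpers here

set_option autoImplicit false
universe u
open CategoryTheory CategoryTheory.Limits
open ExtSupp

namespace Groth.Agent.S13582

/-- On a ringed site, for an object `U` with closed complement `Z` and a sheaf of modules `M`, the
`q`-th right derived functor of `N ↦ Γ_Z(ℋom_O(M, N))`, which is the definition of Ext with supports
`Ext^q_{O,Z}(M, -)` as a derived functor, is isomorphic as a functor of `N` to `N ↦ Ext^q_O(M ⊗ O_Z,
N) = Ext^q_O(M/M_U, N)`. Existence of an isomorphism of functors only. The internal hom out of `M`,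
the right adjoint of restriction to `U` and injective resolutions of sheaves of modules are assumed
to exist. -/
theorem result {C : Type u} [SmallCategory C]
    {J : GrothendieckTopology C} {O : Sheaf J CommRingCat.{u}} [HasExt.{u} (ModSite.Mod O)]
    (U : C) [ModSite.HasPushOver O U] (M : ModSite.Mod O) [ModSite.HasSheafHom M]
    [HasInjectiveResolutions (ModSite.Mod O)] (q : ℕ) :
    Nonempty (ExtSupp.ExtZR U M q ≅ Abelian.extFunctorObj ((ModSite.quotOn O U).obj M) q) := by
  
  haveI : EnoughInjectives (ModSite.Mod O) :=
    SiteBase.enoughInjectives_sheafOfModules (ModSite.ringSh O)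
  let a : ExtSupp.gammaZHom U M ≅
      preadditiveCoyoneda.obj (Opposite.op ((ModSite.quotOn O U).obj M)) :=
    (Functor.associator _ _ _).symm ≪≫ SpSeqLib.gammaClosedIso U M
  obtain ⟨b⟩ := SpSeqLib.nonempty_rightDerived_coyoneda_natIso ((ModSite.quotOn O U).obj M) q
  let c : (ExtSupp.gammaZHom U M).rightDerived q ≅
      (preadditiveCoyoneda.obj (Opposite.op ((ModSite.quotOn O U).obj M))).rightDerived q :=
    { hom := NatTrans.rightDerived a.hom q
      inv := NatTrans.rightDerived a.inv q
      hom_inv_id := by rw [← NatTrans.rightDerived_comp, a.hom_inv_id, NatTrans.rightDerived_id]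
      inv_hom_id := by rw [← NatTrans.rightDerived_comp, a.inv_hom_id, NatTrans.rightDerived_id] }
  exact ⟨c ≪≫ b⟩

end Groth.Agent.S13582
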