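import Groth.Statements.S13585
import Groth.Agent.CanonFacLib.Graph
-- import your own Groth.Agent.* helpers here

set_option autoImplicit false
set_option backward.isDefEq.respectTransparency false
set_option maxHeartbeats 800000
set_option synthInstance.maxHeartbeats 200000
universe u
open CategoryTheory CategoryTheory.Limits AlgebraicGeometry
open Canon

namespace Groth.Agent.S13585

/-- Let `f : X ⟶ Y` and `g : Y ⟶ Z` be morphisms of schemes with `g` smooth of relative dimension `n`,
and let `Γ : X ⟶ X ×_Z Y` be the graph of `f`. Then `Γ` is a regular immersion of codimension `n`,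
and the top exterior power of its conormal sheaf is `f^* ω_{Y/Z}`, where `ω_{Y/Z} = Λ^n Ω_{Y/Z}`;
that is, the canonical sheaf of the immersion `Γ` is the dual of `f^* ω_{Y/Z}`. (This row takes `X`
locally Noetherian and `g` separated, so that the graph is a closed immersion and the criterion for
sections of smooth morphisms over a locally Noetherian base, through which the published proof goes,
applies; the published statement has arbitrary preschemes.) -/
theorem result {X Y Z : Scheme.{u}} [IsLocallyNoetherian X]
    (f : X ⟶ Y) (g : Y ⟶ Z) (n : ℕ) [SmoothOfRelativeDimension n g] [IsSeparated g]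
    (ωY : Y.Modules) (hω : Canon.IsTopDiff g n ωY) :
    RegImm.IsRegularImmersionOfCodim .regular n (pullback.lift (𝟙 X) f (Category.id_comp (f ≫ g))) ∧
      ExtPow.IsExtPow n (Omega.conormal (pullback.lift (𝟙 X) f (Category.id_comp (f ≫ g))))
        ((Scheme.Modules.pullback f).obj ωY) := by
    set Γ' := pullback.lift (𝟙 X) f (Category.id_comp (f ≫ g)) with hΓ
    have hσ : Γ' ≫ pullback.fst (f ≫ g) g = 𝟙 X := pullback.lift_fst _ _ _
    have hσ' : Γ' ≫ pullback.snd (f ≫ g) g = f := pullback.lift_snd _ _ _
    have hpb := IsPullback.of_hasPullback (f ≫ g) g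
    haveI := smoothOfRelativeDimension_isStableUnderBaseChange (n := n)
    haveI : SmoothOfRelativeDimension n (pullback.fst (f ≫ g) g) :=
      MorphismProperty.pullback_fst (P := @SmoothOfRelativeDimension n) _ _ inferInstance
    haveI : Smooth (pullback.fst (f ≫ g) g) := SmoothOfRelativeDimension.smooth n _
    haveI : IsSeparated (pullback.fst (f ≫ g) g) := MorphismProperty.pullback_fst (P := @IsSeparated) _ _ inferInstance
    haveI : IsClosedImmersion Γ' := by
      haveI : IsClosedImmersion (Γ' ≫ pullback.fst (f ≫ g) g) := by rw [hσ]; infer_instance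
      exact IsClosedImmersion.of_comp Γ' (pullback.fst (f ≫ g) g)
    refine ⟨CanonFac.codim_section (pullback.fst (f ≫ g) g) n Γ' hσ, ?_⟩
    haveI := (PullbackMod.isQCoh_and_isFP_of_isFinLocFree _ (CanonFac.hasFrames_omega g n).1).1
    obtain ⟨κ⟩ := GrpOmega.conormal_section_iso Γ' hσ
    obtain ⟨b⟩ := GrpOmega.omega_baseChange (IsPullback.of_hasPullback (f ≫ g) g).flip
    let c : (Scheme.Modules.pullback f).obj (Omega.sheaf g) ≅ Omega.conormal Γ' :=
      (Scheme.Modules.pullbackCongr hσ'.symm).app _ ≪≫ ((Scheme.Modules.pullbackComp Γ' _).app _).symm ≪≫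
        (Scheme.Modules.pullback Γ').mapIso b ≪≫ κ.symm
    exact KVb.isExtPow_iso c (Iso.refl _) (KVb.isExtPow_pullback f hω)

end Groth.Agent.S13585
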