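import Groth.Statements.S13587
import Groth.Agent.SpSeqLib.ExtSuppSeq
-- import your own Groth.Agent.* helpers here

set_option autoImplicit false
universe u
open CategoryTheory CategoryTheory.Limits
open ExtSupp

namespace Groth.Agent.S13587

/-- On a ringed site, for an object `U` with closed complement `Z` and sheaves of modules `M`, `N`,
there is a bounded `E_2` spectral sequence of abelian groups with `E_2^{p,q}` isomorphic to
`H^p(ℰxt^q_{O,Z}(M, N))` (cohomology of the site) for `p, q ≥ 0` and zero otherwise, together with
abutment data whose filtrations are finite on `Ext^n_Z(M, N)` (`n ≥ 0`; zero for `n < 0`). The `E_2`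
identifications and the abutment isomorphisms are asserted to exist only and are not pinned to the
canonical maps, so edge maps are not part of this statement; the internal hom out of `M`, the right
adjoint of restriction to `U` and injective resolutions of sheaves of modules are assumed to exist.
(The published statement, on a ringed topos and likewise on a ringed space, is functorial in `M`,
`N` and in an object `X` of the topos; this row is the case of the final object.) -/
theorem result {C : Type u} [SmallCategory C]
    {J : GrothendieckTopology C} {O : Sheaf J CommRingCat.{u}} [HasExt.{u} (ModSite.Mod O)]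
    (U : C) [ModSite.HasPushOver O U] (M N : ModSite.Mod O) [ModSite.HasSheafHom M]
    [HasInjectiveResolutions (ModSite.Mod O)] :
    ∃ (E : E₂CohomologicalSpectralSequence AddCommGrpCat.{u})
      (a : SpSeq.Abutment E (fun n : ℤ =>
        if 0 ≤ n then AddCommGrpCat.of (ExtSupp.ExtZ U M N n.toNat) else AddCommGrpCat.of PUnit.{u + 1})),
      (∀ n, a.IsFinite n) ∧ SpSeq.IsBounded E ∧
      ∀ p q : ℤ, Nonempty ((E.page 2 le_rfl).X (p, q) ≅
        (if 0 ≤ p ∧ 0 ≤ q then AddCommGrpCat.of (ModSite.HC O ((ModSite.extZSh U M q.toNat).obj N) p.toNat)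
         else AddCommGrpCat.of PUnit.{u + 1})) := by
  
  haveI : EnoughInjectives (ModSite.Mod O) :=
    SiteBase.enoughInjectives_sheafOfModules (ModSite.ringSh O)
  refine SpSeqLib.exists_grothendieck (ModSite.sheafHom M ⋙ ModSite.sectOn O U)
    (preadditiveCoyoneda.obj (Opposite.op (ModSite.unit O)))
    (fun I hI => haveI := hI;
      SpSeqLib.isAcyclicFor_unit (SpSeqLib.isTotallyAcyclic_sectOn_sheafHom U M I)) N
    (fun n => ?_) (fun n hn => ?_) (fun p q => ?_) (fun p q h => ?_)
  · obtain ⟨e⟩ := SpSeqLib.nonempty_rightDerived_iso_ext _ (SpSeqLib.gammaClosedIso U M) N n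
    exact ⟨e ≪≫ eqToIso (by simp)⟩
  · rw [if_neg (by omega)]
    exact SpSeqLib.isZero_punit
  · obtain ⟨e⟩ := SpSeqLib.nonempty_rightDerived_unit
      (((ModSite.sheafHom M ⋙ ModSite.sectOn O U).rightDerived q).obj N) p
    exact ⟨e ≪≫ eqToIso (by simp)⟩
  · rw [if_neg (by omega)]
    exact SpSeqLib.isZero_punit

end Groth.Agent.S13587
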