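import Groth.Statements.S13592
import Groth.Agent.SpTorsLib.Stack
import Groth.Agent.SpTorsLib.Basic
import Groth.Agent.ASt.Cls
import Groth.Agent.ASt.Stack
-- import your own Groth.Agent.* helpers here

set_option autoImplicit false
set_option backward.isDefEq.respectTransparency false
universe u
open CategoryTheory AlgebraicGeometry MonoidalCategory
open AlgSt

namespace Groth.Agent.S13592

/-- Let `B` be an algebraic space over `S`, `G` a group algebraic space over `B` and `X` an algebraic
space over `B` with a `G`-action. Then the quotient category `[[X/G]]` — objects over `T` are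
triples of `b : T ⟶ B`, an fppf `G_T`-torsor `P` that is an ALGEBRAIC SPACE, and a `G`-equivariant
`P ⟶ X` — is a stack in groupoids over `(Sch/S)_{fppf}`. It is written as the full subcategory, on
the objects whose torsor is an algebraic space, of the analogous category with sheaf torsors. -/
theorem result (S : Scheme.{u}) (B : AlgSp.Sp S) (hB : AlgSp.IsAlgSpace B)
    (G : Over B) [GrpObj G] (hG : AlgSp.IsAlgSpace G.left) (X : Over B) (hX : AlgSp.IsAlgSpace X.left)
    (aX : AlgSp.GAction G X) :
    Stk.IsStack (AlgSp.J S)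
      (AlgSt.fullSub (AlgSt.SpQuotSt Scheme.fppfPrecoverage G aX) (fun A => AlgSp.IsAlgSpace A.P.left)) := by
  haveI : (AlgSt.subIncl (AlgSt.SpQuotSt Scheme.fppfPrecoverage G aX)
      (fun A => AlgSp.IsAlgSpace A.P.left)).toFunctor.Full :=
    ObjectProperty.full_ι _
  haveI : (AlgSt.subIncl (AlgSt.SpQuotSt Scheme.fppfPrecoverage G aX)
      (fun A => AlgSp.IsAlgSpace A.P.left)).toFunctor.Faithful :=
    ObjectProperty.faithful_ι _
  haveI := Groth.Agent.SpTorsLib.isFibGrpd_spQuot (G := G) (aX := aX)
  have he : FibCat.IsEquivOver (AlgSt.subIncl (AlgSt.SpQuotSt Scheme.fppfPrecoverage G aX)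
      (fun A => AlgSp.IsAlgSpace A.P.left)) :=
    Groth.Agent.ASt.isEquivOver_of_vert _ fun y =>
      ⟨⟨y, Groth.Agent.SpTorsLib.isAlgSpace_P hB hG y⟩, rfl, Iso.refl _,
        (AlgSt.SpQuotSt Scheme.fppfPrecoverage G aX).p.map_id y⟩
  obtain ⟨F, hF, -, -⟩ := Groth.Agent.ASt.isEquivOver_symm he
  exact Groth.Agent.ASt.isStack_of_isEquivOver hF (Groth.Agent.SpTorsLib.isStack_spQuot G aX)

end Groth.Agent.S13592
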