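import Groth.Statements.S13595
import Groth.Agent.SpTorsLib.UnitX
import Groth.Agent.SpTorsLib.Basic
import Groth.Agent.SpTorsLib.Fibred
import Groth.Agent.ASp.FppfLocal
import Groth.Agent.ASt.Props
-- import your own Groth.Agent.* helpers here

set_option autoImplicit false
set_option backward.isDefEq.respectTransparency false
universe u
open CategoryTheory AlgebraicGeometry MonoidalCategory
open AlgSt

namespace Groth.Agent.S13595

set_option backward.isDefEq.respectTransparency.types false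

open CategoryTheory.Limits CartesianMonoidalCategory Groth.Agent.ASp Groth.Agent.SpTorsLib in
theorem prop_smooth {S : Scheme.{u}} {B : AlgSp.Sp S} {G : Over B} [GrpObj G] {X : Over B}
    {aX : AlgSp.GAction G X} (hB : AlgSp.IsAlgSpace B) (hG : AlgSp.IsAlgSpace G.left)
    (hs : AlgSp.LocP @Smooth G.hom) (A : AlgSt.SpQuotObj Scheme.fppfPrecoverage G aX) :
    AlgSp.LocP @Smooth A.π.left ∧ AlgSp.IsSurjectiveMor A.π.left := by
  obtain ⟨R, hR, hsec⟩ := A.loc
  obtain ⟨J₀, W₀, f₀, rfl⟩ := Presieve.exists_eq_ofArrows R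
  obtain ⟨h1, h2⟩ := (Scheme.ofArrows_mem_precoverage_iff _).1 hR
  choose i w hw using h1
  let f := fun t => f₀ (i t)
  have hc : Presieve.ofArrows _ f ∈ Scheme.fppfPrecoverage A.base.left :=
    (Scheme.ofArrows_mem_precoverage_iff _).2 ⟨fun t => ⟨t, w t, hw t⟩, fun t => h2 (i t)⟩
  choose s hsπ using fun t => hsec (f t) (Presieve.ofArrows.mk (i t))
  refine ⟨?_, fun p => ?_⟩
  · let X' := fun t => (Over.mk (s t ≫ A.P.hom) : Over B)
    let σ := fun t => (Over.homMk (s t) rfl : X' t ⟶ A.P)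
    have hcov := isFppfCover_yon _ f hc
    refine (Groth.Agent.ASp.isLocalOnBase_locP (fun t => (AlgSp.yon S).obj (Over.mk (f t ≫ A.base.hom)))
      (fun t => (AlgSp.yon S).map (Over.homMk (f t))) (AlgSp.IsAlgSpace.yon_obj _)
      (fun t => AlgSp.IsAlgSpace.yon_obj _)
      (Groth.Agent.ASp.isFpqcCover_of_fppf (AlgSp.IsAlgSpace.yon_obj _) (fun t => AlgSp.IsAlgSpace.yon_obj _)
        (fun t => (hcov.1 t).1) (fun t => (hcov.1 t).2) hcov.2)
      _ (isAlgSpace_P hB hG A) (fun t => (G ⊗ X' t).left) (fun t => (snd G (X' t)).left)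
      (fun t => ((G ◁ σ t) ≫ A.act.act).left)
      (fun t => isAlgSpace_pullback hB.diag hG (AlgSp.IsAlgSpace.yon_obj _) G.hom (X' t).hom) fun t => ?_).2 fun t => ?_
    · have h := isPullback_left (isPullback_triv A (σ t))
      have e : (σ t ≫ A.π).left = (AlgSp.yon S).map (Over.homMk (f t)) := hsπ t
      rw [e] at h
      exact h
    · exact locP_of_isPullback (IsPullback.of_hasPullback G.hom (X' t).hom).flip hG hB
        (AlgSp.IsAlgSpace.yon_obj _) hs
  · obtain ⟨t, rfl⟩ := (AlgSp.Points.schemeHomeo A.base).surjective p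
    refine ⟨AlgSp.Points.map (s t) (AlgSp.Points.schemeHomeo _ (w t)), ?_⟩
    refine (AlgSp.Points.map_comp (s t) A.π.left _).symm.trans ?_
    refine (congrArg (fun m => AlgSp.Points.map m _) (hsπ t)).trans ?_
    rw [AlgSp.Points.map_yon_map_apply]
    exact congrArg _ (hw t)

/-- For a group action: let `B` be an algebraic space over `S`, `G` a group algebraic space over `B`
with `G ⟶ B` smooth, and `X` an algebraic space over `B` with a `G`-action. Then the canonical
morphism `X ⟶ [X/G]` (a `T`-point `x` of `X` goes to the trivial torsor `G ×_B T` with the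
equivariant map `(g, t) ↦ g · x(t)`; torsors given as sheaves) is representable by algebraic spaces,
smooth, and surjective. (The published statement is for a smooth groupoid in algebraic spaces; this
row is the action groupoid.) -/
theorem result (S : Scheme.{u}) (B : AlgSp.Sp S)
    (hB : AlgSp.IsAlgSpace B) (G : Over B) [GrpObj G] (hG : AlgSp.IsAlgSpace G.left)
    (hs : AlgSp.LocP @Smooth G.hom)
    (X : Over B) (hX : AlgSp.IsAlgSpace X.left) (aX : AlgSp.GAction G X) :
    AlgSt.RepByAlgSpWith (AlgSp.LocP @Smooth) (AlgSt.spQuotMap Scheme.fppfPrecoverage G aX) ∧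
      AlgSt.RepByAlgSpWith AlgSp.IsSurjectiveMor (AlgSt.spQuotMap Scheme.fppfPrecoverage G aX) := by
  haveI := Groth.Agent.SpTorsLib.isFibGrpd_spQuot (G := G) (aX := aX)
  have h : ∀ (U : Over S) (y : FibCat.overCat U ⥤ᵇ AlgSt.SpQuotSt Scheme.fppfPrecoverage G aX),
      AlgSp.LocP @Smooth (Groth.Agent.SpTorsLib.top₀R y) ∧
        AlgSp.IsSurjectiveMor (Groth.Agent.SpTorsLib.top₀R y) := fun U y => by
    obtain ⟨h1, h2⟩ := prop_smooth hB hG hs (Groth.Agent.SpTorsLib.top₀ y)
    refine ⟨((AlgSp.LocP @Smooth).cancel_right_of_respectsIso _ _).2 h1, fun p => ?_⟩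
    obtain ⟨q, hq⟩ := h2 (AlgSp.Points.map ((AlgSp.yon S).map (eqToHom (y.w_obj _).symm)) p)
    refine ⟨q, (AlgSp.Points.map_comp _ _ _).trans ?_⟩
    rw [hq, ← AlgSp.Points.map_comp, ← Functor.map_comp, eqToHom_trans, eqToHom_refl,
      CategoryTheory.Functor.map_id, AlgSp.Points.map_id]
  refine ⟨fun U y => ?_, fun U y => ?_⟩
  · obtain ⟨e, he, hr⟩ := Groth.Agent.SpTorsLib.exists_rep_quotMap y
    exact ⟨⟨_, Groth.Agent.SpTorsLib.isAlgSpace_P hB hG _⟩, e, he, hr ▸ (h U y).1⟩
  · obtain ⟨e, he, hr⟩ := Groth.Agent.SpTorsLib.exists_rep_quotMap y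
    exact ⟨⟨_, Groth.Agent.SpTorsLib.isAlgSpace_P hB hG _⟩, e, he, hr ▸ (h U y).2⟩

end Groth.Agent.S13595
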