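import Groth.Statements.S13601
import Groth.Agent.FlatSymLib.Model
-- import your own Groth.Agent.* helpers here

set_option autoImplicit false
universe u
open CategoryTheory AlgebraicGeometry
open SymProd

namespace Groth.Agent.S13601

/-- Let f : X ⟶ S be a flat morphism of schemes such that every finite set of points of X lying over a
single point of S is contained in an affine open of X, let n ≥ 0, and let (Y, q, g) be an n-th
symmetric power of X over S: q : X ×_S ⋯ ×_S X ⟶ Y (n factors) is a quotient by the symmetric group
on n letters permuting the factors (affine, invariant, identifying sections of O_Y with invariant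
sections) and g : Y ⟶ S satisfies q ≫ g = the structure map of the fibre power. Then g is flat. -/
theorem result {X S Y : Scheme.{u}} (f : X ⟶ S) [Flat f]
    (hAF : SymProd.IsAF f) (n : ℕ) (q : SymProd.fibPow f n ⟶ Y) (g : Y ⟶ S)
    (hq : SymProd.IsSymProd f n q g) : Flat g := by
  choose A B cA cB alg flatAB jS hjS jY hjY e hmem _ _ hjg _ using
    fun y => FlatSymLib.exists_chart f hAF n q g hq y
  let 𝒰 : Y.OpenCover := Scheme.Cover.mkOfCovers Y _ jY
    (fun y => ⟨y, (hmem y).choose, (hmem y).choose_spec⟩) hjY
  haveI : IsZariskiLocalAtSource @Flat.{u} :=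
    HasRingHomProperty.instIsZariskiLocalAtSource (Q := RingHom.Flat)
  refine (IsZariskiLocalAtSource.iff_of_openCover (P := @Flat) (f := g) 𝒰).2 fun y => ?_
  change Flat (jY y ≫ g)
  rw [hjg y]
  letI := cA y; letI := cB y; letI := alg y; letI := flatAB y
  haveI : Flat (Spec.map (CommRingCat.ofHom (algebraMap (A y) (SymTen.TS (A y) (B y) n)))) :=
    (HasRingHomProperty.Spec_iff (P := @Flat)).2 (RingHom.flat_algebraMap_iff.2 FlatSymLib.flat_TS)
  haveI := hjS y
  infer_instance

end Groth.Agent.S13601
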