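import Groth.Statements.S16031
import Groth.Agent.FerrandPush.Cover

set_option autoImplicit false
set_option linter.style.haveILetI false
universe u
open CategoryTheory CategoryTheory.Limits AlgebraicGeometry
open FlatMor

namespace Groth.Agent.S16031

open AlgebraicGeometry CategoryTheory CategoryTheory.Limits

theorem avoid {A : Type u} [CommRing A] (I : Ideal A) (a₀ : A) (F : Finset (PrimeSpectrum A))
    (h : ∀ p ∈ F, I ≤ p.asIdeal → a₀ ∉ p.asIdeal) : ∃ c ∈ I, ∀ p ∈ F, a₀ + c ∉ p.asIdeal := by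
  classical
  let M := F.filter (fun p => ∀ q ∈ F, p.asIdeal ≤ q.asIdeal → q = p)
  have hmax : ∀ p ∈ F, ∃ q ∈ M, p.asIdeal ≤ q.asIdeal := by
    intro p hp
    obtain ⟨q, hpq, hq⟩ := F.exists_le_maximal (a := p) hp
    refine ⟨q, Finset.mem_filter.mpr ⟨hq.prop, fun r hr hle => ?_⟩, hpq⟩
    exact le_antisymm (hq.le_of_ge hr hle) hle
  let J := I ⊓ (M.filter (fun p => a₀ ∉ p.asIdeal)).inf (fun p => p.asIdeal)
  let S := M.filter (fun p => a₀ ∈ p.asIdeal)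
  obtain ⟨c, hcJ, hc⟩ : ∃ c ∈ J, ∀ p ∈ S, c ∉ p.asIdeal := by
    by_contra hne
    push Not at hne
    have hsub : (J : Set A) ⊆ ⋃ p ∈ (↑S : Set (PrimeSpectrum A)), (p.asIdeal : Set A) := fun x hx => by
      obtain ⟨p, hp, hxp⟩ := hne x hx
      exact Set.mem_biUnion hp hxp
    rcases S.eq_empty_or_nonempty with h0 | ⟨p₀, -⟩
    · obtain ⟨p, hp, -⟩ := hne 0 J.zero_mem
      rw [h0] at hp
      exact Finset.notMem_empty _ hp
    obtain ⟨p, hp, hJp⟩ := (Ideal.subset_union_prime p₀ p₀ fun q _ _ _ => q.2).mp hsub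
    obtain ⟨hpM, hap⟩ := Finset.mem_filter.mp hp
    rcases p.2.inf_le.mp hJp with hI | hinf
    · exact h p (Finset.mem_filter.mp hpM).1 hI hap
    · obtain ⟨q, hq, hqp⟩ := p.2.inf_le'.mp hinf
      obtain ⟨hqM, haq⟩ := Finset.mem_filter.mp hq
      exact haq (((Finset.mem_filter.mp hqM).2 p (Finset.mem_filter.mp hpM).1 hqp) ▸ hap)
  refine ⟨c, hcJ.1, fun p hp hmem => ?_⟩
  obtain ⟨q, hqM, hpq⟩ := hmax p hp
  have hq := hpq hmem
  by_cases haq : a₀ ∈ q.asIdeal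
  · exact hc q (Finset.mem_filter.mpr ⟨hqM, haq⟩) ((Ideal.add_mem_iff_right _ haq).mp hq)
  · have hmem' : q ∈ M.filter (fun p => a₀ ∉ p.asIdeal) := Finset.mem_filter.mpr ⟨hqM, haq⟩
    have hle : (M.filter (fun p => a₀ ∉ p.asIdeal)).inf (fun p => p.asIdeal) ≤ q.asIdeal := Finset.inf_le hmem'
    have hcq : c ∈ q.asIdeal := hle hcJ.2
    exact haq ((Ideal.add_mem_iff_left _ hcq).mp hq)

theorem exists_basicOpen_finite {T : Scheme.{u}} {U : T.Opens} (hU : IsAffineOpen U) (O : T.Opens)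
    {F : Set T} (hF : F.Finite) (hFU : F ⊆ (U : Set T)) (hFO : F ⊆ (O : Set T)) :
    ∃ g : Γ(T, U), T.basicOpen g ≤ O ∧ F ⊆ (T.basicOpen g : Set T) := by
  let F' : Set (Spec Γ(T, U)) := hU.fromSpec ⁻¹' F
  have hF' : F'.Finite := hF.preimage hU.fromSpec.isOpenEmbedding.injective.injOn
  obtain ⟨s, hs⟩ := (PrimeSpectrum.isOpen_iff (SetLike.coe (hU.fromSpec ⁻¹ᵁ O))).mp (hU.fromSpec ⁻¹ᵁ O).isOpen
  have hmem : ∀ z : Spec Γ(T, U), hU.fromSpec z ∈ O ↔ ¬ Ideal.span s ≤ z.asIdeal := fun z => by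
    rw [Ideal.span_le]
    have := Set.ext_iff.mp hs z
    simp only [Set.mem_compl_iff, PrimeSpectrum.mem_zeroLocus] at this
    rw [← this, not_not]
    rfl
  obtain ⟨c, hcI, hc⟩ := avoid (Ideal.span s) 0 hF'.toFinset fun p hp hle =>
    absurd hle ((hmem p).mp (hFO (hF'.mem_toFinset.mp hp)))
  refine ⟨c, fun x hx => ?_, fun x hx => ?_⟩
  · obtain ⟨z, rfl⟩ := Groth.Agent.FerrandPush.mem_range_fromSpec hU (T.basicOpen_le c hx)
    refine (hmem z).mpr fun hle => ?_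
    exact (SetLike.ext_iff.mp (hU.fromSpec_preimage_basicOpen c) z).mp hx (hle hcI)
  · obtain ⟨z, rfl⟩ := Groth.Agent.FerrandPush.mem_range_fromSpec hU (hFU hx)
    refine (SetLike.ext_iff.mp (hU.fromSpec_preimage_basicOpen c) z).mpr ?_
    have := hc z (hF'.mem_toFinset.mpr hx)
    rwa [zero_add] at this

theorem exists_lift_basicOpen {Y X : Scheme.{u}} (i : Y ⟶ X) [IsClosedImmersion i] {U : X.Opens}
    (hU : IsAffineOpen U) (a₀ : Γ(Y, i ⁻¹ᵁ U)) {E : Set X} (hE : E.Finite) (hEU : E ⊆ (U : Set X))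
    (h : i ⁻¹' E ⊆ (Y.basicOpen a₀ : Set Y)) :
    ∃ a : Γ(X, U), i ⁻¹ᵁ X.basicOpen a = Y.basicOpen a₀ ∧ E ⊆ (X.basicOpen a : Set X) := by
  obtain ⟨a₁, ha₁⟩ := i.app_surjective U hU a₀
  let F : Set (Spec Γ(X, U)) := hU.fromSpec ⁻¹' E
  have hF : F.Finite := hE.preimage hU.fromSpec.isOpenEmbedding.injective.injOn
  obtain ⟨c, hcI, hc⟩ := avoid (RingHom.ker (i.app U).hom) a₁ hF.toFinset fun p hp hle hmem => by
    have hs : Function.Surjective (i.app U).hom := i.app_surjective U hU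
    let w : PrimeSpectrum Γ(Y, i ⁻¹ᵁ U) := ⟨Ideal.map (i.app U).hom p.asIdeal,
      Ideal.map_isPrime_of_surjective hs hle⟩
    have hw : PrimeSpectrum.comap (i.app U).hom w = p := PrimeSpectrum.ext
      ((Ideal.comap_map_of_surjective _ hs _).trans (sup_eq_left.mpr hle))
    have e := congrArg (fun t => t w) (hU.SpecMap_appLE_fromSpec i (hU.preimage i) le_rfl)
    simp only [Scheme.Hom.comp_apply] at e
    rw [← Scheme.Hom.app_eq_appLE] at e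
    have hiE : i ((hU.preimage i).fromSpec w) ∈ E := by
      rw [← e]
      show hU.fromSpec (PrimeSpectrum.comap (i.app U).hom w) ∈ E
      rw [hw]
      exact hF.mem_toFinset.mp hp
    have h1 : a₀ ∉ w.asIdeal :=
      (SetLike.ext_iff.mp ((hU.preimage i).fromSpec_preimage_basicOpen a₀) w).mp (h hiE)
    apply h1
    rw [← ha₁]
    exact Ideal.mem_map_of_mem _ hmem
  refine ⟨a₁ + c, ?_, fun x hx => ?_⟩
  · rw [Scheme.preimage_basicOpen, map_add, RingHom.mem_ker.mp hcI, add_zero, ha₁]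
  · obtain ⟨z, rfl⟩ := Groth.Agent.FerrandPush.mem_range_fromSpec hU (hEU hx)
    exact (SetLike.ext_iff.mp (hU.fromSpec_preimage_basicOpen _) z).mpr (hc z (hF.mem_toFinset.mpr hx))

theorem key {Y X₁ X₂ : Scheme.{u}} (θ₁ : Y ⟶ X₁) (θ₂ : Y ⟶ X₂) [IsClosedImmersion θ₁] [IsClosedImmersion θ₂]
    {E₁ : Set X₁} {E₂ : Set X₂} (hE₁ : E₁.Finite) (hE₂ : E₂.Finite) (heq : θ₁ ⁻¹' E₁ = θ₂ ⁻¹' E₂)
    {U₁ : X₁.Opens} (hU₁ : IsAffineOpen U₁) (h₁ : E₁ ⊆ (U₁ : Set X₁))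
    {U₂ : X₂.Opens} (hU₂ : IsAffineOpen U₂) (h₂ : E₂ ⊆ (U₂ : Set X₂)) :
    ∃ α : Groth.Agent.FerrandPush.Chart θ₁ θ₂, E₁ ⊆ (α.U : Set X₁) ∧ E₂ ⊆ (α.V : Set X₂) := by
  let T₁ := θ₁ ⁻¹ᵁ U₁
  let T₂ := θ₂ ⁻¹ᵁ U₂
  let F := θ₁ ⁻¹' E₁
  have hF : F.Finite := hE₁.preimage θ₁.isClosedEmbedding.injective.injOn
  have hF₁ : F ⊆ (T₁ : Set Y) := fun z hz => h₁ hz
  have hF₂ : F ⊆ (T₂ : Set Y) := fun z hz => h₂ (show z ∈ θ₂ ⁻¹' E₂ from heq ▸ hz)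
  have hT₁ : IsAffineOpen T₁ := hU₁.preimage θ₁
  have hT₂ : IsAffineOpen T₂ := hU₂.preimage θ₂
  obtain ⟨g, hgO, hgF⟩ := exists_basicOpen_finite hT₁ (T₁ ⊓ T₂) hF hF₁ (fun z hz => ⟨hF₁ hz, hF₂ hz⟩)
  obtain ⟨k, hkO, hkF⟩ := exists_basicOpen_finite hT₂ (Y.basicOpen g) hF hF₂ hgF
  letI := (Y.presheaf.map (homOfLE (Y.basicOpen_le g)).op).hom.toAlgebra
  haveI := hT₁.isLocalization_basicOpen g
  obtain ⟨n, h, hh⟩ := IsLocalization.Away.surj (S := Γ(Y, Y.basicOpen g)) g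
    (Y.presheaf.map (homOfLE (hgO.trans inf_le_right)).op k)
  have e2 := congrArg Y.basicOpen hh
  rw [Scheme.basicOpen_mul, Scheme.basicOpen_of_isUnit _
    ((IsLocalization.Away.algebraMap_isUnit (S := Γ(Y, Y.basicOpen g)) g).pow n)] at e2
  erw [Scheme.basicOpen_res, Scheme.basicOpen_res] at e2
  have eD : Y.basicOpen (g * h) = Y.basicOpen k := by
    rw [Scheme.basicOpen_mul]
    erw [← e2]
    exact le_antisymm (inf_le_left.trans inf_le_right) (le_inf (le_inf hkO le_rfl) hkO)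
  obtain ⟨a, ha, haE⟩ := exists_lift_basicOpen θ₁ hU₁ (g * h) hE₁ h₁ (by rw [eD]; exact hkF)
  obtain ⟨b, hb, hbE⟩ := exists_lift_basicOpen θ₂ hU₂ k hE₂ h₂ (heq ▸ hkF)
  exact ⟨⟨(⟨X₁.basicOpen a, hU₁.basicOpen a⟩, ⟨X₂.basicOpen b, hU₂.basicOpen b⟩),
    ha.trans (eD.trans hb.symm)⟩, haE, hbE⟩


/-- Let θ₁ : Y ⟶ X₁ and θ₂ : Y ⟶ X₂ be closed immersions of schemes and let X, with φ₁ : X₁ ⟶ X and φ₂ :
X₂ ⟶ X, be their pushout in the category of schemes. If a finite set E of points of X has each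
preimage φᵢ⁻¹(E) contained in an affine open of Xᵢ, then E is contained in an affine open of X. -/
theorem result
    {Y X₁ X₂ X : Scheme.{u}} (θ₁ : Y ⟶ X₁) (θ₂ : Y ⟶ X₂) [IsClosedImmersion θ₁] [IsClosedImmersion θ₂]
    (φ₁ : X₁ ⟶ X) (φ₂ : X₂ ⟶ X) (hX : IsPushout θ₁ θ₂ φ₁ φ₂)
    (E : Set ↥X) (hE : E.Finite)
    (h₁ : ∃ U₁ : X₁.Opens, IsAffineOpen U₁ ∧ φ₁ ⁻¹' E ⊆ (U₁ : Set ↥X₁))
    (h₂ : ∃ U₂ : X₂.Opens, IsAffineOpen U₂ ∧ φ₂ ⁻¹' E ⊆ (U₂ : Set ↥X₂)) :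
    ∃ U : X.Opens, IsAffineOpen U ∧ E ⊆ (U : Set ↥X) := by
  have haff : ∀ y : X₂, ∃ U : X₁.Opens, IsAffineOpen U ∧ θ₂ ⁻¹' {y} ⊆ θ₁ ⁻¹' (U : Set X₁) := by
    intro y
    by_cases h : ∃ z, θ₂ z = y
    · obtain ⟨z, rfl⟩ := h
      obtain ⟨U, hU, hx, -⟩ := exists_isAffineOpen_mem_and_subset (U := ⊤) (show θ₁ z ∈ (⊤ : X₁.Opens) from trivial)
      refine ⟨U, hU, fun w hw => ?_⟩
      rw [show w = z from θ₂.isClosedEmbedding.injective hw]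
      exact hx
    · exact ⟨⊥, isAffineOpen_bot X₁, fun w hw => absurd ⟨w, hw⟩ h⟩
  obtain ⟨hC₁, hC₂⟩ := FerrandPush.exists_chart_of_integral θ₁ θ₂ haff
  obtain ⟨a₀, b₀, hP₀, ha, hb⟩ := FerrandPush.exists_pushout_charts θ₁ θ₂ hC₁ hC₂
  let e := hP₀.isoIsPushout _ _ hX
  have ea : a₀ ≫ e.hom = φ₁ := hP₀.inl_isoIsPushout_hom _ _ hX
  have eb : b₀ ≫ e.hom = φ₂ := hP₀.inr_isoIsPushout_hom _ _ hX
  have inja : IsClosedImmersion a₀ := by
    refine FerrandPush.prop_a @IsClosedImmersion ha hC₁ fun α => ?_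
    refine IsClosedImmersion.spec_of_surjective _ fun a' => ?_
    obtain ⟨b', hb'⟩ : ∃ b', α.cart.q b' = α.cart.p a' := by
      show ∃ b', θ₂.appLE α.V α.W α.W_eq.le b' = α.cart.p a'
      have hs : Function.Surjective (θ₂.appLE α.V α.W α.W_eq.le) := by
        rw [Scheme.Hom.appLE, show homOfLE α.W_eq.le = eqToHom α.W_eq from Subsingleton.elim _ _]
        exact (ConcreteCategory.bijective_of_isIso (Y.presheaf.map (eqToHom α.W_eq).op)).2.comp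
          (θ₂.app_surjective α.V α.hV)
      exact hs _
    obtain ⟨c, -, hc⟩ := α.cart.lift' b' a' hb'
    exact ⟨c, hc⟩
  have injb := FerrandPush.isClosedImmersion_b hb hC₂
  have i₁ : IsClosedImmersion φ₁ := by rw [← ea]; infer_instance
  have i₂ : IsClosedImmersion φ₂ := by rw [← eb]; infer_instance
  obtain ⟨U₁, hU₁, hE₁⟩ := h₁
  obtain ⟨U₂, hU₂, hE₂⟩ := h₂
  have heq : θ₁ ⁻¹' (φ₁ ⁻¹' E) = θ₂ ⁻¹' (φ₂ ⁻¹' E) := by
    ext z
    show φ₁ (θ₁ z) ∈ E ↔ φ₂ (θ₂ z) ∈ E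
    rw [← Scheme.Hom.comp_apply, ← Scheme.Hom.comp_apply, hX.w]
  obtain ⟨α, hα₁, hα₂⟩ := key θ₁ θ₂ (hE.preimage φ₁.isClosedEmbedding.injective.injOn)
    (hE.preimage φ₂.isClosedEmbedding.injective.injOn) heq hU₁ hE₁ hU₂ hE₂
  refine ⟨(FerrandPush.chartι θ₁ θ₂ α ≫ e.hom).opensRange, isAffineOpen_opensRange _, fun x hx => ?_⟩
  obtain ⟨β, c, hc⟩ := Scheme.IsLocallyDirected.ι_jointly_surjective (FerrandPush.chartFunctor θ₁ θ₂) (e.inv x)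
  have hxx : e.hom (e.inv x) = x := by rw [← Scheme.Hom.comp_apply, e.inv_hom_id]; rfl
  rcases β.cart.exists_prime c with ⟨y, hy⟩ | ⟨y, hy⟩
  · have h0 : b₀ (β.hV.fromSpec y) = e.inv x := by
      rw [← Scheme.Hom.comp_apply, hb β, FerrandPush.toGluedV, Scheme.Hom.comp_apply, ← hc, ← hy]
      rfl
    have hmem : β.hV.fromSpec y ∈ α.V := hα₂ (show φ₂ (β.hV.fromSpec y) ∈ E by
      rw [← eb, Scheme.Hom.comp_apply, h0, hxx]; exact hx)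
    rw [← FerrandPush.preimage_chartι_opensRange_V hb hC₂ α] at hmem
    obtain ⟨w, hw⟩ := hmem
    exact ⟨w, by rw [Scheme.Hom.comp_apply, hw, h0, hxx]⟩
  · have h0 : a₀ (β.hU.fromSpec y) = e.inv x := by
      rw [← Scheme.Hom.comp_apply, ha β, FerrandPush.toGluedU, Scheme.Hom.comp_apply, ← hc, ← hy]
      rfl
    have hmem : β.hU.fromSpec y ∈ α.U := hα₁ (show φ₁ (β.hU.fromSpec y) ∈ E by
      rw [← ea, Scheme.Hom.comp_apply, h0, hxx]; exact hx)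
    rw [← FerrandPush.preimage_chartι_opensRange_U ha hC₁ α] at hmem
    obtain ⟨w, hw⟩ := hmem
    exact ⟨w, by rw [Scheme.Hom.comp_apply, hw, h0, hxx]⟩

end Groth.Agent.S16031
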