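import Groth.Statements.S13602
import Groth.Agent.S16031

set_option autoImplicit false
universe u
open CategoryTheory AlgebraicGeometry
open SymProd

namespace Groth.Agent.S13602

open AlgebraicGeometry CategoryTheory CategoryTheory.Limits

theorem isAffine_widePullback {J : Type} (B : Scheme.{u}) (o : J → Scheme.{u}) (g : ∀ j, o j ⟶ B)
    [IsAffine B] [∀ j, IsAffine (o j)] [HasWidePullback B o g] : IsAffine (widePullback B o g) := by
  haveI : HasLimitsOfSize.{0, 0} AffineScheme.{u} := hasLimitsOfSizeShrink.{0, 0} AffineScheme.{u}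
  haveI : PreservesLimitsOfSize.{0, 0} AffineScheme.forgetToScheme.{u} := preservesLimitsOfSize_shrink.{0, u, 0, u} _
  let D' : WidePullbackShape J ⥤ AffineScheme.{u} := WidePullbackShape.wideCospan (AffineScheme.of B)
    (fun j => AffineScheme.of (o j)) (fun j => AffineScheme.ofHom (g j))
  let e : D' ⋙ AffineScheme.forgetToScheme ≅ WidePullbackShape.wideCospan B o g :=
    WidePullbackShape.diagramIsoWideCospan _
  haveI : HasLimit (D' ⋙ AffineScheme.forgetToScheme) := hasLimit_of_iso e.symm
  haveI : IsAffine (AffineScheme.forgetToScheme.obj (limit D')) := isAffine_affineScheme (limit D')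
  exact IsAffine.of_isIso ((HasLimit.isoOfNatIso e).symm ≪≫ (preservesLimitIso AffineScheme.forgetToScheme D').symm).hom


/-- Let f : X ⟶ S be a morphism of schemes satisfying (AF): every finite set of points of X over a
single point of S lies in an affine open of X. Then for every d ≥ 0 and every point x of the d-fold
fibre power X ×_S ⋯ ×_S X, some affine open of the fibre power contains the whole orbit of x under
the symmetric group on d letters permuting the factors. (With the existence of a quotient by a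
finite group whose orbits lie in affine opens, this is the existence of the symmetric power
Sym^d(X/S) for X/S satisfying (AF).) -/
theorem result {X S : Scheme.{u}} (f : X ⟶ S) (hAF : SymProd.IsAF f)
    (d : ℕ) (x : ↥(SymProd.fibPow f d)) :
    ∃ U : (SymProd.fibPow f d).Opens, IsAffineOpen U ∧
      ∀ σ : Equiv.Perm (Fin d), (SymProd.permHom f d σ).base x ∈ U := by
  classical
  let s : S := WidePullback.base (fun _ : Fin d => f) x
  obtain ⟨V, hV, hsV, -⟩ := exists_isAffineOpen_mem_and_subset (X := S) (x := s) (U := ⊤) trivial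
  let T : Finset X := Finset.univ.image fun i => WidePullback.π (fun _ : Fin d => f) i x
  have hT : ∀ z ∈ T, f z = s := by
    intro z hz
    obtain ⟨i, -, rfl⟩ := Finset.mem_image.1 hz
    rw [← Scheme.Hom.comp_apply, WidePullback.π_arrow]
  obtain ⟨U, hU, hTU⟩ := hAF s T hT
  obtain ⟨h, hhV, hTh⟩ := S16031.exists_basicOpen_finite hU (f ⁻¹ᵁ V) T.finite_toSet (fun z hz => hTU z hz)
    (fun z hz => show f z ∈ V by rw [hT z hz]; exact hsV)
  let W := X.basicOpen h
  haveI : IsAffine W.toScheme := hU.basicOpen h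
  haveI : IsAffine V.toScheme := hV
  let f' : W.toScheme ⟶ V.toScheme := f.resLE V W hhV
  haveI : HasWidePullback V.toScheme (fun _ : Fin d => W.toScheme) (fun _ => f') := inferInstance
  let P := widePullback V.toScheme (fun _ : Fin d => W.toScheme) (fun _ => f')
  haveI : IsAffine P := isAffine_widePullback _ _ _
  let Φ : P ⟶ SymProd.fibPow f d := WidePullback.lift (WidePullback.base _ ≫ V.ι) (fun i => WidePullback.π _ i ≫ W.ι)
    (fun i => by rw [Category.assoc, ← Scheme.Hom.resLE_comp_ι f hhV, ← Category.assoc, WidePullback.π_arrow])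
  let O : (SymProd.fibPow f d).Opens :=
    (WidePullback.base (fun _ : Fin d => f)) ⁻¹ᵁ V ⊓ Finset.univ.inf fun i : Fin d => (WidePullback.π (fun _ : Fin d => f) i) ⁻¹ᵁ W
  have hO : ∀ z, z ∈ O ↔ WidePullback.base (fun _ : Fin d => f) z ∈ V ∧ ∀ i, WidePullback.π (fun _ : Fin d => f) i z ∈ W := by
    intro z
    show z ∈ (_ ⊓ _ : (SymProd.fibPow f d).Opens) ↔ _
    simp [← SetLike.mem_coe, TopologicalSpace.Opens.coe_finset_inf, Finset.inf_set_eq_iInter]
  have hb : Φ ≫ WidePullback.base _ = WidePullback.base _ ≫ V.ι := WidePullback.lift_base ..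
  have hp : ∀ i, Φ ≫ WidePullback.π _ i = WidePullback.π _ i ≫ W.ι := fun i => WidePullback.lift_π ..
  have hrange : Set.range Φ ⊆ Set.range O.ι := by
    rintro _ ⟨z, rfl⟩
    rw [Scheme.Opens.range_ι]
    refine (hO _).2 ⟨?_, fun i => ?_⟩
    · rw [← Scheme.Hom.comp_apply, hb]; exact (WidePullback.base (fun _ : Fin d => f') z).2
    · rw [← Scheme.Hom.comp_apply, hp]; exact (WidePullback.π (fun _ : Fin d => f') i z).2
  let Φ0 : P ⟶ O.toScheme := IsOpenImmersion.lift O.ι Φ hrange
  have hΦ0 : Φ0 ≫ O.ι = Φ := IsOpenImmersion.lift_fac _ _ _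
  let bO : O.toScheme ⟶ V.toScheme := IsOpenImmersion.lift V.ι (O.ι ≫ WidePullback.base _) (by
    rintro _ ⟨z, rfl⟩
    rw [Scheme.Opens.range_ι, Scheme.Hom.comp_apply]
    exact ((hO _).1 z.2).1)
  let πO : Fin d → (O.toScheme ⟶ W.toScheme) := fun i => IsOpenImmersion.lift W.ι (O.ι ≫ WidePullback.π _ i) (by
    rintro _ ⟨z, rfl⟩
    rw [Scheme.Opens.range_ι, Scheme.Hom.comp_apply]
    exact ((hO _).1 z.2).2 i)
  let Ψ : O.toScheme ⟶ P := WidePullback.lift bO πO (fun i => by
    rw [← cancel_mono V.ι, Category.assoc, Scheme.Hom.resLE_comp_ι, IsOpenImmersion.lift_fac_assoc, IsOpenImmersion.lift_fac, Category.assoc, WidePullback.π_arrow])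
  have h1 : Ψ ≫ Φ = O.ι := by
    refine WidePullback.hom_ext _ _ _ (fun i => ?_) ?_
    · rw [Category.assoc, hp, WidePullback.lift_π_assoc, IsOpenImmersion.lift_fac]
    · rw [Category.assoc, hb, WidePullback.lift_base_assoc, IsOpenImmersion.lift_fac]
  have h2 : Φ0 ≫ Ψ = 𝟙 P := by
    refine WidePullback.hom_ext _ _ _ (fun i => ?_) ?_
    · rw [Category.assoc, WidePullback.lift_π, ← cancel_mono W.ι, Category.assoc, IsOpenImmersion.lift_fac, ← Category.assoc, hΦ0, hp, Category.id_comp]
    · rw [Category.assoc, WidePullback.lift_base, ← cancel_mono V.ι, Category.assoc, IsOpenImmersion.lift_fac, ← Category.assoc, hΦ0, hb, Category.id_comp]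
  have h3 : Ψ ≫ Φ0 = 𝟙 _ := by
    rw [← cancel_mono O.ι, Category.assoc, hΦ0, h1, Category.id_comp]
  haveI : IsIso Ψ := ⟨Φ0, h3, h2⟩
  refine ⟨O, IsAffine.of_isIso Ψ, fun σ => (hO _).2 ⟨?_, fun i => ?_⟩⟩
  · rw [← Scheme.Hom.comp_apply, SymProd.permHom_base]; exact hsV
  · rw [← Scheme.Hom.comp_apply, SymProd.permHom_π]
    exact hTh (Finset.mem_coe.2 (Finset.mem_image.2 ⟨σ.symm i, Finset.mem_univ _, rfl⟩))

end Groth.Agent.S13602
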