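import Mathlib
import Mathlib
import Groth.Statements.S13603

set_option autoImplicit false
universe u v
open CAlg

namespace Groth.Agent.S13603

/-- Let a group G act on a commutative ring B by ring automorphisms so that every element of B has a
finite orbit, and let S ⊆ B be a multiplicative set of G-fixed elements (so each g ∈ G induces an
endomorphism of the localization S⁻¹B; the hypothesis that g maps S into S is implied by the
previous one and is only carried to name that endomorphism). Then an element of S⁻¹B is fixed by all
of G if and only if it is a fraction b/s with b fixed by G and s ∈ S: the canonical map S⁻¹(B^G) →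
(S⁻¹B)^G is onto. -/
theorem result {B : Type u} [CommRing B]
    {G : Type v} [Group G] [MulSemiringAction G B] (hfin : ∀ b : B, (MulAction.orbit G b).Finite)
    (S : Submonoid B) (hS : ∀ (g : G) (s : B), s ∈ S → g • s = s)
    (hS' : ∀ g : G, S ≤ S.comap (MulSemiringAction.toRingHom G B g)) (x : Localization S) :
    (∀ g : G, IsLocalization.map (Localization S) (MulSemiringAction.toRingHom G B g) (hS' g) x = x) ↔
      ∃ (b : B) (s : S), (∀ g : G, g • b = b) ∧ x = IsLocalization.mk' (Localization S) b s := by
  classical
  constructor
  · intro hx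
    obtain ⟨b, s, rfl⟩ := IsLocalization.exists_mk'_eq S x
    have key : ∀ g : G, ∃ c : S, (c : B) * (g • b) = c * b := by
      intro g
      have h := hx g
      rw [IsLocalization.map_mk', IsLocalization.mk'_eq_iff_eq] at h
      obtain ⟨c, hc⟩ := (IsLocalization.eq_iff_exists S (Localization S)).mp h
      simp only [MulSemiringAction.toRingHom_apply, hS g s s.2] at hc
      exact ⟨c * s, by simpa [mul_assoc] using hc⟩
    choose c hc using key
    have hc' : ∀ y ∈ hfin b |>.toFinset, ∃ d : S, (d : B) * y = d * b := fun y hy => by
      obtain ⟨g, rfl⟩ := (hfin b).mem_toFinset.mp hy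
      exact ⟨c g, hc g⟩
    choose d hd using hc'
    let T : S := ∏ y ∈ (hfin b).toFinset.attach, d y.1 y.2
    have hT : ∀ g : G, (T : B) * (g • b) = T * b := fun g => by
      have hy : g • b ∈ (hfin b).toFinset := (hfin b).mem_toFinset.mpr ⟨g, rfl⟩
      obtain ⟨r, hr⟩ : d _ hy ∣ T := Finset.dvd_prod_of_mem (fun y : {x // x ∈ (hfin b).toFinset} => d y.1 y.2) (Finset.mem_attach _ ⟨_, hy⟩)
      rw [hr, Submonoid.coe_mul, mul_right_comm, hd _ hy]; ring
    refine ⟨(T : B) * b, T * s, fun g => by rw [smul_mul', hS g T T.2, hT g], ?_⟩
    rw [IsLocalization.mk'_eq_iff_eq, Submonoid.coe_mul]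
    congr 1; ring
  · rintro ⟨b, s, hb, rfl⟩ g
    rw [IsLocalization.map_mk']
    congr 1
    · exact hb g
    · exact Subtype.ext (hS g s s.2)

end Groth.Agent.S13603
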