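import Groth.Statements.S13605
import Groth.Agent.FlatSymLib.Model
-- import your own Groth.Agent.* helpers here

set_option autoImplicit false
universe u
open CategoryTheory AlgebraicGeometry
open CategoryTheory.Limits
open SymProd

namespace Groth.Agent.S13605

/-- Let f : X ⟶ S be a morphism of schemes satisfying (AF) (every finite set of points of X over a
single point of S lies in an affine open of X), let 𝒮 be a cover of S by affine opens, let d ≥ 1 and
let (Y, q, g) be a d-th symmetric power of X over S: q : X ×_S ⋯ ×_S X ⟶ Y is a quotient by the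
symmetric group on d letters permuting the factors (affine, invariant, sections of O_Y = invariant
sections) and q ≫ g is the structure map of the fibre power. Then Y is covered by affine opens of
the form Sym^d(U/V) with V in the given cover: for every point y of Y there are V ∈ 𝒮 and an affine
open U ⊆ f⁻¹V of X such that the open W = ⋂_i pr_i⁻¹ U of the fibre power (the fibre power of U over
V) is affine and stable under every permutation of the factors, and an affine open W' of Y
containing y with q⁻¹ W' = W. (The published statement also fixes an affine open cover of X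
subordinate to the cover of S, in which any d points over a common point of a member V lie in a
common member mapping into V, and concludes that the corresponding opens Sym^d(U/V) cover Y; this
row states the pointwise form, producing U for each y.) -/
theorem result {X S Y : Scheme.{u}} (f : X ⟶ S) (hAF : SymProd.IsAF f)
    (𝒮 : Set S.Opens) (h𝒮 : ∀ V ∈ 𝒮, IsAffineOpen V) (hcov : ∀ s : S, ∃ V ∈ 𝒮, s ∈ V)
    (d : ℕ) (hd : 0 < d) (q : SymProd.fibPow f d ⟶ Y) (g : Y ⟶ S) (hq : SymProd.IsSymProd f d q g) (y : Y) :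
    ∃ V ∈ 𝒮, ∃ U : X.Opens, IsAffineOpen U ∧ U ≤ f ⁻¹ᵁ V ∧
      ∃ W : (SymProd.fibPow f d).Opens,
        (W : Set ↥(SymProd.fibPow f d)) =
          ⋂ i : Fin d, (WidePullback.π (fun _ : Fin d => f) i).base ⁻¹' (U : Set X) ∧
        IsAffineOpen W ∧ (∀ σ : Equiv.Perm (Fin d), (SymProd.permHom f d σ) ⁻¹ᵁ W = W) ∧
        ∃ W' : Y.Opens, y ∈ W' ∧ IsAffineOpen W' ∧ q ⁻¹ᵁ W' = W := by
  classical
  have hquot := hq.isQuot
  haveI := hquot.affine
  obtain ⟨x, rfl⟩ := QuotLib.surjective hquot y
  obtain ⟨V, hV, hxV⟩ := hcov (WidePullback.base (fun _ : Fin d => f) x)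
  have hfx : ∀ (z : SymProd.fibPow f d) i,
      f (WidePullback.π (fun _ : Fin d => f) i z) = WidePullback.base (fun _ : Fin d => f) z := fun z i => by
    rw [← Scheme.Hom.comp_apply, WidePullback.π_arrow]
  obtain ⟨U₀, hU₀, hTU⟩ := hAF (WidePullback.base (fun _ : Fin d => f) x)
    (Finset.univ.image fun i => WidePullback.π (fun _ : Fin d => f) i x) (by
    intro z hz
    obtain ⟨i, -, rfl⟩ := Finset.mem_image.1 hz
    exact hfx x i)
  obtain ⟨h, hhle, hh⟩ := QuotLib.exists_basicOpen_finite hU₀ (f ⁻¹ᵁ V)
    (fun i => WidePullback.π (fun _ : Fin d => f) i x)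
    (fun i => hTU _ (Finset.mem_image_of_mem _ (Finset.mem_univ i)))
    (fun i => show f _ ∈ V by rw [hfx x i]; exact hxV)
  obtain ⟨jY, hjY, e, -, -, -, -, hrange⟩ :=
    FlatSymLib.chart_of_opens f d q g hq V (h𝒮 V hV) (X.basicOpen h) (hU₀.basicOpen h) hhle
  refine ⟨V, hV, X.basicOpen h, hU₀.basicOpen h, hhle, q ⁻¹ᵁ jY.opensRange, ?_,
    (isAffineOpen_opensRange jY).preimage q, fun σ => ?_, jY.opensRange,
    (hrange x).2 ⟨hxV, fun i => hh i⟩, isAffineOpen_opensRange jY, rfl⟩
  · ext z
    simp only [Set.mem_iInter, Set.mem_preimage]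
    show q z ∈ Set.range jY ↔ _
    rw [hrange]
    refine ⟨fun hz i => hz.2 i, fun hz => ⟨?_, hz⟩⟩
    rw [← hfx z ⟨0, hd⟩]
    exact hhle (hz ⟨0, hd⟩)
  · rw [← Scheme.Hom.comp_preimage]
    have hi := hquot.inv ⟨σ⟩
    rw [SymProd.permActU_hom] at hi
    exact congrArg (fun m : SymProd.fibPow f d ⟶ Y => m ⁻¹ᵁ jY.opensRange) hi

end Groth.Agent.S13605
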