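import Mathlib
import Mathlib
import Groth.Statements.S13608

set_option autoImplicit false
universe u v
open CAlg

namespace Groth.Agent.S13608

/-- Let A be a commutative ring, I a finitely generated ideal of A and (M_n) an inverse system of
A-modules with transition maps f_n : M_(n+1) → M_n such that I^(n+1) M_n = 0 for every n. If L is an
inverse limit of the system (projections π_n compatible with the f_n, jointly injective, and such
that every compatible family of elements lifts to L), then L is complete and separated for the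
I-adic topology. No surjectivity of the transition maps is assumed. -/
theorem result
    (A : Type u) [CommRing A] (I : Ideal A) (hI : I.FG)
    (M : ℕ → Type v) [∀ n, AddCommGroup (M n)] [∀ n, Module A (M n)]
    (f : ∀ n, M (n + 1) →ₗ[A] M n)
    (hkill : ∀ n, I ^ (n + 1) • (⊤ : Submodule A (M n)) = ⊥)
    (L : Type v) [AddCommGroup L] [Module A L] (π : ∀ n, L →ₗ[A] M n)
    (hπ : ∀ n, f n ∘ₗ π (n + 1) = π n)
    (hinj : ∀ x : L, (∀ n, π n x = 0) → x = 0)
    (hlift : ∀ y : (∀ n, M n), (∀ n, f n (y (n + 1)) = y n) → ∃ x : L, ∀ n, π n x = y n) :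
    IsAdicComplete I L := by
  classical
  have hker : ∀ n (w : L), w ∈ I ^ (n + 1) • (⊤ : Submodule A L) → π n w = 0 := fun n w hw => by
    have h := Submodule.mem_map_of_mem (f := π n) hw
    rw [Submodule.map_smul''] at h
    have h2 := Submodule.smul_mono le_rfl (le_top : Submodule.map (π n) ⊤ ≤ ⊤) h
    rw [hkill] at h2
    exact (Submodule.mem_bot A).mp h2
  have hcomm : ∀ n (w : L), f n (π (n + 1) w) = π n w := fun n w => LinearMap.congr_fun (hπ n) w
  haveI : IsHausdorff I L := ⟨fun x hx => hinj x fun n => hker n x (by simpa [SModEq.zero] using hx (n + 1))⟩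
  haveI : IsPrecomplete I L := ⟨fun F hF => ?_⟩
  · constructor
  · have hdiff : ∀ k, F (k + 1) - F k ∈ I ^ k • (⊤ : Submodule A L) := fun k => by
      have := SModEq.sub_mem.mp (hF (Nat.le_succ k))
      simpa using Submodule.neg_mem _ this
    obtain ⟨x, hx⟩ := hlift (fun n => π n (F (n + 1))) fun n => by
      rw [hcomm, ← sub_eq_zero, ← map_sub]
      exact hker n _ (hdiff (n + 1))
    refine ⟨x, fun n => ?_⟩
    obtain ⟨s, hs⟩ := hI.pow (n := n)
    have hser : ∀ (w : ℕ → L), (∀ k, w k ∈ I ^ k • (⊤ : Submodule A L)) →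
        ∃ S : L, ∀ m, π m S = ∑ k ∈ Finset.range (m + 1), π m (w k) := fun w hw => by
      refine hlift (fun m => ∑ k ∈ Finset.range (m + 1), π m (w k)) fun m => ?_
      rw [map_sum, Finset.sum_range_succ]
      simp only [hcomm]
      rw [hker m _ (hw (m + 1)), add_zero]
    have hw : ∀ k, ∃ w : s → L, (∀ a, w a ∈ I ^ k • (⊤ : Submodule A L)) ∧ ∑ a : s, (a : A) • w a = F (n + k + 1) - F (n + k) := by
      intro k
      have h := hdiff (n + k)
      rw [pow_add, mul_smul] at h
      generalize F (n + k + 1) - F (n + k) = z at h ⊢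
      induction h using Submodule.smul_induction_on' with
      | smul r hr y hy =>
        rw [← hs] at hr
        obtain ⟨c, -, hc⟩ := Submodule.mem_span_finset.mp hr
        refine ⟨fun a => c a • y, fun a => Submodule.smul_mem _ _ hy, ?_⟩
        rw [← hc, Finset.sum_smul, ← Finset.sum_coe_sort s]
        exact Finset.sum_congr rfl fun a _ => by rw [smul_eq_mul, ← mul_smul, mul_comm]
      | add p _ q _ hp hq =>
        obtain ⟨wp, hwp, rfl⟩ := hp
        obtain ⟨wq, hwq, rfl⟩ := hq
        exact ⟨wp + wq, fun a => Submodule.add_mem _ (hwp a) (hwq a), by simp [smul_add, Finset.sum_add_distrib]⟩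
    choose w hwI hwsum using hw
    choose S hS using fun a : s => hser (fun k => w k a) (fun k => hwI k a)
    have heq : x - F n = ∑ a : s, (a : A) • S a := by
      refine sub_eq_zero.mp (hinj _ fun m => ?_)
      have h1 : π m (∑ a : s, (a : A) • S a) = π m (∑ k ∈ Finset.range (m + 1), (F (n + k + 1) - F (n + k))) := by
        rw [Finset.sum_congr rfl fun k _ => (hwsum k).symm, Finset.sum_comm]
        simp only [map_sum, map_smul, hS, Finset.smul_sum]
      have h2 : (∑ k ∈ Finset.range (m + 1), (F (n + k + 1) - F (n + k))) = F (n + (m + 1)) - F n :=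
        Finset.sum_range_sub (fun k => F (n + k)) (m + 1)
      rw [map_sub, h1, h2, map_sub, map_sub, hx m]
      have h3 : π m (F (n + (m + 1))) = π m (F (m + 1)) := by
        rw [← sub_eq_zero, ← map_sub]
        exact hker m _ (by simpa using Submodule.neg_mem _ (SModEq.sub_mem.mp (hF (Nat.le_add_left (m + 1) n))))
      rw [h3, sub_self]
    rw [SModEq.sub_mem]
    rw [show F n - x = -(x - F n) by abel, heq]
    exact Submodule.neg_mem _ (Submodule.sum_mem _ fun a _ =>
      Submodule.smul_mem_smul (hs ▸ Submodule.subset_span a.2) Submodule.mem_top)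

end Groth.Agent.S13608
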