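import Groth.Statements.S13609
import Mathlib

set_option autoImplicit false
universe u v
open CAlg

namespace Groth.Agent.S13609

/-- A direct summand of a module that is complete and separated for the I-adic topology is again
complete and separated: for a commutative ring A, an ideal I and A-modules M₁, M₂, if M₁ × M₂ is
I-adically complete then so is M₁. -/
theorem result (A : Type u) [CommRing A] (I : Ideal A)
    (M₁ M₂ : Type v) [AddCommGroup M₁] [Module A M₁] [AddCommGroup M₂] [Module A M₂]
    [IsAdicComplete I (M₁ × M₂)] : IsAdicComplete I M₁ := by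
  have hinl : ∀ (n : ℕ) (x : M₁), x ∈ (I ^ n • ⊤ : Submodule A M₁) → ((x, 0) : M₁ × M₂) ∈ (I ^ n • ⊤ : Submodule A (M₁ × M₂)) := fun n x hx => by
    have h := Submodule.mem_map_of_mem (f := LinearMap.inl A M₁ M₂) hx
    rw [Submodule.map_smul''] at h
    exact Submodule.smul_mono le_rfl le_top h
  have hfst : ∀ (n : ℕ) (x : M₁ × M₂), x ∈ (I ^ n • ⊤ : Submodule A (M₁ × M₂)) → x.1 ∈ (I ^ n • ⊤ : Submodule A M₁) := fun n x hx => by
    have h := Submodule.mem_map_of_mem (f := LinearMap.fst A M₁ M₂) hx
    rw [Submodule.map_smul''] at h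
    exact Submodule.smul_mono le_rfl le_top h
  have hh : IsHausdorff I M₁ := ⟨fun x hx => by
    have := IsHausdorff.haus (I := I) (M := M₁ × M₂) inferInstance (x, 0) fun n => by
      rw [SModEq.zero]; exact hinl n x (SModEq.zero.mp (hx n))
    exact congrArg Prod.fst this⟩
  have hp : IsPrecomplete I M₁ := ⟨fun f hf => by
    obtain ⟨L, hL⟩ := IsPrecomplete.prec (I := I) (M := M₁ × M₂) inferInstance (f := fun n => (f n, 0)) (fun {m n} h => by
      rw [SModEq.sub_mem]; simpa using hinl m _ (SModEq.sub_mem.mp (hf h)))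
    exact ⟨L.1, fun n => SModEq.sub_mem.mpr (hfst n _ (SModEq.sub_mem.mp (hL n)))⟩⟩
  constructor

end Groth.Agent.S13609
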