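import Groth.Statements.S13615
import Groth.Agent.EtConsLib.ARCrit
-- import your own Groth.Agent.* helpers here
set_option backward.isDefEq.respectTransparency false
set_option backward.isDefEq.respectTransparency.types false
set_option maxHeartbeats 1000000

set_option autoImplicit false
open CategoryTheory CategoryTheory.Limits AlgebraicGeometry Opposite
universe u
open EtModW

namespace Groth.Agent.S13615

/-- Let X be a Noetherian scheme, i : A → X a closed immersion and j : U → X an open immersion whose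
images are complementary, Λ a Noetherian ring, I an ideal of Λ and F = (F_n) an inverse system of
constructible sheaves of Λ-modules on the small etale site of X with I^(n+1) F_n = 0 for all n. Then
F is AR I-adic (receives a morphism with kernel and cokernel null up to translation from an I-adic
system of constructible sheaves) if and only if both restricted systems (j^* F_n)_n on U and (i^*
F_n)_n on A are AR I-adic in the same sense. -/
theorem result
    (Λ : Type (u + 1)) [CommRing Λ] [IsNoetherianRing Λ] (I : Ideal Λ)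
    {X A U : Scheme.{u}} [IsNoetherian X] (i : A ⟶ X) [IsClosedImmersion i] (j : U ⟶ X) [IsOpenImmersion j]
    (hAU : Set.range (fun a => i.base a) = (Set.range (fun t => j.base t))ᶜ)
    (F : ARSys.PS (EtModW.Mod Λ X)) (hc : ∀ n : ℕ, EtModW.IsConstructible Λ (F.obj (op n)))
    (hk : ARSys.TermKilled I F) :
    (ARSys.TermKilled I F ∧ ∃ (Y : ARSys.PS (EtModW.Mod Λ X)) (v : Y ⟶ F), ARSys.IsAdic I Y ∧ (∀ n : ℕ, EtModW.IsConstructible Λ (Y.obj (op n))) ∧ ARSys.IsARIso v) ↔
      ((ARSys.TermKilled I (F ⋙ EtModW.pull Λ j) ∧ ∃ (Y : ARSys.PS (EtModW.Mod Λ U)) (v : Y ⟶ (F ⋙ EtModW.pull Λ j)), ARSys.IsAdic I Y ∧ (∀ n : ℕ, EtModW.IsConstructible Λ (Y.obj (op n))) ∧ ARSys.IsARIso v) ∧ (ARSys.TermKilled I (F ⋙ EtModW.pull Λ i) ∧ ∃ (Y : ARSys.PS (EtModW.Mod Λ A)) (v : Y ⟶ (F ⋙ EtModW.pull Λ i)), ARSys.IsAdic I Y ∧ (∀ n : ℕ, EtModW.IsConstructible Λ (Y.obj (op n))) ∧ ARSys.IsARIso v)) := by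
  open Groth.Agent Groth.Agent.EtConsLib in
  constructor
  · rintro ⟨hk, Y, v, ⟨hYk, hYq⟩, hYc, hv⟩
    haveI := isNoetherian_of_immersion j
    haveI := isNoetherian_of_immersion i
    exact ⟨⟨fun n => S13614.pull_killedBy j (hk n), Y ⋙ EtModW.pull Λ j, Functor.whiskerRight v _,
        ⟨fun n => S13614.pull_killedBy j (hYk n), fun n m h => S13614.pull_isQuot j (hYq n m h)⟩,
        fun n => S13614.pull_isConstructible j (hYc n), S13614.pull_isARIso j v hv⟩,
      ⟨fun n => S13614.pull_killedBy i (hk n), Y ⋙ EtModW.pull Λ i, Functor.whiskerRight v _,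
        ⟨fun n => S13614.pull_killedBy i (hYk n), fun n m h => S13614.pull_isQuot i (hYq n m h)⟩,
        fun n => S13614.pull_isConstructible i (hYc n), S13614.pull_isARIso i v hv⟩⟩
  · rintro ⟨⟨hkU, Y, v, hY, -, hv⟩, ⟨hkA, Z, w, hZ, -, hw⟩⟩
    obtain ⟨r, r', hb⟩ := exists_bound v hkU hY hv
    obtain ⟨s, s', hb'⟩ := exists_bound w hkA hZ hw
    refine ⟨hk, arAdic_of_bound hc hk (max r s) (max r' s') fun Ω _ _ ξ => ?_⟩
    by_cases hξ : ξ default ∈ Set.range j
    · obtain ⟨ζ, rfl⟩ := S13613.exists_lift_immersion ξ j hξ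
      exact (bound_of_pull j (hb Ω ζ)).mono (le_max_left _ _) (le_max_left _ _)
    · obtain ⟨ζ, rfl⟩ := S13613.exists_lift_immersion ξ i (hAU.ge hξ)
      exact (bound_of_pull i (hb' Ω ζ)).mono (le_max_right _ _) (le_max_right _ _)

end Groth.Agent.S13615
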