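import Groth.Statements.S13616
import Groth.Agent.EtConsLib.ARCrit
-- import your own Groth.Agent.* helpers here
set_option backward.isDefEq.respectTransparency false
set_option backward.isDefEq.respectTransparency.types false
set_option maxHeartbeats 1000000

set_option autoImplicit false
open CategoryTheory CategoryTheory.Limits AlgebraicGeometry Opposite
universe u
open EtModW

namespace Groth.Agent.S13616

/-- Let X be a Noetherian scheme, (g_i : U_i → X) a finite jointly surjective family of etale morphisms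
with every U_i Noetherian (a finite etale covering of X by quasi-compact members), Λ a Noetherian
ring, I an ideal of Λ and F = (F_n) an inverse system of constructible sheaves of Λ-modules on the
small etale site of X with I^(n+1) F_n = 0 for all n. Then F is AR I-adic (receives a morphism with
kernel and cokernel null up to translation from an I-adic system of constructible sheaves) if and
only if each pulled-back system (g_i^* F_n)_n on U_i is AR I-adic in the same sense. (The members of
the covering are taken Noetherian, the setting in which the criterion used by the argument applies.) -/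
theorem result
    (Λ : Type (u + 1)) [CommRing Λ] [IsNoetherianRing Λ] (I : Ideal Λ)
    {X : Scheme.{u}} [IsNoetherian X] {m : ℕ} (U : Fin m → Scheme.{u}) [∀ i, IsNoetherian (U i)]
    (g : ∀ i, U i ⟶ X) [∀ i, Etale (g i)]
    (hsurj : (⋃ i, Set.range (fun t => (g i).base t)) = Set.univ)
    (F : ARSys.PS (EtModW.Mod Λ X)) (hc : ∀ n : ℕ, EtModW.IsConstructible Λ (F.obj (op n)))
    (hk : ARSys.TermKilled I F) :
    (ARSys.TermKilled I F ∧ ∃ (Y : ARSys.PS (EtModW.Mod Λ X)) (v : Y ⟶ F), ARSys.IsAdic I Y ∧ (∀ n : ℕ, EtModW.IsConstructible Λ (Y.obj (op n))) ∧ ARSys.IsARIso v) ↔ ∀ i : Fin m, (ARSys.TermKilled I (F ⋙ EtModW.pull Λ (g i)) ∧ ∃ (Y : ARSys.PS (EtModW.Mod Λ (U i))) (v : Y ⟶ (F ⋙ EtModW.pull Λ (g i))), ARSys.IsAdic I Y ∧ (∀ n : ℕ, EtModW.IsConstructible Λ (Y.obj (op n))) ∧ ARSys.IsARIso v) := by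
  open Groth.Agent Groth.Agent.EtConsLib in
  constructor
  · rintro ⟨hk, Y, v, ⟨hYk, hYq⟩, hYc, hv⟩ i
    exact ⟨fun n => S13614.pull_killedBy (g i) (hk n), Y ⋙ EtModW.pull Λ (g i), Functor.whiskerRight v _,
      ⟨fun n => S13614.pull_killedBy (g i) (hYk n), fun n m h => S13614.pull_isQuot (g i) (hYq n m h)⟩,
      fun n => S13614.pull_isConstructible (g i) (hYc n), S13614.pull_isARIso (g i) v hv⟩
  · intro h
    have hb : ∀ i, ∃ r r' : ℕ, ∀ (Ω : Type u) [Field Ω] [IsSepClosed Ω] (ζ : Spec (CommRingCat.of Ω) ⟶ U i),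
        Bound I (F ⋙ EtModW.pull Λ (g i)) r r' ζ := fun i => by
      obtain ⟨hki, Y, v, hY, -, hv⟩ := h i
      exact exists_bound v hki hY hv
    choose r r' hb using hb
    refine ⟨hk, arAdic_of_bound hc hk (Finset.univ.sup r) (Finset.univ.sup r') fun Ω _ _ ξ => ?_⟩
    obtain ⟨i, u₀, hu⟩ := Set.mem_iUnion.1 (hsurj.ge (Set.mem_univ (ξ default)))
    let W : X.Etale := Scheme.Etale.mk (g i)
    obtain ⟨l, -⟩ := Scheme.pointSmallEtaleFiberObjToPreimage_surjective ξ rfl W ⟨u₀, hu⟩
    have hl : EtPtsLib.liftHom ξ l ≫ g i = ξ := EtPtsLib.liftHom_comp ξ l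
    have hB : Bound I F (r i) (r' i) ξ := hl ▸ bound_of_pull (g i) (hb i Ω (EtPtsLib.liftHom ξ l))
    exact hB.mono (Finset.le_sup (Finset.mem_univ i)) (Finset.le_sup (Finset.mem_univ i))

end Groth.Agent.S13616
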