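import Groth.Statements.S13619
import Groth.Agent.EtConsLib.Closure
import Groth.Agent.ARSysLib.SubSys
-- import your own Groth.Agent.* helpers here
set_option backward.isDefEq.respectTransparency false
set_option backward.isDefEq.respectTransparency.types false
set_option maxHeartbeats 1000000

set_option autoImplicit false
open CategoryTheory CategoryTheory.Limits AlgebraicGeometry Opposite
universe u
open EtModW

namespace Groth.Agent.S13619

section
open CategoryTheory CategoryTheory.Limits AlgebraicGeometry Opposite Groth.Agent Groth.Agent.ARSysLib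

variable {C : Type*} [Category C] [Abelian C] {A : Type*} [CommRing A] [Linear A C] [IsNoetherianRing A]
  {J : Ideal A}

theorem stabilize {F : ARSys.PS C} (hF : ARSys.IsAdicNoeth J F) (Z : ℕ →o Subobject F)
    (hZ : ∀ k : ℕ, ARSys.IsMLAR (Subobject.underlying.obj (Z k) : ARSys.PS C)) :
    ∃ k₀ : ℕ, ∀ k : ℕ, k₀ ≤ k → ARSys.IsARIso (Subobject.ofLE (Z k) (Z (k + 1)) (Z.monotone (Nat.le_succ k))) := by
  choose r hr using fun k => (ARSysLib.isMLAR_iff _).1 (hZ k)
  let W : ℕ → ARSys.PS C := fun k => Subobject.underlying.obj (Z k)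
  let ι : ∀ k, imSys (W k) (r k) ⟶ W k := fun k => imι (W k) (r k)
  let f : ∀ k, W k ⟶ W (k + 1) := fun k => Subobject.ofLE (Z k) (Z (k + 1)) (Z.monotone (Nat.le_succ k))
  have hw : ∀ k, ι k ≫ f k ≫ cokernel.π (shiftHom (W (k + 1)) (r (k + 1))) = 0 := by
    intro k
    ext ⟨n⟩
    have h1 : ImLE ((ι k).app (op n) ≫ (f k).app (op n)) (sm (W (k + 1)) (r (k + 1)) n) := by
      refine ((((imSys_spec (W k) (r k) n).2.trans (hr k (max (r k) (r (k + 1))) (le_max_left _ _) n)).comp_right
        ((f k).app (op n)))).trans ?_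
      refine ImLE.trans (.of_eq ((f k).app (op (n + max (r k) (r (k + 1))))) (sm_app (f k) _ n)) ?_
      exact imLE_shiftMap (W (k + 1)) (le_max_right _ _) n
    obtain ⟨P, π, hπ, a, ha⟩ := h1
    show (ι k).app (op n) ≫ (f k).app (op n) ≫ _ = 0
    rw [← cancel_epi π, comp_zero, reassoc_of% ha]
    have h0 := congrArg (fun t => NatTrans.app t (op n)) (cokernel.condition (shiftHom (W (k + 1)) (r (k + 1))))
    exact (congrArg (a ≫ ·) h0).trans comp_zero
  let w : ∀ k, imSys (W k) (r k) ⟶ imSys (W (k + 1)) (r (k + 1)) := fun k =>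
    kernel.lift _ (ι k ≫ f k) (by rw [Category.assoc]; exact hw k)
  have hwι : ∀ k, w k ≫ ι (k + 1) = ι k ≫ f k := fun k => kernel.lift_ι _ _ _
  have hsq : ∀ k, w k ≫ ι (k + 1) ≫ (Z (k + 1)).arrow = ι k ≫ (Z k).arrow := fun k => by
    rw [← Category.assoc, hwι, Category.assoc, Subobject.ofLE_arrow]
  haveI : ∀ k, Mono (ι k ≫ (Z k).arrow) := fun k => mono_comp _ _
  let Z' : ℕ →o Subobject F :=
    ⟨fun k => Subobject.mk (ι k ≫ (Z k).arrow),
      monotone_nat_of_le_succ fun k => Subobject.mk_le_mk_of_comm (w k) (hsq k)⟩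
  obtain ⟨k₀, hk₀⟩ := strictSub_stabilize hF Z' fun k => by
    let e := Subobject.underlyingIso (ι k ≫ (Z k).arrow)
    intro n m h
    haveI : Epi (ARSys.tr (imSys (W k) (r k)) h) := imSys_strict (W k) (r k) (hr k) n m h
    have he : ARSys.tr (Subobject.underlying.obj (Subobject.mk (ι k ≫ (Z k).arrow)) : ARSys.PS C) h =
        e.hom.app (op m) ≫ ARSys.tr (imSys (W k) (r k)) h ≫ e.inv.app (op n) := by
      rw [← reassoc_of% (tr_app e.hom h), ← NatTrans.comp_app, e.hom_inv_id]
      exact (Category.comp_id _).symm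
    show Epi (ARSys.tr (Subobject.underlying.obj (Subobject.mk (ι k ≫ (Z k).arrow)) : ARSys.PS C) h)
    rw [he]
    infer_instance
  refine ⟨k₀, fun k hk => ?_⟩
  have heq : Subobject.mk (ι k ≫ (Z k).arrow) = Subobject.mk (ι (k + 1) ≫ (Z (k + 1)).arrow) :=
    (hk₀ k hk).trans (hk₀ (k + 1) (hk.trans (Nat.le_succ k))).symm
  let e := Subobject.isoOfMkEqMk _ _ heq
  have hwe : w k = e.hom := by
    rw [← cancel_mono (ι (k + 1) ≫ (Z (k + 1)).arrow), hsq]
    simp [e]
  have hιAR : ∀ j, CokNull (ι j) := fun j => imι_cokNull (W j) (r j)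
  obtain ⟨b, hb⟩ := hιAR (k + 1)
  refine (ARSysLib.isARIso_iff _).2 ⟨⟨0, fun n P x hx => ?_⟩, ⟨b, fun n => ?_⟩⟩
  · haveI : Mono ((f k).app (op (n + 0))) := ((evaluation ℕᵒᵖ C).obj _).map_mono (f k)
    have h0 : x = 0 := zero_of_comp_mono ((f k).app (op (n + 0))) hx
    rw [h0, zero_comp]
  · refine (hb n).trans (.of_eq (e.inv.app (op n) ≫ (ι k).app (op n)) ?_)
    have hkey : e.inv ≫ ι k ≫ f k = ι (k + 1) := by
      rw [← hwι, hwe, Iso.inv_hom_id_assoc]
    rw [Category.assoc]
    exact (congrArg (fun t => NatTrans.app t (op n)) hkey).symm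

end

/-- For a Noetherian scheme X, a Noetherian coefficient ring Λ and an ideal I of Λ, let F be an I-adic
inverse system of constructible sheaves of Λ-modules on the small etale site of X. Then every
increasing sequence Z_0 ≤ Z_1 ≤ … of subobjects of F in the abelian category of inverse systems, all
of whose underlying systems are AR I-adic (termwise killed by I^(n+1) and receiving a morphism with
null kernel and cokernel from an I-adic system of constructible sheaves), becomes constant up to
translation: there is k₀ such that for every k ≥ k₀ the inclusion of Z_k into Z_(k+1) has kernel and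
cokernel null up to translation. (The published statement is for AR-injective maps into an AR I-adic
object; replacing each by the image of a representing morphism of systems and F by an I-adic system
gives the case of genuine subobjects stated here.) -/
theorem result
    (Λ : Type (u + 1)) [CommRing Λ] [IsNoetherianRing Λ] (I : Ideal Λ)
    {X : Scheme.{u}} [IsNoetherian X]
    (F : ARSys.PS (EtModW.Mod Λ X)) (hF : ARSys.IsAdic I F)
    (hFc : ∀ n : ℕ, EtModW.IsConstructible Λ (F.obj (op n)))
    (Z : ℕ →o Subobject F)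
    (hZ : ∀ k : ℕ, (ARSys.TermKilled I (Subobject.underlying.obj (Z k) : ARSys.PS (EtModW.Mod Λ X)) ∧ ∃ (Y : ARSys.PS (EtModW.Mod Λ X)) (v : Y ⟶ (Subobject.underlying.obj (Z k) : ARSys.PS (EtModW.Mod Λ X))), ARSys.IsAdic I Y ∧ (∀ n : ℕ, EtModW.IsConstructible Λ (Y.obj (op n))) ∧ ARSys.IsARIso v)) :
    ∃ k₀ : ℕ, ∀ k : ℕ, k₀ ≤ k → ARSys.IsARIso (Subobject.ofLE (Z k) (Z (k + 1)) (Z.monotone (Nat.le_succ k))) := by
  exact stabilize ⟨hF, fun n => Groth.Agent.EtConsLib.isNoetherianObject_of_isConstructible (hFc n)⟩ Z fun k => by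
    obtain ⟨-, Y, v, hY, -, hv⟩ := hZ k
    exact (Groth.Agent.ARSysLib.isMLAR_iff_exists_strict _).2
      ⟨Y, v, Groth.Agent.ARSysLib.isStrict_of_isAdic hY, hv⟩

end Groth.Agent.S13619
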