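import Groth.Statements.S13621
import Groth.Agent.ARSysLib.MLAR
-- import your own Groth.Agent.* helpers here

set_option autoImplicit false
open CategoryTheory CategoryTheory.Limits Opposite
universe v u
open ARSys

namespace Groth.Agent.S13621

/-- The inverse limit is a well-defined functor on projective systems up to translation. Concretely: in
an abelian category with limits of shape ℕᵒᵖ, a morphism u : X ⟶ Y of projective systems indexed by
the natural numbers whose kernel and cokernel are null up to translation induces an isomorphism lim
X ⟶ lim Y. (The published statement is the functoriality of lim on the category of systems up to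
translation; combined with the description of isomorphisms there as the morphisms with null kernel
and cokernel, this is the form stated.) -/
theorem result {C : Type u} [Category.{v} C] [Abelian C] [HasLimitsOfShape ℕᵒᵖ C]
    {X Y : ARSys.PS C} (u : X ⟶ Y) (hu : ARSys.IsARIso u) : IsIso (limMap u) := by
  obtain ⟨r, w, h₁, h₂⟩ := Groth.Agent.ARSysLib.exists_inverse u hu
  let c : Cone X :=
    { pt := limit Y
      π :=
        { app := fun n => limit.π Y (op (n.unop + r)) ≫ w.app n
          naturality := fun a b f => by
            have hw := w.naturality f
            have hl := limit.w Y ((ARSys.addF r).op.map f)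
            simp only [ARSys.shift, Functor.whiskeringLeft_obj_obj, Functor.comp_map] at hw
            dsimp
            rw [Category.id_comp, Category.assoc]
            exact (congrArg (· ≫ w.app b) hl.symm).trans ((Category.assoc _ _ _).trans
              (congrArg (limit.π Y _ ≫ ·) hw)) } }
  refine ⟨limit.lift X c, ?_, ?_⟩
  · apply limit.hom_ext
    intro n
    rw [Category.assoc, limit.lift_π, Category.id_comp]
    show limMap u ≫ limit.π Y (op (n.unop + r)) ≫ w.app n = _
    rw [limMap_π_assoc]
    exact (congrArg (limit.π X _ ≫ ·) (h₁ n.unop)).trans (limit.w X _)
  · apply limit.hom_ext
    intro n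
    rw [Category.assoc, limMap_π, Category.id_comp, ← Category.assoc, limit.lift_π]
    show (limit.π Y (op (n.unop + r)) ≫ w.app n) ≫ u.app n = _
    rw [Category.assoc]
    exact (congrArg (limit.π Y _ ≫ ·) (h₂ n.unop)).trans (limit.w Y _)

end Groth.Agent.S13621
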