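import Groth.Statements.S13620
import Groth.Agent.S13613
import Groth.Agent.S13621
-- import your own Groth.Agent.* helpers here
set_option backward.isDefEq.respectTransparency false
set_option backward.isDefEq.respectTransparency.types false
set_option maxHeartbeats 1000000

set_option autoImplicit false
open CategoryTheory CategoryTheory.Limits AlgebraicGeometry Opposite
universe u
open EtModW

namespace Groth.Agent.S13620

section
open CategoryTheory CategoryTheory.Limits AlgebraicGeometry Opposite Groth.Agent Groth.Agent.FLCLib.Mdl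
  Groth.Agent.EtPtsLib Groth.Agent.S6646 Groth.Agent.S13613

variable {Λ : Type (u + 1)} [CommRing Λ]

theorem isZero_limit_of_isARNull {T : ARSys.PS (ModuleCat.{u + 1} Λ)} (h : ∃ r, ∀ n, ARSys.shiftMap T r n = 0) :
    IsZero (limit T) := by
  obtain ⟨r, hr⟩ := h
  refine (IsZero.iff_id_eq_zero _).2 (limit.hom_ext fun n => ?_)
  rw [Category.id_comp, zero_comp, ← limit.w T (homOfLE (Nat.le_add_right n.unop r)).op]
  exact (congrArg (_ ≫ ·) (hr n.unop)).trans comp_zero

theorem eq_zero_of_isZero_limit {T : ARSys.PS (ModuleCat.{u + 1} Λ)}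
    (hs : ∀ (n m : ℕ) (h : n ≤ m), Function.Surjective (ARSys.tr T h)) (h : IsZero (limit T)) (n : ℕ)
    (z : T.obj (op n)) : z = 0 := by
  have htr : ∀ {a b c : ℕ} (h₁ : a ≤ b) (h₂ : b ≤ c) (x : T.obj (op c)),
      ARSys.tr T h₁ (ARSys.tr T h₂ x) = ARSys.tr T (h₁.trans h₂) x := fun h₁ h₂ x => by
    rw [← ConcreteCategory.comp_apply, ← T.map_comp]
    rfl
  choose f hf using fun j : ℕ => hs (n + j) (n + (j + 1)) (by omega)
  let y : ∀ j, T.obj (op (n + j)) := Nat.rec z fun j yj => f j yj
  have hy : ∀ (i j : ℕ) (hij : i ≤ j), ARSys.tr T (Nat.add_le_add_left hij n) (y j) = y i := by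
    intro i j hij
    induction hij with
    | refl =>
      show T.map (homOfLE le_rfl).op (y i) = y i
      rw [show (homOfLE (le_refl (n + i))).op = 𝟙 _ from rfl, T.map_id]
      rfl
    | step hij ih =>
      rename_i m
      exact ((htr (Nat.add_le_add_left hij n) (by omega) (y (m + 1))).symm.trans
        (congrArg _ (hf m (y m)))).trans ih
  let x : ∀ k, T.obj (op k) := fun k => ARSys.tr T (show k ≤ n + k by omega) (y k)
  have hx : ∀ {a b : ℕ} (hab : a ≤ b), ARSys.tr T hab (x b) = x a := fun {a b} hab => by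
    show ARSys.tr T hab (ARSys.tr T _ (y b)) = ARSys.tr T _ (y a)
    rw [← hy a b hab, htr, htr]
  let c : Cone T := {
    pt := ModuleCat.of Λ Λ
    π := {
      app := fun k => ModuleCat.ofHom (LinearMap.toSpanSingleton Λ _ (x k.unop))
      naturality := fun a b g => by
        ext
        simp only [Functor.const_obj_obj, Functor.const_obj_map, Category.id_comp]
        show (1 : Λ) • x b.unop = T.map g ((1 : Λ) • x a.unop)
        rw [one_smul, one_smul]
        exact (hx (leOfHom g.unop)).symm } }
  have h0 : x n = 0 := by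
    have e1 : (limit.lift T c ≫ limit.π T (op n)) (1 : Λ) = (1 : Λ) • x n :=
      ConcreteCategory.congr_hom (limit.lift_π c (op n)) (1 : Λ)
    rw [h.eq_zero_of_tgt (limit.lift T c), zero_comp, one_smul] at e1
    exact e1.symm
  have hz : x n = z := (hy 0 n (Nat.zero_le n)).trans rfl
  rw [← hz, h0]

variable {X : Scheme.{u}}

theorem isZero_of_stalk {F : EtModW.Mod Λ X}
    (h : ∀ (Ω : Type u) [Field Ω] [IsSepClosed Ω] (ξ : Spec (CommRingCat.of Ω) ⟶ X) (z : (EtModW.stalk Λ ξ).obj F), z = 0) :
    IsZero F := by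
  haveI : Sheaf.IsLocallyInjective (0 : F ⟶ F) :=
    SitePts.isLocallyInjective (detects X) (0 : F ⟶ F).hom fun x => fun a b _ => (h _ (geomPt x) a).trans (h _ (geomPt x) b).symm
  haveI : Mono (0 : F ⟶ F) := Sheaf.mono_of_isLocallyInjective _
  exact IsZero.of_mono_zero F F

theorem isARNull_iff_stalks (I : Ideal Λ) {Y F : ARSys.PS (EtModW.Mod Λ X)} (v : Y ⟶ F) (hY : ARSys.IsAdic I Y)
    (hv : ARSys.IsARIso v) : ARSys.IsARNull F ↔
      ∀ (Ω : Type u) [Field Ω] [IsSepClosed Ω] (x : Spec (CommRingCat.of Ω) ⟶ X),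
        IsZero (limit (F ⋙ EtModW.stalk Λ x)) := by
  constructor
  · rintro ⟨r, hr⟩ Ω _ _ x
    exact isZero_limit_of_isARNull ⟨r, fun n => (congrArg (EtModW.stalk Λ x).map (hr n)).trans (Functor.map_zero _ _ _)⟩
  · intro h
    have hz : ∀ n, IsZero (Y.obj (op n)) := fun n => isZero_of_stalk fun Ω _ _ ξ z => by
      haveI := Groth.Agent.S13621.result _ (isARIso_map ξ v hv)
      refine eq_zero_of_isZero_limit (T := Y ⋙ EtModW.stalk Λ ξ) (fun a b hab => ?_)
        ((h Ω ξ).of_iso (asIso (limMap (Functor.whiskerRight v (EtModW.stalk Λ ξ))))) n z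
      haveI : Epi (ARSys.tr Y hab) := ARSysLib.epi_of_isQuot (hY.2 a b hab)
      exact stk_surjective ξ (ARSys.tr Y hab)
    obtain ⟨r, hr⟩ := ((ARSysLib.isARIso_iff v).1 hv).2
    refine ⟨r, fun n => ?_⟩
    obtain ⟨P, π, hπ, a, ha⟩ := hr n
    rw [(hz n).eq_zero_of_src (v.app (op n)), comp_zero] at ha
    rw [← cancel_epi π, comp_zero]
    exact ha

end

/-- For a Noetherian scheme X, a Noetherian coefficient ring Λ and an ideal I of Λ, let F = (F_n) be an
inverse system of sheaves of Λ-modules on the small etale site of X which is AR I-adic (I^(n+1) F_n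
= 0 for all n, and F receives a morphism with kernel and cokernel null up to translation from an
I-adic system of constructible sheaves). Then F is null up to translation if and only if for every
geometric point x of X the limit of the stalk system, lim_n F_n,x, is the zero module. (The
published lemma assumes Λ I-adically complete, which only its first assertion uses; this row states
the second assertion without it.) -/
theorem result
    (Λ : Type (u + 1)) [CommRing Λ] [IsNoetherianRing Λ] (I : Ideal Λ)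
    {X : Scheme.{u}} [IsNoetherian X]
    (F : ARSys.PS (EtModW.Mod Λ X))
    (hF : (ARSys.TermKilled I F ∧ ∃ (Y : ARSys.PS (EtModW.Mod Λ X)) (v : Y ⟶ F), ARSys.IsAdic I Y ∧ (∀ n : ℕ, EtModW.IsConstructible Λ (Y.obj (op n))) ∧ ARSys.IsARIso v)) :
    ARSys.IsARNull F ↔
      ∀ (Ω : Type u) [Field Ω] [IsSepClosed Ω] (x : Spec (CommRingCat.of Ω) ⟶ X),
        IsZero (limit (F ⋙ EtModW.stalk Λ x)) := by
  obtain ⟨-, Y, v, hY, -, hv⟩ := hF
  exact isARNull_iff_stalks I v hY hv

end Groth.Agent.S13620
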