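import Mathlib
import Mathlib
import Groth.Statements.S13622

set_option autoImplicit false
universe u v
open CAlg

namespace Groth.Agent.S13622

/-- Let A be a commutative ring, I a finitely generated ideal and (M_n) an inverse system of finitely
generated A-modules whose transition maps f_n : M_(n+1) → M_n are surjective with kernel I^(n+1)
M_(n+1), and with I^(n+1) M_n = 0 for all n. If L is an inverse limit of the system (projections π_n
compatible with the f_n, jointly injective, every compatible family lifting to L), endowed with a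
module structure over the I-adic completion A^ of A that is compatible with its A-module structure,
then L is finitely generated as an A^-module. No completeness of A is assumed. -/
theorem result
    (A : Type u) [CommRing A] (I : Ideal A) (hI : I.FG)
    (M : ℕ → Type v) [∀ n, AddCommGroup (M n)] [∀ n, Module A (M n)] [∀ n, Module.Finite A (M n)]
    (f : ∀ n, M (n + 1) →ₗ[A] M n) (hf : ∀ n, Function.Surjective (f n))
    (hker : ∀ n, LinearMap.ker (f n) = I ^ (n + 1) • (⊤ : Submodule A (M (n + 1))))
    (hkill : ∀ n, I ^ (n + 1) • (⊤ : Submodule A (M n)) = ⊥)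
    (L : Type v) [AddCommGroup L] [Module A L] (π : ∀ n, L →ₗ[A] M n)
    (hπ : ∀ n, f n ∘ₗ π (n + 1) = π n)
    (hinj : ∀ x : L, (∀ n, π n x = 0) → x = 0)
    (hlift : ∀ y : (∀ n, M n), (∀ n, f n (y (n + 1)) = y n) → ∃ x : L, ∀ n, π n x = y n)
    [Module (AdicCompletion I A) L] [IsScalarTower A (AdicCompletion I A) L] :
    Module.Finite (AdicCompletion I A) L := by
  classical
  have hsurjπ : ∀ n, ∀ y : M n, ∃ x : L, π n x = y := by
    intro n y
    choose g hg using hf
    let up : ∀ k, M (n + k) := fun k => Nat.rec (motive := fun k => M (n + k)) y (fun j z => g (n + j) z) k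
    have hdown : ∀ (b : ∀ k, M k), (∀ k, f k (b (k + 1)) = b k) → ∃ x : L, ∀ k, π k x = b k := hlift
    have key : ∀ k (z : M k), ∃ b : ∀ j, M j, (∀ j, f j (b (j + 1)) = b j) ∧ b k = z := by
      intro k
      induction k with
      | zero =>
        intro z
        exact ⟨fun j => Nat.rec (motive := fun j => M j) z (fun i w => g i w) j, fun j => hg j _, rfl⟩
      | succ k ih =>
        intro z
        obtain ⟨b, hb, hbk⟩ := ih (f k z)
        let b' : ∀ j, M j := fun j =>
          if h : j ≤ k then b j else Nat.rec (motive := fun i => M (k + 1 + i)) z (fun i w => g (k + 1 + i) w) (j - (k + 1)) |>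
            fun w => cast (congrArg M (by omega : k + 1 + (j - (k + 1)) = j)) w
        refine ⟨b', fun j => ?_, ?_⟩
        · rcases lt_trichotomy j k with hj | rfl | hj
          · simp only [b', dif_pos hj.le, dif_pos (show j + 1 ≤ k by omega), hb]
          · simp only [b', dif_pos le_rfl, dif_neg (show ¬ j + 1 ≤ j by omega)]
            have e : j + 1 - (j + 1) = 0 := by omega
            rw [hbk]
            congr 1
            generalize_proofs q
            revert q
            rw [e]
            intro q
            rfl
          · simp only [b', dif_neg (show ¬ j ≤ k by omega), dif_neg (show ¬ j + 1 ≤ k by omega)]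
            obtain ⟨i, rfl⟩ : ∃ i, j = k + 1 + i := ⟨j - (k + 1), by omega⟩
            generalize_proofs q1 q2
            revert q1 q2
            rw [show k + 1 + i + 1 - (k + 1) = i + 1 by omega, show k + 1 + i - (k + 1) = i by omega]
            intro q1 q2
            exact hg _ _
        · simp only [b', dif_neg (show ¬ k + 1 ≤ k by omega)]
          generalize_proofs q
          revert q
          rw [show k + 1 - (k + 1) = 0 by omega]
          intro q
          rfl
    obtain ⟨b, hb, rfl⟩ := key n y
    obtain ⟨x, hx⟩ := hlift b hb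
    exact ⟨x, hx n⟩
  obtain ⟨s, hs⟩ := (inferInstance : Module.Finite A (M 0)).fg_top
  choose x hx using hsurjπ 0
  let φ : ∀ n, (s → A) →ₗ[A] M n := fun n => Fintype.linearCombination A fun i => π n (x i.1)
  have hφf : ∀ n c, f n (φ (n + 1) c) = φ n c := fun n c => by
    simp [φ, Fintype.linearCombination_apply, map_sum, ← hπ n]
  have hφ : ∀ n, Function.Surjective (φ n) := by
    intro n
    induction n with
    | zero =>
      rw [← LinearMap.range_eq_top, Fintype.range_linearCombination, ← hs]
      congr 1
      ext z
      simp only [Set.mem_range, hx, Subtype.exists, exists_prop, exists_eq_right, Finset.mem_coe]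
    | succ n ih =>
      have h1 : (⊤ : Submodule A (M (n + 1))) ≤ LinearMap.range (φ (n + 1)) ⊔ I • ⊤ := fun z _ => by
        obtain ⟨c, hc⟩ := ih (f n z)
        refine Submodule.mem_sup.mpr ⟨_, ⟨c, rfl⟩, z - φ (n + 1) c, ?_, add_sub_cancel _ _⟩
        have : z - φ (n + 1) c ∈ LinearMap.ker (f n) := by rw [LinearMap.mem_ker, map_sub, hφf, hc, sub_self]
        rw [hker] at this
        exact Submodule.smul_mono_left (Ideal.pow_le_self (Nat.succ_ne_zero n)) this
      have h2 : ∀ k, (⊤ : Submodule A (M (n + 1))) ≤ LinearMap.range (φ (n + 1)) ⊔ I ^ k • ⊤ := by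
        intro k
        induction k with
        | zero => simp
        | succ k ihk =>
          refine ihk.trans (sup_le le_sup_left ?_)
          refine (Submodule.smul_mono le_rfl h1).trans ?_
          rw [Submodule.smul_sup, ← mul_smul, ← pow_succ]
          exact sup_le_sup_right Submodule.smul_le_right _
      have h3 := h2 (n + 1 + 1)
      rw [hkill, sup_bot_eq, top_le_iff] at h3
      exact LinearMap.range_eq_top.mp h3
  let v : s → L := fun i => x i.1
  let ψ : (s → AdicCompletion I A) →ₗ[AdicCompletion I A] L := Fintype.linearCombination _ v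
  refine Module.Finite.of_surjective ψ fun y => ?_
  have step : ∀ n (c : s → A), φ n c = π n y → ∃ c' : s → A, φ (n + 1) c' = π (n + 1) y ∧
      c' - c ∈ I ^ (n + 1) • (⊤ : Submodule A (s → A)) := by
    intro n c hc
    have he : π (n + 1) y - φ (n + 1) c ∈ LinearMap.ker (f n) := by
      rw [LinearMap.mem_ker, map_sub, hφf, hc, ← LinearMap.comp_apply, hπ, sub_self]
    rw [hker, ← LinearMap.range_eq_top.mpr (hφ (n + 1)), ← Submodule.map_top, ← Submodule.map_smul''] at he
    obtain ⟨δ, hδ, hδe⟩ := he
    exact ⟨c + δ, by rw [map_add, hδe, add_sub_cancel], by simpa using hδ⟩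
  let seq : ∀ n, {c : s → A // φ n c = π n y} := fun n =>
    Nat.rec (motive := fun n => {c : s → A // φ n c = π n y}) ⟨_, (hφ 0 (π 0 y)).choose_spec⟩
      (fun n c => ⟨_, (step n c.1 c.2).choose_spec.1⟩) n
  have hdiff : ∀ n, (seq (n + 1)).1 - (seq n).1 ∈ I ^ (n + 1) • (⊤ : Submodule A (s → A)) :=
    fun n => (step n (seq n).1 (seq n).2).choose_spec.2
  let a : s → AdicCompletion.AdicCauchySequence I A := fun i =>
    AdicCompletion.AdicCauchySequence.mk I A (fun n => (seq n).1 i) fun n => by
      rw [SModEq.sub_mem, ← neg_sub]
      refine Submodule.neg_mem _ ?_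
      have h1 := Submodule.mem_map_of_mem (f := LinearMap.proj (R := A) (φ := fun _ : s => A) i) (hdiff n)
      rw [Submodule.map_smul''] at h1
      exact Submodule.smul_mono (Ideal.pow_le_pow_right (Nat.le_succ n)) le_top h1
  refine ⟨fun i => AdicCompletion.mk I A (a i), sub_eq_zero.mp (hinj _ fun n => ?_)⟩
  have hI' : ∀ (k : A), k ∈ I ^ (n + 1) → ∀ z : L, π n (k • z) = 0 := fun k hk z => by
    rw [map_smul, ← Submodule.mem_bot A, ← hkill n]
    exact Submodule.smul_mem_smul hk Submodule.mem_top
  have hterm : ∀ i : s, π n (AdicCompletion.mk I A (a i) • v i) = (seq (n + 1)).1 i • π n (v i) := fun i => by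
    have hd : AdicCompletion.mk I A (a i) - algebraMap A (AdicCompletion I A) ((seq (n + 1)).1 i) ∈
        I ^ (n + 1) • (⊤ : Submodule A (AdicCompletion I A)) := by
      rw [AdicCompletion.pow_smul_top_eq_ker_eval hI, LinearMap.mem_ker, map_sub, sub_eq_zero]
      rfl
    have hz : ∀ w ∈ I ^ (n + 1) • (⊤ : Submodule A (AdicCompletion I A)), π n (w • v i) = 0 := fun w hw => by
      induction hw using Submodule.smul_induction_on' with
      | smul r hr z _ => rw [smul_assoc]; exact hI' r hr _
      | add p _ q _ hp hq => rw [add_smul, map_add, hp, hq, add_zero]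
    have := hz _ hd
    rwa [sub_smul, algebraMap_smul, map_sub, LinearMap.map_smul (π n) ((seq (n + 1)).1 i), sub_eq_zero] at this
  have hsum : π n (∑ i, AdicCompletion.mk I A (a i) • v i) = π n y := by
    rw [map_sum, Finset.sum_congr rfl fun i _ => hterm i, ← hπ n, LinearMap.comp_apply]
    have hh := congrArg (f n) (seq (n + 1)).2
    simpa [φ, v, Fintype.linearCombination_apply, map_sum] using hh
  rw [map_sub, Fintype.linearCombination_apply, hsum, sub_self]

end Groth.Agent.S13622
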