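import Mathlib
import Mathlib
import Groth.Statements.S13623

set_option autoImplicit false
universe u
open TensorProduct
open CAlg

namespace Groth.Agent.S13623

/-- Let A be a commutative ring and B a commutative A-algebra, graded by A-submodules B_m (m ≥ 0)
forming a graded-algebra structure, such that every B_m is a finitely generated A-module. If for
every algebraically closed field k and every A-algebra structure on k the k-algebra k ⊗_A B is
generated by the image of B_1 under b ↦ 1 ⊗ b, then its degree-one part B_1 generates the A-algebra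
B. (Algebraically closed fields are taken in the universe of A.) -/
theorem result
    (A : Type u) [CommRing A] (B : Type u) [CommRing B] [Algebra A B]
    (𝒜 : ℕ → Submodule A B) [GradedAlgebra 𝒜]
    (hfin : ∀ m : ℕ, Module.Finite A (𝒜 m))
    (hgen : ∀ (k : Type u) [Field k] [IsAlgClosed k] [Algebra A k],
      Algebra.adjoin k ((Algebra.TensorProduct.includeRight : B →ₐ[A] k ⊗[A] B) '' (𝒜 1 : Set B)) = ⊤) :
    Algebra.adjoin A (𝒜 1 : Set B) = ⊤ := by
  open TensorProduct in
  classical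
  rw [eq_top_iff]
  intro b _
  rw [← DirectSum.sum_support_decompose 𝒜 b]
  refine Subalgebra.sum_mem _ fun m _ => ?_
  set C := Algebra.adjoin A (𝒜 1 : Set B)
  let Cm : Submodule A (𝒜 m) := (Subalgebra.toSubmodule C).comap (𝒜 m).subtype
  suffices hQ : Subsingleton (𝒜 m ⧸ Cm) from
    (Submodule.Quotient.mk_eq_zero Cm).mp (Subsingleton.elim (Submodule.Quotient.mk (DirectSum.decompose 𝒜 b m)) 0)
  by_contra hne
  haveI := not_subsingleton_iff_nontrivial.mp hne
  haveI := hfin m
  obtain ⟨M, hM, hle⟩ := Ideal.exists_le_maximal (Module.annihilator A (𝒜 m ⧸ Cm)) (fun h => hne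
    (Module.annihilator_eq_top_iff.mp h))
  letI := Ideal.Quotient.field M
  have hproper : M • (⊤ : Submodule A (𝒜 m ⧸ Cm)) ≠ ⊤ := fun h => by
    obtain ⟨r, hr, hr0⟩ := Submodule.exists_sub_one_mem_and_smul_eq_zero_of_fg_of_le_smul M ⊤ Module.Finite.fg_top h.ge
    have h1 : r ∈ M := hle (Module.mem_annihilator.mpr fun x => hr0 x Submodule.mem_top)
    exact hM.ne_top (M.eq_top_iff_one.mpr (by simpa using M.sub_mem h1 hr))
  obtain ⟨x, hx⟩ : ∃ x, x ∉ M • (⊤ : Submodule A (𝒜 m ⧸ Cm)) := by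
    by_contra hc; push Not at hc; exact hproper (top_le_iff.mp fun x _ => hc x)
  have hx' : Submodule.Quotient.mk (p := M • (⊤ : Submodule A (𝒜 m ⧸ Cm))) x ≠ 0 :=
    fun h => hx ((Submodule.Quotient.mk_eq_zero _).mp h)
  obtain ⟨l, hl⟩ : ∃ l : Module.Dual (A ⧸ M) ((𝒜 m ⧸ Cm) ⧸ M • (⊤ : Submodule A (𝒜 m ⧸ Cm))), l (Submodule.Quotient.mk x) ≠ 0 := by
    by_contra hc; push Not at hc
    exact hx' ((Module.forall_dual_apply_eq_zero_iff (A ⧸ M) _).mp hc)
  let k := AlgebraicClosure (A ⧸ M)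
  let ρ : (A ⧸ M) →ₗ[A] k := (Algebra.linearMap (A ⧸ M) k).restrictScalars A
  let proj : B →ₗ[A] 𝒜 m := (DirectSum.component A ℕ (fun i => 𝒜 i) m).comp (DirectSum.decomposeLinearEquiv 𝒜).toLinearMap
  let Φ : B →ₗ[A] k := ρ.comp (((l.restrictScalars A).comp (Submodule.mkQ _)).comp (Cm.mkQ.comp proj))
  let Ψ : k ⊗[A] B →ₗ[k] k := Φ.liftBaseChange k
  have hclos : ∀ c ∈ Submonoid.closure (𝒜 1 : Set B), (∃ j, c ∈ 𝒜 j) ∧ c ∈ C := fun c hc => by
    refine ⟨?_, ((Algebra.adjoin_eq_span A (𝒜 1 : Set B)).ge (Submodule.subset_span hc) : c ∈ Subalgebra.toSubmodule C)⟩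
    induction hc using Submonoid.closure_induction with
    | mem y hy => exact ⟨1, hy⟩
    | one => exact ⟨0, SetLike.one_mem_graded 𝒜⟩
    | mul y z _ _ hy hz =>
      obtain ⟨i, hi⟩ := hy
      obtain ⟨j, hj⟩ := hz
      exact ⟨i + j, SetLike.mul_mem_graded hi hj⟩
  have hclosm : ∀ c ∈ Submonoid.closure (𝒜 1 : Set B), Φ c = 0 := fun c hc => by
    obtain ⟨⟨j, hj⟩, hcC⟩ := hclos c hc
    have h0 : Cm.mkQ (proj c) = 0 := by
      by_cases hjm : j = m
      · subst hjm
        refine (Submodule.Quotient.mk_eq_zero _).mpr ?_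
        show ((DirectSum.decompose 𝒜 c j : 𝒜 j) : B) ∈ C
        rw [DirectSum.decompose_of_mem_same 𝒜 hj]; exact hcC
      · have : proj c = 0 := Subtype.ext (DirectSum.decompose_of_mem_ne 𝒜 hj hjm)
        rw [this, map_zero]
    show ρ (l (Submodule.Quotient.mk (Cm.mkQ (proj c)))) = 0
    rw [h0]; simp
  have hall : ∀ z : k ⊗[A] B, Ψ z = 0 := fun z => by
    have hz : z ∈ Submodule.span k ((Submonoid.closure (((Algebra.TensorProduct.includeRight : B →ₐ[A] k ⊗[A] B)) '' (𝒜 1 : Set B)) : Submonoid _) : Set (k ⊗[A] B)) := by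
      rw [← Algebra.adjoin_eq_span, hgen k]; trivial
    induction hz using Submodule.span_induction with
    | zero => exact map_zero _
    | add y z _ _ hy hz => rw [map_add, hy, hz, add_zero]
    | smul c y _ hy => rw [map_smul, hy, smul_zero]
    | mem y hy =>
      have : y ∈ (Submonoid.closure (𝒜 1 : Set B)).map (Algebra.TensorProduct.includeRight : B →ₐ[A] k ⊗[A] B) := by
        rw [MonoidHom.map_mclosure]; exact hy
      obtain ⟨c, hc, rfl⟩ := this
      simp [Ψ, hclosm c hc]
  obtain ⟨y, rfl⟩ := Submodule.Quotient.mk_surjective Cm x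
  have h := hall ((1 : k) ⊗ₜ (y : B))
  have hy : proj (y : B) = y := Subtype.ext (DirectSum.decompose_of_mem_same 𝒜 y.2)
  simp only [Ψ, LinearMap.liftBaseChange_tmul, one_smul, Φ, LinearMap.comp_apply, hy] at h
  exact hl ((map_eq_zero_iff (algebraMap (A ⧸ M) k) (algebraMap (A ⧸ M) k).injective).mp h)

end Groth.Agent.S13623
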