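import Groth.Statements.S13624
import Groth.Agent.GorOpenLib.Main
import Groth.Agent.GorSp.Sch
-- import your own Groth.Agent.* helpers here

set_option autoImplicit false
set_option backward.isDefEq.respectTransparency false
set_option maxHeartbeats 800000
set_option backward.isDefEq.respectTransparency false
set_option maxHeartbeats 800000
set_option synthInstance.maxHeartbeats 200000
universe u
open CategoryTheory CategoryTheory.Limits AlgebraicGeometry Opposite
open Goren Groth.Agent

namespace Groth.Agent.S13624

/-- Let f : X → Y be a proper, flat morphism of schemes which is locally of finite presentation. Then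
the set of points y of Y whose scheme-theoretic fibre X_y = X ×_Y Spec κ(y) is a Gorenstein scheme
(every local ring of X_y is a Gorenstein local ring) is open in Y. -/
theorem result (X Y : Scheme.{u}) (f : X ⟶ Y)
    [IsProper f] [Flat f] [LocallyOfFinitePresentation f] :
    IsOpen {y : Y | ∀ x : ↥(f.fiber y), LocCoh.IsGorensteinLocalRing ((f.fiber y).presheaf.stalk x)} := by
    have hset : {y : Y | ∀ x : ↥(f.fiber y), LocCoh.IsGorensteinLocalRing ((f.fiber y).presheaf.stalk x)} =
        (f '' {x : X | Dual3.IsGorensteinAt f x}ᶜ)ᶜ := by
      ext y
      simp only [Set.mem_compl_iff, Set.mem_image, not_exists, not_and, Set.mem_setOf_eq]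
      constructor
      · intro h x hx hxy
        subst hxy
        exact hx ⟨Flat.stalkMap f x, h (f.asFiber x)⟩
      · intro h z
        have hzy : f (f.fiberι y z) = y := by
          have h' : f.fiberι y z ∈ f ⁻¹' {y} := f.range_fiberι y ▸ Set.mem_range_self z
          exact h'
        by_contra hz
        refine h (f.fiberι y z) (fun hg => hz ((GorSp.gor_fibre_stalk_iff f y z).2 ?_)) hzy
        exact ((GorSp.gorAt_iff f _).1 hg).2
    rw [hset]
    exact (f.isClosedMap _ (GorOpenLib.isOpen_gorensteinLocus f).isClosed_compl).isOpen_compl

end Groth.Agent.S13624
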