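import Groth.Statements.S13625
import Groth.Agent.FPModelLib.ProperModel
import Groth.Agent.FPModelLib.Fibre
import Groth.Agent.GenIrredLib.GeomInt
import Groth.Agent.OpenDim.Local
import Groth.Agent.GorSp.Sch
import Groth.Agent.S4827
import Groth.Agent.S13624
import Groth.Agent.S2539
import Groth.Agent.S9777
import Groth.Agent.S3626

set_option autoImplicit false
universe u
open CategoryTheory CategoryTheory.Limits AlgebraicGeometry Opposite
open Lim

namespace Groth.Agent.S13625

open CategoryTheory CategoryTheory.Limits AlgebraicGeometry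

set_option backward.isDefEq.respectTransparency false
set_option backward.defeqAttrib.useBackward true
set_option linter.style.haveILetI false

set_option maxHeartbeats 1000000

/-- The points over which the fibre is geometrically integral, geometrically normal, Gorenstein, of dimension two. -/
def good {G T : Scheme.{u}} (g : G ⟶ T) : Set T :=
  {y : T | GeometricallyIntegral (g.fiberToSpecResidueField y)} ∩
    {s : T | ∀ (K : Type u) [Field K] [Algebra (IsLocalRing.ResidueField (T.presheaf.stalk s)) K]
        (x' : ↥(FBase.bc (g.fiberToSpecResidueField s) K)),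
        IsDomain ((FBase.bc (g.fiberToSpecResidueField s) K).presheaf.stalk x') ∧
          IsIntegrallyClosed ((FBase.bc (g.fiberToSpecResidueField s) K).presheaf.stalk x')} ∩
    {y : T | topologicalKrullDim ↥(g.fiber y) = 2} ∩
    {y : T | ∀ x : ↥(g.fiber y), LocCoh.IsGorensteinLocalRing ((g.fiber y).presheaf.stalk x)}

theorem isLocallyConstructible_good {G T : Scheme.{u}} (g : G ⟶ T) [IsProper g] [Flat g]
    [LocallyOfFinitePresentation g] [IsLocallyNoetherian T] : Topology.IsLocallyConstructible (good g) :=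
  (((GenIrredLib.isLocallyConstructible_geometricallyIntegral g).inter (S4827.result g)).inter
    (NearGen.isLocallyConstructible_fibreDim g 2)).inter
    (OpenDim.isLocallyConstructible_of_isOpen (S13624.result G T g))

theorem isIso_fiberι {Z : Scheme.{u}} {K : Type u} [Field K] (p : Z ⟶ Spec (CommRingCat.of K))
    (y : Spec (CommRingCat.of K)) : IsIso (p.fiberι y) := by
  haveI : Subsingleton ↥(Spec (CommRingCat.of K)) := inferInstanceAs (Subsingleton (PrimeSpectrum K))
  haveI : Surjective ((Spec (CommRingCat.of K)).fromSpecResidueField y) :=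
    ⟨fun z => ⟨IsLocalRing.closedPoint _, Subsingleton.elim _ _⟩⟩
  haveI : IsClosedImmersion ((Spec (CommRingCat.of K)).fromSpecResidueField y) :=
    IsClosedImmersion.of_isPreimmersion _ (by
      rw [Set.range_eq_univ.2 ((Spec (CommRingCat.of K)).fromSpecResidueField y).surjective]
      exact isClosed_univ)
  haveI : IsIso ((Spec (CommRingCat.of K)).fromSpecResidueField y) := isIso_of_isClosedImmersion_of_surjective _
  exact inferInstanceAs (IsIso (pullback.fst p _))

theorem dim_eq_fiber {Z : Scheme.{u}} {K : Type u} [Field K] (p : Z ⟶ Spec (CommRingCat.of K))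
    (y : Spec (CommRingCat.of K)) : topologicalKrullDim ↥(p.fiber y) = topologicalKrullDim ↥Z := by
  haveI := isIso_fiberι p y
  exact IsHomeomorph.topologicalKrullDim_eq _ (p.fiberι y).homeomorph.isHomeomorph

theorem gor_stalk_iff {Z : Scheme.{u}} {K : Type u} [Field K] (p : Z ⟶ Spec (CommRingCat.of K))
    [Flat p] (x : Z) :
    Dual3.IsGorensteinAt p x ↔ LocCoh.IsGorensteinLocalRing (Z.presheaf.stalk x) := by
  haveI := isIso_fiberι p (p x)
  let E : Z.presheaf.stalk x ≅ (p.fiber (p x)).presheaf.stalk (p.asFiber x) :=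
    Z.presheaf.stalkCongr (.of_eq (p.fiberι_asFiber x).symm) ≪≫ asIso ((p.fiberι (p x)).stalkMap (p.asFiber x))
  exact ⟨fun h => (GorLib.gorenstein_iff_ringEquiv E.commRingCatIsoToRingEquiv).2 h.2,
    fun h => ⟨Flat.stalkMap p x, (GorLib.gorenstein_iff_ringEquiv E.commRingCatIsoToRingEquiv).1 h⟩⟩

/-- The geometric fibres over a good point. -/
theorem props_of_mem {G T : Scheme.{u}} (g : G ⟶ T) [Flat g] [LocallyOfFiniteType g] [QuasiCompact g]
    {K : Type u} [Field K] (τ : Spec (CommRingCat.of K) ⟶ T)
    (hz : τ (IsLocalRing.closedPoint K) ∈ good g) {Z : Scheme.{u}} {q : Z ⟶ G} {p : Z ⟶ Spec (CommRingCat.of K)}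
    (H : IsPullback q p g τ) :
    IsIntegral Z ∧ Pi1.IsNormalScheme Z ∧ topologicalKrullDim ↥Z = 2 ∧
      ∀ x : Z, LocCoh.IsGorensteinLocalRing (Z.presheaf.stalk x) := by
  obtain ⟨⟨⟨hI, hN⟩, hD⟩, hG⟩ := hz
  simp only [Set.mem_setOf_eq] at hI hN hD hG
  haveI : Flat p := MorphismProperty.of_isPullback H ‹Flat g›
  let z := τ (IsLocalRing.closedPoint K)
  let d := T.descResidueField (Scheme.stalkClosedPointTo τ)
  have he : Spec.map d ≫ T.fromSpecResidueField z = τ :=
    T.descResidueField_stalkClosedPointTo_fromSpecResidueField _ _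
  let l : Z ⟶ g.fiber z := pullback.lift q (p ≫ Spec.map d) (by rw [Category.assoc, he]; exact H.w)
  have hl : IsPullback l p (g.fiberToSpecResidueField z) (Spec.map d) := by
    refine IsPullback.of_right ?_ (pullback.lift_snd _ _ _) (IsPullback.of_hasPullback g (T.fromSpecResidueField z))
    rw [pullback.lift_fst, he]
    exact H
  refine ⟨hI.geometrically_isIntegral _ _ _ hl, ?_, ?_, fun x => (gor_stalk_iff p x).1 ?_⟩
  · letI : Algebra (IsLocalRing.ResidueField (T.presheaf.stalk z)) K := d.hom.toAlgebra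
    have e : pullback (g.fiberToSpecResidueField z) (Spec.map d) ≅ Z := hl.isoPullback.symm
    exact S2539.result e.hom (fun x => hN K x)
  · rw [← dim_eq_fiber p (IsLocalRing.closedPoint K), S9777.result g τ p q H]
    exact hD
  · refine (S3626.result G T Z _ g τ p q H x).2 ⟨Flat.stalkMap g _, ?_⟩
    have hq : g (q x) = z := by
      have h : (q ≫ g) x = (p ≫ τ) x := by rw [H.w]
      exact h.trans (congrArg τ (Subsingleton.elim (α := PrimeSpectrum K) _ _))
    have key : ∀ y : T, y = z → ∀ w : g.fiber y, LocCoh.IsGorensteinLocalRing ((g.fiber y).presheaf.stalk w) := by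
      rintro y rfl
      exact hG
    exact key _ hq _

section

variable {X S G T : Scheme.{u}} (f : X ⟶ S) [Flat f] [LocallyOfFiniteType f] [QuasiCompact f]
  (hfib : ∀ (k : Type u) [Field k] [IsAlgClosed k] (σ : Spec (CommRingCat.of k) ⟶ S),
    IsIntegral (pullback f σ) ∧ Pi1.IsNormalScheme (pullback f σ) ∧
      topologicalKrullDim ↥(pullback f σ) = 2 ∧
      ∀ x : ↥(pullback f σ), LocCoh.IsGorensteinLocalRing ((pullback f σ).presheaf.stalk x))
  {g : G ⟶ T} {q : X ⟶ G} {π : S ⟶ T} (hsq : IsPullback q f g π)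

theorem exists_geomPoint (s : S) : ∃ (Ω : Type u) (_ : Field Ω) (_ : IsAlgClosed Ω)
    (b : Spec (CommRingCat.of Ω) ⟶ S), b (IsLocalRing.closedPoint Ω) = s :=
  ⟨AlgebraicClosure (S.residueField s), inferInstance, inferInstance,
    Spec.map (CommRingCat.ofHom (algebraMap (S.residueField s) (AlgebraicClosure (S.residueField s)))) ≫
      S.fromSpecResidueField s, by
    rw [Scheme.Hom.comp_apply]
    exact S.fromSpecResidueField_apply _ _⟩

include hfib hsq in
/-- Field fibres over points of the image are integral and normal. -/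
theorem integral_normal {K : Type u} [Field K] (τ : Spec (CommRingCat.of K) ⟶ T) (s : S)
    (hs : τ (IsLocalRing.closedPoint K) = π s) {Z : Scheme.{u}} {q' : Z ⟶ G} {p : Z ⟶ Spec (CommRingCat.of K)}
    (H : IsPullback q' p g τ) : IsIntegral Z ∧ Pi1.IsNormalScheme Z := by
  obtain ⟨w, -, hw⟩ := Scheme.Pullback.exists_preimage_pullback _ s hs
  obtain ⟨Ω, _, _, e, -⟩ := exists_geomPoint w
  let a := e ≫ pullback.fst τ π
  let b := e ≫ pullback.snd τ π
  have hab : a ≫ τ = b ≫ π := by simp only [a, b, Category.assoc, pullback.condition]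
  haveI : Flat a := by
    obtain ⟨φ, hφ⟩ : ∃ φ, Spec.map φ = a := ⟨_, Spec.map_preimage a⟩
    rw [← hφ, Flat.SpecMap_iff]
    letI := φ.hom.toAlgebra
    exact RingHom.flat_algebraMap_iff.2 (inferInstance : Module.Flat K Ω)
  haveI : Surjective a := ⟨fun v => ⟨IsLocalRing.closedPoint Ω, Subsingleton.elim (α := PrimeSpectrum K) _ _⟩⟩
  have hT : IsPullback (pullback.fst f b ≫ q) (pullback.snd f b) g (a ≫ τ) := by
    rw [hab]
    exact (IsPullback.of_hasPullback f b).paste_horiz hsq
  let r : pullback f b ⟶ Z := H.lift (pullback.fst f b ≫ q) (pullback.snd f b ≫ a)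
    (by rw [Category.assoc]; exact hT.w)
  have hr : IsPullback r (pullback.snd f b) p a :=
    IsPullback.of_right (h₁₂ := q') (by rw [H.lift_fst]; exact hT) (H.lift_snd _ _ _) H
  haveI : Flat r := MorphismProperty.of_isPullback hr.flip ‹Flat a›
  haveI : Surjective r := MorphismProperty.of_isPullback hr.flip ‹Surjective a›
  obtain ⟨hi, hn, -⟩ := hfib Ω b
  have hZ := S2539.result r hn
  refine ⟨?_, hZ⟩
  haveI : ∀ x, _root_.IsReduced (Z.presheaf.stalk x) := fun x => by
    haveI := (hZ x).1; infer_instance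
  haveI : IsReduced Z := isReduced_of_isReduced_stalk Z
  haveI : IrreducibleSpace ↥Z := by
    have h := (IrreducibleSpace.isIrreducible_univ ↥(pullback f b)).image r r.continuous.continuousOn
    rw [Set.image_univ, Set.range_eq_univ.2 r.surjective] at h
    exact (irreducibleSpace_def _).2 h
  exact isIntegral_of_irreducibleSpace_of_isReduced Z

include hfib hsq in
theorem mem_good [Flat g] [LocallyOfFiniteType g] [QuasiCompact g] (s : S) : π s ∈ good g := by
  obtain ⟨Ω, _, _, b, hb⟩ := exists_geomPoint s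
  obtain ⟨-, -, hd, hgor⟩ := hfib Ω b
  refine ⟨⟨⟨?_, ?_⟩, ?_⟩, ?_⟩
  · refine ⟨fun K _ y Z fst snd H => ?_⟩
    have hH := H.paste_horiz (IsPullback.of_hasPullback g (T.fromSpecResidueField (π s)))
    refine (integral_normal f hfib hsq (y ≫ T.fromSpecResidueField (π s)) s ?_ hH).1
    rw [Scheme.Hom.comp_apply]
    exact T.fromSpecResidueField_apply _ _
  · intro K _ _ x'
    have hH := (IsPullback.of_hasPullback (g.fiberToSpecResidueField (π s))
      (Spec.map (CommRingCat.ofHom (algebraMap (IsLocalRing.ResidueField (T.presheaf.stalk (π s))) K)))).paste_horiz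
      (IsPullback.of_hasPullback g (T.fromSpecResidueField (π s)))
    refine (integral_normal f hfib hsq _ s ?_ hH).2 x'
    rw [Scheme.Hom.comp_apply]
    exact T.fromSpecResidueField_apply _ _
  · show topologicalKrullDim ↥(g.fiber (π s)) = 2
    rw [← S9777.result g π f q hsq s, ← hb,
      ← S9777.result f b _ _ (IsPullback.of_hasPullback f b) (IsLocalRing.closedPoint Ω), dim_eq_fiber]
    exact hd
  · intro x₀
    have hx₀ : g (g.fiberι (π s) x₀) = π s := by
      have h : g.fiberι (π s) x₀ ∈ g ⁻¹' {π s} := g.range_fiberι (π s) ▸ Set.mem_range_self x₀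
      exact h
    refine (GorSp.gor_fibre_stalk_iff g (π s) x₀).2 ((GorSp.gorAt_iff g _).1 ?_).2
    obtain ⟨w, hw1, hw2⟩ := Scheme.Pullback.exists_preimage_pullback _ s hx₀
    have hq : q (hsq.isoPullback.inv w) = g.fiberι (π s) x₀ := by
      rw [← Scheme.Hom.comp_apply, hsq.isoPullback_inv_fst, hw1]
    have hf : f (hsq.isoPullback.inv w) = s := by
      rw [← Scheme.Hom.comp_apply, hsq.isoPullback_inv_snd, hw2]
    obtain ⟨x', hx', -⟩ := Scheme.Pullback.exists_preimage_pullback (f := f) (g := b) _
      (IsLocalRing.closedPoint Ω) (hf.trans hb.symm)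
    haveI : Flat (pullback.snd f b) := MorphismProperty.pullback_snd _ _ inferInstance
    have h1 := (S3626.result X S _ _ f b _ _ (IsPullback.of_hasPullback f b) x').1
      ((gor_stalk_iff _ x').2 (hgor x'))
    rw [hx'] at h1
    rw [← hq]
    exact (S3626.result G T X S g π f q hsq _).1 h1

end

theorem main (A : CommRingCat.{u}) {X : Scheme.{u}} (f : X ⟶ Spec A)
    [IsProper f] [Flat f] [LocallyOfFinitePresentation f]
    (hfib : ∀ (k : Type u) [Field k] [IsAlgClosed k] (σ : Spec (CommRingCat.of k) ⟶ Spec A),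
      IsIntegral (pullback f σ) ∧ Pi1.IsNormalScheme (pullback f σ) ∧
        topologicalKrullDim ↥(pullback f σ) = 2 ∧
        ∀ x : ↥(pullback f σ), LocCoh.IsGorensteinLocalRing ((pullback f σ).presheaf.stalk x)) :
    ∃ (R₀ : CommRingCat.{u}) (φ : R₀ ⟶ A) (X₀ : Scheme.{u}) (f₀ : X₀ ⟶ Spec R₀) (g : X ⟶ X₀),
      IsNoetherianRing ↥R₀ ∧ IsPullback g f f₀ (Spec.map φ) ∧
      IsProper f₀ ∧ Flat f₀ ∧ LocallyOfFinitePresentation f₀ ∧
      (∀ (k : Type u) [Field k] [IsAlgClosed k] (σ : Spec (CommRingCat.of k) ⟶ Spec R₀),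
      IsIntegral (pullback f₀ σ) ∧ Pi1.IsNormalScheme (pullback f₀ σ) ∧
        topologicalKrullDim ↥(pullback f₀ σ) = 2 ∧
        ∀ x : ↥(pullback f₀ σ), LocCoh.IsGorensteinLocalRing ((pullback f₀ σ).presheaf.stalk x)) := by
  let D := FPModelLib.zSys A
  let c := FPModelLib.zCone A
  let f' : X ⟶ c.pt := f
  haveI : IsProper f' := ‹IsProper f›
  haveI : Flat f' := ‹Flat f›
  haveI : LocallyOfFinitePresentation f' := ‹LocallyOfFinitePresentation f›
  haveI : CompactSpace X := QuasiCompact.compactSpace_of_compactSpace f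
  haveI : QuasiSeparatedSpace X := quasiSeparatedSpace_of_quasiSeparated f
  obtain ⟨i, G, g, q, hM, _, _⟩ := FPModelLib.exists_proper_flat_model D c (FPModelLib.isLimitZCone A) f'
  haveI := hM.lfp
  obtain ⟨j, φ, hj⟩ := FPModelLib.exists_stage_forall_mem D c (FPModelLib.isLimitZCone A)
    (isLocallyConstructible_good g) (fun s => mem_good f' hfib hM.isPullback s)
  have hM' := FPModelLib.IsModel.stage D c hM (Over.mk φ)
  refine ⟨(FPModelLib.zRing A).obj j.unop, (FPModelLib.zCocone A).ι.app j.unop, pullback g (D.map φ),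
    pullback.snd g (D.map φ), _, ?_, hM'.isPullback, MorphismProperty.pullback_snd _ _ inferInstance,
    MorphismProperty.pullback_snd _ _ inferInstance, MorphismProperty.pullback_snd _ _ inferInstance,
    fun k _ _ σ => ?_⟩
  · haveI := FPModelLib.finiteType_zSys A j
    exact Algebra.FiniteType.isNoetherianRing ℤ j.unop.1
  · exact props_of_mem g (σ ≫ D.map φ) (hj (σ (IsLocalRing.closedPoint k)))
      ((IsPullback.of_hasPullback (pullback.snd g (D.map φ)) σ).paste_horiz
        (IsPullback.of_hasPullback g (D.map φ)))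


/-- Let R be a commutative ring and f : X → Spec R a proper, flat morphism of schemes, locally of finite
presentation, whose geometric fibres (fibres over Spec k → Spec R, k an algebraically closed field)
are integral, normal schemes of Krull dimension 2 with Gorenstein local rings. Then f is the base
change, along Spec R → Spec R₀ for some ring map R₀ → R with R₀ Noetherian, of a proper, flat
morphism f₀ : X₀ → Spec R₀ locally of finite presentation whose geometric fibres are again integral,
normal, of Krull dimension 2 and with Gorenstein local rings. (Algebraically closed fields are taken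
in the universe of R.) -/
theorem result
    (R : Type u) [CommRing R] (X : Scheme.{u}) (f : X ⟶ Spec (CommRingCat.of R))
    [IsProper f] [Flat f] [LocallyOfFinitePresentation f]
    (hfib : (∀ (k : Type u) [Field k] [IsAlgClosed k] (σ : Spec (CommRingCat.of k) ⟶ Spec (CommRingCat.of R)),
      IsIntegral (pullback f σ) ∧ Pi1.IsNormalScheme (pullback f σ) ∧
        topologicalKrullDim ↥(pullback f σ) = 2 ∧
        ∀ x : ↥(pullback f σ), LocCoh.IsGorensteinLocalRing ((pullback f σ).presheaf.stalk x))) :
    ∃ (R₀ : CommRingCat.{u}) (φ : R₀ ⟶ CommRingCat.of R) (X₀ : Scheme.{u}) (f₀ : X₀ ⟶ Spec R₀) (g : X ⟶ X₀),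
      IsNoetherianRing ↥R₀ ∧ IsPullback g f f₀ (Spec.map φ) ∧
      IsProper f₀ ∧ Flat f₀ ∧ LocallyOfFinitePresentation f₀ ∧
      (∀ (k : Type u) [Field k] [IsAlgClosed k] (σ : Spec (CommRingCat.of k) ⟶ Spec R₀),
      IsIntegral (pullback f₀ σ) ∧ Pi1.IsNormalScheme (pullback f₀ σ) ∧
        topologicalKrullDim ↥(pullback f₀ σ) = 2 ∧
        ∀ x : ↥(pullback f₀ σ), LocCoh.IsGorensteinLocalRing ((pullback f₀ σ).presheaf.stalk x)) := by
  exact main (CommRingCat.of R) f hfib

end Groth.Agent.S13625
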