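import Groth.Statements.S13626
import Groth.Agent.S0927
import Groth.Agent.S16952
import Groth.Agent.AmpleLib.Tensor
import Groth.Agent.CurveLib.Inv

set_option autoImplicit false
universe u
open CategoryTheory CategoryTheory.Limits AlgebraicGeometry
open Coh

namespace Groth.Agent.S13626

/-- Let f : X → Y be a morphism of schemes with R^i f_* O_X = 0 for every i ≥ 1 and f_* O_X ≅ O_Y. Then
for every invertible O_Y-module L and every p ≥ 0 the groups H^p(X, f^* L) and H^p(Y, L) are
isomorphic (existence of a group isomorphism; the higher direct images are the right derived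
functors of f_* on O_X-modules, under the instance argument recording that O_X-modules have
injective resolutions). -/
theorem result
    {X Y : Scheme.{u}} (f : X ⟶ Y) [HasInjectiveResolutions X.Modules]
    (hR : ∀ i : ℕ, IsZero ((Coh.Rpush f (i + 1)).obj (Coh.structureModule X)))
    (h0 : Nonempty ((Coh.push f).obj (Coh.structureModule X) ≅ Coh.structureModule Y))
    (L : Y.Modules) (hL : PicF.IsInvertible L) (p : ℕ) :
    Nonempty (Coh.HH X ((Scheme.Modules.pullback f).obj L) p ≃+ Coh.HH Y L p) := by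
  obtain ⟨h0⟩ := h0
  have hE := Groth.Agent.CurveLib.isFinLocFree_of_isInvertible hL
  let G := (Scheme.Modules.pullback f).obj L
  have hG : ∀ q, Nonempty (CohB1.tensorMod L ((Coh.Rpush f q).obj (Coh.structureModule X)) ≅ (Coh.Rpush f q).obj G) := fun q => by
    obtain ⟨e⟩ := Groth.Agent.S0927.result f (Coh.structureModule X) L hE q
    exact ⟨e ≪≫ (Coh.Rpush f q).mapIso (Groth.Agent.AmpleLib.unitR G)⟩
  have hz : ∀ q : ℕ, 0 < q → IsZero ((Coh.Rpush f q).obj G) := fun q hq => by
    obtain ⟨i, rfl⟩ : ∃ i, q = i + 1 := ⟨q - 1, by omega⟩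
    obtain ⟨e⟩ := hG (i + 1)
    exact (((DCoh.tensorBi (X := Y)).obj L).map_isZero (hR i)).of_iso e.symm
  obtain ⟨e⟩ := hG 0
  let ep : L ≅ (Coh.push f).obj G :=
    (Groth.Agent.AmpleLib.unitR L).symm ≪≫ Groth.Agent.AmpleLib.tIso (Iso.refl L) h0.symm ≪≫
      Groth.Agent.AmpleLib.tIso (Iso.refl L) ((Functor.rightDerivedZeroIsoSelf (Coh.push f)).app (Coh.structureModule X)).symm ≪≫
      e ≪≫ (Functor.rightDerivedZeroIsoSelf (Coh.push f)).app G
  let a := (AddEquiv.ofBijective (CohPull.pushEdge f G p) (Groth.Agent.S16952.result f G hz p)).symm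
  exact ⟨a.trans (((Sheaf.functorH _ p).mapIso ((SheafOfModules.toSheaf Y.ringCatSheaf).mapIso ep.symm)).addCommGroupIsoToAddEquiv)⟩

end Groth.Agent.S13626
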