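import Groth.Statements.S13629
import Groth.Agent.GenBCLib.Betti
import Groth.Agent.HilbLib.Multi
import Groth.Agent.CurveLib.Inv
import Groth.Agent.AmpleLib.Pullback
import Groth.Agent.DCohMore.ProjPC

set_option autoImplicit false
set_option backward.isDefEq.respectTransparency false
set_option backward.isDefEq.respectTransparency.types false
universe u
open CategoryTheory CategoryTheory.Limits AlgebraicGeometry Opposite
open FGA

namespace Groth.Agent.S13629

/-- Let f : X → Y be a proper, flat morphism of schemes, locally of finite presentation, whose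
scheme-theoretic fibres X_y all have Krull dimension at most 2, and let L be an invertible
O_X-module with a tensor inverse M (M ⊗ L ≅ O_X). Then the self-intersection number (L_y · L_y) of
the restriction of L to the fibre X_y over κ(y), namely the alternating sum χ(O_{X_y}) − 2χ(M_y) +
χ(M_y ⊗ M_y) of Euler characteristics in degrees ≤ 2, is a locally constant function of y: every
point y₀ of Y has an open neighbourhood on which it equals its value at y₀. (The published statement
is the case where the fibres are integral normal Gorenstein surfaces and L is the relative dualizing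
sheaf, so that the number is the self-intersection K² of the canonical class of the fibre; the fibre
X_y is regarded as a scheme over Spec κ(y) through the second projection.) -/
theorem result
    {X Y : Scheme.{u}} (f : X ⟶ Y) [IsProper f] [Flat f] [LocallyOfFinitePresentation f]
    (hdim : ∀ y : Y, topologicalKrullDim ↥(f.fiber y) ≤ 2)
    (L M : X.Modules) (hL : PicF.IsInvertible L) (hM : ClSub.IsInverseOf M L) (y₀ : Y) :
    ∃ U : Y.Opens, y₀ ∈ U ∧ ∀ y : Y, y ∈ U →
      @FGA.intNum ↥(Y.residueField y) _ (f.fiber y) ⟨f.fiberToSpecResidueField y⟩ 2 2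
            ![(Scheme.Modules.pullback (f.fiberι y)).obj M, (Scheme.Modules.pullback (f.fiberι y)).obj M]
            (Coh.structureModule (f.fiber y)) =
        @FGA.intNum ↥(Y.residueField y₀) _ (f.fiber y₀) ⟨f.fiberToSpecResidueField y₀⟩ 2 2
            ![(Scheme.Modules.pullback (f.fiberι y₀)).obj M, (Scheme.Modules.pullback (f.fiberι y₀)).obj M]
            (Coh.structureModule (f.fiber y₀)) := by
  classical
  obtain ⟨ι⟩ := hM
  have hMi : PicF.IsInvertible M :=
    Groth.Agent.AmpleLib.isInvertible_of_tensor_iso ι
  have hfam : ∀ i, PicF.IsInvertible (![M, M] i) := fun i => by fin_cases i <;> exact hMi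
  let G : Finset (Fin 2) → X.Modules := fun I =>
    CohB1.tensorMod (FGA.tensorList ((I.sort (· ≤ ·)).map ![M, M])) (Coh.structureModule X)
  have hlist : ∀ l : List (Fin 2), PicF.IsInvertible (FGA.tensorList (l.map ![M, M])) := fun l => by
    induction l with
    | nil => exact Groth.Agent.ParaFLib.isInvertible_structureModule
    | cons a l ih => exact Groth.Agent.AmpleLib.isInvertible_tensor (hfam a) ih
  have hG : ∀ I, FlatMod.IsFinLocFree (G I) := fun I => Groth.Agent.CurveLib.isFinLocFree_of_isInvertible
    (Groth.Agent.AmpleLib.isInvertible_tensor (hlist _) Groth.Agent.ParaFLib.isInvertible_structureModule)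
  have hlc : ∀ I, IsLocallyConstant (fun y : Y => PerfAux.eulerChar f (G I) y) := fun I => by
    haveI : Coh.IsQCoh (G I) := (Groth.Agent.PullbackMod.isQCoh_and_isFP_of_isFinLocFree _ (hG I)).1
    exact Groth.Agent.GenBCLib.isLocallyConstant_euler
      (Groth.Agent.PullbackMod.isQCoh_and_isFP_of_isFinLocFree _ (hG I)).2
      (Groth.Agent.DCohMore.TwistFam.isFlatOver_of_isFinLocFree f (hG I))
  have pl : ∀ (y : Y) (l : List (Fin 2)), Nonempty
      ((Scheme.Modules.pullback (f.fiberι y)).obj (FGA.tensorList (l.map ![M, M])) ≅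
        FGA.tensorList (l.map ![(Scheme.Modules.pullback (f.fiberι y)).obj M,
          (Scheme.Modules.pullback (f.fiberι y)).obj M])) := fun y l => by
    induction l with
    | nil => exact ⟨Groth.Agent.AmpleLib.pullO _⟩
    | cons a l ih =>
      obtain ⟨e⟩ := ih
      refine ⟨Groth.Agent.AmpleLib.pullTensor _ _ _ ≪≫ Groth.Agent.AmpleLib.tIso (eqToIso ?_) e⟩
      fin_cases a <;> rfl
  have hval : ∀ y : Y,
      @FGA.intNum ↥(Y.residueField y) _ (f.fiber y) ⟨f.fiberToSpecResidueField y⟩ 2 2
        ![(Scheme.Modules.pullback (f.fiberι y)).obj M, (Scheme.Modules.pullback (f.fiberι y)).obj M]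
        (Coh.structureModule (f.fiber y)) =
      ∑ I : Finset (Fin 2), (-1 : ℤ) ^ I.card * PerfAux.eulerChar f (G I) y := fun y => by
    letI : (f.fiber y).Over (Spec (CommRingCat.of ↥(Y.residueField y))) := ⟨f.fiberToSpecResidueField y⟩
    haveI : IsProper ((f.fiber y) ↘ Spec (CommRingCat.of ↥(Y.residueField y))) :=
      inferInstanceAs (IsProper (pullback.snd f (Y.fromSpecResidueField y)))
    refine Finset.sum_congr rfl fun I _ => ?_
    obtain ⟨e⟩ := pl y (I.sort (· ≤ ·))
    have e' := Groth.Agent.AmpleLib.tIso e (Groth.Agent.AmpleLib.pullO (f.fiberι y))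
    rw [Groth.Agent.HilbLib.eulerCharLE_eq (↥(Y.residueField y)) _ (by exact_mod_cast hdim y)]
    congr 1
    exact (Groth.Agent.CurveLib.euler_iso (Groth.Agent.AmpleLib.pullTensor (f.fiberι y) _ _ ≪≫ e')).symm
  refine ⟨⟨⋂ I, {y | PerfAux.eulerChar f (G I) y = PerfAux.eulerChar f (G I) y₀},
    isOpen_iInter_of_finite fun I => (hlc I).isOpen_fiber _⟩, Set.mem_iInter.2 fun I => rfl, fun y hy => ?_⟩
  rw [hval, hval]
  exact Finset.sum_congr rfl fun I _ => by rw [show PerfAux.eulerChar f (G I) y = _ from Set.mem_iInter.1 hy I]

end Groth.Agent.S13629
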