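import Groth.Statements.S13630
import Groth.Agent.FpqcDesc.Basic
import Groth.Agent.FpqcDesc.Stalk
import Groth.Agent.EtAlgEasy.MorFibre
import Groth.Agent.TwistShriek.SurfSmooth
import Groth.Agent.SeesawVB.TrivFibres
import Groth.Agent.AmpleEmb.Inverse
import Groth.Agent.GrothBddLib.Complex
import Groth.Agent.AmpleLib.Descent
import Groth.Agent.ExtPowLib.Unique
import Groth.Agent.S15539

set_option autoImplicit false
universe u
open CategoryTheory CategoryTheory.Limits AlgebraicGeometry Opposite
open FBase

set_option linter.style.haveILetI false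

namespace Groth.Agent.S13630

open Groth.Agent in
/-- The fibre condition descends along an extension of algebraically closed fields. -/
theorem fibre_descends {k K : Type u} [Field k] [Field K] {X X' : Scheme.{u}}
    (q : X ⟶ Spec (CommRingCat.of k)) [IsProper q] [Smooth q]
    (q' : X' ⟶ Spec (CommRingCat.of K)) (τ : Spec (CommRingCat.of K) ⟶ Spec (CommRingCat.of k))
    [Flat τ] [Surjective τ] (e : X' ⟶ X) (sq : IsPullback e q' q τ)
    (hi : IsIntegral X') (hd : topologicalKrullDim ↥X' = 2)
    (h : ∃ ω D : X'.Modules, Canon.IsTopDiff q' 2 ω ∧ ClSub.IsInverseOf D ω ∧ CohB1.IsAmple D) :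
    IsIntegral X ∧ topologicalKrullDim ↥X = 2 ∧
      ∃ ω D : X.Modules, Canon.IsTopDiff q 2 ω ∧ ClSub.IsInverseOf D ω ∧ CohB1.IsAmple D := by
  haveI := hi
  haveI : Flat e := MorphismProperty.of_isPullback sq.flip ‹Flat τ›
  haveI : Surjective e := MorphismProperty.of_isPullback sq.flip ‹Surjective τ›
  haveI : IsProper q' := MorphismProperty.of_isPullback sq ‹IsProper q›
  haveI : IsReduced X := FlatDescStalk.isReduced_of_flat_surjective e
  haveI : IrreducibleSpace X := by
    obtain ⟨x⟩ := (inferInstance : Nonempty X')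
    haveI : Nonempty X := ⟨e x⟩
    haveI : PreirreducibleSpace X := ⟨by
      rw [← e.surjective.range_eq, ← Set.image_univ]
      exact (PreirreducibleSpace.isPreirreducible_univ (X := X')).image _ e.continuous.continuousOn⟩
    exact ⟨inferInstance⟩
  haveI : IsIntegral X := isIntegral_of_irreducibleSpace_of_isReduced X
  have hdim : topologicalKrullDim ↥X = 2 :=
    (EtAlgEasy.MorFibre.topologicalKrullDim_baseChange sq).symm.trans hd
  refine ⟨inferInstance, hdim, ?_⟩
  obtain ⟨ω', D', hω', hD', hamp⟩ := h
  haveI : SmoothOfRelativeDimension 2 q :=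
    TwistShriek.smoothOfRelativeDimension_of_smooth q (d := 2) (by exact_mod_cast hdim)
  haveI : Coh.IsQCoh (Omega.sheaf q) :=
    (PullbackMod.isQCoh_and_isFP_of_isFinLocFree _ (InfLiftLib.isFinLocFree_omega q)).1
  obtain ⟨ω, -, hω⟩ := ExtPowLib.exists_isExtPow (E := Omega.sheaf q) (i := 2)
  have hinv : PicF.IsInvertible ω := SeesawVB.isInvertible_topDiff q 2 hω
  obtain ⟨N, hN, ⟨t⟩⟩ := AmpleEmb.exists_isInverseOf hinv
  let t' : CohB1.tensorMod N ω ≅ Coh.structureModule X := AmpleLib.comm N ω ≪≫ t
  refine ⟨ω, N, hω, ⟨t'⟩, ?_⟩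
  obtain ⟨b⟩ := ExtPowLib.nonempty_iso
    (S15539.result X (Spec (CommRingCat.of k)) X' (Spec (CommRingCat.of K)) q q' e τ sq 2 ω hω) hω'
  obtain ⟨c⟩ := GrothBddLib.nonempty_inverse_unique
    ((AmpleLib.pullTensor e N ω).symm ≪≫ (Scheme.Modules.pullback e).mapIso t' ≪≫ AmpleLib.pullO e)
    hD'.some b
  have ha : CohB1.IsAmple ((Scheme.Modules.pullback e).obj N) := AmpleLib.isAmple_of_iso c.symm hamp
  refine AmpleLib.isAmple_of_pullback q τ hN ?_
  let v := (IsPullback.of_hasPullback q τ).isoIsPullback _ _ sq
  have hv : v.hom ≫ e = pullback.fst q τ := (IsPullback.of_hasPullback q τ).isoIsPullback_hom_fst _ _ sq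
  exact AmpleLib.isAmple_of_iso ((Scheme.Modules.pullbackComp v.hom e).app N ≪≫
    (Scheme.Modules.pullbackCongr hv).app N) (AmpleLib.isAmple_pullback v.hom ha)

/-- Say that a morphism of schemes p : S → T is a family of del Pezzo surfaces when p is proper and
smooth (hence of finite presentation) and for every algebraically closed field k and every morphism
Spec k → T the fibre S_k = S ×_T Spec k is an integral scheme of Krull dimension 2 whose
anti-canonical sheaf is ample — there are a second exterior power ω of the sheaf of differentials of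
S_k → Spec k and a tensor inverse D of ω with D ample. This property descends along flat,
surjective, quasi-compact morphisms: if T' → T is such a morphism and the base change S ×_T T' → T'
is a family of del Pezzo surfaces, then so is p. (Stated for a single quasi-compact faithfully flat
base change; together with Zariski-locality on T this is locality for the fpqc topology. Fields are
taken in the universe of the schemes. The published statement is that families of del Pezzo surfaces
form a stack for the étale topology; this row is the locality of the family condition that its proof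
establishes.) -/
theorem result :
    MorphismProperty.DescendsAlong
      (fun ⦃S T : Scheme.{u}⦄ (p : S ⟶ T) =>
        IsProper p ∧ Smooth p ∧
          ∀ (k : Type u) [Field k] [IsAlgClosed k] (σ : Spec (CommRingCat.of k) ⟶ T),
            IsIntegral (pullback p σ) ∧ topologicalKrullDim ↥(pullback p σ) = 2 ∧
              ∃ ω D : (pullback p σ).Modules, Canon.IsTopDiff (pullback.snd p σ) 2 ω ∧
                ClSub.IsInverseOf D ω ∧ CohB1.IsAmple D)
      (@Surjective ⊓ @Flat ⊓ @QuasiCompact : MorphismProperty Scheme.{u}) := by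
  refine ⟨fun {A X Y Z fst snd f g} hsq hf hfst => ?_⟩
  obtain ⟨⟨⟨hfs, hff⟩, hfq⟩, hP, hS, hfib⟩ := hf, hfst
  haveI := @Groth.Agent.FpqcDesc.isProper_descends.{u}
  haveI hgP : IsProper g := MorphismProperty.of_isPullback_of_descendsAlong (P := @IsProper)
    (Q := @Surjective ⊓ @Flat ⊓ @QuasiCompact) hsq ⟨⟨hfs, hff⟩, hfq⟩ hP
  haveI hgS : Smooth g := MorphismProperty.of_isPullback_of_descendsAlong (P := @Smooth)
    (Q := @Surjective ⊓ @Flat ⊓ @QuasiCompact) hsq ⟨⟨hfs, hff⟩, hfq⟩ hS
  refine ⟨hgP, hgS, fun k _ _ σ => ?_⟩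
  obtain ⟨x, hx⟩ := f.surjective (σ default)
  obtain ⟨z, -, -⟩ := Scheme.Pullback.exists_preimage_pullback (f := f) (g := σ) x default hx
  let K := AlgebraicClosure ((pullback f σ).residueField z)
  let ι : Spec (CommRingCat.of K) ⟶ pullback f σ :=
    Spec.map (CommRingCat.ofHom (algebraMap ((pullback f σ).residueField z) K)) ≫
      (pullback f σ).fromSpecResidueField z
  let τ' : Spec (CommRingCat.of K) ⟶ X := ι ≫ pullback.fst f σ
  let τ : Spec (CommRingCat.of K) ⟶ Spec (CommRingCat.of k) := ι ≫ pullback.snd f σ
  haveI : Surjective τ := ⟨fun y => ⟨default, Subsingleton.elim _ _⟩⟩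
  haveI : Flat τ := inferInstance
  have hw : τ' ≫ f = τ ≫ σ := by simp only [τ', τ, Category.assoc, pullback.condition]
  obtain ⟨hi, hd, hω⟩ := hfib K τ'
  have hbig : IsPullback (pullback.fst fst τ' ≫ snd) (pullback.snd fst τ') g (τ ≫ σ) := by
    rw [← hw]
    exact (IsPullback.of_hasPullback fst τ').paste_horiz hsq.flip
  let e : pullback fst τ' ⟶ pullback g σ :=
    pullback.lift (pullback.fst fst τ' ≫ snd) (pullback.snd fst τ' ≫ τ) (hbig.w.trans (Category.assoc _ _ _).symm)
  have sq : IsPullback e (pullback.snd fst τ') (pullback.snd g σ) τ :=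
    IsPullback.of_right (by rw [pullback.lift_fst]; exact hbig) (pullback.lift_snd _ _ _) (IsPullback.of_hasPullback g σ)
  haveI : IsProper (pullback.snd g σ) := MorphismProperty.of_isPullback (IsPullback.of_hasPullback g σ) hgP
  haveI : Smooth (pullback.snd g σ) := MorphismProperty.of_isPullback (IsPullback.of_hasPullback g σ) hgS
  exact fibre_descends (pullback.snd g σ) (pullback.snd fst τ') τ e sq hi hd hω

end Groth.Agent.S13630
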