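import Mathlib
import Mathlib
import Groth.Statements.S13631

set_option autoImplicit false
universe u v w
open CAlg

namespace Groth.Agent.S13631

/-- Let k be a field, R an integral domain which is a k-algebra of infinite dimension over k, M a finite
free R-module, σ a ring automorphism of R mapping the image of k onto itself, and φ : M → M a
σ-semilinear map. If the cokernel of φ is finite-dimensional over k, in the sense that some finitely
generated k-subspace N of M satisfies M = N + φ(M), then φ is injective. -/
theorem result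
    {k : Type u} {R : Type v} {M : Type w} [Field k] [CommRing R] [IsDomain R] [Algebra k R]
    (hR : ¬ Module.Finite k R)
    [AddCommGroup M] [Module R M] [Module k M] [IsScalarTower k R M]
    [Module.Finite R M] [Module.Free R M]
    (σ : R ≃+* R)
    (hσ : ∀ x : k, ∃ y : k, σ (algebraMap k R x) = algebraMap k R y)
    (hσ' : ∀ y : k, ∃ x : k, σ (algebraMap k R x) = algebraMap k R y)
    (φ : M →ₛₗ[(σ : R →+* R)] M)
    (hcoker : ∃ N : Submodule k M, N.FG ∧ ∀ m : M, ∃ n ∈ N, ∃ m' : M, m = n + φ m') :
    Function.Injective φ := by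
  classical
  by_contra hinj
  obtain ⟨N, hN, hNM⟩ := hcoker
  let b := (Module.Free.chooseBasis R M).reindex (Fintype.equivFin _)
  let n := Fintype.card (Module.Free.ChooseBasisIndex R M)
  let ψ : (Fin n → R) →ₗ[R] M := Fintype.linearCombination R fun i => φ (b i)
  have hψ : ∀ m, φ m = ψ (fun i => σ (b.repr m i)) := fun m => by
    conv_lhs => rw [← b.sum_repr m, map_sum]
    simp [ψ, Fintype.linearCombination_apply]
    rfl
  have hker : LinearMap.ker ψ ≠ ⊥ := by
    intro h
    refine hinj ((injective_iff_map_eq_zero φ).mpr fun m hm => ?_)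
    rw [hψ] at hm
    have h0 : (fun i => σ (b.repr m i)) = 0 := (LinearMap.ker_eq_bot.mp h) (hm.trans (map_zero ψ).symm)
    exact b.repr.injective (Finsupp.ext fun i => by
      rw [map_zero, Finsupp.zero_apply]
      exact (map_eq_zero_iff σ σ.injective).mp (congrFun h0 i))
  let P : Matrix (Fin n) (Fin n) R := fun i j => b.repr (φ (b j)) i
  have hP : P.det = 0 := by
    obtain ⟨c, hc, hc0⟩ := (Submodule.ne_bot_iff _).mp hker
    refine Matrix.exists_mulVec_eq_zero_iff.mp ⟨c, hc0, funext fun i => ?_⟩
    have h := congrArg (fun m => b.repr m i) (show ∑ j, c j • φ (b j) = 0 by simpa [ψ, Fintype.linearCombination_apply] using hc)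
    simp only [map_sum, map_smul, map_zero, Finsupp.coe_finsetSum, Finset.sum_apply, Finsupp.smul_apply, smul_eq_mul,
      Finsupp.zero_apply] at h
    rw [Pi.zero_apply, ← h]
    simp [Matrix.mulVec, dotProduct, P, mul_comm]
  obtain ⟨w, hw0, hw⟩ := Matrix.exists_vecMul_eq_zero_iff.mpr hP
  let lam : M →ₗ[R] R := b.constr R w
  have hlam : LinearMap.range ψ ≤ LinearMap.ker lam := by
    rintro _ ⟨c, rfl⟩
    have hj : ∀ j, lam (φ (b j)) = 0 := fun j => by
      have := congrFun hw j
      rw [Pi.zero_apply] at this
      rw [← this]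
      simp [lam, Module.Basis.constr_apply_fintype, Matrix.vecMul, dotProduct, P, mul_comm]
      rfl
    simp [ψ, Fintype.linearCombination_apply, map_sum, hj]
  obtain ⟨j, hj⟩ : ∃ j, w j ≠ 0 := by
    by_contra hc; push Not at hc; exact hw0 (funext hc)
  obtain ⟨x, hx⟩ : ∃ x : M ⧸ LinearMap.range ψ, ∀ a : R, a • x = 0 → a = 0 := by
    refine ⟨Submodule.Quotient.mk (b j), fun a ha => ?_⟩
    rw [← Submodule.Quotient.mk_smul, Submodule.Quotient.mk_eq_zero] at ha
    have h := hlam ha
    rw [LinearMap.mem_ker, map_smul, smul_eq_mul] at h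
    exact (mul_eq_zero.mp h).resolve_right (by simpa [lam] using hj)
  refine hR ?_
  haveI : Module.Finite k N := Module.Finite.iff_fg.mpr hN
  let q : N →ₗ[k] M ⧸ LinearMap.range ψ := ((LinearMap.range ψ).mkQ.restrictScalars k).comp N.subtype
  have hq : Function.Surjective q := fun y => by
    obtain ⟨m, rfl⟩ := Submodule.Quotient.mk_surjective _ y
    obtain ⟨z, hz, m', rfl⟩ := hNM m
    refine ⟨⟨z, hz⟩, ?_⟩
    show Submodule.Quotient.mk z = _
    have h0 : Submodule.Quotient.mk (p := LinearMap.range ψ) (φ m') = 0 := (Submodule.Quotient.mk_eq_zero _).mpr ⟨_, (hψ m').symm⟩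
    rw [Submodule.Quotient.mk_add, h0, add_zero]
  haveI : Module.Finite k (M ⧸ LinearMap.range ψ) := Module.Finite.of_surjective q hq
  haveI : IsNoetherian k (M ⧸ LinearMap.range ψ) := inferInstance
  exact Module.Finite.of_injective ((LinearMap.toSpanSingleton R _ x).restrictScalars k) fun a c hac =>
    sub_eq_zero.mp (hx _ (by rw [sub_smul]; exact sub_eq_zero.mpr hac))

end Groth.Agent.S13631
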