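import Mathlib
import Groth.Statements.S13632
-- import your own Groth.Agent.* helpers here

set_option autoImplicit false
universe u
open TensorProduct
open CAlg

namespace Groth.Agent.S13632

open TensorProduct IsLocalRing in
theorem exists_smul_mem_smul_top {R : Type u} [CommRing R] (p : Ideal R) [p.IsPrime]
    {K : Type u} [AddCommGroup K] [Module R K] [Subsingleton (p.ResidueField ⊗[R] K)] (k : K) :
    ∃ s ∉ p, s • k ∈ p • (⊤ : Submodule R K) := by
  let L := Localization.AtPrime p
  let mk : K →ₗ[R] L ⊗[R] K := TensorProduct.mk R L K 1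
  have hsub : Subsingleton ((L ⧸ maximalIdeal L) ⊗[L] (L ⊗[R] K)) :=
    (AlgebraTensorModule.cancelBaseChange R L p.ResidueField p.ResidueField K).injective.subsingleton
  haveI : Subsingleton ((L ⊗[R] K) ⧸ maximalIdeal L • (⊤ : Submodule L (L ⊗[R] K))) :=
    (quotTensorEquivQuotSMul (L ⊗[R] K) (maximalIdeal L)).symm.injective.subsingleton
  have hmem : mk k ∈ maximalIdeal L • (⊤ : Submodule L (L ⊗[R] K)) :=
    (Submodule.Quotient.mk_eq_zero _).mp (Subsingleton.elim _ _)
  haveI : IsLocalizedModule p.primeCompl mk :=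
    (isLocalizedModule_iff_isBaseChange p.primeCompl L mk).mpr (TensorProduct.isBaseChange R K L)
  rw [← Localization.AtPrime.map_eq_maximalIdeal] at hmem
  have key : ∀ x ∈ Ideal.map (algebraMap R L) p • (⊤ : Submodule L (L ⊗[R] K)),
      ∃ t : p.primeCompl, ∃ k' ∈ p • (⊤ : Submodule R K), (t : R) • x = mk k' := by
    intro x hx
    refine Submodule.smul_induction_on hx ?_ ?_
    · intro a ha z hz
      clear hz
      induction ha using Submodule.span_induction generalizing z with
      | mem a ha =>
        obtain ⟨r, hr, rfl⟩ := ha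
        obtain ⟨⟨k'', t⟩, ht⟩ := IsLocalizedModule.surj p.primeCompl mk z
        refine ⟨t, r • k'', Submodule.smul_mem_smul hr Submodule.mem_top, ?_⟩
        rw [algebraMap_smul, smul_comm, map_smul]
        exact congrArg _ ht
      | zero => exact ⟨1, 0, zero_mem _, by simp⟩
      | add a b _ _ ha hb =>
        obtain ⟨t, k₁, hk₁, h₁⟩ := ha z
        obtain ⟨t', k₂, hk₂, h₂⟩ := hb z
        refine ⟨t * t', (t' : R) • k₁ + (t : R) • k₂,
          add_mem (Submodule.smul_mem _ _ hk₁) (Submodule.smul_mem _ _ hk₂), ?_⟩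
        rw [map_add, map_smul, map_smul, ← h₁, ← h₂, smul_smul, smul_smul, Submonoid.coe_mul,
          add_smul, smul_add, mul_comm (t' : R)]
      | smul c a _ ha =>
        obtain ⟨t, k', hk', h'⟩ := ha (c • z)
        exact ⟨t, k', hk', by rw [← h', smul_eq_mul, mul_comm, mul_smul]⟩
    · intro x y hx hy
      obtain ⟨t, k₁, hk₁, h₁⟩ := hx
      obtain ⟨t', k₂, hk₂, h₂⟩ := hy
      refine ⟨t * t', (t' : R) • k₁ + (t : R) • k₂,
        add_mem (Submodule.smul_mem _ _ hk₁) (Submodule.smul_mem _ _ hk₂), ?_⟩
      rw [map_add, map_smul, map_smul, ← h₁, ← h₂, smul_smul, smul_smul, Submonoid.coe_mul,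
        smul_add, mul_comm (t' : R)]
  obtain ⟨t, k', hk', htk⟩ := key _ hmem
  rw [← map_smul] at htk
  obtain ⟨q, hq⟩ := IsLocalizedModule.exists_of_eq (S := p.primeCompl) htk
  refine ⟨(q : R) * t, p.primeCompl.mul_mem q.2 t.2, ?_⟩
  rw [mul_smul]
  exact (show (q : R) • (t : R) • k = (q : R) • k' from hq) ▸ Submodule.smul_mem _ _ hk'

/-- Let S = Spec R, X = Spec A finite and flat over S, Y = Spec B of finite type over S, and φ : X → Y
an S-morphism given by f : B → A. If for every point s of S the fibres X_s and Y_s have the same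
order (the κ(s)-dimension of their rings of global sections κ(s) ⊗ A and κ(s) ⊗ B; equivalently at
every geometric point) and φ is an isomorphism over every closed point of S (κ(m) ⊗ f bijective for
every maximal ideal m), then φ is an isomorphism, i.e. f is bijective. (The published statement
allows an arbitrary base scheme S and Y separated of finite type over S; this row is the case of an
affine base with X and Y affine, the case its proof treats directly. Over a base with no closed
points the general statement fails: the hypothesis at closed points is then empty.) -/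
theorem result
    {R A B : Type u} [CommRing R] [CommRing A] [CommRing B] [Algebra R A] [Algebra R B]
    [Module.Finite R A] [Module.Flat R A] [Algebra.FiniteType R B]
    (f : B →ₐ[R] A)
    (hrank : ∀ p : PrimeSpectrum R,
      Module.rank p.asIdeal.ResidueField (p.asIdeal.ResidueField ⊗[R] B) =
        Module.rank p.asIdeal.ResidueField (p.asIdeal.ResidueField ⊗[R] A))
    (hmax : ∀ (m : Ideal R) [m.IsMaximal],
      Function.Bijective (LinearMap.lTensor m.ResidueField f.toLinearMap)) :
    Function.Bijective f := by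
  classical
  have hsurj : Function.Surjective f := by
    have hQ : Subsingleton (A ⧸ LinearMap.range f.toLinearMap) := by
      by_contra hQ
      rw [not_subsingleton_iff_nontrivial] at hQ
      obtain ⟨p, hp⟩ := (Module.nonempty_support_iff (R := R)).mpr hQ
      obtain ⟨m, hm, hpm⟩ := p.asIdeal.exists_le_maximal p.2.ne_top
      haveI := hm
      have hmem := Module.mem_support_iff_nontrivial_residueField_tensorProduct
        (R := R) (M := A ⧸ LinearMap.range f.toLinearMap) (p := ⟨m, hm.isPrime⟩)
      have := hmem.mp ((Module.mem_support_mono (p := p) hpm) hp)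
      refine not_subsingleton_iff_nontrivial.mpr this ?_
      refine subsingleton_of_forall_eq 0 fun x => ?_
      obtain ⟨y, rfl⟩ := LinearMap.lTensor_surjective m.ResidueField
        (LinearMap.range f.toLinearMap).mkQ_surjective x
      obtain ⟨z, rfl⟩ := (hmax m).2 y
      rw [← LinearMap.comp_apply, ← LinearMap.lTensor_comp,
        show (LinearMap.range f.toLinearMap).mkQ ∘ₗ f.toLinearMap = 0 from
          LinearMap.range_le_ker_iff.mp (Submodule.ker_mkQ _).ge, LinearMap.lTensor_zero]
      rfl
    intro a
    obtain ⟨b, hb⟩ := (Submodule.Quotient.mk_eq_zero _).mp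
      (Subsingleton.elim (Submodule.Quotient.mk a : A ⧸ LinearMap.range f.toLinearMap) 0)
    exact ⟨b, hb⟩
  set K := LinearMap.ker f.toLinearMap with hKdef
  have hKκ : ∀ p : Ideal R, p.IsPrime → ∀ k : K, ∃ s ∉ p, s • k ∈ p • (⊤ : Submodule R K) := by
    intro p hp k
    have hex : Function.Exact K.subtype f.toLinearMap := LinearMap.exact_subtype_ker_map _
    have hi := LinearMap.lTensor_injective_of_exact_of_flat f.toLinearMap hsurj K.subtype
      K.injective_subtype hex p.ResidueField
    have hexκ := lTensor_exact p.ResidueField hex hsurj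
    have hfsurj : Function.Surjective (f.toLinearMap.baseChange p.ResidueField) := by
      rw [LinearMap.baseChange_eq_ltensor]; exact LinearMap.lTensor_surjective _ hsurj
    haveI : Module.Finite p.ResidueField (p.ResidueField ⊗[R] B) :=
      Module.rank_lt_aleph0_iff.mp (by rw [hrank ⟨p, hp⟩]; exact Module.rank_lt_aleph0 _ _)
    have hfinj : Function.Injective (f.toLinearMap.baseChange p.ResidueField) :=
      (LinearMap.injective_iff_surjective_of_finrank_eq_finrank
        (congrArg Cardinal.toNat (hrank ⟨p, hp⟩))).mpr hfsurj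
    haveI : Subsingleton (p.ResidueField ⊗[R] K) := by
      refine subsingleton_of_forall_eq 0 fun x => hi ?_
      rw [map_zero]
      apply hfinj
      rw [map_zero, LinearMap.baseChange_eq_ltensor]
      exact hexκ.apply_apply_eq_zero x
    exact exists_smul_mem_smul_top p k
  refine ⟨(injective_iff_map_eq_zero f).mpr fun k hk => ?_, hsurj⟩
  let I : Ideal B := RingHom.ker f.toRingHom
  have hann : (⊤ : Ideal B) ≤ (Submodule.span B {k}).annihilator := by
    by_contra hne
    obtain ⟨q, hq, hqle⟩ := Ideal.exists_le_maximal _ (fun h => hne h.ge)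
    obtain ⟨m, hm, hpm⟩ := (q.comap (algebraMap R B)).exists_le_maximal
      (Ideal.IsPrime.ne_top inferInstance)
    haveI := hm
    let L := Localization.AtPrime m
    let mA := LocalizedModule.mkLinearMap m.primeCompl A
    haveI : Module.Flat L (LocalizedModule m.primeCompl A) :=
      Module.Flat.localizedModule m.primeCompl
    haveI : Module.Free L (LocalizedModule m.primeCompl A) := Module.free_of_flat_of_isLocalRing
    let bas := Module.Free.chooseBasis L (LocalizedModule m.primeCompl A)
    let ι := Module.Free.ChooseBasisIndex L (LocalizedModule m.primeCompl A)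
    choose w hw using fun i : ι => IsLocalizedModule.surj m.primeCompl mA (bas i)
    let a : ι → A := fun i => (w i).1
    let bas' := bas.unitsSMul fun i => (IsLocalization.map_units L (w i).2).unit
    have hbas' : ∀ i, bas' i = mA (a i) := fun i => by
      rw [Module.Basis.unitsSMul_apply, Units.smul_def, IsUnit.unit_spec, algebraMap_smul]
      exact hw i
    have hindep : ∀ r : ι → R, ∑ i, r i • a i = 0 → ∃ t : m.primeCompl, ∀ i, (t : R) * r i = 0 := by
      intro r hr
      have h0 : ∑ i, algebraMap R L (r i) • bas' i = 0 := by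
        simp_rw [algebraMap_smul, hbas', ← map_smul, ← map_sum, hr, map_zero]
      have h1 := Fintype.linearIndependent_iff.mp bas'.linearIndependent _ h0
      choose t ht using fun i =>
        (IsLocalization.map_eq_zero_iff m.primeCompl L (r i)).mp (h1 i)
      refine ⟨∏ i, t i, fun i => ?_⟩
      rw [← Finset.prod_erase_mul _ _ (Finset.mem_univ i), Submonoid.coe_mul, mul_assoc, ht,
        mul_zero]
    have hspan : ∀ x : A, ∃ s : m.primeCompl, ∃ r : ι → R, (s : R) • x = ∑ i, r i • a i := by
      intro x
      choose c hc using fun i => IsLocalization.surj m.primeCompl (bas'.repr (mA x) i)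
      let T : m.primeCompl := ∏ i, (c i).2
      let r : ι → R := fun i => (∏ j ∈ Finset.univ.erase i, ((c j).2 : R)) * (c i).1
      have hTr : ∀ i, algebraMap R L (T : R) * bas'.repr (mA x) i = algebraMap R L (r i) := by
        intro i
        simp only [T, r, Submonoid.coe_finset_prod, map_mul]
        rw [← Finset.prod_erase_mul _ _ (Finset.mem_univ i), map_mul, mul_assoc,
          mul_comm (algebraMap R L ((c i).2 : R)), hc i]
      have heq : mA ((T : R) • x) = mA (∑ i, r i • a i) := by
        rw [map_smul, ← bas'.sum_repr (mA x), Finset.smul_sum, map_sum]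
        refine Finset.sum_congr rfl fun i _ => ?_
        rw [map_smul, ← hbas', ← algebraMap_smul L (T : R), smul_smul, hTr, algebraMap_smul]
      obtain ⟨s', hs'⟩ := IsLocalizedModule.exists_of_eq (S := m.primeCompl) heq
      refine ⟨s' * T, fun i => (s' : R) * r i, ?_⟩
      rw [Submonoid.coe_mul, mul_smul]
      simpa [Finset.smul_sum, mul_smul, Submonoid.smul_def] using hs'
    choose b hb using fun i => hsurj (a i)
    obtain ⟨G, hG⟩ := Algebra.FiniteType.out (R := R) (A := B)
    choose s₁ r₁ hr₁ using fun gi : ↥(G : Set B) × ι => hspan (f gi.1 * a gi.2)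
    obtain ⟨s₀, r₀, hr₀⟩ := hspan 1
    haveI : Finite (↥(G : Set B) × ι) := inferInstance
    letI : Fintype (↥(G : Set B) × ι) := Fintype.ofFinite _
    let g₁ : ↥(G : Set B) × ι → B := fun gi => (s₁ gi : R) • ((gi.1 : B) * b gi.2) - ∑ i, r₁ gi i • b i
    let g₀ : B := (s₀ : R) • 1 - ∑ i, r₀ i • b i
    let K₀ : Ideal B := Ideal.span (insert g₀ (Set.range g₁))
    have hK₀ : K₀ ≤ I := by
      rw [Ideal.span_le]
      intro y hy
      rcases Set.mem_insert_iff.mp hy with rfl | ⟨gi, rfl⟩
      · simp [I, g₀, hb, hr₀]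
      · simp [I, g₁, hb, hr₁]
    let T : Submodule R B := K₀.restrictScalars R ⊔ Submodule.span R (Set.range b)
    let U : Submodule R B :=
      { carrier := {y | ∃ s : m.primeCompl, (s : R) • y ∈ T}
        zero_mem' := ⟨1, by simp⟩
        add_mem' := fun {y z} ⟨s, hs⟩ ⟨s', hs'⟩ => ⟨s * s', by
          rw [Submonoid.coe_mul, smul_add]
          refine add_mem ?_ ?_
          · rw [mul_comm, mul_smul]; exact T.smul_mem _ hs
          · rw [mul_smul]; exact T.smul_mem _ hs'⟩
        smul_mem' := fun c y ⟨s, hs⟩ => ⟨s, by rw [smul_comm]; exact T.smul_mem _ hs⟩ }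
    have hbU : ∀ i, b i ∈ U := fun i =>
      ⟨1, by rw [Submonoid.coe_one, one_smul]; exact Submodule.mem_sup_right (Submodule.subset_span ⟨i, rfl⟩)⟩
    have hTU : T ≤ U := fun y hy => ⟨1, by rwa [Submonoid.coe_one, one_smul]⟩
    have hmulT : ∀ x ∈ (G : Set B), ∀ y ∈ T, x * y ∈ U := by
      intro x hx y hy
      obtain ⟨u, hu, v, hv, rfl⟩ := Submodule.mem_sup.mp hy
      rw [mul_add]
      refine U.add_mem (hTU (Submodule.mem_sup_left (K₀.mul_mem_left x hu))) ?_
      clear hy
      induction hv using Submodule.span_induction with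
      | mem z hz =>
        obtain ⟨i, rfl⟩ := hz
        refine ⟨s₁ (⟨x, hx⟩, i), ?_⟩
        rw [← sub_add_cancel ((s₁ (⟨x, hx⟩, i) : R) • (x * b i)) (∑ l, r₁ (⟨x, hx⟩, i) l • b l)]
        exact Submodule.add_mem_sup (Ideal.subset_span (Set.mem_insert_of_mem _ ⟨_, rfl⟩))
          (Submodule.sum_mem _ fun l _ => Submodule.smul_mem _ _ (Submodule.subset_span ⟨l, rfl⟩))
      | zero => simp
      | add z z' _ _ hz hz' => rw [mul_add]; exact U.add_mem hz hz'
      | smul c z _ hz => rw [mul_smul_comm]; exact U.smul_mem c hz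
    have hU : ∀ y, y ∈ U := by
      intro y
      have hy : y ∈ Algebra.adjoin R (G : Set B) := by rw [hG]; trivial
      have h1U : (1 : B) ∈ U := by
        refine ⟨s₀, ?_⟩
        rw [← sub_add_cancel ((s₀ : R) • (1 : B)) (∑ l, r₀ l • b l)]
        exact Submodule.add_mem_sup (Ideal.subset_span (Set.mem_insert _ _))
          (Submodule.sum_mem _ fun l _ => Submodule.smul_mem _ _ (Submodule.subset_span ⟨l, rfl⟩))
      suffices ∀ z ∈ U, y * z ∈ U by simpa using this 1 h1U
      induction hy using Algebra.adjoin_induction with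
      | mem x hx =>
        rintro z ⟨s, hs⟩
        obtain ⟨s', hs'⟩ := hmulT x hx _ hs
        refine ⟨s' * s, ?_⟩
        rwa [Submonoid.coe_mul, mul_smul, ← mul_smul_comm]
      | algebraMap r => intro z hz; rw [← Algebra.smul_def]; exact U.smul_mem r hz
      | add x x' _ _ hx hx' => intro z hz; rw [add_mul]; exact U.add_mem (hx z hz) (hx' z hz)
      | mul x x' _ _ hx hx' => intro z hz; rw [mul_assoc]; exact hx _ (hx' z hz)
    have hq' : ∀ s : R, s ∈ m.primeCompl → algebraMap R B s ∉ q := fun s hs h => hs (hpm h)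
    have hIK : ∀ y ∈ I, ∃ s ∈ m.primeCompl, algebraMap R B s * y ∈ K₀ := by
      intro y hy
      obtain ⟨s, hs⟩ := hU y
      obtain ⟨u, hu, v, hv, huv⟩ := Submodule.mem_sup.mp hs
      obtain ⟨r, rfl⟩ := (Submodule.mem_span_range_iff_exists_fun R).mp hv
      have h0 : ∑ i, r i • a i = 0 := by
        have h := congrArg f huv
        have hy0 : f y = 0 := hy
        have hu0 : f u = 0 := hK₀ hu
        rw [map_add, map_smul, hy0, smul_zero, hu0, zero_add, map_sum] at h
        simpa [hb] using h
      obtain ⟨t, ht⟩ := hindep r h0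
      refine ⟨(t : R) * s, m.primeCompl.mul_mem t.2 s.2, ?_⟩
      rw [← Algebra.smul_def, mul_smul, ← huv, smul_add, Finset.smul_sum]
      simp only [smul_smul, ht, zero_smul, Finset.sum_const_zero, add_zero]
      exact Submodule.smul_of_tower_mem _ _ hu
    let p := q.comap (algebraMap R B)
    have hpI : ∀ z ∈ p • (⊤ : Submodule R K), ∃ v : B, v ∉ q ∧ v * (z : B) ∈ q • K₀ := by
      intro z hz
      refine Submodule.smul_induction_on hz ?_ ?_
      · intro r hr z _
        obtain ⟨s, hs, hs'⟩ := hIK z z.2
        refine ⟨algebraMap R B s, hq' s hs, ?_⟩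
        rw [Submodule.coe_smul, Algebra.smul_def r, mul_left_comm]
        exact Ideal.mul_mem_mul hr hs'
      · rintro x x' ⟨v, hv, hv'⟩ ⟨v', hv2, hv2'⟩
        refine ⟨v * v', fun h => ((hq.isPrime.mem_or_mem h)).elim hv hv2, ?_⟩
        rw [Submodule.coe_add, mul_add, mul_comm v, mul_assoc, mul_comm v' v, mul_assoc]
        exact add_mem (Ideal.mul_mem_left _ _ hv') (Ideal.mul_mem_left _ _ hv2')
    have hgen : ∀ y ∈ I, ∃ v : B, v ∉ q ∧ v * y ∈ q • K₀ := by
      intro y hy
      obtain ⟨s, hs, hs'⟩ := hKκ p inferInstance ⟨y, hy⟩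
      obtain ⟨v, hv, hv'⟩ := hpI _ hs'
      refine ⟨v * algebraMap R B s, fun h => (hq.isPrime.mem_or_mem h).elim hv hs, ?_⟩
      simpa [Algebra.smul_def, mul_assoc] using hv'
    let S : Finset B := (Finset.univ.image g₁) ∪ {g₀}
    have hS : K₀ = Ideal.span (S : Set B) := by simp [K₀, S]
    have hSI : ∀ y ∈ S, y ∈ I := fun y hy => hK₀ (hS ▸ Ideal.subset_span hy)
    choose! v hv hv' using fun y (hy : y ∈ S) => hgen y (hSI y hy)
    set P := ∏ y ∈ S, v y with hP
    have hPq : P ∉ q := fun h => by
      obtain ⟨y, hy, hy'⟩ := hq.isPrime.prod_mem_iff.mp h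
      exact hv y hy hy'
    let N : Submodule B B := Ideal.span {P} • K₀
    have hNfg : N.FG := Submodule.FG.smul ⟨{P}, by simp⟩ ⟨S, hS.symm⟩
    have hPK : ∀ y ∈ K₀, P * y ∈ q • K₀ := by
      intro y hy
      rw [hS] at hy
      induction hy using Submodule.span_induction with
      | mem z hz =>
        rw [hP, ← Finset.prod_erase_mul S _ hz, mul_assoc]
        exact Ideal.mul_mem_left _ _ (hv' z hz)
      | zero => simp
      | add z z' _ _ hz hz' => rw [mul_add]; exact add_mem hz hz'
      | smul c z _ hz => rw [smul_eq_mul c z, mul_left_comm]; exact Ideal.mul_mem_left _ _ hz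
    obtain ⟨Pinv, i₀, hi₀, hinv⟩ := hq.exists_inv hPq
    have hle : K₀ ≤ q • K₀ := by
      intro y hy
      have : y = Pinv * (P * y) + i₀ * y := by linear_combination (-y) * hinv
      rw [this]
      exact add_mem (Ideal.mul_mem_left _ _ (hPK y hy)) (Submodule.smul_mem_smul hi₀ hy)
    obtain ⟨e, he, he0⟩ := Submodule.exists_sub_one_mem_and_smul_eq_zero_of_fg_of_le_smul q K₀
      ⟨S, hS.symm⟩ hle
    obtain ⟨s, hs, hs'⟩ := hIK k hk
    have hkq : e * algebraMap R B s ∈ (Submodule.span B {k}).annihilator := by
      rw [Submodule.mem_annihilator_span_singleton, smul_eq_mul, mul_assoc]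
      exact he0 _ hs'
    rcases hq.isPrime.mem_or_mem (hqle hkq) with h | h
    · exact hq.ne_top ((Ideal.eq_top_iff_one _).mpr (by simpa using q.sub_mem h he))
    · exact hq' s hs h
  have := Submodule.mem_annihilator_span_singleton _ _ |>.mp (hann (Submodule.mem_top (x := (1 : B))))
  simpa using this

end Groth.Agent.S13632
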