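import Groth.Statements.S13634
import Groth.Agent.MultSchLib.Descent
import Mathlib
-- import your own Groth.Agent.* helpers here

set_option autoImplicit false
universe u
open CategoryTheory CategoryTheory.Limits MonoidalCategory CartesianMonoidalCategory MonObj AlgebraicGeometry
open MultSch

namespace Groth.Agent.S13634

/-- Let π : M → M'' be a homomorphism of commutative group schemes over a scheme S which is an
epimorphism of fppf sheaves, H a commutative group scheme over S and φ : (M'')^r → H a multilinear
morphism. If the composite of φ with π^r : M^r → (M'')^r is alternating, then φ is alternating. (The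
published statement is for module schemes over a ring R and an R-multilinear φ; the ring action
plays no role, so this row states it for commutative group schemes, which contains that case.) -/
theorem result
    {S : Scheme.{u}} {M M'' H : Over S}
    [GrpObj M] [IsCommMonObj M] [GrpObj M''] [IsCommMonObj M''] [GrpObj H] [IsCommMonObj H]
    (π : M ⟶ M'') [IsMonHom π] (hπ : Epi (CGrpSh.ptsMap Scheme.fppfPrecoverage π))
    {r : ℕ} (φ : MultSch.pow M'' r ⟶ H) (hφ : MultSch.IsMultilinear φ)
    (halt : ∀ (T : Over S) (x : Fin r → (T ⟶ M)) (i j : Fin r), i ≠ j → x i = x j →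
      MultSch.tuple (fun l => x l ≫ π) ≫ φ = 1) :
    MultSch.IsAlternating φ := by
  intro T x i j hij hx
  refine Groth.Agent.MultSchLib.hom_ext_cover
    (Groth.Agent.MultSchLib.liftSieve_pow_mem π
      (fun y => Groth.Agent.MultSchLib.liftSieve_mem π hπ y) (MultSch.tuple x)) _ _ fun V k hk => ?_
  obtain ⟨z, hz⟩ := hk
  have hzl : ∀ l, (z ≫ Groth.Agent.MultSchLib.proj l) ≫ π = k ≫ x l := fun l => by
    have h := congrArg (fun t => t ≫ Groth.Agent.MultSchLib.proj l) hz
    rw [← Groth.Agent.MultSchLib.tuple_eta z, Groth.Agent.MultSchLib.tuple_powMap,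
      Groth.Agent.MultSchLib.comp_tuple] at h
    simpa only [Groth.Agent.MultSchLib.tuple_proj] using h
  let w := Function.update (fun l => z ≫ Groth.Agent.MultSchLib.proj l) j
    (z ≫ Groth.Agent.MultSchLib.proj i)
  have hw : (fun l => w l ≫ π) = fun l => k ≫ x l := by
    simp only [w, Groth.Agent.MultSchLib.tuple_update_comp, hzl]
    rw [hx]
    exact Function.update_eq_self j _
  rw [← Category.assoc, Groth.Agent.MultSchLib.comp_tuple, ← hw, MonObj.comp_one]
  exact halt V w i j hij (by simp [w, Function.update_of_ne hij])

end Groth.Agent.S13634
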