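import Groth.Statements.S13635
import Groth.Agent.MultSchLib.Descent
import Mathlib
-- import your own Groth.Agent.* helpers here

set_option autoImplicit false
universe u w
open CategoryTheory CategoryTheory.Limits MonoidalCategory CartesianMonoidalCategory MonObj AlgebraicGeometry
open MultSch

namespace Groth.Agent.S13635

/-- Let M₁ → M₂ → M₃ → 0 be a sequence of R-module schemes over a scheme S, with R-linear homomorphisms
j : M₁ → M₂ and π : M₂ → M₃, exact as a sequence of fppf sheaves. For n ≥ 1 and an R-module scheme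
N, the sequence 0 → Alt(M₃^n, N) → Alt(M₂^n, N) → Alt(M₁ × M₂^(n-1), N) of R-multilinear alternating
morphisms is exact: an R-multilinear alternating φ : M₂^n → N which is trivial on all points with
first coordinate in the image of j is of the form φ' ∘ π^n for a unique morphism φ' : M₃^n → N
(unique among all morphisms), and this φ' is R-multilinear and alternating. -/
theorem result
    {S : Scheme.{u}} {R : Type w} [CommRing R] {M₁ M₂ M₃ N : Over S}
    [GrpObj M₁] [IsCommMonObj M₁] [GrpObj M₂] [IsCommMonObj M₂] [GrpObj M₃] [IsCommMonObj M₃]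
    [GrpObj N] [IsCommMonObj N]
    (ρ₁ : MultSch.RMod R M₁) (ρ₂ : MultSch.RMod R M₂) (ρ₃ : MultSch.RMod R M₃) (ρN : MultSch.RMod R N)
    (j : M₁ ⟶ M₂) (π : M₂ ⟶ M₃) [IsMonHom j] [IsMonHom π]
    (hj : ∀ a : R, j ≫ ρ₂.act a = ρ₁.act a ≫ j) (hπ : ∀ a : R, π ≫ ρ₃.act a = ρ₂.act a ≫ π)
    (w : j ≫ π = 1) (hex : (CGrpSh.seq Scheme.fppfPrecoverage j π w).Exact)
    (hepi : Epi (CGrpSh.ptsMap Scheme.fppfPrecoverage π))
    {n : ℕ} (hn : 1 ≤ n) (φ : MultSch.pow M₂ n ⟶ N)
    (hmult : MultSch.IsMultilinear φ) (hlin : MultSch.IsRLinear ρ₂ ρN φ) (halt : MultSch.IsAlternating φ)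
    (hvan : ∀ (T : Over S) (y : T ⟶ M₁) (x : Fin n → (T ⟶ M₂)), x ⟨0, hn⟩ = y ≫ j →
      MultSch.tuple x ≫ φ = 1) :
    ∃ φ' : MultSch.pow M₃ n ⟶ N,
      (∀ (T : Over S) (x : Fin n → (T ⟶ M₂)), MultSch.tuple x ≫ φ = MultSch.tuple (fun l => x l ≫ π) ≫ φ') ∧
      MultSch.IsMultilinear φ' ∧ MultSch.IsRLinear ρ₃ ρN φ' ∧ MultSch.IsAlternating φ' ∧
      ∀ φ'' : MultSch.pow M₃ n ⟶ N,
        (∀ (T : Over S) (x : Fin n → (T ⟶ M₂)), MultSch.tuple x ≫ φ = MultSch.tuple (fun l => x l ≫ π) ≫ φ'') →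
          φ'' = φ' := by
  classical
  have hlift : ∀ {T : Over S} {m : ℕ} (t : T ⟶ MultSch.pow M₃ m),
      Groth.Agent.MultSchLib.liftSieve (Groth.Agent.MultSchLib.powMap π m) t ∈
        QuotSh.J Scheme.fppfPrecoverage S T := fun t =>
    Groth.Agent.MultSchLib.liftSieve_pow_mem π
      (fun y => Groth.Agent.MultSchLib.liftSieve_mem π hepi y) t
  have hker : ∀ (T : Over S) (v : Fin n → (T ⟶ M₂)) (i : Fin n) (d : T ⟶ M₂), d ≫ π = 1 →
      MultSch.tuple (Function.update v i d) ≫ φ = 1 := by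
    intro T v i d hd
    refine Groth.Agent.MultSchLib.hom_ext_cover
      (Groth.Agent.MultSchLib.liftSieve_mem_of_exact j π w hex d hd) _ _ fun V k hk => ?_
    obtain ⟨y, hy⟩ := hk
    rw [← Category.assoc, Groth.Agent.MultSchLib.comp_tuple,
      Groth.Agent.MultSchLib.comp_update, MonObj.comp_one]
    rcases eq_or_ne i ⟨0, hn⟩ with rfl | hi
    · exact hvan V y _ (by simp [hy])
    · refine Groth.Agent.MultSchLib.swap_inv hmult halt V _ hi (hvan V y _ ?_)
      simp [hy]
  have hconst : ∀ (V : Over S) (z z' : V ⟶ MultSch.pow M₂ n),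
      z ≫ Groth.Agent.MultSchLib.powMap π n = z' ≫ Groth.Agent.MultSchLib.powMap π n →
      z ≫ φ = z' ≫ φ := by
    intro V z z' h
    have hl : ∀ l, (z ≫ Groth.Agent.MultSchLib.proj l) ≫ π =
        (z' ≫ Groth.Agent.MultSchLib.proj l) ≫ π := fun l => by
      have h' := congrArg (fun t => t ≫ Groth.Agent.MultSchLib.proj l) h
      rw [← Groth.Agent.MultSchLib.tuple_eta z, ← Groth.Agent.MultSchLib.tuple_eta z',
        Groth.Agent.MultSchLib.tuple_powMap, Groth.Agent.MultSchLib.tuple_powMap] at h'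
      simpa only [Groth.Agent.MultSchLib.tuple_proj] using h'
    let c := fun (s : Finset (Fin n)) (l : Fin n) =>
      if l ∈ s then z' ≫ Groth.Agent.MultSchLib.proj l else z ≫ Groth.Agent.MultSchLib.proj l
    have hstep : ∀ s, MultSch.tuple (c s) ≫ φ = MultSch.tuple (c ∅) ≫ φ := by
      intro s
      induction s using Finset.induction_on with
      | empty => rfl
      | @insert a s ha ih =>
        have hins : c (insert a s) =
            Function.update (c s) a (z' ≫ Groth.Agent.MultSchLib.proj a) := by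
          ext l
          rcases eq_or_ne l a with rfl | hla
          · simp [c]
          · simp [c, Function.update_of_ne hla, hla]
        let d := (c s a)⁻¹ * (z' ≫ Groth.Agent.MultSchLib.proj a)
        have hd : d ≫ π = 1 := by
          simp only [d, c, if_neg ha, MonObj.mul_comp, GrpObj.inv_comp, hl a, inv_mul_cancel]
        rw [hins, show z' ≫ Groth.Agent.MultSchLib.proj a = c s a * d by simp [d],
          hmult V (c s) a (c s a) d, hker V (c s) a d hd, Function.update_eq_self, ih,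
          _root_.mul_one]
    have h1 := hstep Finset.univ
    simp only [c, Finset.mem_univ, if_true, Finset.notMem_empty, if_false,
      Groth.Agent.MultSchLib.tuple_eta] at h1
    exact h1.symm
  obtain ⟨φ', hφ', huniq⟩ := Groth.Agent.MultSchLib.descend
    (Groth.Agent.MultSchLib.powMap π n) (hlift _) φ hconst
  have hspec : ∀ (T : Over S) (x : Fin n → (T ⟶ M₂)),
      MultSch.tuple x ≫ φ = MultSch.tuple (fun l => x l ≫ π) ≫ φ' := fun T x => by
    rw [← Groth.Agent.MultSchLib.tuple_powMap, Category.assoc, hφ']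
  have hcov : ∀ {T : Over S} (x : Fin n → (T ⟶ M₃)) (y₀ y₁ : T ⟶ M₃),
      ∃ R ∈ QuotSh.J Scheme.fppfPrecoverage S T, ∀ ⦃V : Over S⦄ (k : V ⟶ T), R k →
        ∃ (v : Fin n → (V ⟶ M₂)) (b₀ b₁ : V ⟶ M₂), (fun l => v l ≫ π) = (fun l => k ≫ x l) ∧
          b₀ ≫ π = k ≫ y₀ ∧ b₁ ≫ π = k ≫ y₁ := by
    intro T x y₀ y₁
    refine ⟨_, GrothendieckTopology.intersection_covering _ (hlift (MultSch.tuple x))
      (GrothendieckTopology.intersection_covering _
        (Groth.Agent.MultSchLib.liftSieve_mem π hepi y₀)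
        (Groth.Agent.MultSchLib.liftSieve_mem π hepi y₁)), fun V k hk => ?_⟩
    obtain ⟨⟨z, hz⟩, ⟨b₀, h₀⟩, ⟨b₁, h₁⟩⟩ := hk
    refine ⟨fun l => z ≫ Groth.Agent.MultSchLib.proj l, b₀, b₁, ?_, h₀, h₁⟩
    rw [← Groth.Agent.MultSchLib.tuple_eta z, Groth.Agent.MultSchLib.tuple_powMap,
      Groth.Agent.MultSchLib.comp_tuple] at hz
    ext1 l
    have h' := congrArg (fun t => t ≫ Groth.Agent.MultSchLib.proj l) hz
    simpa only [Groth.Agent.MultSchLib.tuple_proj] using h'
  refine ⟨φ', hspec, ?_, ?_, ?_, fun φ'' h'' => huniq φ'' ?_⟩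
  · intro T x i y z
    obtain ⟨R, hR, hRk⟩ := hcov x y z
    refine Groth.Agent.MultSchLib.hom_ext_cover hR _ _ fun V k hk => ?_
    obtain ⟨v, b₀, b₁, hv, h₀, h₁⟩ := hRk k hk
    simp only [MonObj.comp_mul, ← Category.assoc, Groth.Agent.MultSchLib.comp_tuple,
      Groth.Agent.MultSchLib.comp_update, ← hv, ← h₀, ← h₁, ← MonObj.mul_comp,
      ← Groth.Agent.MultSchLib.tuple_update_comp, ← hspec]
    exact hmult V v i b₀ b₁
  · intro T x i a
    obtain ⟨R, hR, hRk⟩ := hcov x (x i) (x i)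
    refine Groth.Agent.MultSchLib.hom_ext_cover hR _ _ fun V k hk => ?_
    obtain ⟨v, b₀, b₁, hv, h₀, h₁⟩ := hRk k hk
    have hvi : (v i ≫ ρ₂.act a) ≫ π = k ≫ x i ≫ ρ₃.act a := by
      rw [Category.assoc, ← hπ, ← Category.assoc, congrFun hv i, Category.assoc]
    simp only [← Category.assoc, Groth.Agent.MultSchLib.comp_tuple,
      Groth.Agent.MultSchLib.comp_update, Category.assoc (f := k) (g := x i), ← hvi, ← hv,
      ← Groth.Agent.MultSchLib.tuple_update_comp, ← hspec]
    exact hlin V v i a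
  · intro T x i l hil hx
    obtain ⟨R, hR, hRk⟩ := hcov x (x i) (x i)
    refine Groth.Agent.MultSchLib.hom_ext_cover hR _ _ fun V k hk => ?_
    obtain ⟨v, b₀, b₁, hv, h₀, h₁⟩ := hRk k hk
    have hw : (fun m => Function.update v l (v i) m ≫ π) = fun m => k ≫ x m := by
      rw [Groth.Agent.MultSchLib.tuple_update_comp, hv, congrFun hv i, hx]
      exact Function.update_eq_self l _
    rw [← Category.assoc, Groth.Agent.MultSchLib.comp_tuple, ← hw, ← hspec, MonObj.comp_one]
    exact halt V _ i l hil (by simp [Function.update_of_ne hil])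
  · have h' := h'' _ (fun l => 𝟙 _ ≫ Groth.Agent.MultSchLib.proj l)
    rw [Groth.Agent.MultSchLib.tuple_eta, Category.id_comp] at h'
    rw [h', Groth.Agent.MultSchLib.powMap]
    simp only [Category.id_comp]

end Groth.Agent.S13635
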