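import Groth.Statements.S13636
import Groth.Agent.MultSchLib.Descent
import Mathlib
-- import your own Groth.Agent.* helpers here

set_option autoImplicit false
universe u w
open CategoryTheory CategoryTheory.Limits MonoidalCategory CartesianMonoidalCategory MonObj AlgebraicGeometry
open MultSch

namespace Groth.Agent.S13636

/-- Let M' → M → M'' → 0 be a sequence of R-module schemes over a scheme S, with R-linear homomorphisms
j and π, exact as fppf sheaves, and let ψ : P × M × Q → N be a morphism to an R-module scheme N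
which is additive and R-linear in the coordinate M (on T-valued points) and trivial on all points
whose M-coordinate lies in the image of j. Then ψ = ψ' ∘ (id × π × id) for a unique morphism ψ' : P
× M'' × Q → N, and ψ' is additive and R-linear in the coordinate M''. (The published statement has a
product M₁ × ⋯ × M_r of R-module schemes with the exact sequence in the i-th factor and ψ
R-multilinear; here the factors before and after the i-th are collected into single S-schemes P and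
Q, and only linearity in the i-th coordinate, the one the statement is about, is carried; linearity
in the other coordinates passes between ψ and ψ' formally.) -/
theorem result
    {S : Scheme.{u}} {R : Type w} [CommRing R] {P Q M' M M'' N : Over S}
    [GrpObj M'] [IsCommMonObj M'] [GrpObj M] [IsCommMonObj M] [GrpObj M''] [IsCommMonObj M'']
    [GrpObj N] [IsCommMonObj N]
    (ρ' : MultSch.RMod R M') (ρ : MultSch.RMod R M) (ρ'' : MultSch.RMod R M'') (ρN : MultSch.RMod R N)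
    (j : M' ⟶ M) (π : M ⟶ M'') [IsMonHom j] [IsMonHom π]
    (hj : ∀ a : R, j ≫ ρ.act a = ρ'.act a ≫ j) (hπ : ∀ a : R, π ≫ ρ''.act a = ρ.act a ≫ π)
    (w : j ≫ π = 1) (hex : (CGrpSh.seq Scheme.fppfPrecoverage j π w).Exact)
    (hepi : Epi (CGrpSh.ptsMap Scheme.fppfPrecoverage π))
    (ψ : P ⊗ (M ⊗ Q) ⟶ N)
    (hadd : ∀ (T : Over S) (p : T ⟶ P) (q : T ⟶ Q) (y z : T ⟶ M),
      lift p (lift (y * z) q) ≫ ψ = (lift p (lift y q) ≫ ψ) * (lift p (lift z q) ≫ ψ))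
    (hlin : ∀ (T : Over S) (p : T ⟶ P) (q : T ⟶ Q) (y : T ⟶ M) (a : R),
      lift p (lift (y ≫ ρ.act a) q) ≫ ψ = (lift p (lift y q) ≫ ψ) ≫ ρN.act a)
    (hvan : ∀ (T : Over S) (p : T ⟶ P) (q : T ⟶ Q) (y' : T ⟶ M'), lift p (lift (y' ≫ j) q) ≫ ψ = 1) :
    ∃ ψ' : P ⊗ (M'' ⊗ Q) ⟶ N,
      (P ◁ (π ▷ Q)) ≫ ψ' = ψ ∧
      (∀ (T : Over S) (p : T ⟶ P) (q : T ⟶ Q) (y z : T ⟶ M''),
        lift p (lift (y * z) q) ≫ ψ' = (lift p (lift y q) ≫ ψ') * (lift p (lift z q) ≫ ψ')) ∧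
      (∀ (T : Over S) (p : T ⟶ P) (q : T ⟶ Q) (y : T ⟶ M'') (a : R),
        lift p (lift (y ≫ ρ''.act a) q) ≫ ψ' = (lift p (lift y q) ≫ ψ') ≫ ρN.act a) ∧
      ∀ ψ'' : P ⊗ (M'' ⊗ Q) ⟶ N, (P ◁ (π ▷ Q)) ≫ ψ'' = ψ → ψ'' = ψ' := by
  have hp : ∀ (T : Over S) (z : T ⟶ P ⊗ (M ⊗ Q)), z ≫ (P ◁ (π ▷ Q)) =
      lift (z ≫ fst _ _) (lift ((z ≫ snd _ _ ≫ fst _ _) ≫ π) (z ≫ snd _ _ ≫ snd _ _)) := by
    intro T z
    ext <;> simp
  have heta : ∀ {A : Over S} (T : Over S) (z : T ⟶ P ⊗ (A ⊗ Q)),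
      z = lift (z ≫ fst _ _) (lift (z ≫ snd _ _ ≫ fst _ _) (z ≫ snd _ _ ≫ snd _ _)) := by
    intro A T z
    ext <;> simp
  have hlift : ∀ (T : Over S) (t : T ⟶ P ⊗ (M'' ⊗ Q)),
      Groth.Agent.MultSchLib.liftSieve (P ◁ (π ▷ Q)) t ∈ QuotSh.J Scheme.fppfPrecoverage S T := by
    intro T t
    refine GrothendieckTopology.superset_covering _ (fun V k hk => ?_)
      (Groth.Agent.MultSchLib.liftSieve_mem π hepi (t ≫ snd _ _ ≫ fst _ _))
    obtain ⟨z, hz⟩ := hk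
    refine ⟨lift (k ≫ t ≫ fst _ _) (lift z (k ≫ t ≫ snd _ _ ≫ snd _ _)), ?_⟩
    rw [hp]
    ext <;> simp [hz]
  have hsp : ∀ (V : Over S) (p : V ⟶ P) (q : V ⟶ Q) (b : V ⟶ M),
      lift p (lift b q) ≫ (P ◁ (π ▷ Q)) = lift p (lift (b ≫ π) q) := by
    intro V p q b
    ext <;> simp
  have hconst : ∀ (V : Over S) (z z' : V ⟶ P ⊗ (M ⊗ Q)),
      z ≫ (P ◁ (π ▷ Q)) = z' ≫ (P ◁ (π ▷ Q)) → z ≫ ψ = z' ≫ ψ := by
    intro V z z' h
    rw [hp, hp] at h
    have e1 : z ≫ fst _ _ = z' ≫ fst _ _ := by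
      simpa using congrArg (fun t => t ≫ fst _ _) h
    have e2 : (z ≫ snd _ _ ≫ fst _ _) ≫ π = (z' ≫ snd _ _ ≫ fst _ _) ≫ π := by
      simpa using congrArg (fun t => t ≫ snd _ _ ≫ fst _ _) h
    have e3 : z ≫ snd _ _ ≫ snd _ _ = z' ≫ snd _ _ ≫ snd _ _ := by
      simpa using congrArg (fun t => t ≫ snd _ _ ≫ snd _ _) h
    rw [heta V z, heta V z', ← e1, ← e3]
    set p := z ≫ fst P (M ⊗ Q)
    set q := z ≫ snd P (M ⊗ Q) ≫ snd M Q
    set a := z ≫ snd P (M ⊗ Q) ≫ fst M Q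
    set b := z' ≫ snd P (M ⊗ Q) ≫ fst M Q
    have hd : (a⁻¹ * b) ≫ π = 1 := by
      rw [MonObj.mul_comp, GrpObj.inv_comp, e2, inv_mul_cancel]
    rw [show b = a * (a⁻¹ * b) by simp, hadd]
    suffices h1 : lift p (lift (a⁻¹ * b) q) ≫ ψ = 1 by rw [h1, _root_.mul_one]
    refine Groth.Agent.MultSchLib.hom_ext_cover
      (Groth.Agent.MultSchLib.liftSieve_mem_of_exact j π w hex _ hd) _ _ fun W k hk => ?_
    obtain ⟨y, hy⟩ := hk
    rw [← Category.assoc, comp_lift, comp_lift, MonObj.comp_one, ← hy]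
    exact hvan W _ _ y
  obtain ⟨ψ', hψ', huniq⟩ := Groth.Agent.MultSchLib.descend (P ◁ (π ▷ Q)) (hlift _ _) ψ hconst
  have hspec : ∀ (V : Over S) (p : V ⟶ P) (q : V ⟶ Q) (b : V ⟶ M),
      lift p (lift (b ≫ π) q) ≫ ψ' = lift p (lift b q) ≫ ψ := fun V p q b => by
    rw [← hsp, Category.assoc, hψ']
  refine ⟨ψ', hψ', fun T p q y z => ?_, fun T p q y a => ?_, huniq⟩
  · refine Groth.Agent.MultSchLib.hom_ext_cover (GrothendieckTopology.intersection_covering _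
      (Groth.Agent.MultSchLib.liftSieve_mem π hepi y)
      (Groth.Agent.MultSchLib.liftSieve_mem π hepi z)) _ _ fun V k hk => ?_
    obtain ⟨⟨b₀, h₀⟩, b₁, h₁⟩ := hk
    simp only [MonObj.comp_mul, ← Category.assoc, comp_lift, ← h₀, ← h₁, ← MonObj.mul_comp, hspec]
    exact hadd V _ _ b₀ b₁
  · refine Groth.Agent.MultSchLib.hom_ext_cover
      (Groth.Agent.MultSchLib.liftSieve_mem π hepi y) _ _ fun V k hk => ?_
    obtain ⟨b, hb⟩ := hk
    have e : k ≫ y ≫ ρ''.act a = (b ≫ ρ.act a) ≫ π := by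
      rw [Category.assoc, ← hπ, ← Category.assoc, ← hb, Category.assoc]
    simp only [← Category.assoc, comp_lift, Category.assoc (f := k) (g := y), e, ← hb, hspec]
    exact hlin V _ _ b a

end Groth.Agent.S13636
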