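import Groth.Statements.S13642
import Mathlib

set_option autoImplicit false
open CategoryTheory
universe u
open FSch

namespace Groth.Agent.S13642

open AlgebraicGeometry in
theorem isFinite_resLE {X Y : Scheme.{u}} (f : X ⟶ Y) [IsFinite f] (V : Y.Opens) (V' : X.Opens)
    (h : V' = f ⁻¹ᵁ V) (e : V' ≤ f ⁻¹ᵁ V) : IsFinite (f.resLE V V' e) := by
  subst h
  rw [AlgebraicGeometry.Scheme.Hom.resLE_eq_morphismRestrict]
  exact MorphismProperty.of_isPullback (P := @IsFinite) (isPullback_morphismRestrict f V).flip inferInstance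

/-- Let f : 𝔛 ⟶ 𝔜 be a finite morphism of locally Noetherian formal schemes (adic, with finite morphism
of smallest levels). Then for every open U of 𝔜 the restriction f⁻¹(U) ⟶ U of f to the induced
formal schemes on U and on its inverse image is a finite morphism. -/
theorem result (𝔛 𝔜 : FSch.Sys.{u}) (h𝔛 : 𝔛.IsLocNoethFormal) (h𝔜 : 𝔜.IsLocNoethFormal)
    (f : 𝔛 ⟶ 𝔜) (hf : FSch.IsFiniteHom f) (U : (𝔜.X 0).Opens) :
    FSch.IsFiniteHom (FSch.Hom.restrictOpen f h𝔛.1 h𝔜.1 U) := by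
  refine ⟨fun n => ?_, ?_⟩
  · have := AlgebraicGeometry.Scheme.Hom.isPullback_resLE (hf.1 n)
      (US := 𝔜.lvU h𝔜.1 (n + 1) U) (UT := 𝔜.lvU h𝔜.1 n U)
      (UX := 𝔛.lvU h𝔛.1 (n + 1) ((TopologicalSpace.Opens.map ((f : Hom 𝔛 𝔜).app 0).base).obj U)) (UY := 𝔛.lvU h𝔛.1 n ((TopologicalSpace.Opens.map ((f : Hom 𝔛 𝔜).app 0).base).obj U))
      (𝔜.lvU_le h𝔜.1 n U) (Hom.lvU_preimage f h𝔛.1 h𝔜.1 (n + 1) U).ge
      (by rw [Sys.lvU_succ, Hom.lvU_preimage f h𝔛.1 h𝔜.1, inf_idem])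
    exact this
  · haveI := hf.2
    exact isFinite_resLE _ _ _ (Hom.lvU_preimage f h𝔛.1 h𝔜.1 0 U).symm _

end Groth.Agent.S13642
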