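import Groth.Statements.S13643
import Groth.Agent.FRelLib.RpushD
import Groth.Agent.FComplLib.GlobalPres
set_option backward.isDefEq.respectTransparency false
set_option backward.isDefEq.respectTransparency.types false
-- import your own Groth.Agent.* helpers here

set_option autoImplicit false
open CategoryTheory
universe u
open FSch

namespace Groth.Agent.S13643

/-- Let f : 𝔛 ⟶ 𝔜 be a finite morphism of locally Noetherian formal schemes (adic, with finite morphism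
of smallest levels). Then f_* O_𝔛 is a coherent O_𝔜-module. (The published statement says that f_*
O_𝔛 is a coherent O_𝔜-algebra; this row asserts coherence of the underlying O_𝔜-module only.) -/
theorem result (𝔛 𝔜 : FSch.Sys.{u}) (h𝔛 : 𝔛.IsLocNoethFormal) (h𝔜 : 𝔜.IsLocNoethFormal)
    (f : 𝔛 ⟶ 𝔜) (hf : FSch.IsFiniteHom f) :
    FSch.IsCohF 𝔜 h𝔜.1 ((FSch.pushF f h𝔛.1 h𝔜.1).obj (FSch.unitF 𝔛 h𝔛.1)) := by
  haveI : IsGrothendieckAbelian.{u} (FSch.ModF 𝔛 h𝔛.1) := Groth.Agent.ModTensor.isGrothendieckAbelian_mod (𝔛.Osh h𝔛.1)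
  haveI : HasInjectiveResolutions (FSch.ModF 𝔛 h𝔛.1) := inferInstance
  haveI := hf.2
  have hp : FSch.IsProperHom f := ⟨hf.1, inferInstance⟩
  have hu : FSch.IsCohF 𝔛 h𝔛.1 (FSch.unitF 𝔛 h𝔛.1) := Groth.Agent.FCompl.isCohF_unit h𝔛
  have H : FSch.IsCohF 𝔜 h𝔜.1 ((FSch.RpushF f h𝔛.1 h𝔜.1 0).obj (FSch.unitF 𝔛 h𝔛.1)) :=
    Groth.Agent.FCompl.isCohF_of_affine _ fun V hV =>
      Groth.Agent.FRel.hasRels_rpushF (h' := h𝔜.1) f hp h𝔛 h𝔜 hu 0 hV
  exact (SheafOfModules.isFinitePresentation (ModSite.ringSh (𝔜.Osh h𝔜.1))).prop_of_iso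
    ((Groth.Agent.FCompl.rpushFZeroIso (h := h𝔛.1) (h' := h𝔜.1) f).app (FSch.unitF 𝔛 h𝔛.1)) H

end Groth.Agent.S13643
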