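import Groth.Statements.S1366
import Groth.Agent.CProperLift.Basic
import Groth.Agent.S7409
import Groth.Agent.BCLib.DVR
-- import your own Groth.Agent.* helpers here

set_option autoImplicit false
universe u
open FlatMor

namespace Groth.Agent.S1366

open AlgebraicGeometry CategoryTheory Limits in
/-- Let (A, I) be a henselian pair and X a separated scheme of finite type over Spec A, with X_0 its
base change to Spec (A/I). If Y is an open and closed subset of X_0 which (as an open subscheme) is
proper over Spec (A/I), then there is an open and closed subset W of X, proper over Spec A as an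
open subscheme, whose preimage in X_0 is exactly Y. -/
theorem result {A : Type u} [CommRing A] (I : Ideal A) [HenselianRing A I]
    {X : Scheme.{u}} (f : X ⟶ Spec (CommRingCat.of A)) [IsSeparated f] [LocallyOfFiniteType f] [QuasiCompact f]
    (Y : (pullback f (Spec.map (CommRingCat.ofHom (Ideal.Quotient.mk I)))).Opens) (hYc : IsClosed (Y : Set ↑(pullback f (Spec.map (CommRingCat.ofHom (Ideal.Quotient.mk I))))))
    (hYp : IsProper (Y.ι ≫ pullback.snd f (Spec.map (CommRingCat.ofHom (Ideal.Quotient.mk I))))) :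
    ∃ W : X.Opens, IsClosed (W : Set ↑X) ∧ IsProper (W.ι ≫ f) ∧
      pullback.fst f (Spec.map (CommRingCat.ofHom (Ideal.Quotient.mk I))) ⁻¹ᵁ W = Y := by
  let q := Spec.map (CommRingCat.ofHom (Ideal.Quotient.mk I))
  haveI : IsClosedImmersion q := IsClosedImmersion.spec_of_surjective _ Ideal.Quotient.mk_surjective
  haveI : IsClosedImmersion (pullback.fst f q) := MorphismProperty.pullback_fst _ _ inferInstance
  obtain ⟨n, X', π, j, hj, hjf, hπ, hπs⟩ := Groth.Agent.S7409.result f
  haveI := BCLib.isProper_toBase n (Spec (CommRingCat.of A))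
  haveI : QuasiCompact j := by
    haveI : QuasiCompact (j ≫ CohB1.ProjSpaceOver.toBase n (Spec (CommRingCat.of A))) := by rw [hjf]; infer_instance
    exact QuasiCompact.of_comp j (CohB1.ProjSpaceOver.toBase n (Spec (CommRingCat.of A)))
  let g := Y.ι ≫ pullback.fst f q
  haveI : IsProper (g ≫ f) := by
    show IsProper ((Y.ι ≫ pullback.fst f q) ≫ f)
    rw [Category.assoc, pullback.condition, ← Category.assoc]
    haveI := hYp
    infer_instance
  have hrg : Set.range g = pullback.fst f q '' (Y : Set ↥(pullback f q)) := by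
    show Set.range (Y.ι ≫ pullback.fst f q) = _
    rw [Scheme.Hom.comp_base, TopCat.coe_comp, Set.range_comp]
    erw [Scheme.Opens.range_ι]
  have hemb := (pullback.fst f q).isClosedEmbedding
  have hz : CProperLift.zset I f = Set.range (pullback.fst f q) := CProperLift.zset_eq I f
  let O : X.Opens := ⟨(pullback.fst f q '' (Y : Set ↥(pullback f q))ᶜ)ᶜ,
    (hemb.isClosedMap _ Y.2.isClosed_compl).isOpen_compl⟩
  obtain ⟨W, hWc, hWp, hW⟩ := CProperLift.exists_proper_lift I f π j _ hjf g O (by
    rw [hrg, hz]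
    ext x
    constructor
    · rintro ⟨⟨y, rfl⟩, hy⟩
      exact ⟨y, by_contra fun hn => hy ⟨y, hn, rfl⟩, rfl⟩
    · rintro ⟨y, hy, rfl⟩
      exact ⟨⟨y, rfl⟩, fun ⟨y', hy', e⟩ => hy' (hemb.injective e ▸ hy)⟩)
  refine ⟨W, hWc, hWp, ?_⟩
  ext y
  constructor
  · intro hy
    obtain ⟨y', hy', e⟩ := (hrg ▸ hW).le ⟨hz.ge ⟨y, rfl⟩, hy⟩
    exact hemb.injective e ▸ hy'
  · intro hy
    exact ((hrg ▸ hW).ge ⟨y, hy, rfl⟩).2

end Groth.Agent.S1366
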