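import Groth.Statements.S13660
import Groth.Agent.FBlowLib.ChartMap
import Groth.Agent.BlowExistsLib.Glue
set_option maxHeartbeats 1000000
set_option backward.isDefEq.respectTransparency false
set_option backward.isDefEq.respectTransparency.types false
-- import your own Groth.Agent.* helpers here

set_option autoImplicit false
open CategoryTheory AlgebraicGeometry
universe u
open FBlow

namespace Groth.Agent.S13660

/-- Let R be a base ring of class (N) or (V) for the ideal I, A an admissible R-algebra and f_0, …, f_r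
elements generating an open ideal 𝔞 of A (one containing I^k A for some k); present Spf A as the
formal system (Spec A/(IA)^(n+1))_n and let X' → Spf A be an admissible formal blowing-up of the
ideal 𝔞·O_{Spf A} (universal-property sense). For each i let U_i be the locus of points of X' having
a neighbourhood on every open subset of which the ideals generated by 𝔞 and by f_i in O_{X'}
coincide, and let A_i be the I-adic completion of A[ζ_j ; j ≠ i]/(f_i ζ_j − f_j ; j ≠ i) divided by
its f_i-power torsion. Then the U_i cover X', and for every i there is a morphism Spf A_i → X' over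
Spf A (its composite with X' → Spf A is the morphism induced by A → A_i) which is an open immersion
at every level and whose underlying image is exactly U_i. -/
theorem result
    (R : Type u) [CommRing R] (I : Ideal R) (hR : AdicRing.IsBase R I)
    (A : Type u) [CommRing A] [Algebra R A] (hA : AdicRing.Admissible R I A)
    (r : ℕ) (f : Fin (r + 1) → A) (k : ℕ) (hopen : (I ^ k).map (algebraMap R A) ≤ Ideal.span (Set.range f))
    (hX : (FSch.spf A (I.map (algebraMap R A))).IsFormal)
    (𝔛' : FSch.Sys.{u}) (h' : 𝔛'.IsFormal) (b : 𝔛' ⟶ (FSch.spf A (I.map (algebraMap R A))))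
    (hb : FBlow.IsAdmBlowUp b h' hX (FBlow.schIdealMap (FSch.spf A (I.map (algebraMap R A))) hX (FSch.spfToSpec A (I.map (algebraMap R A))) (FSch.spfToSpec_comm A (I.map (algebraMap R A))) (FBlow.IdealSh.ofData (FSch.idealSpec A (Ideal.span (Set.range f)))))) :
    (∀ x : 𝔛'.X 0, ∃ i : Fin (r + 1), x ∈ {x : 𝔛'.X 0 | ∃ V : (𝔛'.X 0).Opens, x ∈ V ∧ ∀ V' : (𝔛'.X 0).Opens, V' ≤ V →
          (FBlow.idealMap b h' hX (FBlow.schIdealMap (FSch.spf A (I.map (algebraMap R A))) hX (FSch.spfToSpec A (I.map (algebraMap R A))) (FSch.spfToSpec_comm A (I.map (algebraMap R A))) (FBlow.IdealSh.ofData (FSch.idealSpec A (Ideal.span (Set.range f)))))).sect V' =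
          (FBlow.idealMap b h' hX (FBlow.schIdealMap (FSch.spf A (I.map (algebraMap R A))) hX (FSch.spfToSpec A (I.map (algebraMap R A))) (FSch.spfToSpec_comm A (I.map (algebraMap R A))) (FBlow.IdealSh.ofData (FSch.idealSpec A (Ideal.span {f i}))))).sect V'}) ∧
    ∀ (i : Fin (r + 1)) (hi : (FSch.spf (AdicRing.chartAdm I f i) (I.map (algebraMap R (AdicRing.chartAdm I f i)))).IsFormal)
      (hle : (I.map (algebraMap R A)) ≤ (I.map (algebraMap R (AdicRing.chartAdm I f i))).comap (algebraMap A (AdicRing.chartAdm I f i))),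
      ∃ u : FSch.spf (AdicRing.chartAdm I f i) (I.map (algebraMap R (AdicRing.chartAdm I f i))) ⟶ 𝔛',
        u ≫ b = FSch.spfMap (I.map (algebraMap R (AdicRing.chartAdm I f i))) (I.map (algebraMap R A)) (algebraMap A (AdicRing.chartAdm I f i)) hle ∧
        (∀ n, IsOpenImmersion ((u : FSch.Hom (FSch.spf (AdicRing.chartAdm I f i) (I.map (algebraMap R (AdicRing.chartAdm I f i)))) 𝔛').app n)) ∧
        Set.range ((u : FSch.Hom (FSch.spf (AdicRing.chartAdm I f i) (I.map (algebraMap R (AdicRing.chartAdm I f i)))) 𝔛').app 0).base = {x : 𝔛'.X 0 | ∃ V : (𝔛'.X 0).Opens, x ∈ V ∧ ∀ V' : (𝔛'.X 0).Opens, V' ≤ V →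
          (FBlow.idealMap b h' hX (FBlow.schIdealMap (FSch.spf A (I.map (algebraMap R A))) hX (FSch.spfToSpec A (I.map (algebraMap R A))) (FSch.spfToSpec_comm A (I.map (algebraMap R A))) (FBlow.IdealSh.ofData (FSch.idealSpec A (Ideal.span (Set.range f)))))).sect V' =
          (FBlow.idealMap b h' hX (FBlow.schIdealMap (FSch.spf A (I.map (algebraMap R A))) hX (FSch.spfToSpec A (I.map (algebraMap R A))) (FSch.spfToSpec_comm A (I.map (algebraMap R A))) (FBlow.IdealSh.ofData (FSch.idealSpec A (Ideal.span {f i}))))).sect V'} := by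
  classical
  obtain ⟨⟨n, φ, hφ, -⟩, -⟩ := hA
  have hA : AdicRing.TopFiniteType R I A := ⟨n, φ, hφ⟩
  let K := I.map (algebraMap R A)
  let 𝔞 := Ideal.span (Set.range f)
  have h𝔞 : 𝔞.FG := Submodule.fg_span (Set.finite_range f)
  let y : ∀ n, 𝔛'.X n ⟶ Spec (CommRingCat.of A) := fun n => (b : FSch.Hom _ _).app n ≫ FSch.spfToSpec A K n
  have hy := Groth.Agent.FBlowLib.comp_comm b (FSch.spfToSpec A K) (FSch.spfToSpec_comm A K)
  have hloc : ∀ i : Fin (r + 1), {x : 𝔛'.X 0 | ∃ V : (𝔛'.X 0).Opens, x ∈ V ∧ ∀ V' : (𝔛'.X 0).Opens, V' ≤ V →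
      (FBlow.idealMap b h' hX (FBlow.schIdealMap (FSch.spf A K) hX (FSch.spfToSpec A K) (FSch.spfToSpec_comm A K)
        (FBlow.IdealSh.ofData (FSch.idealSpec A 𝔞)))).sect V' =
      (FBlow.idealMap b h' hX (FBlow.schIdealMap (FSch.spf A K) hX (FSch.spfToSpec A K) (FSch.spfToSpec_comm A K)
        (FBlow.IdealSh.ofData (FSch.idealSpec A (Ideal.span {f i}))))).sect V'} =
      {x | Groth.Agent.FBlowLib.GenAt h' y hy 𝔞 (f i) x} := fun i => by
    rw [Groth.Agent.FBlowLib.idealMap_schIdealMap_eq, Groth.Agent.FBlowLib.idealMap_schIdealMap_eq]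
    exact Groth.Agent.FBlowLib.setOf_sect_eq h' y hy f i
  refine ⟨fun x => ?_, fun i hi hle => ?_⟩
  · have hinv := hb.2.1
    rw [Groth.Agent.FBlowLib.idealMap_schIdealMap_eq] at hinv
    obtain ⟨i, hi⟩ := Groth.Agent.FBlowLib.exists_genAt h' y hy f hinv x
    exact ⟨i, (hloc i).ge hi⟩
  · obtain ⟨P, q, hq⟩ := Groth.Agent.BlowExistsLib.exists_isBlowUp (FSch.idealSpec A 𝔞)
    have hpc : FSch.PowCompat q ((FSch.idealSpec A K).comap q) (FSch.idealSpec A K) :=
      fun m => (Groth.Agent.S3857.comap_pow (FSch.idealSpec A K) q (m + 1)).le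
    have hC := Groth.Agent.FBlowLib.isFormal_completion (Spec (CommRingCat.of A)) (FSch.idealSpec A K)
    have hP := Groth.Agent.FBlowLib.isFormal_completion P ((FSch.idealSpec A K).comap q)
    obtain ⟨η, hη⟩ := Groth.Agent.FBlowLib.exists_spfIso K
    have hbP := Groth.Agent.FBlowLib.isAdmBlowUp_of_spfIso η hη hC hX hP _
      (Groth.Agent.FBlowLib.isAdmBlowUp_completion q K hpc hR hA h𝔞 hq rfl hC hP)
    obtain ⟨e, he⟩ := Groth.Agent.FBlowLib.exists_iso_of_isAdmBlowUp hb hbP
    obtain ⟨u, hu, huo, hur⟩ := Groth.Agent.FBlowLib.exists_chart_hom hR hA f i hq hpc η hη hle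
    let p := fun m => FSch.completionToX P ((FSch.idealSpec A K).comap q) m
    have hey : ∀ m, (e.hom : FSch.Hom _ _).app m ≫ p m ≫ q = y m := fun m => by
      have h1 := congrArg (fun t => FSch.Hom.app t m) he
      simp only [FSch.comp_app] at h1
      show _ = (b : FSch.Hom _ _).app m ≫ _
      rw [← h1, Category.assoc, Category.assoc, ← Groth.Agent.FBlowLib.completion_y q K hpc m]
      refine congrArg (fun t => (e.hom : FSch.Hom _ _).app m ≫ (FSch.completionMap q _ _ hpc : FSch.Hom _ _).app m ≫ t) ?_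
      rw [← hη m, ← Category.assoc, show (η.inv : FSch.Hom _ _).app m ≫ (η.hom : FSch.Hom _ _).app m = 𝟙 _ from
        congrArg (fun t => FSch.Hom.app t m) η.inv_hom_id]
      exact (Category.id_comp _).symm
    have hid : ∀ m, (e.inv : FSch.Hom _ _).app m ≫ (e.hom : FSch.Hom _ _).app m = 𝟙 _ := fun m =>
      congrArg (fun t => FSch.Hom.app t m) e.inv_hom_id
    haveI : ∀ m, IsIso ((e.inv : FSch.Hom _ _).app m) := fun m => ⟨(e.hom : FSch.Hom _ _).app m,
      congrArg (fun t => FSch.Hom.app t m) e.inv_hom_id, congrArg (fun t => FSch.Hom.app t m) e.hom_inv_id⟩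
    refine ⟨u ≫ e.inv, ?_, fun m => ?_, Eq.trans ?_ (hloc i).symm⟩
    · rw [Category.assoc, show e.inv ≫ b = _ from (Iso.inv_comp_eq e).2 he.symm, hu]
    · haveI := huo m
      show IsOpenImmersion ((u : FSch.Hom _ _).app m ≫ (e.inv : FSch.Hom _ _).app m)
      infer_instance
    · refine Set.ext fun x => ?_
      have h1 := Groth.Agent.FBlowLib.genAt_iso_iff h' y hy hP (fun m => p m ≫ q)
        (Groth.Agent.FBlowLib.comm_toX q K) e hey 𝔞 (f i) x
      have h2 := Groth.Agent.FBlowLib.genAt_iff (q := q) (𝔞 := 𝔞) K hP hR hA rfl hq h𝔞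
        (Ideal.subset_span ⟨i, rfl⟩ : f i ∈ 𝔞) ((e.hom : FSch.Hom _ _).app 0 x)
      refine Iff.trans ?_ (h1.trans h2).symm
      refine Iff.trans ?_ (Set.ext_iff.1 hur ((e.hom : FSch.Hom _ _).app 0 x))
      constructor
      · rintro ⟨z, rfl⟩
        exact ⟨z, (congr($(hid 0) ((u : FSch.Hom _ _).app 0 z))).symm⟩
      · rintro ⟨z, hz⟩
        refine ⟨z, ?_⟩
        show (e.inv : FSch.Hom _ _).app 0 ((u : FSch.Hom _ _).app 0 z) = x
        rw [hz]
        exact congr($(congrArg (fun t => FSch.Hom.app t 0) e.hom_inv_id) x)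

end Groth.Agent.S13660
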