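import Groth.Statements.S13664
import Mathlib
import Groth.Agent.GrPosLib.Basic

set_option autoImplicit false
universe u
open GrRing

namespace Groth.Agent.S13664

/-- Let A be a commutative ring graded by the integers whose ideal I generated by the homogeneous
elements of positive degree has homogeneous generators f_1, …, f_p, of positive degrees d_1, …, d_p,
let d be a positive integer divisible by each d_i, and let x be an element of an A-module M. The
following are equivalent: x is annihilated by some power of I; x is annihilated by (A_d)^n for all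
sufficiently large n; there is an integer s such that A_n x = 0 for all n ≥ s. (The published
statement is for a homogeneous element of a graded module; this row drops both the grading of M and
the homogeneity of x, which play no role.) -/
theorem result {R A : Type u} [CommRing R] [CommRing A] [Algebra R A]
    (𝒜 : ℤ → Submodule R A) [GradedAlgebra 𝒜]
    {p : ℕ} (f : Fin p → A) (deg : Fin p → ℤ) (hdeg : ∀ i, 0 < deg i) (hf : ∀ i, f i ∈ 𝒜 (deg i))
    (hgen : Ideal.span {a : A | ∃ n : ℤ, 0 < n ∧ a ∈ 𝒜 n} = Ideal.span (Set.range f))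
    (d : ℤ) (hd : 0 < d) (hdvd : ∀ i, deg i ∣ d)
    {M : Type u} [AddCommGroup M] [Module A M] (x : M) :
    [x ∈ GrLC.gam (Ideal.span (Set.range f)) M,
     ∃ n₀ : ℕ, ∀ n : ℕ, n₀ ≤ n → ∀ r ∈ (𝒜 d) ^ n, r • x = 0,
     ∃ s : ℤ, ∀ n : ℤ, s ≤ n → ∀ r ∈ 𝒜 n, r • x = 0].TFAE := by
  classical
  tfae_have 1 → 2 := by
    rintro ⟨n₀, hn₀⟩
    refine ⟨n₀, fun n hn r hr => hn₀ r (Ideal.pow_le_pow_right hn ?_)⟩
    have hle : ∀ m : ℕ, (((𝒜 d) ^ m : Submodule R A) : Set A) ⊆ ((Ideal.span (Set.range f)) ^ m : Ideal A) := by
      intro m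
      induction m with
      | zero => intro y _; simp
      | succ m ih =>
        intro y hy
        rw [pow_succ] at hy ⊢
        induction hy using Submodule.mul_induction_on' with
        | mem_mul_mem a ha b hb => exact Ideal.mul_mem_mul (ih ha) (hgen ▸ Ideal.subset_span ⟨d, hd, hb⟩)
        | add a _ b _ h1 h2 => exact add_mem h1 h2
    exact hle n hr
  tfae_have 2 → 3 := by
    rintro ⟨n₀, hn₀⟩
    refine ⟨d * p - ∑ i, deg i + n₀ * d + 1, fun n hn r hr => ?_⟩
    have := GrPosLib.le_pow_mul 𝒜 f deg hdeg hf hgen d hd hdvd n₀ n (by linarith) hr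
    clear hr
    induction this using Submodule.mul_induction_on' with
    | mem_mul_mem a ha b hb => rw [mul_comm, mul_smul, hn₀ n₀ le_rfl a ha, smul_zero]
    | add a _ b _ h1 h2 => rw [add_smul, h1, h2, add_zero]
  tfae_have 3 → 1 := by
    rintro ⟨s, hs⟩
    refine ⟨s.toNat, fun r hr => ?_⟩
    have hle : ∀ m : ℕ, (Ideal.span (Set.range f)) ^ m ≤
        Ideal.span {a : A | ∃ n : ℤ, (m : ℤ) ≤ n ∧ a ∈ 𝒜 n} := by
      intro m
      induction m with
      | zero =>
        intro y _
        rw [← mul_one y]
        exact Ideal.mul_mem_left _ _ (Ideal.subset_span ⟨0, le_rfl, SetLike.one_mem_graded 𝒜⟩)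
      | succ m ih =>
        rw [pow_succ]
        refine (Ideal.mul_mono ih le_rfl).trans ?_
        rw [Ideal.span_mul_span', Ideal.span_le]
        rintro _ ⟨a, ⟨n, hn, ha⟩, _, ⟨i, rfl⟩, rfl⟩
        refine Ideal.subset_span ⟨n + deg i, ?_, SetLike.mul_mem_graded ha (hf i)⟩
        have := hdeg i
        push_cast
        omega
    have h2 := hle _ hr
    clear hr
    induction h2 using Submodule.span_induction with
    | mem y hy =>
      obtain ⟨n, hn, hy⟩ := hy
      exact hs n (by omega) y hy
    | zero => exact zero_smul _ _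
    | add a b _ _ h1 h2 => rw [add_smul, h1, h2, add_zero]
    | smul c a _ h1 => rw [smul_eq_mul, mul_smul, h1, smul_zero]
  tfae_finish

end Groth.Agent.S13664
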