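import Groth.Statements.S13665
import Mathlib

set_option autoImplicit false
universe u
open GrRing

namespace Groth.Agent.S13665
open DirectSum in
theorem key {R A : Type u} [CommRing R] [CommRing A] [Algebra R A] (𝒜 : ℤ → Submodule R A) [GradedAlgebra 𝒜]
    (h : ∀ I : Ideal A, I.IsHomogeneous 𝒜 → I.FG) (σ : ℕ → ℤ) (hσ : ∀ a b, σ (a + b) = σ a + σ b) :
    (Algebra.adjoin (𝒜 0) {a : A | ∃ m : ℕ, a ∈ 𝒜 (σ m)}).FG := by
  classical
  have hσ0 : σ 0 = 0 := by have := hσ 0 0; simp at this; omega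
  have hgen : ∀ (S : Set A), (∀ x ∈ S, SetLike.IsHomogeneousElem 𝒜 x) →
      ∃ F : Finset A, ↑F ⊆ S ∧ Ideal.span S = Ideal.span F := fun S hS =>
    (Submodule.fg_span_iff_fg_span_finset_subset S).1 (h _ (Ideal.homogeneous_span 𝒜 S hS))
  choose G hG hGspan using fun n : ℕ => hgen (𝒜 (σ n) : Set A) (fun x hx => ⟨_, hx⟩)
  obtain ⟨F, hF, hFspan⟩ := hgen {a : A | ∃ m : ℕ, 0 < m ∧ a ∈ 𝒜 (σ m)} (fun x hx => ⟨_, hx.choose_spec.2⟩)
  choose! d hd using fun f (hf : f ∈ F) => hF hf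
  let D := F.sup d
  let T : Finset A := (Finset.range (D + 1)).biUnion G
  refine ⟨T, le_antisymm (Algebra.adjoin_le fun x hx => ?_) (Algebra.adjoin_le ?_)⟩
  · obtain ⟨n, -, hn⟩ := Finset.mem_biUnion.1 hx
    exact Algebra.subset_adjoin ⟨n, hG n hn⟩
  rintro x ⟨n, hx⟩
  have hproj : ∀ (n : ℕ) (S : Finset A) (e : A → ℕ), (∀ f ∈ S, f ∈ 𝒜 (σ (e f))) → ∀ x ∈ 𝒜 (σ n), x ∈ Ideal.span (S : Set A) →
      ∃ c : A → A, (∀ f ∈ S, c f ∈ 𝒜 (σ n - σ (e f))) ∧ x = ∑ f ∈ S, c f * f := by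
    intro n S e he x hx hxS
    obtain ⟨c, -, hc⟩ := Submodule.mem_span_finset.1 hxS
    refine ⟨fun f => decompose 𝒜 (c f) (σ n - σ (e f)), fun f _ => SetLike.coe_mem _, ?_⟩
    have h1 := congrArg (GradedRing.proj 𝒜 (σ n)) hc
    rw [map_sum] at h1
    simp only [GradedRing.proj_apply, smul_eq_mul, decompose_of_mem_same _ hx] at h1
    rw [← h1]
    refine Finset.sum_congr rfl fun f hf => ?_
    have := coe_decompose_mul_add_of_right_mem (i := σ n - σ (e f)) 𝒜 (a := c f) (he f hf)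
    rwa [sub_add_cancel] at this
  induction n using Nat.strong_induction_on generalizing x with
  | _ n ih =>
    by_cases hn : n ≤ D
    · obtain ⟨c, hc, rfl⟩ := hproj n (G n) (fun _ => n) (fun f hf => hG n hf) x hx ((hGspan n).le (Ideal.subset_span hx))
      refine sum_mem fun f hf => mul_mem ?_ (Algebra.subset_adjoin (Finset.mem_biUnion.2 ⟨n, Finset.mem_range.2 (by omega), hf⟩))
      have := hc f hf
      rw [sub_self] at this
      exact Subalgebra.algebraMap_mem _ (⟨c f, this⟩ : 𝒜 0)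
    · obtain ⟨c, hc, rfl⟩ := hproj n F d (fun f hf => (hd f hf).2) x hx (hFspan.le (Ideal.subset_span ⟨n, by omega, hx⟩))
      refine sum_mem fun f hf => ?_
      have hle : d f ≤ D := Finset.le_sup hf
      refine mul_mem (ih (n - d f) (by have := (hd f hf).1; omega) ?_) (ih (d f) (by omega) (hd f hf).2)
      have e := hσ (n - d f) (d f)
      rw [Nat.sub_add_cancel (by omega)] at e
      have := hc f hf
      rw [e, add_sub_cancel_right] at this
      exact this


/-- For a commutative ring A graded by the integers, with degree-zero subring A_0, the following are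
equivalent: A is Noetherian; each homogeneous ideal of A has a finite generating set; A_0 is
Noetherian and the subalgebras A_{≥0}, A_{≤0} are each of finite type over A_0; A_0 is Noetherian
and A is an A_0-algebra of finite type. -/
theorem result {R A : Type u} [CommRing R] [CommRing A] [Algebra R A]
    (𝒜 : ℤ → Submodule R A) [GradedAlgebra 𝒜] :
    [IsNoetherianRing A,
     ∀ I : Ideal A, I.IsHomogeneous 𝒜 → I.FG,
     IsNoetherianRing (𝒜 0) ∧ (Algebra.adjoin (𝒜 0) {a : A | ∃ n : ℤ, 0 ≤ n ∧ a ∈ 𝒜 n}).FG ∧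
       (Algebra.adjoin (𝒜 0) {a : A | ∃ n : ℤ, n ≤ 0 ∧ a ∈ 𝒜 n}).FG,
     IsNoetherianRing (𝒜 0) ∧ Algebra.FiniteType (𝒜 0) A].TFAE := by
  classical
  tfae_have 1 → 2 := fun h I _ => h.noetherian I
  tfae_have 4 → 1 := by
    rintro ⟨h0, hft⟩
    exact Algebra.FiniteType.isNoetherianRing (𝒜 0) A
  tfae_have 2 → 3 := by
    intro h
    refine ⟨isNoetherianRing_iff_ideal_fg _ |>.2 fun J => ?_, ?_, ?_⟩
    · obtain ⟨F, hF, hFspan⟩ := (Submodule.fg_span_iff_fg_span_finset_subset ((fun x : 𝒜 0 => (x : A)) '' (J : Set (𝒜 0)))).1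
        (h _ (Ideal.homogeneous_span 𝒜 _ (by rintro _ ⟨x, -, rfl⟩; exact ⟨0, x.2⟩)))
      refine ⟨F.preimage (fun x : 𝒜 0 => (x : A)) (Subtype.val_injective.injOn), le_antisymm (Ideal.span_le.2 fun x hx => ?_) fun x hx => ?_⟩
      · obtain ⟨y, hy, e⟩ := hF (Finset.mem_preimage.1 hx)
        exact Subtype.ext e ▸ hy
      have hxA : (x : A) ∈ Ideal.span (F : Set A) := hFspan.le (Ideal.subset_span ⟨x, hx, rfl⟩)
      obtain ⟨c, -, hc⟩ := Submodule.mem_span_finset.1 hxA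
      let c0 : A → 𝒜 0 := fun f => DirectSum.decompose 𝒜 (c f) 0
      have e : x = ∑ f ∈ F.attach, c0 f.1 * (⟨f.1, by obtain ⟨y, -, e⟩ := hF f.2; exact e ▸ y.2⟩ : 𝒜 0) := by
        refine Subtype.ext ?_
        have h1 := congrArg (GradedRing.proj 𝒜 0) hc
        rw [map_sum] at h1
        simp only [GradedRing.proj_apply, smul_eq_mul, DirectSum.decompose_of_mem_same _ x.2] at h1
        rw [← h1, AddSubmonoidClass.coe_finsetSum, ← Finset.sum_attach]
        refine Finset.sum_congr rfl fun f _ => ?_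
        obtain ⟨y, -, e⟩ := hF f.2
        rw [SetLike.GradeZero.coe_mul, DirectSum.coe_decompose_mul_of_right_mem_zero 𝒜 (e ▸ y.2)]
      rw [e]
      exact sum_mem fun f _ => Ideal.mul_mem_left _ _ (Ideal.subset_span (Finset.mem_preimage.2 f.2))
    · have := key 𝒜 h (fun m => (m : ℤ)) (fun a b => by push_cast; ring)
      convert this using 3
      ext a
      exact ⟨fun ⟨n, hn, ha⟩ => ⟨n.toNat, by rwa [Int.toNat_of_nonneg hn]⟩, fun ⟨m, ha⟩ => ⟨m, Int.natCast_nonneg m, ha⟩⟩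
    · have := key 𝒜 h (fun m => -(m : ℤ)) (fun a b => by push_cast; ring)
      convert this using 3
      ext a
      exact ⟨fun ⟨n, hn, ha⟩ => ⟨(-n).toNat, by rwa [Int.toNat_of_nonneg (by omega), neg_neg]⟩, fun ⟨m, ha⟩ => ⟨-(m : ℤ), by omega, ha⟩⟩
  tfae_have 3 → 4 := by
    rintro ⟨h0, h1, h2⟩
    refine ⟨h0, ⟨?_⟩⟩
    convert h1.sup h2 using 1
    rw [eq_comm, eq_top_iff]
    intro x _
    rw [← DirectSum.sum_support_decompose 𝒜 x]
    refine sum_mem fun n _ => ?_
    rcases le_total 0 n with hn | hn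
    · exact Algebra.mem_sup_left (Algebra.subset_adjoin ⟨n, hn, SetLike.coe_mem _⟩)
    · exact Algebra.mem_sup_right (Algebra.subset_adjoin ⟨n, hn, SetLike.coe_mem _⟩)
  tfae_finish

end Groth.Agent.S13665
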