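import Groth.Statements.S1368
import Groth.Agent.RelAssLib.Open

set_option autoImplicit false
set_option backward.isDefEq.respectTransparency false
universe u
open FlatMor

namespace Groth.Agent.S1368

open AlgebraicGeometry CategoryTheory Limits in
/-- Let f be of finite type with irreducible target, F a quasi-coherent module of finite type on the
source and U an open of the source. If the associated points of F restricted to the generic fibre
all lie in U, then over some nonempty open of the target the associated points of F restricted to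
every fibre lie in U. -/
theorem result {X Y : Scheme.{u}} (f : X ⟶ Y) [IrreducibleSpace ↑Y] [LocallyOfFiniteType f] [QuasiCompact f]
    (F : X.Modules) (hF : Coh.IsCoh F) (U : X.Opens)
    (h : ∀ x ∈ MoreMor.relAss f F, f x = genericPoint ↑Y → x ∈ U) :
    ∃ V : Y.Opens, (V : Set ↑Y).Nonempty ∧ ∀ x ∈ MoreMor.relAss f F, f x ∈ V → x ∈ U := by
  haveI : Coh.IsQCoh F := hF.1
  let η := genericPoint ↑Y
  let I := Scheme.IdealSheafData.vanishingIdeal (TopologicalSpace.Closeds.closure {η})
  haveI : IsIntegral I.subscheme := RelAssLib.isIntegral_vanishingIdeal_closure η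
  have hr : Set.range I.subschemeι = Set.univ := by
    rw [Scheme.IdealSheafData.range_subschemeι, Scheme.IdealSheafData.coe_support_vanishingIdeal]
    exact genericPoint_closure (α := ↑Y)
  have hgen : I.subschemeι (genericPoint I.subscheme) = η := by
    refine (Specializes.antisymm ?_ (genericPoint_specializes _)).eq
    obtain ⟨t₀, ht₀⟩ : η ∈ Set.range I.subschemeι := by rw [hr]; trivial
    show _ ⤳ η
    rw [← ht₀]
    exact (genericPoint_specializes t₀).map I.subschemeι.continuous
  have hc : IsPullback (pullback.fst f I.subschemeι) (pullback.snd f I.subschemeι) f I.subschemeι :=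
    IsPullback.of_hasPullback _ _
  haveI : LocallyOfFiniteType (pullback.snd f I.subschemeι) := MorphismProperty.pullback_snd _ _ inferInstance
  haveI : QuasiCompact (pullback.snd f I.subschemeι) := MorphismProperty.pullback_snd _ _ inferInstance
  obtain ⟨h1, h2, -⟩ := RelAssLib.relAss_baseChange f F hc
  haveI : Coh.IsQCoh ((Scheme.Modules.pullback (pullback.fst f I.subschemeι)).obj F) := PullbackMod.isQCoh_pullback _ F
  have hcomm : ∀ w, f (pullback.fst f I.subschemeι w) = I.subschemeι (pullback.snd f I.subschemeι w) := fun w => by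
    rw [← Scheme.Hom.comp_apply, hc.w, Scheme.Hom.comp_apply]
  obtain ⟨D', hηD, hD⟩ := RelAssLib.exists_open_integral (pullback.snd f I.subschemeι)
    ((Scheme.Modules.pullback (pullback.fst f I.subschemeι)).obj F) (FittStratum.isFT_pullback F hF.2 _)
    (pullback.fst f I.subschemeι ⁻¹ᵁ U)
    (fun x' hx' hfx' => h _ (h1 x' hx') (by rw [hcomm, hfx', hgen]))
  obtain ⟨D, hDo, hDe⟩ := I.subschemeι.isEmbedding.isInducing.isOpen_iff.mp D'.2
  refine ⟨⟨D, hDo⟩, ⟨η, by rw [← hgen]; exact hDe.ge hηD⟩, fun x hx hxD => ?_⟩
  obtain ⟨s', hs'⟩ : f x ∈ Set.range I.subschemeι := by rw [hr]; trivial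
  obtain ⟨x', hx', rfl, hfx'⟩ := h2 x hx s' hs'.symm
  exact hD x' hx' (by rw [hfx']; exact hDe.le (show I.subschemeι s' ∈ D by rw [hs']; exact hxD))

end Groth.Agent.S1368
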