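import Groth.Statements.S13682
import Mathlib
-- import your own Groth.Agent.* helpers here

set_option autoImplicit false
universe u v w
open scoped BigOperators
open BTGrp

namespace Groth.Agent.S13682

/-- Let A be a commutative ring, α ∈ A a non-zero-divisor, M_1, …, M_r and N modules over A and φ : M_1
× ⋯ × M_r → N an A-multilinear map. Let n be a natural number and let y_{i,j} (j < n) and w_{i,j} (j
≤ n) be elements of M_i with w_{i,j+1} = w_{i,j} + α y_{i,j} for all i and all j < n. Then Σ_i
Σ_{j<n} φ(w_{1,j+1}, …, w_{i-1,j+1}, y_{i,j}, w_{i+1,j}, …, w_{r,j}) = Σ_i Σ_{j<n} φ(w_{1,n}, …,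
w_{i-1,n}, y_{i,j}, w_{i+1,0}, …, w_{r,0}). (The published statement takes n ≥ 1; for n = 0 both
sides are empty sums. The families y, w are indexed by all natural numbers here and only the indices
named above enter.) -/
theorem result {A : Type u} [CommRing A] (α : A) (hα : α ∈ nonZeroDivisors A)
    {r : ℕ} (M : Fin r → Type v) (N : Type w) [∀ i, AddCommGroup (M i)] [∀ i, Module A (M i)]
    [AddCommGroup N] [Module A N] (φ : MultilinearMap A M N) (n : ℕ)
    (y w : ∀ i, ℕ → M i) (hw : ∀ i, ∀ j < n, w i (j + 1) = w i j + α • y i j) :
    (∑ i : Fin r, ∑ j ∈ Finset.range n,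
        φ (fun k => if k < i then w k (j + 1) else if k = i then y k j else w k j)) =
      ∑ i : Fin r, ∑ j ∈ Finset.range n,
        φ (fun k => if k < i then w k n else if k = i then y k j else w k 0) := by
  classical
  let e : Fin (n + 1) → (Fin (n + 1) → A) := fun a => Pi.single a 1
  let yv : ℕ → (Fin (n + 1) → A) := fun j => if h : j + 1 < n + 1 then e ⟨j + 1, h⟩ else 0
  let wv : ℕ → (Fin (n + 1) → A) := fun j => e 0 + α • ∑ l ∈ Finset.range j, yv l
  let m : ∀ i, (Fin (n + 1) → A) →ₗ[A] M i := fun i =>
    Fintype.linearCombination A (fun a => if (a : ℕ) = 0 then w i 0 else y i ((a : ℕ) - 1))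
  have hmy : ∀ i, ∀ j < n, m i (yv j) = y i j := by
    intro i j hj
    simp [m, yv, e, hj, Fintype.linearCombination_apply_single]
  have hmw : ∀ i, ∀ j ≤ n, m i (wv j) = w i j := by
    intro i j
    induction j with
    | zero => intro _; simp [m, wv, e, Fintype.linearCombination_apply_single]
    | succ j ih =>
      intro hj
      have : wv (j + 1) = wv j + α • yv j := by
        simp only [wv, Finset.sum_range_succ, smul_add, add_assoc]
      rw [this, map_add, map_smul, ih (by omega), hmy i j (by omega), hw i j (by omega)]
  let Ψ : MultilinearMap A (fun _ : Fin r => Fin (n + 1) → A) ((Fin r → Fin (n + 1)) → A) :=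
    MultilinearMap.pi fun t => (MultilinearMap.mkPiAlgebra A (Fin r) A).compLinearMap
      fun i => LinearMap.proj (t i)
  let L : ((Fin r → Fin (n + 1)) → A) →ₗ[A] N :=
    Fintype.linearCombination A (fun t => φ (fun i => m i (e (t i))))
  have hL : ∀ v : Fin r → (Fin (n + 1) → A), L (Ψ v) = φ (fun i => m i (v i)) := by
    intro v
    have : (fun i => m i (v i)) = fun i => ∑ a, (v i a) • m i (e a) := by
      funext i
      conv_lhs => rw [pi_eq_sum_univ' (v i)]
      simp [e, map_sum, map_smul]
    rw [this, MultilinearMap.map_sum]
    simp only [MultilinearMap.map_smul_univ, L, Fintype.linearCombination_apply]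
    refine Finset.sum_congr rfl fun t _ => ?_
    simp [Ψ]
  have keyΨ : (∑ i : Fin r, ∑ j ∈ Finset.range n,
        Ψ (fun k => if k < i then wv (j + 1) else if k = i then yv j else wv j)) =
      ∑ i : Fin r, ∑ j ∈ Finset.range n,
        Ψ (fun k => if k < i then wv n else if k = i then yv j else wv 0) := by
    have tel : ∀ P Q : Fin (n + 1) → A, ∀ d : Fin (n + 1) → A, P = Q + α • d →
        α • ∑ i : Fin r, Ψ (fun k => if k < i then P else if k = i then d else Q) =
          Ψ (fun _ => P) - Ψ (fun _ => Q) := by
      intro P Q d hP
      let H : ℕ → (Fin r → Fin (n + 1) → A) := fun i k => if (k : ℕ) < i then P else Q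
      have h1 : ∀ i : Fin r, α • Ψ (fun k => if k < i then P else if k = i then d else Q) =
          Ψ (H (i + 1)) - Ψ (H i) := by
        intro i
        have ea : H (i + 1) = Function.update (H i) i P := by
          funext k
          rcases eq_or_ne k i with rfl | hk
          · simp [H]
          · have : (k : ℕ) ≠ i := fun h => hk (Fin.ext h)
            rw [Function.update_of_ne hk]
            simp only [H]
            split_ifs <;> first | rfl | omega
        have eb : H i = Function.update (H i) i Q := by
          funext k
          rcases eq_or_ne k i with rfl | hk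
          · simp [H]
          · rw [Function.update_of_ne hk]
        have ed : (fun k => if k < i then P else if k = i then d else Q) = Function.update (H i) i d := by
          funext k
          rcases eq_or_ne k i with rfl | hk
          · simp
          · rw [Function.update_of_ne hk, if_neg hk]
            simp [H]
        rw [ea, ed]
        conv_rhs => arg 2; rw [eb]
        rw [hP, Ψ.map_update_add, Ψ.map_update_smul, add_sub_cancel_left]
      rw [Finset.smul_sum, Finset.sum_congr rfl (fun i _ => h1 i),
        Fin.sum_univ_eq_sum_range (fun i => Ψ (H (i + 1)) - Ψ (H i)), Finset.sum_range_sub (fun i => Ψ (H i))]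
      congr 1
      · exact congrArg Ψ (funext fun k => by simp [H])
    have inj : ∀ a b : (Fin r → Fin (n + 1)) → A, α • a = α • b → a = b := fun a b h =>
      funext fun t => (mem_nonZeroDivisors_iff_right.1 hα) _ (by rw [sub_mul, mul_comm, mul_comm (b t)]; exact sub_eq_zero.2 (congrFun h t)) |> sub_eq_zero.1
    apply inj
    rw [Finset.sum_comm, Finset.smul_sum]
    rw [Finset.sum_congr rfl (fun j _ => tel (wv (j + 1)) (wv j) (yv j)
      (by simp only [wv, Finset.sum_range_succ, smul_add, add_assoc]))]
    rw [Finset.sum_range_sub (fun j => Ψ (fun _ => wv j))]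
    have : (∑ i : Fin r, ∑ j ∈ Finset.range n, Ψ (fun k => if k < i then wv n else if k = i then yv j else wv 0)) =
        ∑ i : Fin r, Ψ (fun k => if k < i then wv n else if k = i then (∑ j ∈ Finset.range n, yv j) else wv 0) := by
      refine Finset.sum_congr rfl fun i _ => ?_
      have : ∀ d, (fun k => if k < i then wv n else if k = i then d else wv 0) =
          Function.update (fun k => if k < i then wv n else wv 0) i d := by
        intro d; funext k
        rcases eq_or_ne k i with rfl | hk
        · simp
        · rw [Function.update_of_ne hk, if_neg hk]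
      simp only [this]
      exact (Ψ.map_update_sum _ _ _ _).symm
    rw [this, tel (wv n) (wv 0) _ (by simp [wv])]
  have := congrArg L keyΨ
  simp only [map_sum, hL] at this
  convert this using 4 with i hi j hj i hi j hj <;>
  · funext k
    have hj' : j < n := Finset.mem_range.1 hj
    split_ifs
    · first | exact (hmw k (j + 1) hj').symm | exact (hmw k n le_rfl).symm
    · exact (hmy k j hj').symm
    · first | exact (hmw k j hj'.le).symm | exact (hmw k 0 (Nat.zero_le _)).symm

end Groth.Agent.S13682
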