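import Groth.Statements.S13692
import Groth.Agent.GalDescH7.Basic
import Groth.Agent.NoetherDeuringH7.Basic
-- import your own Groth.Agent.* helpers here

set_option autoImplicit false
set_option backward.isDefEq.respectTransparency false
universe u v w
open scoped TensorProduct
attribute [local instance] CSAGal.tensorAction GpH1.unitsAction
open GalCoh

namespace Groth.Agent.S13692

/-- Let K be a finite Galois extension of a field k with Galois group G = Aut_k(K), and A a
finite-dimensional associative unital k-algebra, not assumed simple or central. Then H¹(G, (K ⊗_k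
A)ˣ) is trivial, G acting on K ⊗_k A through the first factor. (The published statement allows any
Galois extension and reduces to the finite case by a direct limit; the finite case is stated.) -/
theorem result (k : Type u) [Field k] (K : Type v)
    [Field K] [Algebra k K] [FiniteDimensional k K] [IsGalois k K]
    (A : Type w) [Ring A] [Algebra k A] [FiniteDimensional k A] :
    GpH1.H1.IsTrivial (K ≃ₐ[k] K) (K ⊗[k] A)ˣ := by
  classical
  intro x
  obtain ⟨a, rfl⟩ := GpH1.OneCocycle.cl_surjective x
  refine (GpH1.OneCocycle.cl_eq_cl_iff a _).2 ?_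
  let M := K ⊗[k] A
  let mulL : Mˣ → (M ≃ₗ[K] M) := fun u =>
    LinearEquiv.ofLinear (LinearMap.mulLeft K (u : M)) (LinearMap.mulLeft K (↑u⁻¹ : M))
      (LinearMap.ext fun y => by simp [← mul_assoc]) (LinearMap.ext fun y => by simp [← mul_assoc])
  have hmulL : ∀ (u : Mˣ) (y : M), mulL u y = (u : M) * y := fun u y => rfl
  let a' : GpH1.OneCocycle (K ≃ₐ[k] K) (M ≃ₗ[K] M) := ⟨fun σ => mulL (a σ), fun σ τ => LinearEquiv.ext fun y => by
    show mulL (a (σ * τ)) y = mulL (a σ) ((σ • mulL (a τ)) y)
    rw [GalDesc.conj_smul_apply, hmulL, hmulL, hmulL, smul_mul', smul_inv_smul, a.2 σ τ, Units.val_mul, mul_assoc]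
    rfl⟩
  have htw : ∀ σ y, GalDescH7.tw a' σ y = (a σ : M) * σ • y := fun σ y => rfl
  have hσ1 : ∀ (σ : K ≃ₐ[k] K) (b : A), σ • ((1 : K) ⊗ₜ[k] b) = (1 : K) ⊗ₜ[k] b :=
    GalDescH7.smul_one_tmul
  let Wm : Submodule k M :=
    { carrier := {y | ∀ σ : K ≃ₐ[k] K, GalDescH7.tw a' σ y = y}
      zero_mem' := fun σ => by rw [htw, smul_zero, mul_zero]
      add_mem' := fun {y z} hy hz σ => by
        rw [htw, smul_add, mul_add, ← htw, ← htw, hy σ, hz σ]
      smul_mem' := fun r y hy σ => by
        rw [← algebraMap_smul K r y, GalDescH7.tw_smul, AlgEquiv.commutes, hy σ] }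
  have hWmul : ∀ y ∈ Wm, ∀ b : A, y * ((1 : K) ⊗ₜ[k] b) ∈ Wm := fun y hy b σ => by
    rw [htw, smul_mul', hσ1, ← mul_assoc, ← htw, hy σ]
  let θ := GalDescH7.theta (K := K) Wm.subtype
  have hθ : Function.Bijective θ := GalDescH7.theta_bijective (a := a') Wm.subtype_injective
    (fun y => ⟨fun ⟨z, hz⟩ => hz ▸ z.2, fun h => ⟨⟨y, h⟩, rfl⟩⟩)
  suffices h : ∃ w ∈ Wm, IsUnit w by
    obtain ⟨w, hw, u, rfl⟩ := h
    refine ⟨u⁻¹, fun σ => ?_⟩
    have h1 : a σ * σ • u = u := Units.ext (hw σ)
    rw [smul_inv', inv_inv]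
    show a σ = u * 1 * (σ • u)⁻¹
    rw [mul_one]
    exact eq_mul_inv_of_mul_eq h1
  have hunit : ∀ w : M, Function.Surjective (fun y => w * y) → IsUnit w := by
    intro w hw
    obtain ⟨v, hv⟩ := hw 1
    have hv' : w * v = 1 := hv
    have hinj : Function.Injective (LinearMap.mulLeft K w) := LinearMap.injective_iff_surjective.2 hw
    exact ⟨⟨w, v, hv', hinj (by simp [← mul_assoc, hv'])⟩, rfl⟩
  rcases finite_or_infinite k with hfin | hinf
  · -- finite base field: cancellation of finite modules
    haveI : Finite A := Module.finite_of_finite k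
    haveI : Finite K := Module.finite_of_finite k
    haveI : Finite M := Module.finite_of_finite K
    haveI : Finite Wm := Finite.of_injective _ Subtype.val_injective
    letI : SMul Aᵐᵒᵖ Wm := ⟨fun b y => ⟨(y : M) * ((1 : K) ⊗ₜ[k] b.unop), hWmul _ y.2 _⟩⟩
    have hsm : ∀ (b : Aᵐᵒᵖ) (y : Wm), ((b • y : Wm) : M) = (y : M) * ((1 : K) ⊗ₜ[k] b.unop) := fun _ _ => rfl
    letI : Module Aᵐᵒᵖ Wm :=
      { one_smul := fun y => Subtype.ext (by simp [hsm, ← Algebra.TensorProduct.one_def])
        mul_smul := fun b c y => Subtype.ext (by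
          simp only [hsm, MulOpposite.unop_mul, mul_assoc]
          rw [Algebra.TensorProduct.tmul_mul_tmul, mul_one])
        smul_zero := fun b => Subtype.ext (by simp [hsm])
        smul_add := fun b y z => Subtype.ext (by simp [hsm, add_mul])
        add_smul := fun b c y => Subtype.ext (by simp [hsm, TensorProduct.tmul_add, mul_add])
        zero_smul := fun y => Subtype.ext (by simp [hsm]) }
    let d := Module.finrank k K
    let b := Module.finBasis k K
    have hsum : ∀ (V : Type (max v w)) [AddCommGroup V] [Module k V] (f : Fin d → V),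
        (TensorProduct.equivFinsuppOfBasisLeft b).symm (Finsupp.equivFunOnFinite.symm f) = ∑ i, b i ⊗ₜ[k] f i := by
      intro V _ _ f
      rw [TensorProduct.equivFinsuppOfBasisLeft_symm_apply, Finsupp.sum_fintype _ _ (fun i => TensorProduct.tmul_zero _ _)]
      simp
    have hsumA : ∀ (f : Fin d → A),
        (TensorProduct.equivFinsuppOfBasisLeft b).symm (Finsupp.equivFunOnFinite.symm f) = ∑ i, b i ⊗ₜ[k] f i := by
      intro f
      rw [TensorProduct.equivFinsuppOfBasisLeft_symm_apply, Finsupp.sum_fintype _ _ (fun i => TensorProduct.tmul_zero _ _)]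
      simp
    let fW : (Fin d → Wm) → M := fun f => ∑ i, b i • (f i : M)
    have hfW : Function.Bijective fW := by
      have : fW = θ ∘ (TensorProduct.equivFinsuppOfBasisLeft b).symm ∘ Finsupp.equivFunOnFinite.symm := by
        funext f
        simp only [Function.comp_apply, hsum, map_sum, fW, θ, GalDescH7.theta_tmul, Submodule.coe_subtype]
      rw [this]
      exact hθ.comp ((LinearEquiv.bijective _).comp (Equiv.bijective _))
    let fA : (Fin d → A) → M := fun f => ∑ i, b i • ((1 : K) ⊗ₜ[k] f i)
    have hfA : Function.Bijective fA := by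
      have : fA = (TensorProduct.equivFinsuppOfBasisLeft b).symm ∘ Finsupp.equivFunOnFinite.symm := by
        funext f
        simp only [Function.comp_apply, hsumA, fA, TensorProduct.smul_tmul', smul_eq_mul, mul_one]
      rw [this]
      exact (LinearEquiv.bijective _).comp (Equiv.bijective _)
    have hfWs : ∀ (c : Aᵐᵒᵖ) f, fW (c • f) = fW f * ((1 : K) ⊗ₜ[k] c.unop) := fun c f => by
      simp only [fW, Pi.smul_apply, hsm]
      refine Eq.trans ?_ (Finset.sum_mul _ _ _).symm
      exact Finset.sum_congr rfl fun i _ => (smul_mul_assoc _ _ _).symm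
    have hfAs : ∀ (c : Aᵐᵒᵖ) f, fA (c • f) = fA f * ((1 : K) ⊗ₜ[k] c.unop) := fun c f => by
      simp only [fA, Pi.smul_apply, MulOpposite.smul_eq_mul_unop]
      refine Eq.trans ?_ (Finset.sum_mul _ _ _).symm
      refine Finset.sum_congr rfl fun i _ => Eq.trans ?_ (smul_mul_assoc _ _ _).symm
      rw [Algebra.TensorProduct.tmul_mul_tmul, mul_one]
    let EA := Equiv.ofBijective fA hfA
    have hEA : ∀ y, fA (EA.symm y) = y := EA.apply_symm_apply
    let e : (Fin d → Wm) ≃ₗ[Aᵐᵒᵖ] (Fin d → A) :=
      { (Equiv.ofBijective fW hfW).trans EA.symm with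
        map_add' := fun f g => hfA.1 (by
          show fA (EA.symm (fW (f + g))) = fA (EA.symm (fW f) + EA.symm (fW g))
          rw [hEA, show fA (EA.symm (fW f) + EA.symm (fW g)) = fA (EA.symm (fW f)) + fA (EA.symm (fW g)) by
            simp [fA, TensorProduct.tmul_add, smul_add, Finset.sum_add_distrib], hEA, hEA]
          simp [fW, smul_add, Finset.sum_add_distrib])
        map_smul' := fun c f => hfA.1 (by
          show fA (EA.symm (fW (c • f))) = fA (c • EA.symm (fW f))
          rw [hEA, hfAs, hEA, hfWs]) }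
    obtain ⟨g⟩ := Groth.Agent.NoetherDeuringH7.nonempty_equiv_of_pow Wm A Module.finrank_pos e
    refine ⟨(g.symm 1 : Wm), (g.symm 1).2, hunit _ ?_⟩
    have hrange : ∀ y : Wm, ∃ z, ((g.symm 1 : Wm) : M) * z = y := fun y => ⟨(1 : K) ⊗ₜ[k] g y, by
      rw [← MulOpposite.unop_op (g y), ← hsm]
      refine congrArg Subtype.val (g.injective ?_)
      rw [map_smul, g.apply_symm_apply]
      simp [MulOpposite.smul_eq_mul_unop]⟩
    intro y
    obtain ⟨z, rfl⟩ := hθ.2 y
    induction z using TensorProduct.induction_on with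
    | zero => exact ⟨0, by simp⟩
    | tmul c y =>
      obtain ⟨z, hz⟩ := hrange y
      exact ⟨c • z, by simp [θ, hz]⟩
    | add p q hp hq =>
      obtain ⟨z, hz⟩ := hp
      obtain ⟨z', hz'⟩ := hq
      exact ⟨z + z', by simp only [mul_add, map_add] at hz hz' ⊢; rw [hz, hz']⟩
  · -- infinite base field: a nonzero polynomial has a rational non-zero value
    let B := Module.finBasis K M
    let bW := Module.Free.chooseBasis k Wm
    haveI : Module.Finite k M := Module.Finite.trans K M
    haveI : Fintype (Module.Free.ChooseBasisIndex k Wm) := inferInstance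
    let N : Module.Free.ChooseBasisIndex k Wm → Matrix (Fin (Module.finrank K M)) (Fin (Module.finrank K M)) K :=
      fun i => LinearMap.toMatrix B B (LinearMap.mulLeft K (bW i : M))
    let P : MvPolynomial (Module.Free.ChooseBasisIndex k Wm) K :=
      (∑ i, (MvPolynomial.X i : MvPolynomial _ K) • (N i).map MvPolynomial.C).det
    have hP : ∀ t, MvPolynomial.eval t P = LinearMap.det (LinearMap.mulLeft K (∑ i, t i • (bW i : M))) := by
      intro t
      rw [← LinearMap.det_toMatrix B, RingHom.map_det]
      congr 1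
      have hlin : LinearMap.mulLeft K (∑ i, t i • (bW i : M)) = ∑ i, t i • LinearMap.mulLeft K (bW i : M) :=
        LinearMap.ext fun y => by simp [Finset.sum_mul]
      rw [hlin]
      ext r s
      simp [Matrix.sum_apply, N, mul_comm]
    have hP0 : P ≠ 0 := by
      intro h0
      obtain ⟨z, hz⟩ := hθ.2 1
      let BW := bW.baseChange K
      have h1 : (∑ i, BW.repr z i • (bW i : M)) = 1 := by
        rw [← hz]
        conv_rhs => rw [← BW.sum_repr z]
        simp [θ, BW]
      have h2 := hP (fun i => BW.repr z i)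
      rw [h1, h0, map_zero] at h2
      rw [show LinearMap.mulLeft K (1 : M) = LinearMap.id from LinearMap.ext fun y => by simp, LinearMap.det_id] at h2
      exact zero_ne_one h2
    obtain ⟨t, ht⟩ : ∃ t : Module.Free.ChooseBasisIndex k Wm → k,
        MvPolynomial.eval (fun i => algebraMap k K (t i)) P ≠ 0 := by
      by_contra hall
      push Not at hall
      refine hP0 (MvPolynomial.funext_set (fun _ => Set.range (algebraMap k K))
        (fun _ => Set.infinite_range_of_injective (algebraMap k K).injective) fun x hx => ?_)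
      choose t ht using fun i => hx i trivial
      rw [map_zero, ← funext ht]
      exact hall t
    refine ⟨∑ i, t i • (bW i : M), Submodule.sum_mem _ fun i _ => Wm.smul_mem _ (bW i).2, hunit _ ?_⟩
    rw [hP] at ht
    simp only [algebraMap_smul] at ht
    exact (LinearEquiv.ofIsUnitDet (f := LinearMap.mulLeft K (∑ i, t i • (bW i : M))) (v := B) (v' := B)
      (by rw [LinearMap.det_toMatrix]; exact isUnit_iff_ne_zero.2 ht)).surjective

end Groth.Agent.S13692
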