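import Groth.Statements.S13699
import Groth.Agent.ZC.Kernel

set_option autoImplicit false
universe u
open scoped TensorProduct
open ZeroCyc

namespace Groth.Agent.S13699

/-- Let F : B → A be a multiplicative polynomial law homogeneous of degree d over the commutative ring
A. Then the kernel of the base change of F to the polynomial ring A[X] is the ideal of A[X] ⊗_A B
generated by the kernel of F. -/
theorem result {A : Type u} [CommRing A] {B : Type u} [CommRing B] [Algebra A B]
    {d : ℕ} (F : PolLaw.MulLaw A B A d) :
    (PolLaw.ker F.law).map (Algebra.TensorProduct.includeRight : B →ₐ[A] Polynomial A ⊗[A] B) =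
      PolLaw.kerBC F.law (Polynomial A) := by
  refine le_antisymm (Groth.Agent.ZC.map_ker_le_kerBC F (Polynomial A)) fun z hz => ?_
  let e : Polynomial A ≃ₐ[A] MvPolynomial (Fin 1) A := (MvPolynomial.uniqueAlgEquiv A (Fin 1)).symm
  have hinv : Groth.Agent.ZC.Inv F (Algebra.TensorProduct.map e.toAlgHom (AlgHom.id A B) z) := by
    intro R _ _ Φ ψ x w
    have h := Groth.Agent.ZC.norm_eq_of_mem_kerBC F hz (Φ.comp e.toAlgHom) ψ x w
    rwa [show Algebra.TensorProduct.map (Φ.comp e.toAlgHom) (AlgHom.id A B) z =
      Algebra.TensorProduct.map Φ (AlgHom.id A B) (Algebra.TensorProduct.map e.toAlgHom (AlgHom.id A B) z) from by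
        rw [← AlgHom.comp_apply, ← Algebra.TensorProduct.map_comp, AlgHom.comp_id]] at h
  have h := Ideal.mem_map_of_mem (Algebra.TensorProduct.map e.symm.toAlgHom (AlgHom.id A B))
    (Groth.Agent.ZC.mem_map_ker_of_inv F hinv)
  rw [Ideal.map_mapₐ, ← AlgHom.comp_apply, ← Algebra.TensorProduct.map_comp, AlgHom.comp_id,
    show e.symm.toAlgHom.comp e.toAlgHom = AlgHom.id A (Polynomial A) from e.symm_comp,
    Algebra.TensorProduct.map_id, AlgHom.id_apply] at h
  rwa [show (Algebra.TensorProduct.map e.symm.toAlgHom (AlgHom.id A B)).comp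
      Algebra.TensorProduct.includeRight = Algebra.TensorProduct.includeRight from
    AlgHom.ext fun b => by simp] at h

end Groth.Agent.S13699
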