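import Groth.Statements.S1370
import Groth.Agent.AssLocusLib.Constr
import Groth.Agent.RelAssLib.Sch
import Groth.Agent.QCohLib.FPSections
import Groth.Agent.FibreDepth.ConstrScheme

set_option autoImplicit false
set_option linter.style.haveILetI false
set_option backward.isDefEq.respectTransparency false
set_option backward.defeqAttrib.useBackward true
universe u
open FlatMor

namespace Groth.Agent.S1370

open AlgebraicGeometry CategoryTheory Topology

variable {X Y : Scheme.{u}} (f : X ⟶ Y)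

theorem chart [LocallyOfFinitePresentation f] (F : X.Modules) [Coh.IsQCoh F] (hF : CohB1.IsFP F) (U : X.Opens)
    {V : Y.Opens} (hV : IsAffineOpen V) {W : X.Opens} (hW : IsAffineOpen W) (hWV : W ≤ f ⁻¹ᵁ V)
    (hc : IsCompact ((U : Set X) ∩ W)) :
    IsConstructible {t : PrimeSpectrum Γ(Y, V) | ∀ x ∈ MoreMor.relAss f F, x ∈ W → f x = hV.fromSpec t → x ∈ U} := by
  letI := (f.appLE V W hWV).hom.toAlgebra
  haveI : Algebra.FinitePresentation Γ(Y, V) Γ(X, W) :=
    HasRingHomProperty.appLE @LocallyOfFinitePresentation f inferInstance ⟨V, hV⟩ ⟨W, hW⟩ hWV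
  letI := Module.compHom Γ(F, W) (f.appLE V W hWV).hom
  haveI : IsScalarTower Γ(Y, V) Γ(X, W) Γ(F, W) := .of_algebraMap_smul fun _ _ => rfl
  haveI := QCohLib.finitePresentation_sections F hF hW
  have h1 : IsCompact (hW.fromSpec ⁻¹' ((U : Set X) ∩ W)) :=
    hW.fromSpec.isOpenEmbedding.isInducing.isCompact_preimage' hc
      (by rw [hW.range_fromSpec]; exact Set.inter_subset_right)
  obtain ⟨J, hJ, hJU⟩ := PrimeSpectrum.isCompact_isOpen_iff_ideal.1
    ⟨h1, (U.2.inter W.2).preimage hW.fromSpec.continuous⟩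
  have hmem : ∀ Q : PrimeSpectrum Γ(X, W), hW.fromSpec Q ∈ U ↔ ¬ J ≤ Q.asIdeal := fun Q => by
    have := Set.ext_iff.1 hJU Q
    simp only [Set.mem_compl_iff, PrimeSpectrum.mem_zeroLocus, SetLike.coe_subset_coe, Set.mem_preimage,
      Set.mem_inter_iff, SetLike.mem_coe] at this
    rw [this]
    exact ⟨fun h => ⟨h, hW.range_fromSpec.le ⟨Q, rfl⟩⟩, fun h => h.1⟩
  convert Groth.Agent.AssLocusLib.isConstructible_avoid (A := Γ(Y, V)) Γ(F, W) J hJ using 1
  ext t
  simp only [Set.mem_ofPred_eq]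
  constructor
  · intro h Q _ hQt hass
    let x := AssLib.pt hW ⟨Q, ‹_›⟩
    have hx : x ∈ W := AssLib.pt_mem hW _
    have hpr : AssLib.pr hW hx = Q := AssLib.pr_pt hW _
    have hp : (hV.primeIdealOf ⟨f x, hWV hx⟩).asIdeal = t.asIdeal := by
      rw [← congr($(IsAffineOpen.comap_primeIdealOf_appLE V hV W hW hWV hx).1), PrimeSpectrum.comap_asIdeal]
      change (AssLib.pr hW hx).comap _ = _
      rw [hpr]
      exact hQt.over.symm
    refine (hmem ⟨Q, ‹_›⟩).1 (h x ?_ hx ?_)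
    · exact (RelAssLib.mem_relAss_iff f F hV hW hWV x hx).2
        (FlatAssLib.mem_assocFibre_congr hp.symm hpr.symm hass)
    · rw [← PrimeSpectrum.ext (x := hV.primeIdealOf ⟨f x, hWV hx⟩) (y := t) hp]
      exact (hV.fromSpec_primeIdealOf ⟨f x, hWV hx⟩).symm
  · intro h x hass hx hfx
    have hp : hV.primeIdealOf ⟨f x, hWV hx⟩ = t :=
      hV.fromSpec.isOpenEmbedding.injective ((hV.fromSpec_primeIdealOf ⟨f x, hWV hx⟩).trans hfx)
    have hlo : (AssLib.pr hW hx).LiesOver t.asIdeal := ⟨by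
      rw [← hp]
      exact congr($(IsAffineOpen.comap_primeIdealOf_appLE V hV W hW hWV hx).1).symm⟩
    have h2 := (hmem (hW.primeIdealOf ⟨x, hx⟩)).2 (h (AssLib.pr hW hx) hlo
      (FlatAssLib.mem_assocFibre_congr (congrArg PrimeSpectrum.asIdeal hp) rfl
        ((RelAssLib.mem_relAss_iff f F hV hW hWV x hx).1 hass)))
    rwa [hW.fromSpec_primeIdealOf ⟨x, hx⟩] at h2

open AlgebraicGeometry CategoryTheory Limits in
/-- Let f be of finite presentation, F a quasi-coherent module of finite presentation on the source, and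
U an open of the source which is quasi-compact over the target. Then the set of points y of the
target such that all associated points of F restricted to the fibre over y lie in U is locally
constructible. -/
theorem result {X Y : Scheme.{u}} (f : X ⟶ Y) [LocallyOfFinitePresentation f] [QuasiCompact f] [QuasiSeparated f]
    (F : X.Modules) (hFq : Coh.IsQCoh F) (hFp : CohB1.IsFP F) (U : X.Opens) [QuasiCompact (U.ι ≫ f)] :
    Topology.IsLocallyConstructible {y : ↑Y | ∀ x ∈ MoreMor.relAss f F, f x = y → x ∈ U} := by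
  classical
  haveI := hFq
  refine FibreDepth.isLocallyConstructible_of_embeddings _ fun y => ?_
  obtain ⟨_, ⟨V : Y.Opens, (hV : IsAffineOpen V), rfl⟩, hyV, -⟩ :=
    Y.isBasis_affineOpens.exists_subset_of_mem_open (Set.mem_univ y) isOpen_univ
  refine ⟨Γ(Y, V), inferInstance, hV.fromSpec, hV.fromSpec.isOpenEmbedding, hV.range_fromSpec.ge hyV, ?_⟩
  have hS : IsCompact ((f ⁻¹ᵁ V : X.Opens) : Set X) := f.isCompact_preimage hV.isCompact
  choose W hW hxW hWV using fun x : ↥(f ⁻¹ᵁ V) => show ∃ W : X.Opens, IsAffineOpen W ∧ x.1 ∈ W ∧ W ≤ f ⁻¹ᵁ V by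
    obtain ⟨_, ⟨W, hW, rfl⟩, hxW, hWV⟩ :=
      X.isBasis_affineOpens.exists_subset_of_mem_open (a := x.1) (u := ↑(f ⁻¹ᵁ V)) x.2 (f ⁻¹ᵁ V).2
    exact ⟨W, hW, hxW, hWV⟩
  obtain ⟨s, hs⟩ := hS.elim_finite_subcover (fun x => (W x : Set X)) (fun x => (W x).2)
    fun x hx => Set.mem_iUnion.2 ⟨⟨x, hx⟩, hxW _⟩
  have hUV : IsCompact ((U : Set X) ∩ (f ⁻¹ᵁ V : X.Opens)) := by
    have h := ((U.ι ≫ f).isCompact_preimage hV.isCompact).image U.ι.continuous
    convert h using 1
    ext x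
    constructor
    · rintro ⟨hxU, hxV⟩
      exact ⟨⟨x, hxU⟩, hxV, rfl⟩
    · rintro ⟨z, hz, rfl⟩
      exact ⟨z.2, hz⟩
  haveI : IsAffine (V : Scheme.{u}) := hV
  haveI : QuasiSeparatedSpace ↥((f ⁻¹ᵁ V : X.Opens) : Set X) :=
    (quasiSeparated_iff_quasiSeparatedSpace (f ∣_ V)).1 inferInstance
  have hqs : IsQuasiSeparated ((f ⁻¹ᵁ V : X.Opens) : Set X) :=
    isQuasiSeparated_iff_quasiSeparatedSpace _ (f ⁻¹ᵁ V).2 |>.2 inferInstance
  have hc : ∀ x ∈ s, IsCompact ((U : Set X) ∩ W x) := fun x _ => by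
    have h := hqs ((U : Set X) ∩ (f ⁻¹ᵁ V : X.Opens)) (W x) Set.inter_subset_right
      (U.2.inter (f ⁻¹ᵁ V).2) hUV (hWV x) (W x).2 (hW x).isCompact
    rwa [Set.inter_assoc, Set.inter_eq_right.2 (show (W x : Set X) ⊆ (f ⁻¹ᵁ V : X.Opens) from hWV x)] at h
  convert IsConstructible.biInter (t := (s : Set ↥(f ⁻¹ᵁ V))) s.finite_toSet fun x hx =>
    chart f F hFp U hV (hW x) (hWV x) (hc x hx) using 1
  ext t
  simp only [Set.mem_preimage, Set.mem_ofPred_eq, Set.mem_iInter]
  constructor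
  · intro h x _ z hz _ hfz
    exact h z hz hfz
  · intro h z hz hfz
    have hzV : z ∈ f ⁻¹ᵁ V := by
      show f z ∈ V
      rw [hfz]
      exact hV.range_fromSpec.le ⟨t, rfl⟩
    obtain ⟨x, hx, hzx⟩ := Set.mem_iUnion₂.1 (hs hzV)
    exact h x hx z hz hzx hfz

end Groth.Agent.S1370
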