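import Groth.Statements.S13702
import Mathlib

set_option autoImplicit false
universe u
open ZeroCyc

namespace Groth.Agent.S13702

open CategoryTheory CategoryTheory.Limits AlgebraicGeometry

lemma res_det_ne_zero {k : Type u} [Field k] (p : ℕ) [Fact p.Prime] [CharP k p] (g : Polynomial k)
    (hg : g.Monic) (hsep : g.Separable) (s : ℕ) (n : ℕ) (hn : g.natDegree = n) :
    (Matrix.of fun i j : Fin n => ((Polynomial.X ^ (p ^ s * (j : ℕ))) %ₘ g).coeff (i : ℕ)).det ≠ 0 := by
  classical
  intro h0
  obtain ⟨v, hv, hMv⟩ := Matrix.exists_mulVec_eq_zero_iff.2 h0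
  let h : Polynomial k := ∑ j : Fin n, Polynomial.C (v j) * Polynomial.X ^ (j : ℕ)
  let H : Polynomial k := Polynomial.expand k (p ^ s) h
  have hH : H = ∑ j : Fin n, Polynomial.C (v j) * Polynomial.X ^ (p ^ s * (j : ℕ)) := by
    simp only [H, h, map_sum, map_mul, map_pow, Polynomial.expand_C, Polynomial.expand_X, ← pow_mul]
  have hmod : H %ₘ g = 0 := by
    ext i
    rw [Polynomial.coeff_zero]
    by_cases hi : i < n
    · have hrow := congr_fun hMv ⟨i, hi⟩
      simp only [Matrix.mulVec, dotProduct, Matrix.of_apply, Pi.zero_apply] at hrow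
      rw [← Polynomial.modByMonicHom_apply g H, hH, map_sum, Polynomial.finsetSum_coeff, ← hrow]
      refine Finset.sum_congr rfl fun j _ => ?_
      rw [← Polynomial.smul_eq_C_mul, map_smul, Polynomial.coeff_smul, smul_eq_mul, mul_comm]
      rfl
    · refine Polynomial.coeff_eq_zero_of_degree_lt (lt_of_lt_of_le (Polynomial.degree_modByMonic_lt H hg) ?_)
      rw [Polynomial.degree_eq_natDegree hg.ne_zero, hn]
      exact_mod_cast le_of_not_gt hi
  have hdvd : g ∣ H := (Polynomial.modByMonic_eq_zero_iff_dvd hg).1 hmod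
  let L := AlgebraicClosure k
  haveI : CharP L p := charP_of_injective_algebraMap (algebraMap k L).injective p
  haveI : ExpChar L p := ExpChar.prime Fact.out
  have hz : h.map (algebraMap k L) = 0 := by
    refine Polynomial.eq_zero_of_natDegree_lt_card_of_eval_eq_zero' _
      ((g.rootSet L).toFinset.image fun a => a ^ (p ^ s)) (fun b hb => ?_) ?_
    · obtain ⟨a, ha, rfl⟩ := Finset.mem_image.1 hb
      rw [Set.mem_toFinset, Polynomial.mem_rootSet] at ha
      rw [Polynomial.eval_map, ← Polynomial.aeval_def, ← Polynomial.expand_aeval]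
      obtain ⟨c, hc⟩ := hdvd
      show Polynomial.aeval a H = 0
      rw [hc, map_mul, ha.2, zero_mul]
    · have hinj : Function.Injective fun a : L => a ^ (p ^ s) := fun a b hab =>
        iterateFrobenius_inj L p s (by simpa [iterateFrobenius_def] using hab)
      rw [Finset.card_image_of_injective _ hinj, Set.toFinset_card,
        Polynomial.card_rootSet_eq_natDegree hsep (IsAlgClosed.splits _), hn, Polynomial.natDegree_map]
      rcases n.eq_zero_or_pos with hn0 | hn0
      · subst hn0
        exact absurd (Subsingleton.elim v 0) hv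
      refine lt_of_le_of_lt (Polynomial.natDegree_sum_le_of_forall_le (n := n - 1) _ _ fun j _ => ?_) (by omega)
      exact (Polynomial.natDegree_C_mul_X_pow_le _ _).trans (by omega)
  refine hv (funext fun j => ?_)
  have := congr_arg (fun q : Polynomial L => q.coeff (j : ℕ)) hz
  simp only [h, Polynomial.coeff_map, Polynomial.finsetSum_coeff, Polynomial.coeff_zero, Polynomial.coeff_C_mul,
    Polynomial.coeff_X_pow, mul_ite, mul_one, mul_zero, Fin.val_inj, Finset.sum_ite_eq, Finset.mem_univ, if_true,
    map_eq_zero] at this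
  simpa using this


/-- Let A be a local ring with residue field of characteristic p > 0, let g ∈ A[X] be monic and
separable of degree n, so that A' = A[X]/(g) is an étale A-algebra, and let q = p^s with s ≥ 0. Then
the powers 1, t^q, t^{2q}, …, t^{(n-1)q} of the class t of X form a basis of A' as an A-module. -/
theorem result {A : Type u} [CommRing A] [IsLocalRing A] (p : ℕ) [Fact p.Prime]
    [CharP (IsLocalRing.ResidueField A) p] (g : Polynomial A) (hg : g.Monic) (hsep : g.Separable) (s : ℕ) :
    ∃ b : Module.Basis (Fin g.natDegree) A (AdjoinRoot g),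
      ∀ i : Fin g.natDegree, b i = AdjoinRoot.root g ^ (p ^ s * (i : ℕ)) := by
  classical
  let e : Module.Basis (Fin g.natDegree) A (AdjoinRoot g) := AdjoinRoot.powerBasisAux' hg
  let v : Fin g.natDegree → AdjoinRoot g := fun i => AdjoinRoot.root g ^ (p ^ s * (i : ℕ))
  let k := IsLocalRing.ResidueField A
  let φ := IsLocalRing.residue A
  have hdet : IsUnit (e.det v) := by
    rw [Module.Basis.det_apply, ← IsLocalRing.notMem_maximalIdeal, ← IsLocalRing.residue_eq_zero_iff,
      RingHom.map_det]
    have hM : φ.mapMatrix (e.toMatrix v) = Matrix.of fun i j : Fin g.natDegree =>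
        ((Polynomial.X ^ (p ^ s * (j : ℕ))) %ₘ (g.map φ)).coeff (i : ℕ) := by
      ext i j
      simp only [RingHom.mapMatrix_apply, Matrix.map_apply, Module.Basis.toMatrix_apply, Matrix.of_apply]
      rw [show (Polynomial.X : Polynomial k) ^ (p ^ s * (j : ℕ)) = (Polynomial.X ^ (p ^ s * (j : ℕ))).map φ by
        simp [k], ← Polynomial.map_modByMonic _ hg, Polynomial.coeff_map]
      congr 1
    rw [hM]
    exact res_det_ne_zero p (g.map φ) (hg.map φ) hsep.map s g.natDegree (hg.natDegree_map φ)
  obtain ⟨hli, hsp⟩ := (Module.Basis.is_basis_iff_det e).2 hdet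
  refine ⟨Module.Basis.mk hli hsp.ge, fun i => ?_⟩
  rw [Module.Basis.mk_apply]

end Groth.Agent.S13702
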