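import Groth.Statements.S13703
import Groth.Agent.ZC.Components

set_option autoImplicit false
universe u
open scoped TensorProduct
open ZeroCyc

namespace Groth.Agent.S13703

/-- Let A be an integral domain, B a commutative A-algebra and F : B → A a multiplicative polynomial law
homogeneous of degree d. For every prime ideal P of B minimal among those containing the kernel of
F, the contraction of P to A is zero and every prime of A is the contraction of a prime of B
containing P. Geometrically: every irreducible component of the support of the family of zero-cycles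
on Spec B defined by F maps onto Spec A. (The published statement is over an arbitrary algebraic
space S, every irreducible component of the support mapping onto an irreducible component of S, and
its proof reduces to an integral affine base; this row is that case.) -/
theorem result {A : Type u} [CommRing A] [IsDomain A] {B : Type u} [CommRing B] [Algebra A B]
    {d : ℕ} (F : PolLaw.MulLaw A B A d) {P : Ideal B} (hP : P ∈ (PolLaw.ker F.law).minimalPrimes) :
    P.comap (algebraMap A B) = ⊥ ∧
      ∀ q : Ideal A, q.IsPrime → ∃ Q : Ideal B, Q.IsPrime ∧ P ≤ Q ∧ Q.comap (algebraMap A B) = q := by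
  have hcomap : P.comap (algebraMap A B) = ⊥ := by
    refine le_antisymm (fun a ha => ?_) bot_le
    by_contra ha0
    obtain ⟨y, hy, hxy⟩ := Ideal.exists_mul_mem_of_mem_minimalPrimes hP (Ideal.mem_comap.1 ha)
    exact hy (Groth.Agent.ZC.mem_ker_of_smul_mem F (by simpa using ha0) hxy)
  refine ⟨hcomap, fun q hq => ?_⟩
  have := Groth.Agent.ZC.isIntegral_image F
  have hmk : (algebraMap A (PolLaw.image F.law)) = (Ideal.Quotient.mk (PolLaw.ker F.law)).comp (algebraMap A B) := rfl
  obtain ⟨Q, hQP, hQ, hQq⟩ := Ideal.exists_ideal_over_prime_of_isIntegral q
    (P.map (Ideal.Quotient.mk (PolLaw.ker F.law))) (by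
      rw [hmk, ← Ideal.comap_comap, Ideal.comap_map_of_surjective _ Ideal.Quotient.mk_surjective, ← RingHom.ker_eq_comap_bot,
        Ideal.mk_ker, sup_eq_left.2 hP.1.2, hcomap]
      exact bot_le)
  exact ⟨Q.comap (Ideal.Quotient.mk (PolLaw.ker F.law)), Ideal.comap_isPrime _ Q, Ideal.map_le_iff_le_comap.1 hQP,
    by rw [Ideal.comap_comap, ← hmk, hQq]⟩

end Groth.Agent.S13703
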