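import Groth.Statements.S13707
import Groth.Agent.ZC.Components

set_option autoImplicit false
universe u
open scoped TensorProduct
open ZeroCyc

namespace Groth.Agent.S13707

/-- Let k be a field, B a commutative k-algebra and F : B → k a multiplicative polynomial law
homogeneous of degree d. Then the spectrum of B/ker F (the image of the family of zero-cycles of
degree d on Spec B defined by F) is a finite set of at most d closed points, and the residue field
at each of them has finite separable degree over k. -/
theorem result {k : Type u} [Field k] {B : Type u} [CommRing B] [Algebra k B]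
    {d : ℕ} (F : PolLaw.MulLaw k B k d) :
    Finite (PrimeSpectrum (PolLaw.image F.law)) ∧ Nat.card (PrimeSpectrum (PolLaw.image F.law)) ≤ d ∧
      ∀ P : PrimeSpectrum (PolLaw.image F.law), P.asIdeal.IsMaximal ∧
        Finite (Field.Emb k P.asIdeal.ResidueField) := by
  have := Groth.Agent.ZC.isIntegral_image F
  let e := (PrimeSpectrum.comapEquiv (Algebra.TensorProduct.lid k (PolLaw.image F.law)).toRingEquiv).toEquiv
  obtain ⟨h1, h2⟩ := Groth.Agent.ZC.fibre F k
  refine ⟨@Finite.of_equiv _ _ h1 e, (Nat.card_congr e.symm).trans_le h2, fun P => ?_⟩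
  have hmax : P.asIdeal.IsMaximal := Ideal.isMaximal_of_isIntegral_of_isMaximal_comap P.asIdeal (by
    rw [show P.asIdeal.comap (algebraMap k (PolLaw.image F.law)) = ⊥ from Ideal.eq_bot_of_prime _]
    exact Ideal.bot_isMaximal)
  refine ⟨hmax, ?_⟩
  let L := AlgebraicClosure P.asIdeal.ResidueField
  let g : Field.Emb k P.asIdeal.ResidueField → (L ⊗[k] PolLaw.image F.law →ₐ[L] L) := fun σ =>
    Algebra.TensorProduct.lift (Algebra.ofId L L)
      (σ.comp (IsScalarTower.toAlgHom k (PolLaw.image F.law) P.asIdeal.ResidueField)) fun _ _ => Commute.all _ _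
  have := (Groth.Agent.ZC.fibre F L).1
  refine Finite.of_injective (fun σ => (⟨RingHom.ker (g σ).toRingHom, RingHom.ker_isPrime _⟩ :
    PrimeSpectrum (L ⊗[k] PolLaw.image F.law))) fun σ τ h => ?_
  have hk : RingHom.ker (g σ).toRingHom = RingHom.ker (g τ).toRingHom := congrArg PrimeSpectrum.asIdeal h
  have heq : ∀ z, g τ z = g σ z := fun z => by
    have hz : z - algebraMap L _ (g σ z) ∈ RingHom.ker (g σ).toRingHom := by
      show g σ (z - algebraMap L _ (g σ z)) = 0
      rw [map_sub, AlgHom.commutes, Algebra.algebraMap_self, RingHom.id_apply, sub_self]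
    rw [hk] at hz
    have hz' : g τ (z - algebraMap L _ (g σ z)) = 0 := hz
    rwa [map_sub, AlgHom.commutes, Algebra.algebraMap_self, RingHom.id_apply, sub_eq_zero] at hz'
  refine AlgHom.ext fun x => ?_
  obtain ⟨x, rfl⟩ := Ideal.algebraMap_residueField_surjective P.asIdeal x
  simpa [g] using (heq ((1 : L) ⊗ₜ[k] x)).symm

end Groth.Agent.S13707
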