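import Groth.Statements.S13708
import Mathlib

set_option autoImplicit false
universe u
open CategoryTheory CategoryTheory.Limits AlgebraicGeometry
open ZeroCyc

namespace Groth.Agent.S13708

/-- Let X be a scheme over S such that every finite set of points of X over a common point of S lies in
some affine open subscheme of X (the condition (AF)). Then X is separated over S. (The published
condition (AF) asks for an open U with U → S quasi-affine rather than U affine; with U affine, as
here, the same argument applies verbatim, and the two conditions agree over a quasi-separated base.) -/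
theorem result {X S : Scheme.{u}} (f : X ⟶ S) (hX : SymProd.IsAF f) :
    IsSeparated f := by
  refine ⟨IsClosedImmersion.of_isPreimmersion _ ?_⟩
  rw [← isOpen_compl_iff, isOpen_iff_forall_mem_open]
  intro z hz
  classical
  obtain ⟨U, hU, hT⟩ := hX (f.base ((pullback.fst f f).base z))
    ({(pullback.fst f f).base z, (pullback.snd f f).base z} : Finset X) (by
      intro x hx
      simp only [Finset.mem_insert, Finset.mem_singleton] at hx
      rcases hx with rfl | rfl
      · rfl
      · change (pullback.snd f f ≫ f).base z = (pullback.fst f f ≫ f).base z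
        rw [pullback.condition])
  haveI : IsAffine U.toScheme := hU
  haveI : IsSeparated (U.ι ≫ f) := inferInstance
  let ι := pullback.map (U.ι ≫ f) (U.ι ≫ f) f f U.ι U.ι (𝟙 S) (Category.comp_id _) (Category.comp_id _)
  have hιrange : z ∈ Set.range ι.base := by
    rw [Scheme.Pullback.range_map]
    simp only [Scheme.Opens.range_ι, Set.mem_inter_iff, Set.mem_preimage]
    exact ⟨hT _ (by simp), hT _ (by simp)⟩
  haveI : IsClosedImmersion (pullback.diagonal (U.ι ≫ f)) := IsSeparated.isClosedImmersion_diagonal
  have hcl : IsClosed (Set.range (pullback.diagonal (U.ι ≫ f)).base) :=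
    (Scheme.Hom.isClosedEmbedding _).isClosed_range
  refine ⟨ι.base '' (Set.range (pullback.diagonal (U.ι ≫ f)).base)ᶜ, ?_,
    ι.isOpenEmbedding.isOpenMap _ hcl.isOpen_compl, ?_⟩
  · rintro _ ⟨w, hw, rfl⟩ ⟨x, hx⟩
    apply hw
    have h1 : U.ι.base ((pullback.fst (U.ι ≫ f) (U.ι ≫ f)).base w) = x := by
      have : (ι ≫ pullback.fst f f).base w = (pullback.diagonal f ≫ pullback.fst f f).base x := by
        rw [Scheme.Hom.comp_apply, Scheme.Hom.comp_apply, hx]
      rw [pullback.lift_fst, pullback.diagonal_fst] at this
      simpa using this
    refine ⟨(pullback.fst (U.ι ≫ f) (U.ι ≫ f)).base w, ι.isOpenEmbedding.injective ?_⟩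
    rw [← hx, ← h1]
    have : pullback.diagonal (U.ι ≫ f) ≫ ι = U.ι ≫ pullback.diagonal f := by
      apply pullback.hom_ext
      · erw [Category.assoc, pullback.lift_fst, pullback.diagonal_fst_assoc, Category.assoc, pullback.diagonal_fst, Category.comp_id]
      · erw [Category.assoc, pullback.lift_snd, pullback.diagonal_snd_assoc, Category.assoc, pullback.diagonal_snd, Category.comp_id]
    rw [← Scheme.Hom.comp_apply, this, Scheme.Hom.comp_apply]
  · obtain ⟨w, rfl⟩ := hιrange
    refine ⟨w, ?_, rfl⟩
    rintro ⟨x, rfl⟩
    apply hz
    refine ⟨U.ι.base x, ?_⟩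
    have : pullback.diagonal (U.ι ≫ f) ≫ ι = U.ι ≫ pullback.diagonal f := by
      apply pullback.hom_ext
      · erw [Category.assoc, pullback.lift_fst, pullback.diagonal_fst_assoc, Category.assoc, pullback.diagonal_fst, Category.comp_id]
      · erw [Category.assoc, pullback.lift_snd, pullback.diagonal_snd_assoc, Category.assoc, pullback.diagonal_snd, Category.comp_id]
    rw [← Scheme.Hom.comp_apply, ← this, Scheme.Hom.comp_apply]

end Groth.Agent.S13708
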