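import Groth.Statements.S13709
import Mathlib.AlgebraicGeometry.Morphisms.UniversallyOpen
import Mathlib.AlgebraicGeometry.Morphisms.QuasiCompact

set_option autoImplicit false
universe u
open CategoryTheory CategoryTheory.Limits AlgebraicGeometry
open ZeroCyc

namespace Groth.Agent.S13709

/-- Let f : X → Y be a quasi-compact morphism of schemes and g : Y' → Y a faithfully flat morphism, i.e.
flat and surjective, with no quasi-compactness assumption on g. If the base change X ×_Y Y' → Y' of
f along g is a homeomorphism on underlying spaces, then so is f. -/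
theorem result {X Y Y' : Scheme.{u}} (f : X ⟶ Y) (g : Y' ⟶ Y)
    [Flat g] [Surjective g] [QuasiCompact f] (h : IsHomeomorph (pullback.snd f g).base) :
    IsHomeomorph f.base := by
  set f' := pullback.snd f g
  set g' := pullback.fst f g
  have hsurj : Function.Surjective f.base := fun y => by
    obtain ⟨y', rfl⟩ := g.surjective y
    obtain ⟨z, rfl⟩ := h.surjective y'
    exact ⟨g' z, by rw [← Scheme.Hom.comp_apply, pullback.condition, Scheme.Hom.comp_apply]⟩
  have hinj : Function.Injective f.base := fun a b hab => by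
    obtain ⟨y', hy⟩ := g.surjective (f a)
    obtain ⟨p, hp1, hp2⟩ := Scheme.Pullback.exists_preimage_pullback a y' hy.symm
    obtain ⟨q, hq1, hq2⟩ := Scheme.Pullback.exists_preimage_pullback b y' (hab ▸ hy.symm)
    rw [← hp1, ← hq1, h.injective (hp2.trans hq2.symm)]
  refine isHomeomorph_iff_continuous_isClosedMap_bijective.mpr
    ⟨f.continuous, ?_, hinj, hsurj⟩
  refine (isClosedMap_iff_specializingMap f).mpr fun x y (hxy : f x ⤳ y) => ?_
  obtain ⟨y', rfl⟩ := g.surjective y
  obtain ⟨y'', hy'', hgy''⟩ := Flat.generalizingMap (f := g) hxy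
  obtain ⟨z, hz1, hz2⟩ := Scheme.Pullback.exists_preimage_pullback x y'' hgy''.symm
  obtain ⟨w, rfl⟩ := h.surjective y'
  have hzw : z ⤳ w := h.isInducing.specializes_iff.mp (hz2 ▸ hy'')
  refine ⟨g' w, hz1 ▸ hzw.map g'.continuous, ?_⟩
  rw [← Scheme.Hom.comp_apply, pullback.condition, Scheme.Hom.comp_apply]

end Groth.Agent.S13709
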