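import Groth.Statements.S1371
import Groth.Agent.GenFree.Algebra
import Groth.Agent.CAlgBasics.FlatAux

set_option autoImplicit false
universe u
open FlatMor

namespace Groth.Agent.S1371

open TensorProduct

theorem flat_of_chain {R L : Type u} [CommRing R] [CommRing L] [Algebra R L] [Module.Flat R L]
    {V : Type u} [AddCommGroup V] [Module R V] (Ψ : ℕ → Submodule R V) (h0 : Ψ 0 = ⊥) (hm : Monotone Ψ)
    (htop : ∀ v, ∃ k, v ∈ Ψ k)
    (h : ∀ k, Module.Flat R (L ⊗[R] (↥(Ψ (k + 1)) ⧸ (Ψ k).comap (Ψ (k + 1)).subtype))) :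
    Module.Flat R (L ⊗[R] V) := by
  have hfl : ∀ k, Module.Flat R (L ⊗[R] ↥(Ψ k)) := by
    intro k
    induction k with
    | zero =>
      haveI : Subsingleton ↥(Ψ 0) := by rw [h0]; infer_instance
      haveI : Subsingleton (L ⊗[R] ↥(Ψ 0)) := inferInstance
      infer_instance
    | succ k ih =>
      haveI := h k
      let i : ↥(Ψ k) →ₗ[R] ↥(Ψ (k + 1)) := Submodule.inclusion (hm (Nat.le_succ k))
      let p : ↥(Ψ (k + 1)) →ₗ[R] (↥(Ψ (k + 1)) ⧸ (Ψ k).comap (Ψ (k + 1)).subtype) := Submodule.mkQ _
      have hex : Function.Exact i p := by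
        intro x
        constructor
        · intro hx
          have hx' : (x : V) ∈ Ψ k := (Submodule.Quotient.mk_eq_zero ((Ψ k).comap (Ψ (k + 1)).subtype) (x := x)).1 hx
          exact ⟨⟨x, hx'⟩, Subtype.ext rfl⟩
        · rintro ⟨y, rfl⟩
          exact (Submodule.Quotient.mk_eq_zero _).2 y.2
      exact Groth.Agent.CAlgBasics.flat_of_exact
        (Module.Flat.lTensor_preserves_injective_linearMap (M := L) i (Submodule.inclusion_injective _))
        (lTensor_exact L hex (Submodule.mkQ_surjective _))
        (LinearMap.lTensor_surjective L (Submodule.mkQ_surjective _))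
  let j : ∀ k, L ⊗[R] ↥(Ψ k) →ₗ[R] L ⊗[R] V := fun k => (Ψ k).subtype.lTensor L
  have hj : ∀ k, Function.Injective (j k) := fun k =>
    Module.Flat.lTensor_preserves_injective_linearMap (M := L) _ (Ψ k).injective_subtype
  have hle : ∀ {a b}, a ≤ b → LinearMap.range (j a) ≤ LinearMap.range (j b) := by
    intro a b hab
    have : j a = (j b).comp ((Submodule.inclusion (hm hab)).lTensor L) := by
      rw [← LinearMap.lTensor_comp]; rfl
    rw [this]; exact LinearMap.range_comp_le_range _ _
  have hcov : ∀ z, ∃ k, z ∈ LinearMap.range (j k) := by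
    intro z
    induction z using TensorProduct.induction_on with
    | zero => exact ⟨0, zero_mem _⟩
    | tmul a v => obtain ⟨k, hk⟩ := htop v; exact ⟨k, a ⊗ₜ ⟨v, hk⟩, rfl⟩
    | add a b ha hb =>
      obtain ⟨k, hk⟩ := ha; obtain ⟨k', hk'⟩ := hb
      exact ⟨max k k', add_mem (hle (le_max_left _ _) hk) (hle (le_max_right _ _) hk')⟩
  rw [Module.Flat.iff_rTensor_injective']
  intro I
  rw [injective_iff_map_eq_zero]
  intro x hx
  have hlift : ∀ y : ↥I ⊗[R] (L ⊗[R] V), ∃ k, y ∈ LinearMap.range ((j k).lTensor ↥I) := by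
    have hle' : ∀ {a b}, a ≤ b → LinearMap.range ((j a).lTensor ↥I) ≤ LinearMap.range ((j b).lTensor ↥I) := by
      intro a b hab
      have : j a = (j b).comp ((Submodule.inclusion (hm hab)).lTensor L) := by
        rw [← LinearMap.lTensor_comp]; rfl
      rw [this, LinearMap.lTensor_comp]; exact LinearMap.range_comp_le_range _ _
    intro y
    induction y using TensorProduct.induction_on with
    | zero => exact ⟨0, zero_mem _⟩
    | tmul v a => obtain ⟨k, y', rfl⟩ := hcov a; exact ⟨k, v ⊗ₜ y', rfl⟩
    | add a b ha hb =>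
      obtain ⟨k, hk⟩ := ha; obtain ⟨k', hk'⟩ := hb
      exact ⟨max k k', add_mem (hle' (le_max_left _ _) hk) (hle' (le_max_right _ _) hk')⟩
  obtain ⟨k, y, rfl⟩ := hlift x
  haveI := hfl k
  rw [← LinearMap.comp_apply, LinearMap.rTensor_comp_lTensor, ← LinearMap.lTensor_comp_rTensor, LinearMap.comp_apply] at hx
  have h1 := Module.Flat.lTensor_preserves_injective_linearMap (M := R) (j k) (hj k) (hx.trans (map_zero _).symm)
  rw [show y = 0 from (Module.Flat.iff_rTensor_injective'.1 (hfl k) I) (h1.trans (map_zero _).symm), map_zero]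

theorem flat_of_freeAt {R G : Type u} [CommRing R] [AddCommGroup G] [Module R G] {f : R}
    (h : Groth.Agent.GenFree.FreeAt R G f) : Module.Flat R (Localization.Away f ⊗[R] G) := by
  haveI : Module.Free (Localization.Away f) (Localization.Away f ⊗[R] G) := h
  haveI : Module.Flat R (Localization.Away f) := IsLocalization.flat _ (Submonoid.powers f)
  exact Module.Flat.trans R (Localization.Away f) _

theorem flat_tensor_retract {R L G Q : Type u} [CommRing R] [CommRing L] [Algebra R L] [AddCommGroup G] [Module R G]
    [AddCommGroup Q] [Module R Q] [Module.Flat R (L ⊗[R] G)] (e : Q →ₗ[R] G) (r : G →ₗ[R] Q)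
    (h : r.comp e = LinearMap.id) : Module.Flat R (L ⊗[R] Q) :=
  Module.Flat.of_retract (e.lTensor L) (r.lTensor L) (by rw [← LinearMap.lTensor_comp, h, LinearMap.lTensor_id])

section
variable {A : Type u} [CommRing A] {m r : ℕ}

/-- Tuples of polynomials of degree at most `k`. -/
def degLE (k : ℕ) : Submodule A (Fin r → MvPolynomial (Fin m) A) where
  carrier := {p | ∀ j d, k < Finsupp.degree d → MvPolynomial.coeff d (p j) = 0}
  zero_mem' := fun j d _ => by simp
  add_mem' := fun {p q} hp hq j d hd => by simp [hp j d hd, hq j d hd]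
  smul_mem' := fun c p hp j d hd => by simp [hp j d hd]

/-- The homogeneous component of a tuple. -/
noncomputable def hComp (k : ℕ) : (Fin r → MvPolynomial (Fin m) A) →ₗ[A] (Fin r → MvPolynomial (Fin m) A) :=
  LinearMap.pi fun j => (MvPolynomial.homogeneousComponent k).comp (LinearMap.proj j)

theorem coeff_hComp (k : ℕ) (p : Fin r → MvPolynomial (Fin m) A) (j : Fin r) (d : Fin m →₀ ℕ) :
    MvPolynomial.coeff d (hComp k p j) = if Finsupp.degree d = k then MvPolynomial.coeff d (p j) else 0 := by
  classical
  simp [hComp, MvPolynomial.coeff_homogeneousComponent]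

theorem hComp_X_smul (i : Fin m) (k : ℕ) (p : Fin r → MvPolynomial (Fin m) A) :
    hComp (k + 1) (MvPolynomial.X (R := A) i • p) = MvPolynomial.X (R := A) i • hComp k p ∧
      hComp 0 (MvPolynomial.X (R := A) i • p) = 0 := by
  classical
  constructor <;> funext j <;> ext d <;>
    simp only [coeff_hComp, Pi.smul_apply, Pi.zero_apply, smul_eq_mul, MvPolynomial.coeff_X_mul', MvPolynomial.coeff_zero]
  · by_cases hi : i ∈ d.support
    · have h1 : Finsupp.single i 1 ≤ d := Finsupp.single_le_iff.2 (Nat.one_le_iff_ne_zero.2 (Finsupp.mem_support_iff.1 hi))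
      have h2 : Finsupp.degree (d - Finsupp.single i 1) + 1 = Finsupp.degree d := by
        conv_rhs => rw [← tsub_add_cancel_of_le h1]
        rw [map_add, Finsupp.degree_single]
      simp only [if_pos hi]
      split_ifs <;> first | rfl | omega
    · simp [hi]
  · split_ifs with h1 h2
    · rw [Finsupp.degree_eq_zero_iff] at h1; subst h1; simp at h2
    · rfl
    · rfl

end

/-- Let R be a Noetherian domain, R → A → B ring maps of finite type, M a finite A-module, N a finite
B-module and u : M → N an A-linear map. Then there is a nonzero f in R such that the cokernel of u,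
localized at f, is a flat module over R[1/f]. -/
theorem result {R A B : Type u} [CommRing R] [IsDomain R] [IsNoetherianRing R] [CommRing A] [CommRing B]
    [Algebra R A] [Algebra A B] [Algebra R B] [IsScalarTower R A B] [Algebra.FiniteType R A] [Algebra.FiniteType A B]
    {M N : Type u} [AddCommGroup M] [Module A M] [Module R M] [IsScalarTower R A M] [Module.Finite A M]
    [AddCommGroup N] [Module B N] [Module A N] [Module R N] [IsScalarTower A B N] [IsScalarTower R A N] [Module.Finite B N]
    (u : M →ₗ[A] N) :
    ∃ f : R, f ≠ 0 ∧ Module.Flat (Localization.Away f)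
      (LocalizedModule (Submonoid.powers f) (N ⧸ (LinearMap.range u).restrictScalars R)) := by
  classical
  obtain ⟨s₀, hs₀⟩ := (inferInstance : Algebra.FiniteType A B).out
  obtain ⟨m, b, hb⟩ : ∃ (m : ℕ) (b : Fin m → B), Set.range b = ↑s₀ :=
    ⟨_, fun i => (s₀.equivFin.symm i : B), by ext x; simp [Set.mem_range]; exact ⟨fun ⟨i, hi⟩ => hi ▸ Finset.coe_mem _, fun hx => ⟨s₀.equivFin ⟨x, hx⟩, by simp⟩⟩⟩
  obtain ⟨tM, gM, hgM⟩ := Submodule.fg_iff_exists_fin_generating_family.1 (Module.Finite.fg_top : (⊤ : Submodule A M).FG)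
  obtain ⟨tN, gN, hgN⟩ := Submodule.fg_iff_exists_fin_generating_family.1 (Module.Finite.fg_top : (⊤ : Submodule B N).FG)
  let v : Fin (tM + tN) → N := Fin.append (fun l => u (gM l)) gN
  let aev : MvPolynomial (Fin m) A →ₐ[A] B := MvPolynomial.aeval b
  let ev : (Fin (tM + tN) → MvPolynomial (Fin m) A) →ₗ[A] N :=
    { toFun := fun p => ∑ j, aev (p j) • v j
      map_add' := fun p q => by simp [add_smul, Finset.sum_add_distrib]
      map_smul' := fun c p => by
        simp [Finset.smul_sum, smul_assoc] }
  have hevX : ∀ i p, ev (MvPolynomial.X (R := A) i • p) = b i • ev p := fun i p => by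
    simp [ev, aev, Finset.smul_sum, mul_smul]
  let Φ : ℕ → Submodule A N := fun k => (degLE k).map ev
  let M' : Submodule A N := LinearMap.range u
  have hM'0 : M' ≤ Φ 0 := by
    rw [show M' = LinearMap.range u from rfl, LinearMap.range_eq_map, ← hgM, Submodule.map_span, Submodule.span_le]
    rintro _ ⟨_, ⟨l, rfl⟩, rfl⟩
    refine ⟨Pi.single (Fin.castAdd tN l) 1, fun j d hd => ?_, ?_⟩
    · by_cases hj : j = Fin.castAdd tN l
      · subst hj
        rw [Pi.single_eq_same, MvPolynomial.coeff_one, if_neg]
        rintro rfl; simp at hd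
      · rw [Pi.single_eq_of_ne hj]; simp
    · simp [ev, v, Pi.single_apply, apply_ite aev, ite_smul]
  have hΦm : Monotone Φ := fun a c hac => Submodule.map_mono fun p hp j d hd => hp j d (by omega)
  have haev : Function.Surjective aev := by
    rw [← AlgHom.range_eq_top, ← Algebra.adjoin_range_eq_range_aeval, hb, hs₀]
  have hΦtop : ∀ x, ∃ k, x ∈ Φ k := by
    intro x
    have hx : x ∈ Submodule.span B (Set.range gN) := hgN ▸ Submodule.mem_top
    obtain ⟨c, rfl⟩ := (Submodule.mem_span_range_iff_exists_fun B).1 hx
    choose q hq using fun j => haev (c j)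
    let p : Fin (tM + tN) → MvPolynomial (Fin m) A := Fin.append (fun _ => 0) q
    refine ⟨Finset.univ.sup fun j => (p j).totalDegree, p, fun j d hd => ?_, ?_⟩
    · by_contra hne
      have := MvPolynomial.le_totalDegree (MvPolynomial.mem_support_iff.2 hne)
      have := Finset.le_sup (f := fun j => (p j).totalDegree) (Finset.mem_univ j)
      change _ < _ at hd
      rw [Finsupp.degree] at hd
      simp only [Finsupp.sum] at *
      change _ < ∑ i ∈ d.support, d i at hd
      omega
    · simp [ev, v, p, Fin.sum_univ_add, hq]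
  -- the associated graded module
  let Φ' : ℕ → Submodule A N := fun k => match k with
    | 0 => ⊥
    | k + 1 => Φ k
  have hΦ'X : ∀ i k x, x ∈ Φ' k → b i • x ∈ Φ' (k + 1) := by
    intro i k x hx
    cases k with
    | zero => rw [(Submodule.mem_bot A).1 hx, smul_zero]; exact zero_mem _
    | succ k =>
      obtain ⟨p, hp, rfl⟩ := hx
      refine ⟨MvPolynomial.X (R := A) i • p, fun j d hd => ?_, hevX i p⟩
      rw [Pi.smul_apply, smul_eq_mul, MvPolynomial.coeff_X_mul']
      split_ifs with hi
      · apply hp
        have h1 : Finsupp.single i 1 ≤ d := Finsupp.single_le_iff.2 (Nat.one_le_iff_ne_zero.2 (Finsupp.mem_support_iff.1 hi))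
        have h2 : Finsupp.degree (d - Finsupp.single i 1) + 1 = Finsupp.degree d := by
          conv_rhs => rw [← tsub_add_cancel_of_le h1]
          rw [map_add, Finsupp.degree_single]
        omega
      · rfl
  let K : Submodule (MvPolynomial (Fin m) A) (Fin (tM + tN) → MvPolynomial (Fin m) A) :=
    { carrier := {p | ∀ k, ev (hComp k p) ∈ Φ' k}
      zero_mem' := fun k => by simp
      add_mem' := fun {p q} hp hq k => by rw [map_add, map_add]; exact add_mem (hp k) (hq k)
      smul_mem' := by
        intro c
        induction c using MvPolynomial.induction_on with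
        | C a =>
          intro p hp k
          rw [show MvPolynomial.C a • p = a • p by rw [← MvPolynomial.algebraMap_eq, algebraMap_smul], map_smul, map_smul]
          exact Submodule.smul_mem _ _ (hp k)
        | add f g hf hg => intro p hp k; rw [add_smul, map_add, map_add]; exact add_mem (hf hp k) (hg hp k)
        | mul_X f i hf =>
          intro p hp k
          rw [mul_smul]
          refine hf (fun k' => ?_) k
          cases k' with
          | zero => rw [(hComp_X_smul i 0 p).2, map_zero]; exact zero_mem _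
          | succ k' => rw [(hComp_X_smul i k' p).1, hevX]; exact hΦ'X i k' _ (hp k') }
  haveI : Algebra.FiniteType R (MvPolynomial (Fin m) A) := Algebra.FiniteType.trans (S := A) inferInstance inferInstance
  haveI : Module.Finite A ↥(Φ 0) := by
    refine Module.Finite.iff_fg.2 ?_
    have : Φ 0 = Submodule.span A (Set.range v) := by
      refine le_antisymm ?_ ?_
      · rintro _ ⟨p, hp, rfl⟩
        show (∑ j, aev (p j) • v j) ∈ _
        refine Submodule.sum_mem _ fun j _ => ?_
        have hpj : p j = MvPolynomial.C (MvPolynomial.coeff 0 (p j)) := by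
          ext d
          rw [MvPolynomial.coeff_C]
          split_ifs with h
          · rw [← h]
          · exact hp j d (Nat.pos_of_ne_zero fun h0 => h ((Finsupp.degree_eq_zero_iff d).1 h0).symm)
        rw [hpj]; simp only [aev, MvPolynomial.aeval_C, algebraMap_smul]
        exact Submodule.smul_mem _ _ (Submodule.subset_span ⟨j, rfl⟩)
      · refine Submodule.span_le.2 ?_
        rintro _ ⟨j, rfl⟩
        refine ⟨Pi.single j 1, fun j' d hd => ?_, by simp [ev, Pi.single_apply, apply_ite aev, ite_smul]⟩
        by_cases hj : j' = j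
        · subst hj
          rw [Pi.single_eq_same, MvPolynomial.coeff_one, if_neg]
          rintro rfl; simp at hd
        · rw [Pi.single_eq_of_ne hj]; simp
    rw [this]; exact Submodule.fg_span (Set.finite_range v)
  obtain ⟨f₁, -, hf₁, hfree₁, -⟩ := Groth.Agent.GenFree.exists_generic (R := R) (S := A)
    (M := ↥(Φ 0) ⧸ M'.comap (Φ 0).subtype) (g := 1) one_ne_zero
  obtain ⟨f, hdvd, hf, hfreeG, -⟩ := Groth.Agent.GenFree.exists_generic (R := R) (S := MvPolynomial (Fin m) A)
    (M := (Fin (tM + tN) → MvPolynomial (Fin m) A) ⧸ K) hf₁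
  refine ⟨f, hf, ?_⟩
  haveI := flat_of_freeAt hfreeG
  haveI := flat_of_freeAt (hfree₁.of_dvd hdvd)
  haveI : Module.Flat R (Localization.Away f) := IsLocalization.flat _ (Submonoid.powers f)
  let π : N →ₗ[R] N ⧸ (LinearMap.range u).restrictScalars R := Submodule.mkQ _
  let Ψ : ℕ → Submodule R (N ⧸ (LinearMap.range u).restrictScalars R) := fun k =>
    ((Φ' k).restrictScalars R).map π
  have hflat : Module.Flat R (Localization.Away f ⊗[R] (N ⧸ (LinearMap.range u).restrictScalars R)) := by
    refine flat_of_chain Ψ ?_ ?_ ?_ fun k => ?_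
    · simp [Ψ, Φ']
    · refine monotone_nat_of_le_succ fun k => Submodule.map_mono ?_
      cases k with
      | zero => simp [Φ']
      | succ k => exact hΦm (Nat.le_succ k)
    · intro x
      obtain ⟨x, rfl⟩ := Submodule.mkQ_surjective _ x
      obtain ⟨k, hk⟩ := hΦtop x
      exact ⟨k + 1, x, hk, rfl⟩
    · cases k with
      | zero =>
        let φ : ↥(Φ 0) →ₗ[R] ↥(Ψ 1) ⧸ (Ψ 0).comap (Ψ 1).subtype :=
          (Submodule.mkQ _).comp (LinearMap.codRestrict (Ψ 1) (π.comp ((Φ 0).subtype.restrictScalars R)) fun x => ⟨x, x.2, rfl⟩)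
        have hker : ∀ x, φ x = 0 ↔ x ∈ M'.comap (Φ 0).subtype := by
          intro x
          refine (Submodule.Quotient.mk_eq_zero _).trans ?_
          show π (x : N) ∈ Ψ 0 ↔ (x : N) ∈ M'
          rw [show Ψ 0 = ⊥ by simp [Ψ, Φ'], Submodule.mem_bot]
          exact (Submodule.Quotient.mk_eq_zero _).trans Iff.rfl
        let φbar : (↥(Φ 0) ⧸ M'.comap (Φ 0).subtype) →ₗ[R] ↥(Ψ 1) ⧸ (Ψ 0).comap (Ψ 1).subtype :=
          (Submodule.liftQ ((M'.comap (Φ 0).subtype).restrictScalars R) φ fun x hx => (hker x).2 hx).comp
            (Submodule.Quotient.restrictScalarsEquiv R (M'.comap (Φ 0).subtype)).symm.toLinearMap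
        have hbij : Function.Bijective φbar := by
          constructor
          · refine (injective_iff_map_eq_zero _).2 fun x hx => ?_
            obtain ⟨x, rfl⟩ := Submodule.Quotient.mk_surjective _ x
            exact (Submodule.Quotient.mk_eq_zero _).2 ((hker x).1 hx)
          · intro y
            obtain ⟨⟨y, x, hx, rfl⟩, rfl⟩ := Submodule.Quotient.mk_surjective _ y
            exact ⟨Submodule.Quotient.mk ⟨x, hx⟩, rfl⟩
        let e := LinearEquiv.ofBijective φbar hbij
        exact flat_tensor_retract e.symm.toLinearMap e.toLinearMap (LinearMap.ext e.apply_symm_apply)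
      | succ k =>
        let rho : (Fin (tM + tN) → MvPolynomial (Fin m) A) →ₗ[R] ↥(Ψ (k + 2)) ⧸ (Ψ (k + 1)).comap (Ψ (k + 2)).subtype :=
          (Submodule.mkQ _).comp (LinearMap.codRestrict (Ψ (k + 2))
            ((π.comp (ev.restrictScalars R)).comp ((hComp (k + 1)).restrictScalars R)) fun p =>
              ⟨_, ⟨hComp (k + 1) p, fun j d hd => by rw [coeff_hComp, if_neg (by omega)], rfl⟩, rfl⟩)
        have hrho : ∀ p, rho p = 0 ↔ ev (hComp (k + 1) p) ∈ Φ k := by
          intro p
          refine (Submodule.Quotient.mk_eq_zero _).trans ⟨?_, fun h => ⟨_, h, rfl⟩⟩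
          rintro ⟨y, hy, hye⟩
          have h1 : y - ev (hComp (k + 1) p) ∈ M' := (Submodule.Quotient.eq _).1 hye
          simpa using sub_mem hy (hΦm (Nat.zero_le k) (hM'0 h1))
        have hrK : ∀ p, p ∈ K.restrictScalars R → rho p = 0 := fun p hp => (hrho p).2 (hp (k + 1))
        let r : ((Fin (tM + tN) → MvPolynomial (Fin m) A) ⧸ K) →ₗ[R] ↥(Ψ (k + 2)) ⧸ (Ψ (k + 1)).comap (Ψ (k + 2)).subtype :=
          (Submodule.liftQ (K.restrictScalars R) rho hrK).comp (Submodule.Quotient.restrictScalarsEquiv R K).symm.toLinearMap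
        have hrs : Function.Surjective rho := by
          intro y
          obtain ⟨⟨y, x, ⟨p, hp, rfl⟩, rfl⟩, rfl⟩ := Submodule.Quotient.mk_surjective _ y
          refine ⟨p, (Submodule.Quotient.eq _).2 ⟨ev (hComp (k + 1) p - p), ⟨_, fun j d hd => ?_, rfl⟩, ?_⟩⟩
          · rw [Pi.sub_apply, MvPolynomial.coeff_sub, coeff_hComp]
            split_ifs with hdk
            · exact sub_self _
            · rw [hp j d (by omega), sub_zero]
          · simp [π, map_sub] <;> rfl
        let σ : (Fin (tM + tN) → MvPolynomial (Fin m) A) →ₗ[R] ((Fin (tM + tN) → MvPolynomial (Fin m) A) ⧸ K) :=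
          (K.mkQ.restrictScalars R).comp ((hComp (k + 1)).restrictScalars R)
        have hσ : ∀ p, p ∈ LinearMap.ker rho → σ p = 0 := by
          intro p hp
          refine (Submodule.Quotient.mk_eq_zero _).2 fun k' => ?_
          by_cases hk' : k' = k + 1
          · subst hk'
            have : hComp (k + 1) (hComp (k + 1) p) = hComp (k + 1) p := by
              funext j; ext d; rw [coeff_hComp, coeff_hComp]; split_ifs <;> rfl
            show ev (hComp (k + 1) ((hComp (k + 1)).restrictScalars R p)) ∈ _
            rw [LinearMap.restrictScalars_apply, this]; exact (hrho p).1 hp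
          · have : hComp k' (hComp (k + 1) p) = 0 := by
              funext j; ext d; rw [coeff_hComp, coeff_hComp, Pi.zero_apply, MvPolynomial.coeff_zero]
              split_ifs <;> first | rfl | omega
            show ev (hComp k' ((hComp (k + 1)).restrictScalars R p)) ∈ _
            rw [LinearMap.restrictScalars_apply, this, map_zero]; exact zero_mem _
        let e := (Submodule.liftQ (LinearMap.ker rho) σ hσ).comp (rho.quotKerEquivOfSurjective hrs).symm.toLinearMap
        refine flat_tensor_retract e r (LinearMap.ext fun y => ?_)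
        obtain ⟨p, rfl⟩ := hrs y
        have h1 : (rho.quotKerEquivOfSurjective hrs).symm (rho p) = Submodule.Quotient.mk p := by
          rw [LinearEquiv.symm_apply_eq]; rfl
        show r (Submodule.liftQ (LinearMap.ker rho) σ hσ ((rho.quotKerEquivOfSurjective hrs).symm (rho p))) = rho p
        rw [h1]
        show rho (hComp (k + 1) p) = rho p
        have : hComp (k + 1) (hComp (k + 1) p) = hComp (k + 1) p := by
          funext j; ext d; rw [coeff_hComp, coeff_hComp]; split_ifs <;> rfl
        apply congrArg (Submodule.mkQ _)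
        apply Subtype.ext
        show π (ev (hComp (k + 1) (hComp (k + 1) p))) = π (ev (hComp (k + 1) p))
        rw [this]
  haveI := hflat
  haveI : Module.Flat (Localization.Away f) (Localization.Away f ⊗[R] (N ⧸ (LinearMap.range u).restrictScalars R)) :=
    (Module.flat_iff_of_isLocalization (Localization.Away f) (Submonoid.powers f) _).2 hflat
  exact Module.Flat.of_linearEquiv (LocalizedModule.equivTensorProduct (Submonoid.powers f) _)

end Groth.Agent.S1371
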