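import Groth.Statements.S13711
import Groth.Agent.IntImage.Spread
import Groth.Agent.FpqcDesc.Basic

set_option autoImplicit false
universe u
open CategoryTheory CategoryTheory.Limits AlgebraicGeometry
open ZeroCyc

namespace Groth.Agent.S13711

/-- A property descending along faithfully flat quasi-compact maps and stable under base change
passes from a flat base change to the local scheme at a point of the image. -/
theorem local_of_baseChange {X Y Y' : Scheme.{u}} (f : X ⟶ Y) (g : Y' ⟶ Y) [Flat g]
    (P : MorphismProperty Scheme.{u}) [P.IsStableUnderBaseChange]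
    (hdesc : P.DescendsAlong (@Surjective ⊓ @Flat ⊓ @QuasiCompact))
    (h : P (pullback.snd f g)) (y' : Y') :
    P (pullback.snd f (Y.fromSpecStalk (g y'))) := by
  let j := Y.fromSpecStalk (g y')
  let t := Y'.fromSpecStalk y'
  let φ := g.stalkMap y'
  have hff : φ.hom.FaithfullyFlat := by
    have h1 : φ.hom.Flat := Flat.stalkMap g y'
    algebraize [φ.hom]
    have : IsLocalHom (algebraMap (Y.presheaf.stalk (g y')) (Y'.presheaf.stalk y')) :=
      inferInstanceAs (IsLocalHom φ.hom)
    show RingHom.FaithfullyFlat (algebraMap (Y.presheaf.stalk (g y')) (Y'.presheaf.stalk y'))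
    rw [RingHom.faithfullyFlat_algebraMap_iff]
    exact Module.FaithfullyFlat.of_flat_of_isLocalHom
  obtain ⟨h2, h3⟩ := (flat_and_surjective_SpecMap_iff φ).mpr hff
  have hQ : (@Surjective ⊓ @Flat ⊓ @QuasiCompact : MorphismProperty Scheme.{u}) (Spec.map φ) :=
    ⟨⟨h3, h2⟩, inferInstance⟩
  have e : Spec.map φ ≫ j = t ≫ g := Scheme.SpecMap_stalkMap_fromSpecStalk g
  -- `X ×_Y Spec O_{y'}`
  have h4 : P (pullback.snd (pullback.snd f g) t) := MorphismProperty.pullback_snd _ _ h
  have H : IsPullback (pullback.fst (pullback.snd f g) t ≫ pullback.fst f g)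
      (pullback.snd (pullback.snd f g) t) f (Spec.map φ ≫ j) := by
    rw [e]
    exact (IsPullback.of_hasPullback _ t).paste_horiz (IsPullback.of_hasPullback f g)
  have H2 : IsPullback (pullback.lift _ (pullback.snd (pullback.snd f g) t ≫ Spec.map φ)
      (H.w.trans (Category.assoc _ _ _).symm))
      (pullback.snd (pullback.snd f g) t) (pullback.snd f j) (Spec.map φ) :=
    IsPullback.of_right (by rw [pullback.lift_fst]; exact H) (pullback.lift_snd _ _ _)
      (IsPullback.of_hasPullback f j)
  exact hdesc.of_isPullback H2.flip hQ h4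

/-- Let f : X → Y be a morphism of schemes and g : Y' → Y a faithfully flat morphism (flat and
surjective, not assumed quasi-compact). Then f is affine exactly when it is quasi-compact,
quasi-separated, and its base change X ×_Y Y' → Y' along g is affine. -/
theorem result {X Y Y' : Scheme.{u}} (f : X ⟶ Y) (g : Y' ⟶ Y)
    [Flat g] [Surjective g] :
    IsAffineHom f ↔ QuasiCompact f ∧ QuasiSeparated f ∧ IsAffineHom (pullback.snd f g) := by
  refine ⟨fun h => ⟨inferInstance, inferInstance, MorphismProperty.pullback_snd f g h⟩, ?_⟩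
  rintro ⟨hqc, hqs, h⟩
  refine IntImage.isAffineHom_of_local f fun y => ?_
  obtain ⟨y', rfl⟩ := g.surjective y
  exact local_of_baseChange f g @IsAffineHom FpqcDesc.isAffineHom_descends h y' 

end Groth.Agent.S13711
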