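import Groth.Statements.S13710
import Groth.Agent.S13709
import Groth.Agent.S13711
import Groth.Agent.S4366

set_option autoImplicit false
universe u
open CategoryTheory CategoryTheory.Limits AlgebraicGeometry
open ZeroCyc

namespace Groth.Agent.S13710

theorem stalkMap_isIso {X Y : Scheme.{u}} (j : X ⟶ Y) [Flat j] [IsPreimmersion j] (x : X) :
    IsIso (j.stalkMap x) := by
  rw [ConcreteCategory.isIso_iff_bijective]
  refine ⟨?_, j.stalkMap_surjective x⟩
  algebraize [(j.stalkMap x).hom]
  have : Module.FaithfullyFlat (Y.presheaf.stalk (j x)) (X.presheaf.stalk x) :=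
    @Module.FaithfullyFlat.of_flat_of_isLocalHom _ _ _ _ _ _ _
      (Flat.stalkMap j x) (j.toLRSHom.prop x)
  exact ‹RingHom.FaithfullyFlat _›.injective

/-- Let f : X → Y be a morphism of schemes and g : Y' → Y a faithfully flat morphism (flat and
surjective, not assumed quasi-compact). Then f is an isomorphism exactly when it is quasi-compact
and its base change X ×_Y Y' → Y' along g is an isomorphism. -/
theorem result {X Y Y' : Scheme.{u}} (f : X ⟶ Y) (g : Y' ⟶ Y)
    [Flat g] [Surjective g] :
    IsIso f ↔ QuasiCompact f ∧ IsIso (pullback.snd f g) := by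
  refine ⟨fun h => ⟨inferInstance, inferInstance⟩, ?_⟩
  rintro ⟨hqc, h⟩
  have hh : IsHomeomorph f.base :=
    S13709.result f g (pullback.snd f g).homeomorph.isHomeomorph
  rw [isIso_iff_isIso_stalkMap]
  refine ⟨?_, fun x => ?_⟩
  · exact TopCat.isIso_of_bijective_of_isOpenMap _ hh.bijective hh.isOpenMap
  obtain ⟨y', hy'⟩ := g.surjective (f x)
  let j := Y.fromSpecStalk (g y')
  have hiso : IsIso (pullback.snd f j) :=
    S13711.local_of_baseChange f g (MorphismProperty.isomorphisms Scheme.{u}) inferInstance h y'
  have : Flat j := IntImage.flat_fromSpecStalk _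
  obtain ⟨t, rfl, -⟩ := Scheme.Pullback.exists_preimage_pullback (f := f) (g := j) x
    (IsLocalRing.closedPoint _) (by rw [Scheme.fromSpecStalk_closedPoint, hy'])
  have h1 : IsIso ((pullback.fst f j).stalkMap t) := S4366.result f _ t
  have : Flat (pullback.snd f j ≫ j) := inferInstance
  have h2 : IsIso ((pullback.fst f j ≫ f).stalkMap t) := by
    rw [pullback.condition]
    exact stalkMap_isIso _ t
  rw [Scheme.Hom.stalkMap_comp] at h2
  exact @IsIso.of_isIso_comp_right _ _ _ _ _ _ ((pullback.fst f j).stalkMap t) h1 h2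

end Groth.Agent.S13710
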