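import Groth.Statements.S13712
import Groth.Agent.IntImage.Spread
import Groth.Agent.IntImage.Local
import Groth.Agent.FpqcDesc.Basic
import Groth.Agent.Henselization.Basic

set_option autoImplicit false
universe u
open CategoryTheory CategoryTheory.Limits AlgebraicGeometry
open ZeroCyc

namespace Groth.Agent.S13712

/-- A surjective closed map from a scheme integral over `S` with finite fibres to a scheme separated
and quasi-compact over `S`: the target is affine over `S`. -/
theorem isAffineHom_of_surjective {X Z S : Scheme.{u}} (h : X ⟶ Z) [Surjective h] [IsIntegralHom h]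
    (q : Z ⟶ S) [QuasiCompact q] [IsSeparated q] [IsIntegralHom (h ≫ q)]
    (hfin : ∀ s : S, Set.Finite ((h ≫ q) ⁻¹' {s})) : IsAffineHom q := by
  -- the local schemes
  have hloc : ∀ p : S, IsAffineHom (pullback.snd q (S.fromSpecStalk p)) := by
    intro p
    let R := S.presheaf.stalk p
    let H : CommRingCat.{u} := .of (Henselization.HenselizationRing R)
    have : HenselianLocalRing H := inferInstanceAs (HenselianLocalRing (Henselization.HenselizationRing R))
    let φ : R ⟶ H := CommRingCat.ofHom (algebraMap R (Henselization.HenselizationRing R))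
    have hres : Function.Surjective ((IsLocalRing.residue H).comp φ.hom) := by
      intro x
      obtain ⟨z, rfl⟩ := IsLocalRing.residue_surjective x
      obtain ⟨r, hr⟩ := IsLocalRing.residue_surjective
        (Henselization.εH R (IsLocalRing.ResidueField R) z)
      refine ⟨r, Ideal.Quotient.eq.mpr ?_⟩
      show algebraMap R (Henselization.HenselizationRing R) r - z ∈ IsLocalRing.maximalIdeal _
      rw [Henselization.mem_maximalIdeal_iff, map_sub, AlgHom.commutes,
        IsLocalRing.ResidueField.algebraMap_eq, hr, sub_self]
    have hff : φ.hom.FaithfullyFlat := by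
      show (algebraMap R (Henselization.HenselizationRing R)).FaithfullyFlat
      rw [RingHom.faithfullyFlat_algebraMap_iff]
      infer_instance
    have hQ : (@Surjective ⊓ @Flat ⊓ @QuasiCompact : MorphismProperty Scheme.{u}) (Spec.map φ) := by
      obtain ⟨h1, h2⟩ := (flat_and_surjective_SpecMap_iff φ).mpr hff
      exact ⟨⟨h2, h1⟩, inferInstance⟩
    let t : Spec H ⟶ S := Spec.map φ ≫ S.fromSpecStalk p
    let qH := pullback.snd q t
    let hH := pullback.snd h (pullback.fst q t)
    have HX : IsPullback (pullback.fst h (pullback.fst q t)) (hH ≫ qH) (h ≫ q) t :=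
      (IsPullback.of_hasPullback h (pullback.fst q t)).paste_vert (IsPullback.of_hasPullback q t)
    have : Surjective hH := MorphismProperty.pullback_snd h (pullback.fst q t) inferInstance
    have : IsIntegralHom hH := MorphismProperty.pullback_snd h (pullback.fst q t) inferInstance
    have : IsIntegralHom (hH ≫ qH) := MorphismProperty.of_isPullback HX inferInstance
    -- the closed fibre
    let c : Spec (CommRingCat.of (IsLocalRing.ResidueField H)) ⟶ Spec H :=
      Spec.map (CommRingCat.ofHom (IsLocalRing.residue H))
    have hc : Set.range c = {IsLocalRing.closedPoint H} := by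
      ext y
      constructor
      · rintro ⟨w, rfl⟩
        show c w = IsLocalRing.closedPoint H
        rw [Subsingleton.elim w (IsLocalRing.closedPoint (IsLocalRing.ResidueField H) : PrimeSpectrum _)]
        exact IsLocalRing.comap_closedPoint (IsLocalRing.residue H)
      · rintro rfl
        exact ⟨IsLocalRing.closedPoint _, IsLocalRing.comap_closedPoint (IsLocalRing.residue H)⟩
    have hfinH : Set.Finite ((hH ≫ qH) ⁻¹' {IsLocalRing.closedPoint H}) := by
      rw [← hc, ← Scheme.Pullback.range_fst]
      have HY : IsPullback (pullback.fst (hH ≫ qH) c ≫ pullback.fst h (pullback.fst q t))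
          (pullback.snd (hH ≫ qH) c) (h ≫ q) (c ≫ t) :=
        (IsPullback.of_hasPullback (hH ≫ qH) c).paste_horiz HX
      -- `pullback.fst ≫ pr` is injective: `c ≫ t` is a monomorphism
      have : IsPreimmersion (c ≫ t) := by
        have : IsClosedImmersion (Spec.map φ |> fun _ =>
            Spec.map (CommRingCat.ofHom ((IsLocalRing.residue H).comp φ.hom))) :=
          IsClosedImmersion.spec_of_surjective _ hres
        have e : c ≫ Spec.map φ =
            Spec.map (CommRingCat.ofHom ((IsLocalRing.residue H).comp φ.hom)) := by
          rw [← Spec.map_comp]; rfl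
        rw [show c ≫ t = (c ≫ Spec.map φ) ≫ S.fromSpecStalk p by simp [t], e]
        infer_instance
      have hpre : IsPreimmersion (pullback.fst (hH ≫ qH) c ≫ pullback.fst h (pullback.fst q t)) :=
        MorphismProperty.of_isPullback HY.flip ‹_›
      have hinj := hpre.base_embedding.injective
      have : Finite (pullback (hH ≫ qH) c : Scheme) := by
        have := (hfin ((c ≫ t) (IsLocalRing.closedPoint _))).to_subtype
        refine Finite.of_injective (β := (h ≫ q) ⁻¹' {(c ≫ t) (IsLocalRing.closedPoint _)})
          (fun z => ⟨(pullback.fst (hH ≫ qH) c ≫ pullback.fst h (pullback.fst q t)) z, ?_⟩)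
          fun a b hab => hinj (congrArg Subtype.val hab)
        rw [Set.mem_preimage, Set.mem_singleton_iff, ← Scheme.Hom.comp_apply, HY.w,
          Scheme.Hom.comp_apply]
        exact congrArg _ (Subsingleton.elim _ _)
      exact Set.finite_range _
    have : IsAffine (pullback q t) :=
      IntImage.isAffine_of_henselian hH hH.isClosedMap qH hfinH
    have haff : IsAffineHom qH := inferInstance
    -- descend along the henselization
    refine FpqcDesc.isAffineHom_descends.of_isPullback
      (IsPullback.of_right (h₁₁ := pullback.lift (pullback.fst q t) (qH ≫ Spec.map φ)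
        (by simp [qH, t, pullback.condition])) ?_ ?_
        (IsPullback.of_hasPullback q (S.fromSpecStalk p))).flip hQ haff
    · rw [pullback.lift_fst]
      exact IsPullback.of_hasPullback q t
    · exact pullback.lift_snd _ _ _
  exact IntImage.isAffineHom_of_local q hloc

/-- Let f : X → Y and g : Y → S be morphisms of schemes with g separated, such that the composite X → S
is integral with topologically finite fibres (every fibre is a finite set). Then the
scheme-theoretic image Y' of f, with its closed immersion Y' → Y, is integral over S, and Y' → S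
again has topologically finite fibres. (The published statement is for algebraic spaces; this row is
the case of schemes.) -/
theorem result {X Y S : Scheme.{u}} (f : X ⟶ Y) (g : Y ⟶ S)
    [IsSeparated g] [IsIntegralHom (f ≫ g)] (hfin : ∀ s : S, Set.Finite ((f ≫ g).base ⁻¹' {s})) :
    IsIntegralHom (f.imageι ≫ g) ∧ ∀ s : S, Set.Finite ((f.imageι ≫ g).base ⁻¹' {s}) := by
  have : IsIntegralHom f := IsIntegralHom.of_comp f g
  have : IsIntegralHom (f.toImage ≫ f.imageι ≫ g) := by rwa [f.toImage_imageι_assoc]
  have : IsIntegralHom f.toImage := IsIntegralHom.of_comp f.toImage (f.imageι ≫ g)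
  have hs : Surjective f.toImage := surjective_of_isDominant_of_isClosed_range f.toImage
    f.toImage.isClosedMap.isClosed_range
  have huc : UniversallyClosed (f.imageι ≫ g) :=
    UniversallyClosed.of_comp_surjective f.toImage (f.imageι ≫ g)
  have hfin' : ∀ s : S, Set.Finite ((f.toImage ≫ f.imageι ≫ g) ⁻¹' {s}) := by
    rw [f.toImage_imageι_assoc]; exact hfin
  have : IsAffineHom (f.imageι ≫ g) := isAffineHom_of_surjective f.toImage _ hfin'
  refine ⟨IsIntegralHom.iff_universallyClosed_and_isAffineHom.mpr ⟨huc, inferInstance⟩,
    fun s => ?_⟩
  refine ((hfin' s).image f.toImage).subset fun z hz => ?_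
  obtain ⟨x, rfl⟩ := f.toImage.surjective z
  exact ⟨x, by rw [Set.mem_preimage, Scheme.Hom.comp_apply]; exact hz, rfl⟩

end Groth.Agent.S13712
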