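import Groth.Statements.S13718
import Groth.Agent.ZC.Kernel

set_option autoImplicit false
universe u
open scoped TensorProduct
open ZeroCyc

namespace Groth.Agent.S13718

/-- Let φ : B' → B be a map of commutative algebras over the commutative ring A and F : B → A a
multiplicative polynomial law homogeneous of degree d, with push-forward the law F ∘ φ : B' → A.
Then the radical of the kernel of F ∘ φ equals the radical of the inverse image under φ of the
kernel of F: the support of the pushed-forward family of zero-cycles on Spec B' is the image of the
support of the family on Spec B. (The published statement is for affine morphisms X → Y → S of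
algebraic spaces; this row is the case of an affine base.) -/
theorem result {A : Type u} [CommRing A] {B : Type u} [CommRing B] [Algebra A B]
    {B' : Type u} [CommRing B'] [Algebra A B'] {d : ℕ} (F : PolLaw.MulLaw A B A d) (φ : B' →ₐ[A] B) :
    (PolLaw.ker (F.precomp φ).law).radical = ((PolLaw.ker F.law).comap φ).radical := by
  refine le_antisymm ?_ (Ideal.radical_mono (Groth.Agent.ZC.comap_ker_le F φ))
  refine fun b hb => ?_
  obtain ⟨n, hn⟩ := hb
  refine ⟨n * d, ?_⟩
  rw [pow_mul, Ideal.mem_comap, map_pow]
  have h := Groth.Agent.ZC.aeval_chi_mem_ker F (φ (b ^ n))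
  have h' := Groth.Agent.ZC.chi_of_mem_ker (F.precomp φ) (AlgHom.id A A) hn
  rw [Groth.Agent.ZC.chi_precomp, Algebra.TensorProduct.map_tmul, AlgHom.id_apply] at h'
  rw [h'] at h
  simp only [map_pow, map_neg, Polynomial.aeval_X] at h
  rw [neg_pow] at h
  simpa using (Ideal.unit_mul_mem_iff_mem _ ((isUnit_one.neg).pow d)).1 h

end Groth.Agent.S13718
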