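import Groth.Statements.S1372
import Groth.Agent.AffTest.Basic
-- import your own Groth.Agent.* helpers here

set_option autoImplicit false
universe u
open FlatMor

namespace Groth.Agent.S1372

section
open MvPolynomial

variable {A B : Type u} [CommRing A] [CommRing B] [Algebra A B]

/-- Substitution on the side of `B`. -/
noncomputable def subst {ι σ : Type*} (a : ι → MvPolynomial σ A) : MvPolynomial ι B →+* MvPolynomial σ B :=
  eval₂Hom C fun i => map (algebraMap A B) (a i)

theorem subst_map {ι σ : Type*} (a : ι → MvPolynomial σ A) (P : MvPolynomial ι A) :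
    subst a (map (algebraMap A B) P) = map (algebraMap A B) (aeval (R := A) a P) := by
  induction P using MvPolynomial.induction_on with
  | C r => simp [subst]
  | add p q hp hq => simp [map_add, hp, hq]
  | mul_X p i hp =>
    rw [map_mul, map_mul, map_mul, map_mul, hp]
    simp [subst]

/-- Two extensions of a field embed in a common field. -/
theorem exists_common_field (K L M : Type u) [Field K] [Field L] [Field M] (i : K →+* L) (j : K →+* M) :
    ∃ (F : Type u) (_ : Field F) (a : L →+* F) (b : M →+* F), a.comp i = b.comp j := by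
  letI := i.toAlgebra
  letI := j.toAlgebra
  haveI : Nontrivial (TensorProduct K L M) :=
    (Algebra.TensorProduct.includeLeft_injective (S := K) (A := L) (algebraMap K M).injective).nontrivial
  obtain ⟨P, hP⟩ := Ideal.exists_maximal (TensorProduct K L M)
  refine ⟨TensorProduct K L M ⧸ P, Ideal.Quotient.field P, (Ideal.Quotient.mk P).comp Algebra.TensorProduct.includeLeftRingHom,
    (Ideal.Quotient.mk P).comp (Algebra.TensorProduct.includeRight (R := K) (A := L) (B := M)).toRingHom, ?_⟩
  refine RingHom.ext fun x => congrArg (Ideal.Quotient.mk P) ?_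
  show (algebraMap K L x) ⊗ₜ[K] (1 : M) = (1 : L) ⊗ₜ[K] algebraMap K M x
  rw [Algebra.algebraMap_eq_smul_one, Algebra.algebraMap_eq_smul_one, TensorProduct.smul_tmul]

/-- Images of basic opens commute with substitution. -/
theorem image_basicOpen_subst {ι σ : Type u} (a : ι → MvPolynomial σ A) (h : MvPolynomial ι B) :
    PrimeSpectrum.comap (map (σ := σ) (algebraMap A B)) '' (PrimeSpectrum.basicOpen (subst a h) : Set (PrimeSpectrum (MvPolynomial σ B))) =
      PrimeSpectrum.comap (aeval (R := A) a).toRingHom ⁻¹'
        (PrimeSpectrum.comap (map (σ := ι) (algebraMap A B)) '' (PrimeSpectrum.basicOpen h : Set (PrimeSpectrum (MvPolynomial ι B)))) := by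
  refine Set.Subset.antisymm ?_ ?_
  · rintro _ ⟨P, hP, rfl⟩
    refine ⟨PrimeSpectrum.comap (subst a) P, hP, PrimeSpectrum.ext (Ideal.ext fun x => ?_)⟩
    show subst a (map (algebraMap A B) x) ∈ P.asIdeal ↔ map (algebraMap A B) (aeval (R := A) a x) ∈ P.asIdeal
    rw [subst_map]
  · rintro p' ⟨q, hq, hqp⟩
    let p := PrimeSpectrum.comap (aeval (R := A) a).toRingHom p'
    obtain ⟨F, instF, fa, fb, hab⟩ := exists_common_field p.asIdeal.ResidueField p'.asIdeal.ResidueField q.asIdeal.ResidueField
      (Ideal.ResidueField.map p.asIdeal p'.asIdeal (aeval (R := A) a).toRingHom rfl)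
      (Ideal.ResidueField.map p.asIdeal q.asIdeal (map (algebraMap A B)) (congrArg PrimeSpectrum.asIdeal hqp).symm)
    let u : MvPolynomial σ A →+* F := fa.comp (algebraMap _ p'.asIdeal.ResidueField)
    let v : MvPolynomial ι B →+* F := fb.comp (algebraMap _ q.asIdeal.ResidueField)
    have huv : ∀ x : MvPolynomial ι A, u (aeval (R := A) a x) = v (map (algebraMap A B) x) := fun x => by
      have := RingHom.congr_fun hab (algebraMap _ p.asIdeal.ResidueField x)
      rw [RingHom.comp_apply, RingHom.comp_apply] at this; erw [Ideal.ResidueField.map_algebraMap, Ideal.ResidueField.map_algebraMap] at this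
      exact this
    let w : MvPolynomial σ B →+* F := eval₂Hom (v.comp C) fun s => u (X s)
    have hw : w.comp (map (algebraMap A B)) = u := by
      refine ringHom_ext (fun r => ?_) fun s => ?_
      · show w (map (algebraMap A B) (C r)) = u (C r)
        have := huv (C r)
        rw [aeval_C, map_C, algebraMap_eq] at this
        rw [map_C, this]
        exact eval₂Hom_C _ _ _
      · simp [w]
    have hv : w.comp (subst a) = v := by
      refine ringHom_ext (fun r => ?_) fun i => ?_
      · simp [w, subst]
      · show w (subst a (X i)) = v (X i)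
        have := huv (X i)
        rw [aeval_X, map_X] at this
        rw [subst, eval₂Hom_X', ← RingHom.comp_apply, hw, this]
    refine ⟨⟨RingHom.ker w, RingHom.ker_isPrime w⟩, ?_, PrimeSpectrum.ext (Ideal.ext fun x => ?_)⟩
    · show w (subst a h) ≠ 0
      rw [← RingHom.comp_apply, hv]
      exact (map_ne_zero fb).2 fun h0 => hq (Ideal.algebraMap_residueField_eq_zero.1 h0)
    · show w (map (algebraMap A B) x) = 0 ↔ x ∈ p'.asIdeal
      rw [← RingHom.comp_apply, hw]
      exact (map_eq_zero fa).trans Ideal.algebraMap_residueField_eq_zero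

theorem exists_subst_eq {κ : Type*} [Fintype κ] (b : κ → B) (hb : Submodule.span A (Set.range b) = ⊤) {σ : Type*}
    (f : MvPolynomial σ B) : ∃ a : κ → MvPolynomial σ A, f = ∑ i, map (algebraMap A B) (a i) * C (b i) := by
  induction f using MvPolynomial.induction_on' with
  | monomial m c =>
    obtain ⟨r, hr⟩ := (Submodule.mem_span_range_iff_exists_fun A).1 (show c ∈ Submodule.span A (Set.range b) by rw [hb]; trivial)
    refine ⟨fun i => monomial m (r i), ?_⟩
    rw [← hr, map_sum]
    refine Finset.sum_congr rfl fun i _ => ?_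
    rw [map_monomial, Algebra.smul_def, mul_comm (monomial m _), C_mul_monomial, mul_comm]
  | add p q hp hq =>
    obtain ⟨a, rfl⟩ := hp
    obtain ⟨a', rfl⟩ := hq
    exact ⟨a + a', by simp only [Pi.add_apply, map_add, add_mul, Finset.sum_add_distrib]⟩

theorem affineSpace_map_isOpenMap_iff (σ : Type u) :
    IsOpenMap ⇑(AlgebraicGeometry.AffineSpace.map σ (AlgebraicGeometry.Spec.map (CommRingCat.ofHom (algebraMap A B)))) ↔
      IsOpenMap (PrimeSpectrum.comap (map (σ := σ) (algebraMap A B))) := by
  rw [AlgebraicGeometry.AffineSpace.map_SpecMap]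
  let e₁ := (AlgebraicGeometry.AffineSpace.SpecIso σ (CommRingCat.of B)).hom.homeomorph
  let e₂ := (AlgebraicGeometry.AffineSpace.SpecIso σ (CommRingCat.of A)).inv.homeomorph
  refine ⟨fun H => ?_, fun H => e₂.isOpenMap.comp (H.comp e₁.isOpenMap)⟩
  intro U hU
  have h1 := H (e₁ ⁻¹' U) (hU.preimage e₁.continuous)
  have h2 : e₂ '' (PrimeSpectrum.comap (map (σ := σ) (algebraMap A B)) '' U) =
      (fun x => e₂ (PrimeSpectrum.comap (map (σ := σ) (algebraMap A B)) (e₁ x))) '' (e₁ ⁻¹' U) := by
    refine Eq.trans ?_ ((Set.image_image _ _ _).trans (Set.image_image _ _ _))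
    exact congrArg (fun V => e₂ '' (PrimeSpectrum.comap (map (σ := σ) (algebraMap A B)) '' V)) (Set.image_preimage_eq U e₁.surjective).symm
  refine e₂.isOpen_image.1 ?_
  exact h2 ▸ h1

end

open AlgebraicGeometry CategoryTheory Limits in
/-- Let A → B be a ring map and b_1, ..., b_d elements generating B as an A-module. Let h = Σ x_i b_i in
the polynomial ring B[x_1, ..., x_d]. Then universal openness of Spec B → Spec A is equivalent to
openness of the image in Spec A[x_1, ..., x_d] of the basic open D(h). -/
theorem result {A B : Type u} [CommRing A] [CommRing B] [Algebra A B] {d : ℕ} (b : Fin d → B)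
    (hb : Submodule.span A (Set.range b) = ⊤) :
    UniversallyOpen (Spec.map (CommRingCat.ofHom (algebraMap A B))) ↔
      IsOpen (PrimeSpectrum.comap (MvPolynomial.map (σ := Fin d) (algebraMap A B)) ''
        (PrimeSpectrum.basicOpen (∑ i : Fin d, MvPolynomial.X i * MvPolynomial.C (b i)) : Set (PrimeSpectrum (MvPolynomial (Fin d) B)))) := by
  classical
  rw [AffTest.universallyOpen_iff]
  simp only [affineSpace_map_isOpenMap_iff]
  let b' : ULift.{u} (Fin d) → B := fun i => b i.down
  let h' : MvPolynomial (ULift.{u} (Fin d)) B := ∑ i, MvPolynomial.X i * MvPolynomial.C (b' i)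
  let h : MvPolynomial (Fin d) B := ∑ i : Fin d, MvPolynomial.X i * MvPolynomial.C (b i)
  constructor
  · intro H
    have h1 := H d _ (PrimeSpectrum.basicOpen h').isOpen
    let e : MvPolynomial (ULift.{u} (Fin d)) A ≃ₐ[A] MvPolynomial (Fin d) A := MvPolynomial.renameEquiv A Equiv.ulift
    let eB : MvPolynomial (ULift.{u} (Fin d)) B ≃ₐ[B] MvPolynomial (Fin d) B := MvPolynomial.renameEquiv B Equiv.ulift
    have he : eB h' = h := by
      simp only [eB, h', h, b', map_sum, map_mul, MvPolynomial.renameEquiv_apply, MvPolynomial.rename_X, MvPolynomial.rename_C]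
      exact Equiv.ulift.sum_comp fun i => MvPolynomial.X i * MvPolynomial.C (b i)
    convert h1.preimage (PrimeSpectrum.continuous_comap e.toRingEquiv.toRingHom) using 1
    refine Set.Subset.antisymm ?_ ?_
    · rintro _ ⟨P, hP, rfl⟩
      refine ⟨PrimeSpectrum.comap eB.toRingEquiv.toRingHom P, ?_, PrimeSpectrum.ext (Ideal.ext fun x => ?_)⟩
      · show eB h' ∉ P.asIdeal
        rw [he]; exact hP
      · show eB (MvPolynomial.map (algebraMap A B) x) ∈ P.asIdeal ↔ MvPolynomial.map (algebraMap A B) (e x) ∈ P.asIdeal
        simp only [e, eB, MvPolynomial.renameEquiv_apply, MvPolynomial.map_rename]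
    · rintro p ⟨P, hP, hPp⟩
      refine ⟨PrimeSpectrum.comap eB.symm.toRingEquiv.toRingHom P, ?_, PrimeSpectrum.ext (Ideal.ext fun x => ?_)⟩
      · show eB.symm h ∉ P.asIdeal
        rw [← he, eB.symm_apply_apply]; exact hP
      · show eB.symm (MvPolynomial.map (algebraMap A B) x) ∈ P.asIdeal ↔ x ∈ p.asIdeal
        have := Ideal.ext_iff.1 (congrArg PrimeSpectrum.asIdeal hPp) (e.symm x)
        simp only [Ideal.mem_comap, PrimeSpectrum.comap_asIdeal] at this
        simp only [e, eB, MvPolynomial.renameEquiv_symm, MvPolynomial.renameEquiv_apply, MvPolynomial.map_rename] at this ⊢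
        refine this.trans ?_
        show MvPolynomial.rename Equiv.ulift (MvPolynomial.rename Equiv.ulift.symm x) ∈ p.asIdeal ↔ _
        rw [MvPolynomial.rename_rename, Equiv.self_comp_symm, MvPolynomial.rename_id_apply]
  · intro H n
    rw [PrimeSpectrum.isTopologicalBasis_basic_opens.isOpenMap_iff]
    rintro _ ⟨f, rfl⟩
    obtain ⟨a, rfl⟩ := exists_subst_eq b' (by
      rw [show b' = b ∘ Equiv.ulift from rfl, Equiv.ulift.surjective.range_comp]; exact hb) f
    have hf : subst a h' = ∑ i, MvPolynomial.map (algebraMap A B) (a i) * MvPolynomial.C (b' i) := by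
      simp [h', subst]
    rw [← hf, image_basicOpen_subst a h']
    refine IsOpen.preimage (PrimeSpectrum.continuous_comap _) ?_
    let c : ULift.{u} (Fin d) → MvPolynomial (ULift.{u} (Fin d)) A := MvPolynomial.X
    let φ : MvPolynomial (Fin d) A →+* MvPolynomial (ULift.{u} (Fin d)) A := (MvPolynomial.rename ULift.up).toRingHom
    convert H.preimage (PrimeSpectrum.continuous_comap φ) using 1
    refine Set.Subset.antisymm ?_ ?_
    · rintro _ ⟨P, hP, rfl⟩
      refine ⟨PrimeSpectrum.comap (MvPolynomial.rename (R := B) ULift.up).toRingHom P, ?_, PrimeSpectrum.ext (Ideal.ext fun x => ?_)⟩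
      · show MvPolynomial.rename ULift.up h ∉ P.asIdeal
        have : MvPolynomial.rename ULift.up h = h' := by
          simp only [h, h', b', map_sum, map_mul, MvPolynomial.rename_X, MvPolynomial.rename_C]
          exact (Equiv.ulift.symm.sum_comp fun i : ULift.{u} (Fin d) => MvPolynomial.X i * MvPolynomial.C (b i.down))
        rw [this]; exact hP
      · show MvPolynomial.rename ULift.up (MvPolynomial.map (algebraMap A B) x) ∈ P.asIdeal ↔
          MvPolynomial.map (algebraMap A B) (MvPolynomial.rename ULift.up x) ∈ P.asIdeal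
        rw [MvPolynomial.map_rename]
    · rintro p ⟨P, hP, hPp⟩
      refine ⟨PrimeSpectrum.comap (MvPolynomial.rename (R := B) ULift.down).toRingHom P, ?_, PrimeSpectrum.ext (Ideal.ext fun x => ?_)⟩
      · show MvPolynomial.rename ULift.down h' ∉ P.asIdeal
        have : MvPolynomial.rename ULift.down h' = h := by
          simp only [h, h', b', map_sum, map_mul, MvPolynomial.rename_X, MvPolynomial.rename_C]
          exact (Equiv.ulift.sum_comp fun i : Fin d => MvPolynomial.X i * MvPolynomial.C (b i))
        rw [this]; exact hP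
      · show MvPolynomial.rename ULift.down (MvPolynomial.map (algebraMap A B) x) ∈ P.asIdeal ↔ x ∈ p.asIdeal
        have := Ideal.ext_iff.1 (congrArg PrimeSpectrum.asIdeal hPp) (MvPolynomial.rename ULift.down x)
        rw [← MvPolynomial.map_rename]
        refine Iff.trans this ?_
        show MvPolynomial.rename ULift.up (MvPolynomial.rename ULift.down x) ∈ p.asIdeal ↔ _
        rw [MvPolynomial.rename_rename, show (ULift.up ∘ ULift.down : ULift.{u} (Fin d) → _) = id from rfl,
          MvPolynomial.rename_id_apply]

end Groth.Agent.S1372
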