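import Groth.Statements.S13721
import Groth.Agent.ZC.KerBCMem

set_option autoImplicit false
universe u
open scoped TensorProduct
open ZeroCyc

namespace Groth.Agent.S13721

/-- Let F : B → A be a multiplicative polynomial law homogeneous of degree d over the commutative ring
A, on a commutative A-algebra B which is finite as an A-module, and let A' be the filtered direct
limit of a directed system (A'_i, t_ij) of commutative A-algebras (t_ii the identity, t_jk ∘ t_ij =
t_ik) with structure maps φ_i : A'_i → A' (compatible with the t_ij, jointly surjective, and an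
element of A'_i vanishing in A' already vanishes in some A'_j). Then the kernel of the base change
of F to A', an ideal of A' ⊗_A B, is the supremum over i of the extensions along φ_i ⊗ B of the
kernels of the base changes of F to the A'_i: the kernel of the base-changed law is the direct limit
of the kernels. (The published statement has no finiteness hypothesis on B and is false without one:
for a suitable algebra B that is not finitely generated and a suitable directed system of quotients
of A, an element of A' ⊗_A B lies in the kernel over the limit although it comes from the kernel at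
no finite stage, because the conditions cutting out the kernel at an element are infinitely many and
die one at a time along the system; the published proof's reduction to finite B does not go through.
This row assumes B finite over A, the case that proof establishes.) -/
theorem result {A : Type u} [CommRing A] {B : Type u} [CommRing B] [Algebra A B]
    [Module.Finite A B] {A' : Type u} [CommRing A'] [Algebra A A'] {ι : Type u} [Preorder ι] [IsDirected ι (fun i j => i ≤ j)] [Nonempty ι]
    (Ai : ι → Type u) [∀ i, CommRing (Ai i)] [∀ i, Algebra A (Ai i)]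
    (t : ∀ i j : ι, i ≤ j → (Ai i →ₐ[A] Ai j)) (φ : ∀ i : ι, Ai i →ₐ[A] A')
    (hcomp : ∀ (i j : ι) (h : i ≤ j), (φ j).comp (t i j h) = φ i)
    (hsurj : ∀ a : A', ∃ (i : ι) (x : Ai i), φ i x = a)
    (hzero : ∀ (i : ι) (x : Ai i), φ i x = 0 → ∃ (j : ι) (h : i ≤ j), t i j h x = 0)
    (hid : ∀ (i : ι) (h : i ≤ i), t i i h = AlgHom.id A (Ai i))
    (htrans : ∀ (i j k : ι) (hij : i ≤ j) (hjk : j ≤ k), (t j k hjk).comp (t i j hij) = t i k (hij.trans hjk))
    {d : ℕ} (F : PolLaw.MulLaw A B A d) :
    PolLaw.kerBC F.law A' =
      ⨆ i : ι, (PolLaw.kerBC F.law (Ai i)).map (Algebra.TensorProduct.map (φ i) (AlgHom.id A B)) := by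
  classical
  open Groth.Agent.ZC in
  refine le_antisymm (fun z hz => ?_) (iSup_le fun i => Ideal.map_le_iff_le_comap.2 fun z hz => map_mem_kerBC F (φ i) hz)
  have hlift : ∀ z : A' ⊗[A] B, ∃ (i : ι) (y : Ai i ⊗[A] B),
      Algebra.TensorProduct.map (φ i) (AlgHom.id A B) y = z := fun z => by
    induction z using TensorProduct.induction_on with
    | zero => exact ⟨Classical.arbitrary ι, 0, map_zero _⟩
    | tmul a b =>
      obtain ⟨i, a', rfl⟩ := hsurj a
      exact ⟨i, a' ⊗ₜ[A] b, rfl⟩
    | add x y hx hy =>
      obtain ⟨i, x', rfl⟩ := hx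
      obtain ⟨j, y', rfl⟩ := hy
      obtain ⟨k, hik, hjk⟩ := directed_of (· ≤ ·) i j
      refine ⟨k, Algebra.TensorProduct.map (t i k hik) (AlgHom.id A B) x' +
        Algebra.TensorProduct.map (t j k hjk) (AlgHom.id A B) y', ?_⟩
      rw [map_add, Groth.Agent.ZC.map_map, Groth.Agent.ZC.map_map, hcomp, hcomp]
  obtain ⟨i, y, rfl⟩ := hlift z
  obtain ⟨r, g, hg⟩ := Module.Finite.exists_fin (R := A) (M := B)
  let p := Groth.Agent.ZC.variation F g y
  have hp : MvPolynomial.map (φ i).toRingHom p = 0 := by
    rw [Groth.Agent.ZC.map_variation]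
    exact (Groth.Agent.ZC.variation_eq_zero_iff F hg _).2 hz
  have hc : ∀ ν, ∃ j, ∃ h : i ≤ j, t i j h (p.coeff ν) = 0 := fun ν => hzero i _ (by
    have := congrArg (MvPolynomial.coeff ν) hp
    simpa [MvPolynomial.coeff_map] using this)
  choose j hij hj using hc
  obtain ⟨k, hk⟩ := Finset.exists_le (insert i (p.support.image j))
  have hik : i ≤ k := hk i (Finset.mem_insert_self _ _)
  have hpk : MvPolynomial.map (t i k hik).toRingHom p = 0 := MvPolynomial.ext _ _ fun ν => by
    rw [MvPolynomial.coeff_map, MvPolynomial.coeff_zero]
    by_cases hν : ν ∈ p.support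
    · have hjk := hk (j ν) (Finset.mem_insert_of_mem (Finset.mem_image_of_mem _ hν))
      show t i k hik (p.coeff ν) = 0
      rw [← htrans i (j ν) k (hij ν) hjk, AlgHom.comp_apply, hj, map_zero]
    · rw [MvPolynomial.notMem_support_iff.1 hν, map_zero]
  rw [Groth.Agent.ZC.map_variation] at hpk
  have hmem := (Groth.Agent.ZC.variation_eq_zero_iff F hg _).1 hpk
  refine Ideal.mem_iSup_of_mem k ?_
  have h := Ideal.mem_map_of_mem (Algebra.TensorProduct.map (φ k) (AlgHom.id A B)) hmem
  rwa [Groth.Agent.ZC.map_map, hcomp] at h

end Groth.Agent.S13721
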