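import Groth.Statements.S13725
import Mathlib

set_option autoImplicit false
universe u
open scoped TensorProduct
open ZeroCyc

namespace Groth.Agent.S13725

/-- Let k be a field of characteristic p > 0 and let F : k → k be the law x ↦ x^p, multiplicative and
homogeneous of degree p over k. The kernel of F is the zero ideal, but after the flat base change k
→ A' = k[X]/(X^p) the kernel of the base-changed law on A' ⊗_k k is not zero (the class of X lies in
it). So in characteristic p, forming the kernel of a multiplicative law is not compatible with flat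
base change. -/
theorem result {k : Type u} [Field k] (p : ℕ) [Fact p.Prime] [CharP k p] :
    PolLaw.ker (PolLaw.MulLaw.pow k k p).law = ⊥ ∧
      PolLaw.kerBC (PolLaw.MulLaw.pow k k p).law (AdjoinRoot ((Polynomial.X : Polynomial k) ^ p)) ≠ ⊥ := by
  have hp := (Fact.out : p.Prime)
  refine ⟨eq_bot_iff.2 fun b hb => ?_, fun h => ?_⟩
  · have h1 := hb k 0 1
    change (0 + 1 * ((1 : k) ⊗ₜ[k] b)) ^ p = (0 : k ⊗[k] k) ^ p at h1
    rw [zero_add, one_mul, zero_pow hp.ne_zero] at h1
    have h2 := congrArg (Algebra.TensorProduct.lid k k) h1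
    rw [map_pow, map_zero, Algebra.TensorProduct.lid_tmul, one_smul] at h2
    exact (Ideal.mem_bot).2 (pow_eq_zero_iff hp.ne_zero |>.1 h2)
  · set A' := AdjoinRoot ((Polynomial.X : Polynomial k) ^ p)
    have hmem : (AdjoinRoot.root ((Polynomial.X : Polynomial k) ^ p)) ⊗ₜ[k] (1 : k) ∈
        PolLaw.kerBC (PolLaw.MulLaw.pow k k p).law A' := by
      intro R _ _ _ _ x w
      set z := Algebra.TensorProduct.map (IsScalarTower.toAlgHom k A' R) (AlgHom.id k k)
        ((AdjoinRoot.root ((Polynomial.X : Polynomial k) ^ p)) ⊗ₜ[k] (1 : k))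
      have hz : z ^ p = 0 := by
        simp only [z, ← map_pow, Algebra.TensorProduct.tmul_pow]
        have : (AdjoinRoot.root ((Polynomial.X : Polynomial k) ^ p)) ^ p = 0 := by
          have := AdjoinRoot.eval₂_root ((Polynomial.X : Polynomial k) ^ p)
          simpa using this
        rw [this, TensorProduct.zero_tmul, map_zero]
      show (x + w * z) ^ p = x ^ p
      obtain ⟨t, ht⟩ := exists_add_pow_prime_eq hp x (w * z)
      have hp0 : (p : R ⊗[k] k) = 0 := by
        rw [← map_natCast (algebraMap k (R ⊗[k] k)), CharP.cast_eq_zero, map_zero]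
      rw [ht, hp0, mul_pow, hz]
      simp
    rw [h, Ideal.mem_bot] at hmem
    have h2 := congrArg (Algebra.TensorProduct.rid k k A') hmem
    rw [Algebra.TensorProduct.rid_tmul, one_smul, map_zero, AdjoinRoot.root, AdjoinRoot.mk_eq_zero] at h2
    have := Polynomial.natDegree_le_of_dvd h2 Polynomial.X_ne_zero
    rw [Polynomial.natDegree_X_pow, Polynomial.natDegree_X] at this
    have := hp.two_le
    omega

end Groth.Agent.S13725
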