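import Groth.Statements.S13726
import Mathlib
set_option maxHeartbeats 1000000
open MvPolynomial
open scoped TensorProduct
-- import your own Groth.Agent.* helpers here

set_option autoImplicit false
universe u
open scoped TensorProduct
open ZeroCyc

namespace Groth.Agent.S13726

/-- Let k be a field of characteristic p > 0 and A = k[t_i : i ∈ ℕ]/(t_i^p : i ∈ ℕ). The law x ↦ x^p
from A to A is multiplicative and homogeneous of degree p over A; its kernel is the ideal generated
by the classes of the variables t_i, and this ideal is not finitely generated. Hence the image of a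
family of zero-cycles need not be of finite presentation over the base even when X → S is. -/
theorem result {k : Type u} [Field k] (p : ℕ) [Fact p.Prime] [CharP k p] :
    PolLaw.ker (PolLaw.MulLaw.pow
        (MvPolynomial ℕ k ⧸ Ideal.span (Set.range fun i : ℕ => (MvPolynomial.X i : MvPolynomial ℕ k) ^ p))
        (MvPolynomial ℕ k ⧸ Ideal.span (Set.range fun i : ℕ => (MvPolynomial.X i : MvPolynomial ℕ k) ^ p)) p).law =
      (Ideal.span (Set.range fun i : ℕ => (MvPolynomial.X i : MvPolynomial ℕ k))).map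
        (Ideal.Quotient.mk (Ideal.span (Set.range fun i : ℕ => (MvPolynomial.X i : MvPolynomial ℕ k) ^ p))) ∧
    ¬ (PolLaw.ker (PolLaw.MulLaw.pow
        (MvPolynomial ℕ k ⧸ Ideal.span (Set.range fun i : ℕ => (MvPolynomial.X i : MvPolynomial ℕ k) ^ p))
        (MvPolynomial ℕ k ⧸ Ideal.span (Set.range fun i : ℕ => (MvPolynomial.X i : MvPolynomial ℕ k) ^ p)) p).law).FG := by
  classical
  set J : Ideal (MvPolynomial ℕ k) := Ideal.span (Set.range fun i : ℕ => (X i : (MvPolynomial ℕ k)) ^ p) with hJ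
  set M : Ideal (MvPolynomial ℕ k) := Ideal.span (Set.range fun i : ℕ => (X i : (MvPolynomial ℕ k))) with hM
  have hp : p.Prime := Fact.out
  let A := (MvPolynomial ℕ k) ⧸ J
  haveI : CharP (MvPolynomial ℕ k) p := inferInstance
  have hp0 : (p : A) = 0 := by
    rw [← map_natCast (Ideal.Quotient.mk J), CharP.cast_eq_zero, map_zero]
  have hpow : ∀ f : (MvPolynomial ℕ k), f ∈ M → f ^ p ∈ J := by
    intro f hf
    rw [hM] at hf
    induction hf using Submodule.span_induction with
    | mem x hx => obtain ⟨i, rfl⟩ := hx; exact Ideal.subset_span ⟨i, rfl⟩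
    | zero => rw [zero_pow hp.ne_zero]; exact zero_mem _
    | add x y _ _ hx hy => rw [add_pow_char]; exact add_mem hx hy
    | smul a x _ hx => rw [smul_eq_mul, mul_pow]; exact Ideal.mul_mem_left _ _ hx
  have hker : ∀ b : A, b ∈ PolLaw.ker (PolLaw.MulLaw.pow A A p).law ↔ b ^ p = 0 := by
    intro b
    constructor
    · intro h
      have h1 : ((0 : A ⊗[A] A) + 1 * ((1 : A) ⊗ₜ[A] b)) ^ p = (0 : A ⊗[A] A) ^ p := h A 0 1
      simp only [zero_add, one_mul, zero_pow hp.ne_zero, Algebra.TensorProduct.tmul_pow, one_pow] at h1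
      have h2 : b ^ p = (0 : A) ^ p := by simpa using congrArg (Algebra.TensorProduct.lid A A) h1
      exact h2.trans (zero_pow hp.ne_zero)
    · intro h S _ _ x w
      show (x + w * ((1 : S) ⊗ₜ[A] b)) ^ p = x ^ p
      obtain ⟨r, hr⟩ := exists_add_pow_prime_eq hp x (w * ((1 : S) ⊗ₜ[A] b))
      rw [hr, mul_pow, Algebra.TensorProduct.tmul_pow, h, TensorProduct.tmul_zero, mul_zero, add_zero]
      have hpz : ((p : ℕ) : S ⊗[A] A) = 0 := by
        refine ((map_natCast (Algebra.TensorProduct.includeRight : A →ₐ[A] S ⊗[A] A) p).symm).trans ?_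
        rw [hp0, map_zero]
      simp [hpz]
  have heq : PolLaw.ker (PolLaw.MulLaw.pow A A p).law = M.map (Ideal.Quotient.mk J) := by
    ext b
    obtain ⟨f, rfl⟩ := Ideal.Quotient.mk_surjective b
    rw [hker, ← map_pow, Ideal.Quotient.eq_zero_iff_mem]
    constructor
    · intro h
      let c : (MvPolynomial ℕ k) →+* k := constantCoeff
      have hc : J ≤ RingHom.ker c := by
        rw [hJ, Ideal.span_le]
        rintro _ ⟨i, rfl⟩
        simp [c, zero_pow hp.ne_zero]
      have h0 : (constantCoeff f) ^ p = 0 := by rw [← map_pow]; exact hc h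
      refine Ideal.mem_map_of_mem _ ?_
      have hMk : M = RingHom.ker (constantCoeff : (MvPolynomial ℕ k) →+* k) := by
        refine le_antisymm (Ideal.span_le.2 (by rintro _ ⟨i, rfl⟩; simp)) fun g hg => ?_
        rw [hM, ← Set.image_univ, mem_ideal_span_X_image]
        intro m hm
        by_contra hcon
        push Not at hcon
        have : m = 0 := Finsupp.ext fun i => by simpa using hcon i (Set.mem_univ i)
        subst this
        exact (MvPolynomial.mem_support_iff.1 hm) (by simpa [constantCoeff_eq] using RingHom.mem_ker.1 hg)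
      rw [hMk]
      exact RingHom.mem_ker.2 (pow_eq_zero_iff hp.ne_zero |>.1 h0)
    · intro h
      obtain ⟨g, hg, hgf⟩ := (Ideal.mem_map_iff_of_surjective _ Ideal.Quotient.mk_surjective).1 h
      rw [← Ideal.Quotient.eq_zero_iff_mem, map_pow, ← hgf, ← map_pow, Ideal.Quotient.eq_zero_iff_mem]
      exact hpow g hg
  refine ⟨heq, ?_⟩
  show ¬ (PolLaw.ker (PolLaw.MulLaw.pow A A p).law).FG
  rw [heq]
  rintro ⟨s, hs⟩
  have hlift : ∀ b ∈ s, ∃ f ∈ M, Ideal.Quotient.mk J f = b := fun b hb =>
    (Ideal.mem_map_iff_of_surjective _ Ideal.Quotient.mk_surjective).1 (hs ▸ Ideal.subset_span hb)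
  choose g hgM hg using hlift
  obtain ⟨N, hN⟩ : ∃ N : ℕ, ∀ (b : A) (hb : b ∈ s), N ∉ (g b hb).vars :=
    ⟨((s.attach.biUnion fun b => (g b.1 b.2).vars).sup id) + 1, fun b hb hmem => by
      have h1 : (((s.attach.biUnion fun b => (g b.1 b.2).vars).sup id) + 1 : ℕ) ≤
          (s.attach.biUnion fun b => (g b.1 b.2).vars).sup id :=
        Finset.le_sup (f := id) (Finset.mem_biUnion.2 ⟨⟨b, hb⟩, Finset.mem_attach _ _, hmem⟩)
      omega⟩
  let v : ℕ → DualNumber k := fun i => if i = N then DualNumber.eps else 0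
  let φ : (MvPolynomial ℕ k) →ₐ[k] DualNumber k := aeval v
  have hφJ : ∀ a ∈ J, φ a = 0 := by
    intro a ha
    refine (Ideal.span_le.2 ?_ : J ≤ RingHom.ker φ) ha
    rintro _ ⟨i, rfl⟩
    simp only [SetLike.mem_coe, RingHom.mem_ker, map_pow, φ, aeval_X, v]
    split_ifs
    · rw [← Nat.sub_add_cancel hp.two_le, pow_add, sq, DualNumber.eps_mul_eps, mul_zero]
    · exact zero_pow hp.ne_zero
  let ψ : A →+* DualNumber k := Ideal.Quotient.lift J φ.toRingHom hφJ
  have hzero : ∀ (b : A) (hb : b ∈ s), ψ b = 0 := by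
    intro b hb
    rw [← hg b hb]
    show φ (g b hb) = 0
    have h2 : φ (g b hb) = aeval (fun _ => (0 : DualNumber k)) (g b hb) :=
      eval₂Hom_congr' rfl (fun i hi _ => if_neg fun h : i = N => hN b hb (h ▸ hi)) rfl
    rw [h2, aeval_zero']
    have hc0 : constantCoeff (g b hb) = 0 := by
      refine RingHom.mem_ker.1 ((Ideal.span_le.2 ?_ : M ≤ RingHom.ker (constantCoeff : (MvPolynomial ℕ k) →+* k)) (hgM b hb))
      rintro _ ⟨i, rfl⟩; simp
    rw [hc0, map_zero]
  have hXN : Ideal.Quotient.mk J (X N) ∈ M.map (Ideal.Quotient.mk J) :=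
    Ideal.mem_map_of_mem _ (Ideal.subset_span ⟨N, rfl⟩)
  rw [← hs] at hXN
  have h3 : ψ (Ideal.Quotient.mk J (X N)) = 0 :=
    RingHom.mem_ker.1 ((Ideal.span_le.2 fun b hb => RingHom.mem_ker.2 (hzero b hb) : Submodule.span A (s : Set A) ≤ RingHom.ker ψ) hXN)
  have h5 : φ (X N) = 0 := h3
  have h4 : (DualNumber.eps : DualNumber k) = 0 := by
    simpa [φ, v] using h5
  simpa using congrArg TrivSqZeroExt.snd h4

end Groth.Agent.S13726
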