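import Groth.Statements.S13731
import Groth.Agent.UnivOpenAtLib.Dvr
import Groth.Agent.S9495
import Mathlib
-- import your own Groth.Agent.* helpers here

set_option autoImplicit false
set_option backward.isDefEq.respectTransparency false
universe u
open HTop

namespace Groth.Agent.S13731

open CategoryTheory CategoryTheory.Limits AlgebraicGeometry in
/-- Let X be a separated Noetherian scheme and {p_i : U_i → X} a finite family of separated morphisms of
finite type whose induced morphism from the disjoint union of the U_i to X is universally submersive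
(an h-covering). Then every point x of X is p_i(u) for some i and some point u of U_i admitting a
generization ξ in U_i whose image p_i(ξ) is a generic point of an irreducible component of X.
Equivalently, the irreducible components of the U_i dominating an irreducible component of X jointly
cover X. -/
theorem result {X : Scheme.{u}} [IsNoetherian X] [X.IsSeparated] (E : PreZeroHypercover.{u} X) [Finite E.I₀] [∀ i, LocallyOfFiniteType (E.f i)] [∀ i, QuasiCompact (E.f i)] [∀ i, IsSeparated (E.f i)] (hE : SGA1.UnivSubmersive (Sigma.desc E.f)) (x : X) : ∃ (i : E.I₀) (ξ u : E.X i), ξ ⤳ u ∧ E.f i u = x ∧ closure {E.f i ξ} ∈ irreducibleComponents ↥X := by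
  obtain ⟨η, hη, hgen⟩ : ∃ η : ↥X, η ⤳ x ∧ closure {η} ∈ irreducibleComponents ↥X := by
    have hcl := isClosed_irreducibleComponent (x := x)
    refine ⟨(isIrreducible_irreducibleComponent (x := x)).genericPoint, ?_, ?_⟩
    · exact ((isIrreducible_irreducibleComponent (x := x)).isGenericPoint_genericPoint hcl).specializes
        mem_irreducibleComponent
    · rw [((isIrreducible_irreducibleComponent (x := x)).isGenericPoint_genericPoint hcl).def]
      exact irreducibleComponent_mem_irreducibleComponents x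
  have hq : ∀ {X' Y' : Scheme.{u}} (i₁ : X' ⟶ ∐ E.X) (i₂ : Y' ⟶ X) (f' : X' ⟶ Y'),
      IsPullback i₁ f' (Sigma.desc E.f) i₂ → Topology.IsQuotientMap f'.base := fun i₁ i₂ f' sq =>
    hE i₁ i₂ f' sq.flip
  have hdesc : ∀ (i : E.I₀) (e : E.X i), Sigma.desc E.f (Sigma.ι E.X i e) = E.f i e := fun i e => by
    rw [← Scheme.Hom.comp_apply, Sigma.ι_desc]
  by_cases hne : η = x
  · obtain ⟨p, hp⟩ := (hq (𝟙 _) (𝟙 _) (Sigma.desc E.f)
      (IsPullback.of_horiz_isIso ⟨by simp⟩)).surjective x
    obtain ⟨⟨i, e⟩, rfl⟩ := (sigmaMk E.X).surjective p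
    rw [sigmaMk_mk] at hp
    refine ⟨i, e, e, specializes_rfl, ?_, ?_⟩
    · rw [← hdesc]; exact hp
    · rw [← hdesc]
      show closure {(Sigma.desc E.f).base (Sigma.ι E.X i e)} ∈ irreducibleComponents ↥X
      rw [hp, ← hne]; exact hgen
  obtain ⟨A, _, _, _, g, hgc, hgo⟩ := Groth.Agent.UnivOpenAtLib.exists_dvr_specialization hη hne
  have H := hq _ g _ (IsPullback.of_hasPullback (Sigma.desc E.f) g)
  obtain ⟨ϖ, hϖ⟩ := IsDiscreteValuationRing.exists_irreducible A
  set O : (Spec (CommRingCat.of A)).Opens := PrimeSpectrum.basicOpen ϖ with hOdef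
  have hO : ∀ q : Spec (CommRingCat.of A), q ∈ O ↔ q ≠ IsLocalRing.closedPoint A := by
    intro q
    show ϖ ∉ PrimeSpectrum.asIdeal (R := A) q ↔ _
    constructor
    · rintro h rfl
      refine h ?_
      show ϖ ∈ IsLocalRing.maximalIdeal A
      rw [hϖ.maximalIdeal_eq]
      exact Ideal.mem_span_singleton_self ϖ
    · intro hq' hmem
      apply hq'
      apply PrimeSpectrum.ext
      show PrimeSpectrum.asIdeal (R := A) q = IsLocalRing.maximalIdeal A
      refine le_antisymm (IsLocalRing.le_maximalIdeal (PrimeSpectrum.isPrime (R := A) q).ne_top) ?_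
      rw [hϖ.maximalIdeal_eq]
      exact (Ideal.span_singleton_le_iff_mem _).2 hmem
  have hOc : ¬ IsClosed (O : Set (Spec (CommRingCat.of A))) := by
    intro hc
    let q₀ : Spec (CommRingCat.of A) := (⟨⊥, Ideal.isPrime_bot⟩ : PrimeSpectrum A)
    have h0 : q₀ ∈ O := (hO q₀).2 fun h =>
      IsDiscreteValuationRing.not_a_field A (congrArg PrimeSpectrum.asIdeal h).symm
    exact (hO _).1 ((IsLocalRing.specializes_closedPoint (R := A) q₀).mem_closed hc h0) rfl
  set p₂ := pullback.snd (Sigma.desc E.f) g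
  haveI : IsAffine (O : Scheme.{u}) := IsAffineOpen.Spec_basicOpen (R := CommRingCat.of A) ϖ
  haveI : QuasiCompact (p₂ ⁻¹ᵁ O).ι :=
    MorphismProperty.of_isPullback (P := @QuasiCompact) (isPullback_morphismRestrict p₂ O) inferInstance
  obtain ⟨z', z, hzz, hz', hz⟩ : ∃ z' z, z' ⤳ z ∧ p₂ z' ∈ O ∧ p₂ z ∉ O := by
    by_contra hcon
    push_neg at hcon
    refine hOc (H.isCoinducing.isClosed_preimage.1 ?_)
    have hr := (Groth.Agent.S9495.result (p₂ ⁻¹ᵁ O).ι).2 (by
      rw [Scheme.Opens.range_ι]
      exact fun a b hab ha => hcon a b hab ha)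
    rwa [Scheme.Opens.range_ι] at hr
  have hz1 : p₂ z = IsLocalRing.closedPoint A := by
    by_contra h
    exact hz ((hO _).2 h)
  obtain ⟨⟨i, u'⟩, hu'⟩ := (sigmaMk E.X).surjective (pullback.fst (Sigma.desc E.f) g z)
  rw [sigmaMk_mk] at hu'
  have hs : pullback.fst (Sigma.desc E.f) g z' ⤳ Sigma.ι E.X i u' := by
    rw [hu']; exact hzz.map (pullback.fst (Sigma.desc E.f) g).continuous
  obtain ⟨ξ, hξ⟩ := hs.mem_open (Sigma.ι E.X i).isOpenEmbedding.isOpen_range ⟨u', rfl⟩
  have key : ∀ w, Sigma.desc E.f (pullback.fst (Sigma.desc E.f) g w) = g (p₂ w) := fun w => by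
    rw [← Scheme.Hom.comp_apply, pullback.condition, Scheme.Hom.comp_apply]
  have hfx : E.f i ξ = η := by
    rw [← hdesc, hξ, key]
    exact hgo _ ((hO _).1 hz')
  refine ⟨i, ξ, u', ?_, ?_, by rw [hfx]; exact hgen⟩
  · rw [← (Sigma.ι E.X i).isOpenEmbedding.isInducing.specializes_iff, hξ]
    exact hs
  · rw [← hdesc, hu', key, hz1]
    exact hgc

end Groth.Agent.S13731
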