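import Groth.Statements.S13732
import Groth.Agent.HTopPh.Basic
-- import your own Groth.Agent.* helpers here

set_option autoImplicit false
universe u
open HTop

open Groth.Agent CategoryTheory.Limits
set_option backward.isDefEq.respectTransparency false
namespace Groth.Agent.S13732

open CategoryTheory CategoryTheory.Limits AlgebraicGeometry in
/-- Let Y be a separated Noetherian scheme and {p_j : Y_j → Y} a finite family of separated quasi-finite
morphisms of finite type whose induced morphism from the disjoint union of the Y_j to Y is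
universally submersive (a qfh-covering). Then there are a finite surjective morphism p : Y' → Y and
finitely many open subschemes V_1, …, V_n covering Y' such that every composite V_i → Y' → Y factors
through some member of the family. -/
theorem result {Y : Scheme.{u}} [IsNoetherian Y] [Y.IsSeparated] (E : PreZeroHypercover.{u} Y) [Finite E.I₀] [∀ j, LocallyOfFiniteType (E.f j)] [∀ j, QuasiCompact (E.f j)] [∀ j, LocallyQuasiFinite (E.f j)] [∀ j, IsSeparated (E.f j)] (hE : SGA1.UnivSubmersive (Sigma.desc E.f)) : ∃ (Y' : Scheme.{u}) (p : Y' ⟶ Y) (n : ℕ) (V : Fin n → Y'.Opens), IsFinite p ∧ Surjective p ∧ ⨆ i, V i = ⊤ ∧ ∀ i, ∃ (j : E.I₀) (h : (↑(V i) : Scheme.{u}) ⟶ E.X j), h ≫ E.f j = (V i).ι ≫ p := by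
  classical
  haveI : ∀ i, CompactSpace (E.X i) := fun i => QuasiCompact.compactSpace_of_compactSpace (E.f i)
  haveI : ∀ i, QuasiSeparatedSpace (E.X i) := fun i => quasiSeparatedSpace_of_quasiSeparated (E.f i)
  haveI : ∀ i, LocallyOfFinitePresentation (E.f i) := fun i => QFinEtDesc.lfp_of_noetherian (E.f i)
  let p := Limits.Sigma.desc E.f
  haveI : LocallyOfFinitePresentation p := IsZariskiLocalAtSource.sigmaDesc fun i => inferInstance
  haveI : LocallyQuasiFinite p := IsZariskiLocalAtSource.sigmaDesc fun i => inferInstance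
  haveI : CompactSpace ↥(∐ E.X) := ⟨by
    have e : (Set.univ : Set ↥(∐ E.X)) = ⋃ i, Set.range (Sigma.ι E.X i) :=
      (Set.eq_univ_of_forall fun z => by
        obtain ⟨i, y, hy⟩ := (sigmaOpenCover E.X).exists_eq z
        exact Set.mem_iUnion.2 ⟨i, y, hy⟩).symm
    rw [e]
    exact isCompact_iUnion fun i => isCompact_range (Sigma.ι E.X i).continuous⟩
  haveI : QuasiCompact p := quasiCompact_of_compactSpace p
  haveI : IsLocallyNoetherian (∐ E.X) := LocallyOfFiniteType.isLocallyNoetherian p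
  haveI : QuasiSeparated p := QuasiSeparated.of_quasiSeparatedSpace p
  obtain ⟨P, q, hq, hqs, -, hloc⟩ := SubtrRefineLib.sectionRefinable_finite_of_noetherian p
    ((SubtrVal.univSubmersive_iff_univSSubtrusive p).1 hE)
  haveI : IsFinite q := hq
  haveI : CompactSpace P := QuasiCompact.compactSpace_of_compactSpace q
  have H : ∀ z : P, ∃ (O : P.Opens) (i : E.I₀) (l : O.toScheme ⟶ E.X i), z ∈ O ∧ l ≫ E.f i = O.ι ≫ q := by
    intro z
    obtain ⟨W, hz, s, hs⟩ := hloc z
    obtain ⟨i, x, hx⟩ := (sigmaOpenCover E.X).exists_eq (s ⟨z, hz⟩)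
    let W' := s ⁻¹ᵁ (Sigma.ι E.X i).opensRange
    refine ⟨W.ι ''ᵁ W', i, (W.ι.isoImage W').inv ≫ IsOpenImmersion.lift (Sigma.ι E.X i) (W'.ι ≫ s) ?_,
      ⟨⟨z, hz⟩, ⟨x, hx⟩, rfl⟩, ?_⟩
    · rintro _ ⟨y, rfl⟩
      exact y.2
    · rw [show E.f i = Sigma.ι E.X i ≫ p from (Sigma.ι_desc _ _).symm, Category.assoc,
        IsOpenImmersion.lift_fac_assoc, Category.assoc, hs, Scheme.Hom.isoImage_inv_ι_assoc]
  choose O i l hzO hl using H
  obtain ⟨t, ht⟩ := isCompact_univ.elim_finite_subcover (fun z => (O z : Set P)) (fun z => (O z).isOpen)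
    fun z _ => Set.mem_iUnion.2 ⟨z, hzO z⟩
  let e := t.equivFin
  refine ⟨P, q, t.card, fun k => O (e.symm k).1, hq, hqs, ?_, fun k => ⟨_, l _, hl _⟩⟩
  refine eq_top_iff.2 fun y _ => ?_
  obtain ⟨z, hz, hyz⟩ := Set.mem_iUnion₂.1 (ht (Set.mem_univ y))
  exact TopologicalSpace.Opens.mem_iSup.2 ⟨e ⟨z, hz⟩, by
    show y ∈ O (e.symm (e ⟨z, hz⟩)).1
    rw [Equiv.symm_apply_apply]; exact hyz⟩

end Groth.Agent.S13732
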