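import Groth.Statements.S14766
import Groth.Agent.DomLib.ProConsClosure
import Groth.Agent.DomLib.Maximal
set_option backward.isDefEq.respectTransparency false
set_option backward.isDefEq.respectTransparency.types false

set_option autoImplicit false
universe u
open CategoryTheory CategoryTheory.Limits AlgebraicGeometry
open Subtr

namespace Groth.Agent.S14766

/-- Let V be a discrete valuation ring and f : X ⟶ Spec V any morphism of schemes. Then the underlying
continuous map of f is a quotient map (f is submersive) if and only if every ordered pair of points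
of Spec V lifts to an ordered pair of points of X. -/
theorem result (V : Type u) [CommRing V] [IsDomain V]
    [IsDiscreteValuationRing V] {X : Scheme.{u}} (f : X ⟶ Spec (CommRingCat.of V)) :
    Topology.IsQuotientMap f ↔ Subtr.IsSSubtrusive f := by
  let s : ↥(Spec (CommRingCat.of V)) := IsLocalRing.closedPoint V
  let η : ↥(Spec (CommRingCat.of V)) := (⊥ : PrimeSpectrum V)
  have hcases : ∀ p : ↥(Spec (CommRingCat.of V)), p = η ∨ p = s := fun p => by
    by_cases hp : (p : PrimeSpectrum V).asIdeal = ⊥
    · exact Or.inl (PrimeSpectrum.ext hp)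
    · exact Or.inr (PrimeSpectrum.ext
        (IsLocalRing.eq_maximalIdeal ((p : PrimeSpectrum V).isPrime.isMaximal hp)))
  have hne : η ≠ s := fun h => IsDiscreteValuationRing.not_a_field V (congrArg PrimeSpectrum.asIdeal h).symm
  have hηs : η ⤳ s := (PrimeSpectrum.le_iff_specializes _ _).1 bot_le
  constructor
  · intro hq y y' hy
    rcases eq_or_ne y' y with rfl | hne'
    · obtain ⟨x, rfl⟩ := hq.surjective y'
      exact ⟨x, x, specializes_rfl, rfl, rfl⟩
    obtain ⟨rfl, rfl⟩ : y' = η ∧ y = s := by
      rcases hcases y' with rfl | rfl <;> rcases hcases y with rfl | rfl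
      · exact absurd rfl hne'
      · exact ⟨rfl, rfl⟩
      · exact absurd (hy.antisymm hηs).eq hne'
      · exact absurd rfl hne'
    -- the closure of the generic fibre meets the closed fibre
    by_contra hno
    have hcl : IsClosed (f ⁻¹' {η}) := by
      rw [← closure_subset_iff_isClosed]
      intro x hx
      show f x = η
      refine (hcases (f x)).resolve_right fun hxs => hno ?_
      obtain ⟨x', hx', hsx⟩ := Groth.Agent.DomLib.exists_specializes_of_mem_closure
        (Groth.Agent.ProConsLib.isProConstructible_preimage f (Groth.Agent.DomLib.isProConstructible_singleton η)) hx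
      exact ⟨x, x', hsx, hxs, hx'⟩
    rw [hq.isClosed_preimage] at hcl
    exact hne (hηs.mem_closed hcl rfl).symm
  · intro h
    have hsurj : Function.Surjective f := fun y =>
      let ⟨x, _, _, hx, _⟩ := h (specializes_refl y)
      ⟨x, hx⟩
    refine Topology.isQuotientMap_iff_isClosed.2 ⟨hsurj, fun C => ⟨fun hC => hC.preimage f.continuous, fun hC => ?_⟩⟩
    rw [← closure_subset_iff_isClosed]
    intro y hy
    by_contra hyC
    rcases hcases y with rfl | rfl
    · obtain ⟨c, hc⟩ : C.Nonempty := closure_nonempty_iff.1 ⟨_, hy⟩
      rcases hcases c with rfl | rfl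
      · exact hyC hc
      · have hC' : C ⊆ {s} := fun c' hc' => (hcases c').resolve_left fun e => hyC (e ▸ hc')
        have hs : IsClosed ({s} : Set ↥(Spec (CommRingCat.of V))) :=
          (PrimeSpectrum.isClosed_singleton_iff_isMaximal _).2 (IsLocalRing.maximalIdeal.isMaximal V)
        exact hne (hs.closure_subset_iff.2 hC' hy)
    · obtain ⟨c, hc⟩ : C.Nonempty := closure_nonempty_iff.1 ⟨_, hy⟩
      rcases hcases c with rfl | rfl
      · obtain ⟨x, x', hsx, hxs, hx'⟩ := h hηs
        exact hyC (hxs ▸ hsx.mem_closed hC (show f x' ∈ C from hx'.symm ▸ hc))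
      · exact hyC hc

end Groth.Agent.S14766
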