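import Groth.Statements.S13735
import Groth.Agent.HTopPh.Basic
import Groth.Agent.S2562
import Groth.Agent.ASp.Fpqc
import Groth.Agent.SubtrVal.Submersive
-- import your own Groth.Agent.* helpers here

set_option autoImplicit false
universe u
open HTop

open Groth.Agent CategoryTheory.Limits
set_option backward.isDefEq.respectTransparency false
namespace Groth.Agent.S13735

open CategoryTheory CategoryTheory.Limits AlgebraicGeometry in
/-- Let S be a separated reduced Noetherian scheme, f : X → S a separated morphism locally of finite
type and g : S' → S a separated morphism of finite type which is universally submersive (an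
h-covering). If the base change of f along g is flat, then f is flat. -/
theorem result {X S S' : Scheme.{u}} [IsNoetherian S] [IsReduced S] [S.IsSeparated] (f : X ⟶ S) [LocallyOfFiniteType f] [IsSeparated f] (g : S' ⟶ S) [LocallyOfFiniteType g] [QuasiCompact g] [IsSeparated g] (hg : SGA1.UnivSubmersive g) (hflat : Flat (pullback.snd f g)) : Flat f := by
  haveI : LocallyOfFinitePresentation f := QFinEtDesc.lfp_of_noetherian f
  have hg' := SubtrVal.univSSubtrusive_of_dvrPairs g (SubtrVal.dvrPairs_of_univSubmersive g hg)
  have key : ∀ (A : Type u) [CommRing A] [IsDomain A] [IsDiscreteValuationRing A] (a : Spec (CommRingCat.of A) ⟶ S),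
      Flat (pullback.snd f a) := by
    intro A _ _ _ a
    obtain ⟨V', _, _, _, l, b, hb, e⟩ := (SubtrVal.univSSubtrusive_iff_lift g).1 hg' A a
    obtain ⟨φ, rfl⟩ := Spec.map_surjective b
    have hφ := HTopPh.isExtVal_of_surjective φ hb
    haveI : Flat (Spec.map φ) := by
      rw [HasRingHomProperty.Spec_iff (P := @Flat)]
      letI := φ.hom.toAlgebra
      show Module.Flat A V'
      rw [Module.Flat.flat_iff_torsion_eq_bot_of_valuationRing_localization_isMaximal,
        ← Submodule.isTorsionFree_iff_torsion_eq_bot]
      · exact Module.isTorsionFree_iff_algebraMap_injective.2 hφ.1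
      · exact fun P hP => inferInstance
    refine MorphismProperty.of_pullback_snd_of_descendsAlong (P := @Flat)
      (Q := @Surjective ⊓ @Flat ⊓ @QuasiCompact) (g := Spec.map φ)
      ⟨⟨hb, inferInstance⟩, inferInstance⟩ ?_
    have h1 : IsPullback (pullback.fst (pullback.snd f a) (Spec.map φ) ≫ pullback.fst f a)
        (pullback.snd (pullback.snd f a) (Spec.map φ)) f (Spec.map φ ≫ a) :=
      (IsPullback.of_hasPullback _ _).paste_horiz (IsPullback.of_hasPullback f a)
    rw [← e] at h1
    have h2 : IsPullback (pullback.lift (pullback.fst (pullback.snd f a) (Spec.map φ) ≫ pullback.fst f a)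
        (pullback.snd (pullback.snd f a) (Spec.map φ) ≫ l) (by exact h1.w.trans (Category.assoc _ _ _).symm))
        (pullback.snd (pullback.snd f a) (Spec.map φ)) (pullback.snd f g) l :=
      IsPullback.of_right (by rw [pullback.lift_fst]; exact h1) (pullback.lift_snd _ _ _)
        (IsPullback.of_hasPullback f g)
    exact MorphismProperty.of_isPullback (P := @Flat) h2 hflat
  rw [Flat.iff_flat_stalkMap]
  intro x
  haveI : IsNoetherianRing (S.presheaf.stalk (f.base x)) := inferInstance
  refine (Groth.Agent.S2562.result f x).2 fun A _ _ _ φ _ x' _ _ => ?_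
  haveI := key A (Spec.map (CommRingCat.ofHom φ) ≫ S.fromSpecStalk (f.base x))
  exact Flat.stalkMap _ x'

end Groth.Agent.S13735
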