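import Groth.Statements.S13736
import Groth.Agent.SubtrRefineLib.Section
import Groth.Agent.S1454
import Groth.Agent.SubtrVal.Submersive
import Groth.Agent.QFinEtDesc.QuasiSec
-- import your own Groth.Agent.* helpers here

set_option autoImplicit false
universe u
open HTop

open Groth.Agent CategoryTheory.Limits
set_option backward.isDefEq.respectTransparency false
namespace Groth.Agent.S13736

open CategoryTheory CategoryTheory.Limits AlgebraicGeometry in
/-- Let X be a separated irreducible Noetherian scheme whose local rings are all geometrically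
unibranch, and {p_i : U_i → X} a finite family of separated quasi-finite morphisms of finite type
with every U_i irreducible. Then the induced morphism from the disjoint union of the U_i to X is
universally submersive (a qfh-covering) if and only if the dominant members p_i are jointly
surjective onto X; in that case the induced morphism from the disjoint union of the dominant members
alone is already universally submersive. (The published statement does not require the U_i
irreducible; for the affine line X over a field and the single member U = (X minus a closed point) ⊔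
(that point) → X, which is dominant and surjective, the quotient property fails, and the published
proof uses that every irreducible component of a dominant member dominates X, so the members are
taken irreducible here.) -/
theorem result {X : Scheme.{u}} [IsNoetherian X] [X.IsSeparated] [IrreducibleSpace ↥X] (hX : ∀ x : X, CAlg2.IsGeomUnibranch (X.presheaf.stalk x)) (E : PreZeroHypercover.{u} X) [Finite E.I₀] [∀ i, LocallyOfFiniteType (E.f i)] [∀ i, QuasiCompact (E.f i)] [∀ i, LocallyQuasiFinite (E.f i)] [∀ i, IsSeparated (E.f i)] [∀ i, IrreducibleSpace ↥(E.X i)] : (SGA1.UnivSubmersive (Sigma.desc E.f) ↔ ∀ x : X, ∃ (i : E.I₀) (u : E.X i), IsDominant (E.f i) ∧ E.f i u = x) ∧ ((∀ x : X, ∃ (i : E.I₀) (u : E.X i), IsDominant (E.f i) ∧ E.f i u = x) → SGA1.UnivSubmersive (Sigma.desc fun j : {i : E.I₀ // IsDominant (E.f i)} => E.f j.1)) := by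
  classical
  haveI : QuasiSeparatedSpace X := inferInstance
  have hlft : LocallyOfFiniteType (Limits.Sigma.desc E.f) := IsZariskiLocalAtSource.sigmaDesc inferInstance
  have hqc : QuasiCompact (Limits.Sigma.desc E.f) := by
    haveI : ∀ i, CompactSpace (E.X i) := fun i => QuasiCompact.compactSpace_of_compactSpace (E.f i)
    haveI : CompactSpace ↥(∐ E.X) := (sigmaMk E.X).compactSpace
    exact quasiCompact_of_compactSpace _
  let P : E.I₀ → Prop := fun i => IsDominant (E.f i)
  let d := Limits.Sigma.desc fun j : {i : E.I₀ // P i} => E.f j.1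
  have hgen : ∀ i, ∀ u : E.X i, E.f i u = genericPoint X → P i := fun i u hu => ⟨by
    refine dense_iff_closure_eq.2 (Set.eq_univ_of_univ_subset ?_)
    rw [← (genericPoint_spec X).def, ← hu]
    exact closure_mono (Set.singleton_subset_iff.2 ⟨u, rfl⟩)⟩
  have main : (∀ x : X, ∃ (i : E.I₀) (u : E.X i), P i ∧ E.f i u = x) → SGA1.UnivSubmersive d := by
    intro h
    haveI : Surjective d := ⟨fun x => by
      obtain ⟨i, u, hi, hu⟩ := h x
      exact ⟨Limits.Sigma.ι (fun j : {i : E.I₀ // P i} => E.X j.1) ⟨i, hi⟩ u, by
        rw [← Scheme.Hom.comp_apply, Limits.Sigma.ι_desc]; exact hu⟩⟩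
    haveI : UniversallyOpen d := IsZariskiLocalAtSource.sigmaDesc fun j => by
      refine Groth.Agent.S1454.result (E.f j.1) hX fun Z hZ x hx => ⟨Set.univ, ?_, ?_⟩
      · rw [irreducibleComponents_eq_singleton]; rfl
      · haveI : IsDominant (E.f j.1) := j.2
        rw [irreducibleComponents_eq_singleton, Set.mem_singleton_iff] at hZ
        subst hZ
        have := hx.image (E.f j.1).continuous
        rwa [Set.image_univ, (E.f j.1).denseRange.closure_eq] at this
    exact QFinEtDesc.univSubmersive_of_open d
  refine ⟨⟨fun h x => ?_, fun h => ?_⟩, main⟩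
  · have hs := SubtrVal.univSSubtrusive_of_dvrPairs _ (SubtrVal.dvrPairs_of_univSubmersive _ h)
    obtain ⟨z, z', hz, ez, ez'⟩ := (MorphismProperty.universally_le _ _ hs : Subtr.IsSSubtrusive (Limits.Sigma.desc E.f))
      ((genericPoint_spec X).specializes (Set.mem_univ x))
    obtain ⟨i, u, rfl⟩ := (sigmaOpenCover E.X).exists_eq z
    obtain ⟨u', rfl⟩ : z' ∈ Set.range (Limits.Sigma.ι E.X i) :=
      (Limits.Sigma.ι E.X i).isOpenEmbedding.isOpen_range.stableUnderGeneralization hz ⟨u, rfl⟩
    have hι : ∀ w, Limits.Sigma.desc E.f (Limits.Sigma.ι E.X i w) = E.f i w := fun w => by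
      rw [← Scheme.Hom.comp_apply, Limits.Sigma.ι_desc]
    exact ⟨i, u, hgen i u' ((hι u').symm.trans ez'), (hι u).symm.trans ez⟩
  · haveI : ∀ j : {i : E.I₀ // P i}, CompactSpace (E.X j.1) := fun j => QuasiCompact.compactSpace_of_compactSpace (E.f j.1)
    haveI : CompactSpace ↥(∐ fun j : {i : E.I₀ // P i} => E.X j.1) := (sigmaMk fun j : {i : E.I₀ // P i} => E.X j.1).compactSpace
    haveI : QuasiCompact d := quasiCompact_of_compactSpace _
    haveI : LocallyOfFiniteType d := IsZariskiLocalAtSource.sigmaDesc fun j => inferInstance
    refine SubtrVal.univSubmersive_of_univSSubtrusive _ (SubtrRefineLib.univSSubtrusive_of_comp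
      (Limits.Sigma.desc fun j : {i : E.I₀ // P i} => Limits.Sigma.ι E.X j.1) _ ?_)
    have e : (Limits.Sigma.desc fun j : {i : E.I₀ // P i} => Limits.Sigma.ι E.X j.1) ≫ Limits.Sigma.desc E.f = d :=
      Limits.Sigma.hom_ext _ _ fun j => by simp [d]
    rw [e]
    exact SubtrVal.univSSubtrusive_of_dvrPairs d (SubtrVal.dvrPairs_of_univSubmersive d (main h))

end Groth.Agent.S13736
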