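import Groth.Statements.S13738
import Groth.Agent.GeomTrans.Basic
-- import your own Groth.Agent.* helpers here

set_option autoImplicit false
set_option backward.isDefEq.respectTransparency false
universe u
open SGA1

namespace Groth.Agent.S13738

open CategoryTheory CategoryTheory.Limits AlgebraicGeometry in
/-- Let S be a separated irreducible Noetherian scheme, q : X → S finite and surjective with X
separated, and G a finite group acting on X by S-automorphisms, transitively on the geometric points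
of X over every geometric point of S. Then every irreducible component of X maps onto S and G acts
transitively on the set of irreducible components of X. -/
theorem result {X S : Scheme.{u}} [IsNoetherian S] [S.IsSeparated] [X.IsSeparated] [IrreducibleSpace ↥S] (q : X ⟶ S) [IsFinite q] [Surjective q] {G : Type u} [Group G] [Finite G] (ρ : G →* Aut X) (hρ : ∀ g : G, (ρ g).hom ≫ q = q) (htrans : ∀ (Ω : Type u) [Field Ω] [IsAlgClosed Ω] (τ₁ τ₂ : Spec (CommRingCat.of Ω) ⟶ X), τ₁ ≫ q = τ₂ ≫ q → ∃ g : G, τ₁ ≫ (ρ g).hom = τ₂) : (∀ T ∈ irreducibleComponents ↥X, Set.image (fun x => q x) T = Set.univ) ∧ ∀ T₁ ∈ irreducibleComponents ↥X, ∀ T₂ ∈ irreducibleComponents ↥X, ∃ g : G, Set.image (fun x => (ρ g).hom x) T₁ = T₂ := by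
  let η := genericPoint ↥S
  obtain ⟨x₀, hx₀⟩ := q.surjective η
  let T₀ := irreducibleComponent x₀
  have hT₀ : T₀ ∈ irreducibleComponents ↥X := irreducibleComponent_mem_irreducibleComponents x₀
  have himg : q '' T₀ = Set.univ := by
    have hcl : IsClosed (q '' T₀) := q.isClosedMap _ isClosed_irreducibleComponent
    have h := hcl.closure_subset_iff.mpr (Set.singleton_subset_iff.mpr ⟨x₀, mem_irreducibleComponent, hx₀⟩)
    rwa [genericPoint_closure, Set.univ_subset_iff] at h
  have hq : ∀ (g : G) (x : X), q ((ρ g).hom x) = q x := fun g x => by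
    rw [← Scheme.Hom.comp_apply, hρ]
  have hmul : ∀ (g h : G) (x : X), (ρ g).hom ((ρ h).hom x) = (ρ (g * h)).hom x := fun g h x => by
    rw [map_mul]; rfl
  have hmem : ∀ (g : G), (fun x => (ρ g).hom x) '' T₀ ∈ irreducibleComponents ↥X := fun g => by
    rw [show (fun x => (ρ g).hom x) '' T₀ = (fun x => (ρ g).inv x) ⁻¹' T₀ from
      Set.ext fun y => ⟨fun ⟨x, hx, hxy⟩ => by
        show (ρ g).inv y ∈ T₀
        rw [← hxy, ← Scheme.Hom.comp_apply, Iso.hom_inv_id]; exact hx,
        fun hy => ⟨(ρ g).inv y, hy, by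
          show (ρ g).hom ((ρ g).inv y) = y
          rw [← Scheme.Hom.comp_apply, Iso.inv_hom_id]; rfl⟩⟩]
    exact preimage_mem_irreducibleComponents hT₀ (ρ g).inv.isOpenEmbedding
      ⟨x₀, mem_irreducibleComponent, (ρ g).hom x₀, by
        show (ρ g).inv ((ρ g).hom x₀) = x₀
        rw [← Scheme.Hom.comp_apply, Iso.hom_inv_id]; rfl⟩
  have hall : ∀ T ∈ irreducibleComponents ↥X, ∃ g : G, (fun x => (ρ g).hom x) '' T₀ = T := by
    intro T hT
    have hcov : T ⊆ ⋃ g : G, (fun x => (ρ g).hom x) '' T₀ := fun y _ => by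
      obtain ⟨x, hx, hxy⟩ : q y ∈ q '' T₀ := himg ▸ Set.mem_univ _
      obtain ⟨g, hg⟩ := Groth.Agent.GeomTrans.exists_smul_eq q ρ htrans hxy
      exact Set.mem_iUnion.mpr ⟨g, x, hx, hg⟩
    haveI := Fintype.ofFinite G
    classical
    obtain ⟨Z, hZ, hTZ⟩ := isIrreducible_iff_sUnion_isClosed.mp hT.1
      (Finset.univ.image fun g : G => (fun x => (ρ g).hom x) '' T₀)
      (fun Z hZ => by
        obtain ⟨g, -, rfl⟩ := Finset.mem_image.mp hZ
        exact isClosed_of_mem_irreducibleComponents _ (hmem g))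
      (by simpa [Finset.coe_image, Set.sUnion_range] using hcov)
    obtain ⟨g, -, rfl⟩ := Finset.mem_image.mp hZ
    exact ⟨g, Set.Subset.antisymm (hT.2 (hmem g).1 hTZ) hTZ⟩
  constructor
  · intro T hT
    obtain ⟨g, rfl⟩ := hall T hT
    simp only [Set.image_image, hq]
    exact himg
  · intro T₁ h₁ T₂ h₂
    obtain ⟨a, rfl⟩ := hall T₁ h₁
    obtain ⟨b, rfl⟩ := hall T₂ h₂
    refine ⟨b * a⁻¹, ?_⟩
    simp only [Set.image_image, hmul]
    simp

end Groth.Agent.S13738
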