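import Groth.Statements.S13740
import Groth.Agent.GeomTrans.Basic
import Mathlib.AlgebraicGeometry.Morphisms.QuasiFinite
-- import your own Groth.Agent.* helpers here

set_option autoImplicit false
set_option backward.isDefEq.respectTransparency false
universe w u
open SGA1

namespace Groth.Agent.S13740

open CategoryTheory CategoryTheory.Limits AlgebraicGeometry in
/-- Let S be a separated Noetherian scheme, π : X → S finite and surjective with X separated, G a finite
group acting on X by S-automorphisms and transitively on the geometric points of X over every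
geometric point of S, and F a presheaf of sets on schemes satisfying the sheaf condition for every
finite family of quasi-finite morphisms of finite type whose induced morphism from the disjoint
union is universally submersive (a qfh-sheaf). Then pulling back along π identifies F(S) with the
G-invariant elements of F(X): F(π) is injective with image the invariants. (The published statement
takes F a qfh-sheaf on Noetherian schemes over S; this row takes a presheaf on all schemes with the
sheaf property for every such family, a stronger hypothesis.) -/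
theorem result {X S : Scheme.{u}} [IsNoetherian S] [S.IsSeparated] [X.IsSeparated] (q : X ⟶ S) [IsFinite q] [Surjective q] {G : Type u} [Group G] [Finite G] (ρ : G →* Aut X) (hρ : ∀ g : G, (ρ g).hom ≫ q = q) (htrans : ∀ (Ω : Type u) [Field Ω] [IsAlgClosed Ω] (τ₁ τ₂ : Spec (CommRingCat.of Ω) ⟶ X), τ₁ ≫ q = τ₂ ≫ q → ∃ g : G, τ₁ ≫ (ρ g).hom = τ₂) (F : Scheme.{u}ᵒᵖ ⥤ Type w) (hF : ∀ ⦃T : Scheme.{u}⦄ (E : PreZeroHypercover.{u} T), Finite E.I₀ → (∀ i, LocallyOfFiniteType (E.f i)) → (∀ i, QuasiCompact (E.f i)) → (∀ i, LocallyQuasiFinite (E.f i)) → SGA1.UnivSubmersive (Sigma.desc E.f) → Presieve.IsSheafFor F E.presieve₀) : Function.Injective (F.map q.op) ∧ Set.range (F.map q.op) = {f : F.obj (Opposite.op X) | ∀ g : G, F.map (ρ g).hom.op f = f} := by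
  have husub : ∀ {A B : Scheme.{u}} (f : A ⟶ B) [IsFinite f] [Surjective f], SGA1.UnivSubmersive f := by
    intro A B f _ _ A' B' i₁ i₂ f' sq
    have h1 : IsFinite f' := MorphismProperty.of_isPullback (P := @IsFinite) sq.flip inferInstance
    have h2 : Surjective f' := MorphismProperty.of_isPullback (P := @Surjective) sq.flip inferInstance
    exact f'.isClosedMap.isQuotientMap f'.continuous f'.surjective
  have hsep : ∀ x y : F.obj (Opposite.op (pullback q q)), (∀ g : G,
      F.map (pullback.lift (𝟙 X) (ρ g).hom (by rw [hρ, Category.id_comp]) : X ⟶ pullback q q).op x =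
        F.map (pullback.lift (𝟙 X) (ρ g).hom (by rw [hρ, Category.id_comp]) : X ⟶ pullback q q).op y) → x = y := by
    intro x y hxy
    let E : PreZeroHypercover.{u} (pullback q q) :=
      { I₀ := G, X := fun _ => X, f := fun g => pullback.lift (𝟙 X) (ρ g).hom (by rw [hρ, Category.id_comp]) }
    have hfin : ∀ g, IsFinite (E.f g) := fun g => by
      haveI : IsFinite (E.f g ≫ pullback.fst q q) := by
        show IsFinite (pullback.lift (𝟙 X) (ρ g).hom _ ≫ pullback.fst q q)
        rw [pullback.lift_fst]; infer_instance
      exact IsFinite.of_comp (E.f g) (pullback.fst q q)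
    haveI := Groth.Agent.GeomTrans.isFinite_desc_id (G := G) X
    haveI : IsFinite (Limits.Sigma.desc E.f) := by
      haveI : IsFinite (Limits.Sigma.desc E.f ≫ pullback.fst q q) := by
        rw [show Limits.Sigma.desc E.f ≫ pullback.fst q q = Limits.Sigma.desc fun _ : G => 𝟙 X from
          Sigma.hom_ext _ _ fun g => by rw [Sigma.ι_desc_assoc, Sigma.ι_desc]; exact pullback.lift_fst _ _ _]
        infer_instance
      exact IsFinite.of_comp _ (pullback.fst q q)
    haveI : Surjective (Limits.Sigma.desc E.f) := by
      refine ⟨fun z => ?_⟩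
      obtain ⟨Ω, _, _, τ, hτ⟩ := Groth.Agent.GeomTrans.exists_geomPt z
      obtain ⟨g, hg⟩ := htrans Ω (τ ≫ pullback.fst q q) (τ ≫ pullback.snd q q)
        (by rw [Category.assoc, Category.assoc, pullback.condition])
      have h : (τ ≫ pullback.fst q q) ≫ Sigma.ι E.X g ≫ Limits.Sigma.desc E.f = τ := by
        rw [Sigma.ι_desc]
        refine pullback.hom_ext ?_ ?_
        · simp [E]
        · simp only [E, Category.assoc, pullback.lift_snd]
          simpa using hg
      have h2 := congrArg (fun f : Spec (CommRingCat.of Ω) ⟶ _ => f (IsLocalRing.closedPoint Ω)) h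
      simp only [Scheme.Hom.comp_apply, hτ] at h2
      exact ⟨_, h2⟩
    have hs := (Presieve.isSheafFor_arrows_iff _ _).mp (hF E inferInstance (fun g => by haveI := hfin g; infer_instance)
      (fun g => by haveI := hfin g; infer_instance) (fun g => by haveI := hfin g; infer_instance) (husub _))
      (fun g => F.map (E.f g).op x)
      (fun i j Z gi gj h => by simp only [← ConcreteCategory.comp_apply, ← F.map_comp, ← op_comp, h])
    exact hs.unique (fun _ => rfl) fun g => (hxy g).symm
  let E₀ : PreZeroHypercover.{u} S := { I₀ := PUnit, X := fun _ => X, f := fun _ => q }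
  have hq1 : SGA1.UnivSubmersive (Limits.Sigma.desc E₀.f) := by
    haveI : IsFinite (Limits.Sigma.desc E₀.f) := by
      rw [← MorphismProperty.cancel_left_of_respectsIso @IsFinite (coproductUniqueIso E₀.X).inv]
      simpa [E₀] using (inferInstance : IsFinite q)
    haveI : Surjective (Limits.Sigma.desc E₀.f) := by
      refine ⟨fun z => ?_⟩
      obtain ⟨x, hx⟩ := q.surjective z
      refine ⟨Sigma.ι E₀.X PUnit.unit x, ?_⟩
      rw [← Scheme.Hom.comp_apply, Sigma.ι_desc]; exact hx
    exact husub _
  have hsq := (Presieve.isSheafFor_arrows_iff _ _).mp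
    (hF E₀ (inferInstanceAs (Finite PUnit.{u + 1})) (fun _ => inferInstanceAs (LocallyOfFiniteType q))
      (fun _ => inferInstanceAs (QuasiCompact q)) (fun _ => inferInstanceAs (LocallyQuasiFinite q)) hq1)
  have hcomp : ∀ {A B C : Scheme.{u}} (f : A ⟶ B) (g : B ⟶ C) (x : F.obj (Opposite.op C)),
      F.map f.op (F.map g.op x) = F.map (f ≫ g).op x := fun f g x => by
    rw [op_comp, F.map_comp]; rfl
  constructor
  · intro a b hab
    exact (hsq (fun _ => F.map q.op a) (fun i j Z gi gj h =>
      (hcomp gi q a).trans ((congrArg (fun f : Z ⟶ S => F.map f.op a) h).trans (hcomp gj q a).symm))).unique (fun _ => rfl) fun _ => hab.symm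
  · refine Set.Subset.antisymm ?_ fun f hf => ?_
    · rintro _ ⟨a, rfl⟩ g
      rw [← ConcreteCategory.comp_apply, ← F.map_comp, ← op_comp, hρ]
    · have heq : F.map (pullback.fst q q).op f = F.map (pullback.snd q q).op f := hsep _ _ fun g => by
        simp only [← ConcreteCategory.comp_apply, ← F.map_comp, ← op_comp, pullback.lift_fst, pullback.lift_snd]
        rw [hf g, op_id, F.map_id]
        rfl
      obtain ⟨t, ht, -⟩ := hsq (fun _ => f) (fun i j Z gi gj h => by
        have := congrArg (F.map (pullback.lift gi gj h).op) heq
        rw [hcomp, hcomp] at this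
        refine Eq.trans (congrArg (fun k : Z ⟶ X => F.map k.op f) (pullback.lift_fst gi gj h).symm) (this.trans ?_)
        exact congrArg (fun k : Z ⟶ X => F.map k.op f) (pullback.lift_snd gi gj h))
      exact ⟨t, ht PUnit.unit⟩

end Groth.Agent.S13740
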