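import Groth.Statements.S13741
open AlgebraicGeometry CategoryTheory
-- import your own Groth.Agent.* helpers here

set_option autoImplicit false
universe u
open SGA1

namespace Groth.Agent.S13741

open CategoryTheory CategoryTheory.Limits AlgebraicGeometry in
/-- Let S be a separated Noetherian scheme, q : X → S finite and surjective with X separated, and G a
finite group acting on X by S-automorphisms. Assume that G acts transitively on every fibre of q,
that each residue field extension k(x)/k(q x) is normal, and that for each x every k(q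
x)-automorphism of k(x) is induced by an element of G fixing x. Then for every algebraically closed
field Ω, any two Ω-points of X with the same composite to S are conjugate under G. -/
theorem result {X S : Scheme.{u}} [IsNoetherian S] [S.IsSeparated] [X.IsSeparated] (q : X ⟶ S) [IsFinite q] [Surjective q] {G : Type u} [Group G] [Finite G] (ρ : G →* Aut X) (hρ : ∀ g : G, (ρ g).hom ≫ q = q) (h1 : ∀ x y : X, q x = q y → ∃ g : G, (ρ g).hom x = y) (h2 : ∀ x : X, @Normal (S.residueField (q x)) (X.residueField x) _ _ (q.residueFieldMap x).hom.toAlgebra) (h3 : ∀ (x : X) (σ : X.residueField x ≅ X.residueField x), q.residueFieldMap x ≫ σ.hom = q.residueFieldMap x → ∃ g : G, X.fromSpecResidueField x ≫ (ρ g).hom = Spec.map σ.hom ≫ X.fromSpecResidueField x) (Ω : Type u) [Field Ω] [IsAlgClosed Ω] (τ₁ τ₂ : Spec (CommRingCat.of Ω) ⟶ X) (hτ : τ₁ ≫ q = τ₂ ≫ q) : ∃ g : G, τ₁ ≫ (ρ g).hom = τ₂ := by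
  obtain ⟨⟨x₁, ι₁⟩, rfl⟩ := (Scheme.SpecToEquivOfField Ω X).symm.surjective τ₁
  obtain ⟨⟨x₂, ι₂⟩, rfl⟩ := (Scheme.SpecToEquivOfField Ω X).symm.surjective τ₂
  replace hτ : (Spec.map ι₁ ≫ X.fromSpecResidueField x₁) ≫ q = (Spec.map ι₂ ≫ X.fromSpecResidueField x₂) ≫ q := hτ
  show ∃ g : G, (Spec.map ι₁ ≫ X.fromSpecResidueField x₁) ≫ (ρ g).hom = Spec.map ι₂ ≫ X.fromSpecResidueField x₂
  let pt : Spec (CommRingCat.of Ω) := IsLocalRing.closedPoint Ω
  have hx : q x₁ = q x₂ := by
    have := congrArg (fun f : Spec (CommRingCat.of Ω) ⟶ S => f pt) hτ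
    simpa using this
  obtain ⟨g₁, hg₁⟩ := h1 x₁ x₂ hx
  obtain rfl := hg₁
  have hmv : (Spec.map ι₁ ≫ X.fromSpecResidueField x₁) ≫ (ρ g₁).hom =
      Spec.map ((ρ g₁).hom.residueFieldMap x₁ ≫ ι₁) ≫ X.fromSpecResidueField ((ρ g₁).hom x₁) := by
    rw [Spec.map_comp, Category.assoc, Category.assoc, Scheme.Hom.SpecMap_residueFieldMap_fromSpecResidueField]
  suffices key : ∀ (x : X) (ι ι₂ : X.residueField x ⟶ CommRingCat.of Ω),
      (Spec.map ι ≫ X.fromSpecResidueField x) ≫ q = (Spec.map ι₂ ≫ X.fromSpecResidueField x) ≫ q →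
      ∃ g : G, (Spec.map ι ≫ X.fromSpecResidueField x) ≫ (ρ g).hom = Spec.map ι₂ ≫ X.fromSpecResidueField x by
    obtain ⟨g₂, hg₂⟩ := key _ _ ι₂ (by rw [← hmv, Category.assoc, hρ]; exact hτ)
    refine ⟨g₂ * g₁, ?_⟩
    rw [map_mul]
    show (Spec.map ι₁ ≫ X.fromSpecResidueField x₁) ≫ (ρ g₁).hom ≫ (ρ g₂).hom = _
    rw [← Category.assoc, hmv, hg₂]
  intro x ι ι₂ h'
  rw [Category.assoc, Category.assoc, ← Scheme.Hom.SpecMap_residueFieldMap_fromSpecResidueField,
    ← Category.assoc, ← Category.assoc, cancel_mono, ← Spec.map_comp, ← Spec.map_comp] at h'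
  replace h' := Spec.map_injective h'
  let F := S.residueField (q x)
  let E := X.residueField x
  letI : Algebra F E := (q.residueFieldMap x).hom.toAlgebra
  letI : Algebra E Ω := ι.hom.toAlgebra
  letI : Algebra F Ω := (q.residueFieldMap x ≫ ι).hom.toAlgebra
  haveI : IsScalarTower F E Ω := .of_algebraMap_eq fun _ => rfl
  haveI : Normal F E := h2 x
  let φ : E →ₐ[F] Ω := { toRingHom := ι₂.hom, commutes' := fun a => (RingHom.congr_fun (congrArg CommRingCat.Hom.hom h') a).symm }
  let σ : E ≃ₐ[F] E := φ.restrictNormal' E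
  let σ' : X.residueField x ≅ X.residueField x := σ.toRingEquiv.toCommRingCatIso
  have hσ : q.residueFieldMap x ≫ σ'.hom = q.residueFieldMap x := CommRingCat.hom_ext (RingHom.ext fun a => σ.commutes a)
  have hσι : σ'.hom ≫ ι = ι₂ := CommRingCat.hom_ext (RingHom.ext fun a => φ.restrictNormal_commutes E a)
  obtain ⟨g₂, hg₂⟩ := h3 x σ' hσ
  exact ⟨g₂, by rw [Category.assoc, hg₂, ← Category.assoc, ← Spec.map_comp, hσι]⟩

end Groth.Agent.S13741
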