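import Groth.Statements.S13742
import Mathlib
import Groth.Agent.S1471
set_option backward.isDefEq.respectTransparency false
open CategoryTheory CategoryTheory.Limits
-- import your own Groth.Agent.* helpers here

set_option autoImplicit false
universe u
open Cyc

namespace Groth.Agent.S13742

open CategoryTheory CategoryTheory.Limits AlgebraicGeometry in
/-- Let S be a separated Noetherian scheme, f : X → S separated of finite type, z a point of X mapping
to a generic point of an irreducible component of S, and ι : Z → X a closed immersion from a reduced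
scheme with image the closure of z (the closure of z with its reduced structure). Then Z ×_S Spec
k(f z) is an integral scheme, and its image in the fibre X ×_S Spec k(f z) is the closure of the
unique point w of that fibre lying over z: Z ×_S Spec k(f z) is the closure of z in its fibre, with
reduced structure. -/
theorem result {X S Z : Scheme.{u}} [IsNoetherian S] [S.IsSeparated] [X.IsSeparated] (f : X ⟶ S) [LocallyOfFiniteType f] [QuasiCompact f] (z : X) (hz : closure {f z} ∈ irreducibleComponents ↥S) (ι : Z ⟶ X) [IsClosedImmersion ι] [IsReduced Z] (hZ : Set.range ι = closure {z}) : IsIntegral (pullback (ι ≫ f) (S.fromSpecResidueField (f z))) ∧ ∃ w : ↥(pullback f (S.fromSpecResidueField (f z))), pullback.fst f (S.fromSpecResidueField (f z)) w = z ∧ Set.range (pullback.map (ι ≫ f) (S.fromSpecResidueField (f z)) f (S.fromSpecResidueField (f z)) ι (𝟙 _) (𝟙 S) (Category.comp_id _) ((Category.comp_id _).trans (Category.id_comp _).symm)) = closure {w} := by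
  let s := f z
  let k := S.fromSpecResidueField s
  obtain ⟨η, hη⟩ : z ∈ Set.range ι := hZ ▸ subset_closure rfl
  have hgen : ∀ v : ↥Z, η ⤳ v := fun v => by
    rw [← ι.isEmbedding.isInducing.specializes_iff, hη, specializes_iff_mem_closure, ← hZ]
    exact ⟨v, rfl⟩
  have hg : (ι ≫ f) η = s := by rw [Scheme.Hom.comp_apply, hη]
  haveI : IsReduced ((ι ≫ f).fiber s) := Groth.Agent.S1471.isReduced_fiber_of_max _ s
    (Groth.Agent.Unibranch.max_of_component hz (show IsGenericPoint s (closure {s}) from rfl))
  let e : ↥((ι ≫ f).fiber s) := hg ▸ (ι ≫ f).asFiber η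
  have he : (ι ≫ f).fiberι s e = η := by
    have : ∀ (t : ↥S) (ht : (ι ≫ f) η = t),
        (ι ≫ f).fiberι t (ht ▸ (ι ≫ f).asFiber η : ↥((ι ≫ f).fiber t)) = η := by
      rintro t rfl
      exact (ι ≫ f).fiberι_asFiber η
    exact this s hg
  have hgenF : ∀ v : ↥((ι ≫ f).fiber s), e ⤳ v := fun v => by
    rw [← ((ι ≫ f).fiberι s).isEmbedding.isInducing.specializes_iff, he]
    exact hgen _
  haveI : IrreducibleSpace ↥((ι ≫ f).fiber s) := by
    haveI : Nonempty ↥((ι ≫ f).fiber s) := ⟨e⟩
    haveI : PreirreducibleSpace ↥((ι ≫ f).fiber s) := ⟨by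
      rw [show (Set.univ : Set ↥((ι ≫ f).fiber s)) = closure {e} from
        (Set.eq_univ_of_forall fun v => specializes_iff_mem_closure.1 (hgenF v)).symm]
      exact isIrreducible_singleton.closure.2⟩
    exact ⟨inferInstance⟩
  refine ⟨isIntegral_of_irreducibleSpace_of_isReduced ((ι ≫ f).fiber s), ?_⟩
  let m := pullback.map (ι ≫ f) k f k ι (𝟙 _) (𝟙 S) (Category.comp_id _) ((Category.comp_id _).trans (Category.id_comp _).symm)
  have hm : pullback.fst (ι ≫ f) k ≫ ι = m ≫ pullback.fst f k := (pullback.lift_fst _ _ _).symm
  have hsq : IsPullback (pullback.fst (ι ≫ f) k) m ι (pullback.fst f k) := by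
    refine IsPullback.of_bot ?_ hm (IsPullback.of_hasPullback f k)
    rw [show m ≫ pullback.snd f k = pullback.snd (ι ≫ f) k from (pullback.lift_snd _ _ _).trans (Category.comp_id _)]
    exact IsPullback.of_hasPullback (ι ≫ f) k
  haveI : IsClosedImmersion m := MorphismProperty.of_isPullback hsq ‹IsClosedImmersion ι›
  refine ⟨m e, ?_, ?_⟩
  · rw [← Scheme.Hom.comp_apply, ← hm, Scheme.Hom.comp_apply]
    exact (congrArg ι he).trans hη
  · refine Set.Subset.antisymm ?_ (closure_minimal (Set.singleton_subset_iff.2 ⟨e, rfl⟩) m.isClosedEmbedding.isClosed_range)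
    rintro _ ⟨v, rfl⟩
    exact specializes_iff_mem_closure.1 ((hgenF v).map m.continuous)

end Groth.Agent.S13742
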