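import Groth.Statements.S13744
import Mathlib

set_option autoImplicit false
universe u
open Cyc

namespace Groth.Agent.S13744

open CategoryTheory CategoryTheory.Limits AlgebraicGeometry

set_option backward.isDefEq.respectTransparency false
set_option backward.defeqAttrib.useBackward true
set_option linter.style.haveILetI false

theorem length_ringEquiv {R T : Type u} [CommRing R] [CommRing T] (e : R ≃+* T) :
    Module.length R R = Module.length T T := by
  letI := e.toRingHom.toAlgebra
  rw [← Module.length_eq_of_surjective (M := T) (R := T) (show Function.Surjective (algebraMap R T) from e.surjective)]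
  exact (LinearEquiv.ofBijective (Algebra.linearMap R T) e.bijective).length_eq

theorem isOpenImmersion_generic (R : Type u) [CommRing R] [IsDomain R] [IsDiscreteValuationRing R] :
    IsOpenImmersion (Spec.map (CommRingCat.ofHom (algebraMap R (FractionRing R)))) := by
  obtain ⟨ϖ, hϖ⟩ := IsDiscreteValuationRing.exists_irreducible R
  haveI : IsLocalization.Away ϖ (FractionRing R) := by
    refine (IsLocalization.iff_of_le_of_exists_dvd (Submonoid.powers ϖ) (nonZeroDivisors R) ?_ fun n hn => ?_).2 inferInstance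
    · rw [Submonoid.powers_le]
      exact mem_nonZeroDivisors_of_ne_zero hϖ.ne_zero
    · obtain ⟨k, hk⟩ := IsDiscreteValuationRing.associated_pow_irreducible (nonZeroDivisors.ne_zero hn) hϖ
      exact ⟨ϖ ^ k, ⟨k, rfl⟩, hk.dvd⟩
  exact IsOpenImmersion.of_isLocalization ϖ

/-- A point outside a dense quasi-compact open has a local ring of infinite length. -/
theorem toNat_length_stalk_eq_zero {Y W : Scheme.{u}} (j : Y ⟶ W) [IsOpenImmersion j] [QuasiCompact j]
    [IsDominant j] (z : W) (hz : z ∉ Set.range j) :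
    (Module.length (W.presheaf.stalk z) (W.presheaf.stalk z)).toNat = 0 := by
  by_contra h0
  have hne : Module.length (W.presheaf.stalk z) (W.presheaf.stalk z) ≠ ⊤ := fun h => h0 (by rw [h]; rfl)
  haveI : IsArtinianRing (W.presheaf.stalk z) :=
    (isFiniteLength_iff_isNoetherian_isArtinian.1 (Module.length_ne_top_iff.1 hne)).2
  obtain ⟨U, hU, hzU, -⟩ := exists_isAffineOpen_mem_and_subset (X := W) (x := z) (U := ⊤) trivial
  let K : Set W := j '' (j ⁻¹ᵁ U : Y.Opens)
  have hK : IsCompact K := (QuasiCompact.isCompact_preimage (f := j) U U.2 hU.isCompact).image j.continuous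
  have hloc : ∀ w ∈ K, ∃ N : W.Opens, w ∈ N ∧ ∃ O : W.Opens, z ∈ O ∧ ∀ y ∈ O, y ∉ N := by
    rintro _ ⟨y, hy, rfl⟩
    obtain ⟨f, hf, hwf⟩ := hU.exists_basicOpen_le (V := j.opensRange) ⟨j y, ⟨y, rfl⟩⟩ hy
    have hzf : z ∉ W.basicOpen f := fun h => hz (hf h)
    have hnil : IsNilpotent ((W.presheaf.germ U z hzU).hom f) := by
      have h2 : (W.presheaf.germ U z hzU).hom f ∈ IsLocalRing.maximalIdeal (W.presheaf.stalk z) :=
        fun h => hzf ((W.mem_basicOpen f z hzU).2 h)
      haveI : IsNoetherianRing (W.presheaf.stalk z) :=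
        (isFiniteLength_iff_isNoetherian_isArtinian.1 (Module.length_ne_top_iff.1 hne)).1
      have h3 := IsArtinianRing.isNilpotent_jacobson_bot (R := W.presheaf.stalk z)
      rw [IsLocalRing.jacobson_eq_maximalIdeal ⊥ bot_ne_top] at h3
      obtain ⟨n, hn⟩ := h3
      exact ⟨n, by simpa [hn] using Ideal.pow_mem_pow h2 n⟩
    obtain ⟨n, hn⟩ := hnil
    rw [← map_pow, ← (W.presheaf.germ U z hzU).hom.map_zero] at hn
    obtain ⟨O, hzO, i₁, i₂, hO⟩ := W.presheaf.germ_eq z hzU hzU _ _ hn
    refine ⟨W.basicOpen f, hwf, O, hzO, fun w hwO hwf' => ?_⟩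
    have h4 : IsUnit ((W.presheaf.germ U w (i₁.le hwO)).hom (f ^ n)) := by
      rw [map_pow]
      exact ((W.mem_basicOpen f w (i₁.le hwO)).1 hwf').pow n
    have h5 := congrArg (W.presheaf.germ O w hwO).hom hO
    rw [map_zero, map_zero] at h5
    rw [← W.presheaf.germ_res_apply i₁ w hwO] at h4
    erw [h5] at h4
    exact not_isUnit_zero h4
  choose! N hN O hO hdis using hloc
  obtain ⟨t, ht, hKt⟩ := hK.elim_nhds_subcover (fun w => (N w : Set W)) fun w hw => (N w).2.mem_nhds (hN w hw)
  let V : Set W := (U : Set W) ∩ ⋂ w ∈ t, (O w : Set W)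
  have hV : IsOpen V := U.2.inter (isOpen_biInter_finset fun w _ => (O w).2)
  obtain ⟨y, hy⟩ := j.denseRange.exists_mem_open hV ⟨z, hzU, Set.mem_iInter₂.2 fun w hw => hO w (ht w hw)⟩
  obtain ⟨w, hw, hyN⟩ := Set.mem_iUnion₂.1 (hKt ⟨y, hy.1, rfl⟩)
  exact hdis w (ht w hw) _ (Set.mem_iInter₂.1 hy.2 w hw) hyN

theorem finsum_image_eq {Y W T : Scheme.{u}} (g : Y ⟶ W) [IsOpenImmersion g] [QuasiCompact g] (m : W ⟶ T) (t : T) :
    (∑ᶠ z ∈ {z : g.image | (g.imageι ≫ m) z = t},
        ((Module.length (g.image.presheaf.stalk z) (g.image.presheaf.stalk z)).toNat : ℤ)) =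
      ∑ᶠ y ∈ {y : Y | m (g y) = t}, ((Module.length (Y.presheaf.stalk y) (Y.presheaf.stalk y)).toNat : ℤ) := by
  haveI : IsOpenImmersion g.toImage := by
    have h : IsPullback g.toImage (𝟙 Y) g.imageι g := by
      refine ⟨⟨by simp⟩, ⟨PullbackCone.IsLimit.mk _ (fun s => s.snd) (fun s => ?_) (fun s => by simp)
        (fun s l _ hl => by simpa using hl)⟩⟩
      rw [← cancel_mono g.imageι, Category.assoc, g.toImage_imageι, s.condition]
    exact MorphismProperty.of_isPullback h.flip ‹IsOpenImmersion g›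
  let j := g.toImage
  have hgy : ∀ y, g.imageι (j y) = g y := fun y => by
    rw [← Scheme.Hom.comp_apply, g.toImage_imageι]
  have hlen : ∀ y, Module.length (Y.presheaf.stalk y) (Y.presheaf.stalk y) =
      Module.length (g.image.presheaf.stalk (j y)) (g.image.presheaf.stalk (j y)) := fun y =>
    (length_ringEquiv (asIso (j.stalkMap y)).commRingCatIsoToRingEquiv).symm
  rw [finsum_mem_inter_support_eq' _ {z : g.image | (g.imageι ≫ m) z = t} (j '' {y | m (g y) = t})
    (fun z hz => ?_)]
  · rw [finsum_mem_image j.isOpenEmbedding.injective.injOn]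
    exact finsum_congr fun y => finsum_congr fun _ => by rw [hlen]
  · constructor
    · intro hzt
      by_cases hr : z ∈ Set.range j
      · obtain ⟨y, rfl⟩ := hr
        refine ⟨y, ?_, rfl⟩
        show m (g y) = t
        rw [← hgy]
        exact hzt
      · exact absurd (show ((Module.length (g.image.presheaf.stalk z) (g.image.presheaf.stalk z)).toNat : ℤ) = 0 by
          rw [toNat_length_stalk_eq_zero j z hr]; rfl) hz
    · rintro ⟨y, hy, rfl⟩
      show m (g.imageι (j y)) = t
      rw [hgy]
      exact hy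
open CategoryTheory CategoryTheory.Limits AlgebraicGeometry in
/-- Let S be a separated Noetherian scheme, p : X → S separated of finite type, ι : Z → X a closed
immersion with Z integral, R a discrete valuation ring with fraction field K and x : Spec R → S. Let
φ be the scheme-theoretic image in Z ×_S Spec R of Z ×_S Spec K (the flat closure of the generic
fibre), regarded as a closed subscheme of X ×_S Spec R. Then the cycle of φ (coefficient at t =
length of the local ring of φ above t, an infinite length read as 0) equals the cycle of Z ×_S Spec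
K pushed forward along the inclusion X ×_S Spec K → X ×_S Spec R. -/
theorem result {X S Z : Scheme.{u}} [IsNoetherian S] [S.IsSeparated] [X.IsSeparated] (p : X ⟶ S) [LocallyOfFiniteType p] [QuasiCompact p] (ι : Z ⟶ X) [IsClosedImmersion ι] [IsIntegral Z] (R : Type u) [CommRing R] [IsDomain R] [IsDiscreteValuationRing R] (x : Spec (CommRingCat.of R) ⟶ S) (t : ↥(pullback p x)) : Cyc.subschemeFun (fun _ => (0 : ℤ)) 0 ((pullback.map (ι ≫ p) (Spec.map (CommRingCat.ofHom (algebraMap R (FractionRing R))) ≫ x) (ι ≫ p) x (𝟙 Z) (Spec.map (CommRingCat.ofHom (algebraMap R (FractionRing R)))) (𝟙 S) ((Category.comp_id _).trans (Category.id_comp _).symm) (Category.comp_id _)).ker.subschemeι ≫ pullback.map (ι ≫ p) x p x ι (𝟙 _) (𝟙 S) (Category.comp_id _) ((Category.comp_id _).trans (Category.id_comp _).symm)) t = ∑ᶠ t' ∈ {t' : ↥(pullback p (Spec.map (CommRingCat.ofHom (algebraMap R (FractionRing R))) ≫ x)) | (pullback.map p (Spec.map (CommRingCat.ofHom (algebraMap R (FractionRing R))) ≫ x) p x (𝟙 X) (Spec.map (CommRingCat.ofHom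 (algebraMap R (FractionRing R)))) (𝟙 S) ((Category.comp_id _).trans (Category.id_comp _).symm) (Category.comp_id _)) t' = t}, Cyc.subschemeFun (fun _ => (0 : ℤ)) 0 (pullback.map (ι ≫ p) (Spec.map (CommRingCat.ofHom (algebraMap R (FractionRing R))) ≫ x) p (Spec.map (CommRingCat.ofHom (algebraMap R (FractionRing R))) ≫ x) ι (𝟙 _) (𝟙 S) (Category.comp_id _) ((Category.comp_id _).trans (Category.id_comp _).symm)) t' := by
  haveI := isOpenImmersion_generic R
  set η := Spec.map (CommRingCat.ofHom (algebraMap R (FractionRing R)))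
  set g := pullback.map (ι ≫ p) (η ≫ x) (ι ≫ p) x (𝟙 Z) η (𝟙 S) _ _
  set mR := pullback.map (ι ≫ p) x p x ι (𝟙 _) (𝟙 S) _ _
  set mX := pullback.map p (η ≫ x) p x (𝟙 X) η (𝟙 S) _ _
  set mK := pullback.map (ι ≫ p) (η ≫ x) p (η ≫ x) ι (𝟙 _) (𝟙 S) _ _
  haveI : QuasiCompact η := inferInstance
  have hsq : g ≫ mR = mK ≫ mX := by
    apply pullback.hom_ext <;> simp [g, mR, mK, mX, pullback.map]
  haveI hgo : IsOpenImmersion g := inferInstance
  haveI hgq : QuasiCompact g := inferInstance
  haveI hmo : IsOpenImmersion mX := inferInstance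
  show Cyc.subschemeFun (fun _ => (0 : ℤ)) 0 (g.ker.subschemeι ≫ mR) t =
    ∑ᶠ t' ∈ {t' | mX t' = t}, Cyc.subschemeFun (fun _ => (0 : ℤ)) 0 mK t'
  simp only [Cyc.subschemeFun, if_true]
  refine (finsum_image_eq g mR t).trans ?_
  have hc : ∀ y, mR (g y) = mX (mK y) := fun y => congr($hsq y)
  simp only [hc]
  by_cases ht : t ∈ Set.range mX
  · obtain ⟨t', rfl⟩ := ht
    rw [show {s | mX s = mX t'} = {t'} from Set.ext fun s => mX.isOpenEmbedding.injective.eq_iff, finsum_mem_singleton]
    simp only [mX.isOpenEmbedding.injective.eq_iff]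
  · rw [show {s | mX s = t} = ∅ from Set.eq_empty_of_forall_notMem fun s hs => ht ⟨s, hs⟩, finsum_mem_empty,
      show {y | mX (mK y) = t} = ∅ from Set.eq_empty_of_forall_notMem fun y hy => ht ⟨_, hy⟩, finsum_mem_empty]

end Groth.Agent.S13744
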