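import Groth.Statements.S13746
import Groth.Agent.ModelDual.Generic
import Groth.Agent.AdicPicLib.Fibre
import Groth.Agent.ThickAff.Core
import Groth.Agent.DCohMore.FibreOneMain

set_option autoImplicit false
set_option linter.style.haveILetI false
set_option backward.isDefEq.respectTransparency false
universe u
open CategoryTheory AlgebraicGeometry
open SemiFact

namespace Groth.Agent.S13746

open CategoryTheory CategoryTheory.Limits AlgebraicGeometry TopologicalSpace

theorem isIso_app_of_le {X Y : Scheme.{u}} (f : Y ⟶ X) (U : X.Opens) [IsIso (f ∣_ U)] {W : X.Opens} (hW : W ≤ U) :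
    IsIso (f.app W) := by
  have h : IsIso ((f ∣_ U).app (U.ι ⁻¹ᵁ W)) := inferInstance
  rw [morphismRestrict_app] at h
  haveI := h
  have h' : IsIso (f.app (U.ι ''ᵁ U.ι ⁻¹ᵁ W)) := IsIso.of_isIso_comp_right _
    (Y.presheaf.map (eqToHom (image_morphismRestrict_preimage f U (U.ι ⁻¹ᵁ W))).op)
  have e : U.ι ''ᵁ U.ι ⁻¹ᵁ W = W := by
    rw [Scheme.Hom.image_preimage_eq_opensRange_inf, Scheme.Opens.opensRange_ι]
    exact inf_eq_right.2 hW
  rwa [e] at h'

/-- Multiplication by a uniformizer is injective on sections of a flat scheme. -/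
theorem eq_zero_of_mul {R : Type u} [CommRing R] [IsDomain R] {ϖ : R} (hϖ : ϖ ≠ 0) {Z : Scheme.{u}}
    (f : Z ⟶ Spec (CommRingCat.of R)) [Flat f] (W : Z.Opens) (b : Γ(Z, W))
    (h : f.appLE ⊤ W le_top ((Scheme.ΓSpecIso (CommRingCat.of R)).inv ϖ) * b = 0) : b = 0 := by
  refine Z.sheaf.eq_of_locally_eq' (fun U : {U : Z.affineOpens // U.1 ≤ W} => U.1.1) W
    (fun U => homOfLE U.2) (fun z hz => ?_) _ _ fun U => ?_
  · obtain ⟨U, hU, hzU, hUW⟩ := exists_isAffineOpen_mem_and_subset (x := z) (U := W) hz
    exact Opens.mem_iSup.2 ⟨⟨⟨U, hU⟩, hUW⟩, hzU⟩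
  refine Eq.trans ?_ (map_zero (Z.presheaf.map (homOfLE U.2).op).hom).symm
  have hfl : RingHom.Flat (f.appLE ⊤ U.1.1 le_top).hom :=
    Flat.flat_appLE f (isAffineOpen_top _) U.1.2 le_top
  have hmul : f.appLE ⊤ U.1.1 le_top ((Scheme.ΓSpecIso (CommRingCat.of R)).inv ϖ) *
      Z.presheaf.map (homOfLE U.2).op b = 0 := by
    rw [← Scheme.Hom.appLE_map f (le_top : W ≤ f ⁻¹ᵁ ⊤) (homOfLE U.2).op, CommRingCat.comp_apply,
      ← map_mul, h, map_zero]
  algebraize [(f.appLE ⊤ U.1.1 le_top).hom]
  have hreg : IsSMulRegular Γ(Spec (CommRingCat.of R), ⊤) ((Scheme.ΓSpecIso (CommRingCat.of R)).inv ϖ) := fun x y e => by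
    have h' := congrArg (Scheme.ΓSpecIso (CommRingCat.of R)).hom e
    simp only [smul_eq_mul, map_mul, Iso.inv_hom_id_apply] at h'
    exact (ConcreteCategory.bijective_of_isIso (Scheme.ΓSpecIso (CommRingCat.of R)).hom).1 (mul_left_cancel₀ (by exact hϖ) h')
  haveI : Module.Flat Γ(Spec (CommRingCat.of R), ⊤) Γ(Z, U.1.1) := RingHom.flat_algebraMap_iff.1 hfl
  refine IsSMulRegular.of_flat (S := Γ(Z, U.1.1)) hreg ?_
  show algebraMap Γ(Spec (CommRingCat.of R), ⊤) Γ(Z, U.1.1) _ * Z.presheaf.map (homOfLE U.2).op b =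
    algebraMap Γ(Spec (CommRingCat.of R), ⊤) Γ(Z, U.1.1) _ * 0
  rw [mul_zero]
  exact hmul

/-- Let R be a discrete valuation ring with fraction field K, let X and Y be schemes flat over Spec R
and let π : Y → X be a proper morphism over Spec R whose base change along Spec K → Spec R is an
isomorphism. If the fibre of X over the closed point of Spec R is reduced, then the canonical map
O_X → π_* O_Y is an isomorphism: for every open V ⊆ X the ring map O_X(V) → O_Y(π⁻¹ V) is bijective. -/
theorem result
    (R : Type u) [CommRing R] [IsDomain R] [IsDiscreteValuationRing R]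
    (X Y : Over (Spec (CommRingCat.of R))) [Flat X.hom] [Flat Y.hom]
    (π : Y ⟶ X) [IsProper π.left]
    (hgen : IsIso ((Neron.genericFibre R).map π))
    [IsReduced (X.hom.fiber (IsLocalRing.closedPoint R))] :
    ∀ V : X.left.Opens, IsIso (π.left.app V) := by
  obtain ⟨ϖ, hϖ⟩ := IsDiscreteValuationRing.exists_irreducible R
  letI : X.left.Over (Spec (CommRingCat.of R)) := ⟨X.hom⟩
  -- the generic fibre
  have hg : IsPullback (pullback.fst X.hom (Neron.genPt R)) (pullback.snd X.hom (Neron.genPt R))
      (X.left ↘ Spec (CommRingCat.of R)) (Spec.map (CommRingCat.ofHom (algebraMap R (FractionRing R)))) :=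
    IsPullback.of_hasPullback _ _
  haveI := Groth.Agent.ModelDual.isOpenImmersion_g R hϖ hg
  let gX := pullback.fst X.hom (Neron.genPt R)
  let gY := pullback.fst Y.hom (Neron.genPt R)
  let πK := ((Neron.genericFibre R).map π).left
  haveI : IsIso πK := inferInstanceAs (IsIso ((Over.forget _).map ((Neron.genericFibre R).map π)))
  have sq : IsPullback gY πK π.left gX := by
    refine IsPullback.of_bot (h₃₁ := Neron.genPt R) (v₂₁ := pullback.snd _ _) (v₂₂ := X.hom) ?_ ?_
      (IsPullback.of_hasPullback X.hom (Neron.genPt R))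
    · simpa [πK, gY, Over.w π] using IsPullback.of_hasPullback Y.hom (Neron.genPt R)
    · simp [gX, gY, πK]
  haveI : IsIso (π.left ∣_ gX.opensRange) := by
    have e := (isPullback_morphismRestrict π.left gX.opensRange)
    have e' : IsPullback (π.left ∣_ gX.opensRange) (π.left ⁻¹ᵁ gX.opensRange).ι gX.opensRange.ι π.left := e
    have s2 : IsPullback gY (πK ≫ gX.isoOpensRange.hom) π.left gX.opensRange.ι :=
      sq.of_iso (Iso.refl _) (Iso.refl _) gX.isoOpensRange (Iso.refl _) (by simp) (by simp) (by simp) (by simp)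
    haveI : IsIso (πK ≫ gX.isoOpensRange.hom) := inferInstance
    rw [← e'.flip.isoIsPullback_hom_snd _ _ s2]
    infer_instance
  -- affine opens
  have key : ∀ V : X.left.Opens, IsAffineOpen V → IsIso (π.left.app V) := by
    intro V hV
    let W := π.left ⁻¹ᵁ V
    let a : Γ(X.left, V) := X.hom.appLE ⊤ V le_top ((Scheme.ΓSpecIso (CommRingCat.of R)).inv ϖ)
    let φ := (π.left.app V).hom
    have haW : φ a = Y.hom.appLE ⊤ W le_top ((Scheme.ΓSpecIso (CommRingCat.of R)).inv ϖ) := by
      show π.left.app V (X.hom.appLE ⊤ V le_top _) = _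
      rw [← CommRingCat.comp_apply, Scheme.Hom.app_eq_appLE, Scheme.Hom.appLE_comp_appLE]
      congr 2
      simp only [Over.w π]
      rfl
    have hnX : ∀ x : Γ(X.left, V), a * x = 0 → x = 0 := fun x h => eq_zero_of_mul hϖ.ne_zero X.hom V x h
    have hnY : ∀ y : Γ(Y.left, W), φ a * y = 0 → y = 0 := fun y h =>
      eq_zero_of_mul hϖ.ne_zero Y.hom W y (by rwa [← haW])
    -- reducedness of the special fibre
    have hred : ∀ (x : Γ(X.left, V)) (m : ℕ), x ^ m ∈ Ideal.span {a} → x ∈ Ideal.span {a} := by
      let i := Spec.map (CommRingCat.ofHom (IsLocalRing.residue R))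
      haveI : IsClosedImmersion i := IsClosedImmersion.spec_of_surjective _ IsLocalRing.residue_surjective
      obtain ⟨e, -⟩ := Groth.Agent.AdicPicLib.exists_fibre_iso (A := R) X.hom
      haveI : IsReduced (pullback X.hom i) := isReduced_of_isOpenImmersion e.inv
      let h : pullback (V.ι ≫ X.hom) i ⟶ pullback X.hom i := pullback.map _ _ _ _ V.ι (𝟙 _) (𝟙 _) (by simp) (by simp)
      haveI : IsOpenImmersion h := MorphismProperty.pullback_map (P := @IsOpenImmersion) (inferInstanceAs (IsOpenImmersion V.ι))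
        (inferInstanceAs (IsOpenImmersion (𝟙 _))) (by simp) (by simp)
      haveI : IsReduced (pullback (V.ι ≫ X.hom) i) := isReduced_of_isOpenImmersion h
      haveI : IsAffine V.toScheme := hV
      have hk := Groth.Agent.ThickAff.ker_appTop_of_isPullback (i := i) (p := V.ι ≫ X.hom)
        (IsPullback.of_hasPullback (V.ι ≫ X.hom) i).flip
      have hki : RingHom.ker i.appTop.hom = Ideal.span {(Scheme.ΓSpecIso (CommRingCat.of R)).inv ϖ} := by
        ext z
        obtain ⟨z, rfl⟩ := (Scheme.ΓSpecIso (CommRingCat.of R)).symm.commRingCatIsoToRingEquiv.surjective z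
        rw [RingHom.mem_ker, Ideal.mem_span_singleton]
        show i.appTop ((Scheme.ΓSpecIso (CommRingCat.of R)).inv z) = 0 ↔ _
        rw [← CommRingCat.comp_apply, ← Scheme.ΓSpecIso_inv_naturality, CommRingCat.comp_apply,
          map_eq_zero_iff (Scheme.ΓSpecIso (CommRingCat.of (IsLocalRing.ResidueField R))).inv.hom
            (ConcreteCategory.bijective_of_isIso (Scheme.ΓSpecIso (CommRingCat.of (IsLocalRing.ResidueField R))).inv).1]
        show IsLocalRing.residue R z = 0 ↔ _
        rw [IsLocalRing.residue_eq_zero_iff, hϖ.maximalIdeal_eq, Ideal.mem_span_singleton]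
        exact (map_dvd_iff (Scheme.ΓSpecIso (CommRingCat.of R)).symm.commRingCatIsoToRingEquiv).symm
      rw [hki, Ideal.map_span, Set.image_singleton] at hk
      intro x m hx
      obtain ⟨x, rfl⟩ := V.topIso.commRingCatIsoToRingEquiv.surjective x
      have ha' : V.topIso.hom ((V.ι ≫ X.hom).appTop ((Scheme.ΓSpecIso (CommRingCat.of R)).inv ϖ)) = a := by
        show _ = X.hom.appLE ⊤ V le_top _
        rw [← CommRingCat.comp_apply]
        congr 2
        simp [Scheme.Hom.appLE]
        rw [← Functor.map_comp]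
        rfl
      rw [Ideal.mem_span_singleton, ← ha'] at hx ⊢
      change _ ∣ V.topIso.commRingCatIsoToRingEquiv x ^ m at hx
      rw [← map_pow] at hx
      replace hx := (map_dvd_iff V.topIso.commRingCatIsoToRingEquiv).1 hx
      refine (map_dvd_iff V.topIso.commRingCatIsoToRingEquiv).2 ?_
      rw [← Ideal.mem_span_singleton, ← hk, RingHom.mem_ker] at hx ⊢
      rw [map_pow] at hx
      exact IsNilpotent.eq_zero ⟨m, hx⟩
    -- the generic part
    have hloc : IsIso (π.left.app (X.left.basicOpen a)) := by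
      refine isIso_app_of_le π.left gX.opensRange fun x hx => ?_
      show x ∈ Set.range gX
      rw [Groth.Agent.ModelDual.range_g R hϖ hg]
      show x ∈ X.left.basicOpen _
      have hxV : x ∈ V := X.left.basicOpen_le a hx
      rw [X.left.mem_basicOpen a x hxV] at hx
      rw [X.left.mem_basicOpen _ x (Opens.mem_top x)]
      convert hx using 1
      show X.left.presheaf.germ ⊤ x (Opens.mem_top x) (X.hom.appTop _) = X.left.presheaf.germ V x hxV (X.hom.appLE ⊤ V le_top _)
      rw [Scheme.Hom.appLE, CommRingCat.comp_apply, TopCat.Presheaf.germ_res_apply]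
      rfl
    have hWc : IsCompact (W : Set Y.left) :=
      π.left.isCompact_preimage hV.isCompact
    have hWs : IsQuasiSeparated (W : Set Y.left) := by
      haveI : IsAffine V.toScheme := hV
      have h : QuasiSeparatedSpace (π.left ⁻¹ᵁ V).toScheme := quasiSeparatedSpace_of_quasiSeparated (π.left ∣_ V)
      exact (isQuasiSeparated_iff_quasiSeparatedSpace _ W.2).2 h
    have bij := (ConcreteCategory.isIso_iff_bijective _).1 hloc
    have eW : π.left ⁻¹ᵁ X.left.basicOpen a = Y.left.basicOpen (φ a) := Scheme.preimage_basicOpen _ _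
    have sqres : ∀ x : Γ(X.left, V), π.left.app (X.left.basicOpen a) (X.left.presheaf.map (homOfLE (X.left.basicOpen_le a)).op x) =
        Y.left.presheaf.map (eqToHom eW).op (Y.left.presheaf.map (homOfLE (Y.left.basicOpen_le (φ a))).op (φ x)) := fun x => by
      rw [← CommRingCat.comp_apply, π.left.naturality, ← CommRingCat.comp_apply, ← Functor.map_comp]
      rfl
    have hinjW : Function.Injective (Y.left.presheaf.map (eqToHom eW).op) :=
      ((ConcreteCategory.isIso_iff_bijective _).1 inferInstance).1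
    letI := (X.left.presheaf.map (homOfLE (X.left.basicOpen_le a)).op).hom.toAlgebra
    haveI : IsLocalization.Away a Γ(X.left, X.left.basicOpen a) := hV.isLocalization_basicOpen a
    letI := (Y.left.presheaf.map (homOfLE (Y.left.basicOpen_le (φ a))).op).hom.toAlgebra
    haveI : IsLocalization.Away (φ a) Γ(Y.left, Y.left.basicOpen (φ a)) :=
      isLocalization_basicOpen_of_qcqs hWc hWs (φ a)
    have cancel : ∀ {x : Γ(X.left, V)} (n : ℕ), a ^ n * x = 0 → x = 0 := fun {x} n => by
      induction n generalizing x with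
      | zero => simp
      | succ n ih => intro h; exact hnX x (ih (by rw [← mul_assoc, ← pow_succ, h]))
    have hinj : ∀ x, φ x = 0 → x = 0 := fun x hx => by
      have h0 : algebraMap Γ(X.left, V) Γ(X.left, X.left.basicOpen a) x = 0 :=
        bij.1 (by rw [map_zero]; exact (sqres x).trans (by rw [hx, map_zero, map_zero]))
      obtain ⟨⟨_, n, rfl⟩, hn⟩ := (IsLocalization.map_eq_zero_iff (Submonoid.powers a) _ x).1 h0
      exact cancel n hn
    have hint : φ.IsIntegral := by
      haveI : IsAffine V.toScheme := hV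
      have h := AlgebraicGeometry.isIntegral_appTop_of_universallyClosed (π.left ∣_ V)
      rw [Scheme.Hom.appTop, morphismRestrict_app] at h
      have h2 : ∀ (V' : X.left.Opens), V' = V → (π.left.app V').hom.IsIntegral → φ.IsIntegral := by
        rintro _ rfl h; exact h
      refine h2 _ V.ι_image_top ((RingHom.isIntegral_respectsIso.cancel_right_isIso _ _).1 h)
    have main : ∀ (N : ℕ) (b : Γ(Y.left, W)) (x : Γ(X.left, V)), φ a ^ N * b = φ x → ∃ y, φ y = b := by
      intro N
      induction N with
      | zero => intro b x hx; exact ⟨x, by simpa using hx.symm⟩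
      | succ N ih =>
        intro b x hx
        obtain ⟨p, hp, hpb⟩ := hint b
        have hzero : ((p.scaleRoots (a ^ (N + 1))).eval₂ (RingHom.id _) x) = 0 := by
          have h := Polynomial.scaleRoots_eval₂_eq_zero (p := p) φ (r := b) (s := a ^ (N + 1)) hpb
          rw [map_pow, hx, Polynomial.eval₂_at_apply] at h
          exact hinj _ h
        have hmem : x ^ p.natDegree ∈ Ideal.span {a} := by
          rw [Polynomial.eval₂_eq_sum_range, Polynomial.natDegree_scaleRoots, Finset.sum_range_succ] at hzero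
          simp only [RingHom.id_apply, Polynomial.coeff_scaleRoots] at hzero
          rw [hp.coeff_natDegree, Nat.sub_self, pow_zero, one_mul, one_mul] at hzero
          rw [eq_neg_of_add_eq_zero_right hzero]
          refine Submodule.neg_mem _ (Ideal.sum_mem _ fun k hk => ?_)
          obtain ⟨c, hc⟩ := Nat.exists_eq_add_of_lt (Finset.mem_range.1 hk)
          rw [Ideal.mem_span_singleton]
          exact Dvd.dvd.mul_right (Dvd.dvd.mul_left (dvd_pow (dvd_pow_self _ (Nat.succ_ne_zero N)) (by omega)) _) _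
        obtain ⟨y, rfl⟩ := Ideal.mem_span_singleton.1 (hred x _ hmem)
        refine ih b y (sub_eq_zero.1 (hnY _ ?_))
        rw [mul_sub, ← mul_assoc, ← pow_succ', hx, map_mul, sub_self]
    refine (ConcreteCategory.isIso_iff_bijective _).2 ⟨(injective_iff_map_eq_zero φ).2 hinj, fun b => ?_⟩
    obtain ⟨z, hz⟩ := bij.2 (Y.left.presheaf.map (eqToHom eW).op (algebraMap Γ(Y.left, W) Γ(Y.left, Y.left.basicOpen (φ a)) b))
    obtain ⟨⟨x, ⟨_, n, rfl⟩⟩, hx⟩ := IsLocalization.surj (Submonoid.powers a) z
    have : algebraMap Γ(Y.left, W) Γ(Y.left, Y.left.basicOpen (φ a)) (φ x) =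
        algebraMap Γ(Y.left, W) Γ(Y.left, Y.left.basicOpen (φ a)) (b * φ (a ^ n)) := by
      apply hinjW
      rw [map_mul, map_mul, ← hz]
      refine (sqres x).symm.trans ((congrArg _ hx.symm).trans ((map_mul _ _ _).trans ?_))
      exact congrArg (_ * ·) (sqres _)
    obtain ⟨⟨_, j, rfl⟩, hj⟩ := IsLocalization.exists_of_eq (M := Submonoid.powers (φ a)) this
    refine main (j + n) b (a ^ j * x) ?_
    simp only [map_mul, map_pow] at hj ⊢
    rw [hj]; ring
  exact fun V => Groth.Agent.DCohMore.FibreOne.isIso_app_of_basis π.left (fun U x hx => by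
    obtain ⟨V, hV, hxV, hVU⟩ := exists_isAffineOpen_mem_and_subset (x := x) (U := U) hx
    exact ⟨V, hxV, hVU, key V hV⟩) V

end Groth.Agent.S13746
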