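import Groth.Statements.S13749
import Groth.Agent.NeronDescLib.Graph
-- import your own Groth.Agent.* helpers here

set_option autoImplicit false
set_option backward.isDefEq.respectTransparency false
set_option maxHeartbeats 1000000
universe u
open CategoryTheory CategoryTheory.Limits AlgebraicGeometry
open Neron

namespace Groth.Agent.S13749

/-- Let S be a locally Noetherian scheme, U ⊆ S a schematically dense open subscheme, N → S a smooth
separated morphism of finite type and g : S' → S a flat surjective morphism, and put U' = g⁻¹(U).
Suppose the base change N ×_S S' → S' has the Néron mapping property with respect to U': for every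
smooth S'-scheme Y', sending an S'-morphism Y' → N ×_S S' to its restriction over U' is a bijection
onto the U'-morphisms Y' ×_{S'} U' → (N ×_S S') ×_{S'} U'. Then N → S has the Néron mapping property
with respect to U: for every smooth S-scheme Y, restriction to U is a bijection from S-morphisms Y →
N onto U-morphisms Y ×_S U → N ×_S U. (The published statement is for an arbitrary base S and open
U, with N an algebraic space which is a model of an abelian scheme over U, tested against smooth
schemes; this row takes N a scheme, drops the abelian-scheme hypothesis, and assumes S locally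
Noetherian with U schematically dense, the setting in which schematic closures of U-sections commute
with flat base change and fill S'.) -/
theorem result
    {S S' : Scheme.{u}} [IsLocallyNoetherian S] (g : S' ⟶ S) [Flat g] [Surjective g]
    (U : S.Opens) (hU : CInt.IsSchematicallyDense U)
    (N : Over S) [Smooth N.hom] [IsSeparated N.hom] [QuasiCompact N.hom]
    (hN' : ∀ Y' : Over S', Smooth Y'.hom →
      Function.Bijective (fun f : Y' ⟶ (Over.pullback g).obj N => (Over.pullback (g ⁻¹ᵁ U).ι).map f))
    (Y : Over S) [Smooth Y.hom] :
    Function.Bijective (fun f : Y ⟶ N => (Over.pullback U.ι).map f) := by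
  haveI : LocallyOfFiniteType Y.hom := inferInstance
  haveI : IsLocallyNoetherian Y.left := LocallyOfFiniteType.isLocallyNoetherian Y.hom
  haveI : QuasiCompact U.ι := inferInstance
  haveI : IsSchemeTheoreticallyDominant U.ι := Groth.Agent.NeronDescLib.isSchemeTheoreticallyDominant_ι U hU
  haveI : Flat Y.hom := inferInstance
  let a := pullback.fst Y.hom U.ι
  haveI : IsSchemeTheoreticallyDominant a := IsSchemeTheoreticallyDominant.pullbackFst _ _
  refine ⟨fun φ ψ h => ?_, fun v => ?_⟩
  · have h' := congrArg (fun k => k.left ≫ pullback.fst N.hom U.ι) h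
    simp only [Over.pullback_map_left, pullback.lift_fst] at h'
    ext1
    exact Groth.Agent.S14189.ext_of_dominant a N.hom (by rw [Over.w φ, Over.w ψ]) h'
  let w := v.left ≫ pullback.fst N.hom U.ι
  have hv : v.left ≫ pullback.snd N.hom U.ι = pullback.snd Y.hom U.ι := Over.w v
  have hw : w ≫ N.hom = a ≫ Y.hom := by
    simp only [w, a, Category.assoc, pullback.condition, reassoc_of% hv]
  let Y' : Over S' := (Over.pullback g).obj Y
  haveI : Smooth Y'.hom := inferInstanceAs (Smooth (pullback.snd Y.hom g))
  let U' := g ⁻¹ᵁ U
  let q := pullback.fst Y.hom g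
  haveI : Flat q := MorphismProperty.pullback_fst (P := @Flat) _ _ inferInstance
  haveI : Surjective q := MorphismProperty.pullback_fst (P := @Surjective) _ _ inferInstance
  let z := pullback.fst Y'.hom U'.ι
  have hz : z ≫ pullback.snd Y.hom g = pullback.snd Y'.hom U'.ι ≫ U'.ι := pullback.condition
  let m : pullback Y'.hom U'.ι ⟶ pullback Y.hom U.ι :=
    pullback.lift (z ≫ q) (pullback.snd Y'.hom U'.ι ≫ g ∣_ U) (by
      rw [Category.assoc, Category.assoc, pullback.condition, reassoc_of% hz, morphismRestrict_ι])
  let e₀ : pullback Y'.hom U'.ι ⟶ pullback N.hom g :=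
    pullback.lift (m ≫ w) (z ≫ Y'.hom) (by
      rw [Category.assoc, hw]
      simp only [m, a, q, pullback.lift_fst_assoc, Category.assoc]
      exact congrArg (z ≫ ·) pullback.condition)
  let v' : (Over.pullback U'.ι).obj Y' ⟶ (Over.pullback U'.ι).obj ((Over.pullback g).obj N) :=
    Over.homMk (pullback.lift e₀ (pullback.snd Y'.hom U'.ι) (by
      show e₀ ≫ pullback.snd N.hom g = _
      rw [pullback.lift_snd]
      exact pullback.condition)) (pullback.lift_snd _ _ _)
  obtain ⟨f', hf'⟩ := (hN' Y' inferInstance).2 v'
  have hf : z ≫ f'.left = e₀ := by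
    have := congrArg (fun k => k.left ≫ pullback.fst _ _) hf'
    simp [v', z] at this
    exact this.trans (pullback.lift_fst _ _ _)
  let e := f'.left ≫ pullback.fst N.hom g
  have hfw : f'.left ≫ pullback.snd N.hom g = pullback.snd Y.hom g := Over.w f'
  have he : e ≫ N.hom = q ≫ Y.hom := by
    simp only [e, q, Category.assoc, pullback.condition, reassoc_of% hfw]
  have hag : pullback.fst a q ≫ w = pullback.snd a q ≫ e := by
    have hc : pullback.fst a q ≫ a = pullback.snd a q ≫ q := pullback.condition
    have hr : Set.range (pullback.snd a q ≫ pullback.snd Y.hom g) ⊆ Set.range U'.ι := by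
      rintro _ ⟨x, rfl⟩
      rw [Scheme.Opens.range_ι]
      show g ((pullback.snd a q ≫ pullback.snd Y.hom g) x) ∈ U
      rw [← Scheme.Hom.comp_apply, Category.assoc, ← pullback.condition, ← reassoc_of% hc,
        pullback.condition, Scheme.Hom.comp_apply, Scheme.Hom.comp_apply]
      exact (((pullback.snd Y.hom U.ι) ((pullback.fst a q) x))).2
    let k : pullback a q ⟶ pullback Y'.hom U'.ι :=
      pullback.lift (pullback.snd a q)
        (IsOpenImmersion.lift U'.ι (pullback.snd a q ≫ pullback.snd Y.hom g) hr)
        (IsOpenImmersion.lift_fac _ _ _).symm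
    have hk : k ≫ z = pullback.snd a q := pullback.lift_fst _ _ _
    have hkm : k ≫ m = pullback.fst a q := by
      haveI : Mono a := inferInstance
      rw [← cancel_mono a, Category.assoc, pullback.lift_fst, reassoc_of% hk, hc]
    show _ = pullback.snd a q ≫ f'.left ≫ _
    rw [← hk, Category.assoc, reassoc_of% hf, pullback.lift_fst, reassoc_of% hkm]
  obtain ⟨f, hfY, hfw'⟩ := Groth.Agent.NeronDescLib.exists_extension Y.hom N.hom a w hw q e he hag
  refine ⟨Over.homMk f hfY, ?_⟩
  ext1
  apply pullback.hom_ext
  · simpa [w, a] using hfw'
  · exact (Over.w ((Over.pullback U.ι).map (Over.homMk f hfY : Y ⟶ N))).trans hv.symm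

end Groth.Agent.S13749
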