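import Groth.Statements.S13750
import Groth.Agent.NeronDescLib.Local
-- import your own Groth.Agent.* helpers here

set_option autoImplicit false
set_option backward.isDefEq.respectTransparency false
set_option maxHeartbeats 1000000
universe u
open CategoryTheory CategoryTheory.Limits AlgebraicGeometry
open Neron

namespace Groth.Agent.S13750

open Groth.Agent.NeronDescLib in
/-- The mapping property in terms of preimages. -/
theorem extProp_of_bijective {S : Scheme.{u}} (U : S.Opens) (N : Over S)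
    (hN : ∀ Y : Over S, Smooth Y.hom → Function.Bijective (fun f : Y ⟶ N => (Over.pullback U.ι).map f))
    (Y : Scheme.{u}) (pY : Y ⟶ S) (hY : Smooth pY) : ExtProp U N.hom pY := by
  intro w hw
  let e := pullbackRestrictIsoRestrict pY U
  have he : e.hom ≫ (pY ⁻¹ᵁ U).ι = pullback.fst pY U.ι := pullbackRestrictIsoRestrict_hom_ι pY U
  let v : (Over.pullback U.ι).obj (Over.mk pY) ⟶ (Over.pullback U.ι).obj N :=
    Over.homMk (pullback.lift (e.hom ≫ w) (pullback.snd pY U.ι) (by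
      rw [Category.assoc, hw, reassoc_of% he, pullback.condition])) (pullback.lift_snd _ _ _)
  have key : ∀ f : Over.mk pY ⟶ N, (Over.pullback U.ι).map f = v ↔ (pY ⁻¹ᵁ U).ι ≫ f.left = w := by
    intro f
    constructor
    · intro h
      have h' := congrArg (fun k => k.left ≫ pullback.fst N.hom U.ι) h
      simp [v] at h'
      rw [← cancel_epi e.hom, reassoc_of% he]
      exact h'
    · intro h
      ext1
      apply pullback.hom_ext
      · simp [v, ← h, reassoc_of% he]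
      · exact (Over.w ((Over.pullback U.ι).map f)).trans (pullback.lift_snd _ _ _).symm
  obtain ⟨f, hf⟩ := (hN (Over.mk pY) hY).2 v
  refine ⟨f.left, ⟨Over.w f, (key f).1 hf⟩, fun g hg => ?_⟩
  have : Over.homMk g hg.1 = f := (hN (Over.mk pY) hY).1 (((key (Over.homMk g hg.1)).2 hg.2).trans hf.symm)
  exact congrArg CommaMorphism.left this

open Groth.Agent.NeronDescLib in
/-- The mapping property is local on the source. -/
theorem extProp_of_affine {S N Y : Scheme.{u}} (U : S.Opens) (pN : N ⟶ S) (pY : Y ⟶ S)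
    (h : ∀ (T : Scheme.{u}) (j : T ⟶ Y), IsOpenImmersion j → IsAffine T → ExtProp U pN (j ≫ pY)) :
    ExtProp U pN pY := by
  intro w hw
  have hle : ∀ {T : Scheme.{u}} (j : T ⟶ Y), (j ≫ pY) ⁻¹ᵁ U ≤ j ⁻¹ᵁ (pY ⁻¹ᵁ U) := fun j => le_rfl
  let wT : ∀ {T : Scheme.{u}} (j : T ⟶ Y), ((j ≫ pY) ⁻¹ᵁ U : Scheme) ⟶ N := fun j =>
    j.resLE (pY ⁻¹ᵁ U) _ (hle j) ≫ w
  have hwT : ∀ {T : Scheme.{u}} (j : T ⟶ Y), wT j ≫ pN = ((j ≫ pY) ⁻¹ᵁ U).ι ≫ j ≫ pY := fun j => by
    simp only [wT, Category.assoc, hw, Scheme.Hom.resLE_comp_ι_assoc]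
  have huniq : ∀ {T : Scheme.{u}} (j : T ⟶ Y) [IsOpenImmersion j] (a b : T ⟶ N),
      (a ≫ pN = j ≫ pY ∧ ((j ≫ pY) ⁻¹ᵁ U).ι ≫ a = wT j) →
      (b ≫ pN = j ≫ pY ∧ ((j ≫ pY) ⁻¹ᵁ U).ι ≫ b = wT j) → a = b := by
    intro T j _ a b ha hb
    refine T.affineCover.hom_ext _ _ fun i => ?_
    let k := T.affineCover.f i
    have hk : ∀ g : T ⟶ N, (g ≫ pN = j ≫ pY ∧ ((j ≫ pY) ⁻¹ᵁ U).ι ≫ g = wT j) →
        ((k ≫ g) ≫ pN = (k ≫ j) ≫ pY ∧ (((k ≫ j) ≫ pY) ⁻¹ᵁ U).ι ≫ k ≫ g = wT (k ≫ j)) := by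
      intro g hg
      refine ⟨by rw [Category.assoc, hg.1, Category.assoc], ?_⟩
      have hk' : ((k ≫ j) ≫ pY) ⁻¹ᵁ U ≤ k ⁻¹ᵁ ((j ≫ pY) ⁻¹ᵁ U) := le_rfl
      rw [← Scheme.Hom.resLE_comp_ι_assoc k hk' g, hg.2]
      simp only [wT, ← Category.assoc, Scheme.Hom.resLE_comp_resLE]
    exact (h _ (k ≫ j) inferInstance inferInstance _ (hwT _)).unique (hk a ha) (hk b hb)
  obtain ⟨𝒰, h𝒰⟩ : ∃ 𝒰 : Y.OpenCover, ∀ i, IsAffine (𝒰.X i) := ⟨Y.affineCover, fun i => inferInstance⟩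
  choose F hF _ using fun i => h _ (𝒰.f i) inferInstance (h𝒰 i) _ (hwT (𝒰.f i))
  have hrestrict : ∀ (i : 𝒰.I₀) {T : Scheme.{u}} (m : T ⟶ 𝒰.X i) (j : T ⟶ Y), m ≫ 𝒰.f i = j →
      (m ≫ F i) ≫ pN = j ≫ pY ∧ ((j ≫ pY) ⁻¹ᵁ U).ι ≫ m ≫ F i = wT j := by
    intro i T m j hj
    subst hj
    refine ⟨by rw [Category.assoc, (hF i).1, Category.assoc], ?_⟩
    have hm : ((m ≫ 𝒰.f i) ≫ pY) ⁻¹ᵁ U ≤ m ⁻¹ᵁ ((𝒰.f i ≫ pY) ⁻¹ᵁ U) := le_rfl
    rw [← Scheme.Hom.resLE_comp_ι_assoc m hm (F i), (hF i).2]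
    simp only [wT, ← Category.assoc, Scheme.Hom.resLE_comp_resLE]
  let G := 𝒰.glueMorphisms F fun i i' =>
    huniq (pullback.fst (𝒰.f i) (𝒰.f i') ≫ 𝒰.f i) _ _ (hrestrict i _ _ rfl)
      (hrestrict i' _ _ pullback.condition.symm)
  have hG : ∀ i, 𝒰.f i ≫ G = F i := fun i => 𝒰.ι_glueMorphisms _ _ i
  refine ⟨G, ⟨𝒰.hom_ext _ _ fun i => by rw [reassoc_of% (hG i), (hF i).1], ?_⟩, fun G' hG' => ?_⟩
  · refine Scheme.Cover.hom_ext (Precoverage.ZeroHypercover.pullback₁ (pY ⁻¹ᵁ U).ι 𝒰) _ _ fun i => ?_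
    show pullback.fst (pY ⁻¹ᵁ U).ι (𝒰.f i) ≫ _ = pullback.fst (pY ⁻¹ᵁ U).ι (𝒰.f i) ≫ _
    let c : pullback (pY ⁻¹ᵁ U).ι (𝒰.f i) ⟶ ((𝒰.f i ≫ pY) ⁻¹ᵁ U : Scheme) :=
      IsOpenImmersion.lift ((𝒰.f i ≫ pY) ⁻¹ᵁ U).ι (pullback.snd _ _) (by
        rintro _ ⟨x, rfl⟩
        rw [Scheme.Opens.range_ι]
        show pY ((𝒰.f i) ((pullback.snd (pY ⁻¹ᵁ U).ι (𝒰.f i)) x)) ∈ U
        have h1 : (pullback.snd (pY ⁻¹ᵁ U).ι (𝒰.f i) ≫ 𝒰.f i) x =
            (pullback.fst (pY ⁻¹ᵁ U).ι (𝒰.f i) ≫ (pY ⁻¹ᵁ U).ι) x := by rw [pullback.condition]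
        exact h1.symm ▸ ((pullback.fst (pY ⁻¹ᵁ U).ι (𝒰.f i)) x).2)
    have hc : c ≫ ((𝒰.f i ≫ pY) ⁻¹ᵁ U).ι = pullback.snd _ _ := IsOpenImmersion.lift_fac _ _ _
    have hc' : c ≫ (𝒰.f i).resLE (pY ⁻¹ᵁ U) ((𝒰.f i ≫ pY) ⁻¹ᵁ U) (hle _) = pullback.fst _ _ := by
      rw [← cancel_mono (pY ⁻¹ᵁ U).ι, Category.assoc, Scheme.Hom.resLE_comp_ι, reassoc_of% hc]
      exact pullback.condition.symm
    rw [pullback.condition_assoc, hG, ← reassoc_of% hc, (hF i).2]
    show c ≫ _ ≫ w = _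
    rw [reassoc_of% hc']
  · refine 𝒰.hom_ext _ _ fun i => ?_
    rw [hG]
    refine huniq (𝒰.f i) _ _ ⟨by rw [Category.assoc, hG'.1], ?_⟩ (hF i)
    rw [← Scheme.Hom.resLE_comp_ι_assoc (𝒰.f i) (hle _) G', hG'.2]

open Groth.Agent.NeronDescLib in
/-- From preimages back to base changes. -/
theorem bijective_of_extProp {S Z : Scheme.{u}} (ι₀ : Z ⟶ S) (U : S.Opens) (N : Over S) (Y' : Over Z)
    (key : ExtProp U N.hom (Y'.hom ≫ ι₀)) :
    Function.Bijective (fun f : Y' ⟶ (Over.pullback ι₀).obj N => (Over.pullback (ι₀ ⁻¹ᵁ U).ι).map f) := by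
  let O := ι₀ ⁻¹ᵁ U
  let e := pullbackRestrictIsoRestrict Y'.hom O
  have he : e.hom ≫ (Y'.hom ⁻¹ᵁ O).ι = pullback.fst Y'.hom O.ι := pullbackRestrictIsoRestrict_hom_ι _ _
  refine ⟨fun a b hab => ?_, fun v => ?_⟩
  · have h := congrArg (fun k => k.left ≫ pullback.fst _ O.ι ≫ pullback.fst N.hom ι₀) hab
    simp [O] at h
    have hu : ∀ a : Y' ⟶ (Over.pullback ι₀).obj N,
        (a.left ≫ pullback.fst N.hom ι₀) ≫ N.hom = Y'.hom ≫ ι₀ := fun a => by
      rw [Category.assoc, pullback.condition]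
      exact congrArg (· ≫ ι₀) (Over.w a)
    obtain ⟨F, -, hF⟩ := key ((Y'.hom ⁻¹ᵁ O).ι ≫ a.left ≫ pullback.fst N.hom ι₀)
      (by rw [Category.assoc, hu]; rfl)
    ext1
    apply pullback.hom_ext
    · refine (hF _ ⟨hu a, rfl⟩).trans (hF _ ⟨hu b, ?_⟩).symm
      rw [← cancel_epi e.hom]
      exact ((reassoc_of% he) _).trans (h.symm.trans ((reassoc_of% he) _).symm)
    · exact (Over.w a).trans (Over.w b).symm
  let w := e.inv ≫ v.left ≫ pullback.fst _ O.ι ≫ pullback.fst N.hom ι₀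
  have hw : w ≫ N.hom = (Y'.hom ⁻¹ᵁ O).ι ≫ Y'.hom ≫ ι₀ := by
    have hv : v.left ≫ pullback.snd (pullback.snd N.hom ι₀) O.ι = pullback.snd Y'.hom O.ι := Over.w v
    rw [← cancel_epi e.hom]
    simp only [w, Category.assoc, Iso.hom_inv_id_assoc, reassoc_of% he]
    rw [pullback.condition]
    refine (congrArg (v.left ≫ ·) (pullback.condition_assoc (f := pullback.snd N.hom ι₀) (g := O.ι) ι₀)).trans ?_
    rw [pullback.condition_assoc]
    exact (reassoc_of% hv) _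
  obtain ⟨F, ⟨hF1, hF2⟩, -⟩ := key w hw
  refine ⟨Over.homMk (pullback.lift F Y'.hom hF1) (pullback.lift_snd _ _ _), ?_⟩
  ext1
  apply pullback.hom_ext
  · apply pullback.hom_ext
    · simp
      rw [← reassoc_of% he]
      erw [hF2]
      simp [w]
      rfl
    · simp
      exact pullback.condition.trans ((congrArg (· ≫ O.ι) (Over.w v)).symm.trans ((Category.assoc _ _ _).trans (congrArg (v.left ≫ ·) pullback.condition.symm)))
  · exact (Over.w ((Over.pullback O.ι).map _)).trans (Over.w v).symm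

open Groth.Agent.NeronDescLib in
/-- Let S be a locally Noetherian scheme, U ⊆ S an open subscheme and N → S a smooth separated morphism
of finite type having the Néron mapping property with respect to U: for every smooth S-scheme Y,
restriction to U is a bijection from S-morphisms Y → N onto U-morphisms Y ×_S U → N ×_S U. Let s be
a point of S and S̃ = Spec O_{S,s} → S the canonical morphism. Then N ×_S S̃ → S̃ has the Néron
mapping property with respect to the preimage Ũ of U: for every smooth S̃-scheme Ỹ, restriction to Ũ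
is a bijection from S̃-morphisms Ỹ → N ×_S S̃ onto Ũ-morphisms. (The published statement is for N an
algebraic space which is a Néron model of an abelian scheme over U and also covers the strict
henselisation at a geometric point; this row is the localisation case for a scheme N, with no
abelian-scheme hypothesis.) -/
theorem result
    {S : Scheme.{u}} [IsLocallyNoetherian S] (U : S.Opens)
    (N : Over S) [Smooth N.hom] [IsSeparated N.hom] [QuasiCompact N.hom]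
    (hN : ∀ Y : Over S, Smooth Y.hom →
      Function.Bijective (fun f : Y ⟶ N => (Over.pullback U.ι).map f))
    (s : S) (Y' : Over (Spec (S.presheaf.stalk s))) [Smooth Y'.hom] :
    Function.Bijective (fun f : Y' ⟶ (Over.pullback (S.fromSpecStalk s)).obj N =>
      (Over.pullback ((S.fromSpecStalk s) ⁻¹ᵁ U).ι).map f) := by
  have hN' := extProp_of_bijective U N hN
  let ι₀ := S.fromSpecStalk s
  let A := S.presheaf.stalk s
  obtain ⟨W, hW, hsW, -⟩ := exists_isAffineOpen_mem_and_subset (U := ⊤) (show s ∈ (⊤ : S.Opens) from trivial)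
  haveI : IsNoetherianRing Γ(S, W) := IsLocallyNoetherian.component_noetherian ⟨W, hW⟩
  let p := hW.primeIdealOf ⟨s, hsW⟩
  letI : Algebra Γ(S, W) A := TopCat.Presheaf.algebra_section_stalk S.presheaf ⟨s, hsW⟩
  haveI : IsLocalization.AtPrime A p.asIdeal := hW.isLocalization_stalk ⟨s, hsW⟩
  have key : ExtProp U N.hom (Y'.hom ≫ ι₀) := by
    refine extProp_of_affine U N.hom _ fun T j hj hT => ?_
    let φ : A ⟶ Γ(T, ⊤) := Spec.preimage (T.isoSpec.inv ≫ j ≫ Y'.hom)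
    have hφ : Spec.map φ = T.isoSpec.inv ≫ j ≫ Y'.hom := Spec.map_preimage _
    letI : Algebra A Γ(T, ⊤) := φ.hom.toAlgebra
    haveI : Algebra.Smooth A Γ(T, ⊤) := by
      have : Smooth (Spec.map φ) := by rw [hφ]; infer_instance
      rw [HasRingHomProperty.Spec_iff (P := @Smooth)] at this
      exact (RingHom.smooth_algebraMap (R := A) (S := Γ(T, ⊤))).1 this
    refine extProp_of_isIso U N.hom T.isoSpec ?_
      (extProp_of_smooth_localization U N.hom hN' Γ(S, W) p.asIdeal A Γ(T, ⊤) hW.fromSpec)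
    have h1 : Spec.map (CommRingCat.ofHom (algebraMap Γ(S, W) A)) ≫ hW.fromSpec = ι₀ :=
      hW.fromSpecStalk_eq_fromSpecStalk hsW
    show T.isoSpec.hom ≫ Spec.map φ ≫ _ ≫ hW.fromSpec = _
    rw [h1, hφ]
    simp [ι₀]
  exact bijective_of_extProp ι₀ U N Y' key

end Groth.Agent.S13750
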