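import Mathlib
import Groth.Agent.MTree.Cycle
import Groth.Statements.S13757

set_option autoImplicit false
universe u
open LabGraph

namespace Groth.Agent.S13757

open Groth.Agent

/-- Let G be a finite connected multigraph (loops and multiple edges allowed) with vertex set V, edge
set E, endpoint map E → V × V and a labelling of the edges by positive integers l. A vertex
labelling φ : V → ℤ is Cartier when l(e) divides the difference of the values of φ at the two
endpoints of every edge e; its multidegree is the vertex labelling whose value at v is the sum, over
the edge-ends at v, of (value of φ at the other endpoint − φ(v)) / l(e). Then the Cartier vertex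
labellings of multidegree zero are exactly the constant ones: the kernel of the multidegree operator
on Cartier labellings is ℤ, embedded as the constants. -/
theorem result
    {V E : Type u} [Fintype V] [Fintype E] [DecidableEq V] [DecidableEq E]
    (ends : E → V × V) (l : E → ℕ) (hl : ∀ e, 0 < l e) (hconn : LabGraph.Connected ends)
    (φ : V → ℤ) (hφ : LabGraph.IsCartier ends l φ) :
    (∀ v : V, LabGraph.mdeg ends l φ v = 0) ↔ ∀ v w : V, φ v = φ w := by
  constructor
  · intro h
    have hb : ∀ v, boundary ends (fun e => MTree.del ends φ e / (l e : ℤ)) v = 0 := fun v => by
      rw [← MTree.mdeg_eq_boundary ends l φ hφ]; exact h v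
    have horth := MTree.orth_del ends hb φ
    have hnn : ∀ e ∈ Finset.univ, 0 ≤ MTree.del ends φ e / (l e : ℤ) * MTree.del ends φ e := fun e _ => by
      obtain ⟨k, hk⟩ := hφ e
      have he : (0 : ℤ) < l e := by exact_mod_cast hl e
      simp only [MTree.del, hk, Int.mul_ediv_cancel_left _ he.ne']
      rw [mul_left_comm]
      exact mul_nonneg he.le (mul_self_nonneg k)
    have hz := (Finset.sum_eq_zero_iff_of_nonneg hnn).mp horth
    refine MTree.const_of_del ends (fun e : E => e) hconn fun e => ?_
    rcases mul_eq_zero.mp (hz e (Finset.mem_univ e)) with h0 | h0
    · exact (Int.eq_zero_of_ediv_eq_zero (hφ e) h0)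
    · exact h0
  · intro h v
    refine Finset.sum_eq_zero fun e _ => ?_
    simp [h (ends e).2 (ends e).1]

end Groth.Agent.S13757
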