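import Mathlib
import Groth.Agent.MTree.Cycle
import Groth.Statements.S13759

set_option autoImplicit false
universe u
open LabGraph

namespace Groth.Agent.S13759

open Groth.Agent

/-- Let G be a finite connected multigraph with vertex set V, edge set E, endpoint map E → V × V and
positive integer edge labels l, and let G̃ be its total blow-up graph: every edge e is replaced by a
path of l(e) edges through l(e) − 1 new vertices, all new edges labelled 1 (so every vertex
labelling of G̃ is Cartier and its multidegree is the sum over edge-ends of the differences of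
values). Let H, resp. H̃, be the cokernel of the multidegree operator from Cartier vertex labellings
of G to ℤ^V, resp. of G̃ to ℤ^Ṽ, and ε : H → H̃ the map induced by extending vertex labellings of G
by zero on the new vertices. Then ε is injective: if a vertex labelling α of G, extended by zero, is
the multidegree of some vertex labelling of G̃, then α is the multidegree of some Cartier vertex
labelling of G. -/
theorem result
    {V E : Type u} [Fintype V] [Fintype E] [DecidableEq V] [DecidableEq E]
    (ends : E → V × V) (l : E → ℕ) (hl : ∀ e, 0 < l e) (hconn : LabGraph.Connected ends)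
    (α : V → ℤ) (ψ : LabGraph.BlVert V E l → ℤ)
    (hψ : ∀ w : LabGraph.BlVert V E l,
      LabGraph.mdeg (LabGraph.blEnds ends l) (fun _ => 1) ψ w = Sum.elim α (fun _ => (0 : ℤ)) w) :
    ∃ φ : V → ℤ, LabGraph.IsCartier ends l φ ∧ ∀ v : V, LabGraph.mdeg ends l φ v = α v := by
  set q := MTree.pathDel ends l ψ with hq
  have hw : ∀ w, boundary (blEnds ends l) (fun p : BlEdge E l => q p.1 p.2.val) w =
      Sum.elim α (fun _ => (0 : ℤ)) w := fun w => by rw [hq, ← MTree.mdeg_blEnds, hψ]
  have hstep : ∀ e i, i + 1 < l e → q e i = q e (i + 1) := fun e i hi => by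
    have h := hw (Sum.inr ⟨e, ⟨i, by omega⟩⟩)
    rw [MTree.boundary_blEnds_inr] at h
    exact sub_eq_zero.mp h
  have hconst : ∀ e i, i < l e → q e i = q e 0 := fun e i => by
    induction i with
    | zero => exact fun _ => rfl
    | succ i ih => exact fun hi => (hstep e i hi).symm.trans (ih (by omega))
  have hdel : ∀ e, MTree.del ends (fun v => ψ (Sum.inl v)) e = (l e : ℤ) * q e 0 := fun e => by
    rw [← MTree.sum_pathDel ends l hl ψ e,
      Finset.sum_congr rfl fun k hk => hconst e k (Finset.mem_range.mp hk)]
    simp [hq]
  have hcart : IsCartier ends l (fun v => ψ (Sum.inl v)) := fun e => ⟨q e 0, hdel e⟩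
  refine ⟨_, hcart, fun v => ?_⟩
  rw [MTree.mdeg_eq_boundary ends l _ hcart, show α v = _ from (hw (Sum.inl v)).symm,
    MTree.boundary_blEnds_inl ends l hl]
  refine Finset.sum_congr rfl fun e _ => ?_
  have := hl e
  dsimp only
  rw [hconst e (l e - 1) (by omega), hdel e, Int.mul_ediv_cancel_left _ (by omega)]

end Groth.Agent.S13759
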