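import Mathlib
import Groth.Agent.MTree.Cycle
import Groth.Statements.S13760

set_option autoImplicit false
universe u
open LabGraph

namespace Groth.Agent.S13760

open Groth.Agent

/-- Let G be a finite connected multigraph with vertex set V, edge set E, endpoint map E → V × V and
positive integer edge labels l, let G̃ be its total blow-up graph (every edge e replaced by a path
of l(e) edges through l(e) − 1 new vertices, all labelled 1), and let ε : H → H̃ be the map from the
cokernel of the multidegree operator on Cartier vertex labellings of G to the cokernel of the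
multidegree operator on vertex labellings of G̃ induced by extension by zero. Then ε is surjective —
every vertex labelling β of G̃ can be corrected by the multidegree of a vertex labelling of G̃ so as
to vanish at all new vertices — if and only if G is circuit-coprime (the labels along every circuit
have greatest common divisor 1). (The published statement is 'ε is an isomorphism if and only if the
labelled graph is circuit-coprime'; injectivity of ε holds for every labelled graph, so the content
is the equivalence for surjectivity, stated here with the cokernels unpacked.) -/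
theorem result
    {V E : Type u} [Fintype V] [Fintype E] [DecidableEq V] [DecidableEq E]
    (ends : E → V × V) (l : E → ℕ) (hl : ∀ e, 0 < l e) (hconn : LabGraph.Connected ends) :
    (∀ β : LabGraph.BlVert V E l → ℤ, ∃ (ψ : LabGraph.BlVert V E l → ℤ) (α : V → ℤ),
        ∀ w : LabGraph.BlVert V E l,
          LabGraph.mdeg (LabGraph.blEnds ends l) (fun _ => 1) ψ w + β w = Sum.elim α (fun _ => (0 : ℤ)) w) ↔
      LabGraph.IsCircuitCoprime ends l := by
  constructor
  · intro h
    refine MTree.coprime_of_orth ends l hconn fun x => MTree.orth_of_congr_pot ends l x ?_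
    obtain ⟨ψ, α, hψ⟩ := h (Sum.elim (fun _ => 0) fun p => if p.2.val + 2 = l p.1 then x p.1 else 0)
    refine ⟨fun v => ψ (Sum.inl v), fun e => ?_⟩
    set q := MTree.pathDel ends l ψ with hq
    have hq0 : ∀ i, i + 1 < l e → q e (i + 1) = q e i + if i + 2 = l e then x e else 0 := fun i hi => by
      have h := hψ (Sum.inr ⟨e, ⟨i, by omega⟩⟩)
      rw [MTree.mdeg_blEnds, ← hq, MTree.boundary_blEnds_inr] at h
      simp only [Sum.elim_inr] at h
      linarith
    have hval : ∀ i, i < l e → q e i = q e 0 + if i ≠ 0 ∧ i + 1 = l e then x e else 0 := fun i => by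
      induction i with
      | zero => intro; simp
      | succ i ih =>
        intro hi
        rw [hq0 i hi, ih (by omega)]
        split_ifs <;> omega
    rw [← MTree.sum_pathDel ends l hl ψ e, ← hq,
      Finset.sum_congr rfl fun k hk => hval k (Finset.mem_range.mp hk), Finset.sum_add_distrib,
      Finset.sum_const, Finset.card_range, nsmul_eq_mul]
    rcases (Nat.one_le_iff_ne_zero.mpr (hl e).ne').eq_or_lt with h1 | h1
    · rw [← h1]; exact one_dvd _
    · rw [Finset.sum_eq_single (l e - 1) (fun k _ hk => if_neg fun h => hk (by omega))
        (fun h => absurd (Finset.mem_range.mpr (by omega)) h), if_pos ⟨by omega, by omega⟩, add_sub_cancel_right]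
      exact dvd_mul_right _ _
  · intro hcop β
    let b : E → ℕ → ℤ := fun e i => if h : i < l e - 1 then β (Sum.inr ⟨e, ⟨i, h⟩⟩) else 0
    let X : E → ℤ := fun e => ∑ k ∈ Finset.range (l e), ∑ i ∈ Finset.range k, b e i
    obtain ⟨φ, hφ⟩ := MTree.exists_congr_pot ends l hl hconn hcop X
    choose y hy using hφ
    let q : E → ℕ → ℤ := fun e k => y e + ∑ i ∈ Finset.range k, b e i
    have hsum : ∀ e, ∑ k ∈ Finset.range (l e), q e k = φ (ends e).1 - φ (ends e).2 := fun e => by
      have h := hy e
      simp only [q, Finset.sum_add_distrib, Finset.sum_const, Finset.card_range, nsmul_eq_mul]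
      simp only [MTree.del, X] at h
      linarith
    let P : E → ℕ → ℤ := fun e j => φ (ends e).1 - ∑ k ∈ Finset.range j, q e k
    let ψ : BlVert V E l → ℤ := Sum.elim φ fun p => P p.1 (p.2.val + 1)
    have hψP : ∀ e j, j ≤ l e → ψ (pathVert ends l e j) = P e j := fun e j hj => by
      unfold pathVert
      split_ifs with h0 h
      · simp [ψ, P, h0]
      · simp only [ψ, Sum.elim_inr]
        rw [Nat.sub_add_cancel (Nat.pos_of_ne_zero h0)]
      · rw [show j = l e by omega]
        simp [ψ, P, hsum]
    have hq : ∀ e k, k < l e → MTree.pathDel ends l ψ e k = q e k := fun e k hk => by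
      rw [MTree.pathDel, hψP e k hk.le, hψP e (k + 1) hk]
      simp [P, Finset.sum_range_succ]
    refine ⟨ψ, fun v => mdeg (blEnds ends l) (fun _ => 1) ψ (Sum.inl v) + β (Sum.inl v), fun w => ?_⟩
    rcases w with v | ⟨e, i⟩
    · rfl
    · have := i.2
      rw [MTree.mdeg_blEnds, MTree.boundary_blEnds_inr, hq e i.val (by omega), hq e (i.val + 1) (by omega)]
      simp [q, Finset.sum_range_succ, b, i.2]

end Groth.Agent.S13760
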