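import Groth.Statements.S1377
import Mathlib.AlgebraicGeometry.Normalization


set_option autoImplicit false
universe u
open FlatMor

namespace Groth.Agent.S1377

open AlgebraicGeometry CategoryTheory Limits in
/-- Let S be a scheme, U ⊆ S an open subscheme whose inclusion U → S is quasi-compact (U retrocompact in
S), and V → U a surjective integral morphism. Then there are a scheme V' and a surjective integral
morphism V' → S whose base change to U is V → U. (The published statement puts no condition on U,
and in that generality it is false: e.g. S = Spec ∏_i ℤ/4^i with U = D(2) ∪ ⋃_i D(e_i), e_i the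
idempotents, and V equal to U except that over D(2) it is cut out by x = (2^i)_i. Stated here with U
→ S quasi-compact, under which hypothesis the published argument applies.) -/
theorem result {S V : Scheme.{u}} (U : S.Opens) [QuasiCompact U.ι]
    (v : V ⟶ (U : Scheme.{u})) [IsIntegralHom v] [Surjective v] :
    ∃ (V' : Scheme.{u}) (π : V' ⟶ S) (i : V ⟶ V'), Surjective π ∧ IsIntegralHom π ∧ IsPullback i v π U.ι := by
  let f : V ⟶ S := v ≫ U.ι
  haveI : QuasiSeparated f := inferInstanceAs (QuasiSeparated (v ≫ U.ι))
  haveI : QuasiCompact f := inferInstanceAs (QuasiCompact (v ≫ U.ι))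
  let W := f.normalization
  have h : IsPullback (𝟙 V) v f U.ι :=
    (IsPullback.of_horiz_isIso ⟨by simp⟩ : IsPullback (𝟙 V) v v (𝟙 _)).paste_vert
      (IsKernelPair.id_of_mono U.ι)
  haveI hint : IsIntegralHom (pullback.snd f U.ι) := by
    rw [← h.isoPullback_inv_snd]
    infer_instance
  haveI : IsIso (f.normalizationPullback U.ι) := inferInstance
  let e : V ≅ pullback f.fromNormalization U.ι :=
    h.isoPullback ≪≫ asIso (pullback.snd f U.ι).toNormalization ≪≫ asIso (f.normalizationPullback U.ι)
  have hW : IsPullback f.toNormalization v f.fromNormalization U.ι := by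
    refine IsPullback.of_iso_pullback ⟨by simp [f]⟩ e ?_ ?_
    · simp [e]
    · simp [e]
  let Z := (Scheme.IdealSheafData.vanishingIdeal ⟨(U : Set S)ᶜ, U.2.isClosed_compl⟩)
  refine ⟨W ⨿ Z.subscheme, coprod.desc f.fromNormalization Z.subschemeι, f.toNormalization ≫ coprod.inl, ?_, inferInstance, ?_⟩
  · constructor
    intro s
    by_cases hs : s ∈ U
    · obtain ⟨a, ha⟩ := v.surjective ⟨s, hs⟩
      refine ⟨(f.toNormalization ≫ coprod.inl) a, ?_⟩
      rw [← Scheme.Hom.comp_apply, Category.assoc, coprod.inl_desc, f.toNormalization_fromNormalization]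
      simp [f, ha]
    · obtain ⟨z, hz⟩ : s ∈ Set.range Z.subschemeι := by
        rw [Scheme.IdealSheafData.range_subschemeι]
        simpa [Z, Scheme.IdealSheafData.coe_support_vanishingIdeal] using hs
      exact ⟨(coprod.inr : Z.subscheme ⟶ W ⨿ Z.subscheme) z, by rw [← Scheme.Hom.comp_apply, coprod.inr_desc, hz]⟩
  · have hi : IsOpenImmersion f.toNormalization := MorphismProperty.of_isPullback hW.flip inferInstance
    refine (IsOpenImmersion.isPullback _ _ _ _ ?_ ?_).flip
    · rw [Category.assoc, coprod.inl_desc]; exact f.toNormalization_fromNormalization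
    have hr : Set.range f.toNormalization = f.fromNormalization ⁻¹' (U : Set S) := by
      rw [show f.toNormalization = e.hom ≫ pullback.fst _ _ by simp [e],
        Scheme.Hom.comp_base, TopCat.coe_comp, e.hom.surjective.range_comp,
        Scheme.Pullback.range_fst, Scheme.Opens.range_ι]
    ext s
    obtain ⟨(w | z), rfl⟩ := (coprodMk _ _).surjective s
    · rw [coprodMk_inl]
      have h1 : w ∈ Set.range f.toNormalization ↔ f.fromNormalization w ∈ U := by
        rw [hr]; simp
      simp only [Scheme.Hom.mem_preimage, SetLike.mem_coe, Scheme.Opens.opensRange_ι,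
        ← Scheme.Hom.comp_apply, coprod.inl_desc, ← h1, Scheme.Hom.coe_opensRange,
        Scheme.Hom.comp_base, TopCat.coe_comp, Set.range_comp]
      exact ⟨fun ha => ⟨w, ha, rfl⟩, fun ⟨w', hw', e'⟩ => by
        rwa [← (coprod.inl : W ⟶ W ⨿ Z.subscheme).isOpenEmbedding.injective e']⟩
    · rw [coprodMk_inr]
      simp only [Scheme.Hom.mem_preimage, SetLike.mem_coe, Scheme.Opens.opensRange_ι,
        ← Scheme.Hom.comp_apply, coprod.inr_desc, Scheme.Hom.coe_opensRange,
        Scheme.Hom.comp_base, TopCat.coe_comp, Set.range_comp]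
      have hz : Z.subschemeι z ∉ U := by
        have : Z.subschemeι z ∈ Set.range Z.subschemeι := ⟨z, rfl⟩
        rw [Scheme.IdealSheafData.range_subschemeι] at this
        simpa [Z, Scheme.IdealSheafData.coe_support_vanishingIdeal] using this
      exact ⟨fun ha => absurd ha hz, fun ⟨w', _, e'⟩ => (inr_ne_inl _ _ _ _ e'.symm).elim⟩

end Groth.Agent.S1377
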