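import Groth.Statements.S13771
import Groth.Agent.PLieLib.Basic

set_option autoImplicit false
universe u v w
open PLie

namespace Groth.Agent.S13771

/-- Let R be a commutative ring of prime characteristic p, L₁ and L₂ Lie algebras over R, φ a p-mapping
on L₁ and f : L₁ → L₂ a morphism of Lie algebras whose kernel is stable under φ (a p-ideal). Then
the image f(L₁), a Lie subalgebra of L₂, carries exactly one p-mapping ψ for which the corestriction
of f to its image is a morphism of p-Lie algebras, i.e. ψ (f x) = f (φ x) for all x. -/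
theorem result (R : Type u) [CommRing R] (p : ℕ) [Fact p.Prime] [CharP R p]
    (L₁ : Type v) [LieRing L₁] [LieAlgebra R L₁] (L₂ : Type w) [LieRing L₂] [LieAlgebra R L₂]
    (φ : PLie.PMap R p L₁) (f : L₁ →ₗ⁅R⁆ L₂) (hker : ∀ x : L₁, f x = 0 → f (φ x) = 0) :
    ∃! ψ : PLie.PMap R p f.range, PLie.IsPHom φ ψ f.rangeRestrict := by
  set g := f.rangeRestrict with hg
  have hs : ∀ z : f.range, ∃ x, g x = z := fun z => LieHom.surjective_rangeRestrict f z
  choose s hs using hs
  have hk : ∀ x : L₁, g x = 0 → g (φ x) = 0 := fun x hx =>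
    Subtype.ext (hker x (congrArg Subtype.val hx))
  have key : ∀ a b : L₁, g a = g b → g (φ a) = g (φ b) := by
    intro a b h
    have h0 : g (a - b) = 0 := by rw [map_sub, h, sub_self]
    have := φ.map_add b (a - b)
    rw [add_sub_cancel] at this
    rw [this, map_sub, map_add, hk _ h0, add_zero, Groth.Agent.PLieLib.map_jacobson, h0,
      Groth.Agent.PLieLib.jacobson_zero, sub_zero]
  refine ⟨⟨fun z => g (φ (s z)), fun c z => ?_, fun z => ?_, fun a b => ?_⟩, fun x => key _ _ (hs _).symm, ?_⟩
  · rw [key (s (c • z)) (c • s z) (by rw [hs, _root_.map_smul, hs]), φ.map_smul, _root_.map_smul]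
  · ext y
    obtain ⟨y, rfl⟩ := LieHom.surjective_rangeRestrict f y
    have h1 : ⁅g (φ (s z)), g y⁆ = (LieAlgebra.ad R f.range z ^ p) (g y) := by
      rw [← LieHom.map_lie, Groth.Agent.PLieLib.pmap_bracket, Groth.Agent.PLieLib.ad_pow_map, hs]
    exact congrArg Subtype.val h1
  · rw [key (s (a + b)) (s a + s b) (by rw [hs, map_add, hs, hs]), φ.map_add, map_sub, map_add,
      Groth.Agent.PLieLib.map_jacobson, hs, hs]
  · rintro ⟨t, h1, h2, h3⟩ h
    congr 1
    funext z
    conv_lhs => rw [← hs z]
    exact (h (s z)).symm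

end Groth.Agent.S13771
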