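import Groth.Statements.S13776
import Groth.Agent.PBW.Jacobson
import Mathlib.Tactic.FinCases

set_option autoImplicit false
universe u v
open PLie

namespace Groth.Agent.S13776

/-- Let R be a commutative ring of prime characteristic p, t ∈ R, and L a Lie algebra over R, free as a
module with basis x = bs 0, y = bs 1, z = bs 2 and brackets [x,y] = y, [x,z] = t • z, [y,z] = 0.
Then L carries a p-mapping if and only if t ^ p = t. (The published statement is the corresponding
entry of the classification table over an algebraically closed field of characteristic p, where the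
condition reads: t lies in the prime field; this row states it over every commutative ring of
characteristic p.) -/
theorem result (R : Type u) [CommRing R] (p : ℕ) [Fact p.Prime] [CharP R p] (t : R)
    (L : Type v) [LieRing L] [LieAlgebra R L] (bs : Module.Basis (Fin 3) R L)
    (hxy : ⁅bs 0, bs 1⁆ = bs 1) (hxz : ⁅bs 0, bs 2⁆ = t • bs 2) (hyz : ⁅bs 1, bs 2⁆ = 0) :
    Nonempty (PLie.PMap R p L) ↔ t ^ p = t := by
  have hyx : ⁅bs 1, bs 0⁆ = -bs 1 := by rw [← lie_skew, hxy]
  have hzx : ⁅bs 2, bs 0⁆ = -(t • bs 2) := by rw [← lie_skew, hxz]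
  have hzy : ⁅bs 2, bs 1⁆ = 0 := by rw [← lie_skew, hyz, neg_zero]
  have k1 : ∀ n : ℕ, (LieAlgebra.ad R L (bs 0) ^ n) (bs 1) = bs 1 := fun n => by
    induction n with
    | zero => simp
    | succ n ih => simp [pow_succ', ih, hxy]
  have k2 : ∀ n : ℕ, (LieAlgebra.ad R L (bs 0) ^ n) (bs 2) = t ^ n • bs 2 := fun n => by
    induction n with
    | zero => simp
    | succ n ih => simp [pow_succ', ih, hxz, smul_smul, mul_comm]
  constructor
  · rintro ⟨φ⟩
    haveI := CharP.nontrivial_of_char_ne_one (R := R) (Fact.out : p.Prime).ne_one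
    have h1 := k1 p
    have h2 := k2 p
    rw [← φ.ad_map, LieAlgebra.ad_apply] at h1 h2
    have hw := bs.sum_repr (φ (bs 0))
    rw [Fin.sum_univ_three] at hw
    rw [← hw] at h1 h2
    simp [add_lie, smul_lie, hxy, hxz, hyz, hzy] at h1 h2
    have e1 := congrArg (fun v => bs.repr v 1) h1
    have e2 := congrArg (fun v => bs.repr v 2) h2
    simp at e1 e2
    rw [e1, one_mul] at e2
    exact e2.symm
  · intro ht
    obtain ⟨φ, -, -⟩ := Groth.Agent.PBW.exists_pmap (p := p) bs ![bs 0, 0, 0] (fun i => by
      have hp : p = p - 2 + 2 := by have := (Fact.out : p.Prime).two_le; omega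
      apply bs.ext
      intro j
      fin_cases i
      · fin_cases j
        · simp only [Fin.zero_eta, Matrix.cons_val_zero]
          rw [show p = p - 1 + 1 by omega, pow_succ]; simp
        · simp [k1, hxy]
        · simp [k2, hxz, ht]
      · show (LieAlgebra.ad R L (bs 1) ^ p) (bs j) = _
        rw [hp, pow_add, pow_two]
        fin_cases j <;> simp [hyx, hyz]
      · show (LieAlgebra.ad R L (bs 2) ^ p) (bs j) = _
        rw [hp, pow_add, pow_two]
        fin_cases j <;> simp [hzx, hzy])
    exact ⟨φ⟩

end Groth.Agent.S13776
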