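import Groth.Statements.S13778
import Groth.Agent.PLieDeformH7.Basic
import Groth.Agent.PBW.Jacobson
import Mathlib.Tactic.FinCases
-- import your own Groth.Agent.* helpers here

set_option autoImplicit false
set_option backward.isDefEq.respectTransparency false
universe u v
open PLie

namespace Groth.Agent.S13778

open DualNumber in
/-- Let K be a field of prime characteristic p, K[ε] the ring of dual numbers (taken with its
characteristic-p structure), t ∈ K with t ^ p = t (an element of the prime field), and a, …, i ∈ K.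
Let L be a Lie algebra over K[ε], free as a module with basis x = bs 0, y = bs 1, z = bs 2 and
brackets [x,y] = aε x + (1 + bε) y + cε z, [x,z] = dε x + eε y + (t + fε) z, [y,z] = gε x + hε y +
iε z. Then L carries a p-mapping over K[ε] if and only if b t = f, c = e = 0 when t = 1, and g = 0
when p = 2. (The published statement determines the singular locus of the restrictable locus in the
centreless stratum of the moduli scheme of based three-dimensional Lie algebras, for t non-zero, and
the rank-one-centre stratum treats t = 0; this row states the restrictability criterion for the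
first-order deformations of l_t that the proofs compute, over any field of characteristic p in place
of the prime field and for every t in the prime field.) -/
theorem result (K : Type u) [Field K] (p : ℕ) [Fact p.Prime] [CharP K p]
    [CharP (DualNumber K) p] (t a b c d e f g h i : K) (ht : t ^ p = t)
    (L : Type v) [LieRing L] [LieAlgebra (DualNumber K) L] (bs : Module.Basis (Fin 3) (DualNumber K) L)
    (hxy : ⁅bs 0, bs 1⁆ = (a • ε : DualNumber K) • bs 0 + (1 + b • ε : DualNumber K) • bs 1 + (c • ε : DualNumber K) • bs 2)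
    (hxz : ⁅bs 0, bs 2⁆ = (d • ε : DualNumber K) • bs 0 + (e • ε : DualNumber K) • bs 1 +
      (algebraMap K (DualNumber K) t + f • ε) • bs 2)
    (hyz : ⁅bs 1, bs 2⁆ = (g • ε : DualNumber K) • bs 0 + (h • ε : DualNumber K) • bs 1 + (i • ε : DualNumber K) • bs 2) :
    Nonempty (PLie.PMap (DualNumber K) p L) ↔ (b * t = f ∧ (t = 1 → c = 0 ∧ e = 0) ∧ (p = 2 → g = 0)) := by
  classical
  have hp : p.Prime := Fact.out
  let E : K → DualNumber K := fun r => r • ε
  let C : K → DualNumber K := fun r => TrivSqZeroExt.inl r
  let S : ℕ → K := fun n => ∑ j ∈ Finset.range n, t ^ j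
  let P : Fin 3 → DualNumber K := ![E a, 1 + E b, E c]
  let Q : Fin 3 → DualNumber K := ![E d, E e, C t + E f]
  let W : Fin 3 → DualNumber K := ![E g, E h, E i]
  have h01 : ⁅bs 0, bs 1⁆ = PLieDeformH7.V bs P := hxy
  have h02 : ⁅bs 0, bs 2⁆ = PLieDeformH7.V bs Q := hxz
  have h12 : ⁅bs 1, bs 2⁆ = PLieDeformH7.V bs W := hyz
  let F : Fin 3 → (Fin 3 → DualNumber K) → (Fin 3 → DualNumber K) := fun m =>
    PLieDeformH7.br P Q W (Pi.single m 1)
  let X : ℕ → Fin 3 → (Fin 3 → DualNumber K) := fun n j =>
    if j = 1 then ![E a, 1 + E ((n + 1 : ℕ) * b), E (c * S (n + 1))]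
    else if j = 2 then ![E (d * t ^ n), E (e * S (n + 1)), C (t ^ (n + 1)) + E ((n + 1 : ℕ) * t ^ n * f)]
    else 0
  have hx : ∀ (n : ℕ) (j : Fin 3), (F 0)^[n + 1] (Pi.single j 1) = X n j := by
    intro n
    induction n with
    | zero =>
      intro j; funext l
      fin_cases j <;> fin_cases l <;> ext <;> simp [F, X, S, PLieDeformH7.br, P, Q, W, E, C] <;> ring
    | succ n ih =>
      intro j; funext l
      rw [Function.iterate_succ_apply', ih]
      have hS : S (n + 1 + 1) = 1 + t * S (n + 1) := by
        simp only [S]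
        rw [Finset.sum_range_succ' _ (n + 1), Finset.mul_sum, pow_zero, add_comm]
        exact congrArg _ (Finset.sum_congr rfl fun j _ => pow_succ' t j)
      have hS' : S (n + 1 + 1) = S (n + 1) + t ^ (n + 1) := Finset.sum_range_succ _ _
      fin_cases j <;> fin_cases l <;> ext <;> simp [F, X, PLieDeformH7.br, P, Q, W, E, C] <;>
        first | (rw [hS]; linear_combination e * (hS.symm.trans hS') ) | (rw [hS]; ring1) | (rw [hS']; ring1) | ring1
  have hy2 : ∀ j : Fin 3, (F 1)^[2] (Pi.single j 1) =
      if j = 0 then ![0, E a, 0] else if j = 2 then ![0, - E g, 0] else 0 := by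
    intro j; funext l
    fin_cases j <;> fin_cases l <;> ext <;> simp [F, PLieDeformH7.br, P, Q, W, E, C] <;> ring
  have hy3 : ∀ j : Fin 3, (F 1)^[3] (Pi.single j 1) = 0 := by
    intro j; funext l
    rw [Function.iterate_succ_apply', hy2]
    fin_cases j <;> fin_cases l <;> ext <;> simp [F, PLieDeformH7.br, P, Q, W, E, C] <;> ring
  have hz2 : ∀ j : Fin 3, (F 2)^[2] (Pi.single j 1) =
      if j = 0 then ![0, 0, E (d * t)] else if j = 1 then ![0, 0, E (g * t)] else 0 := by
    intro j; funext l
    fin_cases j <;> fin_cases l <;> ext <;> simp [F, PLieDeformH7.br, P, Q, W, E, C] <;> ring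
  have hz3 : ∀ j : Fin 3, (F 2)^[3] (Pi.single j 1) = 0 := by
    intro j; funext l
    rw [Function.iterate_succ_apply', hz2]
    fin_cases j <;> fin_cases l <;> ext <;> simp [F, PLieDeformH7.br, P, Q, W, E, C] <;> ring
  have hF0 : ∀ m, F m 0 = 0 := fun m => by funext l; simp [F, PLieDeformH7.br]
  have hge : ∀ (m : Fin 3) (n N : ℕ) (w : Fin 3 → DualNumber K), (F m)^[n] w = 0 → n ≤ N →
      (F m)^[N] w = 0 := fun m n N w hw hN => by
    rw [← Nat.sub_add_cancel hN, Function.iterate_add_apply, hw, Function.iterate_fixed (hF0 m)]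
  have hp1 : p - 1 + 1 = p := Nat.sub_add_cancel hp.one_le
  have hpK : (p : K) = 0 := CharP.cast_eq_zero K p
  have hp1K : ((p - 1 : ℕ) : K) + 1 = 0 := by rw [← Nat.cast_add_one, hp1, hpK]
  have hp0 : p - 1 ≠ 0 := by have := hp.two_le; omega
  have hS : S p = if t = 1 then 0 else 1 := by
    simp only [S]
    split_ifs with h1
    · simp [h1, hpK]
    · apply mul_right_cancel₀ (sub_ne_zero.2 h1)
      rw [geom_sum_mul, ht, one_mul]
  have hx' : ∀ j : Fin 3, (F 0)^[p] (Pi.single j 1) =
      if j = 1 then ![E a, 1, E (c * S p)]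
      else if j = 2 then ![E (d * t ^ (p - 1)), E (e * S p), C t] else 0 := by
    intro j
    have h := hx (p - 1) j
    rw [hp1] at h
    rw [h]
    funext l
    fin_cases j <;> fin_cases l <;> simp [X, hp1, hp1K, ht, hpK, E, S, C]
  constructor
  · rintro ⟨φ⟩
    have key : ∀ m, ∀ j, (F m)^[p] (Pi.single j 1) =
        PLieDeformH7.br P Q W (fun l => bs.repr (φ (bs m)) l) (Pi.single j 1) := fun m =>
      (PLieDeformH7.ad_pow_eq_iff h01 h02 h12 m _ p).1 (by rw [PLieDeformH7.V_repr, φ.ad_map])
    have hxk := key 0
    simp only [hx'] at hxk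
    have x001 := congrArg TrivSqZeroExt.fst (congrFun (hxk 0) 1)
    have x002 := congrArg TrivSqZeroExt.fst (congrFun (hxk 0) 2)
    have x002' := congrArg TrivSqZeroExt.snd (congrFun (hxk 0) 2)
    have x011 := congrArg TrivSqZeroExt.fst (congrFun (hxk 1) 1)
    have x011' := congrArg TrivSqZeroExt.snd (congrFun (hxk 1) 1)
    have x012' := congrArg TrivSqZeroExt.snd (congrFun (hxk 1) 2)
    have x021' := congrArg TrivSqZeroExt.snd (congrFun (hxk 2) 1)
    have x022' := congrArg TrivSqZeroExt.snd (congrFun (hxk 2) 2)
    simp [PLieDeformH7.br, P, Q, W, E, C] at x001 x002 x002' x011 x011' x012' x021' x022'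
    refine ⟨?_, fun h1 => ?_, fun h2 => ?_⟩
    · grind
    · rw [hS, if_pos h1] at x012' x021'
      subst h1
      refine ⟨?_, ?_⟩ <;> grind
    · subst h2
      have hyk := key 1
      simp only [hy2] at hyk
      have y001 := congrArg TrivSqZeroExt.fst (congrFun (hyk 0) 1)
      have y011 := congrArg TrivSqZeroExt.fst (congrFun (hyk 1) 1)
      have y021 := congrArg TrivSqZeroExt.snd (congrFun (hyk 2) 1)
      simp [PLieDeformH7.br, P, Q, W, E, C] at y001 y011 y021
      grind
  · rintro ⟨hf, hce, hg⟩
    have hjac := fun l => congrArg TrivSqZeroExt.snd (PLieDeformH7.jacobi h01 h02 h12 l)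
    have hj0 := hjac 0
    have hj1 := hjac 1
    simp [PLieDeformH7.br, P, Q, W, E, C] at hj0 hj1
    have hd : d = t * h := by linear_combination -hj1
    have hcS : c * S p = c ∧ e * S p = e := by
      rw [hS]
      split_ifs with h1
      · simp [(hce h1).1, (hce h1).2]
      · simp
    have hdt : d * t ^ (p - 1) = d := by
      rw [hd, mul_right_comm, ← pow_succ', hp1, ht]
    let vy : Fin 3 → DualNumber K := if p = 2 then ![0, - E a, 0] else 0
    let vz : Fin 3 → DualNumber K := if p = 2 then ![0, 0, - E d] else 0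
    obtain ⟨φ, -, -⟩ := Groth.Agent.PBW.exists_pmap (p := p) bs
      (fun m => PLieDeformH7.V bs (![![1 - E b, 0, 0], vy, vz] m)) (fun m => by
      rw [PLieDeformH7.ad_pow_eq_iff h01 h02 h12]
      intro j
      fin_cases m
      · change (F 0)^[p] (Pi.single j 1) = PLieDeformH7.br P Q W ![1 - E b, 0, 0] _
        rw [hx', hcS.1, hcS.2, hdt]
        funext l
        fin_cases j <;> fin_cases l <;> ext <;> simp [PLieDeformH7.br, P, Q, W, E, C, ← hf] <;> ring
      · change (F 1)^[p] (Pi.single j 1) = PLieDeformH7.br P Q W vy _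
        by_cases h2 : p = 2
        · simp only [vy, h2, if_true, hy2]
          funext l
          fin_cases j <;> fin_cases l <;> ext <;>
            simp [PLieDeformH7.br, P, Q, W, E, C, hg h2] <;> ring
        · rw [hge 1 3 p _ (hy3 j) (by have := hp.two_le; omega)]
          simp only [vy, h2, if_false]
          funext l; simp [PLieDeformH7.br]
      · change (F 2)^[p] (Pi.single j 1) = PLieDeformH7.br P Q W vz _
        by_cases h2 : p = 2
        · simp only [vz, h2, if_true, hz2]
          funext l
          fin_cases j <;> fin_cases l <;> ext <;>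
            simp [PLieDeformH7.br, P, Q, W, E, C, hg h2] <;> ring
        · rw [hge 2 3 p _ (hz3 j) (by have := hp.two_le; omega)]
          simp only [vz, h2, if_false]
          funext l; simp [PLieDeformH7.br])
    exact ⟨φ⟩

end Groth.Agent.S13778
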