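import Groth.Statements.S13779
import Groth.Agent.PBW.Jacobson
import Mathlib.Tactic.FinCases

set_option autoImplicit false
universe u v
open PLie

namespace Groth.Agent.S13779

/-- Let p be an odd prime, R a commutative ring of characteristic p, t ∈ R, and L a Lie algebra over R,
free as a module with basis x = bs 0, y = bs 1, z = bs 2 and brackets [x,y] = z, [x,z] = t • y,
[y,z] = 0. Then L carries a p-mapping φ with φ x = t ^ ((p - 1) / 2) • x, φ y = 0 and φ z = 0. (The
published statement concerns the Lie algebra with these brackets over a field of Laurent series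
k((t)), k algebraically closed of odd characteristic, t the variable; this row states its
restrictability over every commutative ring of odd prime characteristic and every t.) -/
theorem result (R : Type u) [CommRing R] (p : ℕ) [Fact p.Prime] [CharP R p] (hp : p ≠ 2)
    (t : R) (L : Type v) [LieRing L] [LieAlgebra R L] (bs : Module.Basis (Fin 3) R L)
    (hxy : ⁅bs 0, bs 1⁆ = bs 2) (hxz : ⁅bs 0, bs 2⁆ = t • bs 1) (hyz : ⁅bs 1, bs 2⁆ = 0) :
    ∃ φ : PLie.PMap R p L, φ (bs 0) = t ^ ((p - 1) / 2) • bs 0 ∧ φ (bs 1) = 0 ∧ φ (bs 2) = 0 := by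
  have hyx : ⁅bs 1, bs 0⁆ = -bs 2 := by rw [← lie_skew, hxy]
  have hzx : ⁅bs 2, bs 0⁆ = -(t • bs 1) := by rw [← lie_skew, hxz]
  have hzy : ⁅bs 2, bs 1⁆ = 0 := by rw [← lie_skew, hyz, neg_zero]
  obtain ⟨m, hm⟩ := ((Fact.out : p.Prime).odd_of_ne_two hp)
  have k : ∀ n : ℕ, (LieAlgebra.ad R L (bs 0) ^ (2 * n + 1)) = t ^ n • LieAlgebra.ad R L (bs 0) := by
    intro n
    induction n with
    | zero => simp
    | succ n ih =>
      rw [show 2 * (n + 1) + 1 = 2 + (2 * n + 1) by omega, pow_add, ih]
      apply bs.ext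
      intro j
      fin_cases j <;> simp [hxy, hxz, pow_succ, smul_smul] <;> (congr 1; ac_rfl)
  obtain ⟨φ, hφ, -⟩ := Groth.Agent.PBW.exists_pmap (p := p) bs ![t ^ ((p - 1) / 2) • bs 0, 0, 0] (fun i => by
    have hp2 : p = p - 2 + 2 := by have := (Fact.out : p.Prime).two_le; omega
    fin_cases i
    · show LieAlgebra.ad R L (bs 0) ^ p = LieAlgebra.ad R L (t ^ ((p - 1) / 2) • bs 0)
      rw [map_smul, show (p - 1) / 2 = m by omega, hm, k]
    · apply bs.ext
      intro j
      show (LieAlgebra.ad R L (bs 1) ^ p) (bs j) = _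
      rw [hp2, pow_add, pow_two]
      fin_cases j <;> simp [hyx, hyz]
    · apply bs.ext
      intro j
      show (LieAlgebra.ad R L (bs 2) ^ p) (bs j) = _
      rw [hp2, pow_add, pow_two]
      fin_cases j <;> simp [hzx, hzy])
  exact ⟨φ, hφ 0, hφ 1, hφ 2⟩

end Groth.Agent.S13779
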