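import Groth.Statements.S13783
import Mathlib

set_option autoImplicit false
universe u
open Curves

namespace Groth.Agent.S13783

open Matrix Projectivization

variable {K : Type u} [Field K]

abbrev Pt (K : Type u) [Field K] := Projectivization K (Fin 2 → K)

/-- The action on the projective line. -/
noncomputable def act (g : GeneralLinearGroup (Fin 2) K) (x : Pt K) : Pt K := GeneralLinearGroup.toLin g • x

theorem act_mul (g h : GeneralLinearGroup (Fin 2) K) (x : Pt K) : act (g * h) x = act g (act h x) := by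
  rw [act, act, act, map_mul, mul_smul]

theorem act_one (x : Pt K) : act 1 x = x := by rw [act, map_one, one_smul]

theorem mulVec_ne_zero (g : GeneralLinearGroup (Fin 2) K) {v : Fin 2 → K} (hv : v ≠ 0) :
    (g : Matrix (Fin 2) (Fin 2) K) *ᵥ v ≠ 0 := fun h => hv (by
  have := congrArg ((((g⁻¹ : GeneralLinearGroup (Fin 2) K)) : Matrix (Fin 2) (Fin 2) K) *ᵥ ·) h
  simp only [mulVec_mulVec, ← Units.val_mul, inv_mul_cancel, Units.val_one, one_mulVec, mulVec_zero] at this
  exact this)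

theorem act_mk (g : GeneralLinearGroup (Fin 2) K) {v : Fin 2 → K} (hv : v ≠ 0) :
    act g (mk K v hv) = mk K ((g : Matrix (Fin 2) (Fin 2) K) *ᵥ v) (mulVec_ne_zero g hv) := rfl

theorem ne_zero_left : (![1, 0] : Fin 2 → K) ≠ 0 := fun h => one_ne_zero (congrFun h 0)
theorem ne_zero_right : (![0, 1] : Fin 2 → K) ≠ 0 := fun h => one_ne_zero (congrFun h 1)
theorem ne_zero_diag : (![1, 1] : Fin 2 → K) ≠ 0 := fun h => one_ne_zero (congrFun h 0)

/-- The three standard points. -/
noncomputable def e₀ : Pt K := mk K _ ne_zero_left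
noncomputable def e₁ : Pt K := mk K _ ne_zero_right
noncomputable def e₂ : Pt K := mk K _ ne_zero_diag

theorem mk_eq_iff_cross {v w : Fin 2 → K} (hv : v ≠ 0) (hw : w ≠ 0) :
    mk K v hv = mk K w hw ↔ v 0 * w 1 = v 1 * w 0 := by
  rw [mk_eq_mk_iff']
  constructor
  · rintro ⟨a, rfl⟩
    simp only [Pi.smul_apply, smul_eq_mul]
    ring
  · intro h
    rcases eq_or_ne (w 0) 0 with h0 | h0
    · have h1 : w 1 ≠ 0 := fun h1 => hw (funext fun i => by fin_cases i <;> assumption)
      rw [h0, mul_zero, mul_eq_zero, or_iff_left h1] at h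
      refine ⟨v 1 / w 1, funext fun i => ?_⟩
      fin_cases i <;> simp [h0, h, h1]
    · refine ⟨v 0 / w 0, funext fun i => ?_⟩
      fin_cases i
      · simp [h0]
      · show v 0 / w 0 * w 1 = v 1
        rw [div_mul_eq_mul_div, h, mul_div_assoc, div_self h0, mul_one]

theorem exists_frame {p q r : Pt K} (hpq : p ≠ q) (hpr : p ≠ r) (hqr : q ≠ r) :
    ∃ g : GeneralLinearGroup (Fin 2) K, act g e₀ = p ∧ act g e₁ = q ∧ act g e₂ = r := by
  induction p using Projectivization.ind with | _ u hu =>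
  induction q using Projectivization.ind with | _ v hv =>
  induction r using Projectivization.ind with | _ w hw =>
  rw [Ne, mk_eq_iff_cross] at hpq hpr hqr
  set D := u 0 * v 1 - u 1 * v 0 with hD
  have hD0 : D ≠ 0 := sub_ne_zero.mpr hpq
  set a := (w 0 * v 1 - w 1 * v 0) / D with ha
  set b := (u 0 * w 1 - u 1 * w 0) / D with hb
  have ha0 : a ≠ 0 := div_ne_zero (fun h => hqr (by linear_combination -h)) hD0
  have hb0 : b ≠ 0 := div_ne_zero (sub_ne_zero.mpr hpr) hD0
  have hdet : (!![a * u 0, b * v 0; a * u 1, b * v 1] : Matrix (Fin 2) (Fin 2) K).det ≠ 0 := by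
    rw [det_fin_two_of, show a * u 0 * (b * v 1) - b * v 0 * (a * u 1) = a * b * D by rw [hD]; ring]
    exact mul_ne_zero (mul_ne_zero ha0 hb0) hD0
  refine ⟨GeneralLinearGroup.mkOfDetNeZero _ hdet, ?_, ?_, ?_⟩
  · rw [e₀, act_mk, mk_eq_iff_cross]
    simp [GeneralLinearGroup.mkOfDetNeZero, mulVec, dotProduct, Fin.sum_univ_two]
    ring
  · rw [e₁, act_mk, mk_eq_iff_cross]
    simp [GeneralLinearGroup.mkOfDetNeZero, mulVec, dotProduct, Fin.sum_univ_two]
    ring
  · rw [e₂, act_mk, mk_eq_iff_cross]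
    have h0 : a * u 0 + b * v 0 = w 0 := by
      rw [ha, hb, div_mul_eq_mul_div, div_mul_eq_mul_div, ← add_div, div_eq_iff hD0, hD]; ring
    have h1 : a * u 1 + b * v 1 = w 1 := by
      rw [ha, hb, div_mul_eq_mul_div, div_mul_eq_mul_div, ← add_div, div_eq_iff hD0, hD]; ring
    simp [GeneralLinearGroup.mkOfDetNeZero, mulVec, dotProduct, Fin.sum_univ_two, h0, h1]
    ring

theorem scalar_of_fix_std {g : GeneralLinearGroup (Fin 2) K} (h0 : act g e₀ = e₀) (h1 : act g e₁ = e₁)
    (h2 : act g e₂ = e₂) : ∃ c : K, (g : Matrix (Fin 2) (Fin 2) K) = c • 1 := by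
  rw [e₀, act_mk, mk_eq_iff_cross] at h0
  rw [e₁, act_mk, mk_eq_iff_cross] at h1
  rw [e₂, act_mk, mk_eq_iff_cross] at h2
  simp [mulVec, dotProduct, Fin.sum_univ_two] at h0 h1 h2
  refine ⟨(g : Matrix (Fin 2) (Fin 2) K) 0 0, Matrix.ext fun i j => ?_⟩
  have g10 : (g : Matrix (Fin 2) (Fin 2) K) 1 0 = 0 := h0.symm
  have g01 : (g : Matrix (Fin 2) (Fin 2) K) 0 1 = 0 := h1
  have g11 : (g : Matrix (Fin 2) (Fin 2) K) 1 1 = (g : Matrix (Fin 2) (Fin 2) K) 0 0 := by
    linear_combination g01 - g10 - h2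
  fin_cases i <;> fin_cases j <;> simp [g10, g01, g11]

theorem scalar_of_fix {g : GeneralLinearGroup (Fin 2) K} {p q r : Pt K} (hpq : p ≠ q) (hpr : p ≠ r)
    (hqr : q ≠ r) (hp : act g p = p) (hq : act g q = q) (hr : act g r = r) :
    ∃ c : K, (g : Matrix (Fin 2) (Fin 2) K) = c • 1 := by
  obtain ⟨m, rfl, rfl, rfl⟩ := exists_frame hpq hpr hqr
  have key : ∀ e, act g (act m e) = act m e → act (m⁻¹ * g * m) e = e := fun e he => by
    rw [act_mul, act_mul, he, ← act_mul, inv_mul_cancel, act_one]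
  obtain ⟨c, hc⟩ := scalar_of_fix_std (key _ hp) (key _ hq) (key _ hr)
  refine ⟨c, ?_⟩
  have : g = m * (m⁻¹ * g * m) * m⁻¹ := by group
  rw [this, Units.val_mul, Units.val_mul, hc, Matrix.mul_smul, Matrix.mul_one, Matrix.smul_mul, ← Units.val_mul,
    mul_inv_cancel, Units.val_one]

variable {k : Type u} [Field k] [Algebra k K]

theorem galP_mk (σ : K ≃ₐ[k] K) {v : Fin 2 → K} (hv : v ≠ 0) :
    W4c1stackycurves.galP σ (mk K v hv) = mk K (fun i => σ (v i))
      (fun h => hv (funext fun i => σ.injective (by rw [congrFun h i, Pi.zero_apply, map_zero]))) := rfl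

theorem galP_act (σ : K ≃ₐ[k] K) (g : GeneralLinearGroup (Fin 2) K) (x : Pt K) :
    W4c1stackycurves.galP σ (act g x) =
      act (GeneralLinearGroup.map (σ : K →+* K) g) (W4c1stackycurves.galP σ x) := by
  induction x using Projectivization.ind with | _ v hv =>
  rw [act_mk, galP_mk, galP_mk, act_mk, mk_eq_iff_cross]
  simp [mulVec, dotProduct, Fin.sum_univ_two]
  ring

theorem galP_std (σ : K ≃ₐ[k] K) : W4c1stackycurves.galP σ (e₀ : Pt K) = e₀ ∧
    W4c1stackycurves.galP σ (e₁ : Pt K) = e₁ ∧ W4c1stackycurves.galP σ (e₂ : Pt K) = e₂ := by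
  refine ⟨?_, ?_, ?_⟩
  · rw [e₀, galP_mk, mk_eq_iff_cross]; simp
  · rw [e₁, galP_mk, mk_eq_iff_cross]; simp
  · rw [e₂, galP_mk, mk_eq_iff_cross]; simp

theorem std_ne : (e₀ : Pt K) ≠ e₁ ∧ (e₀ : Pt K) ≠ e₂ ∧ (e₁ : Pt K) ≠ e₂ := by
  refine ⟨?_, ?_, ?_⟩ <;> simp [e₀, e₁, e₂, mk_eq_iff_cross]

theorem exists_rational_not_mem {S : Set (Pt K)} (hfin : S.Finite) (h : S.ncard < 3) :
    ∃ p ∉ S, ∀ σ : K ≃ₐ[k] K, W4c1stackycurves.galP σ p = p := by
  by_contra! hcon
  have hmem : ∀ p, (∀ σ : K ≃ₐ[k] K, W4c1stackycurves.galP σ p = p) → p ∈ S := fun p hp => by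
    by_contra hn
    obtain ⟨σ, hσ⟩ := hcon p hn
    exact hσ (hp σ)
  have hsub : ({e₀, e₁, e₂} : Set (Pt K)) ⊆ S := by
    rintro p (rfl | rfl | rfl)
    exacts [hmem _ fun σ => (galP_std σ).1, hmem _ fun σ => (galP_std σ).2.1, hmem _ fun σ => (galP_std σ).2.2]
  have h3 : ({e₀, e₁, e₂} : Set (Pt K)).ncard = 3 :=
    Set.ncard_eq_three.mpr ⟨_, _, _, std_ne.1, std_ne.2.1, std_ne.2.2, rfl⟩
  have := Set.ncard_le_ncard hsub hfin
  omega

theorem exists_triple (m : ℕ) : ∀ (S : Set (Pt K)) (f : Pt K → Pt K), S.Finite → S.ncard + m = 3 → S.InjOn f →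
    (∀ (σ : K ≃ₐ[k] K), ∀ x ∈ S, W4c1stackycurves.galP σ x ∈ S ∧
      f (W4c1stackycurves.galP σ x) = W4c1stackycurves.galP σ (f x)) →
    ∃ (S₁ : Set (Pt K)) (f₁ : Pt K → Pt K), S ⊆ S₁ ∧ S.EqOn f₁ f ∧ S₁.ncard = 3 ∧ S₁.InjOn f₁ ∧
      (∀ (σ : K ≃ₐ[k] K), ∀ x ∈ S₁, W4c1stackycurves.galP σ x ∈ S₁ ∧
        f₁ (W4c1stackycurves.galP σ x) = W4c1stackycurves.galP σ (f₁ x)) := by
  classical
  induction m with
  | zero => exact fun S f _ hn hinj heq => ⟨S, f, subset_rfl, fun _ _ => rfl, hn, hinj, heq⟩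
  | succ m ih =>
    intro S f hfin hn hinj heq
    obtain ⟨p, hp, hpr⟩ := exists_rational_not_mem (k := k) hfin (by omega)
    obtain ⟨q, hq, hqr⟩ := exists_rational_not_mem (k := k) (hfin.image f)
      (lt_of_le_of_lt (Set.ncard_image_le hfin) (by omega))
    have hf' : ∀ x ∈ S, Function.update f p q x = f x := fun x hx =>
      Function.update_of_ne (fun e : x = p => hp (e ▸ hx)) _ _
    obtain ⟨S₁, f₁, hsub, heqon, h3, hinj₁, heq₁⟩ := ih (insert p S) (Function.update f p q) (hfin.insert p)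
      (by rw [Set.ncard_insert_of_notMem hp hfin]; omega)
      (by
        rw [Set.injOn_insert hp]
        refine ⟨fun a ha b hb e => hinj ha hb (by rwa [hf' a ha, hf' b hb] at e), ?_⟩
        rw [Function.update_self]
        rintro ⟨x, hx, e⟩
        exact hq ⟨x, hx, (hf' x hx).symm.trans e⟩)
      (by
        rintro σ x (rfl | hx)
        · rw [hpr, Function.update_self, hqr]
          exact ⟨Set.mem_insert _ _, rfl⟩
        · refine ⟨Set.mem_insert_of_mem _ (heq σ x hx).1, ?_⟩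
          rw [hf' _ (heq σ x hx).1, hf' x hx, (heq σ x hx).2])
    exact ⟨S₁, f₁, (Set.subset_insert _ _).trans hsub,
      fun x hx => (heqon (Set.mem_insert_of_mem _ hx)).trans (hf' x hx), h3, hinj₁, heq₁⟩

theorem exists_descent [FiniteDimensional k K] [IsGalois k K] {S : Set (Pt K)} {f : Pt K → Pt K}
    (h3 : S.ncard = 3) (hinj : S.InjOn f)
    (heq : ∀ (σ : K ≃ₐ[k] K), ∀ x ∈ S, W4c1stackycurves.galP σ x ∈ S ∧
        f (W4c1stackycurves.galP σ x) = W4c1stackycurves.galP σ (f x)) :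
    ∃ g : GeneralLinearGroup (Fin 2) k, ∀ x ∈ S,
      act (GeneralLinearGroup.map (algebraMap k K) g) x = f x := by
  obtain ⟨p, q, r, hpq, hpr, hqr, rfl⟩ := Set.ncard_eq_three.mp h3
  have hp : p ∈ ({p, q, r} : Set (Pt K)) := Or.inl rfl
  have hq : q ∈ ({p, q, r} : Set (Pt K)) := Or.inr (Or.inl rfl)
  have hr : r ∈ ({p, q, r} : Set (Pt K)) := Or.inr (Or.inr rfl)
  obtain ⟨M, hM0, hM1, hM2⟩ := exists_frame hpq hpr hqr
  obtain ⟨N, hN0, hN1, hN2⟩ := exists_frame (fun e => hpq (hinj hp hq e))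
    (fun e => hpr (hinj hp hr e)) (fun e => hqr (hinj hq hr e))
  set h := N * M⁻¹ with hh
  have hM' : ∀ {e y}, act M e = y → act M⁻¹ y = e := fun {e y} hy => by
    rw [← hy, ← act_mul, inv_mul_cancel, act_one]
  have hmaps : ∀ x ∈ ({p, q, r} : Set (Pt K)), act h x = f x := by
    rintro x (rfl | rfl | rfl)
    · rw [hh, act_mul, hM' hM0, hN0]
    · rw [hh, act_mul, hM' hM1, hN1]
    · rw [hh, act_mul, hM' hM2, hN2]
  have hscal : ∀ σ : K ≃ₐ[k] K, ∃ c : K, ∀ i j, σ ((h : Matrix (Fin 2) (Fin 2) K) i j) =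
      c * (h : Matrix (Fin 2) (Fin 2) K) i j := by
    intro σ
    have hx : ∀ x ∈ ({p, q, r} : Set (Pt K)),
        act (h⁻¹ * GeneralLinearGroup.map (σ : K →+* K) h) x = x := by
      intro x hx
      obtain ⟨hy, hyf⟩ := heq σ.symm x hx
      have hback : W4c1stackycurves.galP σ (W4c1stackycurves.galP σ.symm x) = x := by
        induction x using Projectivization.ind with | _ v hv =>
        simp only [galP_mk, AlgEquiv.apply_symm_apply]
      have h1 : act (GeneralLinearGroup.map (σ : K →+* K) h) x = act h x := by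
        conv_lhs => rw [← hback]
        rw [← galP_act, hmaps _ hy, ← (heq σ _ hy).2, hback, hmaps x hx]
      rw [act_mul, h1, ← act_mul, inv_mul_cancel, act_one]
    obtain ⟨c, hc⟩ := scalar_of_fix hpq hpr hqr (hx p hp) (hx q hq) (hx r hr)
    refine ⟨c, fun i j => ?_⟩
    have e : ((GeneralLinearGroup.map (σ : K →+* K) h : GeneralLinearGroup (Fin 2) K) : Matrix (Fin 2) (Fin 2) K) =
        c • (h : Matrix (Fin 2) (Fin 2) K) := by
      rw [← mul_inv_cancel_left h (GeneralLinearGroup.map (σ : K →+* K) h), Units.val_mul, hc,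
        Matrix.mul_smul, Matrix.mul_one]
    exact congrFun (congrFun e i) j
  obtain ⟨a, b, hab⟩ : ∃ a b, (h : Matrix (Fin 2) (Fin 2) K) a b ≠ 0 := by
    by_contra! h0
    have := h.isUnit.map detMonoidHom
    rw [coe_detMonoidHom, det_fin_two, h0 0 0, h0 0 1] at this
    simp at this
  have hrat : ∀ i j, ∃ y : k, algebraMap k K y =
      (h : Matrix (Fin 2) (Fin 2) K) i j / (h : Matrix (Fin 2) (Fin 2) K) a b := fun i j => by
    refine Set.mem_range.mp ((IsGalois.mem_range_algebraMap_iff_fixed _).mpr fun σ => ?_)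
    obtain ⟨c, hc⟩ := hscal σ
    rw [map_div₀, hc, hc, mul_div_mul_left]
    intro hc0
    have := hc a b
    rw [hc0, zero_mul] at this
    exact hab (σ.injective (this.trans (map_zero σ).symm))
  choose G hG using hrat
  have hGmat : (Matrix.of G).map (algebraMap k K) =
      ((h : Matrix (Fin 2) (Fin 2) K) a b)⁻¹ • (h : Matrix (Fin 2) (Fin 2) K) := by
    ext i j
    simp [hG, div_eq_inv_mul]
  have hdet : (Matrix.of G).det ≠ 0 := by
    intro h0
    have h1 := congrArg Matrix.det hGmat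
    rw [← RingHom.mapMatrix_apply, ← RingHom.map_det, h0, map_zero, det_smul] at h1
    exact mul_ne_zero (pow_ne_zero _ (inv_ne_zero hab)) (h.isUnit.map detMonoidHom).ne_zero h1.symm
  refine ⟨GeneralLinearGroup.mkOfDetNeZero _ hdet, fun x hx => ?_⟩
  rw [← hmaps x hx]
  induction x using Projectivization.ind with | _ v hv =>
  rw [act_mk, act_mk, mk_eq_mk_iff']
  refine ⟨((h : Matrix (Fin 2) (Fin 2) K) a b)⁻¹, ?_⟩
  rw [← Matrix.smul_mulVec, ← hGmat]
  rfl


/-- Let k be a field and K a finite Galois extension of k. Let S be a finite set of at most three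
K-points of the projective line that is stable under the Galois group of K over k, and let b be a
Galois-equivariant bijection from S onto another set S' of K-points. Then some element of GL_2(k)
maps S onto S'. (This is the statement that two closed subschemes of the projective line over k
which are etale over k of the same degree at most 3 and have isomorphic k-algebras of functions are
exchanged by a k-automorphism of the line, written for their sets of points over a finite Galois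
extension K of k splitting both; an isomorphism of the function algebras is the same as a
Galois-equivariant bijection of these point sets.) -/
theorem result (k K : Type u) [Field k] [Field K]
    [Algebra k K] [FiniteDimensional k K] [IsGalois k K]
    (S S' : Set (Projectivization K (Fin 2 → K))) (hfin : S.Finite) (h3 : S.ncard ≤ 3)
    (hS : ∀ (σ : K ≃ₐ[k] K) (x : Projectivization K (Fin 2 → K)), x ∈ S → W4c1stackycurves.galP σ x ∈ S)
    (b : S ≃ S')
    (hb : ∀ (σ : K ≃ₐ[k] K) (x : S),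
      (b ⟨W4c1stackycurves.galP σ x.1, hS σ x.1 x.2⟩ : Projectivization K (Fin 2 → K)) =
        W4c1stackycurves.galP σ (b x).1) :
    ∃ g : Matrix.GeneralLinearGroup (Fin 2) k,
      (fun x => (Matrix.GeneralLinearGroup.toLin ((Matrix.GeneralLinearGroup.map (algebraMap k K)) g)) • x) '' S = S' := by
  classical
  let f : Pt K → Pt K := fun x => if h : x ∈ S then (b ⟨x, h⟩).1 else x
  have hf : ∀ x (h : x ∈ S), f x = (b ⟨x, h⟩).1 := fun x h => dif_pos h
  have hinj : S.InjOn f := fun x hx y hy e => by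
    rw [hf x hx, hf y hy] at e
    exact congrArg Subtype.val (b.injective (Subtype.ext e))
  have heq : ∀ (σ : K ≃ₐ[k] K), ∀ x ∈ S, W4c1stackycurves.galP σ x ∈ S ∧
      f (W4c1stackycurves.galP σ x) = W4c1stackycurves.galP σ (f x) := fun σ x hx =>
    ⟨hS σ x hx, by rw [hf _ (hS σ x hx), hf x hx]; exact hb σ ⟨x, hx⟩⟩
  obtain ⟨S₁, f₁, hsub, heqon, hc3, hinj₁, heq₁⟩ :=
    exists_triple (k := k) (3 - S.ncard) S f hfin (by omega) hinj heq
  obtain ⟨g, hg⟩ := exists_descent hc3 hinj₁ heq₁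
  refine ⟨g, Set.ext fun y => ⟨?_, fun hy => ?_⟩⟩
  · rintro ⟨x, hx, rfl⟩
    show act _ x ∈ S'
    rw [hg x (hsub hx), heqon hx, hf x hx]
    exact (b _).2
  · refine ⟨(b.symm ⟨y, hy⟩).1, (b.symm ⟨y, hy⟩).2, ?_⟩
    show act _ _ = y
    rw [hg _ (hsub (b.symm ⟨y, hy⟩).2), heqon (b.symm ⟨y, hy⟩).2, hf _ (b.symm ⟨y, hy⟩).2,
      Subtype.coe_eta, Equiv.apply_symm_apply]

end Groth.Agent.S13783
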