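import Groth.Statements.S13784
import Mathlib

set_option autoImplicit false
universe u
open CAlg

namespace Groth.Agent.S13784

/-- Let A be a commutative local ring and G a finite subgroup of Aˣ. If the order of G is invertible in
A, then G is cyclic. -/
theorem result {A : Type u} [CommRing A] [IsLocalRing A]
    (G : Subgroup Aˣ) [Finite G] (hG : IsUnit ((Nat.card G : ℕ) : A)) : IsCyclic G := by
  let f : G →* IsLocalRing.ResidueField A := ((IsLocalRing.residue A : A →* _).comp (Units.coeHom A)).comp G.subtype
  refine isCyclic_of_injective_ringHom f ((injective_iff_map_eq_one f).mpr fun g hg => ?_)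
  have hm : ((g : Aˣ) : A) - 1 ∈ IsLocalRing.maximalIdeal A := by
    rw [← IsLocalRing.residue_eq_zero_iff, map_sub, map_one, sub_eq_zero]; exact hg
  have hpow : ((g : Aˣ) : A) ^ Nat.card G = 1 := by
    have h : g ^ Nat.card G = 1 := pow_card_eq_one'
    have h' : ((g ^ Nat.card G : G) : Aˣ) = 1 := by rw [h]; rfl
    rw [SubmonoidClass.coe_pow] at h'
    rw [← Units.val_pow_eq_pow_val, h', Units.val_one]
  set a := ((g : Aˣ) : A)
  have hu : IsUnit (∑ i ∈ Finset.range (Nat.card G), a ^ i) := by
    by_contra hns
    have hns' : (∑ i ∈ Finset.range (Nat.card G), a ^ i) ∈ IsLocalRing.maximalIdeal A := hns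
    rw [← IsLocalRing.residue_eq_zero_iff, map_sum] at hns'
    have ha1 : IsLocalRing.residue A a = 1 := hg
    have : IsLocalRing.residue A (Nat.card G : A) = 0 := by simpa [ha1] using hns'
    exact (IsLocalRing.residue_ne_zero_iff_isUnit _).mpr hG this
  have h0 : a - 1 = 0 := by
    refine (hu.mul_right_eq_zero).mp ?_
    rw [geom_sum_mul, hpow, sub_self]
  exact Subtype.ext (Units.ext (sub_eq_zero.mp h0))

end Groth.Agent.S13784
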