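import Groth.Statements.S13785
import Mathlib

set_option autoImplicit false
universe u
open CAlg

namespace Groth.Agent.S13785

/-- For any commutative ring A, the determinant of the generic n × n matrix is a nonzerodivisor of the
polynomial ring over A in the n² matrix entries. -/
theorem result (A : Type u) [CommRing A] (n : ℕ) :
    (Matrix.mvPolynomialX (Fin n) (Fin n) A).det ∈ nonZeroDivisors (MvPolynomial (Fin n × Fin n) A) := by
  classical
  rw [mem_nonZeroDivisors_iff_right]
  intro q hq
  let σ : MvPolynomial (Fin n × Fin n) A →+* Polynomial (MvPolynomial (Fin n × Fin n) A) :=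
    MvPolynomial.eval₂Hom (Polynomial.C.comp MvPolynomial.C) (fun ij => (if ij.1 = ij.2 then Polynomial.X else 0) - Polynomial.C (MvPolynomial.X ij))
  have hdet : σ (Matrix.mvPolynomialX (Fin n) (Fin n) A).det = (Matrix.mvPolynomialX (Fin n) (Fin n) A).charpoly := by
    rw [RingHom.map_det, Matrix.charpoly]
    congr 1; ext i j
    by_cases h : i = j <;> simp [σ, Matrix.charmatrix_apply, Matrix.diagonal_apply, h]
  have h0 : σ q = 0 := by
    have := congrArg σ hq
    rw [map_mul, map_zero, hdet] at this
    exact (Matrix.charpoly_monic _).mem_nonZeroDivisors.2 _ this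
  let τ : Polynomial (MvPolynomial (Fin n × Fin n) A) →+* MvPolynomial (Fin n × Fin n) A :=
    Polynomial.eval₂RingHom ((MvPolynomial.aeval fun ij => (-MvPolynomial.X ij : MvPolynomial (Fin n × Fin n) A)) : MvPolynomial (Fin n × Fin n) A →ₐ[A] _).toRingHom 0
  have hid : τ.comp σ = RingHom.id _ := by
    refine MvPolynomial.ringHom_ext (fun r => by simp [τ, σ]) fun ij => ?_
    simp only [τ, σ, RingHom.comp_apply, MvPolynomial.eval₂Hom_X', RingHom.id_apply]
    split_ifs <;> simp
  simpa [h0] using (RingHom.congr_fun hid q).symm

end Groth.Agent.S13785
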