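import Mathlib
import Groth.Agent.ResExt.Flat
import Groth.Statements.S13786

set_option autoImplicit false
universe u
open CAlg

namespace Groth.Agent.S13786

/-- For a commutative ring A and n ≥ 1, with det the determinant of the generic n × n matrix in the
polynomial ring A[X] in n² indeterminates, the A-algebra A[X]/(det) is faithfully flat over A. (For
n = 0 the determinant is 1 and the quotient is the zero ring, so n ≥ 1 is required.) -/
theorem result (A : Type u) [CommRing A] (n : ℕ) (hn : 0 < n) :
    Module.FaithfullyFlat A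
      (MvPolynomial (Fin n × Fin n) A ⧸ Ideal.span {(Matrix.mvPolynomialX (Fin n) (Fin n) A).det}) := by
  classical
  open Polynomial in
  set X := Matrix.mvPolynomialX (Fin n) (Fin n) A with hX
  set f := X.det with hf
  haveI : Nonempty (Fin n) := ⟨⟨0, hn⟩⟩
  -- multiplication by the generic determinant is injective over every ring
  have hreg : ∀ (B : Type u) [CommRing B] (g : MvPolynomial (Fin n × Fin n) B),
      g * (Matrix.mvPolynomialX (Fin n) (Fin n) B).det = 0 → g = 0 := by
    intro B _ g hg
    let M : Matrix (Fin n) (Fin n) (MvPolynomial (Fin n × Fin n) B) := -(Matrix.mvPolynomialX (Fin n) (Fin n) B)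
    let φ : MvPolynomial (Fin n × Fin n) B →ₐ[B] Polynomial (MvPolynomial (Fin n × Fin n) B) :=
      MvPolynomial.aeval fun p => Matrix.charmatrix M p.1 p.2
    have h1 : φ.mapMatrix (Matrix.mvPolynomialX (Fin n) (Fin n) B) = Matrix.charmatrix M :=
      Matrix.mvPolynomialX_mapMatrix_aeval B _
    have h2 : φ g * M.charpoly = 0 := by
      rw [Matrix.charpoly, ← h1, ← AlgHom.map_det, ← map_mul, hg, map_zero]
    have h3 : φ g = 0 := ((Matrix.charpoly_monic M).mul_left_eq_zero_iff).1 h2
    have h4 : ((Polynomial.aeval (0 : MvPolynomial (Fin n × Fin n) B)).restrictScalars B).comp φ = AlgHom.id B _ :=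
      MvPolynomial.algHom_ext fun ⟨i, j⟩ => by
        rcases eq_or_ne i j with rfl | hij
        · simp [φ, M]
        · simp [φ, M, hij]
    rw [← AlgHom.id_apply (R := B) g, ← h4, AlgHom.comp_apply, h3, map_zero]
  haveI : Module.Flat A (MvPolynomial (Fin n × Fin n) A ⧸ Ideal.span {f}) := by
    haveI := Groth.Agent.ResExt.flat_quotient_of_forall (A := A)
      ((Ideal.span {f}).restrictScalars A) (fun q x hx => by
        obtain ⟨hx1, hx2⟩ := hx
        obtain ⟨g, rfl⟩ := Ideal.mem_span_singleton'.1 (show x ∈ Ideal.span {f} from hx2)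
        have hcoef : ∀ y : MvPolynomial (Fin n × Fin n) A, y ∈ q • (⊤ : Submodule A _) →
            MvPolynomial.map (Ideal.Quotient.mk q) y = 0 := fun y hy => by
          refine Submodule.smul_induction_on hy (fun a ha z _ => ?_) fun u w hu hw => by rw [map_add, hu, hw, add_zero]
          rw [MvPolynomial.smul_eq_C_mul, map_mul, MvPolynomial.map_C, Ideal.Quotient.eq_zero_iff_mem.2 ha, map_zero, zero_mul]
        have h5 := hcoef _ hx1
        rw [map_mul, hf, RingHom.map_det, show (MvPolynomial.map (Ideal.Quotient.mk q)).mapMatrix X =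
          Matrix.mvPolynomialX (Fin n) (Fin n) (A ⧸ q) by ext i j; simp [hX]] at h5
        have h6 := hreg _ _ h5
        rw [MvPolynomial.as_sum g, Finset.sum_mul]
        refine sum_mem fun s _ => ?_
        have hs : g.coeff s ∈ q := Ideal.Quotient.eq_zero_iff_mem.1 (by
          rw [← MvPolynomial.coeff_map, h6, MvPolynomial.coeff_zero])
        rw [show MvPolynomial.monomial s (g.coeff s) * f = g.coeff s • (MvPolynomial.monomial s (1 : A) * f) by
          rw [← smul_mul_assoc, MvPolynomial.smul_monomial, smul_eq_mul, mul_one]]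
        exact Submodule.smul_mem_smul hs (Ideal.mul_mem_left _ _ (Ideal.mem_span_singleton_self f)))
    exact Module.Flat.of_linearEquiv (Submodule.Quotient.restrictScalarsEquiv A (Ideal.span {f})).symm
  refine ⟨fun {m} hm htop => ?_⟩
  let ε : (MvPolynomial (Fin n × Fin n) A ⧸ Ideal.span {f}) →ₐ[A] A :=
    Ideal.Quotient.liftₐ _ (MvPolynomial.aeval fun _ => (0 : A)) (fun a ha => by
      obtain ⟨b, rfl⟩ := Ideal.mem_span_singleton'.1 ha
      rw [map_mul, hf, AlgHom.map_det, hX, Matrix.det_eq_zero_of_row_eq_zero (i := ⟨0, hn⟩) (fun j => by simp), mul_zero])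
  have hle : (m • ⊤ : Submodule A (MvPolynomial (Fin n × Fin n) A ⧸ Ideal.span {f})) ≤
      (m.restrictScalars A).comap ε.toLinearMap := by
    rw [Submodule.smul_le]
    intro a ha z _
    show ε (a • z) ∈ m
    rw [map_smul, smul_eq_mul]
    exact m.mul_mem_right _ ha
  have h1 : ε 1 ∈ m := hle (show (1 : MvPolynomial (Fin n × Fin n) A ⧸ Ideal.span {f}) ∈ m • ⊤ by rw [htop]; exact Submodule.mem_top)
  rw [map_one] at h1
  exact hm.ne_top ((Ideal.eq_top_iff_one m).2 h1)

end Groth.Agent.S13786
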