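import Groth.Statements.S13787
import Mathlib

set_option autoImplicit false
universe u
open CAlg

namespace Groth.Agent.S13787

/-- Let A be a nonzero commutative ring and n ≥ 1, let det be the determinant of the generic n × n
matrix in the polynomial ring A[X] in its n² entries, and let A[X, 1/det] be the localization at det
(the coordinate ring of GL_n over A). The homomorphism Aˣ × ℤ → (A[X, 1/det])ˣ sending (a, e) to a ·
det^e is injective. (The published statement takes the exponent in the group of locally constant
ℤ-valued functions on Spec A, which also covers A = 0; with integer exponents as here, A must be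
nonzero and n ≥ 1.) -/
theorem result (A : Type u) [CommRing A] [Nontrivial A] (n : ℕ) (hn : 0 < n) :
    Function.Injective (fun p : Aˣ × ℤ =>
        Units.map (algebraMap A (Localization.Away (Matrix.mvPolynomialX (Fin n) (Fin n) A).det)).toMonoidHom p.1 *
          (IsLocalization.Away.algebraMap_isUnit (S := Localization.Away (Matrix.mvPolynomialX (Fin n) (Fin n) A).det)
            (Matrix.mvPolynomialX (Fin n) (Fin n) A).det).unit ^ p.2) := by
  classical
  set Δ := (Matrix.mvPolynomialX (Fin n) (Fin n) A).det
  let T : LaurentPolynomial A := LaurentPolynomial.T 1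
  let V : Matrix (Fin n) (Fin n) (LaurentPolynomial A) := Matrix.diagonal fun i => if i = ⟨0, hn⟩ then T else 1
  let ev : MvPolynomial (Fin n × Fin n) A →ₐ[A] LaurentPolynomial A := MvPolynomial.aeval fun q => V q.1 q.2
  have hev : ev Δ = T := by
    have h1 : ev.mapMatrix (Matrix.mvPolynomialX (Fin n) (Fin n) A) = V := by
      ext i j; simp [ev]
    rw [AlgHom.map_det, h1, Matrix.det_diagonal, Finset.prod_ite_eq']; simp
  have hT : IsUnit (ev Δ) := by rw [hev]; exact LaurentPolynomial.isUnit_T 1
  let g : Localization.Away Δ →+* LaurentPolynomial A := IsLocalization.Away.lift Δ (g := ev.toRingHom) hT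
  have hg : ∀ x, g (algebraMap (MvPolynomial (Fin n × Fin n) A) _ x) = ev x := fun x => IsLocalization.Away.lift_eq Δ hT x
  rintro ⟨u, e⟩ ⟨v, l⟩ h
  have h2 := congrArg (fun w : (Localization.Away Δ)ˣ => Units.map g.toMonoidHom w) h
  simp only [map_mul, map_zpow] at h2
  have hu : ∀ u : Aˣ, (Units.map g.toMonoidHom (Units.map (algebraMap A (Localization.Away Δ)).toMonoidHom u) : LaurentPolynomial A) = LaurentPolynomial.C (u : A) := fun u => by
    show g (algebraMap A (Localization.Away Δ) (u : A)) = _
    rw [IsScalarTower.algebraMap_apply A (MvPolynomial (Fin n × Fin n) A) (Localization.Away Δ), hg, AlgHom.commutes]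
    rfl
  have hd : ∀ e : ℤ, (((Units.map g.toMonoidHom (IsLocalization.Away.algebraMap_isUnit (S := Localization.Away Δ) Δ).unit) ^ e : (LaurentPolynomial A)ˣ) : LaurentPolynomial A) = LaurentPolynomial.T e := by
    have h0 : ((Units.map g.toMonoidHom (IsLocalization.Away.algebraMap_isUnit (S := Localization.Away Δ) Δ).unit : (LaurentPolynomial A)ˣ) : LaurentPolynomial A) = T := by
      show g (algebraMap _ _ Δ) = T
      rw [hg, hev]
    intro e
    cases e with
    | ofNat k => rw [Int.ofNat_eq_natCast, zpow_natCast, Units.val_pow_eq_pow_val, h0, LaurentPolynomial.T_pow, mul_one]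
    | negSucc k =>
      rw [zpow_negSucc]
      refine Units.inv_eq_of_mul_eq_one_right ?_
      rw [Units.val_pow_eq_pow_val, h0, LaurentPolynomial.T_pow, ← LaurentPolynomial.T_add]
      rw [show ((k + 1 : ℕ) : ℤ) * 1 + Int.negSucc k = 0 by omega, LaurentPolynomial.T_zero]
  have h3 := congrArg (fun w : (LaurentPolynomial A)ˣ => (w : LaurentPolynomial A)) h2
  simp only [Units.val_mul, hu, hd, ← LaurentPolynomial.single_eq_C_mul_T] at h3
  have h4 : e = l := by
    by_contra hne
    have h5 := congrArg (fun q : LaurentPolynomial A => q.coeff e) h3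
    simp only [AddMonoidAlgebra.coeff_single, Finsupp.single_eq_same, Finsupp.single_eq_of_ne hne] at h5
    exact u.ne_zero h5
  subst h4
  have h5 := congrArg (fun q : LaurentPolynomial A => q.coeff e) h3
  simp only [AddMonoidAlgebra.coeff_single, Finsupp.single_eq_same] at h5
  rw [Units.ext h5]

end Groth.Agent.S13787
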