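import Mathlib
import Groth.Statements.S13788

set_option autoImplicit false
universe u
open CAlg

namespace Groth.Agent.S13788

section

open Matrix MvPolynomial

variable {n : ℕ}

/-- The generic determinant. -/
noncomputable abbrev gdet (A : Type u) [CommRing A] (n : ℕ) : MvPolynomial (Fin n × Fin n) A :=
  (Matrix.mvPolynomialX (Fin n) (Fin n) A).det

lemma eval_gdet {A : Type u} [CommRing A] {S : Type u} [CommRing S] [Algebra A S]
    (M : Matrix (Fin n) (Fin n) S) :
    aeval (fun q : Fin n × Fin n => M q.1 q.2) (gdet A n) = M.det := by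
  rw [AlgHom.map_det, Matrix.mvPolynomialX_mapMatrix_aeval]

lemma factor_split {k : Type u} [Field k] {f g : MvPolynomial (Fin n × Fin n) k}
    (h : f * g = gdet k n) (S : Fin n × Fin n → Bool)
    (hS : (Polynomial.map (RingHom.id _) (aeval (fun q : Fin n × Fin n => if S q then
      Polynomial.X * Polynomial.C (X q : MvPolynomial (Fin n × Fin n) k) else Polynomial.C (X q))
      (gdet k n))).natDegree ≤ 1) :
    aeval (fun q => if S q then (0 : MvPolynomial (Fin n × Fin n) k) else X q) f = f ∨
      aeval (fun q => if S q then (0 : MvPolynomial (Fin n × Fin n) k) else X q) g = g := by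
  set φ : MvPolynomial (Fin n × Fin n) k →ₐ[k] Polynomial (MvPolynomial (Fin n × Fin n) k) :=
    aeval (fun q => if S q then Polynomial.X * Polynomial.C (X q) else Polynomial.C (X q))
  have h0 : ∀ p, (φ p).eval 0 =
      aeval (fun q => if S q then (0 : MvPolynomial (Fin n × Fin n) k) else X q) p := by
    intro p
    induction p using MvPolynomial.induction_on with
    | C a => simp [φ, Polynomial.algebraMap_apply]
    | add p q hp hq => simp [hp, hq]
    | mul_X p q hp =>
        rw [map_mul, map_mul, Polynomial.eval_mul, hp]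
        congr 1
        simp only [φ, aeval_X]
        split_ifs <;> simp
  have h1 : ∀ p, (φ p).eval 1 = p := by
    intro p
    induction p using MvPolynomial.induction_on with
    | C a => simp [φ, Polynomial.algebraMap_apply]
    | add p q hp hq => simp [hp, hq]
    | mul_X p q hp =>
        rw [map_mul, Polynomial.eval_mul, hp]
        congr 1
        simp only [φ, aeval_X]
        split_ifs <;> simp
  have hinv : ∀ p, (φ p).natDegree = 0 →
      aeval (fun q => if S q then (0 : MvPolynomial (Fin n × Fin n) k) else X q) p = p := by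
    intro p hp
    rw [← h0]
    conv_rhs => rw [← h1 p]
    rw [Polynomial.eq_C_of_natDegree_eq_zero hp, Polynomial.eval_C, Polynomial.eval_C]
  rw [Polynomial.map_id] at hS
  have hne : gdet k n ≠ 0 := Matrix.det_mvPolynomialX_ne_zero (Fin n) k
  have hφne : ∀ p, p ≠ 0 → φ p ≠ 0 := fun p hp e => hp (by rw [← h1 p, e, Polynomial.eval_zero])
  have hf : f ≠ 0 := fun e => hne (by rw [← h, e, zero_mul])
  have hg : g ≠ 0 := fun e => hne (by rw [← h, e, mul_zero])
  have hd := Polynomial.natDegree_mul (hφne f hf) (hφne g hg)
  rw [← map_mul, h] at hd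
  change (φ (gdet k n)).natDegree ≤ 1 at hS
  rcases Nat.eq_zero_or_pos (φ f).natDegree with e | e
  · exact Or.inl (hinv f e)
  · exact Or.inr (hinv g (by omega))

lemma natDegree_row {k : Type u} [Field k] (i : Fin n) :
    (Polynomial.map (RingHom.id _) (aeval (fun q : Fin n × Fin n => if decide (q.1 = i) then
      Polynomial.X * Polynomial.C (X q : MvPolynomial (Fin n × Fin n) k) else Polynomial.C (X q))
      (gdet k n))).natDegree ≤ 1 := by
  rw [Polynomial.map_id, AlgHom.map_det]
  let M : Matrix (Fin n) (Fin n) (Polynomial (MvPolynomial (Fin n × Fin n) k)) :=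
    (Matrix.mvPolynomialX (Fin n) (Fin n) k).map Polynomial.C
  have e : (aeval (fun q : Fin n × Fin n => if decide (q.1 = i) then
      Polynomial.X * Polynomial.C (X q : MvPolynomial (Fin n × Fin n) k) else
        Polynomial.C (X q))).mapMatrix (Matrix.mvPolynomialX (Fin n) (Fin n) k) =
      M.updateRow i ((Polynomial.X : Polynomial (MvPolynomial (Fin n × Fin n) k)) • M i) := by
    ext a b : 1
    simp only [AlgHom.mapMatrix_apply, Matrix.map_apply, Matrix.mvPolynomialX_apply, aeval_X]
    by_cases h : a = i
    · subst h; simp [M]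
    · simp [M, h]
  rw [e, Matrix.det_updateRow_smul, Matrix.updateRow_eq_self]
  rw [show M.det = Polynomial.C (gdet k n) from
    (RingHom.map_det Polynomial.C _).symm]
  exact Polynomial.natDegree_mul_le.trans (by simp)

lemma natDegree_col {k : Type u} [Field k] (j : Fin n) :
    (Polynomial.map (RingHom.id _) (aeval (fun q : Fin n × Fin n => if decide (q.2 = j) then
      Polynomial.X * Polynomial.C (X q : MvPolynomial (Fin n × Fin n) k) else Polynomial.C (X q))
      (gdet k n))).natDegree ≤ 1 := by
  rw [Polynomial.map_id, AlgHom.map_det]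
  let M : Matrix (Fin n) (Fin n) (Polynomial (MvPolynomial (Fin n × Fin n) k)) :=
    (Matrix.mvPolynomialX (Fin n) (Fin n) k).map Polynomial.C
  have e : (aeval (fun q : Fin n × Fin n => if decide (q.2 = j) then
      Polynomial.X * Polynomial.C (X q : MvPolynomial (Fin n × Fin n) k) else
        Polynomial.C (X q))).mapMatrix (Matrix.mvPolynomialX (Fin n) (Fin n) k) =
      M.updateCol j ((Polynomial.X : Polynomial (MvPolynomial (Fin n × Fin n) k)) •
        fun a => M a j) := by
    ext a b : 1
    simp only [AlgHom.mapMatrix_apply, Matrix.map_apply, Matrix.mvPolynomialX_apply, aeval_X]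
    by_cases h : b = j
    · subst h; simp [M]
    · simp [M, h]
  rw [e, Matrix.det_updateCol_smul, Matrix.updateCol_eq_self]
  rw [show M.det = Polynomial.C (gdet k n) from
    (RingHom.map_det Polynomial.C _).symm]
  exact Polynomial.natDegree_mul_le.trans (by simp)

theorem gdet_prime {k : Type u} [Field k] (hn : 0 < n) : Prime (gdet k n) := by
  rw [← irreducible_iff_prime]
  refine ⟨?_, fun {f g} h => ?_⟩
  · intro hu
    have := hu.map (aeval (R := k) fun q : Fin n × Fin n => (0 : Matrix (Fin n) (Fin n) k) q.1 q.2)
    rw [eval_gdet] at this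
    haveI hne : Nonempty (Fin n) := ⟨⟨0, hn⟩⟩
    rw [Matrix.det_zero] at this
    exact not_isUnit_zero this
  -- constants are units
  have hconst : ∀ {f : MvPolynomial (Fin n × Fin n) k}, f ≠ 0 →
      (∀ i : Fin n, aeval (fun q : Fin n × Fin n => if decide (q.1 = i) then
        (0 : MvPolynomial (Fin n × Fin n) k) else X q) f = f) → IsUnit f := by
    intro f hf hall
    have hsupp : ∀ q : Fin n × Fin n, aeval (fun r : Fin n × Fin n =>
        if decide (r.1 = q.1) then (0 : MvPolynomial (Fin n × Fin n) k) else X r) f = f :=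
      fun q => hall q.1
    have : ∀ T : Finset (Fin n), aeval (fun r : Fin n × Fin n =>
        if r.1 ∈ T then (0 : MvPolynomial (Fin n × Fin n) k) else X r) f = f := by
      intro T
      induction T using Finset.induction_on with
      | empty => simp
      | insert a T _ ih =>
          conv_rhs => rw [← hall a, ← ih, ← AlgHom.comp_apply, comp_aeval]
          refine congrArg (fun F => aeval F f) (funext fun r => ?_)
          by_cases h2 : r.1 ∈ T <;> by_cases h1 : r.1 = a <;> simp [h2, h1] <;> simp_all
    have h0 := this Finset.univ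
    simp only [Finset.mem_univ, if_true, aeval_zero'] at h0
    rw [← h0] at hf ⊢
    exact (isUnit_iff_ne_zero.2 fun e => hf (by rw [e, map_zero])).map C
  have hsplitR := fun i => factor_split (f := f) (g := g) h.symm (fun q => decide (q.1 = i))
    (natDegree_row i)
  have hsplitC := fun j => factor_split (f := f) (g := g) h.symm (fun q => decide (q.2 = j))
    (natDegree_col j)
  have key : ∀ {f g : MvPolynomial (Fin n × Fin n) k}, f * g = gdet k n → ∀ i j,
      ¬ (aeval (fun q : Fin n × Fin n => if decide (q.1 = i) then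
        (0 : MvPolynomial (Fin n × Fin n) k) else X q) f = f ∧
        aeval (fun q : Fin n × Fin n => if decide (q.2 = j) then
          (0 : MvPolynomial (Fin n × Fin n) k) else X q) g = g) := by
    rintro f g h i j ⟨hf, hg⟩
    let σ : Equiv.Perm (Fin n) := Equiv.swap i j
    let M : Matrix (Fin n) (Fin n) k := σ.permMatrix k
    let M0 : Matrix (Fin n) (Fin n) k := M.updateRow i 0
    have eM0 : ∀ a b, M0 a b = if a = i ∨ b = j then 0 else M a b := by
      intro a b
      by_cases ha : a = i
      · simp [M0, ha]
      · by_cases hb : b = j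
        · subst hb
          have : σ a ≠ b := fun e => ha (σ.injective (by rw [e]; simp [σ]))
          simp [M0, ha, M, Equiv.Perm.permMatrix, PEquiv.toMatrix, this]
        · simp [M0, ha, hb]
    have ef : aeval (fun q : Fin n × Fin n => M q.1 q.2) f =
        aeval (fun q : Fin n × Fin n => M0 q.1 q.2) f := by
      have a1 := congrArg (aeval (R := k) fun q : Fin n × Fin n => M q.1 q.2) hf
      have a2 := congrArg (aeval (R := k) fun q : Fin n × Fin n => M0 q.1 q.2) hf
      rw [← AlgHom.comp_apply, comp_aeval] at a1 a2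
      rw [← a1, ← a2]
      refine congrArg (fun F => aeval F f) (funext fun q => ?_)
      by_cases hq : q.1 = i
      · simp [hq]
      · simp [hq, M0]
    have eg : aeval (fun q : Fin n × Fin n => M q.1 q.2) g =
        aeval (fun q : Fin n × Fin n => M0 q.1 q.2) g := by
      have a1 := congrArg (aeval (R := k) fun q : Fin n × Fin n => M q.1 q.2) hg
      have a2 := congrArg (aeval (R := k) fun q : Fin n × Fin n => M0 q.1 q.2) hg
      rw [← AlgHom.comp_apply, comp_aeval] at a1 a2
      rw [← a1, ← a2]
      refine congrArg (fun F => aeval F g) (funext fun q => ?_)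
      by_cases hq : q.2 = j
      · simp [hq]
      · by_cases hq1 : q.1 = i
        · simp only [hq, decide_false, Bool.false_eq_true, if_false, aeval_X]
          rw [eM0, if_pos (Or.inl hq1)]
          have : σ i ≠ q.2 := fun e => hq (by rw [← e]; simp [σ])
          simp [M, hq1, Equiv.Perm.permMatrix, PEquiv.toMatrix, this]
        · simp [hq, eM0, hq1]
    have : M.det = M0.det := by
      rw [← eval_gdet (A := k) M, ← eval_gdet (A := k) M0, ← h, map_mul, map_mul, ef, eg]
    rw [show M0.det = 0 from Matrix.det_eq_zero_of_row_eq_zero i fun b => by simp [M0],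
      Matrix.det_permutation] at this
    rcases Int.units_eq_one_or (Equiv.Perm.sign σ) with e | e <;> simp [e] at this
  have hf : f ≠ 0 := fun e => Matrix.det_mvPolynomialX_ne_zero (Fin n) k (by
    change gdet k n = 0; rw [h, e, zero_mul])
  have hg : g ≠ 0 := fun e => Matrix.det_mvPolynomialX_ne_zero (Fin n) k (by
    change gdet k n = 0; rw [h, e, mul_zero])
  rcases hsplitR ⟨0, hn⟩ with e | e
  · refine Or.inl (hconst hf fun i => (hsplitR i).resolve_right fun e' => ?_)
    exact key (by rw [mul_comm]; exact h.symm) i ⟨0, hn⟩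
      ⟨e', (hsplitC _).resolve_right fun e'' => key h.symm _ _ ⟨e, e''⟩⟩
  · refine Or.inr (hconst hg fun i => (hsplitR i).resolve_left fun e' => ?_)
    exact key h.symm i ⟨0, hn⟩
      ⟨e', (hsplitC _).resolve_left fun e'' => key (by rw [mul_comm]; exact h.symm) _ _ ⟨e, e''⟩⟩

/-- Substitution of `diag (T, 1, …, 1)`. -/
noncomputable def psi (A : Type u) [CommRing A] (hn : 0 < n) :
    MvPolynomial (Fin n × Fin n) A →ₐ[A] Polynomial A :=
  aeval fun q => (Matrix.diagonal fun a => if a = ⟨0, hn⟩ then Polynomial.X else (1 : Polynomial A))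
    q.1 q.2

lemma psi_gdet {A : Type u} [CommRing A] (hn : 0 < n) : psi A hn (gdet A n) = Polynomial.X := by
  rw [psi, eval_gdet, Matrix.det_diagonal, Finset.prod_ite_eq']
  simp

lemma psi_X00 {A : Type u} [CommRing A] (hn : 0 < n) :
    psi A hn (X (⟨0, hn⟩, ⟨0, hn⟩)) = Polynomial.X := by
  simp [psi]

lemma gdet_map {A : Type u} [CommRing A] {B : Type u} [CommRing B] (φ : A →+* B) :
    MvPolynomial.map φ (gdet A n) = gdet B n := by
  rw [RingHom.map_det]
  congr 1
  ext a b : 1
  simp [Matrix.mvPolynomialX_apply]

lemma psi_map {A : Type u} [CommRing A] {B : Type u} [CommRing B] (φ : A →+* B) (hn : 0 < n)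
    (f : MvPolynomial (Fin n × Fin n) A) :
    psi B hn (MvPolynomial.map φ f) = (psi A hn f).map φ := by
  induction f using MvPolynomial.induction_on with
  | C a => simp [psi, Polynomial.algebraMap_apply]
  | add p q hp hq => simp [hp, hq]
  | mul_X p q hp =>
      rw [map_mul, map_mul, map_mul, Polynomial.map_mul, hp, MvPolynomial.map_X]
      congr 1
      simp only [psi, aeval_X, Matrix.diagonal_apply]
      split_ifs <;> simp

/-- Units after inverting the determinant. -/
theorem exists_eq_C_mul_pow {A : Type u} [CommRing A] [Nontrivial A] [IsReduced A]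
    (hconn : ∀ e : A, IsIdempotentElem e → e = 0 ∨ e = 1) (hn : 0 < n)
    {f g : MvPolynomial (Fin n × Fin n) A} {N : ℕ} (hfg : f * g = gdet A n ^ N) :
    ∃ (a : Aˣ) (e : ℕ), f = C (a : A) * gdet A n ^ e := by
  classical
  set h := psi A hn f with hh
  -- behaviour at each prime
  have hP : ∀ (P : Ideal A) [P.IsPrime], ∃ (c : P.ResidueField) (e : ℕ), c ≠ 0 ∧
      MvPolynomial.map (algebraMap A P.ResidueField) f = C c * gdet _ n ^ e ∧
        h.map (algebraMap A P.ResidueField) = Polynomial.C c * Polynomial.X ^ e := by
    intro P _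
    have hd : MvPolynomial.map (algebraMap A P.ResidueField) f ∣ gdet P.ResidueField n ^ N := by
      rw [← gdet_map (algebraMap A P.ResidueField), ← map_pow, ← hfg, map_mul]
      exact dvd_mul_right _ _
    obtain ⟨e, -, he⟩ := (dvd_prime_pow (gdet_prime hn) N).1 hd
    obtain ⟨w, hw⟩ := he.symm
    obtain ⟨c, hc, hcw⟩ := MvPolynomial.isUnit_iff_eq_C_of_isReduced.1 w.isUnit
    have e1 : MvPolynomial.map (algebraMap A P.ResidueField) f = C c * gdet _ n ^ e := by
      rw [← hw, ← hcw, mul_comm]
    refine ⟨c, e, hc.ne_zero, e1, ?_⟩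
    rw [hh, ← psi_map _ hn, e1, map_mul, map_pow, psi_gdet, psi, aeval_C,
      Polynomial.algebraMap_eq]
  have horth : ∀ i j, i ≠ j → h.coeff i * h.coeff j = 0 := by
    intro i j hij
    refine IsNilpotent.eq_zero (nilpotent_iff_mem_prime.2 fun P hPp => ?_)
    obtain ⟨c, e, hc, -, e2⟩ := hP P
    rw [← Ideal.algebraMap_residueField_eq_zero, map_mul, ← Polynomial.coeff_map, ← Polynomial.coeff_map,
      e2, Polynomial.coeff_C_mul_X_pow, Polynomial.coeff_C_mul_X_pow]
    by_cases hi : i = e
    · rw [if_neg (show j ≠ e from fun e' => hij (hi.trans e'.symm)), mul_zero]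
    · rw [if_neg hi, zero_mul]
  set t := h.eval 1 with ht
  have hs : IsUnit t := by
    by_contra hns
    obtain ⟨m, hm, hsm⟩ := Ideal.exists_le_maximal _
      (show Ideal.span {t} ≠ ⊤ by rwa [Ne, Ideal.span_singleton_eq_top])
    obtain ⟨c, e, hc, -, e2⟩ := hP m
    refine hc ?_
    have h3 : algebraMap A m.ResidueField t = 0 :=
      Ideal.algebraMap_residueField_eq_zero.2 (hsm (Ideal.mem_span_singleton_self t))
    rw [ht, ← Polynomial.eval₂_at_apply, ← Polynomial.eval_map, e2, map_one] at h3
    simpa using h3
  have hsum : t = ∑ i ∈ h.support, h.coeff i := by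
    rw [ht, Polynomial.eval_eq_sum, Polynomial.sum_def]
    simp
  obtain ⟨i, hi⟩ : ∃ i, h.coeff i ≠ 0 := by
    by_contra hall
    push Not at hall
    exact not_isUnit_zero (show IsUnit (0 : A) by
      rw [show (0 : A) = t by rw [hsum]; simp [hall]]; exact hs)
  have his : h.coeff i = t := by
    have hmul : h.coeff i * t = h.coeff i * h.coeff i := by
      rw [hsum, Finset.mul_sum, Finset.sum_eq_single i (fun j _ hj => horth i j (Ne.symm hj))
        (fun hni => absurd (Polynomial.mem_support_iff.2 hi) hni)]
    obtain ⟨v, hv⟩ := hs.exists_right_inv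
    rcases hconn (h.coeff i * v) (by
      change h.coeff i * v * (h.coeff i * v) = h.coeff i * v
      linear_combination (-(v * v)) * hmul + h.coeff i * v * hv) with e0 | e1
    · exact absurd (by linear_combination t * e0 - h.coeff i * hv) hi
    · linear_combination t * e1 - h.coeff i * hv
  refine ⟨hs.unit, i, ?_⟩
  rw [IsUnit.unit_spec]
  ext d
  refine sub_eq_zero.1 (IsNilpotent.eq_zero (nilpotent_iff_mem_prime.2 fun P hPp => ?_))
  obtain ⟨c, e, hc, e1, e2⟩ := hP P
  have hi' := congrArg (fun q => Polynomial.coeff q i) e2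
  simp only [Polynomial.coeff_map, Polynomial.coeff_C_mul_X_pow, his] at hi'
  have hne : algebraMap A P.ResidueField t ≠ 0 := (hs.map _).ne_zero
  have hie : i = e := by
    by_contra hne'
    rw [if_neg hne'] at hi'
    exact hne hi'
  rw [if_pos hie] at hi'
  rw [← Ideal.algebraMap_residueField_eq_zero, map_sub, ← MvPolynomial.coeff_map,
    ← MvPolynomial.coeff_map, map_mul, map_pow, gdet_map, MvPolynomial.map_C, e1, hie, hi',
    sub_self]

end

/-- Units of GL_n: let A be a nonzero commutative ring whose only idempotents are 0 and 1, let n ≥ 1,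
let det be the determinant of the generic n × n matrix in the polynomial ring A[X] in its n²
entries, and let A[X, 1/det] be the coordinate ring of GL_n over A. The homomorphism Aˣ × ℤ → (A[X,
1/det])ˣ, (a, e) ↦ a · det^e, is bijective if and only if A is reduced. (The published statement
allows Spec A disconnected, with exponents locally constant ℤ-valued functions on Spec A; this row
is the connected case, to which the published proof reduces.) -/
theorem result (A : Type u) [CommRing A] [Nontrivial A]
    (hconn : ∀ e : A, IsIdempotentElem e → e = 0 ∨ e = 1) (n : ℕ) (hn : 0 < n) :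
    Function.Bijective (fun p : Aˣ × ℤ =>
        Units.map (algebraMap A (Localization.Away (Matrix.mvPolynomialX (Fin n) (Fin n) A).det)).toMonoidHom p.1 *
          (IsLocalization.Away.algebraMap_isUnit (S := Localization.Away (Matrix.mvPolynomialX (Fin n) (Fin n) A).det)
            (Matrix.mvPolynomialX (Fin n) (Fin n) A).det).unit ^ p.2) ↔ IsReduced A := by
  classical
  let D : MvPolynomial (Fin n × Fin n) A := (Matrix.mvPolynomialX (Fin n) (Fin n) A).det
  let Ψ₀ : MvPolynomial (Fin n × Fin n) A →+* LaurentPolynomial A :=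
    (Polynomial.toLaurentAlg (R := A)).toRingHom.comp (psi A hn).toRingHom
  have hΨ₀ : Ψ₀ D = LaurentPolynomial.T 1 := by
    simp [Ψ₀, D, psi_gdet, Polynomial.toLaurent_X]
  have hD : IsUnit (Ψ₀ D) := hΨ₀ ▸ LaurentPolynomial.isUnit_T 1
  let Ψ : Localization.Away D →+* LaurentPolynomial A := IsLocalization.Away.lift D hD
  have hΨ : ∀ x, Ψ (algebraMap _ _ x) = Ψ₀ x := fun x => IsLocalization.Away.lift_eq D hD x
  set uD := (IsLocalization.Away.algebraMap_isUnit (S := Localization.Away D) D).unit
  have huD : Units.map (Ψ : Localization.Away D →* LaurentPolynomial A) uD =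
      (LaurentPolynomial.isUnit_T 1).unit :=
    Units.ext (show Ψ (algebraMap _ _ D) = _ by rw [hΨ, hΨ₀]; rfl)
  have hT : ∀ e : ℤ, (((LaurentPolynomial.isUnit_T (R := A) 1).unit ^ e :
      (LaurentPolynomial A)ˣ) : LaurentPolynomial A) = LaurentPolynomial.T e := by
    intro e
    induction e with
    | zero => simp
    | succ i hi =>
        rw [zpow_add, Units.val_mul, hi, zpow_one, LaurentPolynomial.T_add, IsUnit.unit_spec]
    | pred i hi =>
        rw [zpow_sub, Units.val_mul, hi, zpow_one, LaurentPolynomial.T_sub,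
          show LaurentPolynomial.T (R := A) (-1) = _ from
            (Units.eq_inv_of_mul_eq_one_left (u := (LaurentPolynomial.isUnit_T (R := A) 1).unit)
              (by rw [IsUnit.unit_spec, ← LaurentPolynomial.T_add, add_neg_cancel,
                LaurentPolynomial.T_zero]))]
  have hΨp : ∀ p : Aˣ × ℤ, Ψ ((Units.map (algebraMap A (Localization.Away D)).toMonoidHom p.1 *
      uD ^ p.2 : (Localization.Away D)ˣ) : Localization.Away D) =
      LaurentPolynomial.C (p.1 : A) * LaurentPolynomial.T p.2 := by
    intro p
    rw [Units.val_mul, map_mul, ← hT p.2, ← huD, ← map_zpow]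
    refine congrArg₂ (· * ·) ?_ rfl
    change Ψ (algebraMap A (Localization.Away D) (p.1 : A)) = _
    rw [IsScalarTower.algebraMap_apply A (MvPolynomial (Fin n × Fin n) A) (Localization.Away D), hΨ]
    simp [Ψ₀, psi, Polynomial.algebraMap_apply, Polynomial.toLaurent_C]
  have hsingle : ∀ (a : A) (e : ℤ), LaurentPolynomial.C a * LaurentPolynomial.T e =
      (AddMonoidAlgebra.single e a : LaurentPolynomial A) := fun a e =>
    (LaurentPolynomial.single_eq_C_mul_T a e).symm
  refine ⟨fun hbij => ⟨fun ε hε => ?_⟩, fun hred => ⟨fun p q hpq => ?_, fun u => ?_⟩⟩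
  · suffices H : ∀ k, ∀ z : A, z ^ 2 ^ k = 0 → z = 0 by
      obtain ⟨m, hm⟩ := hε
      exact H m ε (pow_eq_zero_of_le (Nat.lt_two_pow_self).le hm)
    clear ε hε
    intro k
    induction k with
    | zero => simp
    | succ k ih =>
        intro z hk
        suffices H2 : ∀ x : A, x * x = 0 → x = 0 by
          exact ih z (H2 _ (by rw [← pow_add, ← two_mul, ← pow_succ']; exact hk))
        intro x hx
        let y : MvPolynomial (Fin n × Fin n) A :=
          MvPolynomial.C x * MvPolynomial.X (⟨0, hn⟩, ⟨0, hn⟩)
        have hy : IsUnit (1 + y) := IsUnit.of_mul_eq_one (1 - y) (by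
          have : MvPolynomial.C (σ := Fin n × Fin n) x * MvPolynomial.C x = 0 := by
            rw [← map_mul, hx, map_zero]
          linear_combination -(MvPolynomial.X (⟨0, hn⟩, ⟨0, hn⟩) ^ 2) * this)
        obtain ⟨p, hp⟩ := hbij.2 (hy.map (algebraMap _ (Localization.Away D))).unit
        have h2 := congrArg (fun v : (Localization.Away D)ˣ => Ψ (v : Localization.Away D)) hp
        rw [hΨp, IsUnit.unit_spec, hΨ] at h2
        have h3 : Ψ₀ (1 + y) = (AddMonoidAlgebra.single 0 1 : LaurentPolynomial A) +
            AddMonoidAlgebra.single 1 x := by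
          rw [← hsingle, ← hsingle]
          simp [Ψ₀, y, psi_X00, Polynomial.toLaurent_X]
        rw [h3, hsingle] at h2
        have c0 := DFunLike.congr_fun (congrArg AddMonoidAlgebra.coeff h2) (0 : ℤ)
        have c1 := DFunLike.congr_fun (congrArg AddMonoidAlgebra.coeff h2) (1 : ℤ)
        simp only [AddMonoidAlgebra.coeff_add, AddMonoidAlgebra.coeff_single, Finsupp.add_apply,
          Finsupp.single_apply] at c0 c1
        by_cases hp2 : p.2 = 1
        · simp [hp2] at c0
        · simpa [hp2, eq_comm] using c1
  · have h2 := congrArg (fun v : (Localization.Away D)ˣ => Ψ (v : Localization.Away D)) hpq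
    rw [hΨp, hΨp, hsingle, hsingle] at h2
    rcases AddMonoidAlgebra.single_inj.1 h2 with ⟨h3, h4⟩ | ⟨h3, -⟩
    · exact Prod.ext (Units.ext h4) h3
    · exact absurd h3 p.1.ne_zero
  · obtain ⟨m, f, hf⟩ := IsLocalization.Away.surj D (u : Localization.Away D)
    obtain ⟨m', g, hg⟩ := IsLocalization.Away.surj D ((u⁻¹ : (Localization.Away D)ˣ) : Localization.Away D)
    obtain ⟨k, hk⟩ := IsLocalization.Away.exists_of_eq (S := Localization.Away D) D
      (a := f * g) (b := D ^ (m + m')) (by
        rw [map_mul, ← hf, ← hg, map_pow, pow_add, mul_mul_mul_comm, Units.mul_inv, one_mul])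
    obtain ⟨a, e, hae⟩ := exists_eq_C_mul_pow hconn hn (f := D ^ k * f) (g := g)
      (N := k + (m + m')) (by rw [mul_assoc, hk, ← pow_add])
    refine ⟨(a, (e : ℤ) - ((m + k : ℕ) : ℤ)), ?_⟩
    have hu : u * uD ^ (m + k) =
        Units.map (algebraMap A (Localization.Away D)).toMonoidHom a * uD ^ e := by
      refine Units.ext ?_
      have h1 := congrArg (algebraMap _ (Localization.Away D)) hae
      rw [map_mul, map_mul, ← hf, ← MvPolynomial.algebraMap_eq,
        ← IsScalarTower.algebraMap_apply, map_pow, map_pow] at h1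
      simp only [Units.val_mul, Units.val_pow_eq_pow_val, uD, IsUnit.unit_spec]
      change _ = algebraMap A (Localization.Away D) (a : A) * _
      rw [pow_add]
      rw [← h1]
      ring
    simp only
    rw [zpow_sub, zpow_natCast, zpow_natCast, ← mul_assoc, ← hu, mul_inv_cancel_right]

end Groth.Agent.S13788
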