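import Groth.Statements.S13789
import Mathlib

set_option autoImplicit false
universe u
open CAlg

namespace Groth.Agent.S13789

/-- Let A be a commutative ring with total ring of fractions Q and let B be a ring with A ⊆ B ⊆ Q. Then
the inclusion A ⊆ B carries nonzerodivisors of A to nonzerodivisors of B, and every nonzerodivisor
of B has the form r/u with r and u nonzerodivisors of A. -/
theorem result {A Q : Type u} [CommRing A] [CommRing Q] [Algebra A Q] [IsFractionRing A Q] (B : Subalgebra A Q) :
    (∀ a : A, a ∈ nonZeroDivisors A → algebraMap A B a ∈ nonZeroDivisors B) ∧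
    (∀ b : B, b ∈ nonZeroDivisors B → ∃ r u : A, r ∈ nonZeroDivisors A ∧ u ∈ nonZeroDivisors A ∧
      (b : Q) * algebraMap A Q u = algebraMap A Q r) := by
  have h1 : ∀ a : A, a ∈ nonZeroDivisors A → algebraMap A B a ∈ nonZeroDivisors B := fun a ha =>
    mem_nonZeroDivisors_iff_right.mpr fun y hy => Subtype.ext
      ((IsLocalization.map_units Q ⟨a, ha⟩).mul_left_eq_zero.mp (congrArg Subtype.val hy))
  refine ⟨h1, fun b hb => ?_⟩
  obtain ⟨⟨r, u⟩, hru⟩ := IsLocalization.surj (nonZeroDivisors A) (b : Q)
  refine ⟨r, u, ?_, u.2, hru⟩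
  refine mem_nonZeroDivisors_iff_right.mpr fun x hx => IsFractionRing.injective A Q ?_
  have : algebraMap A B x * b * algebraMap A B u = 0 := by
    apply Subtype.ext
    show algebraMap A Q x * (b : Q) * algebraMap A Q u = 0
    rw [mul_assoc, hru, ← map_mul, hx, map_zero]
  have := (mem_nonZeroDivisors_iff_right.mp hb) _ ((mem_nonZeroDivisors_iff_right.mp (h1 _ u.2)) _ this)
  rw [map_zero]; exact congrArg Subtype.val this

end Groth.Agent.S13789
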