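import Groth.Statements.S13790

set_option autoImplicit false
universe u
open CAlg

namespace Groth.Agent.S13790

/-- Let A be a commutative ring with total ring of fractions Q and let B be a ring with A ⊆ B ⊆ Q. Then
Q, with the inclusion B ⊆ Q, is the total ring of fractions of B. -/
theorem result {A Q : Type u} [CommRing A] [CommRing Q] [Algebra A Q] [IsFractionRing A Q] (B : Subalgebra A Q) :
    IsFractionRing B Q := by
  constructor
  refine ⟨?_, ?_, ?_⟩
  · rintro ⟨b, hb⟩
    obtain ⟨⟨a, s⟩, he⟩ := IsLocalization.surj (nonZeroDivisors A) ((b : B) : Q)
    have ha : a ∈ nonZeroDivisors A := by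
      rw [mem_nonZeroDivisors_iff_right]
      intro c hc
      apply IsFractionRing.injective A Q
      rw [map_zero]
      have h1 : algebraMap A B c * (b * algebraMap A B s) = 0 := by
        apply Subtype.val_injective
        push_cast
        have : algebraMap A Q c * algebraMap A Q a = 0 := by rw [← map_mul, hc, map_zero]
        simpa [← he] using this
      rw [mul_comm b, ← mul_assoc] at h1
      have h2 := (mem_nonZeroDivisors_iff_right.mp hb) _ h1
      have h3 := congrArg Subtype.val h2
      push_cast at h3
      exact (IsUnit.mul_left_eq_zero (IsLocalization.map_units Q s)).mp h3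
    have hu : IsUnit ((b : Q) * algebraMap A Q s) := by
      rw [he]; exact IsLocalization.map_units Q (⟨a, ha⟩ : nonZeroDivisors A)
    exact (isUnit_of_mul_isUnit_left hu)
  · intro z
    obtain ⟨⟨a, s⟩, he⟩ := IsLocalization.surj (nonZeroDivisors A) z
    refine ⟨(algebraMap A B a, ⟨algebraMap A B s, ?_⟩), ?_⟩
    · rw [mem_nonZeroDivisors_iff_right]
      intro c hc
      apply Subtype.val_injective
      have := congrArg Subtype.val hc
      push_cast at this
      exact (IsUnit.mul_left_eq_zero (IsLocalization.map_units Q s)).mp this
    · exact he
  · intro x y h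
    exact ⟨1, by simpa using Subtype.val_injective h⟩

end Groth.Agent.S13790
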