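import Groth.Statements.S13792
import Mathlib
import Groth.Agent.S10886

set_option autoImplicit false
universe u
open CategoryTheory AlgebraicGeometry
open Curves

namespace Groth.Agent.S13792

/-- Let k be a field and E an integral k-scheme of finite type whose underlying space has dimension 1,
and let ι : G → E be a closed immersion. Then either ι is an isomorphism or G is finite over k. (The
published statement is about a closed subgroup scheme of an elliptic curve and its proof states this
fact for E geometrically integral; this row assumes only that E is integral.) -/
theorem result {k : Type u} [Field k]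
    {E G : Scheme.{u}} (f : E ⟶ Spec (CommRingCat.of k)) [LocallyOfFiniteType f] [QuasiCompact f]
    [IsIntegral E] (hdim : topologicalKrullDim ↥E = 1) (ι : G ⟶ E) [IsClosedImmersion ι] :
    IsIso ι ∨ IsFinite (ι ≫ f) := by
  haveI : IsLocallyNoetherian E := LocallyOfFiniteType.isLocallyNoetherian f
  haveI : CompactSpace E := QuasiCompact.compactSpace_of_compactSpace f
  haveI : AlgebraicGeometry.IsNoetherian E := ⟨⟩
  by_cases hs : Function.Surjective ι.base
  · haveI : Surjective ι := ⟨hs⟩
    exact Or.inl (isIso_of_isClosedImmersion_of_surjective ι)
  · right
    have hfin : (Set.range ι.base).Finite := by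
      refine S10886.finite_closed hdim _ ι.isClosedEmbedding.isClosed_range ?_
      rintro ⟨y, hy⟩
      refine hs fun x => ?_
      have := (genericPoint_specializes x).mem_closed ι.isClosedEmbedding.isClosed_range ⟨y, hy⟩
      exact this
    haveI : Finite G := Set.finite_range_iff ι.isClosedEmbedding.injective |>.1 hfin
    haveI : LocallyQuasiFinite (ι ≫ f) :=
      LocallyQuasiFinite.of_finite_preimage_singleton _ fun y => Set.toFinite _
    haveI : IsLocallyArtinian (Spec (CommRingCat.of k)) := Scheme.isLocallyArtinianScheme_Spec.mpr inferInstance
    exact IsFinite.of_locallyQuasiFinite _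

end Groth.Agent.S13792
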