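import Mathlib
import Groth.Statements.S13793

set_option autoImplicit false
universe u
open CAlg

namespace Groth.Agent.S13793

abbrev R1 (A : Type u) [CommRing A] := AddMonoidAlgebra A (Fin 1 → ℤ)
abbrev R2 (A : Type u) [CommRing A] := AddMonoidAlgebra A (Fin 2 → ℤ)
abbrev R3 (A : Type u) [CommRing A] := AddMonoidAlgebra A (Fin 3 → ℤ)

def c0 : (Fin 2 → ℤ) →+ (Fin 3 → ℤ) :=
  (Matrix.mulVecLin (!![0, 0; 1, 0; 0, 1] : Matrix (Fin 3) (Fin 2) ℤ)).toAddMonoidHom
def c1 : (Fin 2 → ℤ) →+ (Fin 3 → ℤ) :=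
  (Matrix.mulVecLin (!![1, 0; 1, 0; 0, 1] : Matrix (Fin 3) (Fin 2) ℤ)).toAddMonoidHom
def c2 : (Fin 2 → ℤ) →+ (Fin 3 → ℤ) :=
  (Matrix.mulVecLin (!![1, 0; 0, 1; 0, 1] : Matrix (Fin 3) (Fin 2) ℤ)).toAddMonoidHom
def c3 : (Fin 2 → ℤ) →+ (Fin 3 → ℤ) :=
  (Matrix.mulVecLin (!![1, 0; 0, 1; 0, 0] : Matrix (Fin 3) (Fin 2) ℤ)).toAddMonoidHom
def eR : (Fin 1 → ℤ) →+ (Fin 2 → ℤ) :=
  (Matrix.mulVecLin (!![0; 1] : Matrix (Fin 2) (Fin 1) ℤ)).toAddMonoidHom
def eM : (Fin 1 → ℤ) →+ (Fin 2 → ℤ) :=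
  (Matrix.mulVecLin (!![1; 1] : Matrix (Fin 2) (Fin 1) ℤ)).toAddMonoidHom
def eL : (Fin 1 → ℤ) →+ (Fin 2 → ℤ) :=
  (Matrix.mulVecLin (!![1; 0] : Matrix (Fin 2) (Fin 1) ℤ)).toAddMonoidHom

theorem c0_apply (v : Fin 2 → ℤ) : c0 v = ![0, v 0, v 1] := by
  funext i; fin_cases i <;> simp [c0, Matrix.mulVec, dotProduct, Fin.sum_univ_two]
theorem c1_apply (v : Fin 2 → ℤ) : c1 v = ![v 0, v 0, v 1] := by
  funext i; fin_cases i <;> simp [c1, Matrix.mulVec, dotProduct, Fin.sum_univ_two]
theorem c2_apply (v : Fin 2 → ℤ) : c2 v = ![v 0, v 1, v 1] := by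
  funext i; fin_cases i <;> simp [c2, Matrix.mulVec, dotProduct, Fin.sum_univ_two]
theorem c3_apply (v : Fin 2 → ℤ) : c3 v = ![v 0, v 1, 0] := by
  funext i; fin_cases i <;> simp [c3, Matrix.mulVec, dotProduct, Fin.sum_univ_two]
theorem eR_apply (v : Fin 1 → ℤ) : eR v = ![0, v 0] := by
  funext i; fin_cases i <;> simp [eR, Matrix.mulVec, dotProduct]
theorem eM_apply (v : Fin 1 → ℤ) : eM v = ![v 0, v 0] := by
  funext i; fin_cases i <;> simp [eM, Matrix.mulVec, dotProduct]
theorem eL_apply (v : Fin 1 → ℤ) : eL v = ![v 0, 0] := by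
  funext i; fin_cases i <;> simp [eL, Matrix.mulVec, dotProduct]

variable (A : Type u) [CommRing A]

noncomputable abbrev U {M N : Type} [AddCommGroup M] [AddCommGroup N] (f : M →+ N) :
    (AddMonoidAlgebra A M)ˣ →* (AddMonoidAlgebra A N)ˣ :=
  Units.map (AddMonoidAlgebra.mapDomainRingHom A f).toMonoidHom

/-- The differential on `1`-cochains. -/
noncomputable def δ : (R1 A)ˣ →* (R2 A)ˣ := U A eR * (U A eM)⁻¹ * U A eL

/-- The differential on `2`-cochains. -/
noncomputable def D : (R2 A)ˣ →* (R3 A)ˣ := U A c0 * (U A c1)⁻¹ * U A c2 * (U A c3)⁻¹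

theorem D_eq_one_iff (x : (R2 A)ˣ) : D A x = 1 ↔
    AddMonoidAlgebra.mapDomainRingHom A c0 (x : R2 A) * AddMonoidAlgebra.mapDomainRingHom A c2 (x : R2 A) =
      AddMonoidAlgebra.mapDomainRingHom A c1 (x : R2 A) * AddMonoidAlgebra.mapDomainRingHom A c3 (x : R2 A) := by
  rw [D]
  simp only [MonoidHom.mul_apply, MonoidHom.inv_apply]
  rw [mul_inv_eq_one, mul_right_comm, mul_inv_eq_iff_eq_mul, mul_comm (U A c3 x), Units.ext_iff]
  simp

theorem U_U {M N P : Type} [AddCommGroup M] [AddCommGroup N] [AddCommGroup P] (f : N →+ P) (g : M →+ N)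
    (x : (AddMonoidAlgebra A M)ˣ) : U A f (U A g x) = U A (f.comp g) x := by
  apply Units.ext
  simp [AddMonoidAlgebra.mapDomainRingHom_comp]

theorem D_δ (η : (R1 A)ˣ) : D A (δ A η) = 1 := by
  have h1 : c1.comp eR = c0.comp eR := AddMonoidHom.ext fun v => by simp [c0_apply, c1_apply, eR_apply]
  have h2 : c2.comp eR = c0.comp eM := AddMonoidHom.ext fun v => by simp [c0_apply, c2_apply, eR_apply, eM_apply]
  have h3 : c3.comp eR = c0.comp eL := AddMonoidHom.ext fun v => by simp [c0_apply, c3_apply, eR_apply, eL_apply]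
  have h4 : c2.comp eM = c1.comp eM := AddMonoidHom.ext fun v => by simp [c1_apply, c2_apply, eM_apply]
  have h5 : c3.comp eM = c1.comp eL := AddMonoidHom.ext fun v => by simp [c1_apply, c3_apply, eM_apply, eL_apply]
  have h6 : c3.comp eL = c2.comp eL := AddMonoidHom.ext fun v => by simp [c2_apply, c3_apply, eL_apply]
  simp only [D, δ, MonoidHom.mul_apply, MonoidHom.inv_apply, map_mul, map_inv, U_U, h1, h2, h3, h4, h5, h6]
  apply Additive.ofMul.injective
  simp only [ofMul_mul, ofMul_inv, ofMul_one]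
  abel

variable {A}

theorem map_map_mapDomain {B : Type u} [CommRing B] {M N : Type} [AddCommGroup M] [AddCommGroup N]
    (q : A →+* B) (f : M →+ N) (x : AddMonoidAlgebra A M) :
    AddMonoidAlgebra.mapRingHom N q (AddMonoidAlgebra.mapDomainRingHom A f x) =
      AddMonoidAlgebra.mapDomainRingHom B f (AddMonoidAlgebra.mapRingHom M q x) :=
  RingHom.congr_fun (AddMonoidAlgebra.mapRingHom_comp_mapDomainRingHom q f) x

theorem eq_single_of_isUnit {B : Type u} [CommRing B] [IsDomain B] (x : R2 B) (hx : IsUnit x) :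
    ∃ v c, c ≠ 0 ∧ x = AddMonoidAlgebra.single v c := by
  classical
  obtain ⟨y, hxy⟩ := hx.exists_right_inv
  have hxs : x.coeff.support.Nonempty := Finsupp.support_nonempty_iff.mpr fun h =>
    one_ne_zero (hxy.symm.trans (by rw [show x = 0 from AddMonoidAlgebra.coeff_injective h, zero_mul]))
  have hys : y.coeff.support.Nonempty := Finsupp.support_nonempty_iff.mpr fun h =>
    one_ne_zero (hxy.symm.trans (by rw [show y = 0 from AddMonoidAlgebra.coeff_injective h, mul_zero]))
  by_cases hcard : 1 < x.coeff.support.card * y.coeff.support.card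
  · obtain ⟨p, hp, p', hp', hne, hu, hu'⟩ := TwoUniqueSums.uniqueAdd_of_one_lt_card hcard
    rw [Finset.mem_product] at hp hp'
    have hz : ∀ r : (Fin 2 → ℤ) × (Fin 2 → ℤ), r.1 ∈ x.coeff.support → r.2 ∈ y.coeff.support →
        UniqueAdd x.coeff.support y.coeff.support r.1 r.2 → r.1 + r.2 = 0 := by
      intro r hr₁ hr₂ hr
      by_contra h
      have e := AddMonoidAlgebra.coeff_mul_add_of_uniqueAdd hr
      rw [hxy, AddMonoidAlgebra.one_def, AddMonoidAlgebra.coeff_single, Finsupp.single_apply,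
        if_neg (Ne.symm h)] at e
      exact mul_ne_zero (Finsupp.mem_support_iff.mp hr₁) (Finsupp.mem_support_iff.mp hr₂) e.symm
    have := hu hp'.1 hp'.2 ((hz p' hp'.1 hp'.2 hu').trans (hz p hp.1 hp.2 hu).symm)
    exact absurd (Prod.ext this.1 this.2).symm hne
  · have h1 : x.coeff.support.card = 1 := by
      have := hxs.card_pos; have := hys.card_pos
      nlinarith
    obtain ⟨v, c, hc, hv⟩ := Finsupp.card_support_eq_one'.mp h1
    exact ⟨v, c, hc, AddMonoidAlgebra.coeff_injective hv⟩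

theorem hom_eq_one {P Q : Type u} [CommGroup P] [CommGroup Q] (G : P →* Q) (x a b c : P)
    (h : G x * G b = G a * G c) : G (x * (a * b⁻¹ * c)⁻¹) = 1 := by
  simp only [map_mul, map_inv]
  rw [mul_inv_eq_one, mul_right_comm, eq_mul_inv_iff_mul_eq, h]

theorem mul_eq_zero_of_coeff_mem {B : Type u} [CommRing B] {M : Type} [AddCommGroup M] (I : Ideal B)
    (hI : I * I = ⊥) {p q : AddMonoidAlgebra B M} (hp : ∀ v, p.coeff v ∈ I) (hq : ∀ v, q.coeff v ∈ I) :
    p * q = 0 := by
  classical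
  refine AddMonoidAlgebra.coeff_injective (Finsupp.ext fun m => ?_)
  rw [AddMonoidAlgebra.coeff_mul]
  refine Finset.sum_eq_zero fun a _ => Finset.sum_eq_zero fun b _ => ?_
  have : p.coeff a * q.coeff b = 0 := by
    rw [← Ideal.mem_bot, ← hI]; exact Ideal.mul_mem_mul (hp a) (hq b)
  simp [this]

theorem coeff_mapDomainRingHom_of_eq {B : Type u} [CommRing B] {M N : Type} [AddCommGroup M]
    [AddCommGroup N] {f : M →+ N} (hf : Function.Injective f) (x : AddMonoidAlgebra B M) (a : M) :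
    (AddMonoidAlgebra.mapDomainRingHom B f x).coeff (f a) = x.coeff a :=
  Finsupp.mapDomain_apply hf x.coeff a

theorem coeff_mapDomainRingHom_of_notMem {B : Type u} [CommRing B] {M N : Type} [AddCommGroup M]
    [AddCommGroup N] {f : M →+ N} (x : AddMonoidAlgebra B M) {b : N} (hb : b ∉ Set.range f) :
    (AddMonoidAlgebra.mapDomainRingHom B f x).coeff b = 0 :=
  Finsupp.mapDomain_notin_range x.coeff b hb

theorem coeff_mem_mapDomainRingHom {B : Type u} [CommRing B] {M N : Type} [AddCommGroup M]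
    [AddCommGroup N] (f : M →+ N) (hf : Function.Injective f) (I : Ideal B) {x : AddMonoidAlgebra B M}
    (hx : ∀ v, x.coeff v ∈ I) (w : N) : (AddMonoidAlgebra.mapDomainRingHom B f x).coeff w ∈ I := by
  by_cases h : w ∈ Set.range f
  · obtain ⟨v, rfl⟩ := h
    rw [coeff_mapDomainRingHom_of_eq hf]; exact hx v
  · rw [coeff_mapDomainRingHom_of_notMem x h]; exact zero_mem _

theorem inj_c : Function.Injective c0 ∧ Function.Injective c1 ∧ Function.Injective c2 ∧
    Function.Injective c3 := by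
  refine ⟨?_, ?_, ?_, ?_⟩ <;> intro v w h <;>
    simp only [c0_apply, c1_apply, c2_apply, c3_apply] at h <;>
    (have e0 := congrFun h 0; have e1 := congrFun h 1; have e2 := congrFun h 2
     simp at e0 e1 e2
     funext i; fin_cases i <;> simp <;> omega)

theorem inj_e : Function.Injective eR ∧ Function.Injective eM ∧ Function.Injective eL := by
  refine ⟨?_, ?_, ?_⟩ <;> intro v w h <;>
    simp only [eR_apply, eM_apply, eL_apply] at h <;>
    (have e0 := congrFun h 0; have e1 := congrFun h 1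
     simp at e0 e1
     funext i; fin_cases i; simp; omega)

/-- The linearised cocycle condition. -/
theorem exists_linear_primitive {B : Type u} [CommRing B] (I : Ideal B) (hI : I * I = ⊥) (ε : R2 B)
    (hε : ∀ v, ε.coeff v ∈ I)
    (h : AddMonoidAlgebra.mapDomainRingHom B c0 (ε + 1) * AddMonoidAlgebra.mapDomainRingHom B c2 (ε + 1) =
      AddMonoidAlgebra.mapDomainRingHom B c1 (ε + 1) * AddMonoidAlgebra.mapDomainRingHom B c3 (ε + 1)) :
    ∃ e : R1 B, (∀ v, e.coeff v ∈ I) ∧
      (ε + 1) * AddMonoidAlgebra.mapDomainRingHom B eM (1 + e) =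
        AddMonoidAlgebra.mapDomainRingHom B eR (1 + e) * AddMonoidAlgebra.mapDomainRingHom B eL (1 + e) := by
  classical
  obtain ⟨i0, i1, i2, i3⟩ := inj_c
  obtain ⟨jR, jM, jL⟩ := inj_e
  have expand : ∀ {M : Type} [AddCommGroup M] (p q : AddMonoidAlgebra B M),
      (∀ v, p.coeff v ∈ I) → (∀ v, q.coeff v ∈ I) → (p + 1) * (q + 1) = p + q + 1 := fun p q hp hq => by
    linear_combination mul_eq_zero_of_coeff_mem I hI hp hq
  have m2 : ∀ (f : (Fin 2 → ℤ) →+ (Fin 3 → ℤ)), Function.Injective f →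
      ∀ w, (AddMonoidAlgebra.mapDomainRingHom B f ε).coeff w ∈ I :=
    fun f hf => coeff_mem_mapDomainRingHom f hf I hε
  simp only [map_add, map_one] at h
  rw [expand _ _ (m2 _ i0) (m2 _ i2), expand _ _ (m2 _ i1) (m2 _ i3)] at h
  have hlin := congrArg AddMonoidAlgebra.coeff (add_right_cancel h)
  simp only [AddMonoidAlgebra.coeff_add] at hlin
  have hl : ∀ w, (AddMonoidAlgebra.mapDomainRingHom B c0 ε).coeff w + (AddMonoidAlgebra.mapDomainRingHom B c2 ε).coeff w =
      (AddMonoidAlgebra.mapDomainRingHom B c1 ε).coeff w + (AddMonoidAlgebra.mapDomainRingHom B c3 ε).coeff w :=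
    fun w => DFunLike.congr_fun hlin w
  have hvec : ∀ v : Fin 2 → ℤ, v = ![v 0, v 1] := fun v => by funext i; fin_cases i <;> rfl
  -- the three relations
  have hoff : ∀ a b : ℤ, a ≠ 0 → b ≠ 0 → a ≠ b → ε.coeff ![a, b] = 0 := by
    intro a b ha hb hab
    have := hl (c1 ![a, b])
    rw [coeff_mapDomainRingHom_of_eq i1, coeff_mapDomainRingHom_of_notMem, coeff_mapDomainRingHom_of_notMem,
      coeff_mapDomainRingHom_of_notMem] at this
    · simpa using this.symm
    all_goals
      rintro ⟨v, hv⟩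
      simp only [c0_apply, c1_apply, c2_apply, c3_apply] at hv
      have e0 := congrFun hv 0; have e1 := congrFun hv 1; have e2 := congrFun hv 2
      simp at e0 e1 e2
      omega
  have hL : ∀ a : ℤ, a ≠ 0 → ε.coeff ![a, 0] + ε.coeff ![a, a] = 0 := by
    intro a ha
    have := hl (c1 ![a, 0])
    rw [coeff_mapDomainRingHom_of_eq i1, coeff_mapDomainRingHom_of_notMem, coeff_mapDomainRingHom_of_notMem,
      show c1 ![a, 0] = c3 ![a, a] by simp [c1_apply, c3_apply], coeff_mapDomainRingHom_of_eq i3] at this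
    · simpa using this.symm
    all_goals
      rintro ⟨v, hv⟩
      simp only [c0_apply, c1_apply, c2_apply, c3_apply] at hv
      have e0 := congrFun hv 0; have e1 := congrFun hv 1; have e2 := congrFun hv 2
      simp at e0 e1 e2
      omega
  have hR : ∀ b : ℤ, b ≠ 0 → ε.coeff ![b, b] + ε.coeff ![0, b] = 0 := by
    intro b hb
    have := hl (c0 ![b, b])
    rw [coeff_mapDomainRingHom_of_eq i0, show c0 ![b, b] = c2 ![0, b] by simp [c0_apply, c2_apply],
      coeff_mapDomainRingHom_of_eq i2, coeff_mapDomainRingHom_of_notMem, coeff_mapDomainRingHom_of_notMem] at this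
    · simpa using this
    all_goals
      rintro ⟨v, hv⟩
      simp only [c0_apply, c1_apply, c2_apply, c3_apply] at hv
      have e0 := congrFun hv 0; have e1 := congrFun hv 1; have e2 := congrFun hv 2
      simp at e0 e1 e2
      omega
  let e : R1 B := .ofCoeff (Finsupp.comapDomain eL ε.coeff jL.injOn)
  have he : ∀ v, e.coeff v = ε.coeff ![v 0, 0] := fun v => by
    simp [e, Finsupp.comapDomain_apply, ← eL_apply]
  have heI : ∀ v, e.coeff v ∈ I := fun v => he v ▸ hε _
  refine ⟨e, heI, ?_⟩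
  simp only [map_add, map_one, add_comm (1 : R2 B)]
  rw [expand _ _ hε (coeff_mem_mapDomainRingHom eM jM I heI),
    expand _ _ (coeff_mem_mapDomainRingHom eR jR I heI) (coeff_mem_mapDomainRingHom eL jL I heI)]
  congr 1
  refine AddMonoidAlgebra.coeff_injective (Finsupp.ext fun v => ?_)
  simp only [AddMonoidAlgebra.coeff_add, Finsupp.add_apply]
  have notR : ∀ a b : ℤ, a ≠ 0 → ![a, b] ∉ Set.range eR := by
    rintro a b ha ⟨w, hw⟩; exact ha (by simpa [eR_apply] using (congrFun hw 0).symm)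
  have notL : ∀ a b : ℤ, b ≠ 0 → ![a, b] ∉ Set.range eL := by
    rintro a b hb ⟨w, hw⟩; exact hb (by simpa [eL_apply] using (congrFun hw 1).symm)
  have notM : ∀ a b : ℤ, a ≠ b → ![a, b] ∉ Set.range eM := by
    rintro a b hab ⟨w, hw⟩
    exact hab ((by simpa [eM_apply] using (congrFun hw 0).symm : a = w 0).trans
      (by simpa [eM_apply] using congrFun hw 1))
  have atR : ∀ b : ℤ, (AddMonoidAlgebra.mapDomainRingHom B eR e).coeff ![0, b] = ε.coeff ![b, 0] := fun b => by
    rw [show ![0, b] = eR ![b] by simp [eR_apply], coeff_mapDomainRingHom_of_eq jR, he]; simp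
  have atM : ∀ b : ℤ, (AddMonoidAlgebra.mapDomainRingHom B eM e).coeff ![b, b] = ε.coeff ![b, 0] := fun b => by
    rw [show ![b, b] = eM ![b] by simp [eM_apply], coeff_mapDomainRingHom_of_eq jM, he]; simp
  have atL : ∀ b : ℤ, (AddMonoidAlgebra.mapDomainRingHom B eL e).coeff ![b, 0] = ε.coeff ![b, 0] := fun b => by
    rw [show ![b, 0] = eL ![b] by simp [eL_apply], coeff_mapDomainRingHom_of_eq jL, he]; simp [eL_apply]
  rw [hvec v]
  generalize v 0 = a, v 1 = b
  by_cases ha : a = 0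
  · subst ha
    by_cases hb : b = 0
    · subst hb; rw [atR, atM, atL]
    · rw [atR, coeff_mapDomainRingHom_of_notMem _ (notM 0 b (Ne.symm hb)),
        coeff_mapDomainRingHom_of_notMem _ (notL 0 b hb)]
      linear_combination hR b hb - hL b hb
  · by_cases hb : b = 0
    · subst hb
      rw [atL, coeff_mapDomainRingHom_of_notMem _ (notR a 0 ha),
        coeff_mapDomainRingHom_of_notMem _ (notM a 0 ha)]
      ring
    · rw [coeff_mapDomainRingHom_of_notMem _ (notR a b ha), coeff_mapDomainRingHom_of_notMem _ (notL a b hb)]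
      by_cases hab : a = b
      · subst hab
        rw [atM]
        linear_combination hL a ha
      · rw [coeff_mapDomainRingHom_of_notMem _ (notM a b hab), hoff a b ha hb hab]

/-- For any commutative ring A, the second cohomology of the complex of unit groups A[t₁^±]ˣ → A[t₁^±,
t₂^±]ˣ → A[t₁^±, t₂^±, t₃^±]ˣ → ⋯ attached to the cosimplicial ring of Laurent polynomial rings
(coface maps (t₁, t₂) ↦ (t₂, t₃), (t₁t₂, t₃), (t₁, t₂t₃), (t₁, t₂) and t₁ ↦ t₂, t₁t₂, t₁) vanishes:
every unit ξ of A[t₁^±, t₂^±] with ξ(t₂,t₃) ξ(t₁t₂,t₃)⁻¹ ξ(t₁,t₂t₃) ξ(t₁,t₂)⁻¹ = 1 is of the form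
η(t₂) η(t₁t₂)⁻¹ η(t₁) for a unit η of A[t^±]. Laurent polynomial rings are written as group algebras
of ℤ^p and the coface maps as the maps induced by the corresponding additive maps ℤ^p → ℤ^(p+1). -/
theorem result (A : Type u) [CommRing A] (ξ : (AddMonoidAlgebra A (Fin 2 → ℤ))ˣ)
    (hξ : Units.map (AddMonoidAlgebra.mapDomainRingHom A
          (Matrix.mulVecLin (!![0, 0; 1, 0; 0, 1] : Matrix (Fin 3) (Fin 2) ℤ)).toAddMonoidHom).toMonoidHom ξ *
        (Units.map (AddMonoidAlgebra.mapDomainRingHom A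
          (Matrix.mulVecLin (!![1, 0; 1, 0; 0, 1] : Matrix (Fin 3) (Fin 2) ℤ)).toAddMonoidHom).toMonoidHom ξ)⁻¹ *
        Units.map (AddMonoidAlgebra.mapDomainRingHom A
          (Matrix.mulVecLin (!![1, 0; 0, 1; 0, 1] : Matrix (Fin 3) (Fin 2) ℤ)).toAddMonoidHom).toMonoidHom ξ *
        (Units.map (AddMonoidAlgebra.mapDomainRingHom A
          (Matrix.mulVecLin (!![1, 0; 0, 1; 0, 0] : Matrix (Fin 3) (Fin 2) ℤ)).toAddMonoidHom).toMonoidHom ξ)⁻¹ = 1) :
    ∃ η : (AddMonoidAlgebra A (Fin 1 → ℤ))ˣ,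
      ξ = Units.map (AddMonoidAlgebra.mapDomainRingHom A
          (Matrix.mulVecLin (!![0; 1] : Matrix (Fin 2) (Fin 1) ℤ)).toAddMonoidHom).toMonoidHom η *
        (Units.map (AddMonoidAlgebra.mapDomainRingHom A
          (Matrix.mulVecLin (!![1; 1] : Matrix (Fin 2) (Fin 1) ℤ)).toAddMonoidHom).toMonoidHom η)⁻¹ *
        Units.map (AddMonoidAlgebra.mapDomainRingHom A
          (Matrix.mulVecLin (!![1; 0] : Matrix (Fin 2) (Fin 1) ℤ)).toAddMonoidHom).toMonoidHom η := by
  classical
  change D A ξ = 1 at hξ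
  suffices ∃ η, ξ = δ A η from this
  -- nilpotent away from the origin
  have hprime : ∀ p : Ideal A, p.IsPrime → (ξ : R2 A).coeff 0 ∉ p ∧ ∀ v, v ≠ 0 → (ξ : R2 A).coeff v ∈ p := by
    intro p hp
    obtain ⟨v₀, c, hc, hv⟩ := eq_single_of_isUnit (AddMonoidAlgebra.mapRingHom _ (Ideal.Quotient.mk p) (ξ : R2 A))
      ((ξ.isUnit).map _)
    have h1 := congrArg (AddMonoidAlgebra.mapRingHom _ (Ideal.Quotient.mk p)) ((D_eq_one_iff A ξ).mp hξ)
    simp only [map_mul, map_map_mapDomain, hv] at h1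
    simp only [AddMonoidAlgebra.mapDomainRingHom_apply, AddMonoidAlgebra.mapDomain_single,
      AddMonoidAlgebra.single_mul_single] at h1
    have h2 := congrArg AddMonoidAlgebra.coeff h1
    simp only [AddMonoidAlgebra.coeff_single] at h2
    rcases Finsupp.single_eq_single_iff _ _ _ _ |>.mp h2 with ⟨h3, -⟩ | ⟨h3, -⟩
    swap
    · exact absurd h3 (mul_ne_zero hc hc)
    have hv0 : v₀ = 0 := by
      have e0 := congrFun h3 0
      have e2 := congrFun h3 2
      simp [c0_apply, c1_apply, c2_apply, c3_apply] at e0 e2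
      funext i; fin_cases i
      · simpa using e0
      · simpa using e2
    subst hv0
    have h4 : ∀ v, Ideal.Quotient.mk p ((ξ : R2 A).coeff v) = if v = 0 then c else 0 := by
      intro v
      rw [← AddMonoidAlgebra.coeff_mapRingHom, hv, AddMonoidAlgebra.coeff_single, Finsupp.single_apply]
      simp [eq_comm]
    refine ⟨fun hmem => hc ?_, fun v hv => Ideal.Quotient.eq_zero_iff_mem.mp (by rw [h4, if_neg hv])⟩
    simpa [Ideal.Quotient.eq_zero_iff_mem.mpr hmem] using (h4 0).symm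
  have hc0 : IsUnit ((ξ : R2 A).coeff 0) := by
    by_contra hu
    obtain ⟨m, hm, hmem⟩ := exists_max_ideal_of_mem_nonunits hu
    exact (hprime m hm.isPrime).1 hmem
  -- normalise the constant
  let η₀ : (R1 A)ˣ := hc0.unit.map (AddMonoidAlgebra.singleZeroRingHom (M := Fin 1 → ℤ)).toMonoidHom
  have hδ₀ : ((δ A η₀ : (R2 A)ˣ) : R2 A) = AddMonoidAlgebra.single 0 ((ξ : R2 A).coeff 0) := by
    have hone : ∀ e : (Fin 1 → ℤ) →+ (Fin 2 → ℤ),
        Units.map (AddMonoidAlgebra.mapDomainRingHom A e).toMonoidHom η₀ =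
          hc0.unit.map (AddMonoidAlgebra.singleZeroRingHom (M := Fin 2 → ℤ)).toMonoidHom := fun e =>
      Units.ext (by simp [η₀])
    simp only [δ, MonoidHom.mul_apply, MonoidHom.inv_apply, hone, mul_inv_cancel, one_mul]
    simp
  let J : Ideal A := Ideal.span (((ξ * (δ A η₀)⁻¹ : (R2 A)ˣ) - 1 : R2 A).coeff.frange : Set A)
  have hJnil : J ≤ nilradical A := by
    rw [Ideal.span_le]
    intro x hx
    obtain ⟨hx0, v, rfl⟩ := Finsupp.mem_frange.mp hx
    rw [SetLike.mem_coe, nilradical_eq_sInf, Submodule.mem_sInf]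
    intro p hp
    obtain ⟨u, hu⟩ := hc0.exists_left_inv
    have hinv : (((δ A η₀)⁻¹ : (R2 A)ˣ) : R2 A) = AddMonoidAlgebra.single 0 u := by
      refine Units.inv_eq_of_mul_eq_one_right ?_
      rw [hδ₀, AddMonoidAlgebra.single_mul_single, add_zero, mul_comm, hu]
      rfl
    rw [AddMonoidAlgebra.coeff_sub, Finsupp.sub_apply, Units.val_mul, hinv,
      AddMonoidAlgebra.coeff_mul_single_eq_coeff_mul (m₂ := v) (H := by simp)]
    rw [AddMonoidAlgebra.one_def, AddMonoidAlgebra.coeff_single, Finsupp.single_apply]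
    split_ifs with h
    · rw [← h, mul_comm, hu, sub_self]; exact p.zero_mem
    · rw [sub_zero]
      exact Ideal.mul_mem_right _ p ((hprime p hp).2 v (Ne.symm h))
  obtain ⟨N, hN⟩ : IsNilpotent J := by
    refine Ideal.FG.isNilpotent_iff_le_nilradical ?_ |>.mpr hJnil
    exact ⟨_, rfl⟩
  have key : ∀ k, 1 ≤ k → ∃ η, ∀ v, (((ξ * (δ A η)⁻¹ : (R2 A)ˣ) : R2 A) - 1).coeff v ∈ J ^ k := by
    intro k hk
    induction k, hk using Nat.le_induction with
    | base =>
      refine ⟨η₀, fun v => ?_⟩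
      rw [pow_one]
      by_cases h : (((ξ * (δ A η₀)⁻¹ : (R2 A)ˣ) : R2 A) - 1).coeff v = 0
      · rw [h]; exact zero_mem _
      · exact Ideal.subset_span (Finsupp.mem_frange.mpr ⟨h, v, rfl⟩)
    | succ k hk ih =>
      obtain ⟨η, hη⟩ := ih
      set ξ' := ξ * (δ A η)⁻¹
      have hD : D A ξ' = 1 := by simp [ξ', map_mul, map_inv, hξ, D_δ]
      let q := Ideal.Quotient.mk (J ^ (k + 1))
      let I := (J ^ k).map q
      have hI : I * I = ⊥ := by
        rw [← Ideal.map_mul, ← pow_add, Ideal.map_eq_bot_iff_le_ker, Ideal.mk_ker]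
        exact Ideal.pow_le_pow_right (by omega)
      obtain ⟨e, he, hxe⟩ := exists_linear_primitive I hI
        (AddMonoidAlgebra.mapRingHom _ q ((ξ' : R2 A) - 1))
        (fun v => by rw [AddMonoidAlgebra.coeff_mapRingHom]; exact Ideal.mem_map_of_mem q (hη v)) (by
          have h1 := congrArg (AddMonoidAlgebra.mapRingHom _ q) ((D_eq_one_iff A ξ').mp hD)
          simp only [map_mul, map_map_mapDomain] at h1
          simp only [map_sub, map_one, sub_add_cancel]
          exact h1)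
      -- lift `e`
      have hlift : ∀ v, ∃ a ∈ J ^ k, q a = e.coeff v := fun v =>
        (Ideal.mem_map_iff_of_surjective q Ideal.Quotient.mk_surjective).mp (he v)
      choose a ha hqa using hlift
      let et : R1 A := ∑ v ∈ e.coeff.support, AddMonoidAlgebra.single v (a v)
      have het : AddMonoidAlgebra.mapRingHom _ q et = e := by
        simp only [et, map_sum, AddMonoidAlgebra.mapRingHom_single, hqa]
        exact AddMonoidAlgebra.sum_coeff_single e
      have hetnil : IsNilpotent et := by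
        refine isNilpotent_sum fun v _ => ?_
        obtain ⟨n, hn⟩ : IsNilpotent (a v) := hJnil (Ideal.pow_le_self (by omega) (ha v))
        exact ⟨n, by rw [AddMonoidAlgebra.single_pow, hn, AddMonoidAlgebra.single_zero]⟩
      let η' : (R1 A)ˣ := hetnil.isUnit_one_add.unit
      refine ⟨η * η', fun v => ?_⟩
      rw [← Ideal.Quotient.eq_zero_iff_mem, ← AddMonoidAlgebra.coeff_mapRingHom, map_sub, map_one]
      have hη' : (η' : R1 A) = 1 + et := rfl
      have hval : AddMonoidAlgebra.mapRingHom _ q (ξ' : R2 A) *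
            AddMonoidAlgebra.mapRingHom _ q ((U A eM η' : (R2 A)ˣ) : R2 A) =
          AddMonoidAlgebra.mapRingHom _ q ((U A eR η' : (R2 A)ˣ) : R2 A) *
            AddMonoidAlgebra.mapRingHom _ q ((U A eL η' : (R2 A)ˣ) : R2 A) := by
        have hU : ∀ f : (Fin 1 → ℤ) →+ (Fin 2 → ℤ),
            AddMonoidAlgebra.mapRingHom _ q ((U A f η' : (R2 A)ˣ) : R2 A) =
              AddMonoidAlgebra.mapDomainRingHom _ f (1 + e) := fun f => by
          show AddMonoidAlgebra.mapRingHom _ q (AddMonoidAlgebra.mapDomainRingHom A f (η' : R1 A)) = _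
          rw [map_map_mapDomain, hη', map_add, map_one, het]
        rw [hU, hU, hU, ← hxe, map_sub, map_one, sub_add_cancel]
      let G : (R2 A)ˣ →* (R2 (A ⧸ J ^ (k + 1)))ˣ :=
        Units.map (AddMonoidAlgebra.mapRingHom (Fin 2 → ℤ) q).toMonoidHom
      have hunit : G ξ' * G (U A eM η') = G (U A eR η') * G (U A eL η') := Units.ext hval
      have hz : G (ξ * (δ A (η * η'))⁻¹) = 1 := by
        have hsplit : ξ * (δ A (η * η'))⁻¹ = ξ' * (U A eR η' * (U A eM η')⁻¹ * U A eL η')⁻¹ := by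
          rw [map_mul (δ A), mul_inv, ← mul_assoc]
          rfl
        rw [hsplit]
        exact hom_eq_one G ξ' (U A eR η') (U A eM η') (U A eL η') hunit
      rw [show (AddMonoidAlgebra.mapRingHom (Fin 2 → ℤ) q) ((ξ * (δ A (η * η'))⁻¹ : (R2 A)ˣ) : R2 A) = 1
        from congrArg Units.val hz, sub_self, AddMonoidAlgebra.coeff_zero, Finsupp.zero_apply]
  obtain ⟨η, hη⟩ := key (N + 1) (by omega)
  refine ⟨η, ?_⟩
  rw [← mul_inv_eq_one]
  refine Units.ext (sub_eq_zero.mp (AddMonoidAlgebra.coeff_injective (Finsupp.ext fun v => ?_)))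
  have := hη v
  rw [pow_succ, hN, zero_mul, Ideal.zero_eq_bot, Ideal.mem_bot] at this
  simpa using this

end Groth.Agent.S13793
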