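import Groth.Statements.S13794
import Mathlib

set_option autoImplicit false
universe u
open Polynomial
open Curves

namespace Groth.Agent.S13794

/-- Let k be a field of characteristic not 3 and β ∈ k. If a line ax + by + c = 0 with a³ ≠ b³ is the
tangent line at a flex point of the affine cubic x³ + y³ + β = 3xy, then β is a cube in k. Here the
line is normalised to b ≠ 0 (the roles of x and y are symmetric) and the flex-tangency is expressed
by the restriction of the cubic to the line being λ (x − x₀)³. -/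
theorem result {k : Type u} [Field k] (h3 : (3 : k) ≠ 0)
    (β a b c : k) (hb : b ≠ 0) (hab : a ^ 3 ≠ b ^ 3) (lam x₀ : k)
    (hflex : (X : k[X]) ^ 3 + (C (-a / b) * X + C (-c / b)) ^ 3 + C β - 3 * X * (C (-a / b) * X + C (-c / b)) =
      C lam * (X - C x₀) ^ 3) :
    ∃ γ : k, β = γ ^ 3 := by
  set m := -a / b with hm
  set q := -c / b with hq
  have hexp : (X : k[X]) ^ 3 + (C m * X + C q) ^ 3 + C β - 3 * X * (C m * X + C q) =
      C (1 + m ^ 3) * X ^ 3 + C (3 * m ^ 2 * q - 3 * m) * X ^ 2 + C (3 * m * q ^ 2 - 3 * q) * X + C (q ^ 3 + β) := by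
    simp only [map_add, map_sub, map_mul, map_pow, map_one, map_ofNat]
    ring
  have hexp2 : C lam * (X - C x₀) ^ 3 =
      C lam * X ^ 3 + C (-3 * lam * x₀) * X ^ 2 + C (3 * lam * x₀ ^ 2) * X + C (-lam * x₀ ^ 3) := by
    simp only [map_neg, map_mul, map_pow, map_ofNat]
    ring
  rw [hexp, hexp2] at hflex
  have hco := fun i => congrArg (fun P => Polynomial.coeff P i) hflex
  have e3 := hco 3
  have e2 := hco 2
  have e1 := hco 1
  have e0 := hco 0
  simp only [Polynomial.coeff_add, Polynomial.coeff_C_mul, Polynomial.coeff_X_pow, Polynomial.coeff_X, Polynomial.coeff_C] at e3 e2 e1 e0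
  norm_num at e3 e2 e1 e0
  have hlam : 1 + m ^ 3 ≠ 0 := by
    intro h
    apply hab
    have : m ^ 3 * b ^ 3 = -a ^ 3 := by rw [hm, ← mul_pow, div_mul_cancel₀ _ hb]; ring
    linear_combination -(b ^ 3) * h + this
  rcases eq_or_ne x₀ 0 with hx | hx
  · exact ⟨-q, by subst hx; simp at e0; linear_combination e0⟩
  · have h2' : m * (m * q - 1) = -(lam * x₀) := mul_left_cancel₀ h3 (by linear_combination e2)
    have h1' : q * (m * q - 1) = lam * x₀ ^ 2 := mul_left_cancel₀ h3 (by linear_combination e1)
    have hq' : q = -(m * x₀) := by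
      have hne : m * (m * q - 1) ≠ 0 := by
        rw [h2']
        exact neg_ne_zero.2 (mul_ne_zero (e3 ▸ hlam) hx)
      refine mul_right_cancel₀ (mul_ne_zero_iff.1 hne).2 ?_
      linear_combination h1' + x₀ * h2'
    exact ⟨-x₀, by rw [hq'] at e0; rw [← e3] at e0; linear_combination e0⟩

end Groth.Agent.S13794
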