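import Groth.Statements.S13795
import Mathlib
open TensorProduct

set_option autoImplicit false
universe u
open TensorProduct
open Brauer

namespace Groth.Agent.S13795

section Morita

variable {A : Type u} [CommRing A] {F G : Type u} [AddCommGroup F] [Module A F] [AddCommGroup G] [Module A G]

/-- The maps intertwining `f` with `φ f`. -/
def Lmod (φ : Module.End A F ≃ₐ[A] Module.End A G) : Submodule A (F →ₗ[A] G) where
  carrier := {l | ∀ f, φ f ∘ₗ l = l ∘ₗ f}
  add_mem' {a b} ha hb f := by rw [LinearMap.comp_add, LinearMap.add_comp, ha f, hb f]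
  zero_mem' f := by simp
  smul_mem' c l hl f := by rw [LinearMap.comp_smul, LinearMap.smul_comp, hl f]

/-- Evaluation. -/
noncomputable def xi (φ : Module.End A F ≃ₐ[A] Module.End A G) : F ⊗[A] Lmod φ →ₗ[A] G :=
  TensorProduct.lift ((Lmod φ).subtype.flip)

@[simp] theorem xi_tmul (φ : Module.End A F ≃ₐ[A] Module.End A G) (x : F) (l : Lmod φ) :
    xi φ (x ⊗ₜ l) = (l : F →ₗ[A] G) x := rfl

theorem xi_bijective [Module.Finite A F] [Module.Projective A F]
    (φ : Module.End A F ≃ₐ[A] Module.End A G) : Function.Bijective (xi φ) := by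
  classical
  obtain ⟨n, p, s, -, -, hps⟩ := Module.Finite.exists_comp_eq_id_of_projective A F
  let ψ : Fin n → F →ₗ[A] A := fun i => LinearMap.proj i ∘ₗ s
  let x : Fin n → F := fun i => p (Pi.single i 1)
  have hdual : ∀ z, ∑ i, ψ i z • x i = z := fun z => by
    conv_rhs => rw [← LinearMap.id_apply (R := A) z, ← hps, LinearMap.comp_apply, pi_eq_sum_univ' (s z)]
    simp [ψ, x, map_sum]
  -- the candidate inverse
  let P : Fin n → G → F →ₗ[A] G := fun i g =>
    { toFun := fun z => φ ((ψ i).smulRight z) g
      map_add' := fun a b => by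
        rw [show (ψ i).smulRight (a + b) = (ψ i).smulRight a + (ψ i).smulRight b by ext; simp [smul_add],
          map_add, LinearMap.add_apply]
      map_smul' := fun c a => by
        rw [show (ψ i).smulRight (c • a) = c • (ψ i).smulRight a by ext; simp [smul_comm c], map_smul]
        rfl }
  have hP : ∀ i g, P i g ∈ Lmod φ := fun i g f => LinearMap.ext fun z => by
    show φ f (φ ((ψ i).smulRight z) g) = φ ((ψ i).smulRight (f z)) g
    rw [← Module.End.mul_apply, ← map_mul,
      show f * (ψ i).smulRight z = (ψ i).smulRight (f z) by ext; simp]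
  let η : G → F ⊗[A] Lmod φ := fun g => ∑ i, x i ⊗ₜ ⟨P i g, hP i g⟩
  refine Function.bijective_iff_has_inverse.2 ⟨η, fun t => ?_, fun g => ?_⟩
  · induction t using TensorProduct.induction_on with
    | zero =>
      simp only [map_zero, η]
      refine Finset.sum_eq_zero fun i _ => ?_
      rw [show (⟨P i 0, hP i 0⟩ : Lmod φ) = 0 from Subtype.ext (LinearMap.ext fun z => map_zero (φ ((ψ i).smulRight z))), tmul_zero]
    | add a b ha hb =>
      rw [map_add]
      conv_rhs => rw [← ha, ← hb]
      simp only [η, ← Finset.sum_add_distrib, ← tmul_add]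
      refine Finset.sum_congr rfl fun i _ => congrArg _ (Subtype.ext (LinearMap.ext fun z => map_add (φ ((ψ i).smulRight z)) _ _))
    | tmul y l =>
      conv_rhs => rw [← hdual y, sum_tmul]
      refine Finset.sum_congr rfl fun i _ => ?_
      rw [smul_tmul]
      refine congrArg _ (Subtype.ext (LinearMap.ext fun z => ?_))
      show φ ((ψ i).smulRight z) ((l : F →ₗ[A] G) y) = ψ i y • (l : F →ₗ[A] G) z
      rw [← LinearMap.comp_apply, l.2, LinearMap.comp_apply, LinearMap.smulRight_apply, map_smul]
  · simp only [η, map_sum, xi_tmul]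
    show ∑ i, φ ((ψ i).smulRight (x i)) g = g
    rw [← LinearMap.sum_apply, ← map_sum,
      show ∑ i, (ψ i).smulRight (x i) = 1 by ext z; simp [hdual], map_one, Module.End.one_apply]

theorem exists_contract_eq_one [Module.Finite A F] [Module.Projective A F] [Module.FaithfullyFlat A F] :
    ∃ t : Module.Dual A F ⊗[A] F, contractLeft A F t = 1 := by
  classical
  obtain ⟨n, p, s, -, -, hps⟩ := Module.Finite.exists_comp_eq_id_of_projective A F
  suffices h : LinearMap.range (contractLeft A F) = ⊤ by
    exact LinearMap.mem_range.1 (h ▸ Submodule.mem_top)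
  by_contra h
  obtain ⟨m, hm, hle⟩ := Ideal.exists_le_maximal _ h
  refine Module.FaithfullyFlat.submodule_ne_top (M := F) hm (eq_top_iff.2 fun z _ => ?_)
  rw [← LinearMap.id_apply (R := A) z, ← hps, LinearMap.comp_apply, pi_eq_sum_univ' (s z), map_sum]
  refine Submodule.sum_mem _ fun i _ => ?_
  rw [map_smul]
  exact Submodule.smul_mem_smul (hle ⟨(LinearMap.proj i ∘ₗ s) ⊗ₜ z, rfl⟩) Submodule.mem_top

/-- A central endomorphism of a progenerator is a scalar. -/
theorem eq_contract_smul (t : Module.Dual A F ⊗[A] F) (ht : contractLeft A F t = 1) (f : Module.End A F)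
    (hf : ∀ g, f * g = g * f) (x : F) : f x = contractLeft A F (f.lTensor _ t) • x := by
  have key : ∀ t : Module.Dual A F ⊗[A] F,
      contractLeft A F t • f x = contractLeft A F (f.lTensor _ t) • x := by
    intro t
    induction t using TensorProduct.induction_on with
    | zero => simp
    | add a b ha hb => simp only [map_add, add_smul, ha, hb]
    | tmul ψ w =>
      have := congr($(hf (LinearMap.smulRight ψ x)) w)
      simpa using this
  rw [← key t, ht, one_smul]

theorem invertible_Lmod [Module.Finite A F] [Module.Projective A F] [Module.FaithfullyFlat A F]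
    [Module.Finite A G] [Module.Projective A G]
    (φ : Module.End A F ≃ₐ[A] Module.End A G) : Module.Invertible A (Lmod φ) := by
  obtain ⟨t, ht⟩ := exists_contract_eq_one (A := A) (F := F)
  let c : (F →ₗ[A] F) →ₗ[A] A :=
    { toFun := fun f => contractLeft A F (f.lTensor _ t)
      map_add' := fun a b => by simp [LinearMap.lTensor_add]
      map_smul' := fun a b => by simp [LinearMap.lTensor_smul] }
  let μ : Lmod φ ⊗[A] Lmod φ.symm →ₗ[A] A :=
    TensorProduct.lift (LinearMap.mk₂ A (fun l l' => c ((l' : G →ₗ[A] F) ∘ₗ (l : F →ₗ[A] G)))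
      (fun a b d => by simp [LinearMap.comp_add]) (fun a b d => by simp [LinearMap.comp_smul])
      (fun a b d => by simp [LinearMap.add_comp]) (fun a b d => by simp [LinearMap.smul_comp]))
  have hμ : ∀ (x : F) (l : Lmod φ) (l' : Lmod φ.symm),
      μ (l ⊗ₜ l') • x = (l' : G →ₗ[A] F) ((l : F →ₗ[A] G) x) := fun x l l' => by
    refine (eq_contract_smul t ht ((l' : G →ₗ[A] F) ∘ₗ (l : F →ₗ[A] G)) (fun g => ?_) x).symm
    have e := l'.2 (φ g)
    rw [AlgEquiv.symm_apply_apply] at e
    show (_ ∘ₗ _) ∘ₗ g = g ∘ₗ (_ ∘ₗ _)
    rw [LinearMap.comp_assoc, ← l.2 g, ← LinearMap.comp_assoc, ← e, LinearMap.comp_assoc]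
  let e : F ⊗[A] (Lmod φ ⊗[A] Lmod φ.symm) ≃ₗ[A] F ⊗[A] A :=
    (TensorProduct.assoc A F _ _).symm ≪≫ₗ
      TensorProduct.congr (LinearEquiv.ofBijective _ (xi_bijective φ)) (LinearEquiv.refl A _) ≪≫ₗ
      LinearEquiv.ofBijective _ (xi_bijective φ.symm) ≪≫ₗ (TensorProduct.rid A F).symm
  have he : μ.lTensor F = e.toLinearMap := by
    refine TensorProduct.ext' fun x u => ?_
    induction u using TensorProduct.induction_on with
    | zero => simp
    | add a b ha hb => rw [tmul_add, map_add, map_add, ha, hb]
    | tmul l l' =>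
      apply (TensorProduct.rid A F).injective
      simp [e, hμ]
  have hb : Function.Bijective (μ.lTensor F) := by rw [he]; exact e.bijective
  have hμb : Function.Bijective μ := by
    have h1 := Module.FaithfullyFlat.lTensor_bijective_iff_bijective (R := A) (M := F)
      (N := Lmod φ ⊗[A] Lmod φ.symm) (N' := A)
    exact (h1 μ).1 hb
  exact Module.Invertible.left (LinearEquiv.ofBijective μ hμb)

end Morita

/-- In the case of an affine scheme — let A be a commutative ring, F and G finitely generated projective
A-modules of everywhere positive rank, and φ an A-algebra isomorphism from End_A(F) to End_A(G).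
Then there are an invertible A-module L and an A-linear isomorphism ξ : F ⊗ L ≅ G which induces φ:
for every endomorphism f of F, φ(f) = ξ ∘ (f ⊗ 1) ∘ ξ⁻¹. (The published statement is for finite
locally free modules of positive rank on any locally ringed site; this row is the case of the
Zariski site of Spec A, written in terms of modules.) -/
theorem result (A : Type u) [CommRing A]
    (F G : Type u) [AddCommGroup F] [Module A F] [Module.Finite A F] [Module.Projective A F] [Module.FaithfullyFlat A F]
    [AddCommGroup G] [Module A G] [Module.Finite A G] [Module.Projective A G] [Module.FaithfullyFlat A G]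
    (φ : Module.End A F ≃ₐ[A] Module.End A G) :
    ∃ (L : Type u) (_ : AddCommGroup L) (_ : Module A L), Module.Invertible A L ∧
      ∃ ξ : F ⊗[A] L ≃ₗ[A] G, ∀ f : Module.End A F, φ f = ξ.conj (TensorProduct.map f LinearMap.id) := by
  refine ⟨Lmod φ, inferInstance, inferInstance, invertible_Lmod φ,
    LinearEquiv.ofBijective _ (xi_bijective φ), fun f => ?_⟩
  apply LinearMap.ext
  intro g
  obtain ⟨t, rfl⟩ := (xi_bijective φ).2 g
  rw [LinearEquiv.conj_apply_apply,
    show (LinearEquiv.ofBijective _ (xi_bijective φ)).symm (xi φ t) = t from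
      (LinearEquiv.ofBijective _ (xi_bijective φ)).symm_apply_apply t]
  show φ f (xi φ t) = xi φ (TensorProduct.map f LinearMap.id t)
  induction t using TensorProduct.induction_on with
  | zero => simp
  | add a b ha hb => simp only [map_add, ha, hb]
  | tmul x l =>
    rw [TensorProduct.map_tmul, xi_tmul, xi_tmul]
    exact congr($(l.2 f) x)

end Groth.Agent.S13795
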