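import Groth.Statements.S13796
import Groth.Agent.AzSplitLib.Cover
import Groth.Agent.AzSplitLib.TensorPow
import Groth.Agent.AzumayaAlg.Corner
import Groth.Agent.LGLib.Idem

set_option autoImplicit false
universe u
open scoped TensorProduct
open Brauer

namespace Groth.Agent.S13796

open Groth.Agent
set_option backward.isDefEq.respectTransparency false

/-- In the case of an affine scheme — let R be a commutative ring and A an Azumaya R-algebra of constant
rank n². Then there exist a finitely generated projective R-module E of constant rank n^n and an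
R-algebra isomorphism from the n-fold tensor power A ⊗ ⋯ ⊗ A to End_R(E) (existence of an
isomorphism only), so the Brauer class of A is n-torsion. For n = 0 the hypotheses force R = 0,
where the statement holds trivially. (The published statement is for Azumaya algebras of constant
rank n² on any locally ringed site; this row is the case of the étale site of Spec R, written in
terms of modules: an Azumaya algebra here is one in the usual, étale-local sense.) -/
theorem result (R : Type u) [CommRing R] (A : Type u) [Ring A] [Algebra R A]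
    [IsAzumaya R A] (n : ℕ) (hrk : ∀ p : PrimeSpectrum R, Module.rankAtStalk (R := R) A p = n ^ 2) :
    ∃ (E : Type u) (_ : AddCommGroup E) (_ : Module R E), Module.Finite R E ∧ Module.Projective R E ∧
      (∀ p : PrimeSpectrum R, Module.rankAtStalk (R := R) E p = n ^ n) ∧
      Nonempty ((⨂[R] _ : Fin n, A) ≃ₐ[R] Module.End R E) := by
  classical
  obtain ⟨R', _, _, hFF, ⟨φ⟩⟩ := AzSplitLib.exists_faithfullyFlat_split R A n hrk
  obtain ⟨hAz, p, hp, hpt, hp0⟩ := AzSplitLib.exists_line_idem φ
  haveI := hAz
  let ι := LinearMap.toSpanSingleton R (⨂[R] _ : Fin n, A) p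
  have hι : Function.Injective ι := (injective_iff_map_eq_zero ι).2 fun r hr => hp0 r hr
  let Q : (⨂[R] _ : Fin n, A) →ₗ[R] LinearMap.range ι :=
    (LinearMap.mulRight R p ∘ₗ LinearMap.mulLeft R p).codRestrict _ fun t => by
      obtain ⟨r, hr⟩ := hpt t
      exact ⟨r, hr⟩
  let π := (LinearEquiv.ofInjective ι hι).symm.toLinearMap ∘ₗ Q
  have hιπ : ∀ t, ι (π t) = p * t * p := fun t => by
    show ((LinearEquiv.ofInjective ι hι) ((LinearEquiv.ofInjective ι hι).symm (Q t)) : ⨂[R] _ : Fin n, A) = _
    rw [LinearEquiv.apply_symm_apply]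
    rfl
  have hι' : ∀ r, ι r = r • p := fun r => rfl
  have hπι : π ∘ₗ ι = LinearMap.id := LinearMap.ext fun r => hι (by
    rw [LinearMap.comp_apply, hιπ, hι', mul_smul_comm, smul_mul_assoc, hp, hp]
    rfl)
  obtain ⟨θ⟩ := AzumayaAlg.exists_algEquiv_end (A := ⨂[R] _ : Fin n, A) ι π hπι hp hιπ (one_smul R p)
    (fun x y => by simp only [hι', smul_eq_mul, smul_mul_assoc, mul_smul_comm, smul_smul, hp, mul_comm])
    (fun x => by simp only [hι', mul_smul_comm, hp]) (fun x => by simp only [hι', smul_mul_assoc, hp])
  let M := LinearMap.range (LinearMap.mulRight R p)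
  haveI : Module.Finite R M := Module.Finite.range _
  haveI : Module.Projective R M := by
    refine Module.Projective.of_split M.subtype (LinearMap.mulRight R p).rangeRestrict (LinearMap.ext fun x => Subtype.ext ?_)
    obtain ⟨y, hy⟩ := x.2
    show (x : ⨂[R] _ : Fin n, A) * p = x
    rw [← hy, LinearMap.mulRight_apply, mul_assoc, hp]
  haveI : FaithfulSMul R M := ⟨fun {r s} h => by
    have h' := congrArg Subtype.val (h ⟨p, p, hp⟩)
    refine sub_eq_zero.1 (hp0 _ ?_)
    rw [sub_smul, sub_eq_zero]
    exact h'⟩
  let e : (⨂[R] _ : Fin n, A) ≃ₐ[R] Module.End R M :=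
    (((Algebra.TensorProduct.congr AlgEquiv.refl (AlgEquiv.toOpposite R R).symm).trans
      (Algebra.TensorProduct.rid R R _)).symm).trans θ
  refine ⟨M, inferInstance, inferInstance, inferInstance, inferInstance, fun q => ?_, ⟨e⟩⟩
  obtain ⟨Q', rfl⟩ := PrimeSpectrum.comap_surjective_of_faithfullyFlat (A := R) (B := R') q
  haveI : Nontrivial R' := PrimeSpectrum.nonempty_iff_nontrivial.1 ⟨Q'⟩
  have h1 := Module.rankAtStalk_baseChange (R := R) (M := ⨂[R] _ : Fin n, A) (S := R') Q'
  rw [congrFun (Module.rankAtStalk_eq_of_equiv (AlgEquiv.ofBijective _ (AzSplitLib.powSplit_bijective φ)).toLinearEquiv) Q',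
    Module.rankAtStalk_eq_finrank_of_free, congrFun (Module.rankAtStalk_eq_of_equiv (N := Module.End R M) ({ e.toLinearEquiv with } : (⨂[R] _ : Fin n, A) ≃ₗ[R] Module.End R M)) _,
    LGLib.rankAtStalk_end] at h1
  simp [Module.finrank_matrix] at h1
  exact (Nat.mul_self_inj.1 h1.symm)

end Groth.Agent.S13796
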