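import Groth.Statements.S13798
import Mathlib

set_option autoImplicit false
universe u
open CategoryTheory CategoryTheory.Limits AlgebraicGeometry Opposite
open Curves

namespace Groth.Agent.S13798

open TopologicalSpace
set_option backward.isDefEq.respectTransparency false
set_option backward.isDefEq.respectTransparency.types false

variable {M : Type} [AddCommGroup M]

/-- Units of a group algebra of a domain over a group with two unique sums are monomials. -/
theorem eq_single_of_isUnit [TwoUniqueSums M] {B : Type u} [CommRing B] [IsDomain B] (x : AddMonoidAlgebra B M)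
    (hx : IsUnit x) : ∃ v c, c ≠ 0 ∧ x = AddMonoidAlgebra.single v c := by
  classical
  obtain ⟨y, hxy⟩ := hx.exists_right_inv
  have hxs : x.coeff.support.Nonempty := Finsupp.support_nonempty_iff.mpr fun h =>
    one_ne_zero (hxy.symm.trans (by rw [show x = 0 from AddMonoidAlgebra.coeff_injective h, zero_mul]))
  have hys : y.coeff.support.Nonempty := Finsupp.support_nonempty_iff.mpr fun h =>
    one_ne_zero (hxy.symm.trans (by rw [show y = 0 from AddMonoidAlgebra.coeff_injective h, mul_zero]))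
  by_cases hcard : 1 < x.coeff.support.card * y.coeff.support.card
  · obtain ⟨p, hp, p', hp', hne, hu, hu'⟩ := TwoUniqueSums.uniqueAdd_of_one_lt_card hcard
    rw [Finset.mem_product] at hp hp'
    have hz : ∀ r : M × M, r.1 ∈ x.coeff.support → r.2 ∈ y.coeff.support →
        UniqueAdd x.coeff.support y.coeff.support r.1 r.2 → r.1 + r.2 = 0 := by
      intro r hr₁ hr₂ hr
      by_contra h
      have e := AddMonoidAlgebra.coeff_mul_add_of_uniqueAdd hr
      rw [hxy, AddMonoidAlgebra.one_def, AddMonoidAlgebra.coeff_single, Finsupp.single_apply,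
        if_neg (Ne.symm h)] at e
      exact mul_ne_zero (Finsupp.mem_support_iff.mp hr₁) (Finsupp.mem_support_iff.mp hr₂) e.symm
    have := hu hp'.1 hp'.2 ((hz p' hp'.1 hp'.2 hu').trans (hz p hp.1 hp.2 hu).symm)
    exact absurd (Prod.ext this.1 this.2).symm hne
  · have h1 : x.coeff.support.card = 1 := by
      have := hxs.card_pos; have := hys.card_pos
      nlinarith
    obtain ⟨v, c, hc, hv⟩ := Finsupp.card_support_eq_one'.mp h1
    exact ⟨v, c, hc, AddMonoidAlgebra.coeff_injective hv⟩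

noncomputable abbrev TR (M : Type) [AddCommGroup M] : CommRingCat.{u} := CommRingCat.of (ULift.{u} (AddMonoidAlgebra ℤ M))

/-- Evaluation of global functions along a morphism from an affine scheme. -/
noncomputable def ev {X : Scheme.{u}} {R : Type u} [CommRing R] (g : Spec (CommRingCat.of R) ⟶ X) :
    Γ(X, ⊤) →+* R :=
  (g.appTop ≫ (Scheme.ΓSpecIso (CommRingCat.of R)).hom).hom

theorem ev_comp {X : Scheme.{u}} {R S : Type u} [CommRing R] [CommRing S] (φ : R →+* S)
    (g : Spec (CommRingCat.of R) ⟶ X) (x : Γ(X, ⊤)) :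
    ev (Spec.map (CommRingCat.ofHom φ) ≫ g) x = φ (ev g x) := by
  have h : (Spec.map (CommRingCat.ofHom φ) ≫ g).appTop ≫ (Scheme.ΓSpecIso (CommRingCat.of S)).hom =
      (g.appTop ≫ (Scheme.ΓSpecIso (CommRingCat.of R)).hom) ≫ CommRingCat.ofHom φ := by
    rw [Scheme.Hom.comp_appTop, Category.assoc, Scheme.ΓSpecIso_naturality, Category.assoc]
  exact ConcreteCategory.congr_hom h x

theorem ev_specMap {R : CommRingCat.{u}} {S : Type u} [CommRing S] (φ : R →+* S) (r : R) :
    ev (Spec.map (CommRingCat.ofHom φ)) ((Scheme.ΓSpecIso R).inv r) = φ r := by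
  have h : (Scheme.ΓSpecIso R).inv ≫ (Spec.map (CommRingCat.ofHom φ)).appTop ≫
      (Scheme.ΓSpecIso (CommRingCat.of S)).hom = CommRingCat.ofHom φ := by
    rw [Scheme.ΓSpecIso_naturality]
    exact Iso.inv_hom_id_assoc (Scheme.ΓSpecIso R) (CommRingCat.ofHom φ)
  exact ConcreteCategory.congr_hom h r

/-- The map `ℤ[M] → A[M]`. -/
noncomputable def mu (A : Type u) [CommRing A] : TR.{u} M →+* AddMonoidAlgebra A M :=
  (AddMonoidAlgebra.mapRingHom M (Int.castRingHom A)).comp ULift.ringEquiv.toRingHom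

theorem mu_single (A : Type u) [CommRing A] (m : M) :
    mu A (ULift.up (AddMonoidAlgebra.single m 1)) = AddMonoidAlgebra.single m 1 := by
  show AddMonoidAlgebra.mapRingHom M (Int.castRingHom A) (AddMonoidAlgebra.single m 1) = _
  simp

/-- The augmentation. -/
noncomputable def aug (A : Type u) [CommRing A] : AddMonoidAlgebra A M →+* A :=
  AddMonoidAlgebra.liftNCRingHom (RingHom.id A) (1 : Multiplicative M →* A) fun _ _ => Commute.all _ _

theorem aug_single (A : Type u) [CommRing A] (m : M) (a : A) : aug A (AddMonoidAlgebra.single m a) = a := by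
  simp [aug]

variable {X : Scheme.{u}}

/-- The chart of the product over an affine scheme over the first factor. -/
noncomputable def chart {A : Type u} [CommRing A] (g : Spec (CommRingCat.of A) ⟶ X) :
    Spec (CommRingCat.of (AddMonoidAlgebra A M)) ⟶ X ⨯ Spec (TR M) :=
  prod.lift (Spec.map (CommRingCat.ofHom AddMonoidAlgebra.singleZeroRingHom) ≫ g)
    (Spec.map (CommRingCat.ofHom (mu A)))

theorem chart_nat {A B : Type u} [CommRing A] [CommRing B] (φ : A →+* B) (g : Spec (CommRingCat.of A) ⟶ X) :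
    Spec.map (CommRingCat.ofHom (AddMonoidAlgebra.mapRingHom M φ)) ≫ chart g =
      chart (M := M) (Spec.map (CommRingCat.ofHom φ) ≫ g) := by
  refine Limits.prod.hom_ext ?_ ?_
  · rw [Category.assoc, chart, chart, prod.lift_fst, prod.lift_fst, ← Category.assoc, ← Category.assoc,
      ← Spec.map_comp, ← Spec.map_comp, ← CommRingCat.ofHom_comp, ← CommRingCat.ofHom_comp]
    exact congrArg (fun r => Spec.map (CommRingCat.ofHom r) ≫ g) (RingHom.ext fun a => by simp)
  · rw [Category.assoc, chart, chart, prod.lift_snd, prod.lift_snd, ← Spec.map_comp, ← CommRingCat.ofHom_comp]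
    refine congrArg (fun r => Spec.map (CommRingCat.ofHom r)) ?_
    simp only [mu, ← RingHom.comp_assoc]
    congr 1
    exact AddMonoidAlgebra.ringHom_ext' (Subsingleton.elim _ _) (MonoidHom.ext fun m => by simp)

theorem ev_chart_fst {A : Type u} [CommRing A] (g : Spec (CommRingCat.of A) ⟶ X) (x : Γ(X, ⊤)) :
    ev (chart (M := M) g) ((prod.fst : X ⨯ Spec (TR M) ⟶ X).appTop x) = AddMonoidAlgebra.single 0 (ev g x) := by
  show ev (chart (M := M) g ≫ prod.fst) x = _
  rw [chart, prod.lift_fst, ev_comp]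
  rfl

theorem ev_chart_snd {A : Type u} [CommRing A] (g : Spec (CommRingCat.of A) ⟶ X) (m : M) :
    ev (chart (M := M) g) ((prod.snd : X ⨯ Spec (TR M) ⟶ Spec (TR M)).appTop
      ((Scheme.ΓSpecIso (TR M)).inv (ULift.up (AddMonoidAlgebra.single m 1)))) = AddMonoidAlgebra.single m 1 := by
  have h := ev_specMap (R := TR M) (mu (M := M) A) (ULift.up (AddMonoidAlgebra.single m 1))
  rw [mu_single] at h
  have e : chart (M := M) g ≫ prod.snd = Spec.map (CommRingCat.ofHom (mu A)) := prod.lift_snd _ _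
  rw [← e] at h
  rw [← h]
  simp only [ev, Scheme.Hom.comp_appTop, CommRingCat.hom_comp, RingHom.comp_apply]

/-- The identity section. -/
noncomputable def sect (M : Type) [AddCommGroup M] (X : Scheme.{u}) : X ⟶ X ⨯ Spec (TR M) :=
  prod.lift (𝟙 X) (X.toSpecΓ ≫ Spec.map (CommRingCat.ofHom ((aug Γ(X, ⊤)).comp (mu Γ(X, ⊤)))))

theorem comp_sect {A : Type u} [CommRing A] (g : Spec (CommRingCat.of A) ⟶ X) :
    g ≫ sect M X = Spec.map (CommRingCat.ofHom (aug A)) ≫ chart (M := M) g := by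
  refine Limits.prod.hom_ext ?_ ?_
  · rw [Category.assoc, Category.assoc, sect, chart, prod.lift_fst, prod.lift_fst, Category.comp_id,
      ← Category.assoc, ← Spec.map_comp, ← CommRingCat.ofHom_comp,
      show (aug A).comp AddMonoidAlgebra.singleZeroRingHom = RingHom.id A from
      RingHom.ext fun a => aug_single A (0 : M) a]
    simp
  · rw [Category.assoc, Category.assoc, sect, chart, prod.lift_snd, prod.lift_snd, ← Category.assoc,
      Scheme.toSpecΓ_naturality, Category.assoc, ← Spec.map_comp, ← Spec.map_comp, ← CommRingCat.ofHom_comp]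
    refine ext_of_isAffine (ConcreteCategory.hom_ext _ _ fun x => ?_)
    obtain ⟨y, rfl⟩ := (ConcreteCategory.bijective_of_isIso (Scheme.ΓSpecIso (TR M)).inv).2 x
    refine (ConcreteCategory.bijective_of_isIso (Scheme.ΓSpecIso (CommRingCat.of A)).hom).1 ?_
    have hA : (ev g).comp ((aug Γ(X, ⊤)).comp (mu (M := M) Γ(X, ⊤))) = (aug A).comp (mu A) := by
      have e : ((ev g).comp ((aug Γ(X, ⊤)).comp (mu (M := M) Γ(X, ⊤)))).comp ULift.ringEquiv.symm.toRingHom =
          ((aug A).comp (mu A)).comp ULift.ringEquiv.symm.toRingHom :=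
        AddMonoidAlgebra.ringHom_ext' (Subsingleton.elim _ _) (MonoidHom.ext fun m => by simp [mu, aug])
      exact RingHom.ext fun z => RingHom.congr_fun e z.down
    refine ((Eq.trans ?_ (RingHom.congr_fun hA y))).trans (ev_specMap ((aug A).comp (mu A)) y).symm
    have h : (Scheme.ΓSpecIso (TR M)).inv ≫ ((Spec (CommRingCat.of A)).toSpecΓ ≫
        Spec.map (CommRingCat.ofHom ((aug Γ(X, ⊤)).comp (mu Γ(X, ⊤))) ≫ g.appTop)).appTop ≫
        (Scheme.ΓSpecIso (CommRingCat.of A)).hom =
        CommRingCat.ofHom ((aug Γ(X, ⊤)).comp (mu (M := M) Γ(X, ⊤))) ≫ g.appTop ≫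
          (Scheme.ΓSpecIso (CommRingCat.of A)).hom := by
      rw [Scheme.Hom.comp_appTop, Scheme.toSpecΓ_appTop, Category.assoc, Scheme.ΓSpecIso_naturality_assoc,
        Iso.inv_hom_id_assoc, Category.assoc]
    exact ConcreteCategory.congr_hom h y

/-- Global functions on an affine open. -/
noncomputable def tFun (M : Type) [AddCommGroup M] (X : Scheme.{u}) (m : M) : Γ(X ⨯ Spec (TR M), ⊤) :=
  (prod.snd : X ⨯ Spec (TR M) ⟶ Spec (TR M)).appTop ((Scheme.ΓSpecIso (TR M)).inv (ULift.up (AddMonoidAlgebra.single m 1)))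

theorem exists_factor {Z : Scheme.{u}} {A : Type u} [CommRing A] (a : Z ⟶ Spec (CommRingCat.of A))
    (h : Z ⟶ Spec (TR M)) :
    ∃ s : Z ⟶ Spec (CommRingCat.of (AddMonoidAlgebra A M)),
      s ≫ Spec.map (CommRingCat.ofHom AddMonoidAlgebra.singleZeroRingHom) = a ∧
      s ≫ Spec.map (CommRingCat.ofHom (mu A)) = h := by
  let φ : A →+* Γ(Z, ⊤) := ((Scheme.ΓSpecIso (CommRingCat.of A)).inv ≫ a.appTop).hom
  let ψ : TR.{u} M →+* Γ(Z, ⊤) := ((Scheme.ΓSpecIso (TR M)).inv ≫ h.appTop).hom
  let χ : AddMonoidAlgebra A M →+* Γ(Z, ⊤) := AddMonoidAlgebra.liftNCRingHom φ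
    ((ψ.comp ULift.ringEquiv.symm.toRingHom).toMonoidHom.comp (AddMonoidAlgebra.of ℤ M)) fun _ _ => Commute.all _ _
  have key : ∀ {R : CommRingCat.{u}} (f : R ⟶ CommRingCat.of (AddMonoidAlgebra A M)) (b : Z ⟶ Spec R),
      (∀ r, χ (f r) = b.appTop ((Scheme.ΓSpecIso R).inv r)) →
      (Z.toSpecΓ ≫ Spec.map (CommRingCat.ofHom χ)) ≫ Spec.map f = b := by
    intro R f b hb
    refine ext_of_isAffine ?_
    rw [Category.assoc, ← Spec.map_comp, Scheme.Hom.comp_appTop, Scheme.toSpecΓ_appTop,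
      Scheme.ΓSpecIso_naturality, ← Iso.eq_inv_comp]
    exact CommRingCat.hom_ext (RingHom.ext hb)
  refine ⟨Z.toSpecΓ ≫ Spec.map (CommRingCat.ofHom χ), key _ a fun r => ?_, key _ h fun r => ?_⟩
  · show χ (AddMonoidAlgebra.single 0 r) = φ r
    have h1 : ψ (ULift.ringEquiv.symm (AddMonoidAlgebra.single (0 : M) 1)) = 1 := by
      rw [← AddMonoidAlgebra.one_def, map_one, map_one]
    simp [χ, h1]
  · show χ (mu A r) = ψ r
    have e : (χ.comp (mu A)).comp ULift.ringEquiv.symm.toRingHom = ψ.comp ULift.ringEquiv.symm.toRingHom :=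
      AddMonoidAlgebra.ringHom_ext' (Subsingleton.elim _ _) (MonoidHom.ext fun m => by simp [χ, mu])
    exact RingHom.congr_fun e r.down


/-- Units on tori: let X be an integral scheme and P = X × 𝔾_mⁿ, the product with the n-dimensional
split torus Spec ℤ[ℤⁿ] = Spec ℤ[t₁^±, …, t_n^±]. The canonical map Γ(X, O_X)ˣ × ℤⁿ → Γ(P, O_P)ˣ, (u,
e) ↦ pr₁^*(u) · pr₂^*(t^e), is an isomorphism: every invertible global function on P is uniquely of
this form. -/
theorem result (X : Scheme.{u}) [IsIntegral X] (n : ℕ)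
    (v : Γ(X ⨯ Spec (CommRingCat.of (ULift.{u} (AddMonoidAlgebra ℤ (Fin n → ℤ)))), ⊤)) (hv : IsUnit v) :
    ∃! p : (Γ(X, ⊤))ˣ × (Fin n → ℤ),
      v = (prod.fst : X ⨯ Spec (CommRingCat.of (ULift.{u} (AddMonoidAlgebra ℤ (Fin n → ℤ)))) ⟶ X).appTop (p.1 : Γ(X, ⊤)) *
        (prod.snd : X ⨯ Spec (CommRingCat.of (ULift.{u} (AddMonoidAlgebra ℤ (Fin n → ℤ)))) ⟶ Spec (CommRingCat.of (ULift.{u} (AddMonoidAlgebra ℤ (Fin n → ℤ))))).appTop
          ((Scheme.ΓSpecIso (CommRingCat.of (ULift.{u} (AddMonoidAlgebra ℤ (Fin n → ℤ))))).inv (ULift.up (AddMonoidAlgebra.single p.2 1))) := by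
  classical
  let M := Fin n → ℤ
  let σ := sect M X
  let gK : Spec (CommRingCat.of X.functionField) ⟶ X := X.fromSpecStalk (genericPoint X)
  obtain ⟨e, cK, hcK, hvK⟩ := eq_single_of_isUnit (M := M) (ev (chart gK) v) (hv.map _)
  obtain ⟨u, hu⟩ := hv.map σ.appTop.hom
  -- the monomial shape on a chart
  have hform : ∀ {A : Type u} [CommRing A] [IsDomain A] (φ : A →+* X.functionField)
      (g : Spec (CommRingCat.of A) ⟶ X), Function.Injective φ → Spec.map (CommRingCat.ofHom φ) ≫ g = gK →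
      ev (chart (M := M) g) v = AddMonoidAlgebra.single e (ev g u) := by
    intro A _ _ φ g hφ hg
    obtain ⟨e', c, hc, hce⟩ := eq_single_of_isUnit (M := M) (ev (chart g) v) (hv.map _)
    have h1 : AddMonoidAlgebra.single e cK = AddMonoidAlgebra.single e' (φ c) := by
      rw [← hvK, ← hg, ← chart_nat, ev_comp, hce, AddMonoidAlgebra.mapRingHom_single]
    have hee : e' = e := by
      by_contra hne
      have h2 := congrArg (fun z => AddMonoidAlgebra.coeff z e) h1
      simp [hne] at h2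
      exact hcK h2
    have hcu : c = ev g u := by
      rw [hu]
      show c = ev (g ≫ σ) v
      rw [comp_sect, ev_comp, hce, aug_single]
    rw [hce, hee, hcu]
  refine ⟨(u, e), ?_, fun p hp => ?_⟩
  · -- check the equality on the preimages of affine opens
    refine (X ⨯ Spec (TR M)).sheaf.eq_of_locally_eq' (fun U : X.affineOpens => (prod.fst : X ⨯ Spec (TR M) ⟶ X) ⁻¹ᵁ U.1)
      ⊤ (fun U => homOfLE le_top) (fun x _ => ?_) _ _ fun U => ?_
    · obtain ⟨_, ⟨V, hV, rfl⟩, hxV, -⟩ := X.isBasis_affineOpens.exists_subset_of_mem_open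
        (Set.mem_univ ((prod.fst : X ⨯ Spec (TR M) ⟶ X) x)) isOpen_univ
      exact Opens.mem_iSup.2 ⟨⟨V, hV⟩, hxV⟩
    set Z := (prod.fst : X ⨯ Spec (TR M) ⟶ X) ⁻¹ᵁ U.1
    rcases isEmpty_or_nonempty Z with hZ | ⟨⟨x, hx⟩⟩
    · have : Z = ⊥ := Opens.ext (Set.eq_empty_iff_forall_notMem.2 fun x hx => hZ.false ⟨x, hx⟩)
      haveI : Subsingleton ((X ⨯ Spec (TR M)).presheaf.obj (op Z)) := by
        rw [this]; exact CommRingCat.subsingleton_of_isTerminal (X ⨯ Spec (TR M)).sheaf.isTerminalOfEmpty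
      exact Subsingleton.elim (α := (X ⨯ Spec (TR M)).presheaf.obj (op Z)) _ _
    haveI : Nonempty U.1 := ⟨⟨_, hx⟩⟩
    set g : Spec Γ(X, U.1) ⟶ X := U.2.fromSpec
    obtain ⟨s, hs1, hs2⟩ := exists_factor (M := M) ((prod.fst ∣_ U.1) ≫ U.2.isoSpec.hom)
      (Z.ι ≫ (prod.snd : X ⨯ Spec (TR M) ⟶ Spec (TR M)))
    have hs : s ≫ chart (M := M) g = Z.ι := by
      refine Limits.prod.hom_ext ?_ ?_
      · rw [Category.assoc, chart, prod.lift_fst, ← Category.assoc]
        erw [hs1]
        rw [Category.assoc, IsAffineOpen.isoSpec_hom_fromSpec, morphismRestrict_ι]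
      · rw [Category.assoc, chart, prod.lift_snd]
        exact hs2
    have hF := hform (A := Γ(X, U.1)) (X.germToFunctionField U.1).hom g (Scheme.germToFunctionField_injective X U.1)
      (U.2.fromSpecStalk_eq_fromSpecStalk _)
    have hw : ev (chart (M := M) g) v = ev (chart (M := M) g)
        ((prod.fst : X ⨯ Spec (TR M) ⟶ X).appTop (u : Γ(X, ⊤)) * tFun M X e) := by
      rw [hF, map_mul, ev_chart_fst, tFun, ev_chart_snd, AddMonoidAlgebra.single_mul_single, zero_add, mul_one]
    have hw2 : Z.ι.appTop v = Z.ι.appTop ((prod.fst : X ⨯ Spec (TR M) ⟶ X).appTop (u : Γ(X, ⊤)) * tFun M X e) := by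
      have h3 := (ConcreteCategory.bijective_of_isIso (Scheme.ΓSpecIso _).hom).1 hw
      rw [← hs, Scheme.Hom.comp_appTop]
      exact congrArg s.appTop h3
    rw [Scheme.Opens.ι_appTop] at hw2
    have hle : Z.ι ''ᵁ ⊤ = Z := Scheme.Opens.ι_image_top Z
    refine Eq.trans ?_ (Eq.trans (congrArg ((X ⨯ Spec (TR M)).presheaf.map (eqToHom hle.symm).op) hw2) ?_)
    · erw [← ConcreteCategory.comp_apply, ← Functor.map_comp]; rfl
    · erw [← ConcreteCategory.comp_apply, ← Functor.map_comp]; rfl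
  · -- uniqueness
    have hp' : v = (prod.fst : X ⨯ Spec (TR M) ⟶ X).appTop (p.1 : Γ(X, ⊤)) * tFun M X p.2 := hp
    clear hp
    have h1 : ev (chart (M := M) gK) v = AddMonoidAlgebra.single p.2 (ev gK p.1) := by
      rw [hp', map_mul, ev_chart_fst, tFun, ev_chart_snd,
        AddMonoidAlgebra.single_mul_single, zero_add, mul_one]
    have h2 : p.2 = e := by
      by_contra hne
      have := congrArg (fun z => AddMonoidAlgebra.coeff z e) (hvK.symm.trans h1)
      simp [hne] at this
      exact hcK this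
    refine Prod.ext (Units.ext ?_) h2
    rw [hu, hp']
    show _ = σ.appTop ((prod.fst : X ⨯ Spec (TR M) ⟶ X).appTop (p.1 : Γ(X, ⊤)) * tFun M X p.2)
    rw [map_mul]
    have hσ1 : σ.appTop ((prod.fst : X ⨯ Spec (TR M) ⟶ X).appTop (p.1 : Γ(X, ⊤))) = p.1 := by
      show (σ ≫ prod.fst).appTop _ = _
      simp [σ, sect]
    have hσ2 : σ.appTop (tFun M X p.2) = 1 := by
      show (σ ≫ prod.snd).appTop _ = _
      simp only [σ, sect, prod.lift_snd]
      have h : (Scheme.ΓSpecIso (TR M)).inv ≫ (X.toSpecΓ ≫ Spec.map (CommRingCat.ofHom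
          ((aug Γ(X, ⊤)).comp (mu Γ(X, ⊤))))).appTop =
          CommRingCat.ofHom ((aug Γ(X, ⊤)).comp (mu (M := M) Γ(X, ⊤))) := by
        rw [Scheme.Hom.comp_appTop, Scheme.toSpecΓ_appTop, Scheme.ΓSpecIso_naturality, Iso.inv_hom_id_assoc]
      exact (ConcreteCategory.congr_hom h _).trans ((congrArg (aug _) (mu_single _ _)).trans (aug_single _ _ _))
    rw [hσ1, hσ2, mul_one]

end Groth.Agent.S13798
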