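import Groth.Statements.S13800
import Groth.Agent.LineAcycLib.Field
import Groth.Agent.EtTraceLib.ConstSect
import Groth.Agent.EtClosedPts.PointStalk
import Groth.Agent.EtClosedPts.Sky
import Groth.Agent.FLCLib.Filtration
import Groth.Agent.FLCLib.Spec
import Groth.Agent.SylowFiltLib.Step

set_option autoImplicit false
universe u
open CategoryTheory AlgebraicGeometry Polynomial
open EtCoh

namespace Groth.Agent.S13800

open CategoryTheory CategoryTheory.Limits AlgebraicGeometry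

open CategoryTheory CategoryTheory.Limits AlgebraicGeometry Opposite CategoryTheory.Abelian Polynomial
open EtTraceLib EtPtsLib EtClosedPts

set_option backward.isDefEq.respectTransparency false
set_option backward.isDefEq.respectTransparency.types false
set_option linter.style.haveILetI false
set_option linter.unusedSectionVars false
set_option maxHeartbeats 1000000
set_option synthInstance.maxHeartbeats 400000

attribute [local instance] Groth.Agent.S0101.result

noncomputable section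

section General

variable {k : Type u} [Field k] [IsAlgClosed k] {X : Scheme.{u}} (f : X ⟶ Spec (CommRingCat.of k))
  [LocallyOfFiniteType f] {ℓ : ℕ} {r : ℕ} (y : Fin r → X)

/-- The coefficient sheaf. -/
abbrev CC (X : Scheme.{u}) (ℓ : ℕ) : EtCoh.Ab X := EtCoh.const X (ZMod ℓ)

/-- The skyscraper at one of the points. -/
abbrev Gpt (X : Scheme.{u}) (ℓ : ℕ) (z : X) : EtCoh.Ab X :=
  (EtCoh.push (X.fromSpecResidueField z)).obj (atPt z (CC X ℓ))

/-- The sum of the skyscrapers. -/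
abbrev GG (ℓ : ℕ) : EtCoh.Ab X := ⨁ fun m => Gpt X ℓ (y m)

/-- Evaluation at the points. -/
abbrev uu (ℓ : ℕ) : CC X ℓ ⟶ GG y ℓ := biproduct.lift fun m => ptUnit (y m) (CC X ℓ)

instance additive_stalk {Ω : Type u} [Field Ω] [IsSepClosed Ω] (ξ : Spec (CommRingCat.of Ω) ⟶ X) :
    (EtCoh.stalk ξ).Additive := Functor.additive_of_preserves_binary_products _

theorem stalk_ext {Ω : Type u} [Field Ω] [IsSepClosed Ω] (ξ : Spec (CommRingCat.of Ω) ⟶ X)
    (g : (EtCoh.stalk ξ).obj (GG y ℓ)) (h : ∀ m, (EtCoh.stalk ξ).map (biproduct.π (fun m => Gpt X ℓ (y m)) m) g = 0) :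
    g = 0 := by
  let φ : (GG y ℓ ⟶ GG y ℓ) →+ (EtCoh.stalk ξ).obj (GG y ℓ) :=
    AddMonoidHom.mk' (fun a => (EtCoh.stalk ξ).map a g) fun a b => by rw [Functor.map_add]; rfl
  have e : φ (𝟙 _) = g := by
    show (EtCoh.stalk ξ).map (𝟙 _) g = g
    rw [CategoryTheory.Functor.map_id]; rfl
  rw [← e, ← biproduct.total, map_sum]
  refine Finset.sum_eq_zero fun m _ => ?_
  show (EtCoh.stalk ξ).map (_ ≫ _) g = 0
  rw [Functor.map_comp, ConcreteCategory.comp_apply, h, map_zero]

variable (hy : ∀ m, IsClosed ({y m} : Set X)) (hinj : Function.Injective y)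

include hy in
theorem not_specializes {Ω : Type u} [Field Ω] [IsSepClosed Ω] (ξ : Spec (CommRingCat.of Ω) ⟶ X) (m : Fin r)
    (h : ξ default ≠ y m) : ¬ y m ⤳ ξ default :=
  fun hs => h (hs.mem_closed (hy m) rfl)

include hy hinj in
theorem epi_uu : Epi (uu y ℓ) := by
  refine (epi_iff_ab _).2 fun Ω _ _ ξ g => ?_
  by_cases hx : ∃ m, ξ default = y m
  · obtain ⟨m, hm⟩ := hx
    haveI := isIso_stalk_ptUnit (y m) ξ hm (CC X ℓ)
    obtain ⟨c, hc⟩ := (ConcreteCategory.bijective_of_isIso ((EtCoh.stalk ξ).map (ptUnit (y m) (CC X ℓ)))).2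
      ((EtCoh.stalk ξ).map (biproduct.π (fun m => Gpt X ℓ (y m)) m) g)
    refine ⟨c, sub_eq_zero.1 (stalk_ext y ξ _ fun n => ?_)⟩
    by_cases hn : n = m
    · subst hn
      rw [map_sub, sub_eq_zero, ← ConcreteCategory.comp_apply, ← Functor.map_comp, biproduct.lift_π]
      exact hc
    · haveI := AddCommGrpCat.subsingleton_of_isZero (isZero_stalk_push_point (y n) ξ
        (not_specializes y hy ξ n (fun e => hn (hinj (e.symm.trans hm)))) (atPt (y n) (CC X ℓ)))
      exact Subsingleton.elim _ _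
  · refine ⟨0, sub_eq_zero.1 (stalk_ext y ξ _ fun n => ?_)⟩
    haveI := AddCommGrpCat.subsingleton_of_isZero (isZero_stalk_push_point (y n) ξ
      (not_specializes y hy ξ n (fun e => hx ⟨n, e⟩)) (atPt (y n) (CC X ℓ)))
    exact Subsingleton.elim _ _

include f hy in
theorem subsingleton_H_Gpt (m : Fin r) (q : ℕ) : Subsingleton (EtCoh.H X (Gpt X ℓ (y m)) (q + 1)) := by
  haveI : IsClosedImmersion (X.fromSpecResidueField (y m)) := isClosed_singleton_iff_isClosedImmersion.1 (hy m)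
  haveI := isSepClosed_residueField f (y m) (hy m)
  exact subsingleton_of_forall_eq 0 fun x =>
    H_push_eq_zero (k := (X.residueField (y m) : Type u)) (X.fromSpecResidueField (y m))
      (fieldAcyclic_of_sepClosed (X.residueField (y m)) _) (q + 1) (H_eq_zero_of_sepClosed (X.residueField (y m)) _ q) x

include f hy in
theorem subsingleton_H_GG (q : ℕ) : Subsingleton (EtCoh.H X (GG y ℓ) (q + 1)) := by
  refine subsingleton_of_forall_eq 0 fun x => ?_
  let g : (GG y ℓ ⟶ GG y ℓ) →+ EtCoh.H X (GG y ℓ) (q + 1) :=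
    AddMonoidHom.mk' (fun a => Ext.comp x (Ext.mk₀ a) (add_zero _)) (fun a b => by rw [Ext.mk₀_add, Ext.comp_add])
  have h : g (𝟙 _) = x := Ext.comp_mk₀_id x
  rw [← h, ← biproduct.total, map_sum]
  refine Finset.sum_eq_zero fun m _ => ?_
  show Ext.comp x (Ext.mk₀ (_ ≫ _)) (add_zero _) = 0
  rw [← Ext.mk₀_comp_mk₀, ← Ext.comp_assoc_of_second_deg_zero,
    @Subsingleton.elim _ (subsingleton_H_Gpt f y hy m q) (Ext.comp x (Ext.mk₀ _) (add_zero _)) 0, Ext.zero_comp]

/-- Degree zero cohomology of a constant sheaf on a connected scheme. -/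
theorem nonempty_H0_const (X : Scheme.{u}) [ConnectedSpace X] (M : Type) [AddCommGroup M] :
    Nonempty (EtCoh.H X (EtCoh.const X M) 0 ≃+ M) := by
  haveI : ConnectedSpace ↥(EtCoh.top X).left := ‹ConnectedSpace X›
  let z₀ : (EtCoh.top X).left := Classical.arbitrary _
  let ev : LocallyConstant (EtCoh.top X).left (AddCommGrpCat.of (ULift.{u + 1} M)) ≃+ M :=
    { toFun := fun c => (c z₀).down
      invFun := fun m => LocallyConstant.const _ (ULift.up m)
      left_inv := fun c => LocallyConstant.ext fun z => c.isLocallyConstant.apply_eq_of_preconnectedSpace z₀ z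
      right_inv := fun m => rfl
      map_add' := fun c d => rfl }
  exact ⟨((Sheaf.H.equiv₀ (EtCoh.const X M) (EtCore.topIsTerminal X)).trans
    (EtTraceLib.constEquiv (AddCommGrpCat.of (ULift.{u + 1} M)) (EtCoh.top X))).trans ev⟩

/-- The integers. -/
abbrev ZZ (X : Scheme.{u}) : EtCoh.Ab X := EtCoh.const X ℤ

theorem nonempty_hom_pt (z : X) :
    Nonempty ((ZZ X ⟶ Gpt X ℓ z) ≃+ ZMod ℓ) := by
  let i := X.fromSpecResidueField z
  haveI : ConnectedSpace ↥(Spec (X.residueField z)) :=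
    inferInstanceAs (ConnectedSpace (PrimeSpectrum (X.residueField z)))
  obtain ⟨e⟩ := nonempty_H0_const (Spec (X.residueField z)) (ZMod ℓ)
  haveI : (EtCoh.pull i).Additive := (EtCoh.pullPushAdj i).left_adjoint_additive
  exact ⟨((EtCoh.pullPushAdj i).homAddEquiv (ZZ X) (atPt z (CC X ℓ))).symm.trans
    ((AddEquiv.mk' ((EtCore.pullConst i ℤ).homCongr (EtCore.pullConst i (ZMod ℓ))) (fun a b => by simp [Iso.homCongr])).trans
      (Ext.addEquiv₀.symm.trans e))⟩

theorem nonempty_hom_CC [ConnectedSpace X] : Nonempty ((ZZ X ⟶ CC X ℓ) ≃+ ZMod ℓ) := by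
  obtain ⟨e⟩ := nonempty_H0_const X (ZMod ℓ)
  exact ⟨Ext.addEquiv₀.symm.trans e⟩

theorem injective_ev [PreconnectedSpace X] (hC : EtCoh.IsFiniteLocallyConstant (CC X ℓ)) (z : X)
    (a : ZZ X ⟶ CC X ℓ) (h : a ≫ ptUnit z (CC X ℓ) = 0) : a = 0 := by
  let s := Sheaf.H.equiv₀ (CC X ℓ) (EtCore.topIsTerminal X) (Ext.mk₀ a)
  have hs : (ptUnit z (CC X ℓ)).hom.app (op (EtCoh.top X)) s = 0 := by
    refine (Sheaf.H.equiv₀_naturality (EtCore.topIsTerminal X) (ptUnit z (CC X ℓ)) (Ext.mk₀ a)).trans ?_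
    rw [Sheaf.H.map_apply, Ext.mk₀_comp_mk₀, h, Ext.mk₀_zero, map_zero]
  have hz : z ∉ EtShriek.sectSupp (CC X ℓ) (EtCoh.top X) s := by
    obtain ⟨l, hl⟩ := exists_lift_geomPt (U := EtCoh.top X) z
    rw [← hl, ← germ_eq_zero_iff]
    have hd : geomPt ((EtCoh.top X).hom z) default = z := (geomPt_default _).trans rfl
    haveI := isIso_stalk_ptUnit z (geomPt ((EtCoh.top X).hom z)) hd (CC X ℓ)
    refine (ConcreteCategory.bijective_of_isIso ((EtCoh.stalk (geomPt ((EtCoh.top X).hom z))).map (ptUnit z (CC X ℓ)))).1 ?_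
    rw [map_zero]
    refine ((Scheme.pointSmallEtale (geomPt ((EtCoh.top X).hom z))).toPresheafFiber_naturality_apply
      (ptUnit z (CC X ℓ)).hom _ l s).trans ?_
    rw [hs, map_zero]
  have hagree : agree (CC X ℓ).obj s 0 = (EtShriek.sectSupp (CC X ℓ) (EtCoh.top X) s)ᶜ := by
    ext x
    simp only [EtShriek.sectSupp, agree, Set.mem_setOf_eq, Set.mem_compl_iff, Set.mem_iUnion, Set.mem_range,
      map_zero]
    refine ⟨fun ⟨V, g, hg, hx⟩ h => h V g hx hg, fun h => ?_⟩
    push Not at h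
    obtain ⟨V, g, hx, hg⟩ := h
    exact ⟨V, g, hg, hx⟩
  haveI : PreconnectedSpace ↥(EtCoh.top X).left := ‹PreconnectedSpace X›
  have hu : agree (CC X ℓ).obj s 0 = Set.univ :=
    IsClopen.eq_univ ⟨FLCLib.isClosed_agree_of_flc hC s 0, isOpen_agree _ _ _⟩ ⟨z, hagree ▸ hz⟩
  have h0 : s = 0 := sect_ext _ _ s 0 fun Ω _ _ ξ l => (germ_eq_iff_mem_agree ξ _ l s 0).2 (hu ▸ trivial)
  apply (Ext.mk₀_bijective _ _).1
  rw [Ext.mk₀_zero]
  exact (Sheaf.H.equiv₀ (CC X ℓ) (EtCore.topIsTerminal X)).injective (h0.trans (map_zero _).symm)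

theorem bijective_ev [NeZero ℓ] [ConnectedSpace X] (hC : EtCoh.IsFiniteLocallyConstant (CC X ℓ)) (z : X) :
    Function.Bijective fun a : ZZ X ⟶ CC X ℓ => a ≫ ptUnit z (CC X ℓ) := by
  obtain ⟨e⟩ := nonempty_hom_CC (X := X) (ℓ := ℓ)
  obtain ⟨e'⟩ := nonempty_hom_pt (X := X) (ℓ := ℓ) z
  haveI : Finite (ZZ X ⟶ CC X ℓ) := Finite.of_equiv _ e.toEquiv.symm
  haveI : Finite (ZZ X ⟶ Gpt X ℓ z) := Finite.of_equiv _ e'.toEquiv.symm
  refine (Nat.bijective_iff_injective_and_card _).2 ⟨fun a b hab => sub_eq_zero.1 (injective_ev hC z _ ?_),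
    (Nat.card_congr e.toEquiv).trans (Nat.card_congr e'.toEquiv).symm⟩
  rw [Preadditive.sub_comp]
  exact sub_eq_zero.2 hab

/-- The cohomology of the kernel of evaluation at finitely many points. -/
theorem kernel_cohomology [NeZero ℓ] [ConnectedSpace X] (hC : EtCoh.IsFiniteLocallyConstant (CC X ℓ))
    {s : ℕ} (z : Fin (s + 1) → X) (hz : ∀ m, IsClosed ({z m} : Set X)) (hzi : Function.Injective z)
    (hvan : ∀ q, Subsingleton (EtCoh.H X (CC X ℓ) (q + 1))) [LocallyOfFiniteType f] :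
    (∀ q, q ≠ 1 → Subsingleton (EtCoh.H X (kernel (uu z ℓ)) q)) ∧
      Nonempty (EtCoh.H X (kernel (uu z ℓ)) 1 ≃+ (Fin s → ZMod ℓ)) := by
  haveI := epi_uu (ℓ := ℓ) z hz hzi
  let S := ShortComplex.mk (kernel.ι (uu z ℓ)) (uu z ℓ) (kernel.condition _)
  have hS : S.ShortExact := ⟨ShortComplex.exact_of_f_is_kernel _ (kernelIsKernel _)⟩
  have hev := fun m => bijective_ev (ℓ := ℓ) hC (z m)
  have hπ : ∀ (a : ZZ X ⟶ CC X ℓ) m, (a ≫ uu z ℓ) ≫ biproduct.π _ m = a ≫ ptUnit (z m) (CC X ℓ) := fun a m => by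
    rw [Category.assoc, biproduct.lift_π]
  refine ⟨fun q hq => ?_, ?_⟩
  · rcases q with _ | _ | q
    · refine subsingleton_of_forall_eq 0 fun x => ?_
      obtain ⟨a, rfl⟩ := (Ext.mk₀_bijective _ _).2 x
      have h0 : a ≫ kernel.ι (uu z ℓ) = 0 := injective_ev hC (z 0) _ (by
        rw [← hπ, Category.assoc a, kernel.condition, Limits.comp_zero, Limits.zero_comp])
      rw [show a = 0 from zero_of_comp_mono _ h0, Ext.mk₀_zero]
    · exact absurd rfl hq
    · refine subsingleton_of_forall_eq 0 fun x => ?_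
      obtain ⟨c, hc⟩ := Ext.covariant_sequence_exact₁ _ hS x (@Subsingleton.elim _ (hvan (q + 1)) _ 0)
        (n₀ := q + 1) rfl
      rw [← hc, @Subsingleton.elim _ (subsingleton_H_GG f z hz q) c 0, Ext.zero_comp]
  · let e := fun m => (nonempty_hom_pt (X := X) (ℓ := ℓ) (z m)).some
    let w : (Fin s → ZMod ℓ) →+ ∀ m, ZZ X ⟶ Gpt X ℓ (z m) :=
      { toFun := fun v => fun m => (e m).symm (Fin.cons (α := fun _ => ZMod ℓ) 0 v m)
        map_zero' := by funext m; induction m using Fin.cases <;> simp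
        map_add' := fun v v' => by funext m; induction m using Fin.cases <;> simp }
    let θ : (Fin s → ZMod ℓ) →+ EtCoh.H X (kernel (uu z ℓ)) 1 :=
      AddMonoidHom.mk' (fun v => Ext.comp (Ext.mk₀ (biproduct.lift (w v))) hS.extClass (zero_add 1)) fun v v' => by
        rw [← Ext.add_comp, ← Ext.mk₀_add]
        congr 2
        refine biproduct.hom_ext _ _ fun m => ?_
        rw [map_add, biproduct.lift_π, Preadditive.add_comp, biproduct.lift_π, biproduct.lift_π, Pi.add_apply]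
    refine ⟨(AddEquiv.ofBijective θ ⟨?_, ?_⟩).symm⟩
    · refine (injective_iff_map_eq_zero θ).2 fun v hv => ?_
      obtain ⟨x₂, hx₂⟩ := Ext.covariant_sequence_exact₃ _ hS (Ext.mk₀ (biproduct.lift (w v))) (zero_add 1) hv
      obtain ⟨a, rfl⟩ := (Ext.mk₀_bijective _ _).2 x₂
      rw [Ext.mk₀_comp_mk₀] at hx₂
      have ha : ∀ m, a ≫ ptUnit (z m) (CC X ℓ) = w v m := fun m => by
        rw [← hπ, show a ≫ uu z ℓ = _ from (Ext.mk₀_bijective _ _).1 hx₂, biproduct.lift_π]
      have ha0 : a = 0 := injective_ev hC (z 0) a ((ha 0).trans (by simp [w]))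
      funext i
      have := ha i.succ
      rw [ha0, Limits.zero_comp] at this
      simpa [w] using this.symm
    · intro x
      obtain ⟨c, hc⟩ := Ext.covariant_sequence_exact₁ _ hS x (@Subsingleton.elim _ (hvan 0) _ 0) (n₀ := 0) rfl
      obtain ⟨g, rfl⟩ := (Ext.mk₀_bijective _ _).2 c
      obtain ⟨a, ha⟩ := (hev 0).2 (g ≫ biproduct.π _ 0)
      let g' := g - a ≫ uu z ℓ
      let v : Fin s → ZMod ℓ := fun i => (e i.succ) (g' ≫ biproduct.π _ i.succ)
      have hv : biproduct.lift (w v) = g' := by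
        refine biproduct.hom_ext _ _ fun m => ?_
        rw [biproduct.lift_π]
        induction m using Fin.cases with
        | zero =>
          show (e 0).symm (Fin.cons (α := fun _ => ZMod ℓ) 0 v 0) = _
          rw [Fin.cons_zero, map_zero, Preadditive.sub_comp, hπ]
          exact (sub_eq_zero.2 ha.symm).symm
        | succ i =>
          show (e i.succ).symm (Fin.cons (α := fun _ => ZMod ℓ) 0 v i.succ) = _
          rw [Fin.cons_succ, AddEquiv.symm_apply_apply]
      refine ⟨v, ?_⟩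
      show Ext.comp (Ext.mk₀ (biproduct.lift (w v))) hS.extClass (zero_add 1) = x
      let δ : (ZZ X ⟶ GG z ℓ) →+ EtCoh.H X (kernel (uu z ℓ)) 1 :=
        AddMonoidHom.mk' (fun t => Ext.comp (Ext.mk₀ t) hS.extClass (zero_add 1))
          fun t t' => by rw [Ext.mk₀_add, Ext.add_comp]
      have h0 : δ (a ≫ uu z ℓ) = 0 := by
        show Ext.comp (Ext.mk₀ (a ≫ uu z ℓ)) hS.extClass (zero_add 1) = 0
        rw [← Ext.mk₀_comp_mk₀, Ext.comp_assoc (Ext.mk₀ a) (Ext.mk₀ (uu z ℓ)) hS.extClass (zero_add 0)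
          (zero_add 1) (zero_add 1), show Ext.comp (Ext.mk₀ (uu z ℓ)) hS.extClass (zero_add 1) = 0 from
          hS.comp_extClass, Ext.comp_zero]
      rw [hv]
      show δ (g - a ≫ uu z ℓ) = x
      rw [map_sub, h0, sub_zero]
      exact hc

include hy hinj in
/-- The kernel of evaluation is the extension by zero from the complement. -/
theorem nonempty_kernel_iso {U : Scheme.{u}} (j : U ⟶ X) [IsOpenImmersion j] [EtShriek.JCont j]
    (hj : ∀ x : X, x ∈ Set.range j ↔ ∀ m, x ≠ y m) :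
    Nonempty (kernel (uu y ℓ) ≅ (EtShriek.extZero j).obj (CC U ℓ)) := by
  let K := kernel (uu y ℓ)
  haveI hK : IsIso ((EtShriek.extZeroAdj j).counit.app K) := by
    refine FLCLib.isIso_counit_of_supp j K fun Ω _ _ ξ hξ => ?_
    obtain ⟨m, hm⟩ : ∃ m, ξ default = y m := by
      by_contra hh
      exact hξ ((hj _).2 fun m e => hh ⟨m, e⟩)
    haveI := isIso_stalk_ptUnit (y m) ξ hm (CC X ℓ)
    haveI : Subsingleton ((EtCoh.stalk ξ).obj K) := subsingleton_of_forall_eq 0 fun b => by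
      apply (mono_iff_ab (kernel.ι (uu y ℓ))).1 inferInstance Ω ξ
      apply (ConcreteCategory.bijective_of_isIso ((EtCoh.stalk ξ).map (ptUnit (y m) (CC X ℓ)))).1
      rw [map_zero, map_zero, ← ConcreteCategory.comp_apply, ← Functor.map_comp]
      have e0 : kernel.ι (uu y ℓ) ≫ ptUnit (y m) (CC X ℓ) = 0 := by
        rw [← biproduct.lift_π (fun m => ptUnit (y m) (CC X ℓ)) m, kernel.condition_assoc, Limits.zero_comp]
      rw [e0, Functor.map_zero]
      rfl
    exact AddCommGrpCat.isZero_iff_subsingleton.2 ‹_›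
  haveI : IsIso ((EtCoh.pull j).map (kernel.ι (uu y ℓ))) := by
    refine FLCLib.isIso_of_stalk _ fun Ω _ _ ζ => ?_
    refine (NatIso.isIso_map_iff (FLCLib.stalkPullIso j ζ) (kernel.ι (uu y ℓ))).2 ?_
    refine (ConcreteCategory.isIso_iff_bijective _).2 ⟨(mono_iff_ab (kernel.ι (uu y ℓ))).1 inferInstance Ω (ζ ≫ j), fun c => ?_⟩
    let S := ShortComplex.mk (kernel.ι (uu y ℓ)) (uu y ℓ) (kernel.condition _)
    have hS : S.Exact := ShortComplex.exact_of_f_is_kernel _ (kernelIsKernel _)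
    refine (ShortComplex.ab_exact_iff _).1 ((exact_iff_ab S).1 hS Ω (ζ ≫ j)) c (stalk_ext y _ _ fun n => ?_)
    haveI := AddCommGrpCat.subsingleton_of_isZero (isZero_stalk_push_point (y n) (ζ ≫ j)
      (not_specializes y hy (ζ ≫ j) n ((hj _).1 ⟨ζ default, (Scheme.Hom.comp_apply _ _ _).symm⟩ n))
      (atPt (y n) (CC X ℓ)))
    exact Subsingleton.elim _ _
  exact ⟨(asIso ((EtShriek.extZeroAdj j).counit.app K)).symm ≪≫ (EtShriek.extZero j).mapIso
    ((EtPtsLib.pullIsoRestr j).symm.app K ≪≫ asIso ((EtCoh.pull j).map (kernel.ι (uu y ℓ))) ≪≫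
      EtCore.pullConst j (ZMod ℓ))⟩

end General

end


/-- Let k be an algebraically closed field, ℓ ≥ 1 an integer invertible in k, and a₁, …, a_r (r ≥ 1)
distinct elements of k, viewed as k-points of the affine line 𝔸¹_k = Spec k[x]. Let j : U → 𝔸¹_k be
an open immersion whose image is the complement of these points (the basic open set of ∏ (x − a_i)),
and let j_! μ_ℓ be the extension by zero of the sheaf of ℓ-th roots of unity on the small étale
site. Then H^s(𝔸¹_k, j_! μ_ℓ) = 0 for s ≠ 1, and H¹(𝔸¹_k, j_! μ_ℓ) is isomorphic to μ_ℓ(k)^(r−1)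
(existence of an isomorphism of abelian groups). -/
theorem result {k : Type u} [Field k] [IsAlgClosed k]
    (ℓ : ℕ) (hℓ : (ℓ : k) ≠ 0) (r : ℕ) (hr : 0 < r) (a : Fin r → k) (ha : Function.Injective a)
    {U : Scheme.{u}} (j : U ⟶ Spec (CommRingCat.of k[X])) [IsOpenImmersion j] [Etale j] [EtShriek.JCont j]
    (hj : j.opensRange = (Spec (CommRingCat.of k[X])).basicOpen ((Scheme.ΓSpecIso (CommRingCat.of k[X])).inv
      (Finset.univ.prod fun i => (X - C (a i))))) :
    (∀ s : ℕ, s ≠ 1 → Subsingleton (EtCoh.H (Spec (CommRingCat.of k[X])) ((EtShriek.extZero j).obj (EtCoh.mu U ℓ)) s)) ∧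
      Nonempty (EtCoh.H (Spec (CommRingCat.of k[X])) ((EtShriek.extZero j).obj (EtCoh.mu U ℓ)) 1 ≃+
        (Fin (r - 1) → Additive (rootsOfUnity ℓ k))) := by
  classical
  haveI : NeZero ℓ := ⟨fun h => hℓ (by rw [h, Nat.cast_zero])⟩
  haveI : NeZero (ℓ : k) := ⟨hℓ⟩
  let X := Spec (CommRingCat.of k[X])
  let f := LineAcycLib.lineMap k
  haveI : LocallyOfFiniteType f := by
    rw [HasRingHomProperty.Spec_iff (P := @LocallyOfFiniteType)]
    exact RingHom.finiteType_algebraMap.2 (inferInstance : Algebra.FiniteType k k[X])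
  haveI : ConnectedSpace ↥X := inferInstanceAs (ConnectedSpace (PrimeSpectrum k[X]))
  obtain ⟨s, rfl⟩ : ∃ s, r = s + 1 := ⟨r - 1, by omega⟩
  let y : Fin (s + 1) → X := fun m =>
    (⟨Ideal.span {(Polynomial.X - C (a m) : k[X])},
      (Ideal.span_singleton_prime (Polynomial.X_sub_C_ne_zero _)).2 (Polynomial.prime_X_sub_C _)⟩ : PrimeSpectrum k[X])
  have hmax : ∀ m, (Ideal.span {(Polynomial.X - C (a m) : k[X])}).IsMaximal := fun m =>
    PrincipalIdealRing.isMaximal_of_irreducible (Polynomial.irreducible_X_sub_C _)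
  have hy : ∀ m, IsClosed ({y m} : Set X) := fun m =>
    (PrimeSpectrum.isClosed_singleton_iff_isMaximal (R := k[X]) _).2 (hmax m)
  have hyi : Function.Injective y := fun m n h => ha (by
    have h1 : Ideal.span {(Polynomial.X - C (a m) : k[X])} = Ideal.span {Polynomial.X - C (a n)} :=
      congrArg PrimeSpectrum.asIdeal h
    have h2 : (Polynomial.X - C (a m) : k[X]) ∈ Ideal.span {Polynomial.X - C (a n)} :=
      h1 ▸ Ideal.mem_span_singleton_self _
    have h3 := Polynomial.dvd_iff_isRoot.1 (Ideal.mem_span_singleton.1 h2)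
    rw [Polynomial.IsRoot, Polynomial.eval_sub, Polynomial.eval_X, Polynomial.eval_C, sub_eq_zero] at h3
    exact h3.symm)
  have hrange : ∀ x : X, x ∈ Set.range j ↔ ∀ m, x ≠ y m := by
    intro x
    change x ∈ j.opensRange ↔ _
    rw [hj, basicOpen_eq_of_affine', ← ConcreteCategory.comp_apply, Iso.inv_hom_id, CommRingCat.id_apply]
    change (Finset.univ.prod fun i => (Polynomial.X - C (a i))) ∉ (x : PrimeSpectrum k[X]).asIdeal ↔ _
    rw [Ideal.IsPrime.prod_mem_iff]
    constructor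
    · rintro hx m rfl
      exact hx ⟨m, Finset.mem_univ m, Ideal.mem_span_singleton_self _⟩
    · rintro hx ⟨m, -, hm⟩
      exact hx m (PrimeSpectrum.ext ((hmax m).eq_of_le x.2.ne_top
        ((Ideal.span_singleton_le_iff_mem _).2 hm)).symm)
  have hC : EtCoh.IsFiniteLocallyConstant (CC X ℓ) := SylowFiltLib.isFiniteLocallyConstant_const X (ZMod ℓ)
  have hvan : ∀ q, Subsingleton (EtCoh.H X (CC X ℓ) (q + 1)) := fun q =>
    CdFieldLib.subsingleton_H_of_iso' (EtCore.pullConst f (ZMod ℓ)).symm (q + 1)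
      (LineAcycLib.subsingleton_H_line hℓ (EtCoh.const (Spec (CommRingCat.of k)) (ZMod ℓ))
        (PBCLib.killedBy_const _ ℓ) q)
  obtain ⟨e⟩ := nonempty_kernel_iso (ℓ := ℓ) y hy hyi j hrange
  obtain ⟨iU⟩ := CurveH12.nonempty_mu_iso_const (j ≫ f) (NeZero.one_le) hℓ
  let E : (EtShriek.extZero j).obj (EtCoh.mu U ℓ) ≅ kernel (uu y ℓ) := (EtShriek.extZero j).mapIso iU ≪≫ e.symm
  obtain ⟨h1, ⟨h2⟩⟩ := kernel_cohomology f hC y hy hyi hvan
  have hcard : Nat.card (Additive ↥(rootsOfUnity ℓ k)) = ℓ := HasEnoughRootsOfUnity.natCard_rootsOfUnity k ℓ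
  let eM : ZMod ℓ ≃+ Additive ↥(rootsOfUnity ℓ k) :=
    (ZMod.ringEquivCongr hcard.symm).toAddEquiv.trans (zmodAddCyclicAddEquiv inferInstance)
  refine ⟨fun q hq => CdFieldLib.subsingleton_H_of_iso' E q (h1 q hq),
    ⟨(((EtCoh.HF X 1).mapIso E).addCommGroupIsoToAddEquiv.trans h2).trans (AddEquiv.piCongrRight fun _ => eM)⟩⟩

end Groth.Agent.S13800
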