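import Groth.Statements.S13801
import Mathlib
set_option backward.isDefEq.respectTransparency false
set_option backward.isDefEq.respectTransparency.types false

set_option autoImplicit false
open ChowMon

namespace Groth.Agent.S13801

/-- For a prime p and positive natural numbers a_1, ..., a_k with sum n one has v_p(a_1!) + ... +
v_p(a_k!) ≤ v_p(n!), and the inequality is strict whenever some a_i is not divisible by p^(v_p(n)). -/
theorem result {k : ℕ} (p : ℕ) [Fact p.Prime]
    (a : Fin k → ℕ) (ha : ∀ i, 0 < a i) :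
    (∑ i, padicValNat p (a i).factorial ≤ padicValNat p (∑ i, a i).factorial) ∧
      ((∃ i, ¬ p ^ padicValNat p (∑ j, a j) ∣ a i) →
        ∑ i, padicValNat p (a i).factorial < padicValNat p (∑ i, a i).factorial) := by
  have hp := (Fact.out : p.Prime)
  let n := ∑ i, a i
  let b := n + 1
  have hlog : ∀ m ≤ n, Nat.log p m < b := fun m hm => Nat.lt_succ_of_le ((Nat.log_le_self _ _).trans hm)
  have hai : ∀ i, a i ≤ n := fun i => Finset.single_le_sum (fun j _ => Nat.zero_le _) (Finset.mem_univ i)
  have hL : ∑ i, padicValNat p (a i).factorial = ∑ j ∈ Finset.Ico 1 b, ∑ i, a i / p ^ j := by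
    rw [Finset.sum_comm]
    exact Finset.sum_congr rfl fun i _ => padicValNat_factorial (hlog _ (hai i))
  have hR : padicValNat p n.factorial = ∑ j ∈ Finset.Ico 1 b, n / p ^ j := padicValNat_factorial (hlog n le_rfl)
  have hle : ∀ j, ∑ i, a i / p ^ j ≤ n / p ^ j := fun j => by
    rw [Nat.le_div_iff_mul_le (pow_pos hp.pos _), Finset.sum_mul]
    exact Finset.sum_le_sum fun i _ => Nat.div_mul_le_self _ _
  refine ⟨by rw [hL, hR]; exact Finset.sum_le_sum fun j _ => hle j, fun ⟨i, hi⟩ => ?_⟩
  rw [hL, hR]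
  have hn : n ≠ 0 := by have := ha i; have := hai i; omega
  have hv : p ^ padicValNat p n ∣ n := pow_padicValNat_dvd
  refine Finset.sum_lt_sum (fun j _ => hle j) ⟨padicValNat p n, Finset.mem_Ico.2 ⟨?_, ?_⟩, ?_⟩
  · by_contra h0
    rw [show padicValNat p (∑ j, a j) = 0 by change padicValNat p n = 0; omega, pow_zero] at hi
    exact hi (one_dvd _)
  · have := Nat.le_of_dvd (by omega) hv
    have := Nat.lt_pow_self (n := padicValNat p n) hp.one_lt
    omega
  · refine lt_of_mul_lt_mul_right ?_ (Nat.zero_le (p ^ padicValNat p n))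
    rw [Nat.div_mul_cancel hv, Finset.sum_mul]
    refine Finset.sum_lt_sum (fun j _ => Nat.div_mul_le_self _ _) ⟨i, Finset.mem_univ _, ?_⟩
    exact lt_of_le_of_ne (Nat.div_mul_le_self _ _) fun e => hi ⟨a i / p ^ padicValNat p n, (mul_comm _ _).trans e |>.symm⟩

end Groth.Agent.S13801
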