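import Groth.Statements.S13806
import Groth.Agent.Eta.Main

set_option autoImplicit false
universe u
open EtaPt

namespace Groth.Agent.S13806

/-- For a commutative ring A with finitely many minimal prime ideals and an integral ring map g : A → B
with N_η(g) bijective, there is exactly one ring map g' : B → M_η(A) with g' ∘ g = q_A. Here η is a
natural transformation from the identity of the category of fields to an endofunctor F with F(η_K)
bijective and η_K purely inseparable for every field K, N_η(A) is the product of the F(k(p)) over
the primes p of A with diagonal map t_A, and M_η(A) ⊆ N_η(A) is the subring of elements sent into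
the range of t_R by every ring map from A to a valuation ring R at whose fraction field η is
bijective; q_A : A → M_η(A) is the corestriction of t_A. -/
theorem result (η : EtaPt.FieldEndo.{u}) (A : Type u) [CommRing A]
    (hA : (minimalPrimes A).Finite) (B : Type u) [CommRing B] (g : A →+* B)
    (hg : g.IsIntegral) (hN : Function.Bijective (η.Nmap g)) :
    ∃! g' : B →+* η.M A, g'.comp g = η.q A := by
  obtain ⟨g', hg', -⟩ := η.exists_lift g hg hN
  refine ⟨g', hg', fun g'' h'' => RingHom.ext fun b => Subtype.ext (funext fun q => ?_)⟩
  exact RingHom.congr_fun (η.hom_unique g hN (L := η.obj q.asIdeal.ResidueField)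
    (v := (η.evM q).comp g'') (w := (η.evM q).comp g') (by rw [RingHom.comp_assoc, RingHom.comp_assoc, h'', hg'])) b

end Groth.Agent.S13806
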