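import Groth.Statements.S13810
import Groth.Agent.Eta.Main

set_option autoImplicit false
universe u
open EtaPt

namespace Groth.Agent.S13810

/-- For commutative rings A and B, the pair of maps N_η of the two projections restricts to a bijection
from M_η(A × B) onto M_η(A) × M_η(B). Here η is a natural transformation from the identity of the
category of fields to an endofunctor F with F(η_K) bijective and η_K purely inseparable for every
field K, N_η(A) is the product of the F(k(p)) over the primes p of A with diagonal map t_A, and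
M_η(A) ⊆ N_η(A) is the subring of elements sent into the range of t_R by every ring map from A to a
valuation ring R at whose fraction field η is bijective; q_A : A → M_η(A) is the corestriction of
t_A. -/
theorem result (η : EtaPt.FieldEndo.{u}) (A B : Type u) [CommRing A] [CommRing B] :
    Set.BijOn (fun x : η.N (A × B) => (η.Nmap (RingHom.fst A B) x, η.Nmap (RingHom.snd A B) x))
      (η.M (A × B)) ((η.M A : Set (η.N A)) ×ˢ (η.M B : Set (η.N B))) := by
  classical
  have h10 : ∀ {R : Type u} [CommRing R] [IsDomain R] (g : A × B →+* R),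
      (∃ g' : A →+* R, g'.comp (RingHom.fst A B) = g) ∨ ∃ g' : B →+* R, g'.comp (RingHom.snd A B) = g := by
    intro R _ _ g
    have hsum : g (1, 0) + g (0, 1) = 1 := by rw [← map_add, Prod.mk_add_mk, add_zero, zero_add]; exact map_one g
    have hprod : g (1, 0) * g (0, 1) = 0 := by rw [← map_mul, Prod.mk_mul_mk, mul_zero, zero_mul]; exact map_zero g
    rcases mul_eq_zero.1 hprod with h | h
    · refine Or.inr ⟨{ toFun := fun b => g (0, b), map_one' := by simpa [h] using hsum
                       map_zero' := map_zero g, map_mul' := fun a b => by rw [← map_mul, Prod.mk_mul_mk, mul_zero]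
                       map_add' := fun a b => by rw [← map_add, Prod.mk_add_mk, add_zero] }, RingHom.ext fun x => ?_⟩
      show g (0, x.2) = g x
      have : g x = g (x.1, 0) * g (1, 0) + g (0, x.2) := by
        rw [← map_mul, ← map_add, Prod.mk_mul_mk, Prod.mk_add_mk, mul_one, mul_zero, add_zero, zero_add]
      rw [this, h, mul_zero, zero_add]
    · refine Or.inl ⟨{ toFun := fun a => g (a, 0), map_one' := by simpa [h] using hsum
                       map_zero' := map_zero g, map_mul' := fun a b => by rw [← map_mul, Prod.mk_mul_mk, mul_zero]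
                       map_add' := fun a b => by rw [← map_add, Prod.mk_add_mk, add_zero] }, RingHom.ext fun x => ?_⟩
      show g (x.1, 0) = g x
      have : g x = g (x.1, 0) + g (0, x.2) * g (0, 1) := by
        rw [← map_mul, ← map_add, Prod.mk_mul_mk, Prod.mk_add_mk, mul_one, mul_zero, add_zero, zero_add]
      rw [this, h, mul_zero, add_zero]
  refine ⟨fun x hx => ⟨η.Nmap_mem_M _ hx, η.Nmap_mem_M _ hx⟩, fun x _ y _ h => ?_, fun yz hyz => ?_⟩
  · obtain ⟨h1, h2⟩ := Prod.ext_iff.1 h
    refine η.ext_pt fun L _ g => ?_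
    rcases h10 g with ⟨g', rfl⟩ | ⟨g', rfl⟩
    · rw [← η.pt_Nmap, ← η.pt_Nmap]; exact congrArg (η.pt g') h1
    · rw [← η.pt_Nmap, ← η.pt_Nmap]; exact congrArg (η.pt g') h2
  · obtain ⟨y, z⟩ := yz
    let x : η.N (A × B) := fun p =>
      if h : ∃ g' : A →+* p.asIdeal.ResidueField, g'.comp (RingHom.fst A B) = algebraMap (A × B) p.asIdeal.ResidueField
      then η.pt h.choose y
      else η.pt ((h10 (algebraMap (A × B) p.asIdeal.ResidueField)).resolve_left h).choose z
    have hexcl : ∀ {L : Type u} [Field L] (a : A →+* L) (b : B →+* L),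
        a.comp (RingHom.fst A B) = b.comp (RingHom.snd A B) → False := fun a b h => by
      have := RingHom.congr_fun h (1, 0)
      simp at this
    have hx1 : η.Nmap (RingHom.fst A B) x = y := η.ext_pt fun L _ g => by
      rw [η.pt_Nmap]
      let p : PrimeSpectrum (A × B) := ⟨RingHom.ker (g.comp (RingHom.fst A B)), inferInstance⟩
      obtain ⟨i, hi⟩ : ∃ i : p.asIdeal.ResidueField →+* L, i.comp (algebraMap (A × B) _) = g.comp (RingHom.fst A B) :=
        EtaPt.FieldEndo.exists_res _ p rfl
      have hp : ∃ g' : A →+* p.asIdeal.ResidueField, g'.comp (RingHom.fst A B) = algebraMap (A × B) p.asIdeal.ResidueField := by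
        refine (h10 _).resolve_right fun ⟨g', hg'⟩ => hexcl g (i.comp g') ?_
        rw [RingHom.comp_assoc, hg', hi]
      rw [η.pt_eq p i hi]
      show η.map i (dite _ _ _) = _
      rw [dif_pos hp, η.map_pt]
      refine congrArg (fun u => η.pt u y) (RingHom.ext fun a => ?_)
      exact (congrArg i (RingHom.congr_fun hp.choose_spec (a, (0 : B)))).trans (RingHom.congr_fun hi (a, 0))
    have hx2 : η.Nmap (RingHom.snd A B) x = z := η.ext_pt fun L _ g => by
      rw [η.pt_Nmap]
      let p : PrimeSpectrum (A × B) := ⟨RingHom.ker (g.comp (RingHom.snd A B)), inferInstance⟩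
      obtain ⟨i, hi⟩ : ∃ i : p.asIdeal.ResidueField →+* L, i.comp (algebraMap (A × B) _) = g.comp (RingHom.snd A B) :=
        EtaPt.FieldEndo.exists_res _ p rfl
      have hp : ¬ ∃ g' : A →+* p.asIdeal.ResidueField, g'.comp (RingHom.fst A B) = algebraMap (A × B) p.asIdeal.ResidueField :=
        fun ⟨g', hg'⟩ => hexcl (i.comp g') g (by rw [RingHom.comp_assoc, hg', hi])
      rw [η.pt_eq p i hi]
      show η.map i (dite _ _ _) = _
      rw [dif_neg hp, η.map_pt]
      refine congrArg (fun u => η.pt u z) (RingHom.ext fun b => ?_)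
      exact (congrArg i (RingHom.congr_fun ((h10 (algebraMap (A × B) p.asIdeal.ResidueField)).resolve_left hp).choose_spec ((0 : A), b))).trans
        (RingHom.congr_fun hi (0, b))
    refine ⟨x, η.mem_M_iff.2 fun R _ _ _ hR g => ?_, Prod.ext hx1 hx2⟩
    rcases h10 g with ⟨g', rfl⟩ | ⟨g', rfl⟩
    · obtain ⟨r, hr⟩ := η.mem_M_iff.1 hyz.1 R hR g'
      exact ⟨r, fun k _ h => by rw [← hr, ← RingHom.comp_assoc, ← η.pt_Nmap, hx1]⟩
    · obtain ⟨r, hr⟩ := η.mem_M_iff.1 hyz.2 R hR g'
      exact ⟨r, fun k _ h => by rw [← hr, ← RingHom.comp_assoc, ← η.pt_Nmap, hx2]⟩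

end Groth.Agent.S13810
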