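import Groth.Statements.S13814
import Groth.Agent.Eta.Val

set_option autoImplicit false
universe u
open EtaPt

namespace Groth.Agent.S13814

/-- Let R be a valuation ring with fraction field K = k((0)) such that η is bijective at K, or such that
every field of the same characteristic as R at which η is bijective is perfect. Then the ring M_η(R)
is again a valuation ring, every element of F(K) is a quotient of generic components of elements of
M_η(R), and an element of F(K) that is both the generic component of an element of M_η(R) and in the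
image of K comes from R. (The published statement assumes nothing about η beyond the standing
conditions, and then fails: for the endofunctor equal to the perfect closure on the fields of
characteristic 2 and transcendence degree at least 2 over the prime field and to the identity on
every other field, and R = F_2(s)[t] localised at (t), neither of the elements (s^(1/2) t, 0) and
(t, 0) of M_η(R) ⊆ F(K) × F_2(s) divides the other, so M_η(R) is not a valuation ring. This row
assumes that η is bijective at Frac R, or that every field of the same characteristic as R at which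
η is bijective is perfect; both the identity and the perfect closure satisfy this.) Here η is a
natural transformation from the identity of the category of fields to an endofunctor F with F(η_K)
bijective and η_K purely inseparable for every field K, N_η(A) is the product of the F(k(p)) over
the primes p of A with diagonal map t_A, and M_η(A) ⊆ N_η(A) is the subring of elements sent into
the range of t_R by every ring map from A to a valuation ring R at whose fraction field η is
bijective; q_A : A → M_η(A) is the corestriction of t_A. -/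
theorem result (η : EtaPt.FieldEndo.{u}) (R : Type u) [CommRing R] [IsDomain R] [ValuationRing R]
    (hη : η.InV R ∨ ∀ (k : Type u) [Field k], ringChar k = ringChar R →
      Function.Bijective (η.eta k) → PerfectField k) :
    IsDomain (η.M R) ∧ PreValuationRing (η.M R) ∧
      (∀ y : η.obj (⊥ : Ideal R).ResidueField, ∃ a b : η.M R,
        (b : η.N R) ⟨⊥, Ideal.isPrime_bot⟩ ≠ 0 ∧
          y * (b : η.N R) ⟨⊥, Ideal.isPrime_bot⟩ = (a : η.N R) ⟨⊥, Ideal.isPrime_bot⟩) ∧
      (fun x : η.N R => x ⟨⊥, Ideal.isPrime_bot⟩) '' (η.M R : Set (η.N R)) ∩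
          Set.range (η.eta (⊥ : Ideal R).ResidueField) =
        Set.range ((η.eta (⊥ : Ideal R).ResidueField).comp (algebraMap R (⊥ : Ideal R).ResidueField)) := by
  have himg := η.image_M_valuation R hη
  let K0 := (⊥ : Ideal R).ResidueField
  let θ : η.M R →+* η.obj K0 := η.evM ⟨⊥, Ideal.isPrime_bot⟩
  have hθ : Function.Injective θ := fun a b h => Subtype.ext (η.ext_bot a.2 b.2 h)
  let := ((η.eta K0).comp (algebraMap R K0)).toAlgebra
  have hint : ∀ w : η.obj K0, IsIntegral R w → ∃ a : η.M R, θ a = w := fun w hw => by
    obtain ⟨a, ha, e⟩ := himg.ge hw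
    exact ⟨⟨a, ha⟩, e⟩
  have hpow : ∀ w : η.obj K0, ∃ q : ℕ, 0 < q ∧ ∃ k, η.eta K0 k = w ^ q := fun w => by
    obtain ⟨n, k, hk⟩ := η.exists_pow_mem_range_eta K0 w
    exact ⟨_, pow_pos (expChar_pos K0 (ringExpChar K0)) n, k, hk⟩
  refine ⟨Function.Injective.isDomain θ hθ, ⟨fun a b => ?_⟩, fun y => ?_, ?_⟩
  · by_cases ha : θ a = 0
    · exact ⟨0, Or.inr (by rw [hθ (ha.trans (map_zero θ).symm), mul_zero])⟩
    obtain ⟨q, hq, k, hk⟩ := hpow (θ b / θ a)
    rcases ValuationRing.isInteger_or_isInteger R k with ⟨r, hr⟩ | ⟨r, hr⟩
    · obtain ⟨c, hc⟩ := hint (θ b / θ a) (IsIntegral.of_pow hq (by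
        rw [← hk, ← hr]; exact isIntegral_algebraMap))
      exact ⟨c, Or.inl (hθ (by rw [map_mul, hc, mul_div_cancel₀ _ ha]))⟩
    · obtain ⟨c, hc⟩ := hint (θ b / θ a)⁻¹ (IsIntegral.of_pow hq (by
        rw [inv_pow, ← hk, ← map_inv₀, ← hr]; exact isIntegral_algebraMap))
      by_cases hb : θ b = 0
      · exact ⟨0, Or.inl (by rw [hθ (hb.trans (map_zero θ).symm), mul_zero])⟩
      exact ⟨c, Or.inr (hθ (by rw [map_mul, hc, inv_div, mul_div_cancel₀ _ hb]))⟩
  · obtain ⟨q, hq, k, hk⟩ := hpow y
    obtain ⟨a, b, hb, hab⟩ := IsFractionRing.div_surjective (A := R) k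
    have hb0 : algebraMap R K0 b ≠ 0 := fun e =>
      nonZeroDivisors.ne_zero hb (IsFractionRing.injective R K0 (e.trans (map_zero _).symm))
    obtain ⟨q, rfl⟩ : ∃ q', q = q' + 1 := ⟨q - 1, by omega⟩
    obtain ⟨c, hc⟩ := hint (y * η.eta K0 (algebraMap R K0 b)) (IsIntegral.of_pow hq (by
      rw [mul_pow, ← hk, ← map_pow, ← map_mul, ← hab, pow_succ', ← mul_assoc, div_mul_cancel₀ _ hb0, ← map_pow, ← map_mul]
      exact isIntegral_algebraMap))
    exact ⟨c, η.q R b, fun e => hb0 ((η.eta K0).injective (e.trans (map_zero _).symm)), hc.symm⟩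
  · refine Set.eq_of_subset_of_subset (fun y ⟨hy, hr⟩ => ?_) ?_
    · rw [himg] at hy
      obtain ⟨a, ha⟩ := η.exists_t_of_mem_range hy hr
      exact ⟨a, ha⟩
    · rintro _ ⟨a, rfl⟩
      exact ⟨⟨_, η.t_mem_M R a, rfl⟩, ⟨_, rfl⟩⟩

end Groth.Agent.S13814
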