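import Groth.Statements.S13820
import Groth.Agent.Eta.Rel

set_option autoImplicit false
universe u
open EtaPt

namespace Groth.Agent.S13820

/-- Let A have finitely many minimal prime ideals and let B be an A-algebra with Spec B → Spec A
surjective, C the integral closure of A in B; then the inclusion C ⊆ B carries (C/A)_η onto (B/A)_η.
Here η is a natural transformation from the identity of the category of fields to an endofunctor F
with F(η_K) bijective and η_K purely inseparable for every field K, N_η(A) is the product of the
F(k(p)) over the primes p of A with diagonal map t_A, and M_η(A) ⊆ N_η(A) is the subring of elements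
sent into the range of t_R by every ring map from A to a valuation ring R at whose fraction field η
is bijective; q_A : A → M_η(A) is the corestriction of t_A. For a ring map f : A → B, (B/A)_η ⊆ B
denotes the subring of elements b with t_B(b) in N_η(f)(M_η(A)) (the image in B of the fibre product
of M_η(A) and B over M_η(B)), and q_{B/A} : A → (B/A)_η the corestriction of f. -/
theorem result (η : EtaPt.FieldEndo.{u}) (A B : Type u) [CommRing A] [CommRing B] [Algebra A B]
    (hA : (minimalPrimes A).Finite) (hs : Function.Surjective (PrimeSpectrum.comap (algebraMap A B))) :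
    (η.rel (algebraMap A (integralClosure A B))).map (integralClosure A B).val.toRingHom =
      η.rel (algebraMap A B) := by
  let C := integralClosure A B
  refine le_antisymm ?_ fun b hb => ?_
  · rintro _ ⟨c, hc, rfl⟩
    exact η.map_mem_rel_of_square (algebraMap A C) (RingHom.id A) C.val.toRingHom (algebraMap A B)
      (RingHom.ext fun a => rfl) hc
  · obtain ⟨P, hP, hP0⟩ := η.isIntegral_qRel (algebraMap A B) hs hA ⟨b, hb⟩
    have hbC : b ∈ C := by
      refine ⟨P, hP, ?_⟩
      have := congrArg (η.rel (algebraMap A B)).subtype hP0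
      rw [Polynomial.hom_eval₂, map_zero] at this
      exact this
    obtain ⟨x, hx, hxb⟩ := η.mem_rel_iff.1 hb
    refine ⟨⟨b, hbC⟩, η.mem_rel_iff.2 ⟨x, hx, ?_⟩, rfl⟩
    refine η.ext_minimal (η.Nmap_mem_M _ hx) (η.t_mem_M _ _) fun Q hQ => ?_
    obtain ⟨Q', hQ', hQQ'⟩ := Ideal.exists_comap_eq_of_mem_minimalPrimes (f := C.val.toRingHom) (I := ⊥) Q.asIdeal (by
      rw [← RingHom.ker_eq_comap_bot, (RingHom.injective_iff_ker_eq_bot _).1 Subtype.val_injective]
      exact hQ)
    have e : Q = PrimeSpectrum.comap C.val.toRingHom ⟨Q', hQ'⟩ := PrimeSpectrum.ext hQQ'.2.symm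
    subst e
    apply (η.map (Ideal.ResidueField.map (PrimeSpectrum.comap C.val.toRingHom ⟨Q', hQ'⟩).asIdeal Q'
      C.val.toRingHom rfl)).injective
    show η.Nmap C.val.toRingHom (η.Nmap (algebraMap A C) x) ⟨Q', hQ'⟩ =
      η.Nmap C.val.toRingHom (η.t C ⟨b, hbC⟩) ⟨Q', hQ'⟩
    rw [← η.Nmap_comp, η.Nmap_t_apply]
    exact congrFun hxb ⟨Q', hQ'⟩

end Groth.Agent.S13820
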