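import Groth.Statements.S13822
import Groth.Agent.Eta.Rel

set_option autoImplicit false
universe u
open scoped TensorProduct
open EtaPt

namespace Groth.Agent.S13822

/-- Let A → A' be faithfully flat with A and A' having finitely many minimal prime ideals, and B an
A-algebra with Spec B → Spec A surjective; if q_{(A' ⊗ B)/A'} is bijective then q_{B/A} is
bijective. Here η is a natural transformation from the identity of the category of fields to an
endofunctor F with F(η_K) bijective and η_K purely inseparable for every field K, N_η(A) is the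
product of the F(k(p)) over the primes p of A with diagonal map t_A, and M_η(A) ⊆ N_η(A) is the
subring of elements sent into the range of t_R by every ring map from A to a valuation ring R at
whose fraction field η is bijective; q_A : A → M_η(A) is the corestriction of t_A. For a ring map f
: A → B, (B/A)_η ⊆ B denotes the subring of elements b with t_B(b) in N_η(f)(M_η(A)) (the image in B
of the fibre product of M_η(A) and B over M_η(B)), and q_{B/A} : A → (B/A)_η the corestriction of f. -/
theorem result (η : EtaPt.FieldEndo.{u}) (A A' B : Type u) [CommRing A] [CommRing A'] [CommRing B]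
    [Algebra A A'] [Algebra A B] [Module.FaithfullyFlat A A']
    (hA : (minimalPrimes A).Finite) (hA' : (minimalPrimes A').Finite)
    (hs : Function.Surjective (PrimeSpectrum.comap (algebraMap A B)))
    (h : Function.Bijective (η.qRel (Algebra.TensorProduct.includeLeftRingHom : A' →+* A' ⊗[A] B))) :
    Function.Bijective (η.qRel (algebraMap A B)) := by
  rw [η.bijective_qRel_iff] at h ⊢
  obtain ⟨h1, h2⟩ := h
  refine ⟨fun a a' e => FaithfulSMul.algebraMap_injective A A' (h1 ?_), fun b hb => ?_⟩
  · show (algebraMap A A' a) ⊗ₜ[A] (1 : B) = (algebraMap A A' a') ⊗ₜ[A] 1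
    rw [Algebra.algebraMap_eq_smul_one, Algebra.algebraMap_eq_smul_one, TensorProduct.smul_tmul,
      TensorProduct.smul_tmul, ← Algebra.algebraMap_eq_smul_one, ← Algebra.algebraMap_eq_smul_one, e]
  · obtain ⟨a', ha'⟩ := h2 _ (η.map_mem_rel_of_square (algebraMap A B) (algebraMap A A')
      (Algebra.TensorProduct.includeRight : B →ₐ[A] A' ⊗[A] B).toRingHom
      (Algebra.TensorProduct.includeLeftRingHom : A' →+* A' ⊗[A] B) (RingHom.ext fun a => by
        show (algebraMap A A' a) ⊗ₜ[A] (1 : B) = (1 : A') ⊗ₜ[A] algebraMap A B a
        rw [Algebra.algebraMap_eq_smul_one, Algebra.algebraMap_eq_smul_one, TensorProduct.smul_tmul]) hb)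
    change a' ⊗ₜ[A] (1 : B) = (1 : A') ⊗ₜ[A] b at ha'
    let P := LinearMap.range (Algebra.linearMap A B)
    have h0 := congrArg (LinearMap.lTensor A' P.mkQ) ha'
    rw [LinearMap.lTensor_tmul, LinearMap.lTensor_tmul,
      show P.mkQ (1 : B) = 0 from (Submodule.Quotient.mk_eq_zero _).2 ⟨1, map_one (algebraMap A B)⟩, TensorProduct.tmul_zero] at h0
    exact (Submodule.Quotient.mk_eq_zero P).1
      (Module.FaithfullyFlat.tensorProduct_mk_injective (A := A) (B := A') (B ⧸ P) (h0.symm.trans (map_zero _).symm))

end Groth.Agent.S13822
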