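import Groth.Statements.S13823
import Groth.Agent.Eta.Rel

set_option autoImplicit false
universe u
open EtaPt

namespace Groth.Agent.S13823

/-- Let A → A' be faithfully flat with A and A' having finitely many minimal prime ideals, and let Ā, Ā'
be the integral closures of A, A' in their total rings of fractions; if q_{Ā'/A'} is bijective then
q_{Ā/A} is bijective. Here η is a natural transformation from the identity of the category of fields
to an endofunctor F with F(η_K) bijective and η_K purely inseparable for every field K, N_η(A) is
the product of the F(k(p)) over the primes p of A with diagonal map t_A, and M_η(A) ⊆ N_η(A) is the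
subring of elements sent into the range of t_R by every ring map from A to a valuation ring R at
whose fraction field η is bijective; q_A : A → M_η(A) is the corestriction of t_A. For a ring map f
: A → B, (B/A)_η ⊆ B denotes the subring of elements b with t_B(b) in N_η(f)(M_η(A)) (the image in B
of the fibre product of M_η(A) and B over M_η(B)), and q_{B/A} : A → (B/A)_η the corestriction of f. -/
theorem result (η : EtaPt.FieldEndo.{u}) (A A' : Type u) [CommRing A] [CommRing A'] [Algebra A A'] [Module.FaithfullyFlat A A']
    (hA : (minimalPrimes A).Finite) (hA' : (minimalPrimes A').Finite)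
    (h : Function.Bijective (η.qRel (algebraMap A' (integralClosure A' (FractionRing A'))))) :
    Function.Bijective (η.qRel (algebraMap A (integralClosure A (FractionRing A)))) := by
  rw [η.bijective_qRel_iff] at h ⊢
  have hreg : nonZeroDivisors A ≤ (nonZeroDivisors A').comap (algebraMap A A') := fun s hs => by
    have hr : IsSMulRegular A' s := Module.Flat.isSMulRegular_of_nonZeroDivisors hs
    rw [Submonoid.mem_comap, mem_nonZeroDivisors_iff_right]
    intro z hz
    exact hr (by show s • z = s • 0; rw [smul_zero, Algebra.smul_def, mul_comm]; exact hz)
  let F : FractionRing A →+* FractionRing A' := IsLocalization.map _ (algebraMap A A') hreg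
  have hF : F.comp (algebraMap A _) = (algebraMap A' _).comp (algebraMap A A') := IsLocalization.map_comp _
  let C := integralClosure A (FractionRing A)
  let C' := integralClosure A' (FractionRing A')
  have hmem : ∀ c : C, F c ∈ C' := fun c => by
    obtain ⟨P, hP, hP0⟩ := c.2
    exact ⟨P.map (algebraMap A A'), hP.map _, by rw [Polynomial.eval₂_map, ← hF, ← Polynomial.hom_eval₂, hP0, map_zero]⟩
  let g : C →+* C' := (F.comp C.val.toRingHom).codRestrict C'.toSubring hmem
  refine ⟨fun a a' e => IsFractionRing.injective A (FractionRing A) (congrArg Subtype.val e), fun b hb => ?_⟩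
  obtain ⟨a', ha'⟩ := h.2 (g b) (η.map_mem_rel_of_square (algebraMap A C) (algebraMap A A') g (algebraMap A' C')
    (RingHom.ext fun a => Subtype.ext (RingHom.congr_fun hF a).symm) hb)
  obtain ⟨⟨x, s, hs⟩, hxs⟩ := IsLocalization.surj (nonZeroDivisors A) (b : FractionRing A)
  have h1 : algebraMap A' (FractionRing A') (a' * algebraMap A A' s) = algebraMap A' _ (algebraMap A A' x) := by
    have e := congrArg Subtype.val ha'
    change algebraMap A' (FractionRing A') a' = F b at e
    rw [map_mul, e, ← RingHom.comp_apply, ← hF, RingHom.comp_apply, ← map_mul, hxs, ← RingHom.comp_apply, hF]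
    rfl
  have h2 : x ∈ Ideal.span {s} := by
    rw [← Ideal.comap_map_eq_self_of_faithfullyFlat (B := A') (Ideal.span {s}), Ideal.mem_comap, Ideal.map_span,
      Set.image_singleton, Ideal.mem_span_singleton']
    exact ⟨a', IsFractionRing.injective A' (FractionRing A') h1⟩
  obtain ⟨a, rfl⟩ := Ideal.mem_span_singleton'.1 h2
  refine ⟨a, Subtype.ext ?_⟩
  have hu : IsUnit (algebraMap A (FractionRing A) s) := IsLocalization.map_units (M := nonZeroDivisors A) _ ⟨s, hs⟩
  rw [map_mul] at hxs
  exact (hu.mul_left_injective hxs).symm

end Groth.Agent.S13823
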