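import Groth.Statements.S13826
import Groth.Agent.Eta.Sch

set_option autoImplicit false
universe u
open EtaPt

namespace Groth.Agent.S13826

/-- For the identity endofunctor and a commutative ring A with finitely many minimal prime ideals, q_A :
A → M(A) is a seminormalization of A: Spec(q_A) is a universal homeomorphism with trivial residue
field extensions, final among ring maps out of A with these properties. Here M(A) ⊆ ∏_p k(p) is the
subring of families whose image in ∏_q k(q), for every ring map from A to a valuation ring R, is the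
diagonal image of an element of R. -/
theorem result (A : Type u) [CommRing A] (hA : (minimalPrimes A).Finite) :
    HTop.IsRingSN (EtaPt.FieldEndo.ident.{u}.q A) := by
  refine ⟨(EtaPt.FieldEndo.isUnivHomeo_iff _).2 ⟨EtaPt.FieldEndo.ident.isIntegral_q hA,
    EtaPt.FieldEndo.ident.Nmap_q_bijective hA⟩, fun C _ ψ h1 h2 => ?_⟩
  obtain ⟨hi, hN⟩ := (EtaPt.FieldEndo.isUnivHomeo_iff ψ).1 ⟨h1, h2⟩
  obtain ⟨g', hg', -⟩ := EtaPt.FieldEndo.ident.exists_lift ψ hi hN
  refine ⟨g', hg', fun g'' h'' => RingHom.ext fun b => Subtype.ext (funext fun q => ?_)⟩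
  exact RingHom.congr_fun (EtaPt.FieldEndo.ident.hom_unique ψ hN
    (v := (EtaPt.FieldEndo.ident.evM q).comp g'') (w := (EtaPt.FieldEndo.ident.evM q).comp g')
    (by rw [RingHom.comp_assoc, RingHom.comp_assoc, h'', hg'])) b

end Groth.Agent.S13826
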