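import Groth.Statements.S13827
import Groth.Agent.Eta.Val

set_option autoImplicit false
universe u
open EtaPt

namespace Groth.Agent.S13827

/-- For a normal ring A (every localization at a prime is an integrally closed domain) with finitely
many minimal prime ideals such that η is bijective at the residue field of every minimal prime, q_A
: A → M_η(A) is bijective. Here η is a natural transformation from the identity of the category of
fields to an endofunctor F with F(η_K) bijective and η_K purely inseparable for every field K,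
N_η(A) is the product of the F(k(p)) over the primes p of A with diagonal map t_A, and M_η(A) ⊆
N_η(A) is the subring of elements sent into the range of t_R by every ring map from A to a valuation
ring R at whose fraction field η is bijective; q_A : A → M_η(A) is the corestriction of t_A. -/
theorem result (η : EtaPt.FieldEndo.{u}) (A : Type u) [CommRing A] (hn : EGA4.IsNormalRing A)
    (hA : (minimalPrimes A).Finite)
    (hη : ∀ p : PrimeSpectrum A, p.asIdeal ∈ minimalPrimes A → Function.Bijective (η.eta p.asIdeal.ResidueField)) :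
    Function.Bijective (η.q A) := by
  classical
  have hdom : ∀ (q : Ideal A) [q.IsPrime], IsDomain (Localization.AtPrime q) := fun q _ => (hn q).1
  have hcl : ∀ (q : Ideal A) [q.IsPrime], IsIntegrallyClosed (Localization.AtPrime q) := fun q _ => (hn q).2
  have hred : IsReduced A := isReduced_ofLocalizationMaximal A fun P _ => by have := hdom P; infer_instance
  refine ⟨fun a b h => η.t_injective (congrArg Subtype.val h), fun x => ?_⟩
  let 𝔞 : Ideal A :=
    { carrier := {r | ∃ a, η.q A r * x = η.q A a}
      zero_mem' := ⟨0, by simp⟩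
      add_mem' := fun {r r'} ⟨a, ha⟩ ⟨a', ha'⟩ => ⟨a + a', by rw [map_add, map_add, add_mul, ha, ha']⟩
      smul_mem' := fun c r ⟨a, ha⟩ => ⟨c * a, by rw [smul_eq_mul, map_mul, map_mul, mul_assoc, ha]⟩ }
  suffices (1 : A) ∈ 𝔞 by
    obtain ⟨a, ha⟩ := this
    rw [map_one, one_mul] at ha
    exact ⟨a, ha.symm⟩
  rw [← Ideal.eq_top_iff_one]
  by_contra hne
  obtain ⟨q, hq, hle⟩ := Ideal.exists_le_maximal 𝔞 hne
  have := hdom q
  have := hcl q
  let S := Localization.AtPrime q
  let p : PrimeSpectrum A := ⟨RingHom.ker (algebraMap A S), RingHom.ker_isPrime _⟩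
  haveI hpp : p.asIdeal.IsPrime := p.2
  have hp_le : ∀ p' : Ideal A, p'.IsPrime → p' ≤ q → p.asIdeal ≤ p' := fun p' hp' hle a ha => by
    obtain ⟨⟨s, hs⟩, h0⟩ := (IsLocalization.map_eq_zero_iff q.primeCompl S a).1 ha
    exact (hp'.mem_or_mem (show s * a ∈ p' from h0 ▸ zero_mem _)).resolve_left fun h => hs (hle h)
  have hpq : p.asIdeal ≤ q := fun a ha => by
    obtain ⟨⟨s, hs⟩, h0⟩ := (IsLocalization.map_eq_zero_iff q.primeCompl S a).1 ha
    exact (hq.isPrime.mem_or_mem (show s * a ∈ q from h0 ▸ zero_mem _)).resolve_left hs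
  have hpmin : p.asIdeal ∈ minimalPrimes A :=
    ⟨⟨p.2, bot_le⟩, fun p' hp' hle => hp_le p' hp'.1 (hle.trans hpq)⟩
  let J : p.asIdeal.ResidueField →+* FractionRing S := Ideal.ResidueField.lift p.asIdeal
    ((algebraMap S (FractionRing S)).comp (algebraMap A S))
    (fun a ha => by show algebraMap S _ (algebraMap A S a) = 0; rw [show algebraMap A S a = 0 from ha, map_zero])
    (fun a ha => isUnit_iff_ne_zero.2 fun e => ha (IsFractionRing.injective S (FractionRing S) (e.trans (map_zero _).symm)))
  have hJ : ∀ a, J (algebraMap A _ a) = algebraMap S _ (algebraMap A S a) := fun a => by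
    simp only [J]
    rw [Ideal.ResidueField.lift_algebraMap]
    rfl
  obtain ⟨k, hk⟩ := (hη p hpmin).2 ((x : η.N A) p)
  obtain ⟨c, hc⟩ : ∃ c, algebraMap S (FractionRing S) c = J k := by
    obtain ⟨P, hP, hP0⟩ := η.isIntegralElem_at p x.2
    rw [← hk, ← Polynomial.hom_eval₂, ← map_zero (η.eta p.asIdeal.ResidueField)] at hP0
    refine IsIntegrallyClosed.isIntegral_iff.1 ⟨P.map (algebraMap A S), hP.map _, ?_⟩
    have := congrArg J ((η.eta _).injective hP0)
    rw [Polynomial.hom_eval₂, map_zero] at this
    have e1 : J.comp (algebraMap A p.asIdeal.ResidueField) = (algebraMap S (FractionRing S)).comp (algebraMap A S) :=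
      RingHom.ext hJ
    rw [e1] at this
    rw [Polynomial.eval₂_map]
    exact this
  obtain ⟨⟨a, s, hs⟩, has⟩ := IsLocalization.surj q.primeCompl c
  have hks : algebraMap A p.asIdeal.ResidueField s * k = algebraMap A _ a := J.injective (by
    rw [map_mul, hJ, hJ, ← hc, ← map_mul, mul_comm]
    exact congrArg _ has)
  have he : ∀ p' : PrimeSpectrum A, p'.asIdeal ∈ minimalPrimes A → p' ≠ p → ∃ e, e ∈ p'.asIdeal ∧ e ∉ q :=
    fun p' hp' hne => by
      by_contra! h
      exact hne (PrimeSpectrum.ext (le_antisymm (hp'.2 ⟨p.2, bot_le⟩ (hp_le _ p'.2 h)) (hp_le _ p'.2 h)))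
  have hfin : {p' : PrimeSpectrum A | p'.asIdeal ∈ minimalPrimes A ∧ p' ≠ p}.Finite :=
    (hA.preimage fun a _ b _ h => PrimeSpectrum.ext h).subset fun p' h => h.1
  choose! e he1 he2 using he
  let E := ∏ p' ∈ hfin.toFinset, e p'
  have hE : E ∉ q := fun h => by
    obtain ⟨p', hp', h'⟩ := (Ideal.IsPrime.prod_mem_iff).1 h
    obtain ⟨h1, h2⟩ := hfin.mem_toFinset.1 hp'
    exact he2 p' h1 h2 h'
  have hmem : s * E ∈ 𝔞 := ⟨a * E, Subtype.ext (η.ext_minimal (mul_mem (η.t_mem_M A _) x.2) (η.t_mem_M A _)
    fun p' hp' => by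
      show η.eta _ (algebraMap A _ (s * E)) * (x : η.N A) p' = η.eta _ (algebraMap A _ (a * E))
      by_cases h : p' = p
      · subst h
        rw [← hk, ← map_mul]
        congr 1
        rw [map_mul, map_mul, ← hks]; ring
      · have : algebraMap A p'.asIdeal.ResidueField E = 0 := Ideal.algebraMap_residueField_eq_zero.2
          (Ideal.prod_mem _ (hfin.mem_toFinset.2 ⟨hp', h⟩) (he1 p' hp' h))
        rw [map_mul (algebraMap A _), map_mul (algebraMap A _), this, mul_zero, mul_zero, map_zero, zero_mul])⟩
  exact (hq.isPrime.mul_notMem hs hE) (hle hmem)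

end Groth.Agent.S13827
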