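import Groth.Statements.S13830
import Groth.Agent.Eta.Sch

set_option autoImplicit false
universe u
open AlgebraicGeometry
open EtaPt

namespace Groth.Agent.S13830

/-- For the identity endofunctor, a commutative ring A with finitely many minimal prime ideals and an
A-algebra B with Spec B → Spec A surjective, the subring (B/A) ⊆ B (elements b whose residue classes
(b mod q)_q come from a family in M(A) ⊆ ∏_p k(p), M(A) being the families that come from an element
of R after any base change to a valuation ring R) is the seminormalization of A in B: Spec (B/A) →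
Spec A is a universal homeomorphism with trivial residue field extensions, and every A-subalgebra C
of B with these two properties is contained in (B/A). -/
theorem result (A B : Type u) [CommRing A] [CommRing B] [Algebra A B] (hA : (minimalPrimes A).Finite)
    (hs : Function.Surjective (PrimeSpectrum.comap (algebraMap A B))) :
    (FlatMor.IsUnivHomeo (Spec.map (CommRingCat.ofHom (EtaPt.FieldEndo.ident.{u}.qRel (algebraMap A B)))) ∧
      HTop.ResidueFieldsIso (Spec.map (CommRingCat.ofHom (EtaPt.FieldEndo.ident.{u}.qRel (algebraMap A B))))) ∧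
    ∀ C : Subalgebra A B,
      FlatMor.IsUnivHomeo (Spec.map (CommRingCat.ofHom (algebraMap A C))) →
      HTop.ResidueFieldsIso (Spec.map (CommRingCat.ofHom (algebraMap A C))) →
      C.toSubring ≤ EtaPt.FieldEndo.ident.{u}.rel (algebraMap A B) := by
  let η := EtaPt.FieldEndo.ident.{u}
  refine ⟨(EtaPt.FieldEndo.isUnivHomeo_iff _).2 ⟨η.isIntegral_qRel (algebraMap A B) hs hA,
    (η.Nmap_bijective_iff' _).2 (η.rel_spec (algebraMap A B) hs hA)⟩, fun C h1 h2 c hc => ?_⟩
  obtain ⟨hi, hN⟩ := (EtaPt.FieldEndo.isUnivHomeo_iff _).1 ⟨h1, h2⟩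
  obtain ⟨g', -, hg'⟩ := η.exists_lift (algebraMap A C) hi hN
  refine η.mem_rel_iff.2 ⟨_, (g' ⟨c, hc⟩).2, ?_⟩
  rw [show algebraMap A B = (C.val.toRingHom).comp (algebraMap A C) from rfl, η.Nmap_comp, hg', η.Nmap_t_apply]
  rfl

end Groth.Agent.S13830
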