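import Groth.Statements.S13834
import Mathlib

set_option autoImplicit false
universe u
open AlgebraicGeometry
open EtaPt

namespace Groth.Agent.S13834

theorem finite_of_cover {T : Type*} [TopologicalSpace T] {ι : Type*} (s : Finset ι) (W : ι → Set T)
    (hW : ∀ i ∈ s, IsOpen (W i)) (hc : ∀ t, ∃ i ∈ s, t ∈ W i)
    (hf : ∀ i ∈ s, (irreducibleComponents (W i)).Finite) : (irreducibleComponents T).Finite := by
  refine (s.finite_toSet.biUnion fun i hi =>
    ((hf i hi).image fun Z => closure (Subtype.val '' Z))).subset fun Z hZ => ?_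
  obtain ⟨t, ht⟩ := hZ.1.1
  obtain ⟨i, hi, hti⟩ := hc t
  have he : Topology.IsOpenEmbedding (Subtype.val : W i → T) := (hW i hi).isOpenEmbedding_subtypeVal
  have hne : (Z ∩ Set.range (Subtype.val : W i → T)).Nonempty := ⟨t, ht, ⟨t, hti⟩, rfl⟩
  refine Set.mem_biUnion hi ⟨_, preimage_mem_irreducibleComponents hZ he hne, ?_⟩
  exact closure_image_preimage_of_isPreirreducible _ he.isOpenMap Z ⟨⟨t, hti⟩, ht⟩ hZ.1.2
    (isClosed_of_mem_irreducibleComponents Z hZ)

theorem finite_minimalPrimes_of_flat (A B : Type*) [CommRing A] [CommRing B] [Algebra A B] [Module.Flat A B]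
    [Algebra.FiniteType A B] (hA : (minimalPrimes A).Finite) : (minimalPrimes B).Finite := by
  let S : Ideal A → Set (Ideal B) := fun p => {Q | Q ∈ minimalPrimes B ∧ Q.under A = p}
  have hsub : minimalPrimes B ⊆ ⋃ p ∈ minimalPrimes A, S p := fun Q hQ => by
    refine Set.mem_biUnion (x := Q.under A) ?_ ⟨hQ, rfl⟩
    have := hQ.1.1
    refine ⟨⟨inferInstance, bot_le⟩, fun p' hp' hle => ?_⟩
    have := hp'.1
    obtain ⟨Q', hQ'le, hQ'p, hQ'l⟩ := Ideal.exists_ideal_le_liesOver_of_le (p := p') (q := Q.under A) Q hle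
    have e : Q = Q' := le_antisymm (hQ.2 ⟨hQ'p, bot_le⟩ hQ'le) hQ'le
    exact ((congrArg (Ideal.under A) e).trans hQ'l.over.symm).le
  refine (hA.biUnion fun p hp => ?_).subset hsub
  have := hp.1.1
  have : IsNoetherianRing (p.Fiber B) := Algebra.FiniteType.isNoetherianRing p.ResidueField _
  let e := PrimeSpectrum.primesOverOrderIsoFiber A B p
  have hfin := ((minimalPrimes.finite_of_isNoetherianRing (p.Fiber B)).preimage
    (f := fun x : PrimeSpectrum (p.Fiber B) => x.asIdeal) fun a _ b _ h => PrimeSpectrum.ext h)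
  refine (hfin.image fun x => ((e.symm x : p.primesOver B) : Ideal B)).subset fun Q ⟨hQ, hQp⟩ => ?_
  have hQ' : Q ∈ p.primesOver B := ⟨hQ.1.1, ⟨hQp.symm⟩⟩
  refine ⟨e ⟨Q, hQ'⟩, ⟨⟨(e ⟨Q, hQ'⟩).2, bot_le⟩, fun x hx hle => ?_⟩, ?_⟩
  · have h1 : e.symm ⟨x, hx.1⟩ ≤ ⟨Q, hQ'⟩ := by
      rw [OrderIso.symm_apply_le]; exact hle
    have h2 : (⟨Q, hQ'⟩ : p.primesOver B) ≤ e.symm ⟨x, hx.1⟩ := hQ.2 ⟨(e.symm ⟨x, hx.1⟩).2.1, bot_le⟩ h1
    have h3 := e.monotone h2
    rw [e.apply_symm_apply] at h3
    exact h3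
  · show ((e.symm (e ⟨Q, hQ'⟩) : p.primesOver B) : Ideal B) = Q
    rw [e.symm_apply_apply]

theorem finite_irreducibleComponents_iff {Y : Scheme.{u}} (U : Y.Opens) (hU : IsAffineOpen U) :
    (irreducibleComponents (U : Type u)).Finite ↔ (minimalPrimes Γ(Y, U)).Finite := by
  have e : (U : Type u) ≃ₜ PrimeSpectrum Γ(Y, U) := Scheme.homeoOfIso hU.isoSpec
  have hS : (irreducibleComponents (PrimeSpectrum Γ(Y, U))).Finite ↔ (minimalPrimes Γ(Y, U)).Finite := by
    refine ⟨fun h => ?_, fun h => ?_⟩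
    · rw [← PrimeSpectrum.vanishingIdeal_irreducibleComponents]; exact h.image _
    · rw [← PrimeSpectrum.zeroLocus_minimalPrimes]; exact h.image _
  rw [← hS]
  let E := irreducibleComponentsEquivOfIsPreirreducibleFiber e e.continuous e.isOpenMap
    (fun x => (Set.subsingleton_singleton.preimage e.injective).isPreirreducible) e.surjective
  exact ⟨fun h => have := h.to_subtype; Set.finite_coe_iff.1 (Finite.of_equiv _ E.symm.toEquiv),
    fun h => have := h.to_subtype; Set.finite_coe_iff.1 (Finite.of_equiv _ E.toEquiv)⟩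

/-- If f : Y → X is faithfully flat and locally of finite presentation and each quasi-compact open
subset of X has only finitely many irreducible components, the same is true of each quasi-compact
open subset of Y. -/
theorem result {Y X : Scheme.{u}} (f : Y ⟶ X) [Flat f] [LocallyOfFinitePresentation f] [Surjective f]
    (hX : ∀ U : X.Opens, IsCompact (U : Set X) → (irreducibleComponents (U : Type u)).Finite)
    (V : Y.Opens) (hV : IsCompact (V : Set Y)) : (irreducibleComponents (V : Type u)).Finite := by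
  have h : ∀ y : V, ∃ W : Y.Opens, IsAffineOpen W ∧ (y : Y) ∈ W ∧ W ≤ V ∧
      (irreducibleComponents (W : Type u)).Finite := fun y => by
    obtain ⟨U, hU, hyU, -⟩ := exists_isAffineOpen_mem_and_subset (X := X) (x := f.base y) (U := ⊤) trivial
    obtain ⟨W, hW, hyW, hWV⟩ := exists_isAffineOpen_mem_and_subset (X := Y) (x := (y : Y))
      (U := V ⊓ f ⁻¹ᵁ U) ⟨y.2, hyU⟩
    have e : W ≤ f ⁻¹ᵁ U := fun z hz => (hWV hz).2
    refine ⟨W, hW, hyW, fun z hz => (hWV hz).1, (finite_irreducibleComponents_iff W hW).2 ?_⟩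
    let := (f.appLE U W e).hom.toAlgebra
    have : Module.Flat Γ(X, U) Γ(Y, W) := f.flat_appLE hU hW e
    have : Algebra.FiniteType Γ(X, U) Γ(Y, W) :=
      have hfp : Algebra.FinitePresentation Γ(X, U) Γ(Y, W) := f.finitePresentation_appLE hU hW e
      inferInstance
    exact finite_minimalPrimes_of_flat Γ(X, U) Γ(Y, W) ((finite_irreducibleComponents_iff U hU).1 (hX U hU.isCompact))
  choose W hW hyW hWV hfin using h
  obtain ⟨t, ht⟩ := hV.elim_finite_subcover (fun y : V => (W y : Set Y)) (fun y => (W y).2)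
    (fun z hz => Set.mem_iUnion.2 ⟨⟨z, hz⟩, hyW _⟩)
  refine finite_of_cover t (fun y => Subtype.val ⁻¹' (W y : Set Y)) (fun y _ => (W y).2.preimage continuous_subtype_val)
    (fun z => ?_) (fun y _ => ?_)
  · obtain ⟨i, hi, h⟩ := Set.mem_iUnion₂.1 (ht z.2)
    exact ⟨i, hi, h⟩
  · let e : (W y : Type u) ≃ₜ ((Subtype.val ⁻¹' (W y : Set Y)) : Set (V : Type u)) :=
      { toFun := fun z => ⟨⟨z.1, hWV y z.2⟩, z.2⟩
        invFun := fun z => ⟨z.1.1, z.2⟩
        left_inv := fun _ => rfl
        right_inv := fun _ => rfl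
        continuous_toFun := (continuous_subtype_val.subtype_mk _).subtype_mk _
        continuous_invFun := (continuous_subtype_val.comp continuous_subtype_val).subtype_mk _ }
    let E := irreducibleComponentsEquivOfIsPreirreducibleFiber e e.continuous e.isOpenMap
      (fun x => (Set.subsingleton_singleton.preimage e.injective).isPreirreducible) e.surjective
    have := (hfin y).to_subtype
    exact Set.finite_coe_iff.1 (Finite.of_equiv _ E.symm.toEquiv)

end Groth.Agent.S13834
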