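import Groth.Statements.S13835
import Mathlib
set_option backward.isDefEq.respectTransparency false
open CategoryTheory AlgebraicGeometry
-- import your own Groth.Agent.* helpers here

set_option autoImplicit false
universe u
open AlgebraicGeometry CategoryTheory
open ChowMon

namespace Groth.Agent.S13835

/-- Let p : T' → T be a universal homeomorphism of separated schemes with T reduced and f' : T' → Y a
morphism (Y separated); if T has an open cover by affine opens U_i such that each restriction of f'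
to p⁻¹(U_i) factors through p⁻¹(U_i) → U_i, then f' factors through p. -/
theorem result {T' T Y : Scheme.{u}} (p : T' ⟶ T) (hp : FlatMor.IsUnivHomeo p) [IsReduced T]
    [T.IsSeparated] [T'.IsSeparated] [Y.IsSeparated] (f' : T' ⟶ Y)
    {ι : Type u} (U : ι → T.affineOpens) (hU : ⨆ i, (U i : T.Opens) = ⊤)
    (hloc : ∀ i, ∃ fi : ((U i : T.Opens) : Scheme.{u}) ⟶ Y, (p ⁻¹ᵁ (U i : T.Opens)).ι ≫ f' = (p ∣_ (U i : T.Opens)) ≫ fi) :
    ∃ f : T ⟶ Y, p ≫ f = f' := by
  classical
  choose fi hfi using hloc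
  let 𝒰 := T.openCoverOfIsOpenCover (fun i => (U i : T.Opens)) hU
  haveI hp' : ∀ V : T.Opens, Surjective (p ∣_ V) := fun V => by
    haveI : Surjective p := ⟨(MorphismProperty.universally_le _ p hp : IsHomeomorph p).surjective⟩
    exact IsZariskiLocalAtTarget.restrict (P := @Surjective) inferInstance V
  have hagree : ∀ i j, ∀ (W : T.Opens) (hi : W ≤ (U i : T.Opens)) (hj : W ≤ (U j : T.Opens)),
      T.homOfLE hi ≫ fi i = T.homOfLE hj ≫ fi j := by
    intro i j W hi hj
    haveI : IsReduced (W : Scheme.{u}) := isReduced_of_isOpenImmersion W.ι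
    refine ext_of_isDominant (p ∣_ W) ?_
    have key : ∀ k (hk : W ≤ (U k : T.Opens)), (p ∣_ W) ≫ T.homOfLE hk ≫ fi k = (p ⁻¹ᵁ W).ι ≫ f' := by
      intro k hk
      have h1 : (p ∣_ W) ≫ T.homOfLE hk = T'.homOfLE (p.preimage_mono hk) ≫ (p ∣_ (U k : T.Opens)) := by
        rw [← cancel_mono (U k : T.Opens).ι]; simp
      rw [reassoc_of% h1, ← hfi k, Scheme.homOfLE_ι_assoc]
    rw [key i hi, key j hj]
  let f : T ⟶ Y := 𝒰.glueMorphisms fi fun i j => by
    have hpb := isPullback_opens_inf (U i : T.Opens) (U j : T.Opens)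
    change Limits.pullback.fst (U i : T.Opens).ι (U j : T.Opens).ι ≫ fi i = Limits.pullback.snd (U i : T.Opens).ι (U j : T.Opens).ι ≫ fi j
    rw [← cancel_epi hpb.isoPullback.hom, hpb.isoPullback_hom_fst_assoc, hpb.isoPullback_hom_snd_assoc]
    exact hagree i j _ inf_le_left inf_le_right
  refine ⟨f, (T'.openCoverOfIsOpenCover (fun i => p ⁻¹ᵁ (U i : T.Opens)) ?_).hom_ext _ _ fun i => ?_⟩
  · show ⨆ i, p ⁻¹ᵁ (U i : T.Opens) = ⊤
    rw [← Scheme.Hom.preimage_iSup, hU, Scheme.Hom.preimage_top]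
  · show (p ⁻¹ᵁ (U i : T.Opens)).ι ≫ p ≫ f = (p ⁻¹ᵁ (U i : T.Opens)).ι ≫ f'
    rw [hfi i, ← morphismRestrict_ι_assoc]
    congr 1
    exact 𝒰.ι_glueMorphisms fi _ i

end Groth.Agent.S13835
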