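import Groth.Statements.S13836
import Groth.Agent.NormalSch.Normalization
import Groth.Agent.UnivHomeo.Basic
import Groth.Agent.Unibranch.Radicial
import Groth.Agent.BranchInv.BirationalScheme
-- import your own Groth.Agent.* helpers here

set_option autoImplicit false
universe u
open AlgebraicGeometry CategoryTheory
open HTop

namespace Groth.Agent.S13836

/-- Let Y be a separated Noetherian integral scheme whose local rings are geometrically unibranch and
whose affine coordinate rings are Nagata, K its function field and L a finite purely inseparable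
extension of K; then the normalization of Y in L, i.e. the normalization of Y relative to Spec L →
Spec K → Y, maps to Y by a universal homeomorphism. (The instance binders on Spec L → Y always hold;
they are only needed to form the normalization.) -/
theorem result (Y : Scheme.{u}) [IsIntegral Y] [IsNoetherian Y] [Y.IsSeparated]
    (hY : ∀ y : Y, CAlg2.IsGeomUnibranch (Y.presheaf.stalk y))
    (hN : ∀ U : Y.affineOpens, CAlg.IsNagata Γ(Y, U))
    (L : Type u) [Field L] [Algebra Y.functionField L] [FiniteDimensional Y.functionField L]
    [IsPurelyInseparable Y.functionField L]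
    [QuasiCompact (Spec.map (CommRingCat.ofHom (algebraMap Y.functionField L)) ≫ Y.fromSpecStalk (genericPoint Y))]
    [QuasiSeparated (Spec.map (CommRingCat.ofHom (algebraMap Y.functionField L)) ≫ Y.fromSpecStalk (genericPoint Y))] :
    FlatMor.IsUnivHomeo
      (Spec.map (CommRingCat.ofHom (algebraMap Y.functionField L)) ≫ Y.fromSpecStalk (genericPoint Y)).fromNormalization := by
  let φ := algebraMap Y.functionField L
  let g := Spec.map (CommRingCat.ofHom φ) ≫ Y.fromSpecStalk (genericPoint Y)
  show FlatMor.IsUnivHomeo g.fromNormalization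
  haveI : Surjective g.fromNormalization := ⟨fun y => by
    have hcl : IsClosed (Set.range g.fromNormalization) := g.fromNormalization.isClosedMap.isClosed_range
    exact (genericPoint_specializes y).mem_closed hcl ⟨_, Groth.Agent.NormalSch.fromNormalization_generic φ g rfl⟩⟩
  haveI : UniversallyInjective g.fromNormalization := by
    rw [(tfae_universallyInjective g.fromNormalization).out 0 1 rfl rfl]
    intro F _ a b hab
    change a ≫ g.fromNormalization = b ≫ g.fromNormalization at hab
    let y := (a ≫ g.fromNormalization) (IsLocalRing.closedPoint F)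
    obtain ⟨U, hU, hyU, -⟩ := exists_isAffineOpen_mem_and_subset (x := y) (U := ⊤) (by trivial)
    haveI : Nonempty U := ⟨⟨y, hyU⟩⟩
    let V := g.fromNormalization ⁻¹ᵁ U
    have hV : IsAffineOpen V := hU.preimage _
    have hr : ∀ c : Spec (CommRingCat.of F) ⟶ g.normalization,
        (c ≫ g.fromNormalization) (IsLocalRing.closedPoint F) = y → Set.range c ⊆ Set.range hV.fromSpec := fun c hc => by
      rintro _ ⟨z, rfl⟩
      rw [hV.range_fromSpec, Subsingleton.elim (α := PrimeSpectrum F) z (IsLocalRing.closedPoint F)]
      show g.fromNormalization (c _) ∈ U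
      rw [← Scheme.Hom.comp_apply, hc]
      exact hyU
    obtain ⟨α, hα⟩ := Spec.map_surjective (IsOpenImmersion.lift hV.fromSpec a (hr a rfl))
    obtain ⟨β, hβ⟩ := Spec.map_surjective (IsOpenImmersion.lift hV.fromSpec b (hr b (by rw [← hab])))
    have ha : Spec.map α ≫ hV.fromSpec = a := by rw [hα, IsOpenImmersion.lift_fac]
    have hb : Spec.map β ≫ hV.fromSpec = b := by rw [hβ, IsOpenImmersion.lift_fac]
    subst ha hb
    have hsq := IsAffineOpen.SpecMap_appLE_fromSpec g.fromNormalization hU hV le_rfl
    rw [Category.assoc, Category.assoc, ← hsq, ← Category.assoc, ← Category.assoc, cancel_mono,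
      ← Spec.map_comp, ← Spec.map_comp, ← Scheme.Hom.app_eq_appLE] at hab
    have hαβ := congrArg CommRingCat.Hom.hom (Spec.map_injective hab)
    -- coordinates in `L`
    let A := Γ(Y, U)
    haveI : IsFractionRing A Y.functionField := functionField_isFractionRing_of_isAffineOpen Y U hU
    letI : Algebra A L := (φ.comp (Y.germToFunctionField U).hom).toAlgebra
    haveI : IsScalarTower A Y.functionField L := IsScalarTower.of_algebraMap_eq' rfl
    letI algL' : Algebra A Γ(Spec (CommRingCat.of L), g ⁻¹ᵁ U) := (g.app U).hom.toAlgebra
    let ε : L ≃ₐ[A] Γ(Spec (CommRingCat.of L), g ⁻¹ᵁ U) :=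
      AlgEquiv.ofRingEquiv (f := Groth.Agent.FinIntClosure.fieldEquiv φ g rfl U) fun c => by
        change _ = (g.app U) c
        rw [Groth.Agent.FinIntClosure.app_eq φ g rfl U]
        rfl
    let e := (g.normalizationObjIso hU).commRingCatIsoToRingEquiv
    let ι : Γ(g.normalization, V) →+* L :=
      ε.symm.toRingEquiv.toRingHom.comp ((integralClosure A Γ(Spec (CommRingCat.of L), g ⁻¹ᵁ U)).val.toRingHom.comp e.toRingHom)
    have hιinj : Function.Injective ι := ε.symm.injective.comp (Subtype.val_injective.comp e.injective)
    have hιA : ∀ c : A, ι (g.fromNormalization.app U c) = algebraMap A L c := fun c => by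
      show ε.symm ((g.normalizationObjIso hU).hom (g.fromNormalization.app U c)).1 = _
      rw [g.fromNormalization_app hU]
      simp only [CommRingCat.comp_apply, Iso.inv_hom_id_apply, CommRingCat.hom_ofHom]
      exact ε.symm.commutes c
    let A' := integralClosure A Y.functionField
    have hmem : ∀ z : A', ∃ w, ι w = algebraMap Y.functionField L z.1 := fun z => by
      have hz : IsIntegral A (ε (algebraMap Y.functionField L z.1)) :=
        ((z.2.map (IsScalarTower.toAlgHom A Y.functionField L))).map ε.toAlgHom
      refine ⟨e.symm ⟨_, hz⟩, ?_⟩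
      show ε.symm (e (e.symm ⟨_, hz⟩)).1 = _
      rw [e.apply_symm_apply]
      exact ε.symm_apply_apply _
    choose w hw using hmem
    let j : A' →+* Γ(g.normalization, V) :=
      { toFun := w
        map_one' := hιinj (by rw [hw, map_one ι]; exact map_one (algebraMap Y.functionField L))
        map_mul' := fun x z => hιinj (by rw [hw, map_mul ι, hw, hw]; exact map_mul (algebraMap Y.functionField L) x.1 z.1)
        map_zero' := hιinj (by rw [hw, map_zero ι]; exact map_zero (algebraMap Y.functionField L))
        map_add' := fun x z => hιinj (by rw [hw, map_add ι, hw, hw]; exact map_add (algebraMap Y.functionField L) x.1 z.1) }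
    have hjA : ∀ c : A, j (algebraMap A A' c) = g.fromNormalization.app U c := fun c => hιinj (by
      rw [hιA]; exact (hw _).trans (IsScalarTower.algebraMap_apply A Y.functionField L c).symm)
    have hepi : Groth.Agent.RadicialLib.FieldEpi A (integralClosure A (FractionRing A)) := by
      refine Groth.Agent.Unibranch.fieldEpi_of_isGeomUnibranch fun p hp => ?_
      have hmemU : hU.fromSpec ⟨p, hp⟩ ∈ U := hU.range_fromSpec.le ⟨_, rfl⟩
      have h := (Groth.Agent.BranchInv.isGeomUnibranch_stalk_iff hU _ hmemU).1 (hY _)
      have hp' : hU.primeIdealOf ⟨_, hmemU⟩ = ⟨p, hp⟩ :=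
        hU.fromSpec.isOpenEmbedding.injective (hU.fromSpec_primeIdealOf ⟨_, hmemU⟩)
      have h3 : ∀ r : PrimeSpectrum A, r = ⟨p, hp⟩ → CAlg2.IsGeomUnibranch (Localization.AtPrime r.asIdeal) →
          CAlg2.IsGeomUnibranch (Localization.AtPrime p) := by
        rintro _ rfl hr
        exact hr
      exact h3 _ hp' h
    let δ : FractionRing A ≃ₐ[A] Y.functionField := IsLocalization.algEquiv (nonZeroDivisors A) _ _
    let δ' : integralClosure A (FractionRing A) →+* A' :=
      { toFun := fun z => ⟨δ z.1, z.2.map δ.toAlgHom⟩
        map_one' := Subtype.ext (map_one δ)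
        map_mul' := fun x z => Subtype.ext (map_mul δ x.1 z.1)
        map_zero' := Subtype.ext (map_zero δ)
        map_add' := fun x z => Subtype.ext (map_add δ x.1 z.1) }
    have hδ' : Function.Surjective δ' := fun z =>
      ⟨⟨δ.symm z.1, z.2.map δ.symm.toAlgHom⟩, Subtype.ext (δ.apply_symm_apply z.1)⟩
    have hδA : ∀ c : A, δ' (algebraMap A _ c) = algebraMap A A' c := fun c => Subtype.ext (δ.commutes c)
    have key : α.hom.comp j = β.hom.comp j := by
      have := hepi F ((α.hom.comp j).comp δ') ((β.hom.comp j).comp δ') (RingHom.ext fun c => by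
        show α.hom (j (δ' (algebraMap A _ c))) = β.hom (j (δ' (algebraMap A _ c)))
        rw [hδA, hjA]
        exact RingHom.congr_fun hαβ c)
      exact RingHom.ext fun z => by
        obtain ⟨z, rfl⟩ := hδ' z
        exact RingHom.congr_fun this z
    suffices hfin : α.hom = β.hom by rw [CommRingCat.hom_ext hfin]
    refine RingHom.ext fun c => ?_
    let q := ringExpChar Y.functionField
    haveI : ExpChar Y.functionField q := ringExpChar.expChar _
    obtain ⟨n, r, hr⟩ := IsPurelyInseparable.pow_mem Y.functionField q (ι c)
    have hint : IsIntegral A r := by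
      refine (isIntegral_algHom_iff (IsScalarTower.toAlgHom A Y.functionField L)
        (algebraMap Y.functionField L).injective).1 ?_
      show IsIntegral A (algebraMap Y.functionField L r)
      rw [hr]
      refine IsIntegral.pow ?_ _
      exact ((e c).2 : IsIntegral A (e c).1).map ε.symm.toAlgHom
    have hc : c ^ q ^ n = j ⟨r, hint⟩ := hιinj (by rw [map_pow, ← hr]; exact (hw ⟨r, hint⟩).symm)
    have hpow : α.hom c ^ q ^ n = β.hom c ^ q ^ n := by
      rw [← map_pow, ← map_pow, hc]
      exact RingHom.congr_fun key _
    obtain hq1 | hq := expChar_is_prime_or_one Y.functionField q |>.symm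
    · simpa [hq1] using hpow
    · haveI : CharP Y.functionField q := Groth.Agent.UnivHomeo.charP_of_prime_expChar q hq
      haveI := Fact.mk hq
      haveI : CharP A q := (RingHom.charP_iff (Y.germToFunctionField U).hom
        (IsFractionRing.injective A Y.functionField) q).2 inferInstance
      haveI : ExpChar F q := by
        haveI : CharP F q := (CharP.charP_iff_prime_eq_zero hq).2 (by
          rw [← map_natCast (α.hom.comp (g.fromNormalization.app U).hom), CharP.cast_eq_zero A q, map_zero])
        exact ExpChar.prime hq
      exact iterateFrobenius_inj F q n hpow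
  exact Groth.Agent.UnivHomeo.of_isIntegralHom _

end Groth.Agent.S13836
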