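import Groth.Statements.S13837
import Groth.Agent.AWNLib.Basic
-- import your own Groth.Agent.* helpers here

set_option autoImplicit false
universe u
open AlgebraicGeometry
open scoped TensorProduct
open HTop

namespace Groth.Agent.S13837

theorem isNilpotent_of_forall_field {T : Type u} [CommRing T] (z : T)
    (h : ∀ (K : Type u) [Field K] (g : T →+* K), g z = 0) : IsNilpotent z := by
  rw [← mem_nilradical, nilradical_eq_sInf, Ideal.mem_sInf]
  intro P hP
  haveI : P.IsPrime := hP
  have := h (FractionRing (T ⧸ P)) ((algebraMap (T ⧸ P) _).comp (Ideal.Quotient.mk P))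
  exact Ideal.Quotient.eq_zero_iff_mem.1 ((IsFractionRing.to_map_eq_zero_iff).1 this)

/-- Let A ⊆ B be an integral ring extension where A and B have finitely many minimal prime ideals; then
the weak normalization of A in B is the equaliser of the two maps B ⇉ (B ⊗_A B)_red: the
A-subalgebra E of elements b with b ⊗ 1 − 1 ⊗ b nilpotent in B ⊗_A B has Spec E → Spec A a universal
homeomorphism, and every A-subalgebra C of B with Spec C → Spec A a universal homeomorphism is
contained in E. -/
theorem result (A B : Type u) [CommRing A] [CommRing B] [Algebra A B] (hinj : Function.Injective (algebraMap A B))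
    [Algebra.IsIntegral A B] (hA : (minimalPrimes A).Finite) (hB : (minimalPrimes B).Finite) :
    ∃ E : Subalgebra A B, (∀ b : B, b ∈ E ↔ IsNilpotent (b ⊗ₜ[A] (1 : B) - (1 : B) ⊗ₜ[A] b)) ∧
      FlatMor.IsUnivHomeo (Spec.map (CommRingCat.ofHom (algebraMap A E))) ∧
      ∀ C : Subalgebra A B, FlatMor.IsUnivHomeo (Spec.map (CommRingCat.ofHom (algebraMap A C))) → C ≤ E := by
  let N := B ⊗[A] B ⧸ nilradical (B ⊗[A] B)
  let L : B →ₐ[A] N := (Ideal.Quotient.mkₐ A (nilradical (B ⊗[A] B))).comp Algebra.TensorProduct.includeLeft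
  let R : B →ₐ[A] N := (Ideal.Quotient.mkₐ A (nilradical (B ⊗[A] B))).comp Algebra.TensorProduct.includeRight
  let E : Subalgebra A B := AlgHom.equalizer L R
  have hmem : ∀ b : B, b ∈ E ↔ IsNilpotent (b ⊗ₜ[A] (1 : B) - (1 : B) ⊗ₜ[A] b) := fun b => by
    show Ideal.Quotient.mk (nilradical (B ⊗[A] B)) (b ⊗ₜ[A] (1 : B)) = Ideal.Quotient.mk (nilradical (B ⊗[A] B)) ((1 : B) ⊗ₜ[A] b) ↔ _
    rw [Ideal.Quotient.eq, mem_nilradical]
  refine ⟨E, hmem, ?_, fun C hC c hc => (hmem c).2 ?_⟩
  · haveI : Algebra.IsIntegral A E := Algebra.IsIntegral.of_injective E.val Subtype.val_injective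
    refine AWNLib.isUnivHomeo_of _ (algebraMap_isIntegral_iff.2 inferInstance) (fun K _ g g' e => ?_)
      ((algebraMap_isIntegral_iff.2 (inferInstance : Algebra.IsIntegral A E)).comap_surjective
        (fun x y h => hinj (congrArg Subtype.val h)))
    haveI : Algebra.IsIntegral E B := Algebra.IsIntegral.tower_top (R := A)
    have hext : ∀ g : E →+* K, ∃ G : B →+* AlgebraicClosure K,
        ∀ x : E, G x = algebraMap K (AlgebraicClosure K) (g x) := fun g => by
      haveI : (RingHom.ker g).IsPrime := RingHom.ker_isPrime g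
      obtain ⟨q, -, hq, hqg⟩ := Ideal.exists_ideal_over_prime_of_isIntegral (S := B) (RingHom.ker g) ⊥ (by
        rw [← RingHom.ker_eq_comap_bot]
        exact ((RingHom.injective_iff_ker_eq_bot _).mp Subtype.val_injective).le.trans bot_le)
      haveI := hq
      haveI : q.LiesOver (RingHom.ker g) := ⟨hqg.symm⟩
      letI : Algebra (E ⧸ RingHom.ker g) (AlgebraicClosure K) :=
        ((algebraMap K (AlgebraicClosure K)).comp g.kerLift).toAlgebra
      haveI : Algebra.IsIntegral (E ⧸ RingHom.ker g) (B ⧸ q) := .tower_top E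
      haveI : (RingHom.ker g).IsPrime := RingHom.ker_isPrime g
      haveI : Module.IsTorsionFree (E ⧸ RingHom.ker g) (AlgebraicClosure K) :=
        Module.isTorsionFree_iff_algebraMap_injective.2
          ((algebraMap K (AlgebraicClosure K)).injective.comp g.kerLift_injective)
      haveI : Module.IsTorsionFree (E ⧸ RingHom.ker g) (B ⧸ q) :=
        Module.isTorsionFree_iff_algebraMap_injective.2 <| by
          refine (injective_iff_map_eq_zero _).2 fun x hx => ?_
          obtain ⟨x, rfl⟩ := Ideal.Quotient.mk_surjective x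
          rw [Ideal.Quotient.algebraMap_mk_of_liesOver, Ideal.Quotient.eq_zero_iff_mem] at hx
          rw [Ideal.Quotient.eq_zero_iff_mem, q.over_def (RingHom.ker g)]
          exact hx
      let G : (B ⧸ q) →ₐ[E ⧸ RingHom.ker g] AlgebraicClosure K := IsAlgClosed.lift
      exact ⟨G.toRingHom.comp (Ideal.Quotient.mk q), fun x => G.commutes (Ideal.Quotient.mk _ x)⟩
    obtain ⟨G, hG⟩ := hext g
    obtain ⟨G', hG'⟩ := hext g'
    letI : Algebra A (AlgebraicClosure K) := (G.comp (algebraMap A B)).toAlgebra
    have hGA : ∀ a, G' (algebraMap A B a) = G (algebraMap A B a) := fun a => by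
      have h1 := hG (algebraMap A E a)
      have h2 := hG' (algebraMap A E a)
      rw [show g' (algebraMap A E a) = g (algebraMap A E a) from (DFunLike.congr_fun e a).symm, ← h1] at h2
      exact h2
    let F : B ⊗[A] B →ₐ[A] AlgebraicClosure K := Algebra.TensorProduct.productMap
      { G with commutes' := fun a => rfl } { G' with commutes' := hGA }
    refine RingHom.ext fun x => (algebraMap K (AlgebraicClosure K)).injective ?_
    have h1 := ((hmem x.1).1 x.2).map F
    simp only [map_sub, F, Algebra.TensorProduct.productMap_apply_tmul, map_one, one_mul, mul_one] at h1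
    rw [← hG, ← hG']
    exact sub_eq_zero.1 h1.eq_zero
  · have h0 : IsNilpotent ((⟨c, hc⟩ : C) ⊗ₜ[A] (1 : C) - (1 : C) ⊗ₜ[A] (⟨c, hc⟩ : C)) := by
      refine isNilpotent_of_forall_field _ fun K _ π => ?_
      have := DFunLike.congr_fun (AWNLib.hom_ext hC
        (π.comp (Algebra.TensorProduct.includeLeft (R := A) (S := A) (A := C) (B := C)).toRingHom)
        (π.comp (Algebra.TensorProduct.includeRight (R := A) (A := C) (B := C)).toRingHom)
        (RingHom.ext fun a => congrArg π (by
          show Algebra.TensorProduct.includeLeft (algebraMap A C a) = Algebra.TensorProduct.includeRight (algebraMap A C a)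
          rw [AlgHom.commutes, AlgHom.commutes]))) ⟨c, hc⟩
      rw [map_sub, sub_eq_zero]
      exact this
    have h1 := h0.map (Algebra.TensorProduct.map C.val C.val)
    simpa using h1

end Groth.Agent.S13837
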