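import Groth.Statements.S13838
import Groth.Agent.AWNLib.Basic
-- import your own Groth.Agent.* helpers here

set_option autoImplicit false
universe u
open AlgebraicGeometry
open HTop

namespace Groth.Agent.S13838

/-- Let A ⊆ B be an integral ring extension where A and B have finitely many minimal prime ideals, such
that every prime p of A has a prime q of B above it for which k(p) is closed under extracting
p-power roots inside k(q) (the purely inseparable closure of k(p) in k(q) is k(p)); then the semi-
and weak normalizations of A in B coincide: every A-subalgebra C of B with Spec C → Spec A a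
universal homeomorphism already induces isomorphisms on residue fields. -/
theorem result (A B : Type u) [CommRing A] [CommRing B] [Algebra A B] (hinj : Function.Injective (algebraMap A B))
    [Algebra.IsIntegral A B] (hA : (minimalPrimes A).Finite) (hB : (minimalPrimes B).Finite)
    (hpi : ∀ p : PrimeSpectrum A, ∃ q : PrimeSpectrum B, ∃ hq : p.asIdeal = Ideal.comap (algebraMap A B) q.asIdeal,
      ∀ x : q.asIdeal.ResidueField,
        (∃ n : ℕ, x ^ ringExpChar p.asIdeal.ResidueField ^ n ∈
            Set.range (Ideal.ResidueField.map p.asIdeal q.asIdeal (algebraMap A B) hq)) →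
        x ∈ Set.range (Ideal.ResidueField.map p.asIdeal q.asIdeal (algebraMap A B) hq)) :
    ∀ C : Subalgebra A B, FlatMor.IsUnivHomeo (Spec.map (CommRingCat.ofHom (algebraMap A C))) →
      HTop.ResidueFieldsIso (Spec.map (CommRingCat.ofHom (algebraMap A C))) := by
  intro C hC x
  haveI := UnivHomeo.universallyInjective hC
  let φ : A →+* C := algebraMap A C
  haveI : x.asIdeal.IsPrime := x.isPrime
  let p : PrimeSpectrum A := PrimeSpectrum.comap φ x
  obtain ⟨q, hq, hcl⟩ := hpi p
  have hx : x.asIdeal = q.asIdeal.comap C.val.toRingHom := by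
    have : x = PrimeSpectrum.comap C.val.toRingHom q := by
      refine (UnivHomeo.isHomeomorph hC).injective (PrimeSpectrum.ext ?_)
      show x.asIdeal.comap φ = (q.asIdeal.comap C.val.toRingHom).comap φ
      rw [Ideal.comap_comap, show C.val.toRingHom.comp φ = algebraMap A B from C.val.comp_algebraMap]
      exact hq
    exact congrArg PrimeSpectrum.asIdeal this
  let ι := Ideal.ResidueField.map p.asIdeal q.asIdeal (algebraMap A B) hq
  have hι : ∀ a, ι (algebraMap A p.asIdeal.ResidueField a) = algebraMap B q.asIdeal.ResidueField (algebraMap A B a) :=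
    fun a => Ideal.ResidueField.map_algebraMap ..
  have key : ∀ c : C, ∃ a s : A, φ s ∉ x.asIdeal ∧ φ s * c - φ a ∈ x.asIdeal := fun c => by
    obtain ⟨m, a, s, hs, hm, he⟩ := UnivHomeo.exists_pow_sub_mem φ x.asIdeal c
    let ev : C →+* q.asIdeal.ResidueField := (algebraMap B _).comp C.val.toRingHom
    have hev : ∀ d, ev d = 0 ↔ d ∈ x.asIdeal := fun d => by
      show algebraMap B q.asIdeal.ResidueField (d : B) = 0 ↔ _
      rw [Ideal.algebraMap_residueField_eq_zero, hx]
      rfl
    have hA : ∀ d, ev (φ d) = ι (algebraMap A p.asIdeal.ResidueField d) := fun d => (hι d).symm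
    have hs0 : ev (φ s) ≠ 0 := fun h => hs ((hev _).1 h)
    have hpow : ev c ^ m = ι (algebraMap A p.asIdeal.ResidueField a / algebraMap A p.asIdeal.ResidueField s) := by
      rw [map_div₀, ← hA, ← hA, eq_div_iff hs0, ← map_pow, ← map_mul, mul_comm, ← sub_eq_zero, ← map_sub]
      exact (hev _).2 he
    obtain ⟨z, hz⟩ : ev c ∈ Set.range ι := by
      rcases hm with rfl | ⟨l, e, hl, hlx, rfl⟩
      · rw [pow_one] at hpow; exact ⟨_, hpow.symm⟩
      · refine hcl _ ⟨e, ?_⟩
        have h0 : (l : p.asIdeal.ResidueField) = 0 := by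
          rw [← map_natCast (algebraMap A p.asIdeal.ResidueField), Ideal.algebraMap_residueField_eq_zero]
          show φ (l : A) ∈ x.asIdeal
          rw [map_natCast]; exact hlx
        haveI : Fact l.Prime := ⟨hl⟩
        haveI : CharP p.asIdeal.ResidueField l := (CharP.charP_iff_prime_eq_zero hl).2 h0
        rw [ringExpChar.eq p.asIdeal.ResidueField l]
        exact ⟨_, hpow.symm⟩
    obtain ⟨a', s', hs', rfl⟩ := IsFractionRing.div_surjective (A := A ⧸ p.asIdeal) z
    obtain ⟨a', rfl⟩ := Ideal.Quotient.mk_surjective a'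
    obtain ⟨s', rfl⟩ := Ideal.Quotient.mk_surjective s'
    have hs'p : s' ∉ p.asIdeal := fun h => nonZeroDivisors.ne_zero hs' (Ideal.Quotient.eq_zero_iff_mem.mpr h)
    refine ⟨a', s', hs'p, (hev _).1 ?_⟩
    have hs0' : ev (φ s') ≠ 0 := fun h => hs'p ((hev _).1 h)
    rw [map_sub, map_mul, sub_eq_zero, ← hz]
    rw [map_div₀]
    rw [hA] at hs0'
    rw [hA, hA]
    exact mul_div_cancel₀ _ hs0'
  refine (CategoryTheory.ConcreteCategory.isIso_iff_bijective _).2 ⟨RingHom.injective _, fun z => ?_⟩
  let R := ((Spec.map (CommRingCat.ofHom φ)).residueFieldMap x).hom.range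
  have hR : ∀ c : C, ∃ w, (Spec.map (CommRingCat.ofHom φ)).residueFieldMap x w = UnivHomeo.ev x c := fun c => by
    obtain ⟨a, s, hs, he⟩ := key c
    refine ⟨UnivHomeo.ev _ a / UnivHomeo.ev _ s, ?_⟩
    rw [map_div₀, UnivHomeo.residueFieldMap_ev, UnivHomeo.residueFieldMap_ev, eq_comm,
      eq_div_iff fun h => hs ((UnivHomeo.ev_eq_zero x _).1 h), ← map_mul, ← sub_eq_zero, ← map_sub,
      UnivHomeo.ev_eq_zero, mul_comm]
    exact he
  obtain ⟨b, s, -, rfl⟩ := UnivHomeo.exists_div_ev x z
  obtain ⟨w₁, h₁⟩ := hR b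
  obtain ⟨w₂, h₂⟩ := hR s
  exact ⟨w₁ / w₂, by rw [map_div₀, h₁, h₂]⟩

end Groth.Agent.S13838
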