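import Groth.Statements.S13839
import Groth.Agent.ChowTS.Core
import Groth.Agent.AWNLib.Basic
import Groth.Agent.PtFunNormal.Semi
-- import your own Groth.Agent.* helpers here

set_option autoImplicit false
universe u
open AlgebraicGeometry
open scoped TensorProduct
open ChowMon

namespace Groth.Agent.S13839

open scoped TensorProduct

theorem algHom_mul_mem_range {A k K B : Type u} [CommRing A] [Field k] [Field K] [Algebra A k] [Algebra k K]
    [Algebra A K] [IsScalarTower A k K] [FiniteDimensional k K] [IsPurelyInseparable k K] [CommRing B] [Algebra A B]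
    {d : ℕ} (hd : Module.finrank k K ∣ d) (ψ : B →ₐ[A] K) (x : ⨂[A] _ : Fin d, B)
    (hx : x ∈ SymTen.TS A B d) :
    ψ (PiTensorProduct.lift (MultilinearMap.mkPiAlgebra A (Fin d) B) x) ∈ Set.range (algebraMap k K) := by
  let T : (⨂[A] _ : Fin d, B) →ₗ[A] ⨂[k] _ : Fin d, K :=
    PiTensorProduct.lift (((PiTensorProduct.tprod k).restrictScalars A).compLinearMap fun _ => ψ.toLinearMap)
  have hT : ∀ (σ : Equiv.Perm (Fin d)) z, PiTensorProduct.reindex k (fun _ : Fin d => K) σ (T z) =
      T (PiTensorProduct.reindex A (fun _ : Fin d => B) σ z) := by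
    intro σ z
    induction z using PiTensorProduct.induction_on with
    | smul_tprod r f =>
      rw [map_smul T, map_smul (PiTensorProduct.reindex A (fun _ : Fin d => B) σ), map_smul T,
        ← IsScalarTower.algebraMap_smul k r (T (PiTensorProduct.tprod A f)), map_smul, IsScalarTower.algebraMap_smul]
      simp [T]
    | add a b ha hb => simp only [map_add, ha, hb]
  have hm : ∀ z, PiTensorProduct.lift (MultilinearMap.mkPiAlgebra k (Fin d) K) (T z) =
      ψ (PiTensorProduct.lift (MultilinearMap.mkPiAlgebra A (Fin d) B) z) := by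
    intro z
    induction z using PiTensorProduct.induction_on with
    | smul_tprod r f =>
      rw [map_smul T, ← IsScalarTower.algebraMap_smul k r (T (PiTensorProduct.tprod A f)), map_smul,
        IsScalarTower.algebraMap_smul, map_smul (PiTensorProduct.lift (MultilinearMap.mkPiAlgebra A (Fin d) B)),
        map_smul ψ]
      simp [T, map_prod]
    | add a b ha hb => simp only [map_add, ha, hb]
  rw [← hm]
  exact ChowTS.mul_mem_range_of_symmetric hd fun σ => by rw [hT, hx σ]

/-- Let C be a Noetherian seminormal A-algebra, g : C → C' an A-algebra map with C' reduced such that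
Spec C' → Spec C is a finite universal homeomorphism, and d ≥ 1 an integer divisible by every
residue degree [k(q) : k(g⁻¹q)]; let B be a flat A-algebra and φ : B → C' an A-algebra map. Then for
every symmetric tensor x ∈ TS^d_A(B) the element φ(m_d(x)) of C', m_d : B^{⊗d} → B the
multiplication, lies in the image of C. (The published statement does not assume C' reduced and is
false without it: take A = C = k a field, C' = k[ε]/(ε²), d = 1, B = k[t] and φ(t) = ε; then ε is
not in k.) -/
theorem result (A C C' B : Type u) [CommRing A] [CommRing C] [CommRing C'] [CommRing B]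
    [Algebra A C] [Algebra A C'] [Algebra A B] [IsNoetherianRing C] (hC : HTop.IsSeminormalRing C)
    (g : C →ₐ[A] C') [IsReduced C'] (hfin : g.toRingHom.Finite)
    (hg : FlatMor.IsUnivHomeo (Spec.map (CommRingCat.ofHom g.toRingHom)))
    (d : ℕ) (hd : 0 < d)
    (hdeg : ∀ q : PrimeSpectrum C',
      @Module.finrank (PrimeSpectrum.comap g.toRingHom q).asIdeal.ResidueField q.asIdeal.ResidueField _ _
          (Ideal.ResidueField.map (PrimeSpectrum.comap g.toRingHom q).asIdeal q.asIdeal g.toRingHom
            rfl).toAlgebra.toModule ∣ d)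
    [Module.Flat A B] (φ : B →ₐ[A] C') (x : ⨂[A] _ : Fin d, B) (hx : x ∈ SymTen.TS A B d) :
    φ (PiTensorProduct.lift (MultilinearMap.mkPiAlgebra A (Fin d) B) x) ∈ g.range := by
  letI : Algebra C C' := g.toRingHom.toAlgebra
  haveI : IsScalarTower A C C' := IsScalarTower.of_algebraMap_eq fun a => (g.commutes a).symm
  haveI : Algebra.IsIntegral C C' := ⟨fun z => AWNLib.isIntegral hg z⟩
  have hsurj : Function.Surjective (PrimeSpectrum.comap g.toRingHom) := AWNLib.comap_surjective hg
  have hinjS : Function.Injective (PrimeSpectrum.comap g.toRingHom) :=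
    @Scheme.Hom.injective _ _ (Spec.map (CommRingCat.ofHom g.toRingHom)) (UnivHomeo.universallyInjective hg)
  haveI := AWNLib.isReduced_of_isSeminormalRing hC
  have hinj : Function.Injective (algebraMap C C') := by
    refine (injective_iff_map_eq_zero _).2 fun c hc => IsReduced.eq_zero _ (mem_nilradical.1 ?_)
    rw [nilradical_eq_sInf, Ideal.mem_sInf]
    intro p hp
    obtain ⟨q, hq⟩ := hsurj ⟨p, hp⟩
    obtain rfl : q.asIdeal.comap g.toRingHom = p := congrArg PrimeSpectrum.asIdeal hq
    show g.toRingHom c ∈ q.asIdeal
    exact (hc : g.toRingHom c = 0) ▸ q.asIdeal.zero_mem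
  set b := φ (PiTensorProduct.lift (MultilinearMap.mkPiAlgebra A (Fin d) B) x) with hb
  have key : ∀ q : PrimeSpectrum C', ∃ u v : C, v ∉ (PrimeSpectrum.comap g.toRingHom q).asIdeal ∧
      b * algebraMap C C' v - algebraMap C C' u ∈ q.asIdeal := by
    intro q
    let f := Ideal.ResidueField.map (PrimeSpectrum.comap g.toRingHom q).asIdeal q.asIdeal g.toRingHom rfl
    letI : Algebra (PrimeSpectrum.comap g.toRingHom q).asIdeal.ResidueField q.asIdeal.ResidueField := f.toAlgebra
    have hf : ∀ c : C, f (algebraMap C _ c) = algebraMap C' q.asIdeal.ResidueField (g c) := fun c =>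
      Ideal.ResidueField.map_algebraMap _ _ g.toRingHom rfl c
    haveI : FiniteDimensional (PrimeSpectrum.comap g.toRingHom q).asIdeal.ResidueField q.asIdeal.ResidueField :=
      Module.finite_of_finrank_pos (Nat.pos_of_ne_zero fun h0 => hd.ne' (Nat.eq_zero_of_zero_dvd (h0 ▸ hdeg q)))
    haveI : IsScalarTower A (PrimeSpectrum.comap g.toRingHom q).asIdeal.ResidueField q.asIdeal.ResidueField :=
      IsScalarTower.of_algebraMap_eq fun a => by
        rw [IsScalarTower.algebraMap_apply A C (PrimeSpectrum.comap g.toRingHom q).asIdeal.ResidueField,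
          IsScalarTower.algebraMap_apply A C' q.asIdeal.ResidueField, RingHom.algebraMap_toAlgebra, hf, g.commutes]
    haveI : IsPurelyInseparable (PrimeSpectrum.comap g.toRingHom q).asIdeal.ResidueField q.asIdeal.ResidueField := by
      refine isPurelyInseparable_of_finSepDegree_eq_one ?_
      haveI : Subsingleton (Field.Emb (PrimeSpectrum.comap g.toRingHom q).asIdeal.ResidueField q.asIdeal.ResidueField) := by
        refine ⟨fun σ τ => ?_⟩
        have h := AWNLib.hom_ext hg (σ.toRingHom.comp (algebraMap C' _)) (τ.toRingHom.comp (algebraMap C' _))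
          (RingHom.ext fun c => by
            show σ (algebraMap C' q.asIdeal.ResidueField (g c)) = τ (algebraMap C' q.asIdeal.ResidueField (g c))
            rw [← hf, ← RingHom.algebraMap_toAlgebra f, σ.commutes, τ.commutes])
        refine AlgHom.coe_ringHom_injective (IsFractionRing.ringHom_ext (A := C' ⧸ q.asIdeal) fun z => ?_)
        obtain ⟨w, rfl⟩ := Ideal.Quotient.mk_surjective z
        exact RingHom.congr_fun h w
      exact le_antisymm (Finite.card_le_one_iff_subsingleton.2 inferInstance) Nat.card_pos
    obtain ⟨a, ha⟩ := algHom_mul_mem_range (hdeg q) ((IsScalarTower.toAlgHom A C' q.asIdeal.ResidueField).comp φ) x hx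
    obtain ⟨u', v', hv', rfl⟩ := IsFractionRing.div_surjective (A := C ⧸ (PrimeSpectrum.comap g.toRingHom q).asIdeal) a
    obtain ⟨u, rfl⟩ := Ideal.Quotient.mk_surjective u'
    obtain ⟨v, rfl⟩ := Ideal.Quotient.mk_surjective v'
    have hv : v ∉ (PrimeSpectrum.comap g.toRingHom q).asIdeal := fun h =>
      nonZeroDivisors.ne_zero hv' (Ideal.Quotient.eq_zero_iff_mem.2 h)
    refine ⟨u, v, hv, ?_⟩
    rw [← Ideal.algebraMap_residueField_eq_zero, map_sub, map_mul, sub_eq_zero]
    change f _ = algebraMap C' q.asIdeal.ResidueField b at ha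
    rw [map_div₀] at ha
    rw [RingHom.algebraMap_toAlgebra g.toRingHom]
    change _ * algebraMap C' q.asIdeal.ResidueField (g v) = algebraMap C' q.asIdeal.ResidueField (g u)
    rw [← ha, ← hf, ← hf]
    refine div_mul_cancel₀ _ ?_
    rw [map_ne_zero]
    exact fun h => hv (Ideal.algebraMap_residueField_eq_zero.1 h)
  choose u v hv huv using key
  let r := Function.surjInv hsurj
  have hr : ∀ y, PrimeSpectrum.comap g.toRingHom (r y) = y := Function.surjInv_eq hsurj
  obtain ⟨c, hc⟩ := PtFunNormal.mem_range_of_seminormal C hC hinj b (fun y => u (r y)) (fun y => v (r y))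
    (fun y => by have := hv (r y); rwa [hr] at this) (fun q y hy => by
      obtain rfl : y = PrimeSpectrum.comap g.toRingHom q := PrimeSpectrum.ext hy
      rw [hinjS (hr (PrimeSpectrum.comap g.toRingHom q))]
      exact huv q)
  exact ⟨c, hc⟩

end Groth.Agent.S13839
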