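import Groth.Statements.S13841
import Groth.Agent.BrauerClassLib.Period
-- import your own Groth.Agent.* helpers here

set_option autoImplicit false
universe u v
open scoped TensorProduct
open Brauer

namespace Groth.Agent.S13841

open Groth.Agent.BrauerClassLib

/-- Let k be a field and A a finite-dimensional central simple k-algebra of period n. Then A has index n
if and only if there is a finite field extension k' of k of degree coprime to n such that the index
of the k'-algebra k' ⊗_k A divides n. (The published statement is for a class of period n in H²(X,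
G_m) on a scheme X over k; this row is the case where X is the spectrum of k.) -/
theorem result (k : Type u) [Field k] (A : Type v) [Ring A] [Algebra k A]
    [Algebra.IsCentral k A] [IsSimpleRing A] [FiniteDimensional k A] (n : ℕ) (hper : CSAGal.IsPeriod k A n) :
    CSAGal.IsIndex k A n ↔
      ∃ (k' : Type u) (_ : Field k') (_ : Algebra k k') (_ : FiniteDimensional k k'),
        Nat.Coprime n (Module.finrank k k') ∧ ∃ d' : ℕ, CSAGal.IsIndex k' (k' ⊗[k] A) d' ∧ d' ∣ n := by
  obtain ⟨hn0, hno⟩ := (isPeriod_iff A n).1 hper
  constructor
  · intro hA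
    haveI := CSALib.isCentral_baseChange (k := k) (A := A) k
    haveI : IsSimpleRing (k ⊗[k] A) := CSALib.isSimpleRing_tensor' A k
    obtain ⟨d', hd'⟩ := exists_index (k := k) (k ⊗[k] A)
    exact ⟨k, inferInstance, Algebra.id k, inferInstance, by rw [Module.finrank_self]; exact Nat.coprime_one_right n,
      d', hd', (bc_index k hA hd').1⟩
  · rintro ⟨K, _, _, _, hcop, d', hd', hdn⟩
    obtain ⟨d, hd⟩ := exists_index (k := k) A
    have h1 : d ∣ n := (Nat.Coprime.dvd_of_dvd_mul_left (Nat.coprime_of_dvd fun q hq hqd hqL => Nat.Prime.not_dvd_one hq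
      (hcop ▸ Nat.dvd_gcd (prime_dvd hd (hno ▸ pow_orderOf_eq_one _) hq hqd) hqL)) (bc_index K hd hd').2).trans hdn
    rwa [Nat.dvd_antisymm h1 (hno ▸ orderOf_dvd_index hd)] at hd

end Groth.Agent.S13841
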