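import Groth.Statements.S13844
import Groth.Agent.FinBirLib.Smooth
import Groth.Agent.FibreComp.DimSpace
import Groth.Agent.GeomRedPtLib.RegSep
import Groth.Agent.GeomRedPtLib.SmoothPt

set_option autoImplicit false
universe u
open CategoryTheory CategoryTheory.Limits AlgebraicGeometry
attribute [local instance] Curv2.resAlgebra
open Curves

namespace Groth.Agent.S13844

open CategoryTheory CategoryTheory.Limits AlgebraicGeometry

open Groth.Agent
attribute [local instance] Curv2.stalkAlgebra
set_option backward.isDefEq.respectTransparency false

/-- Let K be a field and C a normal curve over K, namely an integral normal separated K-scheme of finite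
type of dimension one, and let S be a set of closed points of C whose residue fields are separable
over K. If the structure morphism of C is smooth at every point outside S, then it is smooth. (The
published statement takes S to be a closed subscheme finite étale over K, that is finitely many such
points; this row allows any set of closed points with separable residue fields.) -/
theorem result (K : Type u) [Field K] (C : Scheme.{u}) [C.Over (Spec (CommRingCat.of K))]
    [IsIntegral C] [IsSeparated (C ↘ (Spec (CommRingCat.of K)))] [LocallyOfFinitePresentation (C ↘ (Spec (CommRingCat.of K)))]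
    [QuasiCompact (C ↘ (Spec (CommRingCat.of K)))] (hN : ∀ x : C, IsIntegrallyClosed (C.presheaf.stalk x))
    (hdim : topologicalKrullDim C = 1) (S : Set C)
    (hS : ∀ x ∈ S, IsClosed ({x} : Set C) ∧ Algebra.IsSeparable K (C.residueField x))
    (hsm : ∀ x : C, x ∉ S → x ∈ (C ↘ (Spec (CommRingCat.of K))).smoothLocus) :
    AlgebraicGeometry.Smooth (C ↘ (Spec (CommRingCat.of K))) := by
  haveI : IsLocallyNoetherian C := LocallyOfFiniteType.isLocallyNoetherian (C ↘ (Spec (CommRingCat.of K)))
  have key : ∀ x : C, x ∈ (C ↘ (Spec (CommRingCat.of K))).smoothLocus := fun x => by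
    by_cases hx : x ∈ S
    · haveI := hN x
      haveI : Ring.KrullDimLE 1 (C.presheaf.stalk x) :=
        (Ring.krullDimLE_iff).2 ((FibreComp.ringKrullDim_stalk_le_topologicalKrullDim x).trans hdim.le)
      haveI : IsRegularLocalRing (C.presheaf.stalk x) := FinBirLib.isRegularLocalRing_of_normal_dimLE_one _
      haveI hs : Algebra.IsSeparable K (IsLocalRing.ResidueField (C.presheaf.stalk x)) := (hS x hx).2
      haveI : Algebra.FormallyEtale K (IsLocalRing.ResidueField (C.presheaf.stalk x)) :=
        Algebra.FormallyEtale.of_isSeparable K _
      haveI : Algebra.IsGeometricallyReduced K (IsLocalRing.ResidueField (C.presheaf.stalk x)) :=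
        S2451.result.1 inferInstance
      rw [GeomRedPtLib.mem_smoothLocus_iff_formallySmooth_stalk, GeomRedPtLib.formallySmooth_stalk_iff_isGeometricallyRegular]
      exact GeomRedPtLib.isGeometricallyRegular_of_separable_residue
    · exact hsm x hx
  rw [← Scheme.Hom.smoothLocus_eq_top_iff]
  exact top_le_iff.1 fun x _ => key x

end Groth.Agent.S13844
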