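import Groth.Statements.S13846
import Mathlib

set_option autoImplicit false
universe u v
open TwSh

namespace Groth.Agent.S13846

open DirectSum

/-- Let k be a field and V, W finite-dimensional ℤ-graded k-vector spaces, V = ⊕ V_i with V ≠ 0 and W =
⊕ W_i. Let φ : End_k(V) ≃ End_k(W) be a k-algebra isomorphism which sends every endomorphism
homogeneous of degree d (one mapping V_i into V_{i+d} for all i) to an endomorphism homogeneous of
degree d. Then there are an integer n and a k-linear isomorphism g : V ≅ W with g(V_i) = W_{i+n} for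
every i such that φ(f) = g ∘ f ∘ g⁻¹ for all f; moreover n is unique and g is unique up to a nonzero
scalar: if g' : V ≅ W satisfies g'(V_i) = W_{i+n'} for all i and φ(f) = g' ∘ f ∘ g'⁻¹ for all f,
then n' = n and g' = c·g for some c ∈ kˣ. (The published statement is about non-zero perfect
complexes over k: an isomorphism of their derived endomorphism algebras, as algebra objects of the
derived category, is induced by an isomorphism from the first complex to a shift of the second, for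
a unique shift and up to a unit; this row is its form for finite-dimensional ℤ-graded vector spaces,
to which the bounded derived category of a field is equivalent by taking cohomology.) -/
theorem result (k : Type u) [Field k] (V W : Type v) [AddCommGroup V] [Module k V] [FiniteDimensional k V] [Nontrivial V] [AddCommGroup W] [Module k W] [FiniteDimensional k W] (𝒱 : ℤ → Submodule k V) (h𝒱 : DirectSum.IsInternal 𝒱) (𝒲 : ℤ → Submodule k W) (h𝒲 : DirectSum.IsInternal 𝒲) (φ : Module.End k V ≃ₐ[k] Module.End k W) (hφ : ∀ (d : ℤ) (f : Module.End k V), (∀ (i : ℤ) (x : V), x ∈ 𝒱 i → f x ∈ 𝒱 (i + d)) → ∀ (i : ℤ) (y : W), y ∈ 𝒲 i → φ f y ∈ 𝒲 (i + d)) : ∃ (n : ℤ) (g : V ≃ₗ[k] W), (∀ i : ℤ, Submodule.map (g : V →ₗ[k] W) (𝒱 i) = 𝒲 (i + n)) ∧ (∀ f : Module.End k V, φ f = (g : V →ₗ[k] W) ∘ₗ f ∘ₗ (g.symm : W →ₗ[k] V)) ∧ ∀ (n' : ℤ) (g' : V ≃ₗ[k] W), (∀ i : ℤ, Submodule.map (g' : V →ₗ[k] W) (𝒱 i) = 𝒲 (i + n')) → (∀ f : Module.End k V, φ f = (g' : V →ₗ[k] W) ∘ₗ f ∘ₗ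 (g'.symm : W →ₗ[k] V)) → n' = n ∧ ∃ c : kˣ, ∀ x : V, g' x = c • g x := by
  classical
  letI dV : DirectSum.Decomposition 𝒱 := h𝒱.chooseDecomposition
  letI dW : DirectSum.Decomposition 𝒲 := h𝒲.chooseDecomposition
  obtain ⟨g, hg⟩ := φ.eq_linearEquivConjAlgEquiv
  have hφg : ∀ (f : Module.End k V) (y : W), φ f y = g (f (g.symm y)) := fun f y => by rw [hg]; rfl
  obtain ⟨i0, v0, hv0, hne⟩ : ∃ i, ∃ v ∈ 𝒱 i, v ≠ (0 : V) := by
    by_contra hc
    push Not at hc
    obtain ⟨v, hv⟩ := exists_ne (0 : V)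
    refine hv ?_
    refine DirectSum.Decomposition.inductionOn 𝒱 (motive := fun x : V => x = (0 : V)) rfl (fun {i} m => hc i m.1 m.2) (fun a b ha hb => by rw [ha, hb, add_zero]) v
  obtain ⟨μ, hμ⟩ := Module.Projective.exists_dual_eq_one k (x := (⟨v0, hv0⟩ : 𝒱 i0)) (fun h => hne (congrArg Subtype.val h))
  let lam : V →ₗ[k] k := μ ∘ₗ (DirectSum.component k ℤ (fun i => 𝒱 i) i0) ∘ₗ (DirectSum.decomposeLinearEquiv 𝒱).toLinearMap
  have hlam0 : lam v0 = 1 := by
    have e : DirectSum.decompose 𝒱 v0 i0 = ⟨v0, hv0⟩ := Subtype.ext (DirectSum.decompose_of_mem_same 𝒱 hv0)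
    show μ (DirectSum.decompose 𝒱 v0 i0) = 1
    rw [e, hμ]
  have hlam : ∀ l, ∀ x ∈ 𝒱 l, l ≠ i0 → lam x = 0 := fun l x hx hl => by
    have e : DirectSum.decompose 𝒱 x i0 = 0 := Subtype.ext (DirectSum.decompose_of_mem_ne 𝒱 hx hl)
    show μ (DirectSum.decompose 𝒱 x i0) = 0
    rw [e, map_zero]
  let E : V → Module.End k V := fun v => lam.smulRight v
  have hE : ∀ i, ∀ v ∈ 𝒱 i, ∀ (l : ℤ) (x : V), x ∈ 𝒱 l → E v x ∈ 𝒱 (l + (i - i0)) := fun i v hv l x hx => by
    rcases eq_or_ne l i0 with rfl | hl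
    · rw [add_sub_cancel]; exact (𝒱 i).smul_mem _ hv
    · show lam x • v ∈ _
      rw [hlam l x hx hl, zero_smul]; exact Submodule.zero_mem _
  obtain ⟨j0, hj0⟩ : ∃ j, g v0 ∈ 𝒲 j := by
    have key : ∀ j, ∀ w ∈ 𝒲 j, lam (g.symm w) • g v0 ∈ 𝒲 j := fun j w hw => by
      have := hφ (i0 - i0) (E v0) (hE i0 v0 hv0) j w hw
      rw [sub_self, add_zero, hφg] at this
      simpa [E] using this
    by_contra hc
    push Not at hc
    have hz : ∀ w : W, lam (g.symm w) = 0 := fun w => by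
      refine DirectSum.Decomposition.inductionOn 𝒲 (motive := fun w => lam (g.symm w) = 0) (by simp) (fun {j} m => ?_)
        (fun a b ha hb => by rw [map_add, map_add, ha, hb, add_zero]) w
      by_contra h
      refine hc j ?_
      have := (𝒲 j).smul_mem (lam (g.symm m.1))⁻¹ (key j m.1 m.2)
      rwa [smul_smul, inv_mul_cancel₀ h, one_smul] at this
    have := hz (g v0)
    rw [g.symm_apply_apply, hlam0] at this
    exact one_ne_zero this
  have hle : ∀ i, ∀ v ∈ 𝒱 i, g v ∈ 𝒲 (i + (j0 - i0)) := fun i v hv => by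
    have := hφ (i - i0) (E v) (hE i v hv) j0 (g v0) hj0
    rw [hφg, g.symm_apply_apply] at this
    simp only [E, LinearMap.smulRight_apply, hlam0, one_smul] at this
    rwa [show j0 + (i - i0) = i + (j0 - i0) by ring] at this
  have hdec : ∀ (x : V) (i : ℤ), g (DirectSum.decompose 𝒱 x i : V) = (DirectSum.decompose 𝒲 (g x) (i + (j0 - i0)) : W) := fun x i => by
    refine DirectSum.Decomposition.inductionOn 𝒱 (motive := fun x => g (DirectSum.decompose 𝒱 x i : V) = (DirectSum.decompose 𝒲 (g x) (i + (j0 - i0)) : W)) (by simp) (fun {l} m => ?_)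
      (fun a b ha hb => by simp [ha, hb]) x
    rcases eq_or_ne l i with rfl | hl
    · rw [DirectSum.decompose_of_mem_same 𝒱 m.2, DirectSum.decompose_of_mem_same 𝒲 (hle l m.1 m.2)]
    · rw [DirectSum.decompose_of_mem_ne 𝒱 m.2 hl, DirectSum.decompose_of_mem_ne 𝒲 (hle l m.1 m.2) (by omega), map_zero]
  refine ⟨j0 - i0, g, fun i => le_antisymm ?_ ?_, fun f => LinearMap.ext fun y => hφg f y, fun n' g' hg'1 hg'2 => ?_⟩
  · rintro _ ⟨v, hv, rfl⟩; exact hle i v hv
  · intro w hw
    refine ⟨(DirectSum.decompose 𝒱 (g.symm w) i : V), (DirectSum.decompose 𝒱 (g.symm w) i).2, ?_⟩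
    show g _ = w
    rw [hdec, g.apply_symm_apply, DirectSum.decompose_of_mem_same 𝒲 hw]
  · let c := lam (g.symm (g' v0))
    have hcg : ∀ x, g' x = c • g x := fun x => by
      have h1 : φ (E x) (g' v0) = g' x := by
        rw [hg'2]; simp [E, hlam0]
      rw [hφg] at h1
      rw [← h1]
      simp [E, c]
    have hc : c ≠ 0 := fun h => hne (g'.injective (by rw [hcg, h, zero_smul, map_zero]))
    refine ⟨?_, Units.mk0 c hc, hcg⟩
    have h2 : g' v0 ∈ 𝒲 (i0 + n') := hg'1 i0 ▸ Submodule.mem_map_of_mem hv0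
    have h3 : g' v0 ∈ 𝒲 j0 := by rw [hcg]; exact (𝒲 j0).smul_mem _ hj0
    by_contra hn
    have h4 := DirectSum.decompose_of_mem_ne 𝒲 h3 (show j0 ≠ i0 + n' by omega)
    rw [DirectSum.decompose_of_mem_same 𝒲 h2] at h4
    exact hne (g'.injective (by rw [h4, map_zero]))

end Groth.Agent.S13846
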