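import Groth.Statements.S13847
import Mathlib

set_option autoImplicit false
universe u v
open TwSh

namespace Groth.Agent.S13847

open Submodule
set_option backward.isDefEq.respectTransparency false
set_option maxHeartbeats 800000

variable {A : Type u} [Ring A]

/-- reduction of a linear map -/
noncomputable def bar {X Y : Type v} [AddCommGroup X] [Module A X] [AddCommGroup Y] [Module A Y] (f : X →ₗ[A] Y) :
    (X ⧸ Ring.jacobson A • (⊤ : Submodule A X)) →ₗ[A ⧸ Ring.jacobson A] (Y ⧸ Ring.jacobson A • (⊤ : Submodule A Y)) :=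
  { toFun := Submodule.mapQ _ _ f (Submodule.smul_top_le_comap_smul_top (Ring.jacobson A) f)
    map_add' := map_add _
    map_smul' := fun c z => by
      obtain ⟨r, rfl⟩ := Ideal.Quotient.mk_surjective c
      exact map_smul (Submodule.mapQ _ _ f (Submodule.smul_top_le_comap_smul_top (Ring.jacobson A) f)) r z }

lemma bar_mk {X Y : Type v} [AddCommGroup X] [Module A X] [AddCommGroup Y] [Module A Y] (f : X →ₗ[A] Y) (x : X) :
    bar f (Submodule.Quotient.mk x) = Submodule.Quotient.mk (f x) := rfl

lemma bar_comp {X Y Z : Type v} [AddCommGroup X] [Module A X] [AddCommGroup Y] [Module A Y] [AddCommGroup Z] [Module A Z]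
    (g : Y →ₗ[A] Z) (f : X →ₗ[A] Y) : bar (g ∘ₗ f) = bar g ∘ₗ bar f := by
  refine LinearMap.ext fun z => ?_
  obtain ⟨x, rfl⟩ := Submodule.Quotient.mk_surjective _ z; rfl

lemma exists_lift {X Y : Type v} [AddCommGroup X] [Module A X] [Module.Projective A X] [AddCommGroup Y] [Module A Y]
    (h : (X ⧸ Ring.jacobson A • (⊤ : Submodule A X)) →ₗ[A ⧸ Ring.jacobson A] (Y ⧸ Ring.jacobson A • (⊤ : Submodule A Y))) :
    ∃ f : X →ₗ[A] Y, bar f = h := by
  obtain ⟨f, hf⟩ := Module.projective_lifting_property (Submodule.mkQ (Ring.jacobson A • (⊤ : Submodule A Y)))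
    ((h.restrictScalars A).comp (Submodule.mkQ _)) (Submodule.mkQ_surjective _)
  refine ⟨f, LinearMap.ext fun z => ?_⟩
  obtain ⟨x, rfl⟩ := Submodule.Quotient.mk_surjective _ z
  exact LinearMap.congr_fun hf x

lemma bijective_of_bar {X Y : Type v} [AddCommGroup X] [Module A X] [Module.Finite A X] [AddCommGroup Y] [Module A Y]
    [Module.Finite A Y] [Module.Projective A Y] (f : X →ₗ[A] Y) (hb : Function.Bijective (bar f)) : Function.Bijective f := by
  have hs : Function.Surjective f := by
    let R := LinearMap.range f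
    have hfg : (⊤ : Submodule A (Y ⧸ R)).FG := Module.Finite.fg_top
    have h0 : (⊤ : Submodule A (Y ⧸ R)) = ⊥ := hfg.eq_bot_of_le_jacobson_smul (by
      intro z _
      obtain ⟨y, rfl⟩ := R.mkQ_surjective z
      obtain ⟨w, hw⟩ := hb.2 (Submodule.Quotient.mk y)
      obtain ⟨x, rfl⟩ := Submodule.Quotient.mk_surjective _ w
      rw [bar_mk, Submodule.Quotient.eq] at hw
      have h2 := Submodule.smul_top_le_comap_smul_top (Ring.jacobson A) R.mkQ hw
      rw [Submodule.mem_comap, map_sub] at h2
      rw [show R.mkQ (f x) = 0 from (Submodule.Quotient.mk_eq_zero _).2 ⟨x, rfl⟩, zero_sub] at h2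
      exact neg_mem_iff.1 h2)
    intro y
    have : R.mkQ y ∈ (⊤ : Submodule A (Y ⧸ R)) := trivial
    rw [h0, Submodule.mem_bot] at this
    exact (Submodule.Quotient.mk_eq_zero _).1 this
  refine ⟨?_, hs⟩
  obtain ⟨s, hs'⟩ := Module.projective_lifting_property f LinearMap.id hs
  have hfs : ∀ y, f (s y) = y := fun y => LinearMap.congr_fun hs' y
  let e : X →ₗ[A] X := LinearMap.id - s ∘ₗ f
  have he : ∀ x ∈ LinearMap.ker f, e x = x := fun x hx => by simp [e, LinearMap.mem_ker.1 hx]
  have hker : LinearMap.range e = LinearMap.ker f := le_antisymm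
    (by rintro _ ⟨x, rfl⟩; simp [e, hfs]) (fun x hx => ⟨x, he x hx⟩)
  have hfg : (LinearMap.ker f).FG := by rw [← hker, LinearMap.range_eq_map]; exact Module.Finite.fg_top.map _
  have hk : LinearMap.ker f = ⊥ := hfg.eq_bot_of_le_jacobson_smul fun x hx => by
    have h1 : (Submodule.Quotient.mk x : X ⧸ Ring.jacobson A • (⊤ : Submodule A X)) = 0 :=
      hb.1 (by rw [bar_mk, LinearMap.mem_ker.1 hx, map_zero]; rfl)
    have h2 : e x ∈ Submodule.map e (Ring.jacobson A • (⊤ : Submodule A X)) := Submodule.mem_map_of_mem ((Submodule.Quotient.mk_eq_zero _).1 h1)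
    rw [Submodule.map_smul'', Submodule.map_top, hker, he x hx] at h2
    exact h2
  exact LinearMap.ker_eq_bot.1 hk

/-- quasi-regular -/
def QR {E : Type v} [Ring E] (g : E) : Prop := ∀ y : E, ∃ z : E, z * (1 - y * g) = 1

lemma bar_eq_zero_iff {X : Type v} [AddCommGroup X] [Module A X] [Module.Finite A X] [Module.Projective A X]
    [IsSemisimpleModule (A ⧸ Ring.jacobson A) (X ⧸ Ring.jacobson A • (⊤ : Submodule A X))]
    (g : Module.End A X) : bar g = 0 ↔ QR g := by
  constructor
  · intro hg y
    have hb : bar ((1 : Module.End A X) - y * g) = LinearMap.id := by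
      refine LinearMap.ext fun z => ?_
      obtain ⟨x, rfl⟩ := Submodule.Quotient.mk_surjective _ z
      have h0 : (Submodule.Quotient.mk (g x) : X ⧸ Ring.jacobson A • (⊤ : Submodule A X)) = 0 := by rw [← bar_mk, hg]; rfl
      rw [bar_mk, LinearMap.sub_apply, Submodule.Quotient.mk_sub, Module.End.mul_apply, ← bar_mk y (g x), h0, map_zero, sub_zero]; rfl
    obtain ⟨u, hu⟩ := (Module.End.isUnit_iff _).2 (bijective_of_bar _ (by rw [hb]; exact Function.bijective_id))
    exact ⟨↑u⁻¹, by rw [← hu]; exact u.inv_mul⟩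
  · intro hq
    by_contra hne
    have hex : ∃ T : Submodule (A ⧸ Ring.jacobson A) (X ⧸ Ring.jacobson A • (⊤ : Submodule A X)), IsSimpleModule (A ⧸ Ring.jacobson A) T ∧ ¬ T ≤ LinearMap.ker (bar g) := by
      by_contra h
      push Not at h
      apply hne
      rw [← LinearMap.ker_eq_top, eq_top_iff]
      exact le_of_eq_of_le (IsSemisimpleModule.sSup_simples_eq_top _ _).symm (sSup_le fun T hT => h T hT)
    obtain ⟨T, hT, hTk⟩ := hex
    haveI := hT
    let gT := (bar g).comp T.subtype
    have hgT : gT ≠ 0 := fun h0 => hTk fun x hx => LinearMap.congr_fun h0 ⟨x, hx⟩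
    obtain hi | h0 := gT.injective_or_eq_zero
    · obtain ⟨p, hp⟩ := IsSemisimpleModule.extension_property gT hi LinearMap.id
      obtain ⟨y, hy⟩ := exists_lift (T.subtype ∘ₗ p)
      obtain ⟨z, hz⟩ := hq y
      haveI := IsSimpleModule.nontrivial (A ⧸ Ring.jacobson A) T
      obtain ⟨x, hx⟩ := exists_ne (0 : T)
      apply hx
      obtain ⟨x', hx'⟩ := Submodule.Quotient.mk_surjective _ (x : X ⧸ Ring.jacobson A • (⊤ : Submodule A X))
      have hfix : bar y (bar g x) = (x : X ⧸ Ring.jacobson A • (⊤ : Submodule A X)) := by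
        rw [hy]; exact congrArg Subtype.val (LinearMap.congr_fun hp x)
      have h1 := congrArg (fun f : Module.End A X => (Submodule.Quotient.mk (f x') : X ⧸ Ring.jacobson A • (⊤ : Submodule A X))) hz
      simp only [Module.End.mul_apply, Module.End.one_apply] at h1
      rw [← bar_mk z, LinearMap.sub_apply, Submodule.Quotient.mk_sub, Module.End.mul_apply, Module.End.one_apply, ← bar_mk y (g x'), ← bar_mk g x', hx', hfix, sub_self, map_zero] at h1
      exact Subtype.ext h1.symm
    · exact hgT h0

lemma card_le_length {R M : Type*} [Ring R] [AddCommGroup M] [Module R M] {k : ℕ} (ε : Fin k → Module.End R M)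
    (hid : ∀ i, ε i * ε i = ε i) (horth : ∀ i j, i ≠ j → ε i * ε j = 0) (hne : ∀ i, ε i ≠ 0) :
    (k : ℕ∞) ≤ Module.length R M := by
  classical
  let Φ : (Π i, LinearMap.range (ε i)) →ₗ[R] M := ∑ i, (LinearMap.range (ε i)).subtype.comp (LinearMap.proj i)
  have hi : Function.Injective Φ := by
    rw [injective_iff_map_eq_zero]
    intro v hv
    funext i
    have h1 := congrArg (ε i) hv
    simp only [Φ, LinearMap.sum_apply, map_sum, map_zero, LinearMap.comp_apply, LinearMap.proj_apply, Submodule.coe_subtype] at h1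
    have hv' : ∀ j, ∃ w, ε j w = (v j : M) := fun j => (v j).2
    rw [Finset.sum_eq_single i] at h1
    · obtain ⟨w, hw⟩ := hv' i
      rw [← hw, ← Module.End.mul_apply, hid, hw] at h1
      exact Subtype.ext h1
    · intro j _ hj
      obtain ⟨w, hw⟩ := hv' j
      rw [← hw, ← Module.End.mul_apply, horth i j hj.symm, LinearMap.zero_apply]
    · simp
  refine le_trans ?_ (Module.length_le_of_injective Φ hi)
  rw [Module.length_pi_of_fintype]
  calc (k : ℕ∞) = ∑ _i : Fin k, (1 : ℕ∞) := by simp
    _ ≤ _ := Finset.sum_le_sum fun i _ => Order.one_le_iff_pos.2 (Module.length_pos_iff.2 (by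
      rw [Submodule.nontrivial_iff_ne_bot, Ne, LinearMap.range_eq_bot]; exact hne i))

lemma le_of_ringEquiv {P Q : Type v} [AddCommGroup P] [Module A P] [Module.Finite A P] [Module.Projective A P]
    [AddCommGroup Q] [Module A Q] [Module.Finite A Q] [Module.Projective A Q]
    [IsSemisimpleRing (A ⧸ Ring.jacobson A)] {S : Type u} [AddCommGroup S] [Module (A ⧸ Ring.jacobson A) S]
    [IsSimpleModule (A ⧸ Ring.jacobson A) S] {a b : ℕ}
    (eP : (P ⧸ Ring.jacobson A • (⊤ : Submodule A P)) ≃ₗ[A ⧸ Ring.jacobson A] Fin a → S)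
    (eQ : (Q ⧸ Ring.jacobson A • (⊤ : Submodule A Q)) ≃ₗ[A ⧸ Ring.jacobson A] Fin b → S)
    (e : Module.End A P ≃+* Module.End A Q) : a ≤ b := by
  classical
  let ε : Fin a → Module.End (A ⧸ Ring.jacobson A) (P ⧸ Ring.jacobson A • (⊤ : Submodule A P)) := fun i =>
    eP.symm.toLinearMap ∘ₗ (LinearMap.single (A ⧸ Ring.jacobson A) (fun _ : Fin a => S) i ∘ₗ LinearMap.proj i) ∘ₗ eP.toLinearMap
  choose l hl using fun i => exists_lift (ε i)
  have hQR : ∀ g : Module.End A P, bar g = 0 ↔ bar (e g) = 0 := fun g => by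
    rw [bar_eq_zero_iff, bar_eq_zero_iff]
    constructor
    · intro h y
      obtain ⟨z, hz⟩ := h (e.symm y)
      refine ⟨e z, ?_⟩
      have := congrArg e hz
      rwa [map_mul, map_sub, map_one, map_mul, e.apply_symm_apply] at this
    · intro h y
      obtain ⟨z, hz⟩ := h (e y)
      refine ⟨e.symm z, e.injective ?_⟩
      rwa [map_mul, map_sub, map_one, map_mul, e.apply_symm_apply]
  have key : ∀ f g : Module.End A P, bar f = bar g → bar (e f) = bar (e g) := fun f g h => by
    have h0 : bar (f - g) = 0 := by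
      refine LinearMap.ext fun z => ?_
      obtain ⟨x, rfl⟩ := Submodule.Quotient.mk_surjective _ z
      rw [bar_mk, LinearMap.sub_apply, Submodule.Quotient.mk_sub, ← bar_mk, ← bar_mk, h, sub_self]; rfl
    have h1 := (hQR _).1 h0
    refine LinearMap.ext fun z => ?_
    obtain ⟨x, rfl⟩ := Submodule.Quotient.mk_surjective _ z
    have h2 := LinearMap.congr_fun h1 (Submodule.Quotient.mk x)
    rw [bar_mk, map_sub, LinearMap.sub_apply, Submodule.Quotient.mk_sub, LinearMap.zero_apply, sub_eq_zero] at h2
    rw [bar_mk, bar_mk]; exact h2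
  have hsp : ∀ i j : Fin a, ε i * ε j = if i = j then ε i else 0 := fun i j => by
    refine LinearMap.ext fun z => eP.injective (funext fun m => ?_)
    rw [Module.End.mul_apply]
    split_ifs with h
    · subst h; simp [ε]
    · simp [ε, Pi.single_eq_of_ne, h]
  have hlb := card_le_length (fun i => (bar (e (l i)) : Module.End (A ⧸ Ring.jacobson A) (Q ⧸ Ring.jacobson A • (⊤ : Submodule A Q))))
    (fun i => by
      show bar (e (l i)) ∘ₗ bar (e (l i)) = _
      rw [← bar_comp]
      show bar (e (l i) * e (l i)) = _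
      rw [← map_mul]
      refine key _ _ ?_
      show bar (l i ∘ₗ l i) = _
      rw [bar_comp, hl]
      exact (hsp i i).trans (if_pos rfl))
    (fun i j hij => by
      show bar (e (l i)) ∘ₗ bar (e (l j)) = _
      rw [← bar_comp]
      show bar (e (l i) * e (l j)) = _
      rw [← map_mul]
      refine (hQR _).1 ?_
      show bar (l i ∘ₗ l j) = _
      rw [bar_comp, hl, hl]
      exact (hsp i j).trans (if_neg hij))
    (fun i h => by
      have h0 := (hQR _).2 h
      rw [hl] at h0
      haveI := IsSimpleModule.nontrivial (A ⧸ Ring.jacobson A) S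
      obtain ⟨s, hs⟩ := exists_ne (0 : S)
      apply hs
      have := congrArg (fun f : Module.End _ _ => eP (f (eP.symm (Pi.single i s))) i) h0
      simpa [ε] using this)
  rw [eQ.length_eq, Module.length_pi_of_fintype] at hlb
  simp at hlb
  exact_mod_cast hlb

/-- Let A be a ring which is strongly local, that is, the quotient of A by its Jacobson radical J is a
simple left-Artinian ring, and let P and Q be finitely generated projective left A-modules. If
End_A(P) and End_A(Q) are isomorphic as rings, then P ≅ Q as A-modules. (The published assertion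
says more, that every ring isomorphism End_A(P) ≅ End_A(Q) is induced by an isomorphism P ≅ Q; that
is not correct for isomorphisms which are not linear over the centre — complex conjugation is a ring
automorphism of End_ℂ(ℂ) = ℂ induced by no ℂ-linear map — and this row keeps the existence of an
isomorphism P ≅ Q, which is what the first part of the printed proof establishes.) -/
theorem result (A : Type u) [Ring A] [IsSimpleRing (A ⧸ Ring.jacobson A)] [IsArtinianRing (A ⧸ Ring.jacobson A)] (P Q : Type v) [AddCommGroup P] [Module A P] [Module.Finite A P] [Module.Projective A P] [AddCommGroup Q] [Module A Q] [Module.Finite A Q] [Module.Projective A Q] (e : Module.End A P ≃+* Module.End A Q) : Nonempty (P ≃ₗ[A] Q) := by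
  let S : Ideal (A ⧸ Ring.jacobson A) := (IsAtomic.exists_atom (Ideal (A ⧸ Ring.jacobson A))).choose
  haveI hS : IsSimpleModule (A ⧸ Ring.jacobson A) S :=
    isSimpleModule_iff_isAtom.2 (IsAtomic.exists_atom (Ideal (A ⧸ Ring.jacobson A))).choose_spec
  haveI : IsSemisimpleRing (A ⧸ Ring.jacobson A) := inferInstance
  have iso : ∀ (X : Type v) [AddCommGroup X] [Module A X] [Module.Finite A X],
      ∃ n, Nonempty ((X ⧸ Ring.jacobson A • (⊤ : Submodule A X)) ≃ₗ[A ⧸ Ring.jacobson A] Fin n → S) := by
    intro X _ _ _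
    have h : IsIsotypicOfType (A ⧸ Ring.jacobson A) (X ⧸ Ring.jacobson A • (⊤ : Submodule A X)) S := by
      intro m _
      obtain ⟨I, ⟨em⟩⟩ := IsSemisimpleRing.exists_linearEquiv_ideal_of_isSimpleModule (A ⧸ Ring.jacobson A) m
      haveI := IsSimpleModule.congr em.symm
      exact ⟨em.trans ((IsSimpleRing.isIsotypic (A ⧸ Ring.jacobson A) (A ⧸ Ring.jacobson A)) S I).some⟩
    haveI : Module.Finite (A ⧸ Ring.jacobson A) (X ⧸ Ring.jacobson A • (⊤ : Submodule A X)) :=
      Module.Finite.of_restrictScalars_finite A _ _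
    exact h.linearEquiv_fun
  obtain ⟨a, ⟨eP⟩⟩ := iso P
  obtain ⟨b, ⟨eQ⟩⟩ := iso Q
  obtain rfl : a = b := le_antisymm (le_of_ringEquiv eP eQ e) (le_of_ringEquiv eQ eP e.symm)
  obtain ⟨f, hf⟩ := exists_lift (eP.trans eQ.symm).toLinearMap
  exact ⟨LinearEquiv.ofBijective f (bijective_of_bar f (by rw [hf]; exact (eP.trans eQ.symm).bijective))⟩

end Groth.Agent.S13847
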