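import Groth.Statements.S13848
import Mathlib

set_option autoImplicit false
universe u v
open TwSh

namespace Groth.Agent.S13848

/-- Let A be a ring with A/J a simple left-Artinian ring, J the Jacobson radical, and let P be a
non-zero finitely generated projective left A-module. An A-linear automorphism u of P which commutes
with every A-linear endomorphism of P (equivalently, induces the identity on End_A(P) by
conjugation) is scalar multiplication by a unique central element a of A: u(x) = a·x for all x ∈ P,
and a is determined by u. (So the automorphisms of P acting trivially on End_A(P) are exactly the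
central units of A acting by scalars; the published assertion does not exclude P = 0, where
uniqueness fails.) -/
theorem result (A : Type u) [Ring A] [IsSimpleRing (A ⧸ Ring.jacobson A)] [IsArtinianRing (A ⧸ Ring.jacobson A)] (P : Type v) [AddCommGroup P] [Module A P] [Module.Finite A P] [Module.Projective A P] [Nontrivial P] (u : P ≃ₗ[A] P) (hu : ∀ f : Module.End A P, (u : P →ₗ[A] P) ∘ₗ f = f ∘ₗ (u : P →ₗ[A] P)) : ∃! a : A, (∀ b : A, a * b = b * a) ∧ ∀ x : P, u x = a • x := by
  classical
  let J : Ideal A := Ring.jacobson A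
  -- the trace ideal
  let T : Submodule A A := ⨆ f : P →ₗ[A] A, LinearMap.range f
  have hTr : ∀ t ∈ T, ∀ b : A, t * b ∈ T := by
    intro t ht b
    induction ht using Submodule.iSup_induction' with
    | mem f y hy =>
      obtain ⟨z, rfl⟩ := hy
      exact Submodule.mem_iSup_of_mem ((LinearMap.toSpanSingleton A A b).comp f) ⟨z, by simp⟩
    | zero => simp
    | add y z _ _ hy hz => rw [add_mul]; exact add_mem hy hz
  obtain ⟨S, hS⟩ := (‹Module.Projective A P›).out
  have htop : T = ⊤ := by
    let π := Ideal.Quotient.mk (Ring.jacobson A)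
    have hsurj : Function.Surjective π := Ideal.Quotient.mk_surjective
    let T' : TwoSidedIdeal (A ⧸ Ring.jacobson A) := TwoSidedIdeal.mk' (π '' (T : Set A))
      ⟨0, T.zero_mem, map_zero _⟩
      (by rintro _ _ ⟨a, ha, rfl⟩ ⟨b, hb, rfl⟩; exact ⟨a + b, T.add_mem ha hb, map_add _ _ _⟩)
      (by rintro _ ⟨a, ha, rfl⟩; exact ⟨-a, T.neg_mem ha, map_neg _ _⟩)
      (by
        rintro x _ ⟨a, ha, rfl⟩
        obtain ⟨b, rfl⟩ := hsurj x
        exact ⟨b * a, T.smul_mem b ha, map_mul _ _ _⟩)
      (by
        rintro _ y ⟨a, ha, rfl⟩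
        obtain ⟨b, rfl⟩ := hsurj y
        exact ⟨a * b, hTr a ha b, map_mul _ _ _⟩)
    have hmem : ∀ x, x ∈ T' ↔ x ∈ π '' (T : Set A) := fun x => TwoSidedIdeal.mem_mk' _ _ _ _ _ _ x
    rcases eq_bot_or_eq_top T' with h | h
    · exfalso
      have hJ : ∀ t ∈ T, t ∈ Ring.jacobson A := by
        intro t ht
        have : π t ∈ T' := (hmem _).2 ⟨t, ht, rfl⟩
        rw [h] at this
        exact Ideal.Quotient.eq_zero_iff_mem.1 (by simpa using this)
      have hP : (⊤ : Submodule A P) ≤ Ring.jacobson A • (⊤ : Submodule A P) := by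
        intro x _
        rw [← hS x, Finsupp.linearCombination_apply]
        refine Submodule.sum_mem _ fun y _ => Submodule.smul_mem_smul (hJ _ ?_) trivial
        exact Submodule.mem_iSup_of_mem ((Finsupp.lapply y).comp S) ⟨x, rfl⟩
      exact top_ne_bot (Module.Finite.fg_top.eq_bot_of_le_jacobson_smul hP : (⊤ : Submodule A P) = ⊥)
    · have : (1 : A ⧸ Ring.jacobson A) ∈ T' := by rw [h]; trivial
      rw [hmem] at this
      obtain ⟨t, ht, ht1⟩ := this
      by_contra hne
      obtain ⟨m, hm, hTm⟩ := Ideal.exists_le_maximal T hne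
      apply hm.ne_top
      rw [Ideal.eq_top_iff_one]
      have hj : 1 - t ∈ Ring.jacobson A := by
        refine Ideal.Quotient.eq_zero_iff_mem.1 ?_
        rw [map_sub, map_one, ← ht1, sub_self]
      haveI := hm
      have hjm : 1 - t ∈ m := Ring.jacobson_le_of_isMaximal m hj
      simpa using add_mem hjm (hTm ht)
  obtain ⟨c, hc⟩ : ∃ c : A, ∀ x : P, u x = c • x := by
    have h1 : (1 : A) ∈ T := by rw [htop]; trivial
    suffices h : ∀ t ∈ T, ∃ c : A, ∀ x : P, t • u x = c • x by
      obtain ⟨c, hc⟩ := h 1 h1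
      exact ⟨c, fun x => by simpa using hc x⟩
    intro t ht
    induction ht using Submodule.iSup_induction' with
    | mem f y hy =>
      obtain ⟨z, rfl⟩ := hy
      refine ⟨f (u z), fun x => ?_⟩
      have h := LinearMap.congr_fun (hu ((LinearMap.toSpanSingleton A P x).comp f)) z
      simpa using h
    | zero => exact ⟨0, by simp⟩
    | add y z _ _ hy hz =>
      obtain ⟨c, hc⟩ := hy
      obtain ⟨d, hd⟩ := hz
      exact ⟨c + d, fun x => by rw [add_smul, add_smul, hc, hd]⟩
  have hfaith : ∀ a : A, (∀ x : P, a • x = 0) → a = 0 := by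
    intro a ha
    suffices h : ∀ t ∈ T, a * t = 0 by simpa using h 1 (by rw [htop]; trivial)
    intro t ht
    induction ht using Submodule.iSup_induction' with
    | mem f y hy =>
      obtain ⟨z, rfl⟩ := hy
      rw [← smul_eq_mul, ← map_smul, ha, map_zero]
    | zero => simp
    | add y z _ _ hy hz => rw [mul_add, hy, hz, add_zero]
  refine ⟨c, ⟨fun b => ?_, hc⟩, ?_⟩
  · refine sub_eq_zero.1 (hfaith _ fun x => ?_)
    rw [sub_smul, mul_smul, mul_smul, ← hc, ← hc, map_smul, sub_self]
  · rintro d ⟨-, hd⟩
    refine sub_eq_zero.1 (hfaith _ fun x => ?_)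
    rw [sub_smul, ← hd, ← hc, sub_self]

end Groth.Agent.S13848
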