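import Groth.Statements.S13860
import Mathlib
-- import your own Groth.Agent.* helpers here

set_option autoImplicit false
universe u v w
open ModRep

namespace Groth.Agent.S13860

/-- For k a field of characteristic p > 0, G a finite group and P a Sylow p-subgroup of G, a short exact
sequence of k[G]-modules has a k[G]-linear splitting exactly when it has a k[P]-linear one. Stated
here for the surjection of the sequence: a G-equivariant k-linear map g : B → C between k-linear
representations of G admits a G-equivariant k-linear section if and only if it admits a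
P-equivariant k-linear section. -/
theorem result {k : Type u} [Field k] (p : ℕ) [Fact p.Prime]
    [CharP k p] {G : Type v} [Group G] [Finite G] (P : Sylow p G)
    {B C : Type w} [AddCommGroup B] [Module k B] [AddCommGroup C] [Module k C]
    (ρB : Representation k G B) (ρC : Representation k G C)
    (g : B →ₗ[k] C) (hg : ∀ x : G, g ∘ₗ ρB x = ρC x ∘ₗ g) :
    (∃ s : C →ₗ[k] B, g ∘ₗ s = LinearMap.id ∧ ∀ x : G, s ∘ₗ ρC x = ρB x ∘ₗ s) ↔
      (∃ s : C →ₗ[k] B, g ∘ₗ s = LinearMap.id ∧ ∀ x : G, x ∈ P → s ∘ₗ ρC x = ρB x ∘ₗ s) := by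
  classical
  refine ⟨fun ⟨s, hs, he⟩ => ⟨s, hs, fun x _ => he x⟩, ?_⟩
  rintro ⟨s, hs, he⟩
  haveI : Fintype (G ⧸ (P : Subgroup G)) := Fintype.ofFinite _
  let m : ℕ := Fintype.card (G ⧸ (P : Subgroup G))
  have hm : (m : k) ≠ 0 := by
    rw [Ne, CharP.cast_eq_zero_iff k p]
    simpa [m, ← Nat.card_eq_fintype_card, Subgroup.index] using P.not_dvd_index
  let F : G → (C →ₗ[k] B) := fun x => ρB x ∘ₗ s ∘ₗ ρC x⁻¹
  have hF : ∀ x, ∀ q ∈ (P : Subgroup G), F (x * q) = F x := by
    intro x q hq
    apply LinearMap.ext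
    intro c
    simp only [F, LinearMap.comp_apply, mul_inv_rev, map_mul, Module.End.mul_apply]
    have h := LinearMap.congr_fun (he q hq) (ρC q⁻¹ (ρC x⁻¹ c))
    simp only [LinearMap.comp_apply] at h
    rw [← h, ← Module.End.mul_apply, ← map_mul, mul_inv_cancel, map_one, Module.End.one_apply]
  let T : C →ₗ[k] B := (m : k)⁻¹ • ∑ c : G ⧸ (P : Subgroup G), F c.out
  refine ⟨T, ?_, fun x => ?_⟩
  · apply LinearMap.ext
    intro v
    have e : ∀ y, g (F y v) = v := fun y => by
      simp only [F, LinearMap.comp_apply]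
      rw [show g (ρB y (s (ρC y⁻¹ v))) = ρC y (g (s (ρC y⁻¹ v))) from LinearMap.congr_fun (hg y) _,
        show g (s (ρC y⁻¹ v)) = ρC y⁻¹ v from LinearMap.congr_fun hs _, ← Module.End.mul_apply,
        ← map_mul, mul_inv_cancel, map_one, Module.End.one_apply]
    simp only [T, LinearMap.comp_apply, LinearMap.smul_apply, map_smul, LinearMap.sum_apply, map_sum, e,
      Finset.sum_const, Finset.card_univ, LinearMap.id_apply]
    rw [← Nat.cast_smul_eq_nsmul k, smul_smul, inv_mul_cancel₀ hm, one_smul]
  · apply LinearMap.ext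
    intro v
    simp only [T, LinearMap.comp_apply, LinearMap.smul_apply, map_smul, LinearMap.sum_apply, map_sum]
    congr 1
    refine (Fintype.sum_equiv (MulAction.toPerm x) _ _ fun c => ?_).symm
    have hq : ((x * c.out)⁻¹ * (x • c).out) ∈ (P : Subgroup G) := by
      refine QuotientGroup.eq.mp ?_
      rw [QuotientGroup.out_eq']
      conv_rhs => rw [← QuotientGroup.out_eq' c]
      rfl
    have e : F (x • c).out = F (x * c.out) := by
      rw [← hF (x * c.out) _ hq, mul_inv_cancel_left]
    show _ = F (x • c).out (ρC x v)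
    rw [e]
    simp only [F, LinearMap.comp_apply, mul_inv_rev, map_mul, Module.End.mul_apply]
    rw [← Module.End.mul_apply (ρC x⁻¹), ← map_mul, inv_mul_cancel, map_one, Module.End.one_apply]

end Groth.Agent.S13860
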