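import Groth.Statements.S13867
import Groth.Agent.QuotContrLib.Main

set_option autoImplicit false
universe u
open CategoryTheory MonoidalCategory CartesianMonoidalCategory MonObj GrpObj AlgebraicGeometry
open ParSch

namespace Groth.Agent.S13867

/-- Let k be an algebraically closed field, G a group scheme of finite type over k and H ⊆ H' closed
subgroup schemes of G. Let q : G → X and q' : G → X' be the quotients of G by H and by H' (fppf
quotients represented by schemes), f : X → X' the morphism with q ≫ f = q', and r : H' → Y the
quotient of H' by H. Then f is a contraction (proper, and O_{X'}(U) → O_X(f⁻¹ U) is an isomorphism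
for every open U of X') if and only if Y is proper over k and the global functions of Y reduce to k
(the map k → Γ(Y, O_Y) is an isomorphism). -/
theorem result
    (k : Type u) [Field k] [IsAlgClosed k]
    (G : Over (Spec (CommRingCat.of k))) [GrpObj G] [LocallyOfFiniteType G.hom] [QuasiCompact G.hom]
    (H H' : Over (Spec (CommRingCat.of k))) [GrpObj H] [GrpObj H']
    (iH : H ⟶ G) [IsMonHom iH] (hH : IsClosedImmersion iH.left)
    (iH' : H' ⟶ G) [IsMonHom iH'] (hH' : IsClosedImmersion iH'.left)
    (e : H ⟶ H') [IsMonHom e] (he : e ≫ iH' = iH)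
    (X X' Y : Over (Spec (CommRingCat.of k))) (q : G ⟶ X) (hq : RedSub.IsQuotient iH q) (q' : G ⟶ X') (hq' : RedSub.IsQuotient iH' q')
    (f : X ⟶ X') (hf : q ≫ f = q') (r : H' ⟶ Y) (hr : RedSub.IsQuotient e r) :
    (IsProper f.left ∧ ∀ U : X'.left.Opens, IsIso (f.left.app U)) ↔
      (IsProper Y.hom ∧ IsIso Y.hom.appTop) := by
  haveI : IsClosedImmersion iH'.left := hH'
  haveI : Mono iH' := Over.mono_of_mono_left iH'
  exact Groth.Agent.QuotContrLib.main iH iH' e he q hq q' hq' f hf r hr

end Groth.Agent.S13867
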