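import Groth.Statements.S1387
import Groth.Agent.QuasiSecLib.Criterion
import Groth.Agent.QuasiSecLib.Fibre

set_option autoImplicit false
universe u
open FlatMor

namespace Groth.Agent.S1387

open AlgebraicGeometry CategoryTheory Limits in
/-- Let f : X → S be dominant and locally of finite type with X and S irreducible, let η be the generic
point of S and s a point with dim X_s ≤ dim X_η, and let Z be a locally principal closed subscheme
of X (its ideal sheaf is generated by one section on an affine neighbourhood of each point) whose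
generic fibre is empty. Then, set-theoretically, the fibre of Z over s is a union of irreducible
components of the fibre of X over s. -/
theorem result {X S : Scheme.{u}} (f : X ⟶ S) [IrreducibleSpace ↑S] [IrreducibleSpace ↑X] [IsDominant f] [LocallyOfFiniteType f]
    (s : S) (hdim : topologicalKrullDim ↑(f.fiber s) ≤ topologicalKrullDim ↑(f.fiber (genericPoint ↑S)))
    (Z : X.IdealSheafData) (hZ : ∀ x : X, ∃ (U : X.Opens) (hU : IsAffineOpen U) (g : Γ(X, U)), x ∈ U ∧ Z.ideal ⟨U, hU⟩ = Ideal.span {g})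
    (hη : ∀ x ∈ (Z.support : Set ↑X), f x ≠ genericPoint ↑S) :
    ∀ x : ↑(f ⁻¹' {s}), (x : ↑X) ∈ (Z.support : Set ↑X) →
      ∃ C ∈ irreducibleComponents ↑(f ⁻¹' {s}), x ∈ C ∧ Subtype.val '' C ⊆ (Z.support : Set ↑X) := by
  intro x hxZ
  obtain ⟨U, hU, gg, hxU, hgg⟩ := hZ x.1
  let g := U.ι ≫ f
  let x₁ : ↥U.toScheme := ⟨x.1, hxU⟩
  haveI : Nonempty ↥U.toScheme := ⟨x₁⟩
  obtain ⟨c⟩ := Groth.Agent.DimFormulaLib.exists_chart g x₁
  have hle : (⊤ : (Spec (CommRingCat.of c.B)).Opens) ≤ (c.j ≫ U.ι) ⁻¹ᵁ U := fun z _ => (c.j z).2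
  let gB : c.B := (Scheme.ΓSpecIso (CommRingCat.of c.B)).hom ((c.j ≫ U.ι).appLE U ⊤ hle gg)
  have hsupp : ∀ z : PrimeSpectrum c.B, U.ι (c.j z) ∈ (Z.support : Set X) ↔ gB ∈ z.asIdeal := fun z => by
    have h1 : U.ι (c.j z) ∈ (Z.support : Set X) ↔ U.ι (c.j z) ∉ X.basicOpen gg := by
      have h := Set.ext_iff.1 (Z.coe_support_inter ⟨U, hU⟩) (U.ι (c.j z))
      simp only [Set.mem_inter_iff, SetLike.mem_coe] at h
      rw [and_iff_left (show U.ι (c.j z) ∈ U from (c.j z).2), and_iff_left (show U.ι (c.j z) ∈ U from (c.j z).2)] at h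
      refine h.trans ?_
      rw [hgg, Scheme.zeroLocus_span, Scheme.zeroLocus_singleton]
      rfl
    rw [h1]
    have h2 : U.ι (c.j z) ∈ X.basicOpen gg ↔ z ∈ PrimeSpectrum.basicOpen gB := by
      have h := basicOpen_eq_of_affine' ((c.j ≫ U.ι).appLE U ⊤ hle gg)
      rw [Scheme.basicOpen_appLE, top_inf_eq] at h
      exact SetLike.ext_iff.1 h z
    rw [h2]
    exact not_not
  obtain ⟨P₀, hP₀, hP₀min⟩ : ∃ P₀ : PrimeSpectrum c.B, U.ι (c.j P₀) = genericPoint X ∧ ∀ P, P₀ ≤ P := by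
    obtain ⟨P, -, hP⟩ := (c.push).exists_le (genericPoint_specializes (U.ι x₁))
    refine ⟨P, hP, fun P' => c.le_of_specializes (U.ι.isOpenEmbedding.isInducing.specializes_iff.1 ?_)⟩
    exact (show U.ι (c.j P) = genericPoint X from hP).symm ▸ genericPoint_specializes _
  have hdense : DenseRange f := Scheme.Hom.denseRange f
  obtain ⟨d, hd, hdimη, -⟩ := Groth.Agent.DimFormulaLib.genericFibre_dim f hdense
  have hfη : g (c.j P₀) = genericPoint S := by
    show f (U.ι (c.j P₀)) = _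
    rw [hP₀]
    exact Groth.Agent.DimFormulaLib.image_genericPoint f hdense
  have hres : ∀ z : PrimeSpectrum c.B, Groth.Agent.DimFormulaLib.resTrdegAt f (U.ι (c.j z)) =
      Algebra.trdeg (c.A ⧸ (PrimeSpectrum.comap (algebraMap c.A c.B) z).asIdeal) (c.B ⧸ z.asIdeal) := fun z =>
    (c.push).resTrdegAt_eq z
  have htr : Algebra.trdeg (c.A ⧸ (PrimeSpectrum.comap (algebraMap c.A c.B) P₀).asIdeal) (c.B ⧸ P₀.asIdeal) = d := by
    rw [← hres, hP₀, hd]
  let q := c.q
  let p := PrimeSpectrum.comap (algebraMap c.A c.B) q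
  have hjx : U.ι (c.j q) = x.1 := by rw [c.hq]; rfl
  have hgq : gB ∈ q.asIdeal := (hsupp q).1 (hjx.symm ▸ hxZ)
  obtain ⟨m, hm, hmq⟩ := Ideal.exists_minimalPrimes_le (I := p.asIdeal.map (algebraMap c.A c.B) ⊔ Ideal.span {gB}) (J := q.asIdeal)
    (sup_le (Ideal.map_le_iff_le_comap.2 le_rfl) ((Ideal.span_singleton_le_iff_mem _).2 hgq))
  let M : PrimeSpectrum c.B := ⟨m, hm.1.1⟩
  have hMp : PrimeSpectrum.comap (algebraMap c.A c.B) M = p :=
    PrimeSpectrum.ext (le_antisymm (Ideal.comap_mono hmq) (Ideal.map_le_iff_le_comap.1 (le_sup_left.trans hm.1.2)))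
  have hgM : gB ∈ M.asIdeal := hm.1.2 (le_sup_right (a := p.asIdeal.map (algebraMap c.A c.B)) (Ideal.subset_span rfl))
  have hfs : f (U.ι (c.j M)) = s := by
    show g (c.j M) = s
    rw [c.apply_j, hMp, show p = PrimeSpectrum.comap (algebraMap c.A c.B) c.q from rfl, ← c.apply_j, c.hq]
    exact x.2
  have key : ∀ z : PrimeSpectrum c.B, z ≤ M →
      PrimeSpectrum.comap (algebraMap c.A c.B) z = PrimeSpectrum.comap (algebraMap c.A c.B) M → z = M := by
    refine Groth.Agent.QuasiSecLib.vertical P₀ d htr gB (fun P _ hP hgP => hη _ ((hsupp P).2 hgP) ?_) M (hP₀min M) hgM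
      (fun z hzp hzM hgz => le_antisymm hzM (hm.2 ⟨z.isPrime, sup_le (Ideal.map_le_iff_le_comap.2
        (le_of_eq (congrArg PrimeSpectrum.asIdeal (hzp.trans hMp)).symm)) ((Ideal.span_singleton_le_iff_mem _).2 hgz)⟩ hzM))
      (fun z t hzp ht => ?_)
    · show g (c.j P) = _
      rw [c.apply_j, hP, ← c.apply_j, hfη]
    · have hzs : f (U.ι (c.j z)) = s := by
        show g (c.j z) = s
        rw [c.apply_j, hzp, ← c.apply_j]
        exact hfs
      have h := (Groth.Agent.QuasiSecLib.trdeg_le_dim f _ s hzs t ((hres z).trans ht)).trans (hdim.trans hdimη.le)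
      exact_mod_cast h
  haveI := Groth.Agent.FibreDimEt.quasiSober_fibre f s
  let ξ : ↑(f ⁻¹' {s}) := ⟨U.ι (c.j M), hfs⟩
  have hξx : ξ ⤳ x := by
    refine (subtype_specializes_iff _ _).2 ?_
    have h := (((PrimeSpectrum.le_iff_specializes M q).1 hmq).map c.j.continuous).map U.ι.continuous
    rwa [hjx] at h
  refine ⟨closure {ξ}, Groth.Agent.FlatDim.closure_mem_components ξ (fun w hw => ?_), specializes_iff_mem_closure.1 hξx, ?_⟩
  · have hw' := (subtype_specializes_iff _ _).1 hw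
    obtain ⟨z, hz, hzw⟩ := ((c.push).move M).exists_le hw'
    have hzp : PrimeSpectrum.comap (algebraMap c.A c.B) z = PrimeSpectrum.comap (algebraMap c.A c.B) M := by
      refine c.i.isOpenEmbedding.injective ?_
      rw [← c.apply_j, ← c.apply_j]
      show f (U.ι (c.j z)) = f (U.ι (c.j M))
      rw [hfs, show U.ι (c.j z) = w.1 from hzw]
      exact w.2
    have : w = ξ := Subtype.ext ((show U.ι (c.j z) = w.1 from hzw).symm.trans (by rw [key z hz hzp]))
    rw [this]
  · rintro _ ⟨w, hw, rfl⟩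
    exact ((subtype_specializes_iff _ _).1 (specializes_iff_mem_closure.2 hw)).mem_closed Z.support.isClosed ((hsupp M).2 hgM)

end Groth.Agent.S1387
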