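import Groth.Statements.S13872
import Groth.Agent.ZC.Tpow

set_option autoImplicit false
universe u
open scoped TensorProduct
open ZeroCyc

namespace Groth.Agent.S13872

/-- Let A be a commutative ring, B an A-algebra and d ≥ 1; let (C, γ) be the degree-d divided power
algebra Γ^d_A(B) with its universal multiplicative law γ : B → C of degree d (every multiplicative
law of degree d out of B factors uniquely through γ), and let φ : Γ^d_A(B) → TS^d_A(B) be the
canonical homomorphism to the symmetric tensors, taken as data characterised by: after any base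
change S, φ ∘ γ sends Σ_j s_j ⊗ b_j to Σ_{c : [d] → [n]} (∏_i s_{c(i)}) ⊗ (b_{c(1)} ⊗ ⋯ ⊗ b_{c(d)}),
i.e. φ corresponds to the law x ↦ x ⊗ ⋯ ⊗ x. Then d!·x = 0 for every x in the kernel of φ, and d!·y
lies in the image of φ for every symmetric tensor y ∈ TS^d_A(B). (The published statement also
asserts x^{d!} = 0 and y^{d!} in the image of φ; those two halves are a separate result and are not
restated here.) -/
theorem result {A B C : Type u} [CommRing A] [CommRing B] [Algebra A B] [CommRing C] [Algebra A C] (d : ℕ) (hd : 0 < d)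
    (γ : PolLaw.MulLaw A B C d) (hγ : PolLaw.IsGammaD γ) (φ : C →ₐ[A] SymTen.TS A B d)
    (hφ : ∀ (S : Type u) [CommSemiring S] [Algebra A S] (n : ℕ) (s : Fin n → S) (b : Fin n → B),
      ((SymTen.TS A B d).val.comp φ).toLinearMap.lTensor S (γ.law.toFun' S (∑ j, s j ⊗ₜ[A] b j)) =
        ∑ c : Fin d → Fin n, (∏ i, s (c i)) ⊗ₜ[A] PiTensorProduct.tprod A (fun i => b (c i))) :
    (∀ x : C, φ x = 0 → d.factorial • x = 0) ∧
      (∀ y : SymTen.TS A B d, d.factorial • y ∈ φ.range) := by
  have hpow := Groth.Agent.ZC.postcomp_eq_tpow hφ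
  let P := PiTensorProduct.lift (Groth.Agent.ZC.polar γ.law d)
  have key : PolLaw.postcomp (P ∘ₗ ((SymTen.TS A B d).val.comp φ).toLinearMap) γ.law =
      PolLaw.postcomp ((d.factorial : A) • (LinearMap.id : C →ₗ[A] C)) γ.law := by
    refine Groth.Agent.ZC.ext_coeff fun n b ν => ?_
    rw [Groth.Agent.ZC.coeff_postcomp, Groth.Agent.ZC.coeff_postcomp, LinearMap.comp_apply,
      ← Groth.Agent.ZC.coeff_postcomp, hpow, Groth.Agent.ZC.lift_polar_coeff γ.homog]
    rfl
  refine ⟨fun x hx => ?_, fun y => ?_⟩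
  · have h := Groth.Agent.ZC.postcomp_ext key
      (Groth.Agent.ZC.coeffSpan_eq_top hγ ▸ Submodule.mem_top : x ∈ Groth.Agent.ZC.coeffSpan γ.law)
    simp only [LinearMap.comp_apply, AlgHom.toLinearMap_apply, AlgHom.coe_comp, Function.comp_apply, hx, map_zero,
      LinearMap.smul_apply, LinearMap.id_coe, id_eq] at h
    rw [← Nat.cast_smul_eq_nsmul A]
    exact h.symm
  · have h := Groth.Agent.ZC.smul_mem_coeffSpan y.2
    rw [← hpow, Groth.Agent.ZC.coeffSpan_postcomp] at h
    obtain ⟨c, -, hc⟩ := h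
    refine ⟨c, Subtype.ext ?_⟩
    rw [← Nat.cast_smul_eq_nsmul A]
    exact hc

end Groth.Agent.S13872
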