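import Groth.Statements.S13875
import Groth.Agent.DetLawNormal.Basic
import Groth.Agent.ZC.Lift

set_option autoImplicit false
universe u
open scoped TensorProduct
open ZeroCyc

namespace Groth.Agent.S13875

/-- Affine form of the determinant law over a normal base. Let A be an integrally closed domain with
fraction field K, B a commutative A-algebra and M a B-module that is finitely generated as an
A-module (not necessarily flat over A), and let d be the generic rank of M, the dimension of the
K-vector space K ⊗_A M. Then there is exactly one multiplicative polynomial law N : B → A over A,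
homogeneous of degree d, such that for every n and every x ∈ A[t_1, …, t_n] ⊗_A B the value N(x) ∈
A[t_1, …, t_n], read in the fraction field L of A[t_1, …, t_n], is the determinant of x acting on
the finite-dimensional L-vector space L ⊗_A M. (Over a general test algebra the law is the unique
extension of these members; for M free of rank d over A it is the determinant law of M.) -/
theorem result {A B M : Type u} [CommRing A] [IsDomain A] [IsIntegrallyClosed A]
    [CommRing B] [Algebra A B] [AddCommGroup M] [Module A M] [Module B M] [IsScalarTower A B M] [Module.Finite A M]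
    (d : ℕ) (hd : Module.finrank (FractionRing A) (FractionRing A ⊗[A] M) = d) :
    ∃! N : PolLaw.MulLaw A B A d, ∀ (n : ℕ) (x : MvPolynomial (Fin n) A ⊗[A] B),
      algebraMap (MvPolynomial (Fin n) A) (FractionRing (MvPolynomial (Fin n) A))
          (TensorProduct.rid A (MvPolynomial (Fin n) A) (N.law.toFun' (MvPolynomial (Fin n) A) x)) =
        LinearMap.det (PolLaw.actEnd M (FractionRing (MvPolynomial (Fin n) A))
          (Algebra.TensorProduct.map
            (IsScalarTower.toAlgHom A (MvPolynomial (Fin n) A) (FractionRing (MvPolynomial (Fin n) A)))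
            (AlgHom.id A B) x)) := by
  classical
  choose f hf using fun n => DetLawNormal.detK_mem (A := A) (B := B) (M := M) n
  have hinj := fun n => DetLawNormal.incl_injective (A := A) n
  let T : ∀ n : ℕ, MvPolynomial (Fin n) A ⊗[A] B → MvPolynomial (Fin n) A ⊗[A] A :=
    fun n x => f n x ⊗ₜ[A] (1 : A)
  have hcomp : ∀ {n m : ℕ} (φ : MvPolynomial (Fin n) A →ₐ[A] MvPolynomial (Fin m) A) (x), φ (f n x) =
      f m (Algebra.TensorProduct.map φ (AlgHom.id A B) x) := by
    intro n m φ x
    apply hinj m
    let ψ : DetLawNormal.KP A n →ₐ[A] DetLawNormal.KP A m :=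
      (MvPolynomial.aeval (fun i => DetLawNormal.incl A m (φ (MvPolynomial.X i))) :
        DetLawNormal.KP A n →ₐ[FractionRing A] DetLawNormal.KP A m).restrictScalars A
    have hψ : ψ.comp (DetLawNormal.incl A n) = (DetLawNormal.incl A m).comp φ :=
      MvPolynomial.algHom_ext fun i => by simp [ψ, DetLawNormal.incl]
    have hmap : ∀ y : MvPolynomial (Fin n) A ⊗[A] B,
        Algebra.TensorProduct.map ((DetLawNormal.incl A m).comp φ) (AlgHom.id A B) y =
        Algebra.TensorProduct.map (DetLawNormal.incl A m) (AlgHom.id A B)
          (Algebra.TensorProduct.map φ (AlgHom.id A B) y) := by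
      intro y
      induction y using TensorProduct.induction_on with
      | zero => simp
      | tmul s b => rfl
      | add x y hx hy => simp only [map_add, hx, hy]
    rw [hf, DetLawNormal.detK, ← hmap]
    rw [DetLawNormal.detK_natural' _ ψ hψ, ← hf n x]
    exact (AlgHom.congr_fun hψ (f n x)).symm
  have hnat : ∀ (n m : ℕ) (φ : MvPolynomial (Fin n) A →ₐ[A] MvPolynomial (Fin m) A),
      φ.toLinearMap.rTensor A ∘ T n = T m ∘ φ.toLinearMap.rTensor B := by
    intro n m φ
    funext x
    show φ (f n x) ⊗ₜ[A] (1 : A) = f m (φ.toLinearMap.rTensor B x) ⊗ₜ[A] (1 : A)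
    rw [hcomp, PolLaw.rTensor_algHom_apply]
  obtain ⟨F, hF⟩ := (Groth.Agent.S13174.result (M := B) (N := A)).surjective ⟨T, hnat⟩
  have hFn : ∀ n x, F.toFun' (MvPolynomial (Fin n) A) x = f n x ⊗ₜ[A] (1 : A) := fun n x =>
    congrFun (congrFun (congrArg Subtype.val hF) n) x
  have hhom : PolLaw.IsHomog F d := by
    intro S _ _ s x
    obtain ⟨n, ψ, p, -, r, rfl, -, rfl⟩ := Groth.Agent.ZC.exists_lift₂ x x s
    have hs : ∀ {P : Type u} [AddCommGroup P] [Module A P] (c : MvPolynomial (Fin n) A)
        (z : MvPolynomial (Fin n) A ⊗[A] P), ψ.toLinearMap.rTensor P (c • z) = ψ c • ψ.toLinearMap.rTensor P z :=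
      fun c z => by
      induction z using TensorProduct.induction_on with
      | zero => simp
      | tmul a b => simp [LinearMap.rTensor_tmul, TensorProduct.smul_tmul']
      | add a b ha hb => rw [smul_add, map_add, map_add, ha, hb, smul_add]
    have key : F.toFun' _ (r • p) = r ^ d • F.toFun' _ p := by
      rw [hFn, hFn, TensorProduct.smul_tmul', smul_eq_mul]
      congr 1
      apply hinj n
      rw [hf, DetLawNormal.detK_smul hd, map_mul, hf]
    rw [← hs, ← PolynomialLaw.isCompat_apply', key, hs, map_pow, PolynomialLaw.isCompat_apply']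
  have hmult : PolLaw.IsMult F := fun S _ _ => by
    refine Groth.Agent.ZC.mult_of_poly F (fun n => ?_) (fun n x y => ?_) S
    · rw [hFn, Algebra.TensorProduct.one_def]
      congr 1
      apply hinj n
      rw [hf, map_one]
      exact DetLawNormal.detK_one (M := M) n
    · rw [hFn, hFn, hFn, Algebra.TensorProduct.tmul_mul_tmul, mul_one]
      congr 1
      apply hinj n
      rw [hf, map_mul, hf, hf]
      exact DetLawNormal.detK_mul (M := M) n x y
  have hval : ∀ (n : ℕ) (x : MvPolynomial (Fin n) A ⊗[A] B),
      algebraMap (MvPolynomial (Fin n) A) (FractionRing (MvPolynomial (Fin n) A)) (f n x) =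
        LinearMap.det (PolLaw.actEnd M (FractionRing (MvPolynomial (Fin n) A))
          (Algebra.TensorProduct.map
            (IsScalarTower.toAlgHom A (MvPolynomial (Fin n) A) (FractionRing (MvPolynomial (Fin n) A)))
            (AlgHom.id A B) x)) := by
    intro n x
    let L := FractionRing (MvPolynomial (Fin n) A)
    have hAL : Function.Injective (algebraMap A L) := by
      rw [IsScalarTower.algebraMap_eq A (MvPolynomial (Fin n) A) L]
      exact (IsFractionRing.injective (MvPolynomial (Fin n) A) L).comp (MvPolynomial.C_injective _ _)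
    let j : FractionRing A →+* L := IsFractionRing.lift hAL
    let ψ : DetLawNormal.KP A n →ₐ[A] L :=
      { MvPolynomial.eval₂Hom j (fun i => algebraMap (MvPolynomial (Fin n) A) L (MvPolynomial.X i)) with
        commutes' := fun a => by
          show MvPolynomial.eval₂Hom j _ (algebraMap A (DetLawNormal.KP A n) a) = _
          rw [IsScalarTower.algebraMap_apply A (FractionRing A) (DetLawNormal.KP A n), MvPolynomial.algebraMap_eq,
            MvPolynomial.eval₂Hom_C]
          exact IsFractionRing.lift_algebraMap hAL a }
    have hψ : ψ.comp (DetLawNormal.incl A n) = IsScalarTower.toAlgHom A (MvPolynomial (Fin n) A) L :=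
      MvPolynomial.algHom_ext fun i => by simp [ψ, DetLawNormal.incl]
    have := DetLawNormal.detK_natural' (M := M) _ ψ hψ x
    rw [← hf n x] at this
    exact ((AlgHom.congr_fun hψ (f n x)).symm.trans this.symm)
  refine ⟨⟨F, hhom, hmult⟩, fun n x => ?_, fun N hN => ?_⟩
  · rw [← hval n x, hFn, TensorProduct.rid_tmul, one_smul]
  · refine PolLaw.MulLaw.ext ((Groth.Agent.S13174.result (M := B) (N := A)).injective (Subtype.ext ?_))
    funext n x
    refine (TensorProduct.rid A _).injective (IsFractionRing.injective (MvPolynomial (Fin n) A)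
      (FractionRing (MvPolynomial (Fin n) A)) ?_)
    show algebraMap _ _ (TensorProduct.rid A _ (N.law.toFun' _ x)) = algebraMap _ _ (TensorProduct.rid A _ (F.toFun' _ x))
    rw [hN n x, ← hval n x, hFn, TensorProduct.rid_tmul, one_smul]

end Groth.Agent.S13875
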