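import Groth.Statements.S13877
import Groth.Agent.OrdDet.Main
import Mathlib

set_option autoImplicit false
universe u v
open Crimp

namespace Groth.Agent.S13877

open Matrix
set_option backward.isDefEq.respectTransparency false
set_option maxHeartbeats 800000

lemma length_quot_maximal {A : Type*} [CommRing A] {a : A} (h : (Ideal.span {a}).IsMaximal) :
    Module.length A (A ⧸ Ideal.span {a}) = 1 := by
  haveI := h
  haveI : IsSimpleModule A (A ⧸ Ideal.span {a}) := isSimpleModule_iff_isCoatom.2 (Ideal.isMaximal_def.1 h)
  exact Module.length_eq_one A (A ⧸ Ideal.span {a})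

lemma ord_X_pow_mul {k : Type u} [Field k] (c : ℕ) (v : PowerSeries k) (hv : IsUnit v) :
    Ring.ord (PowerSeries k) (PowerSeries.X ^ c * v) = c := by
  have hX : Ring.ord (PowerSeries k) PowerSeries.X = 1 := by
    refine length_quot_maximal ?_
    rw [← PowerSeries.maximalIdeal_eq_span_X]
    exact IsLocalRing.maximalIdeal.isMaximal _
  have hne : (PowerSeries.X : PowerSeries k) ∈ nonZeroDivisors (PowerSeries k) :=
    mem_nonZeroDivisors_of_ne_zero PowerSeries.X_ne_zero
  induction c with
  | zero => simpa using Ring.ord_of_isUnit hv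
  | succ c ih =>
    rw [pow_succ', mul_assoc, Ring.ord_mul _ (mem_nonZeroDivisors_of_ne_zero
      (mul_ne_zero (pow_ne_zero _ PowerSeries.X_ne_zero) hv.ne_zero)), hX, ih, add_comm]
    norm_cast

/-- Over R = k⟦t⟧ with k an algebraically closed field of characteristic zero, let S' be a commutative
R-algebra with an R-basis of size d whose discriminant generates the ideal (t ^ a) (a finite cover
of the formal disk of degree d, unramified over the punctured disk, with branch divisor (t ^ a)),
and let S be an R-subalgebra of S' with an R-basis of size d whose discriminant generates (t ^ b) (a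
crimp with branch divisor (t ^ b)). Then t ^ b annihilates S' / S and twice the R-length of S' / S
plus a equals b. (The published statement is for a family of such subalgebras over a k-scheme T and
also asserts T-flatness of the quotient; this row is its restriction to T a point.) -/
theorem result {k : Type u} [Field k] [IsAlgClosed k] [CharZero k]
    {St : Type v} [CommRing St] [Algebra (PowerSeries k) St] (d a b : ℕ)
    (bt : Module.Basis (Fin d) (PowerSeries k) St)
    (ha : Ideal.span {Algebra.discr (PowerSeries k) ⇑bt} = Ideal.span {(PowerSeries.X : PowerSeries k) ^ a})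
    (S : Subalgebra (PowerSeries k) St) (bS : Module.Basis (Fin d) (PowerSeries k) S)
    (hb : Ideal.span {Algebra.discr (PowerSeries k) ⇑bS} = Ideal.span {(PowerSeries.X : PowerSeries k) ^ b}) :
    (∀ q : St ⧸ Subalgebra.toSubmodule S, ((PowerSeries.X : PowerSeries k) ^ b) • q = 0) ∧
    2 * Module.length (PowerSeries k) (St ⧸ Subalgebra.toSubmodule S) + (a : ℕ∞) = (b : ℕ∞) := by
  classical
  let P : Matrix (Fin d) (Fin d) (PowerSeries k) := Matrix.of fun i j => bt.repr (bS j : St) i
  have hcol : ∀ j, (bS j : St) = ∑ i, P i j • bt i := fun j => (bt.sum_repr _).symm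
  have hPmul : ∀ v : Fin d → PowerSeries k, ∑ i, (P *ᵥ v) i • bt i = ((∑ j, v j • bS j : S) : St) := by
    intro v
    simp only [AddSubmonoidClass.coe_finsetSum, Subalgebra.coe_smul, hcol, Finset.smul_sum, smul_smul,
      Matrix.mulVec, dotProduct, Finset.sum_smul]
    rw [Finset.sum_comm]
    simp only [mul_comm]
  have hdet : P.det ≠ 0 := fun h0 => by
    obtain ⟨v, hv0, hv⟩ := Matrix.exists_mulVec_eq_zero_iff.2 h0
    have h1 := hPmul v
    rw [hv] at h1
    simp only [Pi.zero_apply, zero_smul, Finset.sum_const_zero] at h1
    exact hv0 (funext fun j => Fintype.linearIndependent_iff.1 bS.linearIndependent v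
      (Subtype.ext h1.symm) j)
  -- traces on `S` are traces on `St`
  have htr : ∀ x : S, Algebra.trace (PowerSeries k) S x = Algebra.trace (PowerSeries k) St (x : St) := by
    intro x
    rw [Algebra.trace_eq_matrix_trace bS, Algebra.trace_eq_matrix_trace bt]
    have h1 : Algebra.leftMulMatrix bt (x : St) * P = P * Algebra.leftMulMatrix bS x := by
      refine Matrix.ext fun i j => ?_
      have h2 := congrArg (fun z => bt.repr z i) (congrArg Subtype.val (bS.sum_repr (x * bS j)))
      simp only [AddSubmonoidClass.coe_finsetSum, Subalgebra.coe_smul, map_sum, map_smul, Finsupp.coe_finsetSum,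
        Finset.sum_apply, Finsupp.coe_smul, Pi.smul_apply, smul_eq_mul] at h2
      rw [Matrix.mul_apply, Matrix.mul_apply]
      calc ∑ l, Algebra.leftMulMatrix bt (x : St) i l * P l j
          = bt.repr ((x : St) * (bS j : St)) i := by
            rw [hcol j, Finset.mul_sum, map_sum, Finsupp.coe_finsetSum, Finset.sum_apply]
            exact Finset.sum_congr rfl fun l _ => by
              rw [mul_smul_comm, map_smul, Algebra.leftMulMatrix_eq_repr_mul, Finsupp.smul_apply, smul_eq_mul, mul_comm]
        _ = _ := h2.symm.trans (Finset.sum_congr rfl fun l _ => by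
              rw [Algebra.leftMulMatrix_eq_repr_mul]; exact mul_comm _ _)
    have h3 : P.det * (Algebra.leftMulMatrix bt (x : St)).trace = P.det * (Algebra.leftMulMatrix bS x).trace := by
      calc P.det * (Algebra.leftMulMatrix bt (x : St)).trace
          = (Algebra.leftMulMatrix bt (x : St) * (P * P.adjugate)).trace := by
            simp [Matrix.mul_adjugate, Matrix.trace_smul]
        _ = (P * Algebra.leftMulMatrix bS x * P.adjugate).trace := by rw [← Matrix.mul_assoc, h1]
        _ = P.det * (Algebra.leftMulMatrix bS x).trace := by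
            rw [Matrix.trace_mul_comm, ← Matrix.mul_assoc, Matrix.adjugate_mul]
            simp [Matrix.trace_smul]
    exact (mul_left_cancel₀ hdet h3).symm
  have hdiscr : Algebra.discr (PowerSeries k) ⇑bS = P.det ^ 2 * Algebra.discr (PowerSeries k) ⇑bt := by
    rw [← Algebra.discr_of_matrix_vecMul, Algebra.discr_def, Algebra.discr_def]
    congr 1
    ext i j
    simp only [Algebra.traceMatrix_apply, Algebra.traceForm_apply, htr, MulMemClass.coe_mul]
    congr 2 <;> simp [Matrix.vecMul, dotProduct, hcol, Algebra.smul_def, mul_comm]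
  obtain ⟨c, v, hv, hc⟩ : ∃ (c : ℕ) (v : PowerSeries k), IsUnit v ∧ P.det = PowerSeries.X ^ c * v :=
    ⟨(P.det.order).toNat, PowerSeries.divXPowOrder P.det,
      PowerSeries.isUnit_divided_by_X_pow_order hdet, (PowerSeries.X_pow_order_mul_divXPowOrder).symm⟩
  have hb' : 2 * c + a = b := by
    rw [hdiscr, hc] at hb
    obtain ⟨w, hw⟩ := Ideal.span_singleton_eq_span_singleton.1 hb
    obtain ⟨w', hw'⟩ := Ideal.span_singleton_eq_span_singleton.1 ha
    have h1 := congrArg PowerSeries.order hw
    have h2 := congrArg PowerSeries.order hw'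
    rw [PowerSeries.order_mul, PowerSeries.order_X_pow] at h1 h2
    rw [PowerSeries.order_zero_of_unit w.isUnit, add_zero] at h1
    rw [PowerSeries.order_zero_of_unit w'.isUnit, add_zero] at h2
    rw [PowerSeries.order_mul, PowerSeries.order_pow, PowerSeries.order_mul, PowerSeries.order_X_pow,
      PowerSeries.order_zero_of_unit hv, add_zero, h2, nsmul_eq_mul] at h1
    exact_mod_cast h1
  refine ⟨fun q => ?_, ?_⟩
  · obtain ⟨z, rfl⟩ := Submodule.Quotient.mk_surjective _ q
    rw [← Submodule.Quotient.mk_smul, Submodule.Quotient.mk_eq_zero]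
    obtain ⟨e, he⟩ := Nat.exists_eq_add_of_le (show c ≤ b by omega)
    obtain ⟨v', hv'⟩ := hv.exists_left_inv
    have h1 := hPmul (P.adjugate *ᵥ fun i => bt.repr z i)
    rw [Matrix.mulVec_mulVec, Matrix.mul_adjugate, Matrix.smul_mulVec, Matrix.one_mulVec] at h1
    simp only [Pi.smul_apply, smul_eq_mul, mul_smul, ← Finset.smul_sum, bt.sum_repr] at h1
    have h2 : (PowerSeries.X : PowerSeries k) ^ b • z = (PowerSeries.X ^ e * v') • (P.det • z) := by
      rw [smul_smul, hc, he, pow_add]
      congr 1
      linear_combination (-(PowerSeries.X ^ c * PowerSeries.X ^ e : PowerSeries k)) * hv'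
    rw [h2, h1]
    exact Submodule.smul_mem _ _ (SetLike.coe_mem _)
  · have hlen : Module.length (PowerSeries k) (St ⧸ Subalgebra.toSubmodule S) = c := by
      have hr : (Subalgebra.toSubmodule S).map bt.equivFun.toLinearMap = LinearMap.range P.mulVecLin := by
        ext y
        constructor
        · rintro ⟨z, hz, rfl⟩
          refine ⟨fun j => bS.repr ⟨z, hz⟩ j, bt.equivFun.symm.injective ?_⟩
          have := hPmul fun j => bS.repr ⟨z, hz⟩ j
          rw [bS.sum_repr] at this
          rw [Module.Basis.equivFun_symm_apply]
          exact this.trans (bt.equivFun.symm_apply_apply z).symm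
        · rintro ⟨w, rfl⟩
          refine ⟨((∑ j, w j • bS j : S) : St), SetLike.coe_mem _, bt.equivFun.symm.injective ?_⟩
          rw [LinearEquiv.coe_coe, bt.equivFun.symm_apply_apply, Module.Basis.equivFun_symm_apply]
          exact (hPmul w).symm
      rw [(Submodule.Quotient.equiv _ _ bt.equivFun hr).length_eq,
        Groth.Agent.OrdDet.length_coker_eq_ord P.mulVecLin
          (mem_nonZeroDivisors_of_ne_zero (by rwa [← Matrix.toLin'_apply', LinearMap.det_toLin'])),
        ← Matrix.toLin'_apply', LinearMap.det_toLin', hc, ord_X_pow_mul c v hv]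
    rw [hlen]
    exact_mod_cast hb'

end Groth.Agent.S13877
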