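import Groth.Statements.S13878
import Mathlib

set_option autoImplicit false
universe u
open Crimp

namespace Groth.Agent.S13878

open Matrix
set_option backward.isDefEq.respectTransparency false
set_option maxHeartbeats 800000

variable {k : Type u} [Field k]

/-- entrywise constant coefficient -/
noncomputable def rho (x : Fin 3 → PowerSeries k) : Fin 3 → k := fun i => PowerSeries.constantCoeff (x i)

lemma rho_eq_zero {x : Fin 3 → PowerSeries k} (hx : rho x = 0) :
    ∃ y, x = (PowerSeries.X : PowerSeries k) • y := by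
  choose y hy using fun i => PowerSeries.X_dvd_iff.2 (congrFun hx i)
  exact ⟨y, funext hy⟩

lemma mk_C_eq_X_smul {m : ℕ} (hm : m ≠ 0) {b : k}
    {q : PowerSeries k ⧸ Ideal.span {(PowerSeries.X : PowerSeries k) ^ m}}
    (h : Ideal.Quotient.mk _ (PowerSeries.C b) = (PowerSeries.X : PowerSeries k) • q) : b = 0 := by
  obtain ⟨z, rfl⟩ := Ideal.Quotient.mk_surjective q
  change Ideal.Quotient.mk _ (PowerSeries.C b) = Ideal.Quotient.mk _ ((PowerSeries.X : PowerSeries k) * z) at h
  obtain ⟨d, hd⟩ := Ideal.mem_span_singleton.1 (Ideal.Quotient.eq.1 h)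
  simpa [zero_pow hm] using congrArg PowerSeries.constantCoeff hd

lemma smul_one_mk {R : Type*} [CommRing R] (I : Ideal R) (r : R) :
    r • (1 : R ⧸ I) = Ideal.Quotient.mk I r := by
  change Ideal.Quotient.mk I (r * 1) = _
  rw [mul_one]

variable (k) in
abbrev Q (m n : ℕ) := (PowerSeries k ⧸ Ideal.span {(PowerSeries.X : PowerSeries k) ^ m}) ×
  (PowerSeries k ⧸ Ideal.span {(PowerSeries.X : PowerSeries k) ^ n})

lemma exists_fg {m n : ℕ} (hmn : m ≤ n) (φ : (Fin 3 → PowerSeries k) →ₗ[PowerSeries k] Q k m n)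
    (hφ : Function.Surjective φ) (h1 : φ 1 = 0) :
    ∃ f g, φ f = (1, 0) ∧ φ g = (0, 1) ∧
      (Matrix.of ![(1 : Fin 3 → k), rho f, rho g]).det ≠ 0 := by
  have hsub : ∀ j : ℕ, j = 0 →
      Subsingleton (PowerSeries k ⧸ Ideal.span {(PowerSeries.X : PowerSeries k) ^ j}) := fun j hj => by
    subst hj
    exact Ideal.Quotient.subsingleton_iff.2 (by rw [pow_zero, Ideal.span_singleton_one])
  obtain ⟨g, hg⟩ := hφ (0, 1)
  rcases eq_or_ne n 0 with rfl | hn
  · have := hsub 0 rfl
    have := hsub m (by omega)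
    refine ⟨Pi.single 0 1, Pi.single 1 1, Subsingleton.elim _ _, Subsingleton.elim _ _, ?_⟩
    simp [Matrix.det_fin_three, rho]
  rcases eq_or_ne m 0 with rfl | hm
  · have := hsub 0 rfl
    classical
    set v : Fin 3 → PowerSeries k := if rho g 0 = rho g 1 then Pi.single 0 1 else Pi.single 2 1
    obtain ⟨r, hr⟩ := Ideal.Quotient.mk_surjective (φ v).2
    refine ⟨v - r • g, g, Prod.ext (Subsingleton.elim _ _) ?_, hg, ?_⟩
    · rw [map_sub, map_smul, hg, Prod.snd_sub, Prod.smul_snd, ← hr]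
      simp [smul_one_mk]
    · intro h0
      have hw : rho g 0 = rho g 1 ∧ rho g 1 = rho g 2 := by
        by_cases hc : rho g 0 = rho g 1
        · refine ⟨hc, ?_⟩
          simp only [v, if_pos hc, Matrix.det_fin_three] at h0
          simp [rho] at h0 hc ⊢
          linear_combination h0
        · refine absurd ?_ hc
          simp only [v, if_neg hc, Matrix.det_fin_three] at h0
          simp [rho] at h0 ⊢
          linear_combination h0
      obtain ⟨y, hy⟩ := rho_eq_zero (x := g - PowerSeries.C (rho g 0) • 1) (by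
        funext i
        fin_cases i <;> simp [rho] at hw ⊢ <;> simp [hw.1, hw.2])
      have h2 := congrArg (fun x => (φ x).2) hy
      simp only [map_sub, map_smul, h1, hg, smul_zero, sub_zero, Prod.smul_snd] at h2
      exact one_ne_zero (mk_C_eq_X_smul hn (b := (1 : k)) (by rwa [map_one, map_one]))
  obtain ⟨f, hf⟩ := hφ (1, 0)
  refine ⟨f, g, hf, hg, fun h0 => ?_⟩
  obtain ⟨c, hc, hc'⟩ := Matrix.exists_vecMul_eq_zero_iff.2 h0
  obtain ⟨y, hy⟩ := rho_eq_zero (x := PowerSeries.C (c 0) • 1 + PowerSeries.C (c 1) • f + PowerSeries.C (c 2) • g) (by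
    funext i
    have := congrFun hc' i
    simpa [rho, Matrix.vecMul, dotProduct, Fin.sum_univ_three] using this)
  have h2 := congrArg φ hy
  simp only [map_add, map_smul, h1, hf, hg, smul_zero, zero_add, Prod.ext_iff, Prod.fst_add, Prod.snd_add,
    Prod.smul_fst, Prod.smul_snd, add_zero] at h2
  rw [smul_one_mk, smul_one_mk] at h2
  have hb : c 1 = 0 := mk_C_eq_X_smul hm h2.1
  have hd : c 2 = 0 := mk_C_eq_X_smul hn h2.2
  refine hc (funext fun i => ?_)
  have ha : c 0 = 0 := by simpa [Matrix.vecMul, dotProduct, Fin.sum_univ_three, hb, hd] using congrFun hc' 0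
  fin_cases i <;> assumption

/-- Over R = k⟦t⟧ with k an algebraically closed field of characteristic zero, let S' = R × R × R (the
unramified triple cover of the formal disk) and let S be an R-submodule of S' containing 1 such that
S' / S is isomorphic to R / (t ^ m) ⊕ R / (t ^ n) with m ≤ n. Then t ^ n S' is contained in S, and
there is f in S', not lying in R·1 + t S', such that S = R·1 + R·(t ^ m f) + t ^ n S'. -/
theorem result {k : Type u} [Field k] [IsAlgClosed k] [CharZero k] (m n : ℕ) (hmn : m ≤ n)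
    (S : Submodule (PowerSeries k) (Fin 3 → PowerSeries k))
    (h1 : (1 : (Fin 3 → PowerSeries k)) ∈ S)
    (e : ((Fin 3 → PowerSeries k) ⧸ S) ≃ₗ[PowerSeries k]
      ((PowerSeries k ⧸ Ideal.span {(PowerSeries.X : PowerSeries k) ^ m}) × (PowerSeries k ⧸ Ideal.span {(PowerSeries.X : PowerSeries k) ^ n}))) :
    Ideal.span {(PowerSeries.X : PowerSeries k) ^ n} • (⊤ : Submodule (PowerSeries k) (Fin 3 → PowerSeries k)) ≤ S ∧
    ∃ f : (Fin 3 → PowerSeries k),
      f ∉ Submodule.span (PowerSeries k) {(1 : (Fin 3 → PowerSeries k))} ⊔ Ideal.span {(PowerSeries.X : PowerSeries k)} • (⊤ : Submodule (PowerSeries k) (Fin 3 → PowerSeries k)) ∧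
      S = Submodule.span (PowerSeries k) {(1 : (Fin 3 → PowerSeries k)), ((PowerSeries.X : PowerSeries k) ^ m) • f} ⊔
        Ideal.span {(PowerSeries.X : PowerSeries k) ^ n} • (⊤ : Submodule (PowerSeries k) (Fin 3 → PowerSeries k)) := by
  set φ : (Fin 3 → PowerSeries k) →ₗ[PowerSeries k] Q k m n := e.toLinearMap ∘ₗ S.mkQ
  have hker : ∀ x, x ∈ S ↔ φ x = 0 := fun x => by
    simp [φ, Submodule.Quotient.mk_eq_zero]
  obtain ⟨f, g, hf, hg, hdet⟩ := exists_fg hmn φ
    (e.surjective.comp S.mkQ_surjective) ((hker 1).1 h1)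
  have hn : Ideal.span {(PowerSeries.X : PowerSeries k) ^ n} •
      (⊤ : Submodule (PowerSeries k) (Fin 3 → PowerSeries k)) ≤ S := by
    refine Submodule.smul_le.2 fun r hr x _ => (hker _).2 ?_
    obtain ⟨d, rfl⟩ := Ideal.mem_span_singleton.1 hr
    obtain ⟨e', he'⟩ := Nat.exists_eq_add_of_le hmn
    obtain ⟨⟨p, q⟩, hpq⟩ : ∃ z, φ x = z := ⟨_, rfl⟩
    obtain ⟨p, rfl⟩ := Ideal.Quotient.mk_surjective p
    obtain ⟨q, rfl⟩ := Ideal.Quotient.mk_surjective q
    rw [map_smul, hpq]
    refine Prod.ext (Ideal.Quotient.eq_zero_iff_mem.2 ?_) (Ideal.Quotient.eq_zero_iff_mem.2 ?_) <;>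
      simp only [smul_eq_mul, Ideal.mem_span_singleton, mul_assoc]
    · exact dvd_mul_of_dvd_left (pow_dvd_pow _ hmn) _
    · exact dvd_mul_right _ _
  refine ⟨hn, f, fun hmem => hdet ?_, le_antisymm (fun x hx => ?_) (sup_le ?_ hn)⟩
  · obtain ⟨a, ha, b, hb, hab⟩ := Submodule.mem_sup.1 hmem
    obtain ⟨a, rfl⟩ := Submodule.mem_span_singleton.1 ha
    rw [Submodule.ideal_span_singleton_smul] at hb
    obtain ⟨y, -, rfl⟩ := (Submodule.mem_smul_pointwise_iff_exists _ _ _).1 hb
    have hf0 : rho f = fun _ => PowerSeries.constantCoeff a := by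
      subst hab
      funext i
      simp [rho]
    simp [Matrix.det_fin_three, hf0]
  · set M : Matrix (Fin 3) (Fin 3) (PowerSeries k) := Matrix.of ![1, f, g] with hM
    have hu : IsUnit M.det := by
      rw [PowerSeries.isUnit_iff_constantCoeff, isUnit_iff_ne_zero]
      convert hdet
      rw [RingHom.map_det]
      congr 1
      ext i j
      fin_cases i <;> simp [M, rho]
    obtain ⟨v, rfl⟩ : ∃ v, x = v ᵥ* M := ⟨x ᵥ* M⁻¹, by
      rw [Matrix.vecMul_vecMul, Matrix.nonsing_inv_mul _ hu, Matrix.vecMul_one]⟩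
    have hv : v ᵥ* M = v 0 • 1 + v 1 • f + v 2 • g := by
      funext i
      simp [M, Matrix.vecMul, dotProduct, Fin.sum_univ_three]
    rw [hv] at hx ⊢
    have h2 := (hker _).1 hx
    simp only [map_add, map_smul, (hker 1).1 h1, hf, hg, smul_zero, zero_add, Prod.ext_iff, Prod.fst_add,
      Prod.snd_add, Prod.smul_fst, Prod.smul_snd, add_zero,
      Prod.fst_zero, Prod.snd_zero] at h2
    rw [smul_one_mk, smul_one_mk] at h2
    obtain ⟨p, hp⟩ := Ideal.mem_span_singleton.1 (Ideal.Quotient.eq_zero_iff_mem.1 h2.1)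
    refine add_mem (Submodule.mem_sup_left (add_mem ?_ ?_)) (Submodule.mem_sup_right ?_)
    · exact Submodule.smul_mem _ _ (Submodule.subset_span (Or.inl rfl))
    · rw [hp, mul_comm, mul_smul]
      exact Submodule.smul_mem _ _ (Submodule.subset_span (Or.inr rfl))
    · exact Submodule.smul_mem_smul (Ideal.Quotient.eq_zero_iff_mem.1 h2.2) trivial
  · rw [Submodule.span_le]
    rintro x (rfl | rfl)
    · exact h1
    · refine (hker _).2 ?_
      rw [map_smul, hf]
      refine Prod.ext ?_ (smul_zero _)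
      exact Ideal.Quotient.eq_zero_iff_mem.2 (by
        simpa [smul_eq_mul] using Ideal.mem_span_singleton_self ((PowerSeries.X : PowerSeries k) ^ m))

end Groth.Agent.S13878
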