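import Groth.Statements.S13879
import Mathlib

set_option autoImplicit false
universe u
open Crimp

namespace Groth.Agent.S13879

set_option backward.isDefEq.respectTransparency false
lemma sq_smul {R A : Type*} [CommRing R] [CommRing A] [Algebra R A] (c : R) (f : A) (m : ℕ) :
    c ^ (2 * m) • (f * f) = c ^ m • f * c ^ m • f := by
  rw [smul_mul_smul_comm, two_mul, pow_add]

/-- Over R = k⟦t⟧ with k an algebraically closed field of characteristic zero, let S' = R × R × R and
let S be the R-submodule R·1 + R·(t ^ m f) + t ^ n S' of S' for some f in S' and natural numbers m,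
n. Then S is closed under multiplication (equivalently, is an R-subalgebra of S') if and only if t ^
(2m) f ^ 2 lies in S. (The published statement has m ≤ n and S' / S isomorphic to R / (t ^ m) ⊕ R /
(t ^ n), under which S has this shape; this row states the criterion for every submodule of this
shape.) -/
theorem result {k : Type u} [Field k] [IsAlgClosed k] [CharZero k] (m n : ℕ) (f : (Fin 3 → PowerSeries k))
    (S : Submodule (PowerSeries k) (Fin 3 → PowerSeries k))
    (hS : S = Submodule.span (PowerSeries k) {(1 : (Fin 3 → PowerSeries k)), ((PowerSeries.X : PowerSeries k) ^ m) • f} ⊔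
        Ideal.span {(PowerSeries.X : PowerSeries k) ^ n} • (⊤ : Submodule (PowerSeries k) (Fin 3 → PowerSeries k))) :
    (∀ x ∈ S, ∀ y ∈ S, x * y ∈ S) ↔ ((PowerSeries.X : PowerSeries k) ^ (2 * m)) • (f * f) ∈ S := by
  constructor
  · intro h
    have hmem : (PowerSeries.X : PowerSeries k) ^ m • f ∈ S := by
      rw [hS]; exact Submodule.mem_sup_left (Submodule.subset_span (Or.inr rfl))
    rw [sq_smul]
    exact h _ hmem _ hmem
  · intro h x hx y hy
    set T : Submodule (PowerSeries k) (Fin 3 → PowerSeries k) :=
      Ideal.span {(PowerSeries.X : PowerSeries k) ^ n} • ⊤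
    have hT : ∀ u ∈ T, ∀ v : Fin 3 → PowerSeries k, v * u ∈ T := by
      intro u hu v
      induction hu using Submodule.smul_induction_on' with
      | smul r hr w _ => rw [mul_smul_comm]; exact Submodule.smul_mem_smul hr trivial
      | add a _ b _ ha hb => rw [mul_add]; exact add_mem ha hb
    have hone : (1 : Fin 3 → PowerSeries k) ∈ S := by
      rw [hS]; exact Submodule.mem_sup_left (Submodule.subset_span (Or.inl rfl))
    have hmem : (PowerSeries.X : PowerSeries k) ^ m • f ∈ S := by
      rw [hS]; exact Submodule.mem_sup_left (Submodule.subset_span (Or.inr rfl))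
    have hTS : T ≤ S := hS ▸ le_sup_right
    obtain ⟨s, hs, t, ht, rfl⟩ := Submodule.mem_sup.1 (hS ▸ hx)
    obtain ⟨s', hs', t', ht', rfl⟩ := Submodule.mem_sup.1 (hS ▸ hy)
    obtain ⟨a, b, rfl⟩ := Submodule.mem_span_pair.1 hs
    obtain ⟨a', b', rfl⟩ := Submodule.mem_span_pair.1 hs'
    set g := (PowerSeries.X : PowerSeries k) ^ m • f
    have hg : g * g ∈ S := by
      rw [sq_smul] at h
      exact h
    have e : (a • (1 : Fin 3 → PowerSeries k) + b • g + t) * (a' • 1 + b' • g + t') =
        (a * a') • 1 + (a * b' + b * a') • g + (b * b') • (g * g) +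
          ((a • 1 + b • g + t) * t' + (a' • 1 + b' • g) * t) := by
      funext i
      simp only [Pi.mul_apply, Pi.add_apply, Pi.smul_apply, smul_eq_mul, Pi.one_apply]
      ring
    rw [e]
    exact add_mem (add_mem (add_mem (S.smul_mem _ hone) (S.smul_mem _ hmem)) (S.smul_mem _ hg))
      (hTS (add_mem (hT _ ht' _) (hT _ ht _)))

end Groth.Agent.S13879
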