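import Groth.Statements.S13880
import Mathlib

set_option autoImplicit false
universe u
open Crimp

namespace Groth.Agent.S13880

open Matrix Polynomial
set_option backward.isDefEq.respectTransparency false
set_option maxHeartbeats 800000

variable {k : Type u} [Field k]

/-- the second basis vector -/
noncomputable def e0 (n : ℕ) : Fin 2 → PowerSeries k := ![(PowerSeries.X : PowerSeries k) ^ n, 0]

lemma e0_mem (n : ℕ) : e0 (k := k) n ∈ Ideal.span {(PowerSeries.X : PowerSeries k) ^ n} •
    (⊤ : Submodule (PowerSeries k) (Fin 2 → PowerSeries k)) := by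
  have : e0 (k := k) n = (PowerSeries.X : PowerSeries k) ^ n • ![1, 0] := by
    funext i; fin_cases i <;> simp [e0]
  rw [this]
  exact Submodule.smul_mem_smul (Ideal.mem_span_singleton_self _) trivial

lemma shape_eq (n : ℕ) :
    Submodule.span (PowerSeries k) {(1 : (Fin 2 → PowerSeries k))} ⊔ Ideal.span {(PowerSeries.X : PowerSeries k) ^ n} • (⊤ : Submodule (PowerSeries k) (Fin 2 → PowerSeries k)) =
      Submodule.span (PowerSeries k) (Set.range ![(1 : (Fin 2 → PowerSeries k)), e0 n]) := by
  apply le_antisymm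
  · refine sup_le (Submodule.span_le.2 ?_) (Submodule.smul_le.2 fun r hr x _ => ?_)
    · rintro _ rfl
      exact Submodule.subset_span ⟨0, rfl⟩
    · obtain ⟨d, rfl⟩ := Ideal.mem_span_singleton.1 hr
      rw [Submodule.mem_span_range_iff_exists_fun]
      refine ⟨![PowerSeries.X ^ n * d * x 1, d * (x 0 - x 1)], ?_⟩
      funext i
      fin_cases i <;> simp [e0, Fin.sum_univ_two] <;> ring
  · rw [Submodule.span_le]
    rintro _ ⟨i, rfl⟩
    fin_cases i
    · exact Submodule.mem_sup_left (Submodule.subset_span rfl)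
    · exact Submodule.mem_sup_right (e0_mem n)

lemma trace_prod [CharZero k] (x : (Fin 2 → PowerSeries k)) : Algebra.trace (PowerSeries k) (Fin 2 → PowerSeries k) x = x 0 + x 1 := by
  rw [Algebra.trace_eq_matrix_trace (Pi.basisFun (PowerSeries k) (Fin 2))]
  simp [Matrix.trace, Algebra.leftMulMatrix_eq_repr_mul, Fin.sum_univ_two]

variable (S : Subalgebra (PowerSeries k) (Fin 2 → PowerSeries k))

/-- the standard basis of a crimp -/
lemma exists_basis (n : ℕ)
    (h : Subalgebra.toSubmodule S = Submodule.span (PowerSeries k) {(1 : (Fin 2 → PowerSeries k))} ⊔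
      Ideal.span {(PowerSeries.X : PowerSeries k) ^ n} • (⊤ : Submodule (PowerSeries k) (Fin 2 → PowerSeries k))) :
    ∃ b : Module.Basis (Fin 2) (PowerSeries k) S, (b 0 : (Fin 2 → PowerSeries k)) = 1 ∧ (b 1 : (Fin 2 → PowerSeries k)) = e0 n := by
  have hli : LinearIndependent (PowerSeries k) ![(1 : (Fin 2 → PowerSeries k)), e0 n] := by
    rw [LinearIndependent.pair_iff]
    intro s t hst
    have h1 := congrFun hst 1
    have h0 := congrFun hst 0
    simp [e0] at h0 h1
    exact ⟨h1, by simpa [h1] using h0⟩
  rw [shape_eq] at h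
  refine ⟨(Module.Basis.span hli).map ((LinearEquiv.ofEq _ _ h.symm)), ?_, ?_⟩
  · show ((Module.Basis.span hli 0 : _) : Fin 2 → PowerSeries k) = 1
    rw [Module.Basis.span_apply]; rfl
  · show ((Module.Basis.span hli 1 : _) : Fin 2 → PowerSeries k) = e0 n
    rw [Module.Basis.span_apply]; rfl

lemma discr_eq [CharZero k] (b : Module.Basis (Fin 2) (PowerSeries k) S) (n : ℕ)
    (h0 : (b 0 : (Fin 2 → PowerSeries k)) = 1) (h1 : (b 1 : (Fin 2 → PowerSeries k)) = e0 n) :
    Algebra.discr (PowerSeries k) ⇑b = (PowerSeries.X : PowerSeries k) ^ (2 * n) := by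
  have htr : ∀ x : S, Algebra.trace (PowerSeries k) S x = (x : (Fin 2 → PowerSeries k)) 0 + (x : (Fin 2 → PowerSeries k)) 1 := by
    intro x
    let T := Algebra.trace (PowerSeries k) S
    let U : S →ₗ[PowerSeries k] PowerSeries k :=
      (LinearMap.proj (R := PowerSeries k) (φ := fun _ : Fin 2 => PowerSeries k) 0 + LinearMap.proj (R := PowerSeries k) (φ := fun _ : Fin 2 => PowerSeries k) 1).comp S.val.toLinearMap
    have : T = U := by
      refine b.ext fun i => ?_
      rw [show T (b i) = Algebra.trace (PowerSeries k) S (b i) from rfl, Algebra.trace_eq_matrix_trace b,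
        Matrix.trace, Fin.sum_univ_two]
      simp only [Matrix.diag_apply, Algebra.leftMulMatrix_eq_repr_mul]
      have hb0 : b 0 = 1 := Subtype.ext h0
      fin_cases i
      · simp [hb0, U, h0]
        simp [show (1 : S) = b 0 from hb0.symm, U, h0]

      · have hsq : b 1 * b 1 = ((PowerSeries.X : PowerSeries k) ^ n) • b 1 := Subtype.ext (by
          funext i
          fin_cases i <;> simp [h1, e0])
        simp [hb0, hsq, U, h1, e0]
    exact LinearMap.congr_fun this x
  rw [Algebra.discr_def, Matrix.det_fin_two]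
  simp [Algebra.traceMatrix_apply, Algebra.traceForm_apply, htr, h0, h1, e0]
  ring

/-- Over R = k⟦t⟧ with k an algebraically closed field of characteristic zero, let S' = R × R, the
trivial double cover of the formal disk (branch divisor (t ^ 0)). An R-subalgebra S of S' admits an
R-basis of size 2 whose discriminant generates (t ^ b), that is, S is a crimp with branch divisor (t
^ b), if and only if b = 2n for some n and S = R·1 + t ^ n S'. So there is exactly one such crimp
when b is even and none when b is odd; moreover the subalgebra R·1 + t ^ n S' is isomorphic as an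
R-algebra to R[y] / (y ^ 2 - t ^ (2n)) (existence of an isomorphism; y ↦ (t ^ n, -t ^ n)). (The
published statement also gives the space of crimps its reduced one-point scheme structure; this row
classifies its k-points.) -/
theorem result {k : Type u} [Field k] [IsAlgClosed k] [CharZero k] (b : ℕ) (S : Subalgebra (PowerSeries k) (Fin 2 → PowerSeries k)) :
    ((∃ bS : Module.Basis (Fin 2) (PowerSeries k) S,
      Ideal.span {Algebra.discr (PowerSeries k) ⇑bS} = Ideal.span {(PowerSeries.X : PowerSeries k) ^ b}) ↔
    ∃ n : ℕ, b = 2 * n ∧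
      Subalgebra.toSubmodule S = Submodule.span (PowerSeries k) {(1 : (Fin 2 → PowerSeries k))} ⊔
        Ideal.span {(PowerSeries.X : PowerSeries k) ^ n} • (⊤ : Submodule (PowerSeries k) (Fin 2 → PowerSeries k))) ∧
    (∀ n : ℕ, Subalgebra.toSubmodule S = Submodule.span (PowerSeries k) {(1 : (Fin 2 → PowerSeries k))} ⊔
        Ideal.span {(PowerSeries.X : PowerSeries k) ^ n} • (⊤ : Submodule (PowerSeries k) (Fin 2 → PowerSeries k)) →
      Nonempty (S ≃ₐ[PowerSeries k] AdjoinRoot (Polynomial.X ^ 2 - Polynomial.C ((PowerSeries.X : PowerSeries k) ^ (2 * n))))) := by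
  refine ⟨⟨?_, ?_⟩, ?_⟩
  · rintro ⟨bS, hb⟩
    let J : Ideal (PowerSeries k) := (Subalgebra.toSubmodule S).comap
      (LinearMap.toSpanSingleton (PowerSeries k) (Fin 2 → PowerSeries k) (![1, 0] : Fin 2 → PowerSeries k))
    have hdec : ∀ x ∈ S, x 0 - x 1 ∈ J ∧ x = x 1 • (1 : Fin 2 → PowerSeries k) + (x 0 - x 1) • (![1, 0] : Fin 2 → PowerSeries k) := by
      intro x hx
      have he : x = x 1 • (1 : Fin 2 → PowerSeries k) + (x 0 - x 1) • (![1, 0] : Fin 2 → PowerSeries k) := by
        funext i; fin_cases i <;> simp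
      refine ⟨?_, he⟩
      show (x 0 - x 1) • (![1, 0] : Fin 2 → PowerSeries k) ∈ Subalgebra.toSubmodule S
      rw [eq_sub_of_add_eq' he.symm]
      exact sub_mem (show x ∈ Subalgebra.toSubmodule S from hx) (Submodule.smul_mem _ _ (one_mem S))
    have hJ : J ≠ ⊥ := fun hJ => by
      have hall : ∀ i, (bS i : Fin 2 → PowerSeries k) = (bS i : Fin 2 → PowerSeries k) 1 • 1 := fun i => by
        obtain ⟨h1, h2⟩ := hdec _ (bS i).2
        rw [hJ, Ideal.mem_bot] at h1
        rw [h1, zero_smul, add_zero] at h2
        exact h2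
      have hli := (LinearIndependent.pair_iff.1
        (show LinearIndependent (PowerSeries k) ![bS 0, bS 1] from by
          convert bS.linearIndependent; funext i; fin_cases i <;> rfl))
        ((bS 1 : Fin 2 → PowerSeries k) 1) (-(bS 0 : Fin 2 → PowerSeries k) 1) (Subtype.ext (by
          rw [Subalgebra.coe_add, Subalgebra.coe_smul, Subalgebra.coe_smul, Subalgebra.coe_zero, hall 0, hall 1]
          funext i; simp; ring))
      exact bS.ne_zero 1 (Subtype.ext (by rw [hall 1, hli.1, zero_smul]; rfl))
    obtain ⟨n, hn⟩ := IsDiscreteValuationRing.ideal_eq_span_pow_irreducible hJ (PowerSeries.X_irreducible (R := k))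
    have hshape : Subalgebra.toSubmodule S = Submodule.span (PowerSeries k) {(1 : (Fin 2 → PowerSeries k))} ⊔
        Ideal.span {(PowerSeries.X : PowerSeries k) ^ n} • (⊤ : Submodule (PowerSeries k) (Fin 2 → PowerSeries k)) := by
      rw [shape_eq]
      apply le_antisymm
      · intro x hx
        obtain ⟨h1, h2⟩ := hdec x hx
        rw [hn, Ideal.mem_span_singleton] at h1
        obtain ⟨d, hd⟩ := h1
        rw [Submodule.mem_span_range_iff_exists_fun]
        refine ⟨![x 1, d], ?_⟩
        funext i
        fin_cases i <;> simp [e0, Fin.sum_univ_two]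
        rw [mul_comm d, ← hd]; ring
      · rw [Submodule.span_le]
        rintro _ ⟨i, rfl⟩
        fin_cases i
        · exact one_mem S
        · have : (PowerSeries.X : PowerSeries k) ^ n ∈ J := hn ▸ Ideal.mem_span_singleton_self _
          have h3 : (PowerSeries.X : PowerSeries k) ^ n • (![1, 0] : Fin 2 → PowerSeries k) = e0 n := by
            funext j; fin_cases j <;> simp [e0]
          show e0 n ∈ Subalgebra.toSubmodule S
          rw [← h3]; exact this
    obtain ⟨b', h0, h1⟩ := exists_basis S n hshape
    refine ⟨n, ?_, hshape⟩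
    have hd := discr_eq S b' n h0 h1
    have hP : IsUnit (b'.toMatrix bS).det := by
      haveI := b'.invertibleToMatrix bS
      exact (Matrix.isUnit_iff_isUnit_det _).1 (isUnit_of_invertible _)
    have hc : Algebra.discr (PowerSeries k) ⇑bS = (b'.toMatrix bS).det ^ 2 * (PowerSeries.X : PowerSeries k) ^ (2 * n) := by
      rw [← hd, ← Algebra.discr_of_matrix_vecMul, b'.toMatrix_map_vecMul]
    rw [hc, Ideal.span_singleton_mul_left_unit (hP.pow 2)] at hb
    obtain ⟨w, hw⟩ := Ideal.span_singleton_eq_span_singleton.1 hb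
    have h2 := congrArg PowerSeries.order hw
    rw [PowerSeries.order_mul, PowerSeries.order_X_pow, PowerSeries.order_X_pow, PowerSeries.order_zero_of_unit w.isUnit, add_zero] at h2
    exact_mod_cast h2.symm
  · rintro ⟨n, rfl, h⟩
    obtain ⟨b', h0, h1⟩ := exists_basis S n h
    exact ⟨b', by rw [discr_eq S b' n h0 h1]⟩
  · intro n h
    obtain ⟨b', h0, h1⟩ := exists_basis S n h
    let q : (PowerSeries k)[X] := Polynomial.X ^ 2 - Polynomial.C ((PowerSeries.X : PowerSeries k) ^ (2 * n))
    have hq : q.Monic := Polynomial.monic_X_pow_sub_C _ two_ne_zero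
    have hy : (2 : PowerSeries k) • e0 n - (PowerSeries.X : PowerSeries k) ^ n • (1 : Fin 2 → PowerSeries k) ∈ S := by
      rw [← h1]
      exact sub_mem (Subalgebra.smul_mem _ (b' 1).2 _) (Subalgebra.smul_mem _ (one_mem S) _)
    let y : S := ⟨_, hy⟩
    let ψ : AdjoinRoot q →ₐ[PowerSeries k] S := AdjoinRoot.liftAlgHom q (Algebra.ofId _ _) y (by
      apply Subtype.ext
      funext i
      fin_cases i <;> simp [q, y, e0, Matrix.vecHead, Matrix.vecTail] <;> ring)
    have h2 : IsUnit (2 : PowerSeries k) := by
      rw [PowerSeries.isUnit_iff_constantCoeff, isUnit_iff_ne_zero, map_ofNat]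
      exact two_ne_zero
    obtain ⟨i2, hi2⟩ := h2.exists_left_inv
    have hsurj : Function.Surjective ψ := by
      intro x
      rw [← b'.sum_repr x, Fin.sum_univ_two]
      refine ⟨AdjoinRoot.of q (b'.repr x 0 + b'.repr x 1 * (i2 * (PowerSeries.X : PowerSeries k) ^ n)) +
        AdjoinRoot.of q (b'.repr x 1 * i2) * AdjoinRoot.root q, ?_⟩
      apply Subtype.ext
      funext j
      fin_cases j <;> simp [ψ, y, h0, h1, e0, Matrix.vecHead, Matrix.vecTail]
      · linear_combination (b'.repr x 1 * (PowerSeries.X : PowerSeries k) ^ n) * hi2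
      · ring
    have hdeg : (AdjoinRoot.powerBasis' hq).dim = 2 := by
      rw [AdjoinRoot.powerBasis'_dim, Polynomial.natDegree_X_pow_sub_C]
    let e : AdjoinRoot q ≃ₗ[PowerSeries k] S := ((AdjoinRoot.powerBasis' hq).basis.reindex (finCongr hdeg)).equiv b' (Equiv.refl _)
    haveI := Module.Finite.of_basis b'
    have hinj : Function.Injective ψ := by
      have := OrzechProperty.injective_of_surjective_endomorphism (ψ.toLinearMap ∘ₗ e.symm.toLinearMap)
        (hsurj.comp e.symm.surjective)
      intro a b hab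
      have h5 := @this (e a) (e b) (by simp [hab])
      exact e.injective h5
    exact ⟨(AlgEquiv.ofBijective ψ ⟨hinj, hsurj⟩).symm⟩

end Groth.Agent.S13880
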