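import Groth.Statements.S13882
import Mathlib

set_option autoImplicit false
universe u
open FinCov

namespace Groth.Agent.S13882

open MvPolynomial W4c1hurwitzcpt

variable (K : Type u) [Field K] (d : ℕ)

abbrev Vars := (Fin d × Fin d × Fin d) ⊕ Fin d

noncomputable def cX (i j k : Fin d) : MvPolynomial (Vars d) K := X (Sum.inl (i, j, k))
noncomputable def uX (i : Fin d) : MvPolynomial (Vars d) K := X (Sum.inr i)

noncomputable def rels : Ideal (MvPolynomial (Vars d) K) :=
  Ideal.span (Set.range (fun p : Fin d × Fin d × Fin d => cX K d p.1 p.2.1 p.2.2 - cX K d p.2.1 p.1 p.2.2) ∪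
    Set.range (fun p : Fin d × Fin d × Fin d × Fin d =>
      (∑ k, cX K d p.1 p.2.1 k * cX K d k p.2.2.1 p.2.2.2) - ∑ k, cX K d p.2.1 p.2.2.1 k * cX K d p.1 k p.2.2.2) ∪
    Set.range (fun p : Fin d × Fin d => (∑ i, uX K d i * cX K d i p.1 p.2) - if p.1 = p.2 then 1 else 0))

abbrev B := MvPolynomial (Vars d) K ⧸ rels K d

noncomputable def toStruct {A : Type u} [CommRing A] [Algebra K A] (g : B K d →ₐ[K] A) : BasedAlg d A where
  c i j k := g (Ideal.Quotient.mk _ (cX K d i j k))
  u i := g (Ideal.Quotient.mk _ (uX K d i))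
  comm i j k := congrArg g (Ideal.Quotient.eq.mpr (Ideal.subset_span (Or.inl (Or.inl ⟨(i, j, k), rfl⟩))))
  assoc i j l m := by
    simp only [← map_mul, ← map_sum]
    exact congrArg g (Ideal.Quotient.eq.mpr (Ideal.subset_span (Or.inl (Or.inr ⟨(i, j, l, m), rfl⟩))))
  unit j m := by
    simp only [← map_mul, ← map_sum]
    have h := congrArg g (Ideal.Quotient.eq.mpr
      (Ideal.subset_span (Or.inr ⟨(j, m), rfl⟩) : _ ∈ rels K d))
    rw [h]
    split <;> simp

noncomputable def evalS {A : Type u} [CommRing A] [Algebra K A] (s : BasedAlg d A) : MvPolynomial (Vars d) K →ₐ[K] A :=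
  aeval (Sum.elim (fun p => s.c p.1 p.2.1 p.2.2) s.u)

noncomputable def ofStruct {A : Type u} [CommRing A] [Algebra K A] (s : BasedAlg d A) : B K d →ₐ[K] A :=
  Ideal.Quotient.liftₐ _ (evalS K d s) (by
    suffices h : rels K d ≤ RingHom.ker (evalS K d s) from fun a ha => h ha
    refine Ideal.span_le.mpr ?_
    rintro _ ((⟨⟨i, j, k⟩, rfl⟩ | ⟨⟨i, j, l, m⟩, rfl⟩) | ⟨⟨j, m⟩, rfl⟩) <;>
      simp only [SetLike.mem_coe, RingHom.mem_ker, evalS, map_sub, map_sum, map_mul, cX, uX, aeval_X, Sum.elim_inl, Sum.elim_inr,
        sub_eq_zero]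
    · exact s.comm i j k
    · exact s.assoc i j l m
    · rw [s.unit j m]
      split <;> simp)

/-- Over a field K of characteristic zero, the functor that sends a K-scheme S to the set of isomorphism
classes of pairs (A, τ) of an O_S-algebra A and an O_S-module isomorphism τ from A to the free
module of rank d, equivalently to the set of commutative unital algebra structures on the rank-d
free module with its standard basis, is represented by an affine K-scheme of finite type. Stated on
affine K-schemes in one universe: there is a finitely generated commutative K-algebra B with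
bijections between K-algebra maps B → A and based algebra structures of rank d over A, natural in
the commutative K-algebra A. -/
theorem result (K : Type u) [Field K] [CharZero K] (d : ℕ) :
    ∃ (B : Type u) (_ : CommRing B) (_ : Algebra K B) (_ : Algebra.FiniteType K B)
      (η : ∀ (A : Type u) [CommRing A] [Algebra K A], (B →ₐ[K] A) ≃ W4c1hurwitzcpt.BasedAlg d A),
      ∀ (A A' : Type u) [CommRing A] [Algebra K A] [CommRing A'] [Algebra K A']
        (f : A →ₐ[K] A') (g : B →ₐ[K] A),
        η A' (f.comp g) = (η A g).map f.toRingHom := by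
  refine ⟨B K d, inferInstance, inferInstance, inferInstance, fun A _ _ =>
    ⟨toStruct K d, ofStruct K d, fun g => ?_, fun s => ?_⟩, fun A A' _ _ _ _ f g => rfl⟩
  · refine Ideal.Quotient.algHom_ext _ (MvPolynomial.algHom_ext fun v => ?_)
    show evalS K d (toStruct K d g) (X v) = g (Ideal.Quotient.mk _ (X v))
    rcases v with ⟨i, j, k⟩ | i <;> simp [evalS, toStruct, cX, uX]
  · ext <;> simp only [toStruct] <;> exact aeval_X _ _

end Groth.Agent.S13882
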