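import Groth.Statements.S13884
import Groth.Agent.RootDiskLib.Basic

set_option autoImplicit false
universe u
open Crimp

namespace Groth.Agent.S13884

open Groth.Agent.RootDiskLib
set_option backward.isDefEq.respectTransparency false

/-- Over R = k⟦t⟧ with k an algebraically closed field of characteristic zero, let S' = k⟦x⟧ regarded as
an R-algebra through t ↦ x ^ 3, that is S' = R[x] / (x ^ 3 - t), the smooth totally ramified triple
cover of the formal disk. If M is an R-submodule of S' which is free of rank 3, then M has an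
R-basis consisting of three power series whose x-adic valuations are pairwise distinct modulo 3.
(Items (2) and (3) of the published proposition, on the base change of M to R[s] / (s ^ 3 - t), are
not restated.) -/
theorem result {k : Type u} [Field k] [IsAlgClosed k] [CharZero k]
    (M : Submodule (PowerSeries k) (W4c1hurwitzcpt.RootDisk 3 k))
    (bM : Module.Basis (Fin 3) (PowerSeries k) M) :
    ∃ g : Module.Basis (Fin 3) (PowerSeries k) M, ∀ i j : Fin 3, i ≠ j →
      ¬ Nat.ModEq 3 (PowerSeries.order (W4c1hurwitzcpt.RootDisk.val (((g i : M) : (W4c1hurwitzcpt.RootDisk 3 k)) : W4c1hurwitzcpt.RootDisk 3 k))).toNat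
        (PowerSeries.order (W4c1hurwitzcpt.RootDisk.val (((g j : M) : (W4c1hurwitzcpt.RootDisk 3 k)) : W4c1hurwitzcpt.RootDisk 3 k))).toNat := by
  classical
  obtain ⟨U, e, -, hUe, hspan⟩ := exists_triangular Finset.univ M
    (fun f _ r hr => absurd (Finset.mem_univ r) hr)
  let g : Fin 3 → M := fun r => if h : r ∈ U then ⟨e r, (hUe r h).1⟩ else 0
  have hg : ⊤ ≤ Submodule.span (PowerSeries k) (Set.range g) := by
    rintro ⟨z, hz⟩ -
    have h1 : Submodule.span (PowerSeries k) (e '' U) ≤
        Submodule.map M.subtype (Submodule.span (PowerSeries k) (Set.range g)) := by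
      rw [Submodule.span_le]
      rintro _ ⟨r, hr, rfl⟩
      exact ⟨g r, Submodule.subset_span ⟨r, rfl⟩, by simp [g, Finset.mem_coe.1 hr]⟩
    obtain ⟨w, hw, hwz⟩ := h1 (hspan hz)
    rwa [show (⟨z, hz⟩ : M) = w from Subtype.ext hwz.symm]
  have hb := injective_of_range_top bM g hg
  have hU : ∀ r, r ∈ U := by
    intro r
    by_contra hr
    have : bM.constr ℕ g (bM r) = bM.constr ℕ g 0 := by
      rw [Module.Basis.constr_basis, map_zero]; simp [g, hr]
    exact bM.ne_zero r (hb.1 this)
  refine ⟨bM.map (LinearEquiv.ofBijective _ hb), fun i j hij h => hij (Fin.ext ?_)⟩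
  have hi : ((bM.map (LinearEquiv.ofBijective _ hb) i : M) : W4c1hurwitzcpt.RootDisk 3 k) = e i := by
    rw [Module.Basis.map_apply, LinearEquiv.ofBijective_apply, Module.Basis.constr_basis]
    simp [g, hU i]
  have hj : ((bM.map (LinearEquiv.ofBijective _ hb) j : M) : W4c1hurwitzcpt.RootDisk 3 k) = e j := by
    rw [Module.Basis.map_apply, LinearEquiv.ofBijective_apply, Module.Basis.constr_basis]
    simp [g, hU j]
  rw [hi, hj, Nat.ModEq, (hUe i (hU i)).2, (hUe j (hU j)).2] at h
  exact h

end Groth.Agent.S13884
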