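import Groth.Statements.S13885
import Groth.Agent.RootDiskLib.Basic

set_option autoImplicit false
universe u
open Crimp

namespace Groth.Agent.S13885

open Groth.Agent.RootDiskLib
set_option backward.isDefEq.respectTransparency false

/-- Over R = k⟦t⟧ with k an algebraically closed field of characteristic zero, let S' = k⟦x⟧ × R, where
k⟦x⟧ is regarded as an R-algebra through t ↦ x ^ 2, that is S' = R[x] / (x ^ 2 - t) ⊕ R, the smooth
simply ramified triple cover of the formal disk, with R embedded diagonally. If M is an R-submodule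
of S' containing 1 which is free of rank 3, then M is spanned by 1, (f₁, 0) and (f₂, 0) for some
power series f₁, f₂ whose x-adic valuations are distinct modulo 2. (Items (2) and (3) of the
published proposition, on the base change of M to R[s] / (s ^ 2 - t), are not restated.) -/
theorem result {k : Type u} [Field k] [IsAlgClosed k] [CharZero k]
    (M : Submodule (PowerSeries k) (W4c1hurwitzcpt.RootDisk 2 k × PowerSeries k))
    (h1 : (1 : (W4c1hurwitzcpt.RootDisk 2 k × PowerSeries k)) ∈ M)
    (bM : Module.Basis (Fin 3) (PowerSeries k) M) :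
    ∃ f₁ f₂ : W4c1hurwitzcpt.RootDisk 2 k,
      ¬ Nat.ModEq 2 (PowerSeries.order (W4c1hurwitzcpt.RootDisk.val (f₁ : W4c1hurwitzcpt.RootDisk 2 k))).toNat (PowerSeries.order (W4c1hurwitzcpt.RootDisk.val (f₂ : W4c1hurwitzcpt.RootDisk 2 k))).toNat ∧
      M = Submodule.span (PowerSeries k) {(1 : (W4c1hurwitzcpt.RootDisk 2 k × PowerSeries k)), (f₁, 0), (f₂, 0)} := by
  classical
  let inl := LinearMap.inl (PowerSeries k) (W4c1hurwitzcpt.RootDisk 2 k) (PowerSeries k)
  obtain ⟨U, e, -, hUe, hspan⟩ := exists_triangular Finset.univ (M.comap inl)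
    (fun f _ r hr => absurd (Finset.mem_univ r) hr)
  let f : Fin 2 → W4c1hurwitzcpt.RootDisk 2 k := fun r => if r ∈ U then e r else 0
  have hf : ∀ r, ((f r, 0) : W4c1hurwitzcpt.RootDisk 2 k × PowerSeries k) ∈ M := by
    intro r
    by_cases h : r ∈ U
    · simpa [f, h, inl] using (hUe r h).1
    · simp [f, h]; exact M.zero_mem
  have hMeq : M = Submodule.span (PowerSeries k)
      {(1 : W4c1hurwitzcpt.RootDisk 2 k × PowerSeries k), (f 0, 0), (f 1, 0)} := by
    refine le_antisymm (fun z hz => ?_) (Submodule.span_le.2 ?_)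
    · have hz' : z.1 - algebraMap _ _ z.2 ∈ M.comap inl := by
        rw [Submodule.mem_comap]
        have := Submodule.sub_mem _ hz (Submodule.smul_mem _ z.2 h1)
        convert this using 1
        ext1 <;> simp [inl, Algebra.smul_def]
      have h2 : Submodule.span (PowerSeries k) (e '' U) ≤
          Submodule.span (PowerSeries k) (Set.range f) := by
        refine Submodule.span_mono ?_
        rintro _ ⟨r, hr, rfl⟩
        exact ⟨r, by simp [f, Finset.mem_coe.1 hr]⟩
      obtain ⟨c, hc⟩ := (Submodule.mem_span_range_iff_exists_fun _).1 (h2 (hspan hz'))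
      rw [Fin.sum_univ_two] at hc
      rw [Submodule.mem_span_triple]
      refine ⟨z.2, c 0, c 1, Prod.ext ?_ ?_⟩
      · have := congrArg (algebraMap _ (W4c1hurwitzcpt.RootDisk 2 k) z.2 + ·) hc
        simp [Algebra.smul_def] at this ⊢
        rw [add_assoc]
        exact this
      · simp
    · rintro z (rfl | rfl | rfl)
      · exact h1
      · exact hf 0
      · exact hf 1
  let g : Fin 3 → M := ![⟨1, h1⟩, ⟨_, hf 0⟩, ⟨_, hf 1⟩]
  have hg : ⊤ ≤ Submodule.span (PowerSeries k) (Set.range g) := by
    rintro ⟨z, hz⟩ -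
    have hz2 := hz
    rw [hMeq, Submodule.mem_span_triple] at hz2
    obtain ⟨a, b, c, rfl⟩ := hz2
    rw [Submodule.mem_span_range_iff_exists_fun]
    exact ⟨![a, b, c], Subtype.ext (by simp [Fin.sum_univ_three, g])⟩
  have hb := injective_of_range_top bM g hg
  have hU : ∀ r, r ∈ U := by
    intro r
    by_contra hr
    have h0 : g r.succ = 0 := by fin_cases r <;> exact Subtype.ext (by simp_all [g, f])
    have : bM.constr ℕ g (bM r.succ) = bM.constr ℕ g 0 := by simp [h0]
    exact bM.ne_zero r.succ (hb.1 this)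
  refine ⟨f 0, f 1, fun h => ?_, hMeq⟩
  have e0 : f 0 = e 0 := by simp [f, hU]
  have e1 : f 1 = e 1 := by simp [f, hU]
  rw [e0, e1, Nat.ModEq, (hUe 0 (hU 0)).2, (hUe 1 (hU 1)).2] at h
  exact absurd h (by decide)

end Groth.Agent.S13885
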