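import Groth.Statements.S13886
import Groth.Agent.S13879
import Mathlib

set_option autoImplicit false
universe u
open Crimp

namespace Groth.Agent.S13886

open Matrix
set_option backward.isDefEq.respectTransparency false
set_option maxHeartbeats 800000

lemma exists_third {k : Type u} [Field k] (f : Fin 3 → PowerSeries k)
    (hf : f ∉ Submodule.span (PowerSeries k) {(1 : (Fin 3 → PowerSeries k))} ⊔
      Ideal.span {(PowerSeries.X : PowerSeries k)} • (⊤ : Submodule (PowerSeries k) (Fin 3 → PowerSeries k))) :
    ∃ g : Fin 3 → PowerSeries k, IsUnit (Matrix.of ![1, f, g]).det := by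
  classical
  set c : Fin 3 → k := fun i => PowerSeries.constantCoeff (f i)
  have hne : ¬(c 0 = c 1 ∧ c 1 = c 2) := by
    rintro ⟨h0, h1⟩
    apply hf
    have hd : ∀ i, (PowerSeries.X : PowerSeries k) ∣ f i - PowerSeries.C (c 0) := fun i => by
      rw [PowerSeries.X_dvd_iff]
      fin_cases i <;> simp only [map_sub, PowerSeries.constantCoeff_C] <;> simp [c] at h0 h1 ⊢ <;> simp [h0, h1]
    choose y hy using hd
    have : f = PowerSeries.C (c 0) • (1 : Fin 3 → PowerSeries k) + (PowerSeries.X : PowerSeries k) • y := by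
      funext i
      simp [← hy i]
    rw [this]
    exact Submodule.add_mem_sup (Submodule.smul_mem _ _ (Submodule.subset_span rfl))
      (Submodule.smul_mem_smul (Ideal.mem_span_singleton_self _) trivial)
  refine ⟨if c 0 = c 1 then Pi.single 0 1 else Pi.single 2 1, ?_⟩
  rw [PowerSeries.isUnit_iff_constantCoeff, isUnit_iff_ne_zero]
  by_cases h : c 0 = c 1
  · intro h0
    refine hne ⟨h, ?_⟩
    simp [h, Matrix.det_fin_three] at h0
    show c 1 = c 2
    simp only [c]
    linear_combination -h0
  · intro h0
    refine h ?_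
    simp [h, Matrix.det_fin_three] at h0
    simp only [c]
    linear_combination -h0

/-- Over R = k⟦t⟧ with k an algebraically closed field of characteristic zero, let S' = R × R × R be the
unramified triple cover of the formal disk and let m ≤ n ≤ 2m be natural numbers. For every f in S'
not lying in R·1 + t S', the R-submodule S = R·1 + R·(t ^ m f) + t ^ n S' is closed under
multiplication, hence an R-subalgebra (a crimp), and S' / S is isomorphic to R / (t ^ m) ⊕ R / (t ^
n) (so the crimp has μ-invariant n - m and branch divisor (t ^ (2(m+n)))). Together with the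
structure result for submodules with this quotient, this identifies the k-points of the space of
crimps of splitting type (m, n), 2m ≥ n, with the submodules of this shape. (The published statement
moreover asserts that this stratum is an irreducible variety of dimension n - m; that part is not
restated.) -/
theorem result {k : Type u} [Field k] [IsAlgClosed k] [CharZero k]
    (m n : ℕ) (hmn : m ≤ n) (hn : n ≤ 2 * m)
    (f : (Fin 3 → PowerSeries k)) (hf : f ∉ Submodule.span (PowerSeries k) {(1 : (Fin 3 → PowerSeries k))} ⊔ Ideal.span {(PowerSeries.X : PowerSeries k)} • (⊤ : Submodule (PowerSeries k) (Fin 3 → PowerSeries k)))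
    (S : Submodule (PowerSeries k) (Fin 3 → PowerSeries k))
    (hS : S = Submodule.span (PowerSeries k) {(1 : (Fin 3 → PowerSeries k)), ((PowerSeries.X : PowerSeries k) ^ m) • f} ⊔
        Ideal.span {(PowerSeries.X : PowerSeries k) ^ n} • (⊤ : Submodule (PowerSeries k) (Fin 3 → PowerSeries k))) :
    (∀ x ∈ S, ∀ y ∈ S, x * y ∈ S) ∧
    Nonempty (((Fin 3 → PowerSeries k) ⧸ S) ≃ₗ[PowerSeries k]
      ((PowerSeries k ⧸ Ideal.span {(PowerSeries.X : PowerSeries k) ^ m}) × (PowerSeries k ⧸ Ideal.span {(PowerSeries.X : PowerSeries k) ^ n}))) := by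
  refine ⟨(Groth.Agent.S13879.result m n f S hS).2 ?_, ?_⟩
  · rw [hS]
    refine Submodule.mem_sup_right ?_
    obtain ⟨e, he⟩ := Nat.exists_eq_add_of_le hn
    rw [he, pow_add, mul_smul]
    exact Submodule.smul_mem_smul (Ideal.mem_span_singleton_self _) trivial
  obtain ⟨g, hg⟩ := exists_third f hf
  set M : Matrix (Fin 3) (Fin 3) (PowerSeries k) := Matrix.of ![1, f, g] with hM
  let A := PowerSeries k ⧸ Ideal.span {(PowerSeries.X : PowerSeries k) ^ m}
  let B := PowerSeries k ⧸ Ideal.span {(PowerSeries.X : PowerSeries k) ^ n}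
  let L := Matrix.vecMulLinear M⁻¹
  let φ : (Fin 3 → PowerSeries k) →ₗ[PowerSeries k] A × B :=
    ((Submodule.mkQ _).comp ((LinearMap.proj 1).comp L)).prod ((Submodule.mkQ _).comp ((LinearMap.proj 2).comp L))
  have hL : ∀ a b c : PowerSeries k, L (a • 1 + b • f + c • g) = ![a, b, c] := fun a b c => by
    have : a • 1 + b • f + c • g = ![a, b, c] ᵥ* M := by
      funext i
      simp [M, Matrix.vecMul, dotProduct, Fin.sum_univ_three]
    show (a • 1 + b • f + c • g) ᵥ* M⁻¹ = _
    rw [this, Matrix.vecMul_vecMul, Matrix.mul_nonsing_inv _ hg, Matrix.vecMul_one]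
  have hrep : ∀ x, ∃ a b c : PowerSeries k, x = a • 1 + b • f + c • g := fun x => by
    refine ⟨L x 0, L x 1, L x 2, ?_⟩
    have h1 : (x ᵥ* M⁻¹) ᵥ* M = x := by rw [Matrix.vecMul_vecMul, Matrix.nonsing_inv_mul _ hg, Matrix.vecMul_one]
    conv_lhs => rw [← h1]
    funext i
    simp [M, L, Matrix.vecMul, dotProduct, Fin.sum_univ_three]
  have hφ : ∀ a b c : PowerSeries k, φ (a • 1 + b • f + c • g) = (Ideal.Quotient.mk _ b, Ideal.Quotient.mk _ c) := fun a b c => by
    show ((Submodule.Quotient.mk (L _ 1) : A), (Submodule.Quotient.mk (L _ 2) : B)) = _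
    rw [hL]
    rfl
  have hsurj : Function.Surjective φ := by
    rintro ⟨p, q⟩
    obtain ⟨p, rfl⟩ := Ideal.Quotient.mk_surjective p
    obtain ⟨q, rfl⟩ := Ideal.Quotient.mk_surjective q
    exact ⟨(0 : PowerSeries k) • 1 + p • f + q • g, hφ _ _ _⟩
  have hker : LinearMap.ker φ = S := by
    apply le_antisymm
    · intro x hx
      obtain ⟨a, b, c, rfl⟩ := hrep x
      rw [LinearMap.mem_ker, hφ, Prod.ext_iff] at hx
      obtain ⟨b', rfl⟩ := Ideal.mem_span_singleton.1 (Ideal.Quotient.eq_zero_iff_mem.1 hx.1)
      rw [hS, mul_comm, mul_smul]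
      refine add_mem (Submodule.mem_sup_left (add_mem ?_ ?_)) (Submodule.mem_sup_right ?_)
      · exact Submodule.smul_mem _ _ (Submodule.subset_span (Or.inl rfl))
      · exact Submodule.smul_mem _ _ (Submodule.subset_span (Or.inr rfl))
      · exact Submodule.smul_mem_smul (Ideal.Quotient.eq_zero_iff_mem.1 hx.2) trivial
    · rw [hS]
      refine sup_le (Submodule.span_le.2 ?_) (Submodule.smul_le.2 fun r hr x _ => ?_)
      · rintro x (rfl | rfl)
        · have := hφ 1 0 0
          simp only [zero_smul, add_zero, one_smul, map_zero] at this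
          exact this
        · have := hφ 0 ((PowerSeries.X : PowerSeries k) ^ m) 0
          simp only [zero_smul, add_zero, zero_add, map_zero, Ideal.Quotient.eq_zero_iff_mem.2 (Ideal.mem_span_singleton_self _)] at this
          exact this
      · obtain ⟨a, b, c, rfl⟩ := hrep x
        rw [LinearMap.mem_ker, map_smul, hφ]
        refine Prod.ext (Ideal.Quotient.eq_zero_iff_mem.2 (Ideal.mul_mem_right _ _ ?_))
          (Ideal.Quotient.eq_zero_iff_mem.2 (Ideal.mul_mem_right _ _ hr))
        exact Ideal.span_singleton_le_span_singleton.2 (pow_dvd_pow _ hmn) hr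
  exact ⟨(Submodule.quotEquivOfEq _ _ hker.symm).trans (φ.quotKerEquivOfSurjective hsurj)⟩

end Groth.Agent.S13886
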