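import Groth.Statements.S13901
import Mathlib
import Groth.Agent.P1CompLib

set_option autoImplicit false
universe u
open P1Fin

namespace Groth.Agent.S13901

open AlgebraicGeometry CategoryTheory in
theorem surj (S X : Scheme.{u}) [PreconnectedSpace S]
    (f : X ⟶ CohB1.ProjSpaceOver 1 S) [IsFinite f] [Flat f] [LocallyOfFinitePresentation f]
    (V : Set X) (hV : IsClopen V) (hne : V.Nonempty) (p : CohB1.ProjSpaceOver 1 S) : ∃ y ∈ V, f y = p := by
  have hD := Groth.Agent.P1CompLib.isClopen_image f hV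
  have hE : IsClopen (P1.sect S 0 ⁻¹' (f '' V)) := hD.preimage (P1.sect S 0).continuous
  obtain ⟨v, hv⟩ := hne
  rcases isClopen_iff.1 hE with h | h
  · exact absurd ((Groth.Agent.P1CompLib.mem_iff S _ hD 0 (f v)).1 ⟨v, hv, rfl⟩) (Set.eq_empty_iff_forall_notMem.1 h _)
  · exact (Groth.Agent.P1CompLib.mem_iff S _ hD 0 p).2 (Set.eq_univ_iff_forall.1 h _)

open AlgebraicGeometry CategoryTheory in
/-- Let S be a scheme with preconnected underlying space and f : X → P^1_S a finite, flat, locally
finitely presented morphism (finite locally free). Then f restricted to any connected component of X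
is surjective onto P^1_S. (The published statement allows an arbitrary base S; over a base with two
points and X a copy of the projective line over one of them, mapped identically into P^1_S, the
connected X misses the other fibre, so the base is taken connected here.) -/
theorem result (S X : Scheme.{u}) [PreconnectedSpace S]
    (f : X ⟶ CohB1.ProjSpaceOver 1 S) [IsFinite f] [Flat f] [LocallyOfFinitePresentation f]
    (x : X) (p : CohB1.ProjSpaceOver 1 S) : ∃ y ∈ connectedComponent x, f y = p := by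
  classical
  have hfin : (f ⁻¹' {p}).Finite := IsFinite.finite_preimage_singleton f p
  have hex : ∃ n, ∃ V : Set X, IsClopen V ∧ x ∈ V ∧ (V ∩ f ⁻¹' {p}).ncard = n := ⟨_, _, isClopen_univ, trivial, rfl⟩
  obtain ⟨V, hV, hxV, hn⟩ := Nat.find_spec hex
  obtain ⟨y, hy, hyp⟩ := surj S X f V hV ⟨x, hxV⟩ p
  refine ⟨y, IsPreconnected.subset_connectedComponent ?_ hxV hy, hyp⟩
  intro u v hu hv hVuv hVu hVv
  by_contra hne
  have hA : ∀ u v : Set X, IsOpen u → IsOpen v → V ⊆ u ∪ v → V ∩ (u ∩ v) = ∅ → (V ∩ u).Nonempty → (V ∩ v).Nonempty → x ∈ u → False := by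
    intro u v hu hv hVuv he hVu hVv hxu
    have hVu' : IsClopen (V ∩ u) := by
      refine ⟨⟨?_⟩, hV.2.inter hu⟩
      have : (V ∩ u)ᶜ = Vᶜ ∪ (V ∩ v) := by
        ext z
        have h1 := @hVuv z
        have h2 : z ∈ V → z ∈ u → z ∈ v → False := fun a b c => Set.eq_empty_iff_forall_notMem.1 he z ⟨a, b, c⟩
        simp only [Set.mem_compl_iff, Set.mem_inter_iff, Set.mem_union] at *
        tauto
      rw [this]
      exact hV.1.isOpen_compl.union (hV.2.inter hv)
    have hVv' : IsClopen (V \ u) := by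
      have : V \ u = V \ (V ∩ u) := by rw [Set.diff_self_inter]
      rw [this]; exact hV.diff hVu'
    obtain ⟨z, hzV, hzv⟩ := hVv
    obtain ⟨w, hw, hwp⟩ := surj S X f _ hVv' ⟨z, hzV, fun hzu => Set.eq_empty_iff_forall_notMem.1 he z ⟨hzV, hzu, hzv⟩⟩ p
    have hlt : ((V ∩ u) ∩ f ⁻¹' {p}).ncard < (V ∩ f ⁻¹' {p}).ncard := by
      apply Set.ncard_lt_ncard _ (hfin.subset Set.inter_subset_right)
      refine ⟨fun z hz => ⟨hz.1.1, hz.2⟩, fun h => hw.2 (h ⟨hw.1, hwp⟩).1.2⟩
    exact Nat.find_min hex (hn ▸ hlt) ⟨_, hVu', ⟨hxV, hxu⟩, rfl⟩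
  have he := Set.not_nonempty_iff_eq_empty.1 hne
  rcases hVuv hxV with h | h
  · exact hA u v hu hv hVuv he hVu hVv h
  · exact hA v u hv hu (by rwa [Set.union_comm]) (by rwa [Set.inter_comm v u]) hVv hVu h

end Groth.Agent.S13901
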