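import Groth.Statements.S13903
import Mathlib
-- import your own Groth.Agent.* helpers here

set_option autoImplicit false
universe u
open EtAlg

namespace Groth.Agent.S13903

/-- Let K be a field and L a finite-dimensional reduced commutative K-algebra of dimension d all of
whose elements are separable over K, generated as a K-algebra by z and t. In any finite set of at
least d^(4d) elements of K there is an element c such that c • z + t generates L as a K-algebra.
(The published statement does not require separability; for K of characteristic p and L obtained by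
adjoining p-th roots of two independent indeterminates, L is a reduced finite K-algebra generated by
two elements with no single generator, so separability over K is assumed here, as the counting in
the published proof requires.) -/
theorem result (K L : Type u) [Field K] [CommRing L]
    [Algebra K L] [Module.Finite K L] [IsReduced L] [Algebra.IsSeparable K L] (z t : L)
    (hgen : Algebra.adjoin K ({z, t} : Set L) = ⊤) (S : Finset K)
    (hS : Module.finrank K L ^ (4 * Module.finrank K L) ≤ S.card) :
    ∃ c ∈ S, Algebra.adjoin K ({c • z + t} : Set L) = ⊤ := by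
  classical
  rcases subsingleton_or_nontrivial L with hL | hL
  · have h0 : S.Nonempty := Finset.card_pos.mp (lt_of_lt_of_le (by
      rw [Module.finrank_zero_of_subsingleton]; norm_num) hS)
    obtain ⟨c, hc⟩ := h0
    exact ⟨c, hc, Subsingleton.elim _ _⟩
  have hd1 : 1 ≤ Module.finrank K L := Module.finrank_pos
  let Ω := AlgebraicClosure K
  haveI : IsArtinianRing L := IsArtinianRing.of_finite K L
  letI : ∀ I : MaximalSpectrum L, Field (L ⧸ I.asIdeal) := fun I => Ideal.Quotient.field I.asIdeal
  haveI : Fintype (MaximalSpectrum L) := Fintype.ofFinite _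
  haveI : ∀ I : MaximalSpectrum L, Algebra.IsSeparable K (L ⧸ I.asIdeal) := fun I => ⟨fun x => by
    obtain ⟨y, rfl⟩ := Ideal.Quotient.mk_surjective x
    exact (Algebra.IsSeparable.isSeparable K y).of_dvd
      (minpoly.dvd K _ (by
        rw [← Ideal.Quotient.mkₐ_eq_mk K, Polynomial.aeval_algHom_apply, minpoly.aeval, map_zero]))⟩
  let e : L ≃ₐ[K] ∀ I : MaximalSpectrum L, L ⧸ I.asIdeal := (IsArtinianRing.equivPi L).restrictScalars K
  have hsum : ∑ I : MaximalSpectrum L, Module.finrank K (L ⧸ I.asIdeal) = Module.finrank K L := by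
    rw [e.toLinearEquiv.finrank_eq, Module.finrank_pi_fintype]
  let Φ : (Σ I : MaximalSpectrum L, (L ⧸ I.asIdeal) →ₐ[K] Ω) → (L →ₐ[K] Ω) :=
    fun s => s.2.comp (Ideal.Quotient.mkₐ K s.1.asIdeal)
  have hΦ : Function.Injective Φ := by
    rintro ⟨I, g⟩ ⟨I', g'⟩ hgg
    have hI : I = I' := by
      have hker : ∀ (J : MaximalSpectrum L) (h : (L ⧸ J.asIdeal) →ₐ[K] Ω) (x : L),
          Φ ⟨J, h⟩ x = 0 ↔ x ∈ J.asIdeal := fun J h x => by
        show h (Ideal.Quotient.mk _ x) = 0 ↔ _
        rw [map_eq_zero, Ideal.Quotient.eq_zero_iff_mem]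
      exact MaximalSpectrum.ext (Ideal.ext fun x => by rw [← hker I g x, hgg, hker I' g' x])
    subst hI
    congr 1
    exact AlgHom.ext fun x => by
      obtain ⟨y, rfl⟩ := Ideal.Quotient.mk_surjective x
      exact DFunLike.congr_fun hgg y
  haveI : Fintype (L →ₐ[K] Ω) := Fintype.ofFinite _
  have hge : Module.finrank K L ≤ Fintype.card (L →ₐ[K] Ω) := by
    refine le_trans (le_of_eq ?_) (Fintype.card_le_of_injective Φ hΦ)
    rw [Fintype.card_sigma, ← hsum]
    exact Finset.sum_congr rfl fun I _ => (AlgHom.card K (L ⧸ I.asIdeal) Ω).symm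
  have hle : Fintype.card (L →ₐ[K] Ω) ≤ Module.finrank K L := by
    rw [← Nat.card_eq_fintype_card]; exact card_algHom_le_finrank K L Ω
  -- choose c avoiding the bad values
  let bad : Finset Ω := (Finset.univ : Finset (L →ₐ[K] Ω)).offDiag.image
    fun s => - (s.1 t - s.2 t) / (s.1 z - s.2 z)
  have hbad : bad.card < S.card := by
    refine lt_of_le_of_lt Finset.card_image_le (lt_of_lt_of_le ?_ hS)
    rw [Finset.offDiag_card, Finset.card_univ, le_antisymm hle hge]
    calc Module.finrank K L * Module.finrank K L - Module.finrank K L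
        < Module.finrank K L * Module.finrank K L := Nat.sub_lt (Nat.mul_pos hd1 hd1) hd1
      _ = Module.finrank K L ^ 2 := (sq _).symm
      _ ≤ Module.finrank K L ^ (4 * Module.finrank K L) := Nat.pow_le_pow_right hd1 (by omega)
  obtain ⟨c, hcS, hc⟩ : ∃ c ∈ S, algebraMap K Ω c ∉ bad := by
    by_contra h
    push Not at h
    refine absurd (Finset.card_le_card_of_injOn (algebraMap K Ω) (fun x hx => h x hx)
      (fun _ _ _ _ he => (algebraMap K Ω).injective he)) (not_le.mpr hbad)
  refine ⟨c, hcS, ?_⟩
  set w := c • z + t with hw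
  have hsep : Function.Injective fun σ : L →ₐ[K] Ω => σ w := by
    intro σ τ hστ
    by_contra hne
    have h1 : algebraMap K Ω c * (σ z - τ z) + (σ t - τ t) = 0 := by
      have h0 : σ w = τ w := hστ
      simp only [hw, map_add, Algebra.smul_def, map_mul, AlgHom.commutes] at h0
      linear_combination h0
    by_cases hz : σ z - τ z = 0
    · refine hne (AlgHom.ext_of_adjoin_eq_top hgen ?_)
      rintro x (rfl | rfl)
      · exact sub_eq_zero.mp hz
      · rw [hz, mul_zero, zero_add] at h1; exact sub_eq_zero.mp h1
    · apply hc
      refine Finset.mem_image.mpr ⟨(σ, τ), by simp [hne], ?_⟩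
      rw [div_eq_iff hz]
      linear_combination -h1
  have hwint : IsIntegral K w := Algebra.IsIntegral.isIntegral w
  have hdeg : Module.finrank K L ≤ (minpoly K w).natDegree := by
    refine hge.trans ?_
    let T : Finset Ω := Finset.univ.image fun σ : L →ₐ[K] Ω => σ w
    have hT : T.card = Fintype.card (L →ₐ[K] Ω) := Finset.card_image_of_injective _ hsep
    rw [← hT, ← Polynomial.natDegree_map (algebraMap K Ω)]
    refine Polynomial.card_le_degree_of_subset_roots fun x hx => ?_
    simp only [T, Finset.image_val, Multiset.mem_dedup, Multiset.mem_map] at hx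
    obtain ⟨σ, -, rfl⟩ := hx
    rw [Polynomial.mem_roots (Polynomial.map_ne_zero (minpoly.ne_zero hwint)), Polynomial.IsRoot,
      Polynomial.eval_map_algebraMap, Polynomial.aeval_algHom_apply, minpoly.aeval, map_zero]
  have hind := linearIndependent_pow (K := K) w
  have hsub : Subalgebra.toSubmodule (Algebra.adjoin K ({w} : Set L)) = ⊤ := by
    apply eq_top_iff.mpr
    rw [← hind.span_eq_top_of_card_eq_finrank' (le_antisymm
      (by simpa using hind.fintype_card_le_finrank) (by simpa using hdeg)), Submodule.span_le]
    rintro _ ⟨i, rfl⟩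
    exact Subalgebra.pow_mem _ (Algebra.self_mem_adjoin_singleton K w) _
  exact Algebra.toSubmodule_eq_top.mp hsub

end Groth.Agent.S13903
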