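import Groth.Statements.S13904
import Mathlib

set_option autoImplicit false
universe u
open CAlg

namespace Groth.Agent.S13904

/-- Let k be a field, A a commutative k-algebra and φ : k[x_1, …, x_r] → A a finite k-algebra map such
that A/p has Krull dimension r for every minimal prime p of A (an equidimensional affine scheme of
dimension r, finite over affine r-space). Then for every minimal prime p of A and every prime q of
k[x_1, …, x_r] there is a prime P ⊇ p of A with φ⁻¹(P) = q: the finite map restricted to each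
irreducible component of Spec A is surjective onto affine r-space. (The published statement is over
an algebraically closed field with φ a Noether normalisation; this row allows any field and any
finite k-algebra map φ.) -/
theorem result (k : Type u) [Field k] (r : ℕ)
    (A : Type u) [CommRing A] [Algebra k A] (φ : MvPolynomial (Fin r) k →ₐ[k] A)
    (hφ : φ.toRingHom.Finite)
    (hdim : ∀ p ∈ minimalPrimes A, ringKrullDim (A ⧸ p) = r)
    (p : Ideal A) (hp : p ∈ minimalPrimes A)
    (q : Ideal (MvPolynomial (Fin r) k)) [q.IsPrime] :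
    ∃ P : Ideal A, P.IsPrime ∧ p ≤ P ∧ P.comap φ.toRingHom = q := by
  let P₀ := MvPolynomial (Fin r) k
  let : Algebra P₀ A := φ.toRingHom.toAlgebra
  have : Module.Finite P₀ A := hφ
  have hpp : p.IsPrime := hp.1.1
  suffices hker : p.comap (algebraMap P₀ A) = ⊥ by
    obtain ⟨P, hle, hP, hc⟩ := Ideal.exists_ideal_over_prime_of_isIntegral_of_isPrime (R := P₀) q p (by rw [hker]; exact bot_le)
    exact ⟨P, hP, hle, hc⟩
  set K := p.comap (algebraMap P₀ A)
  by_contra hne
  obtain ⟨x, hxK, hx0⟩ := Submodule.exists_mem_ne_zero_of_ne_bot hne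
  have : Nontrivial (A ⧸ p) := Ideal.Quotient.nontrivial_iff.mpr hpp.ne_top
  have h1 : ringKrullDim (A ⧸ p) ≤ ringKrullDim (P₀ ⧸ K) :=
    Order.krullDim_le_of_strictMono (fun P => PrimeSpectrum.comap (algebraMap (P₀ ⧸ K) (A ⧸ p)) P)
      fun P Q hPQ => Ideal.IsIntegral.comap_lt_comap (R := P₀ ⧸ K) (show P.asIdeal < Q.asIdeal from hPQ)
  have h2 : ringKrullDim (P₀ ⧸ K) ≤ ringKrullDim (P₀ ⧸ Ideal.span {x}) :=
    ringKrullDim_le_of_surjective (Ideal.Quotient.factor ((Ideal.span_singleton_le_iff_mem _).mpr hxK)) (Ideal.Quotient.factor_surjective _)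
  have h3 : ringKrullDim (P₀ ⧸ Ideal.span {x}) + 1 ≤ ringKrullDim P₀ :=
    ringKrullDim_quotient_succ_le_of_nonZeroDivisor (mem_nonZeroDivisors_of_ne_zero hx0)
  have h4 : ringKrullDim P₀ = (r : WithBot ℕ∞) := by
    rw [MvPolynomial.ringKrullDim_of_isNoetherianRing, ringKrullDim_eq_zero_of_field]; simp
  have h5 : ((r + 1 : ℕ) : WithBot ℕ∞) ≤ (r : WithBot ℕ∞) := by
    rw [← h4]; refine le_trans ?_ h3
    push_cast
    rw [← hdim p hp]
    exact add_le_add_left (h1.trans h2) _
  have := Nat.cast_le.mp h5
  omega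

end Groth.Agent.S13904
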