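import Mathlib
import Groth.Statements.S13905

set_option autoImplicit false
universe u
open ProjGeom

namespace Groth.Agent.S13905

open W4c1etcurveeff3b in
/-- Hyperplanes of projective n-space in general position, in linear-algebra form (V of dimension n + 1
over a field k, hyperplanes as n-dimensional subspaces, points as nonzero vectors): if S is a finite
set of hyperplanes in general position with at least n members and H is a hyperplane containing none
of the lines cut out by n members of S, then S with H added is again in general position. (The
published statement is for hyperplanes of P^n_k and closed points; a closed point lying on n + 1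
members is automatically one of the rational points cut out by n of them, so the condition on
nonzero vectors of V is the same condition.) -/
theorem result (k V : Type u) [Field k]
    [AddCommGroup V] [Module k V] [DecidableEq (Submodule k V)] (n : ℕ) (S : Finset (Submodule k V))
    (hS : InGeneralPosition k V n S) (hn : n ≤ S.card) (H : Submodule k V)
    (hH : Module.finrank k H = n)
    (havoid : ∀ T ⊆ S, T.card = n → ¬ (T.inf id ≤ H)) :
    InGeneralPosition k V n (insert H S) := by
  classical
  obtain ⟨hV, hS1, hS2, hS3⟩ := hS
  haveI : FiniteDimensional k V := Module.finite_of_finrank_pos (by omega)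
  refine ⟨hV, ?_, ?_, ?_⟩
  · intro L hL
    rcases Finset.mem_insert.mp hL with rfl | hL
    · exact hH
    · exact hS1 L hL
  · intro T hT hc
    by_cases hHT : H ∈ T
    · have hT' : T.erase H ⊆ S := fun x hx => by
        obtain ⟨hne, hx⟩ := Finset.mem_erase.mp hx
        exact (Finset.mem_insert.mp (hT hx)).resolve_left hne
      have hcard : (T.erase H).card + 1 = T.card := Finset.card_erase_add_one hHT
      have hW := hS2 _ hT' (by omega)
      set W := (T.erase H).inf id
      have hnle : ¬ W ≤ H := fun hle => by
        obtain ⟨T'', h1, h2, h3⟩ := Finset.exists_subsuperset_card_eq hT' (by omega : (T.erase H).card ≤ n) hn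
        exact havoid T'' h2 h3 ((Finset.inf_mono h1).trans hle)
      have hsup : W ⊔ H = ⊤ := by
        have hlt : H < W ⊔ H := lt_of_le_of_ne le_sup_right fun h => hnle (le_sup_left.trans_eq h.symm)
        have h1 := Submodule.finrank_lt_finrank_of_lt hlt
        have h2 := Submodule.finrank_le (W ⊔ H)
        exact Submodule.eq_top_of_finrank_eq (by omega)
      have hsum := Submodule.finrank_sup_add_finrank_inf_eq W H
      rw [hsup, finrank_top, hV, hW, hH] at hsum
      rw [← Finset.insert_erase hHT, Finset.inf_insert, inf_comm,
        Finset.card_insert_of_notMem (Finset.notMem_erase _ _)]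
      show Module.finrank k ↥(W ⊓ H) = _
      omega
    · exact hS2 T (fun x hx => (Finset.mem_insert.mp (hT hx)).resolve_left (by rintro rfl; exact hHT hx)) hc
  · intro v hv T hT hvT
    by_contra hlt
    push Not at hlt
    have hT' : T.erase H ⊆ S := fun x hx => by
      obtain ⟨hne, hx⟩ := Finset.mem_erase.mp hx
      exact (Finset.mem_insert.mp (hT hx)).resolve_left hne
    have hvT' : ∀ L ∈ T.erase H, v ∈ L := fun L hL => hvT L (Finset.mem_of_mem_erase hL)
    have hle := hS3 v hv _ hT' hvT'
    by_cases hHT : H ∈ T
    · have hcard : (T.erase H).card = n := by
        have := Finset.card_erase_add_one hHT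
        omega
      have hdim := hS2 _ hT' hcard.le
      rw [hcard, Nat.add_sub_cancel_left] at hdim
      refine havoid _ hT' hcard ?_
      have hspan : (k ∙ v) = (T.erase H).inf id := by
        refine Submodule.eq_of_le_of_finrank_eq ?_ (by rw [finrank_span_singleton hv, hdim])
        exact (Submodule.span_singleton_le_iff_mem _ _).mpr ((Submodule.mem_finsetInf).mpr hvT')
      rw [← hspan]
      exact (Submodule.span_singleton_le_iff_mem _ _).mpr (hvT H hHT)
    · rw [Finset.erase_eq_of_notMem hHT] at hle
      omega

end Groth.Agent.S13905
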