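import Groth.Statements.S13907
import Mathlib

set_option autoImplicit false
universe u
open ProjGeom

namespace Groth.Agent.S13907

open MvPolynomial

section
variable {k : Type u} [Field k] {n : ℕ}

local notation "A" => MvPolynomial (Fin (n + 1)) k
local notation "𝒜" => CohB1.polyGrading n k

theorem le_irrelevant_aux {Q Q' : Ideal (MvPolynomial (Fin (n + 1)) k)} (hne : Q ≠ ⊤)
    (h : (HomogeneousIdeal.irrelevant 𝒜).toIdeal ≤ Q) (h' : (HomogeneousIdeal.irrelevant 𝒜).toIdeal ≤ Q') : Q ≤ Q' := by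
  classical
  intro a ha
  set a0 : A := GradedRing.proj 𝒜 0 a with ha0
  have hmem : a0 ∈ 𝒜 0 := by rw [ha0, GradedRing.proj_apply]; exact SetLike.coe_mem _
  have h1 : a - a0 ∈ (HomogeneousIdeal.irrelevant 𝒜).toIdeal := by
    show a - a0 ∈ HomogeneousIdeal.irrelevant 𝒜
    rw [HomogeneousIdeal.mem_irrelevant_iff, map_sub, sub_eq_zero, ha0, GradedRing.proj_apply, GradedRing.proj_apply,
      DirectSum.decompose_coe, DirectSum.of_eq_same]
  have h2 : a0 ∈ Q := by simpa using sub_mem ha (h h1)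
  have hC : a0 = C (a0.coeff 0) :=
    totalDegree_eq_zero_iff_eq_C.1 (Nat.le_zero.1 ((mem_homogeneousSubmodule 0 a0).1 hmem).totalDegree_le)
  rcases eq_or_ne (a0.coeff 0) 0 with h0 | h0
  · rw [h0, C_0] at hC
    rw [hC, sub_zero] at h1
    exact h' h1
  · exact absurd (Q.eq_top_of_isUnit_mem h2 (hC ▸ (IsUnit.mk0 _ h0).map C)) hne

theorem point_maximal (Z : Set (ProjectiveSpectrum 𝒜)) (hZ : IsClosed Z) (j : Fin (n + 1))
    (hdis : ∀ z ∈ Z, (X j : A) ∉ z.asHomogeneousIdeal) {p q : ProjectiveSpectrum 𝒜} (hp : p ∈ Z) (hpq : p ≤ q) :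
    p = q := by
  classical
  have hq : q ∈ Z := hZ.closure_subset_iff.2 (Set.singleton_subset_iff.2 hp) ((ProjectiveSpectrum.le_iff_mem_closure _ p q).1 hpq)
  by_contra hne
  set P := p.asHomogeneousIdeal.toIdeal
  set Q := q.asHomogeneousIdeal.toIdeal
  have hPQ : P < Q := lt_of_le_of_ne hpq fun e => hne (ProjectiveSpectrum.ext (HomogeneousIdeal.ext e))
  have hXhom : SetLike.IsHomogeneousElem 𝒜 (X j : A) := ⟨1, (mem_homogeneousSubmodule 1 _).2 (isHomogeneous_X k j)⟩
  -- every homogeneous prime containing `p` and `x` contains the irrelevant ideal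
  have key : ∀ M : Ideal A, M.IsPrime → P ⊔ Ideal.span {(X j : A)} ≤ M → (HomogeneousIdeal.irrelevant 𝒜).toIdeal ≤ M := by
    intro M hM hle
    by_contra hnle
    let M' := M.homogeneousCore 𝒜
    have hM' : M'.toIdeal.IsPrime := hM.homogeneousCore
    have hsub : ∀ N : HomogeneousIdeal 𝒜, N.toIdeal ≤ M → N.toIdeal ≤ M'.toIdeal := fun N hN => by
      rw [← N.isHomogeneous.toIdeal_homogeneousCore_eq_self]
      exact Ideal.homogeneousCore_mono 𝒜 hN
    let z : ProjectiveSpectrum 𝒜 := ⟨M', hM', fun h => hnle (le_trans h (Ideal.toIdeal_homogeneousCore_le 𝒜 M))⟩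
    have hzP : p ≤ z := hsub p.asHomogeneousIdeal (le_sup_left.trans hle)
    have hzZ : z ∈ Z := hZ.closure_subset_iff.2 (Set.singleton_subset_iff.2 hp) ((ProjectiveSpectrum.le_iff_mem_closure _ p z).1 hzP)
    refine hdis z hzZ ?_
    exact Ideal.mem_homogeneousCore_of_homogeneous_of_mem hXhom (hle (Ideal.mem_sup_right (Ideal.mem_span_singleton_self _)))
  have hne' : Q ⊔ Ideal.span {(X j : A)} ≠ ⊤ := by
    intro htop
    obtain ⟨a, ha, b, hb, hab⟩ := Submodule.mem_sup.1 (htop ▸ Submodule.mem_top : (1 : A) ∈ Q ⊔ Ideal.span {(X j : A)})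
    obtain ⟨c, rfl⟩ := Ideal.mem_span_singleton'.1 hb
    have h1 : (1 : A) ∈ Q := by
      have h0 : GradedRing.proj 𝒜 0 a ∈ Q := q.asHomogeneousIdeal.isHomogeneous 0 ha
      have hx : GradedRing.proj 𝒜 0 (c * X j) = 0 := by
        rw [GradedRing.proj_apply]
        exact DirectSum.coe_decompose_mul_of_right_mem_of_not_le 𝒜 ((mem_homogeneousSubmodule 1 _).2 (isHomogeneous_X k j)) (by omega)
      have := congrArg (GradedRing.proj 𝒜 0) hab
      rw [map_add, hx, add_zero, GradedRing.proj_apply 𝒜 0 (1 : A),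
        DirectSum.decompose_of_mem_same 𝒜 (SetLike.one_mem_graded 𝒜)] at this
      rwa [this] at h0
    exact q.isPrime.ne_top ((Ideal.eq_top_iff_one _).2 h1)
  obtain ⟨M, hMmax, hMle⟩ := Ideal.exists_le_maximal _ hne'
  obtain ⟨M₀, hM₀, hM₀le⟩ := Ideal.exists_minimalPrimes_le (I := P ⊔ Ideal.span {(X j : A)}) (J := M)
    ((sup_le_sup_right hPQ.le _).trans hMle)
  have hM₀M : M₀ = M := le_antisymm hM₀le
    (le_irrelevant_aux hMmax.ne_top (key M hMmax.isPrime ((sup_le_sup_right hPQ.le _).trans hMle)) (key M₀ hM₀.1.1 hM₀.1.2))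
  subst hM₀M
  haveI := p.isPrime
  haveI : Q.IsPrime := q.isPrime
  haveI : M₀.IsPrime := hM₀.1.1
  have hk := Ideal.map_height_le_one_of_mem_minimalPrimes hM₀
  have hXM : (X j : A) ∈ M₀ := hMle (Ideal.mem_sup_right (Ideal.mem_span_singleton_self _))
  have hQM : Q < M₀ := lt_of_le_of_ne (le_sup_left.trans hMle) fun e => hdis q hq (show (X j : A) ∈ Q from e ▸ hXM)
  have hprime : ∀ J : Ideal A, J.IsPrime → P ≤ J → (J.map (Ideal.Quotient.mk P)).IsPrime := fun J hJ h =>
    Ideal.map_isPrime_of_surjective Ideal.Quotient.mk_surjective (by rwa [Ideal.mk_ker])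
  have hlt : ∀ J J' : Ideal A, P ≤ J → J < J' → J.map (Ideal.Quotient.mk P) < J'.map (Ideal.Quotient.mk P) := fun J J' h hJ => by
    refine lt_of_le_of_ne (Ideal.map_mono hJ.le) fun e => hJ.ne ?_
    have := congrArg (Ideal.comap (Ideal.Quotient.mk P)) e
    rwa [Ideal.comap_map_of_surjective _ Ideal.Quotient.mk_surjective, Ideal.comap_map_of_surjective _ Ideal.Quotient.mk_surjective,
      ← RingHom.ker_eq_comap_bot, Ideal.mk_ker, sup_eq_left.2 h, sup_eq_left.2 (h.trans hJ.le)] at this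
  haveI := hprime P p.isPrime le_rfl
  haveI := hprime Q q.isPrime hPQ.le
  haveI := hprime M₀ hM₀.1.1 (hPQ.trans hQM).le
  have h1 := Ideal.height_strict_mono_of_isPrime_of_isPrime (hlt P Q le_rfl hPQ)
  have h2 := Ideal.height_strict_mono_of_isPrime_of_isPrime (hlt Q M₀ hPQ.le hQM)
  have h3 : (Q.map (Ideal.Quotient.mk P)).height < 1 := lt_of_lt_of_le h2 hk
  rw [ENat.lt_one_iff_eq_zero] at h3
  rw [h3] at h1
  exact not_lt_zero h1

end

/-- Over an algebraically closed field k, let C be a nonempty irreducible closed subset of the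
underlying space of projective n-space with homogeneous coordinates x_0, …, x_n, and for i ≤ n let
L_i be the linear subspace where x_1, …, x_i vanish. Then there is an index i ≤ n with C ∩ L_i
nonempty and of topological Krull dimension zero. -/
theorem result (k : Type u) [Field k]
    [IsAlgClosed k] (n : ℕ) (C : Set (ProjectiveSpectrum (CohB1.polyGrading n k)))
    (hC : IsClosed C) (hirr : IsIrreducible C) :
    ∃ i : ℕ, i ≤ n ∧
      (C ∩ ProjectiveSpectrum.zeroLocus (CohB1.polyGrading n k)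
          ((fun j : Fin (n + 1) => (MvPolynomial.X j : MvPolynomial (Fin (n + 1)) k)) ''
            {j : Fin (n + 1) | 1 ≤ j.val ∧ j.val ≤ i})).Nonempty ∧
      topologicalKrullDim ↥(C ∩ ProjectiveSpectrum.zeroLocus (CohB1.polyGrading n k)
          ((fun j : Fin (n + 1) => (MvPolynomial.X j : MvPolynomial (Fin (n + 1)) k)) ''
            {j : Fin (n + 1) | 1 ≤ j.val ∧ j.val ≤ i})) = 0 := by
  classical
  let L : ℕ → Set (ProjectiveSpectrum (CohB1.polyGrading n k)) := fun i =>
    C ∩ ProjectiveSpectrum.zeroLocus (CohB1.polyGrading n k)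
      ((fun j : Fin (n + 1) => (MvPolynomial.X j : MvPolynomial (Fin (n + 1)) k)) '' {j : Fin (n + 1) | 1 ≤ j.val ∧ j.val ≤ i})
  have h0 : (L 0).Nonempty := by
    obtain ⟨x, hx⟩ := hirr.nonempty
    refine ⟨x, hx, ?_⟩
    rintro _ ⟨j, ⟨h1, h2⟩, rfl⟩
    omega
  set i := Nat.findGreatest (fun i => (L i).Nonempty) n with hi
  have hin : i ≤ n := Nat.findGreatest_le n
  have hne : (L i).Nonempty := Nat.findGreatest_spec (P := fun i => (L i).Nonempty) (Nat.zero_le n) h0
  refine ⟨i, hin, hne, ?_⟩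
  have hLc : IsClosed (L i) := hC.inter (ProjectiveSpectrum.isClosed_zeroLocus _ _)
  obtain ⟨j, hdis⟩ : ∃ j : Fin (n + 1), ∀ z ∈ L i, (MvPolynomial.X j : MvPolynomial (Fin (n + 1)) k) ∉ z.asHomogeneousIdeal := by
    rcases hin.lt_or_eq with hlt | heq
    · refine ⟨⟨i + 1, by omega⟩, fun z hz hX => ?_⟩
      refine Nat.findGreatest_is_greatest (P := fun i => (L i).Nonempty) (n := n) (k := i + 1) (by omega) (by omega) ⟨z, hz.1, ?_⟩
      rintro _ ⟨l, ⟨h1, h2⟩, rfl⟩
      rcases (Nat.lt_or_eq_of_le h2) with h | h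
      · exact hz.2 ⟨l, ⟨h1, by omega⟩, rfl⟩
      · rw [show l = (⟨i + 1, by omega⟩ : Fin (n + 1)) from Fin.ext h]; exact hX
    · refine ⟨0, fun z hz hX => z.not_irrelevant_le ?_⟩
      intro a ha
      have hall : ∀ l : Fin (n + 1), (MvPolynomial.X l : MvPolynomial (Fin (n + 1)) k) ∈ z.asHomogeneousIdeal.toIdeal := fun l => by
        rcases eq_or_ne l 0 with rfl | hl
        · exact hX
        · exact hz.2 ⟨l, ⟨Nat.pos_of_ne_zero (fun h => hl (Fin.ext h)), by omega⟩, rfl⟩
      show a ∈ z.asHomogeneousIdeal.toIdeal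
      rw [a.as_sum]
      refine Ideal.sum_mem _ fun d hd => ?_
      by_cases hd0 : d = 0
      · exfalso
        rw [MvPolynomial.mem_support_iff, hd0] at hd
        refine hd ?_
        have := congrArg (MvPolynomial.coeff 0) ((HomogeneousIdeal.mem_irrelevant_iff _ a).1 ha)
        rw [GradedRing.proj_apply, MvPolynomial.coeff_zero] at this
        rw [← this]
        erw [MvPolynomial.decomposition.decompose'_apply]
        simp [MvPolynomial.coeff_homogeneousComponent]
      · obtain ⟨l, hl⟩ : ∃ l, d l ≠ 0 := by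
          by_contra hc
          push Not at hc
          exact hd0 (Finsupp.ext hc)
        obtain ⟨e, rfl⟩ := le_iff_exists_add.1 (Finsupp.single_le_iff.2 (show 1 ≤ d l by omega))
        rw [show MvPolynomial.monomial (Finsupp.single l 1 + e) (a.coeff (Finsupp.single l 1 + e)) =
          MvPolynomial.X l * MvPolynomial.monomial e (a.coeff (Finsupp.single l 1 + e)) by
            rw [MvPolynomial.X, MvPolynomial.monomial_mul, one_mul]]
        exact Ideal.mul_mem_right _ _ (hall l)
  haveI : QuasiSober (ProjectiveSpectrum (CohB1.polyGrading n k)) :=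
    inferInstanceAs (QuasiSober (AlgebraicGeometry.Proj (CohB1.polyGrading n k) : AlgebraicGeometry.Scheme))
  haveI : QuasiSober ↥(L i) := hLc.isClosedEmbedding_subtypeVal.quasiSober
  haveI : Nonempty ↥(L i) := hne.to_subtype
  haveI : Nonempty (TopologicalSpace.IrreducibleCloseds ↥(L i)) :=
    ⟨⟨closure {hne.to_subtype.some}, isIrreducible_singleton.closure, isClosed_closure⟩⟩
  refine le_antisymm (Order.krullDim_nonpos_iff_forall_isMax.2 fun a b hab => ?_) Order.krullDim_nonneg
  obtain ⟨x, hx⟩ := QuasiSober.sober a.isIrreducible a.isClosed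
  obtain ⟨y, hy⟩ := QuasiSober.sober b.isIrreducible b.isClosed
  have hyx : x.1 ∈ closure ({y.1} : Set (ProjectiveSpectrum (CohB1.polyGrading n k))) := by
    have h1 : x ∈ closure ({y} : Set ↥(L i)) := by
      rw [hy.def]
      apply hab
      rw [← SetLike.mem_coe, ← hx.def]
      exact subset_closure rfl
    have := image_closure_subset_closure_image continuous_subtype_val ⟨x, h1, rfl⟩
    rwa [Set.image_singleton] at this
  have := point_maximal (L i) hLc j hdis y.2 ((ProjectiveSpectrum.le_iff_mem_closure _ _ _).2 hyx)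
  have hxy : y = x := Subtype.ext this
  show (b : Set ↥(L i)) ⊆ a
  rw [← hx.def, ← hy.def, hxy]

end Groth.Agent.S13907
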