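import Groth.Statements.S13908
import Groth.Agent.BlowExcLib.Smooth
-- import your own Groth.Agent.* helpers here

set_option autoImplicit false
set_option backward.isDefEq.respectTransparency false
set_option maxHeartbeats 800000
set_option synthInstance.maxHeartbeats 200000
universe u
open CategoryTheory CategoryTheory.Limits AlgebraicGeometry
open BlowUp

namespace Groth.Agent.S13908

open Groth.Agent Groth.Agent.BlowExcLib CategoryTheory
set_option backward.isDefEq.respectTransparency false

/-- For the blowing up σ : X ⟶ Y of a smooth separated finite-type scheme over a characteristic-zero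
algebraically closed field along a closed subscheme S regularly immersed of constant codimension d ≥
2, with inverse image ideal J and exceptional divisor j : D ⟶ X, one has R^p σ_*(O_D(n)) = 0 for all
p ≥ 1 and n ≥ 0, where O_D(n) is written j_* j^*(J^n), and R^p σ_*(O_D(-1)) = 0 for all p ≥ 1, where
O_D(-1) is written j_* j^* L for any O_X-module L with L ⊗ J ≅ O_X. Higher direct images are taken
of the underlying abelian sheaves. -/
theorem result (k : Type u) [Field k] [IsAlgClosed k] [CharZero k]
    {S Y X : Scheme.{u}} [Y.Over (Spec (CommRingCat.of k))] [Smooth (Y ↘ Spec (CommRingCat.of k))]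
    [IsSeparated (Y ↘ Spec (CommRingCat.of k))] [QuasiCompact (Y ↘ Spec (CommRingCat.of k))]
    (i : S ⟶ Y) [IsClosedImmersion i] (d : ℕ) (hd : 2 ≤ d) (hi : RegImm.IsRegularImmersionOfCodim .regular d i)
    (σ : X ⟶ Y) (hσ : BlowUp.IsBlowUp σ i.ker) :
    (∀ n p : ℕ, 1 ≤ p →
      IsZero ((Coh.RpushAb σ p).obj (Coh.toAb
        ((Scheme.Modules.pushforward (BlowUp.exceptional σ i.ker).subschemeι).obj
          ((Scheme.Modules.pullback (BlowUp.exceptional σ i.ker).subschemeι).obj
            (ClSub.idealMod ((BlowUp.exceptional σ i.ker) ^ n))))))) ∧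
    (∀ L : X.Modules, ClSub.IsInverseOf L (ClSub.idealMod (BlowUp.exceptional σ i.ker)) → ∀ p : ℕ, 1 ≤ p →
      IsZero ((Coh.RpushAb σ p).obj (Coh.toAb
        ((Scheme.Modules.pushforward (BlowUp.exceptional σ i.ker).subschemeι).obj
          ((Scheme.Modules.pullback (BlowUp.exceptional σ i.ker).subschemeι).obj L))))) := by
  haveI := isNoetherian_of_smooth (k := k) (Y := Y)
  haveI := isProper_blowUp hσ
  haveI : IsNoetherian X := RGBlowLib.Union.isNoetherian_of_ft σ
  have hN : IsNiceCentre 1 i.ker := isNiceCentre_of_isRegularImmersion i d hd hi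
  refine ⟨fun n p hp => ?_, fun L hL p hp => (isZero_rpushAb_inverse hσ hN hL p hp).2⟩
  obtain ⟨e⟩ := nonempty_idealMod_pow hσ.1 n
  refine (isZero_rpushAb_exc_pow hσ hN n p hp).of_iso ?_
  exact (Coh.RpushAb σ p).mapIso ((QCohLib.toAbF X).mapIso
    ((Scheme.Modules.pushforward _).mapIso ((Scheme.Modules.pullback _).mapIso e.symm)))

end Groth.Agent.S13908
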