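import Groth.Statements.S13910
import Groth.Agent.BlowExcLib.LocFree
import Groth.Agent.BlowExcLib.Smooth
import Groth.Agent.SpSeqLib.Acyclic
import Groth.Agent.S13909
-- import your own Groth.Agent.* helpers here

set_option autoImplicit false
set_option backward.isDefEq.respectTransparency false
set_option maxHeartbeats 800000
set_option synthInstance.maxHeartbeats 200000
universe u
open CategoryTheory CategoryTheory.Limits AlgebraicGeometry
open BlowUp

namespace Groth.Agent.S13910

open Groth.Agent Groth.Agent.BlowExcLib CategoryTheory CategoryTheory.Limits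
set_option backward.isDefEq.respectTransparency false

/-- For the blowing up σ : X ⟶ Y of a smooth separated finite-type scheme over a characteristic-zero
algebraically closed field along a closed subscheme regularly immersed of constant codimension d ≥
2, and a short exact sequence 0 ⟶ E₁ ⟶ E₀ ⟶ F ⟶ 0 of O_Y-modules with E₀, E₁ finite locally free and
F quasi-coherent of finite type whose pull-back along σ is again short exact, the unit F ⟶ σ_* σ^* F
is an isomorphism and R^p σ_*(σ^* F) = 0 for all p ≥ 1 (underlying abelian sheaves). -/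
theorem result (k : Type u) [Field k] [IsAlgClosed k] [CharZero k]
    {S Y X : Scheme.{u}} [Y.Over (Spec (CommRingCat.of k))] [Smooth (Y ↘ Spec (CommRingCat.of k))]
    [IsSeparated (Y ↘ Spec (CommRingCat.of k))] [QuasiCompact (Y ↘ Spec (CommRingCat.of k))]
    (i : S ⟶ Y) [IsClosedImmersion i] (d : ℕ) (hd : 2 ≤ d) (hi : RegImm.IsRegularImmersionOfCodim .regular d i)
    (σ : X ⟶ Y) (hσ : BlowUp.IsBlowUp σ i.ker)
    (T : ShortComplex Y.Modules) (hT : T.ShortExact) (h₁ : FlatMod.IsFinLocFree T.X₁) (h₀ : FlatMod.IsFinLocFree T.X₂)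
    (hF : Coh.IsCoh T.X₃) (hpull : (T.map (Scheme.Modules.pullback σ)).ShortExact) :
    IsIso ((Scheme.Modules.pullbackPushforwardAdjunction σ).unit.app T.X₃) ∧
    ∀ p : ℕ, 1 ≤ p → IsZero ((Coh.RpushAb σ p).obj (Coh.toAb ((Scheme.Modules.pullback σ).obj T.X₃))) := by
  haveI := isNoetherian_of_smooth (k := k) (Y := Y)
  have hN : IsNiceCentre 1 i.ker := isNiceCentre_of_isRegularImmersion i d hd hi
  have hnorm := isNormalScheme_of_smooth (k := k) (Y := Y)
  let T' : ShortComplex X.Modules := T.map (Scheme.Modules.pullback σ)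
  have hA : (T'.map (QCohLib.toAbF X)).ShortExact := QCohLib.toAb_shortExact hpull
  have hacyc : ∀ {E : Y.Modules}, FlatMod.IsFinLocFree E →
      SpSeqLib.IsAcyclicFor (Coh.pushAb σ) (Coh.toAb ((Scheme.Modules.pullback σ).obj E)) :=
    fun hE p => isZero_rpushAb_locFree hσ hN hE (p + 1) (by omega)
  refine ⟨?_, fun p hp => ?_⟩
  swap
  · obtain ⟨q, rfl⟩ : ∃ q, p = q + 1 := ⟨p - 1, by omega⟩
    exact SpSeqLib.isAcyclicFor_quotient (Coh.pushAb σ) hA (hacyc h₀) (hacyc h₁) q
  let η := (Scheme.Modules.pullbackPushforwardAdjunction σ).unit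
  haveI := isIso_unit hσ hN hnorm h₁
  haveI := isIso_unit hσ hN hnorm h₀
  let F := Scheme.Modules.pushforward σ
  haveI : PreservesFiniteLimits (Coh.pushAb σ) :=
    haveI : PreservesLimitsOfSize.{0, 0} (Coh.pushAb σ) :=
      (TopCat.Sheaf.pullbackPushforwardAdjunction AddCommGrpCat.{u} σ.base).rightAdjoint_preservesLimits
    inferInstance
  haveI hepi : Epi ((QCohLib.toAbF Y).map (F.map T'.g)) :=
    SpSeqLib.epi_map_of_isZero_rightDerived_one (Coh.pushAb σ) hA (hacyc h₁ 0)
  haveI : Epi (F.map T'.g) := (QCohLib.toAbF Y).epi_of_epi_map hepi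
  haveI : Epi T.g := hT.epi_g
  have n₂ : η.app T.X₂ ≫ F.map T'.g = T.g ≫ η.app T.X₃ := (η.naturality T.g).symm
  have n₁ : η.app T.X₁ ≫ F.map T'.f = T.f ≫ η.app T.X₂ := (η.naturality T.f).symm
  haveI : PreservesLimitsOfSize.{0, 0} F := (Scheme.Modules.pullbackPushforwardAdjunction σ).rightAdjoint_preservesLimits
  haveI : PreservesFiniteLimits F := inferInstance
  haveI := hpull.mono_f
  have hex : (ShortComplex.mk (F.map T'.f) (F.map T'.g) (by rw [← F.map_comp, T'.zero, F.map_zero])).Exact :=
    hpull.exact.map_of_mono_of_preservesKernel F hpull.mono_f inferInstance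
  have hc : F.map T'.f ≫ inv (η.app T.X₂) ≫ T.g = 0 := by
    rw [← cancel_epi (η.app T.X₁)]
    refine Eq.trans ?_ comp_zero.symm
    rw [← Category.assoc, n₁, Category.assoc, IsIso.hom_inv_id_assoc, T.zero]
  let ν := hex.gIsCokernel.desc (CokernelCofork.ofπ (inv (η.app T.X₂) ≫ T.g) hc)
  have hν : F.map T'.g ≫ ν = inv (η.app T.X₂) ≫ T.g := hex.gIsCokernel.fac _ WalkingParallelPair.one
  refine ⟨⟨ν, ?_, ?_⟩⟩
  · refine (cancel_epi T.g).1 ?_
    refine Eq.trans ?_ (Category.comp_id T.g).symm
    rw [← Category.assoc, ← n₂, Category.assoc, hν, IsIso.hom_inv_id_assoc]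
  · refine (cancel_epi (F.map T'.g)).1 ?_
    refine Eq.trans ?_ (Category.comp_id (F.map T'.g)).symm
    rw [← Category.assoc, hν, Category.assoc, ← n₂, IsIso.inv_hom_id_assoc]

end Groth.Agent.S13910
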