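import Groth.Statements.S13911
import Mathlib

set_option autoImplicit false
universe u
open PlaneConic

namespace Groth.Agent.S13911

theorem eq_zero_of_rank {k : Type u} [Field k] {Q : Matrix (Fin 3) (Fin 3) k} (h : Q.rank = 0) :
    Q = 0 := by
  have h1 : LinearMap.range Q.mulVecLin = ⊥ := Submodule.finrank_eq_zero.mp h
  refine Matrix.ext fun i j => ?_
  have h2 := congrFun (LinearMap.congr_fun (LinearMap.range_eq_bot.mp h1) (Pi.single j 1)) i
  simpa using h2

theorem linearForm {k : Type u} [Field k] (z : MvPolynomial (Fin 3) k) (hz : z.IsHomogeneous 1) :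
    ∃ c : Fin 3 → k, ∀ x, MvPolynomial.eval x z = dotProduct c x := by
  refine ⟨fun i => MvPolynomial.eval 0 (MvPolynomial.pderiv i z), fun x => ?_⟩
  conv_lhs => rw [← one_smul ℕ z, ← hz.sum_X_mul_pderiv]
  rw [map_sum, dotProduct]
  refine Finset.sum_congr rfl fun i _ => ?_
  have h0 : (MvPolynomial.pderiv i z).totalDegree = 0 := by
    have h : (MvPolynomial.pderiv i z).IsHomogeneous (1 - 1) := hz.pderiv
    exact Nat.le_zero.mp h.totalDegree_le
  rw [MvPolynomial.totalDegree_eq_zero_iff_eq_C.mp h0]
  simp [mul_comm, MvPolynomial.constantCoeff_eq]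
theorem exists_sum_sq {k : Type u} [Field k] [IsAlgClosed k] [CharZero k] :
    ∀ (r : ℕ) (Q : Matrix (Fin 3) (Fin 3) k), Q.IsSymm → Q.rank ≤ r →
      ∃ a : Fin r → Fin 3 → k, ∀ i j, Q i j = ∑ l, a l i * a l j := by
  intro r
  induction r with
  | zero =>
    intro Q _ hr
    have h0 : Q = 0 := eq_zero_of_rank (Nat.le_zero.mp hr)
    exact ⟨fun l => Fin.elim0 l, fun i j => by simp [h0]⟩
  | succ r ih =>
    intro Q hQ hr
    by_cases h0 : Q = 0
    · exact ⟨fun _ _ => 0, fun i j => by simp [h0]⟩
    have hsym : ∀ i j, Q i j = Q j i := fun i j => (hQ.apply i j).symm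
    obtain ⟨v, hv⟩ : ∃ v : Fin 3 → k, dotProduct v (Q.mulVec v) ≠ 0 := by
      by_contra hh
      push_neg at hh
      refine h0 (Matrix.ext fun i j => ?_)
      have h1 := hh (Pi.single i 1 + Pi.single j 1)
      have h2 := hh (Pi.single i 1)
      have h3 := hh (Pi.single j 1)
      simp [Matrix.mulVec_add, add_dotProduct, dotProduct_add] at h1 h2 h3
      rw [h2, h3, hsym j i] at h1
      simpa [← two_mul] using h1
    obtain ⟨s, hs⟩ := IsAlgClosed.exists_eq_mul_self (dotProduct v (Q.mulVec v))
    have hs0 : s ≠ 0 := by rintro rfl; exact hv (by simpa using hs)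
    let a : Fin 3 → k := fun i => Q.mulVec v i / s
    let Q' : Matrix (Fin 3) (Fin 3) k := Matrix.of fun i j => Q i j - a i * a j
    have hQ' : Q'.IsSymm := Matrix.IsSymm.ext fun i j => by simp [Q', hsym i j, mul_comm (a i)]
    have happ : ∀ x, Q'.mulVec x = Q.mulVec x - dotProduct a x • a := by
      intro x
      funext i
      simp [Q', Matrix.mulVec, dotProduct, Fin.sum_univ_three]
      ring
    have hrank : Q'.rank < Q.rank := by
      have hle : LinearMap.ker Q.mulVecLin < LinearMap.ker Q'.mulVecLin := by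
        refine lt_of_le_of_ne (fun x hx => ?_) (fun he => ?_)
        · rw [LinearMap.mem_ker, Matrix.mulVecLin_apply] at hx ⊢
          have hax : dotProduct a x = 0 := by
            have h1 : dotProduct v (Q.mulVec x) = 0 := by rw [hx, dotProduct_zero]
            rw [Matrix.dotProduct_mulVec, ← Matrix.mulVec_transpose, hQ.eq] at h1
            have : a = s⁻¹ • Q.mulVec v := funext fun i => by simp [a, div_eq_inv_mul]
            rw [this, smul_dotProduct, h1, smul_zero]
          rw [happ, hx, hax, zero_smul, sub_zero]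
        · have hav : dotProduct a v = s := by
            have : a = s⁻¹ • Q.mulVec v := funext fun i => by simp [a, div_eq_inv_mul]
            rw [this, smul_dotProduct, dotProduct_comm, hs, smul_eq_mul, inv_mul_cancel_left₀ hs0]
          have hmem : v ∈ LinearMap.ker Q'.mulVecLin := by
            rw [LinearMap.mem_ker, Matrix.mulVecLin_apply, happ, hav]
            funext i
            simp [a, hs0, mul_div_cancel₀]
          rw [← he, LinearMap.mem_ker, Matrix.mulVecLin_apply] at hmem
          exact hv (by rw [hmem, dotProduct_zero])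
      have h1 := Q.mulVecLin.finrank_range_add_finrank_ker
      have h2 := Q'.mulVecLin.finrank_range_add_finrank_ker
      have h3 := Submodule.finrank_lt_finrank_of_lt hle
      show Module.finrank k (LinearMap.range Q'.mulVecLin) < Module.finrank k (LinearMap.range Q.mulVecLin)
      omega
    obtain ⟨b, hb⟩ := ih Q' hQ' (by omega)
    refine ⟨Fin.cons a b, fun i j => ?_⟩
    rw [Fin.sum_univ_succ]
    simp only [Fin.cons_zero, Fin.cons_succ, ← hb, Q', Matrix.of_apply]
    ring

theorem half_prod {k : Type u} [Field k] [CharZero k] (Q : Matrix (Fin 3) (Fin 3) k) (hQ : Q.IsSymm)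
    (a b : Fin 3 → k)
    (h : ∀ x, dotProduct x (Q.mulVec x) = dotProduct a x * dotProduct b x) :
    Q = (Matrix.of ![a, b]).transpose * Matrix.of ![(2 : k)⁻¹ • b, (2 : k)⁻¹ • a] := by
  refine Matrix.ext fun i j => ?_
  have h1 := h (Pi.single i 1 + Pi.single j 1)
  have h2 := h (Pi.single i 1)
  have h3 := h (Pi.single j 1)
  simp [Matrix.mulVec_add, add_dotProduct, dotProduct_add] at h1 h2 h3
  simp [Matrix.mul_apply, Fin.sum_univ_two]
  have h4 : Q j i = Q i j := hQ.apply i j
  have h5 : (2 : k) * (2 : k)⁻¹ = 1 := mul_inv_cancel₀ two_ne_zero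
  linear_combination (2 : k)⁻¹ * (h1 - h2 - h3) - (Q i j) * h5 - (2 : k)⁻¹ * h4

theorem rank_eq_two {k : Type u} [Field k] [CharZero k] (Q : Matrix (Fin 3) (Fin 3) k) (hQ : Q.IsSymm)
    (a b : Fin 3 → k) (hli : LinearIndependent k ![a, b])
    (h : ∀ x, dotProduct x (Q.mulVec x) = dotProduct a x * dotProduct b x) : Q.rank = 2 := by
  let A : Matrix (Fin 2) (Fin 3) k := Matrix.of ![a, b]
  have hA : A.rank = 2 := by
    have : LinearIndependent k A.row := hli
    rw [this.rank_matrix, Fintype.card_fin]
  have hker : LinearMap.ker Q.mulVecLin = LinearMap.ker A.mulVecLin := by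
    ext x
    simp only [LinearMap.mem_ker, Matrix.mulVecLin_apply]
    rw [half_prod Q hQ a b h, ← Matrix.mulVec_mulVec]
    constructor
    · intro h0
      have h1 : ((2 : k)⁻¹ * dotProduct b x) • a + ((2 : k)⁻¹ * dotProduct a x) • b = 0 := by
        funext i
        have := congrFun h0 i
        simp [Matrix.mulVec, dotProduct, Fin.sum_univ_two, Fin.sum_univ_three] at this ⊢
        linear_combination this
      obtain ⟨e1, e2⟩ := LinearIndependent.pair_iff.mp hli _ _ h1
      simp at e1 e2
      funext l
      fin_cases l <;> simpa [A, Matrix.mulVec] using (by first | exact e2 | exact e1)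
    · intro h0
      have e1 := congrFun h0 0
      have e2 := congrFun h0 1
      simp [A, Matrix.mulVec] at e1 e2
      have : (Matrix.of ![(2 : k)⁻¹ • b, (2 : k)⁻¹ • a]).mulVec x = 0 := by
        funext l
        fin_cases l
        · exact (smul_dotProduct (2 : k)⁻¹ b x).trans (by rw [e2, smul_zero]; rfl)
        · exact (smul_dotProduct (2 : k)⁻¹ a x).trans (by rw [e1, smul_zero]; rfl)
      rw [this, Matrix.mulVec_zero]
  have h1 := Q.mulVecLin.finrank_range_add_finrank_ker
  have h2 := A.mulVecLin.finrank_range_add_finrank_ker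
  rw [hker] at h1
  show Module.finrank k (LinearMap.range Q.mulVecLin) = 2
  have h3 : Module.finrank k (LinearMap.range A.mulVecLin) = 2 := hA
  omega


/-- For an algebraically closed field k of characteristic zero, a nonzero symmetric 3 × 3 matrix Q over
k and the ternary quadratic form f = Σ Q_ij X_i X_j in k[X_0, X_1, X_2] (the equation of a plane
conic): (1) f is irreducible iff det Q ≠ 0; (2) the conic has a singular point, that is a nonzero
vector at which all partial derivatives of f vanish, iff det Q = 0 (so smooth conics are exactly the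
irreducible ones); (3) f is the product of two linearly independent linear forms (two distinct
lines) iff rank Q = 2; (4) f is the square of a linear form (a double line) iff rank Q = 1. -/
theorem result (k : Type u) [Field k] [IsAlgClosed k] [CharZero k]
    (Q : Matrix (Fin 3) (Fin 3) k) (hQ : Q.IsSymm) (hQ0 : Q ≠ 0) (f : MvPolynomial (Fin 3) k)
    (hf : f = ∑ i : Fin 3, ∑ j : Fin 3, Q i j • (MvPolynomial.X i * MvPolynomial.X j)) :
    (Irreducible f ↔ Q.det ≠ 0) ∧
    ((∃ u : Fin 3 → k, u ≠ 0 ∧ ∀ i : Fin 3, MvPolynomial.eval u (MvPolynomial.pderiv i f) = 0) ↔ Q.det = 0) ∧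
    ((∃ a b : Fin 3 → k, LinearIndependent k ![a, b] ∧
        f = (∑ i : Fin 3, a i • MvPolynomial.X i) * (∑ i : Fin 3, b i • MvPolynomial.X i)) ↔ Q.rank = 2) ∧
    ((∃ a : Fin 3 → k, f = (∑ i : Fin 3, a i • MvPolynomial.X i) ^ 2) ↔ Q.rank = 1) := by
  classical
  have hsym : ∀ i j, Q i j = Q j i := fun i j => (hQ.apply i j).symm
  have hev : ∀ x, MvPolynomial.eval x f = dotProduct x (Q.mulVec x) := by
    intro x
    rw [hf]
    simp [Fin.sum_univ_three, Matrix.mulVec, dotProduct]
    ring
  have hL : ∀ (a x : Fin 3 → k),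
      MvPolynomial.eval x (∑ i : Fin 3, a i • MvPolynomial.X i) = dotProduct a x := by
    intro a x; simp [dotProduct]
  have hf0 : f ≠ 0 := by
    intro h
    refine hQ0 ?_
    rw [half_prod Q hQ 0 0 (fun x => by rw [← hev, h, map_zero, zero_dotProduct, zero_mul])]
    exact Matrix.ext fun i j => by simp [Matrix.mul_apply, Fin.sum_univ_two]
  have hprod : ∀ r, Q.rank ≤ r → r ≤ 2 → ∃ a b : Fin 3 → k,
      f = (∑ i : Fin 3, a i • MvPolynomial.X i) * (∑ i : Fin 3, b i • MvPolynomial.X i) ∧
        (Q.rank = 2 → LinearIndependent k ![a, b]) := by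
    intro r hr hr2
    obtain ⟨c, hc⟩ := exists_sum_sq 2 Q hQ (hr.trans hr2)
    obtain ⟨I, hI⟩ := IsAlgClosed.exists_eq_mul_self (-1 : k)
    refine ⟨fun i => c 0 i + I * c 1 i, fun i => c 0 i - I * c 1 i,
      MvPolynomial.funext fun x => ?_, fun h2 => ?_⟩
    · rw [hev, map_mul, hL, hL]
      simp [Matrix.mulVec, dotProduct, Fin.sum_univ_three, hc, Fin.sum_univ_two]
      linear_combination (-((c 1 0 * x 0 + c 1 1 * x 1 + c 1 2 * x 2) ^ 2)) * hI
    · have hQc : Q = (Matrix.of c).transpose * Matrix.of c := by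
        ext i j; simp [Matrix.mul_apply, hc]
      have hrk : (Matrix.of c).rank = 2 := by
        have h1 := Matrix.rank_mul_le_right (Matrix.of c).transpose (Matrix.of c)
        rw [← hQc, h2] at h1
        have h3 := Matrix.rank_le_height (Matrix.of c)
        omega
      have hli : LinearIndependent k c := by
        rw [linearIndependent_iff_card_eq_finrank_span, Fintype.card_fin, Set.finrank]
        exact hrk.symm.trans (Matrix.rank_eq_finrank_span_row _)
      rw [LinearIndependent.pair_iff]
      intro s t hst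
      have h4 : (s + t) • c 0 + (I * (s - t)) • c 1 = 0 := by
        funext i
        have := congrFun hst i
        simp at this ⊢
        linear_combination this
      have h5 := Fintype.linearIndependent_iff.mp hli ![s + t, I * (s - t)] (by
        simpa [Fin.sum_univ_two] using h4)
      have e1 : s + t = 0 := h5 0
      have e2 : I * (s - t) = 0 := h5 1
      have hI0 : I ≠ 0 := by rintro rfl; simp at hI
      have e3 : s - t = 0 := (mul_eq_zero.mp e2).resolve_left hI0
      have e4 : (2 : k) * s = 0 := by linear_combination e1 + e3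
      have e5 : s = 0 := (mul_eq_zero.mp e4).resolve_left two_ne_zero
      exact ⟨e5, by linear_combination e1 - e5⟩
  have hle : ∀ a b : Fin 3 → k, (∀ x, MvPolynomial.eval x f = dotProduct a x * dotProduct b x) →
      Q.rank ≤ 2 := by
    intro a b h
    rw [half_prod Q hQ a b (fun x => (hev x).symm.trans (h x))]
    exact (Matrix.rank_mul_le_right _ _).trans (Matrix.rank_le_height _)
  have hdet : Q.det = 0 ↔ Q.rank ≤ 2 := by
    constructor
    · intro h
      obtain ⟨x, hx, hx0⟩ := Matrix.exists_mulVec_eq_zero_iff.mpr h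
      have h1 := Q.mulVecLin.finrank_range_add_finrank_ker
      rw [Module.finrank_fintype_fun_eq_card, Fintype.card_fin] at h1
      have h2 : 0 < Module.finrank k (LinearMap.ker Q.mulVecLin) := by
        rw [Module.finrank_pos_iff_exists_ne_zero]
        exact ⟨⟨x, hx0⟩, fun h => hx (congrArg Subtype.val h)⟩
      show Module.finrank k (LinearMap.range Q.mulVecLin) ≤ 2
      omega
    · intro h
      by_contra hne
      have := Matrix.rank_of_isUnit Q ((Matrix.isUnit_iff_isUnit_det Q).mpr (isUnit_iff_ne_zero.mpr hne))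
      rw [Fintype.card_fin] at this
      omega
  refine ⟨⟨fun hirr hd => ?_, fun hd => ⟨fun hu => ?_, fun g h hgh => ?_⟩⟩, ?_, ⟨?_, ?_⟩, ⟨?_, ?_⟩⟩
  · obtain ⟨a, b, hab, -⟩ := hprod _ le_rfl (hdet.mp hd)
    have hnu : ∀ a : Fin 3 → k, ¬ IsUnit (∑ i : Fin 3, a i • MvPolynomial.X i : MvPolynomial (Fin 3) k) := by
      intro a h
      have := h.map (MvPolynomial.eval (0 : Fin 3 → k))
      rw [hL, dotProduct_zero] at this
      exact not_isUnit_zero this
    rcases hirr.isUnit_or_isUnit hab with h | h
    · exact hnu _ h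
    · exact hnu _ h
  · have := hu.map (MvPolynomial.eval (0 : Fin 3 → k))
    rw [hev, zero_dotProduct] at this
    exact not_isUnit_zero this
  · by_contra hcon
    rw [not_or] at hcon
    have hg0 : g ≠ 0 := by rintro rfl; exact hf0 (by rw [hgh, zero_mul])
    have hh0 : h ≠ 0 := by rintro rfl; exact hf0 (by rw [hgh, mul_zero])
    have hpos : ∀ q : MvPolynomial (Fin 3) k, q ≠ 0 → ¬ IsUnit q → 1 ≤ q.totalDegree := by
      intro q hq hqu
      by_contra h0
      have h1 := MvPolynomial.totalDegree_eq_zero_iff_eq_C.mp (Nat.lt_one_iff.mp (not_le.mp h0))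
      refine hqu ?_
      rw [h1]
      refine (isUnit_iff_ne_zero.mpr fun h2 => hq ?_).map MvPolynomial.C
      rw [h1, h2, map_zero]
    have hdeg : f.totalDegree ≤ 2 := by
      rw [hf]
      refine MvPolynomial.totalDegree_finsetSum_le fun i _ => ?_
      refine MvPolynomial.totalDegree_finsetSum_le fun j _ => ?_
      refine (MvPolynomial.totalDegree_smul_le _ _).trans ((MvPolynomial.totalDegree_mul _ _).trans ?_)
      simp
    rw [hgh, MvPolynomial.totalDegree_mul_of_isDomain hg0 hh0] at hdeg
    have hg1 := hpos g hg0 hcon.1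
    have hh1 := hpos h hh0 hcon.2
    -- affine linear functions
    have haff : ∀ q : MvPolynomial (Fin 3) k, q.totalDegree ≤ 1 → ∃ (c : k) (a : Fin 3 → k),
        ∀ x, MvPolynomial.eval x q = c + dotProduct a x := by
      intro q hq
      obtain ⟨a, ha⟩ := linearForm _ (MvPolynomial.homogeneousComponent_isHomogeneous 1 q)
      refine ⟨MvPolynomial.coeff 0 q, a, fun x => ?_⟩
      conv_lhs => rw [← MvPolynomial.sum_homogeneousComponent q]
      rw [Finset.sum_subset (Finset.range_subset_range.mpr (Nat.succ_le_succ hq) :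
          Finset.range (q.totalDegree + 1) ⊆ Finset.range 2) (fun m _ hm => by
        rw [MvPolynomial.homogeneousComponent_eq_zero]
        simp at hm; omega)]
      rw [Finset.sum_range_succ, Finset.sum_range_one, map_add, MvPolynomial.homogeneousComponent_zero,
        MvPolynomial.eval_C, ha]
    obtain ⟨c, a, hca⟩ := haff g (by omega)
    obtain ⟨d, b, hdb⟩ := haff h (by omega)
    refine hd (hdet.mpr (hle a b fun x => ?_))
    have key : ∀ t : k, t * t * dotProduct x (Q.mulVec x)
        = (c + t * dotProduct a x) * (d + t * dotProduct b x) := by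
      intro t
      have h2 := congrArg (MvPolynomial.eval (t • x)) hgh
      rw [hev, map_mul, hca, hdb, Matrix.mulVec_smul, smul_dotProduct, dotProduct_smul,
        dotProduct_smul, dotProduct_smul, smul_eq_mul, smul_eq_mul, smul_eq_mul, smul_eq_mul] at h2
      linear_combination h2
    rw [hev]
    have e0 := key 0
    have e1 := key 1
    have e2 := key (-1)
    linear_combination (2 : k)⁻¹ * e1 + (2 : k)⁻¹ * e2 - e0 -
      (dotProduct x (Q.mulVec x) - dotProduct a x * dotProduct b x - c * d) *
        (mul_inv_cancel₀ (two_ne_zero : (2 : k) ≠ 0))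
  · have hgrad : ∀ u i, MvPolynomial.eval u (MvPolynomial.pderiv i f) = 2 * Q.mulVec u i := by
      intro u i
      rw [hf]
      fin_cases i <;>
        simp [Fin.sum_univ_three, Matrix.mulVec, dotProduct, hsym 1 0, hsym 2 0, hsym 2 1] <;> ring
    rw [← Matrix.exists_mulVec_eq_zero_iff]
    simp only [hgrad, mul_eq_zero, two_ne_zero, false_or, funext_iff, Pi.zero_apply]
  · rintro ⟨a, b, hli, hab⟩
    exact rank_eq_two Q hQ a b hli (fun x => by rw [← hev, hab, map_mul, hL, hL])
  · intro h2
    obtain ⟨a, b, hab, hli⟩ := hprod 2 h2.le le_rfl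
    exact ⟨a, b, hli h2, hab⟩
  · rintro ⟨a, ha⟩
    have h1 : Q.rank ≤ 1 := by
      have hQa : Q = Matrix.vecMulVec a a := by
        rw [half_prod Q hQ a a (fun x => by rw [← hev, ha, map_pow, hL, pow_two])]
        ext i j
        simp [Matrix.mul_apply, Fin.sum_univ_two, Matrix.vecMulVec]
        field_simp
        ring
      rw [hQa]
      exact Matrix.rank_vecMulVec_le _ _
    have h0 : Q.rank ≠ 0 := fun h => hQ0 (eq_zero_of_rank h)
    omega
  · intro h1
    obtain ⟨c, hc⟩ := exists_sum_sq 1 Q hQ h1.le
    refine ⟨c 0, MvPolynomial.funext fun x => ?_⟩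
    rw [hev, map_pow, hL]
    simp [Matrix.mulVec, dotProduct, Fin.sum_univ_three, hc]
    ring

end Groth.Agent.S13911
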