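import Groth.Statements.S13912
import Mathlib

set_option autoImplicit false
universe u
open PlaneConic

namespace Groth.Agent.S13912

theorem eq_sum_C_mul_X {k : Type u} [Field k] (z : MvPolynomial (Fin 3) k) (hz : z.IsHomogeneous 1) :
    ∃ c : Fin 3 → k, z = ∑ i, MvPolynomial.C (c i) * MvPolynomial.X i := by
  refine ⟨fun i => MvPolynomial.eval 0 (MvPolynomial.pderiv i z), ?_⟩
  conv_lhs => rw [← one_smul ℕ z, ← hz.sum_X_mul_pderiv]
  refine Finset.sum_congr rfl fun i _ => ?_
  have h0 : (MvPolynomial.pderiv i z).totalDegree = 0 := by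
    have h : (MvPolynomial.pderiv i z).IsHomogeneous (1 - 1) := hz.pderiv
    exact Nat.le_zero.mp h.totalDegree_le
  rw [MvPolynomial.totalDegree_eq_zero_iff_eq_C.mp h0]
  simp [mul_comm, MvPolynomial.constantCoeff_eq]

/-- the linear functional of a linear form -/
theorem exists_linearMap {k : Type u} [Field k] (z : MvPolynomial (Fin 3) k) (hz : z.IsHomogeneous 1) :
    ∃ ℓ : (Fin 3 → k) →ₗ[k] k, ∀ x, MvPolynomial.eval x z = ℓ x := by
  obtain ⟨c, rfl⟩ := eq_sum_C_mul_X z hz
  exact ⟨∑ i, c i • LinearMap.proj i, fun x => by simp⟩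

theorem exists_rankOne {k : Type u} [Field k] (A : Matrix (Fin 2) (Fin 2) k) (hA : A.det = 0) :
    ∃ a b : Fin 2 → k, ∀ i j, A i j = a i * b j := by
  rw [Matrix.det_fin_two] at hA
  by_cases h00 : A 0 0 = 0
  · rw [h00, zero_mul, zero_sub, neg_eq_zero, mul_eq_zero] at hA
    rcases hA with h | h
    · exact ⟨![0, 1], ![A 1 0, A 1 1], fun i j => by fin_cases i <;> fin_cases j <;> simp [h00, h]⟩
    · exact ⟨![A 0 1, A 1 1], ![0, 1], fun i j => by fin_cases i <;> fin_cases j <;> simp [h00, h]⟩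
  · refine ⟨![1, A 1 0 / A 0 0], ![A 0 0, A 0 1], fun i j => ?_⟩
    fin_cases i <;> fin_cases j <;> simp [h00]
    field_simp
    linear_combination hA

theorem exists_perp {k : Type u} [Field k] (x y : Fin 2 → k) (h : x 0 * y 1 - x 1 * y 0 = 0) :
    ∃ u : Fin 2 → k, u ≠ 0 ∧ x 0 * u 0 + x 1 * u 1 = 0 ∧ y 0 * u 0 + y 1 * u 1 = 0 := by
  obtain ⟨u, hu, he⟩ := (Matrix.exists_mulVec_eq_zero_iff (M := !![x 0, x 1; y 0, y 1])).mpr (by
    rw [Matrix.det_fin_two]; simpa using h)
  refine ⟨u, hu, ?_, ?_⟩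
  · have := congrFun he 0
    simpa [Matrix.mulVec, dotProduct, Fin.sum_univ_two] using this
  · have := congrFun he 1
    simpa [Matrix.mulVec, dotProduct, Fin.sum_univ_two] using this

/-- two singular matrices with singular sum have a common kernel or cokernel vector -/
theorem common_null {k : Type u} [Field k] (A B : Matrix (Fin 2) (Fin 2) k) (hA : A.det = 0)
    (hB : B.det = 0) (hAB : (A + B).det = 0) :
    (∃ v : Fin 2 → k, v ≠ 0 ∧ ∀ i, A i 0 * v 0 + A i 1 * v 1 = 0 ∧ B i 0 * v 0 + B i 1 * v 1 = 0) ∨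
    (∃ u : Fin 2 → k, u ≠ 0 ∧ ∀ j, A 0 j * u 0 + A 1 j * u 1 = 0 ∧ B 0 j * u 0 + B 1 j * u 1 = 0) := by
  obtain ⟨a, b, hab⟩ := exists_rankOne A hA
  obtain ⟨c, d, hcd⟩ := exists_rankOne B hB
  have h : (a 0 * c 1 - a 1 * c 0) * (b 0 * d 1 - b 1 * d 0) = 0 := by
    rw [← hAB, Matrix.det_fin_two]
    simp only [Matrix.add_apply, hab, hcd]
    ring
  rcases mul_eq_zero.mp h with h1 | h1
  · obtain ⟨u, hu, e1, e2⟩ := exists_perp a c h1
    refine Or.inr ⟨u, hu, fun j => ⟨?_, ?_⟩⟩
    · simp only [hab]; linear_combination (b j) * e1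
    · simp only [hcd]; linear_combination (d j) * e2
  · obtain ⟨v, hv, e1, e2⟩ := exists_perp b d h1
    refine Or.inl ⟨v, hv, fun i => ⟨?_, ?_⟩⟩
    · simp only [hab]; linear_combination (a i) * e1
    · simp only [hcd]; linear_combination (c i) * e2

theorem exists_GL_col {k : Type u} [Field k] (v : Fin 2 → k) (hv : v ≠ 0) :
    ∃ h : GL (Fin 2) k, h.val 0 1 = v 0 ∧ h.val 1 1 = v 1 := by
  by_cases h0 : v 0 = 0
  · have h1 : v 1 ≠ 0 := fun h1 => hv (funext fun i => by fin_cases i <;> assumption)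
    exact ⟨Matrix.GeneralLinearGroup.mkOfDetNeZero !![1, v 0; 0, v 1] (by simp [h1]), rfl, rfl⟩
  · exact ⟨Matrix.GeneralLinearGroup.mkOfDetNeZero !![0, v 0; 1, v 1] (by simp [h0]), rfl, rfl⟩

theorem exists_GL_row {k : Type u} [Field k] (v : Fin 2 → k) (hv : v ≠ 0) :
    ∃ h : GL (Fin 2) k, h.val 0 0 = v 0 ∧ h.val 0 1 = v 1 := by
  by_cases h0 : v 0 = 0
  · have h1 : v 1 ≠ 0 := fun h1 => hv (funext fun i => by fin_cases i <;> assumption)
    exact ⟨Matrix.GeneralLinearGroup.mkOfDetNeZero !![v 0, v 1; 1, 0] (by simp [h1]), rfl, rfl⟩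
  · exact ⟨Matrix.GeneralLinearGroup.mkOfDetNeZero !![v 0, v 1; 0, 1] (by simp [h0]), rfl, rfl⟩


/-- Over an algebraically closed field k of characteristic zero, for a 2 × 2 matrix M of linear forms in
k[X_0, X_1, X_2] (entries homogeneous of degree 1, zero allowed), det M is a product of two linear
forms if and only if M can be brought by invertible scalar row and column operations g M h, with g,
h in GL_2(k), to a matrix with zero upper-right entry. (The published statement concerns matrices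
with nonzero determinant; this row also allows determinant zero, where both sides hold.) -/
theorem result (k : Type u) [Field k] [IsAlgClosed k] [CharZero k]
    (M : Matrix (Fin 2) (Fin 2) (MvPolynomial (Fin 3) k)) (hM : ∀ a b : Fin 2, (M a b).IsHomogeneous 1) :
    (∃ l₁ l₂ : MvPolynomial (Fin 3) k, l₁.IsHomogeneous 1 ∧ l₂.IsHomogeneous 1 ∧ M.det = l₁ * l₂) ↔
    ∃ g h : GL (Fin 2) k,
      ((MvPolynomial.C : k →+* MvPolynomial (Fin 3) k).mapMatrix g.val * M *
        (MvPolynomial.C : k →+* MvPolynomial (Fin 3) k).mapMatrix h.val) 0 1 = 0 := by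
  classical
  constructor
  · rintro ⟨l₁, l₂, hl₁, hl₂, hdet⟩
    -- replace `l₁` by a nonzero linear form on whose zero locus `det M` vanishes
    obtain ⟨l, hl, hl0, hker⟩ : ∃ l : MvPolynomial (Fin 3) k, l.IsHomogeneous 1 ∧ l ≠ 0 ∧
        ∀ x, MvPolynomial.eval x l = 0 → MvPolynomial.eval x M.det = 0 := by
      by_cases h1 : l₁ = 0
      · exact ⟨MvPolynomial.X 0, MvPolynomial.isHomogeneous_X k 0, MvPolynomial.X_ne_zero 0,
          fun x _ => by rw [hdet, h1, zero_mul, map_zero]⟩
      · exact ⟨l₁, hl₁, h1, fun x hx => by rw [hdet, map_mul, hx, zero_mul]⟩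
    obtain ⟨ℓ, hℓ⟩ := exists_linearMap l hl
    have hℓ0 : ℓ ≠ 0 := fun h => hl0 (MvPolynomial.funext fun x => by rw [hℓ, h]; simp)
    obtain ⟨z, hz⟩ : ∃ z, ℓ z ≠ 0 := by
      by_contra hh
      push_neg at hh
      exact hℓ0 (LinearMap.ext fun x => by simp [hh x])
    have hdim : Module.finrank k (LinearMap.ker ℓ) = 2 := by
      have h := ℓ.finrank_range_add_finrank_ker
      rw [LinearMap.range_eq_top.mpr (LinearMap.surjective hℓ0), finrank_top, Module.finrank_self,
        Module.finrank_fintype_fun_eq_card, Fintype.card_fin] at h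
      omega
    let bK := Module.finBasisOfFinrankEq k (LinearMap.ker ℓ) hdim
    -- linear forms vanishing at the two basis points are multiples of `l`
    have hprop : ∀ f : MvPolynomial (Fin 3) k, f.IsHomogeneous 1 →
        MvPolynomial.eval (bK 0 : Fin 3 → k) f = 0 → MvPolynomial.eval (bK 1 : Fin 3 → k) f = 0 →
        ∃ c : k, f = MvPolynomial.C c * l := by
      intro f hf h0 h1
      obtain ⟨φ, hφ⟩ := exists_linearMap f hf
      rw [hφ] at h0 h1
      have hz0 : φ ∘ₗ (LinearMap.ker ℓ).subtype = 0 := bK.ext fun i => by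
        fin_cases i <;> simp [h0, h1]
      refine ⟨φ z / ℓ z, MvPolynomial.funext fun x => ?_⟩
      rw [map_mul, MvPolynomial.eval_C, hφ, hℓ]
      have hmem : x - (ℓ x / ℓ z) • z ∈ LinearMap.ker ℓ := by
        rw [LinearMap.mem_ker, map_sub, map_smul, smul_eq_mul, div_mul_cancel₀ _ hz, sub_self]
      have := LinearMap.congr_fun hz0 ⟨_, hmem⟩
      simp only [LinearMap.comp_apply, Submodule.subtype_apply, map_sub, map_smul, smul_eq_mul,
        LinearMap.zero_apply, sub_eq_zero] at this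
      rw [this]
      field_simp
    let ev : (Fin 3 → k) → Matrix (Fin 2) (Fin 2) k := fun x =>
      Matrix.of fun i j => MvPolynomial.eval x (M i j)
    have hev : ∀ x, ℓ x = 0 → (ev x).det = 0 := by
      intro x hx
      have := hker x (by rw [hℓ, hx])
      simp only [Matrix.det_fin_two, map_sub, map_mul] at this
      simpa [ev, Matrix.det_fin_two] using this
    have hadd : ev ((bK 0 : Fin 3 → k) + (bK 1 : Fin 3 → k))
        = ev (bK 0 : Fin 3 → k) + ev (bK 1 : Fin 3 → k) := by
      refine Matrix.ext fun i j => ?_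
      obtain ⟨φ, hφ⟩ := exists_linearMap (M i j) (hM i j)
      simp [ev, hφ]
    have hk0 : ℓ (bK 0 : Fin 3 → k) = 0 := (bK 0).2
    have hk1 : ℓ (bK 1 : Fin 3 → k) = 0 := (bK 1).2
    rcases common_null _ _ (hev _ hk0) (hev _ hk1)
        (hadd ▸ hev _ (by rw [map_add, hk0, hk1, add_zero])) with ⟨v, hv, he⟩ | ⟨u, hu, he⟩
    · have hw : ∀ i, ∃ c : k, M i 0 * MvPolynomial.C (v 0) + M i 1 * MvPolynomial.C (v 1)
          = MvPolynomial.C c * l := by
        intro i
        refine hprop _ (((hM i 0).mul (MvPolynomial.isHomogeneous_C _ _)).add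
          ((hM i 1).mul (MvPolynomial.isHomogeneous_C _ _))) ?_ ?_
        · simpa [ev] using (he i).1
        · simpa [ev] using (he i).2
      choose w hw using hw
      obtain ⟨u, hu, hu1, -⟩ := exists_perp w 0 (by simp)
      obtain ⟨g, hg0, hg1⟩ := exists_GL_row u hu
      obtain ⟨h, hh0, hh1⟩ := exists_GL_col v hv
      refine ⟨g, h, ?_⟩
      simp [Matrix.mul_apply, Fin.sum_univ_two, hg0, hg1, hh0, hh1]
      have hu1' : MvPolynomial.C (w 0) * MvPolynomial.C (u 0) * l
          + MvPolynomial.C (w 1) * MvPolynomial.C (u 1) * l = 0 := by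
        rw [← MvPolynomial.C_mul, ← MvPolynomial.C_mul, ← add_mul, ← MvPolynomial.C_add, hu1,
          MvPolynomial.C_0, zero_mul]
      linear_combination (MvPolynomial.C (u 0)) * hw 0 + (MvPolynomial.C (u 1)) * hw 1 + hu1'
    · have hw : ∀ j, ∃ c : k, M 0 j * MvPolynomial.C (u 0) + M 1 j * MvPolynomial.C (u 1)
          = MvPolynomial.C c * l := by
        intro j
        refine hprop _ (((hM 0 j).mul (MvPolynomial.isHomogeneous_C _ _)).add
          ((hM 1 j).mul (MvPolynomial.isHomogeneous_C _ _))) ?_ ?_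
        · simpa [ev] using (he j).1
        · simpa [ev] using (he j).2
      choose w hw using hw
      obtain ⟨v, hv, hv1, -⟩ := exists_perp w 0 (by simp)
      obtain ⟨g, hg0, hg1⟩ := exists_GL_row u hu
      obtain ⟨h, hh0, hh1⟩ := exists_GL_col v hv
      refine ⟨g, h, ?_⟩
      simp [Matrix.mul_apply, Fin.sum_univ_two, hg0, hg1, hh0, hh1]
      have hv1' : MvPolynomial.C (w 0) * MvPolynomial.C (v 0) * l
          + MvPolynomial.C (w 1) * MvPolynomial.C (v 1) * l = 0 := by
        rw [← MvPolynomial.C_mul, ← MvPolynomial.C_mul, ← add_mul, ← MvPolynomial.C_add, hv1,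
          MvPolynomial.C_0, zero_mul]
      linear_combination (MvPolynomial.C (v 0)) * hw 0 + (MvPolynomial.C (v 1)) * hw 1 + hv1'
  · rintro ⟨g, h, hgh⟩
    let N := (MvPolynomial.C : k →+* MvPolynomial (Fin 3) k).mapMatrix g.val * M *
        (MvPolynomial.C : k →+* MvPolynomial (Fin 3) k).mapMatrix h.val
    have hN : ∀ a b, (N a b).IsHomogeneous 1 := by
      intro a b
      simp only [N, Matrix.mul_apply]
      refine MvPolynomial.IsHomogeneous.sum _ _ _ fun i _ => ?_
      have h1 : (∑ j, ((MvPolynomial.C : k →+* MvPolynomial (Fin 3) k).mapMatrix g.val) a j * M j i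
          ).IsHomogeneous (0 + 1) :=
        MvPolynomial.IsHomogeneous.sum _ _ _ fun j _ =>
          (MvPolynomial.isHomogeneous_C _ _).mul (hM j i)
      exact h1.mul (MvPolynomial.isHomogeneous_C _ _)
    have hdet : MvPolynomial.C g.val.det * M.det * MvPolynomial.C h.val.det = N 0 0 * N 1 1 := by
      have h1 : N.det = MvPolynomial.C g.val.det * M.det * MvPolynomial.C h.val.det := by
        rw [Matrix.det_mul, Matrix.det_mul, ← RingHom.map_det, ← RingHom.map_det]
      rw [← h1, Matrix.det_fin_two, show N 0 1 = 0 from hgh, zero_mul, sub_zero]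
    have hg : g.val.det ≠ 0 := (g.isUnit.map Matrix.detMonoidHom).ne_zero
    have hh : h.val.det ≠ 0 := (h.isUnit.map Matrix.detMonoidHom).ne_zero
    refine ⟨MvPolynomial.C (g.val.det * h.val.det)⁻¹ * N 0 0, N 1 1, ?_, hN 1 1, ?_⟩
    · exact (MvPolynomial.isHomogeneous_C _ _).mul (hN 0 0)
    · rw [mul_assoc, ← hdet, mul_right_comm (MvPolynomial.C g.val.det), ← map_mul, ← mul_assoc,
        ← map_mul, inv_mul_cancel₀ (mul_ne_zero hg hh), map_one, one_mul]

end Groth.Agent.S13912
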