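import Groth.Statements.S13913
import Mathlib

set_option autoImplicit false
universe u
open PlaneCubic

namespace Groth.Agent.S13913

/-- Over an algebraically closed field of characteristic zero, for linearly independent linear forms z₁,
z₂ and quadratic forms q₁, q₂ in three variables and a nonzero common zero p of z₁ and z₂, the point
p is a singular point of the plane cubic z₁q₂ − z₂q₁ = 0 (all three partial derivatives vanish at p)
if and only if q₁ and q₂ both vanish at p. -/
theorem result (k : Type u) [Field k] [IsAlgClosed k] [CharZero k]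
    (z₁ z₂ q₁ q₂ : MvPolynomial (Fin 3) k) (hz₁ : z₁.IsHomogeneous 1) (hz₂ : z₂.IsHomogeneous 1)
    (hq₁ : q₁.IsHomogeneous 2) (hq₂ : q₂.IsHomogeneous 2) (hind : LinearIndependent k ![z₁, z₂])
    (p : Fin 3 → k) (hp : p ≠ 0) (hp₁ : MvPolynomial.eval p z₁ = 0) (hp₂ : MvPolynomial.eval p z₂ = 0) :
    (∀ i : Fin 3, MvPolynomial.eval p (MvPolynomial.pderiv i (z₁ * q₂ - z₂ * q₁)) = 0) ↔
      (MvPolynomial.eval p q₁ = 0 ∧ MvPolynomial.eval p q₂ = 0) := by
  classical
  have hc : ∀ (z : MvPolynomial (Fin 3) k), z.IsHomogeneous 1 →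
      z = ∑ i, MvPolynomial.C (MvPolynomial.eval p (MvPolynomial.pderiv i z)) * MvPolynomial.X i := by
    intro z hz
    conv_lhs => rw [← one_smul ℕ z, ← hz.sum_X_mul_pderiv]
    refine Finset.sum_congr rfl fun i _ => ?_
    have h0 : (MvPolynomial.pderiv i z).totalDegree = 0 := by
      have h : (MvPolynomial.pderiv i z).IsHomogeneous (1 - 1) := hz.pderiv
      exact Nat.le_zero.mp h.totalDegree_le
    rw [MvPolynomial.totalDegree_eq_zero_iff_eq_C.mp h0]
    simp [mul_comm]
  have key : ∀ i : Fin 3, MvPolynomial.eval p (MvPolynomial.pderiv i (z₁ * q₂ - z₂ * q₁))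
      = MvPolynomial.eval p (MvPolynomial.pderiv i z₁) * MvPolynomial.eval p q₂
        - MvPolynomial.eval p (MvPolynomial.pderiv i z₂) * MvPolynomial.eval p q₁ := by
    intro i
    simp [hp₁, hp₂]
    ring
  refine ⟨fun h => ?_, fun h i => by rw [key i, h.1, h.2, mul_zero, mul_zero, sub_zero]⟩
  have h0 : MvPolynomial.eval p q₂ • z₁ + (-MvPolynomial.eval p q₁) • z₂ = 0 := by
    rw [hc z₁ hz₁, hc z₂ hz₂, Finset.smul_sum, Finset.smul_sum, ← Finset.sum_add_distrib]
    refine Finset.sum_eq_zero fun i _ => ?_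
    rw [MvPolynomial.smul_eq_C_mul, MvPolynomial.smul_eq_C_mul, ← mul_assoc, ← mul_assoc, ← add_mul,
      ← MvPolynomial.C_mul, ← MvPolynomial.C_mul, ← MvPolynomial.C_add]
    have := h i
    rw [key i] at this
    rw [show MvPolynomial.eval p q₂ * MvPolynomial.eval p (MvPolynomial.pderiv i z₁)
        + -MvPolynomial.eval p q₁ * MvPolynomial.eval p (MvPolynomial.pderiv i z₂) = 0 by
      linear_combination this, map_zero, zero_mul]
  obtain ⟨h1, h2⟩ := LinearIndependent.pair_iff.mp hind _ _ h0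
  exact ⟨neg_eq_zero.mp h2, h1⟩

end Groth.Agent.S13913
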