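import Groth.Statements.S13914


set_option autoImplicit false
universe u
open PlaneConic

namespace Groth.Agent.S13914

/-- Over an algebraically closed field of characteristic zero, an invertible 3 × 3 matrix g, acting on
row vectors and so on the projective plane, fixes every point of the line u_0 = 0 if and only if g
is a nonzero scalar multiple of a matrix with rows (α, β, γ), (0, 1, 0), (0, 0, 1). -/
theorem result (k : Type u) [Field k] [IsAlgClosed k] [CharZero k]
    (g : Matrix (Fin 3) (Fin 3) k) (hg : IsUnit g.det) :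
    (∀ v : Fin 3 → k, v 0 = 0 → ∃ c : k, Matrix.vecMul v g = c • v) ↔
      ∃ c α β γ : k, c ≠ 0 ∧ g = c • !![α, β, γ; 0, 1, 0; 0, 0, 1] := by
  constructor
  · intro h
    obtain ⟨a, ha⟩ := h ![0, 1, 0] rfl
    obtain ⟨b, hb⟩ := h ![0, 0, 1] rfl
    obtain ⟨c, hc⟩ := h ![0, 1, 1] rfl
    have a0 : g 1 0 = 0 := by simpa [Matrix.vecMul, dotProduct, Fin.sum_univ_three] using congrFun ha 0
    have a1 : g 1 1 = a := by simpa [Matrix.vecMul, dotProduct, Fin.sum_univ_three] using congrFun ha 1
    have a2 : g 1 2 = 0 := by simpa [Matrix.vecMul, dotProduct, Fin.sum_univ_three] using congrFun ha 2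
    have b0 : g 2 0 = 0 := by simpa [Matrix.vecMul, dotProduct, Fin.sum_univ_three] using congrFun hb 0
    have b1 : g 2 1 = 0 := by simpa [Matrix.vecMul, dotProduct, Fin.sum_univ_three] using congrFun hb 1
    have b2 : g 2 2 = b := by simpa [Matrix.vecMul, dotProduct, Fin.sum_univ_three] using congrFun hb 2
    have c1 : g 1 1 + g 2 1 = c := by simpa [Matrix.vecMul, dotProduct, Fin.sum_univ_three] using congrFun hc 1
    have c2 : g 1 2 + g 2 2 = c := by simpa [Matrix.vecMul, dotProduct, Fin.sum_univ_three] using congrFun hc 2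
    rw [a1, b1, add_zero] at c1
    rw [a2, b2, zero_add] at c2
    subst c1 c2
    have hd : g.det ≠ 0 := hg.ne_zero
    rw [Matrix.det_fin_three, a0, a1, a2, b0, b1, b2] at hd
    have hb0 : b ≠ 0 := by rintro rfl; simp at hd
    refine ⟨b, g 0 0 / b, g 0 1 / b, g 0 2 / b, hb0, ?_⟩
    ext i j
    fin_cases i <;> fin_cases j <;> simp [a0, a1, a2, b0, b1, b2, mul_div_cancel₀, hb0]
  · rintro ⟨c, α, β, γ, hc, rfl⟩ v hv
    refine ⟨c, funext fun j => ?_⟩
    fin_cases j <;> simp [Matrix.vecMul, dotProduct, Fin.sum_univ_three, hv, mul_comm]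

end Groth.Agent.S13914
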