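import Groth.Statements.S13916
import Mathlib

set_option autoImplicit false
universe u
open PlaneConic

namespace Groth.Agent.S13916

/-- Over an algebraically closed field k of characteristic zero, with u_0, u_1, u_2 the coordinate
linear forms of k[X_0, X_1, X_2] and 2 × 2 matrices of linear forms compared up to M ↦ g M h with g,
h invertible scalar matrices: (1) the matrices with rows (u_1, 0), (u_0, u_2) and (u_2, 0), (u_0,
u_1) are not equivalent; (2) for α ≠ 0 the matrix with rows (u_1, 0), (αu_0 + βu_1 + γu_2, u_2) is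
equivalent to the one with rows (u_1, 0), (u_0, u_2). -/
theorem result (k : Type u) [Field k] [IsAlgClosed k] [CharZero k] :
    (¬ ∃ g h : GL (Fin 2) k,
      (MvPolynomial.C : k →+* MvPolynomial (Fin 3) k).mapMatrix g.val *
          !![MvPolynomial.X 1, 0; MvPolynomial.X 0, MvPolynomial.X 2] *
        (MvPolynomial.C : k →+* MvPolynomial (Fin 3) k).mapMatrix h.val =
      !![MvPolynomial.X 2, 0; MvPolynomial.X 0, MvPolynomial.X 1]) ∧
    (∀ α β γ : k, α ≠ 0 → ∃ g h : GL (Fin 2) k,
      (MvPolynomial.C : k →+* MvPolynomial (Fin 3) k).mapMatrix g.val *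
          !![MvPolynomial.X 1, 0;
             MvPolynomial.C α * MvPolynomial.X 0 + MvPolynomial.C β * MvPolynomial.X 1 + MvPolynomial.C γ * MvPolynomial.X 2,
             MvPolynomial.X 2] *
        (MvPolynomial.C : k →+* MvPolynomial (Fin 3) k).mapMatrix h.val =
      !![MvPolynomial.X 1, 0; MvPolynomial.X 0, MvPolynomial.X 2]) := by
  classical
  refine ⟨?_, fun α β γ hα => ?_⟩
  · rintro ⟨g, h, he⟩
    have h11 := congrFun (congrFun he 1) 1
    have h10 := congrFun (congrFun he 1) 0
    simp [Matrix.mul_apply, Fin.sum_univ_two] at h11 h10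
    have e1 := congrArg (MvPolynomial.eval (![1, 0, 0] : Fin 3 → k)) h11
    have e2 := congrArg (MvPolynomial.eval (![0, 1, 0] : Fin 3 → k)) h11
    have e3 := congrArg (MvPolynomial.eval (![1, 0, 0] : Fin 3 → k)) h10
    simp at e1 e2 e3
    rcases e1 with e1 | e1 <;> simp [e1] at e2 e3
  · refine ⟨Matrix.GeneralLinearGroup.mkOfDetNeZero !![1, 0; -β / α, α⁻¹] (by simp [hα]),
      Matrix.GeneralLinearGroup.mkOfDetNeZero !![1, 0; -γ, α] (by simp [hα]), ?_⟩
    have hC : (MvPolynomial.C α⁻¹ : MvPolynomial (Fin 3) k) * MvPolynomial.C α = 1 := by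
      rw [← map_mul, inv_mul_cancel₀ hα, map_one]
    refine Matrix.ext fun i j => ?_
    fin_cases i <;> fin_cases j <;>
      simp [Matrix.mul_apply, Fin.sum_univ_two, div_eq_mul_inv]
    · linear_combination ((MvPolynomial.X 0 : MvPolynomial (Fin 3) k)) * hC
    · linear_combination ((MvPolynomial.X 2 : MvPolynomial (Fin 3) k)) * hC

end Groth.Agent.S13916
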