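import Groth.Statements.S13929
import Mathlib

set_option autoImplicit false
universe u
open W4c1limliniiii

namespace Groth.Agent.S13929

open Polynomial

theorem coeff_wr {R : Type*} [CommRing R] (f g : R[X]) (a b : ℕ) (hf : f.natDegree ≤ a) (hg : g.natDegree ≤ b)
    (hab : 1 ≤ a + b) :
    (wronskian f g).coeff (a + b - 1) = ((b : R) - a) * f.coeff a * g.coeff b := by
  have h1 : (f * derivative g).coeff (a + b - 1) = b * (f.coeff a * g.coeff b) := by
    rcases Nat.eq_zero_or_pos b with hb | hb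
    · subst hb
      rw [derivative_of_natDegree_zero (Nat.le_zero.1 hg)]
      simp
    · rw [show a + b - 1 = a + (b - 1) by omega, coeff_mul_add_eq_of_natDegree_le hf
        ((natDegree_derivative_le g).trans (Nat.sub_le_sub_right hg 1)), coeff_derivative, show b - 1 + 1 = b by omega]
      have : ((b - 1 : ℕ) : R) + 1 = (b : R) := by
        rw [← Nat.cast_add_one, show b - 1 + 1 = b by omega]
      rw [this]; ring
  have h2 : (derivative f * g).coeff (a + b - 1) = a * (f.coeff a * g.coeff b) := by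
    rcases Nat.eq_zero_or_pos a with ha | ha
    · subst ha
      rw [derivative_of_natDegree_zero (Nat.le_zero.1 hf)]
      simp
    · rw [show a + b - 1 = (a - 1) + b by omega, coeff_mul_add_eq_of_natDegree_le
        ((natDegree_derivative_le f).trans (Nat.sub_le_sub_right hf 1)) hg, coeff_derivative, show a - 1 + 1 = a by omega]
      have : ((a - 1 : ℕ) : R) + 1 = (a : R) := by
        rw [← Nat.cast_add_one, show a - 1 + 1 = a by omega]
      rw [this]; ring
  rw [wronskian, coeff_sub, h1, h2]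
  ring

theorem wr_map {R S : Type*} [CommRing R] [CommRing S] (φ : R →+* S) (f g : R[X]) :
    (wronskian f g).map φ = wronskian (f.map φ) (g.map φ) := by
  simp [wronskian, Polynomial.map_mul, Polynomial.map_sub, derivative_map]

theorem wr_zero {K : Type*} [Field K] {d : ℕ} (hK : ∀ j : ℕ, 1 ≤ j → j ≤ d → (j : K) ≠ 0) {f g : K[X]}
    (hf : f.natDegree ≤ d) (hg : g.natDegree ≤ d) (hf0 : f ≠ 0) (h : wronskian f g = 0) : ∃ c : K, g = C c * f := by
  have same : ∀ g : K[X], g ≠ 0 → g.natDegree ≤ d → wronskian f g = 0 → g.natDegree = f.natDegree := by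
    intro g hg0 hg h
    by_contra hne
    have h1 := coeff_wr f g f.natDegree g.natDegree le_rfl le_rfl (by omega)
    rw [h, coeff_zero] at h1
    have h2 : ((g.natDegree : K) - f.natDegree) ≠ 0 := by
      rcases Nat.lt_or_ge f.natDegree g.natDegree with hl | hl
      · rw [← Nat.cast_sub hl.le]; exact hK _ (by omega) (by omega)
      · rw [← neg_sub, ← Nat.cast_sub hl, neg_ne_zero]; exact hK _ (by omega) (by omega)
    exact mul_ne_zero (mul_ne_zero h2 (leadingCoeff_ne_zero.2 hf0)) (leadingCoeff_ne_zero.2 hg0) h1.symm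
  by_cases hg0 : g = 0
  · exact ⟨0, by simp [hg0]⟩
  have hd := same g hg0 hg h
  refine ⟨g.leadingCoeff / f.leadingCoeff, ?_⟩
  by_contra hne
  have hne' := sub_ne_zero.2 hne
  set r := g - C (g.leadingCoeff / f.leadingCoeff) * f with hr
  have hrd : r.natDegree ≤ d := (natDegree_sub_le _ _).trans (max_le hg ((natDegree_C_mul_le _ _).trans hf))
  have hr0 : wronskian f r = 0 := by
    have e : wronskian f r = wronskian f g - C (g.leadingCoeff / f.leadingCoeff) * wronskian f f := by
      simp only [wronskian, hr, map_sub, derivative_C_mul]; ring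
    rw [e, h, wronskian_self_eq_zero, mul_zero, sub_zero]
  have hd' := same r hne' hrd hr0
  refine leadingCoeff_ne_zero.2 hne' ?_
  rw [leadingCoeff, hd', hr, coeff_sub, coeff_C_mul]
  show g.coeff f.natDegree - g.leadingCoeff / f.leadingCoeff * f.leadingCoeff = 0
  rw [div_mul_cancel₀ _ (leadingCoeff_ne_zero.2 hf0), ← hd]
  exact sub_self _

theorem exists_primitive {K : Type*} [Field K] (R : ValuationSubring K) {p : K[X]} (hp : p ≠ 0) :
    ∃ (l : K) (q : Polynomial R) (i : ℕ), l ≠ 0 ∧ q.map R.subtype = C l * p ∧ q.coeff i = 1 := by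
  classical
  obtain ⟨i, hi, hmax⟩ := p.support.exists_max_image (fun j => R.valuation (p.coeff j)) (support_nonempty.2 hp)
  have hi0 : p.coeff i ≠ 0 := mem_support_iff.1 hi
  have hl : C (p.coeff i)⁻¹ * p ∈ lifts R.subtype := by
    rw [lifts_iff_coeff_lifts]
    intro j
    refine ⟨⟨(C (p.coeff i)⁻¹ * p).coeff j, ?_⟩, rfl⟩
    rw [← R.valuation_le_one_iff, coeff_C_mul, map_mul, map_inv₀]
    by_cases hj : j ∈ p.support
    · calc (R.valuation (p.coeff i))⁻¹ * R.valuation (p.coeff j)
          ≤ (R.valuation (p.coeff i))⁻¹ * R.valuation (p.coeff i) := by gcongr; exact hmax j hj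
        _ = 1 := inv_mul_cancel₀ (by simpa using hi0)
    · rw [notMem_support_iff.1 hj, map_zero, mul_zero]; exact zero_le_one
  obtain ⟨q, hq⟩ := (mem_lifts _).1 hl
  refine ⟨_, q, i, inv_ne_zero hi0, hq, ?_⟩
  have := congrArg (fun t : K[X] => t.coeff i) hq
  simp [hi0] at this
  exact this

theorem coeff_mem {K : Type*} [Field K] (R : ValuationSubring K) {d : ℕ} (hd : 1 ≤ d)
    (hκ : ∀ j : ℕ, 1 ≤ j → j ≤ d → (j : IsLocalRing.ResidueField R) ≠ 0)
    (F G : K[X]) (hF : F.natDegree ≤ d) (hFd : F.coeff d = 1) (hF1 : F.coeff (d - 1) = 0)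
    (hG : G.natDegree ≤ d - 1) (hG1 : G.coeff (d - 1) = 1)
    (w : Polynomial R) (h : wronskian F G = w.map R.subtype) : ∀ i, F.coeff i ∈ R ∧ G.coeff i ∈ R := by
  have hF0 : F ≠ 0 := fun h0 => by simp [h0] at hFd
  obtain ⟨l, F1, i0, hl, hF1e, hF1i⟩ := exists_primitive R hF0
  set G' := G - C (G.coeff i0) * (C l * F) with hG'
  have hG'1 : G'.coeff (d - 1) = 1 := by rw [hG', coeff_sub, coeff_C_mul, coeff_C_mul, hF1, hG1]; ring
  have hG'0 : G' ≠ 0 := fun h0 => by simp [h0] at hG'1
  obtain ⟨m, G1, j0, hm, hG1e, hG1j⟩ := exists_primitive R hG'0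
  have hF1c : ∀ i, ((F1.coeff i : R) : K) = l * F.coeff i := fun i => by
    have := congrArg (fun t : K[X] => t.coeff i) hF1e
    rwa [coeff_map, coeff_C_mul] at this
  have hG1c : ∀ i, ((G1.coeff i : R) : K) = m * G'.coeff i := fun i => by
    have := congrArg (fun t : K[X] => t.coeff i) hG1e
    rwa [coeff_map, coeff_C_mul] at this
  have hG'i : G'.coeff i0 = 0 := by
    rw [hG', coeff_sub, coeff_C_mul, coeff_C_mul, ← hF1c, hF1i]
    simp
  have hwr : wronskian F1 G1 = C (F1.coeff d * G1.coeff (d - 1)) * w := by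
    apply map_injective R.subtype Subtype.val_injective
    rw [wr_map, hF1e, hG1e, Polynomial.map_mul, map_C, map_mul, ← h]
    show _ = C (((F1.coeff d : R) : K) * ((G1.coeff (d - 1) : R) : K)) * _
    rw [hF1c, hG1c, hFd, hG'1, mul_one, mul_one, hG']
    simp only [wronskian, map_sub, derivative_C_mul, map_mul]
    ring
  have hF1d : F1.natDegree ≤ d := natDegree_le_iff_coeff_eq_zero.2 fun i hi => Subtype.ext (by
    rw [hF1c, coeff_eq_zero_of_natDegree_lt (hF.trans_lt hi), mul_zero]; rfl)
  have hG1d : G1.natDegree ≤ d := natDegree_le_iff_coeff_eq_zero.2 fun i hi => Subtype.ext (by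
    rw [hG1c, hG', coeff_sub, coeff_C_mul, coeff_C_mul, coeff_eq_zero_of_natDegree_lt (hF.trans_lt hi),
      coeff_eq_zero_of_natDegree_lt (lt_of_le_of_lt hG (by omega))]
    simp)
  have hu : IsUnit (F1.coeff d * G1.coeff (d - 1)) := by
    by_contra hnu
    let ρ := IsLocalRing.residue R
    have hz : ρ (F1.coeff d * G1.coeff (d - 1)) = 0 :=
      Ideal.Quotient.eq_zero_iff_mem.2 ((IsLocalRing.mem_maximalIdeal _).2 hnu)
    have h0 : wronskian (F1.map ρ) (G1.map ρ) = 0 := by
      rw [← wr_map, hwr, Polynomial.map_mul, map_C, hz, map_zero, zero_mul]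
    have hne : F1.map ρ ≠ 0 := fun h0 => by
      have := congrArg (fun t : Polynomial (IsLocalRing.ResidueField R) => t.coeff i0) h0
      simp [hF1i] at this
    obtain ⟨c, hc⟩ := wr_zero hκ (natDegree_map_le.trans hF1d) (natDegree_map_le.trans hG1d) hne h0
    have hG10 : G1.coeff i0 = 0 := Subtype.ext (by rw [hG1c, hG'i, mul_zero]; rfl)
    have hc0 : c = 0 := by
      have := congrArg (fun t : Polynomial (IsLocalRing.ResidueField R) => t.coeff i0) hc
      simp [hF1i, hG10] at this
      exact this.symm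
    have := congrArg (fun t : Polynomial (IsLocalRing.ResidueField R) => t.coeff j0) hc
    simp [hc0, hG1j] at this
  obtain ⟨hlu, hmu⟩ := IsUnit.mul_iff.1 hu
  obtain ⟨l', hl'⟩ := isUnit_iff_exists_inv.1 hlu
  obtain ⟨m', hm'⟩ := isUnit_iff_exists_inv.1 hmu
  have el : (l : K) * (l' : K) = 1 := by
    have := congrArg (fun t : R => (t : K)) hl'
    simp only [MulMemClass.coe_mul, OneMemClass.coe_one] at this
    rwa [hF1c, hFd, mul_one] at this
  have em : (m : K) * (m' : K) = 1 := by
    have := congrArg (fun t : R => (t : K)) hm'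
    simp only [MulMemClass.coe_mul, OneMemClass.coe_one] at this
    rwa [hG1c, hG'1, mul_one] at this
  have hFm : ∀ i, F.coeff i ∈ R := fun i => by
    rw [show F.coeff i = (l' : K) * ((F1.coeff i : R) : K) by rw [hF1c, ← mul_assoc, mul_comm (l' : K), el, one_mul]]
    exact mul_mem l'.2 (F1.coeff i).2
  have hG'm : ∀ i, G'.coeff i ∈ R := fun i => by
    rw [show G'.coeff i = (m' : K) * ((G1.coeff i : R) : K) by rw [hG1c, ← mul_assoc, mul_comm (m' : K), em, one_mul]]
    exact mul_mem m'.2 (G1.coeff i).2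
  have hgi : G.coeff i0 ∈ R := by
    have h1 := hG'm d
    rw [hG', coeff_sub, coeff_C_mul, coeff_C_mul, hFd, mul_one, coeff_eq_zero_of_natDegree_lt (lt_of_le_of_lt hG (by omega)),
      zero_sub] at h1
    rw [show G.coeff i0 = -(-(G.coeff i0 * l)) * (l' : K) by rw [neg_neg, mul_assoc, el, mul_one]]
    exact mul_mem (neg_mem h1) l'.2
  refine fun i => ⟨hFm i, ?_⟩
  rw [show G.coeff i = G'.coeff i + G.coeff i0 * ((F1.coeff i : R) : K) by
    rw [hF1c, hG', coeff_sub, coeff_C_mul, coeff_C_mul]; ring]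
  exact add_mem (hG'm i) (mul_mem hgi (F1.coeff i).2)

/-- normal form of the first member -/
noncomputable def Fx {A : Type*} [CommRing A] {n : ℕ} (d : ℕ) (x : Fin n ⊕ Fin n → A) : A[X] :=
  X ^ d + ∑ i : Fin n, C (x (Sum.inl i)) * X ^ (i : ℕ)

/-- normal form of the second member -/
noncomputable def Gx {A : Type*} [CommRing A] {n : ℕ} (d : ℕ) (x : Fin n ⊕ Fin n → A) : A[X] :=
  X ^ (d - 1) + ∑ i : Fin n, C (x (Sum.inr i)) * X ^ (i : ℕ)

theorem map_Fx {A B : Type*} [CommRing A] [CommRing B] {n : ℕ} (d : ℕ) (φ : A →+* B) (x : Fin n ⊕ Fin n → A) :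
    (Fx d x).map φ = Fx d (φ ∘ x) ∧ (Gx d x).map φ = Gx d (φ ∘ x) := by
  simp [Fx, Gx, Polynomial.map_sum, Polynomial.map_pow]

theorem coeff_sum_C {A : Type*} [CommRing A] {n : ℕ} (c : Fin n → A) (j : ℕ) :
    (∑ i : Fin n, C (c i) * X ^ (i : ℕ)).coeff j = if h : j < n then c ⟨j, h⟩ else 0 := by
  rw [finsetSum_coeff]
  split_ifs with h
  · rw [Finset.sum_eq_single ⟨j, h⟩]
    · simp
    · intro b _ hb
      rw [coeff_C_mul, coeff_X_pow, if_neg (fun e => hb (Fin.ext e.symm)), mul_zero]
    · simp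
  · exact Finset.sum_eq_zero fun b _ => by rw [coeff_C_mul, coeff_X_pow, if_neg (by omega), mul_zero]

theorem integral_coord {k : Type u} [Field k] {d : ℕ} (hd : 1 ≤ d) (hk : ∀ j : ℕ, 1 ≤ j → j ≤ d → (j : k) ≠ 0) (W : k[X])
    {B : Type u} [CommRing B] [Algebra k B] (t : Fin (d - 1) ⊕ Fin (d - 1) → B)
    (hrel : wronskian (Fx d t) (Gx d t) = W.map (algebraMap k B)) (s : Fin (d - 1) ⊕ Fin (d - 1)) : IsIntegral k (t s) := by
  classical
  by_contra hs
  let T : Submonoid B :=
    { carrier := {b | ∃ q : k[X], q.Monic ∧ b = aeval (t s) q}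
      one_mem' := ⟨1, monic_one, by simp⟩
      mul_mem' := by
        rintro _ _ ⟨q, hq, rfl⟩ ⟨q', hq', rfl⟩
        exact ⟨q * q', hq.mul hq', by simp⟩ }
  have hT : Disjoint ((⊥ : Ideal B) : Set B) T := by
    rw [Set.disjoint_left]
    rintro b hb ⟨q, hq, rfl⟩
    exact hs ⟨q, hq, by simpa [aeval_def] using hb⟩
  obtain ⟨P, hP, -, hPd⟩ := Ideal.exists_le_prime_disjoint (⊥ : Ideal B) T hT
  let K := FractionRing (B ⧸ P)
  let χ : B →ₐ[k] K := (IsScalarTower.toAlgHom k (B ⧸ P) K).comp (Ideal.Quotient.mkₐ k P)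
  set y := χ (t s)
  have htr : ∀ q : k[X], q ≠ 0 → aeval y q ≠ 0 := by
    intro q hq h0
    have hmon : (q * C q.leadingCoeff⁻¹).Monic := monic_mul_leadingCoeff_inv hq
    have h1 : χ (aeval (t s) (q * C q.leadingCoeff⁻¹)) = 0 := by
      rw [← aeval_algHom_apply, map_mul, h0, zero_mul]
    have h2 : Ideal.Quotient.mk P (aeval (t s) (q * C q.leadingCoeff⁻¹)) = 0 :=
      IsFractionRing.injective (B ⧸ P) K (h1.trans (map_zero _).symm)
    exact Set.disjoint_left.1 hPd (Ideal.Quotient.eq_zero_iff_mem.1 h2) ⟨_, hmon, rfl⟩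
  have hy : y ≠ 0 := by simpa using htr X X_ne_zero
  have hyi : ∀ q : k[X], q ≠ 0 → aeval y⁻¹ q ≠ 0 := by
    intro q hq h0
    have halg : IsAlgebraic k y⁻¹ := ⟨q, hq, h0⟩
    obtain ⟨q', hq', h'⟩ := IsAlgebraic.inv_iff.1 halg
    exact htr q' hq' h'
  haveI : (Ideal.span {(X : k[X])}).IsPrime := (Ideal.span_singleton_prime X_ne_zero).2 prime_X
  let A := Localization.AtPrime (Ideal.span {(X : k[X])})
  let f : A →+* K := IsLocalization.lift (M := (Ideal.span {(X : k[X])}).primeCompl) (g := (aeval y⁻¹ : k[X] →ₐ[k] K).toRingHom)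
    (fun q => (hyi q.1 fun h => q.2 (h ▸ Ideal.zero_mem _)).isUnit)
  obtain ⟨R, hR, hloc⟩ := IsLocalRing.exists_factor_valuationRing f
  have hfq : ∀ q : k[X], f (algebraMap k[X] A q) = aeval y⁻¹ q := fun q => IsLocalization.lift_eq _ q
  let ψ : k →+* R := (f.codRestrict R.toSubring hR).comp ((algebraMap k[X] A).comp C)
  have hψ : ∀ a, ((ψ a : R) : K) = algebraMap k K a := fun a => by
    show f (algebraMap k[X] A (C a)) = _
    rw [hfq, aeval_C]
  have hκ : ∀ j : ℕ, 1 ≤ j → j ≤ d → (j : IsLocalRing.ResidueField R) ≠ 0 := fun j h1 h2 h0 => hk j h1 h2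
    (((IsLocalRing.residue R).comp ψ).injective (by rw [map_natCast, map_zero, h0]))
  have hkK : ∀ q : k[X], (q.map (algebraMap k B)).map χ.toRingHom = (q.map ψ).map R.subtype := fun q => by
    rw [Polynomial.map_map, Polynomial.map_map]
    congr 1
    refine RingHom.ext fun a => ?_
    show χ (algebraMap k B a) = _
    rw [AlgHom.commutes]
    exact (hψ a).symm
  have hnd1 : (∑ i : Fin (d - 1), C (χ (t (Sum.inl i))) * X ^ (i : ℕ) : K[X]).natDegree ≤ d - 1 :=
    natDegree_sum_le_of_forall_le _ _ fun i _ => (natDegree_C_mul_X_pow_le _ _).trans i.isLt.le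
  have hnd2 : (∑ i : Fin (d - 1), C (χ (t (Sum.inr i))) * X ^ (i : ℕ) : K[X]).natDegree ≤ d - 1 :=
    natDegree_sum_le_of_forall_le _ _ fun i _ => (natDegree_C_mul_X_pow_le _ _).trans i.isLt.le
  have hc := coeff_mem R hd hκ (Fx d (χ.toRingHom ∘ t)) (Gx d (χ.toRingHom ∘ t))
    ((natDegree_add_le _ _).trans (max_le (natDegree_X_pow_le _) (hnd1.trans (Nat.sub_le _ _))))
    (by rw [Fx, coeff_add, coeff_sum_C, dif_neg (by omega), coeff_X_pow, if_pos rfl, add_zero])
    (by rw [Fx, coeff_add, coeff_sum_C, dif_neg (by omega), coeff_X_pow, if_neg (by omega), add_zero])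
    ((natDegree_add_le _ _).trans (max_le (natDegree_X_pow_le _) hnd2))
    (by rw [Gx, coeff_add, coeff_sum_C, dif_neg (by omega), coeff_X_pow, if_pos rfl, add_zero])
    (W.map ψ) (by rw [← (map_Fx d χ.toRingHom t).1, ← (map_Fx d χ.toRingHom t).2, ← wr_map, hrel, hkK])
  have hyR : y ∈ R := by
    rcases s with i | i
    · have := (hc i).1
      rw [Fx, coeff_add, coeff_sum_C, dif_pos i.isLt, coeff_X_pow, if_neg (by omega), zero_add] at this
      exact this
    · have := (hc i).2
      rw [Gx, coeff_add, coeff_sum_C, dif_pos i.isLt, coeff_X_pow, if_neg (by omega), zero_add] at this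
      exact this
  have hXA : ¬ IsUnit (algebraMap k[X] A X) := fun h =>
    ((IsLocalization.AtPrime.isUnit_to_map_iff A (Ideal.span {(X : k[X])}) X).1 h) (Ideal.mem_span_singleton_self X)
  refine hXA (hloc.map_nonunit _ ?_)
  refine IsUnit.of_mul_eq_one ⟨y, hyR⟩ (Subtype.ext ?_)
  show f (algebraMap k[X] A X) * y = 1
  rw [hfq, aeval_X, inv_mul_cancel₀ hy]

theorem finite_solutions {k : Type u} [Field k] {d : ℕ} (hd : 1 ≤ d) (hk : ∀ j : ℕ, 1 ≤ j → j ≤ d → (j : k) ≠ 0) (W : k[X]) :
    {x : Fin (d - 1) ⊕ Fin (d - 1) → k | wronskian (Fx d x) (Gx d x) = W}.Finite := by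
  classical
  set Z := {x : Fin (d - 1) ⊕ Fin (d - 1) → k | wronskian (Fx d x) (Gx d x) = W}
  let ev : MvPolynomial (Fin (d - 1) ⊕ Fin (d - 1)) k →ₐ[k] (Z → k) := MvPolynomial.aeval fun s z => z.1 s
  let I := RingHom.ker ev
  let B := MvPolynomial (Fin (d - 1) ⊕ Fin (d - 1)) k ⧸ I
  let t : Fin (d - 1) ⊕ Fin (d - 1) → B := fun s => Ideal.Quotient.mk I (MvPolynomial.X s)
  have hrel : wronskian (Fx d t) (Gx d t) = W.map (algebraMap k B) := by
    let xx : Fin (d - 1) ⊕ Fin (d - 1) → MvPolynomial (Fin (d - 1) ⊕ Fin (d - 1)) k := MvPolynomial.X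
    have h1 : (wronskian (Fx d xx) (Gx d xx)).map (Ideal.Quotient.mk I) = (W.map MvPolynomial.C).map (Ideal.Quotient.mk I) := by
      ext i
      rw [coeff_map, coeff_map, Ideal.Quotient.eq, RingHom.mem_ker, map_sub, sub_eq_zero]
      funext z
      let φ : MvPolynomial (Fin (d - 1) ⊕ Fin (d - 1)) k →+* k := ((Pi.evalAlgHom k (fun _ : Z => k) z).comp ev).toRingHom
      show φ _ = φ _
      rw [← coeff_map, ← coeff_map, wr_map, (map_Fx d φ xx).1, (map_Fx d φ xx).2]
      have hz : φ ∘ xx = z.1 := funext fun s => by simp [φ, ev, xx]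
      rw [hz, z.2, Polynomial.map_map]
      congr 1
      rw [show φ.comp MvPolynomial.C = RingHom.id k from RingHom.ext fun a => by simp [φ, ev], Polynomial.map_id]
    rw [wr_map, (map_Fx d _ xx).1, (map_Fx d _ xx).2, Polynomial.map_map] at h1
    exact h1
  haveI : Algebra.IsIntegral k B := by
    have hall : ∀ s, IsIntegral k (t s) := integral_coord hd hk W t hrel
    refine ⟨fun b => ?_⟩
    obtain ⟨p, rfl⟩ := Ideal.Quotient.mk_surjective b
    induction p using MvPolynomial.induction_on with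
    | C a => exact (isIntegral_algebraMap : IsIntegral k (algebraMap k B a))
    | add p q hp hq => rw [map_add]; exact hp.add hq
    | mul_X p i hp => rw [map_mul]; exact hp.mul (hall i)
  haveI : Module.Finite k B := Algebra.IsIntegral.finite
  let g : Z → (B →ₐ[k] k) := fun z => Ideal.Quotient.liftₐ I ((Pi.evalAlgHom k (fun _ : Z => k) z).comp ev)
    (fun a ha => by show ev a z = 0; rw [RingHom.mem_ker.1 ha]; rfl)
  have hg : Function.Injective g := fun z z' h => Subtype.ext (funext fun s => by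
    have := DFunLike.congr_fun h (t s)
    change ev (MvPolynomial.X s) z = ev (MvPolynomial.X s) z' at this
    simpa [ev] using this)
  exact Set.finite_coe_iff.1 (Finite.of_injective g hg)

open Polynomial in
/-- Over an algebraically closed field of characteristic p with p = 0 or d < p, fix n distinct points of
the affine line and admissible ramification indices (2 ≤ e_i ≤ d, e_i prime to p, ∑ (e_i − 1) = 2d −
2). Then there are only finitely many separable self-maps of the projective line of degree d, up to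
automorphisms of the target, with ramification index exactly e_i at the i-th point: the set of
base-point-free separable pencils of polynomials of degree at most d with this ramification is
finite. (This is the case of a fully specified ramification divisor; the points are arbitrary
distinct points, not only general ones.) -/
theorem result (k : Type u) [Field k] [IsAlgClosed k]
    (p : ℕ) [CharP k p] (d n : ℕ) (P : Fin n → k) (hP : Function.Injective P)
    (e : Fin n → ℕ) (he : W4c1limliniiii.Admissible p d e) (hp : p = 0 ∨ d < p) :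
    (W4c1limliniiii.ramMaps d P e).Finite := by
  classical
  obtain ⟨heb, hsum⟩ := he
  have hd : 1 ≤ d := by
    have : ∀ i, 2 ≤ e i := fun i => (heb i).1
    have h2 : ∑ _i : Fin n, 2 ≤ ∑ i, e i := Finset.sum_le_sum fun i _ => this i
    simp at h2
    omega
  have hk : ∀ j : ℕ, 1 ≤ j → j ≤ d → (j : k) ≠ 0 := by
    intro j h1 h2 h0
    rw [CharP.cast_eq_zero_iff k p] at h0
    rcases hp with rfl | hp
    · rw [zero_dvd_iff] at h0; omega
    · exact absurd (Nat.le_of_dvd h1 h0) (by omega)
  set W : k[X] := ∏ i, (X - C (P i)) ^ (e i - 1) with hWdef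
  have hWdeg : W.natDegree = 2 * d - 2 := by
    rw [hWdef, natDegree_prod _ _ fun i _ => pow_ne_zero _ (X_sub_C_ne_zero _)]
    simp only [natDegree_pow, natDegree_X_sub_C, mul_one]
    have h3 : ∑ i, (e i - 1) + ∑ _i : Fin n, 1 = ∑ i, e i := by
      rw [← Finset.sum_add_distrib]
      exact Finset.sum_congr rfl fun i _ => by have := (heb i).1; omega
    simp at h3
    omega
  have hWmon : W.Monic := monic_prod_of_monic _ _ fun i _ => (monic_X_sub_C _).pow _
  refine Set.Finite.subset (((finite_solutions hd hk (-W)).image fun x => Submodule.span k {Fx d x, Gx d x})) ?_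
  rintro V ⟨⟨hVd, hV2, ⟨F0, hF0V, hF0d⟩, -⟩, -, hram⟩
  have hdegV : ∀ s ∈ V, s.natDegree ≤ d := fun s hs => natDegree_le_iff_degree_le.2 (mem_degreeLE.1 (hVd hs))
  have hF00 : F0 ≠ 0 := fun h => by rw [h] at hF0d; simp at hF0d; omega
  set F1 := C F0.leadingCoeff⁻¹ * F0 with hF1
  have hF1V : F1 ∈ V := by rw [hF1, ← smul_eq_C_mul]; exact V.smul_mem _ hF0V
  have hF1d : F1.coeff d = 1 := by
    rw [hF1, coeff_C_mul, ← hF0d]
    exact inv_mul_cancel₀ (leadingCoeff_ne_zero.2 hF00)
  clear_value F1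
  obtain ⟨G0, hG0V, hG0⟩ : ∃ G0 ∈ V, G0 ∉ Submodule.span k {F1} := by
    by_contra hcon
    push Not at hcon
    haveI : Module.Finite k ↥V := Module.finite_of_finrank_pos (by omega)
    have h2 := Submodule.finrank_mono (t := Submodule.span k {F1}) (fun s hs => hcon s hs)
    have := finrank_span_le_card (R := k) ({F1} : Set k[X])
    simp at this
    omega
  set G1 := G0 - C (G0.coeff d) * F1 with hG1
  have hG1V : G1 ∈ V := by rw [hG1, ← smul_eq_C_mul]; exact V.sub_mem hG0V (V.smul_mem _ hF1V)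
  have hG10 : G1 ≠ 0 := fun h => hG0 (by
    rw [sub_eq_zero.1 (hG1.symm.trans h), ← smul_eq_C_mul]
    exact Submodule.smul_mem _ _ (Submodule.mem_span_singleton_self _))
  have hG1deg : G1.natDegree ≤ d - 1 := natDegree_le_iff_coeff_eq_zero.2 fun i hi => by
    rcases Nat.lt_or_ge d i with h | h
    · exact coeff_eq_zero_of_natDegree_lt ((hdegV _ hG1V).trans_lt h)
    · rw [show i = d by omega, hG1, coeff_sub, coeff_C_mul, hF1d, mul_one, sub_self]
  have hne : wronskian F1 G1 ≠ 0 := fun h => by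
    obtain ⟨c, hc⟩ := wr_zero hk (hdegV _ hF1V) (hdegV _ hG1V) (fun h0 => by simp [h0] at hF1d) h
    have : G1.coeff d = c := by rw [hc, coeff_C_mul, hF1d, mul_one]
    rw [coeff_eq_zero_of_natDegree_lt (by omega)] at this
    exact hG10 (by rw [hc, ← this, map_zero, zero_mul])
  have hdvd : W ∣ wronskian F1 G1 := by
    have hspan : Submodule.span k {F1, G1} = V := by
      haveI : Module.Finite k ↥V := Module.finite_of_finrank_pos (by omega)
      refine Submodule.eq_of_le_of_finrank_le (Submodule.span_le.2 (by rintro _ (rfl | rfl) <;> assumption)) ?_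
      have hli : LinearIndependent k ![F1, G1] := (LinearIndependent.pair_iff' (fun h0 => by simp [h0] at hF1d)).2
        fun c hc => hne (by
          rw [← hc, smul_eq_C_mul]
          simp only [wronskian, derivative_C_mul]; ring)
      rw [hV2, show ({F1, G1} : Set k[X]) = Set.range ![F1, G1] by simp [Matrix.range_cons, Matrix.range_empty, Set.pair_comm],
        finrank_span_eq_card hli, Fintype.card_fin]
    refine Finset.prod_dvd_of_coprime (fun i _ j _ hij => IsCoprime.pow
      (isCoprime_X_sub_C_of_isUnit_sub (sub_ne_zero.2 (fun h => hij (hP h))).isUnit)) fun i _ => ?_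
    obtain ⟨⟨s, hsV, hs0, hes⟩, -⟩ := hram i
    obtain ⟨q, hq⟩ := (le_rootMultiplicity_iff hs0).1 hes
    have hwd : ∀ u : k[X], (X - C (P i)) ^ (e i - 1) ∣ wronskian s u ∧ (X - C (P i)) ^ (e i - 1) ∣ wronskian u s := fun u => by
      have h1 : (X - C (P i)) ^ (e i - 1) ∣ s := hq ▸ dvd_mul_of_dvd_left (pow_dvd_pow _ (Nat.sub_le _ _)) _
      have h2 : (X - C (P i)) ^ (e i - 1) ∣ derivative s :=
        pow_sub_one_dvd_derivative_of_pow_dvd (Dvd.intro q hq.symm)
      exact ⟨dvd_sub (h1.mul_right _) (h2.mul_right _), dvd_sub (h2.mul_left _) (h1.mul_left _)⟩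
    rw [← hspan, Submodule.mem_span_pair] at hsV
    obtain ⟨α, β, hαβ⟩ := hsV
    rw [smul_eq_C_mul, smul_eq_C_mul] at hαβ
    by_cases hα : α = 0
    · have hβ : β ≠ 0 := fun hβ => hs0 (by rw [← hαβ, hα, hβ]; simp)
      have e : wronskian F1 s = C β * wronskian F1 G1 := by
        rw [← hαβ, hα]; simp [wronskian]; ring
      have := (hwd F1).2
      rw [e] at this
      exact ((isUnit_C.2 hβ.isUnit).dvd_mul_left).1 this
    · have e : wronskian s G1 = C α * wronskian F1 G1 := by
        rw [← hαβ]; simp [wronskian]; ring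
      have := (hwd G1).1
      rw [e] at this
      exact ((isUnit_C.2 (Ne.isUnit hα)).dvd_mul_left).1 this
  have hF1deg := hdegV _ hF1V
  have hwle : ∀ j, G1.natDegree ≤ j → (wronskian F1 G1).natDegree ≤ d + j - 1 := fun j hj => by
    refine (natDegree_sub_le _ _).trans (max_le ?_ ?_)
    · rcases Nat.eq_zero_or_pos G1.natDegree with h | h
      · rw [derivative_of_natDegree_zero h, mul_zero, natDegree_zero]; exact Nat.zero_le _
      · refine natDegree_mul_le.trans ?_
        have := natDegree_derivative_le G1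
        omega
    · refine natDegree_mul_le.trans ?_
      have := natDegree_derivative_le F1
      omega
  have hlow := natDegree_le_of_dvd hdvd hne
  rw [hWdeg] at hlow
  have hj : G1.natDegree = d - 1 := by
    have := hwle _ le_rfl
    omega
  set G := C G1.leadingCoeff⁻¹ * G1 with hG
  have hGV : G ∈ V := by rw [hG, ← smul_eq_C_mul]; exact V.smul_mem _ hG1V
  have hGd : G.natDegree ≤ d - 1 := (natDegree_C_mul_le _ _).trans hG1deg
  have hG1c : G.coeff (d - 1) = 1 := by
    rw [hG, coeff_C_mul, ← hj]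
    exact inv_mul_cancel₀ (leadingCoeff_ne_zero.2 hG10)
  clear_value G
  set F := F1 - C (F1.coeff (d - 1)) * G with hF
  have hFV : F ∈ V := by rw [hF, ← smul_eq_C_mul]; exact V.sub_mem hF1V (V.smul_mem _ hGV)
  have hFdeg := hdegV _ hFV
  have hFd : F.coeff d = 1 := by
    rw [hF, coeff_sub, coeff_C_mul, hF1d, coeff_eq_zero_of_natDegree_lt (lt_of_le_of_lt hGd (by omega)), mul_zero, sub_zero]
  have hFd1 : F.coeff (d - 1) = 0 := by rw [hF, coeff_sub, coeff_C_mul, hG1c, mul_one, sub_self]
  let x : Fin (d - 1) ⊕ Fin (d - 1) → k := Sum.elim (fun i => F.coeff i) (fun i => G.coeff i)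
  have hFx : Fx d x = F := by
    ext i
    rw [Fx, coeff_add, coeff_sum_C, coeff_X_pow]
    rcases Nat.lt_trichotomy i (d - 1) with h | h | h
    · rw [dif_pos h, if_neg (by omega), zero_add]; rfl
    · rw [dif_neg (by omega), if_neg (by omega), h, hFd1, add_zero]
    · rcases Nat.lt_or_ge d i with h' | h'
      · rw [dif_neg (by omega), if_neg (by omega), coeff_eq_zero_of_natDegree_lt (hFdeg.trans_lt h'), add_zero]
      · rw [dif_neg (by omega), if_pos (by omega), show i = d by omega, hFd, add_zero]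
  have hGx : Gx d x = G := by
    ext i
    rw [Gx, coeff_add, coeff_sum_C, coeff_X_pow]
    rcases Nat.lt_trichotomy i (d - 1) with h | h | h
    · rw [dif_pos h, if_neg (by omega), zero_add]; rfl
    · rw [dif_neg (by omega), if_pos h, h, hG1c, add_zero]
    · rw [dif_neg (by omega), if_neg (by omega), coeff_eq_zero_of_natDegree_lt (hGd.trans_lt h), add_zero]
  refine ⟨x, ?_, ?_⟩
  · show wronskian (Fx d x) (Gx d x) = -W
    rw [hFx, hGx]
    have e : wronskian F G = C G1.leadingCoeff⁻¹ * wronskian F1 G1 := by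
      simp only [hF, hG, wronskian, map_sub, derivative_C_mul]; ring
    obtain ⟨q, hq⟩ : W ∣ wronskian F G := e ▸ hdvd.mul_left _
    have hub : (wronskian F G).natDegree ≤ 2 * d - 2 := by
      rw [e]
      exact (natDegree_C_mul_le _ _).trans ((hwle _ hG1deg).trans (by omega))
    have hq0 : q ≠ 0 := fun h => by
      rw [h, mul_zero, e] at hq
      exact mul_ne_zero (C_ne_zero.2 (inv_ne_zero (leadingCoeff_ne_zero.2 hG10))) hne hq
    rw [hq, hWmon.natDegree_mul' hq0, hWdeg] at hub
    rw [eq_C_of_natDegree_eq_zero (show q.natDegree = 0 by omega)] at hq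
    have hc := coeff_wr F G d (d - 1) hFdeg hGd (by omega)
    rw [show d + (d - 1) - 1 = 2 * d - 2 by omega, hq, coeff_mul_C, ← hWdeg, hWmon.coeff_natDegree, one_mul,
      hFd, hG1c, mul_one, mul_one] at hc
    have hc' : ((d - 1 : ℕ) : k) - d = -1 := by rw [Nat.cast_sub hd, Nat.cast_one]; ring
    rw [hq, hc, hc', map_neg, map_one, mul_neg, mul_one]
  · show Submodule.span k {Fx d x, Gx d x} = V
    rw [hFx, hGx]
    haveI : Module.Finite k ↥V := Module.finite_of_finrank_pos (by omega)
    refine Submodule.eq_of_le_of_finrank_le (Submodule.span_le.2 (by rintro _ (rfl | rfl) <;> assumption)) ?_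
    have hli : LinearIndependent k ![F, G] := (LinearIndependent.pair_iff' (fun h0 => by simp [h0] at hFd)).2
      fun c hc => by
        have h1 := congrArg (fun t : k[X] => t.coeff d) hc
        simp [hFd, coeff_eq_zero_of_natDegree_lt (lt_of_le_of_lt hGd (by omega : d - 1 < d))] at h1
        subst h1
        simp at hc
        rw [← hc] at hG1c
        simp at hG1c
    rw [hV2, show ({F, G} : Set k[X]) = Set.range ![F, G] by simp [Matrix.range_cons, Matrix.range_empty, Set.pair_comm],
      finrank_span_eq_card hli, Fintype.card_fin]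

end Groth.Agent.S13929
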