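import Groth.Statements.S13918
import Mathlib
import Groth.Agent.S13929

set_option autoImplicit false
universe u
open W4c1limliniiii

namespace Groth.Agent.S13918

open Polynomial

variable {K : Type u} [Field K] {d : ℕ} {P : Fin 3 → K} {e : Fin 3 → ℕ}

theorem wr_dvd {a : K} {n : ℕ} {s : K[X]} (h : (X - C a) ^ n ∣ s) (t : K[X]) :
    (X - C a) ^ (n - 1) ∣ wronskian s t := by
  rw [wronskian]
  exact dvd_sub (Dvd.dvd.mul_right ((pow_dvd_pow _ (Nat.sub_le n 1)).trans h) _)
    (Dvd.dvd.mul_right (pow_sub_one_dvd_derivative_of_pow_dvd h) _)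

theorem wr_comb (a b a' b' : K) (s t : K[X]) :
    wronskian (a • s + b • t) (a' • s + b' • t) = C (a * b' - b * a') * wronskian s t := by
  simp only [wronskian, smul_eq_C_mul, map_add, derivative_C_mul, map_sub, map_mul]
  ring

theorem wr_deg {D : ℕ} {s t : K[X]} (hs : s.natDegree ≤ D) (ht : t.natDegree ≤ D) (h : wronskian s t ≠ 0) :
    (wronskian s t).natDegree + 2 ≤ 2 * D := by
  have h1 := natDegree_wronskian_lt_add h
  have h2 : (wronskian s t).natDegree ≠ D + D - 1 := fun e => by
    have h3 := S13929.coeff_wr s t D D hs ht (by omega)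
    rw [sub_self, zero_mul, zero_mul, ← e] at h3
    exact leadingCoeff_ne_zero.2 h h3
  omega

theorem cop (hP : Function.Injective P) {i j : Fin 3} (h : i ≠ j) (a b : ℕ) :
    IsCoprime ((X - C (P i)) ^ a) ((X - C (P j)) ^ b) :=
  (isCoprime_X_sub_C_of_isUnit_sub (sub_ne_zero.2 (hP.ne h)).isUnit).pow

/-- A syzygy of the three prescribed powers. -/
structure Syz (d : ℕ) (P : Fin 3 → K) (e : Fin 3 → ℕ) (s : Fin 3 → K[X]) : Prop where
  deg : ∀ i, (s i).natDegree ≤ d
  ne : ∀ i, s i ≠ 0
  dvd : ∀ i, (X - C (P i)) ^ e i ∣ s i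
  sum : s 0 + s 1 + s 2 = 0

theorem deg_prod (n : Fin 3 → ℕ) : (∏ i, (X - C (P i)) ^ n i).natDegree = ∑ i, n i := by
  rw [natDegree_prod _ _ (fun i _ => pow_ne_zero _ (X_sub_C_ne_zero _))]
  exact Finset.sum_congr rfl fun i _ => by rw [natDegree_pow, natDegree_X_sub_C, mul_one]

theorem prod_dvd (hP : Function.Injective P) {n : Fin 3 → ℕ} {W : K[X]} (h : ∀ i, (X - C (P i)) ^ n i ∣ W) :
    ∏ i, (X - C (P i)) ^ n i ∣ W :=
  Finset.prod_dvd_of_coprime (fun i _ j _ hij => cop hP hij _ _) fun i _ => h i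

theorem not_two (hP : Function.Injective P) (hsum : ∑ i, e i = 2 * d + 1) (hle : ∀ i, e i ≤ d) {i j : Fin 3}
    (hij : i ≠ j) {s : K[X]} (hs : s.natDegree ≤ d) (h1 : (X - C (P i)) ^ e i ∣ s) (h2 : (X - C (P j)) ^ e j ∣ s) :
    s = 0 := by
  by_contra h0
  have h3 := natDegree_le_of_dvd ((cop hP hij _ _).mul_dvd h1 h2) h0
  rw [natDegree_mul (pow_ne_zero _ (X_sub_C_ne_zero _)) (pow_ne_zero _ (X_sub_C_ne_zero _)), natDegree_pow,
    natDegree_pow, natDegree_X_sub_C, natDegree_X_sub_C, mul_one, mul_one] at h3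
  rw [Fin.sum_univ_three] at hsum
  have := hle 0; have := hle 1; have := hle 2
  fin_cases i <;> fin_cases j <;> simp at hij h3 <;> omega

theorem Syz.indep (hP : Function.Injective P) (hsum : ∑ i, e i = 2 * d + 1) (hle : ∀ i, e i ≤ d) {s : Fin 3 → K[X]}
    (hs : Syz d P e s) : LinearIndependent K ![s 0, s 1] := by
  rw [LinearIndependent.pair_iff]
  intro a b hab
  have ha : a = 0 := by
    by_contra ha
    have e1 : a • s 0 = (-b) • s 1 := by rw [neg_smul]; exact eq_neg_of_add_eq_zero_left hab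
    have h1 : (a • s 0) = 0 := not_two hP hsum hle (i := 0) (j := 1) (by decide)
      ((natDegree_smul_le _ _).trans (hs.deg 0)) ((hs.dvd 0).trans (by rw [smul_eq_C_mul]; exact dvd_mul_left _ _))
      (by rw [e1, smul_eq_C_mul]; exact Dvd.dvd.mul_left (hs.dvd 1) _)
    exact hs.ne 0 ((smul_eq_zero.1 h1).resolve_left ha)
  refine ⟨ha, ?_⟩
  subst ha
  rw [zero_smul, zero_add] at hab
  exact (smul_eq_zero.1 hab).resolve_right (hs.ne 1)

/-- The pencil of a syzygy. -/
noncomputable def sp (s : Fin 3 → K[X]) : Submodule K K[X] := Submodule.span K {s 0, s 1}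

theorem sp_eq (s : Fin 3 → K[X]) : sp s = Submodule.span K (Set.range ![s 0, s 1]) := by
  rw [sp]; congr 1; simp [Set.pair_comm]

theorem Syz.finrank (hP : Function.Injective P) (hsum : ∑ i, e i = 2 * d + 1) (hle : ∀ i, e i ≤ d) {s : Fin 3 → K[X]}
    (hs : Syz d P e s) : Module.finrank K (sp s) = 2 := by
  rw [sp_eq, finrank_span_eq_card (hs.indep hP hsum hle)]; simp

theorem Syz.mem {s : Fin 3 → K[X]} (hs : Syz d P e s) (i : Fin 3) : s i ∈ sp s := by
  have h0 : s 0 ∈ sp s := Submodule.subset_span (by simp)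
  have h1 : s 1 ∈ sp s := Submodule.subset_span (by simp)
  fin_cases i
  · exact h0
  · exact h1
  · have : s 2 = -(s 0 + s 1) := eq_neg_of_add_eq_zero_right hs.sum
    show s 2 ∈ sp s
    rw [this]; exact neg_mem (add_mem h0 h1)

theorem Syz.le_deg {s : Fin 3 → K[X]} (hs : Syz d P e s) : sp s ≤ degreeLE K d := by
  refine Submodule.span_le.2 ?_
  rintro x (rfl | rfl) <;> exact mem_degreeLE.2 (natDegree_le_iff_degree_le.1 (hs.deg _))

theorem Syz.wr_eq {s : Fin 3 → K[X]} (hs : Syz d P e s) :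
    wronskian (s 1) (s 2) = wronskian (s 0) (s 1) ∧ wronskian (s 2) (s 0) = wronskian (s 0) (s 1) := by
  have : s 2 = -(s 0 + s 1) := eq_neg_of_add_eq_zero_right hs.sum
  constructor <;> (rw [this]; simp only [wronskian, derivative_neg, map_add]; ring)

theorem Syz.wr_dvd' {s : Fin 3 → K[X]} (hs : Syz d P e s) {i : Fin 3} {a : K} {n : ℕ} (h : (X - C a) ^ n ∣ s i) :
    (X - C a) ^ (n - 1) ∣ wronskian (s 0) (s 1) := by
  fin_cases i
  · exact wr_dvd h _
  · rw [← hs.wr_eq.1]; exact wr_dvd h _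
  · rw [← hs.wr_eq.2]; exact wr_dvd h _

theorem exists_syz_of (hP : Function.Injective P) (hsum : ∑ i, e i = 2 * d + 1) (hle : ∀ i, e i ≤ d)
    {V : Submodule K K[X]} (hV : V ≤ degreeLE K d) (hdim : Module.finrank K V = 2)
    (h : ∀ i, ∃ s ∈ V, s ≠ 0 ∧ e i ≤ rootMultiplicity (P i) s) : ∃ s, Syz d P e s ∧ V = sp s := by
  choose s hsV hs0 hse using h
  have hdeg : ∀ x ∈ V, x.natDegree ≤ d := fun x hx => natDegree_le_iff_degree_le.2 (mem_degreeLE.1 (hV hx))
  have hdvd : ∀ i, (X - C (P i)) ^ e i ∣ s i := fun i => (le_rootMultiplicity_iff (hs0 i)).1 (hse i)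
  have hli : LinearIndependent K ![s 0, s 1] := by
    rw [LinearIndependent.pair_iff' (hs0 0)]
    intro a ha
    exact hs0 1 (not_two hP hsum hle (i := 0) (j := 1) (by decide) (hdeg _ (hsV 1))
      (by rw [← ha, smul_eq_C_mul]; exact Dvd.dvd.mul_left (hdvd 0) _) (hdvd 1))
  have hfd : FiniteDimensional K V := Module.finite_of_finrank_eq_succ hdim
  have hVs : Submodule.span K (Set.range ![s 0, s 1]) = V := by
    refine Submodule.eq_of_le_of_finrank_eq (Submodule.span_le.2 ?_) (by rw [finrank_span_eq_card hli, hdim]; simp)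
    rintro _ ⟨i, rfl⟩
    fin_cases i <;> simp [hsV]
  have h2 : s 2 ∈ Submodule.span K {s 0, s 1} := by
    have := hsV 2
    rw [← hVs] at this
    convert this using 2; simp [Set.pair_comm]
  obtain ⟨a, b, hab⟩ := Submodule.mem_span_pair.1 h2
  have ha : a ≠ 0 := fun ha => hs0 2 (not_two hP hsum hle (i := 1) (j := 2) (by decide) (hdeg _ (hsV 2))
    (by rw [← hab, ha, zero_smul, zero_add, smul_eq_C_mul]; exact Dvd.dvd.mul_left (hdvd 1) _) (hdvd 2))
  have hb : b ≠ 0 := fun hb => hs0 2 (not_two hP hsum hle (i := 0) (j := 2) (by decide) (hdeg _ (hsV 2))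
    (by rw [← hab, hb, zero_smul, add_zero, smul_eq_C_mul]; exact Dvd.dvd.mul_left (hdvd 0) _) (hdvd 2))
  refine ⟨![a • s 0, b • s 1, -s 2], ⟨fun i => ?_, fun i => ?_, fun i => ?_, ?_⟩, ?_⟩
  · fin_cases i
    · exact (natDegree_smul_le _ _).trans (hdeg _ (hsV 0))
    · exact (natDegree_smul_le _ _).trans (hdeg _ (hsV 1))
    · exact (natDegree_neg _).le.trans (hdeg _ (hsV 2))
  · fin_cases i
    · exact smul_ne_zero ha (hs0 0)
    · exact smul_ne_zero hb (hs0 1)
    · exact neg_ne_zero.2 (hs0 2)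
  · fin_cases i
    · exact (hdvd 0).trans (by simp [smul_eq_C_mul])
    · exact (hdvd 1).trans (by simp [smul_eq_C_mul])
    · exact dvd_neg.2 (hdvd 2)
  · simp [hab]
  · rw [← hVs, ← sp_eq, sp, sp, Submodule.span_insert, Submodule.span_insert]
    simp [Submodule.span_singleton_smul_eq ha.isUnit, Submodule.span_singleton_smul_eq hb.isUnit]

theorem exists_syz (hP : Function.Injective P) (hsum : ∑ i, e i = 2 * d + 1) (hle : ∀ i, e i ≤ d) :
    ∃ s, Syz d P e s := by
  classical
  let L : (Π i : Fin 3, degreeLT K (d + 1 - e i)) →ₗ[K] degreeLT K (d + 1) :=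
    LinearMap.codRestrict _ (∑ i, (LinearMap.mulLeft K ((X - C (P i)) ^ e i)).comp
        ((Submodule.subtype _).comp (LinearMap.proj i))) fun r => by
      simp only [LinearMap.coe_sum, Finset.sum_apply, LinearMap.comp_apply, LinearMap.proj_apply,
        Submodule.subtype_apply, LinearMap.mulLeft_apply]
      refine Submodule.sum_mem _ fun i _ => ?_
      rw [mem_degreeLT]
      rcases eq_or_ne (r i : K[X]) 0 with h | h
      · rw [h, mul_zero, degree_zero]; exact WithBot.bot_lt_coe _
      · have h1 := (natDegree_lt_iff_degree_lt h).2 (mem_degreeLT.1 (r i).2)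
        rw [← natDegree_lt_iff_degree_lt (mul_ne_zero (pow_ne_zero _ (X_sub_C_ne_zero _)) h),
          natDegree_mul (pow_ne_zero _ (X_sub_C_ne_zero _)) h, natDegree_pow, natDegree_X_sub_C, mul_one]
        omega
  have fdim : ∀ n, Module.finrank K (degreeLT K n) = n := fun n => by
    rw [LinearEquiv.finrank_eq (degreeLTEquiv K n)]; simp
  have : ∀ n, FiniteDimensional K (degreeLT K n) := fun n => Module.Finite.equiv (degreeLTEquiv K n).symm
  have hker : LinearMap.ker L ≠ ⊥ := LinearMap.ker_ne_bot_of_finrank_lt (by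
    rw [Module.finrank_pi_fintype, fdim]; simp only [fdim]
    rw [Fin.sum_univ_three] at hsum ⊢
    have := hle 0; have := hle 1; have := hle 2
    omega)
  obtain ⟨r, hr, hr0⟩ := (Submodule.ne_bot_iff _).1 hker
  let s : Fin 3 → K[X] := fun i => (X - C (P i)) ^ e i * (r i : K[X])
  have hdeg : ∀ i, (s i).natDegree ≤ d := fun i => by
    rcases eq_or_ne (r i : K[X]) 0 with h | h
    · simp [s, h]
    · have h1 := (natDegree_lt_iff_degree_lt h).2 (mem_degreeLT.1 (r i).2)
      simp only [s]
      rw [natDegree_mul (pow_ne_zero _ (X_sub_C_ne_zero _)) h, natDegree_pow, natDegree_X_sub_C, mul_one]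
      omega
  have hsum0 : s 0 + s 1 + s 2 = 0 := by
    have := congrArg Subtype.val hr
    simpa [L, Fin.sum_univ_three, s] using this
  have hd : ∀ i, (X - C (P i)) ^ e i ∣ s i := fun i => dvd_mul_right _ _
  refine ⟨s, hdeg, fun i hi => hr0 ?_, hd, hsum0⟩
  have hall : ∀ j, s j = 0 := by
    obtain ⟨h0, h1, h2⟩ : s 0 = 0 ∧ s 1 = 0 ∧ s 2 = 0 := by
      fin_cases i <;> simp only at hi
      · have e2 : s 2 = -s 1 := by rw [show s 0 = 0 from hi, zero_add] at hsum0; exact eq_neg_of_add_eq_zero_right hsum0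
        have := not_two hP hsum hle (i := 1) (j := 2) (by decide) (hdeg 1) (hd 1) (by have := hd 2; rw [e2, dvd_neg] at this; exact this)
        exact ⟨hi, this, by rw [e2, this, neg_zero]⟩
      · have e2 : s 2 = -s 0 := by rw [show s 1 = 0 from hi, add_zero] at hsum0; exact eq_neg_of_add_eq_zero_right hsum0
        have := not_two hP hsum hle (i := 0) (j := 2) (by decide) (hdeg 0) (hd 0) (by have := hd 2; rw [e2, dvd_neg] at this; exact this)
        exact ⟨this, hi, by rw [e2, this, neg_zero]⟩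
      · have e2 : s 1 = -s 0 := by rw [show s 2 = 0 from hi, add_zero] at hsum0; exact eq_neg_of_add_eq_zero_right hsum0
        have := not_two hP hsum hle (i := 0) (j := 1) (by decide) (hdeg 0) (hd 0) (by have := hd 1; rw [e2, dvd_neg] at this; exact this)
        exact ⟨this, by rw [e2, this, neg_zero], hi⟩
    intro j; fin_cases j <;> assumption
  funext j
  exact Subtype.ext ((mul_eq_zero.1 (hall j)).resolve_left (pow_ne_zero _ (X_sub_C_ne_zero _)))

theorem factor [IsAlgClosed K] (hP : Function.Injective P) (hsum : ∑ i, e i = 2 * d + 1) {s t : Fin 3 → K[X]}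
    (hs : Syz d P e s) (ht : Syz d P e t) (hbp : ∀ a : K, ∃ i, (s i).eval a ≠ 0) : ∃ f : K[X], ∀ i, t i = f * s i := by
  classical
  have e2 : s 2 = -(s 0 + s 1) := eq_neg_of_add_eq_zero_right hs.sum
  have f2 : t 2 = -(t 0 + t 1) := eq_neg_of_add_eq_zero_right ht.sum
  have hD : t 0 * s 1 - t 1 * s 0 = 0 := by
    by_contra h0
    have hdvd : ∀ i, (X - C (P i)) ^ e i ∣ t 0 * s 1 - t 1 * s 0 := by
      intro i
      fin_cases i
      · exact dvd_sub (Dvd.dvd.mul_right (ht.dvd 0) _) (Dvd.dvd.mul_left (hs.dvd 0) _)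
      · exact dvd_sub (Dvd.dvd.mul_left (hs.dvd 1) _) (Dvd.dvd.mul_right (ht.dvd 1) _)
      · have : t 0 * s 1 - t 1 * s 0 = t 2 * s 0 - t 0 * s 2 := by rw [e2, f2]; ring
        rw [this]
        exact dvd_sub (Dvd.dvd.mul_right (ht.dvd 2) _) (Dvd.dvd.mul_left (hs.dvd 2) _)
    have h1 := natDegree_le_of_dvd (prod_dvd hP hdvd) h0
    rw [deg_prod, hsum] at h1
    have h2 : (t 0 * s 1 - t 1 * s 0).natDegree ≤ 2 * d :=
      (natDegree_sub_le _ _).trans (max_le (natDegree_mul_le.trans (by have := ht.deg 0; have := hs.deg 1; omega))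
        (natDegree_mul_le.trans (by have := ht.deg 1; have := hs.deg 0; omega)))
    omega
  have hcop : IsCoprime (s 0) (s 1) := by
    rw [Polynomial.isCoprime_iff_aeval_ne_zero_of_isAlgClosed K K]
    intro a
    by_contra hc
    push Not at hc
    obtain ⟨i, hi⟩ := hbp a
    simp only [coe_aeval_eq_eval] at hc
    fin_cases i
    · exact hi hc.1
    · exact hi hc.2
    · apply hi; show (s 2).eval a = 0; simp [e2, hc.1, hc.2]
  obtain ⟨u, v, huv⟩ := hcop
  refine ⟨u * t 0 + v * t 1, fun i => ?_⟩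
  have h0 : t 0 = (u * t 0 + v * t 1) * s 0 := by linear_combination v * hD - t 0 * huv
  have h1 : t 1 = (u * t 0 + v * t 1) * s 1 := by linear_combination -u * hD - t 1 * huv
  fin_cases i
  · exact h0
  · exact h1
  · show t 2 = _ * s 2
    rw [f2, e2]
    linear_combination -(h0 + h1)

theorem sep_iff {s : Fin 3 → K[X]} : IsSeparable (sp s) ↔ wronskian (s 0) (s 1) ≠ 0 := by
  refine ⟨?_, fun h => ⟨s 0, Submodule.subset_span (by simp), s 1, Submodule.subset_span (by simp), h⟩⟩
  rintro ⟨F, hF, G, hG, h⟩ h0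
  obtain ⟨a, b, rfl⟩ := Submodule.mem_span_pair.1 hF
  obtain ⟨a', b', rfl⟩ := Submodule.mem_span_pair.1 hG
  exact h (by rw [wr_comb, h0, mul_zero])

theorem no_bound (hP : Function.Injective P) {W : K[X]} {n : Fin 3 → ℕ} {D : ℕ} (hW : W.natDegree + 2 ≤ 2 * D) (h0 : W ≠ 0)
    (h : ∀ i, (X - C (P i)) ^ n i ∣ W) : (∑ i, n i) + 2 ≤ 2 * D := by
  have := natDegree_le_of_dvd (prod_dvd hP h) h0
  rw [deg_prod] at this; omega

theorem mem_ramMaps (hP : Function.Injective P) (hsum : ∑ i, e i = 2 * d + 1) (hle : ∀ i, e i ≤ d)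
    (h2 : ∀ i, 2 ≤ e i) {s : Fin 3 → K[X]} (hs : Syz d P e s) (hw : wronskian (s 0) (s 1) ≠ 0) :
    sp s ∈ ramMaps d P e := by
  classical
  have hd : 2 ≤ d := (h2 0).trans (hle 0)
  have hsub : ∀ i, (∑ j, (e j - 1)) = 2 * d - 2 ∧ e i ≤ d := fun i => by
    refine ⟨?_, hle i⟩
    rw [Fin.sum_univ_three] at hsum ⊢
    have := h2 0; have := h2 1; have := h2 2; omega
  have hWd := wr_deg (hs.deg 0) (hs.deg 1) hw
  refine ⟨⟨hs.le_deg, hs.finrank hP hsum hle, ?_, fun a => ?_⟩, sep_iff.2 hw, fun i => ?_⟩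
  · by_contra hcon
    push Not at hcon
    have hl : ∀ i, (s i).natDegree ≤ d - 1 := fun i => by
      have := hcon _ (hs.mem i); have := hs.deg i; omega
    have := no_bound hP (wr_deg (hl 0) (hl 1) hw) hw fun i => hs.wr_dvd' (hs.dvd i)
    rw [(hsub 0).1] at this; omega
  · by_contra hcon
    push Not at hcon
    have hdiv : ∀ i, ∃ q : K[X], s i = (X - C a) * q := fun i => dvd_iff_isRoot.2 (hcon _ (hs.mem i))
    choose q hq using hdiv
    have hq0 : ∀ i, q i ≠ 0 := fun i h => hs.ne i (by rw [hq, h, mul_zero])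
    have hqd : ∀ i, (q i).natDegree ≤ d - 1 := fun i => by
      have := hs.deg i
      rw [hq, natDegree_mul (X_sub_C_ne_zero _) (hq0 i), natDegree_X_sub_C] at this; omega
    have hqsum : q 0 + q 1 + q 2 = 0 := by
      have := hs.sum
      rw [hq 0, hq 1, hq 2, ← mul_add, ← mul_add] at this
      exact (mul_eq_zero.1 this).resolve_left (X_sub_C_ne_zero _)
    let m : Fin 3 → ℕ := fun i => if P i = a then e i - 1 else e i
    have hqdvd : ∀ i, (X - C (P i)) ^ m i ∣ q i := fun i => by
      have h := hs.dvd i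
      rw [hq i] at h
      simp only [m]; split_ifs with hi
      · subst hi
        rw [show e i = e i - 1 + 1 by have := h2 i; omega, pow_succ'] at h
        exact (mul_dvd_mul_iff_left (X_sub_C_ne_zero _)).1 h
      · exact ((isCoprime_X_sub_C_of_isUnit_sub (sub_ne_zero.2 hi).isUnit).pow_left).dvd_of_dvd_mul_left h
    have hq' : Syz (d - 1) P m q := ⟨hqd, hq0, hqdvd, hqsum⟩
    have hW' : wronskian (q 0) (q 1) ≠ 0 := fun h => hw (by
      rw [hq 0, hq 1]
      have : wronskian ((X - C a) * q 0) ((X - C a) * q 1) = (X - C a) ^ 2 * wronskian (q 0) (q 1) := by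
        simp only [wronskian, derivative_mul]; ring
      rw [this, h, mul_zero])
    have := no_bound hP (wr_deg (hqd 0) (hqd 1) hW') hW' fun i => hq'.wr_dvd' (hqdvd i)
    have hone : ∀ i, e i - 1 ≤ (m i - 1) + if P i = a then 1 else 0 := fun i => by
      simp only [m]; split_ifs <;> omega
    have h3 := (Finset.sum_le_sum fun i (_ : i ∈ Finset.univ) => hone i)
    rw [(hsub 0).1, Finset.sum_add_distrib, Finset.sum_boole] at h3
    have h4 : (Finset.univ.filter fun i => P i = a).card ≤ 1 := Finset.card_le_one.2 fun x hx y hy => by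
      simp only [Finset.mem_filter] at hx hy; exact hP (hx.2.trans hy.2.symm)
    simp only [Nat.cast_id] at h3
    omega
  · refine ⟨⟨s i, hs.mem i, hs.ne i, (le_rootMultiplicity_iff (hs.ne i)).2 (hs.dvd i)⟩, fun t ht ht0 => ?_⟩
    by_contra hlt
    push Not at hlt
    have hdv : (X - C (P i)) ^ (e i + 1) ∣ t := (le_rootMultiplicity_iff ht0).1 hlt
    obtain ⟨a, b, hab⟩ := Submodule.mem_span_pair.1 ht
    have hext : (X - C (P i)) ^ e i ∣ wronskian (s 0) (s 1) := by
      rcases eq_or_ne a 0 with rfl | ha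
      · have h := wr_dvd hdv (s 0)
        have hb : b ≠ 0 := fun hb => ht0 (by rw [← hab, hb]; simp)
        have e0 : wronskian t (s 0) = C (-b) * wronskian (s 0) (s 1) := by
          rw [← hab]; simp only [wronskian, smul_eq_C_mul, map_zero, map_neg, zero_mul, zero_add, derivative_C_mul]; ring
        rw [e0, IsUnit.dvd_mul_left (isUnit_C.2 (by simpa using hb))] at h
        simpa using h
      · have h := wr_dvd hdv (s 1)
        have e0 : wronskian t (s 1) = C a * wronskian (s 0) (s 1) := by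
          rw [← hab]; simp only [wronskian, smul_eq_C_mul, map_add, derivative_C_mul]; ring
        rw [e0, IsUnit.dvd_mul_left (isUnit_C.2 ha.isUnit)] at h
        simpa using h
    have := no_bound hP hWd hw (n := fun j => if j = i then e j else e j - 1) fun j => by
      split_ifs with hj
      · subst hj; exact hext
      · exact hs.wr_dvd' (hs.dvd j)
    have h1 : e i - 1 < e i := by have := h2 i; omega
    have h3 : ∑ j, (e j - 1) < ∑ j, (if j = i then e j else e j - 1) :=
      Finset.sum_lt_sum (fun j _ => by split_ifs <;> omega) ⟨i, Finset.mem_univ _, by simpa using h1⟩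
    rw [(hsub 0).1] at h3; omega

theorem main [IsAlgClosed K] (hP : Function.Injective P) {p : ℕ} (he : Admissible p d e) :
    (ramMaps d P e).Subsingleton ∧
      (ramMaps d P e = ∅ ↔
        ∃ V : Submodule K K[X], V ≤ degreeLE K d ∧ Module.finrank K V = 2 ∧
          ¬ IsSeparable V ∧ ∀ i, ∃ s ∈ V, s ≠ 0 ∧ e i ≤ rootMultiplicity (P i) s) := by
  have hsum : ∑ i, e i = 2 * d + 1 := by have := he.2; omega
  have hle : ∀ i, e i ≤ d := fun i => (he.1 i).2.1
  have get : ∀ V ∈ ramMaps d P e, ∃ s, Syz d P e s ∧ V = sp s ∧ (∀ a : K, ∃ i, (s i).eval a ≠ 0) ∧ wronskian (s 0) (s 1) ≠ 0 := by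
    rintro V ⟨⟨hV, hdim, -, hbp⟩, hsep, hr⟩
    obtain ⟨s, hs, rfl⟩ := exists_syz_of hP hsum hle hV hdim fun i => (hr i).1
    refine ⟨s, hs, rfl, fun a => ?_, sep_iff.1 hsep⟩
    by_contra hc
    push Not at hc
    obtain ⟨t, ht, ht'⟩ := hbp a
    obtain ⟨x, y, rfl⟩ := Submodule.mem_span_pair.1 ht
    exact ht' (by simp [hc 0, hc 1])
  refine ⟨fun V hV V' hV' => ?_, ⟨fun hempty => ?_, fun ⟨V0, hV0, hdim, hins, hr⟩ => ?_⟩⟩
  · obtain ⟨s, hs, rfl, hb, -⟩ := get V hV
    obtain ⟨t, ht, rfl, hb', -⟩ := get V' hV'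
    obtain ⟨f, hf⟩ := factor hP hsum hs ht hb
    obtain ⟨g, hg⟩ := factor hP hsum ht hs hb'
    have h1 : f * g = 1 := mul_right_cancel₀ (hs.ne 0) (by rw [one_mul]; nth_rw 2 [hg 0]; rw [hf 0]; ring)
    obtain ⟨c, hc, rfl⟩ := Polynomial.isUnit_iff.1 (IsUnit.of_mul_eq_one _ h1)
    rw [sp, sp, hf 0, hf 1, ← smul_eq_C_mul, ← smul_eq_C_mul, Submodule.span_insert, Submodule.span_insert,
      Submodule.span_singleton_smul_eq hc, Submodule.span_singleton_smul_eq hc]
  · obtain ⟨s, hs⟩ := exists_syz hP hsum hle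
    refine ⟨sp s, hs.le_deg, hs.finrank hP hsum hle, fun hsep => ?_,
      fun i => ⟨s i, hs.mem i, hs.ne i, (le_rootMultiplicity_iff (hs.ne i)).2 (hs.dvd i)⟩⟩
    exact Set.notMem_empty _ (hempty ▸ mem_ramMaps hP hsum hle (fun i => (he.1 i).1) hs (sep_iff.1 hsep))
  · obtain ⟨t, ht, rfl⟩ := exists_syz_of hP hsum hle hV0 hdim hr
    refine Set.eq_empty_iff_forall_notMem.2 fun V hV => ?_
    obtain ⟨s, hs, rfl, hb, hw⟩ := get V hV
    obtain ⟨f, hf⟩ := factor hP hsum hs ht hb
    apply hins
    rw [sep_iff, hf 0, hf 1]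
    have : wronskian (f * s 0) (f * s 1) = f ^ 2 * wronskian (s 0) (s 1) := by
      simp only [wronskian, derivative_mul]; ring
    rw [this]
    exact mul_ne_zero (pow_ne_zero _ fun h => ht.ne 0 (by rw [hf 0, h, zero_mul])) hw

open Polynomial in
/-- Over an algebraically closed field of characteristic p (zero allowed), fix three distinct points of
the affine line, an integer d and ramification indices e_i with 2 ≤ e_i ≤ d, each e_i prime to p,
and ∑ (e_i − 1) = 2d − 2. Then there is at most one separable self-map of the projective line of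
degree d, taken up to automorphisms of the target, with ramification index exactly e_i at the i-th
point — such maps being encoded as base-point-free separable pencils of polynomials of degree at
most d — and there is none precisely when some two-dimensional space of polynomials of degree at
most d with identically vanishing Wronskian contains, for each i, a non-zero member vanishing to
order at least e_i at the i-th point (an inseparable pencil, base points allowed, with at least the
required ramification). (The three points are taken on the affine line, which is no restriction up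
to a change of coordinate; the assertion that the solution, when it exists, is a reduced point of
the parameter scheme is not restated.) -/
theorem result (k : Type u) [Field k] [IsAlgClosed k]
    (p : ℕ) [CharP k p] (d : ℕ) (P : Fin 3 → k) (hP : Function.Injective P)
    (e : Fin 3 → ℕ) (he : W4c1limliniiii.Admissible p d e) :
    (W4c1limliniiii.ramMaps d P e).Subsingleton ∧
      (W4c1limliniiii.ramMaps d P e = ∅ ↔
        ∃ V : Submodule k k[X], V ≤ Polynomial.degreeLE k d ∧ Module.finrank k V = 2 ∧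
          ¬ W4c1limliniiii.IsSeparable V ∧
          ∀ i, ∃ s ∈ V, s ≠ 0 ∧ e i ≤ Polynomial.rootMultiplicity (P i) s) := by
  exact main hP he

end Groth.Agent.S13918
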