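import Groth.Statements.S13919
import Mathlib
import Groth.Agent.S13918

set_option autoImplicit false
universe u
open W4c1limliniiii

namespace Groth.Agent.S13919

open Polynomial

variable {K : Type u} [Field K]

theorem insep_exists {p d : ℕ} [Fact p.Prime] [CharP K p] {P : Fin 3 → K} (hP : Function.Injective P) {e : Fin 3 → ℕ}
    (h0 : e 0 < p) (h1 : e 1 < p) (hpd : p ≤ d) (he2 : e 2 ≤ d) :
    ∃ V : Submodule K K[X], V ≤ degreeLE K d ∧ Module.finrank K V = 2 ∧
      ¬ W4c1limliniiii.IsSeparable V ∧ ∀ i, ∃ s ∈ V, s ≠ 0 ∧ e i ≤ rootMultiplicity (P i) s := by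
  classical
  have hp : 0 < p := (Fact.out : p.Prime).pos
  set g : K[X] := (X - C (P 2)) ^ (e 2 - p)
  let q : Fin 3 → K[X] := fun i => (X - C (P i)) ^ p * g
  have hq0 : ∀ i, q i ≠ 0 := fun i => mul_ne_zero (pow_ne_zero _ (X_sub_C_ne_zero _)) (pow_ne_zero _ (X_sub_C_ne_zero _))
  have hqe : ∀ i, q i = g * (X ^ p) + (- (P i ^ p)) • g := fun i => by
    simp only [q, sub_pow_char, smul_eq_C_mul, map_neg, map_pow]; ring
  let V : Submodule K K[X] := Submodule.span K {g * X ^ p, g}
  have hmem : ∀ i, q i ∈ V := fun i => by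
    rw [hqe]; exact add_mem (Submodule.subset_span (by simp)) (Submodule.smul_mem _ _ (Submodule.subset_span (by simp)))
  have hg0 : g ≠ 0 := pow_ne_zero _ (X_sub_C_ne_zero _)
  have hli : LinearIndependent K ![g * X ^ p, g] := by
    rw [LinearIndependent.pair_iff]
    intro a b hab
    have h3 : C a * X ^ p + C b = 0 := (mul_eq_zero.1 (show g * (C a * X ^ p + C b) = 0 by
      rw [← hab, smul_eq_C_mul, smul_eq_C_mul]; ring)).resolve_left hg0
    have ha := congrArg (fun r : K[X] => r.coeff p) h3
    have hb := congrArg (fun r : K[X] => r.coeff 0) h3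
    simp [coeff_C, hp.ne', hp.ne] at ha hb
    exact ⟨ha, hb⟩
  have hgd : g.natDegree + p ≤ d := by
    simp only [g, natDegree_pow, natDegree_X_sub_C, mul_one]; omega
  refine ⟨V, ?_, ?_, ?_, fun i => ⟨q i, hmem i, hq0 i, (le_rootMultiplicity_iff (hq0 i)).2 ?_⟩⟩
  · refine Submodule.span_le.2 ?_
    rintro x (rfl | rfl) <;> refine mem_degreeLE.2 (natDegree_le_iff_degree_le.1 ?_)
    · exact natDegree_mul_le.trans (by rw [natDegree_X_pow]; exact hgd)
    · omega
  · rw [show V = Submodule.span K (Set.range ![g * X ^ p, g]) by simp only [V]; congr 1; simp [Set.pair_comm],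
      finrank_span_eq_card hli]; simp
  · rintro ⟨F, hF, G, hG, h⟩
    obtain ⟨a, b, rfl⟩ := Submodule.mem_span_pair.1 hF
    obtain ⟨a', b', rfl⟩ := Submodule.mem_span_pair.1 hG
    apply h
    rw [Groth.Agent.S13918.wr_comb]
    have : wronskian (g * X ^ p) g = 0 := by
      simp only [wronskian, derivative_mul, derivative_X_pow, CharP.cast_eq_zero, map_zero, zero_mul, mul_zero, add_zero]
      ring
    rw [this, mul_zero]
  · fin_cases i
    · exact ((pow_dvd_pow _ h0.le).trans (dvd_mul_right _ _))
    · exact ((pow_dvd_pow _ h1.le).trans (dvd_mul_right _ _))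
    · refine (pow_dvd_pow _ (show e 2 ≤ p + (e 2 - p) by omega)).trans ?_
      rw [pow_add]; exact dvd_rfl

theorem no_insep {p d : ℕ} [CharP K p] (hp : p = 0 ∨ (p.Prime ∧ d < p)) (V : Submodule K K[X]) (hV : V ≤ degreeLE K d)
    (hdim : Module.finrank K V = 2) : W4c1limliniiii.IsSeparable V := by
  have hK : ∀ j : ℕ, 1 ≤ j → j ≤ d → (j : K) ≠ 0 := fun j h1 h2 h => by
    rw [CharP.cast_eq_zero_iff K p] at h
    rcases hp with rfl | ⟨-, hlt⟩
    · rw [zero_dvd_iff] at h; omega
    · have := Nat.le_of_dvd (by omega) h; omega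
  have hdeg : ∀ x ∈ V, x.natDegree ≤ d := fun x hx => natDegree_le_iff_degree_le.2 (mem_degreeLE.1 (hV hx))
  by_contra hins
  simp only [W4c1limliniiii.IsSeparable] at hins
  push Not at hins
  have : FiniteDimensional K V := Module.finite_of_finrank_eq_succ hdim
  obtain ⟨f, hf, hf0⟩ := (Submodule.ne_bot_iff V).1 (fun h => by rw [h, finrank_bot] at hdim; omega)
  have hle : V ≤ Submodule.span K {f} := fun g hg => by
    obtain ⟨c, hc⟩ := Groth.Agent.S13929.wr_zero hK (hdeg f hf) (hdeg g hg) hf0 (hins f hf g hg)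
    exact Submodule.mem_span_singleton.2 ⟨c, by rw [hc, smul_eq_C_mul]⟩
  have := Submodule.finrank_mono hle
  rw [hdim, finrank_span_singleton hf0] at this
  omega

theorem main [IsAlgClosed K] {p d : ℕ} [CharP K p] {P : Fin 3 → K} (hP : Function.Injective P) {e : Fin 3 → ℕ}
    (he : Admissible p d e) :
    (p ≠ 0 → e 0 < p → e 1 < p → p ≤ d → ramMaps d P e = ∅) ∧
      (p = 0 ∨ d < p → ∃ V : Submodule K K[X], ramMaps d P e = {V}) := by
  obtain ⟨hsub, hiff⟩ := Groth.Agent.S13918.main hP he
  have hprime : p = 0 ∨ p.Prime := (CharP.char_is_prime_or_zero K p).symm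
  refine ⟨fun hp0 h0 h1 hpd => ?_, fun h => ?_⟩
  · haveI : Fact p.Prime := ⟨hprime.resolve_left hp0⟩
    exact hiff.2 (insep_exists hP h0 h1 hpd (he.1 2).2.1)
  · obtain ⟨V, hV⟩ := Set.nonempty_iff_ne_empty.2 fun h0 => by
      obtain ⟨V, hV, hdim, hins, -⟩ := hiff.1 h0
      exact hins (no_insep (p := p) (h.imp id fun hd => ⟨hprime.resolve_left (by omega), hd⟩) V hV hdim)
    exact ⟨V, hsub.eq_singleton_of_mem hV⟩

open Polynomial in
/-- Over an algebraically closed field of characteristic p (zero allowed), fix three distinct points of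
the affine line and indices 2 ≤ e_i ≤ d prime to p with ∑ (e_i − 1) = 2d − 2, and encode self-maps
of the projective line up to automorphisms of the target as base-point-free separable pencils of
polynomials of degree at most d. If p is positive, the first two indices are less than p and p ≤ d,
then there is no separable degree-d self-map of the projective line with ramification index exactly
e_i at the i-th point; if p = 0 or d < p there is exactly one up to automorphisms of the target.
(The first clause includes the case d = p; with it, when all e_i are less than p, the three-point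
count is one map if p = 0 or p > d and none otherwise.) -/
theorem result (k : Type u) [Field k] [IsAlgClosed k]
    (p : ℕ) [CharP k p] (d : ℕ) (P : Fin 3 → k) (hP : Function.Injective P)
    (e : Fin 3 → ℕ) (he : W4c1limliniiii.Admissible p d e) :
    (p ≠ 0 → e 0 < p → e 1 < p → p ≤ d → W4c1limliniiii.ramMaps d P e = ∅) ∧
      (p = 0 ∨ d < p → ∃ V : Submodule k k[X], W4c1limliniiii.ramMaps d P e = {V}) := by
  exact main hP he

end Groth.Agent.S13919
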