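import Groth.Statements.S13920
import Mathlib
-- import your own Groth.Agent.* helpers here

set_option autoImplicit false
set_option backward.isDefEq.respectTransparency false
universe u
open W4c1limliniiii

namespace Groth.Agent.S13920

open Polynomial in
/-- Over an algebraically closed field of prime characteristic p, fix n points of the affine line with
ramification indices e_i < p, and at infinity an index E with p < E and E prime to p, the datum (E,
e_1, …, e_n) being admissible for degree d (each index between 2 and d, ∑ (index − 1) = 2d − 2). If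
one separable degree-d self-map of the projective line (up to automorphisms of the target, encoded
as a base-point-free separable pencil of polynomials of degree at most d) has ramification index
exactly e_i at the i-th point and exactly E at infinity, then infinitely many do: the set of such
pencils is empty or infinite. (The consequence for general points, that no such map exists, is not
restated.) -/
theorem result
    (k : Type u) [Field k] [IsAlgClosed k] (p : ℕ) [Fact p.Prime] [CharP k p]
    (d n : ℕ) (P : Fin n → k) (e : Fin n → ℕ) (E : ℕ)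
    (he : W4c1limliniiii.Admissible p d (Fin.cons E e : Fin (n + 1) → ℕ))
    (hlt : ∀ i, e i < p) (hE : p < E) :
    {V : Submodule k k[X] | V ∈ W4c1limliniiii.ramMaps d P e ∧ W4c1limliniiii.HasRamIdxInf d V E} = ∅ ∨
      {V : Submodule k k[X] | V ∈ W4c1limliniiii.ramMaps d P e ∧
        W4c1limliniiii.HasRamIdxInf d V E}.Infinite := by
  rw [or_iff_not_imp_left]
  intro hne
  obtain ⟨V, ⟨⟨hdeg, hrk, ⟨f, hf, hfd⟩, hbp⟩, hsep, hram⟩, ⟨g, hg, hg0, hgd⟩, hinf⟩ := Set.nonempty_iff_ne_empty.mpr hne
  have hE2 : 2 ≤ E ∧ E ≤ d := ⟨(he.1 0).1, (he.1 0).2.1⟩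
  have hgd' : g.natDegree + E = d := le_antisymm hgd (hinf g hg hg0)
  have hf0 : f ≠ 0 := fun h => by rw [h, Polynomial.natDegree_zero] at hfd; omega
  have hp := (Fact.out : p.Prime)
  have hq : ∀ (t : k), (t • (Polynomial.X ^ p * g)).natDegree < d := fun t => by
    refine lt_of_le_of_lt (Polynomial.natDegree_smul_le _ _) (lt_of_le_of_lt Polynomial.natDegree_mul_le ?_)
    rw [Polynomial.natDegree_X_pow]; omega
  have hbasis : ∀ s ∈ V, ∃ a b : k, a • f + b • g = s := by
    have hli : LinearIndependent k ![f, g] := LinearIndependent.pair_iff.mpr fun a b hab => by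
      by_cases ha : a = 0
      · subst ha; exact ⟨rfl, by simpa [hg0] using hab⟩
      · exfalso
        have := congrArg Polynomial.natDegree (eq_neg_of_add_eq_zero_left hab)
        rw [Polynomial.natDegree_smul _ ha, Polynomial.natDegree_neg] at this
        have := (Polynomial.natDegree_smul_le b g)
        omega
    have hle : Submodule.span k (Set.range ![f, g]) ≤ V := Submodule.span_le.mpr (by
      rintro _ ⟨i, rfl⟩; fin_cases i <;> assumption)
    haveI : Module.Finite k V := Module.finite_of_finrank_eq_succ hrk
    have heq := Submodule.eq_of_le_of_finrank_eq hle (by rw [finrank_span_eq_card hli, hrk]; rfl)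
    intro s hs
    rw [← heq, Matrix.range_cons, Matrix.range_cons, Matrix.range_empty, Set.union_empty, Set.singleton_union, Submodule.mem_span_pair] at hs
    exact hs
  let ft : k → k[X] := fun t => f + t • (Polynomial.X ^ p * g)
  let W : k → Submodule k k[X] := fun t => Submodule.span k {ft t, g}
  have hftd : ∀ t, (ft t).natDegree = d := fun t => by
    show (f + t • (Polynomial.X ^ p * g)).natDegree = d
    rw [Polynomial.natDegree_add_eq_left_of_natDegree_lt (by rw [hfd]; exact hq t), hfd]
  have hft0 : ∀ t, ft t ≠ 0 := fun t h => by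
    have := hftd t; rw [h, Polynomial.natDegree_zero] at this; omega
  have hdegW : ∀ t (a b : k), (a ≠ 0 → (a • ft t + b • g).natDegree = d) := fun t a b ha => by
    rw [Polynomial.natDegree_add_eq_left_of_natDegree_lt, Polynomial.natDegree_smul _ ha, hftd]
    rw [Polynomial.natDegree_smul _ ha, hftd]
    exact lt_of_le_of_lt (Polynomial.natDegree_smul_le _ _) (by omega)
  have hW : ∀ t, W t ∈ {V : Submodule k k[X] | V ∈ W4c1limliniiii.ramMaps d P e ∧ W4c1limliniiii.HasRamIdxInf d V E} := by
    intro t
    have hgW : g ∈ W t := Submodule.subset_span (by simp)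
    have hfW : ft t ∈ W t := Submodule.subset_span (by simp)
    refine ⟨⟨⟨?_, ?_, ⟨ft t, hfW, hftd t⟩, fun a => ?_⟩, ?_, fun i => ⟨?_, ?_⟩⟩, ⟨g, hgW, hg0, hgd⟩, ?_⟩
    · refine Submodule.span_le.mpr ?_
      rintro _ (rfl | rfl)
      · exact Polynomial.mem_degreeLE.mpr (Polynomial.natDegree_le_iff_degree_le.mp (hftd t).le)
      · exact Polynomial.mem_degreeLE.mpr (Polynomial.natDegree_le_iff_degree_le.mp (by omega))
    · have hli : LinearIndependent k ![ft t, g] := LinearIndependent.pair_iff.mpr fun a b hab => by
        by_cases ha : a = 0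
        · subst ha; exact ⟨rfl, by simpa [hg0] using hab⟩
        · have := hdegW t a b ha; rw [hab, Polynomial.natDegree_zero] at this; omega
      have h2 := finrank_span_eq_card hli
      rwa [Matrix.range_cons, Matrix.range_cons, Matrix.range_empty, Set.union_empty, Set.singleton_union, Fintype.card_fin] at h2
    · by_cases hga : g.eval a = 0
      · refine ⟨ft t, hfW, ?_⟩
        obtain ⟨s, hs, hsa⟩ := hbp a
        obtain ⟨α, β, rfl⟩ := hbasis s hs
        intro h0
        simp [ft, hga] at h0
        simp [hga, h0] at hsa
      · exact ⟨g, hgW, hga⟩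
    · obtain ⟨F, hF, G, hG, hwr⟩ := hsep
      obtain ⟨a, b, rfl⟩ := hbasis F hF
      obtain ⟨a', b', rfl⟩ := hbasis G hG
      refine ⟨ft t, hfW, g, hgW, fun h0 => hwr ?_⟩
      simp only [ft, Polynomial.wronskian, Polynomial.derivative_add, Polynomial.derivative_smul, Polynomial.derivative_mul,
        Polynomial.derivative_X_pow, CharP.cast_eq_zero, map_zero, zero_mul, zero_add] at h0 ⊢
      simp only [Polynomial.smul_eq_C_mul] at h0 ⊢
      linear_combination (Polynomial.C a * Polynomial.C b' - Polynomial.C b * Polynomial.C a') * h0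
    · obtain ⟨⟨s, hs, hs0, hse⟩, -⟩ := hram i
      obtain ⟨a, b, rfl⟩ := hbasis s hs
      refine ⟨a • ft t + (b - a * t * P i ^ p) • g,
        add_mem (Submodule.smul_mem _ _ hfW) (Submodule.smul_mem _ _ hgW), ?_, ?_⟩
      · intro h0
        by_cases ha : a = 0
        · subst ha; simp_all
        · have := hdegW t a (b - a * t * P i ^ p) ha; rw [h0, Polynomial.natDegree_zero] at this; omega
      · rw [Polynomial.le_rootMultiplicity_iff (by
          intro h0
          by_cases ha : a = 0
          · subst ha; simp_all
          · have := hdegW t a (b - a * t * P i ^ p) ha; rw [h0, Polynomial.natDegree_zero] at this; omega)]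
        rw [show a • ft t + (b - a * t * P i ^ p) • g = (a • f + b • g) + (Polynomial.C (a * t) * g) * (Polynomial.X - Polynomial.C (P i)) ^ p by
          simp only [ft, sub_pow_char, Polynomial.smul_eq_C_mul, map_sub, map_mul, ← Polynomial.C_pow]; ring]
        exact dvd_add ((Polynomial.le_rootMultiplicity_iff hs0).mp hse) (Dvd.dvd.mul_left (pow_dvd_pow _ (hlt i).le) _)
    · intro s' hs' hs'0
      obtain ⟨a, c, rfl⟩ := Submodule.mem_span_pair.mp hs'
      by_contra hgt
      push Not at hgt
      have hdvd := (Polynomial.le_rootMultiplicity_iff hs'0).mp (Nat.succ_le_of_lt hgt)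
      have heq : a • f + (c + a * t * P i ^ p) • g = (a • ft t + c • g) - (Polynomial.C (a * t) * g) * (Polynomial.X - Polynomial.C (P i)) ^ p := by
        simp only [ft, sub_pow_char, Polynomial.smul_eq_C_mul, map_add, map_mul, ← Polynomial.C_pow]; ring
      have hd2 : (Polynomial.X - Polynomial.C (P i)) ^ (e i).succ ∣ a • f + (c + a * t * P i ^ p) • g := by
        rw [heq]; exact dvd_sub hdvd (Dvd.dvd.mul_left (pow_dvd_pow _ (hlt i)) _)
      have hz : a • f + (c + a * t * P i ^ p) • g = 0 := by
        by_contra h0
        have := (Polynomial.le_rootMultiplicity_iff h0).mpr hd2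
        have := (hram i).2 _ (add_mem (Submodule.smul_mem _ _ hf) (Submodule.smul_mem _ _ hg)) h0
        omega
      by_cases ha : a = 0
      · subst ha
        simp only [zero_smul, zero_mul, add_zero, zero_add] at hz hs'0
        exact hs'0 hz
      · have := congrArg Polynomial.natDegree (eq_neg_of_add_eq_zero_left hz)
        rw [Polynomial.natDegree_smul _ ha, Polynomial.natDegree_neg] at this
        have := Polynomial.natDegree_smul_le (c + a * t * P i ^ p) g
        omega
    · intro s hs hs0
      obtain ⟨a, b, rfl⟩ := Submodule.mem_span_pair.mp hs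
      by_cases ha : a = 0
      · subst ha
        have hb : b ≠ 0 := by rintro rfl; simp at hs0
        rw [zero_smul, zero_add, Polynomial.natDegree_smul _ hb]; omega
      · rw [hdegW t a b ha]; omega
  refine Set.infinite_of_injective_forall_mem (f := W) (fun t t' htt => ?_) hW
  by_contra hne'
  have h1 : ft t ∈ W t' := htt ▸ Submodule.subset_span (by simp)
  have h2 : ft t - ft t' ∈ W t' := sub_mem h1 (Submodule.subset_span (by simp))
  obtain ⟨a, b, hab⟩ := Submodule.mem_span_pair.mp h2
  have hsub : ft t - ft t' = (t - t') • (Polynomial.X ^ p * g) := by simp only [ft, sub_smul]; ring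
  rw [hsub] at hab
  have hD : ((t - t') • (Polynomial.X ^ p * g)).natDegree = p + g.natDegree := by
    rw [Polynomial.natDegree_smul _ (sub_ne_zero.mpr hne'), Polynomial.natDegree_mul (pow_ne_zero _ Polynomial.X_ne_zero) hg0, Polynomial.natDegree_X_pow]
  rw [← hab] at hD
  by_cases ha : a = 0
  · subst ha
    rw [zero_smul, zero_add] at hD
    have := Polynomial.natDegree_smul_le b g
    have := hp.pos
    omega
  · rw [hdegW t' a b ha] at hD; omega

end Groth.Agent.S13920
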