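import Groth.Statements.S13925
import Mathlib.LinearAlgebra.Span.Defs
import Mathlib.LinearAlgebra.DFinsupp
import Mathlib.Data.Fin.VecNotation

set_option autoImplicit false
universe u v w x
open W4c1limliniiii

namespace Groth.Agent.S13925

/-- Let k be a field and U, E, W vector spaces over k with linear maps f : U → E, g' : E → U, f₂ : E → W
and g : W → E such that g' ∘ f = 0, the kernel of f₂ is contained in the image of g, and the image
of g meets the kernel of g' only in 0 — the conditions holding at a point of a linked Grassmannian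
at which the linking scalar vanishes. Let V₁ ≤ U and V₂ ≤ E be subspaces and let C' ≤ V₂ be a
subspace contained in the kernel of g' and meeting f(V₁) only in 0. Then the subspaces f(V₁), ker f₂
∩ V₂ and C' of E are independent: their sum is direct. (The published statement is for two
consecutive members V_{i-1}, V_i of a point of a linked Grassmannian at which the linking scalar
vanishes and adds the decomposition V_i = f(V_{i-1}) ⊕ (ker f_i ∩ V_i) ⊕ C with C ⊇ C'; this row
states the independence, with only the three conditions the argument uses.) -/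
theorem result (k : Type u) [Field k]
    (U : Type v) (E : Type w) (W : Type x) [AddCommGroup U] [Module k U] [AddCommGroup E]
    [Module k E] [AddCommGroup W] [Module k W]
    (f : U →ₗ[k] E) (g' : E →ₗ[k] U) (f₂ : E →ₗ[k] W) (g : W →ₗ[k] E)
    (hgf : g'.comp f = 0) (hII : LinearMap.ker f₂ ≤ LinearMap.range g)
    (hIII : LinearMap.range g ⊓ LinearMap.ker g' = ⊥)
    (V₁ : Submodule k U) (V₂ : Submodule k E) (C' : Submodule k E) (hC : C' ≤ V₂)
    (hCg : C' ≤ LinearMap.ker g') (hCf : Submodule.map f V₁ ⊓ C' = ⊥) :
    iSupIndep ![Submodule.map f V₁, LinearMap.ker f₂ ⊓ V₂, C'] := by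
  rw [iSupIndep_iff_finsetSum_eq_zero_imp_eq_zero]
  intro s v hv hsum
  classical
  set w : Fin 3 → E := fun i => if i ∈ s then v i else 0 with hw
  have hmem : ∀ i, w i ∈ ![Submodule.map f V₁, LinearMap.ker f₂ ⊓ V₂, C'] i := fun i => by
    by_cases h : i ∈ s
    · simp only [hw, if_pos h]; exact hv i h
    · simp only [hw, if_neg h]; exact zero_mem _
  have hs : w 0 + w 1 + w 2 = 0 := by
    rw [← Fin.sum_univ_three, ← hsum]
    simp only [hw, Finset.sum_ite_mem, Finset.univ_inter]
  obtain ⟨u, hu, hu0⟩ := hmem 0
  have h1 := hmem 1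
  have h2 : w 2 ∈ C' := hmem 2
  have g1 : g' (w 1) = 0 := by
    have := congrArg g' hs
    rw [map_add, map_add, ← hu0, show g' (f u) = 0 from congrArg (fun h : U →ₗ[k] U => h u) hgf,
      LinearMap.mem_ker.1 (hCg h2), map_zero, zero_add, add_zero] at this
    exact this
  have w1 : w 1 = 0 := by
    have hm : w 1 ∈ LinearMap.range g ⊓ LinearMap.ker g' := ⟨hII h1.1, LinearMap.mem_ker.2 g1⟩
    rwa [hIII, Submodule.mem_bot] at hm
  rw [w1, add_zero] at hs
  have w2 : w 2 = 0 := by
    have hm : w 2 ∈ Submodule.map f V₁ ⊓ C' :=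
      ⟨(by rw [eq_neg_of_add_eq_zero_right hs, ← hu0]; exact ⟨-u, V₁.neg_mem hu, map_neg f u⟩ : w 2 ∈ Submodule.map f V₁), h2⟩
    rwa [hCf, Submodule.mem_bot] at hm
  rw [w2, add_zero] at hs
  intro i hi
  have e : w i = v i := if_pos hi
  rw [← e]
  fin_cases i
  · exact hs
  · exact w1
  · exact w2

end Groth.Agent.S13925
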