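import Groth.Statements.S13926
import Mathlib.LinearAlgebra.FiniteDimensional.Lemmas
import Mathlib.LinearAlgebra.Dimension.DivisionRing

set_option autoImplicit false
universe u v w
open W4c1limliniiii

namespace Groth.Agent.S13926

lemma exists_between {k : Type*} {E : Type*} [Field k] [AddCommGroup E] [Module k E] [FiniteDimensional k E]
    (A : Submodule k E) :
    ∀ (d : ℕ) (C : Submodule k E), A ≤ C → Module.finrank k A ≤ d → d ≤ Module.finrank k C →
      ∃ D : Submodule k E, A ≤ D ∧ D ≤ C ∧ Module.finrank k D = d := by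
  intro d
  induction d with
  | zero => exact fun C hAC h1 _ => ⟨A, le_rfl, hAC, by omega⟩
  | succ d ih =>
    intro C hAC h1 h2
    rcases Nat.lt_or_ge (Module.finrank k A) (d + 1) with h | h
    · obtain ⟨D, hAD, hDC, hD⟩ := ih C hAC (by omega) (by omega)
      obtain ⟨x, hxC, hxD⟩ := SetLike.exists_of_lt (lt_of_le_of_ne hDC (by rintro rfl; omega))
      refine ⟨D ⊔ Submodule.span k {x}, hAD.trans le_sup_left, sup_le hDC (by simpa using hxC), ?_⟩
      have hx0 : x ≠ 0 := fun h => hxD (h ▸ zero_mem _)
      have := Submodule.finrank_sup_add_finrank_inf_eq D (Submodule.span k {x})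
      have hinf : D ⊓ Submodule.span k {x} = ⊥ := by
        rw [Submodule.eq_bot_iff]
        rintro z ⟨hzD, hz⟩
        obtain ⟨a, rfl⟩ := Submodule.mem_span_singleton.1 hz
        by_contra hne
        have ha : a ≠ 0 := fun h => hne (by rw [h, zero_smul])
        exact hxD (by simpa [smul_smul, inv_mul_cancel₀ ha] using D.smul_mem a⁻¹ hzD)
      rw [hinf, finrank_bot, finrank_span_singleton hx0, add_zero, hD] at this
      exact this
    · exact ⟨A, le_rfl, hAC, by omega⟩

/-- Let k be a field, E₁ and E₂ finite-dimensional vector spaces over k of the same dimension, f : E₁ →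
E₂ and g : E₂ → E₁ linear maps whose composite g ∘ f is multiplication by a scalar s, and V₁ a
subspace of E₁. Then there is a subspace V₂ of E₂ of the same dimension as V₁ with f(V₁) ≤ V₂ and
g(V₂) ≤ V₁. (The published statement is the surjectivity of the truncation morphisms of a linked
Grassmannian, with a further assertion on lifting families; this row is the lifting step over a
field — over a point the chain of linked subspaces V_1, …, V_{n'} extends one index at a time — and
assumes only g ∘ f = s.) -/
theorem result (k : Type u) [Field k]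
    (E₁ : Type v) (E₂ : Type w) [AddCommGroup E₁] [Module k E₁] [FiniteDimensional k E₁]
    [AddCommGroup E₂] [Module k E₂] [FiniteDimensional k E₂]
    (hdim : Module.finrank k E₁ = Module.finrank k E₂)
    (f : E₁ →ₗ[k] E₂) (g : E₂ →ₗ[k] E₁) (s : k) (hgf : g.comp f = s • LinearMap.id)
    (V₁ : Submodule k E₁) :
    ∃ V₂ : Submodule k E₂, Module.finrank k V₂ = Module.finrank k V₁ ∧
      Submodule.map f V₁ ≤ V₂ ∧ Submodule.map g V₂ ≤ V₁ := by
  have hle : Submodule.map f V₁ ≤ Submodule.comap g V₁ := by
    rintro _ ⟨v, hv, rfl⟩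
    show g (f v) ∈ V₁
    rw [show g (f v) = s • v from congrArg (fun h : E₁ →ₗ[k] E₁ => h v) hgf]
    exact V₁.smul_mem s hv
  have h2 : Module.finrank k V₁ ≤ Module.finrank k (Submodule.comap g V₁) := by
    have h := LinearMap.finrank_range_add_finrank_ker (V₁.mkQ.comp g)
    have hr := Submodule.finrank_le (LinearMap.range (V₁.mkQ.comp g))
    have hq := Submodule.finrank_quotient_add_finrank V₁
    rw [LinearMap.ker_comp, Submodule.ker_mkQ] at h
    omega
  obtain ⟨D, hAD, hDC, hD⟩ := exists_between (Submodule.map f V₁) (Module.finrank k V₁) _ hle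
    (Submodule.finrank_map_le f V₁) h2
  exact ⟨D, hD, hAD, Submodule.map_le_iff_le_comap.2 hDC⟩

end Groth.Agent.S13926
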