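import Groth.Statements.S13934
import Groth.Agent.VBLib.GenusOneTwo

set_option autoImplicit false
universe u
open CategoryTheory CategoryTheory.Limits AlgebraicGeometry
open W4c1limliniiii

namespace Groth.Agent.S13934

open Groth.Agent.VBLib in
theorem deg_le_of_hom (k : Type u) [Field k] {X : Scheme.{u}} [X.Over (Spec (CommRingCat.of k))]
    [IsProper (X ↘ Spec (CommRingCat.of k))] [IsIntegral X] [AlgebraicGeometry.IsNoetherian X]
    (hdim : topologicalKrullDim X ≤ 1) {N M : X.Modules} (hN : PicF.IsInvertible N) (hM : PicF.IsInvertible M)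
    {f : N ⟶ M} (hf : f ≠ 0) : Curv2.deg k X N 1 ≤ Curv2.deg k X M 1 := by
  haveI := Groth.Agent.CurveLib.mono_of_ne_zero hN hM hf
  have hNr := Groth.Agent.CurveLib.isFinLocFreeOfRank_one hN
  have hMr := Groth.Agent.CurveLib.isFinLocFreeOfRank_one hM
  have h := (dg_le_of_mono k hdim f (isCoh_of_rank hNr) (isCoh_of_rank hMr)
    (by rw [grk_of_rank hNr, grk_of_rank hMr])).1
  rwa [dg_eq k hNr, dg_eq k hMr] at h

/-- On a smooth proper integral curve over an algebraically closed field (any characteristic), let 0 → L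
→ E → M → 0 be a short exact sequence of O_X-modules with E finite locally free of rank 2 and degree
0, L and M invertible and deg L > 0 (so M is det E ⊗ L⁻¹). Then: every invertible sheaf N admitting
a non-zero map N → E has deg N ≤ deg L, so L is the line bundle of maximal degree in E; every
invertible subsheaf N of E of positive degree with invertible quotient E/N coincides with L (some
isomorphism N ≅ L commutes with the inclusions); and E is not an extension of two invertible sheaves
of degree 0. Degrees are χ(−) minus rank times χ(O_X). (The published lemma is stated on a curve of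
genus 2 in characteristic p; its argument uses neither, and this row assumes neither.) -/
theorem result (k : Type u) [Field k] [IsAlgClosed k] (X : Scheme.{u}) [X.Over (Spec (CommRingCat.of k))]
    [IsIntegral X] [IsProper (X ↘ Spec (CommRingCat.of k))] [Smooth (X ↘ Spec (CommRingCat.of k))]
    (hdim : topologicalKrullDim X = 1)
    (S : ShortComplex X.Modules) (hS : S.ShortExact)
    (hE : FlatMod.IsFinLocFreeOfRank 2 S.X₂) (hE0 : Curv2.deg k X S.X₂ 2 = 0)
    (hL : PicF.IsInvertible S.X₁) (hM : PicF.IsInvertible S.X₃) (hpos : 0 < Curv2.deg k X S.X₁ 1) :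
    (∀ (N : X.Modules), PicF.IsInvertible N → ∀ j : N ⟶ S.X₂, j ≠ 0 →
        Curv2.deg k X N 1 ≤ Curv2.deg k X S.X₁ 1) ∧
    (∀ (N : X.Modules), PicF.IsInvertible N → ∀ (j : N ⟶ S.X₂), Mono j →
        PicF.IsInvertible (cokernel j) → 0 < Curv2.deg k X N 1 → ∃ φ : N ≅ S.X₁, φ.hom ≫ S.f = j) ∧
    (∀ (N N' : X.Modules), PicF.IsInvertible N → PicF.IsInvertible N' →
        Curv2.deg k X N 1 = 0 → Curv2.deg k X N' 1 = 0 →
        ∀ (a : N ⟶ S.X₂) (b : S.X₂ ⟶ N') (w : a ≫ b = 0), ¬ (ShortComplex.mk a b w).ShortExact) := by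
  haveI := Groth.Agent.VBLib.isRegCurve_of_smooth k (X := X) hdim.le
  haveI := Groth.Agent.EulerIneqLib.isNoetherian_proper (X := X) k
  haveI := hS.mono_f
  haveI := hS.epi_g
  have hLr := Groth.Agent.CurveLib.isFinLocFreeOfRank_one hL
  have hMr := Groth.Agent.CurveLib.isFinLocFreeOfRank_one hM
  have hd := Groth.Agent.CurveLib.deg_shortExact (k := k) hS (n₁ := 1) (n₂ := 2) (n₃ := 1)
    (Groth.Agent.VBLib.isCoh_of_rank hLr) (Groth.Agent.VBLib.isCoh_of_rank hE) (Groth.Agent.VBLib.isCoh_of_rank hMr) rfl
  refine ⟨fun N hN j hj => ?_, fun N hN j hj hC hpN => ?_, fun N N' hN hN' h0 h0' a b w hT => ?_⟩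
  · by_cases hg : j ≫ S.g = 0
    · obtain ⟨l, hl⟩ : ∃ l, l ≫ S.f = j := ⟨hS.exact.lift j hg, hS.exact.lift_f j hg⟩
      exact deg_le_of_hom k hdim.le hN hL (f := l) fun h => hj (by rw [← hl, h, zero_comp])
    · have := deg_le_of_hom k hdim.le hN hM hg
      omega
  · haveI := hj
    have hg : j ≫ S.g = 0 := by
      by_contra hg
      have := deg_le_of_hom k hdim.le hN hM hg
      omega
    have hCr := Groth.Agent.CurveLib.isFinLocFreeOfRank_one hC
    have hNr := Groth.Agent.CurveLib.isFinLocFreeOfRank_one hN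
    have hd' := Groth.Agent.CurveLib.deg_shortExact (k := k) (Groth.Agent.DevLib.cokerSeq_shortExact j)
      (n₁ := 1) (n₂ := 2) (n₃ := 1) (Groth.Agent.VBLib.isCoh_of_rank hNr) (Groth.Agent.VBLib.isCoh_of_rank hE)
      (Groth.Agent.VBLib.isCoh_of_rank hCr) rfl
    change Curv2.deg k X S.X₂ 2 = Curv2.deg k X N 1 + Curv2.deg k X (cokernel j) 1 at hd'
    have hπ : S.f ≫ cokernel.π j = 0 := by
      by_contra hπ
      have := deg_le_of_hom k hdim.le hL hC hπ
      omega
    exact ⟨⟨hS.exact.lift j hg, Abelian.monoLift j S.f hπ,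
      by rw [← cancel_mono j, Category.assoc, Abelian.monoLift_comp, hS.exact.lift_f, Category.id_comp],
      by rw [← cancel_mono S.f, Category.assoc, hS.exact.lift_f, Abelian.monoLift_comp, Category.id_comp]⟩,
      hS.exact.lift_f j hg⟩
  · have : Mono a := hT.mono_f
    have hg : a ≫ S.g = 0 := by
      by_contra hg
      have := deg_le_of_hom k hdim.le hN hM hg
      omega
    have hb : S.f ≫ b = 0 := by
      by_contra hb
      have := deg_le_of_hom k hdim.le hL hN' hb
      omega
    have hl : hT.exact.lift S.f hb ≠ 0 := fun h => by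
      have h1 : S.f = 0 := by
        have h2 := hT.exact.lift_f S.f hb
        rw [h, zero_comp] at h2
        exact h2.symm
      have hz : IsZero S.X₁ := IsZero.of_mono_eq_zero S.f h1
      have := (Groth.Agent.VBLib.dg_isZero k hz).1
      rw [Groth.Agent.VBLib.grk_of_rank hLr] at this
      exact one_ne_zero this
    have := deg_le_of_hom k hdim.le hL hN hl
    omega

end Groth.Agent.S13934
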