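import Groth.Statements.S13936
import Mathlib

set_option autoImplicit false
universe u
open W4c1limliniiii

namespace Groth.Agent.S13936

open scoped TensorProduct
open Algebra.TensorProduct

variable {R S : Type u} [CommRing R] [CommRing S] [Algebra R S]

/-- The augmentation. -/
noncomputable def mu (n : ℕ) : PP16.P n R S →ₐ[S] S :=
  Ideal.Quotient.liftₐ _ (lmul'' R) fun x hx => by
    have : x ∈ KaehlerDifferential.ideal R S := Ideal.pow_le_self (Nat.succ_ne_zero n) hx
    exact this

theorem mu_aug (n : ℕ) {x : PP16.P n R S} (hx : x ∈ PP16.augIdeal n R S) : mu n x = 0 := by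
  obtain ⟨y, hy, rfl⟩ := (Ideal.mem_map_iff_of_surjective _ Ideal.Quotient.mk_surjective).mp hx
  exact hy

theorem sub_mu_mem (n : ℕ) (z : PP16.P n R S) :
    z - algebraMap S (PP16.P n R S) (mu n z) ∈ PP16.augIdeal n R S := by
  obtain ⟨y, rfl⟩ := Ideal.Quotient.mk_surjective z
  refine Ideal.mem_map_of_mem _ (show y - algebraMap S (S ⊗[R] S) (lmul'' R y) ∈ KaehlerDifferential.ideal R S from ?_)
  rw [KaehlerDifferential.ideal, RingHom.mem_ker, map_sub]
  show lmul'' R y - lmul'' R (algebraMap S (S ⊗[R] S) (lmul'' R y)) = 0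
  rw [AlgHom.commutes]; simp

theorem mem_mul (n : ℕ) (I : Ideal S) {x : PP16.P n R S} (hx : x ∈ PP16.augIdeal n R S)
    (hx' : x ∈ I.map (algebraMap S (PP16.P n R S))) :
    x ∈ I.map (algebraMap S (PP16.P n R S)) * PP16.augIdeal n R S := by
  have key : ∀ z ∈ I.map (algebraMap S (PP16.P n R S)),
      z - algebraMap S (PP16.P n R S) (mu n z) ∈ I.map (algebraMap S (PP16.P n R S)) * PP16.augIdeal n R S := by
    intro z hz
    rw [Ideal.map] at hz
    induction hz using Submodule.span_induction with
    | mem y hy =>
      obtain ⟨a, -, rfl⟩ := hy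
      rw [AlgHom.commutes]; simp
    | zero => simp
    | add a b _ _ ha hb =>
      rw [map_add, map_add, add_sub_add_comm]; exact Ideal.add_mem _ ha hb
    | smul c y hy ha =>
      have hy' : y ∈ I.map (algebraMap S (PP16.P n R S)) := by rw [Ideal.map]; exact hy
      have h1 : mu n y ∈ I := by
        have h2 := Ideal.mem_map_of_mem (mu (R := R) n) hy'
        rw [← Ideal.map_coe, Ideal.map_map, AlgHom.comp_algebraMap, Algebra.algebraMap_self, Ideal.map_id] at h2
        exact h2
      rw [smul_eq_mul, map_mul, map_mul]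
      have e : c * y - algebraMap S (PP16.P n R S) (mu n c) * algebraMap S _ (mu n y) =
          c * (y - algebraMap S _ (mu n y)) + algebraMap S _ (mu n y) * (c - algebraMap S _ (mu n c)) := by ring
      rw [e]
      exact Ideal.add_mem _ (Ideal.mul_mem_left _ _ ha)
        (Ideal.mul_mem_mul (Ideal.mem_map_of_mem _ h1) (sub_mu_mem n c))
  simpa [mu_aug n hx] using key x hx'

theorem add_pow_le {Q : Type u} [CommRing Q] (A B : Ideal Q) (m : ℕ) : (A + B) ^ m ≤ A + B ^ m := by
  induction m with
  | zero => simp
  | succ m ih =>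
    rw [pow_succ, pow_succ]
    refine (Ideal.mul_mono_left ih).trans ?_
    rw [add_mul, mul_add, mul_add]
    exact sup_le (le_sup_of_le_left (sup_le Ideal.mul_le_right Ideal.mul_le_left))
      (sup_le (le_sup_of_le_left Ideal.mul_le_right) le_sup_right)

theorem dn_mem (n : ℕ) (I : Ideal S) {c : S} (hc : c ∈ I ^ (n + 1)) :
    PP16.dn n R S c ∈ I.map (algebraMap S (PP16.P n R S)) := by
  have h1 : I.map (PP16.dn n R S : S →+* PP16.P n R S) ≤ I.map (algebraMap S (PP16.P n R S)) + PP16.augIdeal n R S := by
    refine Ideal.map_le_iff_le_comap.mpr fun a ha => ?_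
    refine Submodule.mem_sup.mpr ⟨_, Ideal.mem_map_of_mem _ ha, PP16.dn n R S a - algebraMap S _ a, ?_, by simp⟩
    exact Ideal.mem_map_of_mem (Ideal.Quotient.mk _) (KaehlerDifferential.one_smul_sub_smul_one_mem_ideal R a)
  have h0 : PP16.augIdeal n R S ^ (n + 1) = ⊥ := by
    rw [PP16.augIdeal, ← Ideal.map_pow]; exact Ideal.map_quotient_self _
  have := (Ideal.pow_right_mono h1 (n + 1)).trans (add_pow_le _ _ _)
  rw [h0, ← Ideal.map_pow] at this
  simpa using this (Ideal.mem_map_of_mem _ hc)

theorem main {T : Type u} [CommRing T] [Algebra R T] [Algebra T S] [IsScalarTower R T S] (σ : S →ₐ[R] R) (n : ℕ) :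
    (∀ y ∈ PP16.augIdeal n R T,
        PP16.map n R T R S y ∈
          RingHom.ker σ.toRingHom • (PP16.augIdeal n R S).restrictScalars S) ↔
      (∀ b : T, algebraMap T S b ∈ RingHom.ker σ.toRingHom →
        algebraMap T S b ∈ RingHom.ker σ.toRingHom ^ (n + 1)) := by
  set I := RingHom.ker σ.toRingHom with hI
  rw [← Ideal.smul_restrictScalars, smul_eq_mul]
  simp only [Submodule.restrictScalars_mem]
  have hd : ∀ b : T, PP16.map n R T R S (PP16.dn n R T b - algebraMap T _ b) =
      PP16.dn n R S (algebraMap T S b) - algebraMap S _ (algebraMap T S b) := fun b => by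
    rw [map_sub, PP16.map_dn, PP16.map_algebraMap]
  constructor
  · intro h b hb
    let Θ : S ⊗[R] S →ₐ[R] S :=
      Algebra.TensorProduct.lift ((Algebra.ofId R S).comp σ) (AlgHom.id R S) (fun _ _ => Commute.all _ _)
    have hσΘ : ∀ z : S ⊗[R] S, σ (Θ z) = σ (lmul'' R z) := fun z => by
      induction z using TensorProduct.induction_on with
      | zero => simp
      | tmul a c =>
        have e : lmul'' R (a ⊗ₜ[R] c) = a * c := by simp [lmul'']
        simp [Θ, e]
      | add x y hx hy => simp [hx, hy]
    have hΘ : (KaehlerDifferential.ideal R S).map Θ ≤ I := Ideal.map_le_iff_le_comap.mpr fun z hz => by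
      rw [Ideal.mem_comap, hI, RingHom.mem_ker]
      show σ (Θ z) = 0
      rw [hσΘ, show lmul'' R z = 0 from hz, map_zero]
    let Θb : PP16.P n R S →+* S ⧸ I ^ (n + 1) := Ideal.Quotient.lift _ ((Ideal.Quotient.mk _).comp Θ.toRingHom) fun z hz => by
      refine Ideal.Quotient.eq_zero_iff_mem.mpr ?_
      have := Ideal.mem_map_of_mem Θ hz
      rw [Ideal.map_pow] at this
      exact Ideal.pow_right_mono hΘ _ this
    have hzero : I.map (algebraMap S (PP16.P n R S)) ≤ RingHom.ker Θb := Ideal.map_le_iff_le_comap.mpr fun a ha => by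
      rw [Ideal.mem_comap, RingHom.mem_ker]
      show Ideal.Quotient.mk _ (Θ (a ⊗ₜ[R] 1)) = 0
      have ha' : σ a = 0 := ha
      simp [Θ, ha']
    have hb' : σ (algebraMap T S b) = 0 := hb
    have h1 := h _ (show PP16.dn n R T b - algebraMap T _ b ∈ PP16.augIdeal n R T from
      Ideal.mem_map_of_mem (Ideal.Quotient.mk _) (KaehlerDifferential.one_smul_sub_smul_one_mem_ideal R b))
    have h2 : Θb (PP16.map n R T R S (PP16.dn n R T b - algebraMap T _ b)) = 0 :=
      RingHom.mem_ker.mp (hzero (by first | exact Ideal.mul_le_left (I := I.map (algebraMap S (PP16.P n R S))) (J := PP16.augIdeal n R S) h1 | exact Ideal.mul_le_right (I := I.map (algebraMap S (PP16.P n R S))) (J := PP16.augIdeal n R S) h1 | exact Ideal.mul_le_left (J := I.map (algebraMap S (PP16.P n R S))) (I := PP16.augIdeal n R S) (by rwa [mul_comm]) ))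
    rw [hd, map_sub] at h2
    change Ideal.Quotient.mk _ (Θ ((1 : S) ⊗ₜ[R] algebraMap T S b)) -
      Ideal.Quotient.mk _ (Θ (algebraMap T S b ⊗ₜ[R] (1 : S))) = 0 at h2
    simp only [Θ, lift_tmul, AlgHom.coe_comp, Function.comp_apply, hb', map_zero, zero_mul, sub_zero, map_one, one_mul,
      AlgHom.coe_id, id_eq] at h2
    exact Ideal.Quotient.eq_zero_iff_mem.mp h2
  · intro h y hy
    have hle : PP16.augIdeal n R T ≤ (I.map (algebraMap S (PP16.P n R S)) * PP16.augIdeal n R S).comap
        (PP16.map n R T R S) := by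
      refine Ideal.map_le_iff_le_comap.mpr ?_
      refine le_of_eq_of_le (KaehlerDifferential.span_range_eq_ideal R T).symm (Ideal.span_le.mpr ?_)
      rintro _ ⟨b, rfl⟩
      refine (?_ : PP16.map n R T R S (PP16.dn n R T b - algebraMap T _ b) ∈
        I.map (algebraMap S (PP16.P n R S)) * PP16.augIdeal n R S)
      have e : PP16.dn n R T b - algebraMap T _ b =
          PP16.dn n R T (b - algebraMap R T (σ (algebraMap T S b))) -
            algebraMap T _ (b - algebraMap R T (σ (algebraMap T S b))) := by
        rw [map_sub, map_sub, AlgHom.commutes, ← IsScalarTower.algebraMap_apply]; ring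
      rw [e, hd]
      have hc := h (b - algebraMap R T (σ (algebraMap T S b))) (by
        show σ (algebraMap T S (b - algebraMap R T (σ (algebraMap T S b)))) = 0
        rw [map_sub, map_sub, ← IsScalarTower.algebraMap_apply, AlgHom.commutes]; simp)
      refine mem_mul n I (Ideal.mem_map_of_mem (Ideal.Quotient.mk _) (KaehlerDifferential.one_smul_sub_smul_one_mem_ideal R _)) ?_
      exact Ideal.sub_mem _ (dn_mem n I hc) (Ideal.mem_map_of_mem _ (Ideal.pow_le_self (Nat.succ_ne_zero n) hc))
    exact hle hy

/-- Let R be a commutative ring, S_Y → S_X a homomorphism of R-algebras (an affine piece of a morphism f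
: X → Y of schemes over Spec R) and σ : S_X → R an R-algebra retraction (a section of X over the
base) with kernel I. For e ≥ 1 write T^{e−1} for the augmentation ideal of the ring of principal
parts of order e − 1 (the kernel of P^{e−1} → the algebra; for e = 2 this is the module of
differentials). Then the natural map T^{e−1}(S_Y/R) → T^{e−1}(S_X/R) takes values in I ·
T^{e−1}(S_X/R) — that is, the induced map f^*T^{e−1}_Y → T^{e−1}_X vanishes at the section σ — if
and only if every element of S_Y whose image in S_X lies in I has image in I^e, which says that the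
fibre of f through σ contains the e-th order thickening of σ. (The published statement is for a
morphism of separated schemes over a base and sections over an arbitrary base change; this row is
the affine computation it reduces to.) -/
theorem result (R SY SX : Type u)
    [CommRing R] [CommRing SY] [CommRing SX] [Algebra R SY] [Algebra R SX] [Algebra SY SX]
    [IsScalarTower R SY SX] (σ : SX →ₐ[R] R) (e : ℕ) (he : 1 ≤ e) :
    (∀ y ∈ PP16.augIdeal (e - 1) R SY,
        PP16.map (e - 1) R SY R SX y ∈
          RingHom.ker σ.toRingHom • (PP16.augIdeal (e - 1) R SX).restrictScalars SX) ↔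
      (∀ b : SY, algebraMap SY SX b ∈ RingHom.ker σ.toRingHom →
        algebraMap SY SX b ∈ RingHom.ker σ.toRingHom ^ e) := by
  obtain ⟨n, rfl⟩ := Nat.exists_eq_add_of_le' he
  exact main σ n

end Groth.Agent.S13936
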