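import Groth.Statements.S13937
import Mathlib.RingTheory.Polynomial.Basic

set_option autoImplicit false
universe u
open W4c1limliniiii

namespace Groth.Agent.S13937


open Polynomial

theorem key {k : Type u} [Field k] (d : ℕ) {P Q : k} (hPQ : P ≠ Q) {a b : ℕ} (hab : d < a + b)
    {s : k[X]} (hd : s ∈ Polynomial.degreeLE k d) (ha : (X - C P) ^ a ∣ s) (hb : (X - C Q) ^ b ∣ s) :
    s = 0 := by
  by_contra h0
  have hcop : IsCoprime ((X - C P) ^ a) ((X - C Q) ^ b) := by
    apply IsCoprime.pow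
    exact Polynomial.isCoprime_X_sub_C_of_isUnit_sub (sub_ne_zero.mpr hPQ).isUnit
  have hdvd := hcop.mul_dvd ha hb
  have h1 := Polynomial.natDegree_le_of_dvd hdvd h0
  rw [Polynomial.natDegree_mul (pow_ne_zero _ (X_sub_C_ne_zero P)) (pow_ne_zero _ (X_sub_C_ne_zero Q)),
    Polynomial.natDegree_pow, Polynomial.natDegree_pow, natDegree_X_sub_C, natDegree_X_sub_C] at h1
  have h2 : s.natDegree ≤ d := Polynomial.natDegree_le_iff_degree_le.mpr (Polynomial.mem_degreeLE.mp hd)
  omega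

theorem finrank_lt' {k : Type u} [Field k] (n : ℕ) : Module.finrank k (Polynomial.degreeLT k n) = n := by
  rw [(Polynomial.degreeLTEquiv k n).finrank_eq]
  exact Module.finrank_fin_fun k

instance finite_lt' {k : Type u} [Field k] (n : ℕ) : Module.Finite k (Polynomial.degreeLT k n) :=
  Module.Finite.equiv (Polynomial.degreeLTEquiv k n).symm

theorem exists_pair {k : Type u} [Field k] (d : ℕ) (P0 P1 P2 : k) (e0 e1 e2 : ℕ) (h0 : e0 ≤ d) (h1 : e1 ≤ d)
    (hs : e0 + e1 + e2 = 2 * d + 1) :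
    ∃ F G : k[X], (F ≠ 0 ∨ G ≠ 0) ∧ F.degree ≤ (d : WithBot ℕ) ∧ G.degree ≤ (d : WithBot ℕ) ∧
      (X - C P0) ^ e0 ∣ F ∧ (X - C P1) ^ e1 ∣ G ∧ (X - C P2) ^ e2 ∣ F + G := by
  set f := (X - C P2) ^ e2
  have hf : f.Monic := (monic_X_sub_C P2).pow e2
  let Ψ : (Polynomial.degreeLT k (d + 1 - e0) × Polynomial.degreeLT k (d + 1 - e1)) →ₗ[k] k[X] :=
    ((LinearMap.mulLeft k ((X - C P0) ^ e0)).comp (Polynomial.degreeLT k (d + 1 - e0)).subtype).coprod
      ((LinearMap.mulLeft k ((X - C P1) ^ e1)).comp (Polynomial.degreeLT k (d + 1 - e1)).subtype)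
  let Φ : (Polynomial.degreeLT k (d + 1 - e0) × Polynomial.degreeLT k (d + 1 - e1)) →ₗ[k]
      Polynomial.degreeLT k e2 :=
    LinearMap.codRestrict _ ((Polynomial.modByMonicHom f).comp Ψ) (fun v => by
      rw [Polynomial.mem_degreeLT]
      refine (Polynomial.degree_modByMonic_lt _ hf).trans_le ?_
      simp [f])
  have hne : LinearMap.ker Φ ≠ ⊥ := by
    apply LinearMap.ker_ne_bot_of_finrank_lt
    rw [Module.finrank_prod, finrank_lt', finrank_lt', finrank_lt']
    omega
  obtain ⟨⟨⟨a, ha⟩, ⟨b, hb⟩⟩, hmem, hne⟩ := Submodule.exists_mem_ne_zero_of_ne_bot hne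
  have hdeg : ∀ (Q : k) (e : ℕ), e ≤ d → ∀ c ∈ Polynomial.degreeLT k (d + 1 - e),
      ((X - C Q) ^ e * c).degree ≤ (d : WithBot ℕ) := by
    intro Q e he c hc
    rcases eq_or_ne c 0 with rfl | hc0
    · simp
    rw [Polynomial.mem_degreeLT, degree_eq_natDegree hc0] at hc
    have hc' : c.natDegree < d + 1 - e := by exact_mod_cast hc
    rw [degree_eq_natDegree (mul_ne_zero (pow_ne_zero _ (X_sub_C_ne_zero Q)) hc0),
      natDegree_mul (pow_ne_zero _ (X_sub_C_ne_zero Q)) hc0, natDegree_pow, natDegree_X_sub_C]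
    exact_mod_cast (by omega : e * 1 + c.natDegree ≤ d)
  refine ⟨(X - C P0) ^ e0 * a, (X - C P1) ^ e1 * b, ?_, hdeg _ _ h0 a ha, hdeg _ _ h1 b hb,
    dvd_mul_right _ _, dvd_mul_right _ _, ?_⟩
  · by_contra h
    push Not at h
    apply hne
    have ha0 : a = 0 := (mul_eq_zero.mp h.1).resolve_left (pow_ne_zero _ (X_sub_C_ne_zero P0))
    have hb0 : b = 0 := (mul_eq_zero.mp h.2).resolve_left (pow_ne_zero _ (X_sub_C_ne_zero P1))
    subst ha0 hb0
    rfl
  · rw [← modByMonic_eq_zero_iff_dvd hf]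
    have := congrArg Subtype.val (LinearMap.mem_ker.mp hmem)
    simpa [Φ, Ψ] using this

theorem span_pair_finrank {k : Type u} [Field k] {M : Type*} [AddCommGroup M] [Module k M] {F G : M}
    (hF : F ≠ 0) (h : ∀ c : k, c • F ≠ G) :
    Module.finrank k (Submodule.span k ({F, G} : Set M)) = 2 := by
  have hli : LinearIndependent k ![F, G] := (LinearIndependent.pair_iff' hF).mpr h
  have := finrank_span_eq_card hli
  have hr : Set.range ![F, G] = ({F, G} : Set M) := by
    rw [Matrix.range_cons, Matrix.range_cons, Matrix.range_empty]; simp [Set.pair_comm, Set.insert_comm]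
  rw [hr] at this
  simpa using this


open Polynomial in
/-- Over an algebraically closed field of characteristic p (zero allowed), fix three distinct points
P_1, P_2, P_3 of the affine line and admissible indices (2 ≤ e_i ≤ d, e_i prime to p, ∑ (e_i − 1) =
2d − 2). The two-dimensional spaces V of polynomials of degree at most d that contain, for each i, a
non-zero member vanishing to order at least e_i at P_i (the intersection of the three Schubert
cycles in the Grassmannian of pencils) form a projective space of some dimension m ≥ 0: there is a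
non-zero linear space L of pairs of polynomials such that sending a non-zero pair (F, G) ∈ L to the
span of F and G is a surjection onto that set of spaces under which two non-zero pairs have the same
image exactly when they are proportional. -/
theorem result (k : Type u) [Field k]
    [IsAlgClosed k] (p : ℕ) [CharP k p] (d : ℕ) (P : Fin 3 → k) (hP : Function.Injective P)
    (e : Fin 3 → ℕ) (he : W4c1limliniiii.Admissible p d e) :
    ∃ L : Submodule k (k[X] × k[X]), L ≠ ⊥ ∧
      (∀ v ∈ L, v ≠ 0 →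
        Submodule.span k {v.1, v.2} ≤ Polynomial.degreeLE k d ∧
          Module.finrank k (Submodule.span k {v.1, v.2}) = 2 ∧
          ∀ i, ∃ s ∈ Submodule.span k {v.1, v.2}, s ≠ 0 ∧
            e i ≤ Polynomial.rootMultiplicity (P i) s) ∧
      (∀ V : Submodule k k[X], V ≤ Polynomial.degreeLE k d → Module.finrank k V = 2 →
        (∀ i, ∃ s ∈ V, s ≠ 0 ∧ e i ≤ Polynomial.rootMultiplicity (P i) s) →
          ∃ v ∈ L, v ≠ 0 ∧ Submodule.span k {v.1, v.2} = V) ∧
      (∀ v ∈ L, ∀ w ∈ L, v ≠ 0 → w ≠ 0 →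
        Submodule.span k {v.1, v.2} = Submodule.span k {w.1, w.2} → ∃ c : k, w = c • v) := by
  classical
  obtain ⟨hb, hsum⟩ := he
  simp only [Fin.sum_univ_three] at hsum
  have hs : e 0 + e 1 + e 2 = 2 * d + 1 := by omega
  have K : ∀ i j : Fin 3, i ≠ j → ∀ s ∈ Polynomial.degreeLE k d,
      (X - C (P i)) ^ (e i) ∣ s → (X - C (P j)) ^ (e j) ∣ s → s = 0 := by
    intro i j hij s hs' h1 h2
    refine key d (hP.ne hij) ?_ hs' h1 h2
    have h0 := (hb 0).2.1
    have h1' := (hb 1).2.1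
    have h2' := (hb 2).2.1
    fin_cases i <;> fin_cases j <;> simp at hij ⊢ <;> omega
  let L : Submodule k (k[X] × k[X]) :=
    (Polynomial.degreeLE k d ⊓ (Ideal.span {(X - C (P 0)) ^ (e 0)}).restrictScalars k).prod
      (Polynomial.degreeLE k d ⊓ (Ideal.span {(X - C (P 1)) ^ (e 1)}).restrictScalars k) ⊓
    ((Ideal.span {(X - C (P 2)) ^ (e 2)}).restrictScalars k).comap
      (LinearMap.fst k k[X] k[X] + LinearMap.snd k k[X] k[X])
  have memL : ∀ v : k[X] × k[X], v ∈ L ↔ (v.1 ∈ Polynomial.degreeLE k d ∧ (X - C (P 0)) ^ (e 0) ∣ v.1) ∧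
      (v.2 ∈ Polynomial.degreeLE k d ∧ (X - C (P 1)) ^ (e 1) ∣ v.2) ∧ (X - C (P 2)) ^ (e 2) ∣ v.1 + v.2 := by
    intro v
    simp [L, Submodule.mem_prod, Ideal.mem_span_singleton, and_assoc]
  have facts : ∀ v ∈ L, v ≠ 0 → v.1 ≠ 0 ∧ v.2 ≠ 0 ∧ v.1 + v.2 ≠ 0 ∧ ∀ c : k, c • v.1 ≠ v.2 := by
    intro v hv hv0
    obtain ⟨⟨d1, h1⟩, ⟨d2, h2⟩, h3⟩ := (memL v).mp hv
    have hF : v.1 ≠ 0 := by
      intro h
      rw [h, zero_add] at h3
      exact hv0 (Prod.ext h (K 1 2 (by decide) _ d2 h2 h3))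
    have hG : v.2 ≠ 0 := by
      intro h
      rw [h, add_zero] at h3
      exact hF (K 0 2 (by decide) _ d1 h1 h3)
    have hind : ∀ c : k, c • v.1 ≠ v.2 := by
      intro c hc
      refine hG (K 0 1 (by decide) _ d2 ?_ h2)
      rw [← hc, smul_eq_C_mul]
      exact h1.mul_left _
    refine ⟨hF, hG, fun h => hind (-1) ?_, hind⟩
    rw [neg_one_smul]
    exact neg_eq_of_add_eq_zero_right h
  refine ⟨L, ?_, ?_, ?_, ?_⟩
  · obtain ⟨F, G, hne, hdF, hdG, h1, h2, h3⟩ := exists_pair d (P 0) (P 1) (P 2) (e 0) (e 1) (e 2)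
      (hb 0).2.1 (hb 1).2.1 hs
    intro hbot
    have : ((F, G) : k[X] × k[X]) ∈ L :=
      (memL _).mpr ⟨⟨Polynomial.mem_degreeLE.mpr hdF, h1⟩, ⟨Polynomial.mem_degreeLE.mpr hdG, h2⟩, h3⟩
    rw [hbot, Submodule.mem_bot, Prod.mk_eq_zero] at this
    tauto
  · intro v hv hv0
    obtain ⟨hF, hG, hFG, hind⟩ := facts v hv hv0
    obtain ⟨⟨d1, h1⟩, ⟨d2, h2⟩, h3⟩ := (memL v).mp hv
    refine ⟨?_, span_pair_finrank hF hind, ?_⟩
    · rw [Submodule.span_le, Set.insert_subset_iff, Set.singleton_subset_iff]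
      exact ⟨d1, d2⟩
    · intro i
      fin_cases i
      · exact ⟨v.1, Submodule.subset_span (Set.mem_insert _ _), hF,
          (Polynomial.le_rootMultiplicity_iff hF).mpr h1⟩
      · exact ⟨v.2, Submodule.subset_span (Set.mem_insert_of_mem _ rfl), hG,
          (Polynomial.le_rootMultiplicity_iff hG).mpr h2⟩
      · exact ⟨v.1 + v.2, add_mem (Submodule.subset_span (Set.mem_insert _ _))
          (Submodule.subset_span (Set.mem_insert_of_mem _ rfl)), hFG,
          (Polynomial.le_rootMultiplicity_iff hFG).mpr h3⟩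
  · intro V hV h2V hmem
    have : Module.Finite k V := Module.finite_of_finrank_eq_succ h2V
    choose s hsV hs0 hsm using hmem
    have hdvd : ∀ i, (X - C (P i)) ^ (e i) ∣ s i := fun i =>
      (Polynomial.le_rootMultiplicity_iff (hs0 i)).mp (hsm i)
    have hind : ∀ c : k, c • s 0 ≠ s 1 := by
      intro c hc
      refine hs0 1 (K 0 1 (by decide) _ (hV (hsV 1)) ?_ (hdvd 1))
      rw [← hc, smul_eq_C_mul]
      exact (hdvd 0).mul_left _
    have hspan : Submodule.span k {s 0, s 1} = V := by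
      apply Submodule.eq_of_le_of_finrank_eq
      · rw [Submodule.span_le, Set.insert_subset_iff, Set.singleton_subset_iff]
        exact ⟨hsV 0, hsV 1⟩
      · rw [span_pair_finrank (hs0 0) hind, h2V]
    have h2mem : s 2 ∈ Submodule.span k {s 0, s 1} := hspan.symm ▸ hsV 2
    obtain ⟨α, β, hαβ⟩ := Submodule.mem_span_pair.mp h2mem
    have hα : α ≠ 0 := by
      intro h
      rw [h, zero_smul, zero_add] at hαβ
      refine hs0 2 (K 1 2 (by decide) _ (hV (hsV 2)) ?_ (hdvd 2))
      rw [← hαβ, smul_eq_C_mul]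
      exact (hdvd 1).mul_left _
    have hβ : β ≠ 0 := by
      intro h
      rw [h, zero_smul, add_zero] at hαβ
      refine hs0 2 (K 0 2 (by decide) _ (hV (hsV 2)) ?_ (hdvd 2))
      rw [← hαβ, smul_eq_C_mul]
      exact (hdvd 0).mul_left _
    refine ⟨(α • s 0, β • s 1), ?_, ?_, ?_⟩
    · rw [memL]
      refine ⟨⟨Submodule.smul_mem _ _ (hV (hsV 0)), ?_⟩, ⟨Submodule.smul_mem _ _ (hV (hsV 1)), ?_⟩, ?_⟩
      · show _ ∣ α • s 0
        rw [smul_eq_C_mul]; exact (hdvd 0).mul_left _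
      · show _ ∣ β • s 1
        rw [smul_eq_C_mul]; exact (hdvd 1).mul_left _
      · exact hαβ.symm ▸ hdvd 2
    · intro h
      exact smul_ne_zero hα (hs0 0) (congrArg Prod.fst h)
    · have hind' : ∀ c : k, c • (α • s 0) ≠ β • s 1 := by
        intro c hc
        apply hind (β⁻¹ * (c * α))
        rw [mul_smul, mul_smul, hc, smul_smul, inv_mul_cancel₀ hβ, one_smul]
      apply Submodule.eq_of_le_of_finrank_eq
      · rw [Submodule.span_le, Set.insert_subset_iff, Set.singleton_subset_iff]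
        exact ⟨V.smul_mem α (hsV 0), V.smul_mem β (hsV 1)⟩
      · rw [span_pair_finrank (smul_ne_zero hα (hs0 0)) hind', h2V]
  · intro v hv w hw hv0 hw0 hspan
    obtain ⟨hF, hG, hFG, hind⟩ := facts v hv hv0
    obtain ⟨⟨d1, h1⟩, ⟨d2, h2⟩, h3⟩ := (memL v).mp hv
    obtain ⟨⟨e1', g1⟩, ⟨e2', g2⟩, g3⟩ := (memL w).mp hw
    obtain ⟨a, b, hab⟩ := Submodule.mem_span_pair.mp
      (hspan.symm ▸ Submodule.subset_span (Set.mem_insert w.1 {w.2}) :
        w.1 ∈ Submodule.span k {v.1, v.2})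
    obtain ⟨a', c, hac⟩ := Submodule.mem_span_pair.mp
      (hspan.symm ▸ Submodule.subset_span (Set.mem_insert_of_mem w.1 rfl) :
        w.2 ∈ Submodule.span k {v.1, v.2})
    have hb0 : b = 0 := by
      by_contra h
      refine smul_ne_zero h hG (K 0 1 (by decide) _ (Submodule.smul_mem _ _ d2) ?_ ?_)
      · rw [eq_sub_of_add_eq' hab, smul_eq_C_mul]
        exact dvd_sub g1 (h1.mul_left _)
      · rw [smul_eq_C_mul]; exact h2.mul_left _
    have ha0 : a' = 0 := by
      by_contra h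
      refine smul_ne_zero h hF (K 0 1 (by decide) _ (Submodule.smul_mem _ _ d1) ?_ ?_)
      · rw [smul_eq_C_mul]; exact h1.mul_left _
      · rw [eq_sub_of_add_eq hac, smul_eq_C_mul]
        exact dvd_sub g2 (h2.mul_left _)
    rw [hb0, zero_smul, add_zero] at hab
    rw [ha0, zero_smul, zero_add] at hac
    have hca : c = a := by
      by_contra h
      refine smul_ne_zero (sub_ne_zero.mpr h) hG (K 1 2 (by decide) _ (Submodule.smul_mem _ _ d2) ?_ ?_)
      · rw [smul_eq_C_mul]; exact h2.mul_left _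
      · have : (c - a) • v.2 = (w.1 + w.2) - a • (v.1 + v.2) := by
          rw [← hab, ← hac, sub_smul, smul_add]; abel
        rw [this, smul_eq_C_mul]
        exact dvd_sub g3 (h3.mul_left _)
    refine ⟨a, Prod.ext ?_ ?_⟩
    · exact hab.symm
    · rw [hca] at hac
      exact hac.symm

end Groth.Agent.S13937
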