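import Groth.Statements.S1394
import Groth.Agent.QFSubLib.Basic

set_option autoImplicit false
universe u
open FlatMor

namespace Groth.Agent.S1394

set_option backward.isDefEq.respectTransparency false

theorem finite_of_isFiniteLength {A E : Type u} [CommRing A] [CommRing E] [Algebra A E]
    (hE : ∀ I : Ideal E, I.IsMaximal → Module.Finite A (E ⧸ I)) {M : Type u} [AddCommGroup M] [Module E M]
    (h : IsFiniteLength E M) : ∀ [Module A M] [IsScalarTower A E M], Module.Finite A M := by
  induction h with
  | of_subsingleton => intros; infer_instance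
  | @of_simple_quotient M _ _ K _ _ ih =>
    intros
    haveI : Module.Finite A K := ih
    obtain ⟨I, hI, ⟨e⟩⟩ := isSimpleModule_iff_quot_maximal.1 (inferInstance : IsSimpleModule E (M ⧸ K))
    haveI := hE I hI
    haveI : Module.Finite A (M ⧸ K.restrictScalars A) :=
      Module.Finite.equiv ((Submodule.Quotient.restrictScalarsEquiv A K).trans (e.restrictScalars A)).symm
    haveI : Module.Finite A ↥(K.restrictScalars A) := ih
    exact Module.Finite.of_submodule_quotient (K.restrictScalars A)

/-- A one-dimensional local domain, essentially of finite type with finite residue field, is quasi-finite. -/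
theorem quasiFinite_of_oneDim {A D : Type u} [CommRing A] [CommRing D] [IsLocalRing A] [IsLocalRing D] [IsNoetherianRing D]
    [Algebra A D] [IsLocalHom (algebraMap A D)] [Algebra.EssFiniteType A D]
    (hres : Module.Finite A (D ⧸ IsLocalRing.maximalIdeal D))
    (hdim : ∀ q : Ideal D, q.IsPrime → (IsLocalRing.maximalIdeal A).map (algebraMap A D) ≤ q → q = IsLocalRing.maximalIdeal D) :
    Algebra.QuasiFinite A D := by
  let C := Algebra.EssFiniteType.subalgebra A D
  let P : Ideal C := (IsLocalRing.maximalIdeal D).comap (algebraMap C D)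
  haveI : IsLocalization P.primeCompl D := by
    have : P.primeCompl = Algebra.EssFiniteType.submonoid A D := by
      ext x
      show x ∉ P ↔ IsUnit (algebraMap C D x)
      simp [P, IsLocalRing.mem_maximalIdeal]
    rw [this]
    infer_instance
  let e : Localization.AtPrime P ≃ₐ[A] D := (IsLocalization.algEquiv P.primeCompl (Localization.AtPrime P) D).restrictScalars A
  let E := D ⧸ (IsLocalRing.maximalIdeal A).map (algebraMap A D)
  haveI : IsArtinianRing E := by
    refine isArtinianRing_iff_isNoetherianRing_krullDimLE_zero.2 ⟨inferInstance, Ring.KrullDimLE.mk₀ fun q hq => ?_⟩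
    have hπ : Function.Surjective (Ideal.Quotient.mk ((IsLocalRing.maximalIdeal A).map (algebraMap A D))) := Ideal.Quotient.mk_surjective
    have hm := hdim (q.comap (Ideal.Quotient.mk _)) (Ideal.comap_isPrime _ _)
      (fun x hx => by show _ ∈ q; rw [Ideal.Quotient.eq_zero_iff_mem.2 hx]; exact q.zero_mem)
    haveI : (q.comap (Ideal.Quotient.mk ((IsLocalRing.maximalIdeal A).map (algebraMap A D)))).IsMaximal :=
      hm ▸ IsLocalRing.maximalIdeal.isMaximal D
    rw [← Ideal.map_comap_of_surjective _ hπ q]
    exact (Ideal.map_eq_top_or_isMaximal_of_surjective _ hπ ‹_›).resolve_left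
      (by rw [Ideal.map_comap_of_surjective _ hπ q]; exact hq.ne_top)
  haveI : Module.Finite A E := by
    refine finite_of_isFiniteLength (E := E) (fun I hI => ?_) ((isFiniteLength_iff_isNoetherian_isArtinian).2 ⟨inferInstance, inferInstance⟩)
    have hI' : I.comap (Ideal.Quotient.mk _) = IsLocalRing.maximalIdeal D :=
      IsLocalRing.eq_maximalIdeal (Ideal.comap_isMaximal_of_surjective _ Ideal.Quotient.mk_surjective)
    let g : D →ₐ[A] E ⧸ I := (Ideal.Quotient.mkₐ A I).comp (Ideal.Quotient.mkₐ A _)
    have hg : Function.Surjective g := Ideal.Quotient.mk_surjective.comp Ideal.Quotient.mk_surjective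
    let g' : D ⧸ IsLocalRing.maximalIdeal D →ₐ[A] E ⧸ I := Ideal.Quotient.liftₐ _ g fun x hx => by
      rw [← hI'] at hx
      exact Ideal.Quotient.eq_zero_iff_mem.2 hx
    exact Module.Finite.of_surjective g'.toLinearMap fun y => by
      obtain ⟨x, rfl⟩ := hg y
      exact ⟨Ideal.Quotient.mk _ x, rfl⟩
  have hP : P.under A = IsLocalRing.maximalIdeal A := by
    rw [Ideal.under_def, Ideal.comap_comap, ← IsScalarTower.algebraMap_eq]
    exact ((IsLocalRing.local_hom_TFAE (algebraMap A D)).out 0 4).1 (inferInstance : IsLocalHom (algebraMap A D))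
  have e' : (Localization.AtPrime P ⧸ (P.under A).map (algebraMap A (Localization.AtPrime P))) ≃ₐ[A] E :=
    Ideal.quotientEquivAlg _ _ e (by
      rw [hP]
      show _ = Ideal.map (e : Localization.AtPrime P →+* D) _
      rw [Ideal.map_map]
      congr 1
      exact (RingHom.ext fun a => e.commutes a).symm)
  haveI : Algebra.WeaklyQuasiFiniteAt A P := by
    rw [Algebra.weaklyQuasiFiniteAt_iff, Algebra.QuasiFinite.iff_of_algEquiv e']
    infer_instance
  have hqf : Algebra.QuasiFiniteAt A P := Algebra.QuasiFiniteAt.of_weaklyQuasiFiniteAt P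
  exact (Algebra.QuasiFinite.iff_of_algEquiv e).1 hqf

/-- Let A → B be a local homomorphism of local rings with A Noetherian, B essentially of finite type
over A, and the residue field of B finite over that of A. Let V ⊆ Spec B be an open subset
containing some prime that does not lie over the maximal ideal of A. Then V contains a prime q, not
lying over the maximal ideal of A, such that B/q is quasi-finite over A in the sense that every
fibre ring of A → B/q is finite over the corresponding residue field of A. (The published statement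
is stronger: there B/q is moreover a localization of a quasi-finite A-algebra of finite type, which
implies this.) -/
theorem result {A B : Type u} [CommRing A] [CommRing B] [IsLocalRing A] [IsLocalRing B] [IsNoetherianRing A]
    [Algebra A B] [IsLocalHom (algebraMap A B)] [Algebra.EssFiniteType A B]
    [Module.Finite (IsLocalRing.ResidueField A) (IsLocalRing.ResidueField B)]
    (V : Set (PrimeSpectrum B)) (hV : IsOpen V) (hne : ∃ q ∈ V, q.asIdeal.comap (algebraMap A B) ≠ IsLocalRing.maximalIdeal A) :
    ∃ q ∈ V, q.asIdeal.comap (algebraMap A B) ≠ IsLocalRing.maximalIdeal A ∧ Algebra.QuasiFinite A (B ⧸ q.asIdeal) := by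
  obtain ⟨q₀, hq₀V, hq₀⟩ := hne
  haveI : IsNoetherianRing B := Algebra.EssFiniteType.isNoetherianRing A B
  have hmA : (IsLocalRing.maximalIdeal B).comap (algebraMap A B) = IsLocalRing.maximalIdeal A :=
    ((IsLocalRing.local_hom_TFAE (algebraMap A B)).out 0 4).1 (inferInstance : IsLocalHom (algebraMap A B))
  have hle₀ : q₀.asIdeal.comap (algebraMap A B) ≤ IsLocalRing.maximalIdeal A :=
    IsLocalRing.le_maximalIdeal (Ideal.IsPrime.comap (algebraMap A B)).ne_top
  obtain ⟨a, ha, ha'⟩ := SetLike.not_le_iff_exists.1 fun h => hq₀ (le_antisymm hle₀ h)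
  obtain ⟨_, ⟨s, rfl⟩, hs, hsV⟩ := PrimeSpectrum.isTopologicalBasis_basic_opens.exists_subset_of_mem_open hq₀V hV
  have haB : algebraMap A B a ∈ IsLocalRing.maximalIdeal B := by rw [← Ideal.mem_comap, hmA]; exact ha
  obtain ⟨Q, hQ, -, hQm, htQ, hbet⟩ := QFSubLib.exists_prime q₀.asIdeal (IsLocalRing.maximalIdeal B)
    (IsLocalRing.le_maximalIdeal q₀.isPrime.ne_top) (s * algebraMap A B a)
    (fun h => (q₀.isPrime.mem_or_mem h).elim hs ha') (Ideal.mul_mem_left _ _ haB)
  refine ⟨⟨Q, hQ⟩, hsV (show (⟨Q, hQ⟩ : PrimeSpectrum B) ∈ (PrimeSpectrum.basicOpen s : Set _) from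
    fun h => htQ (Ideal.mul_mem_right _ _ h)), fun h => htQ (Ideal.mul_mem_left _ _ (?_)), ?_⟩
  · exact (h ▸ ha : a ∈ Q.comap (algebraMap A B))
  haveI : IsLocalRing (B ⧸ Q) := IsLocalRing.of_surjective' (Ideal.Quotient.mk Q) Ideal.Quotient.mk_surjective
  haveI hloc : IsLocalHom (algebraMap A (B ⧸ Q)) := ⟨fun x hx => by
    by_contra hxu
    have hxm : algebraMap A B x ∈ IsLocalRing.maximalIdeal B := by rw [← Ideal.mem_comap, hmA]; exact hxu
    have h1 : IsUnit (Ideal.Quotient.mk Q (algebraMap A B x)) := hx
    obtain ⟨y, hy⟩ := h1.exists_right_inv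
    obtain ⟨y, rfl⟩ := Ideal.Quotient.mk_surjective y
    rw [← map_mul, ← map_one (Ideal.Quotient.mk Q), Ideal.Quotient.eq] at hy
    exact (IsLocalRing.maximalIdeal.isMaximal B).ne_top ((Ideal.eq_top_iff_one _).2
      (by simpa using sub_mem (Ideal.mul_mem_right y _ hxm) (hQm hy)))⟩
  haveI : Algebra.EssFiniteType A (B ⧸ Q) := Algebra.EssFiniteType.comp A B (B ⧸ Q)
  have hmax : (IsLocalRing.maximalIdeal (B ⧸ Q)).comap (Ideal.Quotient.mk Q) = IsLocalRing.maximalIdeal B :=
    IsLocalRing.eq_maximalIdeal (Ideal.comap_isMaximal_of_surjective _ Ideal.Quotient.mk_surjective)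
  refine quasiFinite_of_oneDim ?_ fun q hq hmq => ?_
  · haveI : Module.Finite A (IsLocalRing.ResidueField A) :=
      Module.Finite.of_surjective (Algebra.linearMap A _) IsLocalRing.residue_surjective
    haveI : Module.Finite A (IsLocalRing.ResidueField B) := Module.Finite.trans (IsLocalRing.ResidueField A) _
    let g : IsLocalRing.ResidueField B →ₐ[A] (B ⧸ Q) ⧸ IsLocalRing.maximalIdeal (B ⧸ Q) :=
      Ideal.Quotient.liftₐ _ ((Ideal.Quotient.mkₐ A _).comp (Ideal.Quotient.mkₐ A Q)) fun x hx => by
        rw [← hmax] at hx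
        exact Ideal.Quotient.eq_zero_iff_mem.2 hx
    exact Module.Finite.of_surjective g.toLinearMap fun y => by
      obtain ⟨y, rfl⟩ := Ideal.Quotient.mk_surjective y
      obtain ⟨y, rfl⟩ := Ideal.Quotient.mk_surjective y
      exact ⟨IsLocalRing.residue B y, rfl⟩
  · have hQq : Q < q.comap (Ideal.Quotient.mk Q) := by
      refine lt_of_le_of_ne (fun x hx => by show _ ∈ q; rw [Ideal.Quotient.eq_zero_iff_mem.2 hx]; exact q.zero_mem) fun e => htQ ?_
      rw [e]
      exact Ideal.mul_mem_left _ _ (show Ideal.Quotient.mk Q (algebraMap A B a) ∈ q from hmq (Ideal.mem_map_of_mem _ ha))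
    have h := hbet _ (Ideal.comap_isPrime _ q) hQq (IsLocalRing.le_maximalIdeal (Ideal.comap_isPrime _ q).ne_top)
    rw [← hmax] at h
    exact Ideal.comap_injective_of_surjective _ Ideal.Quotient.mk_surjective h

end Groth.Agent.S1394
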