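import Groth.Statements.S13951
import Mathlib
import Groth.Agent.ASp.PropDescend
-- import your own Groth.Agent.* helpers here

set_option autoImplicit false
universe u
open TateLoc

namespace Groth.Agent.S13951
open scoped CategoryTheory.MonObj

open CategoryTheory AlgebraicGeometry CategoryTheory.Limits in
/-- Let S be a reduced scheme and I a finite locally free commutative S-group scheme (finite, flat, of
finite presentation) whose fibres over all points of S are connected. Then the restriction of the
sheaf of points of I from the big fppf site of S to the small etale site of S is the zero sheaf. -/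
theorem result (S : Scheme.{u}) [IsReduced S]
    (I : Over S) [GrpObj I] [IsCommMonObj I] [IsFinite I.hom] [Flat I.hom] [LocallyOfFinitePresentation I.hom]
    (hconn : ∀ s : S, ConnectedSpace ↥(I.hom.fiber s)) :
    IsZero ((BigSite.resEt Scheme.fppfPrecoverage S).obj (CGrpSh.pts Scheme.fppfPrecoverage I)) := by
  have key : ∀ (T : Over S), IsReduced T.left → ∀ g : T ⟶ I, g = 1 := by
    intro T hT g
    let e : S ⟶ I.left := η[I].left
    have he : e ≫ I.hom = 𝟙 S := Over.w η[I]
    haveI : IsClosedImmersion (e ≫ I.hom) := by rw [he]; infer_instance
    haveI : IsClosedImmersion e := IsClosedImmersion.of_comp e I.hom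
    haveI : Surjective e := ⟨fun x => by
      refine ⟨I.hom x, ?_⟩
      haveI := hconn (I.hom x)
      haveI : DiscreteTopology ↥(I.hom.fiber (I.hom x)) := inferInstance
      haveI : Subsingleton ↥(I.hom.fiber (I.hom x)) := PreconnectedSpace.trivial_of_discrete
      have h1 : e (I.hom x) ∈ Set.range (I.hom.fiberι (I.hom x)) := by
        rw [Scheme.Hom.range_fiberι]
        show I.hom (e (I.hom x)) = I.hom x
        rw [← Scheme.Hom.comp_apply, he]; rfl
      have h2 : x ∈ Set.range (I.hom.fiberι (I.hom x)) := by
        rw [Scheme.Hom.range_fiberι]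
        exact rfl
      obtain ⟨a, ha⟩ := h1
      obtain ⟨b, hb⟩ := h2
      exact ha.symm.trans ((congrArg _ (Subsingleton.elim a b)).trans hb)⟩
    haveI : IsIso (Limits.pullback.fst g.left e) := isIso_of_isClosedImmersion_of_surjective _
    have hg : g.left = T.hom ≫ e := by
      have h := Limits.pullback.condition (f := g.left) (g := e)
      have h3 : g.left = inv (Limits.pullback.fst g.left e) ≫ Limits.pullback.snd g.left e ≫ e := by
        rw [← h, IsIso.inv_hom_id_assoc]
      have h4 : inv (Limits.pullback.fst g.left e) ≫ Limits.pullback.snd g.left e = T.hom := by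
        conv_rhs => rw [← Over.w g, h3]
        simp only [Category.assoc, he, Category.comp_id]
      rw [h3, ← Category.assoc, h4]
    refine Over.OverMorphism.ext ?_
    rw [hg]
    rfl
  refine (Limits.IsZero.iff_id_eq_zero _).mpr (Sheaf.hom_ext (NatTrans.ext (funext fun U => ?_)))
  refine AddCommGrpCat.ext fun x => ?_
  haveI : Etale ((EtFppf.a S).obj (Opposite.unop U)).hom := (Opposite.unop U).prop
  have hred : IsReduced ((EtFppf.a S).obj (Opposite.unop U)).left :=
    Groth.Agent.ASp.isReduced_of_smooth ((EtFppf.a S).obj (Opposite.unop U)).hom
  refine ULift.ext _ _ ?_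
  exact congrArg Additive.ofMul (key ((EtFppf.a S).obj (Opposite.unop U)) hred (Additive.toMul x.down))

end Groth.Agent.S13951
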