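import Groth.Statements.S13953
-- import your own Groth.Agent.* helpers here

set_option autoImplicit false
universe u
open TateLoc

namespace Groth.Agent.S13953

/-- Let (R_i) be a family of local commutative rings and R = ∏ R_i. Any open cover of Spec R can be
refined by one coming from a finite partition of the index set: there is a map c from the index set
to a finite set such that, for each value m, the basic open subset of Spec R defined by the
idempotent which is 1 at the indices with c i = m and 0 elsewhere (this open is the spectrum of the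
product of the R_i over that class) is contained in some member of the cover. -/
theorem result {ι : Type u} (R : ι → Type u)
    [∀ i, CommRing (R i)] [∀ i, IsLocalRing (R i)] {J : Type u}
    (U : J → TopologicalSpace.Opens (PrimeSpectrum (∀ i, R i))) (hU : ⨆ j, U j = ⊤) :
    ∃ (n : ℕ) (c : ι → Fin n), ∀ m : Fin n, ∃ j : J,
      PrimeSpectrum.basicOpen (fun i => if c i = m then (1 : R i) else 0) ≤ U j := by
  classical
  let P := ∀ i, R i
  let F := { f : P // ∃ j, PrimeSpectrum.basicOpen f ≤ U j }
  have hcov : (⨆ f : F, PrimeSpectrum.basicOpen f.1) = ⊤ := by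
    refine top_le_iff.mp (hU ▸ iSup_le fun j => ?_)
    intro x hx
    obtain ⟨_, ⟨f, rfl⟩, hxf, hf⟩ :=
      PrimeSpectrum.isTopologicalBasis_basic_opens.exists_subset_of_mem_open hx (U j).2
    exact TopologicalSpace.Opens.mem_iSup.mpr ⟨⟨f, j, hf⟩, hxf⟩
  rw [PrimeSpectrum.iSup_basicOpen_eq_top_iff] at hcov
  have h1 : (1 : P) ∈ Submodule.span P (Set.range fun f : F => f.1) := by
    rw [show Submodule.span P (Set.range fun f : F => f.1) = ⊤ from hcov]
    trivial
  obtain ⟨c, hc⟩ := Finsupp.mem_span_range_iff_exists_finsupp.mp h1
  let e := c.support.equivFin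
  have hex : ∀ i, ∃ f : c.support, IsUnit (f.1.1 i) := by
    intro i
    by_contra hne
    push Not at hne
    have h2 : (∑ f ∈ c.support, c f * f.1) i = (1 : R i) := by
      rw [show (∑ f ∈ c.support, c f * f.1) = 1 from hc]
      rfl
    rw [Finset.sum_apply] at h2
    refine (IsLocalRing.maximalIdeal.isMaximal (R i)).ne_top ((Ideal.eq_top_iff_one _).mpr (h2 ▸ ?_))
    refine sum_mem fun f hf => ?_
    exact Ideal.mul_mem_left _ _ (hne ⟨f, hf⟩)
  choose l hl using hex
  refine ⟨_, fun i => e (l i), fun m => ?_⟩
  obtain ⟨j, hj⟩ := (e.symm m).1.2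
  refine ⟨j, le_trans ?_ hj⟩
  let g : P := fun i => if h : e (l i) = m then ((hl i).unit⁻¹ : (R i)ˣ) else 0
  rw [show (fun i => if e (l i) = m then (1 : R i) else 0) = (e.symm m).1.1 * g from funext fun i => ?_]
  · exact PrimeSpectrum.basicOpen_mul_le_left _ _
  · show _ = (e.symm m).1.1 i * g i
    simp only [g]
    split_ifs with h
    · subst h
      rw [Equiv.symm_apply_apply]
      exact (IsUnit.mul_val_inv (hl i)).symm
    · rw [mul_zero]

end Groth.Agent.S13953
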