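import Groth.Statements.S13954
import Groth.Agent.UnitsAffSpace
import Groth.Agent.CubeLib.Sec
import Groth.Agent.PicProjLib.Affine
import Groth.Agent.PullbackMod.Flat
import Groth.Agent.PullbackMod.Sections
import Groth.Agent.FlatLocus.ImageClosure

set_option autoImplicit false
set_option linter.style.haveILetI false
set_option backward.isDefEq.respectTransparency false
set_option maxHeartbeats 800000
universe u
open TateLoc

namespace Groth.Agent.S13954

open CategoryTheory CategoryTheory.Limits AlgebraicGeometry TopologicalSpace Opposite Groth.Agent.ParaFLib Groth.Agent.AmpleLib Groth.Agent.CubeLib Groth.Agent.PullbackMod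

/-- A section whose inverse image generates at a point generates at its image. -/
private theorem gen_of_gen_pullMap {Y' Y : Scheme.{u}} (k : Y' ⟶ Y) {L : Y.Modules} (hL : PicF.IsInvertible L)
    {U : Y.Opens} {W : Y'.Opens} (le : W ≤ k ⁻¹ᵁ U) (s : Γ(L, U)) {y : Y'} (hy : y ∈ W)
    (h : Function.Bijective fun r : Y'.presheaf.stalk y => r •
      ((Scheme.Modules.pullback k).obj L).presheaf.germ W y hy (pullMap k L le s)) :
    Function.Bijective fun r : Y.presheaf.stalk (k y) => r • L.presheaf.germ U (k y) (le hy) s := by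
  haveI := InvExt.isQCoh_of_isInvertible hL
  obtain ⟨e, he⟩ := exists_stalk_gen hL (k y)
  obtain ⟨a, ha⟩ := he.2 (L.presheaf.germ U (k y) (le hy) s)
  change a • e = _ at ha
  rw [← ha, bijective_smul_iff he]
  rw [← pullStalk_germ' k L y (show k y ∈ U from le hy) hy le, ← ha, pullStalk_smul] at h
  exact isUnit_of_map_unit (k.stalkMap y).hom a ((bijective_smul_iff (bijective_pullStalk k y he) _).1 h)

/-- Germs are semilinear. -/
private theorem germ_smul' {X : Scheme.{u}} (M : X.Modules) {U : X.Opens} {x : X} (hx : x ∈ U)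
    (a : Γ(X, U)) (m : Γ(M, U)) :
    M.presheaf.germ U x hx (a • m) = X.presheaf.germ U x hx a • M.presheaf.germ U x hx m :=
  PresheafOfModules.germ_smul (R := X.presheaf) M.val x U hx a m

/-- A trivialisation gives a generating section. -/
private theorem exists_gen_top {Z : Scheme.{u}} {L : Z.Modules} (e : L ≅ Coh.structureModule Z) :
    ∃ s : Γ(L, (⊤ : Z.Opens)), Gen ⊤ s := by
  refine ⟨e.inv.app ⊤ (1 : Γ(Z, ⊤)), fun O hO => ?_⟩
  have key : ∀ r : Γ(Z, O),
      e.inv.app O r = r • L.presheaf.map (homOfLE hO).op (e.inv.app ⊤ (1 : Γ(Z, ⊤))) := fun r => by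
    have h1 : e.inv.app O r = e.inv.app O (r • (1 : Γ(Z, O))) := congrArg (e.inv.app O) (mul_one r).symm
    refine h1.trans ((Scheme.Modules.Hom.app_smul e.inv r (1 : Γ(Z, O))).trans ?_)
    exact congrArg (fun v : Γ(L, O) => r • v) (DCohLib.app_one_natural e.inv hO).symm
  have hb : Function.Bijective (fun r : Γ(Z, O) => e.inv.app O r) :=
    (ConcreteCategory.bijective_of_isIso (e.inv.app O) :)
  rwa [funext key] at hb

/-- A section generating along a quasi-compact preimage of the generizations of a point generates over a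
neighbourhood of the point. -/
private theorem exists_gen_nhd_of_germ {X Y : Scheme.{u}} (π : Y ⟶ X) [QuasiCompact π] {L : Y.Modules}
    (hL : PicF.IsInvertible L) {W : Y.Opens} (s : Γ(L, W)) {V : X.Opens} {x : X} (hx : x ∈ V)
    (h : ∀ y : Y, π y ⤳ x → ∃ hy : y ∈ W,
      Function.Bijective fun r : Y.presheaf.stalk y => r • L.presheaf.germ W y hy s) :
    ∃ (U : X.Opens) (hle : π ⁻¹ᵁ U ≤ W), x ∈ U ∧ U ≤ V ∧
      Gen (π ⁻¹ᵁ U) (L.presheaf.map (homOfLE hle).op s) := by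
  let G : Y.Opens := sSup {O : Y.Opens | ∃ hO : O ≤ W, Gen O (L.presheaf.map (homOfLE hO).op s)}
  have hG : ∀ (y : Y) (hy : y ∈ W),
      (Function.Bijective fun r : Y.presheaf.stalk y => r • L.presheaf.germ W y hy s) → y ∈ G := by
    intro y hy hb
    obtain ⟨O, e, hyO, he⟩ := exists_gen_nhd hL y
    have h₁ : O ⊓ W ≤ O := inf_le_left
    have h₂ : O ⊓ W ≤ W := inf_le_right
    obtain ⟨a, ha⟩ := ((he.res h₁) _ le_rfl).2 (L.presheaf.map (homOfLE h₂).op s)
    simp only [res_res] at ha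
    have hy' : y ∈ O ⊓ W := ⟨hyO, hy⟩
    have hu : IsUnit (Y.presheaf.germ (O ⊓ W) y hy' a) := by
      refine (bijective_smul_iff (he.bijective_germ y hyO) _).1 ?_
      have e1 : Y.presheaf.germ (O ⊓ W) y hy' a • L.presheaf.germ O y hyO e = L.presheaf.germ W y hy s := by
        have e2 := congrArg (L.presheaf.germ (O ⊓ W) y hy') ha
        rw [germ_smul'] at e2
        rw [TopCat.Presheaf.germ_res_apply, TopCat.Presheaf.germ_res_apply] at e2
        exact e2
      rwa [e1]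
    have hle : Y.basicOpen a ≤ O ⊓ W := Y.basicOpen_le a
    refine Opens.mem_sSup.2 ⟨Y.basicOpen a, ⟨hle.trans h₂, ?_⟩, (Y.mem_basicOpen a y hy').2 hu⟩
    have hg := (he.res (hle.trans h₁)).smul (Y.toRingedSpace.isUnit_res_basicOpen a)
    have e3 := congrArg (L.presheaf.map (homOfLE hle).op) ha
    rw [L.map_smul, res_res, res_res] at e3
    exact e3 ▸ hg
  have hGW : G ≤ W := sSup_le fun O hO => hO.1
  have hxZ : x ∉ closure (π '' (G : Set Y)ᶜ) := fun hmem => by
    obtain ⟨y, hy, hs⟩ := FlatLocus.exists_specializes_of_mem_closure_image π G.2.isClosed_compl hmem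
    obtain ⟨hyW, hb⟩ := h y hs
    exact hy (hG y hyW hb)
  let U : X.Opens := V ⊓ ⟨(closure (π '' (G : Set Y)ᶜ))ᶜ, isClosed_closure.isOpen_compl⟩
  have hUG : π ⁻¹ᵁ U ≤ G := fun y hy => by
    by_contra hn
    exact hy.2 (subset_closure ⟨y, hn, rfl⟩)
  refine ⟨U, hUG.trans hGW, ⟨hx, hxZ⟩, inf_le_left, gen_of_germ fun y hy => ?_⟩
  obtain ⟨O, ⟨hO, hgen⟩, hyO⟩ := Opens.mem_sSup.1 (hUG hy)
  have := hgen.bijective_germ y hyO
  rw [TopCat.Presheaf.germ_res_apply] at this ⊢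
  exact this

variable (n : Type u)

/-- An invertible module on affine space which is trivial over the local scheme of a point is trivial over a
neighbourhood. -/
private theorem exists_gen_over {X : Scheme.{u}} (x : X) {L : (𝔸(n; X)).Modules} (hL : PicF.IsInvertible L)
    (h : ∀ M : (𝔸(n; Spec (X.presheaf.stalk x))).Modules, PicF.IsInvertible M →
      Nonempty (M ≅ Coh.structureModule _)) :
    ∃ (U : X.Opens) (s : Γ(L, (𝔸(n; X) ↘ X) ⁻¹ᵁ U)), x ∈ U ∧ Gen ((𝔸(n; X) ↘ X) ⁻¹ᵁ U) s := by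
  haveI := InvExt.isQCoh_of_isInvertible hL
  let π := 𝔸(n; X) ↘ X
  let S' := Spec (X.presheaf.stalk x)
  let f : S' ⟶ X := X.fromSpecStalk x
  let g := AffineSpace.map n f
  let π' := 𝔸(n; S') ↘ S'
  have hsq : IsPullback g π' π f := AffineSpace.isPullback_map f
  obtain ⟨_, ⟨V : X.Opens, hV, rfl⟩, hx, -⟩ :=
    X.isBasis_affineOpens.exists_subset_of_mem_open (Set.mem_univ x) isOpen_univ
  replace hV : IsAffineOpen V := hV
  have hfV : (⊤ : S'.Opens) ≤ f ⁻¹ᵁ V := fun p _ => by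
    have hp : f p ⤳ x := by
      have : f p ∈ Set.range f := ⟨p, rfl⟩
      rwa [Scheme.range_fromSpecStalk] at this
    exact hp.mem_open V.2 hx
  let W := π ⁻¹ᵁ V
  obtain ⟨hW', hpo⟩ := PullbackMod.isPushout_appLE hsq hV (hV.preimage π) (isAffineOpen_top S') le_rfl hfV
  let W' := g ⁻¹ᵁ W ⊓ π' ⁻¹ᵁ ⊤
  let M' := (Scheme.Modules.pullback g).obj L
  obtain ⟨t₁, ht₁⟩ := exists_gen_top (h M' (isInvertible_pullback g hL)).some
  let t : Γ(M', W') := M'.presheaf.map (homOfLE le_top).op t₁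
  have ht : Gen W' t := ht₁.res le_top
  -- functions on the local scheme are fractions
  let κ : Γ(X, V) →+* Γ(S', ⊤) := ap f hfV
  let τ : Γ(S', ⊤) →+* Γ(𝔸(n; S'), W') := ap π' inf_le_right
  let ψ : Γ(𝔸(n; X), W) →+* Γ(𝔸(n; S'), W') := ap g inf_le_left
  let σ : Γ(X, V) →+* Γ(𝔸(n; X), W) := ap π le_rfl
  have hcomm : ∀ a, ψ (σ a) = τ (κ a) := fun a => by
    simp only [ψ, σ, τ, κ]
    rw [ap_ap, ap_ap, ap_congr hsq.w]
  have hκ : ∀ c : Γ(S', ⊤), ∃ a a' : Γ(X, V), IsUnit (κ a) ∧ κ a * c = κ a' := by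
    intro c
    letI := TopCat.Presheaf.algebra_section_stalk X.presheaf (⟨x, hx⟩ : V)
    haveI := hV.isLocalization_stalk ⟨x, hx⟩
    let e := (Scheme.ΓSpecIso (X.presheaf.stalk x)).inv
    have hκe : ∀ a, κ a = e (X.presheaf.germ V x hx a) := fun a => by
      simp only [κ, ap, f, Scheme.Hom.appLE, Scheme.fromSpecStalk_app hx, CommRingCat.comp_apply, Category.assoc]
      erw [← CommRingCat.comp_apply, ← Functor.map_comp]
    obtain ⟨c₀, rfl⟩ := (ConcreteCategory.bijective_of_isIso e).2 c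
    obtain ⟨⟨a', a⟩, ha⟩ := IsLocalization.surj (hV.primeIdealOf ⟨x, hx⟩).asIdeal.primeCompl c₀
    refine ⟨a.1, a', ?_, ?_⟩
    · rw [hκe]
      exact (IsLocalization.map_units (X.presheaf.stalk x) a).map e.hom
    · rw [hκe, hκe, ← map_mul]
      exact congrArg e ((mul_comm _ _).trans ha)
  -- functions upstairs
  have hψ : ∀ b' : Γ(𝔸(n; S'), W'), ∃ a b, IsUnit (κ a) ∧ τ (κ a) * b' = ψ b := by
    letI : Algebra Γ(X, V) Γ(𝔸(n; X), W) := σ.toAlgebra
    letI : Algebra Γ(X, V) Γ(S', ⊤) := κ.toAlgebra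
    letI : Algebra Γ(𝔸(n; X), W) Γ(𝔸(n; S'), W') := ψ.toAlgebra
    letI : Algebra Γ(S', ⊤) Γ(𝔸(n; S'), W') := τ.toAlgebra
    letI : Algebra Γ(X, V) Γ(𝔸(n; S'), W') := (ψ.comp σ).toAlgebra
    haveI : IsScalarTower Γ(X, V) Γ(𝔸(n; X), W) Γ(𝔸(n; S'), W') := .of_algebraMap_eq fun _ => rfl
    haveI : IsScalarTower Γ(X, V) Γ(S', ⊤) Γ(𝔸(n; S'), W') := .of_algebraMap_eq' (RingHom.ext hcomm)
    intro b'
    induction b' using hpo.out.inductionOn with
    | zero => exact ⟨1, 0, by simp, by simp⟩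
    | tmul m => exact ⟨1, m, by simp, by simp; rfl⟩
    | smul c m hm =>
      obtain ⟨a₀, b₀, hu₀, e₀⟩ := hm
      obtain ⟨a, a', hu, e⟩ := hκ c
      refine ⟨a * a₀, σ a' * b₀, by rw [map_mul]; exact hu.mul hu₀, ?_⟩
      rw [Algebra.smul_def, map_mul, map_mul, map_mul, hcomm, ← e, map_mul, ← e₀]
      show τ (κ a) * τ (κ a₀) * (τ c * m) = _
      ring
    | add p q hp hq =>
      obtain ⟨a, b, hu, e⟩ := hp
      obtain ⟨a₀, b₀, hu₀, e₀⟩ := hq
      refine ⟨a * a₀, σ a₀ * b + σ a * b₀, by rw [map_mul]; exact hu.mul hu₀, ?_⟩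
      simp only [map_mul, map_add, hcomm, ← e, ← e₀]
      ring
  obtain ⟨a, s, hu, hs⟩ : ∃ a, ∃ s : Γ(L, W), IsUnit (κ a) ∧ τ (κ a) • t = pullMap g L inf_le_left s := by
    have hb := isBaseChange_pullMapL g L (hV.preimage π) hW' (inf_le_left : W' ≤ g ⁻¹ᵁ W)
    letI : Algebra Γ(𝔸(n; X), W) Γ(𝔸(n; S'), W') := ψ.toAlgebra
    letI := Module.compHom Γ(M', W') ψ
    haveI : IsScalarTower Γ(𝔸(n; X), W) Γ(𝔸(n; S'), W') Γ(M', W') := .of_algebraMap_smul fun _ _ => rfl
    induction t using hb.inductionOn with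
    | zero => exact ⟨1, 0, by simp, (smul_zero _).trans (map_zero _).symm⟩
    | tmul m => exact ⟨1, m, by simp, by rw [map_one, map_one, one_smul]; rfl⟩
    | smul c m hm =>
      obtain ⟨a₀, s₀, hu₀, e₀⟩ := hm
      obtain ⟨a, b, hu, e⟩ := hψ c
      refine ⟨a * a₀, b • s₀, by rw [map_mul]; exact hu.mul hu₀, ?_⟩
      rw [pullMap_smul, map_mul, map_mul, ← e₀]
      show (τ (κ a) * τ (κ a₀)) • c • m = ψ b • _
      rw [← e, smul_smul, smul_smul]
      congr 1
      ring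
    | add p q hp hq =>
      obtain ⟨a, b, hu, e⟩ := hp
      obtain ⟨a₀, b₀, hu₀, e₀⟩ := hq
      refine ⟨a * a₀, σ a₀ • b + σ a • b₀, by rw [map_mul]; exact hu.mul hu₀, ?_⟩
      simp only [map_add, pullMap_smul, map_mul]
      show _ = ψ (σ a₀) • _ + ψ (σ a) • _
      rw [← e, ← e₀, hcomm, hcomm, smul_smul, smul_smul, smul_add, mul_comm (τ (κ a₀))]
  have hgen : Gen W' (pullMap g L inf_le_left s) := hs ▸ ht.smul (hu.map τ)
  obtain ⟨U, hle, hxU, -, hU⟩ := exists_gen_nhd_of_germ π hL s hx fun y hy => by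
    obtain ⟨p, hp⟩ : π y ∈ Set.range f := by rw [Scheme.range_fromSpecStalk]; exact hy
    obtain ⟨y', rfl, -⟩ := Scheme.exists_preimage_of_isPullback hsq y p hp.symm
    have hyW : g y' ∈ W := show π (g y') ∈ V from hy.mem_open V.2 hx
    exact ⟨hyW, gen_of_gen_pullMap g hL inf_le_left s (show y' ∈ W' from ⟨hyW, trivial⟩)
      (hgen.bijective_germ y' ⟨hyW, trivial⟩)⟩
  exact ⟨U, _, hxU, hU⟩

/-- A unit over an open of the base is the inverse image of its value on the zero section. -/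
private theorem eq_one_of_zeroSec {X : Scheme.{u}} [IsReduced X] (U : X.Opens)
    (w : Γ(𝔸(n; X), (𝔸(n; X) ↘ X) ⁻¹ᵁ U)) (hw : IsUnit w)
    (e : U ≤ UnitsAffSpace.zeroSec n X ⁻¹ᵁ ((𝔸(n; X) ↘ X) ⁻¹ᵁ U))
    (h : ap (UnitsAffSpace.zeroSec n X) e w = 1) : w = 1 := by
  let j := AffineSpace.map n U.ι
  haveI : IsOpenImmersion j := MorphismProperty.of_isPullback (AffineSpace.isPullback_map U.ι).flip inferInstance
  have hj : (⊤ : (𝔸(n; (U : Scheme.{u}))).Opens) ≤ j ⁻¹ᵁ ((𝔸(n; X) ↘ X) ⁻¹ᵁ U) := fun z _ => by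
    show (j ≫ 𝔸(n; X) ↘ X) z ∈ U
    rw [AffineSpace.map_over, Scheme.Hom.comp_apply]
    exact ((𝔸(n; (U : Scheme.{u})) ↘ (U : Scheme.{u})) z).2
  have hrange : (𝔸(n; X) ↘ X) ⁻¹ᵁ U ≤ j.opensRange := fun z hz => by
    obtain ⟨q, hq, -⟩ := Scheme.exists_preimage_of_isPullback (AffineSpace.isPullback_map (n := n) U.ι) z ⟨_, hz⟩ rfl
    exact ⟨q, hq⟩
  have hinj : Function.Injective (ap j hj) := by
    have : IsIso (j.app ((𝔸(n; X) ↘ X) ⁻¹ᵁ U)) := Scheme.Hom.isIso_app j _ hrange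
    have htop : j ⁻¹ᵁ ((𝔸(n; X) ↘ X) ⁻¹ᵁ U) = ⊤ := top_le_iff.1 hj
    intro p q hpq
    apply (ConcreteCategory.bijective_of_isIso (j.app ((𝔸(n; X) ↘ X) ⁻¹ᵁ U))).1
    exact (ConcreteCategory.bijective_of_isIso ((𝔸(n; (U : Scheme.{u}))).presheaf.map (eqToHom htop.symm).op)).1 hpq
  apply hinj
  rw [map_one, ← UnitsAffSpace.eq_pullback_zeroSec n (U : Scheme.{u}) (ap j hj w) (hw.map _)]
  have h2 : (UnitsAffSpace.zeroSec n (U : Scheme.{u})).appTop (ap j hj w) = 1 := by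
    rw [show (UnitsAffSpace.zeroSec n (U : Scheme.{u})).appTop (ap j hj w) =
      ap (UnitsAffSpace.zeroSec n (U : Scheme.{u})) le_rfl (ap j hj w) by simp [ap, Scheme.Hom.appLE]; rfl]
    rw [ap_ap, ap_congr (UnitsAffSpace.zeroSec_map n U.ι), ← ap_ap U.ι (UnitsAffSpace.zeroSec n X)
      (by simp) e, h, map_one]
  rw [h2, map_one]

/-- Invertible modules on affine space trivial over all local schemes are trivial when those on the base are. -/
private theorem main {X : Scheme.{u}} [IsReduced X]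
    (hX : ∀ L : X.Modules, PicF.IsInvertible L → Nonempty (L ≅ Coh.structureModule X))
    (hloc : ∀ (x : X) (L : (𝔸(n; Spec (X.presheaf.stalk x))).Modules), PicF.IsInvertible L →
      Nonempty (L ≅ Coh.structureModule _))
    (L : (𝔸(n; X)).Modules) (hL : PicF.IsInvertible L) : Nonempty (L ≅ Coh.structureModule _) := by
  let π := 𝔸(n; X) ↘ X
  let z := UnitsAffSpace.zeroSec n X
  let M := (Scheme.Modules.pullback z).obj L
  obtain ⟨t₀, ht₀⟩ := exists_gen_top (hX M (isInvertible_pullback z hL)).some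
  have ez : ∀ U : X.Opens, U ≤ z ⁻¹ᵁ (π ⁻¹ᵁ U) := fun U => by
    rw [← Scheme.Hom.comp_preimage, UnitsAffSpace.zeroSec_over]
    exact le_rfl
  -- normalised generators
  have hnorm : ∀ x : X, ∃ (U : X.Opens) (s : Γ(L, π ⁻¹ᵁ U)), x ∈ U ∧ Gen (π ⁻¹ᵁ U) s ∧
      pullMap z L (ez U) s = M.presheaf.map (homOfLE le_top).op t₀ := fun x => by
    obtain ⟨U, s, hxU, hs⟩ := exists_gen_over n x hL (hloc x)
    obtain ⟨c, hc, hc'⟩ := Gen.exists_unit (gen_pullMap z hL hs (ez U)) (ht₀.res le_top)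
    obtain ⟨v, rfl⟩ := hc
    refine ⟨U, ap π le_rfl (↑v⁻¹ : Γ(X, U)) • s, hxU, hs.smul (IsUnit.map _ ⟨_, rfl⟩), ?_⟩
    rw [pullMap_smul, ← hc', smul_smul]
    show (ap z (ez U) (ap π le_rfl (↑v⁻¹ : Γ(X, U))) * (↑v : Γ(X, U))) • _ = _
    rw [ap_ap, ap_congr (UnitsAffSpace.zeroSec_over n X)]
    have hid : ∀ (e : U ≤ 𝟙 X ⁻¹ᵁ U) (a : Γ(X, U)), ap (𝟙 X) e a = a := fun e a => by
      simp only [ap, Scheme.Hom.appLE, Scheme.Hom.id_app, Category.id_comp]
      exact ConcreteCategory.congr_hom (X.presheaf.map_id _) a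
    rw [hid, Units.inv_mul, one_smul]
  choose U s hxU hs hpull using hnorm
  let F : TopCat.Sheaf Ab.{u} (𝔸(n; X)).carrier := ⟨L.presheaf, L.isSheaf⟩
  have hcov : (⊤ : (𝔸(n; X)).Opens) ≤ ⨆ x, π ⁻¹ᵁ U x := fun y _ => Opens.mem_iSup.2 ⟨π y, hxU (π y)⟩
  obtain ⟨S, hS, -⟩ := F.existsUnique_gluing' (fun x => π ⁻¹ᵁ U x) ⊤ (fun x => homOfLE le_top) hcov s (by
    intro x x'
    let O := U x ⊓ U x'
    have h₁ : π ⁻¹ᵁ O ≤ π ⁻¹ᵁ U x := π.preimage_mono inf_le_left
    have h₂ : π ⁻¹ᵁ O ≤ π ⁻¹ᵁ U x' := π.preimage_mono inf_le_right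
    obtain ⟨w, hw, hw'⟩ := Gen.exists_unit ((hs x).res h₁) ((hs x').res h₂)
    have e1 := congrArg (pullMap z L (ez O)) hw'
    rw [pullMap_smul, ← pullMap_res z L (ez (U x)) h₁ inf_le_left (ez O),
      ← pullMap_res z L (ez (U x')) h₂ inf_le_right (ez O), hpull, hpull, res_res, res_res] at e1
    have e2 : ap z (ez O) w = 1 := by
      refine ((ht₀.res le_top) O le_rfl).1 ?_
      simp only [res_res, one_smul]
      exact e1
    rw [eq_one_of_zeroSec n O w hw (ez O) e2, one_smul] at hw'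
    exact hw'.symm)
  refine PicProjLib.triv_of_gen_top (s := S) (gen_of_germ fun y _ => ?_)
  have e : L.presheaf.map (homOfLE (le_top : π ⁻¹ᵁ U (π y) ≤ ⊤)).op S = s (π y) := hS (π y)
  have := (hs (π y)).bijective_germ y (hxU (π y))
  rw [← e, TopCat.Presheaf.germ_res_apply] at this
  exact this


open CategoryTheory AlgebraicGeometry in
/-- Let X be a reduced scheme whose invertible modules are all trivial (Pic X = 0), and n a natural
number. If for every point x of X all invertible modules on affine n-space over Spec of the local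
ring of X at x are trivial, then all invertible modules on affine n-space over X are trivial. -/
theorem result (X : Scheme.{u}) [IsReduced X] (n : ℕ)
    (hX : (∀ L : (X).Modules, PicF.IsInvertible L → Nonempty (L ≅ Coh.structureModule (X))))
    (hloc : ∀ x : X, (∀ L : (AffineSpace (ULift.{u} (Fin n)) (Spec (X.presheaf.stalk x))).Modules, PicF.IsInvertible L → Nonempty (L ≅ Coh.structureModule (AffineSpace (ULift.{u} (Fin n)) (Spec (X.presheaf.stalk x)))))) :
    (∀ L : (AffineSpace (ULift.{u} (Fin n)) X).Modules, PicF.IsInvertible L → Nonempty (L ≅ Coh.structureModule (AffineSpace (ULift.{u} (Fin n)) X))) := by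
  exact main (ULift.{u} (Fin n)) hX hloc

end Groth.Agent.S13954
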