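import Groth.Statements.S13955
import Mathlib
import Groth.Agent.PicPiVal.Basic
-- import your own Groth.Agent.* helpers here

set_option autoImplicit false
universe u
open TateLoc

namespace Groth.Agent.S13955

/-- For a family (R_i) of valuation rings with product A = ∏ R_i and any n, the Picard group of the
polynomial ring in n variables over A is trivial. -/
theorem result {ι : Type u} (R : ι → Type u)
    [∀ i, CommRing (R i)] [∀ i, IsDomain (R i)] [∀ i, ValuationRing (R i)]
    (n : ℕ) : Subsingleton (CommRing.Pic (MvPolynomial (Fin n) (∀ i, R i))) := by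
  haveI : ∀ i, IsGCDMonoid (R i) := fun i => inferInstance
  rw [CommRing.Pic.subsingleton_iff]
  intro L _ _ hL
  classical
  let P := MvPolynomial (Fin n) (∀ i, R i)
  obtain ⟨m, p, hp⟩ := Module.Finite.exists_fin' P L
  obtain ⟨s, hs⟩ := Module.projective_lifting_property p LinearMap.id hp
  let g : Fin m → L := fun b => p (Pi.single b 1)
  let φ : Fin m → L →ₗ[P] P := fun a => (LinearMap.proj a).comp s
  have hsum : ∀ x : L, ∑ b, φ b x • g b = x := by
    intro x
    have h1 : s x = ∑ b, φ b x • (Pi.single b 1 : Fin m → P) := by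
      rw [pi_eq_sum_univ' (s x)]
      rfl
    conv_rhs => rw [← LinearMap.id_apply (R := P) x, ← hs, LinearMap.comp_apply, h1]
    simp only [map_sum, map_smul, g]
  have hswap : ∀ (a : Fin m) (x y : L), φ a x • y = φ a y • x := by
    intro a x y
    have h1 := congrArg (TensorProduct.lift ((LinearMap.lsmul P L).comp (φ a)))
      (Module.Invertible.tmul_comm (R := P) (M := L) (m₁ := x) (m₂ := y))
    simpa using h1
  let E : Fin m → Fin m → P := fun a b => φ a (g b)
  have hE : ∀ a b c d, E a b * E c d = E a d * E c b := by
    intro a b c d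
    have h1 := congrArg (φ c) (hswap a (g b) (g d))
    simpa [E, smul_eq_mul] using h1
  have htr : ∑ a, E a a = 1 := by
    refine FaithfulSMul.eq_of_smul_eq_smul (α := L) fun x => ?_
    rw [one_smul, Finset.sum_smul]
    conv_rhs => rw [← hsum x]
    exact Finset.sum_congr rfl fun a _ => hswap a (g a) x
  obtain ⟨v, w, hvw⟩ := Groth.Agent.PicPiVal.exists_factor_pi R E hE htr
  let θ : L →ₗ[P] P := ∑ a, w a • φ a
  let u0 : L := ∑ a, v a • g a
  have hθ : ∀ x, θ x • u0 = x := by
    intro x
    have h1 : ∀ a, φ a x = v a * θ x := by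
      intro a
      conv_lhs => rw [← hsum x]
      simp only [map_sum, map_smul, smul_eq_mul, θ, LinearMap.sum_apply, LinearMap.smul_apply,
        Finset.mul_sum]
      refine Finset.sum_congr rfl fun b _ => ?_
      rw [show φ a (g b) = v a * w b from hvw a b]
      ring
    conv_rhs => rw [← hsum x]
    simp only [u0, Finset.smul_sum, smul_smul, h1, mul_comm (θ x)]
  have hu : θ u0 = 1 := by
    simp only [u0, map_sum, map_smul, smul_eq_mul, θ, LinearMap.sum_apply, LinearMap.smul_apply]
    have h2 : ∀ a b, φ b (g a) = v b * w a := fun a b => hvw b a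
    simp only [h2]
    have h3 : ∑ a, v a * w a = 1 := by
      rw [← htr]
      exact Finset.sum_congr rfl fun a _ => (hvw a a).symm
    calc ∑ a, v a * ∑ b, w b * (v b * w a) = (∑ a, v a * w a) * ∑ b, v b * w b := by
          rw [Finset.sum_mul]
          refine Finset.sum_congr rfl fun a _ => ?_
          rw [Finset.mul_sum, Finset.mul_sum]
          refine Finset.sum_congr rfl fun b _ => ?_
          ring
      _ = 1 := by rw [h3, one_mul]
  exact Module.Free.of_equiv (LinearEquiv.ofLinear θ (LinearMap.toSpanSingleton P L u0)
    (by ext; simp [hu]) (by ext x; simp [hθ x])).symm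

end Groth.Agent.S13955
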