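import Groth.Statements.S13958
import Mathlib
-- import your own Groth.Agent.* helpers here

set_option autoImplicit false
universe u
open TateLoc

namespace Groth.Agent.S13958

open CategoryTheory in
/-- Let A' be a finitely generated abelian group (written multiplicatively, discrete) and A a subgroup.
If the image of x ∈ A' in the profinite completion of A' lies in the image of the profinite
completion of A under the map induced by the inclusion, then x ∈ A. (The published statement says
that the square formed by the two completion maps and the two inclusions is Cartesian; given the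
injectivity of the induced map on completions, which holds here, that amounts to this membership
criterion.) -/
theorem result (A' : Type u) [CommGroup A'] [Group.FG A']
    (A : Subgroup A') (x : A')
    (hx : ProfiniteGrp.ProfiniteCompletion.etaFn (GrpCat.of A') x ∈
      Set.range ⇑(ProfiniteGrp.profiniteCompletion.map (GrpCat.ofHom A.subtype)).hom) :
    x ∈ A := by
  classical
  by_contra hxA
  obtain ⟨H, hAH, hxH⟩ : ∃ H : FiniteIndexNormalSubgroup A', A ≤ H.toSubgroup ∧ x ∉ H.toSubgroup := by
    let Q := Additive (A' ⧸ A)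
    haveI : AddGroup.FG Q := inferInstance
    obtain ⟨n, ι, hι, p, hp, e, ⟨φ⟩⟩ := AddCommGroup.equiv_free_prod_directSum_zmod Q
    let x' : Q := Additive.ofMul (QuotientGroup.mk' A x)
    have hx' : φ x' ≠ 0 := by
      rw [ne_eq, AddEquiv.map_eq_zero_iff]
      intro h
      exact hxA ((QuotientGroup.eq_one_iff x).1 (Additive.ofMul.injective h))
    obtain ⟨M, hM, hMf, ψ, hψ⟩ : ∃ (M : Type) (_ : AddCommGroup M) (_ : Finite M) (ψ : Q →+ M), ψ x' ≠ 0 := by
      rcases not_and_or.1 (show ¬ ((φ x').1 = 0 ∧ (φ x').2 = 0) from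
        fun h => hx' (Prod.ext h.1 h.2)) with h | h
      · obtain ⟨i, hi⟩ := Finsupp.ne_iff.1 h
        refine ⟨ZMod ((φ x').1 i).natAbs.succ, inferInstance, inferInstance,
          (Int.castAddHom (ZMod ((φ x').1 i).natAbs.succ)).comp ((Finsupp.applyAddHom i).comp
            ((AddMonoidHom.fst _ _).comp φ.toAddMonoidHom)), ?_⟩
        show (Int.cast ((φ x').1 i) : ZMod ((φ x').1 i).natAbs.succ) ≠ 0
        rw [ne_eq, ZMod.intCast_zmod_eq_zero_iff_dvd]
        intro hd
        exact hi (Int.eq_zero_of_dvd_of_natAbs_lt_natAbs hd (by rw [Int.natAbs_natCast]; exact Nat.lt_succ_self _))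
      · obtain ⟨i, hi⟩ := DFunLike.ne_iff.1 h
        haveI : NeZero (p i ^ e i) := ⟨pow_ne_zero _ (hp i).ne_zero⟩
        refine ⟨ZMod (p i ^ e i), inferInstance, inferInstance,
          ((DFinsupp.evalAddMonoidHom i).comp ((AddMonoidHom.snd _ _).comp φ.toAddMonoidHom)), ?_⟩
        show (φ x').2 i ≠ 0
        exact hi
    let f : A' →* Multiplicative M :=
      (AddMonoidHom.toMultiplicative ψ).comp ((MulEquiv.multiplicativeAdditive (A' ⧸ A)).symm.toMonoidHom.comp (QuotientGroup.mk' A))
    haveI : f.ker.FiniteIndex := inferInstance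
    refine ⟨FiniteIndexNormalSubgroup.ofSubgroup f.ker, fun a ha => ?_, fun h => hψ ?_⟩
    · show f a = 1
      show Multiplicative.ofAdd (ψ (Additive.ofMul (QuotientGroup.mk' A a))) = 1
      rw [show QuotientGroup.mk' A a = 1 from (QuotientGroup.eq_one_iff a).2 ha]
      simp
    · exact Multiplicative.ofAdd.injective (show f x = 1 from h)
  obtain ⟨z, hz⟩ := hx
  let F := (ProfiniteGrp.profiniteCompletion.map (GrpCat.ofHom A.subtype)).hom
  have hF : ∀ a : A, F (ProfiniteGrp.ProfiniteCompletion.etaFn (GrpCat.of A) a) =
      ProfiniteGrp.ProfiniteCompletion.etaFn (GrpCat.of A') (a : A') := fun a =>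
    ConcreteCategory.congr_hom (ProfiniteGrp.ProfiniteCompletion.lift_eta
      (GrpCat.ofHom A.subtype ≫ ProfiniteGrp.ProfiniteCompletion.eta (GrpCat.of A'))) a
  let π : (ProfiniteGrp.ProfiniteCompletion.completion (GrpCat.of A')) →
      ((ProfiniteGrp.ProfiniteCompletion.diagram (GrpCat.of A')).obj H) := fun w => w.val H
  have hπ : Continuous π := (continuous_apply H).comp continuous_subtype_val
  have h1 := (ProfiniteGrp.ProfiniteCompletion.denseRange (GrpCat.of A)).equalizer
    (hπ.comp F.continuous_toFun) (continuous_const (y := π 1)) (funext fun a => by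
      show (F (ProfiniteGrp.ProfiniteCompletion.etaFn (GrpCat.of A) a)).val H = _
      rw [hF a]
      exact (QuotientGroup.eq_one_iff (a : A')).2 (hAH a.2))
  have h2 := congrFun h1 z
  have h3 : (QuotientGroup.mk x : A' ⧸ H.toSubgroup) = 1 := (congrArg (fun w => w.val H) hz).symm.trans h2
  exact hxH ((QuotientGroup.eq_one_iff x).1 h3)

end Groth.Agent.S13958
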