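import Groth.Statements.S13963
import Mathlib
-- import your own Groth.Agent.* helpers here

set_option autoImplicit false
universe u
open TateLoc

namespace Groth.Agent.S13963

/-- Let A' → A → A'' be continuous homomorphisms of locally compact, second-countable, Hausdorff abelian
topological groups which form a short exact sequence of abstract groups (the first injective, the
second surjective, image equal to kernel). If A' and A'' are compact, then A is compact. -/
theorem result (A' A A'' : Type u)
    [AddCommGroup A'] [TopologicalSpace A'] [IsTopologicalAddGroup A'] [SecondCountableTopology A'] [T2Space A']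
    [CompactSpace A']
    [AddCommGroup A] [TopologicalSpace A] [IsTopologicalAddGroup A] [LocallyCompactSpace A]
    [SecondCountableTopology A] [T2Space A]
    [AddCommGroup A''] [TopologicalSpace A''] [IsTopologicalAddGroup A''] [SecondCountableTopology A''] [T2Space A'']
    [CompactSpace A'']
    (f : A' →+ A) (g : A →+ A'') (hf : Continuous f) (hg : Continuous g)
    (hinj : Function.Injective f) (hsurj : Function.Surjective g) (hex : g.ker = f.range) :
    CompactSpace A := by
  classical
  haveI : BaireSpace A'' := inferInstance
  have hgo : IsOpenMap g := AddMonoidHom.isOpenMap_of_sigmaCompact g hsurj hg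
  have hloc : ∀ a : A, ∃ K : Set A, IsCompact K ∧ K ∈ nhds a := fun a => exists_compact_mem_nhds a
  choose K hK hKn using hloc
  have hcov : ∀ b : A'', ∃ a : A, g '' K a ∈ nhds b := by
    intro b
    obtain ⟨a, rfl⟩ := hsurj b
    exact ⟨a, hgo.image_mem_nhds (hKn a)⟩
  choose s hs using hcov
  obtain ⟨t, ht⟩ := isCompact_univ.elim_nhds_subcover (fun b => g '' K (s b)) (fun b _ => hs b)
  let C : Set A := ⋃ b ∈ t, K (s b)
  have hC : IsCompact C := t.finite_toSet.isCompact_biUnion (fun b _ => hK (s b))
  have hR : IsCompact (Set.range f) := isCompact_range hf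
  have : (Set.univ : Set A) = (fun p : A × A => p.1 + p.2) '' (C ×ˢ Set.range f) := by
    refine (Set.eq_univ_of_forall fun a => ?_).symm
    have hmem := ht.2 (Set.mem_univ (g a))
    simp only [Set.mem_iUnion] at hmem
    obtain ⟨b, hb, c, hc, hgc⟩ := hmem
    have hk : a - c ∈ g.ker := by
      rw [AddMonoidHom.mem_ker, map_sub, hgc, sub_self]
    rw [hex] at hk
    refine ⟨(c, a - c), ⟨?_, hk⟩, ?_⟩
    · simp only [C, Set.mem_iUnion]
      exact ⟨b, hb, hc⟩
    · simp
  exact ⟨this ▸ (hC.prod hR).image continuous_add⟩

end Groth.Agent.S13963
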