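import Groth.Statements.S13964
import Groth.Agent.GaDualLib.DualH1
import Groth.Agent.AbDualLib.ExactSeq
-- import your own Groth.Agent.* helpers here

set_option autoImplicit false
universe u
open TateLoc

namespace Groth.Agent.S13964

section
open CategoryTheory CategoryTheory.Limits AlgebraicGeometry Opposite CategoryTheory.Abelian
open Groth.Agent.GaDualLib

set_option backward.isDefEq.respectTransparency false
set_option backward.isDefEq.respectTransparency.types false
set_option linter.style.haveILetI false

variable {S S' : Scheme.{u}} (π : S' ⟶ S)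

/-- Units upstairs, as a sheaf downstairs. -/
noncomputable abbrev pushGm : BigSite.Ab Scheme.fppfPrecoverage S :=
  (BigSite.pushBig Scheme.fppfPrecoverage π AddCommGrpCat.{u + 1}).obj (gmSh S')

theorem exists_global_preimage (T₀ : Over S) (hT : IsTerminal T₀)
    (hPic : ∀ L : ((Over.pullback π).obj T₀).left.Modules, PicF.IsInvertible L →
      Nonempty (L ≅ Coh.structureModule ((Over.pullback π).obj T₀).left))
    {M N : BigSite.Ab Scheme.fppfPrecoverage S} {f : pushGm π ⟶ M} {g : M ⟶ N} {w : f ≫ g = 0}
    (hS : (ShortComplex.mk f g w).ShortExact) (one : N.obj.obj (op T₀)) :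
    ∃ m, g.hom.app (op T₀) m = one := by
  haveI : Epi g := hS.epi_g
  haveI : Mono f := hS.mono_f
  obtain ⟨U, c, hc, m', hm'⟩ := exists_lift g one
  have hd₀ : ∀ {W : Over S} (a b : W ⟶ U),
      ∃ x, f.hom.app (op W) x = M.obj.map b.op m' - M.obj.map a.op m' := fun {W} a b => by
    refine exists_preimage hS W _ ?_
    rw [map_sub, app_map, app_map, hm', map_map, map_map, hT.hom_ext (a ≫ c) (b ≫ c), sub_self]
  choose d hd using @hd₀
  have hdmap : ∀ {W W' : Over S} (j : W' ⟶ W) (a b : W ⟶ U),
      (pushGm π).obj.map j.op (d a b) = d (j ≫ a) (j ≫ b) := fun {W W'} j a b => injective_app f W' (by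
    rw [app_map, hd, hd, map_sub, map_map, map_map])
  have hdadd : ∀ {W : Over S} (a b c' : W ⟶ U), d a b + d b c' = d a c' := fun {W} a b c' => injective_app f W (by
    rw [map_add, hd, hd, hd]; abel)
  let P := Over.pullback π
  let adj := Over.mapPullbackAdj π
  have hcP : IsCov (P.map c) :=
    ⟨MorphismProperty.overPullbackMap π c hc.1, MorphismProperty.overPullbackMap π c hc.2.1,
      MorphismProperty.overPullbackMap π c hc.2.2⟩
  let dd : ∀ {Z : Over S'} (a b : Z ⟶ P.obj U), (gmSh S').obj.obj (op Z) := fun {Z} a b =>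
    (gmSh S').obj.map (adj.unit.app Z).op (d ((adj.homEquiv Z U).symm a) ((adj.homEquiv Z U).symm b))
  obtain ⟨k, hk⟩ := exists_gm_coboundary hcP hPic (fun a b _ => dd a b)
    (fun {Z Z'} j a b e e' => by
      have h2 : ((gmSh S').obj.map (P.map ((Over.map π).map j)).op
          (d ((adj.homEquiv Z U).symm a) ((adj.homEquiv Z U).symm b))) =
          d ((adj.homEquiv Z' U).symm (j ≫ a)) ((adj.homEquiv Z' U).symm (j ≫ b)) :=
        (hdmap _ _ _).trans (congrArg₂ (fun x y => d x y) (adj.homEquiv_naturality_left_symm j a).symm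
          (adj.homEquiv_naturality_left_symm j b).symm)
      show (gmSh S').obj.map j.op ((gmSh S').obj.map (adj.unit.app Z).op _) =
        (gmSh S').obj.map (adj.unit.app Z').op _
      rw [← h2]
      refine (map_map (F := gmSh S') j (adj.unit.app Z) _).trans (Eq.trans ?_
        (map_map (F := gmSh S') (adj.unit.app Z') (P.map ((Over.map π).map j)) _).symm)
      exact congrArg (fun φ : Z' ⟶ P.obj ((Over.map π).obj Z) => (gmSh S').obj.map φ.op
        (d ((adj.homEquiv Z U).symm a) ((adj.homEquiv Z U).symm b))) (adj.unit.naturality j))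
    (fun {Z} a b c' e₁ e₂ => by
      show (gmSh S').obj.map _ _ + (gmSh S').obj.map _ _ = (gmSh S').obj.map _ _
      rw [← map_add]
      exact congrArg _ (hdadd _ _ _))
  have hkd : ∀ {W : Over S} (a b : W ⟶ U),
      d a b + (pushGm π).obj.map a.op k = (pushGm π).obj.map b.op k := fun {W} a b => by
    have h1 := hk (P.map a) (P.map b) (by
      rw [← Functor.map_comp, ← Functor.map_comp, hT.hom_ext (a ≫ c) (b ≫ c)])
    have e : ∀ a : W ⟶ U, (adj.homEquiv (P.obj W) U).symm (P.map a) = adj.counit.app W ≫ a := fun a => by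
      rw [adj.homEquiv_counit]
      exact adj.counit.naturality a
    have h3 : dd (P.map a) (P.map b) = d a b := by
      show (gmSh S').obj.map (adj.unit.app (P.obj W)).op _ = _
      rw [e, e, ← hdmap (adj.counit.app W) a b]
      show (gmSh S').obj.map (adj.unit.app (P.obj W)).op ((gmSh S').obj.map (P.map (adj.counit.app W)).op (d a b)) = _
      refine (map_map (F := gmSh S') (adj.unit.app (P.obj W)) (P.map (adj.counit.app W)) _).trans ?_
      refine (congrArg (fun φ : P.obj W ⟶ P.obj W => (gmSh S').obj.map φ.op (show (gmSh S').obj.obj (op (P.obj W)) from d a b))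
        (adj.right_triangle_components W)).trans ?_
      show (gmSh S').obj.map (𝟙 (op (P.obj W))) _ = _
      rw [CategoryTheory.Functor.map_id]
      rfl
    rw [h3] at h1
    exact h1
  obtain ⟨s, hs, -⟩ := existsUnique_descent M hc (m' - f.hom.app (op U) k) fun {Z} a b _ => by
    have e := congrArg (f.hom.app (op Z)) (hkd a b)
    rw [map_add, hd, app_map, app_map] at e
    simp only [map_sub]
    rw [← e]
    abel
  refine ⟨s, eq_of_map_eq N hc ?_⟩
  rw [← app_map, hs, map_sub, hm']
  have : g.hom.app (op U) (f.hom.app (op U) k) = 0 := congr(($w).hom.app (op U) k)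
  rw [this, sub_zero]

theorem subsingleton_H_one
    (hPic : ∀ L : ((Over.pullback π).obj (Over.mk (𝟙 S))).left.Modules, PicF.IsInvertible L →
      Nonempty (L ≅ Coh.structureModule ((Over.pullback π).obj (Over.mk (𝟙 S))).left)) :
    Subsingleton (BigSite.H Scheme.fppfPrecoverage S (pushGm π) 1) := by
  refine subsingleton_of_forall_eq 0 fun ξ => ?_
  obtain ⟨M, f, g, w, hS, rfl⟩ := ExtOneLib.exists_extension ξ
  let T₀ : Over S := Over.mk (𝟙 S)
  let hT : IsTerminal T₀ := Over.mkIdTerminal
  let adj := constantSheafAdj (QuotSh.J Scheme.fppfPrecoverage S) AddCommGrpCat.{u + 1} hT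
  let ut := adj.unit.app (AddCommGrpCat.of (ULift.{u + 1} ℤ))
  obtain ⟨m, hm⟩ := exists_global_preimage π T₀ hT hPic hS (ut (ULift.up 1))
  let φ : AddCommGrpCat.of (ULift.{u + 1} ℤ) ⟶ M.obj.obj (op T₀) :=
    AddCommGrpCat.ofHom ((zmultiplesHom _ m).comp AddEquiv.ulift.toAddMonoidHom)
  let σ := (adj.homEquiv _ M).symm φ
  have hσ : σ ≫ g = 𝟙 _ := by
    refine (adj.homEquiv _ _).injective ?_
    rw [Adjunction.homEquiv_naturality_right, Equiv.apply_symm_apply, Adjunction.homEquiv_unit]
    refine AddCommGrpCat.ext fun z => ?_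
    obtain ⟨z⟩ := z
    have e : (ULift.up z : ULift.{u + 1} ℤ) = z • ULift.up 1 := by
      apply ULift.ext
      simp
    rw [e, map_zsmul, map_zsmul]
    congr 1
    show g.hom.app (op T₀) ((1 : ℤ) • m) = _
    rw [one_smul, hm]
    simp [ut]
  calc hS.extClass = (Ext.mk₀ (σ ≫ g)).comp hS.extClass (zero_add 1) := by rw [hσ, Ext.mk₀_id_comp]
    _ = (Ext.mk₀ σ).comp ((Ext.mk₀ g).comp hS.extClass (zero_add 1)) (zero_add 1) := by
      rw [← Ext.mk₀_comp_mk₀, Ext.comp_assoc_of_second_deg_zero]
    _ = 0 := by
      erw [hS.comp_extClass, Ext.comp_zero]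

end

open CategoryTheory AlgebraicGeometry in
/-- Take fields k and k' with k' finite and separable over k. The Weil restriction of the multiplicative
group from k' to k, as an abelian sheaf on the big fppf site of Spec k, is the direct image of the
multiplicative group along Spec k' → Spec k; its first cohomology H^1(k, R_{k'/k}(𝔾_m)) vanishes.
(The published statement is for the Weil restriction of any split k'-torus, a finite product of
copies of this case.) -/
theorem result (k k' : Type u) [Field k] [Field k'] [Algebra k k']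
    [FiniteDimensional k k'] [Algebra.IsSeparable k k'] :
    Subsingleton (BigSite.H Scheme.fppfPrecoverage (Spec (CommRingCat.of k)) ((BigSite.pushBig Scheme.fppfPrecoverage (Spec.map (CommRingCat.ofHom (algebraMap k k'))) AddCommGrpCat.{u+1}).obj (CGrpSh2.Gm Scheme.fppfPrecoverage (Spec (CommRingCat.of k')))) 1) := by
  refine subsingleton_H_one _ fun L hL => (PicLib.cls_eq_one hL).1 ?_
  let V := CategoryTheory.Limits.pullback (Over.mk (𝟙 (Spec (CommRingCat.of k)))).hom (Spec.map (CommRingCat.ofHom (algebraMap k k')))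
  haveI : IsIso (Over.mk (𝟙 (Spec (CommRingCat.of k)))).hom := inferInstanceAs (IsIso (𝟙 _))
  let e : V ≅ Spec (CommRingCat.of k') := asIso (CategoryTheory.Limits.pullback.snd _ _)
  haveI : Subsingleton ↥V := (Scheme.homeoOfIso e).injective.subsingleton
  haveI : Nonempty ↥V := ⟨(Scheme.homeoOfIso e).symm (IsLocalRing.closedPoint k')⟩
  exact @AbDualLib.eq_one_of_subsingleton V _ _ _

end Groth.Agent.S13964
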