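import Groth.Statements.S13972
import Groth.Agent.KoszulLiftLib.Step
-- import your own Groth.Agent.* helpers here

set_option autoImplicit false
universe u
open LCI

namespace Groth.Agent.S13972

/-- Let A' be an Artinian local ring, I a proper ideal of A', A = A'/I, R' a Noetherian A'-algebra flat
over A' and R = R'/IR'. Let f₁, …, f_r ∈ R be a Koszul-regular sequence (its Koszul complex is
acyclic in nonzero degrees) such that R/(f₁, …, f_r) is flat over A. Then: (1) for every choice of
lifts f'₁, …, f'_r ∈ R' of the f_i, the quotient R'/(f'₁, …, f'_r) is flat over A' and f'₁, …, f'_r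
is a Koszul-regular sequence in R'; (2) if J' ⊆ R' is an ideal with R'/J' flat over A' whose image
in R is the ideal (f₁, …, f_r), then J' is generated by any lifts f'₁, …, f'_r ∈ J' of the f_i. (The
published statement takes R' = R₀ ⊗_Λ A' for a flat Λ-algebra R₀ and a surjection A' → A of Artinian
local Λ-algebras; this row assumes only that R' is Noetherian and flat over A' and that I is a
proper ideal, which is what its proof uses. Regularity of a sequence is taken there in every
localization at a prime containing the ideal it generates, which over a Noetherian ring is the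
Koszul-acyclicity used in the proof and stated here.) -/
theorem result
    {A' : Type u} [CommRing A'] [IsLocalRing A'] [IsArtinianRing A'] (I : Ideal A') (hI : I ≠ ⊤)
    {R' : Type u} [CommRing R'] [Algebra A' R'] [IsNoetherianRing R'] [Module.Flat A' R']
    (r : ℕ) (f : Fin r → R' ⧸ I.map (algebraMap A' R'))
    (hf : LCI.IsKoszulRegularSeq (R' ⧸ I.map (algebraMap A' R')) (List.ofFn f))
    [Module.Flat (A' ⧸ I) ((R' ⧸ I.map (algebraMap A' R')) ⧸ Ideal.span (Set.range f))] :
    (∀ f' : Fin r → R', (∀ i, Ideal.Quotient.mk (I.map (algebraMap A' R')) (f' i) = f i) →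
        Module.Flat A' (R' ⧸ Ideal.span (Set.range f')) ∧ LCI.IsKoszulRegularSeq R' (List.ofFn f')) ∧
    (∀ (J' : Ideal R'), Module.Flat A' (R' ⧸ J') →
        J'.map (Ideal.Quotient.mk (I.map (algebraMap A' R'))) = Ideal.span (Set.range f) →
        ∀ f' : Fin r → R', (∀ i, f' i ∈ J') →
          (∀ i, Ideal.Quotient.mk (I.map (algebraMap A' R')) (f' i) = f i) →
          J' = Ideal.span (Set.range f')) := by
  have hnil : IsNilpotent I := by
    obtain ⟨n, hn⟩ := IsArtinianRing.isNilpotent_jacobson_bot (R := A')
    refine ⟨n, le_bot_iff.1 ((Ideal.pow_right_mono ?_ n).trans hn.le)⟩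
    rw [IsLocalRing.jacobson_eq_maximalIdeal _ bot_ne_top]
    exact IsLocalRing.le_maximalIdeal hI
  have hspan : ∀ (T : Type u) [CommRing T] (g : Fin r → T), Ideal.span (Set.range g) = Ideal.ofList (List.ofFn g) :=
    fun T _ g => by
      show _ = Ideal.span _
      congr 1
      ext x
      simp [List.mem_ofFn']
  have hmap : ∀ f' : Fin r → R', (∀ i, Ideal.Quotient.mk (I.map (algebraMap A' R')) (f' i) = f i) →
      (List.ofFn f').map (Ideal.Quotient.mk (I.map (algebraMap A' R'))) = List.ofFn f := fun f' hf' => by
    rw [List.map_ofFn]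
    exact congrArg List.ofFn (funext hf')
  refine ⟨fun f' hf' => ?_, fun J' _ hJ' f' hf'J hf' => ?_⟩
  · obtain ⟨n, hn⟩ := hnil
    have hn' : I ^ (n + 1) = ⊥ := le_bot_iff.1 ((Ideal.pow_le_pow_right n.le_succ).trans hn.le)
    obtain ⟨h1, h2⟩ := KoszulLiftLib.lift n (A := A') (B := R') (A₀ := A' ⧸ I)
      (C := R' ⧸ I.map (algebraMap A' R')) I hn' Ideal.Quotient.mk_surjective Ideal.mk_ker
      (Ideal.Quotient.mkₐ A' (I.map (algebraMap A' R'))) Ideal.Quotient.mk_surjective Ideal.mk_ker (List.ofFn f')
      (show LCI.IsKoszulRegularSeq _ ((List.ofFn f').map (Ideal.Quotient.mk _)) by rw [hmap f' hf']; exact hf)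
      (Module.Flat.of_linearEquiv ((Submodule.quotEquivOfEq
        (Ideal.ofList ((List.ofFn f').map (Ideal.Quotient.mk (I.map (algebraMap A' R')))))
        (Ideal.span (Set.range f)) ((congrArg Ideal.ofList (hmap f' hf')).trans (hspan _ f).symm)).restrictScalars (A' ⧸ I)))
    rw [hspan]
    exact ⟨h2, h1⟩
  · refine KoszulLiftLib.eq_of_flat I hnil _ J' (Ideal.span_le.2 (Set.range_subset_iff.2 hf'J)) fun x hx => ?_
    have h : Ideal.Quotient.mk (I.map (algebraMap A' R')) x ∈
        (Ideal.span (Set.range f')).map (Ideal.Quotient.mk (I.map (algebraMap A' R'))) := by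
      rw [Ideal.map_span, ← Set.range_comp,
        show (Ideal.Quotient.mk (I.map (algebraMap A' R'))) ∘ f' = f from funext hf', ← hJ']
      exact Ideal.mem_map_of_mem _ hx
    rwa [← Ideal.mem_comap, Ideal.comap_map_of_surjective _ Ideal.Quotient.mk_surjective,
      ← RingHom.ker_eq_comap_bot, Ideal.mk_ker] at h

end Groth.Agent.S13972
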