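import Groth.Statements.S13975
import Groth.Agent.DerTanLib.Auto
-- import your own Groth.Agent.* helpers here

set_option autoImplicit false
set_option backward.isDefEq.respectTransparency false
set_option backward.isDefEq.respectTransparency.types false
universe u
open CategoryTheory CategoryTheory.Limits AlgebraicGeometry
open Deform

namespace Groth.Agent.S13975

open ArtFun ArtFun.Art


/-- Let k be a field and X₀ a locally Noetherian k-scheme, and let X_ε be the trivial first-order
deformation X₀ ×_k Spec k[ε], presented by a cartesian square with projections q : X_ε → X₀ and p :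
X_ε → Spec k[ε], together with the closed immersion i : X₀ → X_ε over ε = 0 which is a section of q.
Then the infinitesimal automorphisms of X₀ — automorphisms of X_ε over Spec k[ε] that restrict to
the identity of X₀ along i — form a group isomorphic to the additive group of derivations
Der_k(O_{X₀}, O_{X₀}) = Hom_{O_{X₀}}(Ω_{X₀/k}, O_{X₀}): there is a bijection taking composition to
addition. -/
theorem result (k : Type u) [Field k]
    (X₀ : Scheme.{u}) [IsLocallyNoetherian X₀] (x : X₀ ⟶ Spec (CommRingCat.of k))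
    (Xε : Scheme.{u}) (q : Xε ⟶ X₀) (p : Xε ⟶ Spec (CommRingCat.of (DualNumber k)))
    (hsq : IsPullback q p x (Spec.map (CommRingCat.ofHom (algebraMap k (DualNumber k)))))
    (i : X₀ ⟶ Xε) (hiq : i ≫ q = 𝟙 X₀)
    (hip : i ≫ p = x ≫ Spec.map (CommRingCat.ofHom (TrivSqZeroExt.fstHom k k k).toRingHom)) :
    ∃ e : {φ : Xε ≅ Xε // φ.hom ≫ p = p ∧ i ≫ φ.hom = i} ≃ (Omega.sheaf x ⟶ Coh.structureModule X₀),
      ∀ φ ψ χ : {φ : Xε ≅ Xε // φ.hom ≫ p = p ∧ i ≫ φ.hom = i},
        φ.1 ≪≫ ψ.1 = χ.1 → e χ = e φ + e ψ := by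
  haveI : QuasiSeparatedSpace X₀ := inferInstance
  haveI : QuasiSeparated x := inferInstance
  have hsq' : IsPullback q p x (specOver (dual k k)) := hsq
  let j : Xε ≅ XA x (dual k k) := hsq'.isoPullback
  have hq : j.hom ≫ pullback.fst x (specOver (dual k k)) = q := hsq'.isoPullback_hom_fst
  have hp : j.hom ≫ XApr x (dual k k) = p := hsq'.isoPullback_hom_snd
  have hi : i ≫ j.hom = XAincl x (dual k k) := by
    apply pullback.hom_ext
    · rw [Category.assoc, hq, XAincl_fst, hiq]
    · rw [Category.assoc, hp, hip, XAincl_snd]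
      rfl
  have hi' : XAincl x (dual k k) ≫ j.inv = i := by rw [← hi, Category.assoc, j.hom_inv_id, Category.comp_id]
  have hp' : j.inv ≫ p = XApr x (dual k k) := by rw [← hp, j.inv_hom_id_assoc]
  obtain ⟨e, he⟩ := Groth.Agent.DerTanLib.exists_aut_equiv x
  let c : {φ : Xε ≅ Xε // φ.hom ≫ p = p ∧ i ≫ φ.hom = i} ≃
      {φ : XA x (dual k k) ≅ XA x (dual k k) //
        φ.hom ≫ XApr x (dual k k) = XApr x (dual k k) ∧ XAincl x (dual k k) ≫ φ.hom = XAincl x (dual k k)} :=
    { toFun := fun φ => ⟨j.symm ≪≫ φ.1 ≪≫ j, by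
        simp only [Iso.trans_hom, Iso.symm_hom, Category.assoc]
        rw [hp, φ.2.1, hp'], by
        simp only [Iso.trans_hom, Iso.symm_hom]
        rw [reassoc_of% hi', reassoc_of% φ.2.2, hi]⟩
      invFun := fun φ => ⟨j ≪≫ φ.1 ≪≫ j.symm, by
        simp only [Iso.trans_hom, Iso.symm_hom, Category.assoc]
        rw [hp', φ.2.1, hp], by
        simp only [Iso.trans_hom, Iso.symm_hom]
        rw [reassoc_of% hi, reassoc_of% φ.2.2, hi']⟩
      left_inv := fun φ => Subtype.ext (Iso.ext (by simp))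
      right_inv := fun φ => Subtype.ext (Iso.ext (by simp)) }
  refine ⟨c.trans e, fun φ ψ χ h => he (c φ) (c ψ) (c χ) ?_⟩
  show (j.symm ≪≫ φ.1 ≪≫ j).hom ≫ (j.symm ≪≫ ψ.1 ≪≫ j).hom = (j.symm ≪≫ χ.1 ≪≫ j).hom
  rw [← h]
  simp

end Groth.Agent.S13975
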