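import Groth.Statements.S13979
import Groth.Agent.DefExtLib.ObsTh
import Groth.Agent.DefExtLib.Sheaf
import Groth.Agent.BCLib.HHMap
-- import your own Groth.Agent.* helpers here

set_option autoImplicit false
set_option backward.isDefEq.respectTransparency false
set_option backward.isDefEq.respectTransparency.types false
universe u
open CategoryTheory CategoryTheory.Limits AlgebraicGeometry
open ArtFun

namespace Groth.Agent.S13979

namespace Aux13979

open scoped TensorProduct
open Groth.Agent Groth.Agent.DefExtLib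

variable {k : Type u} [Field k] {X : Scheme.{u}} [X.Over (Spec (CommRingCat.of k))]
  [Smooth (X ↘ Spec (CommRingCat.of k))] [IsSeparated (X ↘ Spec (CommRingCat.of k))]
  [IsLocallyNoetherian X] [LocallyOfFiniteType (X ↘ Spec (CommRingCat.of k))]
  {W : Type u} [AddCommGroup W] [Module k W]

theorem killed {C' C : Art k k} {p : C' ⟶ C} (hp : Art.IsSemismallExt p) : DefSchLib.KilledKer p :=
  fun a ha j hj => Ideal.mem_bot.mp (hp.2 ▸ Ideal.mul_mem_mul ha hj)

omit [Smooth (X ↘ Spec (CommRingCat.of k))] [IsSeparated (X ↘ Spec (CommRingCat.of k))]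
  [IsLocallyNoetherian X] [LocallyOfFiniteType (X ↘ Spec (CommRingCat.of k))] in
theorem smul_HH {M : X.Modules} (n : ℕ) (c : k) (z : Coh.HH X M n) :
    c • z = Coh.toGlobal (X ↘ Spec (CommRingCat.of k)) c • z := rfl

variable (e : Coh.HH X (DefClassLib.derSh (X ↘ Spec (CommRingCat.of k)) (𝟙 X)) 2 →ₗ[k] W)

/-- The obstruction functional, linearly. -/
noncomputable def obsL {C' C : Art k k} (p : C' ⟶ C) (hp : Art.IsSemismallExt p)
    (ξ : DefSch X (X ↘ Spec (CommRingCat.of k)) C) : (kerP p →ₗ[k] k) →ₗ[k] W :=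
  e.comp
    { toFun := obsAt p ξ (killed hp) hp.1
      map_add' := obsAt_add p ξ (killed hp) hp.1
      map_smul' := fun c l => by
        rw [RingHom.id_apply, obsAt_smul p ξ (killed hp) hp.1 c l]
        exact (smul_HH 2 c _).symm }

/-- The obstruction element. -/
noncomputable def obsT {C' C : Art k k} (p : C' ⟶ C) (hp : Art.IsSemismallExt p)
    (ξ : DefSch X (X ↘ Spec (CommRingCat.of k)) C) : W ⊗[k] kerP p :=
  haveI := DefExtLib.finite_kerP p
  ∑ j, obsL e p hp ξ ((Module.Free.chooseBasis k (kerP p)).coord j) ⊗ₜ Module.Free.chooseBasis k (kerP p) j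

theorem obsT_eq_zero_iff (he : Function.Injective e) {C' C : Art k k} (p : C' ⟶ C) (hp : Art.IsSemismallExt p)
    (ξ : DefSch X (X ↘ Spec (CommRingCat.of k)) C) :
    obsT e p hp ξ = 0 ↔ ∃ η : DefSch X (X ↘ Spec (CommRingCat.of k)) C', Nonempty (DefGlueLib.Mor p η ξ) := by
  classical
  haveI := DefExtLib.finite_kerP p
  let b := Module.Free.chooseBasis k (kerP p)
  constructor
  · intro h
    refine exists_lift_of_obsAt p ξ (killed hp) hp.1 b fun i => he ?_
    rw [map_zero]
    have h1 := congrArg (fun z => TensorProduct.rid k W ((b.coord i).lTensor W z)) h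
    simp only [obsT, map_sum, LinearMap.lTensor_tmul, TensorProduct.rid_tmul, map_zero] at h1
    rw [Finset.sum_eq_single i] at h1
    · simpa [b, obsL] using h1
    · intro j _ hj
      simp [b, Finsupp.single_eq_of_ne (Ne.symm hj)]
    · exact fun h => absurd (Finset.mem_univ i) h
  · rintro ⟨η, ⟨n⟩⟩
    refine Finset.sum_eq_zero fun j _ => ?_
    rw [show obsL e p hp ξ _ = e (obsAt p ξ (killed hp) hp.1 _) from rfl, obsAt_eq_zero p ξ (killed hp) hp.1 n,
      map_zero, TensorProduct.zero_tmul]

theorem obsT_quot {C' C : Art k k} (p : C' ⟶ C) (hp : Art.IsSemismallExt p) (K : Ideal C')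
    (hK : K ≤ IsLocalRing.maximalIdeal C') (hKJ : K ≤ RingHom.ker p.toAlgHom)
    (hq : Art.IsSemismallExt (Art.quotFactor hK p hKJ)) (ξ : DefSch X (X ↘ Spec (CommRingCat.of k)) C) :
    obsT e (Art.quotFactor hK p hKJ) hq ξ =
      LinearMap.lTensor W ((Art.kerToQuot hK p hKJ).restrictScalars k) (obsT e p hp ξ) := by
  classical
  haveI := DefExtLib.finite_kerP p
  haveI := DefExtLib.finite_kerP (Art.quotFactor hK p hKJ)
  let gJ : kerP p →ₗ[k] kerP (Art.quotFactor hK p hKJ) := (Art.kerToQuot hK p hKJ).restrictScalars k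
  let b := Module.Free.chooseBasis k (kerP p)
  let b' := Module.Free.chooseBasis k (kerP (Art.quotFactor hK p hKJ))
  have h1 : ∀ l, obsL e _ hq ξ l = obsL e p hp ξ (l.comp gJ) := fun l =>
    congrArg e (obsAt_map p ξ (killed hp) hp.1 _ (killed hq) hq.1 (Art.quotMk C' K hK)
      (Art.quotMk_quotFactor hK p hKJ) gJ (fun j => rfl) l)
  show ∑ i, obsL e _ hq ξ (b'.coord i) ⊗ₜ[k] b' i = gJ.lTensor W (∑ j, obsL e p hp ξ (b.coord j) ⊗ₜ[k] b j)
  simp only [h1, map_sum, LinearMap.lTensor_tmul]
  have h2 : ∀ j, gJ (b j) = ∑ i, b'.coord i (gJ (b j)) • b' i := fun j => (b'.sum_repr _).symm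
  have h3 : ∀ i, obsL e p hp ξ ((b'.coord i).comp gJ) =
      ∑ j, b'.coord i (gJ (b j)) • obsL e p hp ξ (b.coord j) := fun i => by
    conv_lhs => rw [← b.sum_dual_apply_smul_coord ((b'.coord i).comp gJ)]
    simp
  simp only [h3, TensorProduct.sum_tmul]
  rw [Finset.sum_comm]
  refine Finset.sum_congr rfl fun j _ => ?_
  conv_rhs => rw [h2 j, TensorProduct.tmul_sum]
  exact Finset.sum_congr rfl fun i _ => TensorProduct.smul_tmul _ _ _

end Aux13979

/-- Let k be a field and X₀ a smooth variety over k (smooth, separated and of finite type over Spec k),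
with tangent sheaf T_{X₀} = Hom(Ω_{X₀/k}, O_{X₀}) (the sheaf Hom, assumed to exist as the right
adjoint of tensoring with Ω_{X₀/k}). Then the deformation functor Def_{X₀} (isomorphism classes of
schemes flat over Spec A with closed fibre X₀, A local Artinian with residue field k) has an
obstruction theory with values in H²(X₀, T_{X₀}): to each surjection C' → C whose kernel J is killed
by the maximal ideal and each deformation over C is attached an element of H²(X₀, T_{X₀}) ⊗_k J,
zero exactly when the deformation lifts to C', compatibly with replacing C' by C'/K for ideals K ≤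
J. (The published statement gives the finer functoriality along all morphisms of small extensions
and is for the deformation category; this row records the vector-space obstruction theory for the
functor of isomorphism classes, functorial along quotients C'/K.) -/
theorem result {k : Type u} [Field k]
    (X₀ : Scheme.{u}) [X₀.Over (Spec (CommRingCat.of k))]
    [Smooth (X₀ ↘ Spec (CommRingCat.of k))] [IsSeparated (X₀ ↘ Spec (CommRingCat.of k))]
    [QuasiCompact (X₀ ↘ Spec (CommRingCat.of k))] [LocallyOfFiniteType (X₀ ↘ Spec (CommRingCat.of k))]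
    [DCoh.HasSheafHom (Omega.sheaf (X₀ ↘ Spec (CommRingCat.of k)))] :
    ArtFun.HasObsTheory (ArtFun.defFunctor (Λ := k) X₀ (X₀ ↘ Spec (CommRingCat.of k)))
      (Coh.HH X₀ ((DCoh.sheafHom (Omega.sheaf (X₀ ↘ Spec (CommRingCat.of k)))).obj (Coh.structureModule X₀)) 2) := by
  haveI : IsLocallyNoetherian X₀ := LocallyOfFiniteType.isLocallyNoetherian (X₀ ↘ Spec (CommRingCat.of k))
  obtain ⟨i⟩ := DefExtLib.nonempty_derSh_iso (X₀ ↘ Spec (CommRingCat.of k))
  let e := BCLib.hhEquivL (A := k) i 2
  refine ⟨{ obs := fun {C' C} p hp u => Aux13979.obsT e.toLinearMap p hp u.out, obs_eq_zero_iff := ?_, obs_quot := ?_ }⟩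
  · intro C' C p hp u
    refine (Aux13979.obsT_eq_zero_iff e.toLinearMap e.injective p hp u.out).trans ⟨?_, ?_⟩
    · rintro ⟨η, ⟨n⟩⟩
      exact ⟨η.cl, n.cl_eq.trans (Quotient.out_eq u)⟩
    · rintro ⟨u', hu⟩
      induction u' using Quotient.inductionOn with
      | h η => exact ⟨η, DefGlueLib.Mor.exists_of_cl_eq (hu.trans (Quotient.out_eq u).symm)⟩
  · intro C' C p hp K hK hKJ hq u
    exact Aux13979.obsT_quot e.toLinearMap p hp K hK hKJ hq u.out

end Groth.Agent.S13979
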