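import Groth.Statements.S13981
import Groth.Agent.ArtFunLib.Points
-- import your own Groth.Agent.* helpers here

set_option autoImplicit false
universe u v
open CategoryTheory
open ArtFun

namespace Groth.Agent.S13981

open Groth.Agent.ArtFunLib

/-- Let F be a functor on Artinian local Λ-algebras with residue field k (Λ Noetherian, Λ → k finite and
surjective) satisfying (RS) — the comparison map for A₁ ×_A A₂ is bijective whenever A₂ → A is
surjective — and let ξ be a versal family of F over a complete local Noetherian Λ-algebra R with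
residue field k. Then the lifting property defining versality also holds along surjections of
complete local Noetherian algebras: if g : A' → A is such a surjection, η' is a formal element of F
over A' (a compatible system over the truncations A'/m^(n+1)) and φ : R → A is a map under which the
formal element of ξ becomes the pushforward of η' along g, then φ lifts to ψ : R → A' with g ∘ ψ = φ
and with ξ inducing η' along ψ. (The published statement takes Λ complete local Noetherian with
residue field k; its proof does not use completeness of Λ, and this row assumes only Λ Noetherian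
with Λ → k surjective.) -/
theorem result {Λ : Type u} {k : Type u} [CommRing Λ] [Field k]
    [Algebra Λ k] [IsNoetherianRing Λ] [Module.Finite Λ k] (hΛ : Function.Surjective (algebraMap Λ k))
    {F : ArtFun.Art Λ k ⥤ Type v}
    (hRS : ∀ ⦃B A A₁ A₂ : ArtFun.Art Λ k⦄ (p₁ : B ⟶ A₁) (p₂ : B ⟶ A₂) (f₁ : A₁ ⟶ A) (f₂ : A₂ ⟶ A)
        (h : ArtFun.Art.IsFibreProd p₁ p₂ f₁ f₂), Function.Surjective f₂ → Function.Bijective (ArtFun.cmp F h))
    (R : ArtFun.CRing Λ k) (ξ : ArtFun.Family R.carrier R.res F) (hξ : ArtFun.IsVersal ξ)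
    (A' A : ArtFun.CRing Λ k) (g : A'.carrier →ₐ[Λ] A.carrier) (hg : A.res.comp g = A'.res)
    (hgs : Function.Surjective g) (η' : ArtFun.FormalElt F A')
    (φ : R.carrier →ₐ[Λ] A.carrier) (hφ : A.res.comp φ = R.res)
    (hsq : (ξ.along φ hφ).toFormalElt = η'.push g hg) :
    ∃ (ψ : R.carrier →ₐ[Λ] A'.carrier) (hψ : A'.res.comp ψ = R.res),
      g.comp ψ = φ ∧ (ξ.along ψ hψ).toFormalElt = η' := by
  let gn := fun n => ArtFun.CRing.truncMapOfHom g hg n
  have hgn : ∀ n, gn (n + 1) ≫ A.truncMap n = A'.truncMap n ≫ gn n := ArtFun.CRing.truncMapOfHom_truncMap g hg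
  let φn : ∀ n, ArtFun.HomSet R.carrier R.res (A.trunc n) := fun n => homPre φ hφ (A.truncHom n)
  have hsq' : ∀ n, ξ.app _ (φn n) = F.map (gn n) (η'.elt n) := fun n =>
    congrArg (fun w : ArtFun.FormalElt F A => w.elt n) hsq
  have hstart : ∃ ψ : ArtFun.HomSet R.carrier R.res (A'.trunc 0),
      ArtFun.HomSet.map (gn 0) ψ = φn 0 ∧ ξ.app _ ψ = η'.elt 0 := by
    have := trunc_zero_isIso A'
    have := trunc_zero_isIso A
    have : IsIso (gn 0) := by
      have e : gn 0 ≫ ArtFun.Art.toBase (A.trunc 0) = ArtFun.Art.toBase (A'.trunc 0) := ArtFun.Art.eq_toBase _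
      exact IsIso.of_isIso_fac_right e
    refine ⟨ArtFun.HomSet.map (inv (gn 0)) (φn 0), hom_to_trunc_zero_subsingleton A _ _, ?_⟩
    rw [ξ.natural, hsq', map_map, IsIso.hom_inv_id, map_id_apply]
  have hstep : ∀ n (ψ : ArtFun.HomSet R.carrier R.res (A'.trunc n)),
      ArtFun.HomSet.map (gn n) ψ = φn n → ξ.app _ ψ = η'.elt n →
      ∃ ψ' : ArtFun.HomSet R.carrier R.res (A'.trunc (n + 1)), ArtFun.HomSet.map (A'.truncMap n) ψ' = ψ ∧
        ArtFun.HomSet.map (gn (n + 1)) ψ' = φn (n + 1) ∧ ξ.app _ ψ' = η'.elt (n + 1) := by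
    intro n ψ hψ1 hψ2
    obtain ⟨P, q', q'', hP⟩ := exists_fibreProd (gn n) (A.truncMap n) (truncMap_surjective A n)
    obtain ⟨q, hq1, hq2⟩ := exists_lift hP (A'.truncMap n) (gn (n + 1)) (hgn n).symm
    have hqs : Function.Surjective q := fun p => by
      obtain ⟨a, ha⟩ := truncHom_surjective n (q' p)
      obtain ⟨b, hb⟩ := truncHom_surjective (n + 1) (q'' p)
      have h1 : (A.truncHom n).1 (g a) = (A.truncHom n).1 b := by
        have h2 := hP.w_apply p
        rw [← ha, ← hb] at h2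
        exact h2
      have h3 : b - g a ∈ IsLocalRing.maximalIdeal A.carrier ^ (n + 1) :=
        (truncHom_eq_zero_iff n _).mp (by rw [map_sub, h1, sub_self])
      have hle : IsLocalRing.maximalIdeal A.carrier ≤ (IsLocalRing.maximalIdeal A'.carrier).map g := fun x hx => by
        obtain ⟨y, rfl⟩ := hgs x
        refine Ideal.mem_map_of_mem _ ?_
        rw [ArtFun.CRing.mem_maximalIdeal_iff, ← res_comp_apply hg]
        exact (ArtFun.CRing.mem_maximalIdeal_iff A _).mp hx
      have h4 := Ideal.pow_right_mono hle (n + 1) h3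
      rw [← Ideal.map_pow, Ideal.mem_map_iff_of_surjective _ hgs] at h4
      obtain ⟨c, hc, hcd⟩ := h4
      refine ⟨(A'.truncHom (n + 1)).1 (a + c), hP.inj _ _ ?_ ?_⟩
      · refine (congrArg (fun f : A'.trunc (n + 1) ⟶ A'.trunc n => f ((A'.truncHom (n + 1)).1 (a + c))) hq1).trans ?_
        change (A'.truncHom n).1 (a + c) = q' p
        rw [map_add, (truncHom_eq_zero_iff n c).mpr hc, add_zero, ha]
      · refine (congrArg (fun f : A'.trunc (n + 1) ⟶ A.trunc (n + 1) => f ((A'.truncHom (n + 1)).1 (a + c))) hq2).trans ?_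
        change (A.truncHom (n + 1)).1 (g (a + c)) = q'' p
        rw [map_add g, hcd, add_sub_cancel, hb]
    obtain ⟨χ, hχ1, hχ2⟩ := (cmp_surjective_iff hP).mp (hR_isLeftExact R.res q' q'' _ _ hP).2 ψ (φn (n + 1))
      (hψ1.trans (HomSet.ext' fun r => rfl))
    obtain ⟨ψ', h1, h2⟩ := hξ q hqs χ (η'.elt (n + 1)) (by
      refine (cmp_injective_iff hP).mp (hRS _ _ _ _ hP (truncMap_surjective A n)).1 _ _ ?_ ?_
      · rw [map_map, hq1, η'.compat, ← ξ.natural, ← hψ2]
        exact congrArg (ξ.app _) hχ1.symm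
      · rw [map_map, hq2, ← ξ.natural, ← hsq']
        exact congrArg (ξ.app _) hχ2.symm)
    refine ⟨ψ', ?_, ?_, h2⟩
    · rw [← hq1]
      refine Eq.trans ?_ hχ1
      rw [← h1]
      exact HomSet.ext' fun r => rfl
    · rw [← hq2]
      refine Eq.trans ?_ hχ2
      rw [← h1]
      exact HomSet.ext' fun r => rfl
  choose ψ₀ hψ₀1 hψ₀2 using hstart
  choose next hn1 hn2 hn3 using hstep
  let seq : ∀ n, {ψ : ArtFun.HomSet R.carrier R.res (A'.trunc n) //
      ArtFun.HomSet.map (gn n) ψ = φn n ∧ ξ.app _ ψ = η'.elt n} :=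
    Nat.rec ⟨ψ₀, hψ₀1, hψ₀2⟩ fun n p => ⟨next n p.1 p.2.1 p.2.2, hn2 n _ _ _, hn3 n _ _ _⟩
  obtain ⟨ψ, hψ, hψn⟩ := exists_lift_trunc (fun n => (seq n).1) fun n => hn1 n _ _ _
  refine ⟨ψ, hψ, algHom_ext_trunc fun n r => ?_, ArtFun.FormalElt.ext' fun n => ?_⟩
  · refine Eq.trans ?_ (congrArg (fun χ : ArtFun.HomSet R.carrier R.res (A.trunc n) => χ.1 r) (seq n).2.1)
    change (A.truncHom n).1 (g (ψ r)) = gn n ((seq n).1.1 r)
    rw [← hψn]
    rfl
  · exact (congrArg (ξ.app _) (HomSet.ext' (hψn n) : homPre ψ hψ (A'.truncHom n) = (seq n).1)).trans (seq n).2.2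

end Groth.Agent.S13981
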