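import Groth.Statements.S13985
import Mathlib

set_option autoImplicit false
universe u
open CategoryTheory
open CohGab

namespace Groth.Agent.S13985

/-- For a ring A, the canonical map from the centre of A to the centre of the category of finitely
generated left A-modules (the endomorphism ring of its identity functor), sending a to
multiplication by a, is bijective: every natural endomorphism of the identity functor acts on each
finitely generated module as multiplication by a unique element of A, and that element is central.
(The published statement calls this map an isomorphism of commutative rings; this row states its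
bijectivity.) -/
theorem result (A : Type u) [Ring A]
    (φ : 𝟭 (FGModuleCat.{u} A) ⟶ 𝟭 (FGModuleCat.{u} A)) :
    ∃! a : A, a ∈ Subring.center A ∧
      ∀ (M : FGModuleCat.{u} A) (x : M), (φ.app M).hom.hom x = a • x := by
  let F : FGModuleCat.{u} A := FGModuleCat.of A A
  let ψ : A →ₗ[A] A := (φ.app F).hom.hom
  have key : ∀ (M : FGModuleCat.{u} A) (x : M), (φ.app M).hom.hom x = ψ 1 • x := by
    intro M x
    let g : F ⟶ M := FGModuleCat.ofHom (LinearMap.toSpanSingleton A M x)
    have h := φ.naturality g
    have h1 := congrArg (fun f : F ⟶ M => f.hom.hom (1 : A)) h
    have h2 : (φ.app M).hom.hom ((1 : A) • x) = ψ 1 • x := h1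
    rwa [one_smul] at h2
  refine ⟨ψ 1, ⟨?_, key⟩, ?_⟩
  · rw [Subring.mem_center_iff]
    intro b
    have h3 : ψ b = ψ 1 * b := key F b
    rw [← h3, ← smul_eq_mul, ← map_smul, smul_eq_mul, mul_one]
  · rintro a ⟨_, ha⟩
    have h : ψ 1 = a * 1 := ha F (1 : A)
    rw [h, mul_one]

end Groth.Agent.S13985
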