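import Groth.Statements.S13987
import Groth.Agent.S0816
import Groth.Agent.S2252
import Groth.Agent.IdealMulLib.Basic
import Groth.Agent.DevLib.Piece
import Groth.Agent.QCohLib.Push
import Groth.Agent.CohSerreLib.Basic
-- import your own Groth.Agent.* helpers here

set_option autoImplicit false
set_option backward.isDefEq.respectTransparency false
set_option linter.style.haveILetI false
set_option linter.unusedSectionVars false
universe u v v' u'
open CohGab

namespace Groth.Agent.S13987

open CategoryTheory CategoryTheory.Limits AlgebraicGeometry TopologicalSpace Groth.Agent.PullbackMod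

section General

variable {C : Type u} [Category.{v} C] {D : Type u'} [Category.{v'} D] (G : C ⥤ D)

/-- A functor through which morphisms lift after refinement of the source is a localization. -/
theorem isLocalization_of_lifts (hobj : G.EssSurj)
    (hlift : ∀ (X Y : C) (φ : G.obj X ⟶ G.obj Y), ∃ (X' : C) (s : X' ⟶ X) (f : X' ⟶ Y),
      IsIso (G.map s) ∧ G.map f = G.map s ≫ φ)
    (heq : ∀ (X Y : C) (f g : X ⟶ Y), G.map f = G.map g →
      ∃ (X' : C) (s : X' ⟶ X), IsIso (G.map s) ∧ s ≫ f = s ≫ g) :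
    G.IsLocalization ((MorphismProperty.isomorphisms D).inverseImage G) := by
  let W := (MorphismProperty.isomorphisms D).inverseImage G
  have hW : ∀ {X Y : C} (s : X ⟶ Y), W s ↔ IsIso (G.map s) := fun s => Iff.rfl
  haveI : W.HasRightCalculusOfFractions :=
    { exists_rightFraction := fun X Y φ => by
        haveI : IsIso (G.map φ.s) := φ.hs
        obtain ⟨X', s, f, hs, hf⟩ := hlift _ _ (G.map φ.f ≫ inv (G.map φ.s))
        obtain ⟨X'', t, ht, hteq⟩ := heq _ _ (s ≫ φ.f) (f ≫ φ.s) (by
          rw [G.map_comp, G.map_comp, hf, Category.assoc, Category.assoc, IsIso.inv_hom_id, Category.comp_id])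
        exact ⟨⟨t ≫ s, (hW _).2 (by rw [G.map_comp]; infer_instance), t ≫ f⟩, by
          simpa only [Category.assoc] using hteq⟩
      ext := fun X Y Y' f₁ f₂ s hs h => by
        haveI : IsIso (G.map s) := hs
        obtain ⟨X', t, ht, hteq⟩ := heq _ _ f₁ f₂ (by
          rw [← cancel_mono (G.map s), ← G.map_comp, ← G.map_comp, h])
        exact ⟨X', t, ht, hteq⟩ }
  have hinv : W.IsInvertedBy G := fun _ _ s hs => hs
  let Φ := Localization.lift G hinv W.Q
  let e : W.Q ⋙ Φ ≅ G := Localization.fac G hinv W.Q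
  haveI : Φ.EssSurj :=
    ⟨fun d => ⟨W.Q.obj (G.objPreimage d), ⟨e.app _ ≪≫ G.objObjPreimageIso d⟩⟩⟩
  haveI : W.Q.EssSurj := Localization.essSurj W.Q W
  haveI : Φ.Faithful := ⟨fun {A B} a b hab => by
    obtain ⟨X, ⟨α⟩⟩ := Functor.EssSurj.mem_essImage (F := W.Q) A
    obtain ⟨Y, ⟨β⟩⟩ := Functor.EssSurj.mem_essImage (F := W.Q) B
    rw [← cancel_epi α.hom, ← cancel_mono β.inv]
    obtain ⟨φ, hφ⟩ := Localization.exists_rightFraction W.Q W ((α.hom ≫ a) ≫ β.inv)
    obtain ⟨ψ, hψ⟩ := Localization.exists_rightFraction W.Q W ((α.hom ≫ b) ≫ β.inv)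
    have h : Φ.map ((α.hom ≫ a) ≫ β.inv) = Φ.map ((α.hom ≫ b) ≫ β.inv) := by
      simp only [Functor.map_comp, hab]
    obtain ⟨ρ, hρ⟩ := (MorphismProperty.LeftFraction.mk φ.s ψ.s ψ.hs).exists_rightFraction
    haveI := Localization.inverts W.Q W ρ.s ρ.hs
    haveI := Localization.inverts W.Q W φ.s φ.hs
    rw [hφ, hψ] at h
    rw [hφ, hψ, ← cancel_epi (W.Q.map ρ.s ≫ W.Q.map φ.s)]
    have h1 : (W.Q.map ρ.s ≫ W.Q.map φ.s) ≫ φ.map W.Q (Localization.inverts W.Q W) = W.Q.map (ρ.s ≫ φ.f) := by
      rw [Category.assoc, MorphismProperty.RightFraction.map_s_comp_map, ← Functor.map_comp]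
    have h2 : (W.Q.map ρ.s ≫ W.Q.map φ.s) ≫ ψ.map W.Q (Localization.inverts W.Q W) = W.Q.map (ρ.f ≫ ψ.f) := by
      rw [← Functor.map_comp, hρ, Functor.map_comp, Category.assoc, MorphismProperty.RightFraction.map_s_comp_map,
        ← Functor.map_comp]
    rw [h1, h2]
    have h3 : Φ.map (W.Q.map (ρ.s ≫ φ.f)) = Φ.map (W.Q.map (ρ.f ≫ ψ.f)) := by
      rw [← h1, ← h2, Functor.map_comp, Functor.map_comp _ _ (ψ.map _ _), h]
    have h4 : G.map (ρ.s ≫ φ.f) = G.map (ρ.f ≫ ψ.f) := by
      rw [← cancel_epi (e.hom.app _), ← e.hom.naturality, ← e.hom.naturality]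
      exact congrArg (· ≫ e.hom.app Y) h3
    obtain ⟨X', t, ht, hteq⟩ := heq _ _ _ _ h4
    haveI := Localization.inverts W.Q W t ht
    rw [← cancel_epi (W.Q.map t), ← Functor.map_comp, ← Functor.map_comp, hteq]⟩
  haveI : Φ.Full := ⟨fun {A B} γ => by
    obtain ⟨X, ⟨α⟩⟩ := Functor.EssSurj.mem_essImage (F := W.Q) A
    obtain ⟨Y, ⟨β⟩⟩ := Functor.EssSurj.mem_essImage (F := W.Q) B
    obtain ⟨X', s, f, hs, hf⟩ := hlift X Y (e.inv.app X ≫ Φ.map α.hom ≫ γ ≫ Φ.map β.inv ≫ e.hom.app Y)
    haveI := Localization.inverts W.Q W s hs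
    refine ⟨α.inv ≫ inv (W.Q.map s) ≫ W.Q.map f ≫ β.hom, ?_⟩
    have h1 : Φ.map (W.Q.map f) = Φ.map (W.Q.map s) ≫ Φ.map α.hom ≫ γ ≫ Φ.map β.inv := by
      rw [← cancel_mono (e.hom.app Y), show Φ.map (W.Q.map f) ≫ e.hom.app Y = e.hom.app X' ≫ G.map f from
        e.hom.naturality f, hf, ← Category.assoc (e.hom.app X'), ← show Φ.map (W.Q.map s) ≫ e.hom.app X =
        e.hom.app X' ≫ G.map s from e.hom.naturality s]
      simp
    rw [Functor.map_comp, Functor.map_comp, Functor.map_comp, reassoc_of% h1, Functor.map_inv,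
      IsIso.inv_hom_id_assoc, ← Functor.map_comp_assoc, α.inv_hom_id, CategoryTheory.Functor.map_id,
      Category.id_comp, ← Functor.map_comp, β.inv_hom_id, CategoryTheory.Functor.map_id, Category.comp_id]⟩
  haveI : Φ.IsEquivalence := {}
  exact Functor.IsLocalization.of_equivalence_target W.Q W G Φ.asEquivalence e

end General

section Modules

variable {X : Scheme.{u}}

theorem subsingleton_kernel_iff {M N : X.Modules} (φ : M ⟶ N) (x : X) :
    Subsingleton ((kernel φ).presheaf.stalk x) ↔ Function.Injective (stalkLin φ x) := by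
  have hr := IdealMulLib.range_stalk_kernel φ x
  have hm : Function.Injective (stalkLin (kernel.ι φ) x) := (mono_iff_stalk _).1 inferInstance x
  constructor
  · intro h
    rw [← LinearMap.ker_eq_bot, ← hr, LinearMap.range_eq_bot]
    exact Subsingleton.elim _ _
  · intro h
    refine ⟨fun a b => hm ?_⟩
    have hk : ∀ c, stalkLin (kernel.ι φ) x c = 0 := fun c =>
      (LinearMap.ker_eq_bot'.1 (LinearMap.ker_eq_bot.2 h)) _ (LinearMap.mem_ker.1 (hr ▸ LinearMap.mem_range_self _ c))
    rw [hk, hk]

theorem subsingleton_cokernel_iff {M N : X.Modules} (φ : M ⟶ N) (x : X) :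
    Subsingleton ((cokernel φ).presheaf.stalk x) ↔ Function.Surjective (stalkLin φ x) := by
  have hπ : Function.Surjective (stalkLin (cokernel.π φ) x) := (epi_iff_stalk _).1 inferInstance x
  constructor
  · intro h z
    have hr := IdealMulLib.range_stalk_kernel (cokernel.π φ) x
    obtain ⟨w, hw⟩ : z ∈ LinearMap.range (stalkLin (kernel.ι (cokernel.π φ)) x) := by
      rw [hr]
      exact Subsingleton.elim _ _
    obtain ⟨v, hv⟩ := (epi_iff_stalk (Abelian.factorThruImage φ)).1 inferInstance x w
    refine ⟨v, ?_⟩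
    conv_lhs => rw [← Abelian.image.fac φ, stalkLin_comp]
    rw [LinearMap.comp_apply, hv]
    exact hw
  · intro h
    refine subsingleton_of_forall_eq 0 fun z => ?_
    obtain ⟨w, rfl⟩ := hπ z
    obtain ⟨v, rfl⟩ := h w
    have h0 := (eq_zero_iff_stalk (φ ≫ cokernel.π φ)).1 (cokernel.condition φ) x
    rw [stalkLin_comp] at h0
    exact LinearMap.congr_fun h0 v

theorem stalk_restrict_bijective_iff (V : X.Opens) {A B : X.Modules} (ψ : A ⟶ B) (y : (V : Scheme.{u})) :
    Function.Bijective (stalkLin ((Scheme.Modules.restrictFunctor V.ι).map ψ) y) ↔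
      Function.Bijective (stalkLin ψ (V.ι y)) := by
  let eA := ((Scheme.Modules.restrictStalkNatIso V.ι y).app A).addCommGroupIsoToAddEquiv
  let eB := ((Scheme.Modules.restrictStalkNatIso V.ι y).app B).addCommGroupIsoToAddEquiv
  have hn : eB ∘ stalkLin ((Scheme.Modules.restrictFunctor V.ι).map ψ) y = stalkLin ψ (V.ι y) ∘ eA :=
    funext fun w => congr($((Scheme.Modules.restrictStalkNatIso V.ι y).hom.naturality ψ) w)
  exact (EquivLike.comp_bijective _ eB).symm.trans ((iff_of_eq (congrArg Function.Bijective hn)).trans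
    (EquivLike.bijective_comp eA _))

theorem isIso_restrict_iff (U : X.Opens) {A B : X.Modules} (f : A ⟶ B) :
    IsIso ((Scheme.Modules.restrictFunctor U.ι).map f) ↔
      CohB1.support (kernel f) ⊆ (↑U : Set X)ᶜ ∧ CohB1.support (cokernel f) ⊆ (↑U : Set X)ᶜ := by
  rw [isIso_iff_stalk]
  constructor
  · intro h
    exact ⟨fun x hx hxU => hx ((subsingleton_kernel_iff f x).2
        ((stalk_restrict_bijective_iff U f ⟨x, hxU⟩).1 (h ⟨x, hxU⟩)).1),
      fun x hx hxU => hx ((subsingleton_cokernel_iff f x).2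
        ((stalk_restrict_bijective_iff U f ⟨x, hxU⟩).1 (h ⟨x, hxU⟩)).2)⟩
  · rintro ⟨h1, h2⟩ y
    exact (stalk_restrict_bijective_iff U f y).2 ⟨(subsingleton_kernel_iff f _).1 (not_not.1 fun h => h1 h y.2),
      (subsingleton_cokernel_iff f _).1 (not_not.1 fun h => h2 h y.2)⟩

end Modules

/-- Let X be a Noetherian scheme, Z ⊆ X a closed subset and U = X ∖ Z. Then restriction to U induces an
equivalence between the quotient abelian category Coh(X)/Coh_Z(X) (coherent modules modulo those
supported in Z) and Coh(U): the restriction functor Coh(X) ⥤ Coh(U) is a localization functor for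
the class of morphisms of coherent O_X-modules whose kernel and cokernel (taken in O_X-modules) have
support contained in Z. The hypothesis that restriction to U preserves coherence always holds and is
carried only to form the functor between the full subcategories. (The published statement is about
coherent sheaves twisted by a class in the second etale cohomology group of the units of the
structure sheaf; this row is its case of the trivial class, ordinary coherent sheaves.) -/
theorem result (X : Scheme.{u}) [IsNoetherian X]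
    (U : X.Opens)
    (hres : ∀ M : X.Modules, Coh.IsCoh M → Coh.IsCoh ((Scheme.Modules.restrictFunctor U.ι).obj M)) :
    (ObjectProperty.lift (fun N : (↑U : Scheme.{u}).Modules => Coh.IsCoh N)
        (ObjectProperty.ι (fun M : X.Modules => Coh.IsCoh M) ⋙ Scheme.Modules.restrictFunctor U.ι)
        (fun M => hres M.obj M.property)).IsLocalization
      (fun (A B : ObjectProperty.FullSubcategory (fun M : X.Modules => Coh.IsCoh M)) (f : A ⟶ B) =>
        CohB1.support (kernel f.hom) ⊆ (↑U : Set X)ᶜ ∧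
          CohB1.support (cokernel f.hom) ⊆ (↑U : Set X)ᶜ) := by
  let P : ObjectProperty X.Modules := fun M => Coh.IsCoh M
  let Q : ObjectProperty (↑U : Scheme.{u}).Modules := fun N => Coh.IsCoh N
  let G : P.FullSubcategory ⥤ Q.FullSubcategory :=
    Q.lift (P.ι ⋙ Scheme.Modules.restrictFunctor U.ι) (fun M => hres M.obj M.property)
  have hiso : ∀ {A B : P.FullSubcategory} (f : A ⟶ B),
      IsIso (G.map f) ↔ IsIso ((Scheme.Modules.restrictFunctor U.ι).map f.hom) := fun f => by
    refine ⟨fun _ => inferInstanceAs (IsIso (Q.ι.map (G.map f))), fun _ => ?_⟩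
    haveI : IsIso (Q.ι.map (G.map f)) := ‹_›
    exact isIso_of_reflects_iso _ Q.ι
  have key := isLocalization_of_lifts G ?_ ?_ ?_
  · convert key using 1
    funext A B f
    exact propext ((isIso_restrict_iff U f.hom).symm.trans (hiso f).symm)
  · refine ⟨fun N => ?_⟩
    haveI : Coh.IsQCoh N.obj := N.property.1
    obtain ⟨M, hM1, hM2, ⟨i⟩⟩ := S2252.result (fun x => ⟨⊤, trivial, inferInstance⟩) U N.obj N.property.2
    exact ⟨⟨M, hM1, hM2⟩, ⟨Q.isoMk i⟩⟩
  · intro A B φ
    obtain ⟨F', ι, φ', -, hF', hι, hφ'⟩ := S0816.result X A.obj B.obj A.property B.property U φ.hom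
    exact ⟨⟨F', hF'⟩, P.homMk ι, P.homMk φ', (hiso _).2 hι, Q.hom_ext hφ'⟩
  · intro A B f g hfg
    have h0 : (Scheme.Modules.restrictFunctor U.ι).map (f.hom - g.hom) = 0 := by
      rw [Functor.map_sub, sub_eq_zero]
      exact congrArg (fun w : G.obj A ⟶ G.obj B => w.hom) hfg
    refine ⟨⟨kernel (f.hom - g.hom), (QCohLib.isCoh_kernel_cokernel _ A.property B.property).1⟩,
      P.homMk (kernel.ι _), ?_, P.hom_ext ?_⟩
    · refine (hiso _).2 ((isIso_iff_stalk _).2 fun y => ?_)
      show Function.Bijective (stalkLin ((Scheme.Modules.restrictFunctor U.ι).map (kernel.ι (f.hom - g.hom))) y)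
      rw [stalk_restrict_bijective_iff]
      refine ⟨(mono_iff_stalk _).1 inferInstance _, fun z => ?_⟩
      have hz : stalkLin (f.hom - g.hom) (U.ι y) z = 0 := by
        obtain ⟨w, rfl⟩ := (((Scheme.Modules.restrictStalkNatIso U.ι y).app A.obj).addCommGroupIsoToAddEquiv).surjective z
        refine (congr($((Scheme.Modules.restrictStalkNatIso U.ι y).hom.naturality (f.hom - g.hom)) w)).symm.trans ?_
        show (Scheme.Modules.restrictStalkNatIso U.ι y).hom.app B.obj
          (stalkLin ((Scheme.Modules.restrictFunctor U.ι).map (f.hom - g.hom)) y w) = 0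
        rw [(eq_zero_iff_stalk _).1 h0 y]
        exact map_zero _
      have hz' : z ∈ LinearMap.range (stalkLin (kernel.ι (f.hom - g.hom)) (U.ι y)) := by
        rw [IdealMulLib.range_stalk_kernel]
        exact hz
      exact hz'
    · have h := kernel.condition (f.hom - g.hom)
      rw [Preadditive.comp_sub, sub_eq_zero] at h
      exact h

end Groth.Agent.S13987
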