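import Groth.Statements.S13988
import Groth.Agent.SubLib.ExtendWO
import Groth.Agent.DCohLib.QCohAbelian
import Groth.Agent.DevLib.Closed
-- import your own Groth.Agent.* helpers here

set_option autoImplicit false
universe u
open CategoryTheory AlgebraicGeometry
open CohGab

namespace Groth.Agent.S13988

/-- Scalar multiplication of sections, with explicit types. -/
noncomputable abbrev smulS {X : Scheme.{u}} {M : X.Modules} {U : X.Opens} (r : Γ(X, U)) (s : Γ(M, U)) : Γ(M, U) := r • s

open Groth.Agent.SubLib TopologicalSpace Opposite CategoryTheory.Limits in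
/-- The section `(1, s)` lies in a coherent submodule generated by it near `U`. -/
theorem key {X : Scheme.{u}} [IsNoetherian X]
    (φ : 𝟭 (ObjectProperty.FullSubcategory (fun M : X.Modules => Coh.IsCoh M)) ⟶ 𝟭 (ObjectProperty.FullSubcategory (fun M : X.Modules => Coh.IsCoh M)))
    (M : ObjectProperty.FullSubcategory (fun M : X.Modules => Coh.IsCoh M)) {U : X.Opens} (hU : IsAffineOpen U)
    (s : Γ(M.obj, U)) :
    (φ.app M).hom.app U s =
      smulS (X := X) (M := M.obj) (U := U) ((φ.app ⟨Coh.structureModule X, Groth.Agent.DevLib.isCoh_structureModule X⟩).hom.app U (1 : Γ(X, U))) s := by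
  let O : ObjectProperty.FullSubcategory (fun M : X.Modules => Coh.IsCoh M) :=
    ⟨Coh.structureModule X, Groth.Agent.DevLib.isCoh_structureModule X⟩
  haveI := M.property.1
  haveI : Coh.IsQCoh O.obj := O.property.1
  let P : X.Modules := O.obj ⊞ M.obj
  haveI : Coh.IsQCoh P := Groth.Agent.DCohLib.isQCoh_biprod' inferInstance inferInstance
  let e : Γ(O.obj, U) := (1 : Γ(X, U))
  let t : Γ(P, U) := (biprod.inl : O.obj ⟶ P).app U e + (biprod.inr : M.obj ⟶ P).app U s
  have cp : ∀ {A B C : X.Modules} (a : A ⟶ B) (b : B ⟶ C) (c : A ⟶ C), a ≫ b = c → ∀ W x,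
      b.app W (a.app W x) = c.app W x := fun a b c h W x => by
    rw [← h, Scheme.Modules.Hom.comp_app]; rfl
  have ht1 : (biprod.fst : P ⟶ O.obj).app U t = e := by
    show (biprod.fst : P ⟶ O.obj).app U (_ + _) = e
    rw [map_add, cp _ _ _ biprod.inl_fst, cp _ _ _ biprod.inr_fst]
    exact add_zero e
  have ht2 : (biprod.snd : P ⟶ M.obj).app U t = s := by
    show (biprod.snd : P ⟶ M.obj).app U (_ + _) = s
    rw [map_add, cp _ _ _ biprod.inl_snd, cp _ _ _ biprod.inr_snd]
    exact zero_add s
  let N₀ : StalkSub P := fun z => open Classical in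
    if hz : z ∈ U then Submodule.span (X.presheaf.stalk z) {P.presheaf.germ U z hz t} else ⊥
  have hgen : ∀ y (hy : y ∈ U), N₀ y = Submodule.span (X.presheaf.stalk y) (P.presheaf.germ U y hy '' {t}) := fun y hy => by
    simp only [N₀, dif_pos hy, Set.image_singleton]
  have hgood : Good N₀ U := fun x hx => ⟨U, hU, hx, le_rfl, {t}, fun y hy => by rw [hgen y hy, Finset.coe_singleton]⟩
  obtain ⟨N, hN, hNgood⟩ := exists_good_top (X := X)
    (fun x => ⟨⊤, trivial, Topology.IsInducing.subtypeVal.noetherianSpace⟩) hgood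
  have hG : ∀ x : X, ∃ W : X.Opens, IsAffineOpen W ∧ x ∈ W ∧ GenOn N W := fun x => by
    obtain ⟨W, hW, hx, -, h⟩ := hNgood x trivial
    exact ⟨W, hW, hx, h⟩
  let K : ObjectProperty.FullSubcategory (fun M : X.Modules => Coh.IsCoh M) :=
    ⟨subMod N, isQCoh_subMod N hG, isFT_subMod N hG⟩
  let g : Γ(subMod N, U) := (⟨t, fun z hz => by
    show _ ∈ N z
    rw [hN z hz, hgen z hz, Set.image_singleton]
    exact Submodule.mem_span_singleton_self _⟩ : sec N U)
  let a₁ : K ⟶ O := ObjectProperty.homMk (subι N ≫ biprod.fst)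
  let a₂ : K ⟶ M := ObjectProperty.homMk (subι N ≫ biprod.snd)
  let rU : Γ(X, U) := (φ.app O).hom.app U e
  let x : Γ(P, U) := (subι N).app U ((φ.app K).hom.app U g)
  have hg : (subι N).app U g = t := rfl
  have h1 : (biprod.fst : P ⟶ O.obj).app U x = (φ.app O).hom.app U e := by
    have h := congrArg (fun f : K ⟶ O => f.hom.app U g) (φ.naturality a₁)
    change ((φ.app O).hom.app U) ((subι N ≫ biprod.fst).app U g) = (subι N ≫ biprod.fst).app U ((φ.app K).hom.app U g) at h
    rw [show x = (subι N).app U ((φ.app K).hom.app U g) from rfl, cp _ _ _ rfl, ← h, ← cp _ _ _ rfl, hg, ht1]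
  have h2 : (biprod.snd : P ⟶ M.obj).app U x = (φ.app M).hom.app U s := by
    have h := congrArg (fun f : K ⟶ M => f.hom.app U g) (φ.naturality a₂)
    change ((φ.app M).hom.app U) ((subι N ≫ biprod.snd).app U g) = (subι N ≫ biprod.snd).app U ((φ.app K).hom.app U g) at h
    rw [show x = (subι N).app U ((φ.app K).hom.app U g) from rfl, cp _ _ _ rfl, ← h, ← cp _ _ _ rfl, hg, ht2]
  refine (h2.symm.trans ?_)
  refine TopCat.Presheaf.section_ext ⟨M.obj.presheaf, M.obj.isSheaf⟩ U _ _ fun z hz => ?_
  have hx : P.presheaf.germ U z hz x ∈ Submodule.span (X.presheaf.stalk z) (P.presheaf.germ U z hz '' {t}) := by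
    rw [← hgen z hz, ← hN z hz]
    exact mem_sec_of_app N U _ z hz
  obtain ⟨c, hcz, hc⟩ := (germ_mem_span_iff hU {t} z hz x).1 hx
  obtain ⟨b, hb⟩ := Submodule.mem_span_singleton.1 hc
  have hb1 := congrArg ((biprod.fst : P ⟶ O.obj).app U) hb
  rw [Scheme.Modules.Hom.app_smul, Scheme.Modules.Hom.app_smul, ht1, h1] at hb1
  have hbc : b = c * rU := by
    have : b * (1 : Γ(X, U)) = c * rU := hb1
    rwa [mul_one] at this
  have hb2 := congrArg ((biprod.snd : P ⟶ M.obj).app U) hb
  rw [Scheme.Modules.Hom.app_smul, Scheme.Modules.Hom.app_smul, ht2, hbc, mul_smul] at hb2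
  have h3 := congrArg (M.obj.presheaf.germ U z hz) hb2
  rw [germ_smul', germ_smul' (M := M.obj) U z hz c] at h3
  exact (((X.mem_basicOpen c z hz).1 hcz).smul_left_cancel.1 h3).symm

/-- Let X be a Noetherian scheme. The canonical ring map from the global functions Γ(X, O_X) to the
centre of the category of coherent O_X-modules (the endomorphisms of its identity functor), sending
r to multiplication by r, is bijective: for every natural endomorphism φ of the identity functor of
Coh(X) there is a unique global function r such that, for every coherent module M, φ_M is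
multiplication by r (compared as maps of the underlying abelian sheaves). (The published result
builds a ringed space from Coh(X) — irreducible Serre subcategories of finite type, with the centres
of the categories Coh(U) as structure sheaf — and proves it isomorphic to X, for coherent sheaves
twisted by a class in the cohomological Brauer group and with X over a field, a hypothesis its proof
does not use; this row is the ring-theoretic content of that isomorphism on global sections, for the
trivial class; applied to the open subschemes of X it gives the statement on every open.) -/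
theorem result (X : Scheme.{u}) [IsNoetherian X]
    (φ : 𝟭 (ObjectProperty.FullSubcategory (fun M : X.Modules => Coh.IsCoh M)) ⟶ 𝟭 (ObjectProperty.FullSubcategory (fun M : X.Modules => Coh.IsCoh M))) :
    ∃! r : Coh.Γtop X, ∀ M : ObjectProperty.FullSubcategory (fun M : X.Modules => Coh.IsCoh M),
      (SheafOfModules.toSheaf X.ringCatSheaf).map (φ.app M).hom = Coh.smulAb M.obj r := by
  let O : ObjectProperty.FullSubcategory (fun M : X.Modules => Coh.IsCoh M) :=
    ⟨Coh.structureModule X, Groth.Agent.DevLib.isCoh_structureModule X⟩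
  let r : Coh.Γtop X := (φ.app O).hom.app ⊤ (1 : Γ(X, ⊤))
  have hr : ∀ U : X.Opens, ((φ.app O).hom.app U (1 : Γ(X, U)) : Γ(X, U)) =
      Coh.resTop X (Opposite.op U) r := fun U => by
    have h := ConcreteCategory.congr_hom ((φ.app O).hom.mapPresheaf.naturality (homOfLE (le_top (a := U))).op) (1 : Γ(X, ⊤))
    refine (Eq.trans ?_ h).trans rfl
    show _ = (φ.app O).hom.app U (X.presheaf.map (homOfLE (le_top (a := U))).op (1 : Γ(X, ⊤)))
    rw [map_one]
  refine ⟨r, fun M => ?_, fun r' hr' => ?_⟩
  · haveI := M.property.1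
    refine CategoryTheory.ObjectProperty.hom_ext _ (NatTrans.ext (funext fun W => ?_))
    refine AddCommGrpCat.hom_ext (AddMonoidHom.ext fun s => ?_)
    obtain ⟨W⟩ := W
    rw [Coh.smulAb_app]
    show (φ.app M).hom.app W s = smulS (X := X) (M := M.obj) (U := W) (Coh.resTop X (Opposite.op W) r) s
    refine TopCat.Presheaf.section_ext ⟨M.obj.presheaf, M.obj.isSheaf⟩ W _ _ fun z hz => ?_
    obtain ⟨_, ⟨U, hU, rfl⟩, hzU, hUW⟩ := X.isBasis_affineOpens.exists_subset_of_mem_open hz W.2
    let i : U ⟶ W := homOfLE hUW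
    rw [← TopCat.Presheaf.germ_res_apply M.obj.presheaf i z hzU ((φ.app M).hom.app W s),
      ← TopCat.Presheaf.germ_res_apply M.obj.presheaf i z hzU (smulS _ _)]
    refine congrArg _ ?_
    have hnat := ConcreteCategory.congr_hom ((φ.app M).hom.mapPresheaf.naturality i.op) s
    refine hnat.symm.trans ?_
    refine (key φ M hU (M.obj.presheaf.map i.op s)).trans ?_
    rw [hr, Scheme.Modules.map_smul]
    congr 1
    exact (Coh.resTop_comp (X := X) (Opposite.op W) (Opposite.op U) i.op r).symm
  · have h := congrArg (fun η => η.hom.app (Opposite.op ⊤) (1 : Γ(X, ⊤))) (hr' O)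
    have e1 : Coh.resTop X (Opposite.op ⊤) r' = r' := by
      show (X.ringCatSheaf.obj.map _).hom r' = r'
      rw [show (homOfLE (le_top (a := (⊤ : X.Opens)))).op = 𝟙 (Opposite.op (⊤ : X.Opens)) from rfl, CategoryTheory.Functor.map_id]
      rfl
    change r = _ at h
    rw [Coh.smulAb_app] at h
    refine (h.trans ?_).symm
    show @HMul.hMul Γ(X, ⊤) Γ(X, ⊤) Γ(X, ⊤) _ (Coh.resTop X (Opposite.op ⊤) r') (1 : Γ(X, ⊤)) = r'
    rw [e1]; exact mul_one _

end Groth.Agent.S13988
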