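import Groth.Statements.S13989
import Mathlib.CategoryTheory.Abelian.SerreClass.Localization
import Mathlib.CategoryTheory.Limits.Preserves.Shapes.Kernels

set_option autoImplicit false
universe v u v' u' v'' u''
open CategoryTheory CategoryTheory.Limits
open CohGab

namespace Groth.Agent.S13989

set_option backward.isDefEq.respectTransparency false

namespace S13989Aux

variable {A A' : Type u} [Category.{v} A] [Abelian A] [Category.{v} A'] [Abelian A']
  (i : A' ⥤ A) [i.Full] [i.Faithful] [PreservesFiniteLimits i] [PreservesFiniteColimits i]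
  (J : ObjectProperty A) [J.IsSerreClass] [(J.inverseImage i).IsSerreClass]
  {Q : Type u'} [Category.{v'} Q] (L : A ⥤ Q) [L.IsLocalization J.isoModSerre]
  {Q' : Type u''} [Category.{v''} Q'] (L' : A' ⥤ Q') [L'.IsLocalization (J.inverseImage i).isoModSerre]

include J in
lemma map_eq_of_map_eq {M N : A'} (f g : M ⟶ N) (h : L.map (i.map f) = L.map (i.map g)) :
    L'.map f = L'.map g := by
  haveI : i.Additive := Functor.additive_of_preserves_binary_products i
  obtain ⟨Z, s, hs, hz⟩ := (MorphismProperty.map_eq_iff_postcomp L J.isoModSerre _ _).1 h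
  have h1 : J (Abelian.image (i.map (f - g))) :=
    (ObjectProperty.exists_comp_isoModSerre_eq_zero_iff J _).1
      ⟨Z, s, hs, by rw [Functor.map_sub, Preadditive.sub_comp, hz, sub_self]⟩
  haveI : Epi (i.map (Abelian.factorThruImage (f - g))) := i.map_epi _
  haveI : Mono (i.map (Abelian.image.ι (f - g))) := i.map_mono _
  haveI := strongEpi_of_epi (i.map (Abelian.factorThruImage (f - g)))
  have h2 : (J.inverseImage i) (Abelian.image (f - g)) :=
    J.prop_of_iso (Abelian.imageIsoImage _ ≪≫ (image.isoStrongEpiMono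
      (i.map (Abelian.factorThruImage (f - g))) (i.map (Abelian.image.ι (f - g)))
      (by rw [← i.map_comp, Abelian.image.fac])).symm) h1
  obtain ⟨Z', s', hs', hz'⟩ :=
    (ObjectProperty.exists_comp_isoModSerre_eq_zero_iff (J.inverseImage i) _).2 h2
  rw [Preadditive.sub_comp, sub_eq_zero] at hz'
  exact (MorphismProperty.map_eq_iff_postcomp L' (J.inverseImage i).isoModSerre _ _).2
    ⟨Z', s', hs', hz'⟩

/-- Every roof between objects of the subcategory is equivalent to one inside the subcategory. -/
lemma exists_small_roof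
    (hsub : ∀ (M : A') (N : A) (f : N ⟶ i.obj M), Mono f → J N → i.essImage N)
    (hquot : ∀ (M : A') (N : A) (p : i.obj M ⟶ N), Epi p → J N → i.essImage N)
    {M N : A'} {W : A} (s : W ⟶ i.obj M) (hs : J.isoModSerre s) (f : W ⟶ i.obj N) :
    ∃ (M'' N'' : A') (j : M'' ⟶ M) (p : N ⟶ N'') (g : M'' ⟶ N'')
      (_ : (J.inverseImage i).isoModSerre j) (_ : (J.inverseImage i).isoModSerre p),
      J.isoModSerre (i.map j) ∧ J.isoModSerre (i.map p) ∧
      ∀ φ : L.obj (i.obj M) ⟶ L.obj (i.obj N), L.map s ≫ φ = L.map f →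
        L.map (i.map j) ≫ φ ≫ L.map (i.map p) = L.map (i.map g) := by
  haveI : i.Additive := Functor.additive_of_preserves_binary_products i
  -- the quotient of the source
  have hC : i.essImage (cokernel s) := hquot M _ (cokernel.π s) inferInstance hs.2
  let C₀ := hC.witness
  let c : i.obj C₀ ≅ cokernel s := hC.getIso
  obtain ⟨q₀, hq₀⟩ := i.map_surjective (cokernel.π s ≫ c.inv)
  have hC₀ : (J.inverseImage i) C₀ := J.prop_of_iso c.symm hs.2
  let j := kernel.ι q₀
  have hj : (J.inverseImage i).isoModSerre j := by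
    rw [ObjectProperty.isoModSerre_iff_of_mono]
    exact (J.inverseImage i).prop_of_mono (Abelian.factorThruCoimage q₀) hC₀
  -- the subobject of the target killed
  let b := kernel.ι s ≫ f
  have hb : J (Abelian.image b) := J.prop_of_epi (Abelian.factorThruImage b) hs.1
  have hI : i.essImage (Abelian.image b) := hsub N _ (Abelian.image.ι b) inferInstance hb
  let N₀ := hI.witness
  let a : i.obj N₀ ≅ Abelian.image b := hI.getIso
  obtain ⟨h, hh⟩ := i.map_surjective (a.hom ≫ Abelian.image.ι b)
  have hN₀ : (J.inverseImage i) N₀ := J.prop_of_iso a.symm hb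
  let p := cokernel.π h
  have hp : (J.inverseImage i).isoModSerre p := by
    rw [ObjectProperty.isoModSerre_iff_of_epi]
    exact (J.inverseImage i).prop_of_epi (Abelian.factorThruImage h) hN₀
  have hbp : kernel.ι s ≫ f ≫ i.map p = 0 := by
    have e : i.map h ≫ i.map p = 0 := by rw [← i.map_comp, cokernel.condition, i.map_zero]
    rw [hh, Category.assoc] at e
    rw [← Category.assoc, ← Abelian.image.fac (kernel.ι s ≫ f), Category.assoc,
      (Iso.cancel_iso_hom_left a _ _).1 (e.trans (comp_zero (f := a.hom)).symm), comp_zero]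
  have hjq : i.map j ≫ cokernel.π s = 0 := by
    rw [← cancel_mono c.inv, Category.assoc, zero_comp, ← hq₀, ← i.map_comp, kernel.condition,
      i.map_zero]
  let ι' := Abelian.coimageImageComparison s ≫ Abelian.image.ι s
  have hι' : J.isoModSerre ι' := by
    refine MorphismProperty.comp_mem _ _ _ ?_ (ObjectProperty.epiModSerre.isoModSerre_image_ι hs.2)
    exact ObjectProperty.isoModSerre_of_mono J _ (ObjectProperty.epiModSerre_of_epi J _)
  let v : i.obj (kernel q₀) ⟶ Abelian.coimage s :=
    kernel.lift (cokernel.π s) (i.map j) hjq ≫ inv (Abelian.coimageImageComparison s)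
  have hv : v ≫ ι' = i.map j := by simp [v, ι']
  let d : Abelian.coimage s ⟶ i.obj (cokernel h) := cokernel.desc _ (f ≫ i.map p) hbp
  obtain ⟨g, hg⟩ := i.map_surjective (v ≫ d)
  have hw : ∀ {X Y : A'} (w : X ⟶ Y), (J.inverseImage i).isoModSerre w →
      J.isoModSerre (i.map w) := fun w hw =>
    ⟨J.prop_of_iso (PreservesKernel.iso i w) hw.1, J.prop_of_iso (PreservesCokernel.iso i w) hw.2⟩
  refine ⟨_, _, j, p, g, hj, hp, hw j hj, hw p hp, fun φ hφ => ?_⟩
  haveI := Localization.inverts L J.isoModSerre s hs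
  haveI := Localization.inverts L J.isoModSerre ι' hι'
  have hu : Abelian.coimage.π s ≫ ι' = s := Abelian.coimage_image_factorisation s
  have hud : Abelian.coimage.π s ≫ d = f ≫ i.map p := cokernel.π_desc _ _ _
  haveI : IsIso (L.map (Abelian.coimage.π s)) := by
    have : IsIso (L.map (Abelian.coimage.π s) ≫ L.map ι') := by
      rw [← L.map_comp, hu]; infer_instance
    exact IsIso.of_isIso_comp_right _ (L.map ι')
  rw [hg, ← hv, L.map_comp v ι', L.map_comp v d, Category.assoc]
  congr 1
  rw [← cancel_epi (L.map (Abelian.coimage.π s)), ← L.map_comp _ d, hud, L.map_comp f,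
    ← reassoc_of% hφ, ← L.map_comp_assoc]
  exact congrArg (fun w => L.map w ≫ φ ≫ L.map (i.map p)) hu

end S13989Aux

open S13989Aux

/-- Let A be an abelian category, A' a full abelian subcategory (given as a fully faithful exact functor
i : A' ⥤ A) and J a Serre subcategory of A, with J' = J ∩ A' (the preimage of J under i, a Serre
subcategory of A'). Assume that every subobject and every quotient object, in A, of an object of A'
which belongs to J belongs to A' (lies in the essential image of i). Then the functor A'/J' ⥤ A/J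
induced between the quotient categories is fully faithful: for L : A ⥤ Q and L' : A' ⥤ Q'
localization functors at the morphisms whose kernel and cokernel lie in J, resp. J', every functor Φ
: Q' ⥤ Q with L' ⋙ Φ ≅ i ⋙ L is full and faithful. -/
theorem result
    {A A' : Type u} [Category.{v} A] [Abelian A] [Category.{v} A'] [Abelian A']
    (i : A' ⥤ A) [i.Full] [i.Faithful] [PreservesFiniteLimits i] [PreservesFiniteColimits i]
    (J : ObjectProperty A) [J.IsSerreClass] [(J.inverseImage i).IsSerreClass]
    (hsub : ∀ (M : A') (N : A) (f : N ⟶ i.obj M), Mono f → J N → i.essImage N)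
    (hquot : ∀ (M : A') (N : A) (p : i.obj M ⟶ N), Epi p → J N → i.essImage N)
    {Q : Type u'} [Category.{v'} Q] (L : A ⥤ Q) [L.IsLocalization J.isoModSerre]
    {Q' : Type u''} [Category.{v''} Q'] (L' : A' ⥤ Q') [L'.IsLocalization (J.inverseImage i).isoModSerre]
    (Φ : Q' ⥤ Q) (e : L' ⋙ Φ ≅ i ⋙ L) : Φ.Full ∧ Φ.Faithful := by
  haveI := Localization.essSurj L' (J.inverseImage i).isoModSerre
  have hnat : ∀ {X Y : A'} (f : X ⟶ Y), Φ.map (L'.map f) =
      e.hom.app X ≫ L.map (i.map f) ≫ e.inv.app Y := fun {X Y} f =>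
    (NatIso.naturality_2 e f).symm.trans (by simp)
  have hfull : ∀ (M N : A') (ψ : Φ.obj (L'.obj M) ⟶ Φ.obj (L'.obj N)),
      ∃ φ, Φ.map φ = ψ := by
    intro M N ψ
    obtain ⟨r, hr⟩ := Localization.exists_rightFraction L J.isoModSerre
      (e.inv.app M ≫ ψ ≫ e.hom.app N)
    obtain ⟨M'', N'', j, p, g, hj, hp, hij, hip, key⟩ :=
      exists_small_roof i J L hsub hquot r.s r.hs r.f
    haveI := Localization.inverts L' (J.inverseImage i).isoModSerre j hj
    haveI := Localization.inverts L' (J.inverseImage i).isoModSerre p hp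
    haveI := Localization.inverts L J.isoModSerre _ hij
    haveI := Localization.inverts L J.isoModSerre _ hip
    have k := key (e.inv.app M ≫ ψ ≫ e.hom.app N)
      (by rw [hr, MorphismProperty.RightFraction.map_s_comp_map])
    refine ⟨inv (L'.map j) ≫ L'.map g ≫ inv (L'.map p), ?_⟩
    rw [← cancel_epi (Φ.map (L'.map j)), ← cancel_mono (Φ.map (L'.map p))]
    simp only [Category.assoc, ← Functor.map_comp, IsIso.hom_inv_id_assoc, IsIso.inv_hom_id,
      Category.comp_id]
    rw [hnat g, hnat j, hnat p, ← k]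
    simp
  have hfaith : ∀ (M N : A') (φ ψ : L'.obj M ⟶ L'.obj N), Φ.map φ = Φ.map ψ → φ = ψ := by
    intro M N φ ψ hφψ
    obtain ⟨r, hr₁, hr₂⟩ :=
      Localization.exists_leftFraction₂ L' (J.inverseImage i).isoModSerre φ ψ
    haveI := Localization.inverts L' (J.inverseImage i).isoModSerre r.s r.hs
    have h1 : φ ≫ L'.map r.s = L'.map r.f := by
      rw [hr₁]; exact r.fst.map_comp_map_s L' _
    have h2 : ψ ≫ L'.map r.s = L'.map r.f' := by
      rw [hr₂]; exact r.snd.map_comp_map_s L' _
    rw [← cancel_mono (L'.map r.s), h1, h2]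
    refine map_eq_of_map_eq i J L L' _ _ ?_
    have h3 := congrArg Φ.map h1
    have h4 := congrArg Φ.map h2
    rw [Φ.map_comp, hφψ, ← Φ.map_comp] at h3
    have h5 := h3.symm.trans h4
    rw [hnat, hnat] at h5
    exact (cancel_mono (e.inv.app r.Y')).1 (by simpa using h5)
  constructor
  · refine ⟨fun {X Y} ψ => ?_⟩
    obtain ⟨φ, hφ⟩ := hfull _ _ (Φ.map (L'.objObjPreimageIso X).hom ≫ ψ ≫
      Φ.map (L'.objObjPreimageIso Y).inv)
    exact ⟨(L'.objObjPreimageIso X).inv ≫ φ ≫ (L'.objObjPreimageIso Y).hom, by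
      simp [hφ, ← Φ.map_comp, ← Φ.map_comp_assoc]⟩
  · refine ⟨fun {X Y φ ψ} h => ?_⟩
    have := hfaith _ _ ((L'.objObjPreimageIso X).hom ≫ φ ≫ (L'.objObjPreimageIso Y).inv)
      ((L'.objObjPreimageIso X).hom ≫ ψ ≫ (L'.objObjPreimageIso Y).inv) (by simp [h])
    simpa using this

end Groth.Agent.S13989
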