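import Groth.Statements.S13991
import Groth.Agent.CohSerreLib.SerreSub
import Groth.Agent.DevLib.Power
-- import your own Groth.Agent.* helpers here

set_option autoImplicit false
universe u
open CategoryTheory AlgebraicGeometry
open CohGab

namespace Groth.Agent.S13991

/-- Let X be a Noetherian scheme and Z ⊆ X a closed subset. Then Z is irreducible (or empty) if and only
if Coh_Z(X), the coherent O_X-modules supported in Z, is an irreducible Serre subcategory of Coh(X),
i.e. it is not generated as a Serre subcategory by two Serre subcategories properly contained in it: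
whenever J₁, J₂ are Serre classes on coherent modules (middle term of a short exact sequence of
coherent modules belongs iff both outer terms do), both contained in Coh_Z, such that every Serre
class on coherent modules containing J₁ and J₂ contains Coh_Z, then J₁ or J₂ contains Coh_Z.
Consequently the points of X correspond to the irreducible Serre subcategories of finite type other
than the zero subcategory. (The published statement says 'Z is irreducible iff Coh_Z is irreducible'
and deduces a bijection between the points of X and all irreducible Serre subcategories of finite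
type; the zero subcategory Coh_∅ is irreducible in this sense while ∅ is not an irreducible space,
so irreducibility of Z is read here as 'irreducible or empty'. The published statement is also about
coherent sheaves twisted by a class in the second etale cohomology group of the units of the
structure sheaf; this row is its case of the trivial class.) -/
theorem result (X : Scheme.{u}) [IsNoetherian X]
    (Z : TopologicalSpace.Closeds X) :
    IsPreirreducible (↑Z : Set X) ↔
    ∀ J₁ J₂ : ObjectProperty X.Modules, (∀ S : ShortComplex X.Modules, S.ShortExact → Coh.IsCoh S.X₁ → Coh.IsCoh S.X₂ →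
        Coh.IsCoh S.X₃ → (J₁ S.X₂ ↔ J₁ S.X₁ ∧ J₁ S.X₃)) → (∀ S : ShortComplex X.Modules, S.ShortExact → Coh.IsCoh S.X₁ → Coh.IsCoh S.X₂ →
        Coh.IsCoh S.X₃ → (J₂ S.X₂ ↔ J₂ S.X₁ ∧ J₂ S.X₃)) →
      (∀ M : X.Modules, Coh.IsCoh M → J₁ M → CohB1.support M ⊆ (↑Z : Set X)) →
      (∀ M : X.Modules, Coh.IsCoh M → J₂ M → CohB1.support M ⊆ (↑Z : Set X)) →
      (∀ Q : ObjectProperty X.Modules, (∀ S : ShortComplex X.Modules, S.ShortExact → Coh.IsCoh S.X₁ → Coh.IsCoh S.X₂ →
        Coh.IsCoh S.X₃ → (Q S.X₂ ↔ Q S.X₁ ∧ Q S.X₃)) →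
        (∀ M : X.Modules, Coh.IsCoh M → J₁ M → Q M) → (∀ M : X.Modules, Coh.IsCoh M → J₂ M → Q M) →
        ∀ M : X.Modules, Coh.IsCoh M → CohB1.support M ⊆ (↑Z : Set X) → Q M) →
      (∀ M : X.Modules, Coh.IsCoh M → CohB1.support M ⊆ (↑Z : Set X) → J₁ M) ∨
        (∀ M : X.Modules, Coh.IsCoh M → CohB1.support M ⊆ (↑Z : Set X) → J₂ M) := by
  constructor
  · intro hirr J₁ J₂ hJ₁ hJ₂ h1 h2 hgen
    obtain ⟨F, hF, hs⟩ := CohSerreLib.exists_coh_support Z
    rcases Set.eq_empty_or_nonempty (↑Z : Set X) with hZ | hZ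
    · by_contra hcon
      rw [not_or] at hcon
      refine hgen ⊥ (fun S _ _ _ _ => ⟨fun h => h.elim, fun h => h.1.elim⟩)
        (fun M hM hJ => hcon.1 fun N hN hle => CohSerreLib.mem_of_support_le hJ₁ hM hJ hN (hle.trans (hZ.le.trans (Set.empty_subset _))))
        (fun M hM hJ => hcon.2 fun N hN hle => CohSerreLib.mem_of_support_le hJ₂ hM hJ hN (hle.trans (hZ.le.trans (Set.empty_subset _))))
        F hF hs.le
    · obtain ⟨η, hη⟩ := QuasiSober.sober (⟨hZ, hirr⟩ : IsIrreducible (↑Z : Set X)) Z.isClosed
      have key : ∀ M : X.Modules, Coh.IsCoh M → η ∈ CohB1.support M → (↑Z : Set X) ⊆ CohB1.support M := fun M hM h => by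
        rw [← hη.def]
        exact closure_minimal (Set.singleton_subset_iff.2 h) (DevLib.isClosed_support hM)
      by_contra hcon
      rw [not_or] at hcon
      have hQ : CohSerreLib.IsSerre (fun M : X.Modules => η ∉ CohB1.support M) := fun S hS _ _ _ => by
        show η ∉ CohB1.support S.X₂ ↔ η ∉ CohB1.support S.X₁ ∧ η ∉ CohB1.support S.X₃
        rw [DevLib.support_X₂ hS, Set.mem_union, not_or]
      refine hgen (fun M : X.Modules => η ∉ CohB1.support M) hQ
        (fun M hM hJ h => hcon.1 fun N hN hle => CohSerreLib.mem_of_support_le hJ₁ hM hJ hN (hle.trans (key M hM h)))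
        (fun M hM hJ h => hcon.2 fun N hN hle => CohSerreLib.mem_of_support_le hJ₂ hM hJ hN (hle.trans (key M hM h)))
        F hF hs.le (hs.ge hη.mem)
  · intro h
    refine isPreirreducible_iff_isClosed_union_isClosed.2 fun A B hA hB hAB => ?_
    obtain ⟨FA, hFA, hsA⟩ := CohSerreLib.exists_coh_support (⟨A ∩ ↑Z, hA.inter Z.isClosed⟩ : TopologicalSpace.Closeds X)
    obtain ⟨FB, hFB, hsB⟩ := CohSerreLib.exists_coh_support (⟨B ∩ ↑Z, hB.inter Z.isClosed⟩ : TopologicalSpace.Closeds X)
    obtain ⟨FZ, hFZ, hsZ⟩ := CohSerreLib.exists_coh_support Z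
    have hgen : ∀ Q : ObjectProperty X.Modules, CohSerreLib.IsSerre Q →
        (∀ M : X.Modules, Coh.IsCoh M → CohB1.support M ⊆ A ∩ ↑Z → Q M) →
        (∀ M : X.Modules, Coh.IsCoh M → CohB1.support M ⊆ B ∩ ↑Z → Q M) →
        ∀ M : X.Modules, Coh.IsCoh M → CohB1.support M ⊆ (↑Z : Set X) → Q M := fun Q hQ hQ₁ hQ₂ M hM hle => by
      have hsp : (ShortComplex.mk (CategoryTheory.Limits.biprod.inl : FA ⟶ CategoryTheory.Limits.biprod FA FB) CategoryTheory.Limits.biprod.snd CategoryTheory.Limits.biprod.inl_snd).ShortExact :=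
        (ShortComplex.Splitting.ofHasBinaryBiproduct FA FB).shortExact
      refine CohSerreLib.mem_of_support_le hQ (DevLib.isCoh_biprod hFA hFB)
        ((hQ _ hsp hFA (DevLib.isCoh_biprod hFA hFB) hFB).2 ⟨hQ₁ FA hFA hsA.le, hQ₂ FB hFB hsB.le⟩) hM ?_
      refine hle.trans (fun x hx => ?_)
      rw [DevLib.support_X₂ hsp]
      exact (hAB hx).elim (fun hxA => Or.inl (hsA.ge ⟨hxA, hx⟩)) (fun hxB => Or.inr (hsB.ge ⟨hxB, hx⟩))
    rcases h (fun M => CohB1.support M ⊆ A ∩ ↑Z) (fun M => CohB1.support M ⊆ B ∩ ↑Z) (CohSerreLib.isSerre_support _)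
        (CohSerreLib.isSerre_support _) (fun M _ hM => hM.trans Set.inter_subset_right)
        (fun M _ hM => hM.trans Set.inter_subset_right) hgen with h' | h'
    · exact Or.inl ((hsZ.ge.trans (h' FZ hFZ hsZ.le)).trans Set.inter_subset_left)
    · exact Or.inr ((hsZ.ge.trans (h' FZ hFZ hsZ.le)).trans Set.inter_subset_left)

end Groth.Agent.S13991
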