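import Mathlib
import Groth.Agent.PlanarLib.Basic
import Groth.Statements.S13992

set_option autoImplicit false
universe u
open CategoryTheory
open CAlg

namespace Groth.Agent.S13992

/-- Let S be a regular local ring of Krull dimension two, f a non-zero element of S and R the quotient
of S by f, assumed reduced (the local ring of a reduced planar curve singularity). Let M and N be
finitely generated R-modules, each admitting a non-zero-divisor in the maximal ideal of R,
annihilated by ideals I and J respectively, where I + J contains a power of the maximal ideal. Then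
Ext²_R(M, N) = 0. (The published statement is global: Ext²(F, F') = 0 for torsion-free coherent
sheaves F and F' on a reduced projective curve over a characteristic-zero algebraically closed
field, supported on subcurves with no common irreducible component that meet only at points with
planar singularities; this row is the vanishing on stalks to which it reduces, stated over an
arbitrary two-dimensional regular local ring.) -/
theorem result (S : Type u) [CommRing S] [IsRegularLocalRing S] (hS : ringKrullDim S = 2) (f : S) (hf : f ≠ 0) (R : Type u) [CommRing R] [IsLocalRing R] [IsReduced R] (π : S →+* R) (hπ : Function.Surjective π) (hker : RingHom.ker π = Ideal.span {f}) (I J : Ideal R) (n : ℕ) (hIJ : IsLocalRing.maximalIdeal R ^ n ≤ I ⊔ J) (M N : Type u) [AddCommGroup M] [Module R M] [Module.Finite R M] [AddCommGroup N] [Module R N] [Module.Finite R N] (hI : I ≤ Module.annihilator R M) (hJ : J ≤ Module.annihilator R N) (x : R) (hx : x ∈ IsLocalRing.maximalIdeal R) (hxM : IsSMulRegular M x) (y : R) (hy : y ∈ IsLocalRing.maximalIdeal R) (hyN : IsSMulRegular N y) : Subsingleton (Abelian.Ext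 (ModuleCat.of R M) (ModuleCat.of R N) 2) := by
  haveI : Module.Finite R M := inferInstance
  obtain ⟨a, r, g, φ, hg, hex, hsplit⟩ := Groth.Agent.PlanarLib.exists_pres hS π hπ hx hxM
  let K := LinearMap.range φ
  let K' := LinearMap.ker φ
  have hK' : Subsingleton ((ModuleCat.of R K') ⟶ (ModuleCat.of R N)) := by
    refine subsingleton_of_forall_eq 0 fun u => ?_
    ext z
    refine Groth.Agent.PlanarLib.eq_zero_of_pow_smul hy hyN n (Groth.Agent.PlanarLib.killed_of_sup hIJ (fun i hi => ?_) fun j hj => ?_)
    · obtain ⟨h, hh⟩ := hsplit i (hI hi)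
      have hz : i • z = 0 := Subtype.ext (by
        show i • (z : Fin r → R) = 0
        rw [← hh z.1, show φ z.1 = 0 from z.2, map_zero])
      rw [← map_smul, hz, map_zero]
    · exact Module.mem_annihilator.mp (hJ hj) _
  let S₁ : ShortComplex (ModuleCat.{u} R) := ShortComplex.mk (ModuleCat.ofHom K'.subtype) (ModuleCat.ofHom φ.rangeRestrict)
    (by ext v; exact congrFun v.2 _)
  have hS₁ : S₁.ShortExact :=
    { exact := (ShortComplex.ShortExact.moduleCat_exact_iff_function_exact _).mpr (LinearMap.exact_iff.mpr (by
        show LinearMap.ker φ.rangeRestrict = LinearMap.range K'.subtype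
        rw [LinearMap.ker_rangeRestrict, Submodule.range_subtype]))
      mono_f := (ModuleCat.mono_iff_injective _).mpr K'.injective_subtype
      epi_g := (ModuleCat.epi_iff_surjective _).mpr φ.surjective_rangeRestrict }
  let S₂ : ShortComplex (ModuleCat.{u} R) := ShortComplex.mk (ModuleCat.ofHom K.subtype) (ModuleCat.ofHom g)
    (by ext ⟨_, w, rfl⟩; exact hex.apply_apply_eq_zero w)
  have hS₂ : S₂.ShortExact :=
    { exact := (ShortComplex.ShortExact.moduleCat_exact_iff_function_exact _).mpr (LinearMap.exact_iff.mpr (by
        show LinearMap.ker g = LinearMap.range K.subtype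
        rw [Submodule.range_subtype, LinearMap.exact_iff.mp hex]))
      mono_f := (ModuleCat.mono_iff_injective _).mpr K.injective_subtype
      epi_g := (ModuleCat.epi_iff_surjective _).mpr hg }
  have hF : ∀ (k q : ℕ), Subsingleton (Abelian.Ext (ModuleCat.of R (Fin k → R)) (ModuleCat.of R N) (q + 1)) := fun k q =>
    HasProjectiveDimensionLT.subsingleton (ModuleCat.of R (Fin k → R)) 1 (q + 1) (by omega) _
  haveI h0 : Subsingleton (Abelian.Ext S₁.X₁ (ModuleCat.of R N) 0) :=
    Abelian.Ext.homEquiv₀.subsingleton_congr.mpr hK'
  have h1 : Subsingleton (Abelian.Ext S₁.X₃ (ModuleCat.of R N) 1) :=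
    AddCommGrpCat.subsingleton_of_isZero <| ShortComplex.Exact.isZero_of_both_zeros
      (Abelian.Ext.contravariant_sequence_exact₃' hS₁ (ModuleCat.of R N) (n₀ := 0) (n₁ := 1) (h := rfl))
      ((AddCommGrpCat.isZero_of_iff_subsingleton.mpr h0).eq_zero_of_src _)
      ((AddCommGrpCat.isZero_of_iff_subsingleton.mpr (hF r 0)).eq_zero_of_tgt _)
  exact AddCommGrpCat.subsingleton_of_isZero <| ShortComplex.Exact.isZero_of_both_zeros
      (Abelian.Ext.contravariant_sequence_exact₃' hS₂ (ModuleCat.of R N) (n₀ := 1) (n₁ := 2) (h := rfl))
      ((AddCommGrpCat.isZero_of_iff_subsingleton.mpr h1).eq_zero_of_src _)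
      ((AddCommGrpCat.isZero_of_iff_subsingleton.mpr (hF a 1)).eq_zero_of_tgt _)

end Groth.Agent.S13992
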