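import Mathlib
import Groth.Statements.S13993

set_option autoImplicit false
universe u
open CategoryTheory
open CAlg

namespace Groth.Agent.S13993
open CategoryTheory.Abelian

theorem ofHom_smul_id (k A : Type u) [Field k] [CommRing A] [Algebra k A] (N : ModuleCat.{u} A) (c : k) (a : A) :
    (ModuleCat.ofHom ((c • a) • (LinearMap.id : N →ₗ[A] N)) : N ⟶ N) =
      c • (ModuleCat.ofHom (a • (LinearMap.id : N →ₗ[A] N)) : N ⟶ N) := by
  refine ModuleCat.hom_ext (LinearMap.ext fun q => ?_)
  show (c • a) • q = algebraMap k A c • (a • q)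
  rw [Algebra.smul_def, mul_smul]

theorem mk₀_comp_smul {k : Type u} [Field k] {C : Type*} [Category.{u} C] [Abelian C] [Linear k C]
    [HasExt.{u} C] {X Y Z : C} (e : Ext X Y 1) (c : k) (f : Y ⟶ Z) :
    e.comp (Ext.mk₀ (c • f)) (add_zero 1) = c • e.comp (Ext.mk₀ f) (add_zero 1) := by
  rw [Ext.mk₀_smul, Ext.comp_smul]

theorem finrank_ext_branches (k A : Type u) [Field k] [CommRing A] [Algebra k A] (x y : A)
    (hxy : x * y = 0) (hann : ∀ a : A, a * y = 0 → a ∈ Ideal.span {x})
    (hres : Module.finrank k (A ⧸ Ideal.span {x, y}) = 1) :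
    Module.finrank k (Ext (ModuleCat.of A (A ⧸ Ideal.span {y})) (ModuleCat.of A (A ⧸ Ideal.span {x})) 1) = 1 := by
  let N : ModuleCat.{u} A := ModuleCat.of A (A ⧸ Ideal.span {x})
  let i : (A ⧸ Ideal.span {x}) →ₗ[A] A := Submodule.liftQ (Ideal.span {x}) (LinearMap.mulRight A y) (by
    rw [Submodule.span_le, Set.singleton_subset_iff, SetLike.mem_coe, LinearMap.mem_ker]
    exact hxy)
  have hi : ∀ a : A, i (Submodule.Quotient.mk a) = a * y := fun _ => rfl
  have hinj : Function.Injective i := by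
    rw [← LinearMap.ker_eq_bot, Submodule.eq_bot_iff]
    intro q hq
    obtain ⟨a, rfl⟩ := Submodule.Quotient.mk_surjective _ q
    exact (Submodule.Quotient.mk_eq_zero _).2 (hann a hq)
  let S : ShortComplex (ModuleCat.{u} A) := ShortComplex.mk (X₁ := N) (X₂ := ModuleCat.of A A)
    (X₃ := ModuleCat.of A (A ⧸ Ideal.span {y})) (ModuleCat.ofHom i)
    (ModuleCat.ofHom (Submodule.mkQ (Ideal.span {y}))) (by
      ext q
      exact (Submodule.Quotient.mk_eq_zero _).2 (Ideal.mem_span_singleton'.2 ⟨1, by rw [one_mul]; exact (one_mul y).symm.trans (hi 1).symm⟩))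
  have hex : Function.Exact S.f.hom S.g.hom := by
      intro b
      refine ⟨fun hb => ?_, ?_⟩
      · obtain ⟨a, rfl⟩ := Ideal.mem_span_singleton'.1 ((Submodule.Quotient.mk_eq_zero _).1 hb)
        exact ⟨Submodule.Quotient.mk a, hi a⟩
      · rintro ⟨q, rfl⟩
        obtain ⟨a, rfl⟩ := Submodule.Quotient.mk_surjective _ q
        exact (Submodule.Quotient.mk_eq_zero _).2 (Ideal.mem_span_singleton'.2 ⟨a, rfl⟩)
  have hS : S.ShortExact :=
    { exact := (ShortComplex.ShortExact.moduleCat_exact_iff_function_exact _).2 hex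
      mono_f := (ModuleCat.mono_iff_injective _).2 hinj
      epi_g := (ModuleCat.epi_iff_surjective _).2 (Submodule.mkQ_surjective _) }
  let mult : A → (N ⟶ N) := fun a => ModuleCat.ofHom (a • (LinearMap.id : N →ₗ[A] N))
  let P : A →ₗ[k] Ext S.X₃ N 1 :=
    { toFun := fun a => hS.extClass.comp (Ext.mk₀ (mult a)) (add_zero 1)
      map_add' := fun a b => by
        rw [show mult (a + b) = mult a + mult b from by simp [mult, add_smul], Ext.mk₀_add,
          Ext.comp_add]
      map_smul' := fun c a => by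
        exact (congrArg (fun t => hS.extClass.comp (Ext.mk₀ t) (add_zero 1)) (ofHom_smul_id k A N c a)).trans
          (mk₀_comp_smul hS.extClass c (mult a)) }
  have hP : Function.Surjective P := fun e => by
    haveI : Projective S.X₂ := (IsProjective.iff_projective A).1 (inferInstance : Module.Projective A A)
    obtain ⟨e₁, he₁⟩ := Ext.contravariant_sequence_exact₃ hS N e
      (Ext.eq_zero_of_projective _) (n₀ := 0) rfl
    obtain ⟨f, rfl⟩ := (Ext.mk₀_bijective _ _).2 e₁
    obtain ⟨a, ha⟩ := Submodule.Quotient.mk_surjective _ (f.hom (Submodule.Quotient.mk (1 : A)))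
    refine ⟨a, ?_⟩
    rw [← he₁]
    show hS.extClass.comp (Ext.mk₀ (mult a)) (add_zero 1) = _
    congr 2
    refine ModuleCat.hom_ext (LinearMap.ext fun q => ?_)
    show a • q = f.hom q
    obtain ⟨b, rfl⟩ := Submodule.Quotient.mk_surjective _ q
    rw [show (Submodule.Quotient.mk b : A ⧸ Ideal.span {x}) = b • Submodule.Quotient.mk (1 : A) by
      rw [← Submodule.Quotient.mk_smul, smul_eq_mul, mul_one]]
    erw [f.hom.map_smul]
    rw [← ha, smul_comm]
    congr 1
    rw [← Submodule.Quotient.mk_smul, smul_eq_mul, mul_one]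
  have hker : LinearMap.ker P = (Ideal.span {x, y}).restrictScalars k := by
    ext a
    constructor
    · intro h
      obtain ⟨g, hg⟩ := Ext.contravariant_sequence_exact₁ hS N (Ext.mk₀ (mult a)) (add_zero 1) h
      obtain ⟨g, rfl⟩ := (Ext.mk₀_bijective _ _).2 g
      rw [Ext.mk₀_comp_mk₀] at hg
      have h1 := DFunLike.congr_fun (congrArg ModuleCat.Hom.hom ((Ext.mk₀_bijective _ _).1 hg))
        (Submodule.Quotient.mk (1 : A))
      obtain ⟨c, hc⟩ := Submodule.Quotient.mk_surjective _ (g.hom (1 : A))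
      have h1' : g.hom ((1 : A) * y) = a • (Submodule.Quotient.mk (1 : A) : A ⧸ Ideal.span {x}) := h1
      have h2 : (Submodule.Quotient.mk (y * c) : A ⧸ Ideal.span {x}) = Submodule.Quotient.mk a := by
        have e1 : g.hom y = y • g.hom (1 : A) := by
          rw [← map_smul]; congr 1; exact (mul_one y).symm
        calc (Submodule.Quotient.mk (y * c) : A ⧸ Ideal.span {x}) = y • Submodule.Quotient.mk c := rfl
          _ = g.hom y := by rw [hc, e1]
          _ = g.hom ((1 : A) * y) := by rw [one_mul]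
          _ = a • Submodule.Quotient.mk (1 : A) := h1'
          _ = Submodule.Quotient.mk a := by rw [← Submodule.Quotient.mk_smul, smul_eq_mul, mul_one]
      have h3 := (Submodule.Quotient.eq _).1 h2
      have h4 : y * c ∈ Ideal.span {x, y} := Ideal.mul_mem_right _ _ (Ideal.subset_span (by simp))
      have h5 : y * c - a ∈ Ideal.span {x, y} := Ideal.span_mono (by simp) h3
      simpa using Ideal.sub_mem _ h4 h5
    · intro h
      obtain ⟨b, c, rfl⟩ := Ideal.mem_span_pair.1 h
      let g : S.X₂ ⟶ N := ModuleCat.ofHom (LinearMap.toSpanSingleton A (A ⧸ Ideal.span {x}) (Submodule.Quotient.mk c))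
      have hm : mult (b * x + c * y) = S.f ≫ g := by
        refine ModuleCat.hom_ext (LinearMap.ext fun q => ?_)
        obtain ⟨d, rfl⟩ := Submodule.Quotient.mk_surjective _ q
        show (b * x + c * y) • (Submodule.Quotient.mk d : A ⧸ Ideal.span {x}) = (d * y) • Submodule.Quotient.mk c
        rw [← Submodule.Quotient.mk_smul, ← Submodule.Quotient.mk_smul, Submodule.Quotient.eq]
        exact Ideal.mem_span_singleton'.2 ⟨b * d, by simp only [smul_eq_mul]; ring⟩
      show hS.extClass.comp (Ext.mk₀ (mult _)) (add_zero 1) = 0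
      rw [hm, ← Ext.mk₀_comp_mk₀, ← Ext.comp_assoc_of_third_deg_zero, hS.extClass_comp, Ext.zero_comp]
  have e := (Submodule.quotEquivOfEq _ _ hker).symm.trans (P.quotKerEquivOfSurjective hP)
  show Module.finrank k (Ext S.X₃ N 1) = 1
  rw [← e.finrank_eq]
  exact hres

open MvPowerSeries in
theorem finrank_quotient (k : Type u) [Field k] :
    Module.finrank k ((MvPowerSeries (Fin 2) k ⧸ Ideal.span {(X (0 : Fin 2) : MvPowerSeries (Fin 2) k) * X 1}) ⧸
      Ideal.span {Ideal.Quotient.mk (Ideal.span {(X (0 : Fin 2) : MvPowerSeries (Fin 2) k) * X 1}) (X 0),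
        Ideal.Quotient.mk (Ideal.span {(X (0 : Fin 2) : MvPowerSeries (Fin 2) k) * X 1}) (X 1)}) = 1 := by
  let I := Ideal.span {(X (0 : Fin 2) : MvPowerSeries (Fin 2) k) * X 1}
  let J : Ideal (MvPowerSeries (Fin 2) k ⧸ I) :=
    Ideal.span {Ideal.Quotient.mk I (X 0), Ideal.Quotient.mk I (X 1)}
  let ψ := Algebra.linearMap k ((MvPowerSeries (Fin 2) k ⧸ I) ⧸ J)
  have hnt : Nontrivial ((MvPowerSeries (Fin 2) k ⧸ I) ⧸ J) := by
    refine Ideal.Quotient.nontrivial_iff.2 fun h => ?_
    obtain ⟨b, c, hbc⟩ := Ideal.mem_span_pair.1 (h ▸ Submodule.mem_top : (1 : MvPowerSeries (Fin 2) k ⧸ I) ∈ J)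
    obtain ⟨b, rfl⟩ := Ideal.Quotient.mk_surjective b
    obtain ⟨c, rfl⟩ := Ideal.Quotient.mk_surjective c
    rw [← map_mul, ← map_mul, ← map_add, ← map_one (Ideal.Quotient.mk I), Ideal.Quotient.eq,
      Ideal.mem_span_singleton'] at hbc
    obtain ⟨a, ha⟩ := hbc
    have := congrArg constantCoeff ha
    simp at this
  have hsurj : Function.Surjective ψ := by
    intro q
    obtain ⟨q, rfl⟩ := Ideal.Quotient.mk_surjective q
    obtain ⟨f, rfl⟩ := Ideal.Quotient.mk_surjective q
    refine ⟨constantCoeff f, ?_⟩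
    let g : MvPowerSeries (Fin 2) k := fun m => if m 0 = 0 then coeff m (f - C (constantCoeff f)) else 0
    have hg : ∀ m, coeff m g = if m 0 = 0 then coeff m (f - C (constantCoeff f)) else 0 := fun _ => rfl
    obtain ⟨u, hu⟩ : (X (0 : Fin 2) : MvPowerSeries (Fin 2) k) ∣ (f - C (constantCoeff f) - g) :=
      X_dvd_iff.2 fun m hm => by rw [map_sub, hg, if_pos hm, sub_self]
    obtain ⟨v, hv⟩ : (X (1 : Fin 2) : MvPowerSeries (Fin 2) k) ∣ g :=
      X_dvd_iff.2 fun m hm => by
        rw [hg]
        split_ifs with h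
        · have : m = 0 := by ext i; fin_cases i <;> simp [h, hm]
          subst this
          simp
        · rfl
    symm
    show Ideal.Quotient.mk J (Ideal.Quotient.mk I f) = Ideal.Quotient.mk J (Ideal.Quotient.mk I (C (constantCoeff f)))
    rw [Ideal.Quotient.eq, ← map_sub, show f - C (constantCoeff f) = X 0 * u + X 1 * v by
      rw [← hu, ← hv]; ring, map_add, map_mul, map_mul]
    exact Ideal.add_mem _ (Ideal.mul_mem_right _ _ (Ideal.subset_span (by simp)))
      (Ideal.mul_mem_right _ _ (Ideal.subset_span (by simp)))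
  have hinj : Function.Injective ψ := fun a b h =>
    (algebraMap k ((MvPowerSeries (Fin 2) k ⧸ I) ⧸ J)).injective h
  exact (LinearEquiv.ofBijective ψ ⟨hinj, hsurj⟩).finrank_eq.symm.trans (Module.finrank_self k)


/-- Let k be a field and A = k[[x,y]]/(xy) the complete local ring of a node, with branch rings A/(y)
and A/(x) viewed as A-modules. Then the first Ext group Ext¹_A(A/(y), A/(x)) has dimension one over
k. (The published statement is for the local ring at a node of a reduced curve over an algebraically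
closed field of characteristic zero, a node being a point whose complete local ring is A; this row
states the case of the complete local ring A itself, over an arbitrary field.) -/
theorem result (k : Type u) [Field k] : Module.finrank k (Abelian.Ext (ModuleCat.of (MvPowerSeries (Fin 2) k ⧸ Ideal.span {(MvPowerSeries.X (0 : Fin 2) : MvPowerSeries (Fin 2) k) * MvPowerSeries.X (1 : Fin 2)}) ((MvPowerSeries (Fin 2) k ⧸ Ideal.span {(MvPowerSeries.X (0 : Fin 2) : MvPowerSeries (Fin 2) k) * MvPowerSeries.X (1 : Fin 2)}) ⧸ Ideal.span {Ideal.Quotient.mk (Ideal.span {(MvPowerSeries.X (0 : Fin 2) : MvPowerSeries (Fin 2) k) * MvPowerSeries.X (1 : Fin 2)}) (MvPowerSeries.X (1 : Fin 2))})) (ModuleCat.of (MvPowerSeries (Fin 2) k ⧸ Ideal.span {(MvPowerSeries.X (0 : Fin 2) : MvPowerSeries (Fin 2) k) * MvPowerSeries.X (1 : Fin 2)}) ((MvPowerSeries (Fin 2) k ⧸ Ideal.span {(MvPowerSeries.X (0 : Fin 2) : MvPowerSeries (Fin 2) k) * MvPowerSeries.X (1 : Fin 2)}) ⧸ Ideal.span {Ideal.Quotient.mk (Ideal.span {(MvPowerSeries.X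 (0 : Fin 2) : MvPowerSeries (Fin 2) k) * MvPowerSeries.X (1 : Fin 2)}) (MvPowerSeries.X (0 : Fin 2))})) 1) = 1 := by
  open MvPowerSeries in
  refine finrank_ext_branches k (MvPowerSeries (Fin 2) k ⧸ Ideal.span {(X (0 : Fin 2) : MvPowerSeries (Fin 2) k) * X 1})
    (Ideal.Quotient.mk _ (X 0)) (Ideal.Quotient.mk _ (X 1)) ?_ ?_ ?_
  · rw [← map_mul, Ideal.Quotient.eq_zero_iff_mem]; exact Ideal.mem_span_singleton_self _
  · intro a ha
    obtain ⟨g, rfl⟩ := Ideal.Quotient.mk_surjective a
    rw [← map_mul, Ideal.Quotient.eq_zero_iff_mem, Ideal.mem_span_singleton'] at ha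
    obtain ⟨h, hh⟩ := ha
    have hne : (MvPowerSeries.X 1 : MvPowerSeries (Fin 2) k) ≠ 0 := by
      intro h0
      have := congrArg (MvPowerSeries.coeff (Finsupp.single (1 : Fin 2) 1)) h0
      simp at this
    have : g = h * MvPowerSeries.X 0 := mul_right_cancel₀ hne (by rw [← hh, mul_assoc])
    rw [Ideal.mem_span_singleton', this]
    exact ⟨Ideal.Quotient.mk _ h, by rw [map_mul]⟩
  · exact finrank_quotient k

end Groth.Agent.S13993
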