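import Mathlib
import Groth.Agent.PlanarLib.Basic
import Groth.Agent.TorLib.Basic
import Groth.Statements.S13994

set_option autoImplicit false
universe u
open CategoryTheory
open CAlg

namespace Groth.Agent.S13994

/-- Let S be a regular local ring of Krull dimension two, f a non-zero element of S and R the quotient
of S by f, assumed reduced. Let M and N be finitely generated R-modules, each admitting a
non-zero-divisor in the maximal ideal of R, annihilated by ideals I and J respectively, where I + J
contains a power of the maximal ideal. Then Tor₁^R(M, Hom_R(N, R)) = 0. (The published claim is made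
for the stalks at a common point of two subcurves without common component of a reduced projective
curve over a characteristic-zero algebraically closed field, the point being a planar singularity,
and the stalks of torsion-free sheaves supported on them; this row states it over an arbitrary
two-dimensional regular local ring. Tor is computed by resolving the second argument.) -/
theorem result (S : Type u) [CommRing S] [IsRegularLocalRing S] (hS : ringKrullDim S = 2) (f : S) (hf : f ≠ 0) (R : Type u) [CommRing R] [IsLocalRing R] [IsReduced R] (π : S →+* R) (hπ : Function.Surjective π) (hker : RingHom.ker π = Ideal.span {f}) (I J : Ideal R) (n : ℕ) (hIJ : IsLocalRing.maximalIdeal R ^ n ≤ I ⊔ J) (M N : Type u) [AddCommGroup M] [Module R M] [Module.Finite R M] [AddCommGroup N] [Module R N] [Module.Finite R N] (hI : I ≤ Module.annihilator R M) (hJ : J ≤ Module.annihilator R N) (x : R) (hx : x ∈ IsLocalRing.maximalIdeal R) (hxM : IsSMulRegular M x) (y : R) (hy : y ∈ IsLocalRing.maximalIdeal R) (hyN : IsSMulRegular N y) : Limits.IsZero (((Tor (ModuleCat.{u} R) 1).obj (ModuleCat.of R M)).obj (ModuleCat.of R (Module.Dual R N))) := by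
  open TensorProduct in
  classical
  obtain ⟨a, r, g, φ, hg, hex, hsplit⟩ := Groth.Agent.PlanarLib.exists_pres hS π hπ hx hxM
  let D := Module.Dual R N
  let K := LinearMap.range φ
  have hKg : Function.Exact K.subtype g := LinearMap.exact_iff.mpr (by
    rw [Submodule.range_subtype, LinearMap.exact_iff.mp hex])
  have hsum : φ = K.subtype.comp φ.rangeRestrict := rfl
  have hinj : ∀ w : (Fin r → R) ⊗[R] D, φ.rTensor D w = 0 → w = 0 := by
    intro w hw
    let c : (Fin r → R) ⊗[R] D ≃ₗ[R] (Fin r → D) :=
      (TensorProduct.comm R _ _).trans (TensorProduct.piScalarRight R R D (Fin r))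
    apply c.injective
    rw [map_zero]
    funext k
    refine Groth.Agent.PlanarLib.dual_eq_zero hy hyN n ?_
    refine Groth.Agent.PlanarLib.killed_of_sup (R := R) (N := Module.Dual R N) hIJ (fun i hi => ?_) fun j hj => ?_
    · obtain ⟨h, hh⟩ := hsplit i (hI hi)
      have hc : h.comp φ = i • LinearMap.id := LinearMap.ext hh
      have hw' : i • w = 0 := by
        have h2 := congrArg (h.rTensor D) hw
        rwa [← LinearMap.comp_apply, ← LinearMap.rTensor_comp, hc, LinearMap.rTensor_smul, LinearMap.rTensor_id,
          map_zero, LinearMap.smul_apply, LinearMap.id_apply] at h2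
      rw [← Pi.smul_apply, ← map_smul, hw', map_zero]
      rfl
    · exact LinearMap.ext fun z => by
        rw [LinearMap.smul_apply, ← map_smul, Module.mem_annihilator.mp (hJ hj) z, map_zero, LinearMap.zero_apply]
  haveI : Subsingleton (DRing.Tor R 1 M D) := by
    refine ((Groth.Agent.TorLib.torOneEquivKer K.subtype g D (Submodule.injective_subtype K) hg hKg).toEquiv.subsingleton_congr).mpr ?_
    refine subsingleton_of_forall_eq 0 fun z => Subtype.ext ?_
    obtain ⟨w, hw⟩ := LinearMap.rTensor_surjective D φ.surjective_rangeRestrict z.1
    have := hinj w (by rw [hsum, LinearMap.rTensor_comp_apply, hw]; exact z.2)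
    rw [← hw, this, map_zero]
    rfl
  exact ModuleCat.isZero_of_subsingleton _

end Groth.Agent.S13994
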