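import Mathlib
import Groth.Statements.S13995

set_option autoImplicit false
universe u
open CAlg

namespace Groth.Agent.S13995

/-- Let R be a reduced Noetherian ring, M a finitely generated R-module all of whose associated primes
are minimal primes of R and whose localization at each minimal prime p is one-dimensional over the
field R_p, and let g : M → Q be a surjection onto a finitely generated R-module Q all of whose
associated primes are minimal primes of R. Then the kernel of g is the intersection, over the
minimal primes p of R lying in the support of Q, of the kernels of the localization maps M → M_p.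
(The published statement is for a torsion-free coherent sheaf F of uniform rank one on a reduced
connected projective curve over a characteristic-zero algebraically closed field: its non-zero
torsion-free quotients are exactly the maximal torsion-free quotients F_D of the restrictions of F
to subcurves D; this row is the corresponding statement for modules over a reduced Noetherian ring,
a subcurve being a set of minimal primes, and identifies each torsion-free quotient with F_D for D
the set of generic points of its support.) -/
theorem result (R : Type u) [CommRing R] [IsNoetherianRing R] [IsReduced R] (M : Type u) [AddCommGroup M] [Module R M] [Module.Finite R M] (hM : associatedPrimes R M ⊆ minimalPrimes R) (hrk : ∀ p : PrimeSpectrum R, p.asIdeal ∈ minimalPrimes R → Module.finrank (Localization.AtPrime p.asIdeal) (LocalizedModule p.asIdeal.primeCompl M) = 1) (Q : Type u) [AddCommGroup Q] [Module R Q] [Module.Finite R Q] (hQ : associatedPrimes R Q ⊆ minimalPrimes R) (g : M →ₗ[R] Q) (hg : Function.Surjective g) : LinearMap.ker g = ⨅ p ∈ {p : PrimeSpectrum R | p.asIdeal ∈ minimalPrimes R ∧ p ∈ Module.support R Q}, LinearMap.ker (LocalizedModule.mkLinearMap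 p.asIdeal.primeCompl M) := by
  classical
  refine le_antisymm ?_ ?_
  · refine le_iInf₂ fun p hp x hx => ?_
    obtain ⟨hmin, hsupp⟩ := hp
    haveI : Ring.KrullDimLE 0 (Localization.AtPrime p.asIdeal) :=
      Ring.KrullDimLE.of_isLocalization p.asIdeal hmin _
    have hF : IsField (Localization.AtPrime p.asIdeal) := Ring.KrullDimLE.isField_of_isReduced
    let gp := LocalizedModule.map p.asIdeal.primeCompl g
    have hgp : Function.Surjective gp := LocalizedModule.map_surjective p.asIdeal.primeCompl g hg
    obtain ⟨y, hy⟩ : ∃ y, gp y ≠ 0 := by
      by_contra! hall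
      haveI := Module.mem_support_iff.1 hsupp
      obtain ⟨q, hq⟩ := exists_ne (0 : LocalizedModule p.asIdeal.primeCompl Q)
      obtain ⟨y, rfl⟩ := hgp q
      exact hq (hall y)
    letI := hF.toField
    obtain ⟨v, hv, hvs⟩ := finrank_eq_one_iff'.1 (hrk p hmin)
    rw [LinearMap.mem_ker]
    obtain ⟨c, hc⟩ := hvs (LocalizedModule.mkLinearMap p.asIdeal.primeCompl M x)
    by_contra hne
    have hc0 : c ≠ 0 := fun h => hne (by rw [← hc, h, zero_smul])
    have hgv : gp v = 0 := by
      have h0 : gp (c • v) = 0 := by
        rw [hc]
        simp [gp, LocalizedModule.mkLinearMap_apply, LinearMap.mem_ker.1 hx]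
      rw [map_smul] at h0
      exact (smul_eq_zero.1 h0).resolve_left hc0
    obtain ⟨d, rfl⟩ := hvs y
    exact hy (by rw [map_smul, hgv, smul_zero])
  · intro x hx
    simp only [Submodule.mem_iInf, LinearMap.mem_ker] at hx
    rw [LinearMap.mem_ker]
    by_contra hne
    obtain ⟨P, hP, hle⟩ := exists_le_isAssociatedPrime_of_isNoetherianRing R (g x) hne
    have hPp : P.IsPrime := hP.isPrime
    have hmin : P ∈ minimalPrimes R := hQ hP
    have hsupp : (⟨P, hPp⟩ : PrimeSpectrum R) ∈ Module.support R Q :=
      Module.mem_support_iff'.2 ⟨g x, fun r hr h => hr (hle (Submodule.mem_colon_singleton.2 h))⟩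
    have h0 := hx ⟨P, hPp⟩ ⟨hmin, hsupp⟩
    rw [← LinearMap.mem_ker, LocalizedModule.mem_ker_mkLinearMap_iff] at h0
    obtain ⟨r, hr, hr0⟩ := h0
    exact hr (hle (Submodule.mem_colon_singleton.2 (by rw [← map_smul, hr0, map_zero]; exact Submodule.zero_mem _)))

end Groth.Agent.S13995
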