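import Groth.Statements.S13996
import Mathlib

set_option autoImplicit false
universe u
open CAlg

namespace Groth.Agent.S13996

/-- Let R be a reduced Noetherian local ring of Krull dimension one with maximal ideal m, and M a
non-zero finitely generated R-module. Then M is torsion-free in the sense that no element of m which
is a non-zero-divisor on R is a zero-divisor on M, if and only if M has depth one, i.e. some element
of m is a non-zero-divisor on M. (The published statement is for a non-zero coherent sheaf F on a
connected reduced projective curve over a characteristic-zero algebraically closed field and asserts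
the equivalence of: F torsion-free in the above sense at every closed point; F pure of dimension
one; depth of F_p equal to one at every closed point p. This row is the equivalence of the first and
third conditions at a single closed point p with F_p ≠ 0; at points outside the support the third
condition as published cannot hold, so the row assumes the stalk non-zero.) -/
theorem result (R : Type u) [CommRing R] [IsLocalRing R] [IsNoetherianRing R] [IsReduced R] (hdim : ringKrullDim R = 1) (M : Type u) [AddCommGroup M] [Module R M] [Module.Finite R M] [Nontrivial M] : (∀ r : R, r ∈ IsLocalRing.maximalIdeal R → IsSMulRegular R r → IsSMulRegular M r) ↔ (∃ x : R, x ∈ IsLocalRing.maximalIdeal R ∧ IsSMulRegular M x) := by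
  classical
  set m := IsLocalRing.maximalIdeal R
  have hchain : ∀ P Q : Ideal R, P.IsPrime → Q.IsPrime → P < Q → Q = m := by
    intro P Q hP hQ hPQ
    by_contra hne
    have hQm : Q < m := lt_of_le_of_ne (IsLocalRing.le_maximalIdeal hQ.ne_top) hne
    let l : LTSeries (PrimeSpectrum R) :=
      ((RelSeries.singleton _ (⟨P, hP⟩ : PrimeSpectrum R)).snoc ⟨Q, hQ⟩ hPQ).snoc ⟨m, inferInstance⟩ (by rw [RelSeries.last_snoc]; exact hQm)
    have hlen : (l.length : WithBot ℕ∞) ≤ ringKrullDim R := Order.LTSeries.length_le_krullDim l
    rw [hdim] at hlen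
    have : l.length ≤ 1 := by exact_mod_cast hlen
    simp [l] at this
  have hmin : m ∉ minimalPrimes R := by
    intro h
    have h0 : ringKrullDim R ≤ 0 := by
      refine iSup_le fun l => ?_
      by_contra hl
      push Not at hl
      have hpos : 0 < l.length := by exact_mod_cast hl
      have hlt : (l 0).asIdeal < (l ⟨1, by omega⟩).asIdeal := l.strictMono (show (0 : Fin (l.length+1)) < ⟨1, by omega⟩ from Nat.zero_lt_one)
      have hle : (l ⟨1, by omega⟩).asIdeal ≤ m := IsLocalRing.le_maximalIdeal (l _).isPrime.ne_top
      exact absurd (h.2 ⟨(l 0).isPrime, bot_le⟩ (hlt.le.trans hle)) (fun hm => (hlt.trans_le hle).not_ge hm)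
    rw [hdim] at h0
    exact absurd h0 (by decide)
  constructor
  · intro h
    by_contra! hcon
    have hsub : (m : Set R) ⊆ ⋃ p ∈ ((minimalPrimes.finite_of_isNoetherianRing R).toFinset : Set (Ideal R)), (p : Set R) := by
      intro r hr
      have hr' : ¬ IsSMulRegular R r := fun hreg => hcon r hr (h r hr hreg)
      have hr'' : r ∈ ⋃ p ∈ associatedPrimes R R, (p : Set R) := by
        rw [biUnion_associatedPrimes_eq_compl_regular]; exact hr'
      obtain ⟨p, hp, hrp⟩ := Set.mem_iUnion₂.mp hr''
      refine Set.mem_biUnion (x := p) ?_ hrp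
      rw [Finset.mem_coe, Set.Finite.mem_toFinset]
      obtain ⟨hpp, z, hz⟩ := isAssociatedPrime_iff.mp hp
      have hz0 : z ≠ 0 := fun e => hpp.ne_top ((Ideal.eq_top_iff_one _).mpr (by rw [hz, Submodule.mem_colon_singleton, e, smul_zero]; exact zero_mem _))
      obtain ⟨q, hq, hzq⟩ : ∃ q ∈ minimalPrimes R, z ∉ q := by
        by_contra! hall
        have hzn : z ∈ nilradical R := by
          rw [nilradical_eq_sInf, Ideal.mem_sInf]
          intro Q hQ
          have : Q.IsPrime := hQ
          obtain ⟨q, hq, hle⟩ := Ideal.exists_minimalPrimes_le (I := (⊥ : Ideal R)) (J := Q) bot_le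
          exact hle (hall q hq)
        rw [nilradical_eq_zero, Ideal.zero_eq_bot, Ideal.mem_bot] at hzn
        exact hz0 hzn
      have hle : p ≤ q := fun a ha => by
        rw [hz, Submodule.mem_colon_singleton, Submodule.mem_bot, smul_eq_mul] at ha
        exact ((hq.1.1).mem_or_mem (ha ▸ zero_mem q : a * z ∈ q)).resolve_right hzq
      exact (le_antisymm hle (hq.2 ⟨hpp, bot_le⟩ hle)) ▸ hq
    obtain ⟨p, hp, hle⟩ := (Ideal.subset_union_prime ⊥ ⊥ (fun p hp _ _ => ((minimalPrimes.finite_of_isNoetherianRing R).mem_toFinset.mp hp).1.1)).mp hsub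
    have hp' := (minimalPrimes.finite_of_isNoetherianRing R).mem_toFinset.mp hp
    have epm : p = m := le_antisymm (IsLocalRing.le_maximalIdeal hp'.1.1.ne_top) hle
    rw [epm] at hp'
    exact hmin hp'
  · rintro ⟨x, hx, hxM⟩ r hr hreg
    have hrad : x ∈ (Ideal.span {r}).radical := by
      rw [Ideal.radical_eq_sInf, Ideal.mem_sInf]
      rintro P ⟨hrP, hP⟩
      obtain ⟨q, hq, hqP⟩ := Ideal.exists_minimalPrimes_le (I := (⊥ : Ideal R)) (J := P) bot_le
      have hlt : q < P := lt_of_le_of_ne hqP fun e => by
        have hrq : r ∈ q := e ▸ hrP (Ideal.mem_span_singleton_self r)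
        obtain ⟨y, hy, hry⟩ := Ideal.exists_mul_mem_of_mem_minimalPrimes hq hrq
        exact hy (by
          have : r * y = 0 := hry
          exact hreg (show r • y = r • 0 by rw [smul_eq_mul, smul_zero, this]))
      rw [hchain q P hq.1.1 hP hlt]; exact hx
    obtain ⟨N, hN⟩ := hrad
    obtain ⟨c, hc⟩ := Ideal.mem_span_singleton'.mp hN
    intro a b hab
    refine hxM.pow N ?_
    show x ^ N • a = x ^ N • b
    rw [← hc, mul_smul, mul_smul, show r • a = r • b from hab]

end Groth.Agent.S13996
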