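import Groth.Statements.S13998
import Groth.Agent.ThickFTLib.Basic
import Groth.Agent.Thicken.Hom
import Groth.Agent.IdealStalkLib.Comap

set_option autoImplicit false
universe u
open FlatMor

namespace Groth.Agent.S13998

open AlgebraicGeometry CategoryTheory in
/-- Consider a cartesian square of schemes F₀ ≫ j = i ≫ F (so Y₀ = Y ×_X X₀) in which i : Y₀ ⟶ Y and j :
X₀ ⟶ X are closed immersions surjective on points whose ideals are locally nilpotent (nilpotent on
every affine open), and suppose moreover that the ideal of j is of finite type (finitely generated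
on every affine open of X). Then F : Y ⟶ X is finite if and only if F₀ : Y₀ ⟶ X₀ is finite. -/
theorem result {X X₀ Y Y₀ : Scheme.{u}}
    (F : Y ⟶ X) (F₀ : Y₀ ⟶ X₀) (i : Y₀ ⟶ Y) (j : X₀ ⟶ X)
    (hi : MoreMor.IsThickening i) (hj : MoreMor.IsThickening j)
    (hinil : ∀ U : Y.affineOpens, IsNilpotent (i.ker.ideal U))
    (hjnil : ∀ U : X.affineOpens, IsNilpotent (j.ker.ideal U))
    (hfg : ∀ U : X.affineOpens, (j.ker.ideal U).FG)
    (hc : IsPullback F₀ i j F) :
    IsFinite F ↔ IsFinite F₀ := by
  haveI := hi.1
  haveI := hj.1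
  refine ⟨fun h => MorphismProperty.of_isPullback hc.flip h, fun h => ?_⟩
  haveI := hi.2
  haveI : IsIntegralHom F := (Groth.Agent.Thicken.isIntegralHom_iff_of_thickening i j F₀ F hc.w.symm).1 inferInstance
  haveI : LocallyOfFiniteType (i ≫ F) := by rw [← hc.w]; infer_instance
  haveI : LocallyOfFiniteType F := by
    refine Groth.Agent.ThickFTLib.locallyOfFiniteType_of_thickening F i hinil fun U V e => ?_
    have hker : i.ker = j.ker.comap F := by
      rw [← Scheme.IdealSheafData.ker_fst_of_isClosedImmersion, ← hc.flip.isoPullback_hom_fst, Scheme.Hom.ker_comp_of_isIso]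
    rw [hker, Groth.Agent.IdealStalkLib.comap_ideal j.ker F U.2 V.2 e]
    exact (hfg U).map _
  rw [IsFinite.iff_isIntegralHom_and_locallyOfFiniteType]
  exact ⟨inferInstance, inferInstance⟩

end Groth.Agent.S13998
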