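import Groth.Statements.S14000
import Mathlib.RingTheory.Spectrum.Prime.FreeLocus
import Mathlib.RingTheory.LocalRing.Module
import Mathlib.Algebra.Homology.ShortComplex.ModuleCat
import Mathlib.Algebra.Homology.ShortComplex.HomologicalComplex
import Mathlib.Algebra.Category.ModuleCat.Abelian
import Mathlib.Algebra.Module.LocalizedModule.Exact
import Mathlib.RingTheory.Ideal.MinimalPrime.Basic
import Mathlib.LinearAlgebra.Dimension.RankNullity

set_option autoImplicit false
universe u
open Perf

namespace Groth.Agent.S14000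

section
open CategoryTheory CategoryTheory.Limits
variable {A : Type u} [CommRing A]

/-- The localised differential. -/
noncomputable def locD (P : CochainComplex (ModuleCat.{u} A) ℤ) (q : Ideal A) [q.IsPrime] (i j : ℤ) :
    LocalizedModule q.primeCompl (P.X i) →ₗ[Localization.AtPrime q] LocalizedModule q.primeCompl (P.X j) :=
  (IsLocalizedModule.map q.primeCompl (LocalizedModule.mkLinearMap q.primeCompl (P.X i))
    (LocalizedModule.mkLinearMap q.primeCompl (P.X j)) (P.d i j).hom).extendScalarsOfIsLocalization q.primeCompl _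

theorem locD_exact (P : CochainComplex (ModuleCat.{u} A) ℤ) (q : Ideal A) [q.IsPrime] (i j k : ℤ)
    (hij : i + 1 = j) (hjk : j + 1 = k) (h : Subsingleton (LocalizedModule q.primeCompl (P.homology j))) :
    Function.Exact (locD P q i j) (locD P q j k) := by
  let S := P.sc' i j k
  let e : P.homology j ≅ S.moduleCatLeftHomologyData.H :=
    ShortComplex.homologyMapIso (P.isoSc' i j k (ComplexShape.prev_eq' _ (show i + 1 = j from hij))
      (ComplexShape.next_eq' _ (show j + 1 = k from hjk))) ≪≫ S.moduleCatHomologyIso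
  have hkill : ∀ m : P.X j, (P.d j k).hom m = 0 → ∃ t : q.primeCompl, ∃ y : P.X i, (P.d i j).hom y = (t : A) • m := by
    intro m hm
    let m' : LinearMap.ker S.g.hom := ⟨m, hm⟩
    let c : P.homology j := e.toLinearEquiv.symm (Submodule.Quotient.mk m')
    obtain ⟨t, ht, htc⟩ := (LocalizedModule.subsingleton_iff (S := q.primeCompl)).1 h c
    refine ⟨⟨t, ht⟩, ?_⟩
    have : (Submodule.Quotient.mk (t • m') : LinearMap.ker S.g.hom ⧸ LinearMap.range S.moduleCatToCycles) = 0 := by
      have := congrArg e.toLinearEquiv htc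
      rw [map_smul, LinearEquiv.apply_symm_apply, map_zero] at this
      exact this
    obtain ⟨y, hy⟩ := (Submodule.Quotient.mk_eq_zero _).1 this
    exact ⟨y, congrArg Subtype.val hy⟩
  intro w
  constructor
  · intro hw
    obtain ⟨⟨m, s⟩, rfl⟩ := IsLocalizedModule.mk'_surjective q.primeCompl (LocalizedModule.mkLinearMap q.primeCompl (P.X j)) w
    simp only [Function.uncurry_apply_pair, locD, LinearMap.extendScalarsOfIsLocalization_apply', IsLocalizedModule.map_mk',
      IsLocalizedModule.mk'_eq_zero] at hw
    obtain ⟨t, ht⟩ := (IsLocalizedModule.eq_zero_iff q.primeCompl _).1 hw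
    obtain ⟨t', y, hy⟩ := hkill ((t : A) • m) (by rw [map_smul]; exact ht)
    refine ⟨IsLocalizedModule.mk' (LocalizedModule.mkLinearMap q.primeCompl (P.X i)) y (t' * t * s), ?_⟩
    simp only [Function.uncurry_apply_pair, locD, LinearMap.extendScalarsOfIsLocalization_apply', IsLocalizedModule.map_mk']
    rw [hy, smul_smul, ← Submonoid.coe_mul, ← Submonoid.smul_def, IsLocalizedModule.mk'_cancel_left]
  · rintro ⟨v, rfl⟩
    obtain ⟨⟨m, s⟩, rfl⟩ := IsLocalizedModule.mk'_surjective q.primeCompl (LocalizedModule.mkLinearMap q.primeCompl (P.X i)) v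
    simp only [Function.uncurry_apply_pair, locD, LinearMap.extendScalarsOfIsLocalization_apply', IsLocalizedModule.map_mk']
    rw [show (P.d j k).hom ((P.d i j).hom m) = (P.d i j ≫ P.d j k).hom m from rfl, P.d_comp_d, ModuleCat.hom_zero,
      LinearMap.zero_apply, IsLocalizedModule.mk'_zero]

theorem rankAtStalk_eq_of_le (M : Type u) [AddCommGroup M] [Module A M] [Module.Finite A M] [Module.Projective A M]
    (p x : PrimeSpectrum A) (h : p ≤ x) : Module.rankAtStalk (R := A) M p = Module.rankAtStalk (R := A) M x := by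
  haveI : Module.FinitePresentation A M := Module.finitePresentation_of_projective A M
  have hs : p ⤳ x := (PrimeSpectrum.le_iff_specializes p x).1 h
  exact specializes_iff_eq.1 (hs.map (Module.isLocallyConstant_rankAtStalk (R := A) (M := M)).continuous)

theorem euler_minimal (P : CochainComplex (ModuleCat.{u} A) ℤ) (s : Finset ℤ)
    (hP : ∀ i : ℤ, Module.Finite A (P.X i) ∧ Module.Projective A (P.X i))
    (hs : ∀ i : ℤ, i ∉ s → IsZero (P.X i)) (q : PrimeSpectrum A)
    (hq : ∀ i : ℤ, Subsingleton (LocalizedModule q.asIdeal.primeCompl (P.homology i))) :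
    (s.sum fun i => ((i.negOnePow : ℤˣ) : ℤ) * (Module.rankAtStalk (R := A) (P.X i) q : ℤ)) = 0 := by
  classical
  let R' := Localization.AtPrime q.asIdeal
  let M := fun i : ℤ => LocalizedModule q.asIdeal.primeCompl (P.X i)
  let Z := fun i : ℤ => LinearMap.ker (locD P q.asIdeal i (i + 1))
  let f := fun i : ℤ => ((i.negOnePow : ℤˣ) : ℤ) * (Module.finrank R' (M i) : ℤ)
  have hfin : ∀ i, Module.Finite R' (M i) := fun i => by
    haveI := (hP i).1
    infer_instance
  have hproj : ∀ i, Module.Projective R' (M i) := fun i => by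
    haveI := (hP i).2
    exact Module.projective_of_isLocalizedModule q.asIdeal.primeCompl (LocalizedModule.mkLinearMap _ _)
  have hzero : ∀ i, i ∉ s → Subsingleton (M i) := fun i hi => by
    haveI := ModuleCat.subsingleton_of_isZero (hs i hi)
    infer_instance
  obtain ⟨B, hB⟩ : ∃ B : ℤ, ∀ i ∈ s, i < B := ⟨(s.sup fun i => i.toNat : ℕ) + 1, fun i hi => by
    have := Finset.le_sup (f := fun i => i.toNat) hi
    omega⟩
  obtain ⟨a, ha⟩ : ∃ a : ℤ, ∀ i ∈ s, a < i := ⟨-((s.sup fun i => (-i).toNat : ℕ) : ℤ) - 1, fun i hi => by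
    have := Finset.le_sup (f := fun i => (-i).toNat) hi
    omega⟩
  have key : ∀ k : ℕ, Module.Projective R' (Z (B - k)) ∧ Module.Finite R' (Z (B - k)) ∧
      ((((B - k : ℤ).negOnePow : ℤˣ) : ℤ) * (Module.finrank R' (Z (B - k)) : ℤ) =
        ∑ i ∈ s.filter (fun i => B - k ≤ i), f i) := by
    intro k
    induction k with
    | zero =>
      haveI := hzero (B - (0 : ℕ)) (fun h => by have := hB _ h; omega)
      refine ⟨inferInstance, inferInstance, ?_⟩
      rw [Module.finrank_zero_of_subsingleton, Nat.cast_zero, mul_zero, Finset.sum_eq_zero]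
      intro i hi
      obtain ⟨h1, h2⟩ := Finset.mem_filter.1 hi
      have := hB i h1
      omega
    | succ k ih =>
      obtain ⟨b, hb⟩ : ∃ b, B - ((k + 1 : ℕ) : ℤ) = b := ⟨_, rfl⟩
      rw [show B - (k : ℤ) = b + 1 by omega] at ih
      rw [hb]
      obtain ⟨h1, h2, h3⟩ := ih
      haveI := h1
      haveI := h2
      haveI := hfin b
      haveI := hproj b
      let π : M b →ₗ[R'] Z (b + 1) := (locD P q.asIdeal b (b + 1)).codRestrict _ fun x =>
        ((locD_exact P q.asIdeal b (b + 1) (b + 1 + 1) rfl rfl (hq _)) _).2 ⟨x, rfl⟩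
      have hπ : Function.Surjective π := fun ⟨y, hy⟩ => by
        obtain ⟨x, hx⟩ := ((locD_exact P q.asIdeal b (b + 1) (b + 1 + 1) rfl rfl (hq _)) y).1 hy
        exact ⟨x, Subtype.ext hx⟩
      obtain ⟨σ, hσ⟩ := Module.projective_lifting_property π LinearMap.id hπ
      have hker : LinearMap.ker π = Z b := LinearMap.ker_codRestrict _ _ _
      let g := (Z b).subtype
      have hex : Function.Exact g π := by
        rw [LinearMap.exact_iff, hker, Submodule.range_subtype]
      let e := ((hex.splitSurjectiveEquiv (Submodule.injective_subtype _)) ⟨σ, hσ⟩).1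
      have hsplit : ∀ z, (LinearMap.fst R' (Z b) (Z (b + 1)) ∘ₗ e.toLinearMap) (g z) = z := fun z => by
        have := LinearMap.congr_fun ((hex.splitSurjectiveEquiv (Submodule.injective_subtype _)) ⟨σ, hσ⟩).2.1 z
        simp only [LinearMap.comp_apply, LinearMap.inl_apply] at this
        show (e (g z)).1 = z
        rw [show g z = e.symm (z, 0) from this, LinearEquiv.apply_symm_apply]
      haveI : Module.Projective R' (Z b) :=
        Module.Projective.of_split g (LinearMap.fst R' (Z b) (Z (b + 1)) ∘ₗ e.toLinearMap) (LinearMap.ext hsplit)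
      haveI : Module.Finite R' (Z b) := Module.Finite.of_surjective _ (fun z => ⟨g z, hsplit z⟩)
      haveI : Module.Free R' (Z b) := Module.free_of_flat_of_isLocalRing
      haveI : Module.Free R' (Z (b + 1)) := Module.free_of_flat_of_isLocalRing
      refine ⟨inferInstance, inferInstance, ?_⟩
      have hr : (Module.finrank R' (M b) : ℤ) = Module.finrank R' (Z b) + Module.finrank R' (Z (b + 1)) := by
        rw [e.finrank_eq, Module.finrank_prod]; push_cast; rfl
      have hf : f b = (b.negOnePow : ℤˣ) * (Module.finrank R' (Z b) : ℤ) -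
          ((b + 1).negOnePow : ℤˣ) * (Module.finrank R' (Z (b + 1)) : ℤ) := by
        show ((b.negOnePow : ℤˣ) : ℤ) * _ = _
        rw [hr, Int.negOnePow_succ, Units.val_neg]; ring
      by_cases hbs : b ∈ s
      · have hset : s.filter (fun i => b ≤ i) = insert b (s.filter fun i => b + 1 ≤ i) := by
          ext i; simp only [Finset.mem_filter, Finset.mem_insert]
          constructor
          · rintro ⟨h1, h2⟩; by_cases hi : i = b
            · exact Or.inl hi
            · exact Or.inr ⟨h1, by omega⟩
          · rintro (rfl | ⟨h1, h2⟩)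
            · exact ⟨hbs, le_rfl⟩
            · exact ⟨h1, by omega⟩
        rw [hset, Finset.sum_insert (by simp), ← h3, hf]; ring
      · have hset : s.filter (fun i => b ≤ i) = s.filter fun i => b + 1 ≤ i := by
          ext i; simp only [Finset.mem_filter]
          constructor
          · rintro ⟨h1, h2⟩
            have : i ≠ b := fun hi => hbs (hi ▸ h1)
            exact ⟨h1, by omega⟩
          · rintro ⟨h1, h2⟩; exact ⟨h1, by omega⟩
        haveI := hzero b hbs
        have h0 : f b = 0 := by
          show ((b.negOnePow : ℤˣ) : ℤ) * _ = 0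
          rw [Module.finrank_zero_of_subsingleton, Nat.cast_zero, mul_zero]
        rw [hset, ← h3]
        linarith [hf, h0]
  obtain ⟨k, hk⟩ : ∃ k : ℕ, B - (k : ℤ) ≤ a := ⟨(B - a).toNat, by omega⟩
  obtain ⟨-, -, h⟩ := key k
  haveI := hzero (B - k) (fun h => by have := ha _ h; omega)
  rw [Module.finrank_zero_of_subsingleton, Nat.cast_zero, mul_zero] at h
  have hfull : s.filter (fun i => B - (k : ℤ) ≤ i) = s :=
    Finset.filter_true_of_mem fun i hi => by have := ha i hi; omega
  rw [hfull] at h
  exact h.symm

end

open CategoryTheory CategoryTheory.Limits in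
/-- Let A be a commutative ring and P a strictly perfect complex over A, that is a cochain complex of
finitely generated projective A-modules which is zero outside a finite set s of degrees. Suppose the
cohomological support of P has positive codimension: for every minimal prime q of A and every degree
i the localization at q of the cohomology module H^i(P) is zero. Then the Euler characteristic of P
vanishes identically: at every prime of A the alternating sum over i ∈ s of the ranks of the P^i is
zero. -/
theorem result {A : Type u} [CommRing A]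
    (P : CochainComplex (ModuleCat.{u} A) ℤ) (s : Finset ℤ)
    (hP : ∀ i : ℤ, Module.Finite A (P.X i) ∧ Module.Projective A (P.X i))
    (hs : ∀ i : ℤ, i ∉ s → IsZero (P.X i))
    (hsupp : ∀ q : PrimeSpectrum A, q.asIdeal ∈ minimalPrimes A →
      ∀ i : ℤ, Subsingleton (LocalizedModule q.asIdeal.primeCompl (P.homology i))) :
    ∀ x : PrimeSpectrum A,
      (s.sum fun i => ((i.negOnePow : ℤˣ) : ℤ) * (Module.rankAtStalk (R := A) (P.X i) x : ℤ)) = 0 := by
  intro x
  obtain ⟨q₀, hq₀, hle⟩ := Ideal.exists_minimalPrimes_le (show (⊥ : Ideal A) ≤ x.asIdeal from bot_le)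
  haveI : q₀.IsPrime := hq₀.1.1
  have := euler_minimal P s hP hs ⟨q₀, inferInstance⟩ (hsupp ⟨q₀, inferInstance⟩ hq₀)
  refine Eq.trans (Finset.sum_congr rfl fun i _ => ?_) this
  haveI := (hP i).1
  haveI := (hP i).2
  rw [rankAtStalk_eq_of_le (P.X i) ⟨q₀, inferInstance⟩ x hle]

end Groth.Agent.S14000
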