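import Groth.Statements.S14001
import Groth.Agent.PerfMorLib.Koszul
import Groth.Agent.KoszulCech.Basics

set_option autoImplicit false
universe u
open CategoryTheory
attribute [local instance] HasDerivedCategory.standard
open KZero

namespace Groth.Agent.S14001

open Limits Pretriangulated Groth.Agent.DRingLib
open scoped ZeroObject

noncomputable section

variable {R : Type u} [CommRing R]

abbrev Pr (R : Type u) [CommRing R] [IsLocalRing R] : ObjectProperty (Dual.D R) := fun K =>
  DRing.IsPerfect R K ∧ ∀ i : ℤ, Module.support R (Dual.HD R K i) ⊆ {IsLocalRing.closedPoint R}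

theorem koszul_eq : ∀ l : List R, Koszul.koszul R l = CohIII.koszulCx (ModuleCat.of R R) l
  | [] => rfl
  | f :: l => by
    show CochainComplex.mappingCone (f • 𝟙 (Koszul.koszul R l)) = _
    rw [koszul_eq l]; rfl

theorem perf_koszul : ∀ l : List R, Perf FProj (DerivedCategory.Q.obj (Koszul.koszul R l))
  | [] => (perf_inD projClass_fProj (M := ModuleCat.of R R) ⟨inferInstance, inferInstance⟩).of_iso
      (singleQZeroIso (ModuleCat.of R R)).symm
  | f :: l => Perf.obj₃ projClass_fProj _
      (DerivedCategory.mappingCone_triangle_distinguished (f • 𝟙 (Koszul.koszul R l))) (perf_koszul l)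
      (perf_koszul l)

/-- Exactness in the middle of the cohomology of a triangle. -/
theorem exact_HD (T : Triangle (Dual.D R)) (hT : T ∈ distTriang _) (i : ℤ) :
    Function.Exact ((DerivedCategory.homologyFunctor (ModuleCat.{u} R) i).map T.mor₁).hom
      ((DerivedCategory.homologyFunctor (ModuleCat.{u} R) i).map T.mor₂).hom :=
  (CategoryTheory.ShortComplex.ShortExact.moduleCat_exact_iff_function_exact _).1
    ((DerivedCategory.homologyFunctor (ModuleCat.{u} R) 0).homologySequence_exact₂ T hT i)

variable [IsLocalRing R]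

theorem hd_shift (K : Dual.D R) (n i : ℤ) :
    Nonempty (Dual.HD R (K⟦n⟧) i ≃ₗ[R] Dual.HD R K (n + i)) :=
  ⟨((((DerivedCategory.homologyFunctor (ModuleCat.{u} R) 0).shiftIso n i (n + i) rfl).app K)).toLinearEquiv⟩

theorem pr_iso {K L : Dual.D R} (e : K ≅ L) (h : Pr R K) : Pr R L :=
  ⟨(isPerfect_iff L).2 (((isPerfect_iff K).1 h.1).of_iso e), fun i =>
    (((DerivedCategory.homologyFunctor (ModuleCat.{u} R) i).mapIso e).toLinearEquiv.support_eq) ▸ h.2 i⟩

theorem pr_shift {K : Dual.D R} (h : Pr R K) (n : ℤ) : Pr R (K⟦n⟧) :=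
  ⟨(isPerfect_iff _).2 (((isPerfect_iff K).1 h.1).shift n), fun i => by
    obtain ⟨e⟩ := hd_shift K n i
    rw [e.support_eq]
    exact h.2 _⟩

theorem pr_obj₂ (T : Triangle (Dual.D R)) (hT : T ∈ distTriang _) (h₁ : Pr R T.obj₁) (h₃ : Pr R T.obj₃) :
    Pr R T.obj₂ := by
  refine ⟨(isPerfect_iff _).2 (Perf.obj₂ projClass_fProj T hT ((isPerfect_iff _).1 h₁.1) ((isPerfect_iff _).1 h₃.1)),
    fun i p hp => ?_⟩
  by_contra hne
  have n1 : p ∉ Module.support R (Dual.HD R T.obj₁ i) := fun h => hne (h₁.2 i h)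
  have n3 : p ∉ Module.support R (Dual.HD R T.obj₃ i) := fun h => hne (h₃.2 i h)
  rw [Module.notMem_support_iff] at n1 n3
  have := LocalizedModule.map_exact p.asIdeal.primeCompl _ _ (exact_HD T hT i)
  refine not_subsingleton_iff_nontrivial.2 (Module.mem_support_iff.1 hp) ⟨fun a b => ?_⟩
  obtain ⟨x, hx⟩ := (this a).1 (Subsingleton.elim _ _)
  obtain ⟨y, hy⟩ := (this b).1 (Subsingleton.elim _ _)
  rw [← hx, ← hy, Subsingleton.elim x y]

theorem pr_obj₁ (T : Triangle (Dual.D R)) (hT : T ∈ distTriang _) (h₂ : Pr R T.obj₂) (h₃ : Pr R T.obj₃) :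
    Pr R T.obj₁ :=
  pr_obj₂ T.invRotate (inv_rot_of_distTriang T hT) (pr_shift h₃ (-1)) h₂

theorem pr_obj₃ (T : Triangle (Dual.D R)) (hT : T ∈ distTriang _) (h₁ : Pr R T.obj₁) (h₂ : Pr R T.obj₂) :
    Pr R T.obj₃ :=
  pr_obj₂ T.rotate (rot_of_distTriang T hT) h₂ (pr_shift h₁ 1)

theorem isZero_hd_of_subsingleton (M : Type u) [AddCommGroup M] [Module R M] [Subsingleton M] :
    IsZero (Dual.inD R M) :=
  Functor.map_isZero _ (ModuleCat.isZero_of_subsingleton _)

theorem pr_zero {K : Dual.D R} (h : IsZero K) : Pr R K :=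
  ⟨(isPerfect_iff _).2 (perf_of_isZero projClass_fProj h), fun i p hp => by
    haveI : Subsingleton (Dual.HD R K i) :=
      ModuleCat.subsingleton_of_isZero (Functor.map_isZero (DerivedCategory.homologyFunctor (ModuleCat.{u} R) i) h)
    exact absurd hp (by simp [Module.support_eq_empty])⟩

theorem cl_add (T : Triangle (Dual.D R)) (hT : T ∈ distTriang _) (h₁ : Pr R T.obj₁) (h₂ : Pr R T.obj₂)
    (h₃ : Pr R T.obj₃) : clTr (Pr R) T.obj₂ = clTr (Pr R) T.obj₁ + clTr (Pr R) T.obj₃ := by
  simp only [clTr, dif_pos h₁, dif_pos h₂, dif_pos h₃]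
  rw [← sub_eq_zero, ← sub_sub]
  exact (QuotientAddGroup.eq_zero_iff _).2 (AddSubgroup.subset_closure ⟨T, h₁, h₂, h₃, hT, rfl⟩)

theorem cl_zero {K : Dual.D R} (h : IsZero K) : clTr (Pr R) K = 0 := by
  have hT : Triangle.mk (0 : K ⟶ K) (0 : K ⟶ K) (0 : K ⟶ K⟦(1 : ℤ)⟧) ∈ distTriang (Dual.D R) :=
    isomorphic_distinguished _ (contractible_distinguished K) _
      (Triangle.isoMk _ _ (Iso.refl _) (Iso.refl _) (h.iso (isZero_zero _)) (h.eq_of_src _ _) (h.eq_of_src _ _)
        (h.eq_of_src _ _))
  have := cl_add _ hT (pr_zero h) (pr_zero h) (pr_zero h)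
  simpa using this

theorem cl_iso {K L : Dual.D R} (e : K ≅ L) (hK : Pr R K) : clTr (Pr R) L = clTr (Pr R) K := by
  have hT : Triangle.mk e.hom (0 : L ⟶ 0) (0 : (0 : Dual.D R) ⟶ K⟦(1 : ℤ)⟧) ∈ distTriang (Dual.D R) :=
    isomorphic_distinguished _ (contractible_distinguished K) _
      (Triangle.isoMk _ _ (Iso.refl _) e.symm (Iso.refl _) (by simp [Triangle.mk, contractibleTriangle])
        ((isZero_zero _).eq_of_tgt _ _) ((isZero_zero _).eq_of_src _ _))
  have := cl_add _ hT hK (pr_iso e hK) (pr_zero (isZero_zero _))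
  simpa [cl_zero (isZero_zero (Dual.D R))] using this

theorem cl_shift_one {K : Dual.D R} (hK : Pr R K) : clTr (Pr R) (K⟦(1 : ℤ)⟧) = -clTr (Pr R) K := by
  have := cl_add _ (rot_of_distTriang _ (contractible_distinguished K)) hK (pr_zero (isZero_zero _)) (pr_shift hK 1)
  change clTr (Pr R) (0 : Dual.D R) = clTr (Pr R) K + clTr (Pr R) (K⟦(1 : ℤ)⟧) at this
  rw [cl_zero (isZero_zero _)] at this
  exact eq_neg_of_add_eq_zero_right this.symm

/-- Membership for all shifts follows from membership for one. -/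
theorem mem_shift {G : AddSubgroup (KZero.K0tr (Pr R))} {K : Dual.D R} (hK : Pr R K)
    (h : clTr (Pr R) K ∈ G) (n : ℤ) : clTr (Pr R) (K⟦n⟧) ∈ G := by
  induction n with
  | zero =>
    rw [cl_iso ((shiftFunctorZero (Dual.D R) ℤ).app K).symm hK]; exact h
  | succ n ih =>
    rw [cl_iso ((shiftFunctorAdd (Dual.D R) (n : ℤ) 1).app K).symm (pr_shift (pr_shift hK _) _)]
    show clTr (Pr R) ((K⟦(n : ℤ)⟧)⟦(1 : ℤ)⟧) ∈ G
    rw [cl_shift_one (pr_shift hK _)]; exact neg_mem ih
  | pred n ih =>
    have e := (shiftFunctorAdd' (Dual.D R) (-(n : ℤ) - 1) 1 (-(n : ℤ)) (by omega)).app K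
    have := cl_iso e (pr_shift hK _)
    dsimp only [Functor.comp_obj] at this
    rw [cl_shift_one (pr_shift hK _)] at this
    exact neg_mem_iff.1 (this ▸ ih)

variable [IsNoetherianRing R] (fs : List R)

/-- Finite modules supported at the closed point. -/
theorem inD_mem (hreg : RingTheory.Sequence.IsRegular R fs) (hgen : Ideal.ofList fs = IsLocalRing.maximalIdeal R)
    (M : Type u) [AddCommGroup M] [Module R M] [hM : Module.Finite R M]
    (hsupp : Module.support R M ⊆ {IsLocalRing.closedPoint R}) :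
    Pr R (Dual.inD R M) ∧ clTr (Pr R) (Dual.inD R M) ∈
      AddSubgroup.closure {clTr (Pr R) (DRing.toD (Koszul.koszul R fs))} := by
  revert hsupp
  refine IsNoetherianRing.induction_on_isQuotientEquivQuotientPrime R (M := M) hM
    (motive := fun N _ _ _ => Module.support R N ⊆ {IsLocalRing.closedPoint R} → Pr R (Dual.inD R N) ∧
      clTr (Pr R) (Dual.inD R N) ∈ AddSubgroup.closure {clTr (Pr R) (DRing.toD (Koszul.koszul R fs))})
    ?_ ?_ ?_
  · intro N _ _ _ _
    intro _
    refine ⟨pr_zero (isZero_hd_of_subsingleton N), ?_⟩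
    rw [cl_zero (isZero_hd_of_subsingleton N)]
    exact zero_mem _
  · intro N _ _ _ p e
    intro hsupp
    have hp : p = IsLocalRing.closedPoint R := hsupp (by
      rw [e.support_eq, Module.support_eq_zeroLocus, Ideal.annihilator_quotient]
      exact le_refl p.asIdeal)
    have hK : LCI.IsKoszulRegularSeq R fs := fun i hi => by
      suffices ∀ C, C = CohIII.koszulCx (ModuleCat.of R R) fs → IsZero (C.homology i) from this _ (koszul_eq fs)
      rintro C rfl
      exact Groth.Agent.KoszulCech.isZero_of_isWeaklyRegular fs R hreg.toIsWeaklyRegular i hi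
    obtain ⟨eK⟩ := Groth.Agent.PerfMorLib.nonempty_iso_inD_of_isKoszulRegular fs hK
    let e' : (R ⧸ Ideal.ofList fs) ≃ₗ[R] N :=
      (Submodule.quotEquivOfEq _ _ (by rw [hp, hgen]; rfl)).trans e.symm
    let iso : DRing.toD (Koszul.koszul R fs) ≅ Dual.inD R N :=
      eK ≪≫ (DerivedCategory.singleFunctor (ModuleCat.{u} R) 0).mapIso e'.toModuleIso
    have hK' : Pr R (DRing.toD (Koszul.koszul R fs)) := by
      refine ⟨(isPerfect_iff _).2 (perf_koszul fs), fun i => ?_⟩
      rw [(((DerivedCategory.homologyFunctor (ModuleCat.{u} R) i).mapIso iso).toLinearEquiv).support_eq]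
      by_cases hi : i = 0
      · subst hi
        exact ((((DerivedCategory.singleFunctorCompHomologyFunctorIso (ModuleCat.{u} R) 0).app
          (ModuleCat.of R N)).toLinearEquiv).support_eq).trans_subset hsupp
      · have hz : IsZero ((DerivedCategory.homologyFunctor (ModuleCat.{u} R) i).obj (Dual.inD R N)) := by
          rcases lt_or_gt_of_ne hi with h | h
          · exact DerivedCategory.isZero_of_isGE _ 0 i h
          · exact DerivedCategory.isZero_of_isLE _ 0 i h
        haveI : Subsingleton (Dual.HD R (Dual.inD R N) i) := ModuleCat.subsingleton_of_isZero hz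
        intro q hq
        exact absurd hq (by simp [Module.support_eq_empty])
    exact ⟨pr_iso iso hK', cl_iso iso hK' ▸ AddSubgroup.subset_closure rfl⟩
  · intro N₁ _ _ _ N₂ _ _ _ N₃ _ _ _ f g hf hg hfg h₁ h₃
    intro hsupp
    obtain ⟨p₁, m₁⟩ := h₁ ((Module.support_subset_of_injective f hf).trans hsupp)
    obtain ⟨p₃, m₃⟩ := h₃ ((Module.support_subset_of_surjective g hg).trans hsupp)
    let S : ShortComplex (ModuleCat.{u} R) :=
      ShortComplex.mk (ModuleCat.ofHom f) (ModuleCat.ofHom g) (ModuleCat.hom_ext hfg.linearMap_comp_eq_zero)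
    have hS : S.ShortExact :=
      { exact := (CategoryTheory.ShortComplex.ShortExact.moduleCat_exact_iff_function_exact S).2 hfg
        mono_f := (ModuleCat.mono_iff_injective _).2 hf
        epi_g := (ModuleCat.epi_iff_surjective _).2 hg }
    have p₂ : Pr R (Dual.inD R N₂) := pr_obj₂ _ hS.singleTriangle_distinguished p₁ p₃
    have := cl_add _ hS.singleTriangle_distinguished p₁ p₂ p₃
    exact ⟨p₂, this ▸ add_mem m₁ m₃⟩

theorem finite_hd {K : Dual.D R} (hK : DRing.IsPerfect R K) (i : ℤ) : Module.Finite R (Dual.HD R K i) := by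
  obtain ⟨E, a, b, -, hfp, ⟨e⟩⟩ := hK
  haveI : Module.Finite R (E.sc i).X₂ := (hfp i).1
  let eH := (E.sc i).moduleCatLeftHomologyData.homologyIso
  haveI : Module.Finite R (E.sc i).moduleCatLeftHomologyData.H :=
    inferInstanceAs (Module.Finite R (LinearMap.ker (E.sc i).g.hom ⧸ LinearMap.range (E.sc i).moduleCatToCycles))
  haveI : Module.Finite R (E.homology i) := Module.Finite.equiv eH.symm.toLinearEquiv
  haveI : Module.Finite R ((HomologicalComplex.homologyFunctor (ModuleCat.{u} R) (ComplexShape.up ℤ) i).obj E) :=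
    inferInstanceAs (Module.Finite R (E.homology i))
  exact Module.Finite.equiv ((((DerivedCategory.homologyFunctorFactors (ModuleCat.{u} R) i).app E).symm ≪≫
    (DerivedCategory.homologyFunctor (ModuleCat.{u} R) i).mapIso e).toLinearEquiv)

theorem cl_mem (hreg : RingTheory.Sequence.IsRegular R fs) (hgen : Ideal.ofList fs = IsLocalRing.maximalIdeal R) :
    ∀ (m : ℕ) (K : Dual.D R), Pr R K → ∀ a : ℤ, K.IsGE a → K.IsLE (a + (m : ℤ) - 1) →
      clTr (Pr R) K ∈ AddSubgroup.closure {clTr (Pr R) (DRing.toD (Koszul.koszul R fs))} := by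
  intro m
  induction m with
  | zero =>
    intro K _ a hGE hLE
    have hz : IsZero K := DerivedCategory.TStructure.t.isZero K (a + (0 : ℕ) - 1) a (by simp)
    rw [cl_zero hz]; exact zero_mem _
  | succ m ih =>
    intro K hK a hGE hLE
    obtain ⟨X, Y, hX, hY, f, g, h, hT⟩ := DerivedCategory.TStructure.t.exists_triangle K a (a + 1) rfl
    haveI : X.IsLE a := ⟨hX⟩
    haveI : Y.IsGE (a + 1) := ⟨hY⟩
    haveI : K.IsGE a := hGE
    haveI : K.IsLE (a + ((m + 1 : ℕ) : ℤ) - 1) := hLE
    haveI : X.IsGE a := by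
      haveI : DerivedCategory.TStructure.t.IsGE Y (a + 1) := ⟨hY⟩
      haveI h1 : DerivedCategory.TStructure.t.IsGE (Y⟦(-1 : ℤ)⟧) a :=
        haveI := DerivedCategory.TStructure.t.isGE_shift Y (a + 1) (-1) (a + 2) (by omega)
        DerivedCategory.TStructure.t.isGE_of_ge _ a (a + 2) (by omega)
      exact DerivedCategory.TStructure.t.isGE₂ _ (inv_rot_of_distTriang _ hT) a h1 hGE
    haveI : Y.IsLE (a + ((m + 1 : ℕ) : ℤ) - 1 + 0) := by
      rw [add_zero]
      haveI : DerivedCategory.TStructure.t.IsLE X a := ⟨hX⟩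
      haveI h1 : DerivedCategory.TStructure.t.IsLE (X⟦(1 : ℤ)⟧) (a + ((m + 1 : ℕ) : ℤ) - 1) :=
        haveI := DerivedCategory.TStructure.t.isLE_shift X a 1 (a - 1) (by omega)
        DerivedCategory.TStructure.t.isLE_of_le _ (a - 1) _ (by push_cast; omega)
      exact DerivedCategory.TStructure.t.isLE₂ _ (rot_of_distTriang _ hT) _ hLE h1
    obtain ⟨N, ⟨eN⟩⟩ := DerivedCategory.exists_iso_singleFunctor_obj_of_isGE_of_isLE X a
    let eh : Dual.HD R X a ≃ₗ[R] N := (((DerivedCategory.homologyFunctor (ModuleCat.{u} R) a).mapIso eN) ≪≫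
      (DerivedCategory.singleFunctorCompHomologyFunctorIso (ModuleCat.{u} R) a).app N).toLinearEquiv
    have hinj : Function.Injective ((DerivedCategory.homologyFunctor (ModuleCat.{u} R) a).map f).hom := by
      refine (ModuleCat.mono_iff_injective _).1 ?_
      refine (DerivedCategory.HomologySequence.mono_homologyMap_mor₁_iff _ hT (a - 1) a (by omega)).2 ?_
      exact (DerivedCategory.isZero_of_isGE Y (a + 1) (a - 1) (by omega)).eq_of_src _ _
    haveI := finite_hd hK.1 a
    haveI : Module.Finite R (Dual.HD R X a) := Module.Finite.of_injective _ hinj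
    haveI : Module.Finite R N := Module.Finite.equiv eh
    obtain ⟨pN, mN⟩ := inD_mem fs hreg hgen N (by
      rw [← eh.support_eq]
      exact (Module.support_subset_of_injective _ hinj).trans (hK.2 a))
    let eX : (Dual.inD R N)⟦-a⟧ ≅ X :=
      (((DerivedCategory.singleFunctors (ModuleCat.{u} R)).shiftIso (-a) a 0 (by omega)).app N) ≪≫ eN.symm
    have pX : Pr R X := pr_iso eX (pr_shift pN _)
    have pY : Pr R Y := pr_obj₃ _ hT pX hK
    have hsum : clTr (Pr R) K = clTr (Pr R) X + clTr (Pr R) Y := cl_add _ hT pX hK pY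
    rw [hsum]
    refine add_mem ?_ (ih Y pY (a + 1) inferInstance ?_)
    · rw [cl_iso eX (pr_shift pN _)]
      exact mem_shift pN mN _
    · have : Y.IsLE (a + ((m + 1 : ℕ) : ℤ) - 1 + 0) := inferInstance
      convert this using 1
      push_cast; ring

end

/-- Let R be a Noetherian local ring whose maximal ideal is generated by an R-regular sequence f_1, …,
f_n. Let K_0 be the Grothendieck group of the full triangulated subcategory of D(R) consisting of
the perfect complexes all of whose cohomology modules are supported at the closed point (the perfect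
complexes acyclic off the closed point): the free abelian group on these objects modulo the
relations of distinguished triangles with all three vertices in the subcategory. Then K_0 is
generated by the class of the Koszul complex of f_1, …, f_n. -/
theorem result (R : Type u) [CommRing R]
    [IsNoetherianRing R] [IsLocalRing R] (fs : List R) (hreg : RingTheory.Sequence.IsRegular R fs)
    (hgen : Ideal.ofList fs = IsLocalRing.maximalIdeal R) :
    AddSubgroup.closure
        {KZero.clTr (fun K : Dual.D R => DRing.IsPerfect R K ∧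
            ∀ i : ℤ, Module.support R (Dual.HD R K i) ⊆ {IsLocalRing.closedPoint R})
          (DRing.toD (Koszul.koszul R fs))} = ⊤ := by
  classical
  rw [eq_top_iff]
  rintro x -
  induction x using QuotientAddGroup.induction_on with
  | H x =>
    induction x using FreeAbelianGroup.induction_on with
    | zero => exact zero_mem _
    | of K =>
      obtain ⟨E, a, b, hab, -, ⟨e⟩⟩ := K.2.1
      haveI : CochainComplex.IsStrictlyGE E a := (CochainComplex.isStrictlyGE_iff E a).2 fun i hi => hab i (Or.inl hi)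
      have hLE : DerivedCategory.IsLE K.1 (a + ((b - a + 1).toNat : ℤ) - 1) := by
        rw [DerivedCategory.isLE_iff]
        intro i hi
        exact ((HomologicalComplex.exactAt_iff_isZero_homology E i).1 ((HomologicalComplex.exactAt_iff E i).2
          (ShortComplex.exact_of_isZero_X₂ _ (hab i (Or.inr (by omega)))))).of_iso
          ((DerivedCategory.homologyFunctor (ModuleCat.{u} R) i).mapIso e.symm ≪≫
            (DerivedCategory.homologyFunctorFactors (ModuleCat.{u} R) i).app E)
      have hGE : DerivedCategory.IsGE K.1 a :=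
        DerivedCategory.TStructure.t.isGE_of_iso e a
      have := cl_mem fs hreg hgen (b - a + 1).toNat K.1 K.2 a hGE hLE
      have e' : clTr (Pr R) K.1 = QuotientAddGroup.mk (FreeAbelianGroup.of K) := dif_pos K.2
      rw [e'] at this
      exact this
    | neg K h => rw [QuotientAddGroup.mk_neg]; exact neg_mem h
    | add x y hx hy => rw [QuotientAddGroup.mk_add]; exact add_mem hx hy

end Groth.Agent.S14001
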