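import Mathlib
import Mathlib
import Groth.Statements.S14002

set_option autoImplicit false
universe u
open CAlg
open TensorProduct

namespace Groth.Agent.S14002

open TensorProduct in
/-- Flatness of an adic morphism of locally Noetherian formal schemes is detected on the truncations.
Let B → A be a homomorphism of Noetherian rings and J an ideal of B such that A is adically
separated and complete with respect to the extended ideal JA. Then A is a flat B-module if and only
if for every n ≥ 1 the base change (B/Jⁿ) ⊗_B A = A/JⁿA is a flat (B/Jⁿ)-module. The ring B is not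
assumed separated or complete for the J-adic topology. (The published statement is about an adic
morphism of locally Noetherian formal schemes, so that both rings are adic there; the criterion
holds without that assumption on B.) -/
theorem result (B A : Type u) [CommRing B] [CommRing A]
    [IsNoetherianRing B] [IsNoetherianRing A] [Algebra B A] (J : Ideal B)
    [IsAdicComplete (J.map (algebraMap B A)) A] :
    Module.Flat B A ↔ ∀ n : ℕ, 0 < n → Module.Flat (B ⧸ J ^ n) ((B ⧸ J ^ n) ⊗[B] A) := by
  refine ⟨fun h n _ => inferInstance, fun h => ?_⟩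
  classical
  refine Module.Flat.iff_rTensor_injective.2 fun 𝔞 h𝔞 => ?_
  obtain ⟨s, f, hf⟩ := Submodule.fg_iff_exists_fin_generating_family.1 h𝔞
  have hfm : ∀ i, f i ∈ 𝔞 := fun i => hf ▸ Submodule.subset_span ⟨i, rfl⟩
  let g : Fin s → 𝔞 := fun i => ⟨f i, hfm i⟩
  let Φ : (Fin s → A) →ₗ[A] A ⊗[B] 𝔞 := Fintype.linearCombination A fun i => (1 : A) ⊗ₜ[B] g i
  have hΦ : ∀ v, Φ v = ∑ i, v i ⊗ₜ[B] g i := fun v => by
    simp [Φ, Fintype.linearCombination_apply, TensorProduct.smul_tmul']
  have hsurj : Function.Surjective Φ := by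
    intro z
    induction z using TensorProduct.induction_on with
    | zero => exact ⟨0, map_zero _⟩
    | add a b ha hb =>
      obtain ⟨v, rfl⟩ := ha
      obtain ⟨w, rfl⟩ := hb
      exact ⟨v + w, map_add _ _ _⟩
    | tmul m a =>
      obtain ⟨c, hc⟩ := (Submodule.mem_span_range_iff_exists_fun B).1 (hf.symm ▸ a.2 : (a : B) ∈ Submodule.span B (Set.range f))
      refine ⟨fun i => c i • m, ?_⟩
      rw [hΦ, show a = ∑ i, c i • g i from Subtype.ext (by
        rw [AddSubmonoidClass.coe_finsetSum]; exact hc.symm), TensorProduct.tmul_sum]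
      exact Finset.sum_congr rfl fun i _ => TensorProduct.smul_tmul _ _ _
  haveI : Module.Finite A (A ⊗[B] 𝔞) := Module.Finite.of_surjective Φ hsurj
  set JA := J.map (algebraMap B A) with hJA
  rw [← LinearMap.ker_eq_bot, LinearMap.ker_eq_bot']
  intro z hz
  obtain ⟨x, hx⟩ := hsurj (TensorProduct.comm B 𝔞 A z)
  have hz' : z = ∑ i, g i ⊗ₜ[B] x i := by
    rw [← (TensorProduct.comm B 𝔞 A).symm_apply_apply z, ← hx, hΦ, map_sum]
    simp
  have hrel : ∑ i, f i • x i = 0 := by
    have := congrArg (TensorProduct.lid B A) hz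
    rw [hz', map_sum, map_sum, map_zero] at this
    simpa [g] using this
  suffices hzero : Φ x = 0 by
    rw [← (TensorProduct.comm B 𝔞 A).symm_apply_apply z, ← hx, hzero, map_zero]
  rw [← Submodule.mem_bot A, ← Ideal.iInf_pow_smul_eq_bot_of_le_jacobson JA (M := A ⊗[B] 𝔞)
    (IsAdicComplete.le_jacobson_bot JA), Submodule.mem_iInf]
  intro k
  obtain ⟨c, hc⟩ := Ideal.exists_pow_inf_eq_pow_smul J (𝔞 : Submodule B B)
  set N := k + c + 1
  let q : A →ₗ[B] (B ⧸ J ^ N) ⊗[B] A := TensorProduct.mk B (B ⧸ J ^ N) A 1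
  have hq : Function.Surjective q :=
    TensorProduct.mk_surjective (R := B) (S := B ⧸ J ^ N) (M := A) Ideal.Quotient.mk_surjective
  have hqker : ∀ m, q m = 0 → m ∈ JA ^ k := fun m hm => by
    have h1 := congrArg (TensorProduct.quotTensorEquivQuotSMul A (J ^ N)) hm
    rw [map_zero] at h1
    have h2 : (Submodule.Quotient.mk m : A ⧸ (J ^ N • ⊤ : Submodule B A)) = 0 :=
      (TensorProduct.quotTensorEquivQuotSMul_mk_one_tmul _ _).symm.trans h1
    rw [Submodule.Quotient.mk_eq_zero, Ideal.smul_top_eq_map, Submodule.restrictScalars_mem, Ideal.map_pow] at h2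
    exact Ideal.pow_le_pow_right (by omega) h2
  have h0 : ∑ i, algebraMap B (B ⧸ J ^ N) (f i) • q (x i) = 0 := by
    simp only [algebraMap_smul, ← map_smul, ← map_sum, hrel, map_zero]
  haveI := h N (by omega)
  obtain ⟨l, a', y', hxy, hfa⟩ := Module.Flat.isTrivialRelation_of_sum_smul_eq_zero h0
  choose a ha using fun i j => Ideal.Quotient.mk_surjective (a' i j)
  choose y hy using fun j => hq (y' j)
  have hd : ∀ i, x i - ∑ j, a i j • y j ∈ JA ^ k := fun i => hqker _ (by
    rw [map_sub, map_sum, sub_eq_zero]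
    refine (hxy i).trans (Finset.sum_congr rfl fun j _ => ?_)
    rw [map_smul, hy, ← ha, ← Ideal.Quotient.algebraMap_eq, algebraMap_smul])
  have hb : ∀ j, ∑ i, a i j • g i ∈ J ^ k • (⊤ : Submodule B 𝔞) := by
    intro j
    have h1 : ∑ i, a i j * f i ∈ J ^ N := by
      rw [← Ideal.Quotient.eq_zero_iff_mem, map_sum]
      refine Eq.trans (Finset.sum_congr rfl fun i _ => ?_) (hfa j)
      rw [map_mul, ha, mul_comm]
      rfl
    have h3 : ∑ i, a i j * f i ∈ J ^ N • (⊤ : Submodule B B) ⊓ (𝔞 : Submodule B B) :=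
      ⟨by rw [smul_eq_mul, Ideal.mul_top]; exact h1, 𝔞.sum_mem fun i _ => 𝔞.mul_mem_left _ (hfm i)⟩
    rw [hc N (by omega)] at h3
    rw [← Submodule.comap_map_eq_of_injective (f := 𝔞.subtype) 𝔞.injective_subtype (J ^ k • ⊤),
      Submodule.mem_comap, Submodule.map_smul'', Submodule.map_top, Submodule.range_subtype]
    show (𝔞.subtype (∑ i, a i j • g i)) ∈ _
    rw [map_sum]
    exact Submodule.smul_mono (Ideal.pow_le_pow_right (by omega)) inf_le_right h3
  have hsplit : Φ x = ∑ i, (x i - ∑ j, a i j • y j) ⊗ₜ[B] g i + ∑ j, y j ⊗ₜ[B] (∑ i, a i j • g i) := by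
    rw [hΦ]
    simp only [TensorProduct.sub_tmul, Finset.sum_sub_distrib, TensorProduct.sum_tmul,
      TensorProduct.tmul_sum, TensorProduct.smul_tmul]
    rw [Finset.sum_comm (f := fun i j => y j ⊗ₜ[B] (a i j • g i)), sub_add_cancel]
  rw [hsplit]
  refine add_mem (sum_mem fun i _ => ?_) (sum_mem fun j _ => ?_)
  · rw [← mul_one (x i - ∑ j, a i j • y j), ← smul_eq_mul, ← TensorProduct.smul_tmul']
    exact Submodule.smul_mem_smul (hd i) trivial
  · have hbj := hb j
    generalize (∑ i, a i j • g i) = v at hbj ⊢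
    induction hbj using Submodule.smul_induction_on' with
    | smul r hr v _ =>
      rw [TensorProduct.tmul_smul, ← algebraMap_smul A r]
      refine Submodule.smul_mem_smul ?_ trivial
      rw [← Ideal.map_pow]
      exact Ideal.mem_map_of_mem _ hr
    | add u _ v _ hu hv => rw [TensorProduct.tmul_add]; exact add_mem hu hv

end Groth.Agent.S14002
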