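import Groth.Statements.S14003
import Groth.Agent.DevLib.Apps
import Groth.Agent.DevLib.TFSub
import Groth.Agent.K0ResLib.Basic
import Groth.Agent.DCohLib.PerfCoh

set_option autoImplicit false
universe u
open CategoryTheory AlgebraicGeometry
open KZero

namespace Groth.Agent.S14003

open Limits Groth.Agent.DevLib

theorem clSub_isZero {A : Type (u + 1)} [Category.{u} A] [Abelian A] {P : ObjectProperty A} {M : A}
    (h : IsZero M) : KZero.clSub P M = 0 := by
  by_cases hM : P M
  · have hS : (ShortComplex.mk (0 : M ⟶ M) (0 : M ⟶ M) zero_comp).ShortExact :=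
      { exact := ShortComplex.exact_of_isZero_X₂ _ h
        mono_f := ⟨fun _ _ _ => h.eq_of_tgt _ _⟩
        epi_g := ⟨fun _ _ _ => h.eq_of_src _ _⟩ }
    simpa using Groth.Agent.K0ResLib.clSub_add hS hM hM hM
  · exact dif_neg hM


/-- Let X be a Noetherian scheme and Y' a closed subset; write K_0 for the Grothendieck group of the
abelian category of coherent O_X-modules with support in Y' (free abelian group on its objects
modulo the relations of short exact sequences). Let (F_a) be a family of such modules such that for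
every irreducible closed subset Z ⊆ Y' with generic point ζ there is an index a with the support of
F_a contained in Z and the stalk of F_a at ζ of length one over the local ring (a one-dimensional
vector space over the residue field). Then the classes of the F_a generate K_0. (The published
statement omits the condition that the support of F_a lie in Z; without it the claim fails already
for the spectrum of a product of two fields, where the modules k_1 ⊕ k_2 ⊕ k_2 and k_1 ⊕ k_1 ⊕ k_2
have one-dimensional stalks at the two points but their classes generate a subgroup of index 3 in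
K_0 = ℤ².) -/
theorem result (X : Scheme.{u}) [IsNoetherian X]
    (Y' : Set X) (hY' : IsClosed Y') {ι : Type u} (F : ι → X.Modules)
    (hF : ∀ a : ι, Coh.IsCoh (F a) ∧ CohB1.support (F a) ⊆ Y')
    (hgen : ∀ (Z : Set X), IsClosed Z → IsIrreducible Z → Z ⊆ Y' → ∀ y : X, closure ({y} : Set X) = Z →
      ∃ a : ι, CohB1.support (F a) ⊆ Z ∧ Module.length (X.presheaf.stalk y) ((F a).presheaf.stalk y) = 1) :
    AddSubgroup.closure (Set.range fun a : ι =>
        KZero.clSub (fun G : X.Modules => Coh.IsCoh G ∧ CohB1.support G ⊆ Y') (F a)) = ⊤ := by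
  classical
  let P₀ : ObjectProperty X.Modules := fun G => Coh.IsCoh G ∧ CohB1.support G ⊆ Y'
  let G := AddSubgroup.closure (Set.range fun a : ι => KZero.clSub P₀ (F a))
  let P : X.Modules → Prop := fun M => CohB1.support M ⊆ Y' → KZero.clSub P₀ M ∈ G
  have hzero : ∀ M : X.Modules, IsZero M → P M := fun M hM _ => by
    rw [clSub_isZero hM]; exact zero_mem _
  have hiso : ∀ M N : X.Modules, Nonempty (M ≅ N) → P M → P N := by
    rintro M N ⟨e⟩ h hN
    by_cases hNc : P₀ N
    · have hM : P₀ M := ⟨Groth.Agent.DCohLib.isCoh_iso e.symm hNc.1,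
        (Groth.Agent.DevLib.support_subset_of_mono e.hom).trans hNc.2⟩
      have hz : IsZero (kernel e.hom) := isZero_kernel_of_mono e.hom
      have hS : (ShortComplex.mk (kernel.ι e.hom) e.hom (kernel.condition _)).ShortExact :=
        { exact := ShortComplex.exact_of_f_is_kernel _ (kernelIsKernel _) }
      have := Groth.Agent.K0ResLib.clSub_add (P := P₀) hS ⟨isCoh_of_isZero hz,
        (Groth.Agent.DevLib.support_subset_of_mono (kernel.ι e.hom)).trans hM.2⟩ hM hNc
      rw [clSub_isZero hz, zero_add] at this
      exact this ▸ h hM.2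
    · rw [KZero.clSub, dif_neg hNc]; exact zero_mem _
  have h : ∀ S : ShortComplex X.Modules, S.ShortExact → Coh.IsCoh S.X₁ → Coh.IsCoh S.X₂ → Coh.IsCoh S.X₃ →
      CohB1.support S.X₂ ⊆ Y' →
      (P S.X₁ → P S.X₂ → P S.X₃) ∧ (P S.X₁ → P S.X₃ → P S.X₂) ∧ (P S.X₂ → P S.X₃ → P S.X₁) := by
    intro S hS c₁ c₂ c₃ h₂
    have hu := Groth.Agent.DevLib.support_X₂ hS
    have h₁ : CohB1.support S.X₁ ⊆ Y' := fun x hx => h₂ (hu ▸ Or.inl hx)
    have h₃ : CohB1.support S.X₃ ⊆ Y' := fun x hx => h₂ (hu ▸ Or.inr hx)
    have e := Groth.Agent.K0ResLib.clSub_add (P := P₀) hS ⟨c₁, h₁⟩ ⟨c₂, h₂⟩ ⟨c₃, h₃⟩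
    refine ⟨fun p q _ => ?_, fun p q _ => ?_, fun p q _ => ?_⟩
    · rw [eq_sub_of_add_eq' e.symm]; exact sub_mem (q h₂) (p h₁)
    · rw [e]; exact add_mem (p h₁) (q h₃)
    · rw [eq_sub_of_add_eq e.symm]; exact sub_mem (p h₂) (q h₃)
  rw [eq_top_iff]
  rintro x -
  induction x using QuotientAddGroup.induction_on with
  | H x =>
    induction x using FreeAbelianGroup.induction_on with
    | zero => exact zero_mem _
    | of M =>
      have := Groth.Agent.DevLib.devissage Y' P hiso hzero (fun S hS c₁ c₂ c₃ h₂ => (h S hS c₁ c₂ c₃ h₂).2.1)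
        (fun ξ hξ hcl Q hQ hsm => by
          obtain ⟨a, hsa, hlen⟩ := hgen _ isClosed_closure isIrreducible_singleton.closure hcl ξ rfl
          exact piece_of_two_three Y' hcl P hiso h (hF a).1 (fun y hy => specializes_iff_mem_closure.2 (hsa hy))
            (Module.length_eq_one_iff.1 hlen) (fun _ => AddSubgroup.subset_closure ⟨a, rfl⟩) hQ hsm)
        M.1 M.2.1 M.2.2 M.2.2
      rw [Groth.Agent.K0ResLib.clSub_of (P := P₀) M.2] at this
      exact this
    | neg K h => rw [QuotientAddGroup.mk_neg]; exact neg_mem h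
    | add x y hx hy => rw [QuotientAddGroup.mk_add]; exact add_mem hx hy

end Groth.Agent.S14003
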