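import Groth.Statements.S14004
import Mathlib
import Groth.Agent.S1309
import Groth.Agent.S2762
import Groth.Agent.ThickBC.Props
import Groth.Agent.FSchLevLib.Basic

set_option autoImplicit false
universe u
open CategoryTheory AlgebraicGeometry
open FSch

namespace Groth.Agent.S14004

open CategoryTheory.Limits

theorem toX_props' (S : FSch.Sys.{u}) (hS : S.IsFormal) : ∀ n : ℕ,
    IsClosedImmersion (S.toX n) ∧ Surjective (S.toX n)
  | 0 => ⟨inferInstanceAs (IsClosedImmersion (𝟙 (S.X 0))), inferInstanceAs (Surjective (𝟙 (S.X 0)))⟩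
  | n + 1 => by
    haveI := (toX_props' S hS n).1
    haveI := (toX_props' S hS n).2
    haveI := (hS n).1
    haveI : Surjective (S.ι n) := ⟨(hS n).2⟩
    exact ⟨inferInstanceAs (IsClosedImmersion (S.toX n ≫ S.ι n)), inferInstanceAs (Surjective (S.toX n ≫ S.ι n))⟩

theorem exists_factor {Y0 Y F : Scheme.{u}} (j : Y0 ⟶ Y) [IsClosedImmersion j] [Surjective j]
    (a : F ⟶ Y) [IsReduced F] : ∃ q : F ⟶ Y0, q ≫ j = a := by
  haveI : IsClosedImmersion (pullback.fst a j) := inferInstance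
  haveI : Surjective (pullback.fst a j) := inferInstance
  haveI := isIso_of_isClosedImmersion_of_surjective (pullback.fst a j)
  exact ⟨inv (pullback.fst a j) ≫ pullback.snd a j, by rw [Category.assoc, ← pullback.condition, IsIso.inv_hom_id_assoc]⟩

/-- Formal schemes are modelled as ℕ-indexed systems of thickenings. Let 𝔛 and 𝔜 be locally Noetherian
adic formal systems and f : 𝔛 ⟶ 𝔜 an adic morphism (every square X_n → X_{n+1}, Y_n → Y_{n+1}
cartesian) all of whose levels f_n : X_n ⟶ Y_n are flat. Then f is smooth, in the sense that every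
level f_n is smooth, if and only if the bottom level f_0 is smooth. -/
theorem result (𝔛 𝔜 : FSch.Sys.{u})
    (h𝔛 : 𝔛.IsLocNoethFormal) (h𝔜 : 𝔜.IsLocNoethFormal) (f : 𝔛 ⟶ 𝔜) (hf : FSch.IsAdicHom f)
    (hflat : ∀ n : ℕ, Flat ((f : FSch.Hom 𝔛 𝔜).app n)) :
    (∀ n : ℕ, AlgebraicGeometry.Smooth ((f : FSch.Hom 𝔛 𝔜).app n)) ↔
      AlgebraicGeometry.Smooth ((f : FSch.Hom 𝔛 𝔜).app 0) := by
  refine ⟨fun h => h 0, fun h0 => ?_⟩
  have hft : ∀ n, LocallyOfFiniteType ((f : FSch.Hom 𝔛 𝔜).app n) := by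
    intro n
    induction n with
    | zero => infer_instance
    | succ n ih =>
      haveI := (h𝔜.1 n).1
      haveI : Surjective (𝔜.ι n) := ⟨(h𝔜.1 n).2⟩
      have hS : MoreMor.IsFiniteOrderThickening (𝔜.ι n) := ⟨⟨inferInstance, inferInstance⟩, 2, by
        rw [h𝔜.2.1 n, ← pow_mul]
        rw [show (n + 1) * 2 = n + (n + 1 + 1) by ring, pow_add, FSchLevLib.pow_ker_toX 𝔜 h𝔜.1 h𝔜.2.1 (n + 1),
          ← Scheme.IdealSheafData.zero_eq_bot, mul_zero]⟩
      exact (Groth.Agent.S1309.result (𝔛.ι n) (𝔜.ι n) _ _ hS (hf n)).1 ih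
  have hsq : ∀ n, IsPullback (𝔛.toX n) ((f : FSch.Hom _ _).app 0) ((f : FSch.Hom _ _).app n) (𝔜.toX n) := by
    intro n
    induction n with
    | zero => exact IsPullback.id_horiz _
    | succ n ih => exact ih.paste_horiz (hf n)
  intro n
  haveI := hft n
  haveI := hflat n
  haveI := h𝔜.2.2 n
  haveI : LocallyOfFinitePresentation ((f : FSch.Hom 𝔛 𝔜).app n) := inferInstance
  rw [Groth.Agent.S2762.result (𝟙 (𝔜.X n)) ((f : FSch.Hom 𝔛 𝔜).app n) ((f : FSch.Hom 𝔛 𝔜).app n) (Category.comp_id _)]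
  intro s
  haveI := (toX_props' 𝔜 h𝔜.1 n).1
  haveI := (toX_props' 𝔜 h𝔜.1 n).2
  haveI : IsReduced ((𝟙 (𝔜.X n) : 𝔜.X n ⟶ 𝔜.X n).fiber s) := by
    have ho := MorphismProperty.of_isPullback (P := @IsOpenImmersion)
      (IsPullback.of_hasPullback (𝟙 (𝔜.X n)) ((𝔜.X n).fromSpecResidueField s)) inferInstance
    exact @isReduced_of_isOpenImmersion _ _ (pullback.snd (𝟙 (𝔜.X n)) ((𝔜.X n).fromSpecResidueField s)) ho _
  obtain ⟨q, hq⟩ := exists_factor (𝔜.toX n) ((𝟙 (𝔜.X n) : 𝔜.X n ⟶ 𝔜.X n).fiberι s)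
  rw [← hq]
  let e := pullback.lift (pullback.fst ((f : FSch.Hom _ _).app 0) q ≫ 𝔛.toX n) (pullback.snd ((f : FSch.Hom _ _).app 0) q)
    (by rw [Category.assoc, (hsq n).w, pullback.condition_assoc]) (f := (f : FSch.Hom _ _).app n) (g := q ≫ 𝔜.toX n)
  have hbig : IsPullback (pullback.fst ((f : FSch.Hom _ _).app 0) q ≫ 𝔛.toX n) (pullback.snd ((f : FSch.Hom _ _).app 0) q)
      ((f : FSch.Hom _ _).app n) (q ≫ 𝔜.toX n) := (IsPullback.of_hasPullback _ q).paste_horiz (hsq n)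
  have e' := (IsPullback.of_hasPullback ((f : FSch.Hom _ _).app n) (q ≫ 𝔜.toX n)).isoIsPullback _ _ hbig
  have := hbig
  rw [← (IsPullback.of_hasPullback ((f : FSch.Hom _ _).app n) (q ≫ 𝔜.toX n)).isoIsPullback_hom_snd _ _ hbig]
  haveI : AlgebraicGeometry.Smooth (pullback.snd ((f : FSch.Hom _ _).app 0) q) := MorphismProperty.of_isPullback (P := @AlgebraicGeometry.Smooth) (IsPullback.of_hasPullback _ q) h0
  infer_instance

end Groth.Agent.S14004
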