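import Groth.Statements.S14005
import Mathlib.AlgebraicGeometry.Properties
import Mathlib.Topology.NoetherianSpace
import Mathlib.Topology.Sober

-- import your own Groth.Agent.* helpers here

set_option autoImplicit false
universe u
open CategoryTheory AlgebraicGeometry
open CohTop

namespace Groth.Agent.S14005

/-- Take a scheme X with a locally Noetherian underlying topological space, F a sheaf of abelian groups
on X, x a point of X and s an element of the stalk F_x. Then the following are equivalent: (i) s is
the germ of a section t over some open neighbourhood U of x whose support in U is contained in the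
closure of {x} (that is, s belongs to the subgroup Γ_x(F) of F_x); (ii) for every generization y ≠ x
of x the image of s under the cospecialisation map F_x → F_y is zero (that is, viewed as a global
section of the inverse image of F on Spec O_{X,x}, s is supported at the closed point). -/
theorem result {X : Scheme.{u}}
    (hX : ∀ x : X, ∃ U : X.Opens, x ∈ U ∧ TopologicalSpace.NoetherianSpace U)
    (F : TopCat.Sheaf AddCommGrpCat.{u} X.carrier) (x : X) (s : F.presheaf.stalk x) :
    (∃ (U : X.Opens) (hx : x ∈ U) (t : F.presheaf.obj (Opposite.op U)),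
        F.presheaf.germ U x hx t = s ∧
          ∀ (u : X) (hu : u ∈ U), F.presheaf.germ U u hu t ≠ 0 → u ∈ closure ({x} : Set X)) ↔
      ∀ (y : X) (h : y ⤳ x), y ≠ x → F.presheaf.stalkSpecializes h s = 0 := by
  classical
  constructor
  · rintro ⟨U, hx, t, rfl, hsupp⟩ y h hne
    have hy : y ∈ U := h.mem_open U.isOpen hx
    have e : F.presheaf.stalkSpecializes h (F.presheaf.germ U x hx t) = F.presheaf.germ U y hy t :=
      TopCat.Presheaf.germ_stalkSpecializes_apply F.presheaf hx h t
    rw [e]
    by_contra h0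
    have hxy : x ⤳ y := specializes_iff_mem_closure.2 (hsupp y hy h0)
    exact hne (h.antisymm hxy).eq
  · intro hs
    obtain ⟨U₀, hxU₀, hN⟩ := hX x
    obtain ⟨U', hx', t', ht'⟩ := F.presheaf.exists_germ_eq s
    let U : X.Opens := U' ⊓ U₀
    have hxU : x ∈ U := ⟨hx', hxU₀⟩
    let t := F.presheaf.map (homOfLE (inf_le_left : U ≤ U')).op t'
    have ht : F.presheaf.germ U x hxU t = s := by
      rw [← ht']; exact TopCat.Presheaf.germ_res_apply _ _ _ _ _
    haveI : TopologicalSpace.NoetherianSpace (U : Set X) :=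
      haveI : TopologicalSpace.NoetherianSpace (U₀ : Set X) := hN
      (Topology.IsInducing.subtypeVal.codRestrict (fun u : (U : Set X) => u.2.2) :
        Topology.IsInducing fun u : (U : Set X) => (⟨u.1, u.2.2⟩ : (U₀ : Set X))).noetherianSpace
    let Z : Set (U : Set X) := {u | F.presheaf.germ U u.1 u.2 t ≠ 0}
    have hZ : IsClosed Z := by
      rw [← isOpen_compl_iff, isOpen_iff_forall_mem_open]
      intro u hu
      have hu' : F.presheaf.germ U u.1 u.2 t = F.presheaf.germ U u.1 u.2 0 := by
        rw [map_zero]; exact not_not.1 hu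
      obtain ⟨W, hW, i₁, i₂, e⟩ := F.presheaf.germ_eq u.1 u.2 u.2 t 0 hu'
      refine ⟨Subtype.val ⁻¹' (W : Set X), fun v hv => not_not.2 ?_,
        W.isOpen.preimage continuous_subtype_val, hW⟩
      rw [← TopCat.Presheaf.germ_res_apply F.presheaf i₁ v.1 hv t, e, map_zero, map_zero]
    obtain ⟨S, hSf, hSc, hSi, hSZ⟩ :=
      TopologicalSpace.NoetherianSpace.exists_finite_set_isClosed_irreducible hZ
    let B : Set (U : Set X) := ⋃ T ∈ {T ∈ S | (⟨x, hxU⟩ : (U : Set X)) ∉ T}, T
    have hB : IsClosed B := (hSf.subset fun T hT => hT.1).isClosed_biUnion fun T hT => hSc T hT.1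
    let W : X.Opens := ⟨Subtype.val '' Bᶜ, U.isOpen.isOpenMap_subtype_val _ hB.isOpen_compl⟩
    have hWU : W ≤ U := fun v ⟨w, _, hw⟩ => hw ▸ w.2
    have hxW : x ∈ W := ⟨⟨x, hxU⟩, fun h => by
      obtain ⟨T, hT, hxT⟩ := Set.mem_iUnion₂.1 h
      exact hT.2 hxT, rfl⟩
    refine ⟨W, hxW, F.presheaf.map (homOfLE hWU).op t, ?_, fun u hu h0 => ?_⟩
    · rw [← ht]; exact TopCat.Presheaf.germ_res_apply _ _ _ _ _
    rw [TopCat.Presheaf.germ_res_apply] at h0
    obtain ⟨w, hwB, hwu⟩ := hu
    subst hwu
    have hwZ : w ∈ Z := h0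
    rw [hSZ] at hwZ
    obtain ⟨T, hTS, hwT⟩ := hwZ
    have hxT : (⟨x, hxU⟩ : (U : Set X)) ∈ T := by
      by_contra hn
      exact hwB (Set.mem_iUnion₂.2 ⟨T, ⟨hTS, hn⟩, hwT⟩)
    -- the generic point of the component
    have hirr : IsIrreducible (Subtype.val '' T : Set X) :=
      (hSi T hTS).image _ continuous_subtype_val.continuousOn
    have hη := hirr.isGenericPoint_genericPoint_closure
    have hηU : hirr.genericPoint ∈ U := by
      refine (hη.mem_open_set_iff U.isOpen).2 ⟨x, subset_closure ⟨_, hxT, rfl⟩, hxU⟩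
    have hηT : (⟨hirr.genericPoint, hηU⟩ : (U : Set X)) ∈ T := by
      have h2 : (⟨hirr.genericPoint, hηU⟩ : (U : Set X)) ∈ closure T := by
        rw [Topology.IsInducing.subtypeVal.closure_eq_preimage_closure_image T]
        exact hη.mem
      rwa [(hSc T hTS).closure_eq] at h2
    have hηx : hirr.genericPoint = x := by
      by_contra hne
      have hspec : hirr.genericPoint ⤳ x := hη.specializes (subset_closure ⟨_, hxT, rfl⟩)
      have e := hs _ hspec hne
      rw [← ht, TopCat.Presheaf.germ_stalkSpecializes_apply F.presheaf hxU hspec t] at e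
      have : (⟨hirr.genericPoint, hηU⟩ : (U : Set X)) ∈ Z := hSZ ▸ ⟨T, hTS, hηT⟩
      exact this e
    rw [← specializes_iff_mem_closure, ← hηx]
    exact hη.specializes (subset_closure ⟨w, hwT, rfl⟩)

end Groth.Agent.S14005
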