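import Groth.Statements.S14006
import Groth.Agent.SmFormalLiftLib.Main

set_option autoImplicit false
universe u
open CategoryTheory AlgebraicGeometry
open FSch

namespace Groth.Agent.S14006

open CategoryTheory.Limits Groth.Agent.SmFormalLift

/-- Formal schemes are modelled as ℕ-indexed systems of thickenings. Let S be a locally Noetherian
scheme, 𝒥 a quasi-coherent ideal of O_S, 𝔖 the completion of S along 𝒥 (the system of the closed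
subschemes defined by the powers 𝒥^{n+1}) and S₀ its bottom level. Let X₀ and Y₀ be schemes smooth
over S₀ via a and b, f : X₀ ⟶ Y₀ a morphism with f ≫ b = a, and x a point of X₀. Then there are an
open neighbourhood U₀ of x and an open V₀ of Y₀ with f(U₀) ⊆ V₀, systems 𝔘 and 𝔙 with adic morphisms
p : 𝔘 ⟶ 𝔖 and q : 𝔙 ⟶ 𝔖 (all squares cartesian) all of whose levels are smooth, a morphism Φ : 𝔘 ⟶ 𝔙
with Φ ≫ q = p, and isomorphisms of the bottom levels of 𝔘 and 𝔙 with U₀ and V₀, compatible with the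
maps to S₀, under which the bottom level of Φ is the restriction U₀ ⟶ V₀ of f. In words: locally on
X₀ the morphism f has a smooth formal lifting over 𝔖. -/
theorem result (S : Scheme.{u}) [IsLocallyNoetherian S]
    (𝒥 : S.IdealSheafData) {X₀ Y₀ : Scheme.{u}}
    (a : X₀ ⟶ (FSch.completionAlong S 𝒥).X 0) (b : Y₀ ⟶ (FSch.completionAlong S 𝒥).X 0)
    [AlgebraicGeometry.Smooth a] [AlgebraicGeometry.Smooth b] (f : X₀ ⟶ Y₀) (w : f ≫ b = a) (x : X₀) :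
    ∃ (U₀ : X₀.Opens) (V₀ : Y₀.Opens) (hU : x ∈ U₀) (hUV : U₀ ≤ f ⁻¹ᵁ V₀)
      (𝔘 𝔙 : FSch.Sys.{u}) (p : 𝔘 ⟶ FSch.completionAlong S 𝒥) (q : 𝔙 ⟶ FSch.completionAlong S 𝒥)
      (Φ : 𝔘 ⟶ 𝔙) (eU : 𝔘.X 0 ≅ U₀.toScheme) (eV : 𝔙.X 0 ≅ V₀.toScheme),
      Φ ≫ q = p ∧ FSch.IsAdicHom p ∧ FSch.IsAdicHom q ∧
      (∀ n : ℕ, AlgebraicGeometry.Smooth ((p : FSch.Hom 𝔘 _).app n)) ∧
      (∀ n : ℕ, AlgebraicGeometry.Smooth ((q : FSch.Hom 𝔙 _).app n)) ∧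
      eU.hom ≫ U₀.ι ≫ a = (p : FSch.Hom 𝔘 _).app 0 ∧
      eV.hom ≫ V₀.ι ≫ b = (q : FSch.Hom 𝔙 _).app 0 ∧
      (Φ : FSch.Hom 𝔘 𝔙).app 0 ≫ eV.hom = eU.hom ≫ f.resLE V₀ U₀ hUV := by
  let c := FSch.completionToX S 𝒥 0
  haveI : IsClosedImmersion c := inferInstance
  have hW' : ∃ W : S.Opens, IsAffineOpen W ∧ c (b (f x)) ∈ W := by
    obtain ⟨W, hW, hx, -⟩ := exists_isAffineOpen_mem_and_subset (U := (⊤ : S.Opens)) (x := c (b (f x))) trivial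
    exact ⟨W, hW, hx⟩
  obtain ⟨W, hW, hxW⟩ := hW'
  obtain ⟨V₀, hV₀, hxV, hVW⟩ :=
    exists_isAffineOpen_mem_and_subset (U := b ⁻¹ᵁ c ⁻¹ᵁ W) (x := f x) hxW
  obtain ⟨U₀, hU₀, hxU, hUV⟩ := exists_isAffineOpen_mem_and_subset (U := f ⁻¹ᵁ V₀) (x := x) hxV
  replace hVW : V₀ ≤ b ⁻¹ᵁ c ⁻¹ᵁ W := hVW
  replace hUV : U₀ ≤ f ⁻¹ᵁ V₀ := hUV
  have hUW : U₀ ≤ a ⁻¹ᵁ c ⁻¹ᵁ W := fun y hy => by
    have := hVW (hUV hy)
    rw [← w]
    simpa using this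
  obtain ⟨B, rB, eB, hB, sqB⟩ := exists_affine_lift c b hW hV₀ hVW
  obtain ⟨A, rA, eA, hA, sqA⟩ := exists_affine_lift c a hW hU₀ hUW
  haveI : IsNoetherianRing Γ(S, W) := IsLocallyNoetherian.component_noetherian ⟨W, hW⟩
  let v := Spec.map rB ≫ hW.fromSpec
  let u := Spec.map rA ≫ hW.fromSpec
  haveI : AlgebraicGeometry.Smooth (Spec.map rB) :=
    (HasRingHomProperty.Spec_iff (P := @AlgebraicGeometry.Smooth)).2 hB
  haveI : AlgebraicGeometry.Smooth (Spec.map rA) :=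
    (HasRingHomProperty.Spec_iff (P := @AlgebraicGeometry.Smooth)).2 hA
  haveI : AlgebraicGeometry.Smooth v := inferInstanceAs (AlgebraicGeometry.Smooth (_ ≫ _))
  haveI : AlgebraicGeometry.Smooth u := inferInstanceAs (AlgebraicGeometry.Smooth (_ ≫ _))
  let eU : (bcSys 𝒥 u).X 0 ≅ U₀.toScheme := sqA.isoPullback.symm
  let eV : (bcSys 𝒥 v).X 0 ≅ V₀.toScheme := sqB.isoPullback.symm
  have hres : f.resLE V₀ U₀ hUV ≫ eB ≫ Spec.map rB = eA ≫ Spec.map rA := by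
    rw [← cancel_mono hW.fromSpec]
    simp only [Category.assoc, sqB.w, sqA.w, Scheme.Hom.resLE_comp_ι_assoc, reassoc_of% w]
  obtain ⟨Φ, hΦ, hΦ₀⟩ := exists_lifts 𝒥 hW.fromSpec rA rB hA hB
    (eU.hom ≫ f.resLE V₀ U₀ hUV ≫ eB) (by
      refine (Category.assoc _ _ _).trans ((congrArg (eU.hom ≫ ·) ((Category.assoc _ _ _).trans hres)).trans ?_)
      exact (Category.assoc _ _ _).symm.trans
        (congrArg (· ≫ Spec.map rA) sqA.isoPullback_inv_fst))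
  refine ⟨U₀, V₀, hxU, hUV, bcSys 𝒥 u, bcSys 𝒥 v, bcHom 𝒥 u, bcHom 𝒥 v, Φ, eU, eV, hΦ,
    bcHom_adic 𝒥 u, bcHom_adic 𝒥 v, smooth_bcHom 𝒥 u, smooth_bcHom 𝒥 v,
    sqA.isoPullback_inv_snd, sqB.isoPullback_inv_snd, ?_⟩
  have h0 : ∀ {g : (bcSys 𝒥 u).X 0 ⟶ V₀.toScheme}, g ≫ eB = eU.hom ≫ f.resLE V₀ U₀ hUV ≫ eB →
      g ≫ V₀.ι ≫ b = eU.hom ≫ f.resLE V₀ U₀ hUV ≫ V₀.ι ≫ b →
      g = eU.hom ≫ f.resLE V₀ U₀ hUV := fun h1 h2 => sqB.hom_ext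
    (h1.trans (Category.assoc _ _ _).symm) (h2.trans (Category.assoc _ _ _).symm)
  refine h0 ?_ ?_
  · exact (Category.assoc _ _ _).trans
      ((congrArg ((Φ : FSch.Hom _ _).app 0 ≫ ·) sqB.isoPullback_inv_fst).trans hΦ₀)
  · refine (Category.assoc _ _ _).trans
      ((congrArg ((Φ : FSch.Hom _ _).app 0 ≫ ·) sqB.isoPullback_inv_snd).trans ?_)
    refine (congrArg (fun t : FSch.Hom _ _ => t.app 0) hΦ).trans ?_
    refine sqA.isoPullback_inv_snd.symm.trans (congrArg (eU.hom ≫ ·) ?_)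
    rw [Scheme.Hom.resLE_comp_ι_assoc, w]

end Groth.Agent.S14006
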