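import Groth.Statements.S14007
import Groth.Agent.KZeroLib.Heart
import Groth.Agent.DCohLib.PerfCoh
import Groth.Agent.DCohLib.TwoThree
import Groth.Agent.ClSubLib.Annihilator

set_option autoImplicit false
universe u
open CategoryTheory AlgebraicGeometry
attribute [local instance] HasDerivedCategory.standard
open KZero

namespace Groth.Agent.S14007

open Limits Pretriangulated Groth.Agent.DCohLib
open scoped ZeroObject

abbrev PP (X : Scheme.{u}) (Y' : Set X) : ObjectProperty X.Modules :=
  fun G => Coh.IsCoh G ∧ CohB1.support G ⊆ Y'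

abbrev QQ (X : Scheme.{u}) (Y' : Set X) : ObjectProperty (DCoh.D X) :=
  fun K => DCoh.IsPerfect K ∧ ∀ i : ℤ, CohB1.support (DCoh.HD K i) ⊆ Y'

variable {X : Scheme.{u}}

theorem support_mono {M N : X.Modules} (f : M ⟶ N) [Mono f] : CohB1.support M ⊆ CohB1.support N :=
  (Groth.Agent.DevLib.support_X₂ (S := ShortComplex.mk f (cokernel.π f) (cokernel.condition f))
    { exact := ShortComplex.exact_of_g_is_cokernel _ (cokernelIsCokernel f) }).symm ▸ Set.subset_union_left

theorem support_isZero {M : X.Modules} (h : IsZero M) (Z : Set X) : CohB1.support M ⊆ Z := fun x hx =>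
  absurd (AddCommGrpCat.subsingleton_of_isZero
    (Functor.map_isZero (Scheme.Modules.toPresheaf X ⋙ TopCat.Presheaf.stalkFunctor AddCommGrpCat.{u} x) h)) hx

theorem heartHyp [IsNoetherian X] {Y' : Set X}
    (hperf : ∀ G : X.Modules, Coh.IsCoh G → CohB1.support G ⊆ Y' → DCoh.IsPerfect (DCoh.inD X G)) :
    Groth.Agent.KZeroLib.HeartHyp (PP X Y') (QQ X Y') where
  isoP e h := ⟨isCoh_iso e h.1, (support_mono e.inv).trans h.2⟩
  kerP f hM hN := ⟨(Groth.Agent.QCohLib.isCoh_kernel_cokernel f hM.1 hN.1).1, (support_mono (kernel.ι f)).trans hM.2⟩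
  toQ M hM := ⟨hperf M hM.1 hM.2, fun i => by
    by_cases hi : i = 0
    · subst hi
      exact (support_mono ((DerivedCategory.singleFunctorCompHomologyFunctorIso X.Modules 0).app M).hom).trans hM.2
    · rcases lt_or_gt_of_ne hi with h | h
      · exact support_isZero (DerivedCategory.isZero_of_isGE _ 0 i h) _
      · exact support_isZero (DerivedCategory.isZero_of_isLE _ 0 i h) _⟩
  coh K hK i := ⟨(isCohD_bounded_of_isPerfect K hK.1).1 i, hK.2 i⟩
  bdd K hK := (isCohD_bounded_of_isPerfect K hK.1).2
  isoQ e h := ⟨isPerfect_iso e h.1, fun i =>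
    (support_mono ((DerivedCategory.homologyFunctor X.Modules i).mapIso e).inv).trans (h.2 i)⟩
  shiftQ K n h := ⟨isPerfect_shift h.1 n, fun i =>
    (support_mono ((((DerivedCategory.homologyFunctor X.Modules 0).shiftIso n i (n + i) rfl).app K)).hom).trans
      (h.2 _)⟩
  obj₃Q T hT h₁ h₂ := ⟨isPerfect_obj₃ T hT h₁.1 h₂.1, fun i => by
    let F := fun j : ℤ => DerivedCategory.homologyFunctor X.Modules j
    have hex := DerivedCategory.HomologySequence.exact₃ T hT i (i + 1) rfl
    let δ := DerivedCategory.HomologySequence.δ T i (i + 1) rfl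
    have hS : (ShortComplex.mk (kernel.ι δ) (Abelian.factorThruImage δ)
        ((cancel_mono (Abelian.image.ι δ)).1 (by simp))).ShortExact :=
      { exact := ShortComplex.exact_of_f_is_kernel _ (KernelFork.IsLimit.ofι _ _ (fun x hx => kernel.lift δ x (by
          rw [← Abelian.image.fac δ, reassoc_of% hx, zero_comp]))
          (fun x hx => kernel.lift_ι _ _ _) (fun x hx m hm => (cancel_mono (kernel.ι δ)).1 (by simpa using hm))) }
    rw [Groth.Agent.DevLib.support_X₂ hS]
    refine Set.union_subset ?_ ((support_mono (Abelian.image.ι δ)).trans (h₁.2 _))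
    haveI : Epi (kernel.lift δ _ (DerivedCategory.HomologySequence.comp_δ T hT i (i + 1) rfl)) :=
      (ShortComplex.exact_iff_epi_kernel_lift _).1 hex
    let q := kernel.lift δ _ (DerivedCategory.HomologySequence.comp_δ T hT i (i + 1) rfl)
    refine subset_trans ?_ (h₂.2 i)
    rw [Groth.Agent.DevLib.support_X₂ (S := ShortComplex.mk (kernel.ι q) q (kernel.condition q))
      { exact := ShortComplex.exact_of_f_is_kernel _ (kernelIsKernel q) }]
    exact Set.subset_union_right⟩
  zeroQ := ⟨by
    have hz : IsZero (DCoh.inD X (0 : X.Modules)) := Functor.map_isZero _ (isZero_zero _)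
    exact isPerfect_iso (hz.iso (isZero_zero _)) (isPerfect_inD (isFinLocFree_of_isZero (isZero_zero _))), fun i => support_isZero (Functor.map_isZero _ (isZero_zero _)) _⟩

/-- Let X be a Noetherian scheme and Y' ⊆ X a closed subset, and suppose that every coherent O_X-module
with support in Y', viewed in degree 0, is a perfect object of D(O_X). Write K_0(C) for the
Grothendieck group of the abelian category C of coherent O_X-modules supported in Y' (objects modulo
short exact sequences) and K_0(D) for that of the full triangulated subcategory D of D(O_X) on the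
perfect complexes all of whose cohomology sheaves are supported in Y' (objects modulo distinguished
triangles with vertices in D). Then the homomorphism K_0(C) → K_0(D) induced by G ↦ G[0] is an
isomorphism: there is an isomorphism of groups carrying the class of every G in C to the class of
G[0]. -/
theorem result (X : Scheme.{u}) [IsNoetherian X]
    (Y' : Set X) (hY' : IsClosed Y')
    (hperf : ∀ G : X.Modules, Coh.IsCoh G → CohB1.support G ⊆ Y' → DCoh.IsPerfect (DCoh.inD X G)) :
    ∃ φ : KZero.K0sub (fun G : X.Modules => Coh.IsCoh G ∧ CohB1.support G ⊆ Y') ≃+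
        KZero.K0tr (fun K : DCoh.D X => DCoh.IsPerfect K ∧ ∀ i : ℤ, CohB1.support (DCoh.HD K i) ⊆ Y'),
      ∀ G : X.Modules, Coh.IsCoh G → CohB1.support G ⊆ Y' →
        φ (KZero.clSub (fun G : X.Modules => Coh.IsCoh G ∧ CohB1.support G ⊆ Y') G) =
          KZero.clTr (fun K : DCoh.D X => DCoh.IsPerfect K ∧ ∀ i : ℤ, CohB1.support (DCoh.HD K i) ⊆ Y')
            (DCoh.inD X G) := by
  let H := heartHyp hperf
  exact ⟨Groth.Agent.KZeroLib.k0Equiv H, fun G hG hs => Groth.Agent.KZeroLib.toTr_clSub H (M := G) ⟨hG, hs⟩⟩

end Groth.Agent.S14007
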