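import Groth.Statements.S1401
import Groth.Agent.SchDesc.QADescends

set_option autoImplicit false
set_option linter.style.haveILetI false
universe u
open FlatMor

namespace Groth.Agent.S1401

open AlgebraicGeometry CategoryTheory Limits in
/-- Let S' → S be flat, surjective and quasi-compact and let f' be the base change of f : X → S to S'.
If f' is ind-quasi-affine then so is f. -/
theorem result {X S X' S' : Scheme.{u}} (f : X ⟶ S) (f' : X' ⟶ S') (g' : X' ⟶ X) (g : S' ⟶ S)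
    [Flat g] [Surjective g] [QuasiCompact g] (hc : IsPullback g' f' f g) (hf' : MoreMor.IsIndQuasiAffineHom f') : MoreMor.IsIndQuasiAffineHom f := by
  intro V hV U₀ hU₀
  let U := (f ⁻¹ᵁ V).ι ''ᵁ U₀
  have hle : U ≤ f ⁻¹ᵁ V := by rintro _ ⟨z, -, rfl⟩; exact z.2
  suffices hU : (U : Scheme.{u}).IsQuasiAffine by
    haveI := hU
    exact Groth.Agent.QAffLib.of_iso ((f ⁻¹ᵁ V).ι.isoImage U₀).hom
  haveI : CompactSpace (U : Scheme.{u}) := isCompact_iff_compactSpace.mp (hU₀.image (f ⁻¹ᵁ V).ι.continuous)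
  haveI : IsAffine (V : Scheme.{u}) := hV
  let h := f.resLE V U hle
  have hsq := (isPullback_morphismRestrict g V).flip
  haveI : Flat (g ∣_ V) := MorphismProperty.of_isPullback hsq ‹Flat g›
  haveI : Surjective (g ∣_ V) := MorphismProperty.of_isPullback hsq ‹Surjective g›
  haveI : QuasiCompact (g ∣_ V) := MorphismProperty.of_isPullback hsq ‹QuasiCompact g›
  haveI : QuasiCompact h := HasAffineProperty.iff_of_isAffine.mpr ‹_›
  have houter : IsPullback (pullback.fst h (g ∣_ V)) (pullback.snd h (g ∣_ V)) h (g ∣_ V) :=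
    IsPullback.of_hasPullback _ _
  let m : pullback h (g ∣_ V) ⟶ X' := hc.lift (pullback.fst h (g ∣_ V) ≫ U.ι) (pullback.snd h (g ∣_ V) ≫ (g ⁻¹ᵁ V).ι) (by
    simp only [Category.assoc]
    rw [← morphismRestrict_ι, ← pullback.condition_assoc, Scheme.Hom.resLE_comp_ι])
  have hm₁ : m ≫ g' = pullback.fst h (g ∣_ V) ≫ U.ι := hc.lift_fst _ _ _
  have hm₂ : m ≫ f' = pullback.snd h (g ∣_ V) ≫ (g ⁻¹ᵁ V).ι := hc.lift_snd _ _ _
  haveI : IsOpenImmersion m := by
    have hnat : IsPullback (pullback.snd h (g ∣_ V) ≫ (g ⁻¹ᵁ V).ι) (pullback.fst h (g ∣_ V)) g (U.ι ≫ f) := by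
      rw [← Scheme.Hom.resLE_comp_ι f hle]
      exact (IsPullback.of_hasPullback h (g ∣_ V)).flip.paste_horiz hsq
    have h' : IsPullback (pullback.fst h (g ∣_ V)) m U.ι g' := by
      refine IsPullback.of_bot ?_ hm₁.symm hc
      rw [hm₂]; exact hnat.flip
    exact MorphismProperty.of_isPullback h' (inferInstance : IsOpenImmersion U.ι)
  have hh : Mor2.IsQuasiAffine h := by
    haveI := @Groth.Agent.SchDesc.isQuasiAffine_descends.{u}
    refine MorphismProperty.of_isPullback_of_descendsAlong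
      (P := (fun _ _ f => Mor2.IsQuasiAffine f : MorphismProperty Scheme.{u}))
      (Q := @Surjective ⊓ @Flat ⊓ @QuasiCompact) houter.flip ⟨⟨‹_›, ‹_›⟩, ‹_›⟩ ⟨inferInstance, fun W hW => ?_⟩
    let W' := (g ⁻¹ᵁ V).ι ''ᵁ W
    let K := pullback.snd h (g ∣_ V) ⁻¹ᵁ W
    let O := f' ⁻¹ᵁ W'
    have hKO : ∀ z ∈ K, m z ∈ O := fun z hz => ⟨pullback.snd h (g ∣_ V) z, hz, by
      exact ((Scheme.Hom.comp_apply _ _ _).symm.trans (congrArg (fun r => r z) hm₂.symm))⟩
    have hKc : IsCompact (K : Set ↥(pullback h (g ∣_ V))) := Groth.Agent.QAffLib.qc_preimage _ hW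
    haveI := hf' W' (hW.image_of_isOpenImmersion _) (O.ι ⁻¹ᵁ (m ''ᵁ K))
      (O.ι.isOpenEmbedding.isInducing.isCompact_preimage' (hKc.image m.continuous)
        (by rintro _ ⟨z, hz, rfl⟩; exact ⟨⟨m z, hKO z hz⟩, rfl⟩))
    haveI : (m ''ᵁ K : Scheme.{u}).IsQuasiAffine := Groth.Agent.QAffLib.preimage_qa (f := O.ι) _ (by
      rw [Scheme.Opens.opensRange_ι]; rintro _ ⟨z, hz, rfl⟩; exact hKO z hz)
    exact Groth.Agent.QAffLib.of_iso (m.isoImage K).hom
  haveI : ((⊤ : (U : Scheme.{u}).Opens) : Scheme.{u}).IsQuasiAffine := hh.2 ⊤ (isAffineOpen_top _)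
  exact Groth.Agent.QAffLib.of_iso (Scheme.topIso (U : Scheme.{u})).inv

end Groth.Agent.S1401
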