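import Groth.Statements.S14020
import Mathlib

set_option autoImplicit false
universe u
open CAlg

namespace Groth.Agent.S14020

/-- Let R be a commutative ring and I a finitely generated ideal such that the quotient ring R/I is
artinian. Then R/I^n is artinian for every n. -/
theorem result
    (R : Type u) [CommRing R] (I : Ideal R) (hI : I.FG) [IsArtinianRing (R ⧸ I)] (n : ℕ) :
    IsArtinianRing (R ⧸ I ^ n) := by
  have : IsNoetherianRing (R ⧸ I ^ n) := by
    cases n with
    | zero => have : Finite (R ⧸ I ^ 0) := @Finite.of_subsingleton _ (Ideal.Quotient.subsingleton_iff.mpr (by simp)); infer_instance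
    | succ n =>
      refine IsNoetherianRing.of_prime fun P hP => ?_
      have hle : I ≤ P.comap (Ideal.Quotient.mk _) := by
        have := hP.comap (Ideal.Quotient.mk (I ^ (n+1)))
        refine this.le_of_pow_le (n := n+1) ?_
        intro x hx
        simp [Ideal.mem_comap, Ideal.Quotient.eq_zero_iff_mem.mpr hx]
      rw [← Ideal.map_comap_of_surjective _ Ideal.Quotient.mk_surjective P]
      refine Ideal.FG.map ?_ _
      refine Submodule.fg_of_fg_map_of_fg_inf_ker I.mkQ ?_ (by rw [Submodule.ker_mkQ, inf_eq_right.mpr hle]; exact hI)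
      have : IsNoetherian R (R ⧸ I) := ⟨fun N => by
        have hs : ∀ (c x : R ⧸ I), x ∈ N → c • x ∈ N := fun c x hx => by
          obtain ⟨r, rfl⟩ := Ideal.Quotient.mk_surjective c
          exact N.smul_mem r hx
        let N' : Submodule (R ⧸ I) (R ⧸ I) := { N with smul_mem' := hs }
        have h : (N'.restrictScalars R).FG := Submodule.FG.restrictScalars_of_surjective (IsNoetherian.noetherian N') Ideal.Quotient.mk_surjective
        exact h⟩
      exact IsNoetherian.noetherian _
  rw [isArtinianRing_iff_isNoetherianRing_krullDimLE_zero]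
  refine ⟨this, Ring.krullDimLE_zero_iff.mpr fun P hP => ?_⟩
  have hle : I ≤ P.comap (Ideal.Quotient.mk _) := by
    rcases Nat.eq_zero_or_pos n with rfl | hn
    · have : Subsingleton (R ⧸ I ^ 0) := Ideal.Quotient.subsingleton_iff.mpr (by simp)
      exact absurd (Subsingleton.elim _ _) hP.ne_top
    refine (hP.comap (Ideal.Quotient.mk (I ^ n))).le_of_pow_le (n := n) ?_
    intro x hx
    simp [Ideal.mem_comap, Ideal.Quotient.eq_zero_iff_mem.mpr hx]
  have hpm : (P.comap (Ideal.Quotient.mk (I ^ n))).IsMaximal := by
    have hp' : ((P.comap (Ideal.Quotient.mk (I ^ n))).map (Ideal.Quotient.mk I)).IsPrime :=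
      Ideal.map_isPrime_of_surjective Ideal.Quotient.mk_surjective (by rw [Ideal.mk_ker]; exact hle)
    have hmax := IsArtinianRing.isMaximal_of_isPrime ((P.comap (Ideal.Quotient.mk (I ^ n))).map (Ideal.Quotient.mk I))
    have := Ideal.comap_isMaximal_of_surjective (Ideal.Quotient.mk I) Ideal.Quotient.mk_surjective (K := ((P.comap (Ideal.Quotient.mk (I ^ n))).map (Ideal.Quotient.mk I)))
    rwa [Ideal.comap_map_of_surjective _ Ideal.Quotient.mk_surjective, ← RingHom.ker_eq_comap_bot, Ideal.mk_ker, sup_eq_left.mpr hle] at this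
  have := Ideal.map_eq_top_or_isMaximal_of_surjective (Ideal.Quotient.mk (I ^ n)) Ideal.Quotient.mk_surjective hpm
  rw [Ideal.map_comap_of_surjective _ Ideal.Quotient.mk_surjective] at this
  exact this.resolve_left hP.ne_top

end Groth.Agent.S14020
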