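import Groth.Statements.S14025
import Groth.Agent.ProEtFull.StrataImg

set_option autoImplicit false
open CategoryTheory CategoryTheory.Limits AlgebraicGeometry Opposite
universe u
open EtModW

namespace Groth.Agent.S14025

set_option backward.isDefEq.respectTransparency false
set_option backward.isDefEq.respectTransparency.types false
set_option maxHeartbeats 1000000

/-- Let X be a scheme, Λ a Noetherian commutative ring and F a sheaf of Λ-modules on the small pro-étale
site of X. Then F is constructible — isomorphic to the pro-étale pullback ε⁻¹E of a constructible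
sheaf E of Λ-modules on the small étale site — exactly when each affine open U ⊆ X can be split into
finitely many constructible locally closed strata, the images of immersions g_i : T_i ⟶ X, such that
for each i the pullback of F to the small pro-étale site of T_i is isomorphic to the pro-étale
pullback of a finite-type locally constant sheaf of Λ-modules on the small étale site of T_i.
(Continuity of the inclusions of étale into pro-étale sites and of the base-change functors between
pro-étale sites is carried as binders.) -/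
theorem result
    (Λ : Type (u + 1)) [CommRing Λ] [IsNoetherianRing Λ]
    (X : Scheme.{u}) [∀ T : Scheme.{u}, ProEtS.EpsCont T]
    [∀ (T : Scheme.{u}) (g : T ⟶ X), ProEtS.PCont g]
    (F : EtModW.ModP Λ X) :
    (∃ E : EtModW.Mod Λ X, EtModW.IsConstructible Λ E ∧ Nonempty ((EtModW.epsPullMod Λ X).obj E ≅ F)) ↔
      ∀ U : X.Opens, IsAffineOpen U →
        ∃ (m : ℕ) (T : Fin m → Scheme.{u}) (g : ∀ i, T i ⟶ X),
          (∀ i, IsImmersion (g i)) ∧
          (∀ i, Topology.IsConstructible ((Subtype.val : ↥(U : Set X) → X) ⁻¹' Set.range (fun t => (g i).base t))) ∧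
          Pairwise (fun i j => Disjoint (Set.range (fun t => (g i).base t)) (Set.range (fun t => (g j).base t))) ∧
          (⋃ i, Set.range (fun t => (g i).base t)) = (U : Set X) ∧
          ∀ i, ∃ E : EtModW.Mod Λ (T i), EtModW.IsFTLocConst Λ E ∧
            Nonempty ((EtModW.epsPullMod Λ (T i)).obj E ≅ (((ProEtS.bcP (g i)).sheafPullback (ModuleCat.{u + 1} Λ) (Scheme.ProEt.topology X) (Scheme.ProEt.topology (T i)))).obj F) := by
  haveI : ∀ {A B : Scheme.{u}} (g : A ⟶ B), ProEtS.PCont g := fun g => Groth.Agent.ProEtSLib.pCont g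
  constructor
  · rintro ⟨E, hE, ⟨e⟩⟩ U hU
    obtain ⟨m, T, g, hg, hcon, hdis, hcov, hP⟩ := hE U hU
    refine ⟨m, T, g, hg, hcon, hdis, hcov, fun a => ⟨_, hP a, ⟨?_⟩⟩⟩
    exact ((Groth.Agent.ProEtFull.pullEpsIso (g a) Λ).app E).symm ≪≫
      (Groth.Agent.ProEtFull.pullPMod (g a) Λ).mapIso e
  · intro h
    have hiso : IsIso ((Groth.Agent.ProEtFull.epsAdjMod X Λ).counit.app F) := by
      refine Groth.Agent.ProEtFull.isIso_counit_of_opens F fun x => ?_
      obtain ⟨_, ⟨U', hU', rfl⟩, hxU, -⟩ :=
        X.isBasis_affineOpens.exists_subset_of_mem_open (Set.mem_univ x) isOpen_univ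
      obtain ⟨U, rfl⟩ : ∃ U : X.Opens, U = U' := ⟨U', rfl⟩
      have hU : IsAffineOpen U := hU'
      refine ⟨U, hxU, ?_⟩
      obtain ⟨m, T, g, hg, hcon, -, hcov, hP⟩ := h U hU
      haveI : IsAffine U.toScheme := hU
      have hr : ∀ a, Set.range (g a) ⊆ Set.range U.ι := fun a => by
        rw [Scheme.Opens.range_ι]
        exact fun y hy => hcov ▸ Set.mem_iUnion.2 ⟨a, hy⟩
      let g' : ∀ a, T a ⟶ U.toScheme := fun a => IsOpenImmersion.lift U.ι (g a) (hr a)
      have hfac : ∀ a, g' a ≫ U.ι = g a := fun a => IsOpenImmersion.lift_fac _ _ _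
      have hg' : ∀ a, IsImmersion (g' a) := fun a => by
        haveI := hg a
        haveI : IsImmersion (g' a ≫ U.ι) := by rw [hfac]; infer_instance
        exact IsImmersion.of_comp (g' a) U.ι
      have hrange : ∀ a, Set.range (g' a) = (Subtype.val : ↥(U : Set X) → X) ⁻¹' Set.range (g a) := fun a => by
        ext y
        constructor
        · rintro ⟨t, rfl⟩
          exact ⟨t, (congrArg (fun q : T a ⟶ X => q t) (hfac a)).symm⟩
        · rintro ⟨t, ht⟩
          refine ⟨t, U.ι.isOpenEmbedding.injective ?_⟩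
          exact (congrArg (fun q : T a ⟶ X => q t) (hfac a)).trans ht
      let G := (Groth.Agent.ProEtFull.pullPMod U.ι Λ).obj F
      have hE : ∀ a, ∃ E, Nonempty ((EtModW.epsPullMod Λ (T a)).obj E ≅
          (Groth.Agent.ProEtFull.pullPMod (g' a) Λ).obj G) := fun a => by
        obtain ⟨E, -, ⟨e⟩⟩ := hP a
        exact ⟨E, ⟨e ≪≫ (Groth.Agent.ProEtFull.pullPEqIso (hfac a).symm).app F ≪≫
          ((Groth.Agent.ProEtFull.pullPCompIso (g' a) U.ι).app F).symm⟩⟩
      have htop := Groth.Agent.ProEtFull.classical_top G T g' hg' hE (fun a => by rw [hrange]; exact hcon a)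
        (Set.eq_univ_of_forall fun y => by
          obtain ⟨a, t, ht⟩ := Set.mem_iUnion.1 (hcov.symm ▸ y.2 : y.1 ∈ ⋃ a, Set.range (fun t => (g a).base t))
          exact Set.mem_iUnion.2 ⟨a, by rw [hrange]; exact ⟨t, ht⟩⟩)
      exact Groth.Agent.ProEtFull.isIso_counit_of_opens G fun y => ⟨⊤, trivial, htop⟩
    let E := ((ProEtS.eps X).sheafPushforwardContinuous (ModuleCat.{u + 1} Λ) X.smallEtaleTopology
      (Scheme.ProEt.topology X)).obj F
    refine ⟨E, fun U hU => ?_, ⟨asIso ((Groth.Agent.ProEtFull.epsAdjMod X Λ).counit.app F)⟩⟩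
    obtain ⟨m, T, g, hg, hcon, hdis, hcov, hP⟩ := h U hU
    refine ⟨m, T, g, hg, hcon, hdis, hcov, fun a => ?_⟩
    obtain ⟨E', hE', ⟨e⟩⟩ := hP a
    refine Groth.Agent.S6644.isFTLocConst_of_iso ?_ hE'
    exact (Groth.Agent.ProEtFull.fullyFaithfulEpsPullMod (T a) Λ).preimageIso (e ≪≫
      (Groth.Agent.ProEtFull.pullPMod (g a) Λ).mapIso
        (asIso ((Groth.Agent.ProEtFull.epsAdjMod X Λ).counit.app F)).symm ≪≫
      (Groth.Agent.ProEtFull.pullEpsIso (g a) Λ).app E)

end Groth.Agent.S14025
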