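import Groth.Statements.S14029
import Groth.Agent.CohSiteLib2.CocontFF
-- import your own Groth.Agent.* helpers here

set_option autoImplicit false
open CategoryTheory CategoryTheory.Limits Opposite
universe v u
open CohSite

namespace Groth.Agent.S14029

/-- Let (C, J) be a site and U an object such that every object has at most one morphism to U; assume
extension by the empty set j_! from sheaves of sets on the localized site C/U to sheaves of sets on
C exists (through sheafification on C and left Kan extensions along C/U → C). If V is weakly
contractible in C — every epimorphism of sheaves of sets on C is surjective on sections over V —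
then for any morphism a : V ⟶ U the object V → U of C/U is weakly contractible in C/U: every
epimorphism of sheaves of sets on C/U is surjective on sections over it. Hence C/U has enough weakly
contractible objects when C does. -/
theorem result
    {C : Type u} [Category.{v} C] (J : GrothendieckTopology C) (U : C)
    (hU : ∀ W : C, Subsingleton (W ⟶ U))
    [HasWeakSheafify J (Type (max u v))]
    [∀ (P : (Over U)ᵒᵖ ⥤ Type (max u v)), (Over.forget U).op.HasLeftKanExtension P]
    (V : C) (hV : (∀ (A B : Sheaf J (Type (max u v))) (ψ : A ⟶ B), Epi ψ → Function.Surjective (ψ.hom.app (op V)))) (a : V ⟶ U) :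
    ∀ (A B : Sheaf (J.over U) (Type (max u v))) (ψ : A ⟶ B), Epi ψ →
      Function.Surjective (ψ.hom.app (op (Over.mk a))) := by
  intro A B ψ hψ
  obtain ⟨_, _⟩ := Groth.Agent.CohSiteLib2.full_faithful_forget U hU
  haveI := Groth.Agent.CohSiteLib2.isIso_unit_continuous (J.over U) J (Over.forget U) (Type (max u v))
  let adj := (Over.forget U).sheafAdjunctionContinuous (Type (max u v)) (J.over U) J
  haveI := hψ
  haveI := adj.leftAdjoint_preservesColimits
  intro b
  obtain ⟨c, hc⟩ := hV _ _ (((Over.forget U).sheafPullback (Type (max u v)) (J.over U) J).map ψ) inferInstance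
    ((adj.unit.app B).hom.app (op (Over.mk a)) b)
  haveI hA : IsIso (adj.unit.app A) := inferInstance
  refine ⟨(inv (adj.unit.app A)).hom.app (op (Over.mk a)) c, ?_⟩
  have h : inv (adj.unit.app A) ≫ ψ ≫ adj.unit.app B =
      ((Over.forget U).sheafPullback (Type (max u v)) (J.over U) J ⋙
        (Over.forget U).sheafPushforwardContinuous (Type (max u v)) (J.over U) J).map ψ := by
    rw [IsIso.inv_comp_eq]
    exact adj.unit.naturality ψ
  have h' := congrArg (fun t => t.hom.app (op (Over.mk a)) c) h
  have hi : Function.Injective ((adj.unit.app B).hom.app (op (Over.mk a))) := by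
    intro p q hpq
    have hh := congrArg (fun t => t.hom.app (op (Over.mk a))) (IsIso.hom_inv_id (adj.unit.app B))
    have hp := congrArg (fun z => (inv (adj.unit.app B)).hom.app (op (Over.mk a)) z) hpq
    exact (congrArg (fun t => t p) hh).symm.trans (hp.trans (congrArg (fun t => t q) hh))
  exact hi (h'.trans hc)

end Groth.Agent.S14029
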