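import Groth.Statements.S1403
import Groth.Agent.FlatTrdegLib.Basic
-- import your own Groth.Agent.* helpers here

set_option autoImplicit false
set_option linter.style.haveILetI false
set_option maxHeartbeats 1000000
set_option backward.isDefEq.respectTransparency false
universe u
open FlatMor

namespace Groth.Agent.S1403

/-- A linear equation makes an element algebraic. -/
theorem isAlgebraic_of_mul_eq {D E : Type u} [CommRing D] [CommRing E] [Algebra D E] {b : E} {s x : D} (hs : s ≠ 0)
    (h : b * algebraMap D E s = algebraMap D E x) : IsAlgebraic D b := by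
  refine ⟨Polynomial.C s * Polynomial.X - Polynomial.C x, fun h0 => hs ?_, ?_⟩
  · simpa using congrArg (fun p => Polynomial.coeff p 1) h0
  · rw [map_sub, map_mul, Polynomial.aeval_C, Polynomial.aeval_X, Polynomial.aeval_C, mul_comm, h, sub_self]

/-- Let A → B be an injective local homomorphism of local domains with B essentially of finite type and
flat over A. Then dim(B / m_A B) + trdeg_{κ(A)} κ(B) = trdeg_A B; all three quantities are finite
here, and the statement gives them as natural numbers d, e with d + e the transcendence degree of B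
over A. -/
theorem result {A B : Type u} [CommRing A] [CommRing B] [IsDomain A] [IsDomain B] [IsLocalRing A] [IsLocalRing B]
    [Algebra A B] [IsLocalHom (algebraMap A B)] [FaithfulSMul A B] [Algebra.EssFiniteType A B] [Module.Flat A B] :
    ∃ d e : ℕ, ringKrullDim (B ⧸ Ideal.map (algebraMap A B) (IsLocalRing.maximalIdeal A)) = d ∧
      Algebra.trdeg (IsLocalRing.ResidueField A) (IsLocalRing.ResidueField B) = e ∧ Algebra.trdeg A B = (d + e : ℕ) := by
  let C := Algebra.EssFiniteType.subalgebra A B
  haveI : FaithfulSMul A C := (faithfulSMul_iff_algebraMap_injective _ _).2 fun x y hxy =>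
    FaithfulSMul.algebraMap_injective A B (congrArg (fun z : C => (z : B)) hxy)
  let q : Ideal C := (IsLocalRing.maximalIdeal B).comap (algebraMap C B)
  have hM : Algebra.EssFiniteType.submonoid A B = q.primeCompl := Submonoid.ext fun x =>
    ⟨fun hx hq => (IsLocalRing.mem_maximalIdeal _).mp hq hx, fun hx => not_not.mp fun h => hx ((IsLocalRing.mem_maximalIdeal _).mpr h)⟩
  haveI : IsLocalization.AtPrime B q := by
    have h : IsLocalization (Algebra.EssFiniteType.submonoid A B) B := inferInstance
    rw [hM] at h
    exact h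
  obtain ⟨a, e, hlo, he, hdim, htr⟩ := Groth.Agent.FlatTrdegLib.exists_dims_of_model (A := A) (C := C) (B := B) q
  haveI : FaithfulSMul C B := (faithfulSMul_iff_algebraMap_injective _ _).2 Subtype.val_injective
  haveI : Algebra.IsAlgebraic C B := ⟨fun b => by
    obtain ⟨⟨x, s⟩, hx⟩ := IsLocalization.surj q.primeCompl b
    exact isAlgebraic_of_mul_eq (fun h => s.2 (by rw [show (s : C) = 0 from h]; exact q.zero_mem)) hx⟩
  refine ⟨a, e, hdim, ?_, ?_⟩
  · haveI := hlo
    let kB := IsLocalRing.ResidueField B
    letI : Algebra (A ⧸ IsLocalRing.maximalIdeal A) kB := (inferInstance : Algebra (IsLocalRing.ResidueField A) (IsLocalRing.ResidueField B))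
    letI : Algebra (C ⧸ q) kB := (Ideal.Quotient.lift q ((IsLocalRing.residue B).comp (algebraMap C B))
      fun x hx => (IsLocalRing.residue_eq_zero_iff _).mpr hx).toAlgebra
    haveI : IsScalarTower (A ⧸ IsLocalRing.maximalIdeal A) (C ⧸ q) kB := .of_algebraMap_eq fun x => by
      obtain ⟨x, rfl⟩ := Ideal.Quotient.mk_surjective x
      rfl
    haveI : FaithfulSMul (C ⧸ q) kB := (faithfulSMul_iff_algebraMap_injective _ _).2 fun x y hxy => by
      obtain ⟨x, rfl⟩ := Ideal.Quotient.mk_surjective x
      obtain ⟨y, rfl⟩ := Ideal.Quotient.mk_surjective y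
      refine Ideal.Quotient.eq.mpr ?_
      show algebraMap C B (x - y) ∈ IsLocalRing.maximalIdeal B
      rw [← IsLocalRing.residue_eq_zero_iff, map_sub, map_sub, sub_eq_zero]
      exact hxy
    haveI : Algebra.IsAlgebraic (C ⧸ q) kB := ⟨fun b => by
      obtain ⟨b, rfl⟩ := IsLocalRing.residue_surjective b
      obtain ⟨⟨x, s⟩, hx⟩ := IsLocalization.surj q.primeCompl b
      refine isAlgebraic_of_mul_eq (s := Ideal.Quotient.mk q s.1) (x := Ideal.Quotient.mk q x)
        (fun h => s.2 (Ideal.Quotient.eq_zero_iff_mem.mp h)) ?_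
      show IsLocalRing.residue B b * IsLocalRing.residue B (algebraMap C B s.1) = IsLocalRing.residue B (algebraMap C B x)
      rw [← map_mul, hx]⟩
    haveI : FaithfulSMul (A ⧸ IsLocalRing.maximalIdeal A) (C ⧸ q) :=
      (faithfulSMul_iff_algebraMap_injective _ _).2 (FaithfulSMul.algebraMap_injective (A ⧸ IsLocalRing.maximalIdeal A) (C ⧸ q))
    have h := trdeg_add_eq (A ⧸ IsLocalRing.maximalIdeal A) (C ⧸ q) (A := kB)
    rw [trdeg_eq_zero (R := C ⧸ q) (A := kB), add_zero, he hlo] at h
    exact h.symm
  · rw [← trdeg_add_eq A C (A := B), trdeg_eq_zero (R := C) (A := B), add_zero]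
    exact htr

end Groth.Agent.S1403
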