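import Groth.Statements.S14032
import Groth.Prelude.Def_W4c1frobunstivaNR
import Mathlib

set_option autoImplicit false
universe u v
open W4c1frobunstiva

namespace Groth.Agent.S14032

open TensorProduct

open TensorProduct in
/-- Let R be a commutative Noetherian ring with nilradical n, M an R-module and r a natural number. Then
M is NR-free of rank r — generated by r elements such that every linear relation among them has
nilpotent coefficients — if and only if (R/n) ⊗_R M is free of rank r over R/n, in the sense of
admitting a basis indexed by r elements. (The published statement assumes M finitely generated and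
also gives the converse when R is local; over a Noetherian ring the nilradical is nilpotent, the
case used here, and finite generation is not needed.) -/
theorem result (R : Type u) [CommRing R]
    [IsNoetherianRing R] (M : Type v) [AddCommGroup M] [Module R M] (r : ℕ) :
    W4c1frobunstiva.IsNRFree R M r ↔
      Nonempty (Module.Basis (Fin r) (R ⧸ nilradical R) ((R ⧸ nilradical R) ⊗[R] M)) := by
  set n := nilradical R
  let π : M →ₗ[R] (R ⧸ n) ⊗[R] M := TensorProduct.mk R (R ⧸ n) M 1
  have hπ : Function.Surjective π := TensorProduct.mk_surjective R M (R ⧸ n) Ideal.Quotient.mk_surjective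
  have hker : ∀ x, π x = 0 → x ∈ n • (⊤ : Submodule R M) := fun x hx => by
    have := congrArg (TensorProduct.quotTensorEquivQuotSMul M n) hx
    rw [map_zero] at this
    rw [← Submodule.Quotient.mk_eq_zero]
    rw [show π x = (1 : R ⧸ n) ⊗ₜ[R] x from rfl, ← map_one (Ideal.Quotient.mk n),
      TensorProduct.quotTensorEquivQuotSMul_mk_tmul, one_smul] at this
    exact this
  have hsum : ∀ (m : Fin r → M) (a : Fin r → R),
      π (∑ i, a i • m i) = ∑ i, Ideal.Quotient.mk n (a i) • π (m i) := by
    intro m a
    rw [map_sum]
    exact Finset.sum_congr rfl fun i _ => by rw [map_smul, ← Ideal.Quotient.algebraMap_eq, algebraMap_smul]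
  constructor
  · rintro ⟨m, hm, hrel⟩
    refine ⟨Module.Basis.mk (v := fun i => π (m i)) ?_ ?_⟩
    · rw [Fintype.linearIndependent_iff]
      intro c hc i
      choose a ha using fun i => Ideal.Quotient.mk_surjective (c i)
      simp only [← ha] at hc ⊢
      rw [← hsum] at hc
      have h1 := hker _ hc
      rw [← hm, Submodule.mem_ideal_smul_span_iff_exists_sum] at h1
      obtain ⟨b, hb, he⟩ := h1
      rw [Finsupp.sum_fintype _ _ (fun i => by simp)] at he
      have h2 := hrel (fun i => a i - b i) (by simp [sub_smul, Finset.sum_sub_distrib, he]) i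
      rw [Ideal.Quotient.eq_zero_iff_mem]
      exact (Submodule.sub_mem_iff_left _ (hb i)).1 (mem_nilradical.2 h2)
    · intro y _
      obtain ⟨x, rfl⟩ := hπ y
      obtain ⟨a, ha⟩ := (Submodule.mem_span_range_iff_exists_fun R).1 (hm.ge (Submodule.mem_top (x := x)))
      rw [← ha, hsum]
      exact Submodule.sum_mem _ fun i _ => Submodule.smul_mem _ _ (Submodule.subset_span ⟨i, rfl⟩)
  · rintro ⟨b⟩
    choose m hm using fun i => hπ (b i)
    obtain ⟨N, hN⟩ := IsNoetherianRing.isNilpotent_nilradical R
    refine ⟨m, ?_, fun a ha i => ?_⟩
    · set S := Submodule.span R (Set.range m)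
      have h1 : ∀ x : M, ∃ s ∈ S, x - s ∈ n • (⊤ : Submodule R M) := fun x => by
        choose a ha using fun i => Ideal.Quotient.mk_surjective (I := n) (b.repr (π x) i)
        refine ⟨∑ i, a i • m i, Submodule.sum_mem _ fun i _ => Submodule.smul_mem _ _ (Submodule.subset_span ⟨i, rfl⟩),
          hker _ ?_⟩
        rw [map_sub, hsum]
        simp only [ha, hm, b.sum_repr, sub_self]
      have h2 : ∀ k, (⊤ : Submodule R M) ≤ S ⊔ n ^ k • ⊤ := by
        intro k
        induction k with
        | zero => simp
        | succ k ih =>
          have h0 : n • (⊤ : Submodule R M) ≤ S ⊔ n ^ (k + 1) • ⊤ := by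
            refine (Submodule.smul_mono le_rfl ih).trans ?_
            rw [Submodule.smul_sup, ← Submodule.smul_assoc, smul_eq_mul, ← pow_succ']
            exact sup_le_sup_right Submodule.smul_le_right _
          intro x _
          obtain ⟨s, hs, hx⟩ := h1 x
          rw [← sub_add_cancel x s]
          exact Submodule.add_mem _ (h0 hx) (Submodule.mem_sup_left hs)
      have := h2 N
      rwa [hN, Submodule.zero_eq_bot, Submodule.bot_smul, sup_bot_eq, top_le_iff] at this
    · have h1 : ∑ i, Ideal.Quotient.mk n (a i) • b i = 0 := by
        simp only [← hm]; rw [← hsum, ha, map_zero]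
      exact mem_nilradical.1 (Ideal.Quotient.eq_zero_iff_mem.1
        (Fintype.linearIndependent_iff.1 b.linearIndependent _ h1 i))

end Groth.Agent.S14032
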