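import Groth.Statements.S14033
import Mathlib.Algebra.DualNumber
import Mathlib.LinearAlgebra.Basis.Submodule
import Mathlib.RingTheory.OrzechProperty
import Mathlib.RingTheory.FiniteType
import Mathlib.LinearAlgebra.Quotient.Basic

set_option autoImplicit false
universe u v
open W4c1frobunstiva

namespace Groth.Agent.S14033

open DualNumber Pointwise in
/-- Let R be a commutative ring, R[ε] its ring of dual numbers (ε² = 0), M an R[ε]-module and r a
natural number. Then M is free of rank r over R[ε] (admits a basis of r elements) if and only if the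
R-modules M/εM and εM are both free of rank r. (The published statement concerns a coherent sheaf on
the product of a scheme S with Spec ℤ[ε] and local freeness of rank r; that assertion is local, and
this row is its form over one ring, with no finiteness assumption on M and no hypothesis on R.) -/
theorem result (R : Type u) [CommRing R] (M : Type v)
    [AddCommGroup M] [Module R[ε] M] [Module R M] [IsScalarTower R R[ε] M] (r : ℕ) :
    Nonempty (Module.Basis (Fin r) R[ε] M) ↔
      (Nonempty (Module.Basis (Fin r) R (M ⧸ ((ε : R[ε]) • (⊤ : Submodule R[ε] M)))) ∧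
        Nonempty (Module.Basis (Fin r) R (((ε : R[ε]) • (⊤ : Submodule R[ε] M)).restrictScalars R))) := by
  classical
  have hsmul : ∀ (c : R[ε]) (m : M), c • m = TrivSqZeroExt.fst c • m + TrivSqZeroExt.snd c • ((ε : R[ε]) • m) := fun c m => by
    rw [← algebraMap_smul R[ε] (TrivSqZeroExt.fst c) m, ← algebraMap_smul R[ε] (TrivSqZeroExt.snd c) ((ε : R[ε]) • m),
      smul_smul, ← add_smul]
    congr 1
    refine TrivSqZeroExt.ext ?_ ?_ <;> simp [TrivSqZeroExt.algebraMap_eq_inl]
  set N := (ε : R[ε]) • (⊤ : Submodule R[ε] M)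
  have hεε : ∀ m : M, (ε : R[ε]) • (ε : R[ε]) • m = 0 := fun m => by rw [smul_smul, DualNumber.eps_mul_eps, zero_smul]
  have hmemN : ∀ x, x ∈ N ↔ ∃ m : M, (ε : R[ε]) • m = x := fun x => by
    rw [Submodule.mem_smul_pointwise_iff_exists]; simp
  have hker : ∀ x ∈ N, (ε : R[ε]) • x = 0 := fun x hx => by
    obtain ⟨m, rfl⟩ := (hmemN x).1 hx; exact hεε m
  constructor
  · rintro ⟨b⟩
    have hrepr : ∀ (i : Fin r) (m : M), b.repr ((ε : R[ε]) • m) i = ε * b.repr m i := fun i m => by simp
    let w : Fin r → N.restrictScalars R := fun i => ⟨(ε : R[ε]) • b i, (hmemN _).2 ⟨_, rfl⟩⟩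
    let q : Fin r → M ⧸ N := fun i => Submodule.Quotient.mk (b i)
    have hcoord : ∀ (a : Fin r → R) (j : Fin r), b.repr (∑ i, a i • b i) j = algebraMap R R[ε] (a j) := fun a j => by
      simp_rw [← algebraMap_smul R[ε] (a _) (b _)]
      rw [b.repr_sum_self]
    refine ⟨⟨Module.Basis.mk (v := q) ?_ ?_⟩, ⟨Module.Basis.mk (v := w) ?_ ?_⟩⟩
    · rw [Fintype.linearIndependent_iff]
      intro a ha j
      simp only [q, ← Submodule.Quotient.mk_smul] at ha
      have ha' : (∑ i, a i • b i) ∈ N := by
        rw [← Submodule.Quotient.mk_eq_zero, ← Submodule.mkQ_apply, map_sum]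
        exact ha
      obtain ⟨m, hm⟩ := (hmemN _).1 ha'
      have := congrArg (fun z => TrivSqZeroExt.fst (b.repr z j)) hm
      simp only [hcoord, hrepr, TrivSqZeroExt.fst_mul, DualNumber.fst_eps, zero_mul] at this
      simpa [TrivSqZeroExt.algebraMap_eq_inl] using this.symm
    · intro z _
      obtain ⟨m, rfl⟩ := Submodule.Quotient.mk_surjective _ z
      rw [Submodule.mem_span_range_iff_exists_fun]
      refine ⟨fun i => TrivSqZeroExt.fst (b.repr m i), ?_⟩
      simp only [q, ← Submodule.Quotient.mk_smul]
      rw [← Submodule.mkQ_apply]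
      simp only [← Submodule.mkQ_apply, ← map_sum]
      rw [Submodule.mkQ_apply, Submodule.mkQ_apply, Submodule.Quotient.eq]
      refine (hmemN _).2 ⟨-∑ i, TrivSqZeroExt.snd (b.repr m i) • b i, ?_⟩
      conv_rhs => rhs; rw [← b.sum_repr m]
      simp only [hsmul (b.repr m _) (b _), Finset.sum_add_distrib, smul_neg, Finset.smul_sum,
        fun (a : R) (x : M) => smul_comm (ε : R[ε]) a x]
      abel
    · rw [Fintype.linearIndependent_iff]
      intro a ha j
      have h1 : (ε : R[ε]) • (∑ i, a i • b i) = 0 := by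
        rw [Finset.smul_sum]
        have := congrArg Subtype.val ha
        simp only [w, AddSubmonoidClass.coe_finsetSum, Submodule.coe_smul_of_tower] at this
        simpa [fun (a : R) (x : M) => smul_comm (ε : R[ε]) a x] using this
      have := congrArg (fun z => TrivSqZeroExt.snd (b.repr z j)) h1
      simp only [hrepr, hcoord] at this
      simpa [TrivSqZeroExt.algebraMap_eq_inl] using this
    · rintro ⟨x, hx⟩ _
      obtain ⟨m, rfl⟩ := (hmemN x).1 hx
      rw [Submodule.mem_span_range_iff_exists_fun]
      refine ⟨fun i => TrivSqZeroExt.fst (b.repr m i), Subtype.ext ?_⟩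
      simp only [w, AddSubmonoidClass.coe_finsetSum, Submodule.coe_smul_of_tower]
      conv_rhs => rw [← b.sum_repr m, Finset.smul_sum]
      refine Finset.sum_congr rfl fun i _ => ?_
      rw [hsmul (b.repr m i) (b i), smul_add, smul_comm (ε : R[ε]) (TrivSqZeroExt.snd (b.repr m i)), hεε, smul_zero, add_zero,
        smul_comm]
  · rintro ⟨⟨bq⟩, ⟨bn⟩⟩
    choose m hm using fun i => Submodule.Quotient.mk_surjective _ (bq i)
    have hspanQ : ∀ x : M, ∃ a : Fin r → R, x - ∑ i, a i • m i ∈ N := fun x => by
      refine ⟨fun i => bq.repr (Submodule.Quotient.mk x) i, ?_⟩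
      rw [← Submodule.Quotient.eq]
      conv_lhs => rw [← bq.sum_repr (Submodule.Quotient.mk x)]
      simp only [← Submodule.mkQ_apply, map_sum, LinearMap.map_smul_of_tower]
      exact Finset.sum_congr rfl fun i _ => congrArg _ (hm i).symm
    let T : (Fin r → R) →ₗ[R] N.restrictScalars R :=
      { toFun := fun a => ⟨(ε : R[ε]) • ∑ i, a i • m i, (hmemN _).2 ⟨_, rfl⟩⟩
        map_add' := fun a c => Subtype.ext (by simp [add_smul, Finset.sum_add_distrib, smul_add])
        map_smul' := fun t a => Subtype.ext (by simp [Finset.smul_sum, smul_smul, smul_comm (ε : R[ε])]) }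
    have hT : Function.Surjective T := fun ⟨x, hx⟩ => by
      obtain ⟨y, rfl⟩ := (hmemN x).1 hx
      obtain ⟨a, ha⟩ := hspanQ y
      refine ⟨a, Subtype.ext ?_⟩
      show (ε : R[ε]) • _ = (ε : R[ε]) • y
      rw [eq_comm, ← sub_eq_zero, ← smul_sub]
      exact hker _ ha
    have hTinj : Function.Injective T := by
      let e := bn.equivFun
      have := OrzechProperty.injective_of_surjective_endomorphism (e.toLinearMap ∘ₗ T) (e.surjective.comp hT)
      exact fun x y h => this (by simp [h])
    refine ⟨Module.Basis.mk (v := m) ?_ ?_⟩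
    · rw [Fintype.linearIndependent_iff]
      intro c hc
      simp only [hsmul (c _) (m _), Finset.sum_add_distrib] at hc
      have hfst : ∀ i, TrivSqZeroExt.fst (c i) = 0 := by
        have h1 : (∑ i, TrivSqZeroExt.fst (c i) • m i) ∈ N := by
          rw [eq_neg_of_add_eq_zero_left hc]
          exact N.neg_mem (Submodule.sum_mem _ fun i _ => by
            rw [← algebraMap_smul R[ε] (TrivSqZeroExt.snd (c i))]
            exact N.smul_mem _ ((hmemN _).2 ⟨_, rfl⟩))
        rw [← Submodule.Quotient.mk_eq_zero, ← Submodule.mkQ_apply, map_sum] at h1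
        simp only [LinearMap.map_smul_of_tower, Submodule.mkQ_apply, hm] at h1
        exact Fintype.linearIndependent_iff.1 bq.linearIndependent _ h1
      simp only [hfst, zero_smul, Finset.sum_const_zero, zero_add] at hc
      have hsnd : (fun i => TrivSqZeroExt.snd (c i)) = 0 := hTinj (Subtype.ext (by
        rw [map_zero, Submodule.coe_zero]
        show (ε : R[ε]) • ∑ i, TrivSqZeroExt.snd (c i) • m i = 0
        rw [Finset.smul_sum]
        simpa [fun (a : R) (x : M) => smul_comm (ε : R[ε]) a x] using hc))
      exact fun i => TrivSqZeroExt.ext (hfst i) (congrFun hsnd i)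
    · intro x _
      rw [Submodule.mem_span_range_iff_exists_fun]
      obtain ⟨a, ha⟩ := hspanQ x
      obtain ⟨a', ha'⟩ := hT ⟨_, ha⟩
      have hval : (ε : R[ε]) • ∑ i, a' i • m i = x - ∑ i, a i • m i := congrArg Subtype.val ha'
      refine ⟨fun i => TrivSqZeroExt.inl (a i) + TrivSqZeroExt.inr (a' i), ?_⟩
      simp only [hsmul (TrivSqZeroExt.inl (a _) + TrivSqZeroExt.inr (a' _)) (m _), Finset.sum_add_distrib]
      simp only [TrivSqZeroExt.fst_add, TrivSqZeroExt.fst_inl, TrivSqZeroExt.fst_inr, TrivSqZeroExt.snd_add,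
        TrivSqZeroExt.snd_inl, TrivSqZeroExt.snd_inr, add_zero, zero_add, fun (a : R) (x : M) => smul_comm a (ε : R[ε]) x,
        ← Finset.smul_sum]
      rw [hval]; abel

end Groth.Agent.S14033
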