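import Groth.Statements.S14034
import Mathlib

set_option autoImplicit false
universe u
open W4c1frobunstiva

namespace Groth.Agent.S14034

set_option backward.isDefEq.respectTransparency false
set_option maxHeartbeats 800000

/-- Let R be a Noetherian local ring and f an element of R whose annihilator consists of nilpotent
elements (a f = 0 forces a nilpotent), r, s and l ≤ s natural numbers, N the quotient of the free
module R^s by the submodule spanned by f e_1, …, f e_l (e_i the standard basis vectors), and φ : R^r
→ N a surjective linear map. Then the kernel of φ is NR-free of rank r + l − s: it is generated by r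
+ l − s elements every linear relation among which has nilpotent coefficients; and when l = 0 the
kernel is free of rank r − s. (The published statement takes R Noetherian with irreducible spectrum
and R_red a domain, not necessarily local, and f arbitrary. Over the coordinate ring of the real
2-sphere the kernel of (x, y, z) : R³ → R is not free, and over k[x, y]/(y², xy) localised at (x, y)
with f = y the kernel of R → R/(y) is spanned by y with the non-nilpotent relation x·y = 0. The
published argument uses that the kernel of a surjection of free modules is free, true over a local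
ring, and that a f = 0 forces a nilpotent, which is the hypothesis taken here; it holds when R_red
is a domain and f is not nilpotent, and also for f = ε in A[ε] with A a domain, so primality of the
nilradical is not assumed.) -/
theorem result (R : Type u)
    [CommRing R] [IsNoetherianRing R] [IsLocalRing R] (f : R)
    (hann : ∀ a : R, a * f = 0 → IsNilpotent a) (r s l : ℕ) (hls : l ≤ s)
    (φ : (Fin r → R) →ₗ[R]
      ((Fin s → R) ⧸ Submodule.span R (Set.range fun i : Fin l => (Pi.single (Fin.castLE hls i) f : Fin s → R))))
    (hφ : Function.Surjective φ) :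
    W4c1frobunstiva.IsNRFree R (LinearMap.ker φ) (r + l - s) ∧
      (l = 0 → Nonempty (Module.Basis (Fin (r - s)) R (LinearMap.ker φ))) := by
  classical
  set q := (Submodule.span R (Set.range fun i : Fin l => (Pi.single (Fin.castLE hls i) f : Fin s → R))).mkQ with hq
  obtain ⟨ψ, hψ⟩ := Module.projective_lifting_property q φ (Submodule.mkQ_surjective _)
  let L : (Fin l → R) →ₗ[R] (Fin s → R) := Fintype.linearCombination R fun i => (Pi.single (Fin.castLE hls i) f : Fin s → R)
  have hLr : LinearMap.range L = LinearMap.ker q := by
    rw [Fintype.range_linearCombination, Submodule.ker_mkQ]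
  let Ψ : (Fin r → R) × (Fin l → R) →ₗ[R] (Fin s → R) := ψ.coprod L
  have hΨ : Function.Surjective Ψ := by
    intro y
    obtain ⟨x, hx⟩ := hφ (q y)
    have : y - ψ x ∈ LinearMap.range L := by
      rw [hLr, LinearMap.mem_ker, map_sub, ← LinearMap.comp_apply, hψ, hx, sub_self]
    obtain ⟨z, hz⟩ := this
    exact ⟨(x, z), by simp [Ψ, hz]⟩
  obtain ⟨sec, hsec⟩ := Module.projective_lifting_property Ψ LinearMap.id hΨ
  let pr : (Fin r → R) × (Fin l → R) →ₗ[R] LinearMap.ker Ψ :=
    (LinearMap.id - sec ∘ₗ Ψ).codRestrict _ fun x => by
      simp [show ∀ y, Ψ (sec y) = y from fun y => LinearMap.congr_fun hsec y]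
  have hpr : ∀ x : LinearMap.ker Ψ, pr x.1 = x := fun x => Subtype.ext (by
    simp [pr, LinearMap.mem_ker.1 x.2])
  haveI : Module.Projective R (LinearMap.ker Ψ) :=
    Module.Projective.of_split (LinearMap.ker Ψ).subtype pr (LinearMap.ext hpr)
  haveI : Module.Free R (LinearMap.ker Ψ) := Module.free_of_flat_of_isLocalRing
  have hrank : Module.finrank R (LinearMap.ker Ψ) = r + l - s := by
    let e : ((Fin r → R) × (Fin l → R)) ≃ₗ[R] LinearMap.ker Ψ × (Fin s → R) :=
      { pr.prod Ψ with
        invFun := fun z => z.1.1 + sec z.2
        left_inv := fun x => by simp [pr]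
        right_inv := fun z => by
          have h1 : Ψ (sec z.2) = z.2 := LinearMap.congr_fun hsec z.2
          have h2 := LinearMap.mem_ker.1 z.1.2
          refine Prod.ext (Subtype.ext ?_) ?_
          · simp [pr, h1, h2]
          · simp [h1, h2] }
    have := e.finrank_eq
    rw [Module.finrank_prod, Module.finrank_prod, Module.finrank_fin_fun, Module.finrank_fin_fun,
      Module.finrank_fin_fun] at this
    omega
  let b := (Module.Free.chooseBasis R (LinearMap.ker Ψ)).reindex
    (Fintype.equivFinOfCardEq ((Module.finrank_eq_card_chooseBasisIndex R _).symm.trans hrank))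
  let π : LinearMap.ker Ψ →ₗ[R] LinearMap.ker φ :=
    ((LinearMap.fst R _ _).comp (LinearMap.ker Ψ).subtype).codRestrict _ fun x => by
      have h2 := congrArg q (LinearMap.mem_ker.1 x.2)
      have h3 : q (L x.1.2) = 0 := by
        rw [← LinearMap.mem_ker, ← hLr]; exact ⟨_, rfl⟩
      simp only [Ψ, LinearMap.coprod_apply, map_add, map_zero, h3, add_zero] at h2
      rw [LinearMap.mem_ker, ← hψ]
      exact h2
  have hπ : Function.Surjective π := by
    rintro ⟨x, hx⟩
    have : -ψ x ∈ LinearMap.range L := by
      rw [hLr, LinearMap.mem_ker, map_neg, ← LinearMap.comp_apply, hψ, LinearMap.mem_ker.1 hx, neg_zero]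
    obtain ⟨z, hz⟩ := this
    exact ⟨⟨(x, z), by simp [Ψ, hz]⟩, rfl⟩
  refine ⟨⟨fun i => π (b i), ?_, fun a ha i => ?_⟩, fun hl => ?_⟩
  · rw [show (Set.range fun i => π (b i)) = π '' Set.range b by rw [← Set.range_comp]; rfl,
      Submodule.span_image, b.span_eq, Submodule.map_top, LinearMap.range_eq_top.2 hπ]
  · set z := ∑ j, a j • b j with hz
    have h1 : π z = 0 := by simpa [hz] using ha
    have hx : z.1.1 = 0 := congrArg Subtype.val h1
    have hy : ∀ j, IsNilpotent (z.1.2 j) := fun j => hann _ (by
      have h3 : Ψ z.1 = 0 := LinearMap.mem_ker.1 z.2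
      rw [LinearMap.coprod_apply, hx, map_zero, zero_add] at h3
      have h2 := congrFun h3 (Fin.castLE hls j)
      rw [Fintype.linearCombination_apply, Finset.sum_apply, Finset.sum_eq_single j
        (fun k _ hk => by simp [Pi.single_apply, Fin.castLE_inj, hk.symm]) (by simp)] at h2
      simpa using h2)
    have hai : a i = b.coord i (pr z.1) := by rw [hpr, hz, b.coord_apply, b.repr_sum_self]
    have hz1 : z.1 = ∑ j, z.1.2 j • ((0 : Fin r → R), (Pi.single j 1 : Fin l → R)) := by
      refine Prod.ext ?_ ?_
      · simp [hx, Prod.fst_sum]
      · funext j; simp [Prod.snd_sum, Pi.single_apply]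
    rw [hai, hz1, map_sum, map_sum, ← mem_nilradical]
    exact Ideal.sum_mem _ fun j _ => by
      rw [map_smul, map_smul, smul_eq_mul]
      exact Ideal.mul_mem_right _ _ (hy j)
  · subst hl
    have hinj : Function.Injective π := fun x y hxy =>
      Subtype.ext (Prod.ext (congrArg Subtype.val hxy) (Subsingleton.elim _ _))
    exact ⟨(b.map (LinearEquiv.ofBijective π ⟨hinj, hπ⟩)).reindex (finCongr (by omega))⟩

end Groth.Agent.S14034
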