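import Groth.Statements.S14035
import Mathlib.RingTheory.Flat.Equalizer
import Mathlib.RingTheory.LocalRing.Module
import Mathlib.RingTheory.Nilpotent.Lemmas
import Mathlib.RingTheory.LocalRing.ResidueField.Ideal

set_option autoImplicit false
universe u v
open W4c1frobunstiva

namespace Groth.Agent.S14035

open TensorProduct in
/-- Let A → B be a ring homomorphism with B Noetherian. If B modulo its nilradical is flat over A and
every fibre ring κ(p) ⊗_A B, p a prime of A, is reduced, then B is reduced. (This is the affine form
of the statement for a morphism of schemes X → Y all of whose fibres are reduced and whose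
restriction to the reduced closed subscheme X_red is flat. The published statement does not say X is
locally Noetherian, but its proof applies Nakayama's lemma to the nilradical as a finitely generated
ideal; without it the square-zero extension of a discrete valuation ring A by Frac(A)/A is a
counterexample.) -/
theorem result (A : Type u) (B : Type v)
    [CommRing A] [CommRing B] [Algebra A B] [IsNoetherianRing B]
    [Module.Flat A (B ⧸ nilradical B)]
    (hfib : ∀ p : PrimeSpectrum A, IsReduced (p.asIdeal.ResidueField ⊗[A] B)) :
    IsReduced B := by
  classical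
  set N : Ideal B := nilradical B
  let g : N →ₗ[A] B := (Submodule.subtype N).restrictScalars A
  let f : B →ₗ[A] B ⧸ N := (Ideal.Quotient.mkₐ A N).toLinearMap
  have hexact : Function.Exact g f := fun b => by
    constructor
    · intro hb
      exact ⟨⟨b, Ideal.Quotient.eq_zero_iff_mem.1 hb⟩, rfl⟩
    · rintro ⟨n, rfl⟩
      exact Ideal.Quotient.eq_zero_iff_mem.2 n.2
  have hzero : ∀ (p : PrimeSpectrum A) (n : N), (1 : p.asIdeal.ResidueField) ⊗ₜ[A] n = 0 := by
    intro p n
    haveI := hfib p
    refine LinearMap.lTensor_injective_of_exact_of_flat f Ideal.Quotient.mk_surjective g Subtype.val_injective hexact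
      p.asIdeal.ResidueField ?_
    rw [map_zero, LinearMap.lTensor_tmul]
    refine IsReduced.eq_zero _ ?_
    have hn : IsNilpotent (n : B) := n.2
    exact hn.map (Algebra.TensorProduct.includeRight : B →ₐ[A] p.asIdeal.ResidueField ⊗[A] B)
  haveI : Module.Finite B N := Module.IsNoetherian.finite B N
  have hsupp : Module.support B N = ∅ := by
    refine Set.eq_empty_iff_forall_notMem.2 fun q hq => ?_
    rw [Module.mem_support_iff_nontrivial_residueField_tensorProduct] at hq
    refine not_subsingleton (q.asIdeal.ResidueField ⊗[B] N) (subsingleton_of_forall_eq 0 fun z => ?_)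
    induction z using TensorProduct.induction_on with
    | zero => rfl
    | tmul c n =>
      let p : PrimeSpectrum A := ⟨q.asIdeal.comap (algebraMap A B), inferInstance⟩
      let φ : p.asIdeal.ResidueField →+* q.asIdeal.ResidueField :=
        Ideal.ResidueField.map p.asIdeal q.asIdeal (algebraMap A B) rfl
      have hφ : ∀ a : A, φ (algebraMap A _ a) = algebraMap A q.asIdeal.ResidueField a := fun a => by
        rw [IsScalarTower.algebraMap_apply A B q.asIdeal.ResidueField]
        exact Ideal.ResidueField.map_algebraMap _ _ _ _ _
      let L : p.asIdeal.ResidueField ⊗[A] N →+ q.asIdeal.ResidueField ⊗[B] N :=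
        TensorProduct.liftAddHom
          { toFun := fun x =>
              { toFun := fun m => (c * φ x) ⊗ₜ[B] m
                map_zero' := TensorProduct.tmul_zero _ _
                map_add' := fun a b => TensorProduct.tmul_add _ _ _ }
            map_zero' := AddMonoidHom.ext fun m => by
              show (c * φ 0) ⊗ₜ[B] m = 0
              rw [map_zero, mul_zero, TensorProduct.zero_tmul]
            map_add' := fun x y => AddMonoidHom.ext fun m => by
              show (c * φ (x + y)) ⊗ₜ[B] m = (c * φ x) ⊗ₜ[B] m + (c * φ y) ⊗ₜ[B] m
              rw [map_add, mul_add, TensorProduct.add_tmul] }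
          fun a x m => by
            show (c * φ (a • x)) ⊗ₜ[B] m = (c * φ x) ⊗ₜ[B] (a • m)
            rw [Algebra.smul_def, map_mul, hφ, ← algebraMap_smul B a m, TensorProduct.tmul_smul,
              TensorProduct.smul_tmul', Algebra.smul_def (R := B), ← IsScalarTower.algebraMap_apply A B]
            congr 1
            ring
      have := congrArg L (hzero p n)
      rw [map_zero, TensorProduct.liftAddHom_tmul] at this
      change (c * φ 1) ⊗ₜ[B] n = 0 at this
      rwa [map_one, mul_one] at this
    | add a b ha hb => rw [ha, hb, add_zero]
  haveI := Module.support_eq_empty_iff.1 hsupp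
  exact ⟨fun x hx => congrArg Subtype.val (Subsingleton.elim (⟨x, hx⟩ : N) 0)⟩

end Groth.Agent.S14035
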