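import Groth.Statements.S14037
import Groth.Agent.S0384
import Groth.Agent.S9812
import Groth.Agent.ProperFin.Chow
import Groth.Agent.SteinConn.Unibranch
-- import your own Groth.Agent.* helpers here

set_option autoImplicit false
universe u
open CategoryTheory CategoryTheory.Limits AlgebraicGeometry
open W4c1frobunstiva

namespace Groth.Agent.S14037

open CategoryTheory CategoryTheory.Limits AlgebraicGeometry

theorem generalizingMap_of_flat {X Y : Scheme.{u}} (f : X ⟶ Y) [Flat f] : GeneralizingMap f := by
  intro x y' h
  obtain ⟨q, rfl⟩ : y' ∈ Set.range (Y.fromSpecStalk (f x)) := by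
    rw [Scheme.range_fromSpecStalk]
    exact h
  letI : Algebra (Y.presheaf.stalk (f x)) (X.presheaf.stalk x) := (f.stalkMap x).hom.toAlgebra
  haveI : IsLocalHom (algebraMap (Y.presheaf.stalk (f x)) (X.presheaf.stalk x)) :=
    inferInstanceAs (IsLocalHom (f.stalkMap x).hom)
  haveI : Module.Flat (Y.presheaf.stalk (f x)) (X.presheaf.stalk x) := AlgebraicGeometry.Flat.stalkMap f x
  haveI : Module.FaithfullyFlat (Y.presheaf.stalk (f x)) (X.presheaf.stalk x) :=
    Module.FaithfullyFlat.of_flat_of_isLocalHom
  obtain ⟨P, hP⟩ := PrimeSpectrum.comap_surjective_of_faithfullyFlat (B := X.presheaf.stalk x) q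
  refine ⟨X.fromSpecStalk x P, (Scheme.range_fromSpecStalk).le ⟨_, rfl⟩, ?_⟩
  rw [← Scheme.Hom.comp_apply, ← Scheme.SpecMap_stalkMap_fromSpecStalk, Scheme.Hom.comp_apply]
  exact congrArg _ hP

/-- A proper part of a separated base change is everything once it is dense or the whole is connected. -/
theorem pullback_part {X Z Y : Scheme.{u}} (i : X ⟶ Z) [IsOpenImmersion i] (g : Z ⟶ Y) [IsSeparated g]
    {K : Type u} [Field K] (y : Spec (CommRingCat.of K) ⟶ Y)
    (h : IsProper (pullback.snd (i ≫ g) y) ∧ ConnectedSpace ↥(pullback (i ≫ g) y)) :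
    IsClosed (Set.range (pullback.snd i (pullback.fst g y))) ∧
      _root_.IsConnected (Set.range (pullback.snd i (pullback.fst g y))) := by
  let e := pullback.snd i (pullback.fst g y)
  have hpb : IsPullback (pullback.fst i (pullback.fst g y)) (e ≫ pullback.snd g y) (i ≫ g) y :=
    (IsPullback.of_hasPullback i (pullback.fst g y)).paste_vert (IsPullback.of_hasPullback g y)
  haveI := h.1
  haveI : IsProper (e ≫ pullback.snd g y) := by
    rw [← hpb.isoPullback_hom_snd]; infer_instance
  haveI : IsProper e := IsProper.of_comp e (pullback.snd g y)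
  haveI := h.2
  haveI : ConnectedSpace ↥(pullback i (pullback.fst g y)) :=
    hpb.isoPullback.inv.surjective.connectedSpace hpb.isoPullback.inv.continuous
  exact ⟨e.isClosedMap.isClosed_range, isConnected_range e.continuous⟩

theorem mem_range_of_fst {X Z Y : Scheme.{u}} (i : X ⟶ Z) (g : Z ⟶ Y) {K : Type u} [Field K]
    (y : Spec (CommRingCat.of K) ⟶ Y) (w : ↥(pullback g y)) :
    w ∈ Set.range (pullback.snd i (pullback.fst g y)) ↔ pullback.fst g y w ∈ Set.range i := by
  rw [Scheme.Pullback.range_snd]; rfl


/-- Let f : X → Y be separated and of finite type, with X and Y integral, Y Noetherian and normal.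
Suppose that every geometric fibre of f — the base change of X along any morphism from the spectrum
of an algebraically closed field to Y — is proper over that field and connected (so non-empty). Then
f is proper. -/
theorem result {X Y : Scheme.{u}}
    (f : X ⟶ Y) [IsSeparated f] [LocallyOfFiniteType f] [QuasiCompact f]
    [IsIntegral X] [IsIntegral Y] [IsNoetherian Y] (hY : Pi1.IsNormalScheme Y)
    (hfib : ∀ (Ω : Type u) [Field Ω] [IsAlgClosed Ω] (y : Spec (CommRingCat.of Ω) ⟶ Y),
      IsProper (pullback.snd f y) ∧ ConnectedSpace ↥(pullback f y)) :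
    IsProper f := by
  haveI : CompactSpace Y := inferInstance
  obtain ⟨Xc, j, g, hj, hjqc, hg, hjg⟩ := Groth.Agent.S0384.result f
  haveI := hj
  haveI := hjqc
  haveI := hg
  let Z := j.image
  let i : X ⟶ Z := j.toImage
  haveI : IsIntegral Z := Groth.Agent.ProperFin.isIntegral_image j
  let g' : Z ⟶ Y := j.imageι ≫ g
  haveI : IsProper g' := inferInstance
  have hig : i ≫ g' = f := by simp only [i, g', ← Category.assoc, Scheme.Hom.toImage_imageι, hjg]
  have hfib' : ∀ (Ω : Type u) [Field Ω] [IsAlgClosed Ω] (y : Spec (CommRingCat.of Ω) ⟶ Y),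
      IsProper (pullback.snd (i ≫ g') y) ∧ ConnectedSpace ↥(pullback (i ≫ g') y) := by
    rw [hig]; exact hfib
  have hpt : ∀ (y₀ : Y), ∃ (Ω : Type u) (_ : Field Ω) (_ : IsAlgClosed Ω) (y : Spec (CommRingCat.of Ω) ⟶ Y),
      Flat (Spec.map (CommRingCat.ofHom (algebraMap (Y.residueField y₀) (AlgebraicClosure (Y.residueField y₀))))) ∧
        y (IsLocalRing.closedPoint Ω) = y₀ := fun y₀ =>
    ⟨AlgebraicClosure (Y.residueField y₀), inferInstance, inferInstance,
      Spec.map (CommRingCat.ofHom (algebraMap (Y.residueField y₀) (AlgebraicClosure (Y.residueField y₀)))) ≫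
        Y.fromSpecResidueField y₀, inferInstance, by
      rw [Scheme.Hom.comp_apply, Scheme.fromSpecResidueField_apply]⟩
  -- generic fibre
  let η := genericPoint Y
  have hξ : genericPoint Z ∈ Set.range i := by
    obtain ⟨x⟩ : Nonempty X := inferInstance
    exact (genericPoint_specializes (i x)).mem_open i.isOpenEmbedding.isOpen_range ⟨x, rfl⟩
  haveI : Surjective g' := ⟨fun y₀ => by
    obtain ⟨Ω, _, _, y, -, hy⟩ := hpt y₀
    obtain ⟨w⟩ := (hfib' Ω y).2.toNonempty
    refine ⟨i (pullback.fst (i ≫ g') y w), ?_⟩
    have h := congrArg (fun φ : pullback (i ≫ g') y ⟶ Y => φ w) (pullback.condition (f := i ≫ g') (g := y))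
    simp only [Scheme.Hom.comp_apply] at h
    rw [h, Subsingleton.elim (pullback.snd (i ≫ g') y w) (IsLocalRing.closedPoint Ω), hy]⟩
  haveI : IsDominant g' := ⟨g'.surjective.denseRange⟩
  have hgη : g' (genericPoint Z) = η := by
    obtain ⟨z, hz⟩ := g'.surjective η
    have h1 : g' (genericPoint Z) ⤳ η := hz ▸ (genericPoint_specializes z).map g'.continuous
    exact (h1.antisymm (genericPoint_specializes _)).eq
  have hη : GeometricallyConnected (g'.fiberToSpecResidueField η) := by
    refine ⟨fun K _ p W a b hW => ?_⟩
    let Ω := AlgebraicClosure K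
    let r : Spec (CommRingCat.of Ω) ⟶ Spec (CommRingCat.of K) :=
      Spec.map (CommRingCat.ofHom (algebraMap K Ω))
    haveI : Flat (p : Spec (CommRingCat.of K) ⟶ Spec (Y.residueField η)) := inferInstance
    let t := r ≫ p
    haveI : Flat t := inferInstance
    let y := t ≫ Y.fromSpecResidueField η
    obtain ⟨hcl, hconn⟩ := pullback_part i g' y (hfib' Ω y)
    -- the generic point of `Z` is dense in the geometric generic fibre
    let q : pullback g' y ⟶ g'.fiber η := pullback.lift (pullback.fst g' y) (pullback.snd g' y ≫ t)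
      (by rw [pullback.condition, Category.assoc])
    have hq : IsPullback q (pullback.snd g' y) (g'.fiberToSpecResidueField η) t :=
      IsPullback.of_right (by
        have := IsPullback.of_hasPullback g' y
        rwa [← pullback.lift_fst (f := g') (g := Y.fromSpecResidueField η) (pullback.fst g' y)
          (pullback.snd g' y ≫ t) (by rw [pullback.condition, Category.assoc])] at this)
        (pullback.lift_snd _ _ _) (IsPullback.of_hasPullback g' (Y.fromSpecResidueField η))
    haveI : Flat q := MorphismProperty.of_isPullback hq.flip ‹Flat t›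
    have hall : ∀ w, w ∈ Set.range (pullback.snd i (pullback.fst g' y)) := by
      intro w
      obtain ⟨ξ', hξ'⟩ : genericPoint Z ∈ Set.range (g'.fiberι η) := by
        rw [Scheme.Hom.range_fiberι]; exact hgη
      have hsp : ξ' ⤳ q w := by
        rw [← (g'.fiberι η).isEmbedding.isInducing.specializes_iff, hξ']
        exact genericPoint_specializes _
      obtain ⟨w', hw', hqw'⟩ := generalizingMap_of_flat q hsp
      have hw'm : w' ∈ Set.range (pullback.snd i (pullback.fst g' y)) := by
        rw [mem_range_of_fst]
        have h := congrArg (fun φ : pullback g' y ⟶ Z => φ w')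
          (pullback.lift_fst (f := g') (g := Y.fromSpecResidueField η) (pullback.fst g' y)
            (pullback.snd g' y ≫ t) (by rw [pullback.condition, Category.assoc]))
        simp only [Scheme.Hom.comp_apply] at h
        have hgen : pullback.fst g' (Y.fromSpecResidueField η) (q w') = genericPoint Z := by
          rw [hqw']; exact hξ'
        exact (h.symm.trans hgen).symm ▸ hξ
      exact hw'.mem_closed hcl hw'm
    haveI : ConnectedSpace ↥(pullback g' y) :=
      connectedSpace_iff_univ.2 (Set.eq_univ_of_forall hall ▸ hconn)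
    let s : pullback g' y ⟶ W := hW.lift q (pullback.snd g' y ≫ r) (by
      rw [hq.w, Category.assoc])
    have hs : IsPullback s (pullback.snd g' y) b r :=
      IsPullback.of_right (by rwa [hW.lift_fst]) (hW.lift_snd _ _ _) hW
    haveI : Surjective r := ⟨fun z => ⟨IsLocalRing.closedPoint _, Subsingleton.elim _ _⟩⟩
    haveI : Surjective s := MorphismProperty.of_isPullback hs.flip ‹Surjective r›
    exact s.surjective.connectedSpace s.continuous
  haveI : GeometricallyConnected g' :=
    Groth.Agent.SteinConn.geometricallyConnected_of_geomUnibranch g'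
      (fun y₀ => by
        haveI := (hY y₀).1
        haveI := (hY y₀).2
        exact Groth.Agent.S9812.result _) hη
  haveI : Surjective i := ⟨fun z => by
    obtain ⟨Ω, _, _, y, -, hy⟩ := hpt (g' z)
    obtain ⟨hcl, hconn⟩ := pullback_part i g' y (hfib' Ω y)
    haveI : ConnectedSpace ↥(pullback g' y) :=
      GeometricallyConnected.geometrically_connectedSpace _ _ _ (IsPullback.of_hasPullback g' y)
    have hu := IsClopen.eq_univ ⟨hcl, (pullback.snd i (pullback.fst g' y)).isOpenEmbedding.isOpen_range⟩
      hconn.nonempty
    obtain ⟨w, hw, -⟩ := Scheme.Pullback.exists_preimage_pullback (f := g') (g := y) z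
      (IsLocalRing.closedPoint Ω) hy.symm
    have := (mem_range_of_fst i g' y w).1 (hu ▸ Set.mem_univ w)
    rwa [hw] at this⟩
  haveI : IsIso i := IsOpenImmersion.isIso i
  rw [← hig]
  infer_instance

end Groth.Agent.S14037
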