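import Groth.Statements.S14038
import Groth.Agent.HermiteLib.Basic
import Mathlib

set_option autoImplicit false
universe u
open W4c1frobunstiva

namespace Groth.Agent.S14038

open PowerSeries
set_option backward.isDefEq.respectTransparency false

/-- Let k be a field and M a square matrix of size r over the formal power series ring k[[t]] with
non-zero determinant. Call a matrix H over k[[t]] row-reduced when it is upper triangular, each
diagonal entry is a power t^{e_i} of the variable, and every entry above the diagonal in column j is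
a polynomial of degree less than e_j (all its coefficients in degrees ≥ e_j vanish). Then there is
exactly one row-reduced H obtainable from M by left multiplication with an invertible matrix over
k[[t]]. (The published statement takes k algebraically closed; the row-reduction argument needs only
a field.) -/
theorem result (k : Type u) [Field k] (r : ℕ)
    (M : Matrix (Fin r) (Fin r) (PowerSeries k)) (hM : M.det ≠ 0) :
    ∃! H : Matrix (Fin r) (Fin r) (PowerSeries k),
      (∃ e : Fin r → ℕ, (∀ i, H i i = PowerSeries.X ^ e i) ∧ (∀ i j, j < i → H i j = 0) ∧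
        (∀ i j, i < j → ∀ n, e j ≤ n → PowerSeries.coeff n (H i j) = 0)) ∧
      ∃ N : Matrix (Fin r) (Fin r) (PowerSeries k), IsUnit N ∧ N * M = H := by
  obtain ⟨N0, e, hN0, hd0, hl0⟩ := Groth.Agent.HermiteLib.exists_upperTriangular r M hM
  obtain ⟨N, P, hN, hP, hd, hl, hr⟩ := Groth.Agent.HermiteLib.exists_reduced (⊥ : NonUnitalSubring (PowerSeries k))
    (fun _ _ => False) (fun _ _ => ⟨0, zero_mem _, fun _ h => h.elim⟩) r (N0 * M) e hd0 hl0
  have hP1 : P = 1 := Matrix.ext fun i j => by
    rcases lt_trichotomy i j with h | rfl | h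
    · rw [Matrix.one_apply_ne h.ne]; exact NonUnitalSubring.mem_bot.1 (hP.2.2 i j h)
    · rw [hP.1, Matrix.one_apply_eq]
    · rw [hP.2.1 i j h, Matrix.one_apply_ne h.ne']
  rw [hP1, Matrix.mul_one, ← Matrix.mul_assoc] at hd hl hr
  refine ⟨N * N0 * M, ⟨⟨e, hd, hl, fun i j h n hn => hr i j h n (Or.inl hn)⟩, N * N0,
    (Matrix.isUnit_iff_isUnit_det _).2 (by rw [Matrix.det_mul]; exact hN.isUnit_det.mul hN0), rfl⟩, ?_⟩
  rintro H ⟨⟨e', hd', hl', hr'⟩, N', hN', rfl⟩
  have hu : IsUnit (N * N0).det := by rw [Matrix.det_mul]; exact hN.isUnit_det.mul hN0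
  refine (Groth.Agent.HermiteLib.reduced_unique (N * N0 * M) (N' * M) (N' * (N * N0)⁻¹) ?_ ?_ e e'
    hd hl (fun i j h m hm => hr i j h m (Or.inl hm)) hd' hl' hr').symm
  · rw [Matrix.det_mul]
    exact ((Matrix.isUnit_iff_isUnit_det _).1 hN').mul (Matrix.isUnit_nonsing_inv_det _ hu)
  · rw [Matrix.mul_assoc, ← Matrix.mul_assoc (N * N0)⁻¹, Matrix.nonsing_inv_mul _ hu, Matrix.one_mul]

end Groth.Agent.S14038
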