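import Groth.Statements.S14039
import Mathlib.RingTheory.PowerSeries.WellKnown
import Mathlib.Algebra.BigOperators.Ring.Finset
import Mathlib.Data.Fintype.Pi
import Mathlib.Algebra.Ring.GeomSum

set_option autoImplicit false
open W4c1frobunstiva

namespace Groth.Agent.S14039

/-- For natural numbers p, n ≥ 1 and s, the number of monomials of degree s in n variables in which
every variable occurs with a positive exponent strictly less than p — that is, of exponent vectors
(e_1, …, e_n) with sum s and 1 ≤ e_i ≤ p − 1 — equals the inclusion–exclusion sum over i from 0 to n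
of (−1)^i · C(n, i) · C(s − i(p − 1) − 1, n − 1), the last factor counting monomials of degree s −
i(p − 1) − n in n variables and read as 0 when s < i(p − 1) + n. (A companion count, by how many
exponents lie below p/2, and a remark on polynomiality in s and p are not part of this row.) -/
theorem result (p n s : ℕ)
    (hn : 1 ≤ n) :
    (Fintype.card {e : Fin n → Fin p // (∀ i, 1 ≤ (e i : ℕ)) ∧ ∑ i, (e i : ℕ) = s} : ℤ) =
      ∑ i ∈ Finset.range (n + 1),
        (-1 : ℤ) ^ i * (n.choose i : ℤ) *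
          (if i * (p - 1) + n ≤ s then (((s - i * (p - 1) - 1).choose (n - 1) : ℕ) : ℤ) else 0) := by
  classical
  let G : PowerSeries ℤ := ∑ e : Fin p, (if 1 ≤ (e : ℕ) then PowerSeries.X ^ (e : ℕ) else 0)
  have hcount : PowerSeries.coeff s (G ^ n) =
      (Fintype.card {e : Fin n → Fin p // (∀ i, 1 ≤ (e i : ℕ)) ∧ ∑ i, (e i : ℕ) = s} : ℤ) := by
    rw [show G ^ n = ∏ _i : Fin n, G by simp, Fintype.prod_sum, map_sum, Fintype.card_subtype, Finset.natCast_card_filter]
    refine Finset.sum_congr rfl fun e _ => ?_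
    by_cases h : ∀ i, 1 ≤ (e i : ℕ)
    · rw [Finset.prod_congr rfl fun i _ => if_pos (h i), Finset.prod_pow_eq_pow_sum, PowerSeries.coeff_X_pow]
      by_cases h2 : ∑ i, (e i : ℕ) = s
      · rw [if_pos h2.symm, if_pos ⟨h, h2⟩]
      · rw [if_neg (fun hh => h2 hh.symm), if_neg (fun hh => h2 hh.2)]
    · obtain ⟨i, hi⟩ := not_forall.1 h
      rw [Finset.prod_eq_zero (Finset.mem_univ i) (if_neg hi), map_zero, if_neg (fun hh => h hh.1)]
  have hG : G * (1 - PowerSeries.X) = PowerSeries.X * (1 - PowerSeries.X ^ (p - 1)) := by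
    have e : G = ∑ j ∈ Finset.range (p - 1), PowerSeries.X ^ (j + 1) := by
      show (∑ e : Fin p, if 1 ≤ (e : ℕ) then (PowerSeries.X : PowerSeries ℤ) ^ (e : ℕ) else 0) = _
      rw [Fin.sum_univ_eq_sum_range (fun j => if 1 ≤ j then (PowerSeries.X : PowerSeries ℤ) ^ j else 0)]
      rcases p with _ | p
      · simp
      · rw [Finset.sum_range_succ', Nat.add_sub_cancel]; simp
    rw [e, Finset.sum_congr rfl fun j _ => pow_succ' PowerSeries.X j, ← Finset.mul_sum, mul_assoc, geom_sum_mul_neg]
  obtain ⟨d, rfl⟩ : ∃ d, n = d + 1 := ⟨n - 1, by omega⟩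
  have hpow : G ^ (d + 1) = PowerSeries.X ^ (d + 1) * (1 - PowerSeries.X ^ (p - 1)) ^ (d + 1) *
      (PowerSeries.invOneSubPow ℤ (d + 1)).val := by
    rw [← mul_pow, ← hG, mul_pow, mul_assoc]
    rw [show (1 - PowerSeries.X : PowerSeries ℤ) ^ (d + 1) = (PowerSeries.invOneSubPow ℤ (d + 1)).inv from
      (PowerSeries.invOneSubPow_inv_eq_one_sub_pow ℤ (d + 1)).symm, Units.inv_eq_val_inv, Units.inv_mul, mul_one]
  rw [← hcount, hpow, sub_eq_neg_add, add_pow, Finset.mul_sum, Finset.sum_mul, map_sum]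
  refine Finset.sum_congr rfl fun i _ => ?_
  rw [one_pow, mul_one, neg_pow, ← pow_mul,
    show PowerSeries.X ^ (d + 1) * ((-1) ^ i * PowerSeries.X ^ ((p - 1) * i) * ((d + 1).choose i : PowerSeries ℤ)) *
        (PowerSeries.invOneSubPow ℤ (d + 1)).val =
      PowerSeries.C ((-1) ^ i * ((d + 1).choose i : ℤ)) *
        ((PowerSeries.invOneSubPow ℤ (d + 1)).val * PowerSeries.X ^ (i * (p - 1) + (d + 1))) by
      push_cast [map_mul, map_pow, map_neg, map_one, map_natCast]; ring,
    PowerSeries.coeff_C_mul, PowerSeries.coeff_mul_X_pow']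
  congr 1
  split_ifs with h
  · rw [PowerSeries.invOneSubPow_val_succ_eq_mk_add_choose, PowerSeries.coeff_mk, Nat.add_sub_cancel]
    congr 1
    rw [show d + (s - (i * (p - 1) + (d + 1))) = s - i * (p - 1) - 1 by omega]
  · rfl

end Groth.Agent.S14039
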