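import Groth.Statements.S14040
import Mathlib

set_option autoImplicit false
universe u v
open W4c1frobunstiva

namespace Groth.Agent.S14040

open TensorProduct in
/-- Let A be a discrete valuation ring and B a Noetherian A-algebra such that the nilradical of B is
prime and meets the image of A only in 0 — the spectrum of B is irreducible and its generic point
lies over the generic point of A. If every fibre ring κ(p) ⊗_A B, p a prime of A, is reduced, then B
is reduced and flat over A. (Affine form of the statement for a dominant morphism from an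
irreducible scheme to the spectrum of a discrete valuation ring with reduced fibres. The published
statement also covers a scheme that is already reduced and does not assume it locally Noetherian;
this row treats reduced fibres with B Noetherian, without which the square-zero extension A ⊕
Frac(A)/A is a counterexample.) -/
theorem result (A : Type u) [CommRing A]
    [IsDomain A] [IsDiscreteValuationRing A] (B : Type v) [CommRing B] [Algebra A B]
    [IsNoetherianRing B] (hirr : (nilradical B).IsPrime)
    (hdom : (nilradical B).comap (algebraMap A B) = ⊥)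
    (hfib : ∀ p : PrimeSpectrum A, IsReduced (p.asIdeal.ResidueField ⊗[A] B)) :
    IsReduced B ∧ Module.Flat A B := by
  classical
  haveI := hirr
  obtain ⟨π, hπ⟩ := IsDiscreteValuationRing.exists_irreducible A
  let m := IsLocalRing.maximalIdeal A
  have hmax : m = Ideal.span {π} := (IsDiscreteValuationRing.irreducible_iff_uniformizer π).1 hπ
  have hπN : algebraMap A B π ∉ nilradical B := by
    intro h
    have : π ∈ (nilradical B).comap (algebraMap A B) := h
    rw [hdom] at this
    exact hπ.ne_zero (Ideal.mem_bot.1 this)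
  -- closed fibre
  have hdiv : ∀ x ∈ nilradical B, ∃ y ∈ nilradical B, x = algebraMap A B π * y := by
    intro x hx
    haveI : IsReduced (m.ResidueField ⊗[A] B) := hfib ⟨m, inferInstance⟩
    let e := AlgEquiv.ofBijective (IsScalarTower.toAlgHom A (A ⧸ m) m.ResidueField)
      (Ideal.bijective_algebraMap_quotient_residueField m)
    let J := m.map (algebraMap A B)
    let φ : (A ⧸ m) →ₐ[A] B ⧸ J := Ideal.Quotient.liftₐ m (Algebra.ofId A (B ⧸ J)) fun a ha => by
      rw [Algebra.ofId_apply, IsScalarTower.algebraMap_apply A B (B ⧸ J)]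
      exact Ideal.Quotient.eq_zero_iff_mem.2 (Ideal.mem_map_of_mem _ ha)
    let ψ := Algebra.TensorProduct.lift (φ.comp e.symm.toAlgHom) (Ideal.Quotient.mkₐ A J)
      (fun _ _ => Commute.all _ _)
    have h0 : (1 : m.ResidueField) ⊗ₜ[A] x = 0 := by
      have h1 : IsNilpotent ((Algebra.TensorProduct.includeRight : B →ₐ[A] m.ResidueField ⊗[A] B) x) :=
        (mem_nilradical.1 hx).map _
      exact IsReduced.eq_zero _ h1
    have h2 := congrArg ψ h0
    have h3 : x ∈ J := by
      simpa [ψ, Ideal.Quotient.eq_zero_iff_mem] using h2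
    have h4 : x ∈ Ideal.span {algebraMap A B π} := by
      simpa [J, hmax, Ideal.map_span] using h3
    obtain ⟨y, rfl⟩ := Ideal.mem_span_singleton'.1 h4
    exact ⟨y, (hirr.mem_or_mem hx).resolve_right hπN, mul_comm _ _⟩
  -- generic fibre
  have htors : ∀ x ∈ nilradical B, ∃ n : ℕ, algebraMap A B (π ^ n) * x = 0 := by
    intro x hx
    haveI : IsReduced ((⊥ : Ideal A).ResidueField ⊗[A] B) := hfib ⟨⊥, Ideal.isPrime_bot⟩
    haveI : IsLocalizedModule (nonZeroDivisors A)
        (TensorProduct.mk A (⊥ : Ideal A).ResidueField B 1) :=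
      (isLocalizedModule_iff_isBaseChange (nonZeroDivisors A) (⊥ : Ideal A).ResidueField _).2
        (TensorProduct.isBaseChange A B (⊥ : Ideal A).ResidueField)
    have h0 : (1 : (⊥ : Ideal A).ResidueField) ⊗ₜ[A] x = 0 := by
      have h1 : IsNilpotent
          ((Algebra.TensorProduct.includeRight : B →ₐ[A] (⊥ : Ideal A).ResidueField ⊗[A] B) x) :=
        (mem_nilradical.1 hx).map _
      exact IsReduced.eq_zero _ h1
    obtain ⟨⟨a, ha⟩, hax⟩ :=
      (IsLocalizedModule.eq_zero_iff (nonZeroDivisors A) (TensorProduct.mk A (⊥ : Ideal A).ResidueField B 1)).1 h0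
    obtain ⟨n, u, rfl⟩ := IsDiscreteValuationRing.eq_unit_mul_pow_irreducible (nonZeroDivisors.ne_zero ha) hπ
    refine ⟨n, ?_⟩
    have h5 : algebraMap A B (↑u * π ^ n) * x = 0 := by
      rw [← Algebra.smul_def]
      exact hax
    rw [map_mul, mul_assoc] at h5
    exact (IsUnit.mul_right_eq_zero ((u.isUnit).map (algebraMap A B))).1 h5
  have hpow : ∀ (n : ℕ), ∀ x ∈ nilradical B, ∃ y ∈ nilradical B, x = algebraMap A B (π ^ n) * y := by
    intro n
    induction n with
    | zero => intro x hx; exact ⟨x, hx, by simp⟩
    | succ n ih =>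
      intro x hx
      obtain ⟨y, hy, rfl⟩ := ih x hx
      obtain ⟨z, hz, rfl⟩ := hdiv y hy
      exact ⟨z, hz, by rw [pow_succ, map_mul, mul_assoc]⟩
  obtain ⟨G, hG⟩ := (IsNoetherian.noetherian (nilradical B) : (nilradical B).FG)
  choose k hk using fun g : G => htors g.1 (hG ▸ Submodule.subset_span g.2)
  obtain ⟨n, hn⟩ : ∃ n, ∀ x ∈ nilradical B, algebraMap A B (π ^ n) * x = 0 := by
    refine ⟨Finset.univ.sup k, fun x hx => ?_⟩
    rw [← hG] at hx
    induction hx using Submodule.span_induction with
    | mem g hg =>
      obtain ⟨d, hd⟩ : ∃ d, Finset.univ.sup k = d + k ⟨g, hg⟩ :=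
        ⟨_, (Nat.sub_add_cancel (Finset.le_sup (Finset.mem_univ (⟨g, hg⟩ : G)))).symm⟩
      rw [hd, pow_add, map_mul, mul_assoc, hk ⟨g, hg⟩, mul_zero]
    | zero => simp
    | add a b _ _ ha hb => rw [mul_add, ha, hb, add_zero]
    | smul a b _ hb => rw [smul_eq_mul, mul_left_comm, hb, mul_zero]
  have hN : ∀ x ∈ nilradical B, x = 0 := by
    intro x hx
    obtain ⟨y, hy, rfl⟩ := hpow n x hx
    exact hn y hy
  haveI hred : IsReduced B := ⟨fun x hx => hN x (mem_nilradical.2 hx)⟩
  haveI : IsDomain B := by
    have hbot : (⊥ : Ideal B).IsPrime := by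
      have : nilradical B = ⊥ := eq_bot_iff.2 fun x hx => by simpa using hN x hx
      exact this ▸ hirr
    haveI : Nontrivial B := ⟨⟨0, 1, fun h => hbot.ne_top (by
      rw [Ideal.eq_top_iff_one]; simp [← h])⟩⟩
    haveI : NoZeroDivisors B := ⟨fun {a b} h => by
      simpa using hbot.mem_or_mem (show a * b ∈ (⊥ : Ideal B) by simpa using h)⟩
    exact NoZeroDivisors.to_isDomain B
  refine ⟨hred, ?_⟩
  haveI : Module.IsTorsionFree A B := by
    refine Module.IsTorsionFree.mk fun a ha x y hxy => ?_
    have h : algebraMap A B a ≠ 0 := by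
      intro h0
      have : a ∈ (nilradical B).comap (algebraMap A B) := by
        rw [Ideal.mem_comap, h0]; exact zero_mem _
      rw [hdom] at this
      exact ha.ne_zero (Ideal.mem_bot.1 this)
    simp only [Algebra.smul_def] at hxy
    exact mul_left_cancel₀ h hxy
  infer_instance

end Groth.Agent.S14040
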