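import Groth.Statements.S2081
import Mathlib
import Groth.Agent.GenFin.Scheme
import Groth.Agent.SpreadOut.Components
import Groth.Agent.Unibranch.Open

set_option autoImplicit false
set_option linter.style.haveILetI false
universe u
open CategoryTheory AlgebraicGeometry
open Mor

namespace Groth.Agent.S2081

/-- Let `f : X → Y` be locally of finite type and quasi-compact. Suppose `X` and `Y` have finitely many
irreducible components and that a point of `X` is a generic point of an irreducible component
exactly when its image is one in `Y`. Then `f⁻¹(V) → V` is finite for some dense open `V ⊆ Y`. -/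
theorem result {X Y : Scheme.{u}} (f : X ⟶ Y) [LocallyOfFiniteType f]
    [QuasiCompact f] (hX : (irreducibleComponents (X : Type u)).Finite) (hY : (irreducibleComponents (Y : Type u)).Finite)
    (hgen : ∀ x : X, closure {x} ∈ irreducibleComponents (X : Type u) ↔
      closure {f.base x} ∈ irreducibleComponents (Y : Type u)) :
    ∃ V : Y.Opens, Dense (V : Set Y) ∧ IsFinite (f ∣_ V) := by
  classical
  -- generic points of `X`
  let G : Set X := {x | closure {x} ∈ irreducibleComponents (X : Type u)}
  have hGfin : G.Finite := by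
    have h := hX.preimage (f := fun x : X => closure ({x} : Set X))
      (fun a _ b _ h => ((isGenericPoint_closure (x := a)).eq
        (show IsGenericPoint b (closure {a}) from (h : closure {a} = closure {b}).symm)))
    exact h
  have hnot : ∀ x ∈ G, ∀ z ∈ G, z ≠ x → x ∉ closure ({z} : Set X) := fun x hx z hz hne hxz =>
    hne (Unibranch.max_of_component hx isGenericPoint_closure z (specializes_iff_mem_closure.mpr hxz))
  have hB : ∀ x : G, ∃ B : X.Opens, IsAffineOpen B ∧ x.1 ∈ B ∧
      ∀ z ∈ B, z ∉ ⋃ x' ∈ G \ {x.1}, closure ({x'} : Set X) := by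
    intro x
    have hC : IsClosed (⋃ x' ∈ G \ {x.1}, closure ({x'} : Set X)) :=
      (hGfin.subset Set.sdiff_subset).isClosed_biUnion fun _ _ => isClosed_closure
    have hxC : x.1 ∉ ⋃ x' ∈ G \ {x.1}, closure ({x'} : Set X) := fun h => by
      obtain ⟨z, ⟨hz, hne⟩, hxz⟩ := Set.mem_iUnion₂.mp h
      exact hnot x.1 x.2 z hz hne hxz
    obtain ⟨_, ⟨B : X.Opens, (hB : IsAffineOpen B), rfl⟩, hxB, hBC⟩ :=
      X.isBasis_affineOpens.exists_subset_of_mem_open (a := x.1) hxC hC.isOpen_compl
    exact ⟨B, hB, hxB, fun z hz => hBC hz⟩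
  choose B hBaff hxB hBdisj using hB
  haveI : Finite G := hGfin.to_subtype
  have hdisj : Pairwise (Function.onFun Disjoint B) := by
    intro x x' hne
    rw [Function.onFun, disjoint_iff, eq_bot_iff]
    rintro z ⟨hz, hz'⟩
    obtain ⟨w, hw⟩ := QuasiSober.sober (isIrreducible_irreducibleComponent (x := z))
      isClosed_irreducibleComponent
    have hwG : w ∈ G := by
      show closure ({w} : Set X) ∈ irreducibleComponents (X : Type u)
      rw [show closure {w} = irreducibleComponent z from hw]
      exact irreducibleComponent_mem_irreducibleComponents z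
    have hzw : z ∈ closure ({w} : Set X) := by
      rw [show closure {w} = irreducibleComponent z from hw]; exact mem_irreducibleComponent
    by_cases hwx : w = x.1
    · exact hBdisj x' z hz' (Set.mem_biUnion ⟨hwG, fun h => hne (Subtype.ext (hwx.symm.trans h))⟩ hzw)
    · exact hBdisj x z hz (Set.mem_biUnion ⟨hwG, hwx⟩ hzw)
  let A : X.Opens := ⨆ x, B x
  have hA : IsAffineOpen A := IsAffineOpen.iSup_of_disjoint hBaff hdisj
  -- a finite neighbourhood of each generic point of `Y`
  have hV : ∀ η : {η : Y // closure {η} ∈ irreducibleComponents (Y : Type u)},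
      ∃ V : Y.Opens, η.1 ∈ V ∧ IsFinite (f ∣_ V) := by
    rintro ⟨η, hη⟩
    have hmax : ∀ y, y ⤳ η → y = η := fun y hy => Unibranch.max_of_component hη isGenericPoint_closure y hy
    have hT : η ∉ closure (f '' (A : Set X)ᶜ) := by
      intro hc
      obtain ⟨z, hz, hzη⟩ := SpreadOut.exists_specializes_of_mem_closure_image f A.2.isClosed_compl hc
      have hzG : z ∈ G := (hgen z).mpr (hmax _ hzη ▸ hη)
      exact hz (TopologicalSpace.Opens.mem_iSup.mpr ⟨⟨z, hzG⟩, hxB ⟨z, hzG⟩⟩)
    obtain ⟨_, ⟨V : Y.Opens, (hV : IsAffineOpen V), rfl⟩, hηV, hVT⟩ :=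
      Y.isBasis_affineOpens.exists_subset_of_mem_open (a := η) hT isClosed_closure.isOpen_compl
    have hsub : f ⁻¹ᵁ V ≤ A := fun z hz => by
      by_contra hzA
      exact hVT hz (subset_closure ⟨z, hzA, rfl⟩)
    haveI : IsAffine V.toScheme := hV
    haveI : IsAffine A.toScheme := hA
    haveI : QuasiSeparatedSpace (f ⁻¹ᵁ V).toScheme :=
      (X.homOfLE hsub).isOpenEmbedding.quasiSeparatedSpace
    haveI : QuasiSeparated (f ∣_ V) := (quasiSeparated_iff_quasiSeparatedSpace _).mpr inferInstance
    haveI : QuasiCompact (f ∣_ V) := IsZariskiLocalAtTarget.restrict ‹_› V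
    haveI : LocallyOfFiniteType (f ∣_ V) := IsZariskiLocalAtTarget.restrict ‹_› V
    have hfin : ((f ∣_ V) ⁻¹' {(⟨η, hηV⟩ : V.toScheme)}).Finite := by
      refine (hGfin.preimage (f ⁻¹ᵁ V).ι.isOpenEmbedding.injective.injOn).subset fun z hz => ?_
      have e : f ((f ⁻¹ᵁ V).ι z) = η := by
        rw [← Scheme.Hom.comp_apply, ← morphismRestrict_ι, Scheme.Hom.comp_apply,
          show (f ∣_ V) z = (⟨η, hηV⟩ : V.toScheme) from hz]
        rfl
      show closure {(f ⁻¹ᵁ V).ι z} ∈ irreducibleComponents (X : Type u)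
      exact (hgen _).mpr (e.symm ▸ hη)
    obtain ⟨D, -, hηD, hDfin⟩ := GenFin.exists_isFinite (f ∣_ V) ⟨η, hηV⟩
      (fun y hy => Subtype.ext (hmax _ (hy.map V.ι.continuous))) hfin
    exact ⟨V.ι ''ᵁ D, ⟨⟨η, hηV⟩, hηD, rfl⟩,
      (MorphismProperty.arrow_mk_iso_iff @IsFinite (morphismRestrictRestrict f V D)).mp hDfin⟩
  choose V hηV hVfin using hV
  refine ⟨⨆ η, V η, ?_, ?_⟩
  · intro y
    obtain ⟨η, hη⟩ := QuasiSober.sober (isIrreducible_irreducibleComponent (x := y))
      isClosed_irreducibleComponent
    have hη' : closure {η} ∈ irreducibleComponents (Y : Type u) := by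
      rw [show closure {η} = irreducibleComponent y from hη]
      exact irreducibleComponent_mem_irreducibleComponents y
    have hy : y ∈ closure ({η} : Set Y) := by
      rw [show closure {η} = irreducibleComponent y from hη]; exact mem_irreducibleComponent
    exact closure_mono (Set.singleton_subset_iff.mpr
      (TopologicalSpace.Opens.mem_iSup.mpr ⟨⟨η, hη'⟩, hηV _⟩)) hy
  · let U := ⨆ η, V η
    let U'' : {η : Y // closure {η} ∈ irreducibleComponents (Y : Type u)} → U.toScheme.Opens :=
      fun η => U.ι ⁻¹ᵁ V η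
    have hU'' : ⨆ η, U'' η = ⊤ := by
      refine eq_top_iff.mpr fun z _ => ?_
      obtain ⟨η, hη⟩ := TopologicalSpace.Opens.mem_iSup.mp z.2
      exact TopologicalSpace.Opens.mem_iSup.mpr ⟨η, hη⟩
    have e : ∀ η, U.ι ''ᵁ U'' η = V η := fun η => by
      rw [Scheme.Hom.image_preimage_eq_opensRange_inf, Scheme.Opens.opensRange_ι, inf_eq_right]
      exact le_iSup V η
    exact IsZariskiLocalAtTarget.of_iSup_eq_top U'' hU'' fun η =>
      (MorphismProperty.arrow_mk_iso_iff @IsFinite
        (morphismRestrictRestrict f U (U'' η) ≪≫ morphismRestrictEq f (e η))).mpr (hVfin η)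

end Groth.Agent.S2081
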