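import Groth.Statements.S9702
import Mathlib
import Groth.Agent.GenFin.Dense
import Groth.Agent.S2081

set_option autoImplicit false
set_option linter.style.haveILetI false
universe u
open CategoryTheory CategoryTheory.Limits AlgebraicGeometry
open Mor

namespace Groth.Agent.S9702

open CategoryTheory AlgebraicGeometry in
theorem finite_residue_iff {X Y : Scheme.{u}} [IsIntegral X] [IsIntegral Y] (f : X ⟶ Y)
    (hη : f (genericPoint X) = genericPoint Y) :
    (letI := (f.residueFieldMap (genericPoint X)).hom.toAlgebra;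
      Module.Finite (Y.residueField (f.base (genericPoint X))) (X.residueField (genericPoint X))) ↔
      f.QuasiFiniteAt (genericPoint X) := by
  have hX : IsField (X.presheaf.stalk (genericPoint X)) := Field.toIsField X.functionField
  have hY : IsField (Y.presheaf.stalk (f (genericPoint X))) := by
    rw [hη]; exact Field.toIsField Y.functionField
  have hbX : Function.Bijective (X.residue (genericPoint X)) := by
    letI := hX.toField
    exact ⟨RingHom.injective _, Ideal.Quotient.mk_surjective⟩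
  have hbY : Function.Bijective (Y.residue (f (genericPoint X))) := by
    letI := hY.toField
    exact ⟨RingHom.injective _, Ideal.Quotient.mk_surjective⟩
  let eX := RingEquiv.ofBijective _ hbX
  let eY := RingEquiv.ofBijective _ hbY
  have hcomm : ∀ a, f.residueFieldMap (genericPoint X) (eY a) = eX (f.stalkMap (genericPoint X) a) := fun a =>
    congrArg (fun φ : Y.presheaf.stalk (f (genericPoint X)) ⟶ X.residueField (genericPoint X) => φ a)
      (Scheme.residue_residueFieldMap f (genericPoint X))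
  change (f.residueFieldMap (genericPoint X)).hom.Finite ↔ _
  have hfin : (f.residueFieldMap (genericPoint X)).hom.Finite ↔ (f.stalkMap (genericPoint X)).hom.Finite := by
    constructor
    · intro h
      have e : (f.stalkMap (genericPoint X)).hom =
          (eX.symm.toRingHom.comp (f.residueFieldMap (genericPoint X)).hom).comp eY.toRingHom :=
        RingHom.ext fun a => ((congrArg eX.symm (hcomm a)).trans (eX.symm_apply_apply _)).symm
      rw [e]
      exact ((RingHom.Finite.of_surjective _ eX.symm.surjective).comp h).comp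
        (RingHom.Finite.of_surjective _ eY.surjective)
    · intro h
      have e : (f.residueFieldMap (genericPoint X)).hom =
          (eX.toRingHom.comp (f.stalkMap (genericPoint X)).hom).comp eY.symm.toRingHom :=
        RingHom.ext fun a => by
          refine Eq.trans ?_ (hcomm (eY.symm a))
          exact congrArg _ (eY.apply_symm_apply a).symm
      rw [e]
      exact ((RingHom.Finite.of_surjective _ eX.surjective).comp h).comp
        (RingHom.Finite.of_surjective _ eY.symm.surjective)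
  rw [hfin, Scheme.Hom.QuasiFiniteAt]
  letI := hY.toField
  algebraize [(f.stalkMap (genericPoint X)).hom]
  exact (RingHom.finite_algebraMap.trans Algebra.QuasiFinite.iff_of_isArtinianRing.symm).trans
    RingHom.quasiFinite_algebraMap.symm

/-- Let X, Y be integral and f : X ⟶ Y dominant and locally of finite type, with ξ the generic point of
X (so f ξ is the generic point of Y). Then the following are equivalent: the residue field of ξ is
finite over that of f ξ; some nonempty affine opens U ⊆ X and V ⊆ Y with f(U) ⊆ V have U ⟶ V finite;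
every point of X that f sends to the generic point of Y equals ξ. Under the extra assumption that f
is quasi-compact or separated, these are also equivalent to: f⁻¹(V) ⟶ V is finite for some nonempty
affine open V ⊆ Y. (The published statement also lists transcendence degree 0 of the function field
extension, which for this finitely generated extension is equivalent to finiteness; this row omits
it.) -/
theorem result {X Y : Scheme.{u}} [IsIntegral X] [IsIntegral Y] (f : X ⟶ Y)
    [IsDominant f] [LocallyOfFiniteType f] :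
    let ξ := genericPoint ↥X
    let A := letI := (f.residueFieldMap ξ).hom.toAlgebra
      Module.Finite (Y.residueField (f.base ξ)) (X.residueField ξ)
    let B := ∃ (U : X.Opens) (V : Y.Opens) (hUV : U ≤ f ⁻¹ᵁ V), IsAffineOpen U ∧ IsAffineOpen V ∧
      Nonempty ↥U ∧ IsFinite (f.resLE V U hUV)
    let C := ∀ x : X, f.base x = genericPoint ↥Y → x = ξ
    let D := ∃ V : Y.Opens, IsAffineOpen V ∧ Nonempty ↥V ∧ IsFinite (f ∣_ V)
    (A ↔ B) ∧ (A ↔ C) ∧ (IsSeparated f ∨ QuasiCompact f → (A ↔ D)) := by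
  intro ξ A B C D
  classical
  have hη : f ξ = genericPoint Y := by
    refine IsGenericPoint.eq ?_ (genericPoint_spec Y)
    have h := (genericPoint_spec X).image f.continuous
    rwa [Set.image_univ, f.denseRange.closure_range] at h
  have hmaxX : ∀ z, ξ ⤳ z := fun z => (genericPoint_spec X).specializes trivial
  have hAP : A ↔ f.QuasiFiniteAt ξ := finite_residue_iff f hη
  have hPC : f.QuasiFiniteAt ξ → C := by
    intro hP x hx
    have hc : IsClosed ({f.asFiber ξ} : Set (f.fiber (f ξ))) := hP.isClopen_singleton_asFiber.1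
    let w := (f.fiberHomeo (f ξ)).symm ⟨x, hx.trans hη.symm⟩
    have h1 : f.asFiber ξ ⤳ w := by
      rw [← (f.fiberι (f ξ)).isEmbedding.isInducing.specializes_iff, f.fiberι_asFiber,
        f.fiberι_fiberHomeo_symm]
      exact hmaxX x
    have h2 : w ∈ ({f.asFiber ξ} : Set (f.fiber (f ξ))) := h1.mem_closed hc rfl
    have h3 : f.fiberι (f ξ) w = f.fiberι (f ξ) (f.asFiber ξ) := congrArg _ h2
    rwa [f.fiberι_asFiber, f.fiberι_fiberHomeo_symm] at h3
  have hCP : C → f.QuasiFiniteAt ξ := by
    intro hC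
    refine Scheme.Hom.quasiFiniteAt_iff_isOpen_singleton_asFiber.mpr ?_
    haveI : Subsingleton (f ⁻¹' {f ξ}) := ⟨fun a b => Subtype.ext
      ((hC a.1 (Eq.trans a.2 hη)).trans (hC b.1 (Eq.trans b.2 hη)).symm)⟩
    haveI : Subsingleton (f.fiber (f ξ)) := (f.fiberHomeo (f ξ)).toEquiv.subsingleton
    exact isOpen_discrete _
  have hP_of : ∀ (U : X.Opens) (V : Y.Opens) (hUV : U ≤ f ⁻¹ᵁ V), Nonempty U →
      IsFinite (f.resLE V U hUV) → f.QuasiFiniteAt ξ := by
    intro U V hUV hne hfin
    haveI := hfin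
    obtain ⟨u⟩ := hne
    have hξU : ξ ∈ U := (hmaxX u.1).mem_open U.2 u.2
    haveI : LocallyQuasiFinite (U.ι ≫ f) := by
      rw [← Scheme.Hom.resLE_comp_ι f hUV]; infer_instance
    exact Scheme.Hom.quasiFiniteAt_comp_iff_of_isOpenImmersion.mp
      ((U.ι ≫ f).quasiFiniteAt (⟨ξ, hξU⟩ : U.toScheme))
  have hDB : D → B := by
    rintro ⟨V, hV, hne, hfin⟩
    haveI := hfin
    haveI : IsAffine V.toScheme := hV
    refine ⟨f ⁻¹ᵁ V, V, le_rfl, isAffine_of_isAffineHom (f ∣_ V), hV, ?_, ?_⟩
    · obtain ⟨v⟩ := hne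
      exact ⟨⟨ξ, show f ξ ∈ V from hη.symm ▸ ((genericPoint_spec Y).specializes trivial).mem_open V.2 v.2⟩⟩
    · rwa [Scheme.Hom.resLE_eq_morphismRestrict]
  have hCB : C → ∃ (U : X.Opens) (V : Y.Opens) (hUV : U ≤ f ⁻¹ᵁ V), IsAffineOpen U ∧ IsAffineOpen V ∧
      ξ ∈ U ∧ f ξ ∈ V ∧ IsFinite (f.resLE V U hUV) := by
    intro hC
    obtain ⟨_, ⟨V₀ : Y.Opens, (hV₀ : IsAffineOpen V₀), rfl⟩, hηV₀, -⟩ :=
      Y.isBasis_affineOpens.exists_subset_of_mem_open (Set.mem_univ (f ξ)) isOpen_univ
    obtain ⟨_, ⟨U₀ : X.Opens, (hU₀ : IsAffineOpen U₀), rfl⟩, hξU₀, hU₀V⟩ :=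
      X.isBasis_affineOpens.exists_subset_of_mem_open (show ξ ∈ f ⁻¹ᵁ V₀ from hηV₀) (f ⁻¹ᵁ V₀).2
    haveI : IsAffine U₀.toScheme := hU₀
    haveI : IsAffine V₀.toScheme := hV₀
    let g := f.resLE V₀ U₀ hU₀V
    have hg : g ≫ V₀.ι = U₀.ι ≫ f := Scheme.Hom.resLE_comp_ι f hU₀V
    have hgf : ∀ u, V₀.ι (g u) = f (U₀.ι u) := fun u => by
      rw [← Scheme.Hom.comp_apply, hg, Scheme.Hom.comp_apply]
    haveI : LocallyOfFiniteType (g ≫ V₀.ι) := hg ▸ inferInstance
    haveI : LocallyOfFiniteType g := locallyOfFiniteType_of_comp g V₀.ι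
    obtain ⟨V', hV', hηV', hfin⟩ := GenFin.exists_isFinite g ⟨f ξ, hηV₀⟩
      (fun y hy => Subtype.ext (((hy.map V₀.ι.continuous).antisymm
        (show f ξ ⤳ y.1 by rw [hη]; exact (genericPoint_spec Y).specializes trivial)).eq))
      ((Set.finite_singleton (⟨ξ, hξU₀⟩ : U₀.toScheme)).subset fun u hu => Subtype.ext
        (hC u.1 (by rw [← hη]; exact (hgf u).symm.trans (congrArg V₀.ι hu))))
    let U : X.Opens := U₀.ι ''ᵁ (g ⁻¹ᵁ V')
    let V : Y.Opens := V₀.ι ''ᵁ V'
    have hUV : U ≤ f ⁻¹ᵁ V := by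
      rintro _ ⟨u, hu, rfl⟩
      exact ⟨g u, hu, hgf u⟩
    haveI := hfin
    refine ⟨U, V, hUV, (IsAffineOpen.preimage hV' g).image_of_isOpenImmersion _ |> fun h => h,
      hV'.image_of_isOpenImmersion _, ⟨⟨ξ, hξU₀⟩, ?_, rfl⟩, ⟨⟨f ξ, hηV₀⟩, hηV', rfl⟩, ?_⟩
    · show g ⟨ξ, hξU₀⟩ ∈ V'
      convert hηV'
      exact V₀.ι.isOpenEmbedding.injective (hgf _)
    · have e : f.resLE V U hUV =
          (U₀.ι.isoImage (g ⁻¹ᵁ V')).inv ≫ (g ∣_ V') ≫ (V₀.ι.isoImage V').hom := by
        rw [← cancel_mono V.ι, Scheme.Hom.resLE_comp_ι, Category.assoc, Category.assoc,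
          Scheme.Hom.isoImage_hom_ι, morphismRestrict_ι_assoc, hg, Scheme.Hom.isoImage_inv_ι_assoc]
      rw [e]
      infer_instance
  have hPA : f.QuasiFiniteAt ξ → A := hAP.mpr
  refine ⟨⟨fun hA => ?_, ?_⟩, ⟨fun hA => hPC (hAP.mp hA), fun hC => hPA (hCP hC)⟩, fun hs => ⟨fun hA => ?_, ?_⟩⟩
  · obtain ⟨U, V, hUV, hU, hV, hξU, -, hfin⟩ := hCB (hPC (hAP.mp hA))
    exact ⟨U, V, hUV, hU, hV, ⟨⟨ξ, hξU⟩⟩, hfin⟩
  · rintro ⟨U, V, hUV, -, -, hne, hfin⟩
    exact hPA (hP_of U V hUV hne hfin)
  · have hC := hPC (hAP.mp hA)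
    rcases hs with hsep | hqc
    · obtain ⟨U, V, hUV, hU, hV, hξU, hηV, hfin⟩ := hCB hC
      refine ⟨V, hV, ⟨⟨f ξ, hηV⟩⟩, ?_⟩
      haveI := hfin
      haveI : IsSeparated (f ∣_ V) := IsZariskiLocalAtTarget.restrict hsep V
      have hfac : X.homOfLE hUV ≫ (f ∣_ V) = f.resLE V U hUV := by
        rw [← cancel_mono V.ι, Category.assoc, morphismRestrict_ι, Scheme.Hom.resLE_comp_ι,
          Scheme.homOfLE_ι_assoc]
      haveI : IsFinite (X.homOfLE hUV ≫ (f ∣_ V)) := hfac ▸ hfin
      haveI : UniversallyClosed (X.homOfLE hUV) :=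
        UniversallyClosed.of_comp_of_isSeparated _ (f ∣_ V)
      have hsurj : Set.range (X.homOfLE hUV) = Set.univ := by
        refine Set.eq_univ_of_forall fun z => ?_
        have hξV : ξ ∈ f ⁻¹ᵁ V := hηV
        refine Specializes.mem_closed (x := (⟨ξ, hξV⟩ : (f ⁻¹ᵁ V).toScheme))
          ((f ⁻¹ᵁ V).ι.isOpenEmbedding.isInducing.specializes_iff.mp (hmaxX z.1))
          (X.homOfLE hUV).isClosedMap.isClosed_range ⟨⟨ξ, hξU⟩, ?_⟩
        refine (f ⁻¹ᵁ V).ι.isOpenEmbedding.injective ?_
        rw [← Scheme.Hom.comp_apply, Scheme.homOfLE_ι]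
        rfl
      haveI : IsIso (X.homOfLE hUV) := (isIso_iff_isOpenImmersion_and_surjective _).mpr
        ⟨inferInstance, ⟨fun z => (Set.eq_univ_iff_forall.mp hsurj z)⟩⟩
      exact (MorphismProperty.cancel_left_of_respectsIso @IsFinite (X.homOfLE hUV) (f ∣_ V)).mp ‹_›
    · haveI := hqc
      have hcompX : (irreducibleComponents (X : Type u)) = {Set.univ} := irreducibleComponents_eq_singleton
      have hcompY : (irreducibleComponents (Y : Type u)) = {Set.univ} := irreducibleComponents_eq_singleton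
      obtain ⟨V, hVd, hfin⟩ := S2081.result f (hcompX ▸ Set.finite_singleton _) (hcompY ▸ Set.finite_singleton _)
        (fun x => by
          rw [hcompX, hcompY, Set.mem_singleton_iff, Set.mem_singleton_iff]
          refine ⟨fun h => ?_, fun h => ?_⟩
          · rw [show x = ξ from IsGenericPoint.eq h (genericPoint_spec X), hη]; exact genericPoint_spec Y
          · rw [hC x (IsGenericPoint.eq h (genericPoint_spec Y))]; exact genericPoint_spec X)
      obtain ⟨v, hv⟩ := hVd.nonempty
      obtain ⟨_, ⟨V' : Y.Opens, (hV' : IsAffineOpen V'), rfl⟩, hvV', hV'V⟩ :=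
        Y.isBasis_affineOpens.exists_subset_of_mem_open hv V.2
      exact ⟨V', hV', ⟨⟨v, hvV'⟩⟩, GenFin.isFinite_mono f hV'V hfin⟩
  · intro hD
    obtain ⟨U, V, hUV, -, -, hne, hfin⟩ := hDB hD
    exact hPA (hP_of U V hUV hne hfin)

end Groth.Agent.S9702
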