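import Groth.Statements.S14041
import Groth.Agent.S9702
import Groth.Agent.S2080
import Groth.Agent.S0386
import Groth.Agent.EtaleSplit.GenericFinite
import Groth.Agent.OpenDim.Dims
import Groth.Agent.FlatDim.Trdeg
-- import your own Groth.Agent.* helpers here

set_option autoImplicit false
set_option backward.isDefEq.respectTransparency false
universe u
open CategoryTheory CategoryTheory.Limits AlgebraicGeometry
open W4c1frobunstiva

namespace Groth.Agent.S14041

open AlgebraicGeometry Limits in
/-- The rank of a finite flat scheme over a field is the dimension of its global sections. -/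
theorem finrank_eq_finrank_sections {K : Type u} [Field K] {Z : Scheme.{u}} (g : Z ⟶ Spec (CommRingCat.of K))
    [IsFinite g] [Flat g] (s : ↥(Spec (CommRingCat.of K))) :
    g.finrank s = (letI := ((Scheme.ΓSpecIso (CommRingCat.of K)).inv ≫ g.appTop).hom.toAlgebra;
      Module.finrank K ↑(Γ(Z, ⊤))) := by
  haveI : IsAffine Z := isAffine_of_isAffineHom g
  let φ := (Scheme.ΓSpecIso (CommRingCat.of K)).inv ≫ g.appTop
  letI := φ.hom.toAlgebra
  have hg : g = Z.isoSpec.hom ≫ Spec.map φ := by
    apply ext_to_Spec
    simp [φ, Scheme.isoSpec]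
  haveI : IsFinite (Spec.map φ) := by
    rw [← MorphismProperty.cancel_left_of_respectsIso @IsFinite Z.isoSpec.hom, ← hg]; infer_instance
  haveI : Module.Finite K ↑(Γ(Z, ⊤)) := RingHom.finite_algebraMap.1 ((IsFinite.SpecMap_iff _).1 ‹_›)
  haveI : Flat (Spec.map φ) := by
    rw [← MorphismProperty.cancel_left_of_respectsIso @Flat Z.isoSpec.hom, ← hg]; infer_instance
  have h2 := Scheme.Hom.finrank_comp_left_of_isIso Z.isoSpec.hom (Spec.map φ)
  rw [← hg] at h2
  rw [h2]
  exact (Scheme.Hom.finrank_SpecMap_algebraMap K ↑(Γ(Z, ⊤)) s).trans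
    (by rw [Module.rankAtStalk_eq_finrank_of_free]; simp)

/-- Let k be a field, X and Y integral schemes of finite type over k of the same (topological Krull)
dimension, and f : X → Y a dominant k-morphism, so that f sends the generic point ξ of X to the
generic point of Y. Then κ(ξ) is a finite extension of the residue field at f(ξ), say of degree d,
and there is a non-empty open subset U of Y such that for every point y of U the fibre X_y = X ×_Y
Spec κ(y) is finite over κ(y) and its ring of global sections has dimension exactly d over κ(y).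
(The published statement speaks of the length of X_y; the κ(y)-dimension of Γ(X_y, O) is the
invariant for which the equality holds on U, including at the generic point.) -/
theorem result (k : Type u) [Field k] {X Y : Scheme.{u}}
    [X.Over (Spec (CommRingCat.of k))] [Y.Over (Spec (CommRingCat.of k))]
    [LocallyOfFiniteType (X ↘ Spec (CommRingCat.of k))] [QuasiCompact (X ↘ Spec (CommRingCat.of k))]
    [LocallyOfFiniteType (Y ↘ Spec (CommRingCat.of k))] [QuasiCompact (Y ↘ Spec (CommRingCat.of k))]
    [IsIntegral X] [IsIntegral Y] (f : X ⟶ Y) [IsDominant f]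
    (hf : f ≫ (Y ↘ Spec (CommRingCat.of k)) = X ↘ Spec (CommRingCat.of k))
    (hdim : topologicalKrullDim ↥X = topologicalKrullDim ↥Y) :
    (letI := (f.residueFieldMap (genericPoint ↥X)).hom.toAlgebra;
      Module.Finite (Y.residueField (f.base (genericPoint ↥X))) (X.residueField (genericPoint ↥X))) ∧
    ∃ U : Y.Opens, Nonempty ↥U ∧ ∀ y : Y, y ∈ U →
      IsFinite (pullback.snd f (Y.fromSpecResidueField y)) ∧
        (letI := ((Scheme.ΓSpecIso (CommRingCat.of (Y.residueField y))).inv ≫
            (pullback.snd f (Y.fromSpecResidueField y)).appTop).hom.toAlgebra;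
          Module.finrank (Y.residueField y) ↑(Γ(pullback f (Y.fromSpecResidueField y), ⊤))) =
        (letI := (f.residueFieldMap (genericPoint ↥X)).hom.toAlgebra;
          Module.finrank (Y.residueField (f.base (genericPoint ↥X))) (X.residueField (genericPoint ↥X))) := by
  classical
  haveI : LocallyOfFiniteType (f ≫ (Y ↘ Spec (CommRingCat.of k))) := by rw [hf]; infer_instance
  haveI : LocallyOfFiniteType f := locallyOfFiniteType_of_comp f (Y ↘ Spec (CommRingCat.of k))
  haveI : IsLocallyNoetherian Y := LocallyOfFiniteType.isLocallyNoetherian (Y ↘ Spec (CommRingCat.of k))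
  haveI : IsLocallyNoetherian X := LocallyOfFiniteType.isLocallyNoetherian f
  haveI : CompactSpace X := QuasiCompact.compactSpace_of_compactSpace (X ↘ Spec (CommRingCat.of k))
  haveI : QuasiCompact f := inferInstance
  haveI : QuasiSeparated f := inferInstance
  haveI : LocallyOfFinitePresentation f := inferInstance
  have hη : f (genericPoint X) = genericPoint Y :=
    ((genericPoint_spec X).image f.continuous).eq (by
      rw [Set.image_univ, f.denseRange.closure_range]
      exact genericPoint_spec Y)
  open Groth.Agent.DimFormulaLib Groth.Agent.OpenDim in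
  have hC : ∀ x : X, f.base x = genericPoint Y → x = genericPoint X := by
    intro x hx
    by_contra hne
    have hsp : genericPoint X ⤳ x := genericPoint_specializes x
    have h1 := topologicalKrullDim_eq_trdeg (X ↘ Spec (CommRingCat.of k)) _ (resTrdegAt_eq_trd _ (genericPoint X))
    have h2 := topologicalKrullDim_eq_trdeg (Y ↘ Spec (CommRingCat.of k)) _ (resTrdegAt_eq_trd _ (genericPoint Y))
    rw [hdim, h2, Nat.cast_inj] at h1
    have h3 := Groth.Agent.FlatDim.resTrdegAt_comp f (Y ↘ Spec (CommRingCat.of k)) (genericPoint X)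
    rw [Groth.Agent.FlatDim.resTrdegAt_congr hf (genericPoint X), hη, resTrdegAt_eq_trd, resTrdegAt_eq_trd,
      resTrdegAt_eq_trd, ← Nat.cast_add, Nat.cast_inj] at h3
    have h4 := trd_lt f hsp (Ne.symm hne) (hη.trans hx.symm)
    omega
  haveI hfin : (letI := (f.residueFieldMap (genericPoint ↥X)).hom.toAlgebra;
      Module.Finite (Y.residueField (f.base (genericPoint ↥X))) (X.residueField (genericPoint ↥X))) :=
    (Groth.Agent.S9702.result f).2.1.2 hC
  refine ⟨hfin, ?_⟩
  obtain ⟨V₀, hV₀, hηV₀, hfinV₀⟩ := (Groth.Agent.S2080.result f (genericPoint Y) (by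
    rw [(genericPoint_spec Y).def]
    exact ⟨IrreducibleSpace.isIrreducible_univ _, fun _ _ _ => Set.subset_univ _⟩)).1
      ((Set.finite_singleton (genericPoint X)).subset fun x hx => hC x hx)
  -- shrink to the flat part
  let F : Set X := {x : X | ¬ (f.stalkMap x).hom.Flat}
  have hF : IsClosed F := (Groth.Agent.S0386.result f).isClosed_compl
  have hξF : genericPoint X ∉ F := by
    have hflat : (f.stalkMap (genericPoint X)).hom.Flat := by
      have hfield : IsField (Y.presheaf.stalk (f (genericPoint X))) := by
        rw [hη]; exact Field.toIsField Y.functionField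
      letI := hfield.toField
      letI := (f.stalkMap (genericPoint X)).hom.toAlgebra
      exact RingHom.flat_algebraMap_iff.2 (Module.Flat.of_free)
    exact fun h => h hflat
  have hFc : IsClosed ((f ∣_ V₀) '' ((f ⁻¹ᵁ V₀).ι ⁻¹' F)) :=
    (f ∣_ V₀).isClosedMap _ (hF.preimage (f ⁻¹ᵁ V₀).ι.continuous)
  let O : Y.Opens := V₀.ι ''ᵁ ⟨_, hFc.isOpen_compl⟩
  have hηO : genericPoint Y ∈ O := by
    refine ⟨⟨genericPoint Y, hηV₀⟩, ?_, rfl⟩
    rintro ⟨x, hx, hxe⟩
    apply hξF
    rw [← hC ((f ⁻¹ᵁ V₀).ι x) (by
      rw [← Scheme.Hom.comp_apply, ← morphismRestrict_ι, Scheme.Hom.comp_apply, hxe]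
      rfl)]
    exact hx
  obtain ⟨V, hV, hηV, hVO⟩ := exists_isAffineOpen_mem_and_subset (x := genericPoint Y) (U := O) hηO
  have hVV₀ : V ≤ V₀ := fun y hy => by
    obtain ⟨w, -, rfl⟩ := hVO hy
    exact w.2
  haveI : IsFinite (f ∣_ V) := by
    have h1 := Groth.Agent.EtaleSplit.isFinite_snd_of_le f hVV₀
    rw [← (isPullback_morphismRestrict f V).flip.isoPullback_hom_snd]
    infer_instance
  haveI : Flat (f ∣_ V) := by
    haveI := RingHom.toMorphismProperty_respectsIso_iff.mp RingHom.Flat.respectsIso
    rw [Flat.iff_flat_stalkMap]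
    intro x
    refine (MorphismProperty.arrow_mk_iso_iff (RingHom.toMorphismProperty RingHom.Flat)
      (morphismRestrictStalkMap f V x)).2 ?_
    by_contra hx
    obtain ⟨w, hw, hwe⟩ := hVO x.2
    refine hw ⟨⟨x.1, hVV₀ x.2⟩, hx, Subtype.ext (Eq.trans ?_ hwe.symm)⟩
    exact morphismRestrict_base_coe f V₀ ⟨x.1, hVV₀ x.2⟩
  haveI : LocallyOfFinitePresentation (f ∣_ V) := inferInstance
  have hconst : ∀ y : V, (f ∣_ V).finrank y = (f ∣_ V).finrank ⟨genericPoint Y, hηV⟩ := fun y =>
    (Scheme.Hom.isLocallyConstant_finrank (f ∣_ V)).apply_eq_of_isPreconnected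
      (s := Set.univ) (by
        haveI : Nonempty ↥V.toScheme := ⟨⟨genericPoint Y, hηV⟩⟩
        haveI : IsIntegral V.toScheme := inferInstance
        exact (IrreducibleSpace.isIrreducible_univ ↥V.toScheme).isConnected.isPreconnected)
      (Set.mem_univ _) (Set.mem_univ _)
  have hfib : ∀ (y : Y) (hy : y ∈ V), ∃ (_ : IsFinite (pullback.snd f (Y.fromSpecResidueField y)))
      (_ : Flat (pullback.snd f (Y.fromSpecResidueField y))),
      (pullback.snd f (Y.fromSpecResidueField y)).finrank (IsLocalRing.closedPoint _) =
        (f ∣_ V).finrank ⟨y, hy⟩ := by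
    intro y hy
    have hr : Set.range (Y.fromSpecResidueField y) ⊆ Set.range V.ι := by
      rw [Scheme.range_fromSpecResidueField, Scheme.Opens.range_ι]
      exact Set.singleton_subset_iff.2 hy
    let a := IsOpenImmersion.lift V.ι (Y.fromSpecResidueField y) hr
    have ha : a ≫ V.ι = Y.fromSpecResidueField y := IsOpenImmersion.lift_fac _ _ _
    have sq := isPullback_morphismRestrict f V
    let l := sq.lift (pullback.snd f (Y.fromSpecResidueField y) ≫ a) (pullback.fst f (Y.fromSpecResidueField y))
      (by rw [Category.assoc, ha, pullback.condition])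
    have hl : IsPullback l (pullback.snd f (Y.fromSpecResidueField y)) (f ∣_ V) a := by
      refine IsPullback.of_right (h₁₂ := (f ⁻¹ᵁ V).ι) (h₂₂ := V.ι) ?_ (sq.lift_fst _ _ _) sq.flip
      rw [sq.lift_snd, ha]
      exact IsPullback.of_hasPullback f _
    refine ⟨MorphismProperty.of_isPullback (P := @IsFinite) hl inferInstance,
      MorphismProperty.of_isPullback (P := @Flat) hl inferInstance, ?_⟩
    rw [Scheme.Hom.finrank_of_isPullback _ _ _ _ hl]
    refine congrArg _ (V.ι.isOpenEmbedding.injective ?_)
    rw [← Scheme.Hom.comp_apply, ha, Scheme.fromSpecResidueField_apply]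
    rfl
  obtain ⟨hfη, hflη, hrη⟩ := hfib (f (genericPoint X)) (hη.symm ▸ hηV)
  let r := Spec.map (f.residueFieldMap (genericPoint X))
  let s : Spec (X.residueField (genericPoint X)) ⟶ pullback f (Y.fromSpecResidueField (f (genericPoint X))) :=
    pullback.lift (X.fromSpecResidueField (genericPoint X)) r
      (f.SpecMap_residueFieldMap_fromSpecResidueField (genericPoint X)).symm
  have hpt : ∀ z, pullback.fst f (Y.fromSpecResidueField (f (genericPoint X))) z = genericPoint X := fun z =>
    hC _ (by
      rw [← Scheme.Hom.comp_apply, pullback.condition, Scheme.Hom.comp_apply, Scheme.fromSpecResidueField_apply, hη])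
  haveI : IsPreimmersion (pullback.fst f (Y.fromSpecResidueField (f (genericPoint X)))) := inferInstance
  haveI : Subsingleton ↥(pullback f (Y.fromSpecResidueField (f (genericPoint X)))) :=
    ⟨fun z w => (pullback.fst f (Y.fromSpecResidueField (f (genericPoint X)))).isEmbedding.injective
      ((hpt z).trans (hpt w).symm)⟩
  haveI : IsReduced (pullback f (Y.fromSpecResidueField (f (genericPoint X)))) := by
    haveI : ∀ z, _root_.IsReduced ((pullback f (Y.fromSpecResidueField (f (genericPoint X)))).presheaf.stalk z) := by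
      intro z
      have hsurj := (pullback.fst f (Y.fromSpecResidueField (f (genericPoint X)))).stalkMap_surjective z
      have hfield : IsField (X.presheaf.stalk ((pullback.fst f (Y.fromSpecResidueField (f (genericPoint X)))) z)) := by
        rw [hpt z]; exact Field.toIsField X.functionField
      letI := hfield.toField
      exact (MulEquiv.isField hfield ((RingEquiv.ofBijective _
        ⟨RingHom.injective _, hsurj⟩).symm.toMulEquiv)).toField |> fun F =>
          isReduced_of_injective _ (RingEquiv.ofBijective _ ⟨RingHom.injective _, hsurj⟩).symm.injective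
    exact isReduced_of_isReduced_stalk _
  haveI : IsFinite (s ≫ pullback.snd f (Y.fromSpecResidueField (f (genericPoint X)))) := by
    rw [pullback.lift_snd, IsFinite.SpecMap_iff]
    exact hfin
  haveI : IsFinite s := IsFinite.of_comp s (pullback.snd f (Y.fromSpecResidueField (f (genericPoint X))))
  haveI : Mono s := mono_of_mono_fac (pullback.lift_fst _ _ _ : s ≫ pullback.fst f _ = _)
  haveI : IsClosedImmersion s := (IsClosedImmersion.iff_isFinite_and_mono s).2 ⟨inferInstance, inferInstance⟩
  haveI : Surjective s := ⟨fun z => ⟨default, Subsingleton.elim _ _⟩⟩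
  haveI : IsIso s := isIso_of_isClosedImmersion_of_surjective s
  refine ⟨V, ⟨⟨genericPoint Y, hηV⟩⟩, fun y hy => ?_⟩
  obtain ⟨hfy, hfly, hry⟩ := hfib y hy
  refine ⟨hfy, ?_⟩
  refine (finrank_eq_finrank_sections (pullback.snd f (Y.fromSpecResidueField y)) (IsLocalRing.closedPoint _)).symm.trans ?_
  refine hry.trans ((hconst ⟨y, hy⟩).trans ?_)
  have he : (⟨f (genericPoint X), hη.symm ▸ hηV⟩ : V) = ⟨genericPoint Y, hηV⟩ := Subtype.ext hη
  rw [← he, ← hrη, ← Scheme.Hom.finrank_comp_left_of_isIso s, pullback.lift_snd]
  letI := (f.residueFieldMap (genericPoint ↥X)).hom.toAlgebra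
  exact (Scheme.Hom.finrank_SpecMap_algebraMap (Y.residueField (f (genericPoint X)))
    (X.residueField (genericPoint X)) _).trans (by rw [Module.rankAtStalk_eq_finrank_of_free]; simp)

end Groth.Agent.S14041
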