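import Groth.Statements.S14042
import Groth.Agent.S14041
import Groth.Agent.CMFlatLib.Local
import Groth.Agent.EtaleSplit.DegStrat
import Groth.Agent.EtaleSplit.SplitClosed
import Groth.Agent.EtaleSplit.LengthWeight

set_option autoImplicit false
universe u
open CategoryTheory CategoryTheory.Limits AlgebraicGeometry
open TopologicalSpace
open W4c1frobunstiva

namespace Groth.Agent.S14042

/-- Let k be a field, X and Y integral schemes of finite type over k of the same dimension whose local
rings are all regular, and f : X → Y a dominant and separated k-morphism; let d be the degree of the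
residue field of the generic point of X over that of the generic point of Y, a finite extension.
Then for every point y of Y, either the fibre X_y has positive dimension — it is not finite over
κ(y) — or its ring of global sections has dimension at most d over κ(y). (The published statement
speaks of length; the κ(y)-rank used here is at least the length, so this form implies the printed
one. The published statement does not mention separatedness: for the affine line with doubled origin
mapping to the affine line — regular, dominant, degree 1 — the fibre over the origin is two reduced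
points, of rank 2; the étale-local splitting of a quasi-finite morphism used in the published proof
needs f separated, so f is taken separated here.) -/
theorem result (k : Type u) [Field k] {X Y : Scheme.{u}}
    [X.Over (Spec (CommRingCat.of k))] [Y.Over (Spec (CommRingCat.of k))]
    [LocallyOfFiniteType (X ↘ Spec (CommRingCat.of k))] [QuasiCompact (X ↘ Spec (CommRingCat.of k))]
    [LocallyOfFiniteType (Y ↘ Spec (CommRingCat.of k))] [QuasiCompact (Y ↘ Spec (CommRingCat.of k))]
    [IsIntegral X] [IsIntegral Y] (f : X ⟶ Y) [IsDominant f]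
    (hf : f ≫ (Y ↘ Spec (CommRingCat.of k)) = X ↘ Spec (CommRingCat.of k))
    (hdim : topologicalKrullDim ↥X = topologicalKrullDim ↥Y)
    [IsSeparated f] (hX : ∀ x : X, IsRegularLocalRing (X.presheaf.stalk x))
    (hY : ∀ y : Y, IsRegularLocalRing (Y.presheaf.stalk y)) (y : Y)
    (hy : IsFinite (pullback.snd f (Y.fromSpecResidueField y))) :
    (letI := ((Scheme.ΓSpecIso (CommRingCat.of (Y.residueField y))).inv ≫
            (pullback.snd f (Y.fromSpecResidueField y)).appTop).hom.toAlgebra;
          Module.finrank (Y.residueField y) ↑(Γ(pullback f (Y.fromSpecResidueField y), ⊤))) ≤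
      (letI := (f.residueFieldMap (genericPoint ↥X)).hom.toAlgebra;
          Module.finrank (Y.residueField (f.base (genericPoint ↥X))) (X.residueField (genericPoint ↥X))) := by
  classical

  haveI : LocallyOfFiniteType (f ≫ (Y ↘ Spec (CommRingCat.of k))) := by rw [hf]; infer_instance
  haveI : LocallyOfFiniteType f := locallyOfFiniteType_of_comp f (Y ↘ Spec (CommRingCat.of k))
  haveI : IsLocallyNoetherian Y := LocallyOfFiniteType.isLocallyNoetherian (Y ↘ Spec (CommRingCat.of k))
  haveI : IsLocallyNoetherian X := LocallyOfFiniteType.isLocallyNoetherian f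
  haveI : CompactSpace X := QuasiCompact.compactSpace_of_compactSpace (X ↘ Spec (CommRingCat.of k))
  haveI : IsNoetherian X := {}
  let qX := X ↘ Spec (CommRingCat.of k)
  let qY := Y ↘ Spec (CommRingCat.of k)
  let V : X.Opens := f.quasiFiniteLocus
  let g := V.ι ≫ f
  haveI : LocallyQuasiFinite g := inferInstanceAs (LocallyQuasiFinite (f.quasiFiniteLocus.ι ≫ f))
  haveI : CompactSpace ↥V.toScheme := isCompact_iff_compactSpace.mp (NoetherianSpace.isCompact (V : Set X))
  haveI : QuasiCompact g := inferInstance
  haveI : LocallyOfFiniteType g := inferInstanceAs (LocallyOfFiniteType (V.ι ≫ f))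
  haveI : LocallyOfFinitePresentation g := inferInstance
  haveI : IsSeparated g := inferInstanceAs (IsSeparated (V.ι ≫ f))
  have hF : Groth.Agent.EtaleSplit.FinFib g := fun y => IsFinite.of_locallyQuasiFinite _
  haveI : Flat g := by
    haveI := RingHom.toMorphismProperty_respectsIso_iff.mp RingHom.Flat.respectsIso
    rw [Flat.iff_flat_stalkMap]
    intro v
    let x : X := V.ι v
    haveI : IsRegularLocalRing (V.toScheme.presheaf.stalk v) := by
      haveI := hX (V.ι v)
      exact IsRegularLocalRing.of_ringEquiv (asIso (V.ι.stalkMap v)).commRingCatIsoToRingEquiv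
    haveI := hY (g v)
    letI := (g.stalkMap v).hom.toAlgebra
    haveI : IsArtinianRing (V.toScheme.presheaf.stalk v ⧸
        (IsLocalRing.maximalIdeal (Y.presheaf.stalk (g v))).map (g.stalkMap v).hom) :=
      ((isFiniteLength_iff_isNoetherian_isArtinian.mp (Groth.Agent.EtaleSplit.isFiniteLength_fib g v)).2 |>
        fun h => isArtinian_of_tower (V.toScheme.presheaf.stalk v) h)
    let I := (IsLocalRing.maximalIdeal (Y.presheaf.stalk (g v))).map (g.stalkMap v).hom
    have hle : I ≤ IsLocalRing.maximalIdeal (V.toScheme.presheaf.stalk v) :=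
      ((IsLocalRing.local_hom_TFAE (g.stalkMap v).hom).out 0 2 rfl rfl).mp inferInstance
    have hrad : I.radical = IsLocalRing.maximalIdeal (V.toScheme.presheaf.stalk v) := by
      refine le_antisymm (((IsLocalRing.maximalIdeal.isMaximal _).isPrime.radical_le_iff).2 hle) ?_
      rw [Ideal.radical_eq_sInf]
      refine le_sInf fun P hP => ?_
      haveI := hP.2
      haveI : (P.map (Ideal.Quotient.mk I)).IsPrime :=
        Ideal.map_isPrime_of_surjective Ideal.Quotient.mk_surjective (by rw [Ideal.mk_ker]; exact hP.1)
      haveI := IsArtinianRing.isMaximal_of_isPrime (P.map (Ideal.Quotient.mk I))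
      have hP' : (P.map (Ideal.Quotient.mk I)).comap (Ideal.Quotient.mk I) = P := by
        rw [Ideal.comap_map_of_surjective _ Ideal.Quotient.mk_surjective, ← RingHom.ker_eq_comap_bot,
          Ideal.mk_ker, sup_eq_left]
        exact hP.1
      haveI : P.IsMaximal := hP' ▸ Ideal.comap_isMaximal_of_surjective _ Ideal.Quotient.mk_surjective
      exact (IsLocalRing.eq_maximalIdeal ‹P.IsMaximal›).ge
    haveI : LocCoh.IsCohenMacaulayLocalRing (V.toScheme.presheaf.stalk v) :=
      Groth.Agent.CMFlatLib.cm_of_flat (V.toScheme.presheaf.stalk v) (V.toScheme.presheaf.stalk v) (by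
        rw [Algebra.algebraMap_self, Ideal.map_id]
        exact (IsLocalRing.maximalIdeal.isMaximal _).isPrime.radical)
    refine Groth.Agent.CMFlatLib.flat_of_cm _ _ hrad ?_
    haveI : Nonempty ↥V.toScheme := ⟨v⟩
    haveI : IsIntegral V.toScheme := inferInstance
    have hres : Groth.Agent.DimFormulaLib.resTrdegAt g v = 0 := by
      letI := (g.residueFieldMap v).hom.toAlgebra
      haveI : Module.Finite (Y.residueField (g v)) (V.toScheme.residueField v) :=
        Groth.Agent.EtaleSplit.finite_residueFieldMap g v (g.quasiFiniteAt v)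
      exact trdeg_eq_zero
    obtain ⟨a, t, ha, ht, hl, -⟩ := Groth.Agent.DimFormulaLib.field_dims (g ≫ qY) v
    obtain ⟨b, s, hb, hs, hl', -⟩ := Groth.Agent.DimFormulaLib.field_dims qY (g v)
    have hts : t = s := by
      rw [Groth.Agent.FlatDim.resTrdegAt_comp, hs, hres, add_zero] at ht
      exact_mod_cast ht.symm
    have hglob : ∀ {Z : Scheme.{u}} (q : Z ⟶ Spec (CommRingCat.of k)) [LocallyOfFiniteType q]
        [IrreducibleSpace Z] (z : Z), FlatMor.localDim ↥Z z = topologicalKrullDim ↥Z := by
      intro Z q _ _ z
      refine le_antisymm (iInf_le_of_le ⟨⊤, trivial⟩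
        (le_of_eq (Groth.Agent.DimFormulaLib.topologicalKrullDim_opens q ⊤ ⟨z, trivial⟩))) (le_iInf fun U => ?_)
      exact (Groth.Agent.DimFormulaLib.topologicalKrullDim_opens q U.1 ⟨z, U.2⟩).ge
    rw [hglob (g ≫ qY) v, show topologicalKrullDim ↥V.toScheme = topologicalKrullDim ↥X from
      Groth.Agent.DimFormulaLib.topologicalKrullDim_opens qX V ⟨v.1, v.2⟩, hdim] at hl
    rw [hglob qY (g v), hl] at hl'
    rw [ha, hb]
    have : a + t = b + s := by exact_mod_cast hl'
    exact_mod_cast (by omega : a = b)
  have key : ∀ y : Y, IsFinite (pullback.snd f (Y.fromSpecResidueField y)) →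
      (letI := ((Scheme.ΓSpecIso (CommRingCat.of (Y.residueField y))).inv ≫
          (pullback.snd f (Y.fromSpecResidueField y)).appTop).hom.toAlgebra;
        Module.finrank (Y.residueField y) ↑(Γ(pullback f (Y.fromSpecResidueField y), ⊤))) =
        Groth.Agent.EtaleSplit.fdeg g y := by
    intro y hy
    let p₁ := pullback.fst f (Y.fromSpecResidueField y)
    let p₂ := pullback.snd f (Y.fromSpecResidueField y)
    haveI : DiscreteTopology ↥(f.fiber y) := by
      haveI : IsFinite (f.fiberToSpecResidueField y) := hy
      haveI : IsLocallyArtinian (f.fiber y) := .of_locallyQuasiFinite (f.fiberToSpecResidueField y)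
      infer_instance
    have hmem : ∀ z, p₁ z ∈ V := fun z =>
      (Groth.Agent.EtaleSplit.isOpen_singleton_iff_quasiFiniteAt f y z).mp (isOpen_discrete _)
    have sq : IsPullback (pullback.fst V.ι p₁) (pullback.snd V.ι p₁ ≫ p₂) g (Y.fromSpecResidueField y) :=
      (IsPullback.of_hasPullback V.ι p₁).paste_vert (IsPullback.of_hasPullback f _)
    haveI : Surjective (pullback.snd V.ι p₁) := ⟨fun z => by
      obtain ⟨w, -, hw⟩ := Scheme.Pullback.exists_preimage_pullback (f := V.ι) (g := p₁) ⟨p₁ z, hmem z⟩ z rfl
      exact ⟨w, hw⟩⟩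
    haveI : Epi (pullback.snd V.ι p₁).base := (TopCat.epi_iff_surjective _).2 (pullback.snd V.ι p₁).surjective
    haveI : IsIso (pullback.snd V.ι p₁) := IsOpenImmersion.isIso _
    haveI : Flat (pullback.snd V.ι p₁ ≫ p₂) := MorphismProperty.of_isPullback (P := @Flat) sq inferInstance
    haveI : IsFinite p₂ := hy
    haveI : Flat p₂ := by
      have h : p₂ = inv (pullback.snd V.ι p₁) ≫ (pullback.snd V.ι p₁ ≫ p₂) := by rw [IsIso.inv_hom_id_assoc]
      rw [h]; infer_instance
    refine (@Groth.Agent.S14041.finrank_eq_finrank_sections _ _ _ p₂ hy ‹_› (IsLocalRing.closedPoint _)).symm.trans ?_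
    refine (congrFun (Scheme.Hom.finrank_comp_left_of_isIso (pullback.snd V.ι p₁) p₂).symm _).trans ?_
    exact (Groth.Agent.EtaleSplit.fdeg_of_fieldPoint g hF sq _).2.trans
      (congrArg _ (Scheme.fromSpecResidueField_apply _ _))
  obtain ⟨-, U, ⟨⟨u, hu⟩⟩, hU⟩ := Groth.Agent.S14041.result k f hf hdim
  have hηU : genericPoint Y ∈ U := (genericPoint_specializes u).mem_open U.isOpen hu
  obtain ⟨hfη, hdη⟩ := hU _ hηU
  have hη := (key _ hfη).symm.trans hdη
  have hall := (genericPoint_specializes y).mem_closed
    (Groth.Agent.EtaleSplit.isClosed_fdeg_le g hF (Groth.Agent.EtaleSplit.fdeg g (genericPoint Y) + 1))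
    (Nat.lt_succ_self _)
  refine le_trans (le_of_eq (key y hy)) ?_
  rw [← hη]
  exact Nat.lt_succ_iff.mp hall

end Groth.Agent.S14042
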