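import Groth.Statements.S14043
import Groth.Prelude.Def_W4c1frobunstivaNR
import Mathlib

set_option autoImplicit false
universe u v
open W4c1frobunstiva

namespace Groth.Agent.S14043

open Matrix

lemma isUnit_of_changes {R : Type*} [CommRing R] {M : Type*} [AddCommGroup M] [Module R M] {r : ℕ}
    {m0 m : Fin r → M} (hm0 : Submodule.span R (Set.range m0) = ⊤)
    (hrel : ∀ a : Fin r → R, (∑ i, a i • m0 i) = 0 → ∀ i, IsNilpotent (a i))
    (hm : Submodule.span R (Set.range m) = ⊤) :
    ∃ A B : Matrix (Fin r) (Fin r) R, IsUnit A ∧ IsUnit B ∧ (∀ j, m j = ∑ i, A j i • m0 i) ∧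
      (∀ j, m0 j = ∑ i, B j i • m i) := by
  choose A hA using fun j =>
    (Submodule.mem_span_range_iff_exists_fun R).1 (hm0.ge (Submodule.mem_top (x := m j)))
  choose B hB using fun j =>
    (Submodule.mem_span_range_iff_exists_fun R).1 (hm.ge (Submodule.mem_top (x := m0 j)))
  let A' : Matrix (Fin r) (Fin r) R := Matrix.of A
  let B' : Matrix (Fin r) (Fin r) R := Matrix.of B
  have hBA : ∀ j i, IsNilpotent ((B' * A' - 1) j i) := by
    intro j
    refine hrel _ ?_
    simp only [Matrix.sub_apply, sub_smul, Finset.sum_sub_distrib, Matrix.mul_apply, Finset.sum_smul,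
      mul_smul, Matrix.one_apply, ite_smul, one_smul, zero_smul, Finset.sum_ite_eq, Finset.mem_univ,
      if_true, A', B', Matrix.of_apply]
    rw [Finset.sum_comm]
    simp only [← Finset.smul_sum, hA, hB, sub_self]
  have hu : IsUnit (B' * A') := by
    rw [Matrix.isUnit_iff_isUnit_det]
    suffices h : Ideal.Quotient.mk (nilradical R) (B' * A').det = 1 by
      rw [← map_one (Ideal.Quotient.mk (nilradical R)), Ideal.Quotient.eq] at h
      simpa using (mem_nilradical.1 h).isUnit_add_one
    rw [RingHom.map_det]
    have : (Ideal.Quotient.mk (nilradical R)).mapMatrix (B' * A') = 1 := by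
      ext j i
      have h := Ideal.Quotient.eq_zero_iff_mem.2 (mem_nilradical.2 (hBA j i))
      rw [Matrix.sub_apply, map_sub, sub_eq_zero] at h
      simp [RingHom.mapMatrix_apply, h, Matrix.one_apply, apply_ite (Ideal.Quotient.mk (nilradical R))]
    rw [this, Matrix.det_one]
  rw [Matrix.isUnit_iff_isUnit_det, Matrix.det_mul, IsUnit.mul_iff] at hu
  exact ⟨A', B', (Matrix.isUnit_iff_isUnit_det _).2 hu.2, (Matrix.isUnit_iff_isUnit_det _).2 hu.1,
    fun j => (hA j).symm, fun j => (hB j).symm⟩

/-- Let R be a commutative Noetherian ring, M an R-module that is NR-free of rank r — generated by some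
r elements all of whose linear relations have nilpotent coefficients — and m, m' two generating
families of M, each indexed by the same finite set of size r. Then some invertible r × r matrix T
over R expresses m' in terms of m, m'_j = Σ_i T_{ji} m_i; reducing modulo the nilradical n, such a T
induces the change-of-basis matrix between the bases of M/nM given by the images of m and m' (an
r-element generating family of M is itself an NR-basis), so only the existence of an invertible T is
asserted here. (T is not unique.) -/
theorem result (R : Type u) [CommRing R]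
    [IsNoetherianRing R] (M : Type v) [AddCommGroup M] [Module R M] (r : ℕ)
    (hM : W4c1frobunstiva.IsNRFree R M r) (m m' : Fin r → M)
    (hm : Submodule.span R (Set.range m) = ⊤) (hm' : Submodule.span R (Set.range m') = ⊤) :
    ∃ T : Matrix (Fin r) (Fin r) R, IsUnit T ∧ ∀ j, m' j = ∑ i, T j i • m i := by
  obtain ⟨m0, h0, hrel⟩ := hM
  obtain ⟨A, B, -, hB, -, hmB⟩ := isUnit_of_changes h0 hrel hm
  obtain ⟨C, D, hC, -, hmC, -⟩ := isUnit_of_changes h0 hrel hm'
  refine ⟨C * B, hC.mul hB, fun j => ?_⟩
  rw [hmC]
  simp only [Matrix.mul_apply, Finset.sum_smul, mul_smul]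
  rw [Finset.sum_comm]
  simp only [← Finset.smul_sum, ← hmB]

end Groth.Agent.S14043
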