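import Groth.Statements.S14044
import Groth.Agent.HermiteLib.Basic
import Mathlib

set_option autoImplicit false
universe u
open W4c1frobunstiva

namespace Groth.Agent.S14044

open PowerSeries
set_option backward.isDefEq.respectTransparency false

/-- series in `t^p` -/
def pSeries (k : Type u) [Field k] (p : ℕ) : NonUnitalSubring (PowerSeries k) where
  carrier := {f | ∀ n, ¬ p ∣ n → coeff n f = 0}
  add_mem' {a b} ha hb n hn := by simp [ha n hn, hb n hn]
  zero_mem' n _ := by simp
  neg_mem' {a} ha n hn := by simp [ha n hn]
  mul_mem' {a b} ha hb n hn := by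
    rw [coeff_mul]
    refine Finset.sum_eq_zero fun x hx => ?_
    have hx : x.1 + x.2 = n := Finset.HasAntidiagonal.mem_antidiagonal.1 hx
    by_cases h1 : p ∣ x.1
    · rw [hb x.2 (fun h2 => hn (hx ▸ dvd_add h1 h2)), mul_zero]
    · rw [ha x.1 h1, zero_mul]

/-- Let k be a field, p a prime number and M a square matrix of size r over k[[t]] with non-zero
determinant. Allowing, besides invertible row operations over k[[t]], invertible column operations
by matrices with entries in k[[t^p]] (power series whose coefficients vanish in all degrees not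
divisible by p), M can be brought to a row-reduced form — upper triangular, diagonal entries
t^{e_i}, entries above the diagonal in column j polynomials of degree less than e_j — in which in
addition the (i, j) entry (i < j) has no term in a degree that is at least e_i and congruent to e_i
modulo p. (Existence only; the form is not unique. The published statement asks that no term in any
degree congruent to e_i modulo p remain; the published reduction — adding k[[t^p]]-multiples of
column i to column j — removes exactly the terms of degree at least e_i, which is what is asserted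
here. The published statement takes k algebraically closed of characteristic p, where k[[t^p]] is
the ring of p-th powers; neither assumption is used.) -/
theorem result (k : Type u)
    [Field k] (p : ℕ) [Fact p.Prime] (r : ℕ) (M : Matrix (Fin r) (Fin r) (PowerSeries k))
    (hM : M.det ≠ 0) :
    ∃ (N P : Matrix (Fin r) (Fin r) (PowerSeries k)) (e : Fin r → ℕ), IsUnit N ∧ IsUnit P ∧
      (∀ i j n, ¬ p ∣ n → PowerSeries.coeff n (P i j) = 0) ∧
      (∀ i, (N * M * P) i i = PowerSeries.X ^ e i) ∧ (∀ i j, j < i → (N * M * P) i j = 0) ∧
      (∀ i j, i < j → ∀ n, (e j ≤ n ∨ (e i ≤ n ∧ n % p = e i % p)) →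
        PowerSeries.coeff n ((N * M * P) i j) = 0) := by
  classical
  let D : ℕ → ℕ → Prop := fun e n => e ≤ n ∧ n % p = e % p
  have hsolve : ∀ (e : ℕ) (f : PowerSeries k), ∃ c ∈ pSeries k p, ∀ n, D e n → coeff n (f + X ^ e * c) = 0 := by
    intro e f
    refine ⟨PowerSeries.mk fun m => if p ∣ m then -coeff (e + m) f else 0, fun n hn => by simp [hn], fun n hn => ?_⟩
    obtain ⟨m, rfl⟩ := Nat.exists_eq_add_of_le hn.1
    have hm : p ∣ m := by
      have h2 := hn.2
      exact Nat.modEq_zero_iff_dvd.1 (Nat.ModEq.add_left_cancel' e (show e + m ≡ e + 0 [MOD p] from h2))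
    rw [map_add, coeff_X_pow_mul', if_pos (Nat.le_add_right e m), Nat.add_sub_cancel_left]
    simp [hm]
  obtain ⟨N0, e, hN0, hd0, hl0⟩ := Groth.Agent.HermiteLib.exists_upperTriangular r M hM
  obtain ⟨N, P, hN, hP, hd, hl, hr⟩ := Groth.Agent.HermiteLib.exists_reduced (pSeries k p) D hsolve r (N0 * M) e hd0 hl0
  rw [← Matrix.mul_assoc] at hd hl hr
  refine ⟨N * N0, P, e, (Matrix.isUnit_iff_isUnit_det _).2 (by rw [Matrix.det_mul]; exact hN.isUnit_det.mul hN0),
    (Matrix.isUnit_iff_isUnit_det _).2 hP.isUnit_det, fun i j n hn => ?_, hd, hl, fun i j h n hn => hr i j h n hn⟩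
  rcases lt_trichotomy i j with h | rfl | h
  · exact hP.2.2 i j h n hn
  · rw [hP.1, coeff_one, if_neg]
    rintro rfl
    exact hn (dvd_zero p)
  · rw [hP.2.1 i j h, map_zero]

end Groth.Agent.S14044
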