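import Groth.Statements.S14046
import Mathlib

set_option autoImplicit false
universe u v w
open W4c1frobunstiva

namespace Groth.Agent.S14046

open TensorProduct in
/-- Let R → A be a homomorphism of commutative rings and I, J ideals of A with I ∩ J = 0 — so that A is
the fibre product of A/I and A/J over A/(I + J), i.e. Spec A is the union of the two closed
subschemes in the strong sense — and suppose A/(I + J) is flat over R. Then this persists under
every base change: for every commutative R-algebra R', the ideals generated by I and J in R' ⊗_R A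
again meet in 0. (This is the ideal-theoretic, affine form of the base-change step; the exact
sequence of unit sheaves deduced from it in the published statement — restriction of units to a
closed subscheme being surjective locally — is not restated. Without flatness of A/(I + J) the
conclusion fails: for A = k[x, y]/(xy) over R = k[u] with u ↦ x + y, I = (x) and J = (y), the base
change to R/(u) gives k[x]/(x²), in which both ideals become (x).) -/
theorem result (R : Type u) (A : Type v)
    [CommRing R] [CommRing A] [Algebra R A] (I J : Ideal A) (hIJ : I ⊓ J = ⊥)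
    [Module.Flat R (A ⧸ (I ⊔ J))] (R' : Type w) [CommRing R'] [Algebra R R'] :
    I.map (Algebra.TensorProduct.includeRight : A →ₐ[R] R' ⊗[R] A) ⊓
      J.map (Algebra.TensorProduct.includeRight : A →ₐ[R] R' ⊗[R] A) = ⊥ := by
  let g : A →ₗ[R] (A ⧸ I) × (A ⧸ J) :=
    LinearMap.prod (Ideal.Quotient.mkₐ R I).toLinearMap (Ideal.Quotient.mkₐ R J).toLinearMap
  let fI : (A ⧸ I) →ₐ[R] A ⧸ (I ⊔ J) := Ideal.Quotient.factorₐ R le_sup_left
  let fJ : (A ⧸ J) →ₐ[R] A ⧸ (I ⊔ J) := Ideal.Quotient.factorₐ R le_sup_right
  let f : (A ⧸ I) × (A ⧸ J) →ₗ[R] A ⧸ (I ⊔ J) :=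
    fI.toLinearMap ∘ₗ LinearMap.fst R _ _ - fJ.toLinearMap ∘ₗ LinearMap.snd R _ _
  have hf : Function.Surjective f := by
    intro x
    obtain ⟨a, rfl⟩ := Ideal.Quotient.mk_surjective x
    exact ⟨(Ideal.Quotient.mk I a, 0), by simp [f, fI]⟩
  have hg : Function.Injective g := by
    rw [← LinearMap.ker_eq_bot, eq_bot_iff]
    intro a ha
    simp only [LinearMap.mem_ker, g, LinearMap.prod_apply, Function.prod_apply, Prod.mk_eq_zero,
      AlgHom.toLinearMap_apply, Ideal.Quotient.mkₐ_eq_mk, Ideal.Quotient.eq_zero_iff_mem] at ha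
    have : a ∈ I ⊓ J := ha
    rw [hIJ] at this
    simpa using this
  have hex : Function.Exact g f := by
    rintro ⟨x, y⟩
    obtain ⟨a, rfl⟩ := Ideal.Quotient.mk_surjective x
    obtain ⟨b, rfl⟩ := Ideal.Quotient.mk_surjective y
    constructor
    · intro h
      have h' : a - b ∈ I ⊔ J := by
        rw [← Ideal.Quotient.eq_zero_iff_mem, map_sub]
        simpa [f, fI, fJ] using h
      obtain ⟨i, hi, j, hj, hij⟩ := Submodule.mem_sup.1 h'
      refine ⟨a - i, ?_⟩
      simp only [g, LinearMap.prod_apply, Function.prod_apply, AlgHom.toLinearMap_apply,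
        Ideal.Quotient.mkₐ_eq_mk, Prod.mk.injEq, Ideal.Quotient.mk_eq_mk_iff_sub_mem]
      refine ⟨by simpa using I.neg_mem hi, ?_⟩
      have : a - i - b = j := by linear_combination -hij
      rwa [this]
    · rintro ⟨c, hc⟩
      rw [← hc]
      simp [f, fI, fJ, g]
  have hinj : Function.Injective (g.lTensor R') :=
    LinearMap.lTensor_injective_of_exact_of_flat f hf g hg hex R'
  rw [eq_bot_iff]
  intro x hx
  rw [Submodule.mem_bot]
  apply hinj
  rw [map_zero]
  have hzero : ∀ (K : Ideal A), x ∈ K.map (Algebra.TensorProduct.includeRight : A →ₐ[R] R' ⊗[R] A) →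
      (Ideal.Quotient.mkₐ R K).toLinearMap.lTensor R' x = 0 := by
    intro K hxK
    have hle : K.map (Algebra.TensorProduct.includeRight : A →ₐ[R] R' ⊗[R] A) ≤
        RingHom.ker (Algebra.TensorProduct.map (AlgHom.id R R') (Ideal.Quotient.mkₐ R K)).toRingHom := by
      rw [Ideal.map_le_iff_le_comap]
      intro a ha
      simp [Ideal.Quotient.eq_zero_iff_mem.2 ha]
    exact hle hxK
  apply (TensorProduct.prodRight R R R' (A ⧸ I) (A ⧸ J)).injective
  rw [map_zero]
  have : ∀ z : R' ⊗[R] A, TensorProduct.prodRight R R R' (A ⧸ I) (A ⧸ J) (g.lTensor R' z) =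
      ((Ideal.Quotient.mkₐ R I).toLinearMap.lTensor R' z,
        (Ideal.Quotient.mkₐ R J).toLinearMap.lTensor R' z) := by
    intro z
    induction z using TensorProduct.induction_on with
    | zero => simp only [map_zero]; rfl
    | tmul r a => simp [g]
    | add u v hu hv => simp only [map_add, hu, hv, Prod.mk_add_mk]
  rw [this, hzero I hx.1, hzero J hx.2, Prod.mk_zero_zero]

end Groth.Agent.S14046
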