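import Mathlib
import Groth.Statements.S14048

set_option autoImplicit false
universe u
open TensorProduct
open CAlg

namespace Groth.Agent.S14048
open Polynomial

/-- Rational numbers whose denominator divides a power of `D`. -/
def bounded (D : ℕ) : Subring ℚ where
  carrier := {q | ∃ (k : ℕ) (z : ℤ), q * (D : ℚ) ^ k = z}
  one_mem' := ⟨0, 1, by simp⟩
  zero_mem' := ⟨0, 0, by simp⟩
  mul_mem' := by
    rintro a b ⟨k, z, h⟩ ⟨l, w, h'⟩
    exact ⟨k + l, z * w, by rw [pow_add]; push_cast; rw [← h, ← h']; ring⟩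
  add_mem' := by
    rintro a b ⟨k, z, h⟩ ⟨l, w, h'⟩
    exact ⟨k + l, z * (D : ℤ) ^ l + w * (D : ℤ) ^ k, by rw [pow_add]; push_cast; rw [← h, ← h']; ring⟩
  neg_mem' := by
    rintro a ⟨k, z, h⟩
    exact ⟨k, -z, by push_cast; rw [← h]; ring⟩

theorem mem_bounded_of_den {D : ℕ} {q : ℚ} (h : q.den ∣ D) : q ∈ bounded D := by
  obtain ⟨c, rfl⟩ := h
  refine ⟨1, q.num * c, ?_⟩
  push_cast
  rw [pow_one, ← mul_assoc, Rat.mul_den_eq_num]

theorem not_inv_prime_mem {D p : ℕ} (hp : p.Prime) (hD : D ≠ 0) (hpD : D < p) :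
    ((p : ℚ)⁻¹) ∉ bounded D := by
  rintro ⟨k, z, h⟩
  have hp0 : (p : ℚ) ≠ 0 := Nat.cast_ne_zero.2 hp.ne_zero
  have h' : (D : ℚ) ^ k = (p : ℚ) * z := by
    rw [← h]; field_simp
  have h'' : ((D ^ k : ℕ) : ℤ) = (p : ℤ) * z := by
    have : ((((D ^ k : ℕ) : ℤ)) : ℚ) = (((p : ℤ) * z : ℤ) : ℚ) := by push_cast; exact h'
    exact_mod_cast this
  have hdvd : p ∣ D ^ k := Int.natCast_dvd_natCast.1 ⟨z, h''⟩
  have := Nat.le_of_dvd (Nat.pos_of_ne_zero hD) (hp.dvd_of_dvd_pow hdvd)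
  omega


/-- Let A be an integral domain in which 2 is invertible and let t be an element of A, so that Spec A is
a scheme over the affine line Spec ℤ[1/2][t]. Assume that (1) the ℚ-algebra map ℚ[X] → ℚ ⊗_ℤ A
sending X to 1 ⊗ t is bijective (the map Spec A → Spec ℤ[1/2][t] becomes an isomorphism after base
change to ℚ); (2) every prime number is invertible in A/(t) (the fibre over t = 0 is of pure
characteristic zero); and (3) there is a ring homomorphism s : A → ℤ[1/2] with s(t) = 1 (the fibre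
over t = 1 admits a section). Then A is not Noetherian. -/
theorem result (A : Type u) [CommRing A]
    [IsDomain A] (h2 : IsUnit (2 : A)) (t : A)
    (h1 : Function.Bijective (Polynomial.aeval (R := ℚ) ((1 : ℚ) ⊗ₜ[ℤ] t : ℚ ⊗[ℤ] A)))
    (h0 : ∀ p : ℕ, p.Prime → IsUnit ((p : ℕ) : A ⧸ Ideal.span ({t} : Set A)))
    (s : A →+* Localization.Away (2 : ℤ)) (hs : s t = 1) :
    ¬ IsNoetherianRing A := by
  intro hN
  let e := AlgEquiv.ofBijective (Polynomial.aeval (R := ℚ) ((1 : ℚ) ⊗ₜ[ℤ] t : ℚ ⊗[ℤ] A)) h1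
  let inc : A →+* ℚ ⊗[ℤ] A := (Algebra.TensorProduct.includeRight : A →ₐ[ℤ] ℚ ⊗[ℤ] A).toRingHom
  let φ : A →+* ℚ[X] := e.symm.toRingHom.comp inc
  have hφt : φ t = X := by
    show e.symm ((1 : ℚ) ⊗ₜ[ℤ] t) = X
    rw [AlgEquiv.symm_apply_eq]
    simp [e]
  have hunit2 : IsUnit ((algebraMap ℤ ℚ) 2) := by norm_num
  let j : Localization.Away (2 : ℤ) →+* ℚ := IsLocalization.Away.lift (2 : ℤ) hunit2
  have hev : ∀ a, (φ a).eval 1 = j (s a) := by
    let χ : ℚ ⊗[ℤ] A →ₐ[ℚ] ℚ := Algebra.TensorProduct.lift (AlgHom.id ℚ ℚ) (j.comp s).toIntAlgHom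
      (fun _ _ => Commute.all _ _)
    have hχ : χ.comp (e : ℚ[X] →ₐ[ℚ] ℚ ⊗[ℤ] A) = Polynomial.aeval 1 := by
      refine Polynomial.algHom_ext ?_
      simp [e, χ, hs]
    intro a
    have := DFunLike.congr_fun hχ (φ a)
    rw [Polynomial.coe_aeval_eq_eval] at this
    rw [← this]
    show χ (e (e.symm ((1 : ℚ) ⊗ₜ[ℤ] a))) = _
    rw [AlgEquiv.apply_symm_apply]
    simp [χ]
  obtain ⟨F, hF⟩ := (hN.noetherian (RingHom.ker s))
  let ψ : A →+* ℚ[X] := (Polynomial.compRingHom (X + 1)).comp φ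
  let N : ℕ := ∏ f ∈ F, ∏ i ∈ (ψ f).support, ((ψ f).coeff i).den
  have hN0 : N ≠ 0 := Finset.prod_ne_zero_iff.2 fun f _ => Finset.prod_ne_zero_iff.2 fun i _ => Rat.den_nz _
  let S := bounded (2 * N)
  have hψF : ∀ f ∈ F, ∀ i, (ψ f).coeff i ∈ S := by
    intro f hf i
    by_cases hi : i ∈ (ψ f).support
    · refine mem_bounded_of_den (Dvd.dvd.mul_left ?_ 2)
      exact (Finset.dvd_prod_of_mem (fun i => ((ψ f).coeff i).den) hi).trans
        (Finset.dvd_prod_of_mem (fun f => ∏ i ∈ (ψ f).support, ((ψ f).coeff i).den) hf)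
    · rw [Polynomial.notMem_support_iff.1 hi]; exact S.zero_mem
  have hj : ∀ x, j x ∈ S := by
    intro x
    obtain ⟨⟨z, ⟨_, k, rfl⟩⟩, hz⟩ := IsLocalization.surj (Submonoid.powers (2 : ℤ)) x
    have := congrArg j hz
    rw [map_mul, IsLocalization.Away.lift_eq, IsLocalization.Away.lift_eq] at this
    refine ⟨k, z * (N : ℤ) ^ k, ?_⟩
    simp only [map_pow, map_ofNat, eq_intCast] at this
    push_cast
    rw [mul_pow, ← mul_assoc, this]
  have h0c : ∀ a, (ψ a).coeff 0 = j (s a) := by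
    intro a
    rw [Polynomial.coeff_zero_eq_eval_zero, ← hev a]
    simp [ψ, Polynomial.eval_comp]
  have hFs : ∀ f ∈ F, (ψ f).coeff 0 = 0 := by
    intro f hf
    have : f ∈ RingHom.ker s := by rw [← hF]; exact Submodule.subset_span hf
    rw [h0c, RingHom.mem_ker.1 this, map_zero]
  have key : ∀ n a, (ψ a).coeff n ∈ S := by
    intro n
    induction n using Nat.strong_induction_on with
    | _ n ih =>
      rcases Nat.eq_zero_or_pos n with rfl | hn
      · intro a; rw [h0c]; exact hj _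
      intro a
      obtain ⟨⟨z, ⟨_, k, rfl⟩⟩, hz⟩ := IsLocalization.surj (Submonoid.powers (2 : ℤ)) (s a)
      have hmem : a * 2 ^ k - (z : A) ∈ RingHom.ker s := by
        rw [RingHom.mem_ker, map_sub, map_mul, map_pow, map_intCast, map_ofNat]
        simp only [map_pow, map_ofNat, eq_intCast] at hz
        rw [hz, sub_self]
      rw [← hF] at hmem
      obtain ⟨c, hc⟩ := Submodule.mem_span_finset.1 hmem
      have hc' := congrArg (fun x => (ψ x).coeff n) hc.2
      simp only [map_sum, smul_eq_mul, map_mul, map_sub, map_intCast, Polynomial.finsetSum_coeff,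
        map_pow, map_ofNat, Polynomial.coeff_sub] at hc'
      rw [show ((z : ℤ) : ℚ[X]) = Polynomial.C (z : ℚ) from (map_intCast (Polynomial.C : ℚ →+* ℚ[X]) z).symm,
        Polynomial.coeff_C, if_neg hn.ne', sub_zero] at hc'
      have h2k : ((2 : ℚ[X]) ^ k) = Polynomial.C ((2 : ℚ) ^ k) := by rw [map_pow, map_ofNat]
      rw [h2k, Polynomial.coeff_mul_C] at hc'
      have hS : (ψ a).coeff n * (2 : ℚ) ^ k ∈ S := by
        rw [← hc']
        refine S.sum_mem fun f hf => ?_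
        rw [Polynomial.coeff_mul]
        refine S.sum_mem fun ij hij => ?_
        rcases Nat.eq_zero_or_pos ij.2 with h | h
        · rw [h, hFs f hf, mul_zero]; exact S.zero_mem
        · have := Finset.HasAntidiagonal.mem_antidiagonal.1 hij
          exact S.mul_mem (ih _ (by omega) _) (hψF f hf _)
      obtain ⟨l, w, hw⟩ := hS
      refine ⟨l + k, w * (N : ℤ) ^ k, ?_⟩
      push_cast at hw ⊢
      rw [← hw, pow_add, mul_pow 2 (N : ℚ) k]; ring
  obtain ⟨p, hple, hp⟩ := Nat.exists_infinite_primes (2 * N + 1)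
  obtain ⟨v, hv⟩ := (h0 p hp).exists_right_inv
  obtain ⟨a, rfl⟩ := Ideal.Quotient.mk_surjective v
  rw [← map_natCast (Ideal.Quotient.mk _), ← map_mul, ← map_one (Ideal.Quotient.mk _),
    Ideal.Quotient.eq, Ideal.mem_span_singleton] at hv
  obtain ⟨b, hb⟩ := hv
  have h3 := congrArg (fun x => (φ x).eval 0) hb
  simp only [map_sub, map_mul, map_natCast, map_one, hφt, Polynomial.eval_sub, Polynomial.eval_mul,
    Polynomial.eval_natCast, Polynomial.eval_one, Polynomial.eval_X, zero_mul, sub_eq_zero] at h3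
  have h4 : (φ a).eval 0 ∈ S := by
    have hc : (φ a).eval 0 = (ψ a).eval (-1) := by simp [ψ, Polynomial.eval_comp]
    rw [hc, Polynomial.eval_eq_sum_range]
    exact S.sum_mem fun i _ => S.mul_mem (key i a) (S.pow_mem (S.neg_mem S.one_mem) _)
  rw [eq_inv_of_mul_eq_one_right h3] at h4
  exact not_inv_prime_mem hp (mul_ne_zero two_ne_zero hN0) (by omega) h4

end Groth.Agent.S14048
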