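import Groth.Statements.S14049
import Mathlib
import Groth.Agent.RegIdealLib.Immersion
-- import your own Groth.Agent.* helpers here

set_option autoImplicit false
universe u
open CategoryTheory AlgebraicGeometry
open LocStr

namespace Groth.Agent.S14049

/-- For schemes. Let f : X → Y be a morphism of schemes and let I be a quasi-coherent sheaf of ideals on
X which is nilpotent (some power of I is zero). Let X₁ ⊆ X be the closed subscheme defined by I².
Then f is a closed immersion as soon as the composite X₁ → X → Y is one. (The published statement is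
the same assertion for a morphism of algebraic stacks; it is stated here for schemes.) -/
theorem result (X Y : Scheme.{u}) (f : X ⟶ Y)
    (I : X.IdealSheafData) (hI : IsNilpotent I)
    (h : IsClosedImmersion ((I ^ 2).subschemeι ≫ f)) :
    IsClosedImmersion f := by
  have alg : ∀ {A B C : CommRingCat.{u}} (ψ : A ⟶ B) (π : B ⟶ C) (K : Ideal B) (n : ℕ),
      K ^ n = ⊥ → RingHom.ker π.hom = K ^ 2 → Function.Surjective (ψ ≫ π).hom →
      Function.Surjective ψ.hom := by
    intro A B C ψ π K n hn hker hs b
    have h2 : ∀ b : B, ∃ a, b - ψ.hom a ∈ K ^ 2 := fun b => by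
      obtain ⟨a, ha⟩ := hs (π.hom b)
      refine ⟨a, ?_⟩
      rw [← hker, RingHom.mem_ker, map_sub]
      exact sub_eq_zero.2 ha.symm
    have hk : ∀ k, ∀ x ∈ K ^ k, ∃ a, x - ψ.hom a ∈ K ^ (k + 1) := by
      intro k
      induction k with
      | zero => exact fun x _ => (h2 x).imp fun a ha => Ideal.pow_le_pow_right (by norm_num) ha
      | succ k ih =>
        intro x hx
        rw [pow_succ] at hx
        refine Submodule.mul_induction_on hx (fun p hp q hq => ?_) (fun p q hp hq => ?_)
        · obtain ⟨a1, h1⟩ := ih p hp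
          obtain ⟨a2, h2'⟩ := h2 q
          refine ⟨a1 * a2, ?_⟩
          have e : p * q - ψ.hom (a1 * a2) =
              p * (q - ψ.hom a2) + (p - ψ.hom a1) * q - (p - ψ.hom a1) * (q - ψ.hom a2) := by
            rw [map_mul]; ring
          rw [e]
          refine sub_mem (add_mem ?_ ?_) ?_
          · rw [show k + 1 + 1 = k + 2 from rfl, pow_add]; exact Ideal.mul_mem_mul hp h2'
          · rw [pow_succ K (k + 1)]; exact Ideal.mul_mem_mul h1 hq
          · have := Ideal.mul_mem_mul h1 h2'
            rw [← pow_add] at this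
            exact Ideal.pow_le_pow_right (by omega) this
        · obtain ⟨a1, h1⟩ := hp
          obtain ⟨a2, h2'⟩ := hq
          refine ⟨a1 + a2, ?_⟩
          rw [map_add, add_sub_add_comm]
          exact add_mem h1 h2'
    have hall : ∀ k, ∃ a, b - ψ.hom a ∈ K ^ k := by
      intro k
      induction k with
      | zero => exact ⟨0, by simp⟩
      | succ k ih =>
        obtain ⟨a, ha⟩ := ih
        obtain ⟨a', ha'⟩ := hk k _ ha
        exact ⟨a + a', by rwa [map_add, ← sub_sub]⟩
    obtain ⟨a, ha⟩ := hall n
    rw [hn, Ideal.mem_bot, sub_eq_zero] at ha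
    exact ⟨a, ha.symm⟩
  obtain ⟨n, hn⟩ := hI
  have hbot : ∀ U, I.ideal U ^ n = ⊥ := fun U => by
    have := congrArg (fun J : X.IdealSheafData => J.ideal U) hn
    simpa using this
  let ι := (I ^ 2).subschemeι
  have hsurj : Function.Surjective ι := by
    rw [← Set.range_eq_univ, show Set.range ι = ((I ^ 2).support : Set X) from (I ^ 2).range_subschemeι,
      Scheme.IdealSheafData.support_pow I 2 (by norm_num)]
    rcases eq_or_ne n 0 with rfl | hn0
    · refine Set.eq_univ_of_forall fun x => ?_
      obtain ⟨_, ⟨U, hU, rfl⟩, hxU, -⟩ :=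
        X.isBasis_affineOpens.exists_subset_of_mem_open (Set.mem_univ x) isOpen_univ
      exfalso
      have h1 := hbot ⟨U, hU⟩
      rw [pow_zero, Ideal.one_eq_top] at h1
      letI := TopCat.Presheaf.algebra_section_stalk X.presheaf ⟨x, hxU⟩
      have h2 : (1 : Γ(X, U)) = 0 := by
        have : (1 : Γ(X, U)) ∈ (⊥ : Ideal Γ(X, U)) := by rw [← h1]; exact Submodule.mem_top
        exact Ideal.mem_bot.1 this
      have := congrArg (X.presheaf.germ U x hxU).hom h2
      rw [map_one, map_zero] at this
      exact one_ne_zero this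
    · rw [← Scheme.IdealSheafData.support_pow I n hn0, hn]
      simp [Scheme.IdealSheafData.support_bot]
  have hhomeo : Topology.IsClosedEmbedding (f.base) := by
    have h1 : Topology.IsClosedEmbedding (fun x => f (ι x)) :=
      (ι ≫ f).isClosedEmbedding
    let e : (I ^ 2).subscheme ≃ₜ X :=
      (ι.isClosedEmbedding.toIsEmbedding.toHomeomorph).trans
        ((Homeomorph.setCongr (Set.range_eq_univ.2 hsurj)).trans (Homeomorph.Set.univ X))
    have he : (f.base : X → Y) = (fun x => f (ι x)) ∘ e.symm := by
      funext x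
      show f x = f (ι (e.symm x))
      congr 1
      exact (e.apply_symm_apply x).symm
    rw [he]
    exact h1.comp e.symm.isClosedEmbedding
  refine { isClosedEmbedding := hhomeo, stalkMap_surjective := fun x => ?_ }
  obtain ⟨z, rfl⟩ := hsurj x
  obtain ⟨_, ⟨U, hU, rfl⟩, hzU, -⟩ :=
    X.isBasis_affineOpens.exists_subset_of_mem_open (Set.mem_univ (ι z)) isOpen_univ
  refine alg (f.stalkMap (ι z)) (ι.stalkMap z) ((I.ideal ⟨U, hU⟩).map (X.presheaf.germ U (ι z) hzU).hom) n ?_ ?_ ?_
  · rw [← Ideal.map_pow, hbot, Ideal.map_bot]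
  · rw [Groth.Agent.RegIdealLib.ker_stalkMap ι hU (IsZariskiLocalAtTarget.restrict (P := @IsClosedImmersion) (inferInstanceAs (IsClosedImmersion (I ^ 2).subschemeι)) U) z hzU,
      show RingHom.ker (ι.app U).hom = (I ^ 2).ideal ⟨U, hU⟩ from (I ^ 2).ker_subschemeι_app ⟨U, hU⟩]
    simp [Ideal.map_pow]
  · have := (ι ≫ f).stalkMap_surjective z
    rwa [Scheme.Hom.stalkMap_comp] at this

end Groth.Agent.S14049
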