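import Mathlib
import Groth.Statements.S14051

set_option autoImplicit false
universe u
open CAlg

namespace Groth.Agent.S14051

/-- Let A be a commutative ℕ-graded algebra over a base ring R which is generated by A_1 as an
A_0-algebra, written as A_{n+1} = A_1 · A_n for every n, and let M be a graded A-module: an A-module
with R-submodules M_n giving a direct-sum decomposition and A_i · M_j ⊆ M_{i+j}. If M is spanned
over A by a set of homogeneous elements all of degree at most n₀, then for every n ≥ n₀ and every k
≥ 0 the degree-(n+k) part of M is A_k · M_n. -/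
theorem result
    (R : Type u) [CommRing R] (A : Type u) [CommRing A] [Algebra R A]
    (𝒜 : ℕ → Submodule R A) [GradedAlgebra 𝒜]
    (hA : ∀ n : ℕ, 𝒜 (n + 1) = 𝒜 1 * 𝒜 n)
    (M : Type u) [AddCommGroup M] [Module R M] [Module A M] [IsScalarTower R A M]
    (ℳ : ℕ → Submodule R M) [DirectSum.Decomposition ℳ] [SetLike.GradedSMul 𝒜 ℳ]
    (s : Set M) (n₀ : ℕ) (hs : ∀ y ∈ s, ∃ d : ℕ, d ≤ n₀ ∧ y ∈ ℳ d)
    (hspan : Submodule.span A s = ⊤)
    (n k : ℕ) (hn : n₀ ≤ n) :
    ℳ (n + k) = 𝒜 k • ℳ n := by
  classical
  have hadd : ∀ i j, 𝒜 (i + j) = 𝒜 i * 𝒜 j := by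
    intro i j
    induction i with
    | zero =>
      rw [zero_add]
      refine le_antisymm (fun a ha => ?_) (Submodule.mul_le.2 fun a ha b hb => by
        simpa using SetLike.mul_mem_graded ha hb)
      rw [← one_mul a]
      exact Submodule.mul_mem_mul (SetLike.one_mem_graded 𝒜) ha
    | succ i ih => rw [Nat.add_right_comm, hA (i + j), ih, hA i, mul_assoc]
  refine le_antisymm (fun x hx => ?_) (Submodule.smul_le.2 fun a ha y hy => by
    rw [add_comm n k]; exact SetLike.GradedSMul.smul_mem ha hy)
  have key : ∀ z ∈ Submodule.span A s, ∀ c : A,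
      ((DirectSum.decompose ℳ (c • z) (n + k)) : M) ∈ 𝒜 k • ℳ n := by
    intro z hz
    induction hz using Submodule.span_induction with
    | mem y hy =>
      intro c
      obtain ⟨d, hd, hyd⟩ := hs y hy
      conv_lhs => skip
      rw [show c • y = ∑ j ∈ (DirectSum.decompose 𝒜 c).support, ((DirectSum.decompose 𝒜 c j : A)) • y by
        rw [← Finset.sum_smul, DirectSum.sum_support_decompose], DirectSum.decompose_sum]
      rw [DFinsupp.finsetSum_apply, Submodule.coe_sum]
      refine sum_mem fun j _ => ?_
      have hm : ((DirectSum.decompose 𝒜 c j : A)) • y ∈ ℳ (j + d) :=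
        SetLike.GradedSMul.smul_mem (DirectSum.decompose 𝒜 c j).2 hyd
      by_cases hjd : j + d = n + k
      · rw [← hjd, DirectSum.decompose_of_mem_same ℳ hm]
        have hj : ((DirectSum.decompose 𝒜 c j : A)) ∈ 𝒜 k * 𝒜 (n - d) := by
          rw [← hadd, show k + (n - d) = j by omega]; exact (DirectSum.decompose 𝒜 c j).2
        refine Submodule.mul_induction_on hj (fun a ha b hb => ?_) fun a b ha hb => by
          rw [add_smul]; exact add_mem ha hb
        rw [mul_smul]
        refine Submodule.smul_mem_smul ha ?_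
        have := SetLike.GradedSMul.smul_mem (A := 𝒜) (B := ℳ) hb hyd
        rwa [show (n - d) +ᵥ d = n from Nat.sub_add_cancel (hd.trans hn)] at this
      · rw [DirectSum.decompose_of_mem_ne ℳ hm hjd]; exact zero_mem _
    | zero => intro c; simp
    | add a b _ _ ha hb => intro c; rw [smul_add, DirectSum.decompose_add]; exact add_mem (ha c) (hb c)
    | smul a z _ hz => intro c; rw [smul_smul]; exact hz _
  have := key x (hspan ▸ Submodule.mem_top) 1
  rwa [one_smul, DirectSum.decompose_of_mem_same ℳ hx] at this

end Groth.Agent.S14051
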