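import Mathlib
import Groth.Statements.S14052

set_option autoImplicit false
universe u
open CAlg

namespace Groth.Agent.S14052

/-- Let A be a commutative ℕ-graded algebra over a base ring R with A_{n+1} = A_1 · A_n for every n (A
is generated by A_1 over A_0), and let S be a commutative ℕ-graded A-algebra, the structure map
sending A_i into S_i, which is a finite A-module. Let s be a finite set of homogeneous elements
spanning S as an A-module, all of degree at most n₀, with n₀ > 0. Then (1) S_{n+k} = S_k · S_n for
all n ≥ n₀ and k ≥ 0, and (2) for every d ≥ n₀ the d-th Veronese subring of S is generated by S_d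
over S_0, that is S_{md} = (S_d)^m for every m > 0. -/
theorem result
    (R : Type u) [CommRing R] (A : Type u) [CommRing A] [Algebra R A]
    (𝒜 : ℕ → Submodule R A) [GradedAlgebra 𝒜] (hA : ∀ n : ℕ, 𝒜 (n + 1) = 𝒜 1 * 𝒜 n)
    (S : Type u) [CommRing S] [Algebra R S] [Algebra A S] [IsScalarTower R A S]
    (𝒮 : ℕ → Submodule R S) [GradedAlgebra 𝒮]
    (hAS : ∀ (i : ℕ) (a : A), a ∈ 𝒜 i → algebraMap A S a ∈ 𝒮 i)
    [Module.Finite A S]
    (s : Set S) (hsfin : s.Finite) (n₀ : ℕ) (hn₀ : 0 < n₀)
    (hs : ∀ y ∈ s, ∃ d : ℕ, d ≤ n₀ ∧ y ∈ 𝒮 d) (hspan : Submodule.span A s = ⊤) :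
    (∀ n k : ℕ, n₀ ≤ n → 𝒮 (n + k) = 𝒮 k * 𝒮 n) ∧
      (∀ d : ℕ, n₀ ≤ d → ∀ m : ℕ, 0 < m → 𝒮 (m * d) = 𝒮 d ^ m) := by
  classical
  have hmul : ∀ i j, 𝒮 i * 𝒮 j ≤ 𝒮 (i + j) := fun i j =>
    Submodule.mul_le.2 fun a ha b hb => SetLike.mul_mem_graded ha hb
  have step : ∀ n, n₀ ≤ n → 𝒮 (n + 1) ≤ 𝒮 1 * 𝒮 n := by
    intro n hn
    suffices h : ∀ w : S, GradedAlgebra.proj 𝒮 (n + 1) w ∈ 𝒮 1 * 𝒮 n by
      intro w hw
      have := h w
      rwa [GradedAlgebra.proj_apply, DirectSum.decompose_of_mem_same 𝒮 hw] at this
    intro w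
    have hw : w ∈ Submodule.span A s := hspan ▸ Submodule.mem_top
    induction hw using Submodule.span_induction generalizing n with
    | mem y hy =>
      obtain ⟨d, hd, hyd⟩ := hs y hy
      rw [GradedAlgebra.proj_apply, DirectSum.decompose_of_mem_ne 𝒮 hyd (by omega)]
      exact Submodule.zero_mem _
    | zero => rw [map_zero]; exact Submodule.zero_mem _
    | add a b _ _ ha hb => rw [map_add]; exact Submodule.add_mem _ (ha n hn) (hb n hn)
    | smul a w _ ih =>
      induction a using DirectSum.Decomposition.inductionOn 𝒜 generalizing n with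
      | zero => rw [zero_smul, map_zero]; exact Submodule.zero_mem _
      | add a b ha hb => rw [add_smul, map_add]; exact Submodule.add_mem _ (ha n hn) (hb n hn)
      | @homogeneous i a =>
        rw [Algebra.smul_def, GradedAlgebra.proj_apply]
        rcases le_or_gt i (n + 1) with hi | hi
        · rw [DirectSum.coe_decompose_mul_of_left_mem_of_le 𝒮 (hAS i a a.2) hi]
          cases i with
          | zero =>
            have h := ih n hn
            rw [GradedAlgebra.proj_apply] at h
            rw [Nat.sub_zero]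
            refine Submodule.mul_induction_on h (fun b hb c hc => ?_)
              (fun b c hb hc => by rw [mul_add]; exact Submodule.add_mem _ hb hc)
            rw [← mul_assoc]
            refine Submodule.mul_mem_mul ?_ hc
            simpa using SetLike.mul_mem_graded (hAS 0 a a.2) hb
          | succ j =>
            have ha : (a : A) ∈ 𝒜 1 * 𝒜 j := hA j ▸ a.2
            refine Submodule.mul_induction_on ha (fun b hb c hc => ?_)
              (fun b c hb hc => by rw [map_add, add_mul]; exact Submodule.add_mem _ hb hc)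
            rw [map_mul, mul_assoc]
            refine Submodule.mul_mem_mul (hAS 1 b hb) ?_
            have : (n + 1 - (j + 1)) + j = n := by omega
            have h2 := SetLike.mul_mem_graded (hAS j c hc)
              (SetLike.coe_mem (DirectSum.decompose 𝒮 w (n + 1 - (j + 1))))
            rwa [add_comm, this] at h2
        · rw [DirectSum.coe_decompose_mul_of_left_mem_of_not_le 𝒮 (hAS i a a.2) (not_le.2 hi)]
          exact Submodule.zero_mem _
  have part1 : ∀ n k : ℕ, n₀ ≤ n → 𝒮 (n + k) = 𝒮 k * 𝒮 n := by
    intro n k hn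
    induction k with
    | zero =>
      refine le_antisymm (fun w hw => ?_) ((hmul 0 n).trans (by rw [zero_add, add_zero]))
      simpa using Submodule.mul_mem_mul (SetLike.one_mem_graded 𝒮) hw
    | succ k ih =>
      refine le_antisymm ?_ ((hmul (k + 1) n).trans (by rw [add_comm]))
      refine ((step (n + k) (by omega)).trans_eq (by rw [ih, ← mul_assoc])).trans ?_
      exact mul_le_mul' ((hmul 1 k).trans (by rw [add_comm])) le_rfl
  refine ⟨part1, fun d hd m hm => ?_⟩
  induction m, hm using Nat.le_induction with
  | base => simp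
  | succ m hm ih => rw [add_mul, one_mul, add_comm, part1 d (m * d) hd, ih, pow_succ]

end Groth.Agent.S14052
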