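import Groth.Statements.S14053
import Mathlib

set_option autoImplicit false
universe u
open CAlg

namespace Groth.Agent.S14053

/-- Let k be a field and R a commutative ℕ-graded k-algebra with R_0 = k · 1 which is generated as a
k-algebra by R_1, R_2 and R_3, each a finite-dimensional k-vector space, of dimensions d_1, d_2,
d_3. Then for every natural number e ≥ 5 d_1 + 4 d_2 + 3 d_3 the (6e)-th Veronese subring of R is
generated in degree one over k: R_{6em} = (R_{6e})^m for every m > 0. -/
theorem result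
    (k : Type u) [Field k] (R : Type u) [CommRing R] [Algebra k R]
    (ℛ : ℕ → Submodule k R) [GradedAlgebra ℛ]
    (h0 : ℛ 0 = 1)
    (hgen : Algebra.adjoin k ((ℛ 1 : Set R) ∪ (ℛ 2 : Set R) ∪ (ℛ 3 : Set R)) = ⊤)
    [Module.Finite k (ℛ 1)] [Module.Finite k (ℛ 2)] [Module.Finite k (ℛ 3)]
    (e : ℕ) (he : 5 * Module.finrank k (ℛ 1) + 4 * Module.finrank k (ℛ 2) + 3 * Module.finrank k (ℛ 3) ≤ e)
    (m : ℕ) (hm : 0 < m) :
    ℛ (m * (6 * e)) = ℛ (6 * e) ^ m := by
  classical
  let σ := Fin (Module.finrank k (ℛ 1)) ⊕ Fin (Module.finrank k (ℛ 2)) ⊕ Fin (Module.finrank k (ℛ 3))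
  let w : σ → ℕ := Sum.elim (fun _ => 1) (Sum.elim (fun _ => 2) (fun _ => 3))
  let g : σ → R := Sum.elim (fun i => (Module.finBasis k (ℛ 1) i : R))
    (Sum.elim (fun i => (Module.finBasis k (ℛ 2) i : R)) (fun i => (Module.finBasis k (ℛ 3) i : R)))
  have hg : ∀ s, g s ∈ ℛ (w s) := fun s => by
    rcases s with i | i | i <;> exact Submodule.coe_mem _
  let Φ : MvPolynomial σ k →ₐ[k] R := MvPolynomial.aeval g
  have hmono : ∀ d : σ →₀ ℕ, (d.prod fun i k => g i ^ k) ∈ ℛ (Finsupp.weight w d) := by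
    intro d
    induction d using Finsupp.induction with
    | zero => simpa using SetLike.one_mem_graded ℛ
    | single_add i n d _ _ ih =>
      rw [map_add, Finsupp.prod_add_index' (fun _ => pow_zero _) (fun _ _ _ => pow_add _ _ _), Finsupp.prod_single_index (h := fun i k => g i ^ k) (pow_zero _), Finsupp.weight_single]
      exact SetLike.mul_mem_graded (SetLike.pow_mem_graded n (hg i)) ih
  have hsurj : Φ.range = ⊤ := by
    rw [eq_top_iff, ← hgen]
    have key : ∀ (j : ℕ) (b : Module.Basis (Fin (Module.finrank k (ℛ j))) k (ℛ j)), (∀ i, ∃ s, g s = (b i : R)) → ∀ x ∈ ℛ j, x ∈ Φ.range := by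
      intro j b hb x hx
      have h := congrArg (ℛ j).subtype (b.sum_repr ⟨x, hx⟩)
      simp only [map_sum, map_smul, Submodule.subtype_apply] at h
      rw [← h]
      refine sum_mem fun i _ => Subalgebra.smul_mem _ ?_ _
      obtain ⟨s, hs⟩ := hb i
      exact ⟨MvPolynomial.X s, by rw [← hs]; exact MvPolynomial.aeval_X g s⟩
    refine Algebra.adjoin_le ?_
    rintro x ((hx | hx) | hx)
    · exact key 1 _ (fun i => ⟨Sum.inl i, rfl⟩) x hx
    · exact key 2 _ (fun i => ⟨Sum.inr (Sum.inl i), rfl⟩) x hx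
    · exact key 3 _ (fun i => ⟨Sum.inr (Sum.inr i), rfl⟩) x hx
  have hspan : ∀ N, ℛ N ≤ Submodule.span k ((fun d : σ →₀ ℕ => d.prod fun i k => g i ^ k) '' {d | Finsupp.weight w d = N}) := by
    intro N x hx
    obtain ⟨p, rfl⟩ : x ∈ Φ.range := hsurj ▸ trivial
    have h1 := DirectSum.decompose_of_mem_same ℛ hx
    rw [MvPolynomial.as_sum p, map_sum, DirectSum.decompose_sum, DFinsupp.finsetSum_apply, Submodule.coe_sum] at h1
    rw [MvPolynomial.as_sum p, map_sum, ← h1]
    refine sum_mem fun d _ => ?_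
    show ((DirectSum.decompose ℛ (MvPolynomial.aeval g (MvPolynomial.monomial d (p.coeff d)))) N : R) ∈ _
    rw [MvPolynomial.aeval_monomial, ← Algebra.smul_def]
    have hd := Submodule.smul_mem _ (p.coeff d) (hmono d)
    by_cases hdN : Finsupp.weight w d = N
    · subst hdN
      rw [DirectSum.decompose_of_mem_same ℛ hd]
      exact Submodule.smul_mem _ _ (Submodule.subset_span ⟨d, rfl, rfl⟩)
    · rw [DirectSum.decompose_of_mem_ne ℛ hd hdN]
      exact zero_mem _
  have step : ∀ N, e < N → ℛ N ≤ ℛ (N - 6) * ℛ 6 := by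
    intro N hN
    refine (hspan N).trans (Submodule.span_le.mpr ?_)
    rintro _ ⟨d, hd, rfl⟩
    obtain ⟨s, hs⟩ : ∃ s, 6 ≤ d s * w s := by
      by_contra! hlt
      have hw : Finsupp.weight w d = ∑ s, d s * w s := by rw [Finsupp.weight_apply, Finsupp.sum_fintype _ _ (by simp)]; rfl
      have : Finsupp.weight w d ≤ e := by
        rw [hw, Fintype.sum_sum_type, Fintype.sum_sum_type]
        refine le_trans (Nat.add_le_add (Finset.sum_le_card_nsmul _ _ 5 fun i _ => ?_) (Nat.add_le_add (Finset.sum_le_card_nsmul _ _ 4 fun i _ => ?_) (Finset.sum_le_card_nsmul _ _ 3 fun i _ => ?_))) ?_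
        · have := hlt (Sum.inl i); simp [w] at this ⊢; omega
        · have := hlt (Sum.inr (Sum.inl i)); simp [w] at this ⊢; omega
        · have := hlt (Sum.inr (Sum.inr i)); simp [w] at this ⊢; omega
        · simp only [Finset.card_univ, Fintype.card_fin, smul_eq_mul]; linarith
      have hd' : Finsupp.weight w d = N := hd
      omega
    have h6 : ∃ q, q * w s = 6 ∧ q ≤ d s := by
      rcases s with i | i | i <;> simp [w] at hs ⊢
      · exact hs
      · exact ⟨3, rfl, by omega⟩
      · exact ⟨2, rfl, by omega⟩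
    obtain ⟨q, hq, hqd⟩ := h6
    have hsplit : d = (d - Finsupp.single s q) + Finsupp.single s q := (tsub_add_cancel_of_le (Finsupp.single_le_iff.mpr hqd)).symm
    have hwt : Finsupp.weight w d = Finsupp.weight w (d - Finsupp.single s q) + 6 := by
      conv_lhs => rw [hsplit, map_add, Finsupp.weight_single, smul_eq_mul, hq]
    show d.prod (fun i k => g i ^ k) ∈ ℛ (N - 6) * ℛ 6
    rw [hsplit, Finsupp.prod_add_index' (fun _ => pow_zero _) (fun _ _ _ => pow_add _ _ _)]
    have hd' : Finsupp.weight w d = N := hd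
    refine Submodule.mul_mem_mul ?_ ?_
    · rw [show N - 6 = Finsupp.weight w (d - Finsupp.single s q) by omega]; exact hmono _
    · rw [show 6 = Finsupp.weight w (Finsupp.single s q) by rw [Finsupp.weight_single, smul_eq_mul, hq]]; exact hmono _
  have hmulle : ∀ a b, ℛ a * ℛ b ≤ ℛ (a + b) := fun a b => Submodule.mul_le.mpr fun x hx y hy => SetLike.mul_mem_graded hx hy
  have hchunk : ∀ j a, e ≤ a → ℛ (a + 6 * j) ≤ ℛ a * ℛ (6 * j) := by
    intro j
    induction j with
    | zero => intro a _; rw [mul_zero, add_zero, h0, mul_one]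
    | succ j ih =>
      intro a ha
      refine (step _ (by omega)).trans ?_
      rw [show a + 6 * (j + 1) - 6 = a + 6 * j by omega]
      refine (mul_le_mul' (ih a ha) le_rfl).trans ?_
      rw [mul_assoc]
      exact mul_le_mul' le_rfl ((hmulle _ _).trans (le_of_eq (by rw [Nat.mul_succ])))
  obtain ⟨m, rfl⟩ : ∃ j, m = j + 1 := ⟨m - 1, by omega⟩
  clear hm
  induction m with
  | zero => rw [zero_add, one_mul, pow_one]
  | succ m ih =>
    rw [pow_succ, ← ih, add_mul (m + 1) 1, one_mul]
    refine le_antisymm (hchunk e _ ?_) (hmulle _ _)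
    nlinarith

end Groth.Agent.S14053
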