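import Groth.Statements.S14054
import Groth.Agent.SecMulLib.Data
-- import your own Groth.Agent.* helpers here

set_option autoImplicit false
set_option backward.isDefEq.respectTransparency false
set_option maxHeartbeats 800000
set_option synthInstance.maxHeartbeats 200000
universe u
open CategoryTheory CategoryTheory.Limits AlgebraicGeometry TopologicalSpace
open Variety

namespace Groth.Agent.S14054

open Groth.Agent CategoryTheory
set_option backward.isDefEq.respectTransparency false
set_option maxHeartbeats 800000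
set_option synthInstance.maxHeartbeats 200000

/-- Let X be a proper scheme over a field k, L a globally generated invertible O_X-module with tensor
inverse M, r = dim_k H⁰(X, L), and b ≥ 1 an integer such that H^q(X, L^{⊗(b−q)}) = 0 whenever 1 ≤ q
≤ r − 1, where for q > b the module L^{⊗(b−q)} is the tensor power M^{⊗(q−b)}. Then the
multiplication map H⁰(X, L^{⊗b}) ⊗ H⁰(X, L) → H⁰(X, L^{⊗(b+1)}) is surjective. The map is written as
the canonical map from the global sections of the sectionwise tensor product presheaf of L^{⊗b} and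
L (these are H⁰(L^{⊗b}) ⊗ H⁰(L), tensor over the global functions) to the global sections of its
sheafification L^{⊗b} ⊗ L = L^{⊗(b+1)}. The base field is arbitrary. -/
theorem result (k : Type u) [Field k]
    (X : Scheme.{u}) [X.Over (Spec (CommRingCat.of k))] [IsProper (X ↘ (Spec (CommRingCat.of k)))]
    (L : X.Modules) (hL : PicF.IsInvertible L) (hgg : Curv2.IsGloballyGenerated L)
    (M : X.Modules) (hM : ClSub.IsInverseOf M L)
    (b : ℕ) (hb : 1 ≤ b)
    (hvan₁ : ∀ q : ℕ, 1 ≤ q → q ≤ b → q < Module.finrank k (Coh.HH X L 0) →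
      Subsingleton (Coh.HH X (CohB1.tensorPow L (b - q)) q))
    (hvan₂ : ∀ q : ℕ, b < q → q < Module.finrank k (Coh.HH X L 0) →
      Subsingleton (Coh.HH X (CohB1.tensorPow M (q - b)) q)) :
    Function.Surjective
      ((toSheafify (Opens.grothendieckTopology X) (CohB1.tensorPre (CohB1.tensorPow L b) L).presheaf).app
        (Opposite.op ⊤)) := by
  obtain ⟨δ⟩ := hM
  haveI := EulerIneqLib.isNoetherian_proper (X := X) k
  haveI := EulerIneqLib.finite_HH (k := k) (CurveLib.isCoh_of_isInvertible hL) 0
  refine SecMulLib.surjective_mult k hL hgg (SecMulLib.pw L M) (fun d => (SecMulLib.nonempty_pw_succ δ d).some)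
    ((b + 1 : ℕ) : ℤ) _ (by rw [show ((b + 1 : ℕ) : ℤ) - 1 = Int.ofNat b by simp]; rfl) fun e he => ?_
  by_cases hq : 1 + e ≤ b
  · rw [show ((b + 1 : ℕ) : ℤ) - ((2 + e : ℕ) : ℤ) = Int.ofNat (b - (1 + e)) by
      show _ = ((b - (1 + e) : ℕ) : ℤ); omega]
    exact hvan₁ (1 + e) (by omega) hq (by omega)
  · obtain ⟨m, hm⟩ := Nat.exists_eq_add_of_le (show b + 1 ≤ 1 + e by omega)
    rw [show ((b + 1 : ℕ) : ℤ) - ((2 + e : ℕ) : ℤ) = Int.negSucc m by
      rw [Int.negSucc_eq]; omega]
    have := hvan₂ (1 + e) (by omega) (by omega)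
    rwa [show 1 + e - b = m + 1 by omega] at this

end Groth.Agent.S14054
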