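import Groth.Statements.S14056
import Groth.Agent.TwistShriek.SurfCan
-- import your own Groth.Agent.* helpers here

set_option autoImplicit false
set_option backward.isDefEq.respectTransparency false
set_option maxHeartbeats 800000
set_option synthInstance.maxHeartbeats 200000
universe u
open CategoryTheory CategoryTheory.Limits AlgebraicGeometry TopologicalSpace
open Surf
open Groth.Agent Groth.Agent.TwistShriek

namespace Groth.Agent.S14056

/-- Let k be an algebraically closed field and X a smooth surface over k: an integral scheme, proper and
smooth over k, of dimension 2; let W be its canonical module, a second exterior power of Ω_{X/k}.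
For an invertible module L and an integral closed one-dimensional subscheme C ⊆ X write (L·C) =
χ(O_C ⊗ L) − χ(O_C). Suppose that X has non-negative Kodaira dimension, that is some tensor power
W^{⊗m} with m > 0 has a nonzero global section, and that X is minimal: it contains no (−1)-curve,
where a (−1)-curve is taken, through its numerical characterization, to be an integral closed
one-dimensional subscheme E with H¹(E, O_E) = 0 and (O_X(E)·E) = −1, O_X(E) being a tensor inverse
of the ideal sheaf of E. Then W is nef: (W·C) ≥ 0 for every integral closed one-dimensional C ⊆ X.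
(Together with the first assertion: under non-negative Kodaira dimension, X is minimal if and only
if W is nef.) -/
theorem result (k : Type u) [Field k] [IsAlgClosed k] (X : Scheme.{u})
    [X.Over (Spec (CommRingCat.of k))] [IsProper (X ↘ (Spec (CommRingCat.of k)))] [Smooth (X ↘ (Spec (CommRingCat.of k)))]
    [IsIntegral X] (hdim : topologicalKrullDim X = 2)
    (W : X.Modules) (hW : ExtPow.IsExtPow 2 (Omega.sheaf (X ↘ (Spec (CommRingCat.of k)))) W)
    (m : ℕ) (hm : 0 < m) (hsec : Nontrivial (Coh.HH X (CohB1.tensorPow W m) 0))
    (hmin : (∀ (E : X.IdealSheafData) (N : X.Modules), IsIntegral E.subscheme →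
      topologicalKrullDim (E.support : Set X) = 1 → ClSub.IsInverseOf N (ClSub.idealMod E) →
      Subsingleton (Coh.HH E.subscheme (Coh.structureModule E.subscheme) 1) →
      Curv2.euler k X (CohB1.tensorMod (ClSub.quotMod E) N) - Curv2.euler k X (ClSub.quotMod E) ≠ -1)) :
    (∀ C : X.IdealSheafData, IsIntegral C.subscheme → topologicalKrullDim (C.support : Set X) = 1 →
      0 ≤ Curv2.euler k X (CohB1.tensorMod (ClSub.quotMod C) W) - Curv2.euler k X (ClSub.quotMod C)) := by
    intro C hC hCd
    by_contra hneg
    push Not at hneg
    haveI := EulerIneqLib.isNoetherian_proper (X := X) k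
    have hI := invertible_curve k hdim C hC hCd
    obtain ⟨hWi, -, -⟩ := canonical_data_proper k hdim hW
    have hadj := form_adjunction k hdim hW hWi hI
    obtain ⟨hχ, hiff⟩ := euler_curve_eq k hC hCd
    rw [← Nakai.pairing_cl k _ hWi] at hneg
    have hneg' : IntLib.pairing k (ClSub.quotMod C) (Nakai.cl (AmpleLib.isInvertible_tensorPow hWi m)) < 0 := by
      rw [Nakai.pairing_congr k (Nakai.cl_tensorPow_sub_mem hWi m) (IntLib.isCoh_quotMod C)
        (Nakai.dim_supp_quotMod (d := 1) (hCd.trans Nat.cast_one.symm)), ← nsmul_eq_mul, map_nsmul, nsmul_eq_mul]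
      exact mul_neg_of_pos_of_neg (by exact_mod_cast hm) hneg
    have hsq := self_neg_of_section k hdim (AmpleLib.isInvertible_tensorPow hWi m) hsec hC hCd hI hneg'
    rw [pairing_quotMod_cl k hI] at hneg
    obtain ⟨N, hN, ⟨eN⟩⟩ := AmpleEmb.exists_isInverseOf hI
    have hinv : ClSub.IsInverseOf N (ClSub.idealMod C) := ⟨AmpleLib.comm _ _ ≪≫ eN⟩
    refine hmin C N hC hCd hinv (hiff.2 ?_) ?_
    · omega
    · rw [normal_degree k hdim hI hinv]
      omega

end Groth.Agent.S14056
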