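import Groth.Statements.S14057
import Groth.Agent.TwistShriek.SurfCan
-- import your own Groth.Agent.* helpers here

set_option autoImplicit false
set_option backward.isDefEq.respectTransparency false
set_option maxHeartbeats 800000
set_option synthInstance.maxHeartbeats 200000
universe u
open CategoryTheory CategoryTheory.Limits AlgebraicGeometry TopologicalSpace
open Surf
open Groth.Agent Groth.Agent.TwistShriek

namespace Groth.Agent.S14057

/-- Let k be an algebraically closed field and X a smooth surface over k: an integral scheme, proper and
smooth over k, of dimension 2; let W be its canonical module, a second exterior power of Ω_{X/k}.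
For an invertible module L and an integral closed one-dimensional subscheme C ⊆ X write (L·C) =
χ(O_C ⊗ L) − χ(O_C), and (W·W) for the self-intersection number of W (the alternating sum χ(O_X) −
2χ(W) + χ(W ⊗ W)). Suppose W is nef and (W·W) > 0. Then W is ample if and only if X contains no
(−2)-curve, where a (−2)-curve is taken, through its numerical characterization, to be an integral
closed one-dimensional subscheme E with H¹(E, O_E) = 0 and (O_X(E)·E) = −2, O_X(E) being a tensor
inverse of the ideal sheaf of E. (The published statement is for a minimal surface of general type;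
its proof uses exactly that the canonical module is nef with positive self-intersection, which is
how the hypothesis is written here.) -/
theorem result (k : Type u) [Field k] [IsAlgClosed k] (X : Scheme.{u})
    [X.Over (Spec (CommRingCat.of k))] [IsProper (X ↘ (Spec (CommRingCat.of k)))] [Smooth (X ↘ (Spec (CommRingCat.of k)))]
    [IsIntegral X] (hdim : topologicalKrullDim X = 2)
    (W : X.Modules) (hW : ExtPow.IsExtPow 2 (Omega.sheaf (X ↘ (Spec (CommRingCat.of k)))) W)
    (hnef : (∀ C : X.IdealSheafData, IsIntegral C.subscheme → topologicalKrullDim (C.support : Set X) = 1 →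
      0 ≤ Curv2.euler k X (CohB1.tensorMod (ClSub.quotMod C) W) - Curv2.euler k X (ClSub.quotMod C)))
    (hpos : 0 < FGA.intNum k X 2 ![W, W] (Coh.structureModule X)) :
    CohB1.IsAmple W ↔
    (∀ (E : X.IdealSheafData) (N : X.Modules), IsIntegral E.subscheme →
      topologicalKrullDim (E.support : Set X) = 1 → ClSub.IsInverseOf N (ClSub.idealMod E) →
      Subsingleton (Coh.HH E.subscheme (Coh.structureModule E.subscheme) 1) →
      Curv2.euler k X (CohB1.tensorMod (ClSub.quotMod E) N) - Curv2.euler k X (ClSub.quotMod E) ≠ -2) := by
    obtain ⟨hWi, -, -⟩ := canonical_data_proper k hdim hW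
    rw [intNum_eq_form k hdim.le hWi hWi] at hpos
    constructor
    · intro hamp E N hE hEd hN h1 heq
      haveI := hE
      have hI := invertible_curve k hdim E hE hEd
      have hadj := form_adjunction k hdim hW hWi hI
      obtain ⟨hχ, hiff⟩ := euler_curve_eq k hE hEd
      rw [normal_degree k hdim hI hN] at heq
      rw [hχ, hiff.1 h1, heq] at hadj
      have h := Nakai.pos_quotMod k hamp E (d := 1) (hEd.trans Nat.cast_one.symm)
      rw [pow_one, pairing_quotMod_cl k hI] at h
      push_cast at hadj
      linarith
    · intro hmin
      refine isAmple_of_sq_pos k hdim hWi hpos fun C hC hCd => ?_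
      have hge := hnef C hC hCd
      rw [← Nakai.pairing_cl k _ hWi] at hge
      refine lt_of_le_of_ne hge fun h0 => ?_
      have hI := invertible_curve k hdim C hC hCd
      have hadj := form_adjunction k hdim hW hWi hI
      obtain ⟨hχ, hiff⟩ := euler_curve_eq k hC hCd
      obtain ⟨H, hH⟩ := exists_ample_of_smooth (k := k) (X := X) hdim
      rw [pairing_quotMod_cl k hI] at h0
      have hsq : Nakai.form k (Nakai.cl hI) (Nakai.cl hI) < 0 := by
        by_contra hnn
        push Not at hnn
        have h := Nakai.form_hodge k hdim hH (Nakai.cl_mem hI) (Nakai.cl_mem hWi) (Nakai.cl_mem hH.1) hpos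
          (by linarith) hnn
        exact (form_ideal_neg k hdim.le hH hI hCd).ne h
      obtain ⟨N, hN, ⟨eN⟩⟩ := AmpleEmb.exists_isInverseOf hI
      have hinv : ClSub.IsInverseOf N (ClSub.idealMod C) := ⟨AmpleLib.comm _ _ ≪≫ eN⟩
      refine hmin C N hC hCd hinv (hiff.2 ?_) ?_
      · omega
      · rw [normal_degree k hdim hI hinv]
        omega

end Groth.Agent.S14057
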