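import Groth.Statements.S14058
import Groth.Agent.RatSingLib.Main
import Groth.Agent.NormalSch.Curve
import Groth.Agent.ASp.Basic

set_option autoImplicit false
set_option linter.style.haveILetI false
universe u
open CategoryTheory CategoryTheory.Limits AlgebraicGeometry TopologicalSpace
open Surf

namespace Groth.Agent.S14058

theorem regular_of_coheight_le_one {X : Scheme.{u}} [IsLocallyNoetherian X] (hN : Pi1.IsNormalScheme X) {x : X}
    (hx : Order.coheight x ≤ 1) : IsRegularLocalRing (X.presheaf.stalk x) := by
  haveI := (hN x).1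
  haveI := (hN x).2
  haveI : Ring.KrullDimLE 1 (X.presheaf.stalk x) := krullDimLE_of_coheight_le (n := 1) hx
  by_cases hf : IsField (X.presheaf.stalk x)
  · letI := hf.toField
    infer_instance
  · have : ringKrullDim (X.presheaf.stalk x) = 1 := by
      refine le_antisymm (Ring.krullDimLE_iff.1 inferInstance) ?_
      rw [← IsLocalRing.maximalIdeal_height_eq_ringKrullDim]
      have h2 : (⊥ : Ideal (X.presheaf.stalk x)).height < (IsLocalRing.maximalIdeal (X.presheaf.stalk x)).height :=
        Ideal.height_strict_mono_of_isPrime (bot_lt_iff_ne_bot.mpr fun h => hf (IsLocalRing.isField_iff_maximalIdeal_eq.mpr h))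
      exact_mod_cast Order.one_le_iff_pos.mpr (lt_of_le_of_lt bot_le h2)
    obtain ⟨_, _⟩ := Groth.Agent.NormalSch.isDiscreteValuationRing_stalk hN x this
    infer_instance

theorem dim_le_zero_of_closed_points {X : Scheme.{u}} {C : Set X} (hC : IsClosed C)
    (h : ∀ x ∈ C, IsClosed ({x} : Set X)) : topologicalKrullDim C ≤ 0 := by
  refine Order.krullDim_nonpos_iff_forall_isMax.2 fun a b hab => ?_
  have hsing : ∀ c : IrreducibleCloseds C, ∀ u ∈ c, ∀ v ∈ c, u = v := fun c u hu v hv => by
    obtain ⟨η, hη⟩ := QuasiSober.sober (c.isIrreducible.image _ continuous_subtype_val.continuousOn)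
      (hC.isClosedEmbedding_subtypeVal.isClosedMap _ c.isClosed)
    obtain ⟨w, -, hw⟩ := hη.mem
    have hcl := (h η (hw ▸ w.2)).closure_eq
    have e : ∀ z ∈ c, (z : X) = η := fun z hz => by
      have := hη.def.ge (Set.mem_image_of_mem Subtype.val hz)
      rw [hcl] at this
      exact this
    exact Subtype.ext ((e u hu).trans (e v hv).symm)
  intro z hz
  obtain ⟨w, hw⟩ := a.isIrreducible.nonempty
  exact (hsing b z hz w (hab hw)) ▸ hw

theorem isClosed_singleton_of_coheight {X : Scheme.{u}} (hdim : topologicalKrullDim X ≤ 2) {x : X}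
    (hx : ¬ Order.coheight x ≤ 1) : IsClosed ({x} : Set X) := by
  refine closure_subset_iff_isClosed.1 fun z hz => ?_
  by_contra hne
  have hs : x ⤳ z := specializes_iff_mem_closure.2 hz
  have h1 : Order.coheight x + 1 ≤ Order.coheight z :=
    Order.coheight_add_one_le (lt_of_le_not_ge (show z ≤ x from hs) fun h' => hne ((hs.antisymm h').eq).symm)
  have h2 : (Order.coheight z : WithBot ℕ∞) ≤ 2 :=
    ((Order.coheight_le_krullDim z).trans (le_of_eq (Groth.Agent.ASp.topologicalKrullDim_eq_krullDim (A := ↥X)).symm)).trans hdim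
  have h3 : Order.coheight z ≤ 2 := WithBot.coe_le_coe.1 h2
  refine hx ?_
  induction hc : Order.coheight x using ENat.recTopCoe with
  | top => rw [hc] at h1; exact absurd (h1.trans h3) (by simp)
  | coe m =>
    rw [hc] at h1
    have := h1.trans h3
    norm_cast at this ⊢
    omega

/-- Let k be an algebraically closed field and X a normal surface over k: an integral normal scheme,
proper over k, of dimension 2. Let π : S → X be a resolution of X: S is an integral scheme of
dimension 2 smooth over k, π is proper, the map O_X → π_*O_S is an isomorphism, and π restricts to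
an isomorphism over the open subset of regular points of X. Then R¹π_*O_S = 0 if and only if χ(S,
O_S) = χ(X, O_X). Here R¹π_* is the first right derived functor of the direct image on abelian
sheaves, applied to the abelian sheaf underlying O_S. -/
theorem result (k : Type u) [Field k] [IsAlgClosed k]
    (X : Scheme.{u}) [X.Over (Spec (CommRingCat.of k))] [IsProper (X ↘ (Spec (CommRingCat.of k)))] [IsIntegral X]
    (hdimX : topologicalKrullDim X = 2) (hnorm : Pi1.IsNormalScheme X)
    (S : Scheme.{u}) (π : S ⟶ X) [IsProper π] [IsIntegral S] (hdimS : topologicalKrullDim S = 2)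
    [Smooth (π ≫ (X ↘ (Spec (CommRingCat.of k))))]
    (hO : IsIso (ClSub.unitToPush π))
    (U : X.Opens) (hU : ∀ x : X, x ∈ U ↔ IsRegularLocalRing (X.presheaf.stalk x)) (hiso : IsIso (π ∣_ U)) :
    letI : S.Over (Spec (CommRingCat.of k)) := ⟨π ≫ (X ↘ (Spec (CommRingCat.of k)))⟩
    IsZero ((Coh.RpushAb π 1).obj (Coh.toAb (Coh.structureModule S))) ↔
      Curv2.euler k S (Coh.structureModule S) = Curv2.euler k X (Coh.structureModule X) := by
  letI : S.Over (Spec (CommRingCat.of k)) := ⟨π ≫ (X ↘ (Spec (CommRingCat.of k)))⟩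
  haveI : IsProper (S ↘ (Spec (CommRingCat.of k))) :=
    inferInstanceAs (IsProper (π ≫ (X ↘ (Spec (CommRingCat.of k)))))
  haveI := Groth.Agent.EulerIneqLib.isNoetherian_proper (X := X) k
  have hC : IsClosed ((U : Set X)ᶜ) := U.isOpen.isClosed_compl
  have hd : topologicalKrullDim ((U : Set X)ᶜ : Set X) ≤ 0 := dim_le_zero_of_closed_points hC fun x hx =>
    isClosed_singleton_of_coheight hdimX.le fun h => hx ((hU x).2 (regular_of_coheight_le_one hnorm h))
  have hne : ((U : Set X)ᶜ)ᶜ.Nonempty := ⟨genericPoint X, by
    rw [compl_compl]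
    refine (hU _).2 (regular_of_coheight_le_one hnorm (le_of_eq_of_le (Order.coheight_eq_zero.2 ?_) zero_le_one))
    exact fun y _ => (genericPoint_spec X).specializes trivial⟩
  refine Groth.Agent.RatSingLib.isZero_rpush_iff k π rfl hO hdimS.le _ hC hd hne ?_
  have hUU : (⟨((U : Set X)ᶜ)ᶜ, hC.isOpen_compl⟩ : X.Opens) = U := Opens.ext (compl_compl _)
  rw [hUU]
  exact hiso
end Groth.Agent.S14058
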