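import Groth.Statements.S14059
import Groth.Agent.GrpSchLib.ZeroTangent
-- import your own Groth.Agent.* helpers here

set_option autoImplicit false
universe u
open CategoryTheory MonoidalCategory CartesianMonoidalCategory MonObj GrpObj AlgebraicGeometry
open GrpSch

namespace Groth.Agent.S14059

/-- Let k be an algebraically closed field and G a group scheme of finite type over k, with unit point e
(the image of the unit section). Then the tangent space of G at e is zero, that is the cotangent
space m_e/m_e² of the local ring O_{G,e} vanishes, if and only if G is isomorphic over k to a finite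
disjoint union of copies of Spec k, stated as: the underlying space of G is finite and discrete and
the structure map k → O_{G,g} is bijective for every point g. (The published statement is over an
arbitrary field; the group scheme of cube roots of unity over the rationals has zero tangent space
at the unit but a point with residue field larger than the base field, and the printed argument
translates by rational points, so the base field is taken algebraically closed here.) -/
theorem result (k : Type u) [Field k] [IsAlgClosed k]
    (G : Over (Spec (CommRingCat.of k))) [GrpObj G] [LocallyOfFiniteType G.hom] [QuasiCompact G.hom]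
    (e : G.left) (he : e ∈ Set.range (η[G]).left.base) :
    letI : G.left.Over (Spec (CommRingCat.of k)) := ⟨G.hom⟩
    Subsingleton (IsLocalRing.CotangentSpace (G.left.presheaf.stalk e)) ↔
      (Finite G.left ∧ DiscreteTopology G.left ∧
        ∀ g : G.left, Function.Bijective (Curv2.stalkMap k G.left g)) := by
  letI : G.left.Over (Spec (CommRingCat.of k)) := ⟨G.hom⟩
  haveI : LocallyOfFiniteType (G.left ↘ Spec (CommRingCat.of k)) := ‹LocallyOfFiniteType G.hom›
  obtain ⟨t, rfl⟩ := he
  obtain rfl : t = IsLocalRing.closedPoint k := Subsingleton.elim (α := PrimeSpectrum k) _ _
  refine ⟨fun h => ?_, fun ⟨_, _, hb⟩ => ?_⟩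
  · obtain ⟨h1, h2, h3⟩ := GrpSchLib.discrete_of_cotangent_zero G h
    exact ⟨h1, h2, fun g => GrpSchLib.bijective_stalkMap_of_isField G.left g (h3 g).2 (h3 g).1⟩
  · have hF : IsField (G.left.presheaf.stalk (GrpSchLib.unitPt G)) :=
      (RingEquiv.ofBijective _ (hb _)).symm.toMulEquiv.isField (Field.toIsField k)
    have hm := IsLocalRing.isField_iff_maximalIdeal_eq.1 hF
    refine ⟨fun a b => ?_⟩
    obtain ⟨⟨a, ha⟩, rfl⟩ := (IsLocalRing.maximalIdeal _).toCotangent_surjective a
    obtain ⟨⟨b, hb'⟩, rfl⟩ := (IsLocalRing.maximalIdeal _).toCotangent_surjective b
    congr 2
    have ha0 : a = 0 := by have := hm.le ha; simpa using this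
    have hb0 : b = 0 := by have := hm.le hb'; simpa using this
    rw [ha0, hb0]

end Groth.Agent.S14059
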