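import Groth.Statements.S1406
import Groth.Agent.FpqcDesc.Noeth

set_option autoImplicit false
universe u
open FlatMor

namespace Groth.Agent.S1406

open AlgebraicGeometry CategoryTheory Limits in
/-- Let a : X' → X be flat, locally of finite presentation and surjective. Then all fibres of f : X → Y
are locally Noetherian if and only if all fibres of a ≫ f are. -/
theorem result {X X' Y : Scheme.{u}} (f : X ⟶ Y) (a : X' ⟶ X) [Flat a] [LocallyOfFinitePresentation a] [Surjective a] :
    (∀ y : Y, IsLocallyNoetherian (f.fiber y)) ↔ ∀ y : Y, IsLocallyNoetherian ((a ≫ f).fiber y) := by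
  have hP : ∀ y : Y, IsPullback (pullback.fst a (f.fiberι y)) (pullback.snd a (f.fiberι y) ≫ f.fiberToSpecResidueField y)
      (a ≫ f) (Y.fromSpecResidueField y) := fun y =>
    (IsPullback.of_hasPullback a (f.fiberι y)).paste_vert (IsPullback.of_hasPullback f (Y.fromSpecResidueField y))
  refine forall_congr' fun y => ⟨fun h => ?_, fun h => ?_⟩
  · haveI : IsLocallyNoetherian (f.fiber y) := h
    haveI : IsLocallyNoetherian (pullback a (f.fiberι y)) :=
      LocallyOfFiniteType.isLocallyNoetherian (pullback.snd a (f.fiberι y))
    exact isLocallyNoetherian_of_isOpenImmersion (hP y).isoPullback.inv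
  · haveI : IsLocallyNoetherian (pullback (a ≫ f) (Y.fromSpecResidueField y)) := h
    haveI : IsLocallyNoetherian (pullback a (f.fiberι y)) :=
      isLocallyNoetherian_of_isOpenImmersion (hP y).isoPullback.hom
    exact NoethDesc.of_fppf (pullback.snd a (f.fiberι y))

end Groth.Agent.S1406
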