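import Groth.Statements.S14060
import Mathlib
-- import your own Groth.Agent.* helpers here

set_option autoImplicit false
universe u
open CategoryTheory CategoryTheory.Limits TopologicalSpace
open CohTop

namespace Groth.Agent.S14060

/-- Let X be a topological space, r ≥ 1 an integer and 0 → F_r → ⋯ → F_2 → F_1 → F_0 → 0 an exact
sequence of sheaves of abelian groups on X, presented as a chain complex F of abelian sheaves
indexed by the natural numbers whose differential F_r → F_{r−1} is a monomorphism, whose
differential F_1 → F_0 is an epimorphism of sheaves, and which is exact at F_j for 1 ≤ j ≤ r − 1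
(for r = 1 the single map F_1 → F_0 is mono and epi). Assume the sheaf cohomology groups H^{j−1}(X,
F_j) vanish for 2 ≤ j ≤ r. Then the map on global sections F_1(X) → F_0(X) is surjective. (The
instance hypothesis that the category of abelian sheaves on X has Ext groups in the universe of X
holds for every X, abelian sheaves on a space forming a Grothendieck abelian category; it is the
setting in which sheaf cohomology is defined.) -/
theorem result (X : TopCat.{u})
    [HasExt.{u} (Sheaf (Opens.grothendieckTopology X) AddCommGrpCat.{u})]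
    (r : ℕ) (hr : 1 ≤ r)
    (F : ChainComplex (Sheaf (Opens.grothendieckTopology X) AddCommGrpCat.{u}) ℕ)
    (hmono : Mono (F.d r (r - 1))) (hepi : Epi (F.d 1 0))
    (hex : ∀ j : ℕ, 1 ≤ j → j < r → F.ExactAt j)
    (hvan : ∀ j : ℕ, 2 ≤ j → j ≤ r → Subsingleton (Sheaf.H (F.X j) (j - 1))) :
    Function.Surjective ((F.d 1 0).hom.app (Opposite.op ⊤)) := by
  let J := Opens.grothendieckTopology X
  let C : Sheaf J AddCommGrpCat.{u} := (constantSheaf J AddCommGrpCat.{u}).obj (AddCommGrpCat.of (ULift ℤ))
  let S : ∀ j : ℕ, ShortComplex (Sheaf J AddCommGrpCat.{u}) := fun j =>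
    ShortComplex.mk (kernel.ι (F.d (j + 2) (j + 1))) (kernel.lift (F.d (j + 1) j) (F.d (j + 2) (j + 1)) (F.d_comp_d _ _ _))
      (by rw [← cancel_mono (kernel.ι (F.d (j + 1) j)), Category.assoc, kernel.lift_ι, kernel.condition, zero_comp])
  have hS : ∀ j, j + 1 < r → (S j).ShortExact := by
    intro j hj
    haveI : Epi (S j).g :=
      (((HomologicalComplex.exactAt_iff' F (j + 2) (j + 1) j (by simp) (by simp)).1 (hex (j + 1) (by omega) hj))).epi_kernelLift
    haveI : Mono (S j).f := inferInstanceAs (Mono (kernel.ι _))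
    exact { exact := ShortComplex.exact_of_f_is_kernel _
              (isKernelOfComp (kernel.ι (F.d (j + 1) j)) (F.d (j + 2) (j + 1)) (kernelIsKernel _) (S j).zero (kernel.lift_ι _ _ _)) }
  have hK : ∀ k j : ℕ, j + k + 1 = r → Subsingleton (Abelian.Ext C (kernel (F.d (j + 1) j)) (j + 1)) := by
    intro k
    induction k with
    | zero =>
      intro j hj
      subst hj
      haveI : Mono (F.d (j + 1) j) := by simpa using hmono
      exact subsingleton_of_forall_eq 0 fun x =>
        haveI := (isZero_kernel_of_mono (F.d (j + 1) j)).injective; Abelian.Ext.eq_zero_of_injective x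
    | succ k ih =>
      intro j hj
      refine subsingleton_of_forall_eq 0 fun x => ?_
      haveI := ih (j + 1) (by omega)
      haveI : Subsingleton (Abelian.Ext C (S j).X₂ (j + 1)) := hvan (j + 2) (by omega) (by omega)
      obtain ⟨y, hy⟩ := Abelian.Ext.covariant_sequence_exact₃ C (hS j (by omega)) x (n₁ := j + 1 + 1) rfl
        (Subsingleton.elim _ _)
      rw [← hy, Subsingleton.elim y 0, Abelian.Ext.zero_comp]
  haveI hK1 : Subsingleton (Abelian.Ext C (kernel (F.d 1 0)) 1) := hK (r - 1) 0 (by omega)
  let S₀ : ShortComplex (Sheaf J AddCommGrpCat.{u}) := ShortComplex.mk (kernel.ι (F.d 1 0)) (F.d 1 0) (kernel.condition _)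
  have hS₀ : S₀.ShortExact :=
    { exact := ShortComplex.exact_of_f_is_kernel _ (kernelIsKernel _)
      mono_f := inferInstanceAs (Mono (kernel.ι _))
      epi_g := hepi }
  intro s
  let x := (Sheaf.H.equiv₀ (F.X 0) Limits.isTerminalTop).symm s
  obtain ⟨y, hy⟩ := Abelian.Ext.covariant_sequence_exact₃ C hS₀ x (n₁ := 1) rfl (Subsingleton.elim _ _)
  refine ⟨Sheaf.H.equiv₀ (F.X 1) Limits.isTerminalTop y, ?_⟩
  rw [Sheaf.H.equiv₀_naturality Limits.isTerminalTop (F.d 1 0)]
  refine (congrArg _ ?_).trans ((Sheaf.H.equiv₀ (F.X 0) Limits.isTerminalTop).apply_symm_apply s)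
  exact hy

end Groth.Agent.S14060
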