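import Groth.Statements.S14064
import Groth.Agent.CurveLib.Inv
import Groth.Agent.CurveLib.SmulPow
import Groth.Agent.ASBunKS.Abstract


set_option autoImplicit false
universe u
open CategoryTheory CategoryTheory.Limits AlgebraicGeometry TopologicalSpace
open Surf

namespace Groth.Agent.S14064

open CategoryTheory CategoryTheory.Limits AlgebraicGeometry

open Groth.Agent CategoryTheory AlgebraicGeometry Limits
open Groth.Agent.PullbackMod Groth.Agent.AmpleLib
open scoped TensorProduct
set_option backward.isDefEq.respectTransparency false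

theorem tensor_map_ne_zero {Y : Scheme.{u}} {N : Y.Modules} (hN : PicF.IsInvertible N) {A B : Y.Modules}
    {g : A ⟶ B} (hg : g ≠ 0) : ((DCoh.tensorBi (X := Y)).obj N).map g ≠ 0 := fun h => hg <| by
  refine (eq_zero_iff_stalk g).2 fun x => LinearMap.ext fun z => ?_
  obtain ⟨e, he⟩ := ParaFLib.exists_stalk_gen hN x
  have h1 := (DCohLib.stalkTensor_natural_right x g (M := N) (e ⊗ₜ z)).symm
  rw [(eq_zero_iff_stalk _).1 h x, LinearMap.zero_apply] at h1
  have h2 : e ⊗ₜ[Y.presheaf.stalk x] stalkLin g x z = 0 := by
    simpa using (DCohLib.stalkTensor x N B).map_eq_zero_iff.1 h1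
  let θ : Y.presheaf.stalk x ≃ₗ[Y.presheaf.stalk x] N.presheaf.stalk x :=
    LinearEquiv.ofBijective (LinearMap.toSpanSingleton _ _ e) he
  have h3 := congrArg ((TensorProduct.congr θ.symm (LinearEquiv.refl _ _)).trans (TensorProduct.lid _ _)) h2
  simp only [LinearEquiv.trans_apply, TensorProduct.congr_tmul, LinearEquiv.refl_apply, TensorProduct.lid_tmul,
    map_zero] at h3
  rw [show θ.symm e = 1 from θ.symm_apply_eq.2 (by rw [LinearEquiv.ofBijective_apply, LinearMap.toSpanSingleton_apply, one_smul]), one_smul] at h3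
  exact h3

/-- A monomorphic cosection of every power. -/
theorem exists_mono_cosection {Y : Scheme.{u}} [IsIntegral Y] {N : Y.Modules} (hN : PicF.IsInvertible N)
    (t : N ⟶ Coh.structureModule Y) (ht : t ≠ 0) :
    ∀ m, ∃ c : CohB1.tensorPow N m ⟶ Coh.structureModule Y, Mono c
  | 0 => ⟨𝟙 _, inferInstanceAs (Mono (𝟙 (Coh.structureModule Y)))⟩
  | m + 1 => by
    obtain ⟨c, hc⟩ := exists_mono_cosection hN t ht m
    let T : CohB1.tensorPow N (m + 1) ⟶ CohB1.tensorMod (CohB1.tensorPow N m) (Coh.structureModule Y) :=
      ((DCoh.tensorBi (X := Y)).obj (CohB1.tensorPow N m)).map t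
    have hT : Mono T := CurveLib.mono_of_ne_zero (isInvertible_tensorPow hN (m + 1))
      (isInvertible_tensor (isInvertible_tensorPow hN m) ParaFLib.isInvertible_structureModule)
      (tensor_map_ne_zero (isInvertible_tensorPow hN m) ht)
    exact ⟨T ≫ (unitR _).hom ≫ c, inferInstance⟩

/-- Fix a field k, an integral proper k-scheme X, and an invertible O_X-module L with tensor inverse M.
Suppose that L^{⊗j} has a nonzero global section for every j ≥ 4 and that no tensor power L^{⊗j}
with j ≥ 1 is isomorphic to O_X. Then H⁰(X, M^{⊗i}) = 0 for every i ≥ 1: the negative powers of L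
have no nonzero global sections. (The published statement is for the canonical module of a minimal
surface of general type over an algebraically closed field, where the fourth and higher powers are
globally generated by a deep result quoted without proof, and non-triviality of the positive powers
comes from bigness; the published deduction of this part uses exactly the two hypotheses carried
here, on an integral proper X.) -/
theorem result (k : Type u) [Field k]
    (X : Scheme.{u}) [X.Over (Spec (CommRingCat.of k))] [IsProper (X ↘ (Spec (CommRingCat.of k)))] [IsIntegral X]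
    (L M : X.Modules) (hL : PicF.IsInvertible L) (hM : ClSub.IsInverseOf M L)
    (hsec : ∀ j : ℕ, 4 ≤ j → Nontrivial (Coh.HH X (CohB1.tensorPow L j) 0))
    (hnt : ∀ j : ℕ, 1 ≤ j → IsEmpty (CohB1.tensorPow L j ≅ Coh.structureModule X))
    (i : ℕ) (hi : 1 ≤ i) :
    Subsingleton (Coh.HH X (CohB1.tensorPow M i) 0) := by
  haveI : Nonempty X := inferInstance
  have hfield : IsField Γ(X, ⊤) := isField_of_universallyClosed k (X ↘ Spec (CommRingCat.of k))
  obtain ⟨a⟩ := hM
  refine subsingleton_of_forall_eq 0 fun c => ?_
  by_contra hc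
  have hu := CurveLib.secHom_secOf_ne_zero (CohB1.tensorPow M i) hc
  let N := CohB1.tensorPow L i
  have hN : PicF.IsInvertible N := isInvertible_tensorPow hL i
  let t : N ⟶ Coh.structureModule X := (unitR N).inv ≫
    ((DCoh.tensorBi (X := X)).obj N).map (DCohLib.secHom _ (CurveLib.secOf (CohB1.tensorPow M i) c)) ≫
    (comm _ _).hom ≫ (powTensor M L i).inv ≫ (powCongr a i).hom ≫ (powUnit i).hom
  have ht : t ≠ 0 := fun h => tensor_map_ne_zero hN hu <| by
    rw [← cancel_epi (unitR N).inv, ← cancel_mono ((comm _ _).hom ≫ (powTensor M L i).inv ≫ (powCongr a i).hom ≫ (powUnit i).hom)]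
    simp only [comp_zero, zero_comp, Category.assoc]
    exact h
  obtain ⟨c₄, hc₄⟩ := exists_mono_cosection hN t ht 4
  haveI := hsec (i * 4) (by omega)
  obtain ⟨w, hw⟩ := exists_ne (0 : Coh.HH X (CohB1.tensorPow L (i * 4)) 0)
  let s := DCohLib.secHom _ (CurveLib.secOf (CohB1.tensorPow L (i * 4)) w)
  have hs : s ≠ 0 := CurveLib.secHom_secOf_ne_zero _ hw
  have hc' : (powMul L i 4).inv ≫ c₄ ≠ 0 := fun h => hs ((cancel_mono ((powMul L i 4).inv ≫ c₄)).1 (by
    rw [h, comp_zero, comp_zero]))
  haveI := ParaFLib.isIso_of_section_cosection hfield (isInvertible_tensorPow hL (i * 4)) s hs _ hc'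
  exact (hnt (i * 4) (by omega)).false (asIso s).symm


end Groth.Agent.S14064
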