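import Groth.Statements.S14065
import Groth.Agent.CurveFF.Sections

set_option autoImplicit false
universe u
open CategoryTheory CategoryTheory.Limits AlgebraicGeometry TopologicalSpace
open Curves

namespace Groth.Agent.S14065

/-- Let k be an algebraically closed field and C a smooth projective connected curve over k — an
integral scheme, proper and smooth over k, of dimension 1 — of genus g = dim_k H¹(C, O_C) with g ≥
2, and let T be the tangent module of C, a tensor inverse of the module of differentials Ω_{C/k}.
Then dim_k H¹(C, T) = 3g − 3. (The published proof makes this computation, together with the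
vanishing of H⁰(C, T), to find the dimension of the tangent space of the moduli stack of genus-g
curves at C; only the dimension of H¹(C, T) is stated here.) -/
theorem result (k : Type u) [Field k] [IsAlgClosed k]
    (C : Scheme.{u}) [C.Over (Spec (CommRingCat.of k))] [IsProper (C ↘ (Spec (CommRingCat.of k)))] [Smooth (C ↘ (Spec (CommRingCat.of k)))] [IsIntegral C]
    (hdim : topologicalKrullDim C = 1) (g : ℕ) (hg : Curv2.genus k C = g) (h2 : 2 ≤ g)
    (T : C.Modules) (hT : ClSub.IsInverseOf T (Omega.sheaf (C ↘ (Spec (CommRingCat.of k))))) :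
    Module.finrank k (Coh.HH C T 1) = 3 * g - 3 := by
  haveI := Groth.Agent.VBLib.isRegCurve_of_smooth k hdim.le
  haveI := Groth.Agent.EulerIneqLib.isNoetherian_proper (X := C) k
  have h0 := Groth.Agent.CurveFF.h0_eq_one k hdim
  have hΩ := Groth.Agent.CurveFF.omega_invertible k hdim
  have hTi := Groth.Agent.AmpleLib.isInvertible_of_tensor_iso hT.some
  have hΩΩ := Groth.Agent.AmpleLib.isInvertible_tensor hΩ hΩ
  have hd := Groth.Agent.CurveLib.deg_tensor_add (k := k) hdim.le hΩ hΩ
  have h6 := Groth.Agent.CurveFF.omega_deg k hdim
  rw [hg] at h6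
  haveI := Groth.Agent.CurveFF.subsingleton_H1 (k := k) hdim h0 hΩΩ (by rw [hd, hg]; omega)
  rw [Groth.Agent.CurveFF.h1_eq_h0_dual hdim hTi hT]
  have he := Groth.Agent.CurveLib.euler_eq_sub (k := k) (M := CohB1.tensorMod (Groth.Agent.CurveFF.om k C) (Groth.Agent.CurveFF.om k C)) hdim.le
  rw [show Module.finrank k (Coh.HH C (CohB1.tensorMod (Groth.Agent.CurveFF.om k C) (Groth.Agent.CurveFF.om k C)) 1) = 0 from
    Module.finrank_zero_of_subsingleton] at he
  have hO := Groth.Agent.CurveLib.euler_eq_sub (k := k) (M := Coh.structureModule C) hdim.le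
  rw [h0, show Module.finrank k (Coh.HH C (Coh.structureModule C) 1) = g from hg] at hO
  unfold Curv2.deg at hd h6
  simp only [Groth.Agent.CurveFF.om] at he hd h6 ⊢
  omega

end Groth.Agent.S14065
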