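import Groth.Statements.S14066
import Groth.Agent.ProjRed.Basic
import Groth.Agent.ProjOverLib.Affine
import Groth.Agent.ProjOverLib.QuotOver
import Groth.Agent.ProjBundleLib.Biprod
import Groth.Agent.AmpleEmb.TwistOne


set_option autoImplicit false
universe u
open CategoryTheory CategoryTheory.Limits AlgebraicGeometry TopologicalSpace
open Variety

namespace Groth.Agent.S14066

open CategoryTheory CategoryTheory.Limits AlgebraicGeometry

open Groth.Agent
set_option backward.isDefEq.respectTransparency false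

/-- Let k be a field, and let X₁ and X₂ be k-schemes with closed immersions i₁ : X₁ → P^n_k and i₂ : X₂
→ P^m_k over k. Then there is a closed immersion of the disjoint union X₁ ⨿ X₂ into P^{n+m+1}_k over
k, that is, compatible with the structure morphism of the coproduct induced by those of X₁ and X₂.
(Stated as the step of the published proof showing that a disjoint union of two projective k-schemes
is projective.) -/
theorem result (k : Type u) [Field k] (n m : ℕ)
    (X₁ X₂ : Scheme.{u}) [X₁.Over (Spec (CommRingCat.of k))] [X₂.Over (Spec (CommRingCat.of k))]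
    (i₁ : X₁ ⟶ CohB1.ProjSpace n k) [IsClosedImmersion i₁] (h₁ : i₁ ≫ CohB1.ProjSpace.toSpec n k = X₁ ↘ (Spec (CommRingCat.of k)))
    (i₂ : X₂ ⟶ CohB1.ProjSpace m k) [IsClosedImmersion i₂] (h₂ : i₂ ≫ CohB1.ProjSpace.toSpec m k = X₂ ↘ (Spec (CommRingCat.of k))) :
    ∃ j : X₁ ⨿ X₂ ⟶ CohB1.ProjSpace (n + m + 1) k, IsClosedImmersion j ∧
      j ≫ CohB1.ProjSpace.toSpec (n + m + 1) k = coprod.desc (X₁ ↘ (Spec (CommRingCat.of k))) (X₂ ↘ (Spec (CommRingCat.of k))) := by
  have build : ∀ (d : ℕ) (g : Fin (n + m + 1 + 1) → MvPolynomial (Fin (d + 1)) k),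
      (∀ i, (g i).IsHomogeneous 1) → (∀ j, ∃ i, g i = MvPolynomial.X j) →
      ∃ φ : CohB1.ProjSpace d k ⟶ CohB1.ProjSpace (n + m + 1) k, IsClosedImmersion φ ∧
        φ ≫ CohB1.ProjSpace.toSpec (n + m + 1) k = CohB1.ProjSpace.toSpec d k ∧
        ∀ i, g i = 0 → ∀ a, φ a ∉ Proj.basicOpen (CohB1.polyGrading (n + m + 1) k) (MvPolynomial.X i) := by
    intro d g hg hsur
    let ψ : CohB1.polyGrading (n + m + 1) k →+*ᵍ CohB1.polyGrading d k :=
      { (MvPolynomial.aeval g).toRingHom with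
        map_mem := fun {i} {x} hx => by
          have h := MvPolynomial.IsHomogeneous.aeval (n := 1) hx g hg
          rw [one_mul] at h
          exact h }
    have hψ : ∀ x, ψ x = MvPolynomial.aeval g x := fun _ => rfl
    have hirr : HomogeneousIdeal.irrelevant (CohB1.polyGrading d k) ≤
        (HomogeneousIdeal.irrelevant (CohB1.polyGrading (n + m + 1) k)).map ψ := by
      show (HomogeneousIdeal.irrelevant (CohB1.polyGrading d k)).toIdeal ≤ _
      rw [ProjOverLib.irrelevant_eq_span, Ideal.span_le]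
      rintro _ ⟨j, rfl⟩
      obtain ⟨i, hi⟩ := hsur j
      rw [SetLike.mem_coe, ← hi, ← MvPolynomial.aeval_X (R := k) g i, ← hψ]
      exact Ideal.mem_map_of_mem _
        (HomogeneousIdeal.mem_irrelevant_of_mem _ one_pos (MvPolynomial.isHomogeneous_X _ i))
    have hsurj : Function.Surjective ψ := fun y => by
      obtain ⟨x, hx⟩ : y ∈ (MvPolynomial.aeval (R := k) g).range := by
        have h : y ∈ Algebra.adjoin k (Set.range (MvPolynomial.X : Fin (d + 1) → MvPolynomial (Fin (d + 1)) k)) :=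
          MvPolynomial.adjoin_range_X (R := k) (σ := Fin (d + 1)) ▸ Algebra.mem_top
        refine Algebra.adjoin_le ?_ h
        rintro _ ⟨j, rfl⟩
        obtain ⟨i, hi⟩ := hsur j
        exact ⟨MvPolynomial.X i, (MvPolynomial.aeval_X g i).trans hi⟩
      exact ⟨x, hx⟩
    refine ⟨Proj.map ψ hirr, ProjRed.isClosedImmersion_map ψ hirr hsurj,
      ProjOverLib.map_comp_structure ψ hirr fun r => (hψ _).trans (AlgHom.commutes _ r), fun i hi a ha => ?_⟩
    have h2 : a ∈ Proj.map ψ hirr ⁻¹ᵁ Proj.basicOpen (CohB1.polyGrading (n + m + 1) k) (MvPolynomial.X i) := ha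
    rw [Proj.map_preimage_basicOpen, hψ, MvPolynomial.aeval_X, hi, Proj.basicOpen_zero] at h2
    exact h2
  obtain ⟨φ₁, hc₁, hs₁, hz₁⟩ := build n
    (fun i => if h : (i : ℕ) < n + 1 then MvPolynomial.X ⟨i, h⟩ else 0)
    (fun i => by
      split
      · exact MvPolynomial.isHomogeneous_X _ _
      · exact MvPolynomial.isHomogeneous_zero _ _ _)
    (fun j => ⟨⟨j, by omega⟩, by simp [j.isLt]⟩)
  obtain ⟨φ₂, hc₂, hs₂, hz₂⟩ := build m
    (fun i => if h : n + 1 ≤ (i : ℕ) then MvPolynomial.X ⟨(i : ℕ) - (n + 1), by omega⟩ else 0)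
    (fun i => by
      split
      · exact MvPolynomial.isHomogeneous_X _ _
      · exact MvPolynomial.isHomogeneous_zero _ _ _)
    (fun j => ⟨⟨n + 1 + j, by omega⟩, by simp⟩)
  refine ⟨coprod.desc (i₁ ≫ φ₁) (i₂ ≫ φ₂), ProjBundleLib.isClosedImmersion_desc _ _ fun a b hab => ?_, ?_⟩
  · obtain ⟨t, ht⟩ := TopologicalSpace.Opens.mem_iSup.1
      ((AmpleEmb.iSup_stdOpen (n + m + 1) k).ge (show (i₁ ≫ φ₁) a ∈ ⊤ from trivial))
    rcases Nat.lt_or_ge (t : ℕ) (n + 1) with h | h
    · refine hz₂ t (dif_neg (by omega)) (i₂ b) ?_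
      rw [hab] at ht
      exact ht
    · exact hz₁ t (dif_neg (by omega)) (i₁ a) ht
  · ext1 <;> simp [hs₁, hs₂, h₁, h₂]


end Groth.Agent.S14066
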