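import Groth.Statements.S14069
import Mathlib
import Groth.Agent.SmoothLiftLib.Basic
set_option backward.isDefEq.respectTransparency false
open CategoryTheory CategoryTheory.Limits AlgebraicGeometry
-- import your own Groth.Agent.* helpers here

set_option autoImplicit false
universe u
open CategoryTheory AlgebraicGeometry
open FamCyc

namespace Groth.Agent.S14069

/-- Let i : S₀ ⟶ S be a closed immersion, p : X ⟶ S a scheme over S, q : Y ⟶ S a smooth morphism, X₀ = X
×_S S₀, x₀ a point of X₀ and f₀ : X₀ ⟶ Y a morphism over S. Then there are a scheme U, an étale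
morphism e : U ⟶ X whose base change U ×_X X₀ ⟶ X₀ is an open immersion whose image contains x₀, and
a morphism f : U ⟶ Y over S whose restriction to U ×_X X₀ equals the restriction of f₀. -/
theorem result {S S₀ X Y : Scheme.{u}} (i : S₀ ⟶ S) [IsClosedImmersion i]
    (p : X ⟶ S) (q : Y ⟶ S) [Smooth q] (f₀ : Limits.pullback p i ⟶ Y)
    (hf₀ : f₀ ≫ q = Limits.pullback.fst p i ≫ p) (x₀ : ↥(Limits.pullback p i)) :
    ∃ (U : Scheme.{u}) (e : U ⟶ X) (f : U ⟶ Y), Etale e ∧ f ≫ q = e ≫ p ∧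
      IsOpenImmersion (Limits.pullback.snd e (Limits.pullback.fst p i)) ∧
      x₀ ∈ Set.range (Limits.pullback.snd e (Limits.pullback.fst p i)).base ∧
      Limits.pullback.snd e (Limits.pullback.fst p i) ≫ f₀ =
        Limits.pullback.fst e (Limits.pullback.fst p i) ≫ f := by
  set j := Limits.pullback.fst p i with hj
  obtain ⟨R₀, hR, V, hV, hyV, eB, hB⟩ := Smooth.exists_isStandardSmooth q (f₀ x₀)
  obtain ⟨O, hO, hOeq⟩ := j.isClosedEmbedding.isInducing.isOpen_iff.mp (f₀ ⁻¹ᵁ V).2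
  have hx₀O : j x₀ ∈ O := by
    have : x₀ ∈ j ⁻¹' O := by rw [hOeq]; exact hyV
    exact this
  have hxR : p (j x₀) ∈ R₀ := by
    have h1 : q (f₀ x₀) ∈ R₀ := eB hyV
    rwa [← Scheme.Hom.comp_apply, hf₀, Scheme.Hom.comp_apply] at h1
  obtain ⟨_, ⟨A : X.Opens, hA, rfl⟩, hxA, hAsub⟩ :=
    X.isBasis_affineOpens.exists_subset_of_mem_open (a := j x₀) (u := O ∩ ↑(p ⁻¹ᵁ R₀))
      ⟨hx₀O, hxR⟩ (hO.inter (p ⁻¹ᵁ R₀).2)
  replace hA : IsAffineOpen A := hA
  have hxA' : x₀ ∈ j ⁻¹ᵁ A := hxA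
  have eA : A ≤ p ⁻¹ᵁ R₀ := fun x hx => (hAsub hx).2
  have hA₀ : IsAffineOpen (j ⁻¹ᵁ A) := hA.preimage j
  have e₀ : j ⁻¹ᵁ A ≤ f₀ ⁻¹ᵁ V := fun x hx => by
    have : x ∈ j ⁻¹' O := (hAsub hx).1
    rw [hOeq] at this
    exact this
  have hcomm : (f₀.appLE V (j ⁻¹ᵁ A) e₀).hom.comp (q.appLE R₀ V eB).hom =
      (j.app A).hom.comp (p.appLE R₀ A eA).hom := by
    rw [← CommRingCat.hom_comp, ← CommRingCat.hom_comp, Scheme.Hom.app_eq_appLE,
      Scheme.Hom.appLE_comp_appLE, Scheme.Hom.appLE_comp_appLE]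
    simp only [hf₀, hj]
  obtain ⟨C, _, aC, ψ, χ, haC, hψ, hχa, hχψ, hχs, hχker⟩ :=
    Groth.Agent.SmoothLiftLib.exists_etale_lift (p.appLE R₀ A eA).hom (q.appLE R₀ V eB).hom hB
      (j.app A).hom (Scheme.Hom.app_surjective j A hA)
      (f₀.appLE V (j ⁻¹ᵁ A) e₀).hom hcomm
  let e : Spec (CommRingCat.of C) ⟶ X := Spec.map (CommRingCat.ofHom aC) ≫ hA.fromSpec
  let f : Spec (CommRingCat.of C) ⟶ Y := Spec.map (CommRingCat.ofHom ψ) ≫ hV.fromSpec
  have hpo : CategoryTheory.IsPushout (CommRingCat.ofHom aC) (j.app A) (CommRingCat.ofHom χ) (𝟙 _) := by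
    refine ⟨⟨?_⟩, ⟨Limits.PushoutCocone.IsColimit.mk _ (fun s => s.inr) (fun s => ?_) (fun s => ?_)
      (fun s m _ hm => ?_)⟩⟩
    · rw [Category.comp_id]; exact CommRingCat.hom_ext hχa
    · refine CommRingCat.hom_ext (RingHom.ext fun c => ?_)
      show s.inr.hom (χ c) = s.inl.hom c
      obtain ⟨a, ha⟩ := Scheme.Hom.app_surjective j A hA (χ c)
      have hsub : c - aC a ∈ RingHom.ker χ := by
        rw [RingHom.mem_ker, map_sub, show χ (aC a) = _ from RingHom.congr_fun hχa a]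
        exact sub_eq_zero.mpr ha.symm
      have hle : (RingHom.ker (j.app A).hom).map aC ≤ RingHom.ker s.inl.hom := by
        rw [Ideal.map_le_iff_le_comap]
        intro x hx
        show s.inl.hom (aC x) = 0
        have h2 : s.inl.hom (aC x) = s.inr.hom ((j.app A).hom x) :=
          congr($(s.condition).hom x)
        rw [h2, show (j.app A).hom x = 0 from hx, map_zero]
      have h3 := hle (hχker hsub)
      rw [RingHom.mem_ker, map_sub, sub_eq_zero] at h3
      rw [h3, show s.inl.hom (aC a) = s.inr.hom ((j.app A).hom a) from congr($(s.condition).hom a)]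
      exact congrArg _ ha.symm
    · exact Category.id_comp _
    · simpa using hm
  have h1 : IsPullback (Spec.map (CommRingCat.ofHom χ)) (Spec.map (𝟙 ((Limits.pullback p i).presheaf.obj (Opposite.op (j ⁻¹ᵁ A)))))
      (Spec.map (CommRingCat.ofHom aC)) (Spec.map (j.app A)) :=
    isPullback_SpecMap_of_isPushout _ _ _ _ hpo
  have h2 : IsPullback (Spec.map (j.app A)) hA₀.fromSpec hA.fromSpec j := by
    refine IsOpenImmersion.isPullback _ _ _ _ ?_ ?_
    · rw [Scheme.Hom.app_eq_appLE]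
      exact (IsAffineOpen.SpecMap_appLE_fromSpec j hA hA₀ le_rfl).symm
    · apply TopologicalSpace.Opens.ext
      rw [Scheme.Hom.coe_preimage, Scheme.Hom.coe_opensRange, Scheme.Hom.coe_opensRange,
        IsAffineOpen.range_fromSpec, IsAffineOpen.range_fromSpec]
      rfl
  have h3 : IsPullback (Spec.map (CommRingCat.ofHom χ)) hA₀.fromSpec e j := by
    have := (h1.flip.paste_horiz h2.flip).flip
    rw [Spec.map_id] at this
    exact (Category.id_comp hA₀.fromSpec) ▸ this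
  have hsnd : Limits.pullback.snd e j = h3.isoPullback.inv ≫ hA₀.fromSpec := by
    rw [Iso.eq_inv_comp, h3.isoPullback_hom_snd]
  refine ⟨Spec (CommRingCat.of C), e, f, ?_, ?_, ?_, ?_, ?_⟩
  · haveI : Etale (Spec.map (CommRingCat.ofHom aC)) :=
      (HasRingHomProperty.Spec_iff (P := @Etale)).mpr haC
    show Etale (_ ≫ hA.fromSpec)
    infer_instance
  · simp only [e, f, Category.assoc]
    rw [← IsAffineOpen.SpecMap_appLE_fromSpec q hR hV eB, ← IsAffineOpen.SpecMap_appLE_fromSpec p hR hA eA,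
      ← Category.assoc, ← Category.assoc, ← Spec.map_comp, ← Spec.map_comp]
    congr 2
    exact CommRingCat.hom_ext hψ
  · rw [hsnd]; infer_instance
  · refine ⟨h3.isoPullback.hom (hA₀.primeIdealOf ⟨x₀, hxA'⟩), ?_⟩
    rw [← Scheme.Hom.comp_apply, h3.isoPullback_hom_snd]
    exact hA₀.fromSpec_primeIdealOf ⟨x₀, hxA'⟩
  · rw [← cancel_epi h3.isoPullback.hom, h3.isoPullback_hom_snd_assoc, h3.isoPullback_hom_fst_assoc]
    simp only [f]
    rw [← IsAffineOpen.SpecMap_appLE_fromSpec f₀ hV hA₀ e₀, ← Category.assoc, ← Spec.map_comp]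
    congr 2
    exact CommRingCat.hom_ext hχψ.symm

end Groth.Agent.S14069
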