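import Groth.Statements.S1407
import Groth.Agent.CMFlatLib.BaseChange
import Groth.Agent.CMFlatLib.FibreNoeth
-- import your own Groth.Agent.* helpers here

set_option autoImplicit false
universe u
open FlatMor

namespace Groth.Agent.S1407

open AlgebraicGeometry CategoryTheory Limits in
/-- Let Y' → Y be flat, locally of finite presentation and surjective and f' the base change of f : X →
Y. Then f has locally Noetherian fibres and is Cohen–Macaulay at every point if and only if the same
holds for f'. -/
theorem result {X Y X' Y' : Scheme.{u}} (f : X ⟶ Y) (f' : X' ⟶ Y') (g' : X' ⟶ X) (g : Y' ⟶ Y) [Flat g] [LocallyOfFinitePresentation g] [Surjective g]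
    (hc : IsPullback g' f' f g) :
    ((∀ y : Y, IsLocallyNoetherian (f.fiber y)) ∧ ∀ x : X, MoreMor.IsCMAt f x) ↔
      (∀ y' : Y', IsLocallyNoetherian (f'.fiber y')) ∧ ∀ x' : X', MoreMor.IsCMAt f' x' := by
  refine ⟨fun ⟨hN, h⟩ => ⟨fun y' => CMFlatLib.isLocallyNoetherian_fibre_baseChange hc y' (hN _), fun x' => ?_⟩,
    fun ⟨hN', h⟩ => ?_⟩
  · have := h (g' x')
    rw [CMFlatLib.isCMAt_iff] at this ⊢
    exact ⟨CMFlatLib.flat_stalkMap_baseChange hc x' this.1,
      (CMFlatLib.cmFibre_isPullback_iff hc x' (CMFlatLib.noethFibre_of_isLocallyNoetherian _ (hN _)) (Or.inl inferInstance)).2 this.2⟩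
  · have hN : ∀ y : Y, IsLocallyNoetherian (f.fiber y) := fun y => by
      obtain ⟨y', rfl⟩ := g.surjective y
      exact CMFlatLib.isLocallyNoetherian_fibre_descend hc y' (hN' y')
    refine ⟨hN, fun x => ?_⟩
    haveI : Surjective g' := MorphismProperty.of_isPullback (P := @Surjective) hc.flip inferInstance
    obtain ⟨x', rfl⟩ := g'.surjective x
    have := h x'
    rw [CMFlatLib.isCMAt_iff] at this ⊢
    exact ⟨CMFlatLib.flat_stalkMap_descend hc x' (Flat.stalkMap g _) this.1,
      (CMFlatLib.cmFibre_isPullback_iff hc x' (CMFlatLib.noethFibre_of_isLocallyNoetherian _ (hN _)) (Or.inl inferInstance)).1 this.2⟩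

end Groth.Agent.S1407
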