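import Groth.Statements.S14070
import Groth.Agent.ChevalleyOpen.Comps
-- import your own Groth.Agent.* helpers here

set_option autoImplicit false
open CategoryTheory AlgebraicGeometry
universe u
open FamCyc

namespace Groth.Agent.S14070

/-- Let S be a scheme all of whose local rings are geometrically unibranch and which has only finitely
many irreducible components, and let f : X ⟶ S be a morphism locally of finite type such that every
point x of X lies on an irreducible component W of X (given its reduced subscheme structure) with W
⟶ S equidimensional at x. Then f is universally open. (No Noetherian hypothesis on S: finiteness of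
its set of irreducible components is what is used, and the statement fails without it.) -/
theorem result {X S : Scheme.{u}}
    (hS : ∀ s : S, CAlg2.IsGeomUnibranch (S.presheaf.stalk s))
    (hfin : (irreducibleComponents (S : Type u)).Finite)
    (f : X ⟶ S) [LocallyOfFiniteType f]
    (hT : ∀ x : X, ∃ W : TopologicalSpace.Closeds X, (W : Set X) ∈ irreducibleComponents (X : Type u) ∧
      ∃ w : ↥((Scheme.IdealSheafData.vanishingIdeal W).subscheme),
        (Scheme.IdealSheafData.vanishingIdeal W).subschemeι.base w = x ∧
        EGA43.IsEquidimAt ((Scheme.IdealSheafData.vanishingIdeal W).subschemeι ≫ f) w) :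
    UniversallyOpen f := by
  refine Groth.Agent.UnivOpenAtLib.universallyOpen_iff_forall.2 fun x => ?_
  obtain ⟨W, -, w, rfl, hw⟩ := hT x
  exact Groth.Agent.UnivOpenAtLib.univOpenAt_of_comp
    (Groth.Agent.ChevalleyOpen.univOpenAt_of_isEquidimAt hS
      (Groth.Agent.ChevalleyOpen.locFinComp_of_finite_components hfin) _ w hw)

end Groth.Agent.S14070
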