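import Groth.Statements.S14074
import Groth.Agent.RelPCLib.SmoothPush

set_option autoImplicit false
open CategoryTheory AlgebraicGeometry
universe u
attribute [local instance] HasDerivedCategory.standard
open FamCyc

namespace Groth.Agent.S14074

/-- Let h : B ⟶ S be a smooth morphism, φ : X ⟶ B a morphism locally of finite type and F a
quasi-coherent O_X-module of pointwise finite tor dimension over S, i.e. at every point x of X the
stalk F_x is, over the local ring of S below x, isomorphic in the derived category to a bounded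
complex of flat modules. Then F has finite tor dimension over B pointwise in the same sense. -/
theorem result {X B S : Scheme.{u}} (h : B ⟶ S) [Smooth h]
    (φ : X ⟶ B) [LocallyOfFiniteType φ] (F : X.Modules) (hF : Coh.IsQCoh F)
    (hS : ∀ x : X, ∃ a b : ℤ,
      DerSch.HasTorAmplitudeAt (φ ≫ h) a b ((HomologicalComplex.single X.Modules (ComplexShape.up ℤ) 0).obj F) x) :
    ∀ x : X, ∃ a b : ℤ,
      DerSch.HasTorAmplitudeAt φ a b ((HomologicalComplex.single X.Modules (ComplexShape.up ℤ) 0).obj F) x := by
  intro x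
  obtain ⟨U, hU, W, hW, hyW, e, hs⟩ :=
    (Smooth.iff_forall_exists_isStandardSmooth h).1 ‹Smooth h› (φ.base x)
  obtain ⟨n, hn⟩ : ∃ n, RingHom.IsStandardSmoothOfRelativeDimension n (h.appLE U W e).hom := by
    obtain ⟨_, _, _, _, ⟨P⟩⟩ := hs
    letI := (h.appLE U W e).hom.toAlgebra
    exact ⟨P.dimension, _, _, _, ‹_›, P, rfl⟩
  obtain ⟨a, b, hab⟩ := hS x
  exact ⟨a - n, b, Groth.Agent.RelPCLib.amp_stalk_smooth h hU hW e hn hyW
    (Groth.Agent.DRingLib.amp_of_iso
      (DerivedCategory.Q.mapIso (Groth.Agent.DerSchH7.stalkCxOverCompIso φ h x _) ≪≫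
        ((DTen.resFactors (h.stalkMap (φ.base x)).hom).app _).symm) hab)⟩

end Groth.Agent.S14074
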