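import Groth.Statements.S14078
import Groth.Agent.EtaleSplit.Nbhd

set_option autoImplicit false
open CategoryTheory CategoryTheory.Limits AlgebraicGeometry
universe u
open FamCyc

namespace Groth.Agent.S14078

/-- Let f : X ⟶ S be a morphism of schemes locally of finite type, i : Z ⟶ X an immersion such that Z ⟶
S is locally quasi-finite, and z a point of Z. Then there are an étale morphism g : T ⟶ S and an
open subscheme U of X ×_S T such that the preimage U ×_X Z of Z in U is finite over T and contains a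
point u over z whose residue field extension κ(z) → κ(u) is an isomorphism, u being moreover the
only point of U ×_X Z in its fibre over T. (The published statement covers algebraic spaces X, with
U ⟶ X ×_S T étale in general and an open subspace when X is a scheme; this row is the scheme case.) -/
theorem result {Z X S : Scheme.{u}} (f : X ⟶ S)
    [LocallyOfFiniteType f] (i : Z ⟶ X) [IsImmersion i] [LocallyQuasiFinite (i ≫ f)] (z : Z) :
    ∃ (T : Scheme.{u}) (g : T ⟶ S) (U : (pullback f g).Opens)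
      (u : ↥(pullback (U.ι ≫ pullback.fst f g) i)),
      Etale g ∧
      IsFinite (pullback.fst (U.ι ≫ pullback.fst f g) i ≫ U.ι ≫ pullback.snd f g) ∧
      (pullback.snd (U.ι ≫ pullback.fst f g) i).base u = z ∧
      IsIso ((pullback.snd (U.ι ≫ pullback.fst f g) i).residueFieldMap u) ∧
      ∀ u' : ↥(pullback (U.ι ≫ pullback.fst f g) i),
        (pullback.fst (U.ι ≫ pullback.fst f g) i ≫ U.ι ≫ pullback.snd f g).base u' =
          (pullback.fst (U.ι ≫ pullback.fst f g) i ≫ U.ι ≫ pullback.snd f g).base u → u' = u := by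
  classical
  let s := (i ≫ f) z
  obtain ⟨T, g, t, ⟨hg, -, -⟩, V, v, hv⟩ := Groth.Agent.EtaleSplit.exists_nbhd_finite_parts (i ≫ f) s
    (fun _ : Unit => z) (fun _ => rfl) (fun _ => (i ≫ f).quasiFiniteAt z)
  obtain ⟨hvV, hfin, hvt, huniq, hvz, hbij⟩ := hv ()
  let V₀ : (pullback (i ≫ f) g).Opens := V ()
  haveI : IsFinite (V₀.ι ≫ pullback.snd (i ≫ f) g) := hfin
  let j : pullback (i ≫ f) g ⟶ pullback f g := pullback.lift (pullback.fst (i ≫ f) g ≫ i)
    (pullback.snd (i ≫ f) g) (by rw [Category.assoc]; exact pullback.condition)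
  have hj1 : j ≫ pullback.fst f g = pullback.fst (i ≫ f) g ≫ i := pullback.lift_fst _ _ _
  have hj2 : j ≫ pullback.snd f g = pullback.snd (i ≫ f) g := pullback.lift_snd _ _ _
  have sqj : IsPullback j (pullback.fst (i ≫ f) g) (pullback.fst f g) i := by
    refine IsPullback.of_right (h₁₂ := pullback.snd f g) (h₂₂ := f) ?_ hj1 (IsPullback.of_hasPullback f g).flip
    rw [hj2]; exact (IsPullback.of_hasPullback (i ≫ f) g).flip
  haveI : IsImmersion j := MorphismProperty.of_isPullback (P := @IsImmersion) sqj.flip inferInstance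
  obtain ⟨U₀, hU₀, hUV⟩ := j.isEmbedding.isInducing.isOpen_iff.mp V₀.isOpen
  let U : (pullback f g).Opens := ⟨U₀, hU₀⟩
  have hV : j ⁻¹ᵁ U = V₀ := TopologicalSpace.Opens.ext hUV
  have sq : IsPullback (j ∣_ U) ((j ⁻¹ᵁ U).ι ≫ pullback.fst (i ≫ f) g) (U.ι ≫ pullback.fst f g) i :=
    (isPullback_morphismRestrict j U).paste_vert sqj
  let e := sq.isoPullback
  have hecomp : pullback.fst (U.ι ≫ pullback.fst f g) i ≫ U.ι ≫ pullback.snd f g =
      e.inv ≫ (j ⁻¹ᵁ U).ι ≫ pullback.snd (i ≫ f) g := by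
    rw [← sq.isoPullback_inv_fst, Category.assoc, morphismRestrict_ι_assoc, hj2]
  have hfinU : IsFinite ((j ⁻¹ᵁ U).ι ≫ pullback.snd (i ≫ f) g) := by rw [hV]; infer_instance
  let v₁ : ↥(j ⁻¹ᵁ U).toScheme := ⟨v (), by rw [hV]; exact hvV⟩
  have hei : e.inv (e.hom v₁) = v₁ := by rw [← Scheme.Hom.comp_apply, e.hom_inv_id]; rfl
  refine ⟨T, g, U, e.hom v₁, hg, ?_, ?_, ?_, fun u' hu' => ?_⟩
  · rw [hecomp]; infer_instance
  · rw [← Scheme.Hom.comp_apply, sq.isoPullback_hom_snd, Scheme.Hom.comp_apply]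
    exact hvz
  · have key : pullback.snd (U.ι ≫ pullback.fst f g) i = e.inv ≫ (j ⁻¹ᵁ U).ι ≫ pullback.fst (i ≫ f) g :=
      sq.isoPullback_inv_snd.symm
    haveI : IsIso ((pullback.fst (i ≫ f) g).residueFieldMap (v ())) :=
      (ConcreteCategory.isIso_iff_bijective _).mpr hbij
    have h2 : ∀ (w : ↥(pullback (U.ι ≫ pullback.fst f g) i)), (j ⁻¹ᵁ U).ι (e.inv w) = v () →
        IsIso ((e.inv ≫ (j ⁻¹ᵁ U).ι ≫ pullback.fst (i ≫ f) g).residueFieldMap w) := by
      intro w hw
      rw [Scheme.residueFieldMap_comp, Scheme.residueFieldMap_comp]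
      have hA : IsIso ((pullback.fst (i ≫ f) g).residueFieldMap ((j ⁻¹ᵁ U).ι (e.inv w))) := by
        rw [hw]; infer_instance
      exact @IsIso.comp_isIso _ _ _ _ _ _ _ (@IsIso.comp_isIso _ _ _ _ _ _ _ hA inferInstance) inferInstance
    rw [key]
    refine h2 _ ?_
    rw [hei]
    rfl
  · rw [hecomp, Scheme.Hom.comp_apply, Scheme.Hom.comp_apply, Scheme.Hom.comp_apply, Scheme.Hom.comp_apply, hei] at hu'
    have hw : e.inv u' = v₁ := by
      refine (j ⁻¹ᵁ U).ι.isOpenEmbedding.injective (huniq _ ?_ ?_)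
      · rw [← show (V₀ : Set ↥(pullback (i ≫ f) g)) = ((V ()) : Set _) from rfl] at *
        show (j ⁻¹ᵁ U).ι (e.inv u') ∈ V₀
        rw [← hV]; exact (e.inv u').2
      · exact hu'.trans hvt
    rw [← hw]
    rw [← Scheme.Hom.comp_apply, e.inv_hom_id]; rfl

end Groth.Agent.S14078
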