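import Groth.Statements.S14079
import Groth.Agent.CondTLib.Points
-- import your own Groth.Agent.* helpers here

set_option autoImplicit false
open CategoryTheory AlgebraicGeometry
universe u
open FamCyc

namespace Groth.Agent.S14079

/-- (iv) ⇒ (iii): let f : X ⟶ S be locally of finite type. Suppose that every point x of X which is a
maximal point of its fibre (no other point of the fibre over f x specializes to x) lies on an
irreducible component W of X, given its reduced subscheme structure, with W ⟶ S equidimensional at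
x. Then every point of X lies on such an irreducible component. -/
theorem result {X S : Scheme.{u}} (f : X ⟶ S) [LocallyOfFiniteType f]
    (h : ∀ x : X, (∀ x' : X, f.base x' = f.base x → x ∈ closure ({x'} : Set X) → x' = x) →
      ∃ W : TopologicalSpace.Closeds X, (W : Set X) ∈ irreducibleComponents (X : Type u) ∧
      ∃ w : ↥((Scheme.IdealSheafData.vanishingIdeal W).subscheme),
        (Scheme.IdealSheafData.vanishingIdeal W).subschemeι.base w = x ∧
        EGA43.IsEquidimAt ((Scheme.IdealSheafData.vanishingIdeal W).subschemeι ≫ f) w)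
    (x : X) :
    ∃ W : TopologicalSpace.Closeds X, (W : Set X) ∈ irreducibleComponents (X : Type u) ∧
      ∃ w : ↥((Scheme.IdealSheafData.vanishingIdeal W).subscheme),
        (Scheme.IdealSheafData.vanishingIdeal W).subschemeι.base w = x ∧
        EGA43.IsEquidimAt ((Scheme.IdealSheafData.vanishingIdeal W).subschemeι ≫ f) w := by
  obtain ⟨ζ, hfζ, hζx, hmax, hdim⟩ := Groth.Agent.OpenDim.exists_maxInFibre_fibreDimAt f x
  obtain ⟨W, hW, w, hw, hE⟩ := h ζ (fun x' hx' hs => hmax x' hx' (specializes_iff_mem_closure.2 hs))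
  let I := Scheme.IdealSheafData.vanishingIdeal W
  obtain ⟨e, U, hwU, hgen, hfib, -⟩ := Groth.Agent.CondTLib.generic_of_equidim (I.subschemeι ≫ f) hE
  obtain ⟨v, hvw, hv⟩ := Groth.Agent.DimFormulaLib.exists_maximal_point w
  obtain ⟨hfξ, hvt⟩ := hgen v (hvw.mem_open U.isOpen hwU) hv
  have hwmax : Groth.Agent.OpenDim.MaxInFibre (I.subschemeι ≫ f) w := fun z hz hzw => by
    refine I.subschemeι.isEmbedding.injective ((hmax _ ?_ (hw ▸ hzw.map I.subschemeι.continuous)).trans hw.symm)
    rw [← hw]; exact hz
  have hwt := hfib w hwU hwmax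
  have htr : ∀ z, Groth.Agent.OpenDim.trd (I.subschemeι ≫ f) z = Groth.Agent.OpenDim.trd f (I.subschemeι z) := by
    intro z
    have h := (Groth.Agent.FlatDim.resTrdegAt_comp I.subschemeι f z).trans
      (by rw [Groth.Agent.FlatDim.resTrdegAt_preimmersion I.subschemeι z, add_zero])
    rw [Groth.Agent.OpenDim.resTrdegAt_eq_trd, Groth.Agent.OpenDim.resTrdegAt_eq_trd] at h
    exact_mod_cast h
  have hξ : Groth.Agent.OpenDim.IsMaxPt (I.subschemeι v) := fun y hy => by
    have hrange : Set.range I.subschemeι = (W : Set X) := by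
      rw [Scheme.IdealSheafData.range_subschemeι]; rfl
    obtain ⟨η, hη, hηmax⟩ := Groth.Agent.DimFormulaLib.exists_generic_of_mem_irreducibleComponents hW
    obtain ⟨v₀, hv₀⟩ : η ∈ Set.range I.subschemeι := by rw [hrange, ← hη]; exact subset_closure rfl
    have hv₀v : v₀ ⤳ v := by
      rw [← I.subschemeι.isEmbedding.isInducing.specializes_iff, hv₀, specializes_iff_mem_closure, hη, ← hrange]
      exact ⟨v, rfl⟩
    obtain rfl := hv v₀ hv₀v
    rw [hv₀] at hy ⊢
    exact hηmax y hy
  refine Groth.Agent.CondTLib.exists_component_equidim f hξ ((hw ▸ hvw.map I.subschemeι.continuous).trans hζx) hfξ ?_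
  rw [hdim, ← htr, hvt, ← hwt, htr, hw]

end Groth.Agent.S14079
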