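import Groth.Statements.S14084
import Groth.Agent.InvolNodeLib.Main
-- import your own Groth.Agent.* helpers here

set_option autoImplicit false
universe u
open ArSing

namespace Groth.Agent.S14084

/-- Let k be an algebraically closed field with 2 invertible, R → S a flat local homomorphism of
complete Noetherian local k-algebras whose closed fibre S/m_R S is isomorphic over k to the node
algebra k[[x,y]]/(y^2 - x^2), and σ an R-algebra involution of S whose reduction to the closed fibre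
does not exchange the two branches (it maps each minimal prime ideal over m_R S to itself). Then
there are t in R, signs ξ₁, ξ₂ in k and an R-algebra isomorphism of S with R[[x,y]]/(xy - t)
transporting σ to x ↦ ξ₂ x, y ↦ ξ₁ y; moreover t = 0 when ξ₁ = -ξ₂. -/
theorem result (k R S : Type u) [Field k] [IsAlgClosed k]
    (h2 : (2 : k) ≠ 0)
    [CommRing R] [IsLocalRing R] [IsNoetherianRing R] [IsAdicComplete (IsLocalRing.maximalIdeal R) R]
    [CommRing S] [IsLocalRing S] [IsNoetherianRing S] [IsAdicComplete (IsLocalRing.maximalIdeal S) S]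
    [Algebra k R] [Algebra R S] [Algebra k S] [IsScalarTower k R S]
    [IsLocalHom (algebraMap R S)] [Module.Flat R S]
    (e : (S ⧸ Ideal.map (algebraMap R S) (IsLocalRing.maximalIdeal R)) ≃ₐ[k]
      (MvPowerSeries (Fin 2) k ⧸
        Ideal.span {(MvPowerSeries.X 1 ^ 2 - MvPowerSeries.X 0 ^ 2 : MvPowerSeries (Fin 2) k)}))
    (σ : S ≃ₐ[R] S) (hσ : ∀ s, σ (σ s) = s)
    (hbr : ∀ P ∈ (Ideal.map (algebraMap R S) (IsLocalRing.maximalIdeal R)).minimalPrimes,
      Ideal.map (σ : S →+* S) P = P) :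
    ∃ (t : R) (ξ₁ ξ₂ : k), ξ₁ ^ 2 = 1 ∧ ξ₂ ^ 2 = 1 ∧ (ξ₁ = -ξ₂ → t = 0) ∧
      ∃ f : S ≃ₐ[R] (MvPowerSeries (Fin 2) R ⧸
          Ideal.span {(MvPowerSeries.X 0 * MvPowerSeries.X 1 - MvPowerSeries.C t : MvPowerSeries (Fin 2) R)}),
        f (σ (f.symm (Ideal.Quotient.mk _ (MvPowerSeries.X 0)))) =
          algebraMap k R ξ₂ • Ideal.Quotient.mk _ (MvPowerSeries.X 0) ∧
        f (σ (f.symm (Ideal.Quotient.mk _ (MvPowerSeries.X 1)))) =
          algebraMap k R ξ₁ • Ideal.Quotient.mk _ (MvPowerSeries.X 1) := by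
  classical
  set I := Ideal.map (algebraMap R S) (IsLocalRing.maximalIdeal R) with hI
  let e' : (S ⧸ I) ≃ₐ[k] ArSing.ring k 1 := e
  let D : Groth.Agent.InvolNodeLib.NodeFibre k R S :=
    { q := e'.toAlgHom.comp (Ideal.Quotient.mkₐ k I)
      surj := e'.surjective.comp Ideal.Quotient.mk_surjective
      ker := fun s => by
        show e' (Ideal.Quotient.mk I s) = 0 ↔ _
        rw [map_eq_zero_iff _ e'.injective, Ideal.Quotient.eq_zero_iff_mem] }
  let σ' : S →+* S := (σ : S →+* S)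
  have hσσ : ∀ s, σ' (σ' s) = s := hσ
  have hσR : ∀ r, σ' (algebraMap R S r) = algebraMap R S r := σ.commutes
  have hσk : ∀ c, σ' (algebraMap k S c) = algebraMap k S c := fun c => by
    rw [IsScalarTower.algebraMap_apply k R S, hσR]
  have hσI : ∀ s ∈ I, σ' s ∈ I := fun s hs => by
    have h := Ideal.mem_map_of_mem σ' hs
    rwa [hI, Ideal.map_map, show σ'.comp (algebraMap R S) = algebraMap R S from RingHom.ext hσR] at h
  have h2' := InvolNodeLib.two_ne_zero_ps (k := k) h2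
  have hne := mul_ne_zero h2' (PowerSeries.X_ne_zero (R := k))
  have hnu : InvolNodeLib.nu k ≠ 0 := fun h => neg_ne_zero.2 hne (InvolNodeLib.brQ_nu.symm.trans (by rw [h, map_zero]))
  have hnv : InvolNodeLib.nv k ≠ 0 := fun h => hne (InvolNodeLib.brP_nv.symm.trans (by rw [h, map_zero]))
  obtain ⟨u0, hu0⟩ := D.surj (InvolNodeLib.nu k)
  obtain ⟨v0, hv0⟩ := D.surj (InvolNodeLib.nv k)
  have huv0 : u0 * v0 ∈ I := (D.ker _).1 (by rw [map_mul, hu0, hv0, InvolNodeLib.nu_mul_nv])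
  have hpres : ∀ (br : ArSing.ring k 1 →ₐ[k] PowerSeries k) (a b : S), br (D.q b) ≠ 0 → a * b ∈ I →
      (∀ z, br z = 0 → ∃ w, z = w * D.q a) → ∀ s, br (D.q s) = 0 → br (D.q (σ' s)) = 0 := by
    intro br a b hb hab hker s hs
    let P : Ideal S := RingHom.ker (br.comp D.q).toRingHom
    have hP : P ∈ I.minimalPrimes := by
      refine ⟨⟨RingHom.ker_isPrime _, fun z hz => ?_⟩, fun Q ⟨hQ, hIQ⟩ hQP => fun z hz => ?_⟩
      · show br (D.q z) = 0
        rw [(D.ker z).2 hz, map_zero]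
      · have haQ : a ∈ Q := (hQ.mem_or_mem (hIQ hab)).resolve_right fun h => hb (hQP h)
        obtain ⟨w, hw⟩ := hker (D.q z) hz
        obtain ⟨w, rfl⟩ := D.surj w
        rw [← sub_add_cancel z (w * a)]
        exact add_mem (hIQ ((D.ker _).1 (by rw [map_sub, map_mul, hw, sub_self]))) (Q.mul_mem_left _ haQ)
    have := Ideal.mem_map_of_mem σ' (show s ∈ P from hs)
    rw [hbr P hP] at this
    exact this
  obtain ⟨U₀, ξ, hξ, hU₀, w, hw, hqU⟩ := D.exists_eigen h2 σ' hσσ hσk hσI ArSingLib.brP (InvolNodeLib.nu k) hnu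
    InvolNodeLib.brP_nu (InvolNodeLib.mem_nu_of_brP h2) (hpres _ u0 v0 (by rw [hv0, InvolNodeLib.brP_nv]; exact hne) huv0
      (fun z hz => by rw [hu0]; exact InvolNodeLib.mem_nu_of_brP h2 z hz))
  obtain ⟨V₀, ξ', hξ', hV₀, w', hw', hqV⟩ := D.exists_eigen h2 σ' hσσ hσk hσI ArSingLib.brQ (InvolNodeLib.nv k) hnv
    InvolNodeLib.brQ_nv (InvolNodeLib.mem_nv_of_brQ h2) (hpres _ v0 u0 (by
      rw [hu0, InvolNodeLib.brQ_nu]; exact neg_ne_zero.2 hne) (by rwa [mul_comm])
      (fun z hz => by rw [hv0]; exact InvolNodeLib.mem_nv_of_brQ h2 z hz))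
  have hgen : ∀ U V : S, D.q U = D.q w * InvolNodeLib.nu k → D.q V = D.q w' * InvolNodeLib.nv k →
      IsLocalRing.maximalIdeal S ≤ Ideal.span {U, V} ⊔ I := by
    intro U V hU hV
    obtain ⟨a, ha⟩ := hw.exists_left_inv
    obtain ⟨a', ha'⟩ := hw'.exists_left_inv
    refine (D.maximal_le h2 (u := a * U) (v := a' * V)
      (by rw [map_mul, hU, ← mul_assoc, ← map_mul, ha, map_one, one_mul])
      (by rw [map_mul, hV, ← mul_assoc, ← map_mul, ha', map_one, one_mul])).trans (sup_le_sup_right ?_ _)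
    rw [Ideal.span_le]
    rintro z (rfl | rfl)
    · exact Ideal.mul_mem_left _ _ (Ideal.subset_span (by simp))
    · exact Ideal.mul_mem_left _ _ (Ideal.subset_span (by simp))
  obtain ⟨U, V, t, ht, hεt, hU, hV, hUU, hVV, hUV⟩ := InvolNodeLib.exists_exact h2 D σ' hσσ hσR ξ ξ' hξ hξ' U₀ V₀ hU₀ hV₀
    (hgen U₀ V₀ hqU hqV) ((D.ker _).1 (by
      rw [map_mul, hqU, hqV, show D.q w * InvolNodeLib.nu k * (D.q w' * InvolNodeLib.nv k) =
        D.q w * D.q w' * (InvolNodeLib.nu k * InvolNodeLib.nv k) by ring, InvolNodeLib.nu_mul_nv, mul_zero]))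
  have hqU' : D.q U = D.q w * InvolNodeLib.nu k := by
    rw [← hqU, ← sub_eq_zero, ← map_sub]; exact (D.ker _).2 hUU
  have hqV' : D.q V = D.q w' * InvolNodeLib.nv k := by
    rw [← hqV, ← sub_eq_zero, ← map_sub]; exact (D.ker _).2 hVV
  obtain ⟨f, hfU, hfV⟩ := InvolNodeLib.exists_algEquiv h2 D U V t ht hUV (hgen U V hqU' hqV')
    ⟨_, hw.map D.q, hqU'⟩ ⟨_, hw'.map D.q, hqV'⟩
  refine ⟨t, ξ', ξ, hξ', hξ, fun h => ?_, f, ?_, ?_⟩
  · rw [h, show ξ * -ξ = -(ξ ^ 2) by ring, hξ, map_neg, map_one] at hεt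
    have h22 : IsUnit (2 : R) := by
      have := (isUnit_iff_ne_zero.2 h2).map (algebraMap k R)
      rwa [map_ofNat] at this
    exact h22.mul_right_eq_zero.1 (by linear_combination -hεt)
  · rw [← hfU, f.symm_apply_apply]
    show f (σ' U) = _
    rw [hU, IsScalarTower.algebraMap_apply k R S, map_mul, f.commutes]
    exact (Algebra.smul_def _ _).symm
  · rw [← hfV, f.symm_apply_apply]
    show f (σ' V) = _
    rw [hV, IsScalarTower.algebraMap_apply k R S, map_mul, f.commutes]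
    exact (Algebra.smul_def _ _).symm

end Groth.Agent.S14084
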