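import Groth.Statements.S14085
import Groth.Agent.CAlgBasics.FlatAux

set_option autoImplicit false
universe u
open FlatMor

namespace Groth.Agent.S14085

/-- Let R be a ring, A and B flat R-algebras, I an ideal of A and B → A/I an injective finite flat map
of R-algebras. Then the fibre product ring B ×_{A/I} A, realised as the subalgebra of B × A of pairs
with equal image in A/I, is flat over R. (This is the affine statement behind flatness over the base
of the pushout of a closed immersion along a finite flat morphism.) -/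
theorem result (R A B : Type u) [CommRing R] [CommRing A] [CommRing B]
    [Algebra R A] [Algebra R B] [Module.Flat R A] [Module.Flat R B] (I : Ideal A)
    [Algebra B (A ⧸ I)] [IsScalarTower R B (A ⧸ I)] [Module.Finite B (A ⧸ I)] [Module.Flat B (A ⧸ I)]
    (hinj : Function.Injective (algebraMap B (A ⧸ I))) :
    Module.Flat R ↥(AlgHom.equalizer ((IsScalarTower.toAlgHom R B (A ⧸ I)).comp (AlgHom.fst R B A))
          ((Ideal.Quotient.mkₐ R I).comp (AlgHom.snd R B A))) := by
  haveI : Module.Flat R (A ⧸ I) := Module.Flat.trans R B (A ⧸ I)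
  haveI : Module.Flat R (B × A) := Groth.Agent.CAlgBasics.flat_of_exact (f := LinearMap.inl R B A)
    (g := LinearMap.snd R B A) LinearMap.inl_injective Function.Exact.inl_snd Prod.snd_surjective
  set P := AlgHom.equalizer ((IsScalarTower.toAlgHom R B (A ⧸ I)).comp (AlgHom.fst R B A))
          ((Ideal.Quotient.mkₐ R I).comp (AlgHom.snd R B A))
  let g : B × A →ₗ[R] A ⧸ I := ((Ideal.Quotient.mkₐ R I).comp (AlgHom.snd R B A)).toLinearMap -
    ((IsScalarTower.toAlgHom R B (A ⧸ I)).comp (AlgHom.fst R B A)).toLinearMap
  refine Groth.Agent.CAlgBasics.flat_ker_of_exact (f := P.val.toLinearMap) (g := g)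
    Subtype.val_injective (fun x => ?_) (fun y => ?_)
  · constructor
    · intro hx
      exact ⟨⟨x, (sub_eq_zero.1 (show ((Ideal.Quotient.mkₐ R I).comp (AlgHom.snd R B A)) x -
        ((IsScalarTower.toAlgHom R B (A ⧸ I)).comp (AlgHom.fst R B A)) x = 0 from hx)).symm⟩, rfl⟩
    · rintro ⟨⟨z, hz⟩, rfl⟩
      exact sub_eq_zero.2 hz.symm
  · obtain ⟨a, rfl⟩ := Ideal.Quotient.mk_surjective y
    exact ⟨(0, a), by simp [g]⟩

end Groth.Agent.S14085
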