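import Groth.Statements.S14086
import Mathlib.RingTheory.Flat.Equalizer
import Mathlib.RingTheory.Flat.Stability
import Mathlib.RingTheory.Flat.FaithfullyFlat.Algebra
import Mathlib.RingTheory.Ideal.GoingUp
import Mathlib.LinearAlgebra.TensorProduct.Prod

set_option autoImplicit false
universe u
open FlatMor

namespace Groth.Agent.S14086

open TensorProduct in
/-- A faithfully flat algebra map stays injective after tensoring. -/
theorem rTensor_injective_of_faithfullyFlat (R B C N : Type u) [CommRing R] [CommRing B] [CommRing C] [Algebra R B]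
    [Algebra R C] [Algebra B C] [IsScalarTower R B C] [Module.FaithfullyFlat B C] [AddCommGroup N] [Module R N] :
    Function.Injective ((IsScalarTower.toAlgHom R B C).toLinearMap.rTensor N) := by
  have h := Module.FaithfullyFlat.tensorProduct_mk_injective (A := B) (B := C) (B ⊗[R] N)
  let e := AlgebraTensorModule.cancelBaseChange R B B C N
  have he : ∀ z : B ⊗[R] N, (IsScalarTower.toAlgHom R B C).toLinearMap.rTensor N z = e ((1 : C) ⊗ₜ[B] z) := by
    intro z
    induction z using TensorProduct.induction_on with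
    | zero => simp
    | add a b ha hb => simp only [map_add, tmul_add, ha, hb]
    | tmul b n => simp [e, Algebra.algebraMap_eq_smul_one]
  intro x y hxy
  rw [he, he] at hxy
  exact h (e.injective hxy)

/-- Let R be a ring, A and B flat R-algebras, I an ideal of A, B → A/I an injective finite flat map of
R-algebras and P = B ×_{A/I} A the fibre product ring (pairs in B × A with equal image in A/I). For
any R-algebra R' the base change R' ⊗_R P maps injectively to R' ⊗_R A, and any b' in R' ⊗_R B and
a' in R' ⊗_R A with the same image in R' ⊗_R (A/I) are the two components of some element of R' ⊗_R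
P; that is, R' ⊗_R P is the fibre product of R' ⊗_R B and R' ⊗_R A over R' ⊗_R (A/I). -/
theorem result (R A B R' : Type u) [CommRing R] [CommRing A]
    [CommRing B] [CommRing R'] [Algebra R A] [Algebra R B] [Algebra R R'] [Module.Flat R A] [Module.Flat R B]
    (I : Ideal A) [Algebra B (A ⧸ I)] [IsScalarTower R B (A ⧸ I)] [Module.Finite B (A ⧸ I)] [Module.Flat B (A ⧸ I)]
    (hinj : Function.Injective (algebraMap B (A ⧸ I))) :
    Function.Injective (Algebra.TensorProduct.map (AlgHom.id R' R')
        ((AlgHom.snd R B A).comp (AlgHom.equalizer ((IsScalarTower.toAlgHom R B (A ⧸ I)).comp (AlgHom.fst R B A))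
          ((Ideal.Quotient.mkₐ R I).comp (AlgHom.snd R B A))).val)) ∧
    ∀ (b : TensorProduct R R' B) (a : TensorProduct R R' A),
      Algebra.TensorProduct.map (AlgHom.id R' R') (IsScalarTower.toAlgHom R B (A ⧸ I)) b =
        Algebra.TensorProduct.map (AlgHom.id R' R') (Ideal.Quotient.mkₐ R I) a →
      ∃ x : TensorProduct R R' ↥(AlgHom.equalizer ((IsScalarTower.toAlgHom R B (A ⧸ I)).comp (AlgHom.fst R B A))
          ((Ideal.Quotient.mkₐ R I).comp (AlgHom.snd R B A))),
        Algebra.TensorProduct.map (AlgHom.id R' R') ((AlgHom.fst R B A).comp (AlgHom.equalizer ((IsScalarTower.toAlgHom R B (A ⧸ I)).comp (AlgHom.fst R B A))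
          ((Ideal.Quotient.mkₐ R I).comp (AlgHom.snd R B A))).val) x = b ∧
        Algebra.TensorProduct.map (AlgHom.id R' R') ((AlgHom.snd R B A).comp (AlgHom.equalizer ((IsScalarTower.toAlgHom R B (A ⧸ I)).comp (AlgHom.fst R B A))
          ((Ideal.Quotient.mkₐ R I).comp (AlgHom.snd R B A))).val) x = a := by
  classical
  let fB := (IsScalarTower.toAlgHom R B (A ⧸ I)).comp (AlgHom.fst R B A)
  let fA := (Ideal.Quotient.mkₐ R I).comp (AlgHom.snd R B A)
  let P := AlgHom.equalizer fB fA
  let ι : P →ₗ[R] B × A := P.val.toLinearMap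
  let d : B × A →ₗ[R] A ⧸ I := fB.toLinearMap - fA.toLinearMap
  have hex : Function.Exact ι d := fun z => by
    constructor
    · intro hz
      exact ⟨⟨z, sub_eq_zero.mp (show fB z - fA z = 0 from hz)⟩, rfl⟩
    · rintro ⟨w, rfl⟩
      exact sub_eq_zero.mpr w.2
  have hd : Function.Surjective d := fun c => by
    obtain ⟨a, rfl⟩ := Ideal.Quotient.mk_surjective c
    exact ⟨(0, -a), by simp [d, fB, fA]⟩
  haveI : Module.FaithfullyFlat B (A ⧸ I) := Module.FaithfullyFlat.of_comap_surjective fun p => by
    obtain ⟨q, -, hq, hqp⟩ := Ideal.exists_ideal_over_prime_of_isIntegral (S := A ⧸ I) p.asIdeal ⊥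
      (by rw [← RingHom.ker_eq_comap_bot, (RingHom.injective_iff_ker_eq_bot _).mp hinj]; exact bot_le)
    exact ⟨⟨q, hq⟩, PrimeSpectrum.ext hqp⟩
  haveI : Module.Flat R (A ⧸ I) := Module.Flat.trans R B (A ⧸ I)
  have hBinj : Function.Injective ((IsScalarTower.toAlgHom R B (A ⧸ I)).toLinearMap.lTensor R') :=
    (LinearMap.lTensor_inj_iff_rTensor_inj _ _).mpr (rTensor_injective_of_faithfullyFlat R B (A ⧸ I) R')
  have hι : Function.Injective (ι.lTensor R') :=
    LinearMap.lTensor_injective_of_exact_of_flat d hd ι Subtype.val_injective hex R'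
  have hmap : ∀ {U V : Type u} [CommRing U] [CommRing V] [Algebra R U] [Algebra R V] (g : U →ₐ[R] V)
      (z : TensorProduct R R' U), Algebra.TensorProduct.map (AlgHom.id R' R') g z = g.toLinearMap.lTensor R' z := by
    intro U V _ _ _ _ g z
    induction z using TensorProduct.induction_on with
    | zero => simp
    | add a b ha hb => simp only [map_add, ha, hb]
    | tmul r u => simp
  let pB : B × A →ₗ[R] B := LinearMap.fst R B A
  let pA : B × A →ₗ[R] A := LinearMap.snd R B A
  let e := TensorProduct.prodRight R R R' B A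
  have he : ∀ z, e z = (pB.lTensor R' z, pA.lTensor R' z) := fun z => by
    induction z using TensorProduct.induction_on with
    | zero => simp only [map_zero]; rfl
    | add a b ha hb => simp only [map_add, ha, hb, Prod.mk_add_mk]
    | tmul r u => simp [e, pB, pA]
  have hdz : ∀ z, d.lTensor R' z = (IsScalarTower.toAlgHom R B (A ⧸ I)).toLinearMap.lTensor R' (pB.lTensor R' z) -
      (Ideal.Quotient.mkₐ R I).toLinearMap.lTensor R' (pA.lTensor R' z) := fun z => by
    rw [← LinearMap.lTensor_comp_apply, ← LinearMap.lTensor_comp_apply, ← LinearMap.sub_apply, ← LinearMap.lTensor_sub]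
    rfl
  have hA : ∀ x, Algebra.TensorProduct.map (AlgHom.id R' R') ((AlgHom.snd R B A).comp P.val) x =
      pA.lTensor R' (ι.lTensor R' x) := fun x => by
    rw [hmap, ← LinearMap.lTensor_comp_apply]; rfl
  have hB : ∀ x, Algebra.TensorProduct.map (AlgHom.id R' R') ((AlgHom.fst R B A).comp P.val) x =
      pB.lTensor R' (ι.lTensor R' x) := fun x => by
    rw [hmap, ← LinearMap.lTensor_comp_apply]; rfl
  refine ⟨(injective_iff_map_eq_zero _).mpr fun x hx => ?_, fun b a hab => ?_⟩
  · have h1 : pA.lTensor R' (ι.lTensor R' x) = 0 := (hA x).symm.trans hx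
    have h2 : pB.lTensor R' (ι.lTensor R' x) = 0 := by
      refine hBinj ?_
      rw [map_zero]
      have h := hdz (ι.lTensor R' x)
      rw [← LinearMap.lTensor_comp_apply, hex.linearMap_comp_eq_zero, h1, map_zero, sub_zero] at h
      simpa using h.symm
    refine hι (e.injective ?_)
    rw [he, h1, h2, map_zero, map_zero]
    rfl
  · let z := e.symm (b, a)
    have hz : (pB.lTensor R' z, pA.lTensor R' z) = (b, a) := by rw [← he]; exact e.apply_symm_apply _
    obtain ⟨x, hx⟩ := (lTensor_exact R' hex hd z).mp (by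
      rw [hdz, (Prod.mk.inj hz).1, (Prod.mk.inj hz).2, sub_eq_zero, ← hmap, ← hmap]
      exact hab)
    exact ⟨x, by rw [hB, hx]; exact (Prod.mk.inj hz).1, by rw [hA, hx]; exact (Prod.mk.inj hz).2⟩

end Groth.Agent.S14086
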