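import Groth.Statements.S14089
import Groth.Agent.BlowFlatPowLib.Main

set_option autoImplicit false
universe u
open CategoryTheory AlgebraicGeometry
open BlowUp

namespace Groth.Agent.S14089

/-- Let f : X → S be flat, proper and of finite presentation, 𝓘 a quasi-coherent ideal of finite type on
X with V(𝓘^m) flat over S for all m ≥ 1, and b : X' → X a blowing up of X in 𝓘. Then X' is flat and
proper over S, and blowing up commutes with every base change T → S: if X_T = X ×_S T and X'_T = X'
×_X X_T, the projection X'_T → X_T is a blowing up of X_T in the inverse image of 𝓘. (The published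
statement puts no finiteness condition on the ideal; for S = X the spectrum of an infinite product
of fields and 𝓘 the ideal of finitely supported sequences every V(𝓘^m) is flat, yet the blow-up is a
non-quasi-compact open subscheme, not proper — so the ideal is taken of finite type here, and finite
presentation of X' over S is not asserted.) -/
theorem result {X X' S T XT XT' : Scheme.{u}}
    (f : X ⟶ S) [Flat f] [IsProper f] [LocallyOfFinitePresentation f]
    (𝓘 : X.IdealSheafData) (hft : BlowUp.IsFiniteTypeIdeal 𝓘)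
    (hfl : ∀ m : ℕ, 1 ≤ m → Flat ((𝓘 ^ m).subschemeι ≫ f))
    (b : X' ⟶ X) (hb : BlowUp.IsBlowUp b 𝓘)
    (g : T ⟶ S) (pX : XT ⟶ X) (fT : XT ⟶ T) (hX : IsPullback pX fT f g)
    (pX' : XT' ⟶ X') (bT : XT' ⟶ XT) (hX' : IsPullback pX' bT b pX) :
    Flat (b ≫ f) ∧ IsProper (b ≫ f) ∧ BlowUp.IsBlowUp bT (𝓘.comap pX) := by
  have hflat : ∀ n : ℕ, Flat ((𝓘 ^ (n + 1)).subschemeι ≫ f) := fun n => hfl (n + 1) (Nat.le_add_left 1 n)
  haveI : Flat ((𝓘.comap b).subschemeι ≫ b ≫ f) :=
    Groth.Agent.BlowFlatPowLib.flat_exceptional_divisor hflat hb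
  haveI : IsProper b := Groth.Agent.BlowExistsLib.isProper_of_FG hb hft
  refine ⟨Groth.Agent.BlowFlatPowLib.flat_comp hflat hb, inferInstance, ?_, fun Y h hh => ?_⟩
  · have hsq : IsPullback pX' (bT ≫ fT) (b ≫ f) g := hX'.paste_vert hX
    have h1 : pX' = hsq.isoPullback.hom ≫ Limits.pullback.fst (b ≫ f) g := hsq.isoPullback_hom_fst.symm
    rw [← Scheme.IdealSheafData.comap_comp, ← hX'.w, Scheme.IdealSheafData.comap_comp, h1,
      Scheme.IdealSheafData.comap_comp]
    exact Groth.Agent.BlowCompLib.isEffCartier_comap_openImmersion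
      (Groth.Agent.RelDivLib.isEffCartier_baseChange (b ≫ f) (𝓘.comap b) hb.1 g) _
  · rw [← Scheme.IdealSheafData.comap_comp] at hh
    obtain ⟨t, ht, huniq⟩ := hb.2 Y (h ≫ pX) hh
    refine ⟨hX'.lift t h ht, hX'.lift_snd _ _ _, fun t' ht' => hX'.hom_ext ?_ ?_⟩
    · rw [hX'.lift_fst]
      refine huniq _ ?_
      show (t' ≫ pX') ≫ b = h ≫ pX
      rw [Category.assoc, hX'.w, reassoc_of% ht']
    · rw [hX'.lift_snd, ht']

end Groth.Agent.S14089
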