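import Groth.Statements.S1409
import Mathlib

set_option autoImplicit false
set_option linter.style.haveILetI false
universe u
open FlatMor

namespace Groth.Agent.S1409

/-- Let (R_i) be a directed system of commutative rings whose transition maps are faithfully flat, with
colimit R. Then, counting in the extended natural numbers, the minimal primes of R are exactly as
numerous as the supremum over i of the count of minimal primes of R_i. -/
theorem result {ι : Type u} [Preorder ι] [IsDirected ι (· ≤ ·)] [Nonempty ι] (G : ι → Type u) [∀ i, CommRing (G i)]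
    (f : ∀ i j, i ≤ j → G i →+* G j) [DirectedSystem G fun i j h => f i j h]
    (hf : ∀ i j (h : i ≤ j), letI := (f i j h).toAlgebra
      Module.FaithfullyFlat (G i) (G j)) :
    (minimalPrimes (Ring.DirectLimit G fun i j h => ⇑(f i j h))).encard = ⨆ i, (minimalPrimes (G i)).encard := by
  classical
  let L := Ring.DirectLimit G fun i j h => ⇑(f i j h)
  let φ : ∀ i, G i →+* L := fun i => Ring.DirectLimit.of G (fun i j h => ⇑(f i j h)) i
  have hinjf : ∀ i j h, Function.Injective (f i j h) := by
    intro i j h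
    letI := (f i j h).toAlgebra
    haveI : Module.FaithfullyFlat (G i) (G j) := hf i j h
    have := FaithfulSMul.algebraMap_injective (G i) (G j)
    rwa [RingHom.algebraMap_toAlgebra] at this
  have hinj : ∀ i, Function.Injective (φ i) := Ring.DirectLimit.of_injective f hinjf
  have hcomp : ∀ i j (h : i ≤ j) x, φ j (f i j h x) = φ i x := fun i j h x => Ring.DirectLimit.of_f h x
  have hmin : ∀ P ∈ minimalPrimes L, ∀ j, P.comap (φ j) ∈ minimalPrimes (G j) := by
    intro P hP j
    haveI := hP.isPrime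
    refine ⟨⟨inferInstance, bot_le⟩, fun q hq hqp => ?_⟩
    by_contra hne
    obtain ⟨x, hxp, hxq⟩ := SetLike.not_le_iff_exists.mp hne
    haveI := hq.1
    have hxP : φ j x ∈ P := hxp
    let M : Submonoid L := Submonoid.powers (φ j x) ⊔ P.primeCompl
    have h0 : (0 : L) ∈ M := by
      by_contra h0
      obtain ⟨Q, hQp, _, hQd⟩ := Ideal.exists_le_prime_disjoint (⊥ : Ideal L) M
        (Set.disjoint_left.mpr fun a ha hM => h0 (by rw [SetLike.mem_coe, Ideal.mem_bot] at ha; exact ha ▸ hM))
      have hQP : Q ≤ P := fun a ha => by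
        by_contra hn
        exact Set.disjoint_left.mp hQd ha ((le_sup_right : P.primeCompl ≤ M) hn)
      exact Set.disjoint_left.mp hQd ((hP.2 ⟨hQp, bot_le⟩ hQP) hxP)
        ((le_sup_left : Submonoid.powers (φ j x) ≤ M) (Submonoid.mem_powers _))
    obtain ⟨_, ⟨n, rfl⟩, s, hs, hns⟩ := Submonoid.mem_sup.mp h0
    obtain ⟨i, s', rfl⟩ := Ring.DirectLimit.exists_of s
    obtain ⟨k, hjk, hik⟩ := exists_ge_ge j i
    letI := (f j k hjk).toAlgebra
    haveI : Module.FaithfullyFlat (G j) (G k) := hf j k hjk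
    have hlies : (P.comap (φ k)).LiesOver (P.comap (φ j)) := ⟨by
      ext y; simp [Ideal.under, RingHom.algebraMap_toAlgebra, hcomp]⟩
    obtain ⟨Q, hQle, hQ, hQo⟩ := Ideal.exists_ideal_le_liesOver_of_le (P.comap (φ k))
      (p := q) (q := P.comap (φ j)) hqp
    have hz : f j k hjk x ^ n * f i k hik s' = 0 := hinj k (by
      rw [map_mul, map_pow, map_zero, hcomp, hcomp]; exact hns)
    have hxQ : f j k hjk x ∉ Q := fun h => hxq (by
      rw [hQo.over, Ideal.under, Ideal.mem_comap, RingHom.algebraMap_toAlgebra]; exact h)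
    rcases hQ.mem_or_mem (hz ▸ Q.zero_mem : f j k hjk x ^ n * f i k hik s' ∈ Q) with h | h
    · exact hxQ (hQ.mem_of_pow_mem n h)
    · exact hs (by simpa [hcomp] using hQle h : φ i s' ∈ P)
  refine le_antisymm ?_ (iSup_le fun i => ?_)
  · refine ENat.forall_natCast_le_iff_le.mp fun N hN => ?_
    obtain ⟨S, hS, hcard⟩ := Set.exists_subset_encard_eq hN
    have hfin : S.Finite := Set.finite_of_encard_eq_coe hcard
    have hsep : ∀ ab : L, ∃ i, ab ∈ Set.range (φ i) := fun a => by
      obtain ⟨i, x, hx⟩ := Ring.DirectLimit.exists_of a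
      exact ⟨i, x, hx⟩
    have hd : ∀ PQ : S × S, ∃ i, ∀ j, i ≤ j → PQ.1.1.comap (φ j) = PQ.2.1.comap (φ j) → PQ.1 = PQ.2 := by
      rintro ⟨⟨P, hP⟩, ⟨Q, hQ⟩⟩
      by_cases hPQ : P ≤ Q
      · exact ⟨Classical.arbitrary ι, fun j _ _ => Subtype.ext
          (le_antisymm hPQ ((hS hQ).2 ⟨(hS hP).isPrime, bot_le⟩ hPQ))⟩
      · obtain ⟨a, haP, haQ⟩ := SetLike.not_le_iff_exists.mp hPQ
        obtain ⟨i, x, rfl⟩ := hsep a
        refine ⟨i, fun j hij he => absurd ?_ haQ⟩
        have : f i j hij x ∈ P.comap (φ j) := by simpa [hcomp] using haP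
        rw [show P.comap (φ j) = Q.comap (φ j) from he] at this
        simpa [hcomp] using this
    choose st hst using hd
    haveI := hfin.to_subtype
    obtain ⟨i, hi⟩ := Finite.exists_le st
    refine le_trans ?_ (le_iSup _ i)
    rw [← hcard]
    refine Set.encard_le_encard_of_injOn (f := Ideal.comap (φ i)) (fun P hP => hmin P (hS hP) i) ?_
    intro P hP Q hQ he
    exact congrArg Subtype.val (hst (⟨P, hP⟩, ⟨Q, hQ⟩) i (hi _) he)
  · have : minimalPrimes (G i) ⊆ Ideal.comap (φ i) '' minimalPrimes L := by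
      have := Ideal.minimalPrimes_comap_subset (φ i) (⊥ : Ideal L)
      rwa [Ideal.comap_bot_of_injective _ (hinj i)] at this
    exact (Set.encard_le_encard this).trans (Set.encard_image_le _ _)

end Groth.Agent.S1409
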