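import Groth.Statements.S1410
import Groth.Agent.FibreVanishQC.GlobGen

set_option autoImplicit false
set_option backward.isDefEq.respectTransparency false
universe u
open FlatMor

namespace Groth.Agent.S1410

open AlgebraicGeometry CategoryTheory Limits in
/-- Let f : X → Y be proper with every fibre of dimension at most 1 and with H^1(X_y, O) = 0 for all y,
and assume O_Y → f_* O_X is surjective (checked on affine opens). Then for every base change f' : X'
→ Y' of f, O_{Y'} → f'_* O_{X'} is surjective on every affine open of Y'. -/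
theorem result {X Y : Scheme.{u}} (f : X ⟶ Y) [IsProper f]
    (hdim : ∀ y : Y, topologicalKrullDim ↑(f.fiber y) ≤ 1) (hH1 : ∀ y : Y, Subsingleton (Coh.HH (f.fiber y) (Coh.structureModule (f.fiber y)) 1))
    (hsurj : ∀ U : Y.Opens, IsAffineOpen U → Function.Surjective (f.app U))
    {X' Y' : Scheme.{u}} (f' : X' ⟶ Y') (g' : X' ⟶ X) (g : Y' ⟶ Y) (hc : IsPullback g' f' f g) :
    ∀ U' : Y'.Opens, IsAffineOpen U' → Function.Surjective (f'.app U') := by
  haveI : IsProper f' := MorphismProperty.of_isPullback hc ‹_›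
  haveI : Coh.IsQCoh (Coh.structureModule X') := inferInstance
  haveI : Coh.IsQCoh (Coh.structureModule Y') := inferInstance
  have hN : Coh.IsQCoh ((Scheme.Modules.pushforward f').obj (Coh.structureModule X')) :=
    Groth.Agent.QCohLib.isQCoh_pushforward (Coh.structureModule X') f'
  have key : ∀ (T : Y.Opens) (W : Y'.Opens), IsAffineOpen T → IsAffineOpen W → W ≤ g ⁻¹ᵁ T →
      Function.Surjective (f'.app W) := by
    intro T W hT hW hle
    haveI : IsAffine T.toScheme := hT
    haveI : IsAffine W.toScheme := hW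
    let gW : W.toScheme ⟶ T.toScheme := g.resLE T W hle
    have e : f' ⁻¹ᵁ W ≤ g' ⁻¹ᵁ (f ⁻¹ᵁ T) := fun z hz => by
      show f (g' z) ∈ T
      rw [← Scheme.Hom.comp_apply, hc.w, Scheme.Hom.comp_apply]
      exact hle hz
    let k : (f' ⁻¹ᵁ W).toScheme ⟶ (f ⁻¹ᵁ T).toScheme := g'.resLE (f ⁻¹ᵁ T) (f' ⁻¹ᵁ W) e
    have h1 : IsPullback ((f' ⁻¹ᵁ W).ι ≫ g') (f' ∣_ W) f (W.ι ≫ g) :=
      ((isPullback_morphismRestrict f' W).flip.paste_horiz hc)
    have h2 : IsPullback k (f' ∣_ W) (f ∣_ T) gW :=
      IsPullback.of_right (by rw [Scheme.Hom.resLE_comp_ι, Scheme.Hom.resLE_comp_ι]; exact h1)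
        (by
          rw [← cancel_mono T.ι, Category.assoc, Category.assoc, morphismRestrict_ι, Scheme.Hom.resLE_comp_ι_assoc,
            Scheme.Hom.resLE_comp_ι, morphismRestrict_ι_assoc, hc.w])
        (isPullback_morphismRestrict f T).flip
    haveI : IsProper (f ∣_ T) := MorphismProperty.of_isPullback (isPullback_morphismRestrict f T).flip ‹_›
    have hdT : ∀ s, topologicalKrullDim ↥((f ∣_ T).fiber s) ≤ (1 : ℕ) := fun s =>
      (Groth.Agent.S9777.result f T.ι (f ∣_ T) (f ⁻¹ᵁ T).ι (isPullback_morphismRestrict f T).flip s).trans_le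
        (by simpa using hdim _)
    haveI : HasInjectiveResolutions X.Modules := inferInstance
    haveI : Coh.IsQCoh (Coh.structureModule X) := inferInstance
    haveI : Subsingleton Γ((Coh.Rpush f 1).obj (Coh.structureModule X), T) :=
      Groth.Agent.FibreVanishQC.subsingleton_sections _ _ fun y _ => by
        haveI := Groth.Agent.FibreVanishQC.subsingleton_stalk_rpush f 1 y (by simpa using hdim y) (hH1 y)
        exact AddCommGrpCat.isZero_of_subsingleton _
    obtain ⟨E, -⟩ := Groth.Agent.RpushLib.exists_sections_equiv (M := Coh.structureModule X) f 1 hT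
    have h0 : Subsingleton (Coh.HH (f ⁻¹ᵁ T).toScheme (Coh.structureModule (f ⁻¹ᵁ T).toScheme) 1) :=
      Groth.Agent.CurveLib.subsingleton_HH_iso (Scheme.Modules.restrictUnitIso _) 1 E.symm.toEquiv.subsingleton
    have hs : Function.Surjective (f ∣_ T).appTop := by
      rw [morphismRestrict_appTop]
      exact (ConcreteCategory.bijective_of_isIso
        (X.presheaf.map (eqToHom (image_morphismRestrict_preimage f T ⊤)).op)).2.comp
          (hsurj (T.ι ''ᵁ ⊤) (by rw [Scheme.Opens.ι_image_top]; exact hT))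
    have hres := Groth.Agent.FibreVanishQC.surjective_appTop_baseChange h2 hdT h0 hs
    rw [morphismRestrict_appTop] at hres
    have key2 : Function.Surjective (f'.app (W.ι ''ᵁ ⊤)) := fun y => by
      obtain ⟨z, hz⟩ := hres (X'.presheaf.map (eqToHom (image_morphismRestrict_preimage f' W ⊤)).op y)
      exact ⟨z, (ConcreteCategory.bijective_of_isIso (X'.presheaf.map (eqToHom (image_morphismRestrict_preimage f' W ⊤)).op)).1 hz⟩
    rwa [Scheme.Opens.ι_image_top] at key2
  let φ := Groth.Agent.FibreVanishQC.structMap f'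
  haveI : Epi φ := by
    refine Preadditive.epi_of_cancel_zero _ fun {P} q hq => ?_
    refine Scheme.Modules.hom_ext _ _ fun U => ?_
    refine AddCommGrpCat.hom_ext (AddMonoidHom.ext fun s => ?_)
    show q.app U s = 0
    refine TopCat.Presheaf.section_ext ((Groth.Agent.QCohLib.toAbF Y').obj P) U (q.app U s) 0 fun x hx => ?_
    obtain ⟨_, ⟨T, hT, rfl⟩, hxT, -⟩ := Y.isBasis_affineOpens.exists_subset_of_mem_open
      (Set.mem_univ (g x)) isOpen_univ
    change Y.Opens at T
    obtain ⟨_, ⟨W, hW, rfl⟩, hxW, hle⟩ := Y'.isBasis_affineOpens.exists_subset_of_mem_open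
      (show x ∈ U ⊓ g ⁻¹ᵁ T from ⟨hx, hxT⟩) (U ⊓ g ⁻¹ᵁ T).2
    change Y'.Opens at W
    have hWU : W ≤ U := fun z hz => (hle hz).1
    obtain ⟨m, hm⟩ := key T W hT hW (fun z hz => (hle hz).2)
      (((Scheme.Modules.pushforward f').obj (Coh.structureModule X')).presheaf.map (homOfLE hWU).op s)
    have h1 : P.presheaf.map (homOfLE hWU).op (q.app U s) = 0 := by
      refine (ConcreteCategory.congr_hom (q.mapPresheaf.naturality (homOfLE hWU).op) s).symm.trans ?_
      refine (congrArg (q.app W) hm).symm.trans ?_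
      exact congrArg (fun k : Coh.structureModule Y' ⟶ P => k.app W m) hq
    refine (P.presheaf.germ_res_apply (homOfLE hWU) x hxW (q.app U s)).symm.trans ?_
    exact ((congrArg (P.presheaf.germ W x hxW) h1).trans (map_zero _)).trans (map_zero _).symm
  intro U' hU'
  exact Groth.Agent.ProjBundleLib.surjective_app_of_epi ‹_› hN φ hU'

end Groth.Agent.S1410
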