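import Groth.Statements.S14106
import Mathlib
import Groth.Agent.S14103
import Groth.Agent.CMFlatLib.Locus
import Groth.Agent.RegLocal.Basic
import Groth.Agent.ASp.GeomRedEt

set_option autoImplicit false
universe u
open CategoryTheory CategoryTheory.Limits AlgebraicGeometry Opposite TopologicalSpace
open CInt

namespace Groth.Agent.S14106

open AlgebraicGeometry CategoryTheory CategoryTheory.Limits IsLocalRing

set_option maxHeartbeats 2000000

theorem h9_regular_fibre {X S : Scheme.{u}} (f : X ⟶ S) [Smooth f] (x : X) :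
    IsRegularLocalRing (X.presheaf.stalk x ⧸ (maximalIdeal (S.presheaf.stalk (f x))).map (f.stalkMap x).hom) := by
  haveI : Smooth (f.fiberToSpecResidueField (f x)) :=
    MorphismProperty.of_isPullback (P := @Smooth) (IsPullback.of_hasPullback f (S.fromSpecResidueField (f x))) ‹_›
  haveI := @Groth.Agent.ASp.isRegularLocalRing_stalk_of_smooth_field (S.residueField (f x)) _ _ (f.fiberToSpecResidueField (f x)) ‹_› (f.asFiber x)
  have key : ∀ x' : X, x' = x →
      IsRegularLocalRing (X.presheaf.stalk x' ⧸ (maximalIdeal (S.presheaf.stalk (f x'))).map (f.stalkMap x').hom) →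
      IsRegularLocalRing (X.presheaf.stalk x ⧸ (maximalIdeal (S.presheaf.stalk (f x))).map (f.stalkMap x).hom) := by
    rintro x' rfl h; exact h
  exact key _ (f.fiberι_asFiber x) (IsRegularLocalRing.of_ringEquiv
    ((Ideal.quotEquivOfEq (Groth.Agent.FlatLocus.ker_fiberι_stalkMap f _ _).symm).trans
      (RingHom.quotientKerEquivOfSurjective (f := ((f.fiberι (f x)).stalkMap (f.asFiber x)).hom)
        (Groth.Agent.FlatLocus.fiberι_stalkMap_surjective f _ _))).symm)

theorem h9_mem_map {R A : Type u} [CommRing R] [CommRing A] (φ : R →+* A) (m : Ideal R) {x : A}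
    (hxm : x ∈ m.map φ) :
    ∃ (n : ℕ) (r : Fin n → R) (a : Fin n → A), (∀ j, r j ∈ m) ∧ x = ∑ j, φ (r j) * a j := by
  induction hxm using Submodule.span_induction with
  | mem y hy =>
    obtain ⟨r, hr, rfl⟩ := hy
    exact ⟨1, fun _ => r, fun _ => 1, fun _ => hr, by simp⟩
  | zero => exact ⟨0, Fin.elim0, Fin.elim0, fun j => j.elim0, by simp⟩
  | add y z _ _ hy hz =>
    obtain ⟨n, r, a, hr, rfl⟩ := hy
    obtain ⟨k, r', a', hr', rfl⟩ := hz
    refine ⟨n + k, Fin.append r r', Fin.append a a', fun j => ?_, ?_⟩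
    · induction j using Fin.addCases with
      | left i => simpa using hr i
      | right i => simpa using hr' i
    · simp [Fin.sum_univ_add]
  | smul s y _ hy =>
    obtain ⟨n, r, a, hr, rfl⟩ := hy
    refine ⟨n, r, fun j => s * a j, hr, ?_⟩
    rw [smul_eq_mul, Finset.mul_sum]
    exact Finset.sum_congr rfl fun j _ => by ring

/-- `I ∩ 𝔪A ⊆ 𝔪I` when `A/I` is flat. -/
theorem h9_inter_le {R A B : Type u} [CommRing R] [CommRing A] [CommRing B] (φ : R →+* A) (π : A →+* B)
    (hπ : Function.Surjective π) (hflat : (π.comp φ).Flat) (m : Ideal R) :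
    RingHom.ker π ⊓ m.map φ ≤ m.map φ * RingHom.ker π := by
  classical
  letI := (π.comp φ).toAlgebra
  haveI : Module.Flat R B := hflat
  rintro x ⟨hx, hxm⟩
  obtain ⟨t, ht, c, hc, rfl⟩ := h9_mem_map φ m hxm
  have h0 : ∑ j, ht j • π (c j) = 0 := by
    replace hx : π (∑ j, φ (ht j) * c j) = 0 := hx
    rw [map_sum] at hx
    rw [← hx]
    refine Finset.sum_congr rfl fun j _ => ?_
    rw [Algebra.smul_def, map_mul]; rfl
  obtain ⟨k, r, b, hb, hr⟩ := Module.Flat.isTrivialRelation_of_sum_smul_eq_zero (R := R) (M := B) (f := ht) (x := fun j => π (c j)) (by simpa [Algebra.smul_def] using h0)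
  choose b' hb' using fun i => hπ (b i)
  have e0 : ∑ j, ∑ i, φ (ht j) * (φ (r j i) * b' i) = 0 := by
    rw [Finset.sum_comm]
    refine Finset.sum_eq_zero fun i _ => ?_
    rw [← zero_mul (b' i), ← map_zero φ, ← hr i, map_sum, Finset.sum_mul]
    exact Finset.sum_congr rfl fun j _ => by rw [map_mul, mul_assoc]
  have e : ∑ j, φ (ht j) * c j = ∑ j, φ (ht j) * (c j - ∑ i, φ (r j i) * b' i) := by
    simp only [mul_sub, Finset.mul_sum, Finset.sum_sub_distrib, e0, sub_zero]
  rw [e]
  refine Ideal.sum_mem _ fun j _ => Ideal.mul_mem_mul (Ideal.mem_map_of_mem _ (hc j)) ?_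
  rw [RingHom.mem_ker, map_sub, map_sum, sub_eq_zero]
  refine (hb j).trans ?_
  refine Finset.sum_congr rfl fun i _ => ?_
  rw [Algebra.smul_def, map_mul, hb']; rfl

/-- The kernel is generated by at most `dim A/mA` elements. -/
theorem h9_ker_gen {R A B : Type u} [CommRing R] [CommRing A] [CommRing B] [IsLocalRing A] [IsNoetherianRing A]
    (φ : R →+* A) (π : A →+* B) (hπ : Function.Surjective π) (hflat : (π.comp φ).Flat) (m : Ideal R)
    (hm : m.map φ ≤ maximalIdeal A) [IsRegularLocalRing (A ⧸ m.map φ)]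
    [IsRegularLocalRing (B ⧸ m.map (π.comp φ))] (d : ℕ) (hd : ringKrullDim (A ⧸ m.map φ) = d) :
    ∃ g : Finset A, g.card ≤ d ∧ RingHom.ker π = Ideal.span (g : Set A) := by
  classical
  set M := m.map φ with hMdef
  set q := Ideal.Quotient.mk M
  let π0 : A ⧸ M →+* B ⧸ m.map (π.comp φ) :=
    Ideal.quotientMap _ π (by rw [hMdef, ← Ideal.map_map]; exact Ideal.le_comap_map)
  have hπ0 : Function.Surjective π0 := by
    intro y
    obtain ⟨y, rfl⟩ := Ideal.Quotient.mk_surjective y
    obtain ⟨x, rfl⟩ := hπ y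
    exact ⟨q x, rfl⟩
  haveI : IsRegularLocalRing ((A ⧸ M) ⧸ RingHom.ker π0) :=
    IsRegularLocalRing.of_ringEquiv (RingHom.quotientKerEquivOfSurjective hπ0).symm
  obtain ⟨x, c, hc, -, hI⟩ := Groth.Agent.RegLocal.exists_generators_of_quot_regular (A ⧸ M) hd (RingHom.ker π0)
  have hlift : ∀ i : Fin c, ∃ a ∈ RingHom.ker π, q a = x (Fin.castLE hc i) := by
    intro i
    obtain ⟨a, ha⟩ := Ideal.Quotient.mk_surjective (x (Fin.castLE hc i))
    have h1 : x (Fin.castLE hc i) ∈ RingHom.ker π0 := hI ▸ Ideal.subset_span ⟨i, rfl⟩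
    rw [← ha, RingHom.mem_ker] at h1
    have h2 : π a ∈ M.map π := by
      rw [hMdef, Ideal.map_map]
      exact Ideal.Quotient.eq_zero_iff_mem.1 h1
    obtain ⟨z, hz, hza⟩ := (Ideal.mem_map_iff_of_surjective π hπ).1 h2
    refine ⟨a - z, by rw [RingHom.mem_ker, map_sub, hza, sub_self], ?_⟩
    rw [map_sub, Ideal.Quotient.eq_zero_iff_mem.2 hz, sub_zero]
    exact ha
  choose g hg hgq using hlift
  refine ⟨Finset.univ.image g, (Finset.card_image_le.trans (by simp)).trans hc, le_antisymm ?_ ?_⟩
  · refine Submodule.le_of_le_smul_of_le_jacobson_bot (IsNoetherian.noetherian _)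
      (hm.trans (IsLocalRing.maximalIdeal_le_jacobson ⊥)) ?_
    intro a ha
    have h1 : q a ∈ RingHom.ker π0 := by
      rw [RingHom.mem_ker]
      show Ideal.Quotient.mk _ (π a) = 0
      rw [RingHom.mem_ker.1 ha, map_zero]
    have h2 : q a ∈ (Ideal.span (Set.range g)).map q := by
      rw [hI] at h1
      refine Ideal.span_le.2 ?_ h1
      rintro _ ⟨i, rfl⟩
      simp only [SetLike.mem_coe]
      rw [← hgq i]
      exact Ideal.mem_map_of_mem _ (Ideal.subset_span ⟨i, rfl⟩)
    obtain ⟨z, hz, hza⟩ := (Ideal.mem_map_iff_of_surjective q Ideal.Quotient.mk_surjective).1 h2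
    rw [← add_sub_cancel z a]
    refine Submodule.add_mem_sup ?_ (h9_inter_le φ π hπ hflat m ⟨sub_mem ha ?_, Ideal.Quotient.eq.1 hza.symm⟩)
    · simpa using hz
    · exact (show Ideal.span (Set.range g) ≤ RingHom.ker π from Ideal.span_le.2 (Set.range_subset_iff.2 hg)) hz
  · exact Ideal.span_le.2 (by simpa [Set.range_subset_iff] using hg)

/-- Generalizations of `x` have coheight at most the height of the corresponding prime. -/
theorem h9_coheight_le {X : Scheme.{u}} (x : X) (p : Spec (X.presheaf.stalk x)) :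
    Order.coheight (X.fromSpecStalk x p) ≤ p.asIdeal.height := by
  rw [idealHeight_eq_coheight, Order.coheight_eq]
  refine iSup₂_le fun L hL => ?_
  have hmem : ∀ i, L i ∈ Set.range (X.fromSpecStalk x) := by
    intro i
    rw [Scheme.range_fromSpecStalk]
    have h1 : L i ⤳ X.fromSpecStalk x p := Scheme.le_iff_specializes.1 (hL.trans (L.head_le i))
    have h2 : X.fromSpecStalk x p ⤳ x := by
      have : X.fromSpecStalk x p ∈ Set.range (X.fromSpecStalk x) := ⟨p, rfl⟩
      rw [Scheme.range_fromSpecStalk] at this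
      exact this
    exact h1.trans h2
  choose g hg using hmem
  have emb : ∀ a b, X.fromSpecStalk x a ≤ X.fromSpecStalk x b ↔ a ≤ b := fun a b => by
    rw [Scheme.le_iff_specializes, Scheme.le_iff_specializes]
    exact (X.fromSpecStalk x).isEmbedding.toIsInducing.specializes_iff
  let L' : LTSeries (Spec (X.presheaf.stalk x)) := ⟨L.length, g, fun i => by
    have := L.step i
    change L i.castSucc < L i.succ at this
    show g i.castSucc < g i.succ
    rw [lt_iff_le_not_ge, ← emb, ← emb, hg, hg]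
    exact lt_iff_le_not_ge.1 this⟩
  refine Order.length_le_coheight (p := L') ?_
  show p ≤ g 0
  rw [← emb, hg]
  exact hL

/-- Let S be a locally Noetherian scheme, f : X → S a smooth morphism and i : Y → X a closed immersion
whose composite with f is smooth. Then the codimension of the image of i relative to f (the infimum
over its points y of the Krull dimension of the local ring at y of the fibre of f through y) equals
its codimension in X (the infimum over the same points of the Krull dimension of O_{X,y}). -/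
theorem result {X Y S : Scheme.{u}} [IsLocallyNoetherian X]
    [IsLocallyNoetherian S] (f : X ⟶ S) [Smooth f] (i : Y ⟶ X) [IsClosedImmersion i] [Smooth (i ≫ f)] :
    (⨅ y : Set.range i.base, ringKrullDim ↑(CInt.fiberStalk f y.1)) =
      ⨅ y : Set.range i.base, ringKrullDim ↑(X.presheaf.stalk y.1) := by
  haveI : Flat (i ≫ f) := inferInstance
  refine le_antisymm (Groth.Agent.S14103.result f _ i.isClosedEmbedding.isClosed_range) (le_iInf ?_)
  rintro ⟨_, y, rfl⟩
  let A := X.presheaf.stalk (i y)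
  let π : A →+* Y.presheaf.stalk y := (i.stalkMap y).hom
  let φ : S.presheaf.stalk (f (i y)) →+* A := (f.stalkMap (i y)).hom
  let m := maximalIdeal (S.presheaf.stalk (f (i y)))
  have hπ : Function.Surjective π := i.stalkMap_surjective y
  have hcomp : π.comp φ = ((i ≫ f).stalkMap y).hom := by rw [Scheme.Hom.stalkMap_comp]; rfl
  have hflat : (π.comp φ).Flat := hcomp ▸ Flat.stalkMap (i ≫ f) y
  haveI hrA : IsRegularLocalRing (A ⧸ m.map φ) := h9_regular_fibre f (i y)
  haveI : IsRegularLocalRing (Y.presheaf.stalk y ⧸ m.map (π.comp φ)) := by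
    rw [hcomp]; exact h9_regular_fibre (i ≫ f) y
  have hm : m.map φ ≤ maximalIdeal A := by
    rw [Ideal.map_le_iff_le_comap]
    exact fun a ha => map_nonunit (f.stalkMap (i y)).hom a ha
  obtain ⟨d, hd⟩ := Groth.Agent.RegLocal.exists_nat_ringKrullDim (A ⧸ m.map φ)
  obtain ⟨g, hgcard, hg⟩ := h9_ker_gen φ π hπ hflat m hm d hd
  obtain ⟨P, hP⟩ := Ideal.nonempty_minimalPrimes (show Ideal.span (g : Set A) ≠ ⊤ from hg ▸ RingHom.ker_ne_top π)
  haveI := hP.1.1
  let p : Spec (X.presheaf.stalk (i y)) := (⟨P, hP.1.1⟩ : PrimeSpectrum A)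
  have hy' : X.fromSpecStalk (i y) p ∈ Set.range i := by
    have : p ∈ Set.range (Spec.map (i.stalkMap y)) := by
      show (⟨P, hP.1.1⟩ : PrimeSpectrum A) ∈ Set.range (PrimeSpectrum.comap π)
      rw [range_comap_of_surjective _ _ hπ, PrimeSpectrum.mem_zeroLocus, hg]
      exact hP.1.2
    obtain ⟨z, hz⟩ := this
    exact ⟨Y.fromSpecStalk y z, by rw [← hz, ← Scheme.Hom.comp_apply, ← Scheme.SpecMap_stalkMap_fromSpecStalk, Scheme.Hom.comp_apply]⟩
  refine iInf_le_of_le ⟨_, hy'⟩ ?_
  rw [Groth.Agent.CMFlatLib.dim_fibre_stalk f (i y), ringKrullDim_stalk_eq_coheight]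
  show _ ≤ ringKrullDim (A ⧸ m.map φ)
  rw [hd]
  have h1 : Order.coheight (X.fromSpecStalk (i y) p) ≤ (d : ℕ∞) :=
    (h9_coheight_le (i y) p).trans
      ((Ideal.height_le_card_of_mem_minimalPrimes_span_finset hP).trans (by exact_mod_cast hgcard))
  exact_mod_cast h1

end Groth.Agent.S14106
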