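import Groth.Statements.S14109
import Groth.Agent.CMFlatLib.Locus
import Groth.Agent.CMFlatLib.Poly
import Groth.Agent.GorLib.Flat

set_option autoImplicit false
universe u
open CategoryTheory CategoryTheory.Limits AlgebraicGeometry Opposite TopologicalSpace
open CInt

namespace Groth.Agent.S14109

open CategoryTheory CategoryTheory.Limits AlgebraicGeometry

open IsLocalRing in
/-- Dimensions along a local homomorphism modulo an ideal of the source. -/
theorem dim_quot {A B : Type u} [CommRing A] [CommRing B] [IsLocalRing A] [IsLocalRing B] [IsNoetherianRing A]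
    [IsNoetherianRing B] [Algebra A B] [IsLocalHom (algebraMap A B)] (I : Ideal A) (hI : I ≤ maximalIdeal A) :
    ringKrullDim (B ⧸ I.map (algebraMap A B)) ≤
      ringKrullDim (A ⧸ I) + ringKrullDim (B ⧸ (maximalIdeal A).map (algebraMap A B)) ∧
    (Module.Flat A B → ringKrullDim (A ⧸ I) ≤ ringKrullDim (B ⧸ I.map (algebraMap A B))) := by
  let IB := I.map (algebraMap A B)
  have hmB : (maximalIdeal A).map (algebraMap A B) ≤ maximalIdeal B := map_maximalIdeal_le _
  have hI' : I ≠ ⊤ := fun h => (maximalIdeal.isMaximal A).ne_top (top_le_iff.1 (h ▸ hI))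
  have hIB : IB ≠ ⊤ := fun h => (maximalIdeal.isMaximal B).ne_top
    (top_le_iff.1 (h.ge.trans ((Ideal.map_mono hI).trans hmB)))
  haveI : Nontrivial (A ⧸ I) := Ideal.Quotient.nontrivial_iff.2 hI'
  haveI : Nontrivial (B ⧸ IB) := Ideal.Quotient.nontrivial_iff.2 hIB
  haveI : IsLocalRing (A ⧸ I) := .of_surjective' _ Ideal.Quotient.mk_surjective
  haveI : IsLocalRing (B ⧸ IB) := .of_surjective' _ Ideal.Quotient.mk_surjective
  haveI hloc : IsLocalHom (algebraMap (A ⧸ I) (B ⧸ IB)) := by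
    refine ((local_hom_TFAE _).out 2 0 rfl rfl).mp ?_
    rw [CMFlatLib.maximalIdeal_quot hI', Ideal.map_map, CMFlatLib.maximalIdeal_quot hIB,
      show (algebraMap (A ⧸ I) (B ⧸ IB)).comp (Ideal.Quotient.mk I) = (Ideal.Quotient.mk IB).comp (algebraMap A B) from rfl,
      ← Ideal.map_map]
    exact Ideal.map_mono hmB
  haveI : (maximalIdeal (B ⧸ IB)).LiesOver (maximalIdeal (A ⧸ I)) :=
    ⟨(((local_hom_TFAE (algebraMap (A ⧸ I) (B ⧸ IB))).out 0 4 rfl rfl).mp hloc).symm⟩
  let P := (maximalIdeal (A ⧸ I)).map (algebraMap (A ⧸ I) (B ⧸ IB))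
  have hP : P = ((maximalIdeal A).map (algebraMap A B)).map (Ideal.Quotient.mk IB) := by
    show (maximalIdeal (A ⧸ I)).map _ = _
    rw [CMFlatLib.maximalIdeal_quot hI', Ideal.map_map, Ideal.map_map]
    rfl
  have hP' : P ≠ ⊤ := fun h => (maximalIdeal.isMaximal (B ⧸ IB)).ne_top (top_le_iff.1 (h.ge.trans (map_maximalIdeal_le _)))
  haveI : Nontrivial ((B ⧸ IB) ⧸ P) := Ideal.Quotient.nontrivial_iff.2 hP'
  haveI : IsLocalRing ((B ⧸ IB) ⧸ P) := .of_surjective' _ Ideal.Quotient.mk_surjective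
  have e : ringKrullDim ((B ⧸ IB) ⧸ P) = ringKrullDim (B ⧸ (maximalIdeal A).map (algebraMap A B)) := by
    rw [hP]
    exact ringKrullDim_eq_of_ringEquiv (DoubleQuot.quotQuotEquivQuotOfLE (Ideal.map_mono hI))
  constructor
  · rw [← e, ← maximalIdeal_height_eq_ringKrullDim (R := B ⧸ IB), ← maximalIdeal_height_eq_ringKrullDim (R := A ⧸ I),
      ← maximalIdeal_height_eq_ringKrullDim (R := (B ⧸ IB) ⧸ P), CMFlatLib.maximalIdeal_quot hP', ← WithBot.coe_add,
      WithBot.coe_le_coe]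
    exact Ideal.height_le_height_add_of_liesOver (maximalIdeal (A ⧸ I)) (maximalIdeal (B ⧸ IB))
  · intro hfl
    haveI : Module.Flat (A ⧸ I) (B ⧸ IB) := GorLib.flat_quot_map I
    rw [← maximalIdeal_height_eq_ringKrullDim (R := A ⧸ I), ← maximalIdeal_height_eq_ringKrullDim (R := B ⧸ IB),
      WithBot.coe_le_coe, Ideal.height_eq_height_add_of_liesOver_of_hasGoingDown (maximalIdeal (A ⧸ I)) (maximalIdeal (B ⧸ IB))]
    exact le_self_add

theorem dim_fiberStalk {X S : Scheme.{u}} (f : X ⟶ S) (x : X) :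
    ringKrullDim ↑(CInt.fiberStalk f x) = ringKrullDim (X.presheaf.stalk x ⧸
      (IsLocalRing.maximalIdeal (S.presheaf.stalk (f x))).map (f.stalkMap x).hom) :=
  CMFlatLib.dim_fibre_stalk f x

theorem dim_fiber_comp {X X' S : Scheme.{u}} [IsLocallyNoetherian X] [IsLocallyNoetherian X'] (f : X ⟶ S) (g : X' ⟶ X) (x' : X') :
    ringKrullDim ↑(CInt.fiberStalk (g ≫ f) x') ≤ ringKrullDim ↑(CInt.fiberStalk f (g x')) +
      ringKrullDim (X'.presheaf.stalk x' ⧸ (IsLocalRing.maximalIdeal (X.presheaf.stalk (g x'))).map (g.stalkMap x').hom) ∧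
    ((g.stalkMap x').hom.Flat → ringKrullDim ↑(CInt.fiberStalk f (g x')) ≤ ringKrullDim ↑(CInt.fiberStalk (g ≫ f) x')) := by
  letI := (g.stalkMap x').hom.toAlgebra
  haveI : IsLocalHom (algebraMap (X.presheaf.stalk (g x')) (X'.presheaf.stalk x')) :=
    inferInstanceAs (IsLocalHom (g.stalkMap x').hom)
  have hJ : (IsLocalRing.maximalIdeal (S.presheaf.stalk (f (g x')))).map (f.stalkMap (g x')).hom ≤
      IsLocalRing.maximalIdeal (X.presheaf.stalk (g x')) := by
    rw [Ideal.map_le_iff_le_comap]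
    exact fun a ha => map_nonunit (f.stalkMap (g x')).hom a ha
  have h := dim_quot (B := X'.presheaf.stalk x') _ hJ
  have e : ringKrullDim ↑(CInt.fiberStalk (g ≫ f) x') = ringKrullDim (X'.presheaf.stalk x' ⧸
      ((IsLocalRing.maximalIdeal (S.presheaf.stalk (f (g x')))).map (f.stalkMap (g x')).hom).map (g.stalkMap x').hom) := by
    rw [dim_fiberStalk, Scheme.Hom.stalkMap_comp, Ideal.map_map]
    rfl
  rw [e, dim_fiberStalk]
  exact ⟨h.1, h.2⟩

theorem exists_stalk_dim_zero (F : Scheme.{u}) (z₀ : F) : ∃ z : F, ringKrullDim (F.presheaf.stalk z) = 0 := by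
  obtain ⟨_, ⟨U, hU, rfl⟩, hzU, -⟩ := F.isBasis_affineOpens.exists_subset_of_mem_open (Set.mem_univ z₀) isOpen_univ
  haveI : Nontrivial Γ(F, U) := by
    by_contra hn
    rw [not_nontrivial_iff_subsingleton] at hn
    exact (PrimeSpectrum.isEmpty_iff_subsingleton.2 hn).false (hU.primeIdealOf ⟨z₀, hzU⟩)
  obtain ⟨q, hq⟩ := Ideal.exists_minimalPrimes_le (I := (⊥ : Ideal Γ(F, U))) (J := (hU.primeIdealOf ⟨z₀, hzU⟩).asIdeal) bot_le
  let p : PrimeSpectrum Γ(F, U) := ⟨q, hq.1.1.1⟩
  have hxU : hU.fromSpec p ∈ U := by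
    rw [← SetLike.mem_coe, ← hU.range_fromSpec]
    exact ⟨p, rfl⟩
  have hp : hU.primeIdealOf ⟨hU.fromSpec p, hxU⟩ = p :=
    hU.fromSpec.isOpenEmbedding.injective (hU.fromSpec_primeIdealOf _)
  refine ⟨hU.fromSpec p, ?_⟩
  letI : Algebra Γ(F, U) (F.presheaf.stalk (hU.fromSpec p)) := TopCat.Presheaf.algebra_section_stalk F.presheaf ⟨_, hxU⟩
  haveI : q.IsPrime := hq.1.1.1
  haveI : IsLocalization.AtPrime (F.presheaf.stalk (hU.fromSpec p)) q := by
    have := hU.isLocalization_stalk ⟨_, hxU⟩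
    rwa [hp] at this
  rw [IsLocalization.AtPrime.ringKrullDim_eq_height q, Ideal.height_eq_zero_iff.2 (by rw [minimalPrimes]; exact hq.1)]
  rfl


/-- Let f : X → S and g : X' → X be morphisms of locally Noetherian schemes with g surjective, Y a
closed subset of X and Y' its preimage under g. Then the codimension of Y' relative to the composite
X' → S (the infimum over y' ∈ Y' of the Krull dimension of the local ring at y' of the fibre of that
composite through y') is at most the codimension of Y relative to f (the same infimum over y ∈ Y for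
the fibres of f). -/
theorem result {X X' S : Scheme.{u}} [IsLocallyNoetherian X]
    [IsLocallyNoetherian X'] [IsLocallyNoetherian S] (f : X ⟶ S) (g : X' ⟶ X) [Surjective g]
    (Y : Set ↥X) (hY : IsClosed Y) :
    (⨅ y' : (fun x' => g x') ⁻¹' Y, ringKrullDim ↑(CInt.fiberStalk (g ≫ f) y'.1)) ≤
      ⨅ y : Y, ringKrullDim ↑(CInt.fiberStalk f y.1) := by
  refine le_iInf fun y => ?_
  obtain ⟨x₀, hx₀⟩ := g.surjective y.1
  obtain ⟨z₀, -⟩ : ∃ z : g.fiber y.1, g.fiberι y.1 z = x₀ := by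
    have h : x₀ ∈ Set.range (g.fiberι y.1) := by rw [g.range_fiberι]; exact hx₀
    exact h
  obtain ⟨z, hz⟩ := exists_stalk_dim_zero (g.fiber y.1) z₀
  have hgy : g (g.fiberι y.1 z) = y.1 := by
    have h : g.fiberι y.1 z ∈ Set.range (g.fiberι y.1) := ⟨z, rfl⟩
    rwa [g.range_fiberι] at h
  refine (iInf_le _ ⟨g.fiberι y.1 z, show g (g.fiberι y.1 z) ∈ Y by rw [hgy]; exact y.2⟩).trans
    ((dim_fiber_comp f g _).1.trans ?_)
  have e : ringKrullDim (X'.presheaf.stalk (g.fiberι y.1 z) ⧸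
      (IsLocalRing.maximalIdeal (X.presheaf.stalk (g (g.fiberι y.1 z)))).map (g.stalkMap (g.fiberι y.1 z)).hom) = 0 := by
    rw [← hz]
    exact ringKrullDim_eq_of_ringEquiv ((Ideal.quotEquivOfEq (FlatLocus.ker_fiberι_stalkMap g y.1 z).symm).trans
      (RingHom.quotientKerEquivOfSurjective (f := ((g.fiberι y.1).stalkMap z).hom)
        (FlatLocus.fiberι_stalkMap_surjective g y.1 z)))
  rw [e, add_zero]
  exact le_of_eq (congrArg (fun t => ringKrullDim ↑(CInt.fiberStalk f t)) hgy)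


end Groth.Agent.S14109
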