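import Groth.Statements.S14113
import Groth.Agent.RelPCLib.AffineHom

set_option autoImplicit false
universe u
open CategoryTheory CategoryTheory.Limits AlgebraicGeometry Opposite TopologicalSpace
attribute [local instance] HasDerivedCategory.standard
open DCoh

set_option backward.isDefEq.respectTransparency false

namespace Groth.Agent.S14113

/-- Let X be an affine scheme and E a bounded above cochain complex of finite locally free O_X-modules
(a strictly pseudo-coherent complex). Then E is acyclic if and only if the identity of E is null
homotopic. -/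
theorem result {X : Scheme.{u}} [IsAffine X]
    (E : CochainComplex X.Modules ℤ) (b : ℤ) (hEb : ∀ i : ℤ, b < i → IsZero (E.X i))
    (hE : ∀ i : ℤ, FlatMod.IsFinLocFree (E.X i)) :
    E.Acyclic ↔ Nonempty (Homotopy (𝟙 E) 0) := by
  constructor
  · intro hE0
    have hQ : ∀ i : ℤ, Coh.IsQCoh (E.X i) := fun i =>
      (Groth.Agent.PullbackMod.isQCoh_and_isFP_of_isFinLocFree _ (hE i)).1
    have h := Groth.Agent.RelPCLib.homBij_affine E E b hEb hE hQ
    refine ⟨HomotopyCategory.homotopyOfEq _ _ (h.1 ?_)⟩
    let q := HomotopyCategory.quotient X.Modules (ComplexShape.up ℤ)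
    have hz : IsZero (DerivedCategory.Qh.obj (q.obj E)) :=
      (DerivedCategory.Q.map_isZero (HomologicalComplex.isZero_zero (V := X.Modules) (c := ComplexShape.up ℤ))).of_iso
        ((DerivedCategory.quotientCompQhIso X.Modules).app E ≪≫
          (@asIso _ _ _ _ (DerivedCategory.Q.map (0 : (HomologicalComplex.zero : CochainComplex X.Modules ℤ) ⟶ E))
            ((DerivedCategory.isIso_Q_map_iff_quasiIso (C := X.Modules) _).2 ⟨fun i => by
              rw [quasiIsoAt_iff_exactAt _ _ ((HomologicalComplex.exactAt_iff_isZero_homology _ _).2
                ((HomologicalComplex.homologyFunctor X.Modules (ComplexShape.up ℤ) i).map_isZero HomologicalComplex.isZero_zero))]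
              exact hE0 i⟩)).symm)
    exact hz.eq_of_src _ _
  · rintro ⟨h⟩ i
    rw [HomologicalComplex.exactAt_iff_isZero_homology, IsZero.iff_id_eq_zero]
    have h2 := h.homologyMap_eq i
    rwa [HomologicalComplex.homologyMap_id, HomologicalComplex.homologyMap_zero] at h2

end Groth.Agent.S14113
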