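import Groth.Statements.S14115
import Mathlib
-- import your own Groth.Agent.* helpers here

set_option autoImplicit false
universe u v
open SuperComm

namespace Groth.Agent.S14115

/-- Let S be an associative unital algebra over a commutative ring R, x an element and y_0, …, y_n
elements such that the anticommutator x y_i + y_i x equals r_i · 1 for scalars r_i ∈ R. Then the
graded commutator of x with the ordered product y_0 ⋯ y_n, namely x (y_0 ⋯ y_n) + (-1)^n (y_0 ⋯ y_n)
x, equals the sum over p of (-1)^p r_p times the ordered product of the y_q with q ≠ p. (The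
published statement takes x homogeneous of degree 1 and the y_i homogeneous of degree -1 in a graded
algebra with unit in degree 0, the signs being those of the supercommutator; this row states the
identity for arbitrary elements satisfying the anticommutation relations, which is what the
computation proves.) -/
theorem result {R : Type u} {S : Type v} [CommRing R] [Ring S]
    [Algebra R S] (n : ℕ) (x : S) (y : Fin (n + 1) → S) (r : Fin (n + 1) → R)
    (h : ∀ i : Fin (n + 1), x * y i + y i * x = algebraMap R S (r i)) :
    x * (List.ofFn y).prod + (-1 : S) ^ n * ((List.ofFn y).prod * x) =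
      ∑ p : Fin (n + 1), (-1 : S) ^ (p : ℕ) * (r p • (List.ofFn (fun q : Fin n => y (p.succAbove q))).prod) := by
  induction n with
  | zero => simp [h 0, Algebra.algebraMap_eq_smul_one]
  | succ n ih =>
    have ih' := ih (fun i => y i.succ) (fun i => r i.succ) (fun i => h i.succ)
    rw [List.ofFn_succ, List.prod_cons, Fin.sum_univ_succ]
    set P := (List.ofFn fun i : Fin (n + 1) => y i.succ).prod with hP
    set Sm := ∑ p : Fin (n + 1), (-1 : S) ^ (p : ℕ) *
      (r p.succ • (List.ofFn (fun q : Fin n => y (p.succAbove q).succ)).prod) with hS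
    have h0 : x * y 0 = algebraMap R S (r 0) - y 0 * x := eq_sub_of_add_eq (h 0)
    have h1 : x * P = Sm - (-1 : S) ^ n * (P * x) := eq_sub_of_add_eq ih'
    have e0 : (fun q : Fin (n + 1) => y ((0 : Fin (n + 2)).succAbove q)) = fun q => y q.succ := rfl
    have e1 : ∀ p : Fin (n + 1), (List.ofFn (fun q : Fin (n + 1) => y (p.succ.succAbove q))).prod =
        y 0 * (List.ofFn (fun q : Fin n => y (p.succAbove q).succ)).prod := by
      intro p
      rw [List.ofFn_succ, List.prod_cons]
      simp
    have e2 : ∑ p : Fin (n + 1), (-1 : S) ^ ((p.succ : Fin (n + 2)) : ℕ) *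
        (r p.succ • (List.ofFn (fun q : Fin (n + 1) => y (p.succ.succAbove q))).prod) = - (y 0 * Sm) := by
      rw [hS, Finset.mul_sum, ← Finset.sum_neg_distrib]
      refine Finset.sum_congr rfl fun p _ => ?_
      rw [e1, Fin.val_succ, pow_succ, ← mul_smul_comm]
      have hc : (-1 : S) ^ (p : ℕ) * y 0 = y 0 * (-1 : S) ^ (p : ℕ) :=
        ((Commute.one_left (y 0)).neg_left.pow_left _).eq
      simp only [mul_neg, mul_one, neg_mul, ← mul_assoc, hc]
    rw [e2, e0, ← hP, Fin.val_zero, pow_zero, one_mul, ← mul_assoc x, h0, sub_mul, mul_assoc (y 0) x, h1,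
      ← Algebra.smul_def, pow_succ]
    have hc : (-1 : S) ^ n * y 0 = y 0 * (-1 : S) ^ n :=
      ((Commute.one_left (y 0)).neg_left.pow_left _).eq
    simp only [mul_neg, mul_one, neg_mul, ← mul_assoc, mul_sub, hc]
    abel

end Groth.Agent.S14115
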