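import Groth.Statements.S14118
import Mathlib
-- import your own Groth.Agent.* helpers here

set_option autoImplicit false
universe u v w
open SuperComm

namespace Groth.Agent.S14118

/-- Let R be a commutative ring and M a finitely ℤ-graded R-module with finitely many nonzero graded
pieces, each finite free, presented as a finite family of finite free R-modules M_i with integer
degrees deg i (the piece of degree n being the product of the M_i with deg i = n); an endomorphism φ
of the total module Π_i M_i has degree a when its (i, j) block vanishes unless deg j = deg i + a;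
the supertrace of an endomorphism is the trace of its composite with the grading involution ε = Σ_i
(-1)^{deg i} pr_i. If φ and ψ have degrees a and b, the supertrace of the supercommutator φψ -
(-1)^{ab} ψφ vanishes. (The published statement allows the graded pieces to be finitely generated
projective; this row takes them finite free, where the trace is the ordinary trace of a free
module.) -/
theorem result {R : Type u} [CommRing R] {ι : Type v} [Fintype ι] [DecidableEq ι]
    (deg : ι → ℤ) (M : ι → Type w) [∀ i, AddCommGroup (M i)] [∀ i, Module R (M i)]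
    [∀ i, Module.Free R (M i)] [∀ i, Module.Finite R (M i)]
    (a b : ℤ) (φ ψ : (Π k, M k) →ₗ[R] (Π k, M k))
    (hφ : ∀ i j : ι, deg j ≠ deg i + a → (LinearMap.proj j) ∘ₗ φ ∘ₗ (LinearMap.single R M i) = 0)
    (hψ : ∀ i j : ι, deg j ≠ deg i + b → (LinearMap.proj j) ∘ₗ ψ ∘ₗ (LinearMap.single R M i) = 0) :
    LinearMap.trace R (Π k, M k)
      ((∑ i : ι, (LinearMap.single R M i) ∘ₗ (((-1 : R) ^ (deg i).natAbs) • (LinearMap.proj i : (Π k, M k) →ₗ[R] M i))) ∘ₗ (φ ∘ₗ ψ - ((-1 : R) ^ (a * b).natAbs) • (ψ ∘ₗ φ))) = 0 := by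
  have key : ∀ α β : (Π k, M k) →ₗ[R] (Π k, M k),
      LinearMap.trace R (Π k, M k) ((∑ i : ι, (LinearMap.single R M i) ∘ₗ (((-1 : R) ^ (deg i).natAbs) •
        (LinearMap.proj i : (Π k, M k) →ₗ[R] M i))) ∘ₗ (α ∘ₗ β)) =
      ∑ i : ι, ∑ j : ι, ((-1 : R) ^ (deg i).natAbs) * LinearMap.trace R (M i)
        ((LinearMap.proj i ∘ₗ α ∘ₗ LinearMap.single R M j) ∘ₗ
          (LinearMap.proj j ∘ₗ β ∘ₗ LinearMap.single R M i)) := by
    intro α β
    rw [show (∑ i : ι, (LinearMap.single R M i) ∘ₗ (((-1 : R) ^ (deg i).natAbs) •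
        (LinearMap.proj i : (Π k, M k) →ₗ[R] M i))) ∘ₗ (α ∘ₗ β) =
      ∑ i : ι, ((-1 : R) ^ (deg i).natAbs) • (LinearMap.single R M i ∘ₗ (LinearMap.proj i ∘ₗ (α ∘ₗ β))) by
        ext x j i; simp [Finset.sum_apply, ← Pi.single_smul, Finset.univ_sum_single, Finset.sum_pi_single, Finset.sum_pi_single']]
    rw [map_sum]
    refine Finset.sum_congr rfl fun i _ => ?_
    rw [map_smul, smul_eq_mul, LinearMap.trace_comp_comm', ← Finset.mul_sum, ← map_sum]
    congr 2
    refine LinearMap.ext fun x => ?_
    simp only [LinearMap.coe_comp, Function.comp_apply, LinearMap.coe_sum, Finset.sum_apply]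
    rw [← map_sum, ← map_sum]
    refine congrArg (fun v => (LinearMap.proj i : (Π k, M k) →ₗ[R] M i) (α v)) ?_
    exact (Finset.univ_sum_single _).symm
  rw [LinearMap.comp_sub, map_sub, LinearMap.comp_smul, map_smul, key, key, smul_eq_mul,
    Finset.mul_sum, sub_eq_zero]
  simp_rw [Finset.mul_sum]
  rw [Finset.sum_comm]
  refine Finset.sum_congr rfl fun i _ => Finset.sum_congr rfl fun j _ => ?_
  rw [LinearMap.trace_comp_comm' (R := R) (LinearMap.proj j ∘ₗ φ ∘ₗ LinearMap.single R M i)]
  by_cases h1 : deg j = deg i + a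
  · by_cases h2 : deg i = deg j + b
    · rw [← mul_assoc, ← pow_add]
      congr 1
      rw [neg_one_pow_eq_pow_mod_two, neg_one_pow_eq_pow_mod_two (n := (a * b).natAbs + _)]
      congr 1
      have hb : b = -a := by omega
      subst hb
      have he : (a * -a).natAbs % 2 = a.natAbs % 2 := by
        rw [Int.natAbs_mul, Int.natAbs_neg, Nat.mul_mod]
        rcases Nat.mod_two_eq_zero_or_one a.natAbs with h | h <;> simp [h]
      omega
    · rw [hψ j i h2]
      simp
  · rw [hφ i j h1]
    simp

end Groth.Agent.S14118
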