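import Groth.Statements.S14119
import Groth.Agent.RatliffLib.Equidim

set_option autoImplicit false
universe u
open CategoryTheory CategoryTheory.Limits AlgebraicGeometry Opposite TopologicalSpace
open BlowUp

namespace Groth.Agent.S14119

open CategoryTheory CategoryTheory.Limits AlgebraicGeometry

open Groth.Agent Opposite
set_option backward.isDefEq.respectTransparency false

theorem one_le_dim {X : Scheme.{u}} [IsLocallyNoetherian X] (𝓘 : X.IdealSheafData)
    (hY : BlowUp.IsEffCartierIdeal 𝓘) :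
    ∀ y ∈ (𝓘.support : Set ↥X), (1 : WithBot ℕ∞) ≤ ringKrullDim ↑(X.presheaf.stalk y) := by
  intro y hy
  obtain ⟨⟨V, hV⟩, hyV, g, hg, hI⟩ := hY y
  have hu : ¬ IsUnit ((X.presheaf.germ V y hyV).hom g) := fun h => by
    have h1 := (Scheme.IdealSheafData.mem_support_iff_of_mem (U := ⟨V, hV⟩) hyV).mp hy
    rw [hI] at h1
    exact ((Scheme.mem_zeroLocus_iff _ _ _).mp h1) g (Ideal.mem_span_singleton_self g) ((Scheme.mem_basicOpen _ _ _ hyV).mpr h)
  have hn : (X.presheaf.germ V y hyV).hom g ∈ nonZeroDivisors (X.presheaf.stalk y) := by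
    letI : Algebra Γ(X, V) (X.presheaf.stalk y) := TopCat.Presheaf.algebra_section_stalk X.presheaf ⟨_, hyV⟩
    haveI := hV.isLocalization_stalk ⟨_, hyV⟩
    exact IsLocalization.map_nonZeroDivisors_le (hV.primeIdealOf ⟨_, hyV⟩).asIdeal.primeCompl _ ⟨g, hg, rfl⟩
  by_contra hlt
  haveI : Ring.KrullDimLE 0 (X.presheaf.stalk y) := by
    rw [Ring.krullDimLE_iff]
    rcases h : ringKrullDim ↑(X.presheaf.stalk y) with _ | n
    · exact bot_le
    · rw [h] at hlt
      rcases eq_or_ne n 0 with rfl | hn0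
      · exact le_rfl
      · exact absurd (WithBot.coe_le_coe.mpr (ENat.one_le_iff_ne_zero.mpr hn0)) hlt
  haveI := isArtinianRing_iff_krullDimLE_zero.mpr ‹Ring.KrullDimLE 0 (X.presheaf.stalk y)›
  exact hu (IsArtinianRing.isUnit_iff_mem_nonZeroDivisors.mpr hn)

theorem coheight_eq_one {B : Type u} [CommRing B] [IsNoetherianRing B] [IsLocalRing B]
    (P : PrimeSpectrum B) (f : B) (hfm : f ∈ IsLocalRing.maximalIdeal B) (hfP : f ∉ P.asIdeal)
    (h : ∀ Q : PrimeSpectrum B, P ≤ Q → f ∈ Q.asIdeal → Q = IsLocalRing.closedPoint B) :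
    Order.coheight P = 1 := by
  haveI : Nontrivial (B ⧸ P.asIdeal) := Ideal.Quotient.nontrivial_iff.mpr P.isPrime.ne_top
  haveI : IsLocalRing (B ⧸ P.asIdeal) :=
    IsLocalRing.of_surjective' (Ideal.Quotient.mk P.asIdeal) Ideal.Quotient.mk_surjective
  haveI := IsLocalRing.le_maximalIdeal P.isPrime.ne_top
  have hm : (IsLocalRing.maximalIdeal B).map (Ideal.Quotient.mk P.asIdeal) =
      IsLocalRing.maximalIdeal (B ⧸ P.asIdeal) := by
    haveI : IsLocalHom (Ideal.Quotient.mk P.asIdeal) :=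
      IsLocalHom.of_surjective _ Ideal.Quotient.mk_surjective
    refine le_antisymm (Ideal.map_le_iff_le_comap.mpr fun b hb hu => hb (IsUnit.of_map _ b hu)) fun y hy => ?_
    obtain ⟨b, rfl⟩ := Ideal.Quotient.mk_surjective y
    exact Ideal.mem_map_of_mem _ (fun hb => hy (hb.map _))
  set f' := Ideal.Quotient.mk P.asIdeal f
  have hf' : f' ∈ IsLocalRing.maximalIdeal (B ⧸ P.asIdeal) := hm ▸ Ideal.mem_map_of_mem _ hfm
  have hmin : IsLocalRing.maximalIdeal (B ⧸ P.asIdeal) ∈ (Ideal.span {f'}).minimalPrimes := by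
    refine ⟨⟨(IsLocalRing.maximalIdeal.isMaximal _).isPrime, ?_⟩, ?_⟩
    · rw [Ideal.span_le, Set.singleton_subset_iff]
      exact hf'
    · rintro Q ⟨hQ, hfQ⟩ -
      have hQ' : Q.comap (Ideal.Quotient.mk P.asIdeal) = IsLocalRing.maximalIdeal B := by
        have := h ⟨Q.comap (Ideal.Quotient.mk P.asIdeal), hQ.comap _⟩
          (fun a ha => by
            show Ideal.Quotient.mk P.asIdeal a ∈ Q
            rw [Ideal.Quotient.eq_zero_iff_mem.mpr ha]
            exact Q.zero_mem)
          (hfQ (Ideal.mem_span_singleton_self f'))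
        exact congrArg PrimeSpectrum.asIdeal this
      rw [← hm, Ideal.map_le_iff_le_comap, hQ']
  have hle : ringKrullDim (B ⧸ P.asIdeal) ≤ 1 := by
    rw [← IsLocalRing.maximalIdeal_height_eq_ringKrullDim]
    have : (Ideal.span {f'}).IsPrincipal := ⟨⟨f', rfl⟩⟩
    exact WithBot.coe_le_coe.mpr (Ideal.height_le_one_of_isPrincipal_of_mem_minimalPrimes _ _ hmin)
  rw [CatLib.ringKrullDim_quotient_eq_coheight] at hle
  refine le_antisymm (WithBot.coe_le_coe.mp hle) ?_
  rw [ENat.one_le_iff_ne_zero, ne_eq, Order.coheight_eq_zero]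
  intro hmax
  exact hfP (by
    have hle' : P ≤ IsLocalRing.closedPoint B := IsLocalRing.le_maximalIdeal P.isPrime.ne_top
    exact (hmax hle' : (IsLocalRing.closedPoint B).asIdeal ≤ P.asIdeal) hfm)


/-- Let X be a locally Noetherian scheme, Y an effective Cartier divisor on X (a quasi-coherent ideal
sheaf which, near every point, is generated on some affine open by one nonzerodivisor; Y is its
support) and Z a closed integral subscheme (a closed immersion i from an integral scheme with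
generic point ξ). Assume X irreducible with all local rings catenary (the first of the two printed
sufficient conditions), and assume that the inverse image ideal sheaf of Y on Z is the ideal of an
effective Cartier divisor on Z. Then Y and Z intersect properly: every point ζ of Y ∩ Z that is
maximal under generization inside Y ∩ Z satisfies dim O_{X,ζ} = codim(Y,X) + codim(Z,X), where
codim(Y,X) is the infimum over y ∈ Y of dim O_{X,y} and codim(Z,X) = dim O_{X,i(ξ)}. (The published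
statement also has a second sufficient condition, X biequidimensional, and a fourth equivalent
condition, vanishing of the higher Tor sheaves of O_Y against O_Z; neither is included in this row.) -/
theorem result {X Z : Scheme.{u}}
    [IsLocallyNoetherian X] [IrreducibleSpace ↥X] (hcat : ∀ x : ↥X, CAlg.IsCatenary ↑(X.presheaf.stalk x))
    (𝓘 : X.IdealSheafData) (hY : BlowUp.IsEffCartierIdeal 𝓘)
    (i : Z ⟶ X) [IsClosedImmersion i] [IsIntegral Z] (hc : BlowUp.IsEffCartierIdeal (𝓘.comap i)) :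
    (∀ ζ : ↥X, ζ ∈ (𝓘.support : Set ↥X) ∩ Set.range i.base →
        (∀ ζ' : ↥X, ζ' ∈ (𝓘.support : Set ↥X) ∩ Set.range i.base → ζ' ⤳ ζ → ζ' = ζ) →
        ringKrullDim ↑(X.presheaf.stalk ζ) =
          (⨅ y : (𝓘.support : Set ↥X), ringKrullDim ↑(X.presheaf.stalk y.1)) +
            ringKrullDim ↑(X.presheaf.stalk (i (genericPoint ↥Z)))) := by
  intro ζ ⟨hζY, z, hz⟩ hmax
  obtain ⟨⟨V, hV⟩, hζV, f, hf, hI⟩ := hY ζ
  let pt : PrimeSpectrum Γ(X, V) → X := fun q => hV.fromSpec q
  have hptV : ∀ q, pt q ∈ V := fun q => by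
    show hV.fromSpec q ∈ V
    exact hV.range_fromSpec.le ⟨q, rfl⟩
  have hsp : ∀ q q' : PrimeSpectrum Γ(X, V), pt q ⤳ pt q' ↔ q ≤ q' := fun q q' => by
    rw [PrimeSpectrum.le_iff_specializes]
    exact hV.fromSpec.isOpenEmbedding.isInducing.specializes_iff
  have hsup : ∀ q : PrimeSpectrum Γ(X, V), pt q ∈ (𝓘.support : Set X) ↔ f ∈ q.asIdeal := by
    intro q
    have hbo : pt q ∈ X.basicOpen f ↔ f ∉ q.asIdeal := by
      have := congrArg (fun U : (Spec Γ(X, V)).Opens => q ∈ U) (hV.fromSpec_preimage_basicOpen f)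
      exact Iff.of_eq this
    rw [SetLike.mem_coe, Scheme.IdealSheafData.mem_support_iff_of_mem (U := ⟨V, hV⟩) (hptV q), hI,
      Scheme.mem_zeroLocus_iff]
    constructor
    · intro h
      exact not_not.mp (hbo.not.mp (h f (Ideal.mem_span_singleton_self f)))
    · intro hfq g hg hb
      obtain ⟨a, rfl⟩ := Ideal.mem_span_singleton.mp hg
      rw [Scheme.basicOpen_mul] at hb
      exact (hbo.mp hb.1) hfq
  have hdim : ∀ q : PrimeSpectrum Γ(X, V),
      ringKrullDim ↑(X.presheaf.stalk (pt q)) = (q.asIdeal.height : WithBot ℕ∞) := by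
    intro q
    letI : Algebra Γ(X, V) (X.presheaf.stalk (pt q)) :=
      TopCat.Presheaf.algebra_section_stalk X.presheaf ⟨_, hptV q⟩
    haveI : IsLocalization.AtPrime (X.presheaf.stalk (pt q)) q.asIdeal :=
      hV.isLocalization_stalk' q (hptV q)
    exact IsLocalization.AtPrime.ringKrullDim_eq_height q.asIdeal _
  -- the primes of the points involved
  let p := hV.primeIdealOf ⟨ζ, hζV⟩
  have hp : pt p = ζ := hV.fromSpec_primeIdealOf ⟨ζ, hζV⟩
  let ξ : X := i (genericPoint ↥Z)
  have hξζ : ξ ⤳ ζ := hz ▸ (genericPoint_specializes z).map i.base.hom.continuous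
  have hξV : ξ ∈ V := hξζ.mem_open V.isOpen hζV
  let P := hV.primeIdealOf ⟨ξ, hξV⟩
  have hP : pt P = ξ := hV.fromSpec_primeIdealOf ⟨ξ, hξV⟩
  have hPp : P ≤ p := (hsp P p).mp (by rw [hP, hp]; exact hξζ)
  have hfp : f ∈ p.asIdeal := (hsup p).mp (by rw [hp]; exact hζY)
  have hξY : ξ ∉ (𝓘.support : Set X) := by
    intro hmem
    haveI : IsLocallyNoetherian Z := LocallyOfFiniteType.isLocallyNoetherian i
    have h1 := one_le_dim (𝓘.comap i) hc (genericPoint ↥Z) (by
      rw [Scheme.IdealSheafData.support_comap]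
      exact hmem)
    have h2 : ringKrullDim ↑(Z.presheaf.stalk (genericPoint ↥Z)) = 0 := ringKrullDim_eq_zero_of_isField (Field.toIsField Z.functionField)
    rw [h2] at h1
    exact absurd h1 (by norm_num)
  have hfP : f ∉ P.asIdeal := fun h => hξY (hP ▸ (hsup P).mpr h)
  have hbetween : ∀ q : PrimeSpectrum Γ(X, V), P ≤ q → q ≤ p → f ∈ q.asIdeal → q = p := by
    intro q hPq hqp hfq
    have h1 : pt q ∈ Set.range i.base :=
      ((hsp P q).mpr hPq).mem_closed i.isClosedEmbedding.isClosed_range (by rw [hP]; exact ⟨_, rfl⟩)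
    have h2 := hmax (pt q) ⟨(hsup q).mpr hfq, h1⟩ (hp ▸ (hsp q p).mpr hqp)
    exact hV.fromSpec.isOpenEmbedding.injective (h2.trans hp.symm)
  -- the local ring at `ζ`
  letI alg : Algebra Γ(X, V) (X.presheaf.stalk ζ) := TopCat.Presheaf.algebra_section_stalk X.presheaf ⟨_, hζV⟩
  haveI : IsLocalization.AtPrime (X.presheaf.stalk ζ) p.asIdeal := hV.isLocalization_stalk ⟨ζ, hζV⟩
  let B := X.presheaf.stalk ζ
  let φ : PrimeSpectrum B → PrimeSpectrum Γ(X, V) := PrimeSpectrum.comap (algebraMap Γ(X, V) B)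
  have hφle : ∀ Q, φ Q ≤ p := fun Q => by
    intro a ha
    by_contra hap
    exact Q.isPrime.ne_top (Ideal.eq_top_of_isUnit_mem _ ha (IsLocalization.map_units B (⟨a, hap⟩ : p.asIdeal.primeCompl)))
  have hφmono : ∀ Q Q', φ Q ≤ φ Q' → Q ≤ Q' := fun Q Q' h => by
    show Q.asIdeal ≤ Q'.asIdeal
    rw [← IsLocalization.map_comap p.asIdeal.primeCompl B Q.asIdeal,
      ← IsLocalization.map_comap p.asIdeal.primeCompl B Q'.asIdeal]
    exact Ideal.map_mono h
  have hφsurj : ∀ q, q ≤ p → ∃ Q, φ Q = q := fun q hq => by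
    have hd : Disjoint (p.asIdeal.primeCompl : Set Γ(X, V)) q.asIdeal :=
      Set.disjoint_left.mpr fun a ha haq => ha (hq haq)
    exact ⟨⟨_, IsLocalization.isPrime_of_isPrime_disjoint p.asIdeal.primeCompl B _ q.isPrime hd⟩,
      PrimeSpectrum.ext (IsLocalization.comap_map_of_isPrime_disjoint p.asIdeal.primeCompl B q.isPrime hd)⟩
  obtain ⟨P', hP'⟩ := hφsurj P hPp
  -- irreducibility gives equidimensionality
  have hequi : EGA4.IsEquidim B := by
    have hgV : genericPoint ↥X ∈ V := (genericPoint_specializes ζ).mem_open V.isOpen hζV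
    let q0 := hV.primeIdealOf ⟨genericPoint ↥X, hgV⟩
    have hq0 : ∀ q, q0 ≤ q := fun q => (hsp q0 q).mp (by
      rw [show pt q0 = genericPoint ↥X from hV.fromSpec_primeIdealOf ⟨_, hgV⟩]
      exact genericPoint_specializes _)
    obtain ⟨Q0, hQ0⟩ := hφsurj q0 (hq0 p)
    refine (RatliffLib.isEquidim_of_forall (ringKrullDim B) fun q hq => ?_).1
    refine le_antisymm (ringKrullDim_quotient_le q) ?_
    refine (Order.krullDim_eq_iSup_coheight (α := PrimeSpectrum B)).le.trans (iSup_le fun Q => ?_)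
    have hQ0q : Q0 ≤ ⟨q, hq.1.1⟩ := hφmono _ _ (hQ0 ▸ hq0 _)
    have hq' : (⟨q, hq.1.1⟩ : PrimeSpectrum B) ≤ Q0 := hq.2 ⟨Q0.isPrime, bot_le⟩ hQ0q
    rw [CatLib.ringKrullDim_quotient_eq_coheight ⟨q, hq.1.1⟩]
    exact WithBot.coe_le_coe.2 (Order.coheight_anti (hq'.trans (hφmono _ _ (hQ0 ▸ hq0 _))))
  have hco : Order.coheight P' = 1 := by
    refine coheight_eq_one P' (algebraMap Γ(X, V) B f) ?_ ?_ ?_
    · exact (IsLocalization.AtPrime.to_map_mem_maximal_iff B p.asIdeal f inferInstance).mpr hfp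
    · intro h
      exact hfP (hP' ▸ h)
    · intro Q hPQ hfQ
      have hQp : φ Q = p := hbetween _ (hP' ▸ (fun a ha => hPQ ha)) (hφle Q) hfQ
      refine le_antisymm (IsLocalRing.le_maximalIdeal Q.isPrime.ne_top) (hφmono _ _ ?_)
      rw [hQp]
      exact hφle _
  have hsum := RatliffLib.height_add_coheight hequi (hcat ζ) P'
  rw [hco] at hsum
  have hPh : Order.height P' = P.asIdeal.height := by
    rw [← PrimeSpectrum.height_eq_orderHeight, ← hP']
    exact (IsLocalization.height_under p.asIdeal.primeCompl P'.asIdeal).symm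
  have hdζ : ringKrullDim ↑(X.presheaf.stalk ζ) = ((P.asIdeal.height + 1 : ℕ∞) : WithBot ℕ∞) := by
    rw [RatliffLib.dim_eq_height_closedPoint, ← hsum, hPh]
  have hinf : (⨅ y : (𝓘.support : Set ↥X), ringKrullDim ↑(X.presheaf.stalk y.1)) = 1 := by
    refine le_antisymm ?_ (le_iInf fun y => one_le_dim 𝓘 hY y.1 y.2)
    obtain ⟨q, hq, hqp⟩ := Ideal.exists_minimalPrimes_le (I := Ideal.span {f}) (J := p.asIdeal)
      (by rw [Ideal.span_le, Set.singleton_subset_iff]; exact hfp)
    haveI := hq.1.1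
    haveI : IsNoetherianRing Γ(X, V) := IsLocallyNoetherian.component_noetherian ⟨V, hV⟩
    refine (iInf_le _ ⟨pt ⟨q, hq.1.1⟩, (hsup _).mpr (hq.1.2 (Ideal.mem_span_singleton_self f))⟩).trans ?_
    show ringKrullDim ↑(X.presheaf.stalk (pt ⟨q, hq.1.1⟩)) ≤ 1
    rw [hdim]
    haveI : (Ideal.span {f}).IsPrincipal := ⟨⟨f, rfl⟩⟩
    exact WithBot.coe_le_coe.mpr (Ideal.height_le_one_of_isPrincipal_of_mem_minimalPrimes _ _ hq)
  rw [hdζ, hinf, show i (genericPoint ↥Z) = pt P from hP.symm, hdim, WithBot.coe_add, WithBot.coe_one,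
    add_comm]

end Groth.Agent.S14119
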