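import Groth.Statements.S7449
import Mathlib
import Groth.Agent.CurveTest.Scheme
import Groth.Agent.AffTest.Basic
import Groth.Agent.DVRCrit.Local

set_option autoImplicit false
set_option linter.style.haveILetI false
universe u
open CategoryTheory AlgebraicGeometry
open Lim

open CategoryTheory.Limits

namespace Groth.Agent.S7449

theorem exists_lift_aux {X Y : Scheme.{u}} (f : X ⟶ Y) [QuasiCompact f] (h : UniversallyClosed f)
    (R : CommRingCat.{u}) [IsDomain R] [ValuationRing R]
    (i₁ : Spec (CommRingCat.of (FractionRing R)) ⟶ X) (i₂ : Spec R ⟶ Y)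
    (w : i₁ ≫ f = Spec.map (CommRingCat.ofHom (algebraMap R (FractionRing R))) ≫ i₂) :
    ∃ l : Spec R ⟶ X, l ≫ f = i₂ ∧
      Spec.map (CommRingCat.ofHom (algebraMap R (FractionRing R))) ≫ l = i₁ := by
  have hE : ValuativeCriterion.Existence f :=
    ((UniversallyClosed.eq_valuativeCriterion.le _ _ f) h).1
  obtain ⟨l, h1, h2⟩ := (hE (DVRCrit.mkSq f R (FractionRing R) i₁ i₂ w)).exists_lift
  exact ⟨l, h2, h1⟩

/-- Let `S` be a Nagata scheme, `X`, `Y` locally of finite type over `S` and `f : X → Y` a quasi-compact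
morphism over `S`. Then `f` is universally closed if and only if for every commutative diagram `U →
X`, `C → Y` over `S` where `C` is a normal integral scheme of finite type over `S`, `c ∈ C` is a
closed point whose local ring `A = O_{C,c}` has dimension `1` and `U = C ∖ {c}`, there is a morphism
`Spec A → X` making the square `Spec K → X`, `Spec A → Y` (with `K = Frac A`, `Spec K → X` through
`U`, `Spec A → Y` through `C`) commute. -/
theorem result (S : Scheme.{u}) (hS : ∀ W : S.affineOpens, CAlg.IsNagata Γ(S, W))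
    {X Y : Scheme.{u}} (p : X ⟶ S) (q : Y ⟶ S) [LocallyOfFiniteType p] [LocallyOfFiniteType q] (f : X ⟶ Y)
    (hf : f ≫ q = p) [QuasiCompact f] :
    UniversallyClosed f ↔
      ∀ (C : Scheme.{u}) (r : C ⟶ S) [IsIntegral C] [LocallyOfFiniteType r] [QuasiCompact r],
        (∀ x : C, IsIntegrallyClosed (C.presheaf.stalk x)) →
        ∀ (c : C), IsClosed ({c} : Set C) → ringKrullDim (C.presheaf.stalk c) = 1 →
        ∀ (U : C.Opens), (U : Set C) = {c}ᶜ →
        ∀ (u : (U : Scheme.{u}) ⟶ X) (g : C ⟶ Y), g ≫ q = r → u ≫ f = U.ι ≫ g →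
        ∀ (k : Spec (CommRingCat.of (FractionRing (C.presheaf.stalk c))) ⟶ (U : Scheme.{u})),
          k ≫ U.ι = Spec.map (CommRingCat.ofHom (algebraMap (C.presheaf.stalk c)
            (FractionRing (C.presheaf.stalk c)))) ≫ C.fromSpecStalk c →
        ∃ l : Spec (C.presheaf.stalk c) ⟶ X, l ≫ f = C.fromSpecStalk c ≫ g ∧
          Spec.map (CommRingCat.ofHom (algebraMap (C.presheaf.stalk c) (FractionRing (C.presheaf.stalk c)))) ≫ l =
            k ≫ u := by
  constructor
  · intro h C r _ _ _ hn c hc hd U hU u g hg hu k hk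
    haveI : IsLocallyNoetherian S := by
      rw [isLocallyNoetherian_iff_of_iSup_eq_top (S := fun W : S.affineOpens => W) (iSup_affineOpens_eq_top S)]
      exact fun W => (hS W).1
    haveI : IsLocallyNoetherian C := LocallyOfFiniteType.isLocallyNoetherian r
    haveI : IsNoetherianRing (C.presheaf.stalk c) := inferInstance
    haveI : IsIntegrallyClosed (C.presheaf.stalk c) := hn c
    have hnf : ¬ IsField (C.presheaf.stalk c) := fun hF => by
      rw [ringKrullDim_eq_zero_of_isField hF] at hd; exact zero_ne_one hd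
    haveI : IsDiscreteValuationRing (C.presheaf.stalk c) := by
      haveI : Ring.KrullDimLE 1 (C.presheaf.stalk c) := Ring.krullDimLE_iff.mpr hd.le
      have htfae : IsDiscreteValuationRing (C.presheaf.stalk c) ↔ IsIntegrallyClosed (C.presheaf.stalk c) ∧
          ∃! P : Ideal (C.presheaf.stalk c), P ≠ ⊥ ∧ P.IsPrime :=
        (IsDiscreteValuationRing.TFAE (C.presheaf.stalk c) hnf).out 0 3
      refine htfae.mpr ⟨inferInstance, ?_⟩
      refine ⟨IsLocalRing.maximalIdeal _, ⟨fun h0 => hnf (IsLocalRing.isField_iff_maximalIdeal_eq.mpr h0), inferInstance⟩, ?_⟩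
      rintro P ⟨hP0, hP⟩
      exact IsLocalRing.eq_maximalIdeal ((Ring.krullDimLE_one_iff_of_noZeroDivisors.mp ‹_›) P hP0 hP)
    exact exists_lift_aux f h (C.presheaf.stalk c) (k ≫ u) (C.fromSpecStalk c ≫ g)
      (by rw [Category.assoc, hu, reassoc_of% hk])
  · intro h
    haveI : IsLocallyNoetherian S := by
      rw [isLocallyNoetherian_iff_of_iSup_eq_top (S := fun W : S.affineOpens => W) (iSup_affineOpens_eq_top S)]
      exact fun W => (hS W).1
    haveI : LocallyOfFiniteType (f ≫ q) := by rw [hf]; infer_instance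
    haveI : LocallyOfFiniteType f := locallyOfFiniteType_of_comp f q
    have H : CurveTest.CurveLift q f := h
    refine (AffTest.universallyClosed_iff_snd f).mpr fun n => ?_
    exact CurveTest.isClosedMap_of_curveLift hS _ (pullback.snd f (𝔸(ULift.{u} (Fin n); Y) ↘ Y))
      (H.baseChange _)

end Groth.Agent.S7449
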