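import Groth.Statements.S14120
import Groth.Agent.S7449
import Groth.Agent.S2654
import Mathlib

set_option autoImplicit false
universe u
open CategoryTheory AlgebraicGeometry
open ValCrit

set_option backward.isDefEq.respectTransparency false
set_option maxHeartbeats 400000

namespace Groth.Agent.S14120

theorem nagata_of_excellent {S : Scheme.{u}} (hS : ∀ U : S.affineOpens, EGA4.IsExcellent Γ(S, U.1))
    (U : S.affineOpens) : CAlg.IsNagata Γ(S, U.1) :=
  S2654.result _ ⟨(hS U).1, (hS U).2.2.1, (hS U).2.2.2⟩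

theorem isDVR_stalk {S C : Scheme.{u}} (hS : ∀ U : S.affineOpens, EGA4.IsExcellent Γ(S, U.1)) (r : C ⟶ S)
    [IsIntegral C] [LocallyOfFiniteType r] (c : C) (hn : IsIntegrallyClosed (C.presheaf.stalk c))
    (hd : ringKrullDim (C.presheaf.stalk c) = 1) : IsDiscreteValuationRing (C.presheaf.stalk c) := by
  haveI : IsLocallyNoetherian S := by
    rw [isLocallyNoetherian_iff_of_iSup_eq_top (S := fun W : S.affineOpens => W) (iSup_affineOpens_eq_top S)]
    exact fun W => (hS W).1
  haveI : IsLocallyNoetherian C := LocallyOfFiniteType.isLocallyNoetherian r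
  haveI := hn
  have hnf : ¬ IsField (C.presheaf.stalk c) := fun hF => by
    rw [ringKrullDim_eq_zero_of_isField hF] at hd; exact zero_ne_one hd
  haveI : Ring.KrullDimLE 1 (C.presheaf.stalk c) := Ring.krullDimLE_iff.mpr hd.le
  have htfae : IsDiscreteValuationRing (C.presheaf.stalk c) ↔ IsIntegrallyClosed (C.presheaf.stalk c) ∧
      ∃! P : Ideal (C.presheaf.stalk c), P ≠ ⊥ ∧ P.IsPrime :=
    (IsDiscreteValuationRing.TFAE (C.presheaf.stalk c) hnf).out 0 3
  refine htfae.mpr ⟨inferInstance, IsLocalRing.maximalIdeal _,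
    ⟨fun h0 => hnf (IsLocalRing.isField_iff_maximalIdeal_eq.mpr h0), inferInstance⟩, ?_⟩
  rintro P ⟨hP0, hP⟩
  exact IsLocalRing.eq_maximalIdeal ((Ring.krullDimLE_one_iff_of_noZeroDivisors.mp ‹_›) P hP0 hP)

theorem exists_essFiniteType {S C : Scheme.{u}} (r : C ⟶ S) [LocallyOfFiniteType r] (c : C) :
    ∃ (U : S.affineOpens) (φ : Γ(S, U.1) ⟶ C.presheaf.stalk c),
      Spec.map φ ≫ U.2.fromSpec = C.fromSpecStalk c ≫ r ∧ φ.hom.EssFiniteType := by
  obtain ⟨U, hU, hx, -⟩ := exists_isAffineOpen_mem_and_subset (x := r c) (U := (⊤ : S.Opens)) trivial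
  refine ⟨⟨U, hU⟩, S.presheaf.germ U (r c) hx ≫ r.stalkMap c, ?_, ?_⟩
  · rw [← Scheme.SpecMap_stalkMap_fromSpecStalk, Spec.map_comp, Category.assoc,
      ← hU.fromSpecStalk_eq_fromSpecStalk hx]
    rfl
  · refine RingHom.EssFiniteType.comp ?_ (LocallyOfFiniteType.stalkMap r c)
    letI := TopCat.Presheaf.algebra_section_stalk S.presheaf (⟨r c, hx⟩ : U)
    have := hU.isLocalization_stalk ⟨r c, hx⟩
    exact RingHom.essFiniteType_algebraMap.mpr
      (Algebra.EssFiniteType.of_isLocalization _ (hU.primeIdealOf ⟨r c, hx⟩).asIdeal.primeCompl)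

/-- For schemes, let every affine open of the base `S` have excellent coordinate ring, let `g : Y ⟶ S`
be locally of finite type and `f : X ⟶ Y` quasi-compact and locally of finite type. Then the
existence part of the valuative criterion for `f` over discrete valuation rings (every commutative
square `Spec K ⟶ X`, `Spec R ⟶ Y` with `R` a discrete valuation ring and `K` its fraction field has
a lift `Spec R ⟶ X`) holds as soon as it holds for the squares whose ring `R` is essentially of
finite type over `S`, i.e. `Spec R ⟶ Y ⟶ S` factors through some affine open `U` of `S` by a ring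
map `Γ(S, U) ⟶ R` that is essentially of finite type; and conversely. (The published statement is
for algebraic spaces and treats existence and uniqueness together; this row is the existence half
for schemes.) -/
theorem result (S : Scheme.{u})
    (hS : ∀ U : S.affineOpens, EGA4.IsExcellent Γ(S, U.1))
    {X Y : Scheme.{u}} (f : X ⟶ Y) (g : Y ⟶ S)
    [QuasiCompact f] [LocallyOfFiniteType f] [LocallyOfFiniteType g] :
    (∀ sq : ValuativeCommSq f, IsDiscreteValuationRing sq.R → sq.commSq.HasLift) ↔
    (∀ sq : ValuativeCommSq f, IsDiscreteValuationRing sq.R →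
      (∃ (U : S.affineOpens) (φ : Γ(S, U.1) ⟶ CommRingCat.of sq.R),
        Spec.map φ ≫ U.2.fromSpec = sq.i₂ ≫ g ∧ φ.hom.EssFiniteType) →
      sq.commSq.HasLift) := by
  refine ⟨fun h sq hsq _ => h sq hsq, fun h sq _ => ?_⟩
  have hu : UniversallyClosed f := (S7449.result S (nagata_of_excellent hS) (f ≫ g) g f rfl).2
    fun C r _ _ _ hn c hc hd U hU u q hq hu k hk => by
      haveI := isDVR_stalk hS r c (hn c) hd
      obtain ⟨U₀, φ, hφ, hess⟩ := exists_essFiniteType r c
      obtain ⟨l, h1, h2⟩ := (h (DVRCrit.mkSq f (C.presheaf.stalk c) (FractionRing (C.presheaf.stalk c)) (k ≫ u)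
        (C.fromSpecStalk c ≫ q) (by rw [Category.assoc, hu, reassoc_of% hk])) ‹_›
        ⟨U₀, φ, by rw [hφ, ← hq]; exact (Category.assoc _ _ _).symm, hess⟩).exists_lift
      exact ⟨l, h2, h1⟩
  exact (UniversallyClosed.eq_valuativeCriterion.le _ _ f hu).1 sq

end Groth.Agent.S14120
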