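import Groth.Statements.S7450
import Mathlib
import Groth.Agent.CurveTest.Scheme
import Groth.Agent.DVRCrit.Scheme

set_option autoImplicit false
set_option linter.style.haveILetI false
universe u
open CategoryTheory AlgebraicGeometry
open Lim

open CategoryTheory.Limits

namespace Groth.Agent.S7450

/-- Assume `S` is a Nagata scheme and `f : X → Y` is a morphism over `S` between schemes `X`, `Y` that
are locally of finite type over `S`. Then `f` is separated exactly when the following holds. Take
any normal integral scheme `C` of finite type over `S` and a closed point `c ∈ C` such that the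
local ring `A = O_{C,c}` is one-dimensional, put `U = C ∖ {c}`, and consider any commutative diagram
of `S`-schemes formed by `U → X` and `C → Y`. Then at most one morphism `Spec A → X` makes the
square with `Spec K → X` and `Spec A → Y` commute. -/
theorem result (S : Scheme.{u}) (hS : ∀ W : S.affineOpens, CAlg.IsNagata Γ(S, W))
    {X Y : Scheme.{u}} (p : X ⟶ S) (q : Y ⟶ S) [LocallyOfFiniteType p] [LocallyOfFiniteType q] (f : X ⟶ Y)
    (hf : f ≫ q = p) :
    IsSeparated f ↔
      ∀ (C : Scheme.{u}) (r : C ⟶ S) [IsIntegral C] [LocallyOfFiniteType r] [QuasiCompact r],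
        (∀ x : C, IsIntegrallyClosed (C.presheaf.stalk x)) →
        ∀ (c : C), IsClosed ({c} : Set C) → ringKrullDim (C.presheaf.stalk c) = 1 →
        ∀ (U : C.Opens), (U : Set C) = {c}ᶜ →
        ∀ (u : (U : Scheme.{u}) ⟶ X) (g : C ⟶ Y), g ≫ q = r → u ≫ f = U.ι ≫ g →
        ∀ (k : Spec (CommRingCat.of (FractionRing (C.presheaf.stalk c))) ⟶ (U : Scheme.{u})),
          k ≫ U.ι = Spec.map (CommRingCat.ofHom (algebraMap (C.presheaf.stalk c)
            (FractionRing (C.presheaf.stalk c)))) ≫ C.fromSpecStalk c →
        ∀ l l' : Spec (C.presheaf.stalk c) ⟶ X,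
          l ≫ f = C.fromSpecStalk c ≫ g →
          Spec.map (CommRingCat.ofHom (algebraMap (C.presheaf.stalk c) (FractionRing (C.presheaf.stalk c)))) ≫ l =
            k ≫ u →
          l' ≫ f = C.fromSpecStalk c ≫ g →
          Spec.map (CommRingCat.ofHom (algebraMap (C.presheaf.stalk c) (FractionRing (C.presheaf.stalk c)))) ≫ l' =
            k ≫ u → l = l' := by
  constructor
  · intro _ C r _ _ _ hn c hc hd U hU u g hg hu k hk l l' hl hlk hl' hl'k
    exact DVRCrit.ext_of_isSeparated (A := C.presheaf.stalk c) f (hl.trans hl'.symm) (hlk.trans hl'k.symm)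
  · intro h
    haveI : IsLocallyNoetherian S := by
      rw [isLocallyNoetherian_iff_of_iSup_eq_top (S := fun W : S.affineOpens => W) (iSup_affineOpens_eq_top S)]
      exact fun W => (hS W).1
    haveI : LocallyOfFiniteType (f ≫ q) := by rw [hf]; infer_instance
    haveI : LocallyOfFiniteType f := locallyOfFiniteType_of_comp f q
    haveI : IsLocallyNoetherian Y := LocallyOfFiniteType.isLocallyNoetherian q
    haveI : IsLocallyNoetherian X := LocallyOfFiniteType.isLocallyNoetherian p
    haveI : LocallyOfFiniteType (pullback.fst f f ≫ p) := inferInstance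
    haveI : IsLocallyNoetherian (pullback f f) := LocallyOfFiniteType.isLocallyNoetherian (pullback.fst f f ≫ p)
    have H : CurveTest.CurveLift (pullback.fst f f ≫ p) (pullback.diagonal f) := by
      intro C r _ _ _ hn c hc hd U hU u g hg hu k hk
      have hfst : u = U.ι ≫ g ≫ pullback.fst f f := by
        rw [← reassoc_of% hu, pullback.diagonal_fst, Category.comp_id]
      have hsnd : u = U.ι ≫ g ≫ pullback.snd f f := by
        rw [← reassoc_of% hu, pullback.diagonal_snd, Category.comp_id]
      have hcond : (u ≫ f) = U.ι ≫ (g ≫ pullback.fst f f ≫ f) := by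
        rw [hfst]; simp only [Category.assoc]
      have e := h C r hn c hc hd U hU u (g ≫ pullback.fst f f ≫ f)
        (by rw [← hg]; simp only [Category.assoc, hf]) hcond k hk
        (C.fromSpecStalk c ≫ g ≫ pullback.fst f f) (C.fromSpecStalk c ≫ g ≫ pullback.snd f f)
        (by simp only [Category.assoc])
        (by rw [← reassoc_of% hk, ← hfst])
        (by simp only [Category.assoc, pullback.condition])
        (by rw [← reassoc_of% hk, ← hsnd])
      refine ⟨C.fromSpecStalk c ≫ g ≫ pullback.fst f f, ?_, by rw [← reassoc_of% hk, ← hfst]⟩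
      apply pullback.hom_ext
      · simp only [Category.assoc, pullback.diagonal_fst, Category.comp_id]
      · simp only [Category.assoc, pullback.diagonal_snd, Category.comp_id]
        exact e
    constructor
    refine IsClosedImmersion.of_isPreimmersion _ ?_
    exact (CurveTest.isClosedMap_of_curveLift hS (pullback.fst f f ≫ p) _ H).isClosed_range

end Groth.Agent.S7450
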