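import Mathlib

/-!
# Elements of finite order of `GL_N` of a fraction field are conjugate to integral ones
-/

set_option autoImplicit false
set_option linter.style.haveILetI false

universe u

noncomputable section

namespace Groth.Agent.StableLattice

open Matrix

theorem exists_conj_integral (R : Type u) [CommRing R] [IsDomain R] [IsPrincipalIdealRing R]
    (K : Type u) [Field K] [Algebra R K] [IsFractionRing R K]
    (N : ℕ) (g : GL (Fin N) K) (hg : IsOfFinOrder g) :
    ∃ (h : GL (Fin N) K) (g' : GL (Fin N) R),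
      h * g * h⁻¹ = Matrix.GeneralLinearGroup.map (algebraMap R K) g' := by
  classical
  haveI : Finite (Subgroup.zpowers g) := by
    rw [← SetLike.coe_sort_coe]
    exact hg.finite_zpowers.to_subtype
  haveI : Fintype (Subgroup.zpowers g) := Fintype.ofFinite _
  let F : Subgroup.zpowers g × Fin N → (Fin N → K) :=
    fun x => (((x.1 : GL (Fin N) K) : Matrix (Fin N) (Fin N) K)).mulVec (Pi.single x.2 1)
  let L : Submodule R (Fin N → K) := Submodule.span R (Set.range F)
  haveI : Module.Finite R L := Module.Finite.span_of_finite R (Set.finite_range F)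
  haveI : Module.IsTorsionFree R K :=
    Module.isTorsionFree_iff_algebraMap_injective.2 (IsFractionRing.injective R K)
  let b := Module.Free.chooseBasis R L
  let v := fun i => (b i : Fin N → K)
  have hli : LinearIndependent K v := by
    rw [← LinearIndependent.iff_fractionRing R K]
    exact b.linearIndependent.map' L.subtype L.ker_subtype
  have hsp : ⊤ ≤ Submodule.span K (Set.range v) := by
    rw [← (Pi.basisFun K (Fin N)).span_eq, Submodule.span_le]
    rintro _ ⟨j, rfl⟩
    have hj : (Pi.single j 1 : Fin N → K) ∈ L :=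
      Submodule.subset_span ⟨(⟨1, one_mem _⟩, j), Matrix.one_mulVec _⟩
    have h1 : ((∑ i, b.repr ⟨_, hj⟩ i • b i : L) : Fin N → K) = Pi.single j 1 :=
      congrArg Subtype.val (b.sum_repr ⟨_, hj⟩)
    rw [Pi.basisFun_apply, SetLike.mem_coe, ← h1, Submodule.coe_sum]
    refine Submodule.sum_mem _ fun i _ => ?_
    rw [Submodule.coe_smul, ← IsScalarTower.algebraMap_smul K]
    exact Submodule.smul_mem _ _ (Submodule.subset_span ⟨i, rfl⟩)
  let bK₀ := Module.Basis.mk hli hsp
  let e := bK₀.indexEquiv (Pi.basisFun K (Fin N))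
  let bK := bK₀.reindex e
  let bR := b.reindex e
  have hb : ∀ j, bK j = (bR j : Fin N → K) := fun j => by simp [bK, bK₀, bR, v]
  let Φ : Matrix (Fin N) (Fin N) K ≃ₐ[K] Matrix (Fin N) (Fin N) K :=
    Matrix.toLinAlgEquiv'.trans (LinearMap.toMatrixAlgEquiv bK)
  have hstab : ∀ (x : Subgroup.zpowers g) (w : Fin N → K), w ∈ L →
      (((x : GL (Fin N) K) : Matrix (Fin N) (Fin N) K)).mulVec w ∈ L := by
    intro x w hw
    refine Submodule.span_induction ?_ (by simp) ?_ ?_ hw
    · rintro _ ⟨⟨y, j⟩, rfl⟩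
      refine Submodule.subset_span ⟨(x * y, j), ?_⟩
      show (((x : GL (Fin N) K) * (y : GL (Fin N) K) : GL (Fin N) K) : Matrix (Fin N) (Fin N) K).mulVec
          (Pi.single j 1) = Matrix.mulVec _ (Matrix.mulVec _ (Pi.single j 1))
      rw [Matrix.mulVec_mulVec]
      rfl
    · intro w w' _ _ h h'
      rw [Matrix.mulVec_add]
      exact add_mem h h'
    · intro r w _ h
      rw [Matrix.mulVec_smul]
      exact Submodule.smul_mem _ _ h
  have hint : ∀ x : Subgroup.zpowers g, ∃ A : Matrix (Fin N) (Fin N) R,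
      A.map (algebraMap R K) = Φ ((x : GL (Fin N) K) : Matrix (Fin N) (Fin N) K) := by
    intro x
    refine ⟨fun i j => bR.repr ⟨_, hstab x _ (bR j).2⟩ i, ?_⟩
    ext i j
    show algebraMap R K (bR.repr ⟨_, hstab x _ (bR j).2⟩ i) = LinearMap.toMatrixAlgEquiv bK
      (Matrix.toLinAlgEquiv' ((x : GL (Fin N) K) : Matrix (Fin N) (Fin N) K)) i j
    rw [LinearMap.toMatrixAlgEquiv_apply, Matrix.toLinAlgEquiv'_apply, hb j]
    have h1 : ((∑ l, bR.repr ⟨_, hstab x _ (bR j).2⟩ l • bR l : L) : Fin N → K) =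
        (((x : GL (Fin N) K) : Matrix (Fin N) (Fin N) K)).mulVec (bR j : Fin N → K) :=
      congrArg Subtype.val (bR.sum_repr ⟨_, hstab x _ (bR j).2⟩)
    generalize bR.repr ⟨_, hstab x _ (bR j).2⟩ = r at h1 ⊢
    rw [Submodule.coe_sum] at h1
    conv_rhs => rw [← h1]
    simp only [Submodule.coe_smul, ← hb]
    rw [Finset.sum_congr rfl fun l _ => (IsScalarTower.algebraMap_smul K
      (r l) (bK l)).symm, Module.Basis.repr_sum_self]
  choose A hA using hint
  have hmul : ∀ x y, A x * A y = A (x * y) := fun x y => by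
    apply Matrix.map_injective (IsFractionRing.injective R K)
    show (A x * A y).map (algebraMap R K) = (A (x * y)).map (algebraMap R K)
    rw [Matrix.map_mul, hA, hA, hA, ← map_mul]
    rfl
  have hone : A 1 = 1 := by
    apply Matrix.map_injective (IsFractionRing.injective R K)
    show (A 1).map (algebraMap R K) = (1 : Matrix (Fin N) (Fin N) R).map (algebraMap R K)
    rw [hA, Matrix.map_one _ (map_zero _) (map_one _)]
    exact map_one Φ
  let x : Subgroup.zpowers g := ⟨g, Subgroup.mem_zpowers g⟩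
  let g' : GL (Fin N) R := ⟨A x, A x⁻¹, by rw [hmul, mul_inv_cancel, hone],
    by rw [hmul, inv_mul_cancel, hone]⟩
  let h : GL (Fin N) K := ⟨bK.toMatrix (Pi.basisFun K (Fin N)), (Pi.basisFun K (Fin N)).toMatrix bK,
    bK.toMatrix_mul_toMatrix_flip _, (Pi.basisFun K (Fin N)).toMatrix_mul_toMatrix_flip _⟩
  refine ⟨h, g', Units.ext ?_⟩
  show bK.toMatrix (Pi.basisFun K (Fin N)) * (g : Matrix (Fin N) (Fin N) K) *
    (Pi.basisFun K (Fin N)).toMatrix bK = (A x).map (algebraMap R K)
  rw [hA]
  have hd := basis_toMatrix_mul_linearMap_toMatrix_mul_basis_toMatrix bK (Pi.basisFun K (Fin N)) bK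
    (Pi.basisFun K (Fin N)) (Matrix.toLin' (g : Matrix (Fin N) (Fin N) K))
  rw [LinearMap.toMatrix_eq_toMatrix', LinearMap.toMatrix'_toLin'] at hd
  exact hd

end Groth.Agent.StableLattice
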