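import Groth.Statements.S14123
import Groth.Agent.RamExtLib.Basic
-- import your own Groth.Agent.* helpers here

set_option autoImplicit false
set_option backward.isDefEq.respectTransparency false
universe u v
open GmQuot

namespace Groth.Agent.S14123

/-- Let `A = ⊕_{d ∈ ℤ} A_d` be a graded commutative ring whose ideal `I₊` generated by the homogeneous
elements of positive degree is finitely generated, `R` a discrete valuation ring with fraction field
`K`, and `φ : A → R` a ring map with `φ(I₊) ≠ 0` and `φ(I₊)` inside the maximal ideal. Then after a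
finite extension `K'/K` and a discrete valuation ring `R'` of `K'` dominating `R` there are a
nonzero non-unit `ϖ ∈ R'` and a ring map `g : A → R'` with `g(a) ϖ^d = φ(a)` for every homogeneous
`a` of degree `d` (so `g` is `φ` rescaled through the grading by `ϖ`), such that `g(I₊) R' = R'`.
(The published statement is phrased for the quotient stack of `Spec A` by the multiplicative group
and its closed substack cut out by `I₊`, in a setting where `A` is Noetherian, being of finite type
over a Noetherian base: an `R`-point whose closed point lies in that substack and whose generic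
point does not admits, after a finite extension, an elementary modification avoiding the substack;
this row is the graded-ring statement the printed argument proves, assuming only that `I₊` is
finitely generated, which is all that argument uses, and with `ϖ` not required to be a uniformizer.) -/
theorem result
    {A : Type u} [CommRing A] (𝒜 : ℤ → AddSubgroup A) [GradedRing 𝒜]
    (hfg : (Ideal.span {a : A | ∃ d : ℤ, 0 < d ∧ a ∈ 𝒜 d}).FG)
    (R : Type v) [CommRing R] [IsDomain R] [IsDiscreteValuationRing R]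
    (K : Type v) [Field K] [Algebra R K] [IsFractionRing R K]
    (φ : A →+* R)
    (hle : Ideal.map φ (Ideal.span {a : A | ∃ d : ℤ, 0 < d ∧ a ∈ 𝒜 d}) ≤ IsLocalRing.maximalIdeal R)
    (hne : Ideal.map φ (Ideal.span {a : A | ∃ d : ℤ, 0 < d ∧ a ∈ 𝒜 d}) ≠ ⊥) :
    ∃ (R' : Type v) (_ : CommRing R') (_ : IsDomain R') (_ : IsDiscreteValuationRing R')
      (K' : Type v) (_ : Field K') (_ : Algebra R' K') (_ : IsFractionRing R' K')
      (_ : Algebra R R') (_ : Algebra K K') (_ : Algebra R K')
      (_ : IsScalarTower R R' K') (_ : IsScalarTower R K K')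
      (_ : Module.Finite K K') (_ : IsLocalHom (algebraMap R R'))
      (ϖ : R') (g : A →+* R'),
      ϖ ≠ 0 ∧ ϖ ∈ IsLocalRing.maximalIdeal R' ∧
      (∀ (d : ℤ) (a : A), a ∈ 𝒜 d →
        algebraMap R' K' (g a) * algebraMap R' K' ϖ ^ d = algebraMap R K' (φ a)) ∧
      Ideal.map g (Ideal.span {a : A | ∃ d : ℤ, 0 < d ∧ a ∈ 𝒜 d}) = ⊤ := by
  classical
  let Ipos : Set A := {a : A | ∃ d : ℤ, 0 < d ∧ a ∈ 𝒜 d}
  obtain ⟨gens, hgs, hgspan⟩ := (Submodule.fg_span_iff_fg_span_finset_subset Ipos).1 hfg
  choose deg hdeg0 hdeg using fun a : gens => (hgs a.2 : ∃ d : ℤ, 0 < d ∧ (a : A) ∈ 𝒜 d)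
  obtain ⟨π, hπ⟩ := IsDiscreteValuationRing.exists_irreducible R
  have hord : ∀ a : gens, φ a ≠ 0 → ∃ n : ℕ, 0 < n ∧ Associated (φ a) (π ^ n) := fun a ha => by
    obtain ⟨n, hn⟩ := IsDiscreteValuationRing.associated_pow_irreducible ha hπ
    refine ⟨n, Nat.pos_of_ne_zero fun h0 => ?_, hn⟩
    rw [h0, pow_zero, associated_one_iff_isUnit] at hn
    exact (IsLocalRing.mem_maximalIdeal _).1 (hle (Ideal.mem_map_of_mem φ (Ideal.subset_span (hgs a.2)))) hn
  choose n hn0 hn using hord
  let nz : Finset gens := Finset.univ.filter fun a => φ a ≠ 0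
  have hnz : nz.Nonempty := by
    by_contra h
    refine hne ?_
    have hspan : Ideal.span Ipos = Ideal.span (gens : Set A) := hgspan
    rw [show Ideal.span {a : A | ∃ d : ℤ, 0 < d ∧ a ∈ 𝒜 d} = Ideal.span (gens : Set A) from hspan, Ideal.map_span,
      Ideal.span_eq_bot]
    rintro _ ⟨a, ha, rfl⟩
    by_contra h0
    exact h ⟨⟨a, ha⟩, Finset.mem_filter.2 ⟨Finset.mem_univ _, h0⟩⟩
  let ratio : gens → ℚ := fun a => if h : φ a ≠ 0 then (n a h : ℚ) / (deg a : ℚ) else 0
  obtain ⟨a₀, ha₀, hmin⟩ := nz.exists_min_image ratio hnz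
  have ha₀' : φ a₀ ≠ 0 := (Finset.mem_filter.1 ha₀).2
  set D := (deg a₀).toNat with hD
  have hD0 : 0 < D := by have := hdeg0 a₀; omega
  have hDd : (D : ℤ) = deg a₀ := Int.toNat_of_nonneg (hdeg0 a₀).le
  set n₀ := n a₀ ha₀' with hn₀
  have hineq : ∀ (a : gens) (h : φ a ≠ 0), (n₀ : ℤ) * deg a ≤ (n a h : ℤ) * deg a₀ := fun a h => by
    have := hmin a (Finset.mem_filter.2 ⟨Finset.mem_univ _, h⟩)
    simp only [ratio, dif_pos h, dif_pos ha₀'] at this
    have e1 : (0 : ℚ) < (deg a₀ : ℚ) := by exact_mod_cast hdeg0 a₀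
    have e2 : (0 : ℚ) < (deg a : ℚ) := by exact_mod_cast hdeg0 a
    rw [div_le_div_iff₀ e1 e2] at this
    exact_mod_cast this
  obtain ⟨R', _, _, _, K', _, _, _, _, _, _, _, _, _, _, T, hT, hTD⟩ := Groth.Agent.RamExtLib.exists_root hπ hD0 K
  let jK : R' →+* K' := algebraMap R' K'
  have hj : Function.Injective jK := IsFractionRing.injective R' K'
  set ϖ : R' := T ^ n₀ with hϖ
  have hϖ0 : ϖ ≠ 0 := pow_ne_zero _ hT.ne_zero
  have hw : jK ϖ ≠ 0 := fun h => hϖ0 (hj (h.trans (map_zero jK).symm))
  let h : ∀ d : ℤ, 𝒜 d →+ K' := fun d =>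
    { toFun := fun a => algebraMap R K' (φ a) * jK ϖ ^ (-d)
      map_zero' := by simp
      map_add' := fun a b => by simp [add_mul] }
  let Φ : A →+* K' := (DirectSum.toSemiring h
    (by show algebraMap R K' (φ 1) * jK ϖ ^ (-(0 : ℤ)) = 1; simp)
    (fun {i j} ai aj => by
      show algebraMap R K' (φ ((ai : A) * aj)) * jK ϖ ^ (-(i + j)) = _ * jK ϖ ^ (-i) * (_ * jK ϖ ^ (-j))
      rw [map_mul, map_mul, neg_add, zpow_add₀ hw]
      ring)).comp (DirectSum.decomposeRingEquiv 𝒜).toRingHom
  have hΦ : ∀ (d : ℤ) (a : A), a ∈ 𝒜 d → Φ a = algebraMap R K' (φ a) * jK ϖ ^ (-d) := fun d a ha => by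
    simp only [Φ, RingHom.comp_apply, RingEquiv.toRingHom_eq_coe, RingEquiv.coe_toRingHom, DirectSum.decomposeRingEquiv,
      RingEquiv.symm_mk]
    dsimp
    rw [DirectSum.decomposeAddEquiv_apply, DirectSum.decompose_of_mem 𝒜 ha, DirectSum.toSemiring_of]
    rfl
  -- the generators
  have hgen : ∀ a : gens, ∃ r : R', jK r = algebraMap R K' (φ a) * jK ϖ ^ (-deg a) ∧ (a = a₀ → IsUnit r) := by
    intro a
    by_cases h0 : φ a = 0
    · exact ⟨0, by rw [h0, map_zero, map_zero, zero_mul], fun e => absurd (e ▸ h0) ha₀'⟩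
    · obtain ⟨u, hu⟩ := (hn a h0).symm
      set da := (deg a).toNat with hda
      have hdd : (da : ℤ) = deg a := Int.toNat_of_nonneg (hdeg0 a).le
      have hle' : n₀ * da ≤ n a h0 * D := by
        zify
        rw [hdd, hDd]
        exact hineq a h0
      obtain ⟨k, hk⟩ := Nat.exists_eq_add_of_le hle'
      refine ⟨algebraMap R R' u * T ^ k, ?_, fun e => ?_⟩
      · have e1 : algebraMap R R' (φ a) = algebraMap R R' u * T ^ k * ϖ ^ da := by
          rw [← hu, map_mul, map_pow, ← hTD, ← pow_mul, mul_comm D, hk, hϖ, ← pow_mul, pow_add]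
          ring
        rw [IsScalarTower.algebraMap_apply R R' K', e1]
        show jK _ = jK (algebraMap R R' u * T ^ k * ϖ ^ da) * _
        rw [map_mul jK (algebraMap R R' u * T ^ k) (ϖ ^ da), map_pow jK ϖ, ← hdd, zpow_neg, zpow_natCast,
          mul_assoc, mul_inv_cancel₀ (pow_ne_zero _ hw), mul_one]
      · subst e
        have : k = 0 := by
          have h1 : n₀ * da = n a h0 * D := rfl
          omega
        rw [this, pow_zero, mul_one]
        exact u.isUnit.map _
  choose rg hrg hrgu using hgen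
  have hint : ∀ (m : ℕ) (d : ℤ), d ≤ m → ∀ a ∈ 𝒜 d, ∃ r : R', jK r = Φ a := by
    intro m
    induction m using Nat.strong_induction_on with
    | _ m ih =>
      intro d hd a ha
      rw [hΦ d a ha]
      rcases le_or_gt d 0 with hd0 | hd0
      · refine ⟨algebraMap R R' (φ a) * ϖ ^ (-d).toNat, ?_⟩
        rw [map_mul, map_pow, ← IsScalarTower.algebraMap_apply, ← zpow_natCast, Int.toNat_of_nonneg (by omega)]
      · have hmem : a ∈ Ideal.span (gens : Set A) := by
          have hspan : Ideal.span Ipos = Ideal.span (gens : Set A) := hgspan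
          rw [← hspan]; exact Ideal.subset_span ⟨d, hd0, ha⟩
        rw [show (gens : Set A) = Set.range ((↑) : gens → A) from Subtype.range_coe.symm,
          Ideal.mem_span_range_iff_exists_fun] at hmem
        obtain ⟨c, hc⟩ := hmem
        let c' : gens → A := fun g => (DirectSum.decompose 𝒜 (c g) (d - deg g) : A)
        have ha' : a = ∑ g, c' g * (g : A) := by
          have h1 : (DirectSum.decompose 𝒜 a d : A) = a := DirectSum.decompose_of_mem_same 𝒜 ha
          conv_lhs => rw [← h1, ← hc]
          rw [DirectSum.decompose_sum, DFinsupp.finsetSum_apply, AddSubgroup.val_finsetSum]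
          refine Finset.sum_congr rfl fun g _ => ?_
          have := DirectSum.coe_decompose_mul_add_of_right_mem 𝒜 (i := d - deg g) (a := c g) (hdeg g)
          rwa [sub_add_cancel] at this
        have hc' : ∀ g : gens, ∃ r : R', jK r = Φ (c' g) := fun g =>
          ih (m - 1) (by omega) (d - deg g) (by have := hdeg0 g; omega) _ (DirectSum.decompose 𝒜 (c g) (d - deg g)).2
        choose rc hrc using hc'
        refine ⟨∑ g, rc g * rg g, ?_⟩
        rw [map_sum, ← hΦ d a ha, ha', map_sum]
        refine Finset.sum_congr rfl fun g _ => ?_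
        rw [map_mul, map_mul, hrc, hrg, hΦ _ _ (hdeg g)]
  have hrange : ∀ a : A, ∃ r : R', jK r = Φ a := fun a => by
    induction a using DirectSum.Decomposition.inductionOn 𝒜 with
    | zero => exact ⟨0, by rw [map_zero, map_zero]⟩
    | @homogeneous i m => exact hint i.toNat i (by omega) _ m.2
    | add a b ha hb =>
      obtain ⟨r, hr⟩ := ha
      obtain ⟨r', hr'⟩ := hb
      exact ⟨r + r', by rw [map_add, map_add, hr, hr']⟩
  choose g hg using hrange
  let gh : A →+* R' :=
    { toFun := g
      map_one' := hj (by rw [hg, map_one, map_one])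
      map_mul' := fun a b => hj (by rw [hg, map_mul, map_mul, hg, hg])
      map_zero' := hj (by rw [hg, map_zero, map_zero])
      map_add' := fun a b => hj (by rw [hg, map_add, map_add, hg, hg]) }
  refine ⟨R', inferInstance, inferInstance, inferInstance, K', inferInstance, inferInstance, inferInstance, inferInstance,
    inferInstance, inferInstance, inferInstance, inferInstance, inferInstance, inferInstance, ϖ, gh, hϖ0, ?_, fun d a ha => ?_, ?_⟩
  · rw [IsLocalRing.mem_maximalIdeal]
    exact fun h => hT.not_isUnit (isUnit_pow_iff (hn0 a₀ ha₀').ne' |>.1 h)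
  · show jK (g a) * jK ϖ ^ d = _
    rw [hg, hΦ d a ha, mul_assoc, ← zpow_add₀ hw, neg_add_cancel, zpow_zero, mul_one]
  · refine Ideal.eq_top_of_isUnit_mem _ (Ideal.mem_map_of_mem gh (Ideal.subset_span (hgs a₀.2))) ?_
    have : g a₀ = rg a₀ := hj (by rw [hg, hrg, hΦ _ _ (hdeg a₀)])
    show IsUnit (g a₀)
    rw [this]
    exact hrgu a₀ rfl

end Groth.Agent.S14123
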