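import Mathlib
import Groth.Agent.AcyclicLemma.Basic
import Groth.Agent.RegLocal.Basic
import Groth.Statements.S14128

set_option autoImplicit false
universe u
open CategoryTheory CategoryTheory.Limits
open LocAlg

namespace Groth.Agent.S14128

set_option linter.style.haveILetI false
/-- Let R be a regular local ring of Krull dimension g and M = (M^0 → M^1 → ⋯ → M^g) a perfect complex
over R, here a cochain complex of finitely generated free R-modules indexed by ℕ with M^i = 0 for i
> g, such that every cohomology module H^i(M) has finite length. Then H^i(M) = 0 for all i < g, so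
that M has cohomology at most in degree g. -/
theorem result (R : Type u) [CommRing R]
    [IsRegularLocalRing R] (g : ℕ) (hg : ringKrullDim R = g) (M : CochainComplex (ModuleCat.{u} R) ℕ)
    (hbd : ∀ i, g < i → IsZero (M.X i)) (hfree : ∀ i, Module.Free R (M.X i) ∧ Module.Finite R (M.X i))
    (hfl : ∀ i, IsFiniteLength R (M.homology i)) (i : ℕ) (hi : i < g) :
    IsZero (M.homology i) := by
  classical
  obtain ⟨x, hx⟩ : ∃ x : Fin g → R, Ideal.span (Set.range x) = IsLocalRing.maximalIdeal R := by
    have hfg := (IsLocalRing.maximalIdeal R).fg_of_isNoetherianRing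
    have hn : (IsLocalRing.maximalIdeal R).spanFinrank = g := by
      have := (IsRegularLocalRing.spanFinrank_maximalIdeal (R := R))
      rw [hg] at this
      exact_mod_cast this
    obtain ⟨s, hs, hcard⟩ : ∃ s : Set R, Ideal.span s = IsLocalRing.maximalIdeal R ∧ s.Finite ∧ s.ncard = g :=
      ⟨_, Submodule.span_generators _, Submodule.FG.finite_generators hfg, (Submodule.FG.generators_ncard hfg).trans hn⟩
    haveI := hcard.1.fintype
    obtain ⟨e⟩ : Nonempty (Fin g ≃ s) := by
      refine ⟨(Fintype.equivFinOfCardEq ?_).symm⟩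
      rw [← hcard.2, Set.ncard_eq_toFinset_card', Set.toFinset_card]
    refine ⟨fun i => (e i : R), ?_⟩
    rw [← hs]
    congr 1
    ext r
    exact ⟨by rintro ⟨i, rfl⟩; exact (e i).2, fun hr => ⟨e.symm ⟨r, hr⟩, by simp⟩⟩
  have hreg := Groth.Agent.RegLocal.isRegular_of_generators R hg x hx
  refine AcyclicLemma.isZero_homology (List.ofFn x) (fun r hr => ?_) M (fun j => ?_) hfl i
    (by simpa using hi)
  · obtain ⟨k, rfl⟩ := List.mem_ofFn.mp hr
    rw [← hx]; exact Ideal.subset_span ⟨k, rfl⟩
  · haveI := (hfree j).1
    exact AcyclicLemma.isWeaklyRegular_of_flat _ hreg.toIsWeaklyRegular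

end Groth.Agent.S14128
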