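import Groth.Statements.S1413
import Groth.Agent.FpqcDesc.Stalk

set_option autoImplicit false
universe u
open FlatMor

namespace Groth.Agent.S1413

open AlgebraicGeometry CategoryTheory Limits in
/-- Let X → Y → Z be morphisms with X → Y flat and surjective and with the diagonal of X over Z flat.
Then the diagonal of Y over Z is flat. -/
theorem result {X Y Z : Scheme.{u}} (f : X ⟶ Y) (g : Y ⟶ Z) [Flat f] [Surjective f] [Flat (pullback.diagonal (f ≫ g))] :
    Flat (pullback.diagonal g) := by
  have e : f ≫ pullback.diagonal g = pullback.diagonal (f ≫ g) ≫ pullback.map (f ≫ g) (f ≫ g) g g f f (𝟙 _)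
      (by simp) (by simp) := by
    ext <;> simp only [pullback.map, Category.assoc, pullback.lift_fst, pullback.lift_snd, pullback.diagonal_fst, pullback.diagonal_snd, pullback.diagonal_fst_assoc, pullback.diagonal_snd_assoc, Category.comp_id]
  have h1 : Flat (pullback.map (f ≫ g) (f ≫ g) g g f f (𝟙 _) (by simp) (by simp)) :=
    MorphismProperty.pullbackMap (P := @Flat) ‹Flat f› ‹Flat f› rfl rfl
  haveI : Flat (f ≫ pullback.diagonal g) := by rw [e]; infer_instance
  exact FlatDescStalk.flat_of_comp f (pullback.diagonal g)

end Groth.Agent.S1413
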