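import Groth.Statements.S14138
import Groth.Agent.VBLib.GenusAny

set_option autoImplicit false
universe u
open CategoryTheory CategoryTheory.Limits AlgebraicGeometry
open VBCurve

namespace Groth.Agent.S14138

/-- Let C be a smooth proper geometrically connected curve over a field k (proper, smooth and
geometrically connected over k, of dimension one) of genus one, i.e. dim_k H^1(C, O_C) = 1, and E a
finite locally free O_C-module of rank r ≥ 1 which is indecomposable: E is nonzero and whenever E ≅
E₁ ⊕ E₂ one of the summands is zero. Then E is semistable: for every finite locally free submodule G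
of E of rank r' ≥ 1 one has deg G · r ≤ deg E · r', the degree of a rank-n locally free module being
χ(G) − n·χ(O_C). (The published statement is for an elliptic curve; its proof, that the
Harder–Narasimhan filtration splits, uses only genus one, so no rational point is assumed here.) -/
theorem result (k : Type u) [Field k] (X : Scheme.{u}) [X.Over (Spec (CommRingCat.of k))]
    [IsProper (X ↘ Spec (CommRingCat.of k))] [Smooth (X ↘ Spec (CommRingCat.of k))]
    [GeometricallyConnected (X ↘ Spec (CommRingCat.of k))] (hdim : topologicalKrullDim ↥X = 1)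
    (hg : Curv2.genus k X = 1)
    (r : ℕ) (hr : 0 < r) (E : X.Modules) (hE : FlatMod.IsFinLocFreeOfRank r E)
    (hind : ¬ IsZero E ∧ ∀ (E₁ E₂ : X.Modules), Nonempty (E ≅ E₁ ⊞ E₂) → IsZero E₁ ∨ IsZero E₂) :
    (∀ (G : X.Modules) (r' : ℕ) (i : G ⟶ E), Mono i → 0 < r' → FlatMod.IsFinLocFreeOfRank r' G →
      Curv2.deg k X G r' * (r : ℤ) ≤ Curv2.deg k X E r * (r' : ℤ)) := by
  haveI : Subsingleton ↥(Spec (CommRingCat.of k)) := inferInstanceAs (Subsingleton (PrimeSpectrum k))
  haveI : Nonempty ↥(Spec (CommRingCat.of k)) := inferInstanceAs (Nonempty (PrimeSpectrum k))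
  haveI : ConnectedSpace X := GeometricallyConnected.connectedSpace_of_subsingleton (f := X ↘ Spec (CommRingCat.of k))
  haveI := Groth.Agent.CurveLib.isIntegral_of_smooth (X := X) k
  haveI := Groth.Agent.VBLib.isRegCurve_of_smooth k (X := X) hdim.le
  haveI := Groth.Agent.EulerIneqLib.isNoetherian_proper (X := X) k
  intro G r' i hi hr' hG
  have h := Groth.Agent.VBLib.GenusAny.slopeLE_of_indecomposable k hdim hg hr hE hind.2 G i hi
    (Groth.Agent.VBLib.isCoh_of_rank hG) (by rw [Groth.Agent.VBLib.grk_of_rank hG]; exact hr')
  rwa [Groth.Agent.VBLib.grk_of_rank hG, Groth.Agent.VBLib.dg_eq k hG, Groth.Agent.VBLib.dg_eq k hE] at h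

end Groth.Agent.S14138
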