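import Groth.Statements.S14139
import Groth.Agent.VBLib.Ext
-- import your own Groth.Agent.* helpers here

set_option autoImplicit false
set_option backward.isDefEq.respectTransparency false
universe u
open CategoryTheory CategoryTheory.Limits AlgebraicGeometry
open VBCurve

namespace Groth.Agent.S14139
open CategoryTheory CategoryTheory.Limits AlgebraicGeometry

/-- Let C be a smooth proper geometrically connected curve over a field k (proper, smooth and
geometrically connected over k, of dimension one), and 0 → E₁ → E → E₂ → 0 a short exact sequence of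
finite locally free O_C-modules of ranks r₁, r, r₂ ≥ 1 whose slopes are all equal: deg E₁ · r = deg
E · r₁ and deg E₂ · r = deg E · r₂, the degree of a rank-n locally free module being χ − n·χ(O_C).
Then E is semistable (deg G · r ≤ deg E · r' for every finite locally free submodule G of E of rank
r' ≥ 1) if and only if both E₁ and E₂ are semistable in the same sense. -/
theorem result (k : Type u) [Field k] (X : Scheme.{u}) [X.Over (Spec (CommRingCat.of k))]
    [IsProper (X ↘ Spec (CommRingCat.of k))] [Smooth (X ↘ Spec (CommRingCat.of k))]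
    [GeometricallyConnected (X ↘ Spec (CommRingCat.of k))] (hdim : topologicalKrullDim ↥X = 1)
    (T : ShortComplex X.Modules) (hT : T.ShortExact)
    (r₁ r r₂ : ℕ) (hr₁ : 0 < r₁) (hr : 0 < r) (hr₂ : 0 < r₂)
    (hE₁ : FlatMod.IsFinLocFreeOfRank r₁ T.X₁) (hE : FlatMod.IsFinLocFreeOfRank r T.X₂) (hE₂ : FlatMod.IsFinLocFreeOfRank r₂ T.X₃)
    (hμ₁ : Curv2.deg k X T.X₁ r₁ * (r : ℤ) = Curv2.deg k X T.X₂ r * (r₁ : ℤ))
    (hμ₂ : Curv2.deg k X T.X₃ r₂ * (r : ℤ) = Curv2.deg k X T.X₂ r * (r₂ : ℤ)) :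
    (∀ (G : X.Modules) (r' : ℕ) (i : G ⟶ T.X₂), Mono i → 0 < r' → FlatMod.IsFinLocFreeOfRank r' G →
      Curv2.deg k X G r' * (r : ℤ) ≤ Curv2.deg k X T.X₂ r * (r' : ℤ)) ↔
      ((∀ (G : X.Modules) (r' : ℕ) (i : G ⟶ T.X₁), Mono i → 0 < r' → FlatMod.IsFinLocFreeOfRank r' G →
      Curv2.deg k X G r' * (r₁ : ℤ) ≤ Curv2.deg k X T.X₁ r₁ * (r' : ℤ)) ∧
       (∀ (G : X.Modules) (r' : ℕ) (i : G ⟶ T.X₃), Mono i → 0 < r' → FlatMod.IsFinLocFreeOfRank r' G →
      Curv2.deg k X G r' * (r₂ : ℤ) ≤ Curv2.deg k X T.X₃ r₂ * (r' : ℤ))) := by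
  haveI := VBLib.isIntegral_of_geomConnected k (X := X)
  haveI := VBLib.isRegCurve_of_smooth k (X := X) hdim.le
  haveI := EulerIneqLib.isNoetherian_proper (X := X) k
  have c1 := VBLib.isCoh_of_rank hE₁
  have c2 := VBLib.isCoh_of_rank hE
  have c3 := VBLib.isCoh_of_rank hE₂
  have hrk : r = r₁ + r₂ := by
    have h := VBLib.grk_add hT c1 c3
    rwa [VBLib.grk_of_rank hE, VBLib.grk_of_rank hE₁, VBLib.grk_of_rank hE₂] at h
  have hr' : (0 : ℤ) < r := by exact_mod_cast hr
  constructor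
  · intro h
    refine ⟨fun G r' i hi h0 hG => ?_, fun G r' i hi h0 hG => ?_⟩
    · haveI := hT.mono_f
      have h1 := h G r' (i ≫ T.f) (mono_comp _ _) h0 hG
      have h2 := mul_le_mul_of_nonneg_right h1 (Int.natCast_nonneg r₁)
      refine le_of_mul_le_mul_right ?_ hr'
      have e := congrArg (· * (r' : ℤ)) hμ₁
      try dsimp only at e
      linarith
    · haveI := hT.epi_g
      have hc := VBLib.isCoh_of_rank hG
      obtain ⟨hC, hC1, hC2⟩ := VBLib.coker_add k i hc c3
      obtain ⟨hP, hP1, hP2⟩ := VBLib.kernel_add k (T.g ≫ cokernel.π i) c2 hC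
      have hPr := VBLib.rank_of_mono (kernel.ι (T.g ≫ cokernel.π i)) hP hE
      rw [VBLib.grk_of_rank hG, VBLib.grk_of_rank hE₂] at hC1
      rw [VBLib.grk_of_rank hE] at hP1
      rw [VBLib.dg_eq k hG, VBLib.dg_eq k hE₂] at hC2
      rw [VBLib.dg_eq k hE] at hP2
      have h1 := h _ _ (kernel.ι (T.g ≫ cokernel.π i)) inferInstance (by omega) hPr
      rw [← VBLib.dg_eq k hPr] at h1
      have e0 : (VBLib.grk (kernel (T.g ≫ cokernel.π i)) : ℤ) = r - r₂ + r' := by omega
      have e1 : VBLib.dg k (kernel (T.g ≫ cokernel.π i)) =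
          Curv2.deg k X T.X₂ r - Curv2.deg k X T.X₃ r₂ + Curv2.deg k X G r' := by omega
      rw [e0, e1] at h1
      have h3 : Curv2.deg k X G r' * r ≤ Curv2.deg k X T.X₂ r * r' := by linarith
      refine le_of_mul_le_mul_right ?_ hr'
      have h4 := mul_le_mul_of_nonneg_right h3 (Int.natCast_nonneg r₂)
      have e := congrArg (· * (r' : ℤ)) hμ₂
      try dsimp only at e
      linarith
  · rintro ⟨h1, h2⟩ G r' i hi h0 hG
    have hc := VBLib.isCoh_of_rank hG
    obtain ⟨A, B, a, b, ha, hb, hA, hB, hg, hd⟩ := VBLib.exists_ends k T hT c1 c3 i hc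
    rw [VBLib.grk_of_rank hG] at hg
    rw [VBLib.dg_eq k hG] at hd
    have p1 := VBLib.slopeLE_all k hE₁ (VBLib.slopeLE_of k hE₁ h1) a hA
    have p2 := VBLib.slopeLE_all k hE₂ (VBLib.slopeLE_of k hE₂ h2) b hB
    have q1 : VBLib.dg k A * r ≤ Curv2.deg k X T.X₂ r * VBLib.grk A := by
      refine le_of_mul_le_mul_right ?_ (show (0 : ℤ) < r₁ by exact_mod_cast hr₁)
      have := mul_le_mul_of_nonneg_right p1 hr'.le
      have e := congrArg (· * (VBLib.grk A : ℤ)) hμ₁
      try dsimp only at e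
      linarith
    have q2 : VBLib.dg k B * r ≤ Curv2.deg k X T.X₂ r * VBLib.grk B := by
      refine le_of_mul_le_mul_right ?_ (show (0 : ℤ) < r₂ by exact_mod_cast hr₂)
      have := mul_le_mul_of_nonneg_right p2 hr'.le
      have e := congrArg (· * (VBLib.grk B : ℤ)) hμ₂
      try dsimp only at e
      linarith
    have e : (r' : ℤ) = VBLib.grk A + VBLib.grk B := by exact_mod_cast hg
    rw [hd, e]
    linarith

end Groth.Agent.S14139
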