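import Groth.Statements.S14140
import Groth.Agent.PicAVLib.Invariant
import Groth.Agent.AVLib.GeomInt

set_option autoImplicit false
universe u
open CategoryTheory CategoryTheory.Limits MonoidalCategory CartesianMonoidalCategory MonObj GrpObj AlgebraicGeometry
open AbVar

namespace Groth.Agent.S14140

open CategoryTheory CategoryTheory.Limits AlgebraicGeometry

open Groth.Agent Groth.Agent.PicLib Groth.Agent.PicAVLib
open Groth.Agent.AVLib (trR)
open Groth.Agent.PoincareLib (phi phi_apply)
set_option backward.isDefEq.respectTransparency false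
set_option synthInstance.maxHeartbeats 400000
set_option maxHeartbeats 1000000


/-- Let k be an algebraically closed field, A an abelian variety over k (a proper smooth k-group scheme
with geometrically connected fibres), L an ample invertible O_A-module with an inverse L' (L ⊗ L' ≅
O_A), and M an invertible O_A-module in Pic⁰(A), meaning that t_x^*M ≅ M for every k-rational point
x of A, where t_x : A → A is the translation by x (the product of the identity and the constant map
x in the group Hom(A, A)). Then there is a k-rational point x of A with M ≅ t_x^*L ⊗ L'. -/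
theorem result (k : Type u) [Field k] [IsAlgClosed k]
    (A : Over (Spec (CommRingCat.of k))) [GrpObj A] [IsProper A.hom] [Smooth A.hom] [GeometricallyConnected A.hom]
    (L L' : A.left.Modules) (hLa : CohB1.IsAmple L) (hLL' : Nonempty (CohB1.tensorMod L L' ≅ Coh.structureModule A.left))
    (M : A.left.Modules) (hM : PicF.IsInvertible M)
    (hM0 : ∀ x : 𝟙_ (Over (Spec (CommRingCat.of k))) ⟶ A, Nonempty ((Scheme.Modules.pullback (𝟙 A * (toUnit A ≫ x)).left).obj M ≅ M)) :
    ∃ x : 𝟙_ (Over (Spec (CommRingCat.of k))) ⟶ A,
      Nonempty (M ≅ CohB1.tensorMod ((Scheme.Modules.pullback (𝟙 A * (toUnit A ≫ x)).left).obj L) L') := by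
  haveI := AVLib.geometricallyIntegral_of_smooth A
  haveI := AVLib.isCommMonObj (A := A)
  obtain ⟨e⟩ := hLL'
  have hL : PicF.IsInvertible L := hLa.1
  have hL'i : PicF.IsInvertible L' := AmpleLib.isInvertible_of_tensor_iso (AmpleLib.comm L' L ≪≫ e)
  have hinv : ∀ x, pull (trR x).left (cls hM) = cls hM := fun x =>
    (pull_cls _ hM).trans ((cls_eq_cls (AmpleLib.isInvertible_pullback _ hM) hM).2 (hM0 x))
  obtain ⟨x, hx⟩ := exists_phi_eq_of_invariant (cls hL) (AVLib.finite_stab hLa) hinv
  refine ⟨x, (cls_eq_cls hM (AmpleLib.isInvertible_tensor (AmpleLib.isInvertible_pullback _ hL) hL'i)).1 ?_⟩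
  have hone : cls hL * cls hL'i = 1 := by
    rw [← cls_tensor hL hL'i, cls_eq_one]
    exact ⟨e⟩
  rw [cls_tensor (AmpleLib.isInvertible_pullback _ hL) hL'i, ← hx, phi_apply, eq_inv_of_mul_eq_one_right hone,
    div_eq_mul_inv]
  exact congrArg (· * _) (pull_cls (trR x).left hL)

end Groth.Agent.S14140
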