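import Groth.Statements.S14142
import Groth.Agent.AVLib.Torsion
import Groth.Agent.AVLib.GeomInt
-- import your own Groth.Agent.* helpers here

set_option autoImplicit false
universe u
open CategoryTheory CategoryTheory.Limits MonoidalCategory CartesianMonoidalCategory MonObj GrpObj AlgebraicGeometry
open AbVar

namespace Groth.Agent.S14142

/-- Let k be an algebraically closed field of characteristic p > 0 and A an abelian variety over k (a
proper smooth k-group scheme with geometrically connected fibres) of dimension g. Then there is an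
integer i with 0 ≤ i ≤ g, the p-rank of A, such that for every m ≥ 0 the group A[p^m](k) of
k-rational points of A killed by p^m is isomorphic to (ℤ/p^m)^i (existence of a group isomorphism;
the group of k-points is written multiplicatively). (The published statement of this part assumes
only that k has characteristic p and does not assume k algebraically closed; it is false without
that assumption — for an elliptic curve over the prime field with exactly p rational points the
rational p-torsion is cyclic of order p while the rational p²-torsion has only p elements — and this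
row assumes k algebraically closed, which the printed proof's divisibility argument requires.) -/
theorem result (k : Type u) [Field k] [IsAlgClosed k] (p : ℕ) [Fact p.Prime] [CharP k p]
    (A : Over (Spec (CommRingCat.of k))) [GrpObj A] [IsProper A.hom] [Smooth A.hom] [GeometricallyConnected A.hom] [IsCommMonObj A]
    (g : ℕ) (hg : topologicalKrullDim ↥A.left = g) :
    ∃ i : ℕ, i ≤ g ∧ ∀ m : ℕ,
      Nonempty (AbDual.torsPts A (p ^ m) (𝟙_ (Over (Spec (CommRingCat.of k)))) ≃* Multiplicative (Fin i → ZMod (p ^ m))) := by
  haveI := Groth.Agent.AVLib.geometricallyIntegral_of_smooth A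
  obtain ⟨hfin, hle⟩ := Groth.Agent.AVLib.natCard_pow_char (A := A) p hg
  haveI : Finite (powMonoidHom p : (𝟙_ (Over (Spec (CommRingCat.of k))) ⟶ A) →* _).ker := hfin
  have hP : IsPGroup p (powMonoidHom p : (𝟙_ (Over (Spec (CommRingCat.of k))) ⟶ A) →* _).ker :=
    fun t => ⟨1, by rw [pow_one]; exact Subtype.ext t.2⟩
  obtain ⟨i, hi⟩ := IsPGroup.iff_card.1 hP
  have hp := (Fact.out : p.Prime)
  have hi' : Nat.card {t : 𝟙_ (Over (Spec (CommRingCat.of k))) ⟶ A // t ^ p = 1} = p ^ i := hi
  have hcard : ∀ m : ℕ, Nat.card {t : 𝟙_ (Over (Spec (CommRingCat.of k))) ⟶ A // t ^ (p ^ m) = 1} = (p ^ m) ^ i := by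
    intro m
    induction m with
    | zero =>
      haveI : Subsingleton {t : 𝟙_ (Over (Spec (CommRingCat.of k))) ⟶ A // t ^ (p ^ 0) = 1} :=
        ⟨fun s t => Subtype.ext ((pow_one s.1).symm.trans (s.2.trans (t.2.symm.trans (pow_one t.1))))⟩
      haveI : Nonempty {t : 𝟙_ (Over (Spec (CommRingCat.of k))) ⟶ A // t ^ (p ^ 0) = 1} := ⟨⟨1, one_pow _⟩⟩
      rw [Nat.card_unique, pow_zero, one_pow]
    | succ m ih =>
      rw [pow_succ', Groth.Agent.AVLib.natCard_torsion_mul p (p ^ m) (Groth.Agent.AVLib.exists_npow_eq p hp.one_le),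
        ih, hi', mul_pow]
  refine ⟨i, (Nat.pow_le_pow_iff_right hp.one_lt).1 (hi' ▸ hle), fun m => ?_⟩
  obtain ⟨e⟩ := Groth.Agent.AVLib.TorsGroup.nonempty_equiv
    (M := Additive (𝟙_ (Over (Spec (CommRingCat.of k))) ⟶ A)) (r := i) (p ^ m) (pow_pos hp.pos m)
    (fun q hq _ x => by
      obtain ⟨b, hb⟩ := Groth.Agent.AVLib.exists_npow_eq (A := A) q hq.one_le x.toMul
      exact ⟨Additive.ofMul b, hb⟩)
    (fun d hdn => by
      obtain ⟨j, -, rfl⟩ := (Nat.dvd_prime_pow hp).1 hdn
      exact (Nat.card_congr (Equiv.subtypeEquiv Additive.toMul fun _ => Iff.rfl)).trans (hcard j))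
  exact ⟨{ toFun := fun t => Multiplicative.ofAdd (e ⟨Additive.ofMul t.1, t.2⟩)
           invFun := fun c => ⟨(e.symm c.toAdd).1.toMul, (e.symm c.toAdd).2⟩
           left_inv := fun t => Subtype.ext (congrArg (fun y => y.1.toMul) (e.symm_apply_apply ⟨Additive.ofMul t.1, t.2⟩))
           right_inv := fun c => congrArg Multiplicative.ofAdd (e.apply_symm_apply c.toAdd)
           map_mul' := fun s t => congrArg Multiplicative.ofAdd (e.map_add ⟨Additive.ofMul s.1, s.2⟩ ⟨Additive.ofMul t.1, t.2⟩) }⟩

end Groth.Agent.S14142
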