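import Groth.Statements.S14143
import Groth.Agent.PicAVLib.Invariant
import Groth.Agent.AVLib.GeomInt

set_option autoImplicit false
universe u
open CategoryTheory CategoryTheory.Limits MonoidalCategory CartesianMonoidalCategory MonObj GrpObj AlgebraicGeometry
open AbVar

namespace Groth.Agent.S14143

open CategoryTheory CategoryTheory.Limits AlgebraicGeometry

open Groth.Agent Groth.Agent.PicLib Groth.Agent.PicAVLib
open Groth.Agent.AVLib (trR)
open Groth.Agent.PoincareLib (phi phi_apply)
set_option backward.isDefEq.respectTransparency false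
set_option synthInstance.maxHeartbeats 400000
set_option maxHeartbeats 1000000


/-- Let k be an algebraically closed field, A an abelian variety over k (a proper smooth k-group scheme
with geometrically connected fibres), L an invertible O_A-module which is non-degenerate, i.e. only
finitely many k-rational points x satisfy t_x^*L ≅ L (t_x the translation by x), M an invertible
O_A-module lying in Pic⁰(A), i.e. t_x^*M ≅ M for every k-rational point x, and L' an O_A-module
isomorphic to L ⊗ M. Then L' ≅ t_x^*L for some k-rational point x of A; consequently L and L' have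
isomorphic cohomology and equal index. (The published statement assumes L and L' algebraically
equivalent non-degenerate line bundles and concludes equality of indices; its proof reduces to L' ⊗
L^{-1} ∈ Pic⁰ and proves the displayed isomorphism, which is what is stated here.) -/
theorem result (k : Type u) [Field k] [IsAlgClosed k]
    (A : Over (Spec (CommRingCat.of k))) [GrpObj A] [IsProper A.hom] [Smooth A.hom] [GeometricallyConnected A.hom]
    (L : A.left.Modules) (hL : PicF.IsInvertible L) (hnd : (Set.Finite {x : 𝟙_ (Over (Spec (CommRingCat.of k))) ⟶ A |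
      Nonempty ((Scheme.Modules.pullback (𝟙 A * (toUnit A ≫ x)).left).obj L ≅ L)}))
    (M : A.left.Modules) (hM : PicF.IsInvertible M)
    (hM0 : ∀ x : 𝟙_ (Over (Spec (CommRingCat.of k))) ⟶ A, Nonempty ((Scheme.Modules.pullback (𝟙 A * (toUnit A ≫ x)).left).obj M ≅ M))
    (L' : A.left.Modules) (hL' : Nonempty (L' ≅ CohB1.tensorMod L M)) :
    ∃ x : 𝟙_ (Over (Spec (CommRingCat.of k))) ⟶ A, Nonempty (L' ≅ (Scheme.Modules.pullback (𝟙 A * (toUnit A ≫ x)).left).obj L) := by
  haveI := AVLib.geometricallyIntegral_of_smooth A
  haveI := AVLib.isCommMonObj (A := A)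
  obtain ⟨e⟩ := hL'
  have hL'i : PicF.IsInvertible L' := fun y => by
    obtain ⟨U, hU, ⟨f⟩⟩ := AmpleLib.isInvertible_tensor hL hM y
    exact ⟨U, hU, ⟨(Scheme.Modules.restrictFunctor U.ι).mapIso e ≪≫ f⟩⟩
  have hinv : ∀ x, pull (trR x).left (cls hM) = cls hM := fun x =>
    (pull_cls _ hM).trans ((cls_eq_cls (AmpleLib.isInvertible_pullback _ hM) hM).2 (hM0 x))
  obtain ⟨x, hx⟩ := exists_phi_eq_of_invariant (cls hL) (setOf_iso_eq hL ▸ hnd) hinv
  refine ⟨x, (cls_eq_cls hL'i (AmpleLib.isInvertible_pullback _ hL)).1 ?_⟩
  rw [(cls_eq_cls hL'i (AmpleLib.isInvertible_tensor hL hM)).2 ⟨e⟩, cls_tensor hL hM, ← hx, phi_apply,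
    mul_div_cancel]
  exact pull_cls (trR x).left hL

end Groth.Agent.S14143
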