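import Groth.Statements.S14149
import Groth.Agent.VBLib.Max
-- import your own Groth.Agent.* helpers here

set_option autoImplicit false
set_option backward.isDefEq.respectTransparency false
universe u
open CategoryTheory CategoryTheory.Limits AlgebraicGeometry
open VBCurve

namespace Groth.Agent.S14149
open CategoryTheory CategoryTheory.Limits AlgebraicGeometry

/-- Let C be a smooth proper geometrically connected curve over a field k (proper, smooth and
geometrically connected over k, of dimension one) and E a finite locally free O_C-module of rank r ≥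
1, the degree of a rank-n locally free module being χ − n·χ(O_C). Then there is a finite locally
free submodule E₁ of E, of some rank r₁ ≥ 1, such that: the slope of E₁ is maximal among finite
locally free submodules of E of positive rank (deg G · r₁ ≤ deg E₁ · r' for every such G of rank
r'); among submodules attaining that slope E₁ has the largest rank; and E₁ is semistable. (This is
the first step of the Harder–Narasimhan filtration, whose existence and uniqueness is the published
statement; the full filtration is not restated.) -/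
theorem result (k : Type u) [Field k] (X : Scheme.{u}) [X.Over (Spec (CommRingCat.of k))]
    [IsProper (X ↘ Spec (CommRingCat.of k))] [Smooth (X ↘ Spec (CommRingCat.of k))]
    [GeometricallyConnected (X ↘ Spec (CommRingCat.of k))] (hdim : topologicalKrullDim ↥X = 1)
    (r : ℕ) (hr : 0 < r) (E : X.Modules) (hE : FlatMod.IsFinLocFreeOfRank r E) :
    ∃ (E₁ : X.Modules) (r₁ : ℕ) (i₁ : E₁ ⟶ E), Mono i₁ ∧ 0 < r₁ ∧ FlatMod.IsFinLocFreeOfRank r₁ E₁ ∧
      (∀ (G : X.Modules) (r' : ℕ) (j : G ⟶ E), Mono j → 0 < r' → FlatMod.IsFinLocFreeOfRank r' G →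
        Curv2.deg k X G r' * (r₁ : ℤ) ≤ Curv2.deg k X E₁ r₁ * (r' : ℤ)) ∧
      (∀ (G : X.Modules) (r' : ℕ) (j : G ⟶ E), Mono j → 0 < r' → FlatMod.IsFinLocFreeOfRank r' G →
        Curv2.deg k X G r' * (r₁ : ℤ) = Curv2.deg k X E₁ r₁ * (r' : ℤ) → r' ≤ r₁) ∧
      (∀ (G : X.Modules) (r' : ℕ) (i : G ⟶ E₁), Mono i → 0 < r' → FlatMod.IsFinLocFreeOfRank r' G →
      Curv2.deg k X G r' * (r₁ : ℤ) ≤ Curv2.deg k X E₁ r₁ * (r' : ℤ)) := by
  haveI := VBLib.isIntegral_of_geomConnected k (X := X)
  haveI := VBLib.isRegCurve_of_smooth k (X := X) hdim.le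
  haveI := EulerIneqLib.isNoetherian_proper (X := X) k
  have hEc := VBLib.isCoh_of_rank hE
  obtain ⟨E₁, i, hi, hc, h0, hmax⟩ := VBLib.exists_maxSlope k hdim.le hEc (by rw [VBLib.grk_of_rank hE]; exact hr)
  haveI := hi
  have hr1 := VBLib.rank_of_mono i hc hE
  have key : ∀ (G : X.Modules) (r' : ℕ) (j : G ⟶ E), Mono j → 0 < r' → FlatMod.IsFinLocFreeOfRank r' G →
      Curv2.deg k X G r' * (VBLib.grk E₁ : ℤ) ≤ Curv2.deg k X E₁ (VBLib.grk E₁) * (r' : ℤ) ∧
      (Curv2.deg k X G r' * (VBLib.grk E₁ : ℤ) = Curv2.deg k X E₁ (VBLib.grk E₁) * (r' : ℤ) → r' ≤ VBLib.grk E₁) := by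
    intro G r' j hj hpos hG
    have h := hmax G j hj (VBLib.isCoh_of_rank hG) (by rw [VBLib.grk_of_rank hG]; exact hpos)
    rw [VBLib.grk_of_rank hG, VBLib.dg_eq k hG, VBLib.dg_eq k hr1] at h
    exact h
  refine ⟨E₁, _, i, hi, h0, hr1, fun G r' j hj hpos hG => (key G r' j hj hpos hG).1,
    fun G r' j hj hpos hG => (key G r' j hj hpos hG).2, fun G r' j hj hpos hG => ?_⟩
  exact (key G r' (j ≫ i) (mono_comp _ _) hpos hG).1

end Groth.Agent.S14149
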