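import Groth.Statements.S14150
import Groth.Agent.AVLib.Torsion
import Groth.Agent.AVLib.GeomInt
-- import your own Groth.Agent.* helpers here

set_option autoImplicit false
universe u
open CategoryTheory CategoryTheory.Limits MonoidalCategory CartesianMonoidalCategory MonObj GrpObj AlgebraicGeometry
open AbVar

namespace Groth.Agent.S14150

/-- Let k be an algebraically closed field, A an abelian variety over k (a proper smooth k-group scheme
with geometrically connected fibres) of dimension g, and n ≥ 1 an integer invertible in k. Then the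
group A[n](k) of k-rational points of A killed by n is isomorphic to (ℤ/n)^{2g} (existence of a
group isomorphism; the group of k-points is written multiplicatively). -/
theorem result (k : Type u) [Field k] [IsAlgClosed k]
    (A : Over (Spec (CommRingCat.of k))) [GrpObj A] [IsProper A.hom] [Smooth A.hom] [GeometricallyConnected A.hom] [IsCommMonObj A]
    (g : ℕ) (hg : topologicalKrullDim ↥A.left = g) (n : ℕ) (hn : 0 < n) (hnk : IsUnit (n : k)) :
    Nonempty (AbDual.torsPts A n (𝟙_ (Over (Spec (CommRingCat.of k)))) ≃* Multiplicative (Fin (2 * g) → ZMod n)) := by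
  haveI := Groth.Agent.AVLib.geometricallyIntegral_of_smooth A
  haveI : NeZero n := ⟨hn.ne'⟩
  have hnk0 : (n : k) ≠ 0 := hnk.ne_zero
  have hd : ∀ d : ℕ, d ∣ n → (d : k) ≠ 0 := fun d ⟨c, hc⟩ h => hnk0 (by rw [hc, Nat.cast_mul, h, zero_mul])
  obtain ⟨e⟩ := Groth.Agent.AVLib.TorsGroup.nonempty_equiv
    (M := Additive (𝟙_ (Over (Spec (CommRingCat.of k))) ⟶ A)) (r := 2 * g) n hn
    (fun p hp _ x => by
      obtain ⟨b, hb⟩ := Groth.Agent.AVLib.exists_npow_eq (A := A) p hp.one_le x.toMul
      exact ⟨Additive.ofMul b, hb⟩)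
    (fun d hdn => by
      exact (Nat.card_congr (Equiv.subtypeEquiv Additive.toMul fun _ => Iff.rfl)).trans
        ((Groth.Agent.AVLib.natCard_pow_eq_one (A := A) hg d (hd d hdn)).2))
  exact ⟨{ toFun := fun t => Multiplicative.ofAdd (e ⟨Additive.ofMul t.1, t.2⟩)
           invFun := fun c => ⟨(e.symm c.toAdd).1.toMul, (e.symm c.toAdd).2⟩
           left_inv := fun t => Subtype.ext (congrArg (fun y => y.1.toMul) (e.symm_apply_apply ⟨Additive.ofMul t.1, t.2⟩))
           right_inv := fun c => congrArg Multiplicative.ofAdd (e.apply_symm_apply c.toAdd)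
           map_mul' := fun s t => congrArg Multiplicative.ofAdd (e.map_add ⟨Additive.ofMul s.1, s.2⟩ ⟨Additive.ofMul t.1, t.2⟩) }⟩

end Groth.Agent.S14150
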