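import Groth.Statements.S14151
import Groth.Agent.VBLib.Ext
-- import your own Groth.Agent.* helpers here

set_option autoImplicit false
set_option backward.isDefEq.respectTransparency false
universe u
open CategoryTheory CategoryTheory.Limits AlgebraicGeometry
open VBCurve

namespace Groth.Agent.S14151
open CategoryTheory CategoryTheory.Limits AlgebraicGeometry

/-- Let C be a smooth proper geometrically connected curve over a field k (proper, smooth and
geometrically connected over k, of dimension one) and E a finite locally free O_C-module of rank r ≥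
1; degrees of rank-n locally free modules are χ − n·χ(O_C) and slopes are compared by
cross-multiplication. Then: E is semistable in the sense of quotients (μ(E) ≤ μ(F) for every locally
free quotient E ↠ F of rank s ≥ 1) if and only if μ(G) ≤ μ(E) for every finite locally free
submodule G of E of rank r' ≥ 1; and E is stable in the sense of quotients (μ(E) < μ(F) for every
such quotient map which is not an isomorphism) if and only if μ(G) < μ(E) for every such submodule
whose inclusion is not an isomorphism. (The printed lemma says every nonzero subsheaf; for the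
strict inequalities the subsheaf and the quotient must be proper, as its proof uses.) -/
theorem result (k : Type u) [Field k] (X : Scheme.{u}) [X.Over (Spec (CommRingCat.of k))]
    [IsProper (X ↘ Spec (CommRingCat.of k))] [Smooth (X ↘ Spec (CommRingCat.of k))]
    [GeometricallyConnected (X ↘ Spec (CommRingCat.of k))] (hdim : topologicalKrullDim ↥X = 1)
    (r : ℕ) (hr : 0 < r) (E : X.Modules) (hE : FlatMod.IsFinLocFreeOfRank r E) :
    ((∀ (F : X.Modules) (s : ℕ) (p : E ⟶ F), Epi p → 0 < s → FlatMod.IsFinLocFreeOfRank s F →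
      Curv2.deg k X E r * (s : ℤ) ≤ Curv2.deg k X F s * (r : ℤ)) ↔
      (∀ (G : X.Modules) (r' : ℕ) (i : G ⟶ E), Mono i → 0 < r' → FlatMod.IsFinLocFreeOfRank r' G →
      Curv2.deg k X G r' * (r : ℤ) ≤ Curv2.deg k X E r * (r' : ℤ))) ∧
    ((∀ (F : X.Modules) (s : ℕ) (p : E ⟶ F), Epi p → 0 < s → FlatMod.IsFinLocFreeOfRank s F → (¬ IsIso p) →
      Curv2.deg k X E r * (s : ℤ) < Curv2.deg k X F s * (r : ℤ)) ↔
      (∀ (G : X.Modules) (r' : ℕ) (i : G ⟶ E), Mono i → 0 < r' → FlatMod.IsFinLocFreeOfRank r' G → (¬ IsIso i) →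
      Curv2.deg k X G r' * (r : ℤ) < Curv2.deg k X E r * (r' : ℤ))) := by
  haveI := VBLib.isIntegral_of_geomConnected k (X := X)
  haveI := VBLib.isRegCurve_of_smooth k (X := X) hdim.le
  haveI := EulerIneqLib.isNoetherian_proper (X := X) k
  have hEc := VBLib.isCoh_of_rank hE
  have quot : ∀ (G : X.Modules) (r' : ℕ) (i : G ⟶ E), Mono i → 0 < r' → FlatMod.IsFinLocFreeOfRank r' G →
      ∃ (s : ℕ) (d : ℤ), r = r' + s ∧ d ≤ Curv2.deg k X E r - Curv2.deg k X G r' ∧
        (s = 0 → 0 ≤ d ∧ (d = 0 → Curv2.deg k X E r ≤ Curv2.deg k X G r' → IsIso i)) ∧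
        (0 < s → ∃ (F : X.Modules) (p : E ⟶ F), Epi p ∧ ¬ IsIso p ∧ FlatMod.IsFinLocFreeOfRank s F ∧
          Curv2.deg k X F s = d) := by
    intro G r' i hi h0 hG
    haveI := hi
    obtain ⟨hc, h1, h2⟩ := VBLib.coker_add k i (VBLib.isCoh_of_rank hG) hEc
    obtain ⟨F, p, hp, hFc, hF, hFr, hFd⟩ := VBLib.exists_freeQuot k hdim.le hc
    rw [VBLib.grk_of_rank hE, VBLib.grk_of_rank hG] at h1
    have hd : VBLib.dg k F = Curv2.deg k X F (VBLib.grk F) := VBLib.dg_eq k hF
    refine ⟨VBLib.grk F, VBLib.dg k F, by omega, ?_, fun hs => ?_, fun hs => ?_⟩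
    · rw [VBLib.dg_eq k hE, VBLib.dg_eq k hG] at h2
      omega
    · refine ⟨VBLib.dg_nonneg k hdim.le hFc hs, fun _ hle => ?_⟩
      refine (VBLib.dg_le_of_mono k hdim.le i (VBLib.isCoh_of_rank hG) hEc ?_).2 ?_
      · rw [VBLib.grk_of_rank hE, VBLib.grk_of_rank hG]; omega
      · rw [VBLib.dg_eq k hE, VBLib.dg_eq k hG]; exact hle
    · refine ⟨F, cokernel.π i ≫ p, inferInstance, fun hiso => ?_, hF, hd.symm⟩
      have := VBLib.grk_iso (@asIso _ _ _ _ _ hiso)
      rw [VBLib.grk_of_rank hE] at this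
      omega
  have sub : ∀ (F : X.Modules) (s : ℕ) (p : E ⟶ F), Epi p → 0 < s → FlatMod.IsFinLocFreeOfRank s F →
      ∃ (r' : ℕ) (d : ℤ), r = r' + s ∧ Curv2.deg k X E r = d + Curv2.deg k X F s ∧
        (r' = 0 → d = 0 ∧ IsIso p) ∧
        (0 < r' → ∃ (G : X.Modules) (i : G ⟶ E), Mono i ∧ ¬ IsIso i ∧ FlatMod.IsFinLocFreeOfRank r' G ∧
          Curv2.deg k X G r' = d) := by
    intro F s p hp hs hF
    haveI := hp
    obtain ⟨hK, h1, h2⟩ := VBLib.kernel_add k p hEc (VBLib.isCoh_of_rank hF)
    have hKr := VBLib.rank_of_mono (kernel.ι p) hK hE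
    rw [VBLib.grk_of_rank hE, VBLib.grk_of_rank hF] at h1
    rw [VBLib.dg_eq k hE, VBLib.dg_eq k hF] at h2
    refine ⟨VBLib.grk (kernel p), VBLib.dg k (kernel p), h1, h2, fun h0 => ?_, fun h0 => ?_⟩
    · have hz := VBLib.isZero_of_mono (kernel.ι p) hK hE h0
      haveI := Preadditive.mono_of_isZero_kernel p hz
      exact ⟨(VBLib.dg_isZero k hz).2, isIso_of_mono_of_epi p⟩
    · refine ⟨_, kernel.ι p, inferInstance, fun hiso => ?_, hKr, (VBLib.dg_eq k hKr).symm⟩
      have := VBLib.grk_iso (@asIso _ _ _ _ _ hiso)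
      rw [VBLib.grk_of_rank hE] at this
      omega
  have hr' : (0 : ℤ) < r := by exact_mod_cast hr
  refine ⟨⟨fun h G r' i hi h0 hG => ?_, fun h F s p hp hs hF => ?_⟩,
    ⟨fun h G r' i hi h0 hG hn => ?_, fun h F s p hp hs hF hn => ?_⟩⟩
  · obtain ⟨s, d, hrs, hd, hz, hp⟩ := quot G r' i hi h0 hG
    rcases Nat.eq_zero_or_pos s with hs | hs
    · obtain ⟨hd0, -⟩ := hz hs
      rw [hs, add_zero] at hrs
      subst hrs
      exact mul_le_mul_of_nonneg_right (by omega) hr'.le
    · obtain ⟨F, p, hpe, -, hF, hFd⟩ := hp hs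
      have h1 := h F s p hpe hs hF
      rw [hFd] at h1
      have h2 := mul_le_mul_of_nonneg_right hd hr'.le
      have e : (r : ℤ) = r' + s := by exact_mod_cast hrs
      have e2 := congrArg (Curv2.deg k X E r * ·) e
      try dsimp only at e2
      linarith
  · obtain ⟨r', d, hrs, hd, hz, hp'⟩ := sub F s p hp hs hF
    rcases Nat.eq_zero_or_pos r' with h0 | h0
    · obtain ⟨hd0, -⟩ := hz h0
      rw [h0, zero_add] at hrs
      subst hrs
      exact le_of_eq (congrArg (· * (r : ℤ)) (by omega))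
    · obtain ⟨G, i, hi, -, hG, hGd⟩ := hp' h0
      have h1 := h G r' i hi h0 hG
      rw [hGd] at h1
      have e : (r : ℤ) = r' + s := by exact_mod_cast hrs
      have e2 := congrArg (Curv2.deg k X E r * ·) e
      have e3 := congrArg (· * (r : ℤ)) hd
      try dsimp only at e2 e3
      linarith
  · obtain ⟨s, d, hrs, hd, hz, hp⟩ := quot G r' i hi h0 hG
    rcases Nat.eq_zero_or_pos s with hs | hs
    · obtain ⟨hd0, hiso⟩ := hz hs
      rw [hs, add_zero] at hrs
      subst hrs
      refine mul_lt_mul_of_pos_right ?_ hr'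
      by_contra hc
      exact hn (hiso (by omega) (by omega))
    · obtain ⟨F, p, hpe, hpn, hF, hFd⟩ := hp hs
      have h1 := h F s p hpe hs hF hpn
      rw [hFd] at h1
      have h2 := mul_le_mul_of_nonneg_right hd hr'.le
      have e : (r : ℤ) = r' + s := by exact_mod_cast hrs
      have e2 := congrArg (Curv2.deg k X E r * ·) e
      try dsimp only at e2
      linarith
  · obtain ⟨r', d, hrs, hd, hz, hp'⟩ := sub F s p hp hs hF
    rcases Nat.eq_zero_or_pos r' with h0 | h0
    · exact absurd (hz h0).2 hn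
    · obtain ⟨G, i, hi, hin, hG, hGd⟩ := hp' h0
      have h1 := h G r' i hi h0 hG hin
      rw [hGd] at h1
      have e : (r : ℤ) = r' + s := by exact_mod_cast hrs
      have e2 := congrArg (Curv2.deg k X E r * ·) e
      have e3 := congrArg (· * (r : ℤ)) hd
      try dsimp only at e2 e3
      linarith

end Groth.Agent.S14151
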