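import Groth.Statements.S14152
import Groth.Agent.CurveFF.LinSer
import Groth.Agent.FF.Clifford

set_option autoImplicit false
universe u
open CategoryTheory CategoryTheory.Limits AlgebraicGeometry
open Curves

namespace Groth.Agent.S14152

attribute [local instance] Curv2.stalkAlgebra
attribute [local instance high] FunFld.Place.algRes
open FunFld in
lemma exists_ell_one {k K : Type u} [Field k] [IsAlgClosed k] [Field K] [Algebra k K] (hK : IsFunctionField k K) :
    ∀ r : ℕ, r ≤ genus k K → ∃ D : Divisor k K, D.deg = (r : ℤ) ∧ ell D = 1 := by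
  classical
  intro r
  induction r with
  | zero => exact fun _ => ⟨0, by rw [Groth.Agent.FF.deg_zero]; rfl, Groth.Agent.FF.ell_zero hK⟩
  | succ r ih =>
    intro hr
    obtain ⟨D, hd, hl⟩ := ih (by omega)
    obtain ⟨C, hC⟩ := Groth.Agent.FF.exists_canonical hK
    have h1 := Groth.Agent.FF.riemann_roch hK hC D
    obtain ⟨z, hz, hzL⟩ := Groth.Agent.FF.exists_ne_zero_of_ell_pos (D := C - D) (by omega)
    haveI := Groth.Agent.FF.infinite_places hK
    obtain ⟨P, hP⟩ := Infinite.exists_notMem_finset (C - D + div k z).support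
    rw [Finsupp.notMem_support_iff, Finsupp.add_apply, Groth.Agent.FF.div_apply hK] at hP
    refine ⟨D + Finsupp.single P 1, by rw [Groth.Agent.FF.deg_add, Groth.Agent.FF.deg_single_ac hK, hd]; push_cast; ring, ?_⟩
    have hlt : ell (C - D - Finsupp.single P 1) < ell (C - D) := by
      haveI := Groth.Agent.FF.finite_L hK (C - D)
      refine Submodule.finrank_lt_finrank_of_lt (lt_of_le_of_ne
        (Groth.Agent.FF.L_mono (sub_le_self _ (Finsupp.single_nonneg.2 zero_le_one))) fun he => ?_)
      have h2 := (Groth.Agent.FF.mem_L_iff_ord hz).1 (he ▸ hzL : z ∈ L (C - D - Finsupp.single P 1)) P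
      rw [Finsupp.sub_apply, Finsupp.single_eq_same] at h2
      omega
    have h2 := Groth.Agent.FF.riemann_roch hK hC (D + Finsupp.single P 1)
    rw [Groth.Agent.FF.deg_add, Groth.Agent.FF.deg_single_ac hK, ← sub_sub] at h2
    have h3 := Groth.Agent.FF.ell_mono hK (le_add_of_nonneg_right (Finsupp.single_nonneg.2 zero_le_one) : D ≤ D + Finsupp.single P 1)
    omega

/-- Let k be an algebraically closed field and C a smooth proper integral curve over k (proper and
smooth over k, integral, of dimension one) of genus g ≥ 1, where g = dim_k H^1(C, O_C). Then for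
every natural number r ≤ g there is an invertible O_C-module L of degree r, the degree being χ(L) −
χ(O_C), with dim_k H^0(C, L) = 1. (The published statement gives a non-empty open set of r-tuples of
points (x_i) with h^0(O(Σ x_i)) = 1 and is placed in a chapter working in characteristic 0; the
existence of one such divisor, stated here, is what the row records, and the printed argument does
not use the characteristic.) -/
theorem result (k : Type u) [Field k] [IsAlgClosed k]
    (X : Scheme.{u}) [X.Over (Spec (CommRingCat.of k))] [IsIntegral X]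
    [IsProper (X ↘ Spec (CommRingCat.of k))] [Smooth (X ↘ Spec (CommRingCat.of k))]
    (hdim : topologicalKrullDim ↥X = 1) (g : ℕ) (hg : Curv2.genus k X = g) (hg1 : 1 ≤ g)
    (r : ℕ) (hr : r ≤ g) :
    ∃ L : X.Modules, PicF.IsInvertible L ∧ Curv2.deg k X L 1 = (r : ℤ) ∧
      Module.finrank k (Coh.HH X L 0) = 1 := by
  haveI := Groth.Agent.VBLib.isRegCurve_of_smooth (X := X) k hdim.le
  have h0 := Groth.Agent.CurveFF.h0_eq_one (X := X) k hdim
  subst hg
  rw [Groth.Agent.CurveFF.genus_eq hdim h0] at hr
  obtain ⟨D, hd, hl⟩ := exists_ell_one (Groth.Agent.CurveFF.isFF k hdim) r hr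
  obtain ⟨L, e, hL, he, hD⟩ := Groth.Agent.CurveFF.exists_module hdim h0 D
  exact ⟨L, hL, by rw [(Groth.Agent.CurveFF.genus_and_deg hdim h0 hL he hD).2, hd],
    by rw [Groth.Agent.CurveFF.finrank_H0_eq_ell hdim hL he hD, hl]⟩

end Groth.Agent.S14152
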