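import Groth.Statements.S14155
import Groth.Agent.VBLib.Atiyah

set_option autoImplicit false
universe u
open CategoryTheory CategoryTheory.Limits AlgebraicGeometry
open VBCurve

namespace Groth.Agent.S14155

/-- Let k be an algebraically closed field, X a smooth proper integral curve over k (proper and smooth
over k, integral, of dimension one) of genus one, i.e. dim_k H^1(X, O_X) = 1 (an elliptic curve once
a base point is chosen), and F a finite locally free O_X-module of rank r ≥ 1 which is
indecomposable (nonzero, and in any decomposition F ≅ F₁ ⊕ F₂ one summand is zero), of degree d =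
χ(F) − r·χ(O_X). Then F is stable — deg G · r < d · r' for every finite locally free submodule G of
F of rank r' ≥ 1 whose inclusion is not an isomorphism — if and only if gcd(d, r) = 1. (The
published corollary also identifies stability with simplicity in two senses; those equivalences are
not restated.) -/
theorem result (k : Type u) [Field k] [IsAlgClosed k]
    (X : Scheme.{u}) [X.Over (Spec (CommRingCat.of k))] [IsIntegral X]
    [IsProper (X ↘ Spec (CommRingCat.of k))] [Smooth (X ↘ Spec (CommRingCat.of k))]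
    (hdim : topologicalKrullDim ↥X = 1) (hg : Curv2.genus k X = 1)
    (r : ℕ) (hr : 0 < r) (F : X.Modules) (hF : FlatMod.IsFinLocFreeOfRank r F)
    (hind : ¬ IsZero F ∧ ∀ (F₁ F₂ : X.Modules), Nonempty (F ≅ F₁ ⊞ F₂) → IsZero F₁ ∨ IsZero F₂) :
    (∀ (G : X.Modules) (r' : ℕ) (i : G ⟶ F), Mono i → 0 < r' → FlatMod.IsFinLocFreeOfRank r' G → (¬ IsIso i) →
      Curv2.deg k X G r' * (r : ℤ) < Curv2.deg k X F r * (r' : ℤ)) ↔ Int.gcd (Curv2.deg k X F r) (r : ℤ) = 1 := by
  haveI := Groth.Agent.VBLib.isRegCurve_of_smooth k (X := X) hdim.le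
  haveI := Groth.Agent.EulerIneqLib.isNoetherian_proper (X := X) k

  constructor
  · intro h
    have hst := Groth.Agent.VBLib.stableAt_of k hF fun G r' i hi hr' hlt hG => h G r' i hi hr' hG fun hiso => by
      haveI := hiso
      have he := Groth.Agent.VBLib.grk_iso (asIso i)
      rw [Groth.Agent.VBLib.grk_of_rank hG, Groth.Agent.VBLib.grk_of_rank hF] at he
      omega
    have := Groth.Agent.VBLib.Atiyah.gcd_eq_one_of_stable k hdim hg hr hF hst
    rwa [Groth.Agent.VBLib.dg_eq k hF] at this
  · intro hgcd G r' i hi hr' hG hni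
    haveI := hi
    have hFc := Groth.Agent.VBLib.isCoh_of_rank hF
    have hGc := Groth.Agent.VBLib.isCoh_of_rank hG
    have h := Groth.Agent.VBLib.Atiyah.slopeLE_of_indecomposable k hdim hg hr hF hind.2 G i hi hGc
      (by rw [Groth.Agent.VBLib.grk_of_rank hG]; exact hr')
    rw [Groth.Agent.VBLib.grk_of_rank hG, Groth.Agent.VBLib.dg_eq k hG, Groth.Agent.VBLib.dg_eq k hF] at h
    obtain ⟨-, hle, -⟩ := Groth.Agent.VBLib.coker_add k i hGc hFc
    rw [Groth.Agent.VBLib.grk_of_rank hG, Groth.Agent.VBLib.grk_of_rank hF] at hle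
    rcases Nat.lt_or_ge r' r with hlt | hge
    · refine lt_of_le_of_ne h fun he => ?_
      have hdvd : (r : ℤ) ∣ Curv2.deg k X F r * r' := ⟨Curv2.deg k X G r', by rw [← he]; ring⟩
      have hrr : (r : ℤ) ∣ (r' : ℤ) :=
        (Int.isCoprime_iff_gcd_eq_one.2 hgcd).symm.dvd_of_dvd_mul_left hdvd
      have := Nat.le_of_dvd hr' (Int.natCast_dvd_natCast.1 hrr)
      omega
    · obtain rfl : r' = r := by omega
      have hd := Groth.Agent.VBLib.dg_le_of_mono k hdim.le i hGc hFc
        (by rw [Groth.Agent.VBLib.grk_of_rank hG, Groth.Agent.VBLib.grk_of_rank hF])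
      rw [Groth.Agent.VBLib.dg_eq k hG, Groth.Agent.VBLib.dg_eq k hF] at hd
      exact mul_lt_mul_of_pos_right (lt_of_not_ge fun hge => hni (hd.2 hge)) (by exact_mod_cast hr')

end Groth.Agent.S14155
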