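import Groth.Statements.S14159
import Groth.Agent.PolPullLib.Basic
-- import your own Groth.Agent.* helpers here

set_option autoImplicit false
set_option linter.style.haveILetI false
set_option backward.isDefEq.respectTransparency false
universe u
open CategoryTheory CategoryTheory.Limits MonoidalCategory CartesianMonoidalCategory MonObj AlgebraicGeometry
open AgPol

namespace Groth.Agent.S14159

/-- Let S be a locally Noetherian scheme, A a projective abelian scheme over S of relative dimension g
with commutative group law, (At, φ) a commutative group scheme with data presenting it as the dual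
of A for the fppf topology, ξ a Poincaré class on A ×_S At (normalised along the unit section of A)
and lam : A ⟶ At a polarisation. If L is a module on A whose isomorphism class is the pull back of ξ
along the graph (1, lam) : A ⟶ A ×_S At, then lam · lam (twice lam, in the group of A-valued points
of At) is the homomorphism attached to L through φ. -/
theorem result (S : Scheme.{u}) [IsLocallyNoetherian S] (A At : Over S) [GrpObj A] [IsCommMonObj A]
    [GrpObj At] [IsCommMonObj At] (g : ℕ) (hA : AgPol.IsAbSch A g) (hproj : RelProj.IsProjective A.hom)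
    (φ : AgPol.DualMap A At) (hdual : AbDual.IsDualAV Scheme.fppfPrecoverage A At φ)
    (ξ : PicF.Cl (PicF.XT A.hom At)) (hξ : AbDual.IsPoincareCl A At φ ξ)
    (lam : A ⟶ At) (hpol : AgPol.IsPolarization A At φ lam) (L : A.left.Modules)
    (hL : PicF.cl L = PicF.pullCl (pullback.lift (𝟙 A.left) (lam).left ((Category.id_comp A.hom).trans (Over.w (lam)).symm)) ξ) :
    AgPol.IsLambda A At φ L (lam * lam) := by
  haveI := hA.smooth
  haveI := hA.proper
  haveI := hA.geomConnected
  haveI : GeometricallyIntegral A.hom := Groth.Agent.AbDualLib.geometricallyIntegral_of_smooth A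
  obtain ⟨c, hc, hs, hφ, hξc⟩ := PolPullLib.exists_symm_class hdual hξ hpol
  obtain ⟨K, hK, hKc⟩ := PicLib.exists_cls (PolPullLib.ev c (𝟙 A) (𝟙 A))
  have h0 := PolPullLib.toCl_pow_graph hξc
  rw [← hKc, ← hL] at h0
  obtain ⟨e⟩ := AbDualLib.nonempty_iso_of_cl_eq h0
  obtain ⟨N, hN, hNc⟩ := PicLib.exists_cls (c * c)
  refine ⟨N, hN, ?_, ?_⟩
  · have hLi : PicF.IsInvertible L := ParaFLib.isInvertible_of_iso e hK
    have hm := PolPullLib.pull_mul_ev_diag hc hs
    rw [← hKc, ← hNc, PicLib.pull_cls, PicLib.pull_cls, PicLib.pull_cls,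
      ← PicLib.cls_tensor hN (AmpleLib.isInvertible_pullback _ hK),
      ← PicLib.cls_tensor (AmpleLib.isInvertible_tensor hN (AmpleLib.isInvertible_pullback _ hK))
        (AmpleLib.isInvertible_pullback _ hK)] at hm
    obtain ⟨i⟩ := (PicLib.cls_eq_cls _ _).1 hm
    refine ((PicLib.cls_eq_cls
      (AmpleLib.isInvertible_tensor (AmpleLib.isInvertible_tensor hN (AmpleLib.isInvertible_pullback _ hLi))
        (AmpleLib.isInvertible_pullback _ hLi)) (AmpleLib.isInvertible_pullback _ hLi))).1 ?_
    have he : PicLib.cls hLi = PicLib.cls hK := (PicLib.cls_eq_cls _ _).2 ⟨e.symm⟩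
    rw [PicLib.cls_tensor (AmpleLib.isInvertible_tensor hN (AmpleLib.isInvertible_pullback _ hLi))
      (AmpleLib.isInvertible_pullback _ hLi), PicLib.cls_tensor hN (AmpleLib.isInvertible_pullback _ hLi),
      ← PicLib.pull_cls _ hLi, ← PicLib.pull_cls _ hLi, ← PicLib.pull_cls _ hLi, he, PicLib.pull_cls,
      PicLib.pull_cls, PicLib.pull_cls, ← PicLib.cls_tensor, ← PicLib.cls_tensor]
    exact (PicLib.cls_eq_cls _ _).2 ⟨i⟩
  · show AbDualLib.ph φ A (PicLib.cls hN) = lam * lam
    rw [hNc, AbDualLib.ph_mul hdual hc.isPZ hc.isPZ, hφ]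

end Groth.Agent.S14159
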