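import Groth.Statements.S1416
import Groth.Agent.FibSetDimLib.Basic
import Groth.Agent.FibSetDimLib.Alg
import Groth.Agent.AssLib.Basic
import Groth.Agent.FlatLocus.ModFlat
import Groth.Agent.QCohLib.FiniteType
import Groth.Agent.PullbackMod.SuppClosed

set_option autoImplicit false
universe u
open FlatMor

namespace Groth.Agent.S1416

set_option maxHeartbeats 1000000 in
set_option backward.isDefEq.respectTransparency false in
open CategoryTheory AlgebraicGeometry Topology in
/-- A point of the support in a fibre is dominated by one in the generic fibre. -/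
theorem exists_generic_ge {X S : Scheme.{u}} (f : X ⟶ S) [LocallyOfFiniteType f] [IrreducibleSpace ↑S]
    (F : X.Modules) [Coh.IsQCoh F] (hF : CohB1.IsFT F) (hfl : FlatMod.IsFlatOver f F) (y : X)
    (hy : y ∈ CohB1.support F) (t : ℕ) (ht : DimFormulaLib.resTrdegAt f y = t) :
    ∃ x ∈ f ⁻¹' {genericPoint ↑S} ∩ CohB1.support F, ∃ t' : ℕ, DimFormulaLib.resTrdegAt f x = t' ∧ t ≤ t' := by
  obtain ⟨_, ⟨V : S.Opens, (hV : IsAffineOpen V), rfl⟩, hyV, -⟩ :=
    S.isBasis_affineOpens.exists_subset_of_mem_open (Set.mem_univ (f y)) isOpen_univ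
  obtain ⟨_, ⟨W : X.Opens, (hW : IsAffineOpen W), rfl⟩, hyW, hWV⟩ :=
    X.isBasis_affineOpens.exists_subset_of_mem_open (a := y) (u := ↑(f ⁻¹ᵁ V)) hyV (f ⁻¹ᵁ V).2
  have hft := f.finiteType_appLE hV hW hWV
  letI := (f.appLE V W hWV).hom.toAlgebra
  haveI : Algebra.FiniteType Γ(S, V) Γ(X, W) := hft
  letI := Module.compHom Γ(F, W) (f.appLE V W hWV).hom
  haveI : IsScalarTower Γ(S, V) Γ(X, W) Γ(F, W) := .of_algebraMap_smul fun _ _ => rfl
  haveI := QCohLib.finite_sections F hF hW
  have hηV : genericPoint ↑S ∈ V := ((genericPoint_spec ↑S).mem_open_set_iff V.2).mpr ⟨f y, trivial, hyV⟩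
  let c : DimFormulaLib.Chart f y :=
    { A := Γ(S, V), B := Γ(X, W), alg := inferInstance, finiteType := inferInstance,
      i := hV.fromSpec, j := hW.fromSpec,
      w := (hV.SpecMap_appLE_fromSpec f hW hWV).symm,
      q := hW.primeIdealOf ⟨y, hyW⟩, hq := hW.fromSpec_primeIdealOf _ }
  let p := (hV.primeIdealOf ⟨f y, hyV⟩).asIdeal
  haveI : (AssLib.pr hW hyW).LiesOver p :=
    ⟨congr($(IsAffineOpen.comap_primeIdealOf_appLE V hV W hW hWV hyW).1).symm⟩
  haveI := (FlatLocus.isFlatOverAt_iff f F hV hW hWV y hyW).mp (hfl y)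
  haveI : Nontrivial (LocalizedModule (AssLib.pr hW hyW).primeCompl Γ(F, W)) :=
    Module.mem_support_iff.mp ((AssLib.nontrivial_stalk_iff hW hyW).mp (not_subsingleton_iff_nontrivial.mp hy))
  have ht' : Algebra.trdeg (Γ(S, V) ⧸ p) (Γ(X, W) ⧸ AssLib.pr hW hyW) = t := by
    have h := c.resTrdegAt_eq (hW.primeIdealOf ⟨y, hyW⟩)
    have e1 : c.j (hW.primeIdealOf ⟨y, hyW⟩) = y := hW.fromSpec_primeIdealOf _
    rw [e1, ht] at h
    have e2 : PrimeSpectrum.comap (algebraMap Γ(S, V) Γ(X, W)) (hW.primeIdealOf ⟨y, hyW⟩) = hV.primeIdealOf ⟨f y, hyV⟩ :=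
      IsAffineOpen.comap_primeIdealOf_appLE V hV W hW hWV hyW
    exact (DimFormulaLib.exists_fibre_component.trdeg_quotient_congr e2).symm.trans h.symm
  obtain ⟨Q, hQ, hlo, hsupp, hle⟩ := FibSetDimLib.exists_prime_trdeg_ge (N := Γ(F, W)) p (AssLib.pr hW hyW)
    (hV.primeIdealOf ⟨genericPoint ↑S, hηV⟩).asIdeal ((AssLib.specializes_iff hV hyV hηV).mp (genericPoint_specializes _))
    (fun P hP _ => by
      have h := (AssLib.specializes_iff hV (AssLib.pt_mem hV ⟨P, hP⟩) hηV).mp (genericPoint_specializes _)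
      rw [AssLib.pr_pt] at h
      exact h) t ht'
  let x := AssLib.pt hW ⟨Q, hQ⟩
  have hxW : x ∈ W := AssLib.pt_mem hW _
  have hfx : f x = genericPoint ↑S := by
    have h1 : hV.primeIdealOf ⟨f x, hWV hxW⟩ = hV.primeIdealOf ⟨genericPoint ↑S, hηV⟩ := by
      rw [← IsAffineOpen.comap_primeIdealOf_appLE V hV W hW hWV hxW, AssLib.primeIdealOf_pt]
      exact PrimeSpectrum.ext hlo.over.symm
    have h2 := congrArg (fun z => hV.fromSpec z) h1
    simpa only [hV.fromSpec_primeIdealOf] using h2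
  refine ⟨x, ⟨hfx, not_subsingleton_iff_nontrivial.mpr
    ((AssLib.nontrivial_stalk_iff hW hxW).mpr (by rw [AssLib.primeIdealOf_pt]; exact hsupp))⟩, ?_⟩
  obtain ⟨t', ht''⟩ := FibSetDimLib.exists_nat_resTrdeg f x
  refine ⟨t', ht'', ?_⟩
  have h : DimFormulaLib.resTrdegAt f x = _ := c.resTrdegAt_eq ⟨Q, hQ⟩
  rw [ht''] at h
  have e3 := DimFormulaLib.exists_fibre_component.trdeg_quotient_congr
    (show PrimeSpectrum.comap (algebraMap Γ(S, V) Γ(X, W)) (⟨Q, hQ⟩ : PrimeSpectrum Γ(X, W)) =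
      hV.primeIdealOf ⟨genericPoint ↑S, hηV⟩ from PrimeSpectrum.ext hlo.over.symm)
  have h' := hle.trans_eq (e3.symm.trans h.symm)
  exact_mod_cast h'

open AlgebraicGeometry CategoryTheory Limits in
/-- Let f : X → S be locally of finite type with S irreducible with generic point η, and F a
quasi-coherent O_X-module of finite type which is flat over S. If the support of F in the fibre over
η has dimension ≤ r then the support of F in every fibre has dimension ≤ r (supports in fibres taken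
as subspaces of X: the points of the fibre where the stalk of F is nonzero). -/
theorem result {X S : Scheme.{u}} (f : X ⟶ S) [LocallyOfFiniteType f] [IrreducibleSpace ↑S]
    (F : X.Modules) (hF : Coh.IsCoh F) (hfl : FlatMod.IsFlatOver f F) (r : WithBot ℕ∞)
    (h : topologicalKrullDim ↑(f ⁻¹' {genericPoint ↑S} ∩ CohB1.support F) ≤ r) (s : S) :
    topologicalKrullDim ↑(f ⁻¹' {s} ∩ CohB1.support F) ≤ r := by
  haveI : Coh.IsQCoh F := hF.1
  have hcl : ∀ z : S, IsClosed (f.fiberι z ⁻¹' (f ⁻¹' {z} ∩ CohB1.support F)) := fun z => by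
    have : f.fiberι z ⁻¹' (f ⁻¹' {z}) = Set.univ := Set.preimage_eq_univ_iff.mpr (f.range_fiberι z).le
    rw [Set.preimage_inter, this, Set.univ_inter]
    exact (PullbackMod.isClosed_support_of_isFT hF.2).preimage (f.fiberι z).continuous
  refine (FibSetDimLib.dim_le_iff f s _ Set.inter_subset_left (hcl s) r).mpr fun y hy t ht => ?_
  obtain ⟨x, hx, t', ht', hle⟩ := exists_generic_ge f F hF.2 hfl y hy.2 t ht
  exact le_trans (by exact_mod_cast hle)
    ((FibSetDimLib.dim_le_iff f _ _ Set.inter_subset_left (hcl _) r).mp h x hx t' ht')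

end Groth.Agent.S1416
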