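import Groth.Statements.S14164
import Groth.Agent.AmpleVanLib.Main
import Groth.Agent.ShBCLib.Finrank
import Groth.Agent.BCLib.Grauert
import Groth.Agent.TildePerf.RelPerf
import Groth.Agent.AmpleFamLib.TopVan
import Groth.Agent.S12128
import Groth.Agent.AmpleLib.Pullback

set_option autoImplicit false
universe u
open CategoryTheory CategoryTheory.Limits MonoidalCategory CartesianMonoidalCategory MonObj AlgebraicGeometry
open AgPol

namespace Groth.Agent.S14164

set_option backward.isDefEq.respectTransparency false
set_option linter.style.haveILetI false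

open CategoryTheory CategoryTheory.Limits AlgebraicGeometry in
theorem subsingleton_fiber (S : Scheme.{u}) (A : Over S) [GrpObj A] (g : ℕ) (hA : AgPol.IsAbSch A g)
    (L : A.left.Modules) (hL : PicF.IsInvertible L) (hample : RelAmple.IsRelAmple A.hom L) (y : S) (i : ℕ)
    (hi : i ≠ 0) : Subsingleton (CohIII.fiberH A.hom L y i) := by
  haveI := hA.smooth
  haveI := hA.proper
  haveI := hA.geomConnected
  haveI : QuasiCompact A.hom := inferInstance
  let κ := S.residueField y
  let K := AlgebraicClosure κ
  letI : GrpObj ((Over.pullback (S.fromSpecResidueField y)).obj A) := Functor.grpObjObj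
  let B := (Over.pullback (Spec.map (CommRingCat.ofHom (algebraMap κ K)))).obj
    ((Over.pullback (S.fromSpecResidueField y)).obj A)
  letI : GrpObj B := Functor.grpObjObj
  haveI : IsProper (pullback.snd A.hom (S.fromSpecResidueField y)) := inferInstance
  haveI : Smooth (pullback.snd A.hom (S.fromSpecResidueField y)) := inferInstance
  haveI : GeometricallyConnected (pullback.snd A.hom (S.fromSpecResidueField y)) :=
    MorphismProperty.pullback_snd (P := @GeometricallyConnected) A.hom (S.fromSpecResidueField y) inferInstance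
  haveI : IsProper B.hom :=
    inferInstanceAs (IsProper (pullback.snd (pullback.snd A.hom (S.fromSpecResidueField y)) _))
  haveI : Smooth B.hom :=
    inferInstanceAs (Smooth (pullback.snd (pullback.snd A.hom (S.fromSpecResidueField y)) _))
  haveI : GeometricallyConnected B.hom :=
    MorphismProperty.pullback_snd (P := @GeometricallyConnected) (pullback.snd A.hom (S.fromSpecResidueField y))
      (Spec.map (CommRingCat.ofHom (algebraMap κ K))) inferInstance
  haveI := Groth.Agent.AVLib.geometricallyIntegral_of_smooth B
  let F : Scheme.{u} := A.hom.fiber y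
  letI : F.Over (Spec (CommRingCat.of κ)) := ⟨A.hom.fiberToSpecResidueField y⟩
  haveI : IsProper (F ↘ Spec (CommRingCat.of κ)) :=
    inferInstanceAs (IsProper (pullback.snd A.hom (S.fromSpecResidueField y)))
  let M := CohIII.fiberMod A.hom L y
  have hMi : PicF.IsInvertible M := AmpleLib.isInvertible_pullback _ hL
  have hM : CohB1.IsAmple M := Groth.Agent.AmpleFibLib.isAmple_fiber_of_isRelAmple A.hom hample y
  haveI : Coh.IsQCoh M := Groth.Agent.InvExt.isQCoh_of_isInvertible hMi
  haveI := Groth.Agent.EulerIneqLib.isNoetherian_proper (X := F) κ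
  have hK : CohB1.IsAmple (Groth.Agent.ShBCLib.bcPull κ K M) := by
    haveI : IsAffineHom (pullback.fst (F ↘ Spec (CommRingCat.of κ)) (Spec.map (CommRingCat.ofHom (algebraMap κ K)))) :=
      MorphismProperty.pullback_fst (P := @IsAffineHom) _ _ inferInstance
    exact Groth.Agent.AmpleLib.isAmple_pullback (pullback.fst _ _) hM
  have h0 : Subsingleton (Coh.HH (Curv2.bc κ F K) (Groth.Agent.ShBCLib.bcPull κ K M) i) :=
    (Groth.Agent.AmpleVanLib.main (A := B) (Groth.Agent.ShBCLib.bcPull κ K M) hK).1 i (Nat.pos_of_ne_zero hi)
  have h1 := Groth.Agent.ShBCLib.finrank_HH_bc κ (X := F) K M i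
  haveI := h0
  rw [Module.finrank_zero_of_subsingleton] at h1
  haveI := Groth.Agent.EulerIneqLib.finite_HH (k := κ) (Groth.Agent.CurveLib.isCoh_of_isInvertible hMi) i
  exact (Module.finrank_eq_zero_iff_of_free κ (Coh.HH F M i)).1 h1.symm

/-- Let S be a locally Noetherian scheme, A a projective abelian scheme over S of relative dimension g
with structure morphism π, and L an invertible module on A which is ample relative to π. Then R^i
π_* L = 0 for every i ≥ 1 (right derived functors of the direct image on modules), and π_* L is a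
finite locally free module on S. -/
theorem result (S : Scheme.{u}) [IsLocallyNoetherian S]
    (A : Over S) [GrpObj A] (g : ℕ) (hA : AgPol.IsAbSch A g) (hproj : RelProj.IsProjective A.hom)
    [HasInjectiveResolutions A.left.Modules]
    (L : A.left.Modules) (hL : PicF.IsInvertible L) (hample : RelAmple.IsRelAmple A.hom L) :
    (∀ i : ℕ, 1 ≤ i → IsZero ((Coh.Rpush A.hom i).obj L)) ∧
      FlatMod.IsFinLocFree ((Coh.push A.hom).obj L) := by
  haveI := hA.smooth
  haveI := hA.proper
  haveI : IsLocallyNoetherian A.left := LocallyOfFiniteType.isLocallyNoetherian A.hom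
  have hF : Coh.IsCoh L := Groth.Agent.CurveLib.isCoh_of_isInvertible hL
  have hfl : FlatMod.IsFlatOver A.hom L :=
    Groth.Agent.TildePerf.isFlatOver_of_isFinLocFree A.hom (Groth.Agent.CurveLib.isFinLocFree_of_isInvertible hL)
  have hsub : ∀ (y : S) (i : ℕ), i ≠ 0 → CohIII.fiberRank A.hom L i y = 0 := fun y i hi =>
    haveI := subsingleton_fiber S A g hA L hL hample y i hi
    Module.finrank_zero_of_subsingleton
  refine ⟨fun i hi => Groth.Agent.AmpleFamLib.isZero_iff_support.2 (Set.eq_empty_iff_forall_notMem.2 fun y hy => ?_), ?_⟩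
  · obtain ⟨U, hyU, hU⟩ := Groth.Agent.BCLib.exists_isZero_rpush A.hom hF hfl i y (hsub y i (by omega))
    exact Groth.Agent.AmpleFamLib.support_subset_compl_of_isZero U hU hy hyU
  · have h := Groth.Agent.BCLib.isFinLocFree_rpush_of_concentrated A.hom hF hfl 0 hsub
    intro y
    obtain ⟨U, n, hy, ⟨e⟩⟩ := h.1 y
    exact ⟨U, n, hy, ⟨(Scheme.Modules.restrictFunctor U.ι).mapIso
      ((Scheme.Modules.pushforward A.hom).rightDerivedZeroIsoSelf.app L).symm ≪≫ e⟩⟩
end Groth.Agent.S14164
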