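import Groth.Statements.S1417
import Groth.Agent.SmLiftCrit.Scheme
import Groth.Agent.NilLift.Basic
-- import your own Groth.Agent.* helpers here

set_option autoImplicit false
set_option backward.isDefEq.respectTransparency false
universe u
open FlatMor

namespace Groth.Agent.S1417

open AlgebraicGeometry CategoryTheory Limits in
/-- Let S be locally Noetherian and f : X → S locally of finite type. Then f is smooth if and only if
for every small extension B' → B of Artinian local rings (a surjection whose kernel is generated by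
one element annihilated by the maximal ideal), every morphism Spec B → X and every morphism Spec B'
→ S locally of finite type making the square commute, there is a lift Spec B' → X. -/
theorem result {X S : Scheme.{u}} (f : X ⟶ S) [IsLocallyNoetherian S] [LocallyOfFiniteType f] :
    Smooth f ↔ ∀ (B B' : Type u) [CommRing B] [CommRing B'] [IsArtinianRing B] [IsArtinianRing B'] [IsLocalRing B] [IsLocalRing B']
      (φ : B' →+* B) (ε : B'), Function.Surjective φ → RingHom.ker φ = Ideal.span {ε} → (∀ m ∈ IsLocalRing.maximalIdeal B', ε * m = 0) →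
      ∀ (α : Spec (CommRingCat.of B) ⟶ X) (β : Spec (CommRingCat.of B') ⟶ S), LocallyOfFiniteType β →
        Spec.map (CommRingCat.ofHom φ) ≫ β = α ≫ f →
        ∃ γ : Spec (CommRingCat.of B') ⟶ X, Spec.map (CommRingCat.ofHom φ) ≫ γ = α ∧ γ ≫ f = β := by
  haveI : LocallyOfFinitePresentation f := Groth.Agent.SmLiftCrit.lfp_of_noetherian f
  constructor
  · intro _ B B' _ _ _ _ _ _ φ ε hφ hker hann α β _ e
    haveI := Groth.Agent.SmLiftCrit.subsingleton_spec_artinian B'
    have hI : RingHom.ker φ ≤ nilradical B' := by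
      rw [hker, Ideal.span_singleton_le_iff_mem]
      refine ⟨2, ?_⟩
      rw [pow_two]
      refine hann ε fun hu => ?_
      have h0 : φ ε = 0 := (show ε ∈ RingHom.ker φ by rw [hker]; exact Ideal.mem_span_singleton_self ε)
      exact not_isUnit_zero (h0 ▸ hu.map φ)
    let eqv := RingHom.quotientKerEquivOfSurjective hφ
    have h₁ : CommRingCat.ofHom (Ideal.Quotient.mk (RingHom.ker φ)) ≫ CommRingCat.ofHom eqv.toRingHom = CommRingCat.ofHom φ := rfl
    have h₂ : CommRingCat.ofHom φ ≫ CommRingCat.ofHom eqv.symm.toRingHom =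
        CommRingCat.ofHom (Ideal.Quotient.mk (RingHom.ker φ)) :=
      CommRingCat.hom_ext (RingHom.ext fun x => eqv.injective (eqv.apply_symm_apply (φ x)))
    have h₃ : CommRingCat.ofHom eqv.symm.toRingHom ≫ CommRingCat.ofHom eqv.toRingHom = 𝟙 _ :=
      CommRingCat.hom_ext (RingHom.ext fun x => eqv.apply_symm_apply x)
    obtain ⟨g, hg, l, hl1, hl2⟩ := Groth.Agent.NilLift.exists_lift_basicOpen f hI
      (Spec.map (CommRingCat.ofHom eqv.symm.toRingHom) ≫ α) β (by
        rw [Category.assoc, ← e, ← Spec.map_comp_assoc, h₂]) (IsLocalRing.closedPoint B')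
    have hgu : IsUnit g := by
      by_contra h
      exact hg h
    let eL : B' ≃ₐ[B'] Localization.Away g :=
      IsLocalization.atUnits B' (Submonoid.powers g) (S := Localization.Away g) (fun y hy => by
        obtain ⟨n, rfl⟩ := hy
        exact hgu.pow n)
    refine ⟨Spec.map (CommRingCat.ofHom eL.symm.toRingEquiv.toRingHom) ≫ l, ?_, ?_⟩
    · let J : Ideal (Localization.Away g) := (RingHom.ker φ).map (algebraMap B' (Localization.Away g))
      let c : Localization.Away g ⧸ J →+* B := Ideal.Quotient.lift J (φ.comp eL.symm.toRingEquiv.toRingHom) (by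
        intro a ha
        refine (Ideal.map_le_iff_le_comap.2 fun b hb => ?_ : J ≤ RingHom.ker (φ.comp eL.symm.toRingEquiv.toRingHom)) ha
        show φ (eL.symm (algebraMap B' _ b)) = 0
        rw [AlgEquiv.commutes]
        exact hb)
      have h4 : CommRingCat.ofHom eL.symm.toRingEquiv.toRingHom ≫ CommRingCat.ofHom φ =
          CommRingCat.ofHom (Ideal.Quotient.mk J) ≫ CommRingCat.ofHom c := rfl
      have h5 : CommRingCat.ofHom (Ideal.quotientMap J (algebraMap B' (Localization.Away g)) Ideal.le_comap_map) ≫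
          CommRingCat.ofHom c = CommRingCat.ofHom eqv.toRingHom := by
        refine CommRingCat.hom_ext (Ideal.Quotient.ringHom_ext (RingHom.ext fun b => ?_))
        show φ (eL.symm (algebraMap B' _ b)) = φ b
        rw [AlgEquiv.commutes]
        rfl
      rw [← Spec.map_comp_assoc, h4, Spec.map_comp, Category.assoc, hl2, ← Spec.map_comp_assoc, h5,
        ← Spec.map_comp_assoc, h₃, Spec.map_id, Category.id_comp]
    · have h6 : CommRingCat.ofHom (algebraMap B' (Localization.Away g)) ≫ CommRingCat.ofHom eL.symm.toRingEquiv.toRingHom =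
          𝟙 _ := CommRingCat.hom_ext (RingHom.ext fun b => eL.symm.commutes b)
      rw [Category.assoc, hl1, ← Spec.map_comp_assoc, h6, Spec.map_id, Category.id_comp]
  · intro H
    rw [← Scheme.Hom.smoothLocus_eq_top_iff, ← top_le_iff]
    rintro x -
    obtain ⟨_, ⟨V, hV, rfl⟩, hxV, -⟩ :=
      S.isBasis_affineOpens.exists_subset_of_mem_open (Set.mem_univ (f x)) isOpen_univ
    obtain ⟨_, ⟨W, hW, rfl⟩, hxW, e⟩ :=
      X.isBasis_affineOpens.exists_subset_of_mem_open hxV (V.2.preimage f.continuous)
    haveI : CompactSpace (Scheme.Opens.toScheme W) := isCompact_iff_compactSpace.1 hW.isCompact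
    obtain ⟨z, hz, hzc⟩ := IsClosed.exists_closed_singleton
      (isClosed_closure (s := ({(⟨x, hxW⟩ : (Scheme.Opens.toScheme W))} : Set (Scheme.Opens.toScheme W)))) ⟨_, subset_closure rfl⟩
    have hsp : x ⤳ z.1 := (specializes_iff_mem_closure.2 hz).map (Scheme.Opens.ι W).continuous
    refine hsp.mem_open f.smoothLocus.2 ?_
    show (f.stalkMap z.1).hom.FormallySmooth
    refine Groth.Agent.SmLiftCrit.formallySmooth_stalkMap_of_lift f hV hW e z.2 fun A _ _ _ φ J _ hJ g hg hq hres => ?_
    haveI hqm : (hW.primeIdealOf ⟨z.1, z.2⟩).asIdeal.IsMaximal := by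
      rw [← PrimeSpectrum.isClosed_singleton_iff_isMaximal]
      have := hW.isoSpec.hom.homeomorph.isClosedMap _ hzc
      rw [Set.image_singleton] at this
      exact this
    haveI := Groth.Agent.SmLiftCrit.subsingleton_spec_artinian A
    haveI : IsArtinianRing (A ⧸ J) := inferInstance
    obtain ⟨t, ht, hann⟩ := hJ
    let α : Spec (CommRingCat.of (A ⧸ J)) ⟶ X := Spec.map (CommRingCat.ofHom g) ≫ hW.fromSpec
    let β : Spec (CommRingCat.of A) ⟶ S := Spec.map (CommRingCat.ofHom φ) ≫ hV.fromSpec
    have hαβ : Spec.map (CommRingCat.ofHom (Ideal.Quotient.mk J)) ≫ β = α ≫ f := by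
      simp only [α, β, Category.assoc, ← IsAffineOpen.SpecMap_appLE_fromSpec f hV hW e, ← Spec.map_comp_assoc]
      congr 2
      exact CommRingCat.hom_ext hg.symm
    have hft : φ.FiniteType := by
      letI := φ.toAlgebra
      letI := (f.appLE V W e).hom.toAlgebra
      haveI : Algebra.FiniteType Γ(S, V) Γ(X, W) :=
        HasRingHomProperty.appLE (P := @LocallyOfFiniteType) f ‹_› ⟨V, hV⟩ ⟨W, hW⟩ e
      let ga : Γ(X, W) →ₐ[Γ(S, V)] A ⧸ J := { g with commutes' := fun r => RingHom.congr_fun hg r }
      exact Groth.Agent.SmLiftCrit.finiteType_of_residue ga fun y => by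
        obtain ⟨c, d, hd, hy⟩ := hres y
        obtain ⟨d', i, hi, hr⟩ := Ideal.IsMaximal.exists_inv hqm hd
        refine ⟨c * d', ?_⟩
        have e1 : ga (c * d') - y = -(g d' * (g d * y - g c)) + -(g i) * y := by
          have := congrArg g hr
          rw [map_add, map_mul, map_one] at this
          show g (c * d') - y = _
          rw [map_mul]
          linear_combination (y) * this
        rw [e1]
        exact add_mem (neg_mem (Ideal.mul_mem_left _ _ hy)) (Ideal.mul_mem_right _ _ (neg_mem (hq.ge hi)))
    haveI : LocallyOfFiniteType (Spec.map (CommRingCat.ofHom φ)) :=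
      (HasRingHomProperty.Spec_iff (P := @LocallyOfFiniteType)).2 hft
    obtain ⟨γ, hγ1, hγ2⟩ := H (A ⧸ J) A (Ideal.Quotient.mk J) t Ideal.Quotient.mk_surjective
      (by rw [Ideal.mk_ker, ht]) (fun m hm => by rw [mul_comm]; exact hann m hm) α β
      (inferInstanceAs (LocallyOfFiniteType (_ ≫ _))) hαβ
    have hrange : Set.range γ ⊆ Set.range hW.fromSpec := by
      rintro _ ⟨a, rfl⟩
      rw [Subsingleton.elim a (Spec.map (CommRingCat.ofHom (Ideal.Quotient.mk J)) (IsLocalRing.closedPoint (A ⧸ J))),
        ← Scheme.Hom.comp_apply, hγ1]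
      exact ⟨_, rfl⟩
    obtain ⟨g', hg'⟩ := Spec.map_surjective (IsOpenImmersion.lift hW.fromSpec γ hrange)
    have hg'' : Spec.map g' ≫ hW.fromSpec = γ := by rw [hg', IsOpenImmersion.lift_fac]
    refine ⟨g'.hom, ?_, ?_⟩
    · have h1 : Spec.map g' ≫ Spec.map (f.appLE V W e) = Spec.map (CommRingCat.ofHom φ) := by
        rw [← cancel_mono hV.fromSpec, Category.assoc, IsAffineOpen.SpecMap_appLE_fromSpec f hV hW e,
          ← Category.assoc, hg'']
        exact hγ2
      rw [← Spec.map_comp] at h1
      exact congrArg CommRingCat.Hom.hom (Spec.map_injective h1)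
    · have h1 : Spec.map (CommRingCat.ofHom (Ideal.Quotient.mk J)) ≫ Spec.map g' = Spec.map (CommRingCat.ofHom g) := by
        rw [← cancel_mono hW.fromSpec, Category.assoc, hg'']
        exact hγ1
      rw [← Spec.map_comp] at h1
      exact congrArg CommRingCat.Hom.hom (Spec.map_injective h1)

end Groth.Agent.S1417
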