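import Groth.Statements.S14172
import Groth.Agent.ReesVan.Gen
import Groth.Agent.CMRegLib.OnX
import Groth.Agent.CMRegLib.FamilyHilb

set_option autoImplicit false
universe u
open CategoryTheory CategoryTheory.Limits AlgebraicGeometry
open Variety

namespace Groth.Agent.S14172

open CategoryTheory CategoryTheory.Limits AlgebraicGeometry

set_option backward.isDefEq.respectTransparency false

open Groth.Agent
open Groth.Agent.DCohLib (tmod)

/-- Let k be an algebraically closed field of characteristic zero (the published statement is over the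
complex numbers; this row allows any algebraically closed field of characteristic zero), I a
quasi-coherent ideal sheaf on P^n_k, viewed as an O-module, and d an integer such that I(d) = I ⊗
O(d) is generated by its global sections. Then reg(I^p) ≤ d p + e for a suitable integer e and every
p ≥ 1: the p-th power I^p is m-regular whenever m ≥ d p + e. -/
theorem result (k : Type u) [Field k] [IsAlgClosed k] [CharZero k]
    (n : ℕ) (I : (CohB1.ProjSpace n k).IdealSheafData) (d : ℤ)
    (hd : Curv2.IsGloballyGenerated (CohB1.tensorMod (ClSub.idealMod I) (Twist.twistProjSpace n k d))) :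
    ∃ e : ℤ, ∀ p : ℕ, 1 ≤ p → ∀ m : ℤ, d * (p : ℤ) + e ≤ m →
      Curv2.IsMRegular k n (ClSub.idealMod (I ^ p)) m := by
  haveI := CMRegLib.isNoetherian_projSpace (k := k) (n := n)
  let P := CohB1.ProjSpace n k
  letI H : P.Modules := Twist.twistProjSpace n k 1
  have hL : PicF.IsInvertible (Twist.twistProjSpace n k d) := CMRegLib.isInvertible_O d
  have hH : PicF.IsInvertible H := CMRegLib.isInvertible_O 1
  have hpowH : ∀ j : ℕ, Nonempty (CohB1.tensorPow H j ≅ Twist.twistProjSpace n k (j : ℤ)) := fun j =>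
    ⟨CMRegLib.powTwistIso j⟩
  have hvan : ∀ M : P.Modules, Coh.IsCoh M → ∀ q, 0 < q → ∃ e : ℕ, ∀ j, e ≤ j →
      Subsingleton (Coh.HH P (CohB1.tensorMod M (CohB1.tensorPow H j)) q) := by
    intro M hM q hq
    obtain ⟨d₀, hd₀⟩ := CMRegLib.xEventually_vanish k (𝟙 P) hM hq
    refine ⟨d₀.toNat, fun j hj => ?_⟩
    obtain ⟨e⟩ := hpowH j
    exact Nakai.subsingleton_HH_iso (AmpleLib.tIso (Iso.refl M)
      ((Scheme.Modules.pullbackId P).app _ ≪≫ e.symm)) q (hd₀ j (by omega))
  have hmul : ∀ (M : P.Modules) {a b c : ℤ}, a + b = c → Nonempty (CohB1.tensorMod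
      (CohB1.tensorMod M (Twist.twistProjSpace n k a)) (Twist.twistProjSpace n k b) ≅
      CohB1.tensorMod M (Twist.twistProjSpace n k c)) := fun M a b c h => by
    haveI := CMRegLib.isIso_mulMap M h
    exact ⟨asIso (CMRegLib.mulMap M h)⟩
  choose E hE using fun q => ReesVan.eventually_vanish I hL hd hH hvan (q + 1) (Nat.succ_pos q)
  refine ⟨(n : ℤ) + ((Finset.range n).sup E : ℕ), fun p _ m hm i hi1 hin => ?_⟩
  obtain ⟨q, rfl⟩ : ∃ q, i = q + 1 := ⟨i - 1, by omega⟩
  obtain ⟨j, hj⟩ : ∃ j : ℕ, m - ((q + 1 : ℕ) : ℤ) = (p : ℤ) * d + (j : ℤ) :=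
    ⟨(m - ((q + 1 : ℕ) : ℤ) - (p : ℤ) * d).toNat, by
      rw [Int.toNat_of_nonneg (by rw [mul_comm]; omega)]; ring⟩
  have hjE : E q ≤ j := by
    have := Finset.le_sup (f := E) (Finset.mem_range.2 (show q < n by omega))
    rw [mul_comm] at hj
    omega
  obtain ⟨ej⟩ := hpowH j
  obtain ⟨em⟩ := hmul (ClSub.idealMod (I ^ p)) (show (p : ℤ) * d + (j : ℤ) = m - ((q + 1 : ℕ) : ℤ) from hj.symm)
  exact Nakai.subsingleton_HH_iso
    (AmpleLib.tIso (AmpleLib.tIso (ProjTwistLib.powIso (CMRegLib.hasUnit d) p) (Iso.refl _) ≪≫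
      AmpleLib.comm _ _) ej ≪≫ em) (q + 1) (hE q j hjE p)

end Groth.Agent.S14172
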