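import Groth.Statements.S14175
import Mathlib
-- import your own Groth.Agent.* helpers here

set_option autoImplicit false
universe u v w
open GalCoh

namespace Groth.Agent.S14175

/-- Let G be a finite cyclic group generated by t, let m be a natural number dividing the order of G,
and let ρ be a linear representation of G on a module V over a commutative ring k such that m·V = 0
and every element of G whose m-th power is the identity acts trivially on V. Then evaluating a
crossed homomorphism at t induces a bijection from the first cohomology of G with values in V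
(crossed homomorphisms f, i.e. f(gh) = ρ(g)f(h) + f(g), modulo the principal ones g ↦ ρ(g)x − x)
onto the coinvariants V_G (the quotient of V by the span of all ρ(g)v − v): the class of f(t) in V_G
vanishes exactly when f is principal, and every class of V_G is the class of f(t) for some crossed
homomorphism f. The bijection depends on the choice of the generator t. -/
theorem result
    {k : Type u} {G : Type v} {V : Type w} [CommRing k] [Group G] [Finite G]
    [AddCommGroup V] [Module k V] (ρ : Representation k G V)
    (t : G) (ht : ∀ g : G, g ∈ Subgroup.zpowers t)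
    (m : ℕ) (hm : m ∣ Nat.card G) (htors : ∀ v : V, m • v = 0)
    (htriv : ∀ g : G, g ^ m = 1 → ∀ v : V, ρ g v = v) :
    (∀ f : G → V, (∀ g h : G, f (g * h) = ρ g (f h) + f g) →
        (Representation.Coinvariants.mk ρ (f t) = 0 ↔ ∃ x : V, ∀ g : G, f g = ρ g x - x)) ∧
    (∀ v : V, ∃ f : G → V, (∀ g h : G, f (g * h) = ρ g (f h) + f g) ∧
        Representation.Coinvariants.mk ρ (f t) = Representation.Coinvariants.mk ρ v) := by
  classical
  haveI : Fintype G := Fintype.ofFinite G
  set N := Nat.card G with hN
  have hord : orderOf t = N := orderOf_eq_card_of_forall_mem_zpowers ht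
  have hpow : ∀ g : G, ∃ i : ℕ, g = t ^ i := fun g => by
    obtain ⟨i, hi⟩ := mem_powers_iff_mem_zpowers.mpr (ht g)
    exact ⟨i, hi.symm⟩
  obtain ⟨q, hq⟩ := hm
  have hcoinv : ∀ w : V, Representation.Coinvariants.mk ρ w = 0 ↔ ∃ x, w = ρ t x - x := by
    intro w
    rw [Representation.Coinvariants.mk_eq_zero]
    constructor
    · intro hw
      induction hw using Submodule.span_induction with
      | mem z hz =>
        obtain ⟨⟨g, y⟩, rfl⟩ := hz
        obtain ⟨i, rfl⟩ := hpow g
        dsimp only
        induction i with
        | zero => exact ⟨0, by simp⟩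
        | succ i ih =>
          obtain ⟨x, hx⟩ := ih
          refine ⟨ρ (t ^ i) y + x, ?_⟩
          rw [pow_succ', map_mul, Module.End.mul_apply, map_add]
          linear_combination (norm := abel) hx
      | zero => exact ⟨0, by simp⟩
      | add a b _ _ ha hb =>
        obtain ⟨x, rfl⟩ := ha
        obtain ⟨y, rfl⟩ := hb
        exact ⟨x + y, by rw [map_add]; abel⟩
      | smul c a _ ha =>
        obtain ⟨x, rfl⟩ := ha
        exact ⟨c • x, by rw [map_smul, smul_sub]⟩
    · rintro ⟨x, rfl⟩
      exact Submodule.subset_span ⟨(t, x), rfl⟩
  refine ⟨fun f hf => ⟨fun h => ?_, fun ⟨x, hx⟩ => (hcoinv _).mpr ⟨x, hx t⟩⟩, fun v => ?_⟩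
  · obtain ⟨x, hx⟩ := (hcoinv _).mp h
    refine ⟨x, fun g => ?_⟩
    obtain ⟨i, rfl⟩ := hpow g
    induction i with
    | zero =>
      have h1 := hf 1 1
      simp only [mul_one, map_one, Module.End.one_apply, left_eq_add] at h1
      simp [h1]
    | succ i ih =>
      rw [pow_succ', hf, ih, hx, map_mul, Module.End.mul_apply, map_sub]
      abel
  · let S : ℕ → V := fun i => ∑ j ∈ Finset.range i, ρ (t ^ j) v
    have hS : ∀ a b, S (a + b) = S a + ρ (t ^ a) (S b) := fun a b => by
      simp only [S, Finset.sum_range_add, map_sum, pow_add, map_mul, Module.End.mul_apply]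
    have hN0 : 0 < N := Nat.card_pos
    have hmul : ∀ a, S (a * q) = a • S q := fun a => by
      induction a with
      | zero => simp [S]
      | succ a ih =>
        have e : ρ (t ^ (a * q)) (S q) = S q := by
          refine htriv _ ?_ _
          rw [← pow_mul, show a * q * m = N * a by rw [hq]; ring, pow_mul, ← hord, pow_orderOf_eq_one,
            one_pow]
        rw [Nat.succ_mul, hS, ih, e, succ_nsmul]
    have hSN : S N = 0 := by rw [hq, hmul, htors]
    have hper : ∀ a c, S (a + N * c) = S a := fun a c => by
      have h0 : S (N * c) = 0 := by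
        induction c with
        | zero => simp [S]
        | succ c ih => rw [Nat.mul_succ, hS, ih, hSN, map_zero, add_zero]
      rw [hS, h0, map_zero, add_zero]
    have hmod : ∀ a, S (a % N) = S a := fun a => by
      conv_rhs => rw [← Nat.mod_add_div a N]
      rw [hper]
    choose idx hidx using hpow
    have hS' : ∀ (g : G) (i : ℕ), g = t ^ i → S (idx g) = S i := by
      intro g i hi
      have h1 : t ^ idx g = t ^ i := (hidx g).symm.trans hi
      rw [pow_eq_pow_iff_modEq, hord] at h1
      rw [← hmod (idx g), ← hmod i, h1]
    refine ⟨fun g => S (idx g), fun g h => ?_, ?_⟩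
    · show S (idx (g * h)) = ρ g (S (idx h)) + S (idx g)
      rw [hS' (g * h) (idx g + idx h) (by rw [pow_add, ← hidx, ← hidx]), hS, add_comm, ← hidx]
    · show Representation.Coinvariants.mk ρ (S (idx t)) = _
      rw [hS' t 1 (pow_one t).symm]
      simp [S]

end Groth.Agent.S14175
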