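import Groth.Statements.S14176
import Groth.Agent.PowCommLib.Basic
-- import your own Groth.Agent.* helpers here

set_option autoImplicit false
set_option backward.isDefEq.respectTransparency false
universe u
open Pi1

namespace Groth.Agent.S14176

open scoped commutatorElement in
open W4c1etcurveeff2 in
/-- Let G be a topological group in which some finite subset generates a dense subgroup, let n ≥ 1, and
let S be the closure of the subgroup generated by all n-th powers and all commutators. Write D for
the group of continuous homomorphisms from G to the discrete cyclic group ℤ/n, that is,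
homomorphisms with open kernel (the first cohomology of G with coefficients in the trivial module
ℤ/n), and D^∨ for its ℤ/n-dual, the group of homomorphisms D → ℤ/n. Then: S is carried onto itself
by every group automorphism of G that is a homeomorphism; an element g of G lies in S exactly when
every element of D kills g, and every element of D^∨ is evaluation at some element of G, so that
evaluation identifies G/S with D^∨; and S is the only closed normal subgroup H of G with G/H
isomorphic to D^∨. (The published statement is for a topologically finitely generated group, calls S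
characteristic and does not restrict the competing subgroups H; this row asks the automorphisms to
be homeomorphisms and H to be closed, which is what the argument uses: for the integers with the
p-adic topology times a cyclic group of prime order q ≠ p, the subgroup qℤ × ℤ/q is normal, not
closed, and has quotient isomorphic to D^∨ ≅ ℤ/q, while S = ℤ × 0.) -/
theorem result
    {G : Type u} [Group G] [TopologicalSpace G] [IsTopologicalGroup G]
    (s : Finset G) (hs : Dense ((Subgroup.closure (s : Set G) : Subgroup G) : Set G))
    (n : ℕ) [NeZero n] (S : Subgroup G) (hS : S = powCommClosure G n) :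
    (∀ φ : G ≃* G, Continuous φ → Continuous φ.symm → S.map φ.toMonoidHom = S) ∧
    (∀ g : G, g ∈ S ↔
        ∀ χ : G →* Multiplicative (ZMod n), IsOpen ((χ.ker : Subgroup G) : Set G) → χ g = 1) ∧
    (∀ F : ContChar G n →* Multiplicative (ZMod n), ∃ g : G,
        ∀ χ : ContChar G n, F χ = (χ.1 : G →* Multiplicative (ZMod n)) g) ∧
    (∀ (H : Subgroup G) [H.Normal], IsClosed (H : Set G) →
        Nonempty (G ⧸ H ≃* (ContChar G n →* Multiplicative (ZMod n))) → H = S) := by
  subst hS
  haveI hfin := Groth.Agent.PowCommLib.finite_quotient n s hs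
  have hopen := Groth.Agent.PowCommLib.isOpen_powCommClosure n s hs
  set S := powCommClosure G n with hSdef
  letI : CommGroup (G ⧸ S) :=
    { (inferInstance : Group (G ⧸ S)) with
      mul_comm := fun a b => by
        obtain ⟨a, rfl⟩ := QuotientGroup.mk_surjective a
        obtain ⟨b, rfl⟩ := QuotientGroup.mk_surjective b
        rw [← QuotientGroup.mk_mul, ← QuotientGroup.mk_mul, QuotientGroup.eq]
        apply Groth.Agent.PowCommLib.commutator_le_powCommClosure n
        have h : (a * b)⁻¹ * (b * a) = ⁅b⁻¹, a⁻¹⁆ := by rw [commutatorElement_def]; group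
        rw [h, commutator_def]
        exact Subgroup.commutator_mem_commutator (Subgroup.mem_top _) (Subgroup.mem_top _) }
  have hn : ∀ a : G ⧸ S, a ^ n = 1 := fun a => by
    obtain ⟨g, rfl⟩ := QuotientGroup.mk_surjective a
    rw [← QuotientGroup.mk_pow, QuotientGroup.eq_one_iff]
    exact Groth.Agent.PowCommLib.pow_mem_powCommClosure n g
  let J : ((G ⧸ S) →* Multiplicative (ZMod n)) →* ContChar G n :=
    { toFun := fun ψ => ⟨ψ.comp (QuotientGroup.mk' S), Subgroup.isOpen_mono (H₁ := S) (fun g hg => by
        rw [MonoidHom.mem_ker, MonoidHom.comp_apply, QuotientGroup.mk'_apply, (QuotientGroup.eq_one_iff g).2 hg,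
          map_one]) hopen⟩
      map_one' := rfl
      map_mul' := fun _ _ => rfl }
  have hJ : Function.Surjective J := fun χ =>
    ⟨QuotientGroup.lift S χ.1 (Groth.Agent.PowCommLib.powCommClosure_le_ker n χ.2),
      Subtype.ext (MonoidHom.ext fun g => rfl)⟩
  have h2 : ∀ g : G, g ∈ S ↔
      ∀ χ : G →* Multiplicative (ZMod n), IsOpen ((χ.ker : Subgroup G) : Set G) → χ g = 1 := by
    refine fun g => ⟨fun hg χ hχ => Groth.Agent.PowCommLib.powCommClosure_le_ker n hχ hg, fun h => ?_⟩
    by_contra hg
    obtain ⟨ψ, hψ⟩ := Groth.Agent.PowCommLib.dual_separates hn (a := (g : G ⧸ S))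
      (fun e => hg ((QuotientGroup.eq_one_iff g).1 e))
    exact hψ (h (J ψ).1 (J ψ).2)
  have h3 : ∀ F : ContChar G n →* Multiplicative (ZMod n), ∃ g : G,
      ∀ χ : ContChar G n, F χ = (χ.1 : G →* Multiplicative (ZMod n)) g := by
    intro F
    obtain ⟨a, ha⟩ := Groth.Agent.PowCommLib.dual_surjective hn (F.comp J)
    obtain ⟨g, rfl⟩ := QuotientGroup.mk_surjective a
    refine ⟨g, fun χ => ?_⟩
    obtain ⟨ψ, rfl⟩ := hJ χ
    exact ha ψ
  refine ⟨fun φ hφ hφ' => ?_, h2, h3, fun H _ hH ⟨eH⟩ => ?_⟩
  · ext g
    rw [Subgroup.mem_map_equiv, h2, h2]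
    refine ⟨fun h χ hχ => ?_, fun h χ hχ => ?_⟩
    · have := h (χ.comp φ.toMonoidHom) (by rw [← MonoidHom.comap_ker]; exact hχ.preimage hφ)
      simpa using this
    · simpa using h (χ.comp φ.symm.toMonoidHom) (by rw [← MonoidHom.comap_ker]; exact hχ.preimage hφ')
  · let ev : G →* (ContChar G n →* Multiplicative (ZMod n)) :=
      { toFun := fun g => (MonoidHom.eval g).comp (ContChar G n).subtype
        map_one' := MonoidHom.ext fun χ => map_one χ.1
        map_mul' := fun a b => MonoidHom.ext fun χ => map_mul χ.1 a b }
    have hker : ev.ker = S := by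
      ext g
      rw [MonoidHom.mem_ker, h2, MonoidHom.ext_iff]
      exact ⟨fun h χ hχ => h ⟨χ, hχ⟩, fun h χ => h χ.1 χ.2⟩
    have hsurj : Function.Surjective ev := fun F => (h3 F).imp fun g hg => MonoidHom.ext fun χ => (hg χ).symm
    have e1 : G ⧸ S ≃* (ContChar G n →* Multiplicative (ZMod n)) :=
      (QuotientGroup.quotientMulEquivOfEq hker.symm).trans (QuotientGroup.quotientKerEquivOfSurjective ev hsurj)
    have hle : S ≤ H := by
      refine Groth.Agent.PowCommLib.powCommClosure_le n hH (fun g => ?_) ?_
      · rw [← QuotientGroup.eq_one_iff (N := H)]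
        apply (eH.trans e1.symm).injective
        rw [QuotientGroup.mk_pow, map_pow, hn, map_one]
      · rw [commutator_def, Subgroup.commutator_le]
        intro a _ b _
        rw [← QuotientGroup.eq_one_iff (N := H)]
        apply (eH.trans e1.symm).injective
        rw [map_one, commutatorElement_def]
        simp only [QuotientGroup.mk_mul, QuotientGroup.mk_inv, map_mul, map_inv]
        rw [mul_comm ((eH.trans e1.symm) (QuotientGroup.mk a)) _, mul_inv_cancel_right, mul_inv_cancel]
    haveI : Finite (G ⧸ H) := Finite.of_equiv _ (eH.trans e1.symm).symm.toEquiv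
    haveI : H.FiniteIndex := Subgroup.finiteIndex_of_finite_quotient
    haveI : S.FiniteIndex := Subgroup.finiteIndex_of_finite_quotient
    have hidx : S.index = H.index := Nat.card_congr (e1.trans eH.symm).toEquiv
    refine le_antisymm (Subgroup.relIndex_eq_one.1 ?_) hle
    have := Subgroup.relIndex_mul_index hle
    rw [← hidx] at this
    exact Nat.eq_of_mul_eq_mul_right (Nat.pos_of_ne_zero Subgroup.FiniteIndex.index_ne_zero) (this.trans (one_mul _).symm)

end Groth.Agent.S14176
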