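import Groth.Statements.S14177
import Mathlib
-- import your own Groth.Agent.* helpers here

set_option autoImplicit false
universe u v w
open scoped nonZeroDivisors
open EtAlg

namespace Groth.Agent.S14177

/-- Let A be a Dedekind domain with fraction field K, let n be a natural number invertible in A, let f
be a nonzero element of K whose principal fractional ideal is the n-th power of a fractional ideal I
(the divisor of f is n times a divisor), and let L = K(α) be a field extension of K generated by a
single element α with α^n = f. Then the integral closure of A in L is finite and étale over A. (The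
published statement is for the normalisation of an integral smooth curve over a perfect field in
such an extension of its function field; this row states the same for any Dedekind domain, the case
the local argument covers.) -/
theorem result
    {A : Type u} {K : Type v} {L : Type w} [CommRing A] [IsDedekindDomain A]
    [Field K] [Algebra A K] [IsFractionRing A K]
    [Field L] [Algebra K L] [Algebra A L] [IsScalarTower A K L]
    (n : ℕ) (hn : IsUnit (n : A)) (f : K) (hf : f ≠ 0)
    (I : FractionalIdeal A⁰ K) (hI : FractionalIdeal.spanSingleton A⁰ f = I ^ n)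
    (α : L) (hα : α ^ n = algebraMap K L f) (hgen : IntermediateField.adjoin K {α} = ⊤) :
    Algebra.Etale A (integralClosure A L) ∧ Module.Finite A (integralClosure A L) := by
  classical
  have hn0 : n ≠ 0 := fun h => by rw [h, Nat.cast_zero] at hn; exact not_isUnit_zero hn
  have hnK : (n : K) ≠ 0 := fun h => by
    have h1 := hn.map (algebraMap A K)
    rw [map_natCast, h] at h1
    exact not_isUnit_zero h1
  let g : Polynomial K := Polynomial.X ^ n - Polynomial.C f
  have hga : Polynomial.aeval α g = 0 := by simp [g, hα]
  have hint : IsIntegral K α := ⟨g, Polynomial.monic_X_pow_sub_C f hn0, hga⟩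
  haveI : FiniteDimensional K L := by
    haveI := IntermediateField.adjoin.finiteDimensional hint
    rw [hgen] at this
    exact Module.Finite.equiv IntermediateField.topEquiv.toLinearEquiv
  haveI : Algebra.IsSeparable K L := by
    have hsep : IsSeparable K α :=
      (Polynomial.separable_X_pow_sub_C f hnK hf).of_dvd (minpoly.dvd K α hga)
    haveI : Algebra.IsSeparable K (IntermediateField.adjoin K {α}) :=
      (IntermediateField.isSeparable_adjoin_simple_iff_isSeparable K L).2 hsep
    rw [hgen] at this
    exact Algebra.IsSeparable.of_algHom K _ IntermediateField.topEquiv.symm.toAlgHom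
  let B := integralClosure A L
  haveI : Module.Finite A B := IsIntegralClosure.finite A K L B
  haveI : IsDedekindDomain B := integralClosure.isDedekindDomain A K L
  haveI : IsFractionRing B L := integralClosure.isFractionRing_of_finite_extension K L
  have hinj : Function.Injective (algebraMap A L) := by
    rw [IsScalarTower.algebraMap_eq A K L]
    exact (algebraMap K L).injective.comp (IsFractionRing.injective A K)
  have hinjB : Function.Injective (algebraMap A B) := fun a b h => hinj (congrArg Subtype.val h)
  haveI : Module.IsTorsionFree A B := by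
    rw [Module.isTorsionFree_iff_algebraMap_injective]
    exact hinjB
  haveI : Module.Flat A B := by
    rw [IsDedekindDomain.flat_iff_torsion_eq_bot, ← Submodule.isTorsionFree_iff_torsion_eq_bot]
    infer_instance
  haveI : Algebra.FinitePresentation A B := Algebra.FinitePresentation.of_finiteType.1 inferInstance
  haveI : FaithfulSMul A B := (faithfulSMul_iff_algebraMap_injective A B).2 hinjB
  letI := FractionRing.liftAlgebra A (FractionRing B)
  haveI : IsScalarTower A (FractionRing A) (FractionRing B) := FractionRing.isScalarTower_liftAlgebra A _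
  haveI : Algebra.IsSeparable (FractionRing A) (FractionRing B) := by
    refine Algebra.IsSeparable.of_equiv_equiv (FractionRing.algEquiv A K).symm.toRingEquiv
      (FractionRing.algEquiv B L).symm.toRingEquiv ?_
    refine IsLocalization.ringHom_ext A⁰ (RingHom.ext fun a => ?_)
    show algebraMap (FractionRing A) (FractionRing B) ((FractionRing.algEquiv A K).symm (algebraMap A K a)) =
      (FractionRing.algEquiv B L).symm (algebraMap K L (algebraMap A K a))
    rw [AlgEquiv.commutes, ← IsScalarTower.algebraMap_apply A K L, IsScalarTower.algebraMap_apply A B L,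
      AlgEquiv.commutes, ← IsScalarTower.algebraMap_apply, ← IsScalarTower.algebraMap_apply]
  refine ⟨?_, inferInstance⟩
  haveI : Algebra.FormallyUnramified A B := by
    rw [Algebra.formallyUnramified_iff_forall]
    rintro ⟨P, hP⟩
    haveI := hP
    obtain ⟨p, hp, hPp⟩ := Ideal.exists_le_maximal (P.under A) (Ideal.IsPrime.under A P).ne_top
    have hI0 : I ≠ 0 := fun h => by
      rw [h, zero_pow hn0, FractionalIdeal.spanSingleton_eq_zero_iff] at hI
      exact hf hI
    have hlt : ¬ (I⁻¹ ≤ (p : FractionalIdeal A⁰ K) * I⁻¹) := fun hle => by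
      have h1 := mul_le_mul_left hle I
      rw [inv_mul_cancel₀ hI0, mul_assoc, inv_mul_cancel₀ hI0, mul_one, ← FractionalIdeal.coeIdeal_top,
        FractionalIdeal.coeIdeal_le_coeIdeal] at h1
      exact hp.ne_top (top_le_iff.1 h1)
    obtain ⟨y, hy, hyp⟩ := SetLike.not_le_iff_exists.1 hlt
    have hJle : FractionalIdeal.spanSingleton A⁰ y * I ≤ 1 := by
      rw [← inv_mul_cancel₀ hI0]
      exact mul_le_mul_left (FractionalIdeal.spanSingleton_le_iff_mem.2 hy) I
    obtain ⟨J, hJ⟩ := FractionalIdeal.le_one_iff_exists_coeIdeal.1 hJle
    have hJp : ¬ J ≤ p := fun hle => by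
      refine hyp ?_
      rw [← FractionalIdeal.spanSingleton_le_iff_mem]
      calc FractionalIdeal.spanSingleton A⁰ y = (J : FractionalIdeal A⁰ K) * I⁻¹ := by
            rw [hJ, mul_assoc, mul_inv_cancel₀ hI0, mul_one]
        _ ≤ (p : FractionalIdeal A⁰ K) * I⁻¹ :=
            mul_le_mul_left ((FractionalIdeal.coeIdeal_le_coeIdeal K).2 hle) _
    have hJn : FractionalIdeal.spanSingleton A⁰ (y ^ n * f) = ((J ^ n : Ideal A) : FractionalIdeal A⁰ K) := by
      rw [FractionalIdeal.coeIdeal_pow, hJ, mul_pow, ← FractionalIdeal.spanSingleton_mul_spanSingleton,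
        hI, FractionalIdeal.spanSingleton_pow]
    obtain ⟨c, hcJ, hc⟩ := (FractionalIdeal.mem_coeIdeal A⁰).1
      (hJn ▸ FractionalIdeal.mem_spanSingleton_self A⁰ (y ^ n * f) :
        y ^ n * f ∈ ((J ^ n : Ideal A) : FractionalIdeal A⁰ K))
    have hcp : c ∉ p := fun hcp' => by
      refine hJp (hp.isPrime.le_of_pow_le (n := n) ?_)
      intro z hz
      have hz' : algebraMap A K z ∈ FractionalIdeal.spanSingleton A⁰ (y ^ n * f) :=
        hJn ▸ (FractionalIdeal.mem_coeIdeal A⁰).2 ⟨z, hz, rfl⟩
      obtain ⟨w, hw⟩ := (FractionalIdeal.mem_spanSingleton A⁰).1 hz'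
      rw [← hc, Algebra.smul_def, ← map_mul] at hw
      exact (IsFractionRing.injective A K hw) ▸ Ideal.mul_mem_left _ w hcp'
    have hy0 : y ≠ 0 := fun h => hyp (by rw [h, ← FractionalIdeal.mem_coe]; exact Submodule.zero_mem _)
    let β : L := α * algebraMap K L y
    have hβn : β ^ n = algebraMap A L c := by
      rw [mul_pow, hα, ← map_pow, ← map_mul, mul_comm f, IsScalarTower.algebraMap_apply A K L, hc]
    have hβint : IsIntegral A β :=
      ⟨Polynomial.X ^ n - Polynomial.C c, Polynomial.monic_X_pow_sub_C c hn0, by simp [hβn]⟩
    let b : B := ⟨β, hβint⟩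
    have hbn : b ^ n = algebraMap A B c := Subtype.ext hβn
    have hadj : Algebra.adjoin K {algebraMap B L b} = ⊤ := by
      have h1 : (IntermediateField.adjoin K {β}) = ⊤ := by
        rw [eq_top_iff, ← hgen, IntermediateField.adjoin_simple_le_iff]
        have h2 : algebraMap K L y⁻¹ ∈ IntermediateField.adjoin K {β} := IntermediateField.algebraMap_mem _ _
        have h3 := mul_mem (IntermediateField.mem_adjoin_simple_self K β) h2
        rwa [mul_assoc, ← map_mul, mul_inv_cancel₀ hy0, map_one, mul_one] at h3
      have h4 := IntermediateField.adjoin_simple_toSubalgebra_of_isAlgebraic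
        (IsAlgebraic.of_finite K β)
      rw [h1, IntermediateField.top_toSubalgebra] at h4
      exact h4.symm
    have hdiff := aeval_derivative_mem_differentIdeal A K L b hadj
    rw [← not_dvd_differentIdeal_iff, Ideal.dvd_iff_le]
    intro hle
    have hmem := hle hdiff
    have hbint : IsIntegral A b := Algebra.IsIntegral.isIntegral b
    obtain ⟨h, hh⟩ := minpoly.isIntegrallyClosed_dvd hbint
      (p := Polynomial.X ^ n - Polynomial.C c) (by simp [hbn])
    have hd := congrArg (fun q => Polynomial.aeval b (Polynomial.derivative q)) hh
    simp only [Polynomial.derivative_sub, Polynomial.derivative_X_pow, Polynomial.derivative_C, sub_zero,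
      Polynomial.derivative_mul, map_add, map_mul, minpoly.aeval, zero_mul, add_zero, Polynomial.aeval_C,
      Polynomial.aeval_X, map_pow, map_natCast] at hd
    have hnb : (n : B) * b ^ (n - 1) ∈ P := hd ▸ Ideal.mul_mem_right _ _ hmem
    have hu : IsUnit (n : B) := by simpa using hn.map (algebraMap A B)
    have hb : b ^ (n - 1) ∈ P := (P.unit_mul_mem_iff_mem hu).1 hnb
    have hbc : b ^ n ∈ P := by
      obtain ⟨m, hm⟩ : ∃ m, n = (n - 1) + m := ⟨1, by omega⟩
      rw [hm, pow_add]
      exact Ideal.mul_mem_right _ _ hb
    rw [hbn] at hbc
    exact hcp (hPp hbc)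
  exact Algebra.Etale.of_formallyUnramified_of_flat

end Groth.Agent.S14177
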