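import Groth.Statements.S14178
import Mathlib
-- import your own Groth.Agent.* helpers here

set_option autoImplicit false
universe u v w
open scoped nonZeroDivisors
open EtAlg

namespace Groth.Agent.S14178

/-- Let A be a Dedekind domain with fraction field K, let n be a natural number invertible in A such
that K contains a primitive n-th root of unity, let f be a nonzero element of K and I an invertible
fractional ideal of A with (f) = I^n whose class in the ideal class group of A has order exactly n
(the divisor of f is n times a divisor whose class has order n), and let L = K(α) be a field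
extension of K generated by a single element α with α^n = f. Then L is Galois over K of degree n
with cyclic Galois group. (The published statement is for an integral smooth curve over a perfect
field containing a primitive n-th root of unity, with the Picard group of the curve in place of the
class group; this row states it for any Dedekind domain.) -/
theorem result
    {A : Type u} {K : Type v} {L : Type w} [CommRing A] [IsDedekindDomain A]
    [Field K] [Algebra A K] [IsFractionRing A K]
    [Field L] [Algebra K L]
    (n : ℕ) (hn : IsUnit (n : A)) (ζ : K) (hζ : IsPrimitiveRoot ζ n) (f : K) (hf : f ≠ 0)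
    (I : (FractionalIdeal A⁰ K)ˣ) (hI : FractionalIdeal.spanSingleton A⁰ f = (I : FractionalIdeal A⁰ K) ^ n)
    (hord : orderOf (ClassGroup.mk K I) = n)
    (α : L) (hα : α ^ n = algebraMap K L f) (hgen : IntermediateField.adjoin K {α} = ⊤) :
    IsGalois K L ∧ IsCyclic (L ≃ₐ[K] L) ∧ Module.finrank K L = n := by
  classical
  have hn0 : n ≠ 0 := by
    intro h
    rw [h, Nat.cast_zero] at hn
    exact not_isUnit_zero hn
  have hint : IsIntegral K α := ⟨Polynomial.X ^ n - Polynomial.C f, Polynomial.monic_X_pow_sub_C f hn0, by simp [hα]⟩
  haveI : FiniteDimensional K L := by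
    haveI := IntermediateField.adjoin.finiteDimensional hint
    rw [hgen] at this
    exact Module.Finite.equiv IntermediateField.topEquiv.toLinearEquiv
  set d := Module.finrank K L with hd
  have hdpos : 0 < d := Module.finrank_pos
  let c := Algebra.norm K α
  have hc : c ^ n = f ^ d := by
    rw [← map_pow (Algebra.norm K), hα, Algebra.norm_algebraMap]
  have hc0 : c ≠ 0 := fun h => by
    rw [h, zero_pow hn0] at hc
    exact pow_ne_zero d hf hc.symm
  have hI0 : ((I : FractionalIdeal A⁰ K)) ^ d ≠ 0 := pow_ne_zero _ I.ne_zero
  have hs0 : FractionalIdeal.spanSingleton A⁰ c ≠ 0 := FractionalIdeal.spanSingleton_ne_zero_iff.2 hc0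
  have hcount : ∀ v : IsDedekindDomain.HeightOneSpectrum A,
      FractionalIdeal.count K v (FractionalIdeal.spanSingleton A⁰ c) =
        FractionalIdeal.count K v ((I : FractionalIdeal A⁰ K) ^ d) := fun v => by
    have h1 : FractionalIdeal.count K v (FractionalIdeal.spanSingleton A⁰ c ^ n) =
        FractionalIdeal.count K v (((I : FractionalIdeal A⁰ K) ^ d) ^ n) := by
      rw [FractionalIdeal.spanSingleton_pow, hc, ← FractionalIdeal.spanSingleton_pow, hI, ← pow_mul,
        ← pow_mul, mul_comm]
    rw [FractionalIdeal.count_pow K v n, FractionalIdeal.count_pow K v n] at h1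
    exact mul_left_cancel₀ (Int.natCast_ne_zero.2 hn0) h1
  have heq : FractionalIdeal.spanSingleton A⁰ c = (I : FractionalIdeal A⁰ K) ^ d := by
    rw [← FractionalIdeal.finprod_heightOneSpectrum_factorization' K hs0,
      ← FractionalIdeal.finprod_heightOneSpectrum_factorization' K hI0]
    exact finprod_congr fun v => by rw [hcount v]
  have hmk : ClassGroup.mk K (I ^ d) = 1 := by
    rw [ClassGroup.mk_eq_one_iff]
    refine ⟨c, ?_⟩
    rw [Units.val_pow_eq_pow_val, ← heq, FractionalIdeal.coe_spanSingleton]
  have hdn : d = n := by
    refine le_antisymm ?_ (Nat.le_of_dvd hdpos ?_)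
    · rw [hd, ← IntermediateField.finrank_top' (F := K) (E := L), ← hgen, IntermediateField.adjoin.finrank hint]
      refine le_trans (Polynomial.natDegree_le_of_dvd (minpoly.dvd K α (p := Polynomial.X ^ n - Polynomial.C f) (by simp [hα]))
        (Polynomial.X_pow_sub_C_ne_zero (Nat.pos_of_ne_zero hn0) f)) ?_
      rw [Polynomial.natDegree_X_pow_sub_C]
    · rw [← hord]
      exact orderOf_dvd_of_pow_eq_one (by rw [← map_pow]; exact hmk)
  have hK : (primitiveRoots (Module.finrank K L) K).Nonempty := by
    rw [← hd, hdn]
    exact ⟨ζ, (mem_primitiveRoots (Nat.pos_of_ne_zero hn0)).2 hζ⟩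
  have ha : α ^ Module.finrank K L = algebraMap K L f := by rw [← hd, hdn]; exact hα
  have H := irreducible_X_pow_sub_C_of_root_adjoin_eq_top ha hgen
  haveI := isSplittingField_X_pow_sub_C_of_root_adjoin_eq_top hK ha hgen
  haveI : NeZero (Module.finrank K L) := ⟨hdpos.ne'⟩
  exact ⟨isGalois_of_isSplittingField_X_pow_sub_C hK H L, isCyclic_of_isSplittingField_X_pow_sub_C hK H L, hdn⟩

end Groth.Agent.S14178
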