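import Groth.Statements.S14180
import Groth.Agent.NormNodeLib.Main
import Groth.Agent.NormNodeLib.Branches
import Groth.Agent.S1585
import Groth.Agent.S13507
-- import your own Groth.Agent.* helpers here

set_option autoImplicit false
universe u
open CategoryTheory CategoryTheory.Limits AlgebraicGeometry
open EtCore

namespace Groth.Agent.S14180

/-- Let k be an algebraically closed field and n ≥ 1 an integer invertible in k; let X be an integral
proper curve over k (separated and of finite type, of dimension one) whose closed points are all
smooth points or nodes, with exactly one node, and let ν : X^ν ⟶ X be its normalization. Then the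
pullback map H¹(X, μ_n) → H¹(X^ν, ν⁻¹μ_n) on étale cohomology is surjective and its kernel has
exactly n elements (it is the image of (μ_n(k) × μ_n(k))/μ_n(k)). (The published statement is for
the base change to an algebraic closure of a projective nodal curve with one node over a perfect
field and records the Galois-module structure of the short exact sequence; this row keeps the part
over the algebraically closed field. Exactness of pullback and the quasi-compactness and
quasi-separatedness of Spec K(X) ⟶ X always hold; the binders only serve to form the map and the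
normalization.) -/
theorem result
    (k : Type u) [Field k] [IsAlgClosed k] (X : Scheme.{u}) [X.Over (Spec (CommRingCat.of k))]
    [IsProper (X ↘ Spec (CommRingCat.of k))] [IsIntegral X]
    (hdim : topologicalKrullDim X = 1)
    (hnodal : Curv2.AtWorstNodal k X) (hone : Nat.card {x : X // Curv2.IsNode k X x} = 1)
    [QuasiCompact (X.fromSpecStalk (genericPoint X))] [QuasiSeparated (X.fromSpecStalk (genericPoint X))]
    [PreservesFiniteLimits (EtCoh.pull (Curv2.normalizationι X))]
    (n : ℕ) (hn : 1 ≤ n) (hnk : (n : k) ≠ 0) :
    Function.Surjective (EtCore.Hpull (Curv2.normalizationι X) (EtCoh.mu X n) 1) ∧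
    Nat.card (EtCore.Hpull (Curv2.normalizationι X) (EtCoh.mu X n) 1).ker = n := by
  obtain ⟨hfin, hdom, -, hint, -⟩ := S1585.result k X
  haveI := hfin
  haveI := hdom
  haveI := hint
  haveI : Surjective (Curv2.normalizationι X) := by
    refine ⟨fun y => ?_⟩
    have h := (Curv2.normalizationι X).denseRange.closure_range
    rw [(Curv2.normalizationι X).isClosedMap.isClosed_range.closure_eq] at h
    exact h.ge (Set.mem_univ y)
  obtain ⟨hsub, hne⟩ := Nat.card_eq_one_iff_unique.1 hone
  obtain ⟨x, hxn⟩ := hne.some
  have huniq : ∀ z : X, Curv2.IsNode k X z → z = x := fun z hz =>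
    congrArg Subtype.val (hsub.elim (⟨z, hz⟩ : {x : X // Curv2.IsNode k X x}) ⟨x, hxn⟩)
  have hu : IsUnit (n : Γ(X, ⊤)) := by
    have h := ((IsUnit.mk0 _ hnk).map (Scheme.ΓSpecIso (CommRingCat.of k)).inv.hom).map
      (X ↘ Spec (CommRingCat.of k)).appTop.hom
    rwa [map_natCast, map_natCast] at h
  obtain ⟨z, hz⟩ := IsAlgClosed.exists_root (Polynomial.cyclotomic n k) (by
    rw [Polynomial.degree_cyclotomic]
    exact_mod_cast (Nat.totient_pos.2 hn).ne')
  let ι : k →+* Γ(X, ⊤) := (X ↘ Spec (CommRingCat.of k)).appTop.hom.comp (Scheme.ΓSpecIso (CommRingCat.of k)).inv.hom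
  have hroot : Polynomial.aeval (ι z) (Polynomial.cyclotomic n ℤ) = 0 := by
    have h1 : Polynomial.aeval z (Polynomial.cyclotomic n ℤ) = 0 := by
      rw [Polynomial.aeval_def, ← Polynomial.eval_map, Polynomial.map_cyclotomic]
      exact hz
    have := congrArg ι h1
    rw [map_zero, Polynomial.aeval_def, Polynomial.hom_eval₂] at this
    rw [Polynomial.aeval_def, RingHom.ext_int (algebraMap ℤ Γ(X, ⊤)) (ι.comp (algebraMap ℤ k))]
    exact this
  obtain ⟨e⟩ := S13507.nonempty_mu_iso_const X n hn hu (ι z) hroot
  exact NormNodeLib.surjective_and_card_ker (X ↘ Spec (CommRingCat.of k)) (Curv2.normalizationι X) x hxn.1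
    (fun y hy => NormNodeLib.exists_isIso_restrict k hdim hnodal x hxn.1 huniq y hy)
    (NormNodeLib.card_fibre_node k hdim hxn) hn _ e

end Groth.Agent.S14180
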