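import Groth.Statements.S14181
import Mathlib
-- import your own Groth.Agent.* helpers here

set_option autoImplicit false
universe u
open CategoryTheory
open GalCoh

namespace Groth.Agent.S14181

/-- Let G be a group with a finite normal subgroup P, k a commutative ring and A a k-linear
representation of G such that multiplication by the order of P is a bijection of A. Then the
inflation map on 1-cocycles (crossed homomorphisms) Z¹(G/P, A^P) → Z¹(G, A) has a k-linear left
inverse. (The published statement is for the inertia group of a Galois cover of smooth curves at a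
point, its normal Sylow p-subgroup P and a module of n-torsion with n prime to p; the argument uses
only that the order of P acts invertibly, which is the hypothesis taken here.) -/
theorem result
    {k G : Type u} [CommRing k] [Group G] (A : Rep.{u} k G) (P : Subgroup G) [P.Normal] [Finite P]
    (hP : Function.Bijective fun a : A => (Nat.card P : k) • a) :
    ∃ r : ModuleCat.of k (groupCohomology.cocycles₁ A) ⟶
        ModuleCat.of k (groupCohomology.cocycles₁ (A.quotientToInvariants P)),
      (groupCohomology.mapCocycles₁ (QuotientGroup.mk' P) (Rep.ofHom (A.ρ.quotientToInvariants_lift P)) :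
          ModuleCat.of k (groupCohomology.cocycles₁ (A.quotientToInvariants P)) ⟶
            ModuleCat.of k (groupCohomology.cocycles₁ A)) ≫ r = 𝟙 _ := by
  classical
  haveI : Fintype P := Fintype.ofFinite P
  let E : A ≃ₗ[k] A := LinearEquiv.ofBijective ((Nat.card P : k) • (LinearMap.id : A →ₗ[k] A)) hP
  have hEi : ∀ (g : G) (a : A), A.ρ g (E.symm a) = E.symm (A.ρ g a) := fun g a => by
    apply E.injective
    rw [LinearEquiv.apply_symm_apply]
    show (Nat.card P : k) • A.ρ g (E.symm a) = _
    rw [← map_smul]
    congr 1
    exact E.apply_symm_apply a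
  let v : groupCohomology.cocycles₁ A → A := fun f => E.symm (∑ p : P, f.1 (p : G))
  have hv : ∀ (f : groupCohomology.cocycles₁ A) (p : G), p ∈ P → f.1 p + A.ρ p (v f) - v f = 0 := by
    intro f p hp
    have h1 := (groupCohomology.mem_cocycles₁_iff f.1).1 f.2
    apply E.injective
    rw [map_zero, map_sub, map_add]
    simp only [v, hEi, LinearEquiv.apply_symm_apply, map_sum]
    have h2 : ∑ q : P, f.1 (q : G) = ∑ q : P, (A.ρ p (f.1 (q : G)) + f.1 p) := by
      refine (Fintype.sum_equiv (Equiv.mulLeft (⟨p, hp⟩ : P)) _ _ fun q => ?_).symm
      show A.ρ p (f.1 (q : G)) + f.1 p = f.1 (p * (q : G))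
      exact (h1 p q).symm
    conv_lhs => arg 2; rw [h2, Finset.sum_add_distrib, Finset.sum_const, Finset.card_univ]
    show (Nat.card P : k) • f.1 p + _ - _ = 0
    rw [Nat.cast_smul_eq_nsmul, Nat.card_eq_fintype_card]
    abel
  let F : groupCohomology.cocycles₁ A → G → A := fun f g => f.1 g + A.ρ g (v f) - v f
  have hFc : ∀ f g h, F f (g * h) = A.ρ g (F f h) + F f g := by
    intro f g h
    have h1 := (groupCohomology.mem_cocycles₁_iff f.1).1 f.2
    simp only [F, h1 g h, map_mul, Module.End.mul_apply, map_sub, map_add]
    abel
  have hFP : ∀ f p, p ∈ P → F f p = 0 := hv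
  have hFr : ∀ f g, ∀ p ∈ P, F f (g * p) = F f g := fun f g p hp => by
    rw [hFc, hFP f p hp, map_zero, zero_add]
  have hFi : ∀ f g, ∀ p : P, A.ρ p (F f g) = F f g := by
    intro f g p
    have h := hFc f p g
    rw [hFP f p p.2, add_zero, show (p : G) * g = g * (g⁻¹ * p * g) by group,
      hFr f g _ (Subgroup.Normal.conj_mem' ‹_› _ p.2 _)] at h
    exact h.symm
  let R : groupCohomology.cocycles₁ A → groupCohomology.cocycles₁ (A.quotientToInvariants P) := fun f =>
    ⟨fun g => Quotient.liftOn' g (fun g => ⟨F f g, fun p => hFi f g p⟩) (fun a b hab => by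
      apply Subtype.ext
      show F f a = F f b
      have h := hFr f a _ (QuotientGroup.leftRel_apply.1 hab)
      rwa [mul_inv_cancel_left, eq_comm] at h), by
      rw [groupCohomology.mem_cocycles₁_iff]
      intro g h
      induction g using QuotientGroup.induction_on with | _ g =>
      induction h using QuotientGroup.induction_on with | _ h =>
      exact Subtype.ext (hFc f g h)⟩
  refine ⟨ModuleCat.ofHom
    { toFun := R
      map_add' := fun a b => by
        apply Subtype.ext
        funext g
        induction g using QuotientGroup.induction_on with | _ g =>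
        apply Subtype.ext
        show F (a + b) g = F a g + F b g
        simp only [F, v, Submodule.coe_add, Pi.add_apply, Finset.sum_add_distrib, map_add]
        abel
      map_smul' := fun c a => by
        apply Subtype.ext
        funext g
        induction g using QuotientGroup.induction_on with | _ g =>
        apply Subtype.ext
        show F (c • a) g = c • F a g
        simp only [F, v, Submodule.coe_smul, Pi.smul_apply, ← Finset.smul_sum, map_smul, smul_add, smul_sub] }, ?_⟩
  ext x g
  induction g using QuotientGroup.induction_on with | _ g =>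
  set y := (groupCohomology.mapCocycles₁ (QuotientGroup.mk' P) (Rep.ofHom (A.ρ.quotientToInvariants_lift P)) :
          ModuleCat.of k (groupCohomology.cocycles₁ (A.quotientToInvariants P)) ⟶
            ModuleCat.of k (groupCohomology.cocycles₁ A)) x with hy
  have hyv : ∀ g : G, y.1 g = (x.1 (g : G ⧸ P)).1 := fun g => rfl
  have hvy : v y = 0 := by
    show E.symm _ = 0
    rw [LinearEquiv.map_eq_zero_iff]
    refine Finset.sum_eq_zero fun p _ => ?_
    rw [hyv, (QuotientGroup.eq_one_iff (p : G)).2 p.2]
    exact congrArg Subtype.val (groupCohomology.cocycles₁_map_one x)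
  show F y g = (x.1 (g : G ⧸ P)).1
  simp only [F, hvy, map_zero, add_zero, sub_zero, hyv]

end Groth.Agent.S14181
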