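import Groth.Statements.S14182
import Groth.Agent.LocSymLib.Tame
-- import your own Groth.Agent.* helpers here

set_option autoImplicit false
set_option backward.isDefEq.respectTransparency false
set_option maxHeartbeats 1600000
set_option backward.isDefEq.respectTransparency.types false
set_option linter.style.haveILetI false
set_option synthInstance.maxHeartbeats 200000
universe u
open CategoryTheory AlgebraicGeometry
open LocSym

namespace Groth.Agent.S14182

open Groth.Agent
attribute [local instance] Curv2.stalkAlgebra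
attribute [local instance high] FunFld.Place.algRes

open W4c1etcurveeff2 in
/-- Let k be an algebraically closed field and X a smooth proper integral curve over k (structure
morphism c, dimension one); divisors are finitely supported integer-valued functions on the k-points
and ord_x is the valuation at x. Let m be a reduced modulus (every multiplicity at most 1) with
support S, Pic the group of divisors modulo divisors of nonzero rational functions, and Pic_m the
group of divisors vanishing on S modulo divisors of nonzero rational functions congruent to 1 modulo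
m. Then: the natural map Pic_m → Pic is surjective; a class of Pic_m maps to zero exactly when it is
the class of the divisor of a nonzero rational function having a nonzero value at every point of S;
and for every family of nonzero scalars (v_x) there is a nonzero rational function g with value v_x
at each x ∈ S, the class of whose divisor in Pic_m vanishes exactly when the v_x for x ∈ S are all
equal. (So the kernel is (kˣ)^S modulo the diagonal kˣ, the short exact sequence 0 → (kˣ)^S/kˣ →
Pic_m → Pic → 0; the same then holds for the degree-zero parts.) -/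
theorem result
    (k : Type u) [Field k] [IsAlgClosed k] (X : Scheme.{u}) [IsIntegral X]
    (c : X ⟶ Spec (CommRingCat.of k)) [IsProper c] [Smooth c] (hdim : topologicalKrullDim X = 1)
    (m : LocSym.Pt c →₀ ℕ) (hm : ∀ x : LocSym.Pt c, m x ≤ 1) :
    Function.Surjective (picModToPic c m) ∧
    (∀ y : PicMod c m, picModToPic c m y = 0 ↔
      ∃ (g : X.functionField) (D : divAway c m) (v : LocSym.Pt c → kˣ),
        IsDivOf c (D : LocSym.Pt c →₀ ℤ) g ∧ (∀ x ∈ m.support, LocSym.HasValueAt x g (v x : k)) ∧
        y = (QuotientAddGroup.mk D : PicMod c m)) ∧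
    (∀ v : LocSym.Pt c → kˣ, ∃ (g : X.functionField) (D : divAway c m),
        IsDivOf c (D : LocSym.Pt c →₀ ℤ) g ∧ (∀ x ∈ m.support, LocSym.HasValueAt x g (v x : k)) ∧
        ((QuotientAddGroup.mk D : PicMod c m) = 0 ↔ ∃ a : kˣ, ∀ x ∈ m.support, v x = a)) := by
    classical
    letI : X.Over (Spec (CommRingCat.of k)) := ⟨c⟩
    haveI : IsProper (X ↘ Spec (CommRingCat.of k)) := ‹IsProper c›
    haveI : Smooth (X ↘ Spec (CommRingCat.of k)) := ‹Smooth c›
    haveI := (LocSymLib.setup (k := k) (X := X) hdim).1
    have hK := LocSymLib.isFF (k := k) hdim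
    let divP : X.functionField → (LocSym.Pt c →₀ ℤ) := fun g =>
      Finsupp.ofSupportFinite (fun x => x.ord g) (LocSymLib.finite_ord_ne_zero hdim g)
    have hdivP : ∀ g x, divP g x = x.ord g := fun g x => rfl
    have mem_principal : ∀ D : LocSym.Pt c →₀ ℤ, D ∈ principal c → ∃ g, IsDivOf c D g := by
      intro D hD
      induction hD using AddSubgroup.closure_induction with
      | mem D h => exact h
      | zero => exact ⟨1, one_ne_zero, fun x => (LocSymLib.ord_one hdim x).symm⟩
      | add D E _ _ hD hE =>
        obtain ⟨g, hg, hgD⟩ := hD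
        obtain ⟨h, hh, hhE⟩ := hE
        exact ⟨g * h, mul_ne_zero hg hh, fun x => by
          rw [Finsupp.add_apply, hgD, hhE, LocSymLib.ord_mul hdim x hg hh]⟩
      | neg D _ hD =>
        obtain ⟨g, hg, hgD⟩ := hD
        exact ⟨g⁻¹, inv_ne_zero hg, fun x => by rw [Finsupp.neg_apply, hgD, LocSymLib.ord_inv hdim]⟩
    have hcong : ∀ (g : X.functionField) (x : LocSym.Pt c), x ∈ m.support →
        (LocSym.Cong1At m x g ↔ LocSym.HasValueAt x g ((1 : kˣ) : k)) := by
      intro g x hx
      have hmx : m x = 1 := le_antisymm (hm x) (LocSymLib.one_le_of_mem hdim m hx)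
      rw [LocSymLib.hasValueAt_iff hdim, Units.val_one, TameRecLib.isVal_one_iff, LocSym.Cong1At, hmx, LocSymLib.ord_eq hdim,
        ← Valuation.map_neg, neg_sub, Nat.cast_one]
      by_cases h : (1 : X.functionField) - g = 0
      · rw [h, map_zero]; exact iff_of_true (Or.inl (sub_eq_zero.1 h).symm) zero_lt_one
      · rw [FF.v_lt_one_iff _ h]
        exact ⟨fun h' => by rcases h' with h' | h'; exacts [absurd (by rw [h', sub_self]) h, by omega], fun h' => Or.inr (by omega)⟩
    have mem_principalMod : ∀ D : divAway c m, D ∈ principalMod c m →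
        ∃ g, IsDivOf c (D : LocSym.Pt c →₀ ℤ) g ∧ ∀ x ∈ m.support, LocSym.HasValueAt x g ((1 : kˣ) : k) := by
      intro D hD
      induction hD using AddSubgroup.closure_induction with
      | mem D h => obtain ⟨g, hg, hg1⟩ := h; exact ⟨g, hg, fun x hx => (hcong g x hx).1 (hg1 x hx)⟩
      | zero =>
        exact ⟨1, ⟨one_ne_zero, fun x => (LocSymLib.ord_one hdim x).symm⟩, fun x _ => by
          rw [LocSymLib.hasValueAt_iff hdim, Units.val_one]; exact TameRecLib.isVal_one⟩
      | add D E _ _ hD hE =>
        obtain ⟨g, ⟨hg, hgD⟩, hg1⟩ := hD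
        obtain ⟨h, ⟨hh, hhE⟩, hh1⟩ := hE
        refine ⟨g * h, ⟨mul_ne_zero hg hh, fun x => by
          rw [AddSubgroup.coe_add, Finsupp.add_apply, hgD, hhE, LocSymLib.ord_mul hdim x hg hh]⟩, fun x hx => ?_⟩
        have a := (LocSymLib.hasValueAt_iff hdim x g _).1 (hg1 x hx)
        have b := (LocSymLib.hasValueAt_iff hdim x h _).1 (hh1 x hx)
        rw [LocSymLib.hasValueAt_iff hdim]
        simpa using a.mul b
      | neg D _ hD =>
        obtain ⟨g, ⟨hg, hgD⟩, hg1⟩ := hD
        refine ⟨g⁻¹, ⟨inv_ne_zero hg, fun x => by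
          rw [AddSubgroup.coe_neg, Finsupp.neg_apply, hgD, LocSymLib.ord_inv hdim]⟩, fun x hx => ?_⟩
        obtain ⟨e1, e2⟩ := LocSymLib.uval_eq_of_hasValueAt hdim (hg1 x hx)
        rw [LocSymLib.hasValueAt_iff hdim]
        have e3 := TameRecLib.isVal_uval hK (show (LocSymLib.plc hdim x).1 g⁻¹ = 1 by rw [map_inv₀, e2, inv_one])
        rwa [TameRecLib.uval_inv hK e2, e1, inv_one] at e3
    have hvalU : ∀ (g : X.functionField) (x : LocSym.Pt c) (a : kˣ), LocSym.HasValueAt x g (a : k) → g ≠ 0 ∧ x.ord g = 0 := by
      intro g x a h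
      have h2 := (LocSymLib.uval_eq_of_hasValueAt hdim h).2
      have hg : g ≠ 0 := fun h0 => by simp [h0] at h2
      exact ⟨hg, by rw [LocSymLib.ord_eq hdim]; exact (TameRecLib.v_eq_one_iff hg).1 h2⟩
    refine ⟨?_, fun y => ?_, fun v => ?_⟩
    · intro q
      obtain ⟨D, rfl⟩ := QuotientAddGroup.mk_surjective q
      choose t ht0 ht using fun x : LocSym.Pt c => FF.exists_ord_eq (LocSymLib.plc hdim x) (D x)
      obtain ⟨z, hz⟩ := LocSymLib.exists_approx hdim m.support t fun x => (D x).natAbs + 1
      have hzord : ∀ x ∈ m.support, z ≠ 0 ∧ x.ord z = D x := by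
        intro x hx
        have key : (LocSymLib.plc hdim x).1 z = (LocSymLib.plc hdim x).1 (t x) := by
          rcases hz x hx with h | h
          · rw [h]
          refine Valuation.map_eq_of_sub_lt _ ?_
          by_cases h0 : z - t x = 0
          · rw [h0, map_zero]; exact zero_lt_iff.2 ((Valuation.ne_zero_iff _).2 (ht0 x))
          · rw [FF.v_eq_exp _ h0, FF.v_eq_exp _ (ht0 x), ht, WithZero.exp_lt_exp, ← LocSymLib.ord_eq hdim]
            omega
        have hz0 : z ≠ 0 := fun h => (Valuation.ne_zero_iff _).2 (ht0 x) (by rw [← key, h, map_zero])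
        exact ⟨hz0, by rw [LocSymLib.ord_eq hdim, FF.ord_eq_iff _ hz0, key, FF.v_eq_exp _ (ht0 x), ht]⟩
      rcases m.support.eq_empty_or_nonempty with he | ⟨x₀, hx₀⟩
      · exact ⟨QuotientAddGroup.mk ⟨D, fun x hx => absurd hx (by simp [he])⟩, rfl⟩
      have hz0 := (hzord x₀ hx₀).1
      refine ⟨QuotientAddGroup.mk ⟨D - divP z, fun x hx => by
        rw [Finsupp.sub_apply, hdivP, (hzord x hx).2, sub_self]⟩, ?_⟩
      show (QuotientAddGroup.mk (D - divP z) : Pic c) = QuotientAddGroup.mk D
      rw [QuotientAddGroup.eq]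
      refine AddSubgroup.subset_closure ⟨z, hz0, fun x => ?_⟩
      rw [neg_sub, sub_add_cancel, hdivP]
    · constructor
      · intro hy
        obtain ⟨D, rfl⟩ := QuotientAddGroup.mk_surjective y
        obtain ⟨g, hg, hgD⟩ := mem_principal _ ((QuotientAddGroup.eq_zero_iff _).1 hy)
        refine ⟨g, D, fun x => TameRecLib.uval (LocSymLib.plc hdim x) g, ⟨hg, hgD⟩, fun x hx => ?_, rfl⟩
        rw [LocSymLib.hasValueAt_iff hdim]
        refine TameRecLib.isVal_uval hK ((TameRecLib.v_eq_one_iff hg).2 ?_)
        rw [← LocSymLib.ord_eq hdim, ← hgD]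
        exact D.2 x hx
      · rintro ⟨g, D, v, hgD, -, rfl⟩
        exact (QuotientAddGroup.eq_zero_iff _).2 (AddSubgroup.subset_closure ⟨g, hgD⟩)
    · obtain ⟨z, hz⟩ := LocSymLib.exists_approx hdim m.support (fun x => LocSym.constFun c (v x : k)) fun _ => 1
      let g : X.functionField := if m.support = ∅ then 1 else z
      have hg : ∀ x ∈ m.support, LocSym.HasValueAt x g (v x : k) := by
        intro x hx
        have hne : m.support ≠ ∅ := Finset.ne_empty_of_mem hx
        simp only [g, if_neg hne]
        exact (hz x hx).imp id fun h => by omega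
      have hg0 : g ≠ 0 := by
        by_cases he : m.support = ∅
        · simp [g, he]
        · obtain ⟨x, hx⟩ := Finset.nonempty_iff_ne_empty.2 he
          exact (hvalU g x (v x) (hg x hx)).1
      let D : divAway c m := ⟨divP g, fun x hx => (hvalU g x (v x) (hg x hx)).2⟩
      refine ⟨g, D, ⟨hg0, fun x => rfl⟩, hg, ?_, ?_⟩
      · intro h
        obtain ⟨h', ⟨hh0, hhD⟩, hh1⟩ := mem_principalMod D ((QuotientAddGroup.eq_zero_iff _).1 h)
        have hq : g / h' ∈ FunFld.L (0 : FunFld.Divisor k X.functionField) := fun P => by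
          obtain ⟨x, rfl⟩ := LocSymLib.plc_surjective (k := k) hdim P
          rw [Finsupp.coe_zero, Pi.zero_apply, FF.v_le_exp_iff _ (div_ne_zero hg0 hh0), neg_zero, div_eq_mul_inv,
            FF.ord_mul _ hg0 (inv_ne_zero hh0), FF.ord_inv, ← LocSymLib.ord_eq hdim, ← LocSymLib.ord_eq hdim, ← hhD]
          show 0 ≤ x.ord g + -(divP g x)
          rw [hdivP]; omega
        rw [FF.L_zero hK, Submodule.mem_one] at hq
        obtain ⟨a, ha⟩ := hq
        have ha0 : a ≠ 0 := fun h0 => div_ne_zero hg0 hh0 (by rw [← ha, h0, map_zero])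
        refine ⟨Units.mk0 a ha0, fun x hx => Units.ext ?_⟩
        have e := (TameRecLib.isVal_algebraMap (P := LocSymLib.plc hdim x) a).mul
          ((LocSymLib.hasValueAt_iff hdim x h' _).1 (hh1 x hx))
        rw [ha, div_mul_cancel₀ _ hh0, Units.val_one, mul_one] at e
        exact ((LocSymLib.hasValueAt_iff hdim x g _).1 (hg x hx)).unique e
      · rintro ⟨a, ha⟩
        refine (QuotientAddGroup.eq_zero_iff _).2 (AddSubgroup.subset_closure
          ⟨algebraMap k X.functionField (↑a⁻¹ : k) * g, ⟨mul_ne_zero ((map_ne_zero _).2 a⁻¹.ne_zero) hg0, fun x => ?_⟩,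
            fun x hx => (hcong _ x hx).2 ?_⟩)
        · show divP g x = _
          rw [hdivP, LocSymLib.ord_mul hdim x ((map_ne_zero _).2 a⁻¹.ne_zero) hg0, ← LocSymLib.constFun_eq,
            LocSymLib.ord_const hdim, zero_add]
        · rw [LocSymLib.hasValueAt_iff hdim]
          have e := (TameRecLib.isVal_algebraMap (P := LocSymLib.plc hdim x) (↑a⁻¹ : k)).mul
            ((LocSymLib.hasValueAt_iff hdim x g _).1 (hg x hx))
          rw [ha x hx, Units.inv_mul] at e
          simpa using e

end Groth.Agent.S14182
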