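import Groth.Statements.S14183
import Groth.Agent.LocSymLib.PicMod
import Groth.Agent.S14182
-- import your own Groth.Agent.* helpers here

set_option autoImplicit false
set_option backward.isDefEq.respectTransparency false
set_option maxHeartbeats 1600000
set_option backward.isDefEq.respectTransparency.types false
set_option linter.style.haveILetI false
set_option synthInstance.maxHeartbeats 200000
universe u
open CategoryTheory AlgebraicGeometry
open LocSym

namespace Groth.Agent.S14183

open Groth.Agent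
attribute [local instance] Curv2.stalkAlgebra
attribute [local instance high] FunFld.Place.algRes

open W4c1etcurveeff2 in
/-- Let k be an algebraically closed field, X a smooth proper integral curve over k (structure morphism
c, dimension one), m a reduced modulus (every multiplicity at most 1) whose support S has s points,
and n ≥ 1 an integer invertible in k. Let Pic be the group of divisors on k-points modulo divisors
of nonzero rational functions and Pic_m the group of divisors vanishing on S modulo divisors of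
nonzero rational functions congruent to 1 modulo m. Then every n-torsion class of Pic is the image
of an n-torsion class of Pic_m, and the n-torsion classes of Pic_m that map to zero in Pic are
exactly n^(s−1) in number (they form μ_n(k)^S modulo the diagonal μ_n(k)): the short exact sequence
0 → μ_n^S/μ_n → Pic_m[n] → Pic[n] → 0. (The published statement is for the degree-zero parts;
n-torsion classes have degree zero, so this is the same sequence. For s = 0 the two groups coincide
and the count is 1.) -/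
theorem result
    (k : Type u) [Field k] [IsAlgClosed k] (X : Scheme.{u}) [IsIntegral X]
    (c : X ⟶ Spec (CommRingCat.of k)) [IsProper c] [Smooth c] (hdim : topologicalKrullDim X = 1)
    (m : LocSym.Pt c →₀ ℕ) (hm : ∀ x : LocSym.Pt c, m x ≤ 1)
    (s : ℕ) (hs : m.support.card = s) (n : ℕ) (hn : 1 ≤ n) (hnk : (n : k) ≠ 0) :
    (∀ y : Pic c, n • y = 0 → ∃ x : PicMod c m, n • x = 0 ∧ picModToPic c m x = y) ∧
    Nat.card {x : PicMod c m // n • x = 0 ∧ picModToPic c m x = 0} = n ^ (s - 1) := by
    classical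
    letI : X.Over (Spec (CommRingCat.of k)) := ⟨c⟩
    haveI : IsProper (X ↘ Spec (CommRingCat.of k)) := ‹IsProper c›
    haveI : Smooth (X ↘ Spec (CommRingCat.of k)) := ‹Smooth c›
    haveI := (LocSymLib.setup (k := k) (X := X) hdim).1
    haveI : NeZero n := ⟨by omega⟩
    haveI : NeZero (n : k) := ⟨hnk⟩
    have hsurj := (Groth.Agent.S14182.result k X c hdim m hm).1
    have hroot : ∀ a : kˣ, ∃ b : kˣ, b ^ n = a := fun a => by
      obtain ⟨z, hz⟩ := IsAlgClosed.exists_pow_nat_eq (a : k) (n := n) (by omega)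
      have hz0 : z ≠ 0 := fun h => a.ne_zero (by rw [← hz, h, zero_pow (by omega)])
      exact ⟨Units.mk0 z hz0, Units.ext hz⟩
    choose root hroot using hroot
    have hex : ∀ v : LocSym.Pt c → kˣ, ∃ (g : X.functionField) (D : divAway c m),
        IsDivOf c (D : LocSym.Pt c →₀ ℤ) g ∧ ∀ x ∈ m.support, LocSym.HasValueAt x g (v x : k) :=
      fun v => LocSymLib.exists_values (k := k) (X := X) hdim m v
    choose G DG hGD hGv using hex
    have hmul : ∀ (g : X.functionField) (D : divAway c m) (v : LocSym.Pt c → kˣ),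
        IsDivOf c (D : LocSym.Pt c →₀ ℤ) g → (∀ x ∈ m.support, LocSym.HasValueAt x g (v x : k)) → ∀ j : ℕ,
        IsDivOf c ((j • D : divAway c m) : LocSym.Pt c →₀ ℤ) (g ^ j) ∧
          ∀ x ∈ m.support, LocSym.HasValueAt x (g ^ j) ((v x ^ j : kˣ) : k) := fun g D v hgD hv j => by
      refine ⟨⟨pow_ne_zero _ hgD.1, fun x => ?_⟩, fun x hx => by
        rw [Units.val_pow_eq_pow_val]; exact LocSymLib.isVal_pow hdim (hv x hx) j⟩
      rw [AddSubmonoidClass.coe_nsmul, Finsupp.smul_apply, hgD.2, nsmul_eq_mul, LocSymLib.ord_eq hdim,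
        LocSymLib.ord_eq hdim, FF.ord_pow]
    have hsub : ∀ (g g' : X.functionField) (D D' : divAway c m) (v v' : LocSym.Pt c → kˣ),
        IsDivOf c (D : LocSym.Pt c →₀ ℤ) g → (∀ x ∈ m.support, LocSym.HasValueAt x g (v x : k)) →
        IsDivOf c (D' : LocSym.Pt c →₀ ℤ) g' → (∀ x ∈ m.support, LocSym.HasValueAt x g' (v' x : k)) →
        IsDivOf c ((D - D' : divAway c m) : LocSym.Pt c →₀ ℤ) (g * g'⁻¹) ∧
          ∀ x ∈ m.support, LocSym.HasValueAt x (g * g'⁻¹) ((v x * (v' x)⁻¹ : kˣ) : k) := by
      intro g g' D D' v v' hgD hv hgD' hv'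
      refine ⟨⟨mul_ne_zero hgD.1 (inv_ne_zero hgD'.1), fun x => ?_⟩, fun x hx => ?_⟩
      · rw [AddSubgroupClass.coe_sub, Finsupp.sub_apply, hgD.2, hgD'.2,
          LocSymLib.ord_mul hdim x hgD.1 (inv_ne_zero hgD'.1), LocSymLib.ord_inv hdim, sub_eq_add_neg]
      · rw [Units.val_mul]
        exact LocSymLib.hasValueAt_mul hdim (hv x hx) (LocSymLib.hasValueAt_inv hdim (hv' x hx))
    refine ⟨fun y hy => ?_, ?_⟩
    · obtain ⟨q, rfl⟩ := hsurj y
      obtain ⟨D, rfl⟩ := QuotientAddGroup.mk_surjective q
      obtain ⟨g, hgD⟩ := LocSymLib.exists_div_of_mem_principal hdim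
        ((QuotientAddGroup.eq_zero_iff (N := principal c) _).1 hy)
      have hg : ∀ x ∈ m.support,
          LocSym.HasValueAt x g (TameRecLib.uval (LocSymLib.plc hdim x) g : k) := fun x hx => by
        rw [LocSymLib.hasValueAt_iff hdim]
        refine TameRecLib.isVal_uval (LocSymLib.isFF (k := k) hdim) ((TameRecLib.v_eq_one_iff hgD.1).2 ?_)
        rw [← LocSymLib.ord_eq hdim, ← hgD.2]
        exact (n • D).2 x hx
      let v : LocSym.Pt c → kˣ := fun x => TameRecLib.uval (LocSymLib.plc hdim x) g
      let w : LocSym.Pt c → kˣ := fun x => root (v x)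
      refine ⟨QuotientAddGroup.mk (D - DG w), ?_, ?_⟩
      · obtain ⟨a, b⟩ := hmul _ _ w (hGD w) (hGv w) n
        obtain ⟨a', b'⟩ := hsub g _ (n • D) (n • DG w) v _ ⟨hgD.1, hgD.2⟩ hg a b
        rw [← QuotientAddGroup.mk_nsmul, smul_sub]
        exact (LocSymLib.mk_eq_zero_iff hdim m hm a' b').2 ⟨1, fun x _ => by rw [hroot, mul_inv_cancel]⟩
      · rw [QuotientAddGroup.mk_sub, map_sub, sub_eq_self]
        exact (QuotientAddGroup.eq_zero_iff (N := principal c) _).2 (AddSubgroup.subset_closure ⟨_, hGD w⟩)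
    · have hker : ∀ q : PicMod c m, picModToPic c m q = 0 → ∃ v : LocSym.Pt c → kˣ, q = QuotientAddGroup.mk (DG v) := by
        intro q hq
        obtain ⟨g, D, v, hgD, hv, rfl⟩ := ((Groth.Agent.S14182.result k X c hdim m hm).2.1 q).1 hq
        refine ⟨v, ?_⟩
        rw [← sub_eq_zero, ← QuotientAddGroup.mk_sub]
        obtain ⟨a, b⟩ := hsub g _ D (DG v) v v hgD hv (hGD v) (hGv v)
        exact (LocSymLib.mk_eq_zero_iff hdim m hm a b).2 ⟨1, fun x _ => mul_inv_cancel _⟩
      have heq : ∀ v v' : LocSym.Pt c → kˣ,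
          (QuotientAddGroup.mk (DG v) : PicMod c m) = QuotientAddGroup.mk (DG v') ↔
            ∃ a : kˣ, ∀ x ∈ m.support, v x * (v' x)⁻¹ = a := fun v v' => by
        rw [← sub_eq_zero, ← QuotientAddGroup.mk_sub]
        obtain ⟨a, b⟩ := hsub _ _ (DG v) (DG v') v v' (hGD v) (hGv v) (hGD v') (hGv v')
        exact LocSymLib.mk_eq_zero_iff hdim m hm a b
      have hn0 : ∀ v : LocSym.Pt c → kˣ, n • (QuotientAddGroup.mk (DG v) : PicMod c m) = 0 ↔
          ∃ a : kˣ, ∀ x ∈ m.support, v x ^ n = a := fun v => by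
        rw [← QuotientAddGroup.mk_nsmul]
        obtain ⟨a, b⟩ := hmul _ _ v (hGD v) (hGv v) n
        exact LocSymLib.mk_eq_zero_iff hdim m hm a b
      have hzero : ∀ v : LocSym.Pt c → kˣ, picModToPic c m (QuotientAddGroup.mk (DG v)) = 0 := fun v =>
        (QuotientAddGroup.eq_zero_iff (N := principal c) _).2 (AddSubgroup.subset_closure ⟨_, hGD v⟩)
      rcases m.support.eq_empty_or_nonempty with he | ⟨x₀, hx₀⟩
      · have hs0 : s = 0 := by rw [← hs, he, Finset.card_empty]
        rw [hs0, Nat.zero_sub, pow_zero, Nat.card_eq_one_iff_unique]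
        refine ⟨⟨fun q q' => Subtype.ext ?_⟩, ⟨⟨0, smul_zero _, map_zero _⟩⟩⟩
        obtain ⟨v, hv⟩ := hker _ q.2.2
        obtain ⟨v', hv'⟩ := hker _ q'.2.2
        rw [hv, hv', heq]
        exact ⟨1, fun x hx => absurd hx (by simp [he])⟩
      let V : ({x // x ∈ m.support.erase x₀} → rootsOfUnity n k) → LocSym.Pt c → kˣ := fun ε x =>
        if h : x ∈ m.support.erase x₀ then (ε ⟨x, h⟩ : kˣ) else 1
      have hV : ∀ ε x, V ε x ^ n = 1 := fun ε x => by
        simp only [V]
        split_ifs with h
        · exact (mem_rootsOfUnity n _).1 (ε ⟨x, h⟩).2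
        · exact one_pow n
      let e : ({x // x ∈ m.support.erase x₀} → rootsOfUnity n k) →
          {q : PicMod c m // n • q = 0 ∧ picModToPic c m q = 0} := fun ε =>
        ⟨QuotientAddGroup.mk (DG (V ε)), (hn0 _).2 ⟨1, fun x _ => hV ε x⟩, hzero _⟩
      have he : Function.Bijective e := by
        refine ⟨fun ε ε' h => funext fun x => Subtype.ext ?_, fun q => ?_⟩
        · obtain ⟨a, ha⟩ := (heq _ _).1 (congrArg Subtype.val h)
          have h0 := ha x₀ hx₀
          have hxS : (x : LocSym.Pt c) ∈ m.support := Finset.mem_of_mem_erase x.2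
          have hx := ha x hxS
          simp only [V, dif_neg (Finset.notMem_erase x₀ _), mul_inv_cancel] at h0
          simp only [V, dif_pos x.2, ← h0] at hx
          exact mul_inv_eq_one.1 hx
        · obtain ⟨v, hv⟩ := hker _ q.2.2
          obtain ⟨a, ha⟩ := (hn0 v).1 (hv ▸ q.2.1)
          have hrt : ∀ x ∈ m.support, v x * (v x₀)⁻¹ ∈ rootsOfUnity n k := fun x hx => by
            rw [mem_rootsOfUnity, mul_pow, inv_pow, ha x hx, ha x₀ hx₀, mul_inv_cancel]
          refine ⟨fun x => ⟨v x * (v x₀)⁻¹, hrt x (Finset.mem_of_mem_erase x.2)⟩, Subtype.ext ?_⟩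
          show QuotientAddGroup.mk (DG _) = q.1
          rw [hv, heq]
          refine ⟨(v x₀)⁻¹, fun x hx => ?_⟩
          simp only [V]
          split_ifs with h
          · show v x * (v x₀)⁻¹ * (v x)⁻¹ = _
            rw [mul_comm (v x), mul_assoc, mul_inv_cancel, mul_one]
          · have hxe : x = x₀ := by
              by_contra hne
              exact h (Finset.mem_erase.2 ⟨hne, hx⟩)
            rw [hxe, one_mul]
      rw [← Nat.card_eq_of_bijective e he, Nat.card_fun, HasEnoughRootsOfUnity.natCard_rootsOfUnity,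
        Nat.card_eq_fintype_card, Fintype.card_coe, Finset.card_erase_of_mem hx₀, hs]

end Groth.Agent.S14183
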