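import Groth.Statements.S14184
import Groth.Agent.LocSymLib.Tame
-- import your own Groth.Agent.* helpers here

set_option autoImplicit false
set_option backward.isDefEq.respectTransparency false
set_option maxHeartbeats 1600000
set_option backward.isDefEq.respectTransparency.types false
set_option linter.style.haveILetI false
set_option synthInstance.maxHeartbeats 200000
universe u
open CategoryTheory AlgebraicGeometry
open LocSym

namespace Groth.Agent.S14184

open Groth.Agent
attribute [local instance] Curv2.stalkAlgebra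
attribute [local instance high] FunFld.Place.algRes

/-- Let k be an algebraically closed field and X a smooth proper integral curve over k (structure
morphism c, dimension one); points are k-points and ord_x is the valuation at x. Let n ≥ 1, let Z be
a finite set of points, let f₁, f₂ be nonzero rational functions and D₁, D₁′, D₂ divisors (finitely
supported integer-valued functions on points) with n·D₁ = div(f₁) + D₁′, D₁′ supported on Z, n·D₂ =
div(f₂), f₂ taking the value 1 at every point of Z, and div(f₁) and D₂ with disjoint supports. Let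
v₁(x) ∈ kˣ be the value of f₁ at each point of the support of D₂ and v₂(x) ∈ kˣ the value of f₂ at
each point of the support of D₁. Then the quotient of ∏_x v₁(x)^{D₂(x)} by ∏_x v₂(x)^{D₁(x)} is an
n-th root of unity: its n-th power is 1. (This quotient f₁(D₂)/f₂(D₁) is the generalised Weil
pairing of the classes of (D₁, D₁′, f₁) and D₂; the published statement also normalises f₁, f₂ at a
base point, which is not needed for this assertion.) -/
theorem result
    (k : Type u) [Field k] [IsAlgClosed k] (X : Scheme.{u}) [IsIntegral X]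
    (c : X ⟶ Spec (CommRingCat.of k)) [IsProper c] [Smooth c] (hdim : topologicalKrullDim X = 1)
    (n : ℕ) (hn : 1 ≤ n) (Z : Finset (LocSym.Pt c))
    (f₁ f₂ : X.functionField) (hf₁ : f₁ ≠ 0) (hf₂ : f₂ ≠ 0)
    (D₁ D₁' D₂ : LocSym.Pt c →₀ ℤ)
    (hD₁ : ∀ x : LocSym.Pt c, (n : ℤ) * D₁ x = x.ord f₁ + D₁' x) (hD₁' : D₁'.support ⊆ Z)
    (hD₂ : ∀ x : LocSym.Pt c, (n : ℤ) * D₂ x = x.ord f₂)
    (hf₂Z : ∀ x ∈ Z, LocSym.HasValueAt x f₂ 1)
    (hdisj : ∀ x : LocSym.Pt c, x.ord f₁ = 0 ∨ D₂ x = 0)
    (v₁ v₂ : LocSym.Pt c → kˣ)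
    (hv₁ : ∀ x ∈ D₂.support, LocSym.HasValueAt x f₁ (v₁ x : k))
    (hv₂ : ∀ x ∈ D₁.support, LocSym.HasValueAt x f₂ (v₂ x : k)) :
    ((D₂.prod fun x e => v₁ x ^ e) / (D₁.prod fun x e => v₂ x ^ e)) ^ n = 1 := by
    classical
    letI : X.Over (Spec (CommRingCat.of k)) := ⟨c⟩
    haveI : IsProper (X ↘ Spec (CommRingCat.of k)) := ‹IsProper c›
    haveI : Smooth (X ↘ Spec (CommRingCat.of k)) := ‹Smooth c›
    haveI := (LocSymLib.setup (k := k) (X := X) hdim).1
    let F₁ : (X.functionField)ˣ := Units.mk0 f₁ hf₁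
    let F₂ : (X.functionField)ˣ := Units.mk0 f₂ hf₂
    have hK := LocSymLib.isFF (k := k) hdim
    have hn' : (n : ℤ) ≠ 0 := by omega
    set T : Finset (LocSym.Pt c) := (D₁.support ∪ D₂.support) ∪ (LocSymLib.finite_tame hdim F₁ F₂).toFinset
    have hrec : ∏ x ∈ T, TameRecLib.tame (LocSymLib.plc hdim x) F₁ F₂ = 1 := by
      rw [← LocSymLib.finprod_tame hdim F₁ F₂]
      refine (finprod_eq_prod_of_mulSupport_subset _ fun x hx => ?_).symm
      simp only [T, Finset.coe_union, Set.mem_union, Set.Finite.coe_toFinset]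
      exact Or.inr hx
    rw [Finsupp.prod_of_support_subset D₂ (s := T) (fun x hx => Finset.mem_union_left _ (Finset.mem_union_right _ hx)) _
        (fun x _ => zpow_zero _),
      Finsupp.prod_of_support_subset D₁ (s := T) (fun x hx => Finset.mem_union_left _ (Finset.mem_union_left _ hx)) _
        (fun x _ => zpow_zero _), ← Finset.prod_div_distrib, ← Finset.prod_pow, ← hrec]
    refine Finset.prod_congr rfl fun x _ => ?_
    rw [div_pow, ← zpow_natCast, ← zpow_natCast, ← zpow_mul, ← zpow_mul, mul_comm (D₂ x) (n : ℤ), hD₂,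
      mul_comm (D₁ x) (n : ℤ), hD₁]
    by_cases h2 : D₂ x = 0
    · have ho2 : x.ord f₂ = 0 := by rw [← hD₂, h2, mul_zero]
      have hv : (LocSymLib.plc hdim x).1 f₂ = 1 :=
        (TameRecLib.v_eq_one_iff hf₂).2 (by rw [← LocSymLib.ord_eq hdim, ho2])
      have ht : TameRecLib.tame (LocSymLib.plc hdim x) F₁ F₂ =
          TameRecLib.uval (LocSymLib.plc hdim x) f₂ ^ (-x.ord f₁) := by
        rw [TameRecLib.tame_of_ord_right F₁ F₂ (by show (LocSymLib.plc hdim x).ord f₂ = 0; rw [← LocSymLib.ord_eq hdim, ho2]),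
          ← LocSymLib.ord_eq hdim]
        exact TameRecLib.uval_zpow hK hv _
      rw [ho2, zpow_zero, one_div, ht, zpow_neg]
      congr 1
      have hz : ∀ y : LocSym.Pt c, y ∈ Z → TameRecLib.uval (LocSymLib.plc hdim y) f₂ = 1 := fun y hy =>
        (LocSymLib.uval_eq_of_hasValueAt hdim (a := 1) (by simpa using hf₂Z y hy)).1
      have hd' : TameRecLib.uval (LocSymLib.plc hdim x) f₂ ^ D₁' x = 1 := by
        by_cases h' : D₁' x = 0
        · rw [h', zpow_zero]
        · rw [hz x (hD₁' (Finsupp.mem_support_iff.2 h')), one_zpow]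
      by_cases h1 : D₁ x = 0
      · have e : x.ord f₁ + D₁' x = 0 := by rw [← hD₁, h1, mul_zero]
        rw [e, zpow_zero, show x.ord f₁ = -D₁' x by omega, zpow_neg, hd', inv_one]
      · rw [← (LocSymLib.uval_eq_of_hasValueAt hdim (hv₂ x (Finsupp.mem_support_iff.2 h1))).1, zpow_add, hd', mul_one]
    · have ho1 : x.ord f₁ = 0 := (hdisj x).resolve_right h2
      have h1 : D₁ x = 0 := by
        by_contra h1
        have hv := (LocSymLib.uval_eq_of_hasValueAt hdim (hv₂ x (Finsupp.mem_support_iff.2 h1))).2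
        have : x.ord f₂ = 0 := by rw [LocSymLib.ord_eq hdim]; exact (TameRecLib.v_eq_one_iff hf₂).1 hv
        rw [← hD₂] at this
        exact mul_ne_zero hn' h2 this
      have e : x.ord f₁ + D₁' x = 0 := by rw [← hD₁, h1, mul_zero]
      rw [e, zpow_zero, div_one,
        LocSymLib.tame_left hdim x F₁ F₂ (hv₁ x (Finsupp.mem_support_iff.2 h2))]
      rfl

end Groth.Agent.S14184
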