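import Groth.Statements.S14188
import Mathlib

set_option autoImplicit false
universe u
open CategoryTheory CategoryTheory.Limits AlgebraicGeometry
open FlatMor

namespace Groth.Agent.S14188

/-- Let T be an integral scheme with generic point η, let Y and Z be schemes flat over T with Z
separated over T, and let ψ : Y_η → Z be a T-morphism from the generic fibre Y_η = Y ×_T Spec
O_{T,η} (equivalently, an η-morphism Y_η → Z_η). Let gr : Y_η → Y ×_T Z be the graph of ψ, the
morphism whose components are the projection Y_η → Y and ψ, and let Γ ⊆ Y ×_T Z be the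
scheme-theoretic image of gr (the schematic closure of the graph). Then ψ extends to a T-morphism φ
: Y → Z, meaning that the composite Y_η → Y → Z is ψ, if and only if the composite of the inclusion
Γ → Y ×_T Z with the first projection is an isomorphism Γ ≅ Y. -/
theorem result (T Y Z : Scheme.{u}) [IsIntegral T]
    (pY : Y ⟶ T) (pZ : Z ⟶ T) [Flat pY] [Flat pZ] [IsSeparated pZ]
    (ψ : pullback pY (T.fromSpecStalk (genericPoint T)) ⟶ Z)
    (hψ : ψ ≫ pZ = pullback.fst pY (T.fromSpecStalk (genericPoint T)) ≫ pY)
    (gr : pullback pY (T.fromSpecStalk (genericPoint T)) ⟶ pullback pY pZ)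
    (hgr₁ : gr ≫ pullback.fst pY pZ = pullback.fst pY (T.fromSpecStalk (genericPoint T)))
    (hgr₂ : gr ≫ pullback.snd pY pZ = ψ) :
    (∃ φ : Y ⟶ Z, φ ≫ pZ = pY ∧ pullback.fst pY (T.fromSpecStalk (genericPoint T)) ≫ φ = ψ) ↔
      IsIso (gr.imageι ≫ pullback.fst pY pZ) := by
  let η := T.fromSpecStalk (genericPoint T)
  let a := pullback.fst pY η
  have hfac : gr.toImage ≫ gr.imageι ≫ pullback.fst pY pZ = a := by
    rw [Scheme.Hom.toImage_imageι_assoc, hgr₁]
  constructor
  · rintro ⟨φ, hφ, hφψ⟩
    let Γ : Y ⟶ pullback pY pZ := pullback.lift (𝟙 Y) φ (by rw [Category.id_comp, hφ])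
    have hΓ : Γ ≫ pullback.fst pY pZ = 𝟙 Y := pullback.lift_fst _ _ _
    haveI : IsClosedImmersion Γ := by
      haveI : IsClosedImmersion (Γ ≫ pullback.fst pY pZ) := by rw [hΓ]; infer_instance
      exact IsClosedImmersion.of_comp Γ (pullback.fst pY pZ)
    have hgr : a ≫ Γ = gr := by
      apply pullback.hom_ext
      · rw [Category.assoc, hΓ, Category.comp_id, hgr₁]
      · rw [Category.assoc, pullback.lift_snd, hgr₂]
        exact hφψ
    haveI : QuasiCompact η := by
      refine ⟨fun U hU hc => ?_⟩
      haveI : Finite ↥(Spec (T.presheaf.stalk (genericPoint T))) := by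
        haveI : IsField (T.presheaf.stalk (genericPoint T)) → Finite (PrimeSpectrum (T.presheaf.stalk (genericPoint T))) := fun h => by
          letI := h.toField; infer_instance
        exact this (Field.toIsField T.functionField)
      exact (Set.toFinite _).isCompact
    haveI : IsSchemeTheoreticallyDominant η := by
      haveI : IsDominant η := ⟨by
        rw [DenseRange, Scheme.range_fromSpecStalk, dense_iff_closure_eq, ← Set.univ_subset_iff]
        exact (genericPoint_spec (T : Type u)).ge.trans (closure_mono (Set.singleton_subset_iff.2 specializes_rfl))⟩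
      exact IsSchemeTheoreticallyDominant.of_isDominant η
    haveI : IsSchemeTheoreticallyDominant a := inferInstance
    have hker : gr.ker = Γ.ker := by
      rw [← hgr, Scheme.Hom.ker_comp, a.ker_eq_bot, Scheme.IdealSheafData.map_bot]
    let l := IsClosedImmersion.lift Γ gr.imageι (by show _ ≤ _; simp only [Scheme.Hom.imageι, Scheme.IdealSheafData.ker_subschemeι]; rw [hker])
    have hl : l ≫ Γ = gr.imageι := IsClosedImmersion.lift_fac _ _ _
    let r := IsClosedImmersion.lift gr.imageι Γ (by show _ ≤ _; simp only [Scheme.Hom.imageι, Scheme.IdealSheafData.ker_subschemeι]; rw [hker])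
    have hr : r ≫ gr.imageι = Γ := IsClosedImmersion.lift_fac _ _ _
    have e : gr.imageι ≫ pullback.fst pY pZ = l := by rw [← hl, Category.assoc, hΓ, Category.comp_id]
    rw [e]
    refine ⟨r, ?_, ?_⟩
    · rw [← cancel_mono gr.imageι, Category.assoc, hr, hl, Category.id_comp]
    · rw [← cancel_mono Γ, Category.assoc, hl, hr, Category.id_comp]
  · intro h
    refine ⟨inv (gr.imageι ≫ pullback.fst pY pZ) ≫ gr.imageι ≫ pullback.snd pY pZ, ?_, ?_⟩
    · rw [Category.assoc, IsIso.inv_comp_eq, Category.assoc, Category.assoc, pullback.condition]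
    · show a ≫ _ = ψ
      rw [← hfac, Category.assoc, IsIso.hom_inv_id_assoc, Scheme.Hom.toImage_imageι_assoc, hgr₂]

end Groth.Agent.S14188
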