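import Groth.Statements.S14191
import Groth.Agent.ModelDual.Points
import Groth.Agent.S1536
import Groth.Agent.AVLib.GeomInt
import Groth.Agent.JacLib.Dim
-- import your own Groth.Agent.* helpers here

set_option autoImplicit false
set_option backward.isDefEq.respectTransparency false
set_option maxHeartbeats 800000
set_option synthInstance.maxHeartbeats 200000
universe u
open CategoryTheory CategoryTheory.Limits AlgebraicGeometry Opposite
open Groth.Agent
open Models

namespace Groth.Agent.S14191

/-- Let R be a discrete valuation ring with fraction field K, let C be a proper K-curve which is smooth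
of relative dimension 1 and geometrically connected over K, and let X be a model of C over R (flat
and of finite type over R with generic fibre C) which is proper over R and normal; so X is a proper
relative curve over R. Let (ω, tr) be a 1-dualizing pair for X over R: ω is a quasi-coherent
O_X-module and tr : H¹(X, ω) → R an R-linear map such that φ ↦ tr ∘ H¹(φ) is a bijection from Hom(F,
ω) onto Hom_R(H¹(X, F), R) for every quasi-coherent F. Suppose that H¹(X, O_X) is a free R-module,
which for such X says that X → Spec R is cohomologically flat in dimension 0. Then H¹(X, ω) is a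
free R-module and its rank equals the rank of the free R-module H⁰(X, O_X); that is, H¹(X, ω) is
R-dual to H⁰(X, O_X) up to isomorphism. (The published statement is phrased for the relative
dualizing sheaf of duality theory and its higher direct image R¹f_*; over the affine base Spec R a
1-dualizing pair in the above global-sections sense determines that sheaf up to isomorphism, and
local freeness of R¹f_* is freeness of H¹.) -/
theorem result (R : Type u) [CommRing R] [IsDomain R] [IsDiscreteValuationRing R]
    (X C : Scheme.{u}) [X.Over (Spec (CommRingCat.of R))]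
    (f : C ⟶ Spec (CommRingCat.of (FractionRing R)))
    [SmoothOfRelativeDimension 1 f] [IsProper f] [GeometricallyConnected f]
    (hX : Models.IsModel R X (X ↘ Spec (CommRingCat.of R)) C f)
    [IsProper (X ↘ Spec (CommRingCat.of R))] (hn : Pi1.IsNormalScheme X)
    (ω : X.Modules) (tr : Coh.HH X ω 1 →ₗ[R] R) (hω : Canon.IsRDualOver R X 1 ω tr)
    (hcf : Module.Free R (Coh.HH X (Coh.structureModule X) 1)) :
    Module.Free R (Coh.HH X ω 1) ∧
      Module.finrank R (Coh.HH X ω 1) = Module.finrank R (Coh.HH X (Coh.structureModule X) 0) := by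
    classical
    obtain ⟨hflat, -, -, g, hg⟩ := hX
    haveI : Flat (X ↘ Spec (CommRingCat.of R)) := hflat
    haveI : IsLocallyNoetherian X := LocallyOfFiniteType.isLocallyNoetherian (X ↘ Spec (CommRingCat.of R))
    haveI : CompactSpace X := QuasiCompact.compactSpace_of_compactSpace (X ↘ Spec (CommRingCat.of R))
    haveI : AlgebraicGeometry.IsNoetherian X := {}
    haveI := hcf
    obtain ⟨π, hπ⟩ := IsDiscreteValuationRing.exists_irreducible R
    haveI := ModelDual.isOpenImmersion_g R hπ hg
    let K := FractionRing R
    letI : C.Over (Spec (CommRingCat.of K)) := ⟨f⟩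
    haveI : IsProper (C ↘ Spec (CommRingCat.of K)) := inferInstanceAs (IsProper f)
    haveI : GeometricallyConnected (C ↘ Spec (CommRingCat.of K)) := inferInstanceAs (GeometricallyConnected f)
    haveI : Smooth f := SmoothOfRelativeDimension.smooth f (n := 1)
    haveI : GeometricallyReduced (C ↘ Spec (CommRingCat.of K)) := AVLib.geometricallyReduced_of_smooth f
    have hC0 := Groth.Agent.S1536.result K C
    haveI hne : Nonempty C := by
      by_contra hc
      rw [not_nonempty_iff] at hc
      haveI : Subsingleton (Coh.HH C (Coh.structureModule C) 0) :=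
        (CurveLib.secOf (Coh.structureModule C)).toEquiv.subsingleton_congr.2 ⟨fun a b =>
          TopCat.Presheaf.section_ext C.sheaf ⊤ a b fun x _ => isEmptyElim x⟩
      rw [Module.finrank_zero_of_subsingleton] at hC0
      exact zero_ne_one hC0
    let ψ : K →+* Γ(C, ⊤) := Coh.toGlobal (C ↘ Spec (CommRingCat.of K))
    haveI : Nonempty (⊤ : C.Opens).toScheme := ⟨⟨Classical.arbitrary C, trivial⟩⟩
    have hψ : Function.Bijective ψ := by
      refine ⟨ψ.injective, fun a => ?_⟩
      let e := CurveLib.secOf (Coh.structureModule C)
      have h1 : e.symm (1 : Γ(C, ⊤)) ≠ 0 := fun hh => one_ne_zero (α := Γ(C, ⊤))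
        ((e.apply_symm_apply _).symm.trans ((congrArg e hh).trans (map_zero e)))
      obtain ⟨c, hc⟩ := exists_smul_eq_of_finrank_eq_one hC0 h1 (e.symm a)
      have h2 := congrArg e hc
      rw [CurveLib.secOf_smul, e.apply_symm_apply, e.apply_symm_apply] at h2
      exact ⟨c, (mul_one (ψ c)).symm.trans h2⟩
    let ψe : K ≃+* Γ(C, ⊤) := RingEquiv.ofBijective ψ hψ
    have hgR : ∀ r : R, g.appTop (show Γ(X, ⊤) from Coh.toGlobal (X ↘ Spec (CommRingCat.of R)) r) =
        ψ (algebraMap R K r) := fun r => by
      have h1 : g ≫ (X ↘ Spec (CommRingCat.of R)) = f ≫ Spec.map (CommRingCat.ofHom (algebraMap R K)) := hg.w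
      have h2 := congrArg (fun q => q.appTop ((Scheme.ΓSpecIso (CommRingCat.of R)).inv r)) h1
      simp only [Scheme.Hom.comp_appTop, CommRingCat.comp_apply] at h2
      refine h2.trans ?_
      show f.appTop ((Spec.map (CommRingCat.ofHom (algebraMap R K))).appTop _) = f.appTop _
      congr 1
      exact (ConcreteCategory.congr_hom (Scheme.ΓSpecIso_inv_naturality (CommRingCat.ofHom (algebraMap R K))) r).symm
    let L : Coh.HH X (Coh.structureModule X) 0 →ₗ[R] K :=
      { toFun := fun c => ψe.symm (g.appTop (show Γ(X, ⊤) from CurveLib.secOf (Coh.structureModule X) c))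
        map_add' := fun a b => by
          rw [map_add]
          exact (congrArg ψe.symm (map_add g.appTop.hom _ _)).trans (map_add ψe.symm _ _)
        map_smul' := fun r c => by
          have h1 : (show Γ(X, ⊤) from CurveLib.secOf (Coh.structureModule X) (r • c)) =
              (show Γ(X, ⊤) from Coh.toGlobal (X ↘ Spec (CommRingCat.of R)) r) *
                (show Γ(X, ⊤) from CurveLib.secOf (Coh.structureModule X) c) :=
            ModelDual.secOf_smulAb (Coh.structureModule X) _ c
          rw [h1, map_mul, map_mul, hgR]
          show ψe.symm (ψe (algebraMap R K r)) * _ = r • _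
          rw [RingEquiv.symm_apply_apply, Algebra.smul_def] }
    have hL : Function.Injective L := fun a b hab => (CurveLib.secOf (Coh.structureModule X)).injective
      (ModelDual.appTop_injective R hπ hg (ψe.symm.injective hab))
    haveI : Module.Finite R (Coh.HH X (Coh.structureModule X) 0) :=
      ProperFin.allFin_of_isCoh (A := R) (X ↘ Spec (CommRingCat.of R)) _ (DevLib.isCoh_structureModule X) 0
    haveI : Module.Finite R (Coh.HH X (Coh.structureModule X) 1) :=
      ProperFin.allFin_of_isCoh (A := R) (X ↘ Spec (CommRingCat.of R)) _ (DevLib.isCoh_structureModule X) 1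
    haveI : Module.IsTorsionFree R (Coh.HH X (Coh.structureModule X) 0) := hL.moduleIsTorsionFree L (map_smul L)
    haveI : Module.Free R (Coh.HH X (Coh.structureModule X) 0) := Module.free_of_finite_type_torsion_free'
    have hr1 : Module.rank R K = 1 := (IsLocalization.rank_eq K (nonZeroDivisors R) le_rfl).symm.trans (Module.rank_self K)
    have hH0 : Module.finrank R (Coh.HH X (Coh.structureModule X) 0) ≤ 1 :=
      Module.finrank_le_of_rank_le (n := 1) ((LinearMap.rank_le_of_injective L hL).trans (by rw [hr1, Nat.cast_one]))
    have hP := ModelDual.injective_pairing R tr hω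
    haveI : Module.Finite R (Coh.HH X ω 1) := Module.Finite.of_injective _ hP
    haveI : Module.IsTorsionFree R (Coh.HH X ω 1) := hP.moduleIsTorsionFree _ (map_smul _)
    haveI hfree : Module.Free R (Coh.HH X ω 1) := Module.free_of_finite_type_torsion_free'
    have hle : Module.finrank R (Coh.HH X ω 1) ≤ Module.finrank R (Coh.HH X (Coh.structureModule X) 0) :=
      (LinearMap.finrank_le_finrank_of_injective hP).trans (by
        rw [Module.finrank_linearMap, Module.finrank_self, mul_one])
    -- two closed points of the generic fibre
    haveI : JacobsonSpace C := LocallyOfFiniteType.jacobsonSpace f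
    have hdC : topologicalKrullDim C = ((1 : ℕ) : WithBot ℕ∞) := JacLib.topologicalKrullDim_of_smooth f 1
    obtain ⟨c₁, hc₁, c₂, hc₂, hc⟩ : (closedPoints C).Nontrivial := by
      by_contra hnt
      rw [Set.not_nontrivial_iff] at hnt
      have hcl : closedPoints C = Set.univ := by
        have h1 := closure_closedPoints (X := C)
        rwa [IsClosed.closure_eq] at h1
        rcases hnt.eq_empty_or_singleton with h | ⟨c, h⟩
        · rw [h]; exact isClosed_empty
        · rw [h]
          exact mem_closedPoints_iff.1 (h.ge rfl)
      haveI : Subsingleton C := ⟨fun a b => hnt (hcl.ge trivial) (hcl.ge trivial)⟩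
      have h0 : topologicalKrullDim C ≤ 0 := Order.krullDim_nonpos_iff_forall_isMax.2 fun A B _ x _ => by
        obtain ⟨a, ha⟩ := A.isIrreducible.nonempty
        exact Subsingleton.elim a x ▸ ha
      rw [hdC] at h0
      exact absurd h0 (by decide)
    have hind := g.isOpenEmbedding.isInducing
    have hclo : ∀ c c' : C, IsClosed ({c} : Set C) → g c' ∈ closure ({g c} : Set X) → c' = c := fun c c' hcc hm => by
      have h1 : c' ∈ closure ({c} : Set C) := by
        rw [hind.closure_eq_preimage_closure_image, Set.image_singleton]
        exact hm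
      rwa [hcc.closure_eq] at h1
    haveI : Nontrivial (Coh.HH X ω 1) := ModelDual.nontrivial_H1 R hπ ω tr hω (g c₁) (g c₂)
      ((ModelDual.range_g R hπ hg).le ⟨c₂, rfl⟩)
      (fun hm => hc (hclo c₁ c₂ (mem_closedPoints_iff.1 hc₁) hm).symm)
      (fun x hx hxc => by
        obtain ⟨c', rfl⟩ := (ModelDual.range_g R hπ hg).ge hx
        rw [hclo c₂ c' (mem_closedPoints_iff.1 hc₂) hxc])
      (fun γ hγ => by
        by_contra hne0
        have hu : IsUnit (g.appTop γ) := by
          obtain ⟨κ, hκ⟩ := hψ.2 (g.appTop γ)
          rw [← hκ]
          refine (isUnit_iff_ne_zero.2 fun h0 => hne0 (ModelDual.appTop_injective R hπ hg ?_)).map ψ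
          rw [← hκ, h0, map_zero, map_zero]
        have hu2 : IsUnit (X.presheaf.germ ⊤ (g c₁) trivial γ) := by
          refine (isUnit_map_iff (g.stalkMap c₁).hom _).1 ?_
          rw [Scheme.Hom.germ_stalkMap_apply]
          exact hu.map _
        refine ModelDual.germ_one_ne_zero (g c₁) (hu2.smul_eq_zero.1 ?_)
        have h1 : (ModelDual.evMod (g c₁)).app ⊤ (γ • (1 : Γ(X, ⊤))) = γ • AmpleLib.sec (ModelDual.evMod (g c₁)) :=
          (ModelDual.evMod (g c₁)).app_smul (U := ⊤) γ (1 : Γ(X, ⊤))
        rw [smul_eq_mul, mul_one, hγ] at h1
        rw [← ParaFLib.germ_smul', ← h1, map_zero])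
    exact ⟨hfree, le_antisymm hle (hH0.trans Module.finrank_pos)⟩

end Groth.Agent.S14191
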