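import Groth.Statements.S14192
import Mathlib.RingTheory.PowerSeries.Exp
import Mathlib.RingTheory.PowerSeries.Substitution
import Mathlib.RingTheory.PowerSeries.Derivative

set_option autoImplicit false
open PowerSeries
open StackCount

namespace Groth.Agent.S14192

/-- Let R = Σ_n r_n X^n be a Laurent polynomial with integer coefficients and q > 1 an integer. In the
ring of formal power series in t over ℚ, the exponential of Σ_{v ≥ 1} R(q^v) t^v / v equals the
finite product Π_n (1 - q^n t)^(-r_n). Stated here with denominators cleared: the exponential series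
multiplied by Π_{n : r_n > 0} (1 - q^n t)^(r_n) equals Π_{n : r_n < 0} (1 - q^n t)^(-r_n) (each
factor 1 - q^n t is a unit, so this is equivalent). -/
theorem result (R : LaurentPolynomial ℤ) (q : ℤ) (hq : 1 < q) :
    (PowerSeries.exp ℚ).subst
        (PowerSeries.mk fun v : ℕ => if v = 0 then (0 : ℚ)
          else (R.coeff.sum fun (n : ℤ) (r : ℤ) => (r : ℚ) * (q : ℚ) ^ (n * (v : ℤ))) / (v : ℚ))
      * ∏ n ∈ R.coeff.support, (1 - PowerSeries.C ((q : ℚ) ^ n) * PowerSeries.X) ^ (R.coeff n).toNat
    = ∏ n ∈ R.coeff.support, (1 - PowerSeries.C ((q : ℚ) ^ n) * PowerSeries.X) ^ (-(R.coeff n)).toNat := by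
  classical
  set L : PowerSeries ℚ := PowerSeries.mk fun v : ℕ => if v = 0 then (0 : ℚ)
      else (R.coeff.sum fun (n : ℤ) (r : ℤ) => (r : ℚ) * (q : ℚ) ^ (n * (v : ℤ))) / (v : ℚ) with hL
  let a : ℤ → ℚ := fun n => (q : ℚ) ^ n
  let u : ℚ → PowerSeries ℚ := fun b => PowerSeries.mk fun v : ℕ => b ^ (v + 1)
  -- the derivative of a linear factor
  have hu : ∀ b : ℚ, (1 - C b * X) * u b = C b := fun b => by
    ext v
    rcases v with _ | v
    · simp [u, sub_mul, mul_assoc]
    · simp [u, sub_mul, mul_assoc, coeff_succ_X_mul, pow_succ']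
  have hd1 : ∀ b : ℚ, d⁄dX ℚ (1 - C b * X) = -(u b) * (1 - C b * X) := fun b => by
    rw [map_sub, neg_mul, mul_comm (u b), hu b]
    simp
  have hdpow : ∀ (b : ℚ) (m : ℕ), d⁄dX ℚ ((1 - C b * X) ^ m) =
      -((m : PowerSeries ℚ) * u b) * (1 - C b * X) ^ m := fun b m => by
    induction m with
    | zero => simp
    | succ m ih =>
      rw [pow_succ, Derivation.leibniz, ih, hd1, smul_eq_mul, smul_eq_mul]
      push_cast
      ring
  have hdprod : ∀ (s : Finset ℤ) (m : ℤ → ℕ),
      d⁄dX ℚ (∏ n ∈ s, (1 - C (a n) * X) ^ m n) =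
        -(∑ n ∈ s, (m n : PowerSeries ℚ) * u (a n)) * ∏ n ∈ s, (1 - C (a n) * X) ^ m n := fun s m => by
    induction s using Finset.induction_on with
    | empty => simp
    | insert x s hx ih =>
      rw [Finset.prod_insert hx, Finset.sum_insert hx, Derivation.leibniz, ih, hdpow, smul_eq_mul,
        smul_eq_mul]
      ring
  -- the derivative of the exponent
  have hdL : d⁄dX ℚ L = ∑ n ∈ R.coeff.support, ((R.coeff n : ℤ) : PowerSeries ℚ) * u (a n) := by
    ext v
    rw [coeff_derivative, hL, coeff_mk, if_neg (Nat.succ_ne_zero v), map_sum]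
    push_cast
    rw [div_mul_cancel₀ _ (by positivity)]
    refine Finset.sum_congr rfl fun n _ => ?_
    rw [show ((R.coeff n : ℤ) : PowerSeries ℚ) = C ((R.coeff n : ℤ) : ℚ) from (map_intCast _ _).symm,
      coeff_C_mul]
    congr 1
    simp only [u, a, coeff_mk]
    rw [← zpow_natCast ((q : ℚ) ^ n), ← zpow_mul]
    push_cast
    ring_nf
  have hL0 : constantCoeff L = 0 := by simp [hL]
  have hs : HasSubst L := HasSubst.of_constantCoeff_zero' hL0
  -- uniqueness
  have huniq : ∀ (G f g : PowerSeries ℚ), d⁄dX ℚ f = G * f → d⁄dX ℚ g = G * g →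
      constantCoeff f = constantCoeff g → f = g := by
    intro G f g hf hg h0
    rw [← sub_eq_zero]
    have hD : d⁄dX ℚ (f - g) = G * (f - g) := by rw [map_sub, hf, hg, mul_sub]
    ext v
    rw [map_zero]
    induction v using Nat.strong_induction_on with
    | _ v ih =>
      rcases v with _ | v
      · simp [h0]
      · have h := congrArg (coeff v) hD
        rw [coeff_derivative, coeff_mul] at h
        rw [Finset.sum_eq_zero (fun p hp => by
          rw [ih p.2 (by have := Finset.mem_antidiagonal.mp hp; omega), mul_zero])] at h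
        exact (mul_eq_zero.mp h).resolve_right (by positivity)
  have hexp0 : constantCoeff ((PowerSeries.exp ℚ).subst L) = 1 := by
    show MvPowerSeries.constantCoeff _ = 1
    rw [constantCoeff_subst hs, finsum_eq_single _ 0]
    · simp
    · intro d hd
      rw [map_pow]
      show _ • (constantCoeff L) ^ d = 0
      rw [hL0, zero_pow hd, smul_zero]
  refine huniq (-(∑ n ∈ R.coeff.support,
    ((-(R.coeff n)).toNat : PowerSeries ℚ) * u (a n))) _ _ ?_ (hdprod _ _) ?_
  · rw [Derivation.leibniz, derivative_subst hs, derivative_exp, hdprod, hdL, smul_eq_mul,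
      smul_eq_mul]
    have key : ∑ n ∈ R.coeff.support, ((R.coeff n : ℤ) : PowerSeries ℚ) * u (a n) =
        ∑ n ∈ R.coeff.support, ((R.coeff n).toNat : PowerSeries ℚ) * u (a n) -
          ∑ n ∈ R.coeff.support, ((-(R.coeff n)).toNat : PowerSeries ℚ) * u (a n) := by
      rw [← Finset.sum_sub_distrib]
      refine Finset.sum_congr rfl fun n _ => ?_
      rw [← sub_mul]
      congr 1
      conv_lhs => rw [show R.coeff n = ((R.coeff n).toNat : ℤ) - ((-(R.coeff n)).toNat : ℤ) by omega]
      push_cast
      rfl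
    rw [key]
    ring
  · rw [map_mul, hexp0, map_prod, map_prod]
    simp

end Groth.Agent.S14192
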