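import Groth.Statements.S14194
import Mathlib


set_option autoImplicit false
universe u
open W4c1btstackcounts
open StackCount

namespace Groth.Agent.S14194

open Matrix W4c1btstackcounts

section Ext
variable {k : Type u} [Field k] {V : Type u} [AddCommGroup V] [Module k V] [FiniteDimensional k V]
  {V' : Type u} [AddCommGroup V'] [Module k V'] [FiniteDimensional k V']
  {W : Type u} [AddCommGroup W] [Module k W] {W' : Type u} [AddCommGroup W'] [Module k W']

theorem exists_disjoint_sup (A B : Submodule k V) (h : A ≤ B) : ∃ D, D ≤ B ∧ Disjoint A D ∧ A ⊔ D = B := by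
  obtain ⟨c, hc⟩ := exists_isCompl A
  refine ⟨c ⊓ B, inf_le_right, hc.disjoint.mono_right inf_le_left, ?_⟩
  rw [← sup_inf_assoc_of_le c h, hc.sup_eq_top, top_inf_eq]

theorem exists_glue (F D : Submodule k V) (h : Disjoint F D) (φ : V →ₗ[k] V') (ψ : D →ₗ[k] V') :
    ∃ φ' : V →ₗ[k] V', (∀ x ∈ F, φ' x = φ x) ∧ ∀ x : D, φ' x = ψ x := by
  obtain ⟨ψ', hψ⟩ := LinearMap.exists_extend ψ
  obtain ⟨E, hE⟩ := exists_isCompl (F ⊔ D)
  have hc : IsCompl F (D ⊔ E) := ⟨Disjoint.disjoint_sup_right_of_disjoint_sup_left h hE.disjoint, by rw [codisjoint_iff, ← sup_assoc]; exact hE.sup_eq_top⟩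
  refine ⟨LinearMap.ofIsCompl hc (φ ∘ₗ F.subtype) (ψ' ∘ₗ (D ⊔ E).subtype), fun x hx => ?_, fun x => ?_⟩
  · exact LinearMap.ofIsCompl_left_apply hc ⟨x, hx⟩
  · exact (LinearMap.ofIsCompl_right_apply hc ⟨(x : V), Submodule.mem_sup_left x.2⟩).trans (LinearMap.congr_fun hψ x)

theorem finrank_inf_ker_add (f : V →ₗ[k] W) (F : Submodule k V) :
    Module.finrank k (F.map f) + Module.finrank k (F ⊓ LinearMap.ker f : Submodule k V) = Module.finrank k F := by
  have h := LinearMap.finrank_range_add_finrank_ker (f ∘ₗ F.subtype)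
  rw [LinearMap.range_comp, Submodule.range_subtype, LinearMap.ker_comp,
    ← Submodule.finrank_map_subtype_eq F, Submodule.map_comap_subtype] at h
  exact h

theorem extend_step (f : V →ₗ[k] W) (f' : V' →ₗ[k] W') (g : W ≃ₗ[k] W') (F G : Submodule k V) (F' G' : Submodule k V')
    (hFG : F ≤ G) (hFG' : F' ≤ G') (hG : (G.map f).map g.toLinearMap = G'.map f')
    (hd : Module.finrank k G = Module.finrank k G') (φ : V →ₗ[k] V')
    (h1 : F.map φ = F') (h2 : Disjoint F (LinearMap.ker φ)) (h3 : ∀ x ∈ F, f' (φ x) = g (f x)) :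
    ∃ ψ : V →ₗ[k] V', (∀ x ∈ F, ψ x = φ x) ∧ G.map ψ = G' ∧ Disjoint G (LinearMap.ker ψ) ∧ ∀ x ∈ G, f' (ψ x) = g (f x) := by
  have hφinj : ∀ x ∈ F, φ x = 0 → x = 0 := fun x hx h => Submodule.disjoint_def.1 h2 x hx h
  obtain ⟨D1, hD1, hdis1, hsup1⟩ := exists_disjoint_sup (F ⊓ LinearMap.ker f) (G ⊓ LinearMap.ker f) (inf_le_inf_right _ hFG)
  obtain ⟨D1', hD1', hdis1', hsup1'⟩ := exists_disjoint_sup (F' ⊓ LinearMap.ker f') (G' ⊓ LinearMap.ker f') (inf_le_inf_right _ hFG')
  have hdim1 : Module.finrank k D1 = Module.finrank k D1' := by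
    have e1 := Submodule.finrank_sup_add_finrank_inf_eq (F ⊓ LinearMap.ker f) D1
    have e2 := Submodule.finrank_sup_add_finrank_inf_eq (F' ⊓ LinearMap.ker f') D1'
    rw [hsup1, disjoint_iff.1 hdis1, finrank_bot] at e1
    rw [hsup1', disjoint_iff.1 hdis1', finrank_bot] at e2
    have a1 := finrank_inf_ker_add f G
    have a2 := finrank_inf_ker_add f' G'
    have a3 := finrank_inf_ker_add f F
    have a4 := finrank_inf_ker_add f' F'
    have hF' : F'.map f' = (F.map f).map g.toLinearMap := by
      rw [← h1, ← Submodule.map_comp, ← Submodule.map_comp]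
      exact le_antisymm (by rintro _ ⟨x, hx, rfl⟩; exact ⟨x, hx, (h3 x hx).symm⟩) (by rintro _ ⟨x, hx, rfl⟩; exact ⟨x, hx, h3 x hx⟩)
    have b1 : Module.finrank k (G'.map f') = Module.finrank k (G.map f) := by
      rw [← hG]; exact LinearEquiv.finrank_map_eq g _
    have b2 : Module.finrank k (F'.map f') = Module.finrank k (F.map f) := by
      rw [hF']; exact LinearEquiv.finrank_map_eq g _
    have b3 : Module.finrank k F' = Module.finrank k F := by
      rw [← h1]
      refine le_antisymm (Submodule.finrank_map_le φ F) ?_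
      have := finrank_inf_ker_add φ F
      rw [disjoint_iff.1 h2, finrank_bot] at this
      omega
    omega
  let e : D1 ≃ₗ[k] D1' := LinearEquiv.ofFinrankEq _ _ hdim1
  have hdisF : Disjoint F D1 := Submodule.disjoint_def.2 fun x hx hx1 =>
    Submodule.disjoint_def.1 hdis1 x ⟨hx, (hD1 hx1).2⟩ hx1
  obtain ⟨φ1, hφ1F, hφ1D⟩ := exists_glue F D1 hdisF φ (D1'.subtype ∘ₗ e.toLinearMap)
  let H := F ⊔ D1
  obtain ⟨D2, hD2, hdis2, hsup2⟩ := exists_disjoint_sup H G (sup_le hFG (hD1.trans inf_le_left))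
  have hmem : ∀ x : D2, g (f x) ∈ G'.map f' := fun x => by
    rw [← hG]; exact ⟨f x, ⟨x, hD2 x.2, rfl⟩, rfl⟩
  let t : G' →ₗ[k] (G'.map f' : Submodule k W') := LinearMap.codRestrict _ (f' ∘ₗ G'.subtype) fun x => ⟨x, x.2, rfl⟩
  have ht : Function.Surjective t := fun ⟨w, x, hx, hw⟩ => ⟨⟨x, hx⟩, Subtype.ext hw⟩
  obtain ⟨lift, hlift⟩ := Module.projective_lifting_property t
    (LinearMap.codRestrict _ (g.toLinearMap ∘ₗ f ∘ₗ D2.subtype) hmem) ht
  have hlift' : ∀ x : D2, f' (lift x : V') = g (f x) := fun x => congrArg Subtype.val (LinearMap.congr_fun hlift x)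
  obtain ⟨ψ, hψH, hψD⟩ := exists_glue H D2 hdis2 φ1 (G'.subtype ∘ₗ lift)
  have hF : ∀ x ∈ F, ψ x = φ x := fun x hx => (hψH x (Submodule.mem_sup_left hx)).trans (hφ1F x hx)
  have hD : ∀ x : D1, ψ x = (e x : V') := fun x => (hψH x (Submodule.mem_sup_right x.2)).trans (hφ1D x)
  have hdec : ∀ x ∈ G, ∃ a ∈ F, ∃ b : D1, ∃ c : D2, a + b + c = x := fun x hx => by
    rw [← hsup2] at hx
    obtain ⟨y, hy, c, hc, rfl⟩ := Submodule.mem_sup.1 hx
    obtain ⟨a, ha, b, hb, rfl⟩ := Submodule.mem_sup.1 hy
    exact ⟨a, ha, ⟨b, hb⟩, ⟨c, hc⟩, rfl⟩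
  have hcompat : ∀ x ∈ G, f' (ψ x) = g (f x) := fun x hx => by
    obtain ⟨a, ha, b, c, rfl⟩ := hdec x hx
    have hb0 : f' (e b : V') = 0 := (hD1' (e b).2).2
    have hb1 : f (b : V) = 0 := (hD1 b.2).2
    simp only [map_add, hF a ha, hD b, hψD c, h3 a ha, hb0, hb1, map_zero, add_zero]
    exact congrArg _ (hlift' c)
  have hinto : G.map ψ ≤ G' := by
    rintro _ ⟨x, hx, rfl⟩
    obtain ⟨a, ha, b, c, rfl⟩ := hdec x hx
    rw [map_add, map_add, hF a ha, hD b, hψD c]
    exact add_mem (add_mem (hFG' (h1 ▸ ⟨a, ha, rfl⟩)) (hD1' (e b).2).1) (lift c).2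
  have hinj : Disjoint G (LinearMap.ker ψ) := Submodule.disjoint_def.2 fun x hx hx0 => by
    obtain ⟨a, ha, b, c, rfl⟩ := hdec x hx
    have h0 : f (a + b + c) = 0 := g.injective (by rw [← hcompat _ hx, LinearMap.mem_ker.1 hx0, map_zero, map_zero])
    have hc' : (c : V) = 0 := by
      refine Submodule.disjoint_def.1 hdis2 _ ?_ c.2
      have : a + b + c ∈ (F ⊓ LinearMap.ker f) ⊔ D1 := hsup1.symm ▸ (⟨hx, h0⟩ : a + b + c ∈ G ⊓ LinearMap.ker f)
      have h' : a + b + c ∈ H := (sup_le_sup inf_le_left le_rfl : (F ⊓ LinearMap.ker f) ⊔ D1 ≤ H) this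
      simpa using H.sub_mem h' (Submodule.add_mem_sup ha b.2)
    have hc0 : c = 0 := Subtype.ext hc'
    subst hc0
    rw [LinearMap.mem_ker, map_add, map_add, hF a ha, hD b, ZeroMemClass.coe_zero, map_zero, add_zero] at hx0
    have hb' : (e b : V') = 0 := by
      refine Submodule.disjoint_def.1 hdis1' _ ⟨?_, (hD1' (e b).2).2⟩ (e b).2
      rw [eq_neg_of_add_eq_zero_right hx0]
      exact neg_mem (h1 ▸ ⟨a, ha, rfl⟩)
    rw [hb', add_zero] at hx0
    have hb0 : b = 0 := e.injective (by rw [map_zero]; exact Subtype.ext hb')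
    simp [hφinj a ha hx0, hb0]
  refine ⟨ψ, hF, Submodule.eq_of_le_of_finrank_le hinto ?_, hinj, hcompat⟩
  have := finrank_inf_ker_add ψ G
  rw [disjoint_iff.1 hinj, finrank_bot] at this
  omega

theorem exists_lift_flag (f : V →ₗ[k] W) (f' : V' →ₗ[k] W') (g : W ≃ₗ[k] W') (F : ℕ → Submodule k V) (F' : ℕ → Submodule k V')
    (hF : Monotone F) (hF' : Monotone F') (N : ℕ) (hN : F N = ⊤) (hN' : F' N = ⊤)
    (hg : ∀ i, ((F i).map f).map g.toLinearMap = (F' i).map f') (hd : ∀ i, Module.finrank k (F i) = Module.finrank k (F' i)) :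
    ∃ e : V ≃ₗ[k] V', (∀ i ≤ N, (F i).map e.toLinearMap = F' i) ∧ ∀ x, f' (e x) = g (f x) := by
  have key : ∀ i, ∃ φ : V →ₗ[k] V', (∀ l ≤ i, (F l).map φ = F' l) ∧ Disjoint (F i) (LinearMap.ker φ) ∧ ∀ x ∈ F i, f' (φ x) = g (f x) := by
    intro i
    induction i with
    | zero =>
      obtain ⟨ψ, -, h1, h2, h3⟩ := extend_step f f' g ⊥ (F 0) ⊥ (F' 0) bot_le bot_le (hg 0) (hd 0) 0 (Submodule.map_bot _) disjoint_bot_left
        (fun x hx => by rw [(Submodule.mem_bot k).1 hx]; simp)
      exact ⟨ψ, fun l hl => by rw [Nat.le_zero.1 hl]; exact h1, h2, h3⟩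
    | succ i ih =>
      obtain ⟨φ, p1, p2, p3⟩ := ih
      obtain ⟨ψ, q0, q1, q2, q3⟩ := extend_step f f' g (F i) (F (i + 1)) (F' i) (F' (i + 1)) (hF (Nat.le_succ i)) (hF' (Nat.le_succ i)) (hg _) (hd _) φ (p1 i le_rfl) p2 p3
      refine ⟨ψ, fun l hl => ?_, q2, q3⟩
      rcases Nat.lt_or_ge l (i + 1) with h | h
      · rw [← p1 l (by omega)]
        exact le_antisymm (by rintro _ ⟨x, hx, rfl⟩; exact ⟨x, hx, (q0 x (hF (by omega) hx)).symm⟩)
          (by rintro _ ⟨x, hx, rfl⟩; exact ⟨x, hx, q0 x (hF (by omega) hx)⟩)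
      · rw [show l = i + 1 by omega]; exact q1
  obtain ⟨φ, p1, p2, p3⟩ := key N
  rw [hN] at p2 p3
  have hinj : Function.Injective φ := LinearMap.ker_eq_bot.1 (top_disjoint.1 p2)
  have hsurj : Function.Surjective φ := fun y => by
    have : y ∈ (F N).map φ := by rw [p1 N le_rfl, hN']; trivial
    obtain ⟨x, -, hx⟩ := this
    exact ⟨x, hx⟩
  exact ⟨LinearEquiv.ofBijective φ ⟨hinj, hsurj⟩, p1, fun x => p3 x trivial⟩

end Ext

section Chain
variable {k : Type u} [Field k] {d : ℕ → ℕ}

/-- the image of `k^(d i)` in `k^(d j)` (everything for `j ≤ i`) -/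
def img (f : (i : ℕ) → Matrix (Fin (d (i + 1))) (Fin (d i)) k) (i : ℕ) : (j : ℕ) → Submodule k (Fin (d j) → k)
  | 0 => ⊤
  | j + 1 => if i ≤ j then (img f i j).map (Matrix.toLin' (f j)) else ⊤

variable (f f' : (i : ℕ) → Matrix (Fin (d (i + 1))) (Fin (d i)) k)

theorem img_succ {i j : ℕ} (h : i ≤ j) : img f i (j + 1) = (img f i j).map (Matrix.toLin' (f j)) := if_pos h

theorem img_self (i : ℕ) : ∀ j, j ≤ i → img f i j = ⊤
  | 0, _ => rfl
  | j + 1, h => if_neg (by omega)

theorem img_add (i : ℕ) : ∀ n, img f i (i + n) = iterImage f i n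
  | 0 => img_self f i i le_rfl
  | n + 1 => by
    show img f i (i + n + 1) = _
    rw [img_succ f (Nat.le_add_right i n), img_add i n]
    rfl

theorem rankArray_eq {i j : ℕ} (h : i ≤ j) : rankArray f i j = Module.finrank k (img f i j) := by
  obtain ⟨n, rfl⟩ := Nat.le.dest h
  rw [rankArray, if_pos h, img_add]
  exact congrArg (fun m => Module.finrank k (iterImage f i m)) (Nat.add_sub_cancel_left i n)

theorem img_mono : ∀ (j : ℕ), Monotone fun i => img f i j
  | 0 => fun _ _ _ => le_rfl
  | j + 1 => fun a b hab => by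
    show img f a (j + 1) ≤ img f b (j + 1)
    by_cases hb : b ≤ j
    · rw [img_succ f hb, img_succ f (hab.trans hb)]
      exact Submodule.map_mono (img_mono j hab)
    · rw [img_self f b (j + 1) (by omega)]
      exact le_top

theorem exists_iso (r : ℕ) : ∀ g : (Fin (d r) → k) ≃ₗ[k] (Fin (d r) → k),
    (∀ i j, 1 ≤ i → i ≤ j → j ≤ r → rankArray f i j = rankArray f' i j) →
    (∀ i, 1 ≤ i → (img f i r).map g.toLinearMap = img f' i r) →
    ∃ h : (j : ℕ) → (Fin (d j) → k) ≃ₗ[k] (Fin (d j) → k), h r = g ∧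
      ∀ i, 1 ≤ i → i + 1 ≤ r → ∀ x, Matrix.toLin' (f' i) (h i x) = h (i + 1) (Matrix.toLin' (f i) x) := by
  induction r with
  | zero => exact fun g _ _ => ⟨Function.update (fun j => LinearEquiv.refl k _) 0 g, by rw [Function.update_self], fun i hi hir => by omega⟩
  | succ r ih =>
    intro g hrank hg
    rcases Nat.eq_zero_or_pos r with rfl | hr
    · exact ⟨Function.update (fun j => LinearEquiv.refl k _) 1 g, by rw [Function.update_self], fun i hi hir => by omega⟩
    · obtain ⟨g', hg'1, hg'2⟩ := exists_lift_flag (Matrix.toLin' (f r)) (Matrix.toLin' (f' r)) g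
        (fun l => img f (min (l + 1) r) r) (fun l => img f' (min (l + 1) r) r)
        (fun a b hab => img_mono f r (min_le_min (by omega) le_rfl)) (fun a b hab => img_mono f' r (min_le_min (by omega) le_rfl))
        r (img_self f _ _ (by simp)) (img_self f' _ _ (by simp))
        (fun l => by rw [← img_succ f (min_le_right _ _), ← img_succ f' (min_le_right _ _)]; exact hg _ (by omega))
        (fun l => by rw [← rankArray_eq f (min_le_right _ _), ← rankArray_eq f' (min_le_right _ _)]; exact hrank _ _ (by omega) (min_le_right _ _) (by omega))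
      obtain ⟨h, hh, hh'⟩ := ih g' (fun i j hi hij hj => hrank i j hi hij (by omega)) (fun i hi => by
        rcases Nat.lt_or_ge r i with hir | hir
        · rw [img_self f i r (by omega), img_self f' i r (by omega), Submodule.map_top, LinearEquiv.range]
        · have := hg'1 (i - 1) (by omega)
          rwa [show min (i - 1 + 1) r = i by omega] at this)
      refine ⟨Function.update h (r + 1) g, Function.update_self .., fun i hi hir x => ?_⟩
      rw [Function.update_of_ne (show i ≠ r + 1 by omega)]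
      rcases Nat.lt_or_ge i r with hlt | hge
      · rw [Function.update_of_ne (show i + 1 ≠ r + 1 by omega)]
        exact hh' i hi hlt x
      · obtain rfl : i = r := by omega
        rw [Function.update_self, hh]
        exact hg'2 x

/-- the subspace spanned by the first `n` coordinate vectors -/
def coordSpan (m n : ℕ) : Submodule k (Fin m → k) := Submodule.span k {v | ∃ t : Fin m, (t : ℕ) < n ∧ v = Pi.single t 1}

theorem coordSpan_top (m n : ℕ) (h : m ≤ n) : coordSpan (k := k) m n = ⊤ := by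
  refine eq_top_iff.2 fun v _ => ?_
  rw [pi_eq_sum_univ' v]
  exact Submodule.sum_mem _ fun t _ => Submodule.smul_mem _ _ (Submodule.subset_span ⟨t, by omega, rfl⟩)

theorem finrank_coordSpan (m n : ℕ) (h : n ≤ m) : Module.finrank k (coordSpan (k := k) m n) = n := by
  have he : coordSpan (k := k) m n = Submodule.span k (Set.range fun t : Fin n => (Pi.single (Fin.castLE h t) 1 : Fin m → k)) := by
    refine congrArg _ (Set.ext fun v => ⟨?_, ?_⟩)
    · rintro ⟨t, ht, rfl⟩; exact ⟨⟨t, ht⟩, rfl⟩
    · rintro ⟨t, rfl⟩; exact ⟨_, t.2, rfl⟩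
  rw [he, finrank_span_eq_card, Fintype.card_fin]
  have := (Pi.basisFun k (Fin m)).linearIndependent.comp (Fin.castLE h) (Fin.castLE_injective h)
  convert this using 1
  funext t
  simp

theorem exists_matrix (D D' j : ℕ) (b c : ℕ → ℕ) (hb : ∀ i, i ≤ j → b i ≤ D) (hc0 : c 0 = 0)
    (hcm : Monotone c) (hbm : Monotone b) (hcb : ∀ i, c i ≤ b i) (hdiff : ∀ i, i < j → c (i + 1) + b i ≤ b (i + 1) + c i)
    (hcD : c j ≤ D') :
    ∃ M : Matrix (Fin D') (Fin D) k, ∀ i ≤ j, (coordSpan D (b i)).map (Matrix.toLin' M) = coordSpan D' (c i) := by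
  classical
  let off : ℕ → ℕ := fun i => b i - c i
  have hoff : ∀ i l, i ≤ l → l ≤ j → off i ≤ off l := by
    intro i l hil hl
    induction hil with
    | refl => rfl
    | @step l hil ih =>
      have hil' : i ≤ l := hil
      refine (ih (by omega)).trans ?_
      have := hdiff l (by omega); have := hcb l; have := hcb (l + 1)
      show b l - c l ≤ b (l + 1) - c (l + 1)
      omega
  -- the block of a target index
  have hblk : ∀ s, s < c j → ∃ i, i < j ∧ c i ≤ s ∧ s < c (i + 1) := by
    intro s hs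
    have hex : ∃ i, s < c i := ⟨j, hs⟩
    have h0 : Nat.find hex ≠ 0 := fun h => by
      have := Nat.find_spec hex; rw [h, hc0] at this; omega
    refine ⟨Nat.find hex - 1, by have := Nat.find_min' hex hs; omega, ?_, ?_⟩
    · exact not_lt.1 (Nat.find_min hex (by omega))
    · rw [show Nat.find hex - 1 + 1 = Nat.find hex by omega]; exact Nat.find_spec hex
  choose blk hblk1 hblk2 hblk3 using hblk
  let σ : ∀ s, s < c j → ℕ := fun s hs => s + off (blk s hs)
  let M : Matrix (Fin D') (Fin D) k := Matrix.of fun s t => if h : (s : ℕ) < c j then (if (t : ℕ) = σ s h then 1 else 0) else 0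
  have hlt : ∀ (i s : ℕ) (hs : s < c j), i ≤ j → (σ s hs < b i ↔ s < c i) := by
    intro i s hs hi
    constructor
    · intro h
      by_contra hc'
      have hli : i ≤ blk s hs := by
        by_contra hh
        have := hcm (show blk s hs + 1 ≤ i by omega)
        have := hblk3 s hs
        omega
      have := hbm hli
      have := hblk2 s hs; have := hcb (blk s hs)
      simp only [σ, off] at h
      omega
    · intro h
      have hli : blk s hs < i := by
        by_contra hh
        have := hcm (show i ≤ blk s hs by omega)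
        have := hblk2 s hs
        omega
      have h1 := hoff (blk s hs) i hli.le hi
      have := hcb i
      simp only [σ, off] at h1 ⊢
      omega
  have hinj : ∀ s s' (hs : s < c j) (hs' : s' < c j), σ s hs = σ s' hs' → s = s' := by
    intro s s' hs hs' h
    rcases lt_trichotomy (blk s hs) (blk s' hs') with hl | hl | hl
    · have h1 := (hlt (blk s hs + 1) s hs (by have := hblk1 s hs; omega)).2 (hblk3 s hs)
      rw [h] at h1
      have h2 := (hlt (blk s hs + 1) s' hs' (by have := hblk1 s hs; omega)).1 h1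
      have := hcm (show blk s hs + 1 ≤ blk s' hs' from hl); have := hblk2 s' hs'
      omega
    · simp only [σ, hl] at h; omega
    · have h1 := (hlt (blk s' hs' + 1) s' hs' (by have := hblk1 s' hs'; omega)).2 (hblk3 s' hs')
      rw [← h] at h1
      have h2 := (hlt (blk s' hs' + 1) s hs (by have := hblk1 s' hs'; omega)).1 h1
      have := hcm (show blk s' hs' + 1 ≤ blk s hs from hl); have := hblk2 s hs
      omega
  have hM : ∀ (t : Fin D), Matrix.toLin' M (Pi.single t 1) = fun s => M s t := fun t => by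
    rw [Matrix.toLin'_apply, Matrix.mulVec_single_one]; rfl
  have hMt : ∀ (t : Fin D) (s : Fin D') (hs : (s : ℕ) < c j), (t : ℕ) = σ s hs → Matrix.toLin' M (Pi.single t 1) = Pi.single s 1 := by
    intro t s hs hts
    rw [hM]
    funext s'
    simp only [M, Matrix.of_apply]
    by_cases he : s' = s
    · subst he; rw [dif_pos hs, if_pos hts, Pi.single_eq_same]
    · rw [Pi.single_eq_of_ne he]
      split_ifs with h1 h2
      · exact absurd (Fin.ext (hinj _ _ h1 hs (h2.symm.trans hts))) he
      · rfl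
      · rfl
  refine ⟨M, fun i hi => ?_⟩
  rw [coordSpan, Submodule.map_span]
  refine le_antisymm (Submodule.span_le.2 ?_) (Submodule.span_le.2 ?_)
  · rintro _ ⟨_, ⟨t, ht, rfl⟩, rfl⟩
    by_cases hex : ∃ (s : Fin D') (hs : (s : ℕ) < c j), (t : ℕ) = σ s hs
    · obtain ⟨s, hs, hts⟩ := hex
      rw [hMt t s hs hts]
      exact Submodule.subset_span ⟨s, (hlt i s hs hi).1 (hts ▸ ht), rfl⟩
    · push_neg at hex
      rw [hM, SetLike.mem_coe]
      convert Submodule.zero_mem _
      rename_i s
      simp only [M, Matrix.of_apply, Pi.zero_apply]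
      split_ifs with h1 h2
      · exact absurd h2 (hex s h1)
      · rfl
      · rfl
  · rintro _ ⟨s, hs, rfl⟩
    have hs' : (s : ℕ) < c j := lt_of_lt_of_le hs (hcm hi)
    have h1 := (hlt i s hs' hi).2 hs
    exact Submodule.subset_span ⟨Pi.single ⟨σ s hs', lt_of_lt_of_le h1 (hb i hi)⟩ 1, ⟨_, h1, rfl⟩, hMt _ s hs' rfl⟩

end Chain


/-- Let k be a field and d_1, …, d_r sizes (given as a function d on the naturals; only d_1, …, d_r
matter). The group Π_j GL_{d_j}(k) acts on chains of matrices f_i of size d_{i+1} × d_i (1 ≤ i < r)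
by f_i ↦ g_{i+1} f_i g_i^(-1). Sending a chain to the array a_{i,j} = dim (f_{j-1} ⋯ f_i)(k^{d_i})
(1 ≤ i ≤ j ≤ r) is constant on orbits, takes values in the set of admissible arrays (a_{j,j} = d_j;
a_{i,j} ≤ a_{i+1,j} for i < j; a_{i,j+1} ≤ a_{i,j} for j < r; a_{i,j} - a_{i-1,j} ≥ a_{i,j+1} -
a_{i-1,j+1} for 1 < i ≤ j < r), separates orbits, and reaches every admissible array: it is a
bijection from the orbit set onto the admissible arrays. (The published statement also asserts that,
when k is Galois over a subfield, the bijection is compatible with the Galois group acting entrywise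
on matrices and trivially on arrays; this row omits that clause.) -/
theorem result (k : Type u) [Field k] (d : ℕ → ℕ) (r : ℕ) :
    (∀ (g : (j : ℕ) → Matrix.GeneralLinearGroup (Fin (d j)) k)
        (f : (i : ℕ) → Matrix (Fin (d (i + 1))) (Fin (d i)) k) (i j : ℕ),
        1 ≤ i → i ≤ j → j ≤ r → rankArray (conj g f) i j = rankArray f i j) ∧
    (∀ f : (i : ℕ) → Matrix (Fin (d (i + 1))) (Fin (d i)) k, IsRankArray d r (rankArray f)) ∧
    (∀ f f' : (i : ℕ) → Matrix (Fin (d (i + 1))) (Fin (d i)) k,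
        (∀ i j : ℕ, 1 ≤ i → i ≤ j → j ≤ r → rankArray f i j = rankArray f' i j) →
        ∃ g : (j : ℕ) → Matrix.GeneralLinearGroup (Fin (d j)) k,
          ∀ i : ℕ, 1 ≤ i → i + 1 ≤ r → conj g f i = f' i) ∧
    (∀ a : ℕ → ℕ → ℕ, IsRankArray d r a →
        ∃ f : (i : ℕ) → Matrix (Fin (d (i + 1))) (Fin (d i)) k,
          ∀ i j : ℕ, 1 ≤ i → i ≤ j → j ≤ r → rankArray f i j = a i j) := by
  classical
  refine ⟨?_, ?_, ?_, ?_⟩
  · intro g f i j _ hij _
    let G : ∀ j, (Fin (d j) → k) ≃ₗ[k] (Fin (d j) → k) := fun j =>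
      LinearEquiv.ofLinear (Matrix.toLin' (g j : Matrix _ _ k)) (Matrix.toLin' ((g j)⁻¹ : Matrix.GeneralLinearGroup (Fin (d j)) k).val)
        (by rw [← Matrix.toLin'_mul, Units.mul_inv, Matrix.toLin'_one]) (by rw [← Matrix.toLin'_mul, Units.inv_mul, Matrix.toLin'_one])
    have key : ∀ j, img (conj g f) i j = (img f i j).map (G j).toLinearMap := by
      intro j
      induction j with
      | zero => rw [img_self _ i 0 (Nat.zero_le i), img_self _ i 0 (Nat.zero_le i), Submodule.map_top, LinearEquiv.range]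
      | succ j ih =>
        by_cases h : i ≤ j
        · rw [img_succ _ h, img_succ _ h, ih, ← Submodule.map_comp, ← Submodule.map_comp]
          congr 1
          show Matrix.toLin' (conj g f j) ∘ₗ Matrix.toLin' (g j : Matrix _ _ k) = Matrix.toLin' (g (j + 1) : Matrix _ _ k) ∘ₗ Matrix.toLin' (f j)
          rw [← Matrix.toLin'_mul, ← Matrix.toLin'_mul]
          congr 1
          rw [conj, Matrix.mul_assoc, Units.inv_mul, Matrix.mul_one]
        · rw [img_self _ i (j + 1) (by omega), img_self _ i (j + 1) (by omega), Submodule.map_top, LinearEquiv.range]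
    rw [rankArray_eq _ hij, rankArray_eq _ hij, key, LinearEquiv.finrank_map_eq]
  · intro f
    refine ⟨fun j _ _ => ?_, fun i j _ hij _ => ?_, fun i j _ hij _ => ?_, fun i j hi hij _ => ?_⟩
    · rw [rankArray_eq f le_rfl, img_self f j j le_rfl, finrank_top, Module.finrank_fin_fun]
    · rw [rankArray_eq f hij.le, rankArray_eq f hij]
      exact Submodule.finrank_mono (img_mono f j (Nat.le_succ i))
    · rw [rankArray_eq f hij, rankArray_eq f (by omega), img_succ f hij]
      exact Submodule.finrank_map_le _ _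
    · rw [rankArray_eq f hij, rankArray_eq f (show i ≤ j + 1 by omega), rankArray_eq f (show i - 1 ≤ j by omega), rankArray_eq f (show i - 1 ≤ j + 1 by omega), img_succ f hij, img_succ f (show i - 1 ≤ j by omega)]
      have a1 := finrank_inf_ker_add (Matrix.toLin' (f j)) (img f i j)
      have a2 := finrank_inf_ker_add (Matrix.toLin' (f j)) (img f (i - 1) j)
      have a3 : Module.finrank k (img f (i - 1) j ⊓ LinearMap.ker (Matrix.toLin' (f j)) : Submodule k _) ≤
          Module.finrank k (img f i j ⊓ LinearMap.ker (Matrix.toLin' (f j)) : Submodule k _) :=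
        Submodule.finrank_mono (inf_le_inf_right _ (img_mono f j (Nat.sub_le i 1)))
      omega
  · intro f f' h
    obtain ⟨g0, hg0, -⟩ := exists_lift_flag (0 : (Fin (d r) → k) →ₗ[k] (Fin (d r) → k)) (0 : (Fin (d r) → k) →ₗ[k] (Fin (d r) → k)) (LinearEquiv.refl k _)
      (fun l => img f (min (l + 1) r) r) (fun l => img f' (min (l + 1) r) r)
      (fun a b hab => img_mono f r (min_le_min (by omega) le_rfl)) (fun a b hab => img_mono f' r (min_le_min (by omega) le_rfl))
      r (img_self f _ _ (by simp)) (img_self f' _ _ (by simp)) (fun l => by simp)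
      (fun l => by
        rcases Nat.eq_zero_or_pos r with rfl | hr
        · rw [img_self f _ _ (Nat.zero_le _), img_self f' _ _ (Nat.zero_le _)]
        · rw [← rankArray_eq f (min_le_right _ _), ← rankArray_eq f' (min_le_right _ _)]
          exact h _ _ (by omega) (min_le_right _ _) le_rfl)
    obtain ⟨e, -, he⟩ := exists_iso f f' r g0 h (fun i hi => by
      rcases Nat.lt_or_ge r i with hir | hir
      · rw [img_self f i r (by omega), img_self f' i r (by omega), Submodule.map_top, LinearEquiv.range]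
      · have := hg0 (i - 1) (by omega)
        rwa [show min (i - 1 + 1) r = i by omega] at this)
    let g : (j : ℕ) → Matrix.GeneralLinearGroup (Fin (d j)) k := fun j =>
      ⟨LinearMap.toMatrix' (e j).toLinearMap, LinearMap.toMatrix' (e j).symm.toLinearMap,
        by rw [← LinearMap.toMatrix'_comp, LinearEquiv.comp_symm, LinearMap.toMatrix'_id],
        by rw [← LinearMap.toMatrix'_comp, LinearEquiv.symm_comp, LinearMap.toMatrix'_id]⟩
    refine ⟨g, fun i hi hir => ?_⟩
    refine Matrix.toLin'.injective (LinearMap.ext fun x => ?_)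
    obtain ⟨y, rfl⟩ := (e i).surjective x
    rw [conj, Matrix.toLin'_mul, Matrix.toLin'_mul]
    show Matrix.toLin' (LinearMap.toMatrix' (e (i + 1)).toLinearMap) (Matrix.toLin' (f i) (Matrix.toLin' (LinearMap.toMatrix' (e i).symm.toLinearMap) (e i y))) = _
    rw [Matrix.toLin'_toMatrix', Matrix.toLin'_toMatrix', LinearEquiv.coe_coe, LinearEquiv.coe_coe, LinearEquiv.symm_apply_apply]
    exact (he i hi hir y).symm
  · intro a ha
    obtain ⟨ha1, ha2, ha3, ha4⟩ := ha
    have hchain : ∀ j, j ≤ r → ∀ i l, 1 ≤ i → i ≤ l → l ≤ j → a i j ≤ a l j := by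
      intro j hj i l hi hil
      induction hil with
      | refl => exact fun _ => le_rfl
      | @step l hil ih => exact fun hl => (ih (by omega)).trans (ha2 l j (Nat.le_trans hi hil) hl hj)
    have hbound : ∀ i j, 1 ≤ i → i ≤ j → j ≤ r → a i j ≤ d j := fun i j hi hij hj => (hchain j hj i j hi hij le_rfl).trans (ha1 j (by omega) hj).le
    let b : ℕ → ℕ → ℕ → ℕ := fun j j' i => if i = 0 then 0 else a (min i j) j'
    have hex : ∀ j, ∃ M : Matrix (Fin (d (j + 1))) (Fin (d j)) k, 1 ≤ j → j + 1 ≤ r →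
        ∀ i, 1 ≤ i → i ≤ j → (coordSpan (d j) (a i j)).map (Matrix.toLin' M) = coordSpan (d (j + 1)) (a i (j + 1)) := by
      intro j
      by_cases hj : 1 ≤ j ∧ j + 1 ≤ r
      · suffices h : ∃ M : Matrix (Fin (d (j + 1))) (Fin (d j)) k, ∀ i ≤ j, (coordSpan (d j) (b j j i)).map (Matrix.toLin' M) = coordSpan (d (j + 1)) (b j (j + 1) i) by
          obtain ⟨M, hM⟩ := h
          refine ⟨M, fun _ _ i hi hij => ?_⟩
          have := hM i hij
          rwa [show b j j i = a i j from (if_neg (by omega)).trans (by rw [min_eq_left hij]), show b j (j + 1) i = a i (j + 1) from (if_neg (by omega)).trans (by rw [min_eq_left hij])] at this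
        refine exists_matrix (k := k) (d j) (d (j + 1)) j (b j j) (b j (j + 1)) ?_ rfl ?_ ?_ ?_ ?_ ?_
        · intro i _; simp only [b]; split_ifs
          · exact Nat.zero_le _
          · exact hbound _ _ (by omega) (min_le_right _ _) (by omega)
        · intro x y hxy; simp only [b]; split_ifs <;> first | omega | exact hchain (j + 1) hj.2 _ _ (by omega) (min_le_min hxy le_rfl) (by omega)
        · intro x y hxy; simp only [b]; split_ifs <;> first | omega | exact hchain j (by omega) _ _ (by omega) (min_le_min hxy le_rfl) (by omega)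
        · intro i; simp only [b]; split_ifs
          · exact le_rfl
          · exact ha3 _ _ (by omega) (min_le_right _ _) (by omega)
        · intro i hi
          simp only [b, if_neg (show i + 1 ≠ 0 by omega), min_eq_left (show i + 1 ≤ j by omega)]
          split_ifs with h0
          · subst h0; simpa using ha3 1 j le_rfl hj.1 (by omega)
          · rw [min_eq_left hi.le]
            have := ha4 (i + 1) j (by omega) (by omega) (by omega)
            simpa using this
        · simp only [b, if_neg (show j ≠ 0 by omega), min_self]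
          exact hbound j (j + 1) hj.1 (Nat.le_succ j) hj.2
      · exact ⟨0, fun h1 h2 => absurd ⟨h1, h2⟩ hj⟩
    choose f hf using hex
    refine ⟨f, fun i j hi hij hj => ?_⟩
    have key : ∀ j, i ≤ j → j ≤ r → img f i j = coordSpan (d j) (a i j) := by
      intro j hij
      induction hij with
      | refl => exact fun hr' => by rw [img_self f i i le_rfl, ha1 i hi hr', coordSpan_top _ _ le_rfl]
      | @step l hil ih => exact fun hl => by rw [img_succ f hil, ih (by omega), hf l (Nat.le_trans hi hil) hl i hi hil]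
    rw [rankArray_eq f hij, key j hij hj, finrank_coordSpan _ _ (hbound i j hi hij hj)]

end Groth.Agent.S14194
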