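import Groth.Statements.S14195
import Groth.Agent.GpLangLib.Frobenius

set_option autoImplicit false
universe u v
open StackCount

namespace Groth.Agent.S14195

/-- Let k be a finite field, k̄ an algebraic closure, Γ = Aut(k̄/k) with the Krull topology and π ∈ Γ
the Frobenius x ↦ x^(#k). Let A be a group on which Γ acts by group automorphisms, with open
stabilisers, such that every element of A lies in a finite Γ-stable subgroup. Then z ↦ z(π) is a
bijection from the locally constant 1-cocycles Γ → A (the continuous cocycles for discrete A) onto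
A, and two such cocycles z, z' are cohomologous if and only if z'(π) = g · z(π) · (π g)^(-1) for
some g in A; hence it induces a bijection of the continuous first cohomology set with the quotient
of A by the twisted conjugation g · x = g x (π g)^(-1). (The published statement takes A to be the
group of k̄-points of a smooth algebraic group over k with its Galois action; this row assumes only
the two properties of that action which the proof uses.) -/
theorem result (k : Type u) [Field k] [Finite k]
    (π : AlgebraicClosure k ≃ₐ[k] AlgebraicClosure k)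
    (hπ : ∀ x : AlgebraicClosure k, π x = x ^ Nat.card k)
    (A : Type v) [Group A] [MulDistribMulAction (AlgebraicClosure k ≃ₐ[k] AlgebraicClosure k) A]
    (hcont : ∀ a : A, IsOpen {σ : AlgebraicClosure k ≃ₐ[k] AlgebraicClosure k | σ • a = a})
    (hfin : ∀ a : A, ∃ H : Subgroup A, (H : Set A).Finite ∧ a ∈ H ∧
      ∀ (σ : AlgebraicClosure k ≃ₐ[k] AlgebraicClosure k) (x : A), x ∈ H → σ • x ∈ H) :
    Function.Bijective
        (fun z : GpH1.OneCocycleLC (AlgebraicClosure k ≃ₐ[k] AlgebraicClosure k) A => z.1 π) ∧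
      ∀ z z' : GpH1.OneCocycleLC (AlgebraicClosure k ≃ₐ[k] AlgebraicClosure k) A,
        z.cl = z'.cl ↔ ∃ g : A, z'.1 π = g * z.1 π * (π • g)⁻¹ := by
  refine ⟨⟨fun z z' h => GpLangLib.cocycle_ext hπ h, fun a => GpLangLib.exists_cocycle hπ hcont hfin a⟩, fun z z' => ?_⟩
  rw [GpH1.OneCocycleLC.cl_eq_cl_iff]
  refine ⟨fun ⟨c, hc⟩ => ⟨c, ?_⟩, fun ⟨g, hg⟩ => ⟨g, ?_⟩⟩
  · have h := hc π
    change z'.1.1 π = c * z.1.1 π * (π • c)⁻¹
    change z.1.1 π = c⁻¹ * z'.1.1 π * π • c at h
    rw [h]
    group
  · have horb : IsLocallyConstant fun σ : AlgebraicClosure k ≃ₐ[k] AlgebraicClosure k => σ • g :=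
      (IsLocallyConstant.iff_exists_open _).mpr fun σ =>
        ⟨(fun τ => σ⁻¹ * τ) ⁻¹' {τ | τ • g = g}, (hcont g).preimage (continuous_const_mul σ⁻¹),
          by rw [Set.mem_preimage, inv_mul_cancel]; exact one_smul _ g,
          fun τ hτ => by rw [Set.mem_preimage, Set.mem_setOf_eq, mul_smul, inv_smul_eq_iff] at hτ; exact hτ⟩
    let w : GpH1.OneCocycleLC (AlgebraicClosure k ≃ₐ[k] AlgebraicClosure k) A :=
      ⟨⟨fun σ => g * z.1.1 σ * (σ • g)⁻¹, fun σ τ => by
          show g * z.1.1 (σ * τ) * ((σ * τ) • g)⁻¹ = g * z.1.1 σ * (σ • g)⁻¹ * σ • (g * z.1.1 τ * (τ • g)⁻¹)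
          rw [z.1.2 σ τ, smul_mul', smul_mul', smul_inv', mul_smul]
          group⟩, (z.2.comp (g * ·)).comp₂ horb fun x y => x * y⁻¹⟩
    have hw : w = z' := GpLangLib.cocycle_ext hπ (show w.1.1 π = z'.1.1 π from hg.symm)
    intro σ
    rw [← hw]
    show z.1.1 σ = g⁻¹ * (g * z.1.1 σ * (σ • g)⁻¹) * σ • g
    group

end Groth.Agent.S14195
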