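import Groth.Statements.S14196
import Groth.Agent.LangGrpLib.Mass
import Groth.Agent.Boot.Helpers
-- import your own Groth.Agent.* helpers here

set_option autoImplicit false
set_option backward.isDefEq.respectTransparency false
set_option maxHeartbeats 800000
set_option synthInstance.maxHeartbeats 200000
universe u
open CategoryTheory MonoidalCategory CartesianMonoidalCategory AlgebraicGeometry
open StackCount

namespace Groth.Agent.S14196

open scoped MonObj
open MonoidalCategory CartesianMonoidalCategory Groth.Agent.LangGrpLib in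
lemma section_smul {S : Scheme.{u}} {G : Over S} [GrpObj G] {T Z : Over S} (b : AlgGrp.Action G Z) (z : T ⟶ Z) :
    lift 1 (𝟙 T) ≫ smulP b (fst G T) (snd G T ≫ z) = z := by
  rw [comp_smulP, lift_fst, lift_snd_assoc, Category.id_comp, smulP_one]

open MonoidalCategory CartesianMonoidalCategory Groth.Agent.LangGrpLib in
noncomputable def stdObj {S : Scheme.{u}} {K : Precoverage Scheme.{u}} [K.HasIsos] {G X : Over S} [GrpObj G]
    (aX : AlgGrp.Action G X) (T : Over S) (x : T ⟶ X) : AlgSt.QuotObj K G aX where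
  base := T
  P := G ⊗ T
  act := AlgSt.leftMul G T
  π := snd G T
  cart := AlgSt.isPullback_leftMul T
  loc := isLocallyTrivialFor_of_section _ (lift 1 (𝟙 T)) (lift_snd _ _)
  φ := smulP aX (fst G T) (snd G T ≫ x)
  eqv := by
    rw [mul_smul_pull, whiskerLeft_smulP]

open MonoidalCategory CartesianMonoidalCategory Groth.Agent.LangGrpLib in
noncomputable def fromStd {S : Scheme.{u}} {K : Precoverage Scheme.{u}} [K.HasIsos] {G X : Over S} [GrpObj G]
    {aX : AlgGrp.Action G X} {T : Over S} (A : AlgSt.QuotObj K G aX) (t : T ⟶ A.P) (x : T ⟶ X)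
    (hx : t ≫ A.φ = x) : stdObj (K := K) aX T x ⟶ A where
  base := t ≫ A.π
  top := smulP A.act (fst G T) (snd G T ≫ t)
  eqv := by
    rw [whiskerLeft_smulP]
    exact mul_smul_pull A.act t
  cart := by
    rw [← whiskerLeft_smulP]
    exact (AlgSt.isPullback_whiskerLeft t).paste_horiz A.cart
  wφ := by
    subst hx
    rw [← whiskerLeft_smulP, Category.assoc, A.eqv, ← MonoidalCategory.whiskerLeft_comp_assoc]
    exact whiskerLeft_smulP aX (t ≫ A.φ)

open MonoidalCategory CartesianMonoidalCategory Groth.Agent.LangGrpLib in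
lemma nonempty_iso_std {S : Scheme.{u}} {K : Precoverage Scheme.{u}} [K.HasIsos] {G X : Over S} [GrpObj G]
    {aX : AlgGrp.Action G X} {T : Over S} (A : (AlgSt.QuotObj.forget K G aX).Fiber T) (t : T ⟶ A.1.P)
    (ht : t ≫ A.1.π = eqToHom A.2.symm) (x : T ⟶ X) (hx : t ≫ A.1.φ = x) :
    Nonempty ((Functor.Fiber.mk (a := stdObj (K := K) aX T x) rfl : (AlgSt.QuotObj.forget K G aX).Fiber T) ≅ A) := by
  let f := fromStd A.1 t x hx
  haveI hb : IsIso f.base := by
    change IsIso (t ≫ A.1.π)
    rw [ht]; infer_instance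
  haveI : IsIso f.top := f.cart.isIso_fst_of_isIso
  let g : A.1 ⟶ stdObj (K := K) aX T x :=
    { base := inv f.base
      top := inv f.top
      eqv := by
        rw [IsIso.comp_inv_eq, Category.assoc, f.eqv, ← MonoidalCategory.whiskerLeft_comp_assoc, IsIso.inv_hom_id,
          MonoidalCategory.whiskerLeft_id, Category.id_comp]
      cart := IsPullback.of_horiz_isIso ⟨by rw [IsIso.eq_comp_inv, Category.assoc, ← f.cart.w, IsIso.inv_hom_id_assoc]⟩
      wφ := by rw [IsIso.inv_comp_eq, f.wφ] }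
  let e : stdObj (K := K) aX T x ≅ A.1 :=
    ⟨f, g, AlgSt.QuotObj.hom_ext (IsIso.hom_inv_id f.base) (IsIso.hom_inv_id f.top),
      AlgSt.QuotObj.hom_ext (IsIso.inv_hom_id f.base) (IsIso.inv_hom_id f.top)⟩
  haveI hl : (AlgSt.QuotObj.forget K G aX).IsHomLift (𝟙 T) e.hom :=
    IsHomLift.of_fac' _ _ _ rfl A.2 (by
      change t ≫ A.1.π = _
      rw [ht]
      simp)
  haveI hl' : (AlgSt.QuotObj.forget K G aX).IsHomLift (𝟙 T) e.inv :=
    IsHomLift.lift_id_inv (p := AlgSt.QuotObj.forget K G aX) T e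
  exact ⟨⟨⟨e.hom, hl⟩, ⟨e.inv, hl'⟩, Subtype.ext e.hom_inv_id, Subtype.ext e.inv_hom_id⟩⟩

open MonoidalCategory CartesianMonoidalCategory in
lemma exists_section {S : Scheme.{u}} {G X : Over S} [GrpObj G] {aX : AlgGrp.Action G X} {Ω : Type u} [Field Ω]
    [IsAlgClosed Ω] (p : Spec (CommRingCat.of Ω) ⟶ S) (A : AlgSt.QuotObj Scheme.etalePrecoverage G aX)
    (hA : A.base = Over.mk p) : ∃ t : Over.mk p ⟶ A.P, t ≫ A.π = eqToHom hA.symm := by
  obtain ⟨base, P, act, π, cart, loc, φ, eqv⟩ := A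
  change base = _ at hA
  subst hA
  obtain ⟨R, hR, hs⟩ := loc
  obtain ⟨J₀, W, f, rfl⟩ := Presieve.exists_eq_ofArrows R
  obtain ⟨h1, h2⟩ := (Scheme.ofArrows_mem_precoverage_iff _).1 hR
  obtain ⟨i, w, -⟩ := h1 (IsLocalRing.closedPoint (Ω))
  haveI : Etale (f i) := h2 i
  haveI : Nonempty ↥(W i) := ⟨w⟩
  obtain ⟨c, hc⟩ := Groth.Agent.Boot.exists_section_of_nonempty (f i)
  obtain ⟨s, hsπ⟩ := hs (f i) (Presieve.ofArrows.mk i)
  have e : (c ≫ s) ≫ π.left = 𝟙 _ := by
    rw [Category.assoc, show s ≫ π.left = f i from hsπ, hc]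
  refine ⟨Over.homMk (c ≫ s) ?_, Over.OverMorphism.ext e⟩
  rw [← Over.w π, ← Category.assoc, e]
  exact Category.id_comp _


/-- Let k be a finite field with algebraic closure k̄, G a smooth affine algebraic group over k acting
on a variety X over k (reduced, of finite type), and [X/G] the quotient stack whose objects over a
k-scheme T are G-torsors P → T, locally trivial for the étale topology and taken to be schemes, with
a G-equivariant morphism P → X. Write T̄ = Spec k̄ over Spec k. Then: every object of the fibre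
category of [X/G] over T̄ admits a section T̄ → P of its torsor; for objects A, B over T̄ with
chosen sections t_A, t_B, A and B are isomorphic in the fibre over T̄ if and only if the k̄-points
t_B φ_B and t_A φ_A of X lie in one G(k̄)-orbit (there is g ∈ G(T̄) with g · (t_A φ_A) = t_B φ_B);
and every k̄-point of X is of the form t φ_A. Hence the isomorphism classes of [X/G](k̄) correspond
bijectively to the G(k̄)-orbits in X(k̄). (The published statement allows any smooth algebraic group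
G; this row takes G affine, so that every torsor is a scheme.) -/
theorem result (k : Type u) [Field k] [Finite k]
    (G : Over (Spec (CommRingCat.of k))) [GrpObj G] [Smooth G.hom] [IsAffineHom G.hom]
    (X : Over (Spec (CommRingCat.of k))) [LocallyOfFiniteType X.hom] [QuasiCompact X.hom]
    [IsReduced X.left] (aX : AlgGrp.Action G X) :
    (∀ A : (AlgSt.QuotObj.forget Scheme.etalePrecoverage G aX).Fiber (Over.mk (Spec.map (CommRingCat.ofHom (algebraMap k (AlgebraicClosure k)))) : Over (Spec (CommRingCat.of k))),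
        ∃ t : (Over.mk (Spec.map (CommRingCat.ofHom (algebraMap k (AlgebraicClosure k)))) : Over (Spec (CommRingCat.of k))) ⟶ A.1.P, t ≫ A.1.π = eqToHom A.2.symm) ∧
    (∀ (A B : (AlgSt.QuotObj.forget Scheme.etalePrecoverage G aX).Fiber (Over.mk (Spec.map (CommRingCat.ofHom (algebraMap k (AlgebraicClosure k)))) : Over (Spec (CommRingCat.of k))))
        (tA : (Over.mk (Spec.map (CommRingCat.ofHom (algebraMap k (AlgebraicClosure k)))) : Over (Spec (CommRingCat.of k))) ⟶ A.1.P) (tB : (Over.mk (Spec.map (CommRingCat.ofHom (algebraMap k (AlgebraicClosure k)))) : Over (Spec (CommRingCat.of k))) ⟶ B.1.P),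
        tA ≫ A.1.π = eqToHom A.2.symm → tB ≫ B.1.π = eqToHom B.2.symm →
        (Nonempty (A ≅ B) ↔
          ∃ g : (Over.mk (Spec.map (CommRingCat.ofHom (algebraMap k (AlgebraicClosure k)))) : Over (Spec (CommRingCat.of k))) ⟶ G,
            CartesianMonoidalCategory.lift g (tA ≫ A.1.φ) ≫ aX.act = tB ≫ B.1.φ)) ∧
    (∀ x : (Over.mk (Spec.map (CommRingCat.ofHom (algebraMap k (AlgebraicClosure k)))) : Over (Spec (CommRingCat.of k))) ⟶ X,
        ∃ (A : (AlgSt.QuotObj.forget Scheme.etalePrecoverage G aX).Fiber (Over.mk (Spec.map (CommRingCat.ofHom (algebraMap k (AlgebraicClosure k)))) : Over (Spec (CommRingCat.of k)))) (t : (Over.mk (Spec.map (CommRingCat.ofHom (algebraMap k (AlgebraicClosure k)))) : Over (Spec (CommRingCat.of k))) ⟶ A.1.P),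
          t ≫ A.1.π = eqToHom A.2.symm ∧ t ≫ A.1.φ = x) := by
  let T : Over (Spec (CommRingCat.of k)) :=
    Over.mk (Spec.map (CommRingCat.ofHom (algebraMap k (AlgebraicClosure k))))
  have hsec : ∀ A : (AlgSt.QuotObj.forget Scheme.etalePrecoverage G aX).Fiber T,
      ∃ t : T ⟶ A.1.P, t ≫ A.1.π = eqToHom A.2.symm := by
    exact fun A => exists_section _ A.1 A.2
  refine ⟨hsec, ?_, fun x => ⟨Functor.Fiber.mk (a := stdObj aX T x) rfl, lift 1 (𝟙 T), lift_snd _ _, section_smul aX x⟩⟩
  intro A B tA tB hA hB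
  constructor
  · rintro ⟨e⟩
    let h : A.1 ⟶ B.1 := e.hom.1
    haveI : (AlgSt.QuotObj.forget Scheme.etalePrecoverage G aX).IsHomLift (𝟙 T) h := e.hom.2
    have hbase : h.base = eqToHom A.2 ≫ eqToHom B.2.symm := by
      have := IsHomLift.fac' (AlgSt.QuotObj.forget Scheme.etalePrecoverage G aX) (𝟙 T) h
      simp only [Category.id_comp] at this
      exact this
    have hw : (tA ≫ h.top) ≫ B.1.π = tB ≫ B.1.π := by
      rw [Category.assoc, h.cart.w, reassoc_of% hA, hB, hbase]
      simp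
    let g := B.1.cart.lift (tA ≫ h.top) tB hw ≫ fst G B.1.P
    have hg : Groth.Agent.LangGrpLib.smulP B.1.act g tB = tA ≫ h.top := by
      have e : lift g tB = B.1.cart.lift (tA ≫ h.top) tB hw := by
        conv_rhs => rw [← Category.comp_id (B.1.cart.lift (tA ≫ h.top) tB hw), ← lift_fst_snd, comp_lift, IsPullback.lift_snd]
      rw [Groth.Agent.LangGrpLib.smulP, e, IsPullback.lift_fst]
    refine ⟨g⁻¹, ?_⟩
    have hx : tA ≫ A.1.φ = Groth.Agent.LangGrpLib.smulP aX g (tB ≫ B.1.φ) := by
      rw [← h.wφ, ← Category.assoc, ← hg, Groth.Agent.LangGrpLib.smulP, Category.assoc, B.1.eqv,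
        lift_whiskerLeft_assoc]
      rfl
    change Groth.Agent.LangGrpLib.smulP aX g⁻¹ (tA ≫ A.1.φ) = _
    rw [hx, ← Groth.Agent.LangGrpLib.smulP_mul, inv_mul_cancel, Groth.Agent.LangGrpLib.smulP_one]
  · rintro ⟨g, hg⟩
    change Groth.Agent.LangGrpLib.smulP aX g (tA ≫ A.1.φ) = _ at hg
    obtain ⟨eA⟩ := nonempty_iso_std A tA hA _ rfl
    let t' := Groth.Agent.LangGrpLib.smulP B.1.act g⁻¹ tB
    have ht' : t' ≫ B.1.π = eqToHom B.2.symm := by
      rw [← hB]
      show (lift g⁻¹ tB ≫ B.1.act.act) ≫ B.1.π = _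
      rw [Category.assoc, B.1.cart.w, ← Category.assoc, lift_snd]
    have hx' : t' ≫ B.1.φ = tA ≫ A.1.φ := by
      show (lift g⁻¹ tB ≫ B.1.act.act) ≫ B.1.φ = _
      rw [Category.assoc, B.1.eqv, lift_whiskerLeft_assoc]
      change Groth.Agent.LangGrpLib.smulP aX g⁻¹ (tB ≫ B.1.φ) = _
      rw [← hg, ← Groth.Agent.LangGrpLib.smulP_mul, inv_mul_cancel, Groth.Agent.LangGrpLib.smulP_one]
    obtain ⟨eB⟩ := nonempty_iso_std B t' ht' _ hx'
    exact ⟨eA.symm ≪≫ eB⟩

end Groth.Agent.S14196
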