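import Groth.Statements.S14203
import Groth.Agent.ASBunKS.TautCls
-- import your own Groth.Agent.* helpers here

set_option autoImplicit false
universe u
open CategoryTheory CategoryTheory.Limits AlgebraicGeometry
open ASBun

namespace Groth.Agent.S14203

/-- Let A be a central simple algebra of degree n ≥ 1 over a field k (of dimension n² over k), X a
proper k-scheme which is the Severi–Brauer scheme of A (for every commutative k-algebra R its
R-points over k are, naturally in R, the left ideals of R ⊗_k A with projective quotient of rank n²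
− n), K an algebraic closure of k and e a K-isomorphism X_K ≅ P^{n−1}_K, along which O_e(j) denotes
the pullback of the twisting sheaf O(j); let p be the period of A (the least p ≥ 1 for which the
p-fold tensor power of A is a full matrix algebra over k) and j, a integers. If W and W' are
indecomposable finite locally free O_X-modules (nonzero, and in any decomposition as a direct sum
one summand is zero) with W_K ≅ O_e(j)^{⊕r} and W'_K ≅ O_e(j + ap)^{⊕r'} for some r, r' ≥ 1, then r
= r': the rank of the indecomposable module of type O(j) depends only on j modulo the period (W' is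
W twisted by the descent of O(ap)). -/
theorem result (k : Type u) [Field k] (A : Type u) [Ring A] [Algebra k A]
    [Algebra.IsCentral k A] [IsSimpleRing A] (n : ℕ) (hn : 0 < n)
    (hA : Module.finrank k A = n * n) {X : Scheme.{u}} (f : X ⟶ Spec (CommRingCat.of k))
    [IsProper f] (hX : BrSev.IsSBOf k A (n * n - n) f)
    (K : Type u) [Field K] [Algebra k K] [IsAlgClosure k K] (e : BrSev.Splitting f K (n - 1))
    (p : ℕ) (hp : CSAGal.IsPeriod k A p) (j a : ℤ)
    (W W' : X.Modules) (hW : FlatMod.IsFinLocFree W) (hW' : FlatMod.IsFinLocFree W')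
    (hWi : (¬ IsZero W ∧ ∀ M₁ M₂ : X.Modules, Nonempty (W ≅ M₁ ⊞ M₂) → IsZero M₁ ∨ IsZero M₂))
    (hW'i : (¬ IsZero W' ∧ ∀ M₁ M₂ : X.Modules, Nonempty (W' ≅ M₁ ⊞ M₂) → IsZero M₁ ∨ IsZero M₂))
    (r r' : ℕ) (hr : 0 < r) (hr' : 0 < r') (hWt : BrSev.IsTwPow e j r W)
    (hW't : BrSev.IsTwPow e (j + a * (p : ℤ)) r' W') : r = r' := by
  haveI := IsAlgClosure.isAlgClosed k (K := K)
  haveI : Module.Finite k A := Module.finite_of_finrank_pos (by rw [hA]; positivity)
  obtain ⟨h1, h2⟩ := BrauerClassLib.csa_pi_fin (k := k) fun _ : Fin j.natAbs => A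
  obtain ⟨h3, h4⟩ := BrauerClassLib.csa_pi_fin (k := k) fun _ : Fin (j + a * (p : ℤ)).natAbs => A
  have hcp := (BrauerClassLib.splits_tpow_iff A p).1 hp.2.1
  have i1 := ASBunKS.isIndex_tpow hn hA hX e hW hWi hr hWt
  have i2 := ASBunKS.isIndex_tpow hn hA hX e hW' hW'i hr' hW't
  obtain ⟨t, ht⟩ := ASBunKS.exists_pow_eq (BrauerClassLib.cls (k := k) A) hcp hp.1
    (j := j) (l := j + a * (p : ℤ)) ⟨a, by ring⟩
  obtain ⟨t', ht'⟩ := ASBunKS.exists_pow_eq (BrauerClassLib.cls (k := k) A) hcp hp.1
    (j := j + a * (p : ℤ)) (l := j) ⟨-a, by ring⟩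
  refine Nat.dvd_antisymm (BrauerClassLib.isIndex_dvd i2 i1 (r := t') ?_) (BrauerClassLib.isIndex_dvd i1 i2 (r := t) ?_)
  · rw [BrauerClassLib.cls_tpow, BrauerClassLib.cls_tpow, ht']
  · rw [BrauerClassLib.cls_tpow, BrauerClassLib.cls_tpow, ht]

end Groth.Agent.S14203
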