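import Groth.Statements.S14210
import Groth.Agent.SBExLib.Exists
import Groth.Agent.SBExLib.GenDiv
import Groth.Agent.SBExLib.Rational
import Groth.Agent.S14222
import Mathlib

set_option maxHeartbeats 400000
set_option linter.style.haveILetI false

set_option autoImplicit false
universe u
open CategoryTheory CategoryTheory.Limits AlgebraicGeometry
open ASBun

namespace Groth.Agent.S14210

open scoped TensorProduct
open Groth.Agent.BrauerClassLib

/-- One step: tensoring with a generic symbol algebra. -/
theorem step {L : Type u} [Field L] (q : ℕ) (hq : 0 < q) (ζ : L) (hζ : IsPrimitiveRoot ζ q)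
    (D : Type u) [DivisionRing D] [Algebra L D] [Algebra.IsCentral L D] [Module.Finite L D] (i e : ℕ)
    (hi : Module.finrank L D = i * i) (he : ∀ m, cls (k := L) D ^ m = 1 ↔ e ∣ m) :
    ∃ (L' : Type u) (_ : Field L') (_ : Algebra L L') (D' : Type u) (_ : DivisionRing D') (_ : Algebra L' D')
      (_ : Algebra.IsCentral L' D') (_ : Module.Finite L' D'),
      Module.finrank L' D' = (i * q) * (i * q) ∧ ∀ m, cls (k := L') D' ^ m = 1 ↔ Nat.lcm e q ∣ m := by
  classical
  let F := FractionRing (MvPolynomial (Fin 2) L)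
  have hinj : Function.Injective (algebraMap (MvPolynomial (Fin 2) L) F) := IsFractionRing.injective _ _
  let x : Fˣ := Units.mk0 (algebraMap _ F (MvPolynomial.X 0)) ((map_ne_zero_iff _ hinj).2 (MvPolynomial.X_ne_zero _))
  let y : Fˣ := Units.mk0 (algebraMap _ F (MvPolynomial.X 1)) ((map_ne_zero_iff _ hinj).2 (MvPolynomial.X_ne_zero _))
  obtain ⟨B, _, _, X, Y, hX, hY, hXY, hli, hBs, _, _, _, hBd⟩ :=
    SBExLib.exists_symbol_basis q hq (algebraMap L F ζ) (hζ.map_of_injective (algebraMap L F).injective) x y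
  haveI := CSALib.isCentral_baseChange (k := L) (A := D) F
  haveI : IsSimpleRing (F ⊗[L] D) := CSALib.isSimpleRing_tensor' D F
  let T := (F ⊗[L] D) ⊗[F] B
  obtain ⟨hT1, hT2⟩ := csa_tensor (k := F) (F ⊗[L] D) B
  haveI := hT1
  haveI := hT2
  haveI : NoZeroDivisors T := SBExLib.noZeroDivisors_tensor D hq hζ hX hY hXY hli hBd
  haveI : IsDomain T := NoZeroDivisors.to_isDomain T
  letI : DivisionRing T := divisionRingOfFiniteDimensional F T
  refine ⟨F, inferInstance, inferInstance, T, inferInstance, inferInstance, hT1, inferInstance, ?_, ?_⟩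
  · rw [Module.finrank_tensorProduct, Module.finrank_baseChange, hi, hBd]
    ring
  have hB : cls (k := F) B ^ q = 1 := by
    have hper := S13273.result L q hq ζ hζ x y rfl rfl B (by
      rwa [← MvPolynomial.algebraMap_eq, ← IsScalarTower.algebraMap_apply L (MvPolynomial (Fin 2) L) F])
    rw [← cls_tpow]
    exact cls_eq_one_of_splits hper.2.1
  intro m
  rw [cls_mul, mul_pow]
  constructor
  · intro h
    have h1 : cls (k := F) (F ⊗[L] L) = cls (F ⊗[L] D) ^ m * cls B ^ m := by
      rw [h, ← bc_cls, ← BrauerClassLib.one_def, map_one]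
    have hqm : q ∣ m := S14222.dvd_of_pow L q hq ζ hζ x y rfl rfl B hBs L D m m h1
    have hBm : cls (k := F) B ^ m = 1 := by
      obtain ⟨t, rfl⟩ := hqm
      rw [pow_mul, hB, one_pow]
    rw [hBm, mul_one, ← bc_cls, ← map_pow, ← cls_tpow] at h
    obtain ⟨h2, h3⟩ := csa_pi_fin (k := L) fun _ : Fin m => D
    haveI := h2
    haveI := h3
    have h4 := cls_eq_one_of_splits (SBExLib.splits_of_rational L _ ((bc_cls_eq_one_iff F).1 h))
    rw [cls_tpow] at h4
    exact Nat.lcm_dvd ((he m).1 h4) hqm
  · intro h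
    obtain ⟨t, ht⟩ := (Nat.dvd_lcm_right e q).trans h
    rw [← bc_cls, ← map_pow, (he m).2 ((Nat.dvd_lcm_left e q).trans h), map_one, one_mul, ht, pow_mul, hB, one_pow]

theorem exists_div_of_type (p : ℕ) (hp : 0 < p) : ∀ i : ℕ, 0 < i → p ∣ i → (∀ q : ℕ, q.Prime → q ∣ i → q ∣ p) →
    ∃ (L : Type u) (_ : Field L) (ζ : L) (_ : IsPrimitiveRoot ζ p) (D : Type u) (_ : DivisionRing D) (_ : Algebra L D)
      (_ : Algebra.IsCentral L D) (_ : Module.Finite L D),
      Module.finrank L D = i * i ∧ ∀ m, cls (k := L) D ^ m = 1 ↔ p ∣ m := by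
  intro i
  induction i using Nat.strong_induction_on with
  | _ i ih =>
    intro hi hpi hprimes
    obtain ⟨r, rfl⟩ := hpi
    rcases Nat.lt_or_ge r 2 with hr | hr
    · obtain rfl : r = 1 := by
        rcases Nat.eq_zero_or_pos r with rfl | h
        · simp at hi
        · omega
      let e := (ULift.ringEquiv : ULift.{u} ℂ ≃+* ℂ).symm
      have hζ : IsPrimitiveRoot (e (Complex.exp (2 * Real.pi * Complex.I / p))) p :=
        (Complex.isPrimitiveRoot_exp p hp.ne').map_of_injective e.injective
      have h1 : ∀ m, cls (k := ULift.{u} ℂ) (ULift.{u} ℂ) ^ m = 1 ↔ 1 ∣ m := fun m => by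
        rw [← BrauerClassLib.one_def, one_pow]
        simp
      obtain ⟨L', _, _, D', _, _, h2, h3, hd, hm⟩ :=
        step p hp _ hζ (ULift.{u} ℂ) 1 1 (by rw [Module.finrank_self]) h1
      refine ⟨L', inferInstance, _, hζ.map_of_injective (algebraMap (ULift.{u} ℂ) L').injective,
        D', inferInstance, inferInstance, h2, h3, by rw [hd, mul_one, one_mul], fun m => ?_⟩
      rw [hm, Nat.lcm_one_left]
    · obtain ⟨q, hq, t, rfl⟩ : ∃ q, q.Prime ∧ q ∣ r :=
        Nat.exists_prime_and_dvd (by omega)
      have ht : 0 < t := by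
        rcases Nat.eq_zero_or_pos t with rfl | h
        · simp at hi
        · exact h
      have hqp : q ∣ p := hprimes q hq ⟨p * t, by ring⟩
      have hlt : p * t < p * (q * t) :=
        Nat.mul_lt_mul_of_pos_left (lt_mul_of_one_lt_left ht hq.one_lt) hp
      obtain ⟨L, _, ζ, hζ, D, _, _, _, _, hd, hm⟩ := ih (p * t) hlt (by positivity) (dvd_mul_right _ _)
        fun l hl h => hprimes l hl (h.trans ⟨q, by ring⟩)
      obtain ⟨c, hc⟩ := hqp
      obtain ⟨L', _, _, D', _, _, h2, h3, hd', hm'⟩ :=
        step q hq.pos (ζ ^ c) (hζ.pow hp (by rw [hc, mul_comm])) D (p * t) p hd hm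
      refine ⟨L', inferInstance, _, hζ.map_of_injective (algebraMap L L').injective,
        D', inferInstance, inferInstance, h2, h3, by rw [hd']; ring, fun m => ?_⟩
      rw [hm', Nat.lcm_eq_left (Dvd.intro c hc.symm)]

/-- For positive integers p, i, d with p ∣ i ∣ d such that every prime dividing i divides p, some field
k carries a central simple k-algebra A of dimension d² with period p (the least p ≥ 1 for which the
p-fold tensor power of A is a full matrix algebra over k) and index i (A is a matrix algebra over a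
division ring of dimension i² over k), together with a k-scheme X which is the Severi–Brauer scheme
of A (for every commutative k-algebra R, the R-points of X over k are identified, naturally in R,
with the left ideals of R ⊗_k A whose quotient is projective of rank d² − d); that is, X is a
Severi–Brauer variety over k of type (p, i, d). -/
theorem result (p i d : ℕ) (hp : 0 < p) (hi : 0 < i) (hd : 0 < d)
    (hpi : p ∣ i) (hid : i ∣ d) (hprimes : ∀ q : ℕ, q.Prime → q ∣ i → q ∣ p) :
    ∃ (k : Type u) (_ : Field k) (A : Type u) (_ : Ring A) (_ : Algebra k A),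
      Algebra.IsCentral k A ∧ IsSimpleRing A ∧ Module.finrank k A = d * d ∧
      CSAGal.IsPeriod k A p ∧ CSAGal.IsIndex k A i ∧
      ∃ (X : Scheme.{u}) (f : X ⟶ Spec (CommRingCat.of k)), BrSev.IsSBOf k A (d * d - d) f := by
  obtain ⟨L, _, ζ, -, D, _, _, _, _, hd', hm⟩ := exists_div_of_type p hp i hi hpi hprimes
  obtain ⟨r, rfl⟩ := hid
  have hr : 0 < r := Nat.pos_of_ne_zero fun h => by simp [h] at hd
  haveI : NeZero r := ⟨hr.ne'⟩
  have h2 := BrauerClassLib.csa_tensor (k := L) D (Matrix (Fin r) (Fin r) L)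
  haveI hc : Algebra.IsCentral L (Matrix (Fin r) (Fin r) D) := by
    haveI := h2.1
    exact BrauerClassLib.isCentral_congr (matrixEquivTensor (Fin r) L D).symm
  have hfin : Module.finrank L (Matrix (Fin r) (Fin r) D) = (i * r) * (i * r) := by
    rw [Module.finrank_matrix, Fintype.card_fin, hd']
    ring
  obtain ⟨X, f, hX⟩ := SBExLib.exists_isSBOf L (Matrix (Fin r) (Fin r) D) ((i * r) * (i * r) - i * r)
  refine ⟨L, inferInstance, Matrix (Fin r) (Fin r) D, inferInstance, inferInstance, hc, inferInstance, hfin, ?_,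
    ⟨hi, r, D, inferInstance, inferInstance, hr, by rw [hd', sq], ⟨AlgEquiv.refl⟩⟩, X, f, hX⟩
  rw [BrauerClassLib.isPeriod_iff, BrauerClassLib.cls_matrix hr.ne']
  exact ⟨hp, Nat.dvd_antisymm (orderOf_dvd_of_pow_eq_one ((hm p).2 dvd_rfl)) ((hm _).1 (pow_orderOf_eq_one _))⟩

end Groth.Agent.S14210
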