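import Groth.Statements.S14211
import Groth.Agent.BrauerClassLib.CyclicPeriod
-- import your own Groth.Agent.* helpers here

set_option autoImplicit false
universe u v
open scoped TensorProduct
open Brauer

namespace Groth.Agent.S14211


open Groth.Agent.BrauerClassLib

variable {k : Type u} [Field k]

theorem exists_quaternion (h2 : (2 : k) ≠ 0) {D : Type v} [DivisionRing D] [Algebra k D] [Algebra.IsCentral k D]
    [Module.Finite k D] (hd : Module.finrank k D = 2 ^ 2) :
    ∃ a b : k, Nonempty (QuaternionAlgebra k a 0 b ≃ₐ[k] D) := by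
  classical
  obtain ⟨L, hc, hmax, hsep⟩ := CSALib.exists_separable_maximal (k := k) (D := D)
  haveI := CSALib.isSimpleRing_subalgebra L
  letI : CommRing L := { (inferInstance : Ring L) with mul_comm := fun a b => Subtype.ext (hc a.1 a.2 b.1 b.2) }
  letI : Field L := fieldOfFiniteDimensional k L
  have hL : Module.finrank k L = 2 :=
    Nat.pow_left_injective two_ne_zero ((CSALib.finrank_eq_sq_of_maximal L hc hmax).symm.trans hd)
  haveI : Algebra.IsSeparable k L := hsep
  haveI : Algebra.IsQuadraticExtension k L := { finrank_eq_two' := hL }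
  haveI : IsGalois k L := inferInstance
  have hcard : Nat.card (L ≃ₐ[k] L) = 2 := by rw [IsGalois.card_aut_eq_finrank, hL]
  haveI : Nontrivial (L ≃ₐ[k] L) := Finite.one_lt_card_iff_nontrivial.1 (by omega)
  obtain ⟨σ, hσ1⟩ := exists_ne (1 : L ≃ₐ[k] L)
  have hord : orderOf σ = 2 := by
    rcases (Nat.dvd_prime Nat.prime_two).1 (hcard ▸ orderOf_dvd_natCard σ) with h | h
    · exact absurd (orderOf_eq_one_iff.1 h) hσ1
    · exact h
  have hσ : ∀ τ, τ ∈ Subgroup.zpowers σ := fun τ => by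
    rw [Subgroup.eq_top_of_card_eq (Subgroup.zpowers σ) (by rw [Nat.card_zpowers, hord, hcard])]
    exact Subgroup.mem_top τ
  obtain ⟨x, hx⟩ : ∃ x, σ x ≠ x := by
    by_contra h
    push_neg at h
    exact hσ1 (AlgEquiv.ext h)
  have hσσ : ∀ y, σ (σ y) = y := fun y => by
    rw [← AlgEquiv.mul_apply, ← sq, ← hord, pow_orderOf_eq_one, AlgEquiv.one_apply]
  let i : L := x - σ x
  have hσi : σ i = -i := by simp only [i, map_sub, hσσ, neg_sub]
  obtain ⟨a, ha⟩ := Cyclic.mem_range_of_fixed hσ (x := i * i) (by rw [map_mul, hσi, neg_mul_neg])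
  obtain ⟨R, b, hι, hb⟩ := Cyclic.exists_gen hσ (hd.trans (by rw [hL])) L.val
  rw [hL] at hb
  have hji : R.y * R.ι i = -(R.ι i * R.y) := by
    rw [R.rel, hσi, map_neg, mul_neg, neg_neg]
  let Q : QuaternionAlgebra.Basis D a 0 (b : k) :=
    { i := R.ι i
      j := R.y
      k := R.ι i * R.y
      i_mul_i := by rw [← map_mul, ← ha, AlgHom.commutes, zero_smul, add_zero, Algebra.algebraMap_eq_smul_one]
      j_mul_j := by rw [← sq, hb, Algebra.algebraMap_eq_smul_one]
      i_mul_j := rfl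
      j_mul_i := by rw [hji, zero_smul, zero_sub] }
  refine ⟨a, b, ⟨AlgEquiv.ofBijective Q.liftHom ?_⟩⟩
  have hsurj : Function.Surjective Q.liftHom := by
    rw [← AlgHom.range_eq_top, eq_top_iff, ← R.adjoin_eq_top hσ, Algebra.adjoin_le_iff]
    have hQi : Q.liftHom ⟨0, 1, 0, 0⟩ = R.ι i := by simp [QuaternionAlgebra.Basis.liftHom, QuaternionAlgebra.Basis.lift, Q]
    have hQj : Q.liftHom ⟨0, 0, 1, 0⟩ = R.y := by simp [QuaternionAlgebra.Basis.liftHom, QuaternionAlgebra.Basis.lift, Q]
    have hi0 : ∀ r : k, algebraMap k L r ≠ i := fun r hr => by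
      have : σ i = i := by rw [← hr, σ.commutes]
      rw [hσi, neg_eq_iff_add_eq_zero, ← two_mul] at this
      rcases mul_eq_zero.1 this with h | h
      · exact h2 ((algebraMap k L).injective (by rw [map_ofNat, h, map_zero]))
      · exact hx (sub_eq_zero.1 h).symm
    have hli : LinearIndependent k ![(1 : L), i] := by
      rw [LinearIndependent.pair_iff' one_ne_zero]
      intro r hr
      exact hi0 r (by rw [Algebra.algebraMap_eq_smul_one, hr])
    have hspan := hli.span_eq_top_of_card_eq_finrank (by rw [hL, Fintype.card_fin])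
    rintro z (⟨l, rfl⟩ | rfl)
    · obtain ⟨c, rfl⟩ := (Submodule.mem_span_range_iff_exists_fun k).1 (hspan ▸ Submodule.mem_top : l ∈ _)
      rw [Fin.sum_univ_two, map_add, map_smul, map_smul]
      exact add_mem (Subalgebra.smul_mem _ ((AlgHom.mem_range _).2 ⟨1, by rw [map_one]; simp⟩) _)
        (Subalgebra.smul_mem _ ((AlgHom.mem_range _).2 ⟨_, hQi⟩) _)
    · exact ⟨_, hQj⟩
  refine ⟨(LinearMap.injective_iff_surjective_of_finrank_eq_finrank (f := Q.liftHom.toLinearMap) ?_).2 hsurj, hsurj⟩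
  rw [QuaternionAlgebra.finrank_eq_four, hd]; norm_num

theorem isCentral_quaternion (h2 : (2 : k) ≠ 0) (a b : k)
    (hu : ∀ x : QuaternionAlgebra k a 0 b, x ≠ 0 → IsUnit x) : Algebra.IsCentral k (QuaternionAlgebra k a 0 b) := by
  have ha : a ≠ 0 := by
    rintro rfl
    obtain ⟨w, hw⟩ := hu ⟨0, 1, 0, 0⟩ (fun h => one_ne_zero (congrArg QuaternionAlgebra.imI h))
    have h : (↑w * ↑w : QuaternionAlgebra k 0 0 b) = 0 := by rw [hw]; ext <;> simp
    exact (w.isUnit.mul w.isUnit).ne_zero h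
  have hb : b ≠ 0 := by
    rintro rfl
    obtain ⟨w, hw⟩ := hu ⟨0, 0, 1, 0⟩ (fun h => one_ne_zero (congrArg QuaternionAlgebra.imJ h))
    have h : (↑w * ↑w : QuaternionAlgebra k a 0 0) = 0 := by rw [hw]; ext <;> simp
    exact (w.isUnit.mul w.isUnit).ne_zero h
  refine ⟨fun z hz => ?_⟩
  have hi := Subalgebra.mem_center_iff.1 hz ⟨0, 1, 0, 0⟩
  have hj := Subalgebra.mem_center_iff.1 hz ⟨0, 0, 1, 0⟩
  have h1 := congrArg QuaternionAlgebra.imK hi
  have h2' := congrArg QuaternionAlgebra.imJ hi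
  have h3 := congrArg QuaternionAlgebra.imK hj
  simp at h1 h2' h3
  have hJ : z.imJ = 0 := (mul_eq_zero.1 (show (2 : k) * z.imJ = 0 by linear_combination h1)).resolve_left h2
  have hI : z.imI = 0 := (mul_eq_zero.1 (show (2 : k) * z.imI = 0 by linear_combination -h3)).resolve_left h2
  have hK : z.imK = 0 := (mul_eq_zero.1 (show (2 : k) * a * z.imK = 0 by linear_combination h2')).resolve_left
    (mul_ne_zero h2 ha)
  refine Algebra.mem_bot.2 ⟨z.re, ?_⟩
  ext <;> simp [QuaternionAlgebra.algebraMap_eq, hI, hJ, hK]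

/-- Let k be a field in which 2 ≠ 0 and A a finite-dimensional central simple k-algebra. Then A has
period 2 and index 2 (its Severi–Brauer variety has type (2, 2, 2m)) if and only if A is isomorphic
over k to a matrix algebra M_m(Q), m ≥ 1, over a quaternion algebra Q = (a, b)_k (the k-algebra with
basis 1, i, j, ij, i² = a, j² = b, ij = −ji) which is a division ring; moreover such a quaternion
algebra is unique up to k-isomorphism. -/
theorem result (k : Type u) [Field k] (h2 : (2 : k) ≠ 0)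
    (A : Type v) [Ring A] [Algebra k A] [Algebra.IsCentral k A] [IsSimpleRing A]
    [FiniteDimensional k A] :
    ((CSAGal.IsPeriod k A 2 ∧ CSAGal.IsIndex k A 2) ↔
      ∃ (a b : k) (m : ℕ), 0 < m ∧ (∀ x : QuaternionAlgebra k a 0 b, x ≠ 0 → IsUnit x) ∧
        Nonempty (A ≃ₐ[k] Matrix (Fin m) (Fin m) (QuaternionAlgebra k a 0 b))) ∧
    (∀ (a b a' b' : k) (m m' : ℕ),
      (∀ x : QuaternionAlgebra k a 0 b, x ≠ 0 → IsUnit x) →
      (∀ x : QuaternionAlgebra k a' 0 b', x ≠ 0 → IsUnit x) →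
      Nonempty (A ≃ₐ[k] Matrix (Fin m) (Fin m) (QuaternionAlgebra k a 0 b)) →
      Nonempty (A ≃ₐ[k] Matrix (Fin m') (Fin m') (QuaternionAlgebra k a' 0 b')) →
      Nonempty (QuaternionAlgebra k a 0 b ≃ₐ[k] QuaternionAlgebra k a' 0 b')) := by
  classical
  refine ⟨⟨?_, ?_⟩, ?_⟩
  · rintro ⟨-, hI⟩
    obtain ⟨hd, m, D, _, _, hm, hD, ⟨e⟩⟩ := hI
    haveI : Module.Finite k D := Module.finite_of_finrank_pos (by rw [hD]; norm_num)
    haveI : NeZero m := ⟨hm.ne'⟩
    haveI : Algebra.IsCentral k (Matrix (Fin m) (Fin m) D) := isCentral_congr e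
    haveI : Algebra.IsCentral k (TensorProduct k D (Matrix (Fin m) (Fin m) k)) :=
      isCentral_congr (matrixEquivTensor (Fin m) k D)
    haveI : Algebra.IsCentral k D := Algebra.IsCentral.left_of_tensor_of_field k D (Matrix (Fin m) (Fin m) k)
    obtain ⟨a, b, ⟨q⟩⟩ := exists_quaternion h2 hD
    refine ⟨a, b, m, hm, fun x hx => ?_, ⟨e.trans q.symm.mapMatrix⟩⟩
    have : IsUnit (q x) := isUnit_iff_ne_zero.2 ((map_ne_zero_iff q q.injective).2 hx)
    simpa using this.map q.symm
  · rintro ⟨a, b, m, hm, hu, ⟨e⟩⟩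
    haveI := isCentral_quaternion h2 a b hu
    letI : DivisionRing (QuaternionAlgebra k a 0 b) :=
      DivisionRing.ofIsUnitOrEqZero fun x => (em (x = 0)).symm.imp_left (hu x)
    have h4 : Module.finrank k (QuaternionAlgebra k a 0 b) = 2 ^ 2 := QuaternionAlgebra.finrank_eq_four _ _ _
    have hcls : cls (k := k) A = cls (k := k) (QuaternionAlgebra k a 0 b) := cls_of_equiv_matrix hm.ne' e
    obtain ⟨r, D', _, _, hr, hDc, hDf, ⟨e'⟩⟩ := exists_div (k := k) A
    haveI := hDc
    haveI := hDf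
    obtain ⟨g⟩ := nonempty_algEquiv_of_cls_eq D' (QuaternionAlgebra k a 0 b)
      ((cls_of_equiv_matrix hr.ne' e').symm.trans hcls)
    refine ⟨(isPeriod_iff A 2).2 ⟨two_pos, ?_⟩, two_pos, r, D', inferInstance, inferInstance,
      hr, g.toLinearEquiv.finrank_eq.trans h4, ⟨e'⟩⟩
    refine orderOf_eq_prime (hcls ▸ cls_pow_deg h4) ?_
    rw [hcls, one_def]
    intro h
    obtain ⟨f⟩ := nonempty_algEquiv_of_cls_eq (QuaternionAlgebra k a 0 b) k h
    have := f.toLinearEquiv.finrank_eq
    rw [h4, Module.finrank_self] at this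
    norm_num at this
  · intro a b a' b' m m' hu hu' he he'
    obtain ⟨e⟩ := he
    obtain ⟨e'⟩ := he'
    haveI := isCentral_quaternion h2 a' b' hu'
    letI : DivisionRing (QuaternionAlgebra k a 0 b) :=
      DivisionRing.ofIsUnitOrEqZero fun x => (em (x = 0)).symm.imp_left (hu x)
    letI : DivisionRing (QuaternionAlgebra k a' 0 b') :=
      DivisionRing.ofIsUnitOrEqZero fun x => (em (x = 0)).symm.imp_left (hu' x)
    have hm : m ≠ 0 := fun h => by
      subst h
      exact not_subsingleton A e.toEquiv.subsingleton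
    have hm' : m' ≠ 0 := fun h => by
      subst h
      exact not_subsingleton A e'.toEquiv.subsingleton
    exact nonempty_algEquiv_of_cls_eq _ _ ((cls_of_equiv_matrix hm e).symm.trans (cls_of_equiv_matrix hm' e'))

end Groth.Agent.S14211
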