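import Groth.Statements.S14213
import Groth.Agent.HorrocksPnLib.SBMain

set_option autoImplicit false
universe u
open CategoryTheory CategoryTheory.Limits AlgebraicGeometry
open ASBun

namespace Groth.Agent.S14213

/-- Let A be a central simple algebra of degree n ≥ 1 over a field k (of dimension n² over k), X a
proper k-scheme which is the Severi–Brauer scheme of A (for every commutative k-algebra R its
R-points over k are, naturally in R, the left ideals of R ⊗_k A with projective quotient of rank n²
− n), K an algebraic closure of k and e a K-isomorphism X_K ≅ P^{n−1}_K, along which O_e(j) denotes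
the pullback of the twisting sheaf O(j); let p be the period of A (the least p ≥ 1 for which the
p-fold tensor power of A is a full matrix algebra over k) and E a finite locally free O_X-module.
Then E is absolutely split (E_K is isomorphic to a finite direct sum of invertible O_{X_K}-modules)
if and only if the cohomology groups H^i(X, E ⊗ L ⊗ W) vanish for all 0 < i < n − 1 = dim X, all
integers a, all invertible O_X-modules L with L_K ≅ O_e(ap), all integers 0 ≤ j < p and all
indecomposable finite locally free O_X-modules W (nonzero, and in any decomposition as a direct sum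
one summand is zero) with W_K ≅ O_e(j)^{⊕r} for some r ≥ 1. -/
theorem result (k : Type u) [Field k] (A : Type u) [Ring A] [Algebra k A]
    [Algebra.IsCentral k A] [IsSimpleRing A] (n : ℕ) (hn : 0 < n)
    (hA : Module.finrank k A = n * n) {X : Scheme.{u}} (f : X ⟶ Spec (CommRingCat.of k))
    [IsProper f] (hX : BrSev.IsSBOf k A (n * n - n) f)
    (K : Type u) [Field K] [Algebra k K] [IsAlgClosure k K] (e : BrSev.Splitting f K (n - 1))
    (p : ℕ) (hp : CSAGal.IsPeriod k A p) (E : X.Modules) (hE : FlatMod.IsFinLocFree E) :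
    (∃ (s : ℕ) (Ls : Fin s → (BrSev.bc f K).Modules), (∀ i, PicF.IsInvertible (Ls i)) ∧
        Nonempty (BrSev.bcMod f K E ≅ ∐ Ls)) ↔
      (∀ (i : ℕ), 0 < i → i + 1 < n → ∀ (a : ℤ) (L : X.Modules), PicF.IsInvertible L →
        BrSev.IsTwPow e (a * (p : ℤ)) 1 L → ∀ (j : ℤ), 0 ≤ j → j < (p : ℤ) →
        ∀ (W : X.Modules), FlatMod.IsFinLocFree W →
        (¬ IsZero W ∧ ∀ M₁ M₂ : X.Modules, Nonempty (W ≅ M₁ ⊞ M₂) → IsZero M₁ ∨ IsZero M₂) →
        ∀ (r : ℕ), 0 < r → BrSev.IsTwPow e j r W →
        Subsingleton (Coh.HH X (CohB1.tensorMod (CohB1.tensorMod E L) W) i)) := by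
  constructor
  · rintro ⟨s, Ls, hLs, ⟨φ⟩⟩ i hi hin a L hL hLt j hj hjp W hW hWi r hr hWt
    exact (HorrocksPnLib.HT_iff_subsingleton e hE hL hW hr hLt hWt i).1
      (HorrocksPnLib.HT_of_absSplit e hLs φ _ hi (by omega))
  · intro h
    refine HorrocksPnLib.absSplit_of_HT e hE fun i d hi hin => ?_
    have hp0 : (0 : ℤ) < p := by exact_mod_cast hp.1
    obtain ⟨L, hL, hLt⟩ := HorrocksPnLib.exists_invertible_of_dvd A hn hA hX hp e
      (dvd_mul_left (p : ℤ) (d / p))
    obtain ⟨W, r, hW, hWi, hr, hWt⟩ := S14200.result k f (n - 1) K e (d % p)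
    have hs := (HorrocksPnLib.HT_iff_subsingleton e hE hL hW hr hLt hWt i).2
      (h i hi (by omega) (d / p) L hL hLt (d % p) (Int.emod_nonneg d hp0.ne') (Int.emod_lt_of_pos d hp0) W hW hWi r hr hWt)
    rwa [mul_comm, Int.mul_ediv_add_emod] at hs

end Groth.Agent.S14213
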