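import Groth.Statements.S14230
import Mathlib
import Groth.Agent.RootChLib.Special

set_option autoImplicit false
universe u v w x
open RootCh RootCh.Facet

namespace Groth.Agent.S14230

open Groth.Agent.RootChLib

/-- For a finite reduced crystallographic root system over a linearly ordered field and a facet F, the
vectors of F are exactly the linear combinations of the corners of F in which every corner of F
occurs with a strictly positive coefficient (written with a finitely supported coefficient function
supported inside the set of corners). -/
theorem result {ι : Type u} {R : Type v} {M : Type w} {N : Type x}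
    [Field R] [LinearOrder R] [IsStrictOrderedRing R]
    [AddCommGroup M] [Module R M] [AddCommGroup N] [Module R N] [Finite ι]
    (P : RootPairing ι R M N) [P.IsRootSystem] [P.IsCrystallographic] [P.IsReduced] (F : RootCh.Facet P) :
    F.carrier = {ξ : M | ∃ c : M →₀ R, (c.support : Set M) ⊆ F.corners ∧
      (∀ m ∈ F.corners, 0 < c m) ∧ c.sum (fun m r => r • m) = ξ} := by
  classical
  obtain ⟨b, hb⟩ := cham_nonempty F
  ext ξ
  constructor
  · intro hξ
    refine ⟨∑ k ∈ supp F b, Finsupp.single (RootCh.fundWeight b k) (P.coroot' k ξ), fun m hm => ?_, fun m hm => ?_, ?_⟩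
    · rw [Finset.mem_coe, Finsupp.mem_support_iff, Finsupp.finsetSum_apply] at hm
      obtain ⟨k, hk, hk'⟩ := Finset.exists_ne_zero_of_sum_ne_zero hm
      rw [Finsupp.single_apply] at hk'
      split_ifs at hk' with h
      · exact h ▸ fundWeight_mem_corners hb (mem_supp.mp hk)
      · exact absurd rfl hk'
    · obtain ⟨k, hk, rfl⟩ := exists_of_mem_corners hb hm
      rw [Finsupp.finsetSum_apply, Finset.sum_eq_single k (fun l _ hl => by
        rw [Finsupp.single_apply, if_neg ((fundWeight_injective b).ne hl)]) (fun h => absurd (mem_supp.mpr hk) h),
        Finsupp.single_eq_same]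
      exact coroot'_pos_of_carrier hb hξ k.2 hk
    · rw [← Finsupp.sum_finsetSum_index (fun m => by simp) (fun m r s => by simp [add_smul])]
      simp only [Finsupp.sum_single_index, zero_smul]
      conv_rhs => rw [expand b ξ]
      refine Finset.sum_subset (Finset.subset_univ _) fun k _ hk => ?_
      rw [coroot'_eq_zero_of_sgn hξ (not_not.mp fun h => hk (mem_supp.mpr h)), zero_smul]
  · rintro ⟨c, hc, hpos, rfl⟩
    have hcor : F.corners = ((supp F b).image (RootCh.fundWeight b) : Set M) := by
      rw [Finset.coe_image]; exact corners_eq hb
    have hsum : c.sum (fun m r => r • m) = ∑ k : b.support,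
        (if k ∈ supp F b then c (RootCh.fundWeight b k) else 0) • RootCh.fundWeight b k := by
      rw [Finsupp.sum_of_support_subset c (fun m hm => Finset.mem_coe.mp (hcor ▸ hc hm)) _ (by simp),
        Finset.sum_image (fundWeight_injective b).injOn]
      simp only [ite_smul, zero_smul, Finset.sum_ite_mem, Finset.univ_inter]
    rw [hsum]
    refine mem_carrier_of hb (fun j hj => ?_) fun j hj => ?_
    · rw [show j = ((⟨j, hj⟩ : b.support) : ι) from rfl, coroot'_combo]
      split_ifs with h
      · exact (hpos _ (fundWeight_mem_corners hb (mem_supp.mp h))).le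
      · exact le_rfl
    · rw [show j = ((⟨j, hj⟩ : b.support) : ι) from rfl, coroot'_combo]
      split_ifs with h
      · exact iff_of_true (hpos _ (fundWeight_mem_corners hb (mem_supp.mp h))) (mem_supp.mp h)
      · exact iff_of_false (lt_irrefl _) fun h' => h (mem_supp.mpr h')

end Groth.Agent.S14230
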