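import Groth.Statements.S14252
import Mathlib.Algebra.CharP.Lemmas
import Mathlib.RingTheory.TensorProduct.MonoidAlgebra
import Mathlib.RingTheory.Flat.Stability
import Groth.Agent.TorVanLib.Basic

set_option autoImplicit false
universe u
open CategoryTheory
open FrobAlg

namespace Groth.Agent.S14252

open scoped TensorProduct

theorem apply_mem_smul_top {R M N : Type u} [CommRing R] [AddCommGroup M] [Module R M] [AddCommGroup N]
    [Module R N] (J : Ideal R) (f : M →ₗ[R] N) {x : M} (hx : x ∈ J • (⊤ : Submodule R M)) :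
    f x ∈ J • (⊤ : Submodule R N) := by
  have := Submodule.mem_map_of_mem (f := f) hx
  rw [Submodule.map_smul''] at this
  exact Submodule.smul_mono le_rfl le_top this

section
variable {p : ℕ}

theorem addp (hp : p.Prime) {T : Type*} [CommRing T] (h0 : (p : T) = 0) (x y : T) :
    (x + y) ^ p = x ^ p + y ^ p := by
  obtain ⟨r, hr⟩ := exists_add_pow_prime_eq hp x y
  simp [hr, h0]

theorem bij_monoidAlgebra (hp : p.Prime) {T M : Type*} [CommRing T] [CommMonoid M] (h0 : (p : T) = 0)
    (hT : Function.Bijective fun t : T => t ^ p) (hM : Function.Bijective fun m : M => m ^ p) :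
    Function.Bijective fun x : MonoidAlgebra T M => x ^ p := by
  have hP : ((p : ℕ) : MonoidAlgebra T M) = 0 := by
    rw [← map_natCast (algebraMap T (MonoidAlgebra T M)), h0, map_zero]
  obtain ⟨rt, hrt1, hrt2⟩ := Function.bijective_iff_has_inverse.1 hT
  obtain ⟨rm, hrm1, hrm2⟩ := Function.bijective_iff_has_inverse.1 hM
  have rtadd : ∀ a b, rt (a + b) = rt a + rt b := fun a b => hT.injective (by
    simp only [addp hp h0]
    rw [show rt (a + b) ^ p = a + b from hrt2 _, show rt a ^ p = a from hrt2 _,
      show rt b ^ p = b from hrt2 _])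
  let rtA : T →+ T := AddMonoidHom.mk' rt rtadd
  let Ψ : (M →₀ T) →+ MonoidAlgebra T M :=
    Finsupp.liftAddHom fun m => (MonoidAlgebra.singleAddHom (rm m)).comp rtA
  let Φ : MonoidAlgebra T M →+ MonoidAlgebra T M :=
    AddMonoidHom.mk' (fun x => x ^ p) fun a b => addp hp hP a b
  have key : ∀ (m : M) (t : T), Ψ (Finsupp.single m t) = MonoidAlgebra.single (rm m) (rt t) := fun m t => by
    simp only [Ψ, Finsupp.liftAddHom_apply_single]
    simp [rtA]
  refine Function.bijective_iff_has_inverse.2 ⟨fun x => Ψ x.coeff, ?_, ?_⟩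
  · intro x
    induction x using MonoidAlgebra.induction_linear with
    | zero => simp [zero_pow hp.ne_zero]
    | add a b ha hb =>
      dsimp only at ha hb ⊢
      rw [addp hp hP, MonoidAlgebra.coeff_add, map_add, ha, hb]
    | single m t =>
      dsimp only
      rw [MonoidAlgebra.single_pow, MonoidAlgebra.coeff_single, key,
        show rm (m ^ p) = m from hrm1 m, show rt (t ^ p) = t from hrt1 t]
  · intro x
    induction x using MonoidAlgebra.induction_linear with
    | zero => simp [zero_pow hp.ne_zero]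
    | add a b ha hb =>
      dsimp only at ha hb ⊢
      rw [MonoidAlgebra.coeff_add, map_add, addp hp hP, ha, hb]
    | single m t =>
      dsimp only
      rw [MonoidAlgebra.coeff_single, key, MonoidAlgebra.single_pow,
        show rm m ^ p = m from hrm2 m, show rt t ^ p = t from hrt2 t]

theorem bij_of_ringEquiv {S T : Type*} [CommRing S] [CommRing T] (e : S ≃+* T)
    (hT : Function.Bijective fun t : T => t ^ p) : Function.Bijective fun s : S => s ^ p := by
  have : (fun s : S => s ^ p) = e.symm ∘ (fun t : T => t ^ p) ∘ e := funext fun s => by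
    simp [Function.comp]
  rw [this]
  exact e.symm.bijective.comp (hT.comp e.bijective)

variable {R : Type u} [CommRing R]

theorem exists_pow_iter (hR : Function.Bijective fun x : R => x ^ p) :
    ∀ (n : ℕ) (f : R), ∃ g, g ^ p ^ n = f
  | 0, f => ⟨f, by simp⟩
  | n + 1, f => by
    obtain ⟨g, hg⟩ := exists_pow_iter hR n f
    obtain ⟨h, hh⟩ := hR.surjective g
    exact ⟨h, by rw [pow_succ', pow_mul, show h ^ p = g from hh, hg]⟩

theorem pow_iter_inj (hR : Function.Bijective fun x : R => x ^ p) :
    ∀ (n : ℕ), Function.Injective fun x : R => x ^ p ^ n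
  | 0 => fun x y h => by simpa using h
  | n + 1 => fun x y h => by
    refine hR.injective (pow_iter_inj hR n ?_)
    simpa [← pow_mul, ← pow_succ'] using h

theorem nil_bot (hp : p.Prime) (hR : Function.Bijective fun x : R => x ^ p) :
    (⊥ : Ideal R).IsRadical := by
  rintro x ⟨k, hk⟩
  rw [Submodule.mem_bot] at hk ⊢
  apply pow_iter_inj hR k
  dsimp only
  rw [zero_pow (pow_ne_zero _ hp.ne_zero)]
  exact pow_eq_zero_of_le (Nat.lt_pow_self hp.one_lt).le hk

theorem isRadical_map (hp : p.Prime) {Z : Type u} [CommRing Z] [Algebra R Z] (h0 : (p : Z) = 0)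
    (hR : Function.Bijective fun x : R => x ^ p) (hZ : Function.Bijective fun x : Z => x ^ p)
    (J : Ideal R) (hJ : J.IsRadical) : (J.map (algebraMap R Z)).IsRadical := by
  set I := J.map (algebraMap R Z)
  have h1 : ∀ x ∈ I, ∃ q ∈ I, q ^ p = x := by
    intro x hx
    induction hx using Submodule.span_induction with
    | mem x hx =>
      obtain ⟨j, hj, rfl⟩ := hx
      obtain ⟨u, hu⟩ := hR.surjective j
      exact ⟨algebraMap R Z u, Ideal.mem_map_of_mem _ (hJ ⟨p, by dsimp only at hu; rw [hu]; exact hj⟩),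
        by rw [← map_pow]; exact congrArg _ hu⟩
    | zero => exact ⟨0, zero_mem _, zero_pow hp.ne_zero⟩
    | add a b _ _ ha hb =>
      obtain ⟨q, hq, rfl⟩ := ha; obtain ⟨r, hr, rfl⟩ := hb
      exact ⟨q + r, add_mem hq hr, addp hp h0 q r⟩
    | smul z a _ ha =>
      obtain ⟨q, hq, rfl⟩ := ha
      obtain ⟨w, hw⟩ := hZ.surjective z
      exact ⟨w * q, Ideal.mul_mem_left _ _ hq, by rw [mul_pow, smul_eq_mul, show w ^ p = z from hw]⟩
  rintro x ⟨k, hk⟩
  have hk' : x ^ p ^ k ∈ I := by
    obtain ⟨j, hj⟩ := Nat.exists_eq_add_of_le (Nat.lt_pow_self hp.one_lt (n := k)).le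
    rw [hj, pow_add]; exact Ideal.mul_mem_right _ _ hk
  clear hk
  induction k generalizing x with
  | zero => simpa using hk'
  | succ k ih =>
    obtain ⟨q, hq, hq'⟩ := h1 _ hk'
    apply ih
    rw [pow_succ, pow_mul] at hq'
    rwa [← hZ.injective hq']

theorem smul_root_mem (hp : p.Prime) {Y : Type u} [AddCommGroup Y] [Module R Y] [Module.Projective R Y]
    (J : Ideal R) (hJ : J.IsRadical) (g : R) (y : Y) (h : g ^ p • y ∈ J • (⊤ : Submodule R Y)) :
    g • y ∈ J • (⊤ : Submodule R Y) := by
  classical
  obtain ⟨s, hs⟩ := Module.Projective.out (R := R) (P := Y)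
  have hc : ∀ w ∈ J • (⊤ : Submodule R Y), ∀ i, s w i ∈ J := by
    intro w hw i
    induction hw using Submodule.smul_induction_on' with
    | smul r hr n _ => rw [map_smul, Finsupp.smul_apply, smul_eq_mul]; exact Ideal.mul_mem_right _ _ hr
    | add a _ b _ ha hb => rw [map_add, Finsupp.add_apply]; exact add_mem ha hb
  have h2 : ∀ i, g * s y i ∈ J := fun i => hJ ⟨p, by
    have h' := hc _ h i
    rw [map_smul, Finsupp.smul_apply, smul_eq_mul] at h'
    obtain ⟨j, rfl⟩ : ∃ j, p = j + 1 := ⟨p - 1, by have := hp.pos; omega⟩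
    rw [mul_pow, pow_succ' (s y i), ← mul_assoc]
    exact Ideal.mul_mem_right _ _ h'⟩
  have h3 : g • y = (s y).sum fun i c => (g * c) • i := by
    conv_lhs => rw [← hs y]
    simp [Finsupp.linearCombination_apply, Finsupp.smul_sum, smul_smul]
  rw [h3]
  exact Submodule.sum_mem _ fun i _ => Submodule.smul_mem_smul (h2 i) Submodule.mem_top

theorem exact_mod_radical (hp : p.Prime) {Z : Type u} [CommRing Z] [Algebra R Z]
    (h0R : (p : R) = 0) (h0 : (p : Z) = 0)
    (hR : Function.Bijective fun x : R => x ^ p) (hZ : Function.Bijective fun x : Z => x ^ p)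
    (Y : ℕ → Type u) [∀ n, AddCommGroup (Y n)] [∀ n, Module R (Y n)] [∀ n, Module.Projective R (Y n)]
    (d : ∀ n, Y (n + 1) →ₗ[R] Y n) (ε : Y 0 →ₗ[R] Z) (hε : Function.Surjective ε)
    (hexε : Function.Exact (d 0) ε) (hex : ∀ n, Function.Exact (d (n + 1)) (d n))
    (J : Ideal R) (hJ : J.IsRadical) (n : ℕ) (z : Y (n + 1))
    (hz : d n z ∈ J • (⊤ : Submodule R (Y n))) :
    ∃ u, z - d (n + 1) u ∈ J • (⊤ : Submodule R (Y (n + 1))) := by
  classical
  let Q : Ideal R → Prop := fun J => ∀ n (z : Y (n + 1)), d n z ∈ J • (⊤ : Submodule R (Y n)) →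
    ∃ u, z - d (n + 1) u ∈ J • (⊤ : Submodule R (Y (n + 1)))
  have key : ∀ S : Finset R, Q (Ideal.span (S : Set R)).radical := by
    intro S
    induction S using Finset.induction_on with
    | empty =>
      intro n z hz
      simp only [Finset.coe_empty, Ideal.span_empty, (nil_bot hp hR).radical, Submodule.bot_smul,
        Submodule.mem_bot] at hz ⊢
      obtain ⟨u, hu⟩ := (hex n z).1 hz
      exact ⟨u, by rw [hu, sub_self]⟩
    | insert f S _ ih =>
      set J := (Ideal.span (S : Set R)).radical with hJdef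
      set J' := (Ideal.span ((insert f S : Finset R) : Set R)).radical with hJ'def
      have hJrad : J.IsRadical := Ideal.radical_isRadical _
      have hJJ' : J ≤ J' := Ideal.radical_mono (Ideal.span_mono (by simp))
      have hdec : ∀ t ∈ J', ∃ (k : ℕ) (g : R), g ^ p ^ k = f ∧ ∃ j ∈ J, ∃ x, t = j + g * x := by
        rintro t ⟨k, hk⟩
        obtain ⟨e, he⟩ := Nat.exists_eq_add_of_le (Nat.lt_pow_self hp.one_lt (n := k)).le
        have hk' : t ^ p ^ k ∈ Ideal.span ((insert f S : Finset R) : Set R) := by
          rw [he, pow_add]; exact Ideal.mul_mem_right _ _ hk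
        rw [Finset.coe_insert, Ideal.mem_span_insert] at hk'
        obtain ⟨a, s, hs, hts⟩ := hk'
        obtain ⟨g, hg⟩ := exists_pow_iter hR k f
        obtain ⟨x, hx⟩ := exists_pow_iter hR k a
        obtain ⟨j, hj⟩ := exists_pow_iter hR k s
        refine ⟨k, g, hg, j, ⟨p ^ k, hj.symm ▸ hs⟩, x, pow_iter_inj hR k ?_⟩
        dsimp only
        rw [hts]
        have : ∀ (m : ℕ) (u v : R), (u + v) ^ p ^ m = u ^ p ^ m + v ^ p ^ m := by
          intro m
          induction m with
          | zero => simp
          | succ m ihm => intro u v; rw [pow_succ, pow_mul, ihm, addp hp h0R, ← pow_mul, ← pow_mul]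
        rw [this, mul_pow, hj, hg, hx]; ring
      have hdec' : ∀ {n : ℕ} (y : Y n), y ∈ J' • (⊤ : Submodule R (Y n)) →
          ∃ (k : ℕ) (g : R), g ^ p ^ k = f ∧ ∃ w : Y n, y - g • w ∈ J • (⊤ : Submodule R (Y n)) := by
        intro n y hy
        induction hy using Submodule.smul_induction_on' with
        | smul t ht w _ =>
          obtain ⟨k, g, hg, j, hj, x, rfl⟩ := hdec t ht
          refine ⟨k, g, hg, x • w, ?_⟩
          rw [add_smul, mul_smul, add_sub_cancel_right]
          exact Submodule.smul_mem_smul hj Submodule.mem_top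
        | add a _ b _ ha hb =>
          obtain ⟨k₁, g₁, hg₁, w₁, h₁⟩ := ha
          obtain ⟨k₂, g₂, hg₂, w₂, h₂⟩ := hb
          obtain ⟨g, hg⟩ := exists_pow_iter hR (k₁ + k₂) f
          have e₁ : g₁ = g ^ p ^ k₂ := pow_iter_inj hR k₁ (by
            dsimp only; rw [hg₁, ← pow_mul, ← pow_add, add_comm k₂, hg])
          have e₂ : g₂ = g ^ p ^ k₁ := pow_iter_inj hR k₂ (by
            dsimp only; rw [hg₂, ← pow_mul, ← pow_add, hg])
          refine ⟨k₁ + k₂, g, hg, g ^ (p ^ k₂ - 1) • w₁ + g ^ (p ^ k₁ - 1) • w₂, ?_⟩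
          have hp' : ∀ k, 0 < p ^ k := fun k => pow_pos hp.pos k
          rw [smul_add, smul_smul, smul_smul, ← pow_succ', ← pow_succ', Nat.sub_add_cancel (hp' k₂),
            Nat.sub_add_cancel (hp' k₁), ← e₁, ← e₂, add_sub_add_comm]
          exact add_mem h₁ h₂
      intro n z hz
      obtain ⟨k, g₀, hg₀, w, hw⟩ := hdec' _ hz
      obtain ⟨g, hg⟩ := hR.surjective g₀
      dsimp only at hg
      have hgJ : g ∈ J' := ⟨p ^ (k + 1), by
        rw [pow_succ', pow_mul, hg, hg₀]; exact Ideal.subset_span (by simp)⟩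
      -- `g • w` is a boundary modulo `J`
      have hw' : ∃ u, g • w - d n u ∈ J • (⊤ : Submodule R (Y n)) := by
        cases n with
        | zero =>
          have h1 : g ^ p • ε w ∈ J • (⊤ : Submodule R Z) := by
            have := apply_mem_smul_top J ε hw
            rw [map_sub, hexε.apply_apply_eq_zero, map_smul, ← hg, zero_sub] at this
            exact neg_mem_iff.1 this
          have h2 : g • ε w ∈ J • (⊤ : Submodule R Z) := by
            rw [Ideal.smul_top_eq_map, Submodule.restrictScalars_mem] at h1 ⊢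
            rw [Algebra.smul_def] at h1 ⊢
            refine isRadical_map hp h0 hR hZ J hJrad ⟨p, ?_⟩
            obtain ⟨j, hj⟩ : ∃ j, p = j + 1 := ⟨p - 1, by have := hp.pos; omega⟩
            rw [mul_pow, ← map_pow, hj, pow_succ' (ε w), ← mul_assoc, ← hj]
            exact Ideal.mul_mem_right _ _ h1
          have h3 : J • (⊤ : Submodule R Z) = Submodule.map ε (J • ⊤) := by
            rw [Submodule.map_smul'', Submodule.map_top, LinearMap.range_eq_top.2 hε]
          rw [h3] at h2
          obtain ⟨y, hy, hy'⟩ := h2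
          obtain ⟨u, hu⟩ := (hexε (g • w - y)).1 (by rw [map_sub, map_smul, hy', sub_self])
          exact ⟨u, by rw [hu, sub_sub_cancel]; exact hy⟩
        | succ n =>
          have h1 : g ^ p • d n w ∈ J • (⊤ : Submodule R (Y n)) := by
            have := apply_mem_smul_top J (d n) hw
            rw [map_sub, (hex n).apply_apply_eq_zero, map_smul, ← hg, zero_sub] at this
            exact neg_mem_iff.1 this
          have h2 := smul_root_mem hp J hJrad g _ h1
          exact ih n (g • w) (by rwa [map_smul])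
      obtain ⟨u, hu⟩ := hw'
      obtain ⟨j, hj⟩ : ∃ j, p = (j + 1) + 1 := ⟨p - 2, by have := hp.two_le; omega⟩
      obtain ⟨v, hv⟩ := ih n (z - g ^ (j + 1) • u) (by
        have h4 : g₀ • w = g ^ (j + 1) • (g • w) := by rw [smul_smul, ← pow_succ, ← hj, hg]
        have h5 := add_mem hw (Submodule.smul_mem _ (g ^ (j + 1)) hu)
        rw [h4, smul_sub, sub_add_sub_cancel] at h5
        rwa [map_sub, map_smul])
      refine ⟨v, ?_⟩
      have : z - d (n + 1) v = (z - g ^ (j + 1) • u - d (n + 1) v) + g ^ (j + 1) • u := by abel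
      rw [this]
      exact add_mem (Submodule.smul_mono_left hJJ' hv) (Submodule.smul_mem_smul
        (by rw [pow_succ]; exact Ideal.mul_mem_left _ _ hgJ) Submodule.mem_top)
  have : ∃ S : Finset R, (S : Set R) ⊆ J ∧
      d n z ∈ Ideal.span (S : Set R) • (⊤ : Submodule R (Y n)) := by
    generalize d n z = t at hz ⊢
    induction hz using Submodule.smul_induction_on' with
    | smul r hr w _ => exact ⟨{r}, by simpa using hr,
        Submodule.smul_mem_smul (Ideal.subset_span (by simp)) Submodule.mem_top⟩
    | add a _ b _ ha hb =>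
      obtain ⟨S, hS, ha⟩ := ha; obtain ⟨T, hT, hb⟩ := hb
      refine ⟨S ∪ T, by simp [hS, hT], add_mem ?_ ?_⟩
      · exact Submodule.smul_mono_left (Ideal.span_mono (by simp)) ha
      · exact Submodule.smul_mono_left (Ideal.span_mono (by simp)) hb
  obtain ⟨S, hS, hSz⟩ := this
  obtain ⟨u, hu⟩ := key S n z (Submodule.smul_mono_left Ideal.le_radical hSz)
  exact ⟨u, Submodule.smul_mono_left ((hJ.radical_le_iff).2 (Ideal.span_le.2 hS)) hu⟩

theorem exact_lTensor_quot {A R B C : Type u} [CommRing A] [CommRing R] [CommRing B] [CommRing C]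
    [Algebra A R] [Algebra A B] [Algebra A C] [Module.Flat A R] (hp : p.Prime)
    (h0R : (p : R) = 0) (h0Z : (p : R ⊗[A] C) = 0)
    (hR : Function.Bijective fun x : R => x ^ p) (hZ : Function.Bijective fun x : R ⊗[A] C => x ^ p)
    (π : R →ₐ[A] B) (hπ : Function.Surjective π) (hJ : (RingHom.ker π.toRingHom).IsRadical)
    (X : ℕ → Type u) [∀ n, AddCommGroup (X n)] [∀ n, Module A (X n)] [∀ n, Module.Projective A (X n)]
    (d₀ : ∀ n, X (n + 1) →ₗ[A] X n) (e : X 0 →ₗ[A] C) (he : Function.Surjective e)
    (hexe : Function.Exact (d₀ 0) e) (hexd : ∀ m, Function.Exact (d₀ (m + 1)) (d₀ m)) (n : ℕ) :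
    Function.Exact ((d₀ (n + 1)).lTensor B) ((d₀ n).lTensor B) := by
  let J : Ideal R := RingHom.ker π.toRingHom
  have main := exact_mod_radical hp h0R h0Z hR hZ (fun m => R ⊗[A] X m) (fun m => (d₀ m).baseChange R)
    (e.baseChange R) (LinearMap.lTensor_surjective R he)
    (lTensor_exact R hexe he) (fun m => Module.Flat.lTensor_exact R (hexd m)) J hJ n
  have hkill : ∀ {m : ℕ} (t : R ⊗[A] X m), t ∈ J • (⊤ : Submodule R (R ⊗[A] X m)) →
      π.toLinearMap.rTensor _ t = 0 := by
    intro m t ht
    induction ht using Submodule.smul_induction_on' with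
    | smul r hr w hw =>
      clear hw
      induction w using TensorProduct.induction_on with
      | zero => simp
      | tmul a b =>
        rw [TensorProduct.smul_tmul', LinearMap.rTensor_tmul, smul_eq_mul, AlgHom.toLinearMap_apply,
          map_mul, show π r = 0 from hr, zero_mul, TensorProduct.zero_tmul]
      | add a b ha hb => rw [smul_add, map_add, ha, hb, add_zero]
    | add a _ b _ ha hb => rw [map_add, ha, hb, add_zero]
  have hcomm : ∀ (m : ℕ) (t : R ⊗[A] X (m + 1)), π.toLinearMap.rTensor _ ((d₀ m).baseChange R t) =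
      (d₀ m).lTensor B (π.toLinearMap.rTensor _ t) := by
    intro m t
    induction t using TensorProduct.induction_on with
    | zero => simp
    | tmul a b => simp
    | add a b ha hb => simp only [map_add, ha, hb]
  intro zb
  constructor
  · intro hzb
    obtain ⟨z, rfl⟩ := LinearMap.rTensor_surjective (X (n + 1)) (g := π.toLinearMap) hπ zb
    have hker : (d₀ n).baseChange R z ∈ J • (⊤ : Submodule R (R ⊗[A] X n)) := by
      have h1 : π.toLinearMap.rTensor _ ((d₀ n).baseChange R z) = 0 := by rw [hcomm]; exact hzb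
      obtain ⟨t, ht⟩ := ((rTensor_exact (X n)
        (LinearMap.exact_subtype_ker_map π.toLinearMap) hπ) _).1 h1
      rw [← ht]
      clear ht h1
      induction t using TensorProduct.induction_on with
      | zero => rw [map_zero]; exact zero_mem _
      | tmul a b =>
        rw [LinearMap.rTensor_tmul]
        have : (a.1 ⊗ₜ[A] b : R ⊗[A] X n) = a.1 • ((1 : R) ⊗ₜ[A] b) := by
          rw [TensorProduct.smul_tmul', smul_eq_mul, mul_one]
        rw [Submodule.subtype_apply, this]
        exact Submodule.smul_mem_smul (by exact a.2) Submodule.mem_top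
      | add a b ha hb => rw [map_add]; exact add_mem ha hb
    obtain ⟨u, hu⟩ := main z hker
    refine ⟨π.toLinearMap.rTensor _ u, ?_⟩
    have h2 := hkill _ hu
    rw [map_sub, sub_eq_zero] at h2
    rw [h2, hcomm]
  · rintro ⟨w, rfl⟩
    rw [← LinearMap.lTensor_comp_apply, (hexd n).linearMap_comp_eq_zero, LinearMap.lTensor_zero,
      LinearMap.zero_apply]

end


/-- Let p be a prime, A a commutative ring with p = 0 whose p-th power map is bijective, and B, C two
commutative A-algebras whose p-th power maps are bijective (a diagram C ← A → B of perfect rings of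
characteristic p). Then Tor_i^A(B, C) vanishes for all i > 0. -/
theorem result (p : ℕ) [Fact p.Prime] (A B C : Type u) [CommRing A] [CommRing B] [CommRing C]
    [CharP A p] [Algebra A B] [Algebra A C]
    (hA : Function.Bijective fun a : A => a ^ p) (hB : Function.Bijective fun b : B => b ^ p)
    (hC : Function.Bijective fun c : C => c ^ p) (i : ℕ) (hi : 0 < i) :
    Limits.IsZero (((Tor (ModuleCat.{u} A) i).obj (ModuleCat.of A B)).obj (ModuleCat.of A C)) := by
  classical
  obtain ⟨n, rfl⟩ : ∃ n, i = n + 1 := ⟨i - 1, by omega⟩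
  have hp : p.Prime := Fact.out
  have h0A : (p : A) = 0 := CharP.cast_eq_zero A p
  have h0B : (p : B) = 0 := by rw [← map_natCast (algebraMap A B), h0A, map_zero]
  have h0C : (p : C) = 0 := by rw [← map_natCast (algebraMap A C), h0A, map_zero]
  let Q := projectiveResolution (ModuleCat.of A C)
  refine ((TorVanLib.V_iff Q (n + 1) B).1 ((TorVanLib.V_exact Q n B).2 ?_)).of_iso
    (TorLib.torIso Q (ModuleCat.of A B) (n + 1))
  -- a free perfect algebra mapping onto `B`
  let R := MonoidAlgebra A B
  let Z := R ⊗[A] C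
  have hR : Function.Bijective fun x : R => x ^ p := bij_monoidAlgebra hp h0A hA hB
  have hACT : ((p : ℕ) : A ⊗[A] C) = 0 := by
    rw [← map_natCast (algebraMap A (A ⊗[A] C)), h0A, map_zero]
  have hZ : Function.Bijective fun x : Z => x ^ p :=
    bij_of_ringEquiv (MonoidAlgebra.lTensorAlgEquiv A A C (M := B)).toRingEquiv
      (bij_monoidAlgebra hp hACT (bij_of_ringEquiv (Algebra.TensorProduct.lid A C).toRingEquiv hC) hB)
  have h0R : ((p : ℕ) : R) = 0 := by rw [← map_natCast (algebraMap A R), h0A, map_zero]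
  have h0Z : ((p : ℕ) : Z) = 0 := by rw [← map_natCast (algebraMap A Z), h0A, map_zero]
  let π : R →ₐ[A] B := MonoidAlgebra.lift A B B (MonoidHom.id B)
  have hπ : Function.Surjective π := fun b => ⟨MonoidAlgebra.single b 1, by
    show (MonoidAlgebra.lift A B B) (MonoidHom.id B) (MonoidAlgebra.single b 1) = b
    rw [MonoidAlgebra.lift_single, one_smul]; rfl⟩
  let J : Ideal R := RingHom.ker π.toRingHom
  have hJ : J.IsRadical := by
    rintro x ⟨k, hk⟩
    have h1 : π x ^ k = 0 := by
      rw [← map_pow]; exact hk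
    have := nil_bot hp hB (⟨k, by rwa [Submodule.mem_bot]⟩ : π x ∈ (⊥ : Ideal B).radical)
    exact (Submodule.mem_bot B).1 this
  haveI : ∀ m, Module.Projective A (Q.complex.X m) := fun m =>
    haveI := Q.projective m
    (IsProjective.iff_projective _).mpr inferInstance
  let e : (Q.complex.X 0 : Type u) →ₗ[A] C := (Q.π.f 0).hom
  have he : Function.Surjective e := (ModuleCat.epi_iff_surjective _).1 inferInstance
  have hexe : Function.Exact (Q.complex.d 1 0).hom e :=
    (ShortComplex.ShortExact.moduleCat_exact_iff_function_exact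
      (ShortComplex.mk _ _ Q.complex_d_comp_π_f_zero)).1
      (ShortComplex.exact_of_g_is_cokernel _ Q.isColimitCokernelCofork)
  have hexd : ∀ m, Function.Exact (Q.complex.d (m + 2) (m + 1)).hom (Q.complex.d (m + 1) m).hom :=
    fun m => (ShortComplex.ShortExact.moduleCat_exact_iff_function_exact _).1 (Q.exact_succ m)
  haveI : Module.Free A R := inferInstance
  exact exact_lTensor_quot hp h0R h0Z hR hZ π hπ hJ (fun m => (Q.complex.X m : Type u))
    (fun m => (Q.complex.d (m + 1) m).hom) e he hexe hexd n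

end Groth.Agent.S14252
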