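import Groth.Statements.S14253
import Mathlib
import Groth.Agent.AWNLib.Scheme
import Groth.Agent.PerfectionLib.Maps
import Groth.Agent.PerfSchLib.Maps

set_option autoImplicit false
universe u
open CategoryTheory AlgebraicGeometry
open PerfSch

namespace Groth.Agent.S14253

/-- A universal homeomorphism f : X ⟶ Y between perfect schemes of prime characteristic p (on every open
of X and of Y, p = 0 in the ring of sections and the p-th power map is bijective) is an isomorphism. -/
theorem result (p : ℕ) [Fact p.Prime] {X Y : Scheme.{u}} (f : X ⟶ Y)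
    (hX : PerfSch.IsPerfect p X) (hY : PerfSch.IsPerfect p Y) (hf : FlatMor.IsUnivHomeo f) : IsIso f := by
  haveI := UnivHomeo.isAffineHom hf
  rw [← MorphismProperty.isomorphisms.iff]
  rw [HasAffineProperty.eq_targetAffineLocally (MorphismProperty.isomorphisms Scheme.{u})]
  intro V
  refine ⟨V.2.preimage f, ?_⟩
  have hbij : Function.Bijective (f.app V.1).hom := by
    obtain ⟨-, hu⟩ := AWNLib.isUnivHomeo_app hf V
    rcases subsingleton_or_nontrivial Γ(X, f ⁻¹ᵁ V.1) with hs | hn
    · have : Subsingleton Γ(Y, V.1) := by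
        by_contra h
        rw [not_subsingleton_iff_nontrivial] at h
        obtain ⟨q⟩ : Nonempty (PrimeSpectrum Γ(Y, V.1)) := inferInstance
        obtain ⟨q', -⟩ := AWNLib.comap_surjective (ψ := (f.app V.1).hom) hu q
        exact q'.2.ne_top (Subsingleton.elim _ _)
      exact ⟨fun a b _ => Subsingleton.elim _ _, fun b => ⟨0, Subsingleton.elim _ _⟩⟩
    have : Nontrivial Γ(Y, V.1) := (f.app V.1).hom.domain_nontrivial
    haveI := PerfSchLib.charP_of (p := p) Γ(Y, V.1) (hY V.1).1
    haveI := PerfSchLib.charP_of (p := p) Γ(X, f ⁻¹ᵁ V.1) (hX _).1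
    haveI : PerfectRing Γ(Y, V.1) p := ⟨(hY V.1).2⟩
    haveI : PerfectRing Γ(X, f ⁻¹ᵁ V.1) p := ⟨(hX _).2⟩
    exact (PerfectionLib.isUnivHomeo_iff (p := p) (f.app V.1).hom (RingHom.id _) (RingHom.id _)
      (f.app V.1).hom rfl).mp hu
  rw [morphismRestrict_appTop]
  have key : ∀ W, W = V.1 → IsIso (f.app W) := by
    rintro W rfl; exact (ConcreteCategory.isIso_iff_bijective _).mpr hbij
  haveI := key _ (Scheme.Opens.ι_image_top V.1)
  exact @IsIso.comp_isIso _ _ _ _ _ _ _ (key _ (Scheme.Opens.ι_image_top V.1))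
    (inferInstanceAs (IsIso (X.presheaf.map (eqToHom (image_morphismRestrict_preimage f V.1 ⊤)).op)))

end Groth.Agent.S14253
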