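import Groth.Statements.S14257
import Groth.Agent.PerfectionLib.Basic
import Groth.Agent.FrobAlgLib.Basic

set_option autoImplicit false
universe u
open TensorProduct
open FrobAlg TensorProduct

namespace Groth.Agent.S14257

/-- Let p be a prime, A a commutative ring of characteristic p, B an etale A-algebra of characteristic
p, A → A' and B → B' perfect closures (A', B' perfect rings of characteristic p, every element of A'
resp. B' has a p^n-th power in the image of A resp. B, and the structure maps have kernels
consisting of nilpotent elements), B' viewed as an A-algebra through B, and φ' : A' → B' a map of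
A-algebras. Then the natural map A' ⊗_A B → B', a ⊗ b ↦ φ'(a) b, is bijective. (The published
statement is for an etale morphism X → Y of schemes over the prime field, where X_perf → X ×_Y
Y_perf is an isomorphism; this row is the affine case.) -/
theorem result (p : ℕ) [Fact p.Prime]
    (A B A' B' : Type u) [CommRing A] [CommRing B] [CommRing A'] [CommRing B']
    [CharP A p] [CharP B p] [CharP A' p] [CharP B' p] [PerfectRing A' p] [PerfectRing B' p]
    [Algebra A B] [Algebra.Etale A B] [Algebra A A'] [Algebra B B'] [Algebra A B'] [IsScalarTower A B B']
    [IsPerfectClosure (algebraMap A A') p] [IsPerfectClosure (algebraMap B B') p]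
    (φ' : A' →ₐ[A] B') :
    Function.Bijective (Algebra.TensorProduct.lift φ' (IsScalarTower.toAlgHom A B B')
      (fun a b => Commute.all (φ' a) (IsScalarTower.toAlgHom A B B' b))) := by
  haveI : IsPRadical (algebraMap A A') p := ‹IsPerfectClosure (algebraMap A A') p›
  haveI : IsPRadical (algebraMap B B') p := ‹IsPerfectClosure (algebraMap B B') p›
  let T := A' ⊗[A] B
  haveI : Nontrivial B' := CharP.nontrivial_of_char_ne_one (Fact.out : p.Prime).ne_one
  haveI : Nontrivial T := (Groth.Agent.PerfectionLib.cmp (B := B) φ').toRingHom.domain_nontrivial
  haveI : CharP T p := (CharP.charP_iff_prime_eq_zero (R := T) (Fact.out : p.Prime)).2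
    (by rw [← map_natCast (algebraMap A T), CharP.cast_eq_zero, map_zero])
  haveI : PerfectRing T p := by
    refine ⟨?_⟩
    have h1 := Groth.Agent.FrobAlgLib.bijective_of_etale p A' T
    have h2 : Function.Bijective (Algebra.linearMap A' (FrobAlg.Twist p A')) := by
      show Function.Bijective fun a => algebraMap A' (FrobAlg.Twist p A') a
      exact (PerfectRing.bijective_frobenius (R := A') (p := p))
    have h3 : Function.Bijective (fun t : T => t ⊗ₜ[A'] (1 : FrobAlg.Twist p A')) := by
      have h4 := (LinearEquiv.lTensor T (LinearEquiv.ofBijective (Algebra.linearMap A' (FrobAlg.Twist p A')) h2)).bijective.comp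
        (TensorProduct.rid A' T).symm.bijective
      convert h4 using 1
      funext t
      simp
    have h5 : ⇑(frobenius T p) = FrobAlg.relFrob p A' T ∘ fun t : T => t ⊗ₜ[A'] (1 : FrobAlg.Twist p A') :=
      funext fun t => (Groth.Agent.FrobAlgLib.relFrob_left p A' T t).symm
    show Function.Bijective (frobenius T p)
    rw [h5]
    exact h1.comp h3
  exact Groth.Agent.PerfectionLib.bijective_of_perfect (p := p) φ'

end Groth.Agent.S14257
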