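import Groth.Statements.S14261
import Mathlib

set_option autoImplicit false
universe u
open CategoryTheory
open FrobAlg

namespace Groth.Agent.S14261

open CategoryTheory Limits

variable {p : ℕ} {B : CommRingCat.{u}}

/-- The property defining perfect algebras. -/
abbrev PProp (p : ℕ) (B : CommRingCat.{u}) : ObjectProperty (Under B) :=
  fun Y : Under B => (p : Y.right) = 0 ∧ Function.Bijective fun y : Y.right => y ^ p

/-- Perfect algebras. -/
abbrev Perf (p : ℕ) (B : CommRingCat.{u}) := (PProp p B).FullSubcategory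

/-- Object from a ring. -/
abbrev mkP {R : Type u} [CommRing R] (φ : B →+* R)
    (h0 : (p : R) = 0) (hb : Function.Bijective fun y : R => y ^ p) : Perf p B :=
  ⟨Under.mk (CommRingCat.ofHom φ), h0, hb⟩

/-- Underlying ring hom of a morphism. -/
abbrev rh {X Y : Perf p B} (f : X ⟶ Y) : X.obj.right →+* Y.obj.right := f.hom.right.hom

theorem rh_w {X Y : Perf p B} (f : X ⟶ Y) : (rh f).comp X.obj.hom.hom = Y.obj.hom.hom := by
  exact congrArg CommRingCat.Hom.hom (Under.w f.hom)

theorem ext_rh {X Y : Perf p B} (f g : X ⟶ Y) (h : rh f = rh g) : f = g :=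
  ObjectProperty.hom_ext _ (Under.UnderMorphism.ext (CommRingCat.hom_ext h))

theorem rh_comp {X Y Z : Perf p B} (f : X ⟶ Y) (g : Y ⟶ Z) : rh (f ≫ g) = (rh g).comp (rh f) := rfl

/-- Morphism from ring hom. -/
abbrev mkH {X Y : Perf p B} (f : X.obj.right →+* Y.obj.right) (h : f.comp X.obj.hom.hom = Y.obj.hom.hom) :
    X ⟶ Y :=
  ObjectProperty.homMk (Under.homMk (CommRingCat.ofHom f) (CommRingCat.hom_ext h))

/-- The perfect subalgebra generated by a set. -/
def sat (R : Type u) [CommRing R] [Fact p.Prime] [CharP R p] (T : Subring R) : Subring R where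
  carrier := {a | ∃ n : ℕ, a ^ p ^ n ∈ T}
  one_mem' := ⟨0, by simp⟩
  zero_mem' := ⟨0, by simp⟩
  mul_mem' := by
    rintro a b ⟨n, hn⟩ ⟨m, hm⟩
    refine ⟨n + m, ?_⟩
    rw [mul_pow]
    refine mul_mem ?_ ?_
    · rw [pow_add, pow_mul]; exact pow_mem hn _
    · rw [add_comm, pow_add, pow_mul]; exact pow_mem hm _
  add_mem' := by
    rintro a b ⟨n, hn⟩ ⟨m, hm⟩
    refine ⟨n + m, ?_⟩
    rw [add_pow_char_pow]
    refine add_mem ?_ ?_
    · rw [pow_add, pow_mul]; exact pow_mem hn _
    · rw [add_comm, pow_add, pow_mul]; exact pow_mem hm _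
  neg_mem' := by
    rintro a ⟨n, hn⟩
    refine ⟨n, ?_⟩
    rw [show (-a) ^ p ^ n = -(a ^ p ^ n) by
      rw [← iterateFrobenius_def, ← iterateFrobenius_def, map_neg]]
    exact neg_mem hn

theorem union_colimit {ι : Type u} [SemilatticeSup ι] [Nonempty ι] (A : Perf p B) [IsFinitelyPresentable.{u} A]
    (T : ι → Subring A.obj.right) (hmono : Monotone T) (hB : ∀ i b, A.obj.hom.hom b ∈ T i)
    (hperf : ∀ i, Function.Bijective fun y : T i => y ^ p) (hcov : ∀ a, ∃ i, a ∈ T i) :
    ∃ i, T i = ⊤ := by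
  let D : ι ⥤ Perf p B :=
    { obj := fun i => mkP (A.obj.hom.hom.codRestrict (T i) (hB i))
        (Subtype.ext (by simpa using A.property.1)) (hperf i)
      map := fun {i j} f => mkH (Subring.inclusion (hmono (leOfHom f))) (RingHom.ext fun b => rfl)
      map_id := fun i => ext_rh _ _ (RingHom.ext fun a => rfl)
      map_comp := fun f g => ext_rh _ _ (RingHom.ext fun a => rfl) }
  let c : Cocone D :=
    { pt := A
      ι :=
        { app := fun i => mkH (T i).subtype (RingHom.ext fun b => rfl)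
          naturality := fun i j f => ext_rh _ _ (RingHom.ext fun a => rfl) } }
  choose w hw using hcov
  have hcomp : ∀ (s : Cocone D) (i j : ι) (h : i ≤ j) (a : A.obj.right) (ha : a ∈ T i),
      rh (s.ι.app j) ⟨a, hmono h ha⟩ = rh (s.ι.app i) ⟨a, ha⟩ := by
    intro s i j h a ha
    rw [← s.w (homOfLE h), rh_comp]
    rfl
  have val : ∀ (s : Cocone D) (a : A.obj.right) (i : ι) (ha : a ∈ T i),
      rh (s.ι.app (w a)) ⟨a, hw a⟩ = rh (s.ι.app i) ⟨a, ha⟩ := fun s a i ha =>
    (hcomp s _ (w a ⊔ i) le_sup_left a (hw a)).symm.trans (hcomp s i (w a ⊔ i) le_sup_right a ha)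
  obtain ⟨i₀⟩ := ‹Nonempty ι›
  let d : ∀ s : Cocone D, A.obj.right →+* s.pt.obj.right := fun s =>
    { toFun := fun a => rh (s.ι.app (w a)) ⟨a, hw a⟩
      map_one' := (val s 1 i₀ (one_mem _)).trans (map_one (rh (s.ι.app i₀)))
      map_zero' := (val s 0 i₀ (zero_mem _)).trans (map_zero (rh (s.ι.app i₀)))
      map_mul' := fun a b => by
        rw [val s _ (w a ⊔ w b) (mul_mem (hmono le_sup_left (hw a)) (hmono le_sup_right (hw b))),
          val s a _ (hmono le_sup_left (hw a)), val s b _ (hmono le_sup_right (hw b))]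
        exact map_mul (rh (s.ι.app (w a ⊔ w b))) ⟨a, hmono le_sup_left (hw a)⟩ ⟨b, hmono le_sup_right (hw b)⟩
      map_add' := fun a b => by
        rw [val s _ (w a ⊔ w b) (add_mem (hmono le_sup_left (hw a)) (hmono le_sup_right (hw b))),
          val s a _ (hmono le_sup_left (hw a)), val s b _ (hmono le_sup_right (hw b))]
        exact map_add (rh (s.ι.app (w a ⊔ w b))) ⟨a, hmono le_sup_left (hw a)⟩ ⟨b, hmono le_sup_right (hw b)⟩ }
  have hd : ∀ (s : Cocone D) (b : B), d s (A.obj.hom.hom b) = s.pt.obj.hom.hom b := fun s b =>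
    (val s _ i₀ (hB i₀ b)).trans (RingHom.congr_fun (rh_w (s.ι.app i₀)) b)
  have hc : IsColimit c :=
    { desc := fun s => mkH (d s) (RingHom.ext (hd s))
      fac := fun s i => ext_rh _ _ (RingHom.ext fun a => val s a.1 i a.2)
      uniq := fun s m hm => ext_rh _ _ (RingHom.ext fun a => by
        show rh m a = rh (s.ι.app (w a)) ⟨a, hw a⟩
        rw [← hm (w a)]
        rfl) }
  obtain ⟨i, g, hg⟩ := IsFinitelyPresentable.exists_hom_of_isColimit hc (𝟙 A)
  refine ⟨i, eq_top_iff.mpr fun a _ => ?_⟩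
  let t : T i := rh g a
  have h2 : (t : A.obj.right) = a := congrArg (fun f => rh f a) hg
  exact h2 ▸ t.2

theorem exists_finite_gen [Fact p.Prime] (A : Perf p B) [CharP A.obj.right p] [IsFinitelyPresentable.{u} A] :
    ∃ S : Finset A.obj.right, ∀ a : A.obj.right, ∃ n : ℕ,
      a ^ p ^ n ∈ Subring.closure (Set.range A.obj.hom.hom ∪ (S : Set A.obj.right)) := by
  classical
  let T : Finset A.obj.right → Subring A.obj.right := fun S =>
    sat (p := p) A.obj.right (Subring.closure (Set.range A.obj.hom.hom ∪ (S : Set A.obj.right)))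
  have h1 : Monotone T := by
    rintro S S' h a ⟨n, hn⟩
    exact ⟨n, Subring.closure_mono (Set.union_subset_union_right _ (Finset.coe_subset.mpr h)) hn⟩
  have h2 : ∀ S b, A.obj.hom.hom b ∈ T S :=
    fun S b => ⟨0, by simp only [pow_zero, pow_one]; exact Subring.subset_closure (Or.inl ⟨b, rfl⟩)⟩
  have h3 : ∀ S, Function.Bijective fun y : T S => y ^ p := by
    intro S
    refine ⟨fun a b h => Subtype.ext (A.property.2.1 (congrArg Subtype.val h)), fun a => ?_⟩
    obtain ⟨r, hr⟩ := A.property.2.2 a.1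
    obtain ⟨n, hn⟩ := a.2
    refine ⟨⟨r, n + 1, ?_⟩, Subtype.ext hr⟩
    rw [pow_succ', pow_mul, show r ^ p = a.1 from hr]
    exact hn
  have h4 : ∀ a, ∃ S, a ∈ T S := fun a =>
    ⟨{a}, 0, by simp only [pow_zero, pow_one]; exact Subring.subset_closure (Or.inr (Finset.mem_coe.mpr (Finset.mem_singleton_self a)))⟩
  obtain ⟨S, hS⟩ := union_colimit A T h1 h2 h3 h4
  exact ⟨S, fun a => show a ∈ T S from hS.symm ▸ Subring.mem_top a⟩

theorem quot_colimit {ι : Type u} [SemilatticeSup ι] [Nonempty ι] (A : Perf p B) [IsFinitelyPresentable.{u} A]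
    {P : Type u} [CommRing P] (φ : B →+* P) (π : P →+* A.obj.right) (hπφ : π.comp φ = A.obj.hom.hom)
    (hsurj : Function.Surjective π) (I : ι → Ideal P) (hmono : Monotone I) (h0 : (p : P) = 0)
    (hbij : ∀ i, Function.Bijective fun y : P ⧸ I i => y ^ p) (hle : ∀ i, I i ≤ RingHom.ker π)
    (hcov : ∀ z ∈ RingHom.ker π, ∃ i, z ∈ I i) :
    ∃ (i : ι) (g : A.obj.right →+* P ⧸ I i), g.comp A.obj.hom.hom = (Ideal.Quotient.mk (I i)).comp φ ∧
      (Ideal.Quotient.lift (I i) π fun z hz => hle i hz).comp g = RingHom.id _ := by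
  let D : ι ⥤ Perf p B :=
    { obj := fun i => mkP ((Ideal.Quotient.mk (I i)).comp φ)
        (by rw [← map_natCast (Ideal.Quotient.mk (I i)), h0, map_zero]) (hbij i)
      map := fun {i j} f => mkH (Ideal.Quotient.factor (hmono (leOfHom f))) (RingHom.ext fun b => rfl)
      map_id := fun i => ext_rh _ _ (Ideal.Quotient.ringHom_ext (RingHom.ext fun a => rfl))
      map_comp := fun f g => ext_rh _ _ (Ideal.Quotient.ringHom_ext (RingHom.ext fun a => rfl)) }
  let c : Cocone D :=
    { pt := A
      ι :=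
        { app := fun i => mkH (Ideal.Quotient.lift (I i) π fun z hz => hle i hz) hπφ
          naturality := fun i j f => ext_rh _ _ (Ideal.Quotient.ringHom_ext (RingHom.ext fun a => rfl)) } }
  let d0 : ∀ (s : Cocone D) (i : ι), P →+* s.pt.obj.right := fun s i => (rh (s.ι.app i)).comp (Ideal.Quotient.mk (I i))
  have key : ∀ (s : Cocone D) (i j : ι), i ≤ j → d0 s i = d0 s j := by
    intro s i j h
    ext z
    show rh (s.ι.app i) (Ideal.Quotient.mk (I i) z) = _
    rw [← s.w (homOfLE h), rh_comp]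
    rfl
  obtain ⟨i₀⟩ := ‹Nonempty ι›
  have key' : ∀ (s : Cocone D) (i : ι), d0 s i = d0 s i₀ := fun s i =>
    (key s i (i ⊔ i₀) le_sup_left).trans (key s i₀ (i ⊔ i₀) le_sup_right).symm
  have hd0 : ∀ s : Cocone D, RingHom.ker π ≤ RingHom.ker (d0 s i₀) := fun s z hz => by
    obtain ⟨i, hi⟩ := hcov z hz
    rw [RingHom.mem_ker, ← key' s i]
    show rh (s.ι.app i) (Ideal.Quotient.mk (I i) z) = 0
    rw [Ideal.Quotient.eq_zero_iff_mem.mpr hi]
    exact map_zero (rh (s.ι.app i))
  let d : ∀ s : Cocone D, A.obj.right →+* s.pt.obj.right := fun s =>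
    RingHom.liftOfSurjective π hsurj ⟨d0 s i₀, hd0 s⟩
  have hd : ∀ (s : Cocone D) z, d s (π z) = d0 s i₀ z := fun s z =>
    RingHom.liftOfRightInverse_comp_apply π _ (Function.rightInverse_surjInv hsurj) ⟨d0 s i₀, hd0 s⟩ z
  have hdB : ∀ (s : Cocone D) (b : B), d s (A.obj.hom.hom b) = s.pt.obj.hom.hom b := fun s b => by
    rw [← hπφ, RingHom.comp_apply, hd]
    exact RingHom.congr_fun (rh_w (s.ι.app i₀)) b
  have hc : IsColimit c :=
    { desc := fun s => mkH (d s) (RingHom.ext (hdB s))
      fac := fun s i => ext_rh _ _ (Ideal.Quotient.ringHom_ext (RingHom.ext fun z =>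
        (hd s z).trans (RingHom.congr_fun (key' s i) z).symm))
      uniq := fun s m hm => ext_rh _ _ (RingHom.ext fun a => by
        obtain ⟨z, rfl⟩ := hsurj a
        show rh m (π z) = d s (π z)
        rw [hd]
        show _ = rh (s.ι.app i₀) (Ideal.Quotient.mk (I i₀) z)
        rw [← hm i₀]
        rfl) }
  obtain ⟨i, g, hg⟩ := IsFinitelyPresentable.exists_hom_of_isColimit hc (𝟙 A)
  exact ⟨i, rh g, rh_w g, congrArg rh hg⟩

theorem model [Fact p.Prime] [CharP B p] [PerfectRing B p] (A : Perf p B) [CharP A.obj.right p]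
    [IsFinitelyPresentable.{u} A] :
    ∃ (A₀ : Type u) (_ : CommRing A₀) (_ : Algebra B A₀) (_ : Algebra.FinitePresentation B A₀)
      (k : A₀ →+* A.obj.right), k.comp (algebraMap B A₀) = A.obj.hom.hom ∧ IsPRadical k p := by
  classical
  obtain ⟨S, hS⟩ := exists_finite_gen A
  have : PerfectRing A.obj.right p := ⟨A.property.2⟩
  let M := MvPolynomial S B
  obtain ⟨e, heC, heX⟩ : ∃ e : MvPolynomial S B →+* A.obj.right, (∀ b, e (MvPolynomial.C b) = A.obj.hom.hom b) ∧
      ∀ s : S, e (MvPolynomial.X s) = (s : A.obj.right) := by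
    refine ⟨MvPolynomial.eval₂Hom A.obj.hom.hom (fun s : S => (s : A.obj.right)), fun b => ?_, fun s => ?_⟩
    · rw [MvPolynomial.eval₂Hom_C]
    · rw [MvPolynomial.eval₂Hom_X']
  have hrange : ∀ a, ∃ (n : ℕ) (q : M), e q = a ^ p ^ n := by
    intro a
    obtain ⟨n, hn⟩ := hS a
    refine ⟨n, ?_⟩
    have : Subring.closure (Set.range A.obj.hom.hom ∪ (S : Set A.obj.right)) ≤ e.range := by
      rw [Subring.closure_le]
      rintro x (⟨b, rfl⟩ | hx)
      · exact ⟨MvPolynomial.C b, heC b⟩
      · exact ⟨MvPolynomial.X ⟨x, hx⟩, heX ⟨x, hx⟩⟩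
    exact this hn
  haveI : CharP M p := inferInstance
  let P := PerfectClosure M p
  let ι : M →+* P := PerfectClosure.of M p
  let π : P →+* A.obj.right := PerfectClosure.lift M p A.obj.right e
  have hπ : ∀ q, π (ι q) = e q := fun q => by
    have := RingHom.congr_fun ((PerfectClosure.lift M p A.obj.right).symm_apply_apply e) q
    exact this
  have hroot : ∀ (n : ℕ) (z : P), ∃ y, y ^ p ^ n = z := fun n z => by
    obtain ⟨y, hy⟩ := (bijective_iterateFrobenius (R := P) (p := p) (n := n)).2 z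
    exact ⟨y, by rw [← iterateFrobenius_def, hy]⟩
  have hfrobA : ∀ (n : ℕ) (a b : A.obj.right), a ^ p ^ n = b ^ p ^ n → a = b := fun n a b h =>
    (bijective_iterateFrobenius (R := A.obj.right) (p := p) (n := n)).1 (by simp only [iterateFrobenius_def]; exact h)
  have hsurj : Function.Surjective π := by
    intro a
    obtain ⟨n, q, hq⟩ := hrange a
    obtain ⟨y, hy⟩ := hroot n (ι q)
    exact ⟨y, hfrobA n _ _ (by rw [← map_pow, hy, hπ, hq])⟩
  let RK : Finset (RingHom.ker π) → Ideal P := fun F => (Ideal.span (Subtype.val '' (F : Set (RingHom.ker π)))).radical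
  have hRKmono : ∀ F F', F ≤ F' → RK F ≤ RK F' := fun F F' h =>
    Ideal.radical_mono (Ideal.span_mono (Set.image_mono (Finset.coe_subset.mpr h)))
  have hRKker : ∀ F, RK F ≤ RingHom.ker π := fun F => by
    intro z hz
    obtain ⟨n, hn⟩ := hz
    have h1 : z ^ n ∈ RingHom.ker π := Ideal.span_le.mpr (by rintro _ ⟨w, _, rfl⟩; exact w.2) hn
    rw [RingHom.mem_ker, map_pow] at h1
    apply RingHom.mem_ker.mpr
    apply hfrobA n
    obtain ⟨d, hd⟩ := Nat.exists_eq_add_of_le (Nat.lt_pow_self (n := n) (Fact.out : p.Prime).one_lt).le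
    rw [hd, pow_add, h1, zero_mul, zero_pow (hd ▸ (pow_ne_zero _ (Fact.out : p.Prime).ne_zero))]
  have hbij : ∀ F, Function.Bijective fun y : P ⧸ RK F => y ^ p := by
    intro F
    constructor
    · intro a b h
      obtain ⟨a, rfl⟩ := Ideal.Quotient.mk_surjective a
      obtain ⟨b, rfl⟩ := Ideal.Quotient.mk_surjective b
      simp only [← map_pow, Ideal.Quotient.eq] at h
      rw [← sub_pow_char] at h
      rw [Ideal.Quotient.eq]
      exact (Ideal.radical_isRadical _) ⟨p, h⟩
    · intro a
      obtain ⟨a, rfl⟩ := Ideal.Quotient.mk_surjective a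
      obtain ⟨y, hy⟩ := hroot 1 a
      exact ⟨Ideal.Quotient.mk _ y, by simp only [← map_pow]; rw [← hy, pow_one]⟩
  let φ : B →+* P := ι.comp MvPolynomial.C
  have hπφ : π.comp φ = A.obj.hom.hom := RingHom.ext fun b => by
    show π (ι _) = _
    rw [hπ]; exact heC b
  obtain ⟨F, g, hgB, hg⟩ := quot_colimit A φ π hπφ hsurj RK (fun F F' h => hRKmono F F' h)
    (CharP.cast_eq_zero P p) hbij hRKker
    (fun z hz => ⟨{⟨z, hz⟩}, Ideal.le_radical (Ideal.subset_span ⟨⟨z, hz⟩, Finset.mem_coe.mpr (Finset.mem_singleton_self _), rfl⟩)⟩)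
  choose y hy using fun s : S => Ideal.Quotient.mk_surjective (I := RK F) (g (π (ι (MvPolynomial.X s))))
  have hπy : ∀ s : S, π (y s - ι (MvPolynomial.X s)) = 0 := by
    intro s
    have h1 := RingHom.congr_fun hg (π (ι (MvPolynomial.X s)))
    rw [RingHom.comp_apply, ← hy s, RingHom.id_apply] at h1
    change π (y s) = _ at h1
    rw [map_sub, sub_eq_zero, h1]
  let F' : Finset (RingHom.ker π) := F ∪ Finset.univ.image fun s : S => ⟨y s - ι (MvPolynomial.X s), hπy s⟩
  have hFF : F ≤ F' := Finset.subset_union_left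
  let g' := (Ideal.Quotient.factor (hRKmono F F' hFF)).comp g
  have hid : g'.comp π = Ideal.Quotient.mk (RK F') := by
    have h1 : (g'.comp π).comp ι = (Ideal.Quotient.mk (RK F')).comp ι := by
      apply MvPolynomial.ringHom_ext
      · intro b
        show g' (π (φ b)) = Ideal.Quotient.mk (RK F') (φ b)
        rw [← RingHom.comp_apply π φ, hπφ, RingHom.comp_apply]
        rw [show g (A.obj.hom.hom b) = Ideal.Quotient.mk (RK F) (φ b) from RingHom.congr_fun hgB b]
        rfl
      · intro s
        show Ideal.Quotient.factor (hRKmono F F' hFF) (g (π (ι (MvPolynomial.X s)))) = Ideal.Quotient.mk (RK F') (ι (MvPolynomial.X s))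
        rw [← hy s, Ideal.Quotient.factor_mk, Ideal.Quotient.eq]
        exact Ideal.le_radical (Ideal.subset_span ⟨⟨_, hπy s⟩, Finset.mem_coe.mpr (Finset.mem_union_right _ (Finset.mem_image_of_mem _ (Finset.mem_univ s))), rfl⟩)
    ext z
    obtain ⟨n, q, hq⟩ := IsPRadical.pow_mem ι p z
    have h2 := RingHom.congr_fun h1 q
    simp only [RingHom.comp_apply, hq, map_pow] at h2
    have hinj : ∀ (m : ℕ) (a b : P ⧸ RK F'), a ^ p ^ m = b ^ p ^ m → a = b := by
      intro m
      induction m with
      | zero => intro a b h; simpa using h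
      | succ m ih =>
        intro a b h
        apply ih
        apply (hbij F').1
        simpa [← pow_mul, ← pow_succ] using h
    exact hinj n _ _ h2
  have hker : RingHom.ker π ≤ RK F' := fun z hz => by
    have := RingHom.congr_fun hid z
    rw [RingHom.comp_apply, RingHom.mem_ker.mp hz, map_zero] at this
    exact Ideal.Quotient.eq_zero_iff_mem.mp this.symm
  choose nz qz hqz using fun z : RingHom.ker π => IsPRadical.pow_mem ι p (z : P)
  let J : Ideal M := Ideal.span ((F'.image qz : Finset M) : Set M)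
  have heJ : ∀ q ∈ J, e q = 0 := by
    intro q hq
    refine (Ideal.span_le (I := RingHom.ker e)).mpr ?_ hq
    intro x hx
    obtain ⟨z, _, rfl⟩ := Finset.mem_image.mp (Finset.mem_coe.mp hx)
    rw [SetLike.mem_coe, RingHom.mem_ker, ← hπ, hqz, map_pow, RingHom.mem_ker.mp z.2]
    exact zero_pow (pow_ne_zero _ (Fact.out : p.Prime).ne_zero)
  have hkey : ∀ h : M, e h = 0 → ∃ n, h ^ p ^ n ∈ J := by
    intro h hh
    obtain ⟨N, hN⟩ := hker (RingHom.mem_ker.mpr ((hπ h).trans hh))
    have hclaim : ∀ w ∈ Ideal.span (Subtype.val '' (F' : Set (RingHom.ker π))), ∃ m, ∃ j ∈ J, w ^ p ^ m = ι j := by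
      intro w hw
      induction hw using Submodule.span_induction with
      | mem x hx => obtain ⟨z, hz, rfl⟩ := hx; exact ⟨nz z, qz z, Ideal.subset_span (Finset.mem_coe.mpr (Finset.mem_image_of_mem _ hz)), (hqz z).symm⟩
      | zero => exact ⟨0, 0, zero_mem _, by simp⟩
      | add x x' _ _ hx hx' =>
        obtain ⟨m, j, hj, hxj⟩ := hx
        obtain ⟨m', j', hj', hxj'⟩ := hx'
        refine ⟨m + m', j ^ p ^ m' + j' ^ p ^ m, add_mem (Ideal.pow_mem_of_mem _ hj _ (pow_pos (Fact.out : p.Prime).pos _)) (Ideal.pow_mem_of_mem _ hj' _ (pow_pos (Fact.out : p.Prime).pos _)), ?_⟩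
        rw [add_pow_char_pow, map_add, map_pow, map_pow, ← hxj, ← hxj', ← pow_mul, ← pow_mul, ← pow_add, ← pow_add, add_comm m' m]
      | smul a x _ hx =>
        obtain ⟨m, j, hj, hxj⟩ := hx
        obtain ⟨m', c, hc⟩ := IsPRadical.pow_mem ι p a
        refine ⟨m + m', c ^ p ^ m * j ^ p ^ m', Ideal.mul_mem_left _ _ (Ideal.pow_mem_of_mem _ hj _ (pow_pos (Fact.out : p.Prime).pos _)), ?_⟩
        rw [smul_eq_mul, mul_pow, map_mul, map_pow, map_pow, hc, ← hxj, ← pow_mul, ← pow_mul, ← pow_add, ← pow_add, add_comm m' m]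
    obtain ⟨m, j, hj, hjm⟩ := hclaim _ hN
    have h1 : ι (h ^ (N * p ^ m) - j) = 0 := by rw [map_sub, map_pow, pow_mul, hjm, sub_self]
    obtain ⟨r, hr⟩ := mem_pNilradical.mp (IsPRadical.ker_le ι p (RingHom.mem_ker.mpr h1))
    rw [sub_pow_char_pow, sub_eq_zero] at hr
    obtain ⟨n, hn⟩ : ∃ n, N * p ^ m * p ^ r ≤ p ^ n := ⟨_, (Nat.lt_pow_self (Fact.out : p.Prime).one_lt).le⟩
    refine ⟨n, ?_⟩
    obtain ⟨d, hd⟩ := Nat.exists_eq_add_of_le hn
    rw [hd, pow_add, pow_mul, hr]
    exact Ideal.mul_mem_right _ _ (Ideal.pow_mem_of_mem _ hj _ (pow_pos (Fact.out : p.Prime).pos _))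
  refine ⟨M ⧸ J, inferInstance, inferInstance, Algebra.FinitePresentation.quotient ⟨_, rfl⟩,
    Ideal.Quotient.lift J e heJ, ?_, ⟨?_, ?_⟩⟩
  · ext b
    show e (algebraMap B M b) = _
    rw [MvPolynomial.algebraMap_eq]; exact heC b
  · intro a
    obtain ⟨n, q, hq⟩ := hrange a
    exact ⟨n, Ideal.Quotient.mk J q, hq⟩
  · intro q hq
    obtain ⟨q, rfl⟩ := Ideal.Quotient.mk_surjective q
    obtain ⟨n, hn⟩ := hkey q hq
    exact mem_pNilradical.mpr ⟨n, by rw [← map_pow]; exact Ideal.Quotient.eq_zero_iff_mem.mpr hn⟩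

/-- Let p be a prime, B a perfect ring of characteristic p and A a perfect B-algebra (p = 0 in A and the
p-th power map of A is bijective). Suppose A is a finitely presentable object of the category of
perfect B-algebras (the full subcategory of B-algebras on the perfect ones): B-algebra maps from A
into a filtered colimit of perfect B-algebras factor through some term of the system, uniquely after
passing to a later term. Then A is perfectly finitely presented over B: there are a finitely
presented B-algebra A₀ and a B-algebra homomorphism k : A₀ → A which exhibits A as a perfect closure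
of A₀ (every element of A has some p^n-th power in the image of k, and every element of the kernel
of k is nilpotent). (The published statement is the equivalence, for morphisms of quasi-compact
quasi-separated perfect schemes, of perfect finite presentation with a compactness condition ranging
over cofiltered systems of perfect schemes with affine transition maps; this row is the case of
affine schemes with the compactness condition tested on affine systems only, which is all the
published argument uses.) -/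
theorem result (p : ℕ) [Fact p.Prime] (B : CommRingCat.{u})
    [CharP B p] [PerfectRing B p]
    (A : ObjectProperty.FullSubcategory fun Y : Under B => (p : Y.right) = 0 ∧ Function.Bijective fun y : Y.right => y ^ p)
    [IsFinitelyPresentable.{u} A] :
    ∃ (A₀ : Type u) (_ : CommRing A₀) (_ : Algebra B A₀) (_ : Algebra.FinitePresentation B A₀)
      (k : A₀ →+* A.obj.right), k.comp (algebraMap B A₀) = A.obj.hom.hom ∧ IsPRadical k p := by
  rcases subsingleton_or_nontrivial A.obj.right with hA | hA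
  · refine ⟨B ⧸ Ideal.span {(1 : B)}, inferInstance, inferInstance, ?_, Ideal.Quotient.lift _ A.obj.hom.hom (fun _ _ => Subsingleton.elim _ _), rfl, ⟨fun a => ⟨0, 1, Subsingleton.elim _ _⟩, ?_⟩⟩
    · exact Algebra.FinitePresentation.quotient (Submodule.fg_span_singleton _)
    · intro q _
      have : Subsingleton (B ⧸ Ideal.span {(1 : B)}) := Ideal.Quotient.subsingleton_iff.mpr (by simp)
      exact mem_pNilradical.mpr ⟨0, Subsingleton.elim _ _⟩
  · haveI : CharP A.obj.right p := (CharP.charP_iff_prime_eq_zero (Fact.out : p.Prime)).mpr A.property.1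
    exact model A

end Groth.Agent.S14261
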