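import Groth.Statements.S14262
import Mathlib

set_option autoImplicit false
universe u
open FrobAlg

namespace Groth.Agent.S14262

/-- Let p be a prime, A a perfect ring of characteristic p and f ∈ A. The radical of the principal ideal
(f) — equivalently the ideal generated by all p^n-th roots of f, n ≥ 0 — is a flat A-module. -/
theorem result (p : ℕ) [Fact p.Prime] (A : Type u) [CommRing A]
    [CharP A p] [PerfectRing A p] (f : A) :
    Module.Flat A ((Ideal.span {f}).radical) := by
  let g : ℕ → A := fun n => (⇑(frobeniusEquiv A p).symm)^[n] f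
  have hg : ∀ n, g (n + 1) ^ p = g n := fun n => by
    show ((⇑(frobeniusEquiv A p).symm)^[n + 1] f) ^ p = _
    rw [Function.iterate_succ_apply']
    exact frobeniusEquiv_symm_pow_p A p _
  have hgp : ∀ n, g n ^ p ^ n = f := fun n => by
    induction n with
    | zero => simp [g]
    | succ n ih => rw [pow_succ', pow_mul, hg, ih]
  have hmem : ∀ n, ∀ j, 0 < j → g n ^ j ∈ (Ideal.span {f}).radical := fun n j hj => by
    refine ⟨p ^ n, ?_⟩
    rw [← pow_mul, mul_comm, pow_mul, hgp]
    exact Ideal.pow_mem_of_mem _ (Ideal.mem_span_singleton_self f) _ hj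
  have hdiv : ∀ x ∈ (Ideal.span {f}).radical, ∃ n, ∀ m ≥ n, ∃ a, x = a * g m := fun x hx => by
    obtain ⟨N, hN⟩ := hx
    obtain ⟨n, hn⟩ : ∃ n, N ≤ p ^ n := ⟨N, (Nat.lt_pow_self (Fact.out : p.Prime).one_lt).le⟩
    refine ⟨n, fun m hm => ?_⟩
    obtain ⟨c, hc⟩ := Ideal.mem_span_singleton.1 (Ideal.pow_mem_of_pow_mem (Ideal.span {f}) hN
      (hn.trans (Nat.pow_le_pow_right (Fact.out : p.Prime).pos hm)))
    obtain ⟨d, rfl⟩ := (iterateFrobeniusEquiv A p m).surjective c
    refine ⟨d, (iterateFrobeniusEquiv A p m).injective ?_⟩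
    rw [iterateFrobeniusEquiv_def, iterateFrobeniusEquiv_def, mul_pow, hgp, hc, iterateFrobeniusEquiv_def, mul_comm]
  haveI : IsReduced A := ⟨fun x ⟨m, hm⟩ => (iterateFrobeniusEquiv A p m).injective (by
    rw [iterateFrobeniusEquiv_def, iterateFrobeniusEquiv_def, pow_eq_zero_of_le (Nat.lt_pow_self (Fact.out : p.Prime).one_lt).le hm,
      zero_pow (pow_ne_zero _ (Fact.out : p.Prime).ne_zero)])⟩
  rw [Module.Flat.iff_forall_isTrivialRelation]
  intro l r x h
  choose n hn using fun i => hdiv _ (x i).2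
  let N := Finset.univ.sup n
  choose a ha using fun i => hn i N (Finset.le_sup (Finset.mem_univ i))
  have h' : (∑ i, r i * a i) * g N = 0 := by
    have := congrArg Subtype.val h
    simp only [Submodule.coe_sum, SetLike.val_smul, smul_eq_mul, ZeroMemClass.coe_zero, ha] at this
    rw [Finset.sum_mul]
    simpa only [mul_assoc] using this
  have h'' : (∑ i, r i * a i) * g (N + 1) = 0 := by
    refine IsReduced.eq_zero _ ⟨p, ?_⟩
    rw [mul_pow, hg, ← Nat.sub_add_cancel (Fact.out : p.Prime).one_le, pow_succ', mul_comm _ (g N),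
      ← mul_assoc, mul_comm (g N), h', zero_mul]
  refine ⟨1, fun i _ => a i * g (N + 1), fun _ => ⟨g (N + 1) ^ (p - 1), hmem _ _ ?_⟩, fun i => ?_, fun j => ?_⟩
  · have := (Fact.out : p.Prime).two_le; omega
  · refine Subtype.ext ?_
    simp only [Fin.sum_univ_one, SetLike.val_smul, smul_eq_mul, ha]
    rw [mul_assoc, ← pow_succ', Nat.sub_add_cancel (Fact.out : p.Prime).one_le, hg]
  · rw [← h'', Finset.sum_mul]
    simp only [mul_assoc]

end Groth.Agent.S14262
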