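import Groth.Statements.S14269
import Groth.Agent.PuncConnLib.Descend
-- import your own Groth.Agent.* helpers here

set_option autoImplicit false
universe u
open Pi1

namespace Groth.Agent.S14269

open AlgebraicGeometry CategoryTheory CategoryTheory.Limits TopologicalSpace in
theorem clopensDescend (A : Type u) [CommRing A] [IsLocalRing A] [IsNoetherianRing A]
    (h : ∀ (B : Type u) [CommRing B] [Algebra A B] [Module.Finite A B] [Algebra.Etale A B] (n : Ideal B)
      [n.IsMaximal], PuncConnLib.PConn (Localization.AtPrime n)) :
    FEtLib.ClopensDescend (FEt.puncturedSpec A).ι := by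
  intro W V hV
  let w : W.left ⟶ Spec (CommRingCat.of A) := W.hom
  haveI : IsFinite w := W.prop.1
  haveI : AlgebraicGeometry.Etale w := W.prop.2
  haveI : IsAffine W.left := isAffine_of_isAffineHom w
  let B : CommRingCat.{u} := Γ(W.left, ⊤)
  let φ : CommRingCat.of A ⟶ B := Spec.preimage (W.left.isoSpec.inv ≫ w)
  have hφ : Spec.map φ = W.left.isoSpec.inv ≫ w := Spec.map_preimage _
  letI : Algebra A B := φ.hom.toAlgebra
  haveI : Module.Finite A B := by
    have : IsFinite (Spec.map φ) := hφ ▸ MorphismProperty.comp_mem _ _ _ inferInstance inferInstance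
    exact (IsFinite.SpecMap_iff φ).1 this
  haveI : Algebra.Etale A B := by
    have : AlgebraicGeometry.Etale (Spec.map φ) := hφ ▸ MorphismProperty.comp_mem _ _ _ inferInstance inferInstance
    exact RingHom.etale_algebraMap.1 (HasRingHomProperty.Spec_iff.1 this)
  haveI : IsNoetherianRing B := IsNoetherianRing.of_finite A B
  haveI : Algebra.IsIntegral A B := Algebra.IsIntegral.of_finite A B
  let p := FEtLib.bcFst (FEt.puncturedSpec A).ι W
  let ψ : PrimeSpectrum B → W.left := fun y => W.left.isoSpec.inv y
  have hψc : Continuous ψ := W.left.isoSpec.inv.continuous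
  let Wp : Set (PrimeSpectrum B) :=
    {y | PrimeSpectrum.comap (algebraMap A B) y ≠ IsLocalRing.closedPoint A}
  haveI : IsOpenImmersion p :=
    MorphismProperty.pullback_fst (P := @IsOpenImmersion) _ _ inferInstance
  let q : ((FEt.restrict (FEt.puncturedSpec A).ι).obj W).left → PrimeSpectrum B :=
    fun z => W.left.isoSpec.hom (p z)
  have hq : Topology.IsOpenEmbedding q :=
    (Scheme.homeoOfIso W.left.isoSpec).isOpenEmbedding.comp p.isOpenEmbedding
  have hrange : Set.range q = Wp := by
    have hp : Set.range p = w ⁻¹' (FEt.puncturedSpec A : Set _) := by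
      show Set.range (pullback.fst W.hom (FEt.puncturedSpec A).ι) = _
      rw [IsOpenImmersion.range_pullbackFst]
      exact congrArg (w ⁻¹' ·) (Scheme.Opens.range_ι _)
    have hinv : ∀ x : W.left, W.left.isoSpec.inv (W.left.isoSpec.hom x) = x := fun x => by
      rw [← Scheme.Hom.comp_apply, Iso.hom_inv_id]; rfl
    have hhom : ∀ y : Spec B, W.left.isoSpec.hom (W.left.isoSpec.inv y) = y := fun y => by
      rw [← Scheme.Hom.comp_apply, Iso.inv_hom_id]; rfl
    have hy : ∀ y : Spec B, PrimeSpectrum.comap (algebraMap A B) y = w (W.left.isoSpec.inv y) := fun y => by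
      rw [← Scheme.Hom.comp_apply, ← hφ]
      rfl
    ext y
    constructor
    · rintro ⟨z, rfl⟩
      refine fun he => hp.le ⟨z, rfl⟩ ?_
      show w (p z) = IsLocalRing.closedPoint A
      rw [← hinv (p z)]
      exact (hy _).symm.trans he
    · intro hyW
      obtain ⟨z, hz⟩ := hp.ge (show W.left.isoSpec.inv y ∈ w ⁻¹' _ from fun he => hyW ((hy y).trans he))
      exact ⟨z, (congrArg W.left.isoSpec.hom hz).trans (hhom y)⟩
  have hun : q '' V ∪ q '' Vᶜ = Wp := by
    rw [← Set.image_union, Set.union_compl_self, Set.image_univ, hrange]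
  obtain ⟨hc, hcV⟩ := PuncConnLib.exists_clopen_extend
    (fun V hV x hx => PuncConnLib.exists_specializes_of_mem_closure V hV x hx) (W := Wp)
    (fun x hx => by
      have hxm : PrimeSpectrum.comap (algebraMap A B) x = IsLocalRing.closedPoint A := not_not.1 hx
      haveI : (x.asIdeal.comap (algebraMap A B)).IsMaximal := by
        rw [show x.asIdeal.comap (algebraMap A B) = _ from congrArg PrimeSpectrum.asIdeal hxm]
        exact IsLocalRing.maximalIdeal.isMaximal A
      haveI : x.asIdeal.IsMaximal := Ideal.isMaximal_of_isIntegral_of_isMaximal_comap (R := A) x.asIdeal inferInstance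
      exact PuncConnLib.isConnected_generizations x (h B x.asIdeal))
    (hq.isOpenMap _ hV.2) (hq.isOpenMap _ hV.compl.2)
    ((Set.disjoint_image_iff hq.injective).2 disjoint_compl_right) hun
  refine ⟨W.left.isoSpec.hom ⁻¹' closure (q '' V), hc.preimage W.left.isoSpec.hom.continuous, ?_⟩
  ext z
  show q z ∈ closure (q '' V) ↔ z ∈ V
  refine ⟨fun hz => ?_, fun hz => subset_closure ⟨z, hz, rfl⟩⟩
  exact hq.injective.mem_set_image.1 (hcV.le ⟨hz, hrange ▸ ⟨z, rfl⟩⟩)

open AlgebraicGeometry CategoryTheory CategoryTheory.Limits in
/-- Let A be a Noetherian local ring of virtual dimension at least 2, the virtual dimension being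
expressed through a presentation of the adic completion of A as a quotient S/I of a complete regular
local ring S of Krull dimension d by an ideal I generated by a finite set of at most d - 2 elements.
Then the restriction functor from finite etale covers of Spec A to finite etale covers of the
punctured spectrum is fully faithful, and the punctured spectrum is connected. (The published
statement also records the surjectivity of the induced map on etale fundamental groups, which is the
usual reformulation of full faithfulness and is not restated here.) -/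
theorem result (A : Type u) [CommRing A] [IsNoetherianRing A] [IsLocalRing A]
    (S : Type u) [CommRing S] [IsRegularLocalRing S] [IsAdicComplete (IsLocalRing.maximalIdeal S) S]
    (d : ℕ) (hd : ringKrullDim S = d) (s : Finset S) (hs : s.card + 2 ≤ d)
    (e : AdicCompletion (IsLocalRing.maximalIdeal A) A ≃+* S ⧸ Ideal.span (s : Set S)) :
    ((FEt.restrict (FEt.puncturedSpec A).ι).Full ∧ (FEt.restrict (FEt.puncturedSpec A).ι).Faithful) ∧
      ConnectedSpace ↥(FEt.puncturedSpec A : Scheme.{u}) := by
  obtain ⟨π, hπ, hker, hres, hm, hflat⟩ : ∃ π : S →+* AdicCompletion (IsLocalRing.maximalIdeal A) A,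
      Function.Surjective π ∧ RingHom.ker π = Ideal.span (s : Set S) ∧
      (∀ r : AdicCompletion (IsLocalRing.maximalIdeal A) A, ∃ a : A, r - algebraMap A _ a ∈
        (IsLocalRing.maximalIdeal A).map (algebraMap A (AdicCompletion (IsLocalRing.maximalIdeal A) A))) ∧
      True ∧ Module.Flat A (AdicCompletion (IsLocalRing.maximalIdeal A) A) := by
    haveI := RegLocal.faithfullyFlat_completion A (IsLocalRing.maximalIdeal A) (IsLocalRing.maximalIdeal.isMaximal A).ne_top
    refine ⟨e.symm.toRingHom.comp (Ideal.Quotient.mk _), e.symm.surjective.comp Ideal.Quotient.mk_surjective,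
      ?_, fun r => ?_, trivial, inferInstance⟩
    · rw [RingHom.ker_comp_of_injective _ e.symm.injective, Ideal.mk_ker]
    · obtain ⟨a, ha⟩ := Ideal.Quotient.mk_surjective (AdicCompletion.evalOneₐ (IsLocalRing.maximalIdeal A) r)
      refine ⟨a, ?_⟩
      rw [← AdicCompletion.ker_evalOneₐ_eq_map _ (IsLocalRing.maximalIdeal A).fg_of_isNoetherianRing,
        RingHom.mem_ker, map_sub, sub_eq_zero]
      exact ha.symm.trans ((AlgHom.commutes _ a).symm)
  have hne := (IsLocalRing.maximalIdeal.isMaximal A).ne_top
  haveI := RegLocal.isLocalRing_completion A (IsLocalRing.maximalIdeal A) hne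
  have hmax := RegLocal.maximalIdeal_completion A (IsLocalRing.maximalIdeal A) hne
  have hA : PuncConnLib.PConn A := by
    haveI := RegLocal.faithfullyFlat_completion A (IsLocalRing.maximalIdeal A) hne
    haveI : IsLocalHom (algebraMap A (AdicCompletion (IsLocalRing.maximalIdeal A) A)) := by
      refine ((IsLocalRing.local_hom_TFAE _).out 0 2).mpr ?_
      rw [hmax]
    haveI : IsDomain S := S0558.result S
    exact (PuncConnLib.pconn_of_surjective hd s hs π hπ hker).of_hom _
      PrimeSpectrum.comap_surjective_of_faithfullyFlat hmax.le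
  have hloc : ∀ (B : Type u) [CommRing B] [Algebra A B] [Module.Finite A B] [Algebra.Etale A B] (n : Ideal B)
      [n.IsMaximal], PuncConnLib.PConn (Localization.AtPrime n) := fun B _ _ _ _ n _ =>
    PuncConnLib.pconn_localization hd s hs hmax (fun r => hmax.symm ▸ hres r) π hπ hker B n
  haveI : IsNoetherianRing (CommRingCat.of A : Type u) := inferInstanceAs (IsNoetherianRing A)
  have hr : FEtLib.MeetsClopens (FEt.puncturedSpec A).ι := fun U hU hne => by
    obtain ⟨x, hx⟩ := hne
    obtain ⟨q, hq⟩ := PuncConnLib.exists_ne_closedPoint hA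
    have hc : IsLocalRing.closedPoint A ∈ U := (IsLocalRing.specializes_closedPoint (R := A) x).mem_closed hU.1 hx
    have hqU : q ∈ U := (IsLocalRing.specializes_closedPoint (R := A) q).mem_open hU.2 hc
    exact ⟨⟨q, hq⟩, hqU⟩
  exact ⟨⟨FEtLib.full _ hr (clopensDescend A hloc), FEtLib.faithful _ hr⟩,
    isConnected_iff_connectedSpace.1 hA⟩

end Groth.Agent.S14269
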