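import Groth.Statements.S14271
import Mathlib

set_option autoImplicit false
universe u
open FlatPur

namespace Groth.Agent.S14271

open CategoryTheory CategoryTheory.Limits AlgebraicGeometry

/-- A section on an affine open vanishing on a scheme-theoretically dense part vanishes. -/
theorem eq_zero {X : Scheme.{u}} (U : X.Opens)
    (hZ : ∀ z : X, z ∉ U → ∃ a ∈ IsLocalRing.maximalIdeal (X.presheaf.stalk z), IsSMulRegular (X.presheaf.stalk z) a)
    {V : X.Opens} (hV : IsAffineOpen V) (b : Γ(X, V))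
    (hb : ∀ u (hu : u ∈ V), u ∈ U → X.presheaf.germ V u hu b = 0) : b = 0 := by
  by_contra hne
  let J : Ideal Γ(X, V) := LinearMap.ker (LinearMap.toSpanSingleton Γ(X, V) Γ(X, V) b)
  have hJ : J ≠ ⊤ := fun h => hne (by
    have : (1 : Γ(X, V)) ∈ J := h ▸ Submodule.mem_top
    simpa [J] using this)
  obtain ⟨M, hM, hJM⟩ := J.exists_le_maximal hJ
  obtain ⟨P, hP, -⟩ := Ideal.exists_minimalPrimes_le hJM
  have : P.IsPrime := hP.1.1
  let w : PrimeSpectrum Γ(X, V) := ⟨P, hP.1.1⟩
  let z := hV.fromSpec w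
  have hzV : z ∈ V := hV.range_fromSpec.le ⟨w, rfl⟩
  let : Algebra Γ(X, V) (X.presheaf.stalk z) := X.presheaf.algebra_section_stalk ⟨z, hzV⟩
  have hloc : IsLocalization.AtPrime (X.presheaf.stalk z) P := hV.isLocalization_stalk' w hzV
  have hne0 : algebraMap Γ(X, V) (X.presheaf.stalk z) b ≠ 0 := by
    intro h0
    obtain ⟨⟨m, hm⟩, hmb⟩ := (IsLocalization.map_eq_zero_iff P.primeCompl _ b).mp h0
    exact hm (hP.1.2 (show m • b = 0 from hmb))
  have hzU : z ∉ U := fun h => hne0 (hb z hzV h)
  obtain ⟨t, ht, hreg⟩ := hZ z hzU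
  let K : Ideal (X.presheaf.stalk z) := J.map (algebraMap Γ(X, V) (X.presheaf.stalk z))
  have hrad : IsLocalRing.maximalIdeal (X.presheaf.stalk z) ≤ K.radical := by
    rw [Ideal.radical_eq_sInf]
    refine le_sInf fun Q ⟨hKQ, hQ⟩ => ?_
    have h1 := Ideal.comap_mono (f := algebraMap Γ(X, V) (X.presheaf.stalk z)) hKQ
    have h2 := (IsLocalization.isPrime_iff_isPrime_disjoint P.primeCompl _ Q).mp hQ
    have h3 : Q.comap (algebraMap Γ(X, V) (X.presheaf.stalk z)) ≤ P := fun a ha => by
      by_contra hc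
      exact Set.disjoint_left.mp h2.2 hc ha
    have h4 := hP.2 ⟨h2.1, Ideal.le_comap_map.trans h1⟩ h3
    have h5 : (P.map (algebraMap Γ(X, V) (X.presheaf.stalk z))) ≤ Q :=
      Ideal.map_le_iff_le_comap.mpr h4
    rwa [IsLocalization.AtPrime.map_eq_maximalIdeal] at h5
  obtain ⟨n, hn⟩ := hrad ht
  have hkill : ∀ x ∈ K, x * algebraMap Γ(X, V) (X.presheaf.stalk z) b = 0 := by
    intro x hx
    have : K ≤ LinearMap.ker (LinearMap.toSpanSingleton _ _
        (algebraMap Γ(X, V) (X.presheaf.stalk z) b)) := by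
      rw [Ideal.map_le_iff_le_comap]
      intro a (ha : a • b = 0)
      show algebraMap Γ(X, V) (X.presheaf.stalk z) a * algebraMap Γ(X, V) (X.presheaf.stalk z) b = 0
      rw [← map_mul, ← smul_eq_mul, ha, map_zero]
    exact this hx
  refine hne0 ((hreg.pow n) ?_)
  simpa using hkill _ hn

open AlgebraicGeometry CategoryTheory CategoryTheory.Limits in
/-- Let X be a scheme and U an open subscheme whose inclusion is quasi-compact, such that for every
point z of X outside U the maximal ideal of O_{X,z} contains an element that is regular (a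
nonzerodivisor) on that local ring. Then for every separated X-scheme Y the restriction map from
X-sections of Y to U-sections of Y is injective: two sections of Y -> X that agree on U are equal. -/
theorem result (X : Scheme.{u}) (U : X.Opens) [QuasiCompact U.ι]
    (hZ : ∀ z : X, z ∉ U → ∃ a ∈ IsLocalRing.maximalIdeal (X.presheaf.stalk z), IsSMulRegular (X.presheaf.stalk z) a)
    (Y : Scheme.{u}) (f : Y ⟶ X) [IsSeparated f] (s₁ s₂ : X ⟶ Y) (h₁ : s₁ ≫ f = 𝟙 X) (h₂ : s₂ ≫ f = 𝟙 X)
    (hU : U.ι ≫ s₁ = U.ι ≫ s₂) : s₁ = s₂ := by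
  let X' : Over X := Over.mk (𝟙 X)
  let Y' : Over X := Over.mk f
  let a : X' ⟶ Y' := Over.homMk s₁ h₁
  let b : X' ⟶ Y' := Over.homMk s₂ h₂
  have : IsSeparated Y'.hom := ‹_›
  let ι := (equalizer.ι a b).left
  have : IsClosedImmersion ι := inferInstanceAs (IsClosedImmersion (equalizer.ι a b).left)
  suffices IsIso ι by
    rw [← cancel_epi ι]
    exact congr($(equalizer.condition a b).left)
  have hker : ι.ker = ⊥ := by
    let U' : Over X := Over.mk U.ι
    let j : U' ⟶ X' := Over.homMk U.ι (Category.comp_id _)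
    have hj : j ≫ a = j ≫ b := Over.OverMorphism.ext hU
    refine bot_unique ((Scheme.Hom.le_ker_comp (equalizer.lift j hj).left ι).trans ?_)
    rw [show (equalizer.lift j hj).left ≫ ι = U.ι from
      congr($(equalizer.lift_ι j hj).left)]
    intro V b hb
    rw [Scheme.IdealSheafData.ideal_bot, Pi.bot_apply, Ideal.mem_bot]
    refine eq_zero U hZ V.2 b fun u huV huU => ?_
    have hb' : U.ι.app V.1 b = 0 := by
      rw [Scheme.Hom.ker_apply] at hb
      exact hb
    have := congrArg ((U : Scheme.{u}).presheaf.germ _ (⟨u, huU⟩ : U) huV) hb'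
    refine (ConcreteCategory.bijective_of_isIso (U.ι.stalkMap (⟨u, huU⟩ : U))).1 ?_
    refine Eq.trans ?_ (map_zero (U.ι.stalkMap (⟨u, huU⟩ : U)).hom).symm
    exact ((Scheme.Hom.germ_stalkMap_apply U.ι V.1 (⟨u, huU⟩ : U) huV b).trans this).trans (map_zero _)
  have : IsIso ι.imageι := by
    show IsIso ι.ker.subschemeι
    rw [hker]; infer_instance
  rw [← ι.toImage_imageι]
  infer_instance

end Groth.Agent.S14271
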