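import Groth.Statements.S14274
import Mathlib.AlgebraicGeometry.Morphisms.LocalFlatDescent
import Groth.Agent.DepthTwoExtLib.Basic
import Groth.Agent.RhoShLib.Depth
import Groth.Agent.PrincBundLib.Descends
import Groth.Agent.FpqcDesc.Basic
-- import your own Groth.Agent.* helpers here

set_option autoImplicit false
universe u
open scoped CategoryTheory.Obj
open NonAbH1

set_option backward.isDefEq.respectTransparency false
set_option linter.style.haveILetI false
set_option maxHeartbeats 1000000

namespace Groth.Agent.S14274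

section
open AlgebraicGeometry CategoryTheory CategoryTheory.Limits IsLocalRing RingTheory.Sequence

/-- A regular local ring of dimension at least two has a regular pair in its maximal ideal. -/
theorem exists_pair (R : Type u) [CommRing R] [IsRegularLocalRing R] (h : (2 : WithBot ℕ∞) ≤ ringKrullDim R) :
    ∃ a b : R, a ∈ maximalIdeal R ∧ b ∈ maximalIdeal R ∧ IsWeaklyRegular R [a, b] := by
  refine RhoShLib.exists_list_of_two_le _ (maximalIdeal.isMaximal R).ne_top fun P hP hle => ?_
  rw [((maximalIdeal.isMaximal R).eq_of_le hP.ne_top hle).symm]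
  rw [← IsLocalRing.maximalIdeal_height_eq_ringKrullDim] at h
  exact WithBot.coe_le_coe.1 h

/-- Morphisms from a flat scheme to an affine one extend uniquely across codimension two. -/
theorem existsUnique_hom_extend {X : Scheme.{u}} (U : X.Opens) [QuasiCompact U.ι]
    (hZ : ∀ z : X, z ∉ U → IsRegularLocalRing (X.presheaf.stalk z) ∧ (2 : WithBot ℕ∞) ≤ ringKrullDim (X.presheaf.stalk z))
    (Q R : Over X) [Flat Q.hom] [IsAffineHom R.hom]
    (t : (Over.pullback U.ι).obj Q ⟶ (Over.pullback U.ι).obj R) :
    ∃! h : Q ⟶ R, (Over.pullback U.ι).map h = t := by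
  let f : pullback Q.hom U.ι ⟶ Q.left := pullback.fst Q.hom U.ι
  let V : Q.left.Opens := f.opensRange
  have hV : f.isoOpensRange.hom ≫ V.ι = f := f.isoOpensRange_hom_ι
  have hV' : f.isoOpensRange.inv ≫ f = V.ι := f.isoOpensRange_inv_comp
  haveI : QuasiCompact f := MorphismProperty.pullback_fst _ _ ‹_›
  haveI : QuasiCompact V.ι := hV' ▸ inferInstance
  have hreg : ∀ z : Q.left, z ∉ V → ∃ a b : Q.left.presheaf.stalk z, a ∈ maximalIdeal (Q.left.presheaf.stalk z) ∧
      b ∈ maximalIdeal (Q.left.presheaf.stalk z) ∧ IsWeaklyRegular (Q.left.presheaf.stalk z) [a, b] := by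
    intro z hz
    have hzU : Q.hom z ∉ U := fun hU => hz (by
      show z ∈ Set.range f
      rw [IsOpenImmersion.range_pullbackFst, Scheme.Opens.opensRange_ι]
      exact hU)
    obtain ⟨hR, hd⟩ := hZ _ hzU
    haveI := hR
    obtain ⟨a, b, ha, hb, hab⟩ := exists_pair _ hd
    letI := (Q.hom.stalkMap z).hom.toAlgebra
    haveI : Module.Flat (X.presheaf.stalk (Q.hom z)) (Q.left.presheaf.stalk z) := Flat.stalkMap Q.hom z
    refine ⟨(Q.hom.stalkMap z).hom a, (Q.hom.stalkMap z).hom b, map_nonunit (Q.hom.stalkMap z).hom a ha,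
      map_nonunit (Q.hom.stalkMap z).hom b hb, ?_⟩
    exact hab.of_flat (S := Q.left.presheaf.stalk z)
  let t₀ : pullback Q.hom U.ι ⟶ R.left := t.left ≫ pullback.fst R.hom U.ι
  have ht₀ : t₀ ≫ R.hom = f ≫ Q.hom := by
    show (t.left ≫ pullback.fst R.hom U.ι) ≫ R.hom = pullback.fst Q.hom U.ι ≫ Q.hom
    rw [Category.assoc, pullback.condition, pullback.condition, ← Category.assoc]
    exact congrArg (· ≫ U.ι) (Over.w t)
  let g := pullback.fst Q.hom R.hom
  haveI : IsAffineHom g := MorphismProperty.pullback_fst _ _ ‹_›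
  let t₁ : (V : Scheme.{u}) ⟶ pullback Q.hom R.hom := pullback.lift V.ι (f.isoOpensRange.inv ≫ t₀)
    (by rw [Category.assoc, ht₀, ← Category.assoc, hV'])
  obtain ⟨s, ⟨hs, hst⟩, huniq⟩ := DepthTwoExtLib.existsUnique_extend V hreg _ g t₁ (pullback.lift_fst _ _ _)
  let h : Q ⟶ R := Over.homMk (s ≫ pullback.snd Q.hom R.hom) (by
    rw [Category.assoc, ← pullback.condition, ← Category.assoc, hs, Category.id_comp])
  have key : ∀ k : Q ⟶ R, (Over.pullback U.ι).map k = t ↔ V.ι ≫ k.left = f.isoOpensRange.inv ≫ t₀ := by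
    intro k
    constructor
    · intro hk
      have h1 : t.left ≫ pullback.fst R.hom U.ι = f ≫ k.left := by
        rw [← hk]
        exact pullback.lift_fst _ _ _
      show _ = f.isoOpensRange.inv ≫ (t.left ≫ pullback.fst R.hom U.ι)
      rw [h1, ← Category.assoc, hV']
    · intro hk
      ext : 1
      apply pullback.hom_ext
      · refine (pullback.lift_fst _ _ _).trans ?_
        have h1 := congrArg (f.isoOpensRange.hom ≫ ·) hk
        simp only [Iso.hom_inv_id_assoc] at h1
        rw [← Category.assoc, hV] at h1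
        exact h1
      · exact (pullback.lift_snd _ _ _).trans (Over.w t).symm
  refine ⟨h, (key h).2 ?_, fun k hk => ?_⟩
  · show V.ι ≫ s ≫ pullback.snd Q.hom R.hom = _
    rw [← Category.assoc, hst]
    exact pullback.lift_snd _ _ _
  · have h2 : pullback.lift (𝟙 Q.left) k.left (by simp) = s := by
      refine huniq _ ⟨pullback.lift_fst _ _ _, pullback.hom_ext ?_ ?_⟩
      · rw [Category.assoc, pullback.lift_fst, pullback.lift_fst, Category.comp_id]
      · rw [Category.assoc, pullback.lift_snd, pullback.lift_snd]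
        exact (key k).1 hk
    ext : 1
    show k.left = s ≫ pullback.snd Q.hom R.hom
    rw [← h2, pullback.lift_snd]

end

open AlgebraicGeometry CategoryTheory CategoryTheory.Limits MonoidalCategory in
/-- Let X be a scheme, G a finite locally free X-group scheme (finite, flat and locally of finite
presentation over X, not necessarily commutative), and U an open subscheme of X whose inclusion is
quasi-compact, such that for every point z of X outside U the local ring of X at z is regular of
Krull dimension at least 2. Let Q₁ and Q₂ be fppf G-torsors over X. Then every U-morphism between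
their base changes to U that is equivariant for the base-changed group is the base change of a
unique G-equivariant X-morphism Q₁ -> Q₂. (With the essential-surjectivity row this is the statement
that pullback is an equivalence from G-torsors over X to torsors over U under the base change of G.) -/
theorem result {X : Scheme.{u}} (G : Over X) [GrpObj G]
    [IsFinite G.hom] [Flat G.hom] [LocallyOfFinitePresentation G.hom]
    (U : X.Opens) [QuasiCompact U.ι]
    (hZ : ∀ z : X, z ∉ U → IsRegularLocalRing (X.presheaf.stalk z) ∧ (2 : WithBot ℕ∞) ≤ ringKrullDim (X.presheaf.stalk z))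
    (Q₁ Q₂ : Over X) (a₁ : AlgGrp.Action G Q₁) (a₂ : AlgGrp.Action G Q₂)
    (h₁ : NonAbH1.IsTorsorFor Scheme.fppfPrecoverage a₁) (h₂ : NonAbH1.IsTorsorFor Scheme.fppfPrecoverage a₂)
    (h' : (Over.pullback U.ι).obj Q₁ ⟶ (Over.pullback U.ι).obj Q₂)
    (hh' : (Functor.LaxMonoidal.μ (Over.pullback U.ι) G Q₁ ≫ (Over.pullback U.ι).map a₁.act) ≫ h' =
      ((Over.pullback U.ι).obj G ◁ h') ≫ (Functor.LaxMonoidal.μ (Over.pullback U.ι) G Q₂ ≫ (Over.pullback U.ι).map a₂.act)) :
    ∃! h : Q₁ ⟶ Q₂, a₁.act ≫ h = (G ◁ h) ≫ a₂.act ∧ (Over.pullback U.ι).map h = h' := by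
  have h₁' : NonAbH1.IsTorsorFor Scheme.fpqcPrecoverage a₁ :=
    ⟨h₁.1, h₁.2.imp fun R hR => ⟨Scheme.fppfPrecoverage_le_fpqcPrecoverage _ hR.1, hR.2⟩⟩
  have h₂' : NonAbH1.IsTorsorFor Scheme.fpqcPrecoverage a₂ :=
    ⟨h₂.1, h₂.2.imp fun R hR => ⟨Scheme.fppfPrecoverage_le_fpqcPrecoverage _ hR.1, hR.2⟩⟩
  haveI : Flat Q₁.hom := PrincBundLib.property_of_torsor @Flat a₁ h₁' inferInstance
  haveI := FpqcDesc.isAffineHom_descends.{u}
  haveI : IsAffineHom Q₂.hom := PrincBundLib.property_of_torsor @IsAffineHom a₂ h₂' inferInstance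
  obtain ⟨h, hh, huniq⟩ := existsUnique_hom_extend U hZ Q₁ Q₂ h'
  refine ⟨h, ⟨?_, hh⟩, fun k hk => huniq k hk.2⟩
  haveI : Flat (MonoidalCategory.tensorObj G Q₁).hom :=
    inferInstanceAs (Flat (pullback.fst G.hom Q₁.hom ≫ G.hom))
  refine (existsUnique_hom_extend U hZ (MonoidalCategory.tensorObj G Q₁) Q₂
    ((Over.pullback U.ι).map (a₁.act ≫ h))).unique rfl ?_
  rw [← cancel_epi (Functor.LaxMonoidal.μ (Over.pullback U.ι) G Q₁), Functor.map_comp, Functor.map_comp,
    ← Category.assoc, ← Category.assoc, ← Functor.LaxMonoidal.μ_natural_right, hh, hh']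
  simp only [Category.assoc]

end Groth.Agent.S14274
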