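import Mathlib
import Groth.Agent.AdicExact.Basic
import Groth.Statements.S14275

set_option autoImplicit false
universe u
open CAlg

namespace Groth.Agent.S14275

theorem ofList_take_le {A : Type u} [CommRing A] (rs : List A) (k : ℕ) (hk : k < rs.length) :
    Ideal.ofList (rs.take k) ≤ Ideal.ofList (rs.take (k + 1)) := by
  rw [List.take_succ_eq_append_getElem hk, Ideal.ofList_append]
  exact le_sup_left

theorem factor_smul_eq_zero {A : Type u} [CommRing A] (rs : List A) (k : ℕ) (hk : k < rs.length)
    (y : A ⧸ Ideal.ofList (rs.take k)) :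
    rs[k] • Submodule.factor (ofList_take_le rs k hk) y = 0 := by
  obtain ⟨t, rfl⟩ := Submodule.Quotient.mk_surjective _ y
  show Submodule.Quotient.mk (rs[k] * t) = 0
  rw [Submodule.Quotient.mk_eq_zero, List.take_succ_eq_append_getElem hk, Ideal.ofList_append,
    Ideal.ofList_singleton]
  exact Submodule.mem_sup_right (Ideal.mul_mem_right _ _ (Ideal.mem_span_singleton_self _))

theorem mem_range_of_factor_eq_zero {A : Type u} [CommRing A] (rs : List A) (k : ℕ)
    (hk : k < rs.length) (y : A ⧸ Ideal.ofList (rs.take k))
    (hy : Submodule.factor (ofList_take_le rs k hk) y = 0) : ∃ z, rs[k] • z = y := by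
  obtain ⟨t, rfl⟩ := Submodule.Quotient.mk_surjective _ y
  have h : t ∈ Ideal.ofList (rs.take (k + 1)) := (Submodule.Quotient.mk_eq_zero _).mp hy
  rw [List.take_succ_eq_append_getElem hk, Ideal.ofList_append, Ideal.ofList_singleton,
    Submodule.mem_sup] at h
  obtain ⟨u, hu, v, hv, rfl⟩ := h
  obtain ⟨z, rfl⟩ := Ideal.mem_span_singleton'.mp hv
  refine ⟨Submodule.Quotient.mk z, ?_⟩
  rw [← Submodule.Quotient.mk_smul, Submodule.Quotient.eq, smul_eq_mul]
  rw [show rs[k] * z - (u + z * rs[k]) = -u by ring]
  exact neg_mem hu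

theorem map_smul_id_apply {A : Type u} [CommRing A] {I : Ideal A} {M : Type u} [AddCommGroup M]
    [Module A M] (r : A) (w : AdicCompletion I M) :
    AdicCompletion.map I (r • (LinearMap.id : M →ₗ[A] M)) w = r • w := by
  refine AdicCompletion.ext fun n => ?_
  obtain ⟨m, hm⟩ := Submodule.Quotient.mk_surjective _ (w.val n)
  rw [AdicCompletion.map_val_apply, AdicCompletion.val_smul_apply, ← hm]
  rfl

theorem algebraMap_eq_of {A : Type u} [CommRing A] (I : Ideal A) (r : A) :
    algebraMap A (AdicCompletion I A) r = AdicCompletion.of I A r := by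
  rfl

open RingTheory.Sequence in
/-- Let A be a commutative ring, a an element of A with a-adic completion A^, and a_1, ..., a_n a weakly
regular sequence on A such that for each i = 0, ..., n the quotient A/(a_1, ..., a_i) has bounded
a-power torsion (some fixed power of a kills every element killed by a power of a). Then the images
of a_1, ..., a_n form a weakly regular sequence on A^, and the canonical map from A^ to the a-adic
completion of A/(a_1, ..., a_n) is surjective with kernel the ideal generated by the images of a_1,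
..., a_n. -/
theorem result (A : Type u) [CommRing A] (a : A) (rs : List A)
    (hreg : IsWeaklyRegular A rs)
    (hbd : ∀ i ≤ rs.length, ∃ N : ℕ, ∀ x : A ⧸ Ideal.ofList (rs.take i), (∃ m : ℕ, a ^ m • x = 0) → a ^ N • x = 0) :
    IsWeaklyRegular (AdicCompletion (Ideal.span {a}) A)
        (rs.map (algebraMap A (AdicCompletion (Ideal.span {a}) A))) ∧
      Function.Surjective (AdicCompletion.map (Ideal.span {a}) (Ideal.ofList rs).mkQ) ∧
      LinearMap.ker (AdicCompletion.map (Ideal.span {a}) (Ideal.ofList rs).mkQ) =
        (Ideal.ofList rs).map (algebraMap A (AdicCompletion (Ideal.span {a}) A)) := by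
  classical
  set I : Ideal A := Ideal.span {a} with hI
  set ι := algebraMap A (AdicCompletion I A)
  have hmem : ∀ {k : ℕ} (n : ℕ) (y : A ⧸ Ideal.ofList (rs.take k)),
      y ∈ (I ^ n • ⊤ : Submodule A (A ⧸ Ideal.ofList (rs.take k))) ↔ ∃ z, a ^ n • z = y := by
    intro k n y
    rw [hI, Ideal.span_singleton_pow, Submodule.ideal_span_singleton_smul, Submodule.mem_smul_pointwise_iff_exists]
    simp
  -- multiplication by the next element
  have hstep : ∀ k, ∀ hk : k < rs.length,
      Function.Injective (AdicCompletion.map I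
        (rs[k] • (LinearMap.id : (A ⧸ Ideal.ofList (rs.take k)) →ₗ[A] A ⧸ Ideal.ofList (rs.take k)))) ∧
      Function.Exact (AdicCompletion.map I
        (rs[k] • (LinearMap.id : (A ⧸ Ideal.ofList (rs.take k)) →ₗ[A] A ⧸ Ideal.ofList (rs.take k))))
        (AdicCompletion.map I (Submodule.factor (ofList_take_le rs k hk))) := by
    intro k hk
    obtain ⟨c, hc⟩ := hbd (k + 1) hk
    have hr := hreg.regular_mod_prev k hk
    rw [smul_eq_mul, Ideal.mul_top] at hr
    have hshift : ∀ n, ∀ x : A ⧸ Ideal.ofList (rs.take k),
        (rs[k] • LinearMap.id : _ →ₗ[A] A ⧸ Ideal.ofList (rs.take k)) x ∈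
          (I ^ (n + c) • ⊤ : Submodule A (A ⧸ Ideal.ofList (rs.take k))) →
        x ∈ (I ^ n • ⊤ : Submodule A (A ⧸ Ideal.ofList (rs.take k))) := by
      intro n x hx
      obtain ⟨y, hy⟩ := (hmem _ _).mp hx
      rw [LinearMap.smul_apply, LinearMap.id_apply] at hy
      have h1 : a ^ (n + c) • Submodule.factor (ofList_take_le rs k hk) y = 0 := by
        rw [← map_smul, hy, map_smul, factor_smul_eq_zero]
      have h2 := hc _ ⟨n + c, h1⟩
      rw [← map_smul] at h2
      obtain ⟨z, hz⟩ := mem_range_of_factor_eq_zero rs k hk _ h2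
      refine (hmem _ _).mpr ⟨z, (hr ?_).symm⟩
      dsimp only
      rw [← hy, smul_comm, hz, ← mul_smul, ← pow_add]
    refine ⟨Groth.Agent.AdicExact.map_injective I _ c hshift,
      Groth.Agent.AdicExact.map_exact I _ _ c (Submodule.factor_surjective _) ?_ hshift⟩
    intro y
    refine ⟨fun hy => ?_, ?_⟩
    · obtain ⟨z, hz⟩ := mem_range_of_factor_eq_zero rs k hk y hy
      exact ⟨z, hz⟩
    · rintro ⟨z, rfl⟩
      rw [LinearMap.smul_apply, LinearMap.id_apply, map_smul, factor_smul_eq_zero]
  have hπ : ∀ k, k ≤ rs.length →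
      LinearMap.ker (AdicCompletion.map I (Ideal.ofList (rs.take k)).mkQ) =
        (Ideal.ofList (rs.take k)).map ι := by
    intro k
    induction k with
    | zero =>
      intro _
      rw [List.take_zero, Ideal.ofList_nil, Ideal.map_bot]
      refine LinearMap.ker_eq_bot.mpr ?_
      refine Groth.Agent.AdicExact.map_injective I _ 0 fun n x hx => ?_
      let e := Submodule.quotEquivOfEqBot (⊥ : Submodule A A) rfl
      have hmapped := Submodule.mem_map_of_mem (f := e.toLinearMap) hx
      rw [Submodule.map_smul'', Submodule.map_top, LinearEquiv.range] at hmapped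
      exact hmapped
    | succ k ih =>
      intro hk
      have hcomp : (Ideal.ofList (rs.take (k + 1))).mkQ =
          (Submodule.factor (ofList_take_le rs k hk)).comp (Ideal.ofList (rs.take k)).mkQ :=
        (Submodule.factor_comp_mk _).symm
      refine le_antisymm (fun x hx => ?_) (Ideal.map_le_iff_le_comap.mpr fun r hr => ?_)
      · rw [LinearMap.mem_ker, hcomp, ← AdicCompletion.map_comp, LinearMap.comp_apply] at hx
        obtain ⟨w, hw⟩ := ((hstep k hk).2 _).mp hx
        obtain ⟨v, rfl⟩ := AdicCompletion.map_surjective I (Submodule.mkQ_surjective _) w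
        rw [map_smul_id_apply, ← LinearMap.map_smul_of_tower] at hw
        have hd : x - rs[k] • v ∈ LinearMap.ker (AdicCompletion.map I (Ideal.ofList (rs.take k)).mkQ) := by
          rw [LinearMap.mem_ker, map_sub, hw, sub_self]
        rw [ih (by omega)] at hd
        rw [List.take_succ_eq_append_getElem hk, Ideal.ofList_append, Ideal.ofList_singleton,
          Ideal.map_sup, Ideal.map_span (f := ι) (s := {rs[k]}), Set.image_singleton]
        rw [show x = (x - rs[k] • v) + rs[k] • v by ring]
        exact Submodule.add_mem_sup hd (by rw [Algebra.smul_def]; exact Ideal.mul_mem_right _ _ (Ideal.mem_span_singleton_self _))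
      · rw [Ideal.mem_comap]
        show AdicCompletion.map I _ (algebraMap A _ r) = 0
        rw [algebraMap_eq_of, AdicCompletion.map_of, Submodule.mkQ_apply,
          (Submodule.Quotient.mk_eq_zero _).mpr hr, map_zero]
  refine ⟨⟨fun i hi => ?_⟩, AdicCompletion.map_surjective I (Submodule.mkQ_surjective _), ?_⟩
  · rw [List.length_map] at hi
    rw [smul_eq_mul, Ideal.mul_top, ← List.map_take, ← Ideal.map_ofList, ← hπ i hi.le,
      List.getElem_map]
    refine (isSMulRegular_quotient_iff_mem_of_smul_mem _ _).mpr ?_
    intro x hx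
    have hx' := LinearMap.mem_ker.mp hx
    erw [map_smul, algebraMap_smul, ← map_smul_id_apply] at hx'
    exact LinearMap.mem_ker.mpr ((hstep i hi).1 (by rw [hx', map_zero]))
  · have := hπ rs.length le_rfl
    rw [List.take_length] at this
    exact this

end Groth.Agent.S14275
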