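import Groth.Statements.S14276
import Mathlib.AlgebraicGeometry.Morphisms.LocalFlatDescent
import Groth.Agent.S0412
import Groth.Agent.PrincBundLib.Descends

set_option autoImplicit false
universe u
open CategoryTheory AlgebraicGeometry
open NonAbH1

namespace Groth.Agent.S14276
open CategoryTheory.Limits Groth.Agent.PrincBundLib in
theorem surj_of_grp {S : Scheme.{u}} (G : Over S) [GrpObj G] : Surjective G.hom :=
  ⟨fun s => ⟨(MonObj.one (X := G)).left s, by
    rw [← Scheme.Hom.comp_apply, Over.w]
    rfl⟩⟩


/-- Let X be a scheme and G a group scheme over X which is smooth over X. Then every G-torsor for the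
fppf topology is locally trivial for the étale topology on X. Here a torsor is an X-scheme with an
action of G which is a pseudo-torsor and acquires sections on the members of some fppf covering
family of X, and the conclusion says that it acquires sections on the members of some étale covering
family of X. (The published statement is about torsors in the sense of fppf sheaves; this row states
it for torsors that are schemes.) -/
theorem result {X : Scheme.{u}}
    (G : Over X) [GrpObj G] [Smooth G.hom] (P : Over X) (a : AlgGrp.Action G P)
    (h : NonAbH1.IsTorsorFor Scheme.fppfPrecoverage a) :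
    NonAbH1.IsLocallyTrivialFor Scheme.etalePrecoverage P := by
  have h' : NonAbH1.IsTorsorFor Scheme.fpqcPrecoverage a :=
    ⟨h.1, h.2.imp fun R hR => ⟨Scheme.fppfPrecoverage_le_fpqcPrecoverage _ hR.1, hR.2⟩⟩
  haveI : Smooth P.hom := Groth.Agent.PrincBundLib.property_of_torsor @Smooth a h' inferInstance
  haveI : Surjective P.hom :=
    Groth.Agent.PrincBundLib.property_of_torsor @Surjective a h' (surj_of_grp G)
  choose S' g s' het hs' t ht using fun x : X =>
    Groth.Agent.S0412.result P.hom x (Surjective.surj x)
  refine ⟨Presieve.ofArrows S' g, ?_, ?_⟩
  · exact (Scheme.ofArrows_mem_precoverage_iff _).mpr ⟨fun x => ⟨x, s' x, hs' x⟩, het⟩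
  · rintro T f ⟨x⟩
    exact ⟨t x, ht x⟩

end Groth.Agent.S14276
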