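import Groth.Statements.S14285
import Groth.Agent.RigidLib.Proper
open CategoryTheory CategoryTheory.Limits AlgebraicGeometry Groth.Agent.RigidLib
-- import your own Groth.Agent.* helpers here

set_option autoImplicit false
universe u
open CategoryTheory AlgebraicGeometry
open EllLift

namespace Groth.Agent.S14285

/-- Let R be a complete Noetherian local ring with maximal ideal m and residue field k = R/m, g : X →
Spec R a proper and flat morphism, and i : X₀ → X the fibre of g over the closed point, i.e. a
pullback of g along Spec k → Spec R, with structure map f₀ : X₀ → Spec k. If the induced ring map k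
→ Γ(X₀, O_{X₀}) is bijective, then so is R → Γ(X, O_X). -/
theorem result (R : Type u) [CommRing R]
    [IsLocalRing R] [IsNoetherianRing R] [IsAdicComplete (IsLocalRing.maximalIdeal R) R]
    (X X₀ : Scheme.{u}) (g : X ⟶ Spec (CommRingCat.of R)) [IsProper g] [Flat g]
    (i : X₀ ⟶ X) (f₀ : X₀ ⟶ Spec (CommRingCat.of (R ⧸ IsLocalRing.maximalIdeal R)))
    (hsq : IsPullback i f₀ g
      (Spec.map (CommRingCat.ofHom (Ideal.Quotient.mk (IsLocalRing.maximalIdeal R)))))
    (h0 : Function.Bijective ((Scheme.ΓSpecIso (CommRingCat.of (R ⧸ IsLocalRing.maximalIdeal R))).inv ≫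
      f₀.appTop)) :
    Function.Bijective ((Scheme.ΓSpecIso (CommRingCat.of R)).inv ≫ g.appTop) := by

  let S : Scheme.{u} := Spec (CommRingCat.of R)
  let s : S := IsLocalRing.closedPoint R
  let m := IsLocalRing.maximalIdeal R
  let π : Spec (CommRingCat.of (R ⧸ m)) ⟶ S := Spec.map (CommRingCat.ofHom (Ideal.Quotient.mk m))
  haveI : IsClosedImmersion π := IsClosedImmersion.spec_of_surjective _ Ideal.Quotient.mk_surjective
  obtain ⟨j, hj⟩ : ∃ j : Spec (S.residueField s) ⟶ Spec (CommRingCat.of (R ⧸ m)), j ≫ π = S.fromSpecResidueField s := by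
    obtain ⟨φ, hφ⟩ : ∃ φ, Spec.map φ = S.fromSpecResidueField s := ⟨Spec.preimage _, Spec.map_preimage _⟩
    have hk : RingHom.ker φ.hom = m := by
      have h1 : (Spec.map φ).base (⟨⊥, Ideal.isPrime_bot⟩ : PrimeSpectrum (S.residueField s)) = s := by
        rw [hφ]; exact Scheme.fromSpecResidueField_apply _ _
      exact congrArg PrimeSpectrum.asIdeal h1
    refine ⟨Spec.map (CommRingCat.ofHom (Ideal.Quotient.lift m φ.hom fun x hx => RingHom.mem_ker.mp (hk.ge hx))), ?_⟩
    simp only [π]
    rw [← Spec.map_comp, ← hφ]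
    rfl
  haveI : Flat j := by
    letI : Field (R ⧸ m) := Ideal.Quotient.field m
    obtain ⟨φ, rfl⟩ : ∃ φ, Spec.map φ = j := ⟨Spec.preimage j, Spec.map_preimage j⟩
    rw [HasRingHomProperty.Spec_iff (P := @Flat)]
    algebraize [φ.hom]
    exact inferInstanceAs (Module.Flat (R ⧸ m) (S.residueField s))
  haveI : IsProper f₀ := MorphismProperty.of_isPullback hsq inferInstance
  haveI : CompactSpace X₀ := QuasiCompact.compactSpace_of_compactSpace f₀
  haveI : QuasiSeparatedSpace X₀ := quasiSeparatedSpace_of_quasiSeparated f₀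
  have hf0 : Function.Bijective f₀.appTop.hom :=
    (Function.Bijective.of_comp_iff _ (ConcreteCategory.bijective_of_isIso
      (Scheme.ΓSpecIso (CommRingCat.of (R ⧸ m))).inv)).1 h0
  have H : IsPullback (pullback.fst f₀ j ≫ i) (pullback.snd f₀ j) g (S.fromSpecResidueField s) := by
    rw [← hj]
    exact (IsPullback.of_hasPullback f₀ j).paste_horiz hsq
  have hsnd : Function.Bijective (pullback.snd g (S.fromSpecResidueField s)).appTop := by
    have h1 : Function.Bijective (pullback.snd f₀ j).appTop.hom :=
      bijective_appTop_of_isPullback (IsPullback.of_hasPullback f₀ j) hf0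
    rw [← H.isoPullback_inv_snd, Scheme.Hom.comp_appTop]
    haveI : IsIso (Scheme.Hom.appTop H.isoPullback.inv) := inferInstanceAs (IsIso (Scheme.Hom.app H.isoPullback.inv ⊤))
    exact (ConcreteCategory.bijective_of_isIso H.isoPullback.inv.appTop).comp h1
  obtain ⟨U, hsU, hU⟩ := BCLib.exists_nhd_bijective_app g s (bijective_fibre_of_snd hsnd)
  have htop : U = ⊤ := eq_top_iff.mpr fun x _ => ((PrimeSpectrum.le_iff_specializes x s).mp (IsLocalRing.le_maximalIdeal x.isPrime.ne_top)).mem_open U.isOpen hsU
  exact (hU ⊤ (htop ▸ le_rfl)).comp (ConcreteCategory.bijective_of_isIso (Scheme.ΓSpecIso (CommRingCat.of R)).inv)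

end Groth.Agent.S14285
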