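import Groth.Statements.S14286
import Groth.Agent.EllLiftJ.Basic
import Groth.Agent.NormalTensor.Henselian
import Mathlib.RingTheory.AdicCompletion.Basic
import Mathlib.FieldTheory.IsAlgClosed.Basic
-- import your own Groth.Agent.* helpers here

set_option autoImplicit false
set_option maxHeartbeats 1000000
set_option backward.isDefEq.respectTransparency false
universe u
open EllLift IsLocalRing

namespace Groth.Agent.S14286

/-- Let R be a complete Noetherian local domain with algebraically closed residue field, and let W₁, W₂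
be Weierstrass cubics over R whose discriminants are units (elliptic curves over R; over a local
ring every elliptic curve has such an equation and isomorphisms of elliptic curves are the
admissible changes of variables). If W₁ and W₂ have the same j-invariant, then some change of
variables over R carries W₁ to W₂. (The published statement does not require R to be a domain. That
hypothesis is needed: over the dual numbers k[e], e² = 0, of an algebraically closed field k of
characteristic neither 2 nor 3, the cubics y² = x³ + x + e and y² = x³ + x both have j = 1728 and no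
change of variables relates them.) -/
theorem result (R : Type u) [CommRing R] [IsDomain R]
    [IsNoetherianRing R] [IsLocalRing R] [IsAdicComplete (IsLocalRing.maximalIdeal R) R]
    [IsAlgClosed (IsLocalRing.ResidueField R)]
    (W₁ W₂ : WeierstrassCurve R) [W₁.IsElliptic] [W₂.IsElliptic] (hj : W₁.j = W₂.j) :
    ∃ C : WeierstrassCurve.VariableChange R, C • W₁ = W₂ := by
  haveI : HenselianLocalRing R := by
    haveI : HenselianRing R (IsLocalRing.maximalIdeal R) := inferInstance
    exact Hensel.henselianRing_maximalIdeal_iff.mp inferInstance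
  let K := AlgebraicClosure (FractionRing R)
  have hinj : Function.Injective (algebraMap R K) := by
    rw [IsScalarTower.algebraMap_eq R (FractionRing R) K]
    exact (algebraMap (FractionRing R) K).injective.comp (IsFractionRing.injective R (FractionRing R))
  obtain ⟨C, hC⟩ := WeierstrassCurve.exists_variableChange_of_j_eq (W₁.map (algebraMap R K))
    (W₂.map (algebraMap R K)) (by rw [WeierstrassCurve.map_j, WeierstrassCurve.map_j, hj])
  obtain ⟨iu, iui, ir, is', it⟩ := Groth.Agent.EllLiftJ.isIntegral_of_variableChange R W₁ W₂ C hC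
  let S : Subalgebra R K := Algebra.adjoin R {(C.u : K), ((C.u⁻¹ : Kˣ) : K), C.r, C.s, C.t}
  haveI : Module.Finite R S := Module.Finite.iff_fg.mpr
    (fg_adjoin_of_finite (Set.toFinite _) (by rintro x (rfl | rfl | rfl | rfl | rfl) <;> assumption))
  haveI : IsLocalRing S := Groth.Agent.NormalTensor.isLocalRing_of_finite_domain R S
  let φ := algebraMap R S
  let CS : WeierstrassCurve.VariableChange S :=
    { u := ⟨⟨C.u, Algebra.subset_adjoin (by simp)⟩, ⟨((C.u⁻¹ : Kˣ) : K), Algebra.subset_adjoin (by simp)⟩,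
        Subtype.ext (Units.mul_inv C.u), Subtype.ext (Units.inv_mul C.u)⟩
      r := ⟨C.r, Algebra.subset_adjoin (by simp)⟩
      s := ⟨C.s, Algebra.subset_adjoin (by simp)⟩
      t := ⟨C.t, Algebra.subset_adjoin (by simp)⟩ }
  have hCS : CS • W₁.map φ = W₂.map φ := by
    have e : CS.map S.val.toRingHom = C := by
      refine WeierstrassCurve.VariableChange.ext ?_ rfl rfl rfl
      exact Units.ext rfl
    refine WeierstrassCurve.map_injective (f := S.val.toRingHom) Subtype.val_injective ?_
    show (CS • W₁.map φ).map S.val.toRingHom = (W₂.map φ).map S.val.toRingHom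
    rw [← WeierstrassCurve.map_variableChange, e, WeierstrassCurve.map_map, WeierstrassCurve.map_map,
      show S.val.toRingHom.comp φ = algebraMap R K from RingHom.ext fun r => rfl, hC]
  let M := maximalIdeal S
  have hMc : M.comap φ = maximalIdeal R := by
    haveI : (M.comap φ).IsMaximal := Ideal.isMaximal_comap_of_isIntegral_of_isMaximal M
    exact IsLocalRing.eq_maximalIdeal inferInstance
  let I : Ideal S := (maximalIdeal R).map φ ⊔ M ^ 2
  have hIM : I ≤ M := sup_le (Ideal.map_le_iff_le_comap.mpr hMc.ge) (Ideal.pow_le_self two_ne_zero)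
  haveI : Nontrivial (S ⧸ I) := Ideal.Quotient.nontrivial_iff.mpr (ne_top_of_le_ne_top (maximalIdeal.isMaximal S).ne_top hIM)
  haveI : IsLocalRing (S ⧸ I) := IsLocalRing.of_surjective' (Ideal.Quotient.mk I) Ideal.Quotient.mk_surjective
  have hmax : ∀ x : S, x ∈ M → Ideal.Quotient.mk I x ∈ maximalIdeal (S ⧸ I) := fun x hx => by
    rw [mem_maximalIdeal, mem_nonunits_iff]
    intro hu
    obtain ⟨y, hy⟩ := hu.exists_left_inv
    obtain ⟨y, rfl⟩ := Ideal.Quotient.mk_surjective y
    rw [← map_mul, ← map_one (Ideal.Quotient.mk I), Ideal.Quotient.eq] at hy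
    have := sub_mem (M.mul_mem_left y hx) (hIM hy)
    rw [sub_sub_cancel] at this
    exact (maximalIdeal.isMaximal S).ne_top ((Ideal.eq_top_iff_one _).mpr this)
  have hsq : ∀ x ∈ maximalIdeal (S ⧸ I), ∀ y ∈ maximalIdeal (S ⧸ I), x * y = 0 := by
    intro x hx y hy
    obtain ⟨x, rfl⟩ := Ideal.Quotient.mk_surjective x
    obtain ⟨y, rfl⟩ := Ideal.Quotient.mk_surjective y
    have hx' : x ∈ M := fun hu => hx (hu.map _)
    have hy' : y ∈ M := fun hu => hy (hu.map _)
    rw [← map_mul, Ideal.Quotient.eq_zero_iff_mem]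
    exact Ideal.mem_sup_right (pow_two M ▸ Ideal.mul_mem_mul hx' hy')
  letI : Field (R ⧸ maximalIdeal R) := Ideal.Quotient.field _
  have hres : ∀ x : S, ∃ c : R, x - φ c ∈ M := fun x => by
    haveI : Algebra.IsIntegral R (S ⧸ M) := inferInstance
    let ψ : ResidueField R →+* S ⧸ M :=
      Ideal.Quotient.lift (maximalIdeal R) ((Ideal.Quotient.mk M).comp φ) fun a ha =>
        Ideal.Quotient.eq_zero_iff_mem.mpr (hMc.ge ha : a ∈ M.comap φ)
    letI := ψ.toAlgebra
    haveI : IsScalarTower R (ResidueField R) (S ⧸ M) := IsScalarTower.of_algebraMap_eq fun r => rfl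
    haveI : Algebra.IsIntegral (ResidueField R) (S ⧸ M) := Algebra.IsIntegral.tower_top R
    obtain ⟨a, ha⟩ := (IsAlgClosed.algebraMap_bijective_of_isIntegral (k := ResidueField R) (K := S ⧸ M)).2
      (Ideal.Quotient.mk M x)
    obtain ⟨c, rfl⟩ := Ideal.Quotient.mk_surjective a
    exact ⟨c, Ideal.Quotient.eq.mp ha.symm⟩
  obtain ⟨cu, hcu⟩ := hres CS.u
  obtain ⟨cr, hcr⟩ := hres CS.r
  obtain ⟨cs, hcs⟩ := hres CS.s
  obtain ⟨ct, hct⟩ := hres CS.t
  have hcu' : IsUnit cu := by
    by_contra h
    have : φ cu ∈ M := hMc.ge ((mem_maximalIdeal _).mpr h)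
    have := add_mem hcu this
    rw [sub_add_cancel] at this
    exact (mem_maximalIdeal _).mp this CS.u.isUnit
  obtain ⟨cu, rfl⟩ := hcu'
  let C₀ : WeierstrassCurve.VariableChange R := ⟨cu, cr, cs, ct⟩
  let q := (Ideal.Quotient.mk I).comp φ
  have hq : ∀ a : R, q a ∈ maximalIdeal (S ⧸ I) → q a = 0 := fun a ha => by
    refine Ideal.Quotient.eq_zero_iff_mem.mpr (Ideal.mem_sup_left (Ideal.mem_map_of_mem φ ?_))
    by_contra hu
    exact (mem_maximalIdeal _).mp ha ((not_not.mp hu).map q)
  let πI := Ideal.Quotient.mk I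
  let D := (C₀.map q)⁻¹ * CS.map πI
  have key : ∀ (x : S) (c : R), x - φ c ∈ M → residue (S ⧸ I) (πI x) = residue (S ⧸ I) (q c) := fun x c h => by
    rw [← sub_eq_zero, ← map_sub, residue_eq_zero_iff]
    show πI x - πI (φ c) ∈ _
    rw [← map_sub]
    exact hmax _ h
  have hsame : C₀.map q • W₁.map q = W₂.map q := by
    rw [WeierstrassCurve.map_variableChange]
    have h1 : (CS.map πI).map (residue (S ⧸ I)) = (C₀.map q).map (residue (S ⧸ I)) := by
      refine WeierstrassCurve.VariableChange.ext (Units.ext ?_) ?_ ?_ ?_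
      exacts [key _ _ hcu, key _ _ hcr, key _ _ hcs, key _ _ hct]
    have h2 : (C₀ • W₁).map ((residue (S ⧸ I)).comp q) = W₂.map ((residue (S ⧸ I)).comp q) := by
      rw [← WeierstrassCurve.map_variableChange, ← WeierstrassCurve.VariableChange.map_map, ← h1,
        WeierstrassCurve.VariableChange.map_map,
        show (residue (S ⧸ I)).comp q = ((residue (S ⧸ I)).comp πI).comp φ from rfl,
        ← WeierstrassCurve.map_map, WeierstrassCurve.map_variableChange, hCS, WeierstrassCurve.map_map]
    have h3 : ∀ a b : R, residue (S ⧸ I) (q a) = residue (S ⧸ I) (q b) → q a = q b := fun a b h => by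
      rw [← sub_eq_zero, ← map_sub]
      refine hq _ ?_
      rw [map_sub, ← residue_eq_zero_iff, map_sub, h, sub_self]
    ext
    exacts [h3 _ _ (congrArg WeierstrassCurve.a₁ h2), h3 _ _ (congrArg WeierstrassCurve.a₂ h2),
      h3 _ _ (congrArg WeierstrassCurve.a₃ h2), h3 _ _ (congrArg WeierstrassCurve.a₄ h2),
      h3 _ _ (congrArg WeierstrassCurve.a₆ h2)]
  have hD : D • W₁.map q = W₁.map q := by
    rw [mul_smul, show W₁.map q = (W₁.map φ).map πI from (WeierstrassCurve.map_map ..).symm,
      WeierstrassCurve.map_variableChange, hCS, WeierstrassCurve.map_map, WeierstrassCurve.map_map,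
      inv_smul_eq_iff, hsame]
  have hDres : D.map (residue (S ⧸ I)) = 1 := by
    show WeierstrassCurve.VariableChange.mapHom (residue (S ⧸ I)) D = 1
    rw [map_mul, map_inv, inv_mul_eq_one]
    refine WeierstrassCurve.VariableChange.ext (Units.ext ?_) ?_ ?_ ?_
    exacts [(key _ _ hcu).symm, (key _ _ hcr).symm, (key _ _ hcs).symm, (key _ _ hct).symm]
  have hD1 : D = 1 := by
    refine Groth.Agent.EllLiftJ.variableChange_eq_one hsq (W₁.map q) D ?_ ?_ ?_ ?_ hD
    · rw [← residue_eq_zero_iff, map_sub, map_one, sub_eq_zero]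
      exact congrArg (fun V : WeierstrassCurve.VariableChange (ResidueField (S ⧸ I)) => (V.u : ResidueField (S ⧸ I))) hDres
    · rw [← residue_eq_zero_iff]; exact congrArg WeierstrassCurve.VariableChange.r hDres
    · rw [← residue_eq_zero_iff]; exact congrArg WeierstrassCurve.VariableChange.s hDres
    · rw [← residue_eq_zero_iff]; exact congrArg WeierstrassCurve.VariableChange.t hDres
  have hEq : CS.map πI = C₀.map q := (inv_mul_eq_one.mp hD1).symm
  have hu : πI (CS.u : S) = q cu := congrArg (fun V : WeierstrassCurve.VariableChange (S ⧸ I) => (V.u : S ⧸ I)) hEq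
  have hgen : ∀ x : S, ∃ a : R, πI x = q a := by
    intro x
    obtain ⟨x, hx⟩ := x
    induction hx using Algebra.adjoin_induction with
    | mem y hy =>
      simp only [Set.mem_insert_iff, Set.mem_singleton_iff] at hy
      rcases hy with rfl | rfl | rfl | rfl | rfl
      · exact ⟨cu, hu⟩
      · refine ⟨((cu⁻¹ : Rˣ) : R), ?_⟩
        have h1 : (CS.map πI).u⁻¹ = (C₀.map q).u⁻¹ := by rw [hEq]
        exact congrArg Units.val h1
      · exact ⟨cr, congrArg WeierstrassCurve.VariableChange.r hEq⟩
      · exact ⟨cs, congrArg WeierstrassCurve.VariableChange.s hEq⟩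
      · exact ⟨ct, congrArg WeierstrassCurve.VariableChange.t hEq⟩
    | algebraMap r => exact ⟨r, rfl⟩
    | add y z hy hz ihy ihz =>
      obtain ⟨a, ha⟩ := ihy
      obtain ⟨b, hb⟩ := ihz
      exact ⟨a + b, by rw [map_add, ← ha, ← hb, ← map_add]; rfl⟩
    | mul y z hy hz ihy ihz =>
      obtain ⟨a, ha⟩ := ihy
      obtain ⟨b, hb⟩ := ihz
      exact ⟨a * b, by rw [map_mul, ← ha, ← hb, ← map_mul]; rfl⟩
  haveI : IsNoetherianRing S := isNoetherian_of_tower R (inferInstance : IsNoetherian R S)
  have hM : M ≤ (maximalIdeal R).map φ := by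
    refine Submodule.le_of_le_smul_of_le_jacobson_bot (IsNoetherian.noetherian M)
      (IsLocalRing.maximalIdeal_le_jacobson _) (fun x hx => ?_)
    obtain ⟨a, ha⟩ := hgen x
    have h1 : x - φ a ∈ I := Ideal.Quotient.eq.mp ha
    have h2 : φ a ∈ M := by
      have := sub_mem hx (hIM h1)
      rwa [sub_sub_cancel] at this
    have h3 : φ a ∈ (maximalIdeal R).map φ := Ideal.mem_map_of_mem φ (hMc.le h2)
    have h4 : x ∈ I := by
      have := add_mem h1 (Ideal.mem_sup_left (T := M ^ 2) h3)
      rwa [sub_add_cancel] at this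
    rwa [smul_eq_mul, ← pow_two]
  have hsurj : Function.Surjective φ := by
    intro x
    have htop : (⊤ : Submodule R S) ≤ LinearMap.range (Algebra.linearMap R S) := by
      refine Submodule.le_of_le_smul_of_le_jacobson_bot Module.Finite.fg_top
        (IsLocalRing.maximalIdeal_le_jacobson _) (fun y _ => ?_)
      obtain ⟨a, ha⟩ := hres y
      have h1 : y - φ a ∈ (maximalIdeal R • ⊤ : Submodule R S) := by
        rw [Ideal.smul_top_eq_map]
        exact hM ha
      have h2 : φ a ∈ LinearMap.range (Algebra.linearMap R S) := ⟨a, rfl⟩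
      have h4 : (y - φ a) + φ a ∈ LinearMap.range (Algebra.linearMap R S) ⊔ (maximalIdeal R • ⊤ : Submodule R S) :=
        add_mem (Submodule.mem_sup_right h1) (Submodule.mem_sup_left h2)
      rwa [sub_add_cancel] at h4
    exact htop Submodule.mem_top
  obtain ⟨du, hdu⟩ := hsurj CS.u
  obtain ⟨dv, hdv⟩ := hsurj ((CS.u⁻¹ : Sˣ) : S)
  obtain ⟨dr, hdr⟩ := hsurj CS.r
  obtain ⟨ds, hds⟩ := hsurj CS.s
  obtain ⟨dt, hdt⟩ := hsurj CS.t
  have hφ : Function.Injective φ := fun a b h => hinj (congrArg Subtype.val h)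
  refine ⟨⟨⟨du, dv, hφ (by rw [map_mul, hdu, hdv, Units.mul_inv, map_one]),
    hφ (by rw [map_mul, hdu, hdv, Units.inv_mul, map_one])⟩, dr, ds, dt⟩,
    WeierstrassCurve.map_injective (f := φ) hφ ?_⟩
  show (_ • W₁).map φ = W₂.map φ
  rw [← WeierstrassCurve.map_variableChange, ← hCS]
  congr 1
  exact WeierstrassCurve.VariableChange.ext (Units.ext hdu) hdr hds hdt

end Groth.Agent.S14286
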