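import Groth.Statements.S1429
import Groth.Agent.WeightStrat.Top
-- import your own Groth.Agent.* helpers here

set_option autoImplicit false
set_option backward.isDefEq.respectTransparency false
universe u
open FlatMor

namespace Groth.Agent.S1429

open AlgebraicGeometry CategoryTheory Limits in
/-- For affine X and Y, a quasi-finite morphism f : X → Y of finite presentation and a positive
weighting w of f whose fibre integral has maximum value d: the open Y_d on which the integral equals
d is affine. -/
theorem result {X Y : Scheme.{u}} (f : X ⟶ Y) [LocallyQuasiFinite f] [QuasiCompact f] [LocallyOfFinitePresentation f] [IsAffine X] [IsAffine Y]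
    (w : ↑X → ℤ) (hw : MoreMor.IsWeighting f w) (hpos : ∀ x, 0 < w x) (d : ℤ)
    (hmax : ∀ y : Y, MoreMor.fibreIntegral f w y ≤ d) (hatt : ∃ y : Y, MoreMor.fibreIntegral f w y = d) :
    ∃ hYd : IsOpen {y : ↑Y | MoreMor.fibreIntegral f w y = d}, IsAffineOpen (⟨{y : ↑Y | MoreMor.fibreIntegral f w y = d}, hYd⟩ : Y.Opens) := by
  have hfin : ∀ y : Y, (f ⁻¹' {y}).Finite := fun y => f.finite_preimage_singleton y
  haveI : Y.IsSeparated := inferInstance
  obtain ⟨y₀, hy₀⟩ := hatt
  have hd0 : 0 ≤ d := hy₀ ▸ finsum_nonneg fun x => mul_nonneg (hpos x.1).le (Int.natCast_nonneg _)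
  rcases hd0.eq_or_lt with h0 | hd
  · have hall : {y : ↑Y | MoreMor.fibreIntegral f w y = d} = Set.univ := Set.eq_univ_of_forall fun y =>
      le_antisymm (hmax y) (h0 ▸ finsum_nonneg fun x => mul_nonneg (hpos x.1).le (Int.natCast_nonneg _))
    refine ⟨hall ▸ isOpen_univ, ?_⟩
    convert isAffineOpen_top Y using 1
    exact TopologicalSpace.Opens.ext hall
  · obtain ⟨U, hU, hUa⟩ := Groth.Agent.WeightStrat.isAffine_max f hw hpos d hd hmax
    refine ⟨hU ▸ U.isOpen, ?_⟩
    convert hUa using 1
    exact TopologicalSpace.Opens.ext hU.symm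

end Groth.Agent.S1429
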