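import Groth.Statements.S14291
import Groth.Agent.EllAddTorsLib.Chart
import Groth.Agent.EllAddTorsLib.Transport
import Mathlib.AlgebraicGeometry.EllipticCurve.NormalForms
-- import your own Groth.Agent.* helpers here

set_option autoImplicit false
universe u
open EllLift

namespace Groth.Agent.S14291

set_option maxHeartbeats 1000000

open WeierstrassCurve Affine IsLocalRing Groth.Agent.EllAddTorsLib

section field

variable {k : Type*} [Field k]

theorem exists_root [IsAlgClosed k] (a : k) (n : ℕ) (hn : 0 < n) : ∃ z, z ^ n = a :=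
  IsAlgClosed.exists_pow_nat_eq a hn

/-- A cuspidal cubic over an algebraically closed field can be moved to `y² = x³`. -/
theorem exists_cusp_coord [IsAlgClosed k] (E : WeierstrassCurve k) (hΔ : E.Δ = 0) (hc : E.c₄ = 0) :
    ∃ r s t : k, (E.a₁ + 2 * s = 0) ∧ (E.a₂ - s * E.a₁ + 3 * r - s ^ 2 = 0) ∧
      (E.a₃ + r * E.a₁ + 2 * t = 0) ∧
      (E.a₄ - s * E.a₃ + 2 * r * E.a₂ - (t + r * s) * E.a₁ + 3 * r ^ 2 - 2 * s * t = 0) ∧
      (E.a₆ + r * E.a₄ + r ^ 2 * E.a₂ + r ^ 3 - t * E.a₃ - t ^ 2 - r * t * E.a₁ = 0) := by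
  by_cases h2 : (2 : k) = 0
  · haveI : CharP k 2 := CharTwo.of_one_ne_zero_of_two_eq_zero one_ne_zero h2
    have ha₁ : E.a₁ = 0 := pow_eq_zero_iff (n := 4) (by norm_num) |>.1 (by rw [← E.c₄_of_char_two, hc])
    have ha₃ : E.a₃ = 0 := by
      have := E.Δ_of_char_two
      rw [hΔ, ha₁] at this
      exact pow_eq_zero_iff (n := 4) (by norm_num) |>.1 (by linear_combination -this)
    obtain ⟨r, hr⟩ := exists_root E.a₄ 2 two_pos
    obtain ⟨s, hs⟩ := exists_root (E.a₂ + 3 * r) 2 two_pos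
    obtain ⟨t, ht⟩ := exists_root (E.a₆ + r * E.a₄ + r ^ 2 * E.a₂ + r ^ 3) 2 two_pos
    refine ⟨r, s, t, ?_, ?_, ?_, ?_, ?_⟩ <;> simp only [ha₁, ha₃]
    · linear_combination s * h2
    · linear_combination -hs
    · linear_combination t * h2
    · linear_combination 3 * hr + (2 * E.a₄ + r * E.a₂ - s * t) * h2
    · linear_combination -ht
  by_cases h3 : (3 : k) = 0
  · haveI : CharP k 3 := (CharP.charP_iff_prime_eq_zero Nat.prime_three).2 (by simpa using h3)
    have hb₂ : E.b₂ = 0 := pow_eq_zero_iff (n := 2) (by norm_num) |>.1 (by rw [← E.c₄_of_char_three, hc])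
    have hb₄ : E.b₄ = 0 := by
      have := E.Δ_of_char_three
      rw [hΔ, hb₂] at this
      refine pow_eq_zero_iff (n := 3) (by norm_num) |>.1 ?_
      linear_combination -this + 3 * E.b₄ ^ 3 * h3
    rw [b₂] at hb₂
    rw [b₄] at hb₄
    obtain ⟨r, hr⟩ := exists_root (-(E.a₆ + E.a₃ ^ 2)) 3 three_pos
    refine ⟨r, E.a₁, E.a₃ + r * E.a₁, ?_, ?_, ?_, ?_, ?_⟩
    · linear_combination E.a₁ * h3
    · linear_combination hb₂ + (r - E.a₂ - E.a₁ ^ 2) * h3 
    · linear_combination (E.a₃ + r * E.a₁) * h3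
    · linear_combination (-1 : k) * hb₄ - r * hb₂ +
        (E.a₄ + 2 * r * E.a₂ + r ^ 2 - E.a₁ * E.a₃ - r * E.a₁ ^ 2) * h3
    · linear_combination hr + r ^ 2 * hb₂ - r * hb₄ +
        (-E.a₃ ^ 2 - 2 * r * E.a₁ * E.a₃ - r ^ 2 * E.a₁ ^ 2 + r * E.a₄ - r ^ 2 * E.a₂ + r * E.a₁ * E.a₃) * h3
  have hc₆ : E.c₆ = 0 := pow_eq_zero_iff (n := 2) (by norm_num) |>.1 (by
    have := E.c_relation
    rw [hΔ, hc] at this
    linear_combination this)
  simp only [c₄, b₂, b₄] at hc
  simp only [c₆, b₂, b₄, b₆] at hc₆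
  have h4 : (4 : k) ≠ 0 := fun h => h2 (mul_self_eq_zero.1 (by linear_combination h))
  have h48 : (48 : k) ≠ 0 := fun h => mul_ne_zero (mul_ne_zero h4 h4) h3 (by linear_combination h)
  have h864 : (864 : k) ≠ 0 := fun h =>
    mul_ne_zero (mul_ne_zero (mul_ne_zero (mul_ne_zero h4 h4) h2) h3) (mul_ne_zero h3 h3) (by linear_combination h)
  have h12 : (12 : k) ≠ 0 := fun h => mul_ne_zero h4 h3 (by linear_combination h)
  let r : k := -(E.a₁ ^ 2 + 4 * E.a₂) / 12
  have hr : 12 * r = -(E.a₁ ^ 2 + 4 * E.a₂) := by simp only [r]; rw [mul_div_cancel₀ _ h12]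
  refine ⟨r, -E.a₁ / 2, -(E.a₃ + r * E.a₁) / 2, ?_, ?_, ?_, ?_, ?_⟩
  · field_simp; ring
  · refine ((mul_eq_zero (a := (4 : k))).1 ?_).resolve_left h4
    clear_value r
    field_simp
    linear_combination (4 : k) * hr
  · field_simp; ring
  · refine ((mul_eq_zero (a := (48 : k))).1 ?_).resolve_left h48
    simp only [r]
    field_simp
    linear_combination (-288 : k) * hc
  · refine ((mul_eq_zero (a := (864 : k))).1 ?_).resolve_left h864
    simp only [r]
    field_simp
    linear_combination (-6912 : k) * hc₆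

end field

variable {R : Type*} [CommRing R] [IsDomain R] [IsDiscreteValuationRing R]
variable {K : Type*} [Field K] [Algebra R K] [IsFractionRing R K]

local notation "ι" => algebraMap R K

theorem map_shift (V : WeierstrassCurve R) (r s t : R) :
    Shift ((VariableChange.mk 1 r s t • V).map ι) (V.map ι) (ι r) (ι s) (ι t) := by
  rw [Shift]
  ext <;> simp only [map_a₁, map_a₂, map_a₃, map_a₄, map_a₆, variableChange_def, inv_one, Units.val_one, one_pow,
    one_mul, map_add, map_sub, map_mul, map_pow, map_ofNat]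

/-- The arithmetic of a torsion point on a curve reducing to a cusp: it can be moved to a position which shows that
the equation is not minimal. -/
theorem exists_deep_shift [DecidableEq K] (V : WeierstrassCurve R) (hV : AllM V) {n : ℕ} (hn : 4 < n)
    (hnu : IsUnit (n : R)) (P : (V.map ι).toAffine.Point) (hP : addOrderOf P = n) :
    ∃ r s t : R, (VariableChange.mk 1 r s t • V).a₁ ∈ maximalIdeal R ∧
      (VariableChange.mk 1 r s t • V).a₂ ∈ maximalIdeal R ^ 2 ∧
      (VariableChange.mk 1 r s t • V).a₃ ∈ maximalIdeal R ^ 3 ∧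
      (VariableChange.mk 1 r s t • V).a₄ = 0 ∧ (VariableChange.mk 1 r s t • V).a₆ = 0 := by
  classical
  have hinj : Function.Injective ι := IsFractionRing.injective R K
  have hne : ∀ k, 0 < k → k < n → k • P ≠ 0 := fun k hk hkn h => by
    have := addOrderOf_dvd_of_nsmul_eq_zero h
    rw [hP] at this
    exact absurd (Nat.le_of_dvd hk this) (by omega)
  have hkill : ∀ k : ℕ, n • (k • P) = 0 := fun k => by
    rw [← mul_nsmul', mul_nsmul, ← hP, addOrderOf_nsmul_eq_zero, nsmul_zero]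
  rcases P with _ | ⟨x₀, y₀, h₀⟩
  · exact absurd (nsmul_zero 1) (hne 1 one_pos (by omega))
  obtain ⟨⟨a₀, ha₀, rfl⟩, ⟨b₀, hb₀, rfl⟩⟩ := inM_of_nsmul_eq_zero hV hnu h₀ (by simpa using hkill 1)
  have hy₀ : ι b₀ ≠ (V.map ι).toAffine.negY (ι a₀) (ι b₀) := fun h =>
    hne 2 two_pos (by omega) (by rw [two_nsmul]; exact Point.add_self_of_Y_eq h)
  -- the slope of the tangent
  set L := (V.map ι).toAffine.slope (ι a₀) (ι a₀) (ι b₀) (ι b₀) with hLdef
  have h2P : 2 • Point.some _ _ h₀ = Point.some _ _ (nonsingular_add h₀ h₀ fun e => hy₀ e.2) := by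
    rw [two_nsmul, Point.add_self_of_Y_ne hy₀]
  obtain ⟨⟨x₂, hx₂, hx₂'⟩, -⟩ := inM_of_nsmul_eq_zero hV hnu _ (h2P ▸ hkill 2)
  rw [← hLdef] at hx₂'
  simp only [addX, map_a₁, map_a₂] at hx₂'
  obtain ⟨l, hl, hlL⟩ := quad_inM (a := V.a₁) (b := x₂ + V.a₂ + 2 * a₀) (z := L) hV.1
    (add_mem (add_mem hx₂ hV.2.1) (Ideal.mul_mem_left _ _ ha₀))
    (by simp only [map_add, map_mul, map_ofNat]; linear_combination -hx₂')
  refine ⟨a₀, l, b₀, ?_⟩
  set V' := VariableChange.mk 1 a₀ l b₀ • V with hV'def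
  have hS : Shift (V'.map ι) (V.map ι) (ι a₀) (ι l) (ι b₀) := map_shift V a₀ l b₀
  obtain ⟨h₀', hh₀⟩ := hS.exists_preimage h₀
  have e0 : ι a₀ - ι a₀ = 0 := sub_self _
  have e0' : ι b₀ - ι l * (ι a₀ - ι a₀) - ι b₀ = 0 := by ring
  have h00 : (V'.map ι).toAffine.Nonsingular 0 0 := by simpa using h₀'
  have hQ : hS.hom (Point.some 0 0 h00) = Point.some _ _ h₀ := by
    rw [← hh₀]; congr 1; simp
  have hne' : ∀ k, 0 < k → k < n → k • Point.some 0 0 h00 ≠ 0 := fun k hk hkn h =>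
    hne k hk hkn (by rw [← hQ, ← map_nsmul, h, map_zero])
  have hkill' : ∀ k : ℕ, n • (k • Point.some 0 0 h00) = 0 := fun k =>
    hS.hom_injective (by rw [map_nsmul, map_nsmul, hQ, hkill, map_zero])
  have ha6 : V'.a₆ = 0 := by
    refine hinj ?_
    rw [map_zero, ← map_a₆ V' ι]
    exact equation_zero.1 h00.1
  have hψ : ι b₀ - (V.map ι).toAffine.negY (ι a₀) (ι b₀) ≠ 0 := sub_ne_zero.2 hy₀
  have ha4 : V'.a₄ = 0 := by
    refine hinj ?_
    have hL2 : L * (ι b₀ - (V.map ι).toAffine.negY (ι a₀) (ι b₀)) =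
        3 * ι a₀ ^ 2 + 2 * ι V.a₂ * ι a₀ + ι V.a₄ - ι V.a₁ * ι b₀ := by
      rw [hLdef, slope_of_Y_ne rfl hy₀, div_mul_cancel₀ _ hψ]
      simp only [map_a₁, map_a₂, map_a₄]
    simp only [negY, map_a₁, map_a₃] at hL2
    simp only [hV'def, variableChange_def, inv_one, Units.val_one, one_pow, one_mul, map_add, map_sub, map_mul,
      map_pow, map_ofNat, map_zero, hlL]
    linear_combination -hL2
  obtain ⟨hm1, hm2, hm3, hm4, hm6⟩ := hV
  have hV' : AllM V' := by
    refine ⟨?_, ?_, ?_, ha4 ▸ zero_mem _, ha6 ▸ zero_mem _⟩ <;>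
      simp only [hV'def, variableChange_def, inv_one, Units.val_one, one_pow, one_mul]
    · exact add_mem hm1 (Ideal.mul_mem_left _ _ hl)
    · exact sub_mem (add_mem (sub_mem hm2 (Ideal.mul_mem_left _ _ hm1)) (Ideal.mul_mem_left _ _ ha₀))
        (Ideal.pow_mem_of_mem _ hl 2 two_pos)
    · exact add_mem (add_mem hm3 (Ideal.mul_mem_left _ _ hm1)) (Ideal.mul_mem_left _ _ hb₀)
  clear_value V'
  set A₁ := ι V'.a₁ with hA₁
  set A₂ := ι V'.a₂ with hA₂
  set A₃ := ι V'.a₃ with hA₃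
  let W' := (V'.map ι).toAffine
  have hnegY : ∀ x y : K, W'.negY x y = -y - A₁ * x - A₃ := fun x y => by simp [W', negY, hA₁, hA₃]
  have hW4 : W'.a₄ = 0 := by simp [W', ha4]
  -- `2P`
  have hA₃0 : A₃ ≠ 0 := fun h => hne' 2 two_pos (by omega) (by
    rw [two_nsmul]; exact Point.add_self_of_Y_eq (show (0 : K) = W'.negY 0 0 by rw [hnegY, h]; ring))
  have hy00 : (0 : K) ≠ W'.negY 0 0 := by rw [hnegY]; intro h; exact hA₃0 (by linear_combination h)
  have hs0 : W'.slope 0 0 0 0 = 0 := by rw [slope_of_Y_ne rfl hy00, hW4]; simp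
  obtain ⟨h2', h2Q⟩ : ∃ h2', 2 • Point.some 0 0 h00 = (Point.some (-A₂) (A₁ * A₂ - A₃) h2' : W'.Point) := by
    have key : 2 • Point.some 0 0 h00 = (Point.some _ _ (nonsingular_add h00 h00 fun e => hy00 e.2) : W'.Point) := by
      rw [two_nsmul, Point.add_self_of_Y_ne hy00]
    have ex : W'.addX 0 0 (W'.slope 0 0 0 0) = -A₂ := by rw [hs0]; simp [W', addX, hA₂]
    have ey : W'.addY 0 0 0 (W'.slope 0 0 0 0) = A₁ * A₂ - A₃ := by
      simp only [addY, negAddY, ex]; rw [hs0, hnegY]; ring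
    have hns := nonsingular_add h00 h00 (fun e => hy00 e.2)
    refine ⟨ex ▸ ey ▸ hns, key.trans ?_⟩
    simp only [Point.some.injEq]
    exact ⟨ex, ey⟩
  have hA₂0 : A₂ ≠ 0 := fun h => hne' 3 (by norm_num) (by omega) (by
    rw [show (3 : ℕ) = 2 + 1 from rfl, succ_nsmul, h2Q]
    exact Point.add_of_Y_eq (by rw [h, neg_zero]) (by rw [hnegY, h]; ring))
  -- `3P`
  have hx12 : -A₂ ≠ 0 := neg_ne_zero.2 hA₂0
  let B := A₃ / A₂
  have hB : B * A₂ = A₃ := div_mul_cancel₀ _ hA₂0
  have h3Q : 3 • Point.some 0 0 h00 = (Point.some _ _ (nonsingular_add h2' h00 fun e => hx12 e.1) : W'.Point) := by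
    rw [show (3 : ℕ) = 2 + 1 from rfl, succ_nsmul, h2Q, Point.add_of_X_ne hx12]
  obtain ⟨⟨x₃, hx₃, hx₃'⟩, -⟩ := inM_of_nsmul_eq_zero hV' hnu _ (h3Q ▸ hkill' 3)
  have hs3 : W'.slope (-A₂) 0 (A₁ * A₂ - A₃) 0 = B - A₁ := by
    rw [slope_of_X_ne hx12, div_eq_iff (by simpa using hA₂0)]
    linear_combination hB
  rw [hs3] at hx₃'
  simp only [W', addX, map_a₁, map_a₂, ← hA₁, ← hA₂] at hx₃'
  obtain ⟨b, hb, hbB⟩ := quad_inM (a := -V'.a₁) (b := x₃) (z := B) (neg_mem hV'.1) hx₃
    (by rw [map_neg, hx₃', ← hA₁]; ring)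
  -- `4P`
  have hy22 : A₁ * A₂ - A₃ ≠ W'.negY (-A₂) (A₁ * A₂ - A₃) := fun h => hne' 4 (by norm_num) hn (by
    rw [show (4 : ℕ) = 2 * 2 from rfl, mul_nsmul, h2Q, two_nsmul]; exact Point.add_self_of_Y_eq h)
  have h4Q : 4 • Point.some 0 0 h00 = (Point.some _ _ (nonsingular_add h2' h2' fun e => hy22 e.2) : W'.Point) := by
    rw [show (4 : ℕ) = 2 * 2 from rfl, mul_nsmul, h2Q, two_nsmul, Point.add_self_of_Y_ne hy22]
  obtain ⟨⟨x₄, hx₄, hx₄'⟩, -⟩ := inM_of_nsmul_eq_zero hV' hnu _ (h4Q ▸ hkill' 4)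
  have hD : A₁ - B ≠ 0 := fun h => hy22 (by rw [hnegY]; linear_combination A₂ * h + hB)
  let C := A₂ / (A₁ - B)
  have hC : C * (A₁ - B) = A₂ := div_mul_cancel₀ _ hD
  have hs4 : W'.slope (-A₂) (-A₂) (A₁ * A₂ - A₃) (A₁ * A₂ - A₃) = C - A₁ := by
    rw [slope_of_Y_ne rfl hy22, div_eq_iff (sub_ne_zero.2 hy22), hnegY, hW4]
    simp only [W', map_a₁, map_a₂, ← hA₁, ← hA₂]
    rw [← hB]
    linear_combination -A₂ * hC
  rw [hs4] at hx₄'
  simp only [W', addX, map_a₁, map_a₂, ← hA₁, ← hA₂] at hx₄'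
  obtain ⟨c, hc, hcC⟩ := quad_inM (a := -V'.a₁) (b := x₄ - V'.a₂) (z := C) (neg_mem hV'.1) (sub_mem hx₄ hV'.2.1)
    (by rw [map_neg, map_sub, hx₄', ← hA₁, ← hA₂]; ring)
  have hmem2 : V'.a₂ ∈ maximalIdeal R ^ 2 := by
    have : V'.a₂ = c * (V'.a₁ - b) := hinj (by rw [map_mul, map_sub, hcC, hbB, ← hA₁, ← hA₂, hC])
    rw [this, sq]
    exact Ideal.mul_mem_mul hc (sub_mem hV'.1 hb)
  refine ⟨hV'.1, hmem2, ?_, ha4, ha6⟩
  have : V'.a₃ = b * V'.a₂ := hinj (by rw [map_mul, hbB, ← hA₂, ← hA₃, hB])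
  rw [this, pow_succ']
  exact Ideal.mul_mem_mul hb hmem2

/-- Let R be a Henselian discrete valuation ring with algebraically closed residue field k and fraction
field K, and W an elliptic curve over K (a Weierstrass cubic with unit discriminant) given by an
equation which is minimal with respect to R. If W has a K-rational point of exact order n for some
integer n > 4 whose image in k is non-zero, then W has good or multiplicative (that is, semistable)
reduction. (The published statement takes R to be the Henselisation of the local ring of a smooth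
curve over an algebraically closed field at a closed point, and asks that the n-torsion of the
elliptic curve over R contain the constant group Z/nZ; this row allows any Henselian discrete
valuation ring with algebraically closed residue field and asks for a K-rational point of exact
order n, which over such R is the same condition.) -/
theorem result (R : Type u) [CommRing R] [IsDomain R]
    [IsDiscreteValuationRing R] [HenselianLocalRing R] [IsAlgClosed (IsLocalRing.ResidueField R)]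
    (K : Type u) [Field K] [DecidableEq K] [Algebra R K] [IsFractionRing R K]
    (W : WeierstrassCurve K) [W.IsElliptic] [WeierstrassCurve.IsMinimal R W]
    (n : ℕ) (hn : 4 < n) (hk : (n : IsLocalRing.ResidueField R) ≠ 0)
    (P : W.toAffine.Point) (hP : addOrderOf P = n) :
    W.HasGoodReduction R ∨ W.HasMultiplicativeReduction R := by
  classical
  obtain ⟨V, hV⟩ : WeierstrassCurve.IsIntegral R W := inferInstance
  subst hV
  rcases WeierstrassCurve.hasGoodReduction_or_hasMultiplicativeReduction_or_hasAdditiveReduction (R := R)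
    (W := V⁄K) with h | h | h
  · exact Or.inl h
  · exact Or.inr h
  exfalso
  have hinj : Function.Injective (algebraMap R K) := IsFractionRing.injective R K
  have hmem : ∀ z : R, (IsDedekindDomain.HeightOneSpectrum.valuation K (IsDiscreteValuationRing.maximalIdeal R))
      (algebraMap R K z) < 1 → residue R z = 0 := fun z hz => (residue_eq_zero_iff z).2
    ((IsDedekindDomain.HeightOneSpectrum.valuation_lt_one_iff_mem _ _).1 hz)
  have hΔ0 : (V.map (residue R)).Δ = 0 := by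
    rw [map_Δ]; exact hmem _ (by simpa [WeierstrassCurve.baseChange] using h.badReduction)
  have hc0 : (V.map (residue R)).c₄ = 0 := by
    rw [map_c₄]; exact hmem _ (by simpa [WeierstrassCurve.baseChange] using h.additiveReduction)
  obtain ⟨r, s, t, e1, e2, e3, e4, e6⟩ := exists_cusp_coord _ hΔ0 hc0
  obtain ⟨r, rfl⟩ := Ideal.Quotient.mk_surjective r
  obtain ⟨s, rfl⟩ := Ideal.Quotient.mk_surjective s
  obtain ⟨t, rfl⟩ := Ideal.Quotient.mk_surjective t
  set V₁ := VariableChange.mk 1 r s t • V with hV₁def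
  have hV₁ : AllM V₁ := by
    simp only [map_a₁, map_a₂, map_a₃, map_a₄, map_a₆] at e1 e2 e3 e4 e6
    refine ⟨?_, ?_, ?_, ?_, ?_⟩ <;> rw [← residue_eq_zero_iff] <;>
      simp only [hV₁def, variableChange_def, inv_one, Units.val_one, one_pow, one_mul, map_add, map_sub, map_mul,
        map_pow, map_ofNat] <;> assumption
  have hS : Shift (V₁.map (algebraMap R K)) (V.map (algebraMap R K)) _ _ _ := map_shift V r s t
  rcases P with _ | ⟨x, y, hxy⟩
  · rw [← Point.zero_def, addOrderOf_zero] at hP; omega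
  obtain ⟨hn', hpre⟩ := hS.exists_preimage hxy
  replace hP : addOrderOf (hS.hom (Point.some _ _ hn')) = n := (congrArg addOrderOf hpre).trans hP
  rw [addOrderOf_injective hS.hom hS.hom_injective] at hP
  have hnu : IsUnit (n : R) := by
    by_contra hnn
    refine hk ?_
    rw [← map_natCast (residue R), residue_eq_zero_iff]
    exact hnn
  obtain ⟨r', s', t', g1, g2, g3, g4, g6⟩ := exists_deep_shift (K := K) V₁ hV₁ hn hnu _ hP
  obtain ⟨π, hπ⟩ := IsDiscreteValuationRing.exists_irreducible R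
  have hπm : maximalIdeal R = Ideal.span {π} := (IsDiscreteValuationRing.irreducible_iff_uniformizer π).1 hπ
  have hπ0 : algebraMap R K π ≠ 0 := fun e => hπ.ne_zero (hinj (e.trans (map_zero _).symm))
  let u : Kˣ := Units.mk0 _ hπ0
  let C : VariableChange R := VariableChange.mk 1 r' s' t' * VariableChange.mk 1 r s t
  let C' : VariableChange K := VariableChange.mk u 0 0 0 * C.map (algebraMap R K)
  have hC' : C' • (V⁄K) = VariableChange.mk u 0 0 0 • (VariableChange.mk 1 r' s' t' • V₁).map (algebraMap R K) := by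
    simp only [C', C, mul_smul, WeierstrassCurve.baseChange, map_variableChange, hV₁def]
  have hint : WeierstrassCurve.IsIntegral R (C' • (V⁄K)) := by
    rw [hC']
    obtain ⟨q1, hq1⟩ := Ideal.mem_span_singleton.1 (hπm ▸ g1)
    rw [hπm, Ideal.span_singleton_pow] at g2 g3
    obtain ⟨q2, hq2⟩ := Ideal.mem_span_singleton.1 g2
    obtain ⟨q3, hq3⟩ := Ideal.mem_span_singleton.1 g3
    refine isIntegral_of_exists_lift R ⟨q1, ?_⟩ ⟨q2, ?_⟩ ⟨q3, ?_⟩ ⟨0, ?_⟩ ⟨0, ?_⟩
    all_goals
      rw [variableChange_def]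
      simp only [map_a₁, map_a₂, map_a₃, map_a₄, map_a₆, Units.val_inv_eq_inv_val, u, Units.val_mk0, hq1, hq2, hq3,
        g4, g6, map_mul, map_pow, map_zero, mul_zero, zero_mul, add_zero, sub_zero, inv_pow, ne_eq,
        OfNat.ofNat_ne_zero, not_false_eq_true, zero_pow]
    all_goals field_simp
  have hmax := (WeierstrassCurve.IsMinimal.val_Δ_maximal (R := R) (W := V⁄K)).2 hint
  simp only [one_smul] at hmax
  let v := IsDedekindDomain.HeightOneSpectrum.valuation K (IsDiscreteValuationRing.maximalIdeal R)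
  have hΔ' : v (C' • (V⁄K)).Δ = v (V⁄K).Δ * (v (algebraMap R K π))⁻¹ ^ 12 := by
    rw [variableChange_Δ, map_mul, map_pow, mul_comm]
    simp [C', C, VariableChange.map, VariableChange.mul_def, u]
  have hπlt : v (algebraMap R K π) < 1 :=
    (IsDedekindDomain.HeightOneSpectrum.valuation_lt_one_iff_mem _ _).2
      (show π ∈ maximalIdeal R from hπm ▸ Ideal.mem_span_singleton_self π)
  have hpos : 0 < v (V⁄K).Δ := zero_lt_iff.2 (v.ne_zero_iff.2 (V⁄K).isUnit_Δ.ne_zero)
  have hgt : v (V⁄K).Δ < v (C' • (V⁄K)).Δ := by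
    rw [hΔ']
    refine lt_mul_of_one_lt_right hpos (one_lt_pow₀ ?_ (by norm_num))
    exact one_lt_inv_iff₀.2 ⟨zero_lt_iff.2 (v.ne_zero_iff.2 hπ0), hπlt⟩
  have e1' := valuation_Δ_aux_eq_of_isIntegral R (V⁄K)
  have e2' := valuation_Δ_aux_eq_of_isIntegral R (C' • (V⁄K))
  have hle : valuation_Δ_aux R (V⁄K) ≤ valuation_Δ_aux R (C' • (V⁄K)) := by
    rw [← Subtype.coe_le_coe, e1', e2']; exact hgt.le
  have := Subtype.coe_le_coe.2 (hmax hle)
  rw [e1', e2'] at this
  exact absurd this (not_le.2 hgt)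

end Groth.Agent.S14291
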