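import Groth.Statements.S14292
import Groth.Agent.EllEtaleIsoLib.Iso
open WeierstrassCurve Groth.Agent.EllEtaleIsoLib
-- import your own Groth.Agent.* helpers here

set_option autoImplicit false
universe u
open EllLift

namespace Groth.Agent.S14292

/-- Let A be a commutative ring and W₁, W₂ Weierstrass cubics over A with unit discriminants and the
same j-invariant j, such that j and j - 1728 are both units of A (the modular invariant avoids the
special values 0 and 1728 at every point). Then for every prime ideal p of A there exist an étale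
A-algebra B with a prime lying over p and a change of variables over B carrying the base change of
W₁ to that of W₂; that is, the two elliptic curves become isomorphic on an étale neighbourhood of
every point of Spec A. (The published statement is about Weierstrass curves with possibly nodal,
geometrically irreducible fibres over an arbitrary base scheme whose modular invariant avoids 0,
1728 and ∞; this row is the case of unit discriminant over an affine base.) -/
theorem result (A : Type u) [CommRing A]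
    (W₁ W₂ : WeierstrassCurve A) [W₁.IsElliptic] [W₂.IsElliptic] (hj : W₁.j = W₂.j)
    (h0 : IsUnit W₁.j) (h1728 : IsUnit (W₁.j - 1728)) (p : PrimeSpectrum A) :
    ∃ (B : Type u) (_ : CommRing B) (_ : Algebra A B), Algebra.Etale A B ∧
      p ∈ Set.range (PrimeSpectrum.comap (algebraMap A B)) ∧
      ∃ C : WeierstrassCurve.VariableChange B, C • (W₁.map (algebraMap A B)) = W₂.map (algebraMap A B) := by

  let k := AlgebraicClosure (p.asIdeal.ResidueField)
  let φ : A →+* k := (algebraMap p.asIdeal.ResidueField k).comp (algebraMap A p.asIdeal.ResidueField)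
  have hker : RingHom.ker φ = p.asIdeal := by
    ext a
    rw [RingHom.mem_ker, RingHom.comp_apply, map_eq_zero, Ideal.algebraMap_residueField_eq_zero]
  have hc4 : ∀ W : WeierstrassCurve A, ∀ [W.IsElliptic], IsUnit W.j → IsUnit W.c₄ := by
    intro W _ h
    rw [WeierstrassCurve.j] at h
    exact (isUnit_pow_iff (by norm_num)).mp (isUnit_of_mul_isUnit_right h)
  have hc6 : IsUnit W₁.c₆ := by
    refine (isUnit_pow_iff (n := 2) two_ne_zero).mp ?_
    have h : W₁.c₆ ^ 2 = (W₁.j - 1728) * W₁.Δ := by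
      rw [WeierstrassCurve.j, ← W₁.coe_Δ']
      have := W₁.c_relation
      rw [← W₁.coe_Δ'] at this
      linear_combination this - W₁.c₄ ^ 3 * W₁.Δ'.inv_mul
    rw [h]
    exact h1728.mul W₁.isUnit_Δ
  have hs : SameJ W₁ W₂ := by
    have h := hj
    rw [WeierstrassCurve.j, WeierstrassCurve.j] at h
    rw [SameJ, ← W₁.coe_Δ', ← W₂.coe_Δ']
    linear_combination ((W₁.Δ' : A) * W₂.Δ') * h - W₁.c₄ ^ 3 * (W₂.Δ' : A) * W₁.Δ'.inv_mul + W₂.c₄ ^ 3 * (W₁.Δ' : A) * W₂.Δ'.inv_mul
  have h4₁ := hc4 W₁ h0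
  have h4₂ := hc4 W₂ (hj ▸ h0)
  obtain ⟨D₁, _, g₁, χ₁, C₁, hg₁, hχ₁, hn₁⟩ := exists_normal φ W₁ h4₁
  obtain ⟨D₂, _, g₂, χ₂, C₂, hg₂, hχ₂, hn₂⟩ := exists_normal χ₁ (W₂.map g₁) (by rw [map_c₄]; exact h4₂.map g₁)
  set N₁ := C₁.map g₂ • (W₁.map g₁).map g₂ with hN₁
  set N₂ := C₂ • (W₂.map g₁).map g₂ with hN₂
  have hn₁' : IsNormal N₁ := by rw [hN₁, map_variableChange]; exact hn₁.map g₂
  have hu4₁ : IsUnit N₁.c₄ := by
    rw [hN₁, variableChange_c₄, map_c₄, map_c₄]
    exact (((C₁.map g₂).u⁻¹).isUnit.pow 4).mul ((h4₁.map g₁).map g₂)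
  have hu4₂ : IsUnit N₂.c₄ := by
    rw [hN₂, variableChange_c₄, map_c₄, map_c₄]
    exact ((C₂.u⁻¹).isUnit.pow 4).mul ((h4₂.map g₁).map g₂)
  have hu6 : IsUnit N₁.c₆ := by
    rw [hN₁, variableChange_c₆, map_c₆, map_c₆]
    exact (((C₁.map g₂).u⁻¹).isUnit.pow 6).mul ((hc6.map g₁).map g₂)
  obtain ⟨D₃, _, g₃, χ₃, C₃, hg₃, hχ₃, hn₃, hal⟩ :=
    exists_aligned χ₂ N₁ N₂ hn₁' hn₂ hu4₁ hu4₂ hu6 (((hs.map g₁).map g₂).smul _ _)
  obtain ⟨D₄, _, g₄, χ₄, C₄, hg₄, hχ₄, hC₄⟩ :=
    exists_twist χ₃ (N₁.map g₃) (C₃ • N₂.map g₃) (hn₁'.map g₃) hn₃ (by rw [map_c₄]; exact hu4₁.map g₃)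
      (by rw [variableChange_c₄, map_c₄]; exact ((C₃.u⁻¹).isUnit.pow 4).mul (hu4₂.map g₃))
      (by rw [map_b₂, map_a₆]; exact hal)
  let G : A →+* D₄ := g₄.comp (g₃.comp (g₂.comp g₁))
  have hG : G.Etale := etale_comp (etale_comp (etale_comp hg₁ hg₂) hg₃) hg₄
  letI : Algebra A D₄ := G.toAlgebra
  refine ⟨D₄, inferInstance, inferInstance, RingHom.etale_algebraMap.mp hG,
    ⟨⟨RingHom.ker χ₄, RingHom.ker_isPrime χ₄⟩, ?_⟩, ?_⟩
  · refine PrimeSpectrum.ext ?_
    rw [PrimeSpectrum.comap_asIdeal]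
    refine Eq.trans ?_ hker
    rw [RingHom.comap_ker, RingHom.algebraMap_toAlgebra]
    congr 1
    simp only [G]
    rw [← RingHom.comp_assoc, hχ₄, ← RingHom.comp_assoc, hχ₃, ← RingHom.comp_assoc, hχ₂, hχ₁]
  · rw [RingHom.algebraMap_toAlgebra]
    simp only [G]
    rw [← WeierstrassCurve.map_map, ← WeierstrassCurve.map_map, ← WeierstrassCurve.map_map,
      ← WeierstrassCurve.map_map, ← WeierstrassCurve.map_map, ← WeierstrassCurve.map_map]
    refine ⟨((C₃.map g₄) * (C₂.map g₃).map g₄)⁻¹ * (C₄ * ((C₁.map g₂).map g₃).map g₄), ?_⟩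
    rw [mul_smul, inv_smul_eq_iff, mul_smul, mul_smul, map_variableChange, map_variableChange,
      map_variableChange, map_variableChange, map_variableChange]
    simp only [hN₁, hN₂, map_variableChange] at hC₄ ⊢
    exact hC₄

end Groth.Agent.S14292
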