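import Groth.Statements.S14295
import Mathlib

set_option autoImplicit false
universe u v
open PtDeg

namespace Groth.Agent.S14295

/-- Let A and G be abelian groups, written additively, and f : A → G a map which is pointed of degree 2,
that is f(x+y+z) + f(x) + f(y) + f(z) = f(x+y) + f(x+z) + f(y+z) for all x, y, z in A. Then for
every integer n and every x in A one has f(n·x) = (n(n+1)/2)·f(x) + (n(n−1)/2)·f(−x) (the two
coefficients are the integers n(n+1)/2 and n(n−1)/2). -/
theorem result {A : Type u} {G : Type v} [AddCommGroup A] [AddCommGroup G]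
    (f : A → G) (hf : ∀ x y z : A, f (x + y + z) + f x + f y + f z = f (x + y) + f (x + z) + f (y + z))
    (n : ℤ) (x : A) :
    f (n • x) = (n * (n + 1) / 2) • f x + (n * (n - 1) / 2) • f (-x) := by
  have h0 : f 0 = 0 := by
    have := hf 0 0 0
    simp only [add_zero] at this
    exact add_eq_left.mp this
  let a : ℤ → G := fun n => f (n • x) - (n * (n + 1) / 2) • f x - (n * (n - 1) / 2) • f (-x)
  -- second difference
  have hsd : ∀ k : ℤ, f ((k + 1) • x) + f ((k - 1) • x) = 2 • f (k • x) + f x + f (-x) := by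
    intro k
    have := hf (k • x) x (-x)
    rw [add_smul, sub_smul, one_smul, sub_eq_add_neg]
    simp only [add_assoc, add_neg_cancel, add_zero, h0] at this
    rw [← this]; abel
  have ha : ∀ k : ℤ, a (k+1) + a (k-1) = 2 • a k := by
    intro k
    have e1 : (k + 1) * (k + 1 + 1) / 2 + (k - 1) * (k - 1 + 1) / 2 = 2 * (k * (k + 1) / 2) + 1 := by
      obtain ⟨c, hc⟩ := (Int.even_mul_succ_self k)
      rw [show (k + 1) * (k + 1 + 1) = k * (k+1) + 2*(k+1) by ring, show (k - 1) * (k - 1 + 1) = k*(k+1) - 2*k by ring, hc]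
      omega
    have e2 : (k + 1) * (k + 1 - 1) / 2 + (k - 1) * (k - 1 - 1) / 2 = 2 * (k * (k - 1) / 2) + 1 := by
      obtain ⟨c, hc⟩ := (Int.even_mul_pred_self k)
      rw [show (k + 1) * (k + 1 - 1) = k * (k-1) + 2*k by ring, show (k - 1) * (k - 1 - 1) = k*(k-1) - 2*(k-1) by ring, hc]
      omega
    simp only [a]
    linear_combination (norm := skip) hsd k
    have E1 := congrArg (fun t : ℤ => t • f x) e1
    have E2 := congrArg (fun t : ℤ => t • f (-x)) e2
    simp only [add_smul, mul_smul, one_smul] at E1 E2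
    linear_combination (norm := abel) -E1 - E2
  have hz : ∀ k : ℕ, a k = 0 ∧ a (-(k:ℤ)) = 0 := by
    have a0 : a 0 = 0 := by simp [a, h0]
    have a1 : a 1 = 0 := by simp [a]
    have am1 : a (-1) = 0 := by simp [a]
    intro k
    induction k using Nat.twoStepInduction with
    | zero => simpa using a0
    | one => exact ⟨by simpa using a1, by simpa using am1⟩
    | more k ih1 ih2 =>
      constructor
      · have := ha ((k:ℤ) + 1)
        rw [add_sub_cancel_right, ih1.1, show ((k:ℤ)+1) = ((k+1 : ℕ):ℤ) by push_cast; rfl, ih2.1] at this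
        simpa [add_assoc] using this
      · have := ha (-((k:ℤ) + 1))
        rw [show -((k:ℤ)+1) + 1 = -(k:ℤ) by ring, ih1.2, show ((k:ℤ)+1) = ((k+1 : ℕ):ℤ) by push_cast; rfl, ih2.2] at this
        rw [show -((k + 1 + 1 : ℕ):ℤ) = -((k+1:ℕ):ℤ) - 1 by push_cast; ring]
        simpa using this
  have hn : a n = 0 := by
    rcases Int.eq_nat_or_neg n with ⟨k, rfl | rfl⟩
    · exact (hz k).1
    · exact (hz k).2
  simp only [a] at hn
  rw [← sub_eq_zero, ← hn]; abel

end Groth.Agent.S14295
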