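import Groth.Statements.S14294
import Mathlib
import Groth.Agent.S14295

set_option autoImplicit false
universe u v
open PtDeg

namespace Groth.Agent.S14294
open Groth.Agent

/-- Let A and G be abelian groups, written additively, and f : A → G a map which is pointed of degree 2,
that is f(x+y+z) + f(x) + f(y) + f(z) = f(x+y) + f(x+z) + f(y+z) for all x, y, z in A. If an integer
n satisfies n·x = 0 for every x in A, then 2n·f(x) = 0 for every x in A, and if moreover n is odd
then n·f(x) = 0 for every x in A. -/
theorem result {A : Type u} {G : Type v} [AddCommGroup A] [AddCommGroup G]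
    (f : A → G) (hf : ∀ x y z : A, f (x + y + z) + f x + f y + f z = f (x + y) + f (x + z) + f (y + z))
    (n : ℤ) (hn : ∀ x : A, n • x = 0) :
    (∀ x : A, (2 * n) • f x = 0) ∧ (Odd n → ∀ x : A, n • f x = 0) := by
  have f0 : f 0 = 0 := by
    have := hf 0 0 0; simp only [add_zero] at this; exact add_eq_left.mp this
  have k0 : ∀ x, (n * (n + 1) / 2) • f x + (n * (n - 1) / 2) • f (-x) = 0 := fun x => by
    have h := S14295.result f hf n x
    rw [hn x, f0] at h; exact h.symm
  have hsum : ∀ x, n • f x + n • f (-x) = 0 := by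
    intro x
    have h := S14295.result f hf (n + 1) x
    rw [add_smul, hn, one_smul, zero_add,
      show (n + 1) * (n + 1 + 1) = n * (n + 1) + (n + 1) * 2 by ring, Int.add_mul_ediv_right _ _ (by norm_num : (2:ℤ) ≠ 0),
      show (n + 1) * (n + 1 - 1) = n * (n - 1) + n * 2 by ring, Int.add_mul_ediv_right _ _ (by norm_num : (2:ℤ) ≠ 0)] at h
    linear_combination (norm := module) -h - k0 x
  have hdiff : ∀ x, n • f x = n • f (-x) := by
    intro x
    have h1 := k0 x
    have h2 := k0 (-x)
    rw [neg_neg] at h2
    have e : n * (n + 1) / 2 = n * (n - 1) / 2 + n := by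
      rw [show n * (n + 1) = n * (n - 1) + n * 2 by ring, Int.add_mul_ediv_right _ _ (by norm_num : (2:ℤ) ≠ 0)]
    rw [e] at h1 h2
    linear_combination (norm := module) h1 - h2
  have h2n : ∀ x, (2 * n) • f x = 0 := fun x => by
    linear_combination (norm := module) hsum x + hdiff x
  refine ⟨h2n, fun hodd x => ?_⟩
  obtain ⟨c, rfl⟩ := hodd
  have h1 := k0 x
  rw [show (2 * c + 1) * (2 * c + 1 + 1) = ((2 * c + 1) * (c + 1)) * 2 by ring, Int.mul_ediv_cancel _ (by norm_num : (2:ℤ) ≠ 0),
    show (2 * c + 1) * (2 * c + 1 - 1) = ((2 * c + 1) * c) * 2 by ring, Int.mul_ediv_cancel _ (by norm_num : (2:ℤ) ≠ 0)] at h1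
  linear_combination (norm := module) h1 + c • hdiff x - c • h2n x

end Groth.Agent.S14294
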