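import Groth.Statements.S14296
import Mathlib
import Groth.Agent.S14295

set_option autoImplicit false
universe u v
open PtDeg

namespace Groth.Agent.S14296

/-- Let G and H be abelian groups, written additively, n an integer such that 2n²·x = 0 for every x in
G, and d : G → H a quadratic map, meaning that d is pointed of degree 2 (d(x+y+z) + d(x) + d(y) +
d(z) = d(x+y) + d(x+z) + d(y+z) for all x, y, z) and even (d(−x) = d(x) for all x). Then d(2n·x) = 0
for every x in G. -/
theorem result {G : Type u} {H : Type v} [AddCommGroup G] [AddCommGroup H]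
    (n : ℤ) (hn : ∀ x : G, (2 * n ^ 2) • x = 0)
    (d : G → H) (hd : ∀ x y z : G, d (x + y + z) + d x + d y + d z = d (x + y) + d (x + z) + d (y + z))
    (heven : ∀ x : G, d (-x) = d x) (x : G) :
    d ((2 * n) • x) = 0 := by
  have sq : ∀ k : ℤ, d (k • x) = (k ^ 2) • d x := by
    intro k
    rw [S14295.result d hd k x, heven, ← add_smul]
    congr 1
    obtain ⟨c, hc⟩ := Int.even_mul_succ_self k
    have e : k * (k - 1) = k * (k + 1) - 2 * k := by ring
    have e2 : k ^ 2 = k * (k + 1) - k := by ring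
    rw [e2, e, hc]; omega
  have h0 : d 0 = 0 := by
    have := sq 0; simpa using this
  have h1 : ((2 * n ^ 2 + 1) ^ 2 : ℤ) • d x = d x := by
    rw [← sq, add_smul, hn, zero_add, one_smul]
  have h2 : ((2 * n ^ 2) ^ 2 : ℤ) • d x = 0 := by
    rw [← sq, hn, h0]
  rw [show ((2 * n ^ 2 + 1) ^ 2 : ℤ) = (2 * n ^ 2) ^ 2 + (4 * n ^ 2 + 1) by ring, add_smul, h2, zero_add,
    add_smul, one_smul, add_eq_right] at h1
  rw [sq, show ((2 * n) ^ 2 : ℤ) = 4 * n ^ 2 by ring, h1]

end Groth.Agent.S14296
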