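import Mathlib
import Mathlib
import Groth.Statements.S14297

set_option autoImplicit false
universe u
open MeasureTheory
open PtDeg

namespace Groth.Agent.S14297

section Aux

open MeasureTheory Finset

variable {G : Type u} [AddCommGroup G] [TopologicalSpace G] [IsTopologicalAddGroup G] [CompactSpace G]
  [T2Space G] [MeasurableSpace G] [BorelSpace G]

/-- The alternating sum over all subsets. -/
noncomputable def T {n : ℕ} (f : G → ℝ) (x : Fin n → G) : ℝ :=
  ∑ I ∈ (univ : Finset (Fin n)).powerset, (-1 : ℝ) ^ I.card * f (∑ i ∈ I, x i)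

/-- The deviation. -/
noncomputable def S {n : ℕ} (f : G → ℝ) (x : Fin n → G) : ℝ :=
  ∑ I ∈ (univ : Finset (Fin n)).powerset.erase ∅, (-1 : ℝ) ^ (1 + I.card) * f (∑ i ∈ I, x i)

omit [TopologicalSpace G] [IsTopologicalAddGroup G] [CompactSpace G] [T2Space G] [MeasurableSpace G]
  [BorelSpace G] in
theorem S_eq {n : ℕ} (f : G → ℝ) (x : Fin n → G) : S f x = f 0 - T f x := by
  rw [T, ← Finset.add_sum_erase _ _ (Finset.empty_mem_powerset _), S]
  simp only [Finset.card_empty, pow_zero, one_mul, Finset.sum_empty, sub_add_cancel_left,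
    pow_add, pow_one, neg_mul, Finset.sum_neg_distrib]

omit [TopologicalSpace G] [IsTopologicalAddGroup G] [CompactSpace G] [T2Space G] [MeasurableSpace G]
  [BorelSpace G] in
theorem T_insert {n : ℕ} (f : G → ℝ) (x : Fin (n + 1) → G) (p : Fin (n + 1)) :
    T f x = T f (fun i => x (p.succAbove i)) - T (fun g => f (g + x p)) (fun i => x (p.succAbove i)) := by
  let e : Fin n ↪ Fin (n + 1) := p.succAboveEmb
  have hu : (univ : Finset (Fin (n + 1))) = insert p (univ.map e) := by
    ext i
    rcases Fin.eq_self_or_eq_succAbove p i with rfl | ⟨j, rfl⟩ <;> simp [e]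
  have hp : p ∉ (univ : Finset (Fin n)).map e := by simp [e, Fin.succAbove_ne]
  have hpow : ((univ : Finset (Fin n)).map e).powerset =
      (univ : Finset (Fin n)).powerset.map (Finset.mapEmbedding e).toEmbedding := by
    ext I
    simp only [Finset.mem_powerset, Finset.mem_map, Finset.subset_map_iff]
    exact ⟨fun ⟨J, h, hJ⟩ => ⟨J, h, hJ.symm⟩, fun ⟨J, h, hJ⟩ => ⟨J, h, hJ.symm⟩⟩
  rw [T, hu, Finset.sum_powerset_insert hp, hpow, Finset.sum_map, Finset.sum_map, sub_eq_add_neg,
    T, T, ← Finset.sum_neg_distrib]
  congr 1
  · exact Finset.sum_congr rfl fun I _ => by simp [e, Finset.mapEmbedding_apply]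
  · refine Finset.sum_congr rfl fun I _ => ?_
    have hpI : p ∉ I.map e := by simp [e, Fin.succAbove_ne]
    change (-1 : ℝ) ^ (insert p (I.map e)).card * f (∑ i ∈ insert p (I.map e), x i) = _
    rw [Finset.card_insert_of_notMem hpI, Finset.sum_insert hpI, Finset.card_map, Finset.sum_map,
      pow_succ, add_comm (x p)]
    simp [e]

omit [TopologicalSpace G] [IsTopologicalAddGroup G] [CompactSpace G] [T2Space G] [MeasurableSpace G]
  [BorelSpace G] in
theorem S_snoc {n : ℕ} (f : G → ℝ) (y : Fin (n + 1) → G) (b : G) :
    S f (Fin.snoc y b : Fin (n + 2) → G) =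
      S f y + S f (Function.update y 0 b) - S f (Function.update y 0 (y 0 + b)) := by
  have h0 : ∀ (c : G) (g : G → ℝ), T g (Function.update y 0 c) =
      T g (Fin.tail y) - T (fun z => g (z + c)) (Fin.tail y) := fun c g => by
    rw [T_insert g _ 0]
    simp [Fin.tail, Function.update_self, Fin.succ_ne_zero]
    rfl
  have hy : ∀ g : G → ℝ, T g y = T g (Fin.tail y) - T (fun z => g (z + y 0)) (Fin.tail y) :=
    fun g => by
      have := h0 (y 0) g
      rwa [Function.update_eq_self] at this
  simp only [S_eq, h0, hy]
  rw [T_insert f _ (Fin.last (n + 1))]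
  simp only [Fin.succAbove_last, Fin.snoc_castSucc, Fin.snoc_last, hy]
  rw [show (fun z => f (z + y 0 + b)) = fun z => f (z + (y 0 + b)) from
    funext fun z => by rw [add_assoc]]
  ring

/-- Continuous functions on a finite power are measurable for the product σ-algebra. -/
theorem measurable_pi_of_continuous {n : ℕ} (F : (Fin n → G) → ℝ) (hF : Continuous F) :
    Measurable F := by
  let A : Subalgebra ℝ C(Fin n → G, ℝ) :=
    { carrier := {g | Measurable g}
      mul_mem' := fun ha hb => ha.mul hb
      add_mem' := fun ha hb => ha.add hb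
      algebraMap_mem' := fun r => measurable_const }
  have hsep : A.SeparatesPoints := by
    intro u v huv
    obtain ⟨i, hi⟩ := Function.ne_iff.mp huv
    obtain ⟨g, hg0, hg1, -⟩ := exists_continuous_zero_one_of_isClosed (isClosed_singleton (x := u i))
      (isClosed_singleton (x := v i)) (by simpa using hi)
    refine ⟨_, ⟨g.comp ⟨fun w => w i, continuous_apply i⟩, ?_, rfl⟩, ?_⟩
    · exact g.continuous.measurable.comp (measurable_pi_apply i)
    · have h0 := hg0 (Set.mem_singleton (u i))
      have h1 := hg1 (Set.mem_singleton (v i))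
      simp only [Pi.zero_apply, Pi.one_apply] at h0 h1
      simp [h0, h1]
  have hmem := ContinuousMap.continuousMap_mem_subalgebra_closure_of_separatesPoints A hsep ⟨F, hF⟩
  have hmem' : (⟨F, hF⟩ : C(Fin n → G, ℝ)) ∈ closure (A : Set C(Fin n → G, ℝ)) := hmem
  obtain ⟨s, hs, hlim⟩ := mem_closure_iff_seq_limit.mp hmem'
  refine measurable_of_tendsto_metrizable (f := fun k => ⇑(s k)) hs (tendsto_pi_nhds.mpr fun u => ?_)
  exact ((ContinuousEvalConst.continuous_eval_const u).tendsto _).comp hlim

theorem integrable_of_continuous {n : ℕ} (μ : Measure G) [IsProbabilityMeasure μ]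
    (F : (Fin n → G) → ℝ) (hF : Continuous F) :
    Integrable F (Measure.pi fun _ => μ) := by
  obtain ⟨C, hC⟩ := isCompact_univ.exists_bound_of_continuousOn hF.continuousOn
  exact Integrable.of_bound (measurable_pi_of_continuous F hF).aestronglyMeasurable C
    (Filter.Eventually.of_forall fun u => hC u trivial)

theorem integrable_one (μ : Measure G) [IsProbabilityMeasure μ] (F : G → ℝ) (hF : Continuous F) :
    Integrable F μ := by
  obtain ⟨C, hC⟩ := isCompact_univ.exists_bound_of_continuousOn hF.continuousOn
  exact Integrable.of_bound hF.measurable.aestronglyMeasurable C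
    (Filter.Eventually.of_forall fun u => hC u trivial)

/-- Parametric integrals over a compact space are continuous. -/
theorem continuous_integral {X Y : Type*} [TopologicalSpace X] [TopologicalSpace Y] [CompactSpace Y]
    [MeasurableSpace Y] (ν : Measure Y) [IsProbabilityMeasure ν]
    (hY : ∀ F : Y → ℝ, Continuous F → Integrable F ν)
    (f : X → Y → ℝ) (hf : Continuous (Function.uncurry f)) :
    Continuous fun x => ∫ y, f x y ∂ν := by
  have hl : LipschitzWith 1 (fun g : C(Y, ℝ) => ∫ y, g y ∂ν) := by
    refine LipschitzWith.of_dist_le_mul fun g g' => ?_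
    rw [dist_eq_norm, ← integral_sub (hY _ g.continuous) (hY _ g'.continuous), NNReal.coe_one,
      one_mul, dist_eq_norm]
    refine (norm_integral_le_of_norm_le_const (μ := ν) (C := ‖g - g'‖)
      (Filter.Eventually.of_forall fun y => (g - g').norm_coe_le_norm y)).trans ?_
    simp
  exact hl.continuous.comp (ContinuousMap.curry ⟨Function.uncurry f, hf⟩).continuous

/-- A continuous cocycle is the deviation of its integral. -/
theorem eq_deviation (μ : Measure G) [μ.IsAddHaarMeasure] [IsProbabilityMeasure μ] :
    ∀ (n : ℕ) (ψ : (Fin (n + 1) → G) → ℝ), Continuous ψ →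
      (∀ (i j : Fin (n + 1)), i ≠ j → ∀ (x : Fin (n + 1) → G) (a b c : G),
        ψ (Function.update (Function.update x i (a + b)) j c) +
          ψ (Function.update (Function.update x i a) j b) =
        ψ (Function.update (Function.update x i a) j (b + c)) +
          ψ (Function.update (Function.update x i b) j c)) →
      ∀ x, ψ x = S (fun g => ∫ u, ψ (Fin.cons g u) ∂(Measure.pi fun _ : Fin n => μ)) x := by
  intro n
  induction n with
  | zero =>
    intro ψ _ _ x
    rw [S, show ((univ : Finset (Fin 1)).powerset.erase ∅) = {{0}} from by decide,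
      Finset.sum_singleton, Finset.card_singleton, Finset.sum_singleton]
    rw [Measure.pi_of_empty (fun _ : Fin 0 => μ) (default : Fin 0 → G), integral_dirac]
    norm_num
    congr 1
    funext i
    rw [Fin.eq_zero i, Fin.cons_zero]
  | succ n ih =>
    intro ψ hψc hψ x
    let ψ' : (Fin (n + 1) → G) → ℝ := fun y => ∫ c, ψ (Fin.snoc y c) ∂μ
    have hsn : Continuous fun q : (Fin (n + 1) → G) × G => ψ (Fin.snoc q.1 q.2) :=
      hψc.comp (continuous_pi fun i => by
        refine Fin.lastCases ?_ (fun j => ?_) i
        · simpa using continuous_snd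
        · simpa using (continuous_apply j).comp' continuous_fst)
    have hint : ∀ y : Fin (n + 1) → G, Integrable (fun c => ψ (Fin.snoc y c)) μ := fun y =>
      integrable_one μ _ (hsn.comp (continuous_const.prodMk continuous_id))
    have hψ'c : Continuous ψ' := continuous_integral μ (fun F hF => integrable_one μ F hF)
      (fun y c => ψ (Fin.snoc y c)) hsn
    have hψ' : ∀ (i j : Fin (n + 1)), i ≠ j → ∀ (x : Fin (n + 1) → G) (a b c : G),
        ψ' (Function.update (Function.update x i (a + b)) j c) +
          ψ' (Function.update (Function.update x i a) j b) =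
        ψ' (Function.update (Function.update x i a) j (b + c)) +
          ψ' (Function.update (Function.update x i b) j c) := by
      intro i j hij x a b c
      simp only [ψ']
      rw [← integral_add (hint _) (hint _), ← integral_add (hint _) (hint _)]
      refine integral_congr_ae (Filter.Eventually.of_forall fun d => ?_)
      simp only [Fin.snoc_update]
      exact hψ i.castSucc j.castSucc (by simpa using hij) (Fin.snoc x d) a b c
    -- integrate the cocycle identity in the first and last variable
    have hkey : ∀ (y : Fin (n + 1) → G) (b : G), ψ (Fin.snoc y b) =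
        ψ' y + ψ' (Function.update y 0 b) - ψ' (Function.update y 0 (y 0 + b)) := by
      intro y b
      have h : ∀ c, ψ (Fin.snoc (Function.update y 0 (y 0 + b)) c) + ψ (Fin.snoc y b) =
          ψ (Fin.snoc y (b + c)) + ψ (Fin.snoc (Function.update y 0 b) c) := by
        intro c
        have hne : (0 : Fin (n + 1)).castSucc ≠ Fin.last (n + 1) := (Fin.castSucc_lt_last 0).ne
        have := hψ _ _ hne (Fin.snoc y 0) (y 0) b c
        simpa only [← Fin.snoc_update, Fin.update_snoc_last, Function.update_eq_self] using this
      have hI := congrArg (fun F => ∫ c, F c ∂μ) (funext h)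
      simp only at hI
      rw [integral_add (hint _) (integrable_const _),
        integral_add ((hint y).comp_add_left b) (hint _), integral_const, probReal_univ, one_smul,
        integral_add_left_eq_self (fun c => ψ (Fin.snoc y c)) b] at hI
      simp only [ψ']
      linarith
    have hΦ : (fun g => ∫ u, ψ' (Fin.cons g u) ∂(Measure.pi fun _ : Fin n => μ)) =
        fun g => ∫ u, ψ (Fin.cons g u) ∂(Measure.pi fun _ : Fin (n + 1) => μ) := by
      funext g
      have hg : Integrable (fun u : Fin (n + 1) → G => ψ (Fin.cons g u))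
          (Measure.pi fun _ => μ) :=
        integrable_of_continuous μ _ (hψc.comp (continuous_pi fun i => by
          refine Fin.cases ?_ (fun j => ?_) i
          · simpa using continuous_const
          · simpa using continuous_apply j))
      have mp := (measurePreserving_piFinSuccAbove (fun _ : Fin (n + 1) => μ) (Fin.last n)).symm
      rw [← mp.integral_comp' (fun u => ψ (Fin.cons g u))]
      refine (Eq.trans (integral_prod_symm _ ((mp.integrable_comp_emb
        (MeasurableEquiv.measurableEmbedding _)).mpr hg)) ?_).symm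
      refine integral_congr_ae (Filter.Eventually.of_forall fun u => ?_)
      refine integral_congr_ae (Filter.Eventually.of_forall fun c => ?_)
      simp only [MeasurableEquiv.piFinSuccAbove_symm_apply, Fin.insertNthEquiv_apply]
      change ψ (Fin.cons g (Fin.insertNth (Fin.last n) c u)) = ψ (Fin.snoc (Fin.cons g u) c)
      rw [Fin.insertNth_last', Fin.cons_snoc_eq_snoc_cons]
    rw [← hΦ, ← Fin.snoc_init_self x, hkey, S_snoc, ih ψ' hψ'c hψ', ih ψ' hψ'c hψ',
      ih ψ' hψ'c hψ']

/-- A continuous function with zero deviation is zero. -/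
theorem eq_zero_of_deviation (μ : Measure G) [μ.IsAddHaarMeasure] [IsProbabilityMeasure μ]
    (δ : G → ℝ) (hδ : Continuous δ) :
    ∀ (n : ℕ), (∀ x : Fin (n + 1) → G, S δ x = 0) → ∀ g, δ g = 0 := by
  intro n
  induction n with
  | zero =>
    intro h g
    have := h (fun _ => g)
    rw [S, show ((univ : Finset (Fin 1)).powerset.erase ∅) = {{0}} from by decide,
      Finset.sum_singleton, Finset.card_singleton, Finset.sum_singleton] at this
    simpa using this
  | succ n ih =>
    intro h
    refine ih fun y => ?_
    let F : G → ℝ := fun c => S δ (Function.update y 0 c)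
    have hF : Continuous F := continuous_finsetSum _ fun I _ =>
      continuous_const.mul (hδ.comp (continuous_finsetSum _ fun i _ =>
        (continuous_apply i).comp' ((continuous_const (y := y)).update 0 continuous_id')))
    have h1 : ∀ b, S δ y + F b - F (y 0 + b) = 0 := fun b => by
      rw [← h (Fin.snoc y b), S_snoc]
    have h2 : ∫ b, (S δ y + F b - F (y 0 + b)) ∂μ = 0 := by simp only [h1, integral_zero]
    have hFi := integrable_one μ F hF
    have hci : Integrable (fun _ : G => S δ y) μ := integrable_const _
    rw [integral_sub (hci.fun_add hFi) (hFi.comp_add_left _), integral_add hci hFi, integral_const,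
      probReal_univ, one_smul, integral_add_left_eq_self F (y 0), add_sub_cancel_right] at h2
    exact h2

end Aux

/-- Let G be a compact Hausdorff commutative topological group, written additively, μ its Haar measure
of total mass 1, m ≥ 1 an integer and ψ : G^{m+1} → ℝ a continuous function which is a 2-cocycle
with respect to every pair of variables: for all positions i ≠ j, every point x of G^{m+1} and all
a, b, c in G, writing x[i ↦ a, j ↦ c] for x with its i-th coordinate replaced by a and its j-th by
c, one has ψ(x[i ↦ a+b, j ↦ c]) + ψ(x[i ↦ a, j ↦ b]) = ψ(x[i ↦ a, j ↦ b+c]) + ψ(x[i ↦ b, j ↦ c]).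
Let φ : G → ℝ be φ(g) = (−1)^m ∫_{G^m} ψ(g, u_1, …, u_m) dμ^{⊗m}(u). Then ψ is the (m+1)-st
deviation of φ, namely ψ(x) = Σ_{∅ ≠ I ⊆ {0,…,m}} (−1)^{m+1+|I|} φ(Σ_{i ∈ I} x_i) for every x; φ is
continuous; and φ is the unique continuous function G → ℝ with this property. -/
theorem result {G : Type u} [AddCommGroup G] [TopologicalSpace G] [IsTopologicalAddGroup G] [CompactSpace G] [T2Space G]
    [MeasurableSpace G] [BorelSpace G] (μ : MeasureTheory.Measure G) [μ.IsAddHaarMeasure] [MeasureTheory.IsProbabilityMeasure μ]
    (m : ℕ) (hm : 1 ≤ m) (ψ : (Fin (m + 1) → G) → ℝ) (hψc : Continuous ψ)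
    (hψ : ∀ (i j : Fin (m + 1)), i ≠ j → ∀ (x : Fin (m + 1) → G) (a b c : G),
      ψ (Function.update (Function.update x i (a + b)) j c) + ψ (Function.update (Function.update x i a) j b) =
        ψ (Function.update (Function.update x i a) j (b + c)) + ψ (Function.update (Function.update x i b) j c)) :
    (∀ x : Fin (m + 1) → G,
      ψ x = ∑ I ∈ ((Finset.univ : Finset (Fin (m + 1))).powerset.erase ∅),
        (-1 : ℝ) ^ (m + 1 + I.card) * ((-1 : ℝ) ^ m *
          ∫ u, ψ (Fin.cons (∑ i ∈ I, x i) u) ∂(MeasureTheory.Measure.pi (fun _ : Fin m => μ)))) ∧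
    Continuous (fun g : G => (-1 : ℝ) ^ m * ∫ u, ψ (Fin.cons g u) ∂(MeasureTheory.Measure.pi (fun _ : Fin m => μ))) ∧
    (∀ φ : G → ℝ, Continuous φ → (∀ x : Fin (m + 1) → G,
      ψ x = ∑ I ∈ ((Finset.univ : Finset (Fin (m + 1))).powerset.erase ∅), (-1 : ℝ) ^ (m + 1 + I.card) * φ (∑ i ∈ I, x i)) →
      φ = fun g => (-1 : ℝ) ^ m * ∫ u, ψ (Fin.cons g u) ∂(MeasureTheory.Measure.pi (fun _ : Fin m => μ))) := by
  let Φ : G → ℝ := fun g => ∫ u, ψ (Fin.cons g u) ∂(MeasureTheory.Measure.pi fun _ : Fin m => μ)
  have hsq : (-1 : ℝ) ^ m * (-1 : ℝ) ^ m = 1 := by rw [← mul_pow]; norm_num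
  have hdev := eq_deviation μ m ψ hψc hψ
  have hΦc : Continuous Φ := continuous_integral _ (fun F hF => integrable_of_continuous μ F hF)
    (fun g u => ψ (Fin.cons g u)) (hψc.comp (continuous_pi fun i => by
      refine Fin.cases ?_ (fun j => ?_) i
      · simpa using continuous_fst
      · simpa using (continuous_apply j).comp' continuous_snd))
  refine ⟨fun x => ?_, continuous_const.mul hΦc, fun φ hφ hx => ?_⟩
  · rw [hdev x, S]
    refine Finset.sum_congr rfl fun I _ => ?_
    linear_combination (-((-1 : ℝ) ^ (1 + I.card) * Φ (∑ i ∈ I, x i))) * hsq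
  · let δ : G → ℝ := fun g => (-1 : ℝ) ^ m * φ g - Φ g
    have hδ : ∀ g, δ g = 0 := eq_zero_of_deviation μ δ
      ((continuous_const.mul hφ).sub hΦc) m fun x => by
        have h1 := hdev x
        rw [hx x, S] at h1
        rw [S, ← sub_eq_zero.mpr h1, ← Finset.sum_sub_distrib]
        refine Finset.sum_congr rfl fun I _ => ?_
        simp only [δ, Φ, pow_add]
        ring
    funext g
    have h := sub_eq_zero.mp (hδ g)
    linear_combination (-φ g) * hsq + (-1 : ℝ) ^ m * h

end Groth.Agent.S14297
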