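import Groth.Statements.S14298
import Groth.Agent.AmpleLib.Pullback
import Groth.Agent.ParaFLib.Depth
import Groth.Agent.ParaFLib.StalkPair
import Groth.Agent.ParaFLib.Extend
import Groth.Agent.PullbackMod.OpenLocus
import Groth.Agent.PullbackMod.Props
import Groth.Agent.PullbackMod.Hom
import Groth.Agent.QCohLib.Push
import Groth.Agent.S2062
import Groth.Agent.S11133
import Groth.Agent.Depth.FlatLocal

-- import your own Groth.Agent.* helpers here

set_option autoImplicit false
universe u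
open CategoryTheory CategoryTheory.Limits AlgebraicGeometry
open PicF

set_option backward.isDefEq.respectTransparency false
set_option backward.isDefEq.respectTransparency.types false
set_option linter.style.haveILetI false
set_option maxHeartbeats 1000000

namespace Groth.Agent.S14298

open Groth.Agent.ParaFLib TopologicalSpace Opposite
open scoped TensorProduct

/-- A quasi-coherent module, invertible over a big open, closed for it and invertible after a faithfully flat
base change, is invertible. -/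
theorem isInvertible_of_flat_descent {X X' : Scheme.{u}} [IsLocallyNoetherian X] (φ : X' ⟶ X) [Flat φ] [Surjective φ]
    (V : X.Opens) (hV : ∀ x : X, x ∉ V → 2 ≤ LocCoh.depth (X.presheaf.stalk x) (X.presheaf.stalk x))
    (M : X.Modules) [Coh.IsQCoh M] (hMV : PicF.IsInvertible (M.restrict V.ι)) (hMc : IsClosed' V.ι M)
    (hφ : PicF.IsInvertible ((Scheme.Modules.pullback φ).obj M)) : PicF.IsInvertible M := by
  have hgenV : ∀ y ∈ V, ∃ (W : X.Opens) (w : Γ(M, W)), y ∈ W ∧ Gen W w := by
    intro y hy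
    obtain ⟨W, s, hyW, hs⟩ := exists_gen_nhd hMV ⟨y, hy⟩
    exact ⟨V.ι ''ᵁ W, s, ⟨⟨y, hy⟩, hyW, rfl⟩, (gen_restrict_iff V.ι s).1 hs⟩
  have hO := (isClosed'_iff _ _).1 (isClosed'_of_depth V hV isInvertible_structureModule)
  have hM := (isClosed'_iff _ _).1 hMc
  have himg : ∀ O : X.Opens, V.ι ''ᵁ (V.ι ⁻¹ᵁ O) = O ⊓ V := fun O => by
    rw [Scheme.Hom.image_preimage_eq_opensRange_inf, Scheme.Opens.opensRange_ι, inf_comm]
  simp only [himg] at hO hM
  refine AmpleLib.isInvertible_of_gen fun x => ?_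
  -- a generator of the stalk at `x`
  obtain ⟨e, he⟩ : ∃ e : M.presheaf.stalk x, Function.Bijective fun r : X.presheaf.stalk x => r • e := by
    obtain ⟨x', rfl⟩ := φ.surjective x
    letI := (φ.stalkMap x').hom.toAlgebra
    haveI := PullbackMod.faithfullyFlat_stalk φ x'
    obtain ⟨ψ, -⟩ := PullbackMod.exists_pullback_stalk_equiv φ M x'
    obtain ⟨t, ht⟩ := exists_stalk_gen hφ x'
    let c : X'.presheaf.stalk x' ⊗[X.presheaf.stalk (φ x')] M.presheaf.stalk (φ x') ≃ₗ[X'.presheaf.stalk x']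
        X'.presheaf.stalk x' :=
      ψ ≪≫ₗ (LinearEquiv.ofBijective (LinearMap.toSpanSingleton (X'.presheaf.stalk x') _ t) ht).symm
    obtain ⟨m, hm⟩ : ∃ m, IsUnit (c (1 ⊗ₜ m)) := by
      by_contra hno
      simp only [not_exists] at hno
      have h1 : ∀ z, c z ∈ IsLocalRing.maximalIdeal (X'.presheaf.stalk x') := by
        intro z
        induction z with
        | zero => rw [map_zero]; exact zero_mem _
        | add a b ha hb => rw [map_add]; exact add_mem ha hb
        | tmul b m =>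
          rw [show b ⊗ₜ[X.presheaf.stalk (φ x')] m = b • ((1 : X'.presheaf.stalk x') ⊗ₜ m) by
            rw [TensorProduct.smul_tmul', smul_eq_mul, mul_one], map_smul, smul_eq_mul]
          exact Ideal.mul_mem_left _ _ ((IsLocalRing.mem_maximalIdeal _).2 (hno m))
      obtain ⟨z, hz⟩ := c.surjective 1
      exact (IsLocalRing.maximalIdeal.isMaximal (X'.presheaf.stalk x')).ne_top
        ((Ideal.eq_top_iff_one _).2 (hz ▸ h1 z))
    let f : X.presheaf.stalk (φ x') →ₗ[X.presheaf.stalk (φ x')] M.presheaf.stalk (φ x') :=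
      LinearMap.toSpanSingleton (X.presheaf.stalk (φ x')) _ m
    refine ⟨m, show Function.Bijective f from ?_⟩
    refine (Module.FaithfullyFlat.lTensor_bijective_iff_bijective (X.presheaf.stalk (φ x'))
      (X'.presheaf.stalk x') f).1 ?_
    have key : ∀ z, c (f.lTensor (X'.presheaf.stalk x') z) =
        TensorProduct.AlgebraTensorModule.rid (X.presheaf.stalk (φ x')) (X'.presheaf.stalk x') (X'.presheaf.stalk x') z
          * c (1 ⊗ₜ m) := by
      intro z
      induction z with
      | zero => simp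
      | add a b ha hb => rw [map_add, map_add, map_add, ha, hb, add_mul]
      | tmul b r =>
        rw [LinearMap.lTensor_tmul, TensorProduct.AlgebraTensorModule.rid_tmul, show f r = r • m from rfl,
          ← TensorProduct.smul_tmul, show ((r • b : X'.presheaf.stalk x')) ⊗ₜ[X.presheaf.stalk (φ x')] m =
            (r • b) • ((1 : X'.presheaf.stalk x') ⊗ₜ m) by rw [TensorProduct.smul_tmul', smul_eq_mul, mul_one],
          map_smul, smul_eq_mul]
    obtain ⟨u, hu⟩ := hm
    have hb : Function.Bijective fun z => c (f.lTensor (X'.presheaf.stalk x') z) := by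
      rw [funext key, ← hu]
      exact (Units.mulRight_bijective u).comp (LinearEquiv.bijective _)
    exact (Function.Bijective.of_comp_iff' c.bijective _).1 hb
  -- spread it out on an affine neighbourhood
  obtain ⟨U₀, hxU₀, s₀, hs₀⟩ := TopCat.Presheaf.exists_germ_eq M.presheaf e
  obtain ⟨_, ⟨U : X.Opens, (hU : IsAffineOpen U), rfl⟩, hxU, hUle⟩ :=
    X.isBasis_affineOpens.exists_subset_of_mem_open hxU₀ U₀.2
  let s : Γ(M, U) := M.presheaf.map (homOfLE hUle).op s₀
  have hse : M.presheaf.germ U x hxU s = e := (TopCat.Presheaf.germ_res_apply M.presheaf _ x hxU s₀).trans hs₀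
  haveI := IsLocallyNoetherian.component_noetherian ⟨U, hU⟩
  haveI : NoetherianSpace (U : Set X) := noetherianSpace_of_isAffineOpen U hU
  have hcpt : IsCompact ((U ⊓ V : X.Opens) : Set X) := by
    have h := (NoetherianSpace.isCompact ((Subtype.val : ↥(U : Set X) → X) ⁻¹' (V : Set X))).image continuous_subtype_val
    rwa [Subtype.image_preimage_coe] at h
  have hn : ∀ y : (U ⊓ V : X.Opens), ∃ (n : Γ(M, U)) (W : X.Opens) (hWU : W ≤ U), y.1 ∈ W ∧
      ∀ z (hz : z ∈ W), Function.Surjective fun r : X.presheaf.stalk z => r • M.presheaf.germ U z (hWU hz) n := by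
    rintro ⟨y, hyU, hyV⟩
    obtain ⟨W, w, hyW, hw⟩ := hgenV y hyV
    letI := Module.compHom (M.presheaf.stalk y) (X.presheaf.germ U y hyU).hom
    haveI := FlatLocus.isLocalizedModule_germL M hU y hyU
    obtain ⟨⟨n, a⟩, hna⟩ := IsLocalizedModule.surj (hU.primeIdealOf ⟨y, hyU⟩).asIdeal.primeCompl
      (FlatLocus.germL M U y hyU) (M.presheaf.germ W y hyW w)
    have ha : y ∈ X.basicOpen a.1 := (PullbackMod.primeCompl_primeIdealOf hU y hyU a.1).1 a.2
    change X.presheaf.germ U y hyU a.1 • M.presheaf.germ W y hyW w = M.presheaf.germ U y hyU n at hna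
    have hy' : y ∈ U ⊓ W := ⟨hyU, hyW⟩
    rw [← TopCat.Presheaf.germ_res_apply M.presheaf (homOfLE (inf_le_right : U ⊓ W ≤ W)) y hy',
      ← TopCat.Presheaf.germ_res_apply X.presheaf (homOfLE (inf_le_left : U ⊓ W ≤ U)) y hy' a.1,
      ← TopCat.Presheaf.germ_res_apply M.presheaf (homOfLE (inf_le_left : U ⊓ W ≤ U)) y hy' n] at hna
    change X.presheaf.germ _ y hy' _ • _ = _ at hna
    rw [← germ_smul'] at hna
    obtain ⟨W₁, hyW₁, i₁, i₂, heq⟩ := TopCat.Presheaf.germ_eq M.presheaf y hy' hy' _ _ hna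
    refine ⟨n, W₁ ⊓ X.basicOpen a.1, inf_le_right.trans (X.basicOpen_le _), ⟨hyW₁, ha⟩, fun z hz v => ?_⟩
    have hzU : z ∈ U := X.basicOpen_le _ hz.2
    have hzW : z ∈ W := (leOfHom i₁ hz.1).2
    have h2 := congrArg (M.presheaf.germ W₁ z hz.1) heq
    simp only [TopCat.Presheaf.germ_res_apply, germ_smul'] at h2
    obtain ⟨c, hc⟩ := (hw.bijective_germ z hzW).2 v
    obtain ⟨u, hu⟩ := (X.toRingedSpace.mem_basicOpen a.1 z hzU).1 hz.2
    refine ⟨c * ↑u⁻¹, ?_⟩
    show (c * ↑u⁻¹) • M.presheaf.germ U z hzU n = v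
    erw [← h2, ← hu, smul_smul, mul_assoc, Units.inv_mul, mul_one]
    exact hc
  choose n W hWU hyW hnW using hn
  obtain ⟨t, ht⟩ := hcpt.elim_finite_subcover (fun y : (U ⊓ V : X.Opens) => (W y : Set X)) (fun y => (W y).2)
    fun y hy => Set.mem_iUnion.2 ⟨⟨y, hy⟩, hyW ⟨y, hy⟩⟩
  have hx0 : ∀ y, ∃ (W' : X.Opens) (hle : W' ≤ U), x ∈ W' ∧
      ∀ z (hz : z ∈ W'), ∃ a : X.presheaf.stalk z,
        M.presheaf.germ U z (hle hz) (n y) = a • M.presheaf.germ U z (hle hz) s := by
    intro y
    obtain ⟨c, hc⟩ := he.2 (M.presheaf.germ U x hxU (n y))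
    obtain ⟨U₁, hxU₁, a, rfl⟩ := TopCat.Presheaf.exists_germ_eq X.presheaf c
    have hx1 : x ∈ U₁ ⊓ U := ⟨hxU₁, hxU⟩
    change X.presheaf.germ U₁ x hxU₁ a • e = _ at hc
    rw [← hse, ← TopCat.Presheaf.germ_res_apply M.presheaf (homOfLE (inf_le_right : U₁ ⊓ U ≤ U)) x hx1 (n y),
      ← TopCat.Presheaf.germ_res_apply M.presheaf (homOfLE (inf_le_right : U₁ ⊓ U ≤ U)) x hx1 s,
      ← TopCat.Presheaf.germ_res_apply X.presheaf (homOfLE (inf_le_left : U₁ ⊓ U ≤ U₁)) x hx1 a] at hc
    change X.presheaf.germ _ x hx1 _ • _ = _ at hc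
    rw [← germ_smul'] at hc
    obtain ⟨W₁, hxW₁, i₁, i₂, heq⟩ := TopCat.Presheaf.germ_eq M.presheaf x hx1 hx1 _ _ hc
    refine ⟨W₁, (leOfHom i₁).trans inf_le_right, hxW₁, fun z hz => ?_⟩
    have h2 := congrArg (M.presheaf.germ W₁ z hz) heq
    simp only [TopCat.Presheaf.germ_res_apply, germ_smul'] at h2
    exact ⟨_, h2.symm⟩
  choose W' hle hxW' hW' using hx0
  let W₀ : X.Opens := U ⊓ t.inf W'
  have hxW₀ : x ∈ W₀ := ⟨hxU, Finset.inf_induction (p := fun O : X.Opens => x ∈ O) trivial
    (fun _ ha _ hb => ⟨ha, hb⟩) fun y _ => hxW' y⟩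
  have hgen : Gen (W₀ ⊓ V) (M.presheaf.map (homOfLE (inf_le_left.trans inf_le_left : W₀ ⊓ V ≤ U)).op s) := by
    refine AmpleLib.gen_of_germ fun z hz => ?_
    obtain ⟨y, hyt, hzy⟩ := Set.mem_iUnion₂.1 (ht ⟨hz.1.1, hz.2⟩)
    obtain ⟨a, ha⟩ := hW' y z (Finset.inf_le (f := W') hyt hz.1.2)
    erw [TopCat.Presheaf.germ_res_apply]
    obtain ⟨Wv, w, hzWv, hw⟩ := hgenV z hz.2
    have hb := hw.bijective_germ z hzWv
    obtain ⟨p, hp⟩ := hnW y z hzy (M.presheaf.germ Wv z hzWv w)
    obtain ⟨q, hq⟩ := hb.2 (M.presheaf.germ U z hz.1.1 s)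
    change p • _ = _ at hp
    change q • _ = _ at hq
    rw [show M.presheaf.germ U z (hWU y hzy) (n y) = a • M.presheaf.germ U z hz.1.1 s from ha, smul_smul, ← hq,
      smul_smul] at hp
    have hu : IsUnit q := IsUnit.of_mul_eq_one (p * a) (by
      rw [mul_comm]
      exact hb.1 (hp.trans (one_smul _ _).symm))
    obtain ⟨q, rfl⟩ := hu
    have e1 : (fun r : X.presheaf.stalk z => r • M.presheaf.germ U z hz.1.1 s) =
        (fun r => r • M.presheaf.germ Wv z hzWv w) ∘ fun r => r * (q : X.presheaf.stalk z) :=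
      funext fun r => by
        show r • _ = (r * _) • _
        rw [← hq, smul_smul]
    rw [e1]
    exact hb.comp (Units.mulRight_bijective q)
  exact ⟨W₀, _, hxW₀, (exists_gen_of_bij (fun O _ => hO O) (fun O _ => hM O) ⟨_, hgen⟩).choose_spec⟩



/-- Let φ : X′ → X be a flat and surjective morphism of locally Noetherian schemes, V ⊆ X an open
subscheme which is big, in the sense that the local ring of X at every point outside V has depth at
least 2, and L an invertible O_V-module. Then L extends to an invertible O_X-module (there is an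
invertible M on X whose restriction to V is isomorphic to L) if and only if the pullback of L to
φ⁻¹(V) extends to an invertible O_{X′}-module. -/
theorem result {X X' : Scheme.{u}}
    [IsLocallyNoetherian X] [IsLocallyNoetherian X'] (φ : X' ⟶ X) [Flat φ] [Surjective φ]
    (V : X.Opens) (hV : ∀ x : X, x ∉ V → 2 ≤ LocCoh.depth (X.presheaf.stalk x) (X.presheaf.stalk x))
    (L : (V : Scheme.{u}).Modules) (hL : PicF.IsInvertible L) :
    (∃ M : X.Modules, PicF.IsInvertible M ∧ Nonempty ((Scheme.Modules.pullback V.ι).obj M ≅ L)) ↔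
      (∃ M' : X'.Modules, PicF.IsInvertible M' ∧
        Nonempty ((Scheme.Modules.pullback (φ ⁻¹ᵁ V).ι).obj M' ≅ (Scheme.Modules.pullback (φ ∣_ V)).obj L)) := by
  haveI : QuasiCompact V.ι := inferInstance
  haveI := InvExt.isQCoh_of_isInvertible hL
  let V' : X'.Opens := φ ⁻¹ᵁ V
  constructor
  · rintro ⟨M, hM, ⟨i⟩⟩
    refine ⟨(Scheme.Modules.pullback φ).obj M, AmpleLib.isInvertible_pullback φ hM, ⟨?_⟩⟩
    exact (Scheme.Modules.pullbackComp V'.ι φ).app M ≪≫
      (Scheme.Modules.pullbackCongr (morphismRestrict_ι φ V).symm).app M ≪≫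
      ((Scheme.Modules.pullbackComp (φ ∣_ V) V.ι).app M).symm ≪≫
      (Scheme.Modules.pullback (φ ∣_ V)).mapIso i
  · rintro ⟨M', hM', ⟨i⟩⟩
    let M := (Scheme.Modules.pushforward V.ι).obj L
    haveI : Coh.IsQCoh M := QCohLib.isQCoh_pushforward (M := L) V.ι
    let eV : M.restrict V.ι ≅ L := asIso ((Scheme.Modules.restrictAdjunction V.ι).counit.app L)
    have hdep : ∀ x' : X', x' ∉ V' → 2 ≤ LocCoh.depth (X'.presheaf.stalk x') (X'.presheaf.stalk x') := by
      intro x' hx'
      refine (hV (φ x') hx').trans ?_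
      letI := (φ.stalkMap x').hom.toAlgebra
      haveI : IsLocalHom (algebraMap (X.presheaf.stalk (φ x')) (X'.presheaf.stalk x')) := φ.toLRSHom.prop x'
      haveI : Module.Flat (X.presheaf.stalk (φ x')) (X'.presheaf.stalk x') := Flat.stalkMap φ x'
      have h := S2062.result (R := X.presheaf.stalk (φ x')) (S := X'.presheaf.stalk x')
        (M := X.presheaf.stalk (φ x')) (N := X'.presheaf.stalk x')
      rw [Depth.depth_congr (TensorProduct.AlgebraTensorModule.rid (X.presheaf.stalk (φ x')) (X'.presheaf.stalk x')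
        (X'.presheaf.stalk x'))] at h
      rw [h]
      exact le_self_add
    have hc' : IsClosed' V'.ι M' := isClosed'_of_depth V' hdep hM'
    haveI : IsIso ((Scheme.Modules.restrictAdjunction V'.ι).unit.app M') := hc'
    haveI := S11133.result V.ι φ (φ ∣_ V) V'.ι (isPullback_morphismRestrict φ V) L
    let ebc := @asIso _ _ _ _ _ (S11133.result V.ι φ (φ ∣_ V) V'.ι (isPullback_morphismRestrict φ V) L)
    let e : (Scheme.Modules.pullback φ).obj M ≅ M' :=
      ebc ≪≫ (Scheme.Modules.pushforward V'.ι).mapIso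
        (i.symm ≪≫ ((Scheme.Modules.restrictFunctorIsoPullback V'.ι).app M').symm) ≪≫
      (asIso ((Scheme.Modules.restrictAdjunction V'.ι).unit.app M')).symm
    refine ⟨M, isInvertible_of_flat_descent φ V hV M (isInvertible_of_iso eV.symm hL) (isClosed'_pushforward _ _)
      (isInvertible_of_iso e.symm hM'), ⟨((Scheme.Modules.restrictFunctorIsoPullback V.ι).app M).symm ≪≫ eV⟩⟩


end Groth.Agent.S14298
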