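import Groth.Statements.S1430
import Groth.Agent.PertFibLib.Basic
import Mathlib.Topology.Spectral.ConstructibleTopology

set_option autoImplicit false
universe u
open FlatMor

namespace Groth.Agent.S1430

open Polynomial Groth.Agent.PertFibLib TensorProduct Topology

set_option synthInstance.maxHeartbeats 200000
set_option maxHeartbeats 1500000

section

variable {R : Type u} [CommRing R] (p : Ideal R) [p.IsPrime]

theorem exists_mul_eq (x : p.ResidueField) :
    ∃ r : R, r ∉ p ∧ ∃ s : R, algebraMap R p.ResidueField r * x = algebraMap R p.ResidueField s := by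
  obtain ⟨a, b, hb, e⟩ := IsFractionRing.div_surjective (A := R ⧸ p) x
  obtain ⟨s, rfl⟩ := Ideal.Quotient.mk_surjective a
  obtain ⟨r, rfl⟩ := Ideal.Quotient.mk_surjective b
  have hr : r ∉ p := fun h => nonZeroDivisors.ne_zero hb (Ideal.Quotient.eq_zero_iff_mem.2 h)
  refine ⟨r, hr, s, ?_⟩
  have hr0 : algebraMap R p.ResidueField r ≠ 0 := fun h => hr (Ideal.algebraMap_residueField_eq_zero.1 h)
  rw [← e]
  change _ * (algebraMap R p.ResidueField s / algebraMap R p.ResidueField r) = _
  rw [mul_div_cancel₀ _ hr0]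

theorem exists_map_eq_polynomial (f : p.ResidueField[X]) :
    ∃ r : R, r ∉ p ∧ ∃ g : R[X], g.map (algebraMap R p.ResidueField) =
      C (algebraMap R p.ResidueField r) * f := by
  induction f using Polynomial.induction_on' with
  | monomial n x =>
    obtain ⟨r, hr, s, e⟩ := exists_mul_eq p x
    exact ⟨r, hr, monomial n s, by rw [map_monomial, C_mul_monomial, e]⟩
  | add f₁ f₂ h₁ h₂ =>
    obtain ⟨r₁, hr₁, g₁, e₁⟩ := h₁
    obtain ⟨r₂, hr₂, g₂, e₂⟩ := h₂
    refine ⟨r₁ * r₂, fun h => ((‹p.IsPrime›.mem_or_mem h).elim hr₁ hr₂), C r₂ * g₁ + C r₁ * g₂, ?_⟩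
    rw [Polynomial.map_add, Polynomial.map_mul, Polynomial.map_mul, map_C, map_C, e₁, e₂, map_mul, map_mul]
    ring

theorem exists_map_eq_mvPolynomial {σ : Type} (f : MvPolynomial σ p.ResidueField) :
    ∃ r : R, r ∉ p ∧ ∃ g : MvPolynomial σ R, g.map (algebraMap R p.ResidueField) =
      MvPolynomial.C (algebraMap R p.ResidueField r) * f := by
  induction f using MvPolynomial.induction_on' with
  | monomial n x =>
    obtain ⟨r, hr, s, e⟩ := exists_mul_eq p x
    exact ⟨r, hr, MvPolynomial.monomial n s, by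
      rw [MvPolynomial.map_monomial, MvPolynomial.C_mul_monomial, e]⟩
  | add f₁ f₂ h₁ h₂ =>
    obtain ⟨r₁, hr₁, g₁, e₁⟩ := h₁
    obtain ⟨r₂, hr₂, g₂, e₂⟩ := h₂
    refine ⟨r₁ * r₂, fun h => ((‹p.IsPrime›.mem_or_mem h).elim hr₁ hr₂),
      MvPolynomial.C r₂ * g₁ + MvPolynomial.C r₁ * g₂, ?_⟩
    rw [map_add, map_mul, map_mul, MvPolynomial.map_C, MvPolynomial.map_C, e₁, e₂, map_mul, map_mul]
    ring

end

section

variable {R S : Type u} [CommRing R] [CommRing S] [Algebra R S]

/-- The inclusion of `S` in the fibre ring at `p`. -/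
noncomputable abbrev ι (p : PrimeSpectrum R) : S →ₐ[R] p.asIdeal.Fiber S :=
  Algebra.TensorProduct.includeRight

theorem aeval_ι (p : PrimeSpectrum R) (a : S) :
    (Polynomial.aeval (ι p a) : p.asIdeal.ResidueField[X] →ₐ[p.asIdeal.ResidueField] _).toRingHom.comp
      (mapRingHom (algebraMap R p.asIdeal.ResidueField)) =
      (ι p).toRingHom.comp (Polynomial.aeval a : R[X] →ₐ[R] S).toRingHom := by
  refine RingHom.ext fun g => ?_
  change Polynomial.aeval (ι p a) (g.map (algebraMap R p.asIdeal.ResidueField)) = ι p (Polynomial.aeval a g)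
  rw [Polynomial.aeval_map_algebraMap, Polynomial.aeval_algHom_apply]

theorem comap_ι_strictMono (p : PrimeSpectrum R) :
    StrictMono fun Q : PrimeSpectrum (p.asIdeal.Fiber S) => PrimeSpectrum.comap (ι p).toRingHom Q :=
  fun _ _ h => (PrimeSpectrum.preimageOrderIsoFiber R S p).symm.strictMono h

theorem fb_fiber (p : PrimeSpectrum R) (a : S) (d : ℕ)
    (h : FB (Polynomial.aeval a : R[X] →ₐ[R] S).toRingHom d) :
    FB (Polynomial.aeval (ι p a) : p.asIdeal.ResidueField[X] →ₐ[p.asIdeal.ResidueField] _).toRingHom d := by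
  intro l hl
  refine h (l.map _ (comap_ι_strictMono p)) fun i => ?_
  have key : ∀ Q : PrimeSpectrum (p.asIdeal.Fiber S),
      PrimeSpectrum.comap (Polynomial.aeval a : R[X] →ₐ[R] S).toRingHom (PrimeSpectrum.comap (ι p).toRingHom Q) =
      PrimeSpectrum.comap (mapRingHom (algebraMap R p.asIdeal.ResidueField)) (PrimeSpectrum.comap
        (Polynomial.aeval (ι p a) : p.asIdeal.ResidueField[X] →ₐ[p.asIdeal.ResidueField] _).toRingHom Q) := by
    intro Q
    rw [← PrimeSpectrum.comap_comp_apply, ← PrimeSpectrum.comap_comp_apply, aeval_ι p a]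
  exact (key _).trans ((congrArg _ (hl i)).trans (key _).symm)

variable [Algebra.FiniteType R S]

theorem exists_relation (a : S) (d : ℕ) (h : FB (Polynomial.aeval a : R[X] →ₐ[R] S).toRingHom d)
    (p : PrimeSpectrum R) (v : Fin (d + 2) → S) :
    ∃ P : MvPolynomial (Fin (d + 2)) R, (∃ m, P.coeff m ∉ p.asIdeal) ∧
      ∀ q : PrimeSpectrum S, PrimeSpectrum.comap (algebraMap R S) q = p →
        MvPolynomial.aeval v P ∈ q.asIdeal := by
  classical
  set k := p.asIdeal.ResidueField
  set T := p.asIdeal.Fiber S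
  haveI : IsNoetherianRing T := Algebra.FiniteType.isNoetherianRing k T
  have hdim : ringKrullDim T ≤ (d + 1 : ℕ) := ringKrullDim_le_succ (ι p a) d (fb_fiber p a d h)
  have hdep : ¬ AlgebraicIndependent k fun i => ι p (v i) := by
    intro hind
    let f := (MvPolynomial.aeval fun i => ι p (v i) : MvPolynomial (Fin (d + 2)) k →ₐ[k] T)
    have hb : (⊥ : Ideal T).comap f.toRingHom = ⊥ := by
      rw [← RingHom.ker_eq_comap_bot]; exact (RingHom.injective_iff_ker_eq_bot _).1 hind
    obtain ⟨Q, hQ, hQc⟩ := Ideal.exists_minimalPrimes_comap_eq (I := (⊥ : Ideal T)) f.toRingHom ⊥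
      (by rw [hb, Ideal.minimalPrimes_eq_subsingleton_self]; rfl)
    haveI := hQ.1.1
    have hind' : AlgebraicIndependent k fun i => Ideal.Quotient.mkₐ k Q (ι p (v i)) := by
      rw [algebraicIndependent_iff]
      intro g hg
      have e : MvPolynomial.aeval (fun i => Ideal.Quotient.mkₐ k Q (ι p (v i))) g =
          Ideal.Quotient.mkₐ k Q (f g) := (MvPolynomial.comp_aeval_apply _ _ g).symm
      have hg2 : f g ∈ Q := Ideal.Quotient.eq_zero_iff_mem.1 (e.symm.trans hg)
      have hg' : g ∈ Q.comap f.toRingHom := hg2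
      rw [hQc] at hg'
      exact hg'
    obtain ⟨n, hn⟩ := DimFormulaLib.exists_nat_trdeg_quotient k T Q
    have h1 := hind'.lift_cardinalMk_le_trdeg
    rw [hn, Cardinal.mk_fin, Cardinal.lift_natCast, Cardinal.lift_natCast, Nat.cast_le] at h1
    have h2 : ringKrullDim (T ⧸ Q) ≤ (d + 1 : ℕ) :=
      (ringKrullDim_le_of_surjective _ Ideal.Quotient.mk_surjective).trans hdim
    rw [DimFormulaLib.ringKrullDim_eq_trdeg k n hn] at h2
    have : n ≤ d + 1 := by exact_mod_cast h2
    omega
  rw [algebraicIndependent_iff] at hdep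
  push Not at hdep
  obtain ⟨f, hf, hf0⟩ := hdep
  obtain ⟨r, hr, g, hg⟩ := exists_map_eq_mvPolynomial p.asIdeal f
  refine ⟨g, ?_, fun q hq => ?_⟩
  · by_contra hc
    push Not at hc
    have : g.map (algebraMap R k) = 0 := MvPolynomial.ext _ _ fun m => by
      rw [MvPolynomial.coeff_map, MvPolynomial.coeff_zero, Ideal.algebraMap_residueField_eq_zero]
      exact hc m
    rw [hg, mul_eq_zero, MvPolynomial.C_eq_zero] at this
    exact this.elim (fun h => hr (Ideal.algebraMap_residueField_eq_zero.1 h)) hf0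
  · let e := PrimeSpectrum.preimageOrderIsoFiber R S p
    have he : PrimeSpectrum.comap (ι p).toRingHom (e ⟨q, hq⟩) = q :=
      congrArg Subtype.val (e.symm_apply_apply ⟨q, hq⟩)
    rw [← he]
    change ι p (MvPolynomial.aeval v g) ∈ (e ⟨q, hq⟩).asIdeal
    have e2 : ι p (MvPolynomial.aeval v g) =
        MvPolynomial.aeval (fun i => ι p (v i)) (g.map (algebraMap R k)) :=
      (MvPolynomial.comp_aeval_apply _ _ g).trans (MvPolynomial.aeval_map_algebraMap k _ g).symm
    rw [e2, hg, map_mul, hf, mul_zero]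
    exact zero_mem _

theorem exists_uniform_degree (a : S) (d : ℕ) (h : FB (Polynomial.aeval a : R[X] →ₐ[R] S).toRingHom d)
    {κ : Type} [Fintype κ] (v : κ → Fin (d + 2) → S) :
    ∃ n₀ : ℕ, ∀ (p : PrimeSpectrum R) (j : κ), ∃ P : MvPolynomial (Fin (d + 2)) R,
      P.totalDegree < n₀ ∧ (∃ m, P.coeff m ∉ p.asIdeal) ∧
      ∀ q : PrimeSpectrum S, PrimeSpectrum.comap (algebraMap R S) q = p →
        MvPolynomial.aeval (v j) P ∈ q.asIdeal := by
  classical
  choose P hm hP using fun (p : PrimeSpectrum R) (j : κ) => exists_relation a d h p (v j)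
  choose m hm using hm
  have hex : ∀ (p : PrimeSpectrum R) (j : κ), ∃ r : R, r ∉ p.asIdeal ∧ ∃ N : ℕ, ∃ F : Finset R,
      (∀ x ∈ F, x ∈ p.asIdeal) ∧ algebraMap R S r * MvPolynomial.aeval (v j) (P p j) ^ N ∈
        Ideal.span (algebraMap R S '' (F : Set R)) := by
    intro p j
    let s := MvPolynomial.aeval (v j) (P p j)
    let M : Submonoid S := p.asIdeal.primeCompl.map (algebraMap R S) ⊔ Submonoid.powers s
    have hnd : ¬ Disjoint (p.asIdeal.map (algebraMap R S) : Set S) (M : Set S) := by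
      intro hdis
      obtain ⟨q, hq, hle, hqM⟩ := Ideal.exists_le_prime_disjoint _ _ hdis
      have hqp : PrimeSpectrum.comap (algebraMap R S) ⟨q, hq⟩ = p := by
        refine PrimeSpectrum.ext (le_antisymm (fun x hx => ?_) (Ideal.map_le_iff_le_comap.1 hle))
        by_contra hxp
        exact Set.disjoint_left.1 hqM hx (Submonoid.mem_sup_left ⟨x, hxp, rfl⟩)
      exact Set.disjoint_left.1 hqM (hP p j ⟨q, hq⟩ hqp)
        (Submonoid.mem_sup_right (Submonoid.mem_powers s))
    obtain ⟨x, hx, hxM⟩ := Set.not_disjoint_iff.1 hnd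
    obtain ⟨y, ⟨r, hr, rfl⟩, z, ⟨N, rfl⟩, rfl⟩ := Submonoid.mem_sup.1 hxM
    obtain ⟨F', hF', hxF⟩ := Submodule.mem_span_finite_of_mem_span
      (show _ ∈ Submodule.span S (algebraMap R S '' (p.asIdeal : Set R)) from hx)
    obtain ⟨F, hF, rfl⟩ := Finset.subset_set_image_iff.1 hF'
    refine ⟨r, hr, N, F, hF, ?_⟩
    rw [← Finset.coe_image]
    exact hxF
  choose r hr N F hF hrel using hex
  let U (p : PrimeSpectrum R) : Set (PrimeSpectrum R) :=
    ⋂ j : κ, ((PrimeSpectrum.basicOpen (r p j) : Set (PrimeSpectrum R)) ∩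
      (PrimeSpectrum.basicOpen ((P p j).coeff (m p j)) : Set (PrimeSpectrum R)) ∩
      ⋂ x ∈ F p j, (PrimeSpectrum.basicOpen x : Set (PrimeSpectrum R))ᶜ)
  let W (p : PrimeSpectrum R) : Set (WithConstructibleTopology (PrimeSpectrum R)) :=
    WithTopology.ofTopology ⁻¹' U p
  have hop : ∀ s : Set (PrimeSpectrum R), IsOpen[constructibleTopology (PrimeSpectrum R)] s →
      IsOpen (WithTopology.ofTopology ⁻¹' s : Set (WithConstructibleTopology (PrimeSpectrum R))) :=
    fun s hs => WithConstructibleTopology.isOpen_iff.2 hs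
  have hW : ∀ p, IsOpen (W p) := by
    intro p
    simp only [W, U, Set.preimage_iInter, Set.preimage_inter]
    refine isOpen_iInter_of_finite fun j => (IsOpen.inter ?_ ?_).inter
      (isOpen_biInter_finset fun x _ => ?_)
    · exact hop _ <| IsCompact.isOpen_constructibleTopology_of_isOpen
        (PrimeSpectrum.isCompact_basicOpen _) (TopologicalSpace.Opens.isOpen _)
    · exact hop _ <| IsCompact.isOpen_constructibleTopology_of_isOpen
        (PrimeSpectrum.isCompact_basicOpen _) (TopologicalSpace.Opens.isOpen _)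
    · exact hop _ <| IsCompact.isOpen_constructibleTopology_of_isClosed
        (by rw [compl_compl]; exact PrimeSpectrum.isCompact_basicOpen _)
        (TopologicalSpace.Opens.isOpen _).isClosed_compl
  obtain ⟨t, ht⟩ := (isCompact_univ (X := WithConstructibleTopology (PrimeSpectrum R))).elim_finite_subcover
    W hW (fun x _ => Set.mem_iUnion.2 ⟨WithTopology.ofTopology x, Set.mem_iInter.2 fun j =>
      ⟨⟨hr _ j, hm _ j⟩, Set.mem_iInter₂.2 fun y hy hyn => hyn (hF _ j y hy)⟩⟩)
  refine ⟨t.sup (fun p => Finset.univ.sup fun j => (P p j).totalDegree) + 1, fun p' j => ?_⟩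
  obtain ⟨p, hp, hpW⟩ := Set.mem_iUnion₂.1 (ht (Set.mem_univ (WithTopology.toTopology _ p')))
  obtain ⟨⟨h1, h2⟩, h3⟩ := Set.mem_iInter.1 (show p' ∈ U p from hpW) j
  refine ⟨P p j, Nat.lt_succ_of_le ((Finset.le_sup (f := fun j => (P p j).totalDegree)
    (Finset.mem_univ j)).trans (Finset.le_sup (f := fun p => Finset.univ.sup fun j => (P p j).totalDegree) hp)),
    ⟨m p j, h2⟩, fun q hq => ?_⟩
  have hspan : Ideal.span (algebraMap R S '' (F p j : Set R)) ≤ q.asIdeal := by
    rw [Ideal.span_le]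
    rintro _ ⟨x, hx, rfl⟩
    have := Set.mem_iInter₂.1 h3 x hx
    rw [← hq] at this
    exact not_not.1 this
  refine q.2.mem_of_pow_mem _ ((q.2.mem_or_mem (hspan (hrel p j))).resolve_left fun hc => h1 ?_)
  rw [← hq]
  exact hc

theorem main (a b : S) (d : ℕ) (h : FB (Polynomial.aeval a : R[X] →ₐ[R] S).toRingHom d) :
    ∃ n₀ : ℕ, ∀ n ≥ n₀, FB (Polynomial.aeval (a ^ n + b) : R[X] →ₐ[R] S).toRingHom d := by
  classical
  obtain ⟨G, hG⟩ := (‹Algebra.FiniteType R S›).out
  obtain ⟨M, gen, hgen⟩ : ∃ (M : ℕ) (gen : Fin M → S), Algebra.adjoin R (Set.range gen) = ⊤ :=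
    ⟨G.card, fun i => (G.equivFin.symm i).1, by
      rw [← hG]; congr 1
      ext x
      exact ⟨fun ⟨i, hi⟩ => hi ▸ (G.equivFin.symm i).2,
        fun hx => ⟨G.equivFin ⟨x, hx⟩, by simp⟩⟩⟩
  obtain ⟨n₀, hn₀⟩ := exists_uniform_degree a d h
    (fun y : Fin d → Fin M => (Fin.cons b (Fin.cons a (gen ∘ y)) : Fin (d + 2) → S))
  refine ⟨n₀, fun n hn l hl => ?_⟩
  by_contra hlen
  replace hlen : d + 1 ≤ l.length := by omega
  set φz := (Polynomial.aeval (a ^ n + b) : R[X] →ₐ[R] S).toRingHom
  let p := PrimeSpectrum.comap (algebraMap R S) l.head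
  have hover : ∀ i, PrimeSpectrum.comap (algebraMap R S) (l i) = p := by
    intro i
    have e : φz.comp C = algebraMap R S := RingHom.ext fun x => Polynomial.aeval_C _ x
    have := congrArg (PrimeSpectrum.comap (C : R →+* R[X])) (hl i)
    rwa [← PrimeSpectrum.comap_comp_apply, ← PrimeSpectrum.comap_comp_apply, e] at this
  set k := p.asIdeal.ResidueField
  set T := p.asIdeal.Fiber S
  haveI : IsNoetherianRing T := Algebra.FiniteType.isNoetherianRing k T
  have hdim : ringKrullDim T ≤ (d + 1 : ℕ) := ringKrullDim_le_succ (ι p a) d (fb_fiber p a d h)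
  let e := PrimeSpectrum.preimageOrderIsoFiber R S p
  let lT : LTSeries (PrimeSpectrum T) := LTSeries.mk l.length (fun i => e ⟨l i, hover i⟩)
    fun i j hij => e.strictMono (show (⟨l i, hover i⟩ : ↥(PrimeSpectrum.comap (algebraMap R S) ⁻¹' {p})) < ⟨l j, hover j⟩ from l.strictMono hij)
  have hlT : ∀ i, PrimeSpectrum.comap (ι p).toRingHom (lT i) = l i := fun i =>
    congrArg Subtype.val (e.symm_apply_apply ⟨l i, hover i⟩)
  let π : T →ₐ[k] (T ⧸ lT.head.asIdeal) := Ideal.Quotient.mkₐ k lT.head.asIdeal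
  -- `a ^ n + b` is algebraic over `k` in `(T ⧸ lT.head.asIdeal)`
  have hz : IsAlgebraic k (π (ι p (a ^ n + b))) := by
    have hnm : ¬ lT.last.asIdeal.IsMaximal → False := by
      intro hmax
      obtain ⟨J, hJ, hle⟩ := Ideal.exists_le_maximal lT.last.asIdeal lT.last.2.ne_top
      have hlt : lT.last < ⟨J, hJ.isPrime⟩ := lt_of_le_of_ne hle fun e => hmax (by rw [e]; exact hJ)
      have := (Order.LTSeries.length_le_krullDim (lT.snoc _ hlt)).trans hdim
      have h5 : lT.length + 1 ≤ d + 1 := by exact_mod_cast this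
      have : lT.length = l.length := rfl
      omega
    haveI hmax : lT.last.asIdeal.IsMaximal := not_not.1 hnm
    letI := Ideal.Quotient.field lT.last.asIdeal
    haveI : Module.Finite k (T ⧸ lT.last.asIdeal) := finite_of_finite_type_of_isJacobsonRing k _
    obtain ⟨f, hf0, hf⟩ := (IsIntegral.of_finite k
      (Ideal.Quotient.mkₐ k lT.last.asIdeal (ι p (a ^ n + b)))).isAlgebraic
    rw [Polynomial.aeval_algHom_apply] at hf
    have hf' : Polynomial.aeval (ι p (a ^ n + b)) f ∈ lT.last.asIdeal := Ideal.Quotient.eq_zero_iff_mem.1 hf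
    obtain ⟨r, hr, g, hg⟩ := exists_map_eq_polynomial p.asIdeal f
    refine ⟨f, hf0, ?_⟩
    rw [Polynomial.aeval_algHom_apply]
    refine Ideal.Quotient.eq_zero_iff_mem.2 ?_
    have key : Polynomial.aeval (ι p (a ^ n + b)) (g.map (algebraMap R k)) = ι p (φz g) :=
      RingHom.congr_fun (aeval_ι p (a ^ n + b)) g
    have h6 : ι p (φz g) ∈ lT.last.asIdeal := by
      rw [← key, hg, map_mul]
      exact lT.last.asIdeal.mul_mem_left _ hf'
    have h7 : φz g ∈ (l (Fin.last _)).asIdeal :=
      (congrArg PrimeSpectrum.asIdeal (hlT (Fin.last _))).le h6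
    have h8 : φz g ∈ l.head.asIdeal := by
      exact (congrArg PrimeSpectrum.asIdeal (hl (Fin.last _))).le h7
    have h9 : ι p (φz g) ∈ lT.head.asIdeal := by
      exact (congrArg PrimeSpectrum.asIdeal (hlT 0)).ge h8
    rw [← key, hg, map_mul, Polynomial.aeval_C] at h9
    refine (lT.head.2.mem_or_mem h9).resolve_left fun hc => ?_
    refine lT.head.2.ne_top (Ideal.eq_top_of_isUnit_mem _ hc ?_)
    exact (IsUnit.mk0 _ (fun h => hr (Ideal.algebraMap_residueField_eq_zero.1 h))).map _
  -- `a` is transcendental over `k` in `(T ⧸ lT.head.asIdeal)`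
  have hatr : Transcendental k (π (ι p a)) := by
    rintro ⟨f, hf0, hf⟩
    rw [Polynomial.aeval_algHom_apply] at hf
    let φa := (Polynomial.aeval (ι p a) : k[X] →ₐ[k] T).toRingHom
    have hfm : Polynomial.aeval (ι p a) f ∈ lT.head.asIdeal := Ideal.Quotient.eq_zero_iff_mem.1 hf
    have hfmem : f ∈ (PrimeSpectrum.comap φa lT.head).asIdeal := hfm
    haveI hM : (PrimeSpectrum.comap φa lT.head).asIdeal.IsMaximal :=
      (PrimeSpectrum.comap φa lT.head).2.isMaximal fun h0 => hf0 (by rw [h0] at hfmem; exact hfmem)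
    have := fb_fiber p a d h lT fun i => PrimeSpectrum.ext
      (hM.eq_of_le (PrimeSpectrum.comap φa (lT i)).2.ne_top
        (Ideal.comap_mono (lT.strictMono.monotone (Fin.zero_le i)))).symm
    have : lT.length = l.length := rfl
    omega
  -- transcendence basis among the generators
  let gD : Fin M → (T ⧸ lT.head.asIdeal) := fun i => π (ι p (gen i))
  have htop : Algebra.adjoin k (Set.range gD) = ⊤ := by
    rw [eq_top_iff]
    rintro x -
    obtain ⟨x, rfl⟩ := Ideal.Quotient.mkₐ_surjective k lT.head.asIdeal x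
    induction x using TensorProduct.induction_on with
    | zero => rw [map_zero]; exact zero_mem _
    | add x y hx hy => rw [map_add]; exact add_mem hx hy
    | tmul c s =>
      have hs : s ∈ Algebra.adjoin R (Set.range gen) := hgen ▸ Algebra.mem_top
      have hmem : π (ι p s) ∈ Algebra.adjoin k (Set.range gD) := by
        induction hs using Algebra.adjoin_induction with
        | mem x hx => obtain ⟨i, rfl⟩ := hx; exact Algebra.subset_adjoin ⟨i, rfl⟩
        | algebraMap x =>
          rw [AlgHom.commutes, IsScalarTower.algebraMap_apply R k T, AlgHom.commutes]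
          exact Subalgebra.algebraMap_mem _ _
        | add x y _ _ hx hy => rw [map_add, map_add]; exact add_mem hx hy
        | mul x y _ _ hx hy => rw [map_mul, map_mul]; exact mul_mem hx hy
      have e : c ⊗ₜ[R] s = c • ι p s := by
        simp [TensorProduct.smul_tmul']
      rw [e, map_smul]
      exact Subalgebra.smul_mem _ hmem c
  letI : CommRing (T ⧸ lT.head.asIdeal) := Ideal.Quotient.commRing _
  letI A0 : Subalgebra k (T ⧸ lT.head.asIdeal) := Algebra.adjoin k (insert (π (ι p a)) (Set.range gD))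
  letI : Algebra A0 (T ⧸ lT.head.asIdeal) := Subalgebra.toAlgebra A0
  haveI : Algebra.IsAlgebraic (Algebra.adjoin k (insert (π (ι p a)) (Set.range gD))) (T ⧸ lT.head.asIdeal) := by
    refine ⟨fun x => isAlgebraic_algebraMap (⟨x, ?_⟩ : Algebra.adjoin k (insert (π (ι p a)) (Set.range gD)))⟩
    exact Algebra.adjoin_mono (Set.subset_insert _ _) (htop ▸ Algebra.mem_top)
  obtain ⟨u, hau, hu, hbasis⟩ := exists_isTranscendenceBasis_between (R := k) ({π (ι p a)} : Set (T ⧸ lT.head.asIdeal))
    (insert (π (ι p a)) (Set.range gD)) (by simp) ((algebraicIndependent_singleton_iff (⟨π (ι p a), Set.mem_singleton _⟩ : ({π (ι p a)} : Set (T ⧸ lT.head.asIdeal)))).2 hatr)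
  have hufin : u.Finite := ((Set.finite_range gD).insert _).subset hu
  obtain ⟨e', he'⟩ : ∃ e' : ℕ, Algebra.trdeg k (T ⧸ lT.head.asIdeal) = e' := DimFormulaLib.exists_nat_trdeg_quotient k T _
  have hcard : d + 1 ≤ hufin.toFinset.card := by
    have h1 := hbasis.cardinalMk_eq_trdeg
    have hu' : Cardinal.mk u = hufin.toFinset.card := by
      rw [← Cardinal.mk_coe_finset]
      exact Cardinal.mk_congr (Equiv.subtypeEquivRight fun x => hufin.mem_toFinset.symm)
    rw [he', hu', Nat.cast_inj] at h1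
    let lD : LTSeries (PrimeSpectrum (T ⧸ lT.head.asIdeal)) := LTSeries.mk l.length
      (fun i => ⟨(lT i).asIdeal.map π, Ideal.map_isPrime_of_surjective
        (Ideal.Quotient.mkₐ_surjective k _) (by
          rw [show RingHom.ker π = lT.head.asIdeal from Ideal.mk_ker]
          exact lT.strictMono.monotone (Fin.zero_le i))⟩)
      fun i j hij => by
        refine lt_of_le_of_ne (Ideal.map_mono (lT.strictMono hij).le) fun e => (lT.strictMono hij).ne ?_
        refine PrimeSpectrum.ext ?_
        have := congrArg (fun Q : PrimeSpectrum (T ⧸ lT.head.asIdeal) => Q.asIdeal.comap π) e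
        simp only at this
        rwa [Ideal.comap_map_of_surjective _ (Ideal.Quotient.mkₐ_surjective k _),
          Ideal.comap_map_of_surjective _ (Ideal.Quotient.mkₐ_surjective k _),
          ← RingHom.ker_eq_comap_bot, show RingHom.ker π = lT.head.asIdeal from Ideal.mk_ker,
          sup_eq_left.2 (lT.strictMono.monotone (Fin.zero_le i)),
          sup_eq_left.2 (lT.strictMono.monotone (Fin.zero_le j))] at this
    have h2 := Order.LTSeries.length_le_krullDim lD
    rw [← ringKrullDim, DimFormulaLib.ringKrullDim_eq_trdeg k e' he'] at h2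
    have h3 : l.length ≤ e' := by exact_mod_cast h2
    omega
  have hcard' : d ≤ (hufin.toFinset.erase (π (ι p a))).card := by
    have := Finset.pred_card_le_card_erase (a := π (ι p a)) (s := hufin.toFinset)
    omega
  let emb : Fin d ↪ (hufin.toFinset.erase (π (ι p a))) :=
    (Fin.castLEEmb hcard').trans (Finset.equivFin _).symm.toEmbedding
  have hpre : ∀ i, ∃ j, gD j = (emb i).1 := by
    intro i
    obtain ⟨hne, hmem⟩ := Finset.mem_erase.1 (emb i).2
    exact (hu (hufin.mem_toFinset.1 hmem)).resolve_left hne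
  choose y hy using hpre
  have hind : AlgebraicIndependent k (Fin.cons (π (ι p a)) (gD ∘ y) : Fin (d + 1) → (T ⧸ lT.head.asIdeal)) := by
    have hinj : Function.Injective (Fin.cons (π (ι p a)) (gD ∘ y) : Fin (d + 1) → (T ⧸ lT.head.asIdeal)) := by
      rw [Fin.cons_injective_iff]
      refine ⟨fun ⟨i, hi⟩ => ?_, fun i j hij => emb.injective (Subtype.ext ?_)⟩
      · exact (Finset.mem_erase.1 (emb i).2).1 ((hy i).symm.trans hi)
      · exact (hy i).symm.trans (hij.trans (hy j))
    refine AlgebraicIndependent.of_subtype_range hinj ?_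
    refine hbasis.1.mono ?_
    rintro _ ⟨i, rfl⟩
    refine Fin.cases ?_ (fun i => ?_) i
    · exact hau rfl
    · simp only [Fin.cons_succ, Function.comp_apply, hy]
      exact hufin.mem_toFinset.1 (Finset.mem_erase.1 (emb i).2).2
  -- contradiction with the relation
  obtain ⟨P, hdeg, ⟨m, hm⟩, hP⟩ := hn₀ p y
  let L := FractionRing (T ⧸ lT.head.asIdeal)
  let P' := P.map (algebraMap R k)
  have hP' : P' ≠ 0 := fun h0 => by
    have := congrArg (MvPolynomial.coeff m) h0
    rw [MvPolynomial.coeff_map, MvPolynomial.coeff_zero, Ideal.algebraMap_residueField_eq_zero] at this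
    exact hm this
  have hdeg' : P'.totalDegree < n :=
    lt_of_le_of_lt (Finset.sup_mono (MvPolynomial.support_map_subset _ _)) (hdeg.trans_le hn)
  let j : (T ⧸ lT.head.asIdeal) →ₐ[k] L := IsScalarTower.toAlgHom k (T ⧸ lT.head.asIdeal) L
  have hjinj : Function.Injective j := IsFractionRing.injective (T ⧸ lT.head.asIdeal) L
  refine aeval_sub_pow_ne_zero (K := k) (A := L) (fun i => j (gD (y i))) (j (π (ι p a)))
    (j (π (ι p (a ^ n + b)))) ?_ (hz.algHom j) n P' hP' hdeg' ?_
  · have he : (Fin.cons (j (π (ι p a))) fun i => j (gD (y i)) : Fin (d + 1) → L) =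
        ⇑j ∘ (Fin.cons (π (ι p a)) (gD ∘ y) : Fin (d + 1) → (T ⧸ lT.head.asIdeal)) := by
      funext i
      refine Fin.cases ?_ (fun i => ?_) i <;> rfl
    rw [he]
    exact hind.map' hjinj
  · have h1 : π (ι p (MvPolynomial.aeval (Fin.cons b (Fin.cons a (gen ∘ y)) : Fin (d + 2) → S) P)) = 0 := by
      refine Ideal.Quotient.eq_zero_iff_mem.2 ?_
      exact (congrArg PrimeSpectrum.asIdeal (hlT 0)).ge (hP _ (hover 0))
    rw [MvPolynomial.aeval_map_algebraMap]
    refine Eq.trans ?_ ((congrArg j h1).trans (map_zero j))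
    change _ = (((j.comp π).restrictScalars R).comp (ι p)) (MvPolynomial.aeval _ P)
    rw [MvPolynomial.comp_aeval_apply]
    congr 2
    funext i
    refine Fin.cases ?_ (fun i => ?_) i
    · simp only [Fin.cons_zero, AlgHom.comp_apply, AlgHom.restrictScalars_apply, map_add, map_pow,
        add_sub_cancel_left]
    · refine Fin.cases ?_ (fun i => ?_) i <;> rfl

end

open Polynomial in
/-- Let R → S be of finite type, d ≥ 0 and a, b ∈ S. View S as an algebra over R[x] via x ↦ a; if all
fibre rings of Spec S → Spec R[x] have dimension ≤ d, then there is n₀ such that for all n ≥ n₀ the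
same holds for the R[x]-algebra structure x ↦ a^n + b. -/
theorem result {R S : Type u} [CommRing R] [CommRing S] [Algebra R S] [Algebra.FiniteType R S]
    (d : ℕ) (a b : S)
    (ha : ∀ P : PrimeSpectrum R[X], letI := (Polynomial.aeval (R := R) a).toRingHom.toAlgebra
      ringKrullDim (P.asIdeal.Fiber S) ≤ d) :
    ∃ n₀ : ℕ, ∀ n ≥ n₀, ∀ P : PrimeSpectrum R[X], letI := (Polynomial.aeval (R := R) (a ^ n + b)).toRingHom.toAlgebra
      ringKrullDim (P.asIdeal.Fiber S) ≤ d := by
  obtain ⟨n₀, h⟩ := main a b d ((fb_iff _ d).2 ha)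
  exact ⟨n₀, fun n hn => (fb_iff _ d).1 (h n hn)⟩

end Groth.Agent.S1430
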