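import Mathlib
import Groth.Statements.S14305

set_option autoImplicit false
universe u v
open PtDeg

namespace Groth.Agent.S14305
open Finset in
def dev {ι : Type*} {A : Type u} {G : Type v} [AddCommGroup A] [AddCommGroup G] (s : Finset ι)
    (f : A → G) (g : ι → A) : G :=
  ∑ I ∈ s.powerset, ((-1 : ℤ) ^ (s.card + I.card)) • f (∑ i ∈ I, g i)

theorem dev_sub {ι : Type*} {A : Type u} {G : Type v} [AddCommGroup A] [AddCommGroup G] (s : Finset ι)
    (f f' : A → G) (g : ι → A) : dev s (f - f') g = dev s f g - dev s f' g := by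
  simp [dev, smul_sub, Finset.sum_sub_distrib]

theorem dev_insert {ι : Type*} [DecidableEq ι] {A : Type u} {G : Type v} [AddCommGroup A]
    [AddCommGroup G] {s : Finset ι} {i : ι} (hi : i ∉ s) (f : A → G) (g : ι → A) :
    dev (insert i s) f g = dev s ((fun z => f (z + g i)) - f) g := by
  rw [dev_sub]
  simp only [dev, Finset.sum_powerset_insert hi, Finset.card_insert_of_notMem hi]
  rw [add_comm, sub_eq_add_neg, ← Finset.sum_neg_distrib]
  congr 1
  · refine Finset.sum_congr rfl fun I hI => ?_
    have hiI : i ∉ I := fun h => hi (Finset.mem_powerset.1 hI h)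
    rw [Finset.card_insert_of_notMem hiI, Finset.sum_insert hiI, add_comm (g i)]
    congr 1
    rw [show s.card + 1 + (I.card + 1) = s.card + I.card + 2 by ring, pow_add]
    simp
  · refine Finset.sum_congr rfl fun I hI => ?_
    rw [show s.card + 1 + I.card = s.card + I.card + 1 by ring, pow_succ]
    simp

theorem dev_map {ι κ : Type*} {A : Type u} {G : Type v} [AddCommGroup A] [AddCommGroup G]
    (s : Finset ι) (e : ι ↪ κ) (f : A → G) (g : κ → A) : dev (s.map e) f g = dev s f (g ∘ e) := by
  classical
  simp only [dev, Finset.card_map]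
  refine (Finset.sum_bij (fun I _ => I.map e) ?_ ?_ ?_ ?_).symm
  · intro I hI
    exact Finset.mem_powerset.2 (Finset.map_subset_map.2 (Finset.mem_powerset.1 hI))
  · intro I _ J _ h
    exact Finset.map_injective e h
  · intro J hJ
    obtain ⟨I, hI, rfl⟩ := Finset.subset_map_iff.1 (Finset.mem_powerset.1 hJ)
    exact ⟨I, Finset.mem_powerset.2 hI, rfl⟩
  · intro I _
    simp [Finset.sum_map]

theorem dev_univ_succ {A : Type u} {G : Type v} [AddCommGroup A] [AddCommGroup G] {m : ℕ}
    (p : Fin (m + 1)) (f : A → G) (x : Fin (m + 1) → A) :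
    dev Finset.univ f x = dev Finset.univ ((fun z => f (z + x p)) - f) (x ∘ p.succAbove) := by
  classical
  rw [Fin.univ_succAbove m p, Finset.cons_eq_insert, dev_insert, dev_map]
  · rfl
  · simp [Fin.succAbove_ne]

theorem dev_cons_update {A : Type u} {G : Type v} [AddCommGroup A] [AddCommGroup G] {m : ℕ}
    (f : A → G) (y : Fin (m + 1) → A) (j : Fin (m + 1)) (a b : A) :
    dev Finset.univ f (Fin.cons a (Function.update y j b) : Fin (m + 2) → A) =
      dev Finset.univ f (Function.update y j (a + b)) - dev Finset.univ f (Function.update y j a) -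
        dev Finset.univ f (Function.update y j b) := by
  have h : ∀ c, Function.update y j c ∘ j.succAbove = y ∘ j.succAbove := fun c =>
    funext fun i => Function.update_of_ne (Fin.succAbove_ne j i) _ _
  rw [dev_univ_succ 0 f, dev_univ_succ j, dev_univ_succ j f, dev_univ_succ j f, dev_univ_succ j f]
  simp only [Fin.cons_zero, Function.update_self, h, Fin.succAbove_zero]
  rw [show ((Fin.cons a (Function.update y j b) : Fin (m + 2) → A) ∘ Fin.succ) =
    Function.update y j b from funext fun i => Fin.cons_succ _ _ _, h, Function.update_self,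
    ← dev_sub, ← dev_sub]
  congr 1
  funext z
  simp only [Pi.sub_apply]
  rw [add_assoc z b a, add_comm b a]
  abel

theorem sum_erase_eq {A : Type u} {G : Type v} [AddCommGroup A] [AddCommGroup G] {k : ℕ}
    (f : A → G) (x : Fin k → A) :
    ∑ I ∈ ((Finset.univ : Finset (Fin k)).powerset.erase ∅), ((-1 : ℤ) ^ (k + I.card)) • f (∑ i ∈ I, x i) =
      dev Finset.univ f x - ((-1 : ℤ) ^ k) • f 0 := by
  rw [Finset.sum_erase_eq_sub (by simp)]
  simp [dev]


/-- Let A and G be abelian groups, written additively, f : A → G a map and n ≥ 1. For k ≥ 0 the k-th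
deviation of f is the map A^k → G, (y_1, …, y_k) ↦ Σ_{∅ ≠ I ⊆ {1,…,k}} (−1)^{k+|I|} f(Σ_{i ∈ I}
y_i). Then f is pointed of degree n, meaning that its (n+1)-st deviation vanishes identically, if
and only if its n-th deviation is additive in each variable separately (with the other variables
fixed). -/
theorem result {A : Type u} {G : Type v} [AddCommGroup A] [AddCommGroup G]
    (f : A → G) (n : ℕ) (hn : 1 ≤ n) :
    (∀ x : Fin (n + 1) → A, ∑ I ∈ ((Finset.univ : Finset (Fin (n + 1))).powerset.erase ∅), ((-1 : ℤ) ^ (n + 1 + I.card)) • f (∑ i ∈ I, x i) = 0) ↔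
      (∀ (j : Fin n) (y : Fin n → A) (a b : A),
        ∑ I ∈ ((Finset.univ : Finset (Fin n)).powerset.erase ∅), ((-1 : ℤ) ^ (n + I.card)) • f (∑ i ∈ I, (Function.update y j (a + b)) i) =
          ∑ I ∈ ((Finset.univ : Finset (Fin n)).powerset.erase ∅), ((-1 : ℤ) ^ (n + I.card)) • f (∑ i ∈ I, (Function.update y j a) i) + ∑ I ∈ ((Finset.univ : Finset (Fin n)).powerset.erase ∅), ((-1 : ℤ) ^ (n + I.card)) • f (∑ i ∈ I, (Function.update y j b) i)) := by
  obtain ⟨m, rfl⟩ : ∃ m, n = m + 1 := ⟨n - 1, by omega⟩
  have key : ∀ (y : Fin (m + 1) → A) (j : Fin (m + 1)) (a b : A),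
      dev Finset.univ f (Fin.cons a (Function.update y j b) : Fin (m + 2) → A) -
          ((-1 : ℤ) ^ (m + 2)) • f 0 =
        (dev Finset.univ f (Function.update y j (a + b)) - ((-1 : ℤ) ^ (m + 1)) • f 0) -
          ((dev Finset.univ f (Function.update y j a) - ((-1 : ℤ) ^ (m + 1)) • f 0) +
          (dev Finset.univ f (Function.update y j b) - ((-1 : ℤ) ^ (m + 1)) • f 0)) := by
    intro y j a b
    rw [dev_cons_update, pow_succ (-1 : ℤ) (m + 1), mul_neg_one, neg_smul]
    abel
  constructor
  · intro h j y a b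
    rw [sum_erase_eq, sum_erase_eq, sum_erase_eq, ← sub_eq_zero, ← key]
    have h' := h (Fin.cons a (Function.update y j b))
    rwa [sum_erase_eq] at h'
  · intro h x
    have h' := h 0 (Fin.tail x) (x 0) (x (Fin.succ 0))
    rw [sum_erase_eq, sum_erase_eq, sum_erase_eq, ← sub_eq_zero, ← key] at h'
    rw [sum_erase_eq]
    have e : (Fin.cons (x 0) (Function.update (Fin.tail x) 0 (x (Fin.succ 0))) : Fin (m + 2) → A) = x := by
      rw [show Function.update (Fin.tail x) 0 (x (Fin.succ 0)) = Fin.tail x from
        Function.update_eq_self 0 (Fin.tail x)]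
      exact Fin.cons_self_tail x
    rwa [e] at h'

end Groth.Agent.S14305
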