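import Mathlib
import Mathlib
import Groth.Statements.S14309

set_option autoImplicit false
universe u v w x y
open CAlg

namespace Groth.Agent.S14309

/-- Let R be a commutative ring; A, B, C commutative R-algebras; i : A → B and j : A → C jointly
injective R-algebra maps; c a non-zero-divisor of B; u : C → B/(c) a ring map with u ∘ j equal to i
followed by reduction modulo c; ζ in A with i ζ = c and j ζ = 0; η : R[X_σ, Z] → A an R-algebra map
with η(Z) = ζ; a : R[Y_τ] → B a surjective R-algebra map; η_Z : R[X_σ, Z] → R[Y_τ] a surjective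
R-algebra map with a ∘ η_Z = i ∘ η. Fix c̃ in R[Y_τ] with a(c̃) = c, a family (p_h) generating the
kernel of the composite R[X_σ] → R[X_σ, Z] → A → C, a family (q'_h) generating the kernel of a
together with lifts q_h along η_Z, a family (v_h) generating the kernel of η_Z, and elements g'_h of
R[Y_τ] with η_Z(p_h) + g'_h c̃ in the ideal (q'_h), together with lifts g_h along η_Z. Then the
kernel of η is the ideal generated by the elements Z q_h, Z v_h and p_h + Z g_h. (The published
statement is for the rings of cycle classes, with coefficients ℤ[1/6], of a smooth quotient stack, a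
smooth closed substack whose normal bundle has top Chern class c a non-zero-divisor, and the open
complement; this row states the ring-theoretic content for any such square of commutative rings in
which A embeds in B × C.) -/
theorem result
    {R : Type u} [CommRing R] {A : Type v} {B : Type w} {C : Type x}
    [CommRing A] [CommRing B] [CommRing C] [Algebra R A] [Algebra R B] [Algebra R C]
    (i : A →ₐ[R] B) (j : A →ₐ[R] C)
    (hinj : ∀ t : A, i t = 0 → j t = 0 → t = 0)
    (c : B) (hc : c ∈ nonZeroDivisors B) (u : C →+* B ⧸ Ideal.span ({c} : Set B))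
    (hu : ∀ t : A, u (j t) = Ideal.Quotient.mk (Ideal.span ({c} : Set B)) (i t))
    (ζ : A) (hiζ : i ζ = c) (hjζ : j ζ = 0)
    {σ τ ιp ιq ιv : Type y}
    (η : MvPolynomial (Option σ) R →ₐ[R] A) (hη : η (MvPolynomial.X none) = ζ)
    (a : MvPolynomial τ R →ₐ[R] B) (ha : Function.Surjective a)
    (ηZ : MvPolynomial (Option σ) R →ₐ[R] MvPolynomial τ R)
    (hcomm : ∀ t, a (ηZ t) = i (η t)) (hηZ : Function.Surjective ηZ)
    (cZ : MvPolynomial τ R) (hcZ : a cZ = c)
    (p : ιp → MvPolynomial σ R)
    (hp : Ideal.span (Set.range p) =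
      RingHom.ker ((j.comp η).comp (MvPolynomial.rename (Option.some : σ → Option σ))))
    (q' : ιq → MvPolynomial τ R) (hq' : Ideal.span (Set.range q') = RingHom.ker a)
    (q : ιq → MvPolynomial (Option σ) R) (hq : ∀ h, ηZ (q h) = q' h)
    (v : ιv → MvPolynomial (Option σ) R) (hv : Ideal.span (Set.range v) = RingHom.ker ηZ)
    (g' : ιp → MvPolynomial τ R)
    (hg' : ∀ h, ηZ (MvPolynomial.rename (Option.some : σ → Option σ) (p h)) + g' h * cZ ∈
      Ideal.span (Set.range q'))
    (g : ιp → MvPolynomial (Option σ) R) (hg : ∀ h, ηZ (g h) = g' h) :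
    RingHom.ker η = Ideal.span
      (Set.range (fun h : ιq => MvPolynomial.X none * q h) ∪
        Set.range (fun h : ιv => MvPolynomial.X none * v h) ∪
        Set.range (fun h : ιp =>
          MvPolynomial.rename (Option.some : σ → Option σ) (p h) + MvPolynomial.X none * g h)) := by
  classical
  have hcan : ∀ b : B, c * b = 0 → b = 0 := fun b h => (mul_left_mem_nonZeroDivisors_eq_zero_iff hc).mp h
  let ι₀ := (MvPolynomial.rename (Option.some : σ → Option σ) : MvPolynomial σ R →ₐ[R] MvPolynomial (Option σ) R)
  have hle : Ideal.span (Set.range (fun h : ιq => MvPolynomial.X none * q h) ∪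
        Set.range (fun h : ιv => MvPolynomial.X none * v h) ∪
        Set.range (fun h : ιp => MvPolynomial.rename (Option.some : σ → Option σ) (p h) + MvPolynomial.X none * g h)) ≤
      RingHom.ker η := by
    rw [Ideal.span_le]
    intro x hx
    rw [SetLike.mem_coe, RingHom.mem_ker]
    refine hinj _ ?_ ?_
    · rcases hx with (⟨h, rfl⟩ | ⟨h, rfl⟩) | ⟨h, rfl⟩
      · rw [map_mul, map_mul, ← hcomm (q h), hq, show a (q' h) = 0 from RingHom.mem_ker.mp (hq'.le (Ideal.subset_span ⟨h, rfl⟩)), mul_zero]
      · rw [map_mul, map_mul, ← hcomm (v h), show ηZ (v h) = 0 from RingHom.mem_ker.mp (hv.le (Ideal.subset_span ⟨h, rfl⟩)), map_zero, mul_zero]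
      · have h1 : a (ηZ (ι₀ (p h)) + g' h * cZ) = 0 := RingHom.mem_ker.mp (hq'.le (hg' h))
        rw [map_add, map_add, map_mul, map_mul, ← hcomm (g h), hg, hη, hiζ, ← hcomm, ← h1, map_add, map_mul, hcZ]
        ring
    · rcases hx with (⟨h, rfl⟩ | ⟨h, rfl⟩) | ⟨h, rfl⟩
      · rw [map_mul, map_mul, hη, hjζ, zero_mul]
      · rw [map_mul, map_mul, hη, hjζ, zero_mul]
      · rw [map_add, map_add, map_mul, map_mul, hη, hjζ, zero_mul, add_zero]
        exact RingHom.mem_ker.mp (hp.le (Ideal.subset_span ⟨h, rfl⟩))
  refine le_antisymm (fun t ht => ?_) hle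
  · rw [RingHom.mem_ker] at ht
    obtain ⟨p0, r, rfl⟩ : ∃ (p0 : MvPolynomial σ R) (r : MvPolynomial (Option σ) R), t = ι₀ p0 + MvPolynomial.X none * r := by
      clear ht
      induction t using MvPolynomial.induction_on with
      | C a => exact ⟨MvPolynomial.C a, 0, by simp [ι₀]⟩
      | add x y hx hy =>
        obtain ⟨a, b, rfl⟩ := hx
        obtain ⟨a', b', rfl⟩ := hy
        exact ⟨a + a', b + b', by rw [map_add]; ring⟩
      | mul_X x o hx =>
        obtain ⟨a, b, rfl⟩ := hx
        cases o with
        | none => exact ⟨0, ι₀ a + MvPolynomial.X none * b, by rw [map_zero]; ring⟩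
        | some s => exact ⟨a * MvPolynomial.X s, b * MvPolynomial.X (some s), by simp [ι₀]; ring⟩
    have hp0 : p0 ∈ Ideal.span (Set.range p) := by
      rw [hp, RingHom.mem_ker]
      have h := congrArg j ht
      rw [map_add, map_mul, hη, map_add, map_mul, hjζ, zero_mul, add_zero, map_zero] at h
      exact h
    set S := Ideal.span (Set.range (fun h : ιq => MvPolynomial.X none * q h) ∪
        Set.range (fun h : ιv => MvPolynomial.X none * v h) ∪
        Set.range (fun h : ιp => MvPolynomial.rename (Option.some : σ → Option σ) (p h) + MvPolynomial.X none * g h)) with hS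
    obtain ⟨r', hr'⟩ : ∃ r', ι₀ p0 + MvPolynomial.X none * r' ∈ S := by
      clear ht
      induction hp0 using Submodule.span_induction with
      | mem x hx => obtain ⟨h, rfl⟩ := hx; exact ⟨g h, Ideal.subset_span (Or.inr ⟨h, rfl⟩)⟩
      | zero => exact ⟨0, by simp⟩
      | add x y _ _ hx hy =>
        obtain ⟨a, ha⟩ := hx
        obtain ⟨b, hb⟩ := hy
        exact ⟨a + b, by rw [map_add]; convert add_mem ha hb using 1; ring⟩
      | smul a x _ hx =>
        obtain ⟨b, hb⟩ := hx
        exact ⟨ι₀ a * b, by rw [smul_eq_mul, map_mul]; convert Ideal.mul_mem_left S (ι₀ a) hb using 1; ring⟩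
    have hSker : ∀ x ∈ S, η x = 0 := fun x hx => RingHom.mem_ker.mp (hle hx)
    have h0 : η (MvPolynomial.X none * (r - r')) = 0 := by
      rw [show MvPolynomial.X none * (r - r') = (ι₀ p0 + MvPolynomial.X none * r) - (ι₀ p0 + MvPolynomial.X none * r') by ring,
        map_sub, ht, hSker _ hr', sub_zero]
    have h1 : a (ηZ (r - r')) = 0 := hcan _ (by
      rw [hcomm]; have h := congrArg i h0; rwa [map_mul, map_mul, hη, hiζ, map_zero] at h)
    have h2 : r - r' ∈ Ideal.span (Set.range q) ⊔ Ideal.span (Set.range v) := by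
      have h3 : ηZ (r - r') ∈ (Ideal.span (Set.range q)).map ηZ := by
        rw [Ideal.map_span, ← Set.range_comp, show (⇑ηZ ∘ q) = q' from funext hq, hq']
        exact RingHom.mem_ker.mpr h1
      obtain ⟨y, hy, hye⟩ := (Ideal.mem_map_iff_of_surjective ηZ hηZ).mp h3
      rw [hv]
      exact Submodule.mem_sup.mpr ⟨y, hy, r - r' - y, RingHom.mem_ker.mpr (by rw [map_sub, hye, sub_self]), by ring⟩
    have h4 : MvPolynomial.X none * (r - r') ∈ S := by
      obtain ⟨y, hy, z, hz, hyz⟩ := Submodule.mem_sup.mp h2
      rw [← hyz, mul_add]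
      clear hyz
      refine add_mem ?_ ?_
      · induction hy using Submodule.span_induction with
        | mem x hx => obtain ⟨h, rfl⟩ := hx; exact Ideal.subset_span (Or.inl (Or.inl ⟨h, rfl⟩))
        | zero => simp
        | add x y _ _ hx hy => rw [mul_add]; exact add_mem hx hy
        | smul a x _ hx => rw [smul_eq_mul, mul_left_comm]; exact Ideal.mul_mem_left _ _ hx
      · induction hz using Submodule.span_induction with
        | mem x hx => obtain ⟨h, rfl⟩ := hx; exact Ideal.subset_span (Or.inl (Or.inr ⟨h, rfl⟩))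
        | zero => simp
        | add x y _ _ hx hy => rw [mul_add]; exact add_mem hx hy
        | smul a x _ hx => rw [smul_eq_mul, mul_left_comm]; exact Ideal.mul_mem_left _ _ hx
    convert add_mem hr' h4 using 1
    ring

end Groth.Agent.S14309
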