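import Groth.Statements.S1431
import Groth.Agent.SeesawVB.Main

set_option autoImplicit false
universe u
open FlatMor

namespace Groth.Agent.S1431

open AlgebraicGeometry CategoryTheory Limits in
/-- Let f : X → S be flat, proper and of finite presentation such that for every base change p : X_T → T
the map O_T → p_* O_{X_T} is an isomorphism, and let E be a finite locally free O_X-module. Then
some immersion j : Z → S of finite presentation has the property that a morphism g : T → S factors
through j exactly when the pullback of E to X_T is isomorphic to the pullback along p of some finite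
locally free O_T-module. -/
theorem result {X S : Scheme.{u}} (f : X ⟶ S) [Flat f] [IsProper f] [LocallyOfFinitePresentation f]
    (hO : ∀ (T : Scheme.{u}) (g : T ⟶ S) (U : T.Opens), IsIso ((pullback.snd f g).app U))
    (E : X.Modules) (hE : FlatMod.IsFinLocFree E) :
    ∃ (Z : Scheme.{u}) (j : Z ⟶ S), IsImmersion j ∧ LocallyOfFinitePresentation j ∧
      ∀ (T : Scheme.{u}) (g : T ⟶ S), (∃ g' : T ⟶ Z, g' ≫ j = g) ↔
        ∃ N : T.Modules, FlatMod.IsFinLocFree N ∧
          Nonempty ((Scheme.Modules.pullback (pullback.snd f g)).obj N ≅ (Scheme.Modules.pullback (pullback.fst f g)).obj E) := by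
  have hf := Groth.Agent.SeesawVB.univStein_of_pullback f hO
  obtain ⟨Z, ι, h1, h2, -, hι, huniv⟩ := Groth.Agent.SeesawVB.exists_seesaw f hf hE
  haveI := (Groth.Agent.PullbackMod.isQCoh_and_isFP_of_isFinLocFree E hE).1
  refine ⟨Z, ι, h1, h2, fun T u => ?_⟩
  have hfac : (∃ u' : T ⟶ Z, u' ≫ ι = u) ↔ Groth.Agent.SeesawVB.HF f E u :=
    ⟨fun ⟨u', hu'⟩ => hι.comp u' u hu', huniv T u⟩
  refine (hfac.trans (Groth.Agent.SeesawVB.hf_iff hf hE u)).trans ?_
  exact ⟨fun ⟨M, hM, ⟨e⟩⟩ => ⟨M, hM, ⟨e.symm⟩⟩, fun ⟨M, hM, ⟨e⟩⟩ => ⟨M, hM, ⟨e.symm⟩⟩⟩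

end Groth.Agent.S1431
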