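import Groth.Statements.S14313
import Groth.Agent.TwistShriek.FibreNef
import Groth.Agent.TwistShriek.SurfNC
import Groth.Agent.TwistShriek.SurfSec
import Groth.Agent.NakaiLib.ProperKleiman
-- import your own Groth.Agent.* helpers here

set_option autoImplicit false
set_option backward.isDefEq.respectTransparency false
set_option maxHeartbeats 800000
set_option synthInstance.maxHeartbeats 200000
universe u
open CategoryTheory CategoryTheory.Limits AlgebraicGeometry TopologicalSpace
open Surf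
open Groth.Agent Groth.Agent.TwistShriek

namespace Groth.Agent.S14313

theorem exists_common_den {ι : Type} [Fintype ι] (μ : ι → ℚ) (h : ∀ i, 0 ≤ μ i) :
    ∃ m : ℕ, 0 < m ∧ ∃ a : ι → ℕ, ∀ i, (m : ℚ) * μ i = a i := by
  classical
  refine ⟨∏ i, (μ i).den, Finset.prod_pos fun i _ => (μ i).den_pos,
    fun i => (μ i).num.toNat * ∏ j ∈ Finset.univ.erase i, (μ j).den, fun i => ?_⟩
  rw [← Finset.mul_prod_erase Finset.univ (fun j => (μ j).den) (Finset.mem_univ i)]
  push_cast
  rw [show (((μ i).num.toNat : ℕ) : ℚ) = ((μ i).num : ℚ) by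
    exact_mod_cast Int.toNat_of_nonneg (Rat.num_nonneg.2 (h i)), mul_comm ((μ i).den : ℚ), mul_assoc,
    Rat.den_mul_eq_num, mul_comm]

theorem arith₁ {m a : ℕ} {μ : ℚ} (eL eZ eF eO : ℤ) (hm : 0 < m) (ha : (m : ℚ) * μ = a)
    (h : (0 : ℚ) ≤ ((eL : ℚ) - eO) + ((eZ : ℚ) - eO) - μ * ((eF : ℚ) - eO)) :
    0 ≤ (m : ℤ) * ((eL - eO) + (eZ - eO)) - (a : ℤ) * (eF - eO) := by
  rw [← Int.cast_nonneg_iff (R := ℚ)]
  push_cast
  rw [← ha]
  have := mul_nonneg (show (0 : ℚ) ≤ m from Nat.cast_nonneg m) h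
  linarith

theorem arith₂ {m : ℕ} {q A B x y u : ℤ} (hx : x ≤ 0) (hy : y ≤ 0) :
    q * (A + B) ≤ (u + q * (A + B) - (m : ℤ) * (x + y)) - u := by
  have := mul_nonpos_of_nonneg_of_nonpos (show (0 : ℤ) ≤ m from Int.natCast_nonneg m) (add_nonpos hx hy)
  linarith

theorem combine_mem {R : Type*} [CommRing R] {I : Ideal R} {M A B C c F D : R} {m a : ℕ}
    (h1 : M - (A + B) ∈ I) (h2 : A - (m : R) * C ∈ I) (h3 : B - (a : R) * D ∈ I) (h4 : C - c ∈ I)
    (h5 : D + F ∈ I) : M - ((m : ℤ) • c - (a : ℤ) • F) ∈ I := by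
  have := Ideal.add_mem _ (Ideal.add_mem _ (Ideal.add_mem _ h1 h2) h3)
    (Ideal.add_mem _ (Ideal.mul_mem_left _ (m : R) h4) (Ideal.mul_mem_left _ (a : R) h5))
  convert this using 1
  simp only [zsmul_eq_mul, Int.cast_natCast]
  ring

section Form

variable (k : Type u) [Field k] {X : Scheme.{u}} [X.Over (Spec (CommRingCat.of k))]
  [IsProper (X ↘ Spec (CommRingCat.of k))]

theorem form_lin (p q : ℤ) (x y v : IntLib.PicRing X) :
    Nakai.form k (p • x - q • y) v = p * Nakai.form k x v - q * Nakai.form k y v := by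
  simp only [Nakai.form, sub_mul, map_sub, smul_mul_assoc, map_zsmul, smul_eq_mul]

theorem form_step {x y w F : IntLib.PicRing X} {p q : ℤ} (h : y = x + q • F - p • w) :
    Nakai.form k y y = Nakai.form k x x + q * (Nakai.form k x F + Nakai.form k y F) -
      p * (Nakai.form k w x + Nakai.form k w y) := by
  have e : y * y = x * x + q • (x * F + y * F) - p • (w * x + w * y) := by
    simp only [zsmul_eq_mul] at h ⊢
    linear_combination (x + y) * h
  simp only [Nakai.form]
  rw [e]
  simp only [map_sub, map_add, map_zsmul, smul_eq_mul]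

end Form

theorem sum_telescope {n : ℕ} (g : Fin (n + 1) → ℚ) :
    (∑ i : Fin n, (g i.succ - g i.castSucc)) = g (Fin.last n) - g 0 := by
  rw [Finset.sum_sub_distrib]
  have h1 := Fin.sum_univ_succ g
  have h2 := Fin.sum_univ_castSucc g
  linarith

theorem final_sum {n : ℕ} (μ : Fin (n + 1) → ℚ) (a : Fin (n + 1) → ℕ) {m : ℕ} (hm : 0 < m)
    (ha : ∀ i, (m : ℚ) * μ i = a i) (g e : Fin (n + 1) → ℤ) (d : Fin (n + 1) → ℚ) (L2 : ℤ)
    (hd : ∀ i, (e i : ℚ) = (m : ℚ) * d i)
    (hstep : ∀ i : Fin n, ((a i.castSucc : ℤ) - a i.succ) * (e i.castSucc + e i.succ) ≤ g i.succ - g i.castSucc)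
    (h0 : 0 ≤ g 0) (hlast : g (Fin.last n) = (m : ℤ) * ((m : ℤ) * L2)) :
    (∑ i : Fin n, (d i.castSucc + d i.succ) * (μ i.castSucc - μ i.succ)) ≤ (L2 : ℚ) := by
  have hmq : (0 : ℚ) < m := by exact_mod_cast hm
  have h1 : (m : ℚ) * m * ∑ i : Fin n, (d i.castSucc + d i.succ) * (μ i.castSucc - μ i.succ) ≤
      (g (Fin.last n) : ℚ) - g 0 := by
    rw [Finset.mul_sum, ← sum_telescope (fun i => (g i : ℚ))]
    refine Finset.sum_le_sum fun i _ => le_trans (le_of_eq ?_) (show (((a i.castSucc : ℤ) - a i.succ) *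
      (e i.castSucc + e i.succ) : ℚ) ≤ (g i.succ : ℚ) - g i.castSucc by exact_mod_cast hstep i)
    push_cast
    rw [hd, hd, ← ha, ← ha]
    ring
  have h0' : (0 : ℚ) ≤ g 0 := by exact_mod_cast h0
  rw [hlast] at h1
  push_cast at h1
  exact le_of_mul_le_mul_left (by linarith) (mul_pos hmq hmq)

/-- Let k be an algebraically closed field, S a smooth projective surface over k (integral, proper and
smooth over k, of dimension 2), f : S → C a surjective k-morphism onto a smooth projective curve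
(integral, proper and smooth over k, of dimension 1) and F = f⁻¹(p) the fibre over a closed point p,
with O_S(F) a tensor inverse of its ideal sheaf. Let D be a divisor (L = O_S(D) an invertible
module), Z_1 ≥ Z_2 ≥ ⋯ ≥ Z_n ≥ Z_{n+1} = 0 effective Cartier divisors (ideal sheaves I_1 ⊆ I_2 ⊆ ⋯ ⊆
I_{n+1} = O_S) and μ_1 > μ_2 > ⋯ > μ_n > μ_{n+1} = 0 rational numbers such that every N_i = D − Z_i
− μ_i F (1 ≤ i ≤ n + 1) is a nef ℚ-divisor: (D·Γ) − (Z_i·Γ) − μ_i (F·Γ) ≥ 0 for every integral curve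
Γ ⊆ S, where (L·Γ) = χ(O_Γ ⊗ L) − χ(O_Γ) and (Z_i·Γ) = −(I_i·Γ). Put d_i = N_i·F = (D·F) − (Z_i·F) −
μ_i (F·F). Then D² ≥ Σ_{i=1}^{n} (d_i + d_{i+1})(μ_i − μ_{i+1}); here (L·M) = χ(O_S) − χ(L) − χ(M) +
χ(L ⊗ M) for invertible L, M, packaged as FGA.intNum. (Indices run over Fin (n+1), position i
standing for i + 1.) (The published statement is for the chapter's fibration, with connected fibres,
semi-stable and relatively minimal, over an algebraically closed field of positive characteristic;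
this row asks only that f be surjective and allows any algebraically closed field.) -/
theorem result (k : Type u) [Field k] [IsAlgClosed k]
    (S : Scheme.{u}) [S.Over (Spec (CommRingCat.of k))] [IsProper (S ↘ (Spec (CommRingCat.of k)))]
    [Smooth (S ↘ (Spec (CommRingCat.of k)))] [IsIntegral S] (hdim : topologicalKrullDim S = 2)
    (C : Scheme.{u}) [C.Over (Spec (CommRingCat.of k))] [IsProper (C ↘ (Spec (CommRingCat.of k)))]
    [Smooth (C ↘ (Spec (CommRingCat.of k)))] [IsIntegral C] (hdimC : topologicalKrullDim C = 1)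
    (f : S ⟶ C) [f.IsOver (Spec (CommRingCat.of k))] [Surjective f]
    (p : C) (hp : IsClosed ({p} : Set C))
    (LF : S.Modules) (hLF : ClSub.IsInverseOf LF (ClSub.idealMod (f.fiberι p).ker))
    (L : S.Modules) (hL : PicF.IsInvertible L)
    (n : ℕ) (Z : Fin (n + 1) → S.IdealSheafData) (hZ : ∀ i, FGA.IsEffCartier (Z i))
    (hZmono : Monotone Z) (hZlast : Z (Fin.last n) = ⊤)
    (μ : Fin (n + 1) → ℚ) (hμ : StrictAnti μ) (hμlast : μ (Fin.last n) = 0)
    (hnef : ∀ (i : Fin (n + 1)) (Γ : S.IdealSheafData), IsIntegral Γ.subscheme →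
      topologicalKrullDim (Γ.support : Set S) = 1 →
      (0 : ℚ) ≤ ((Curv2.euler k S (CohB1.tensorMod (ClSub.quotMod Γ) L) - Curv2.euler k S (ClSub.quotMod Γ)) : ℚ) + ((Curv2.euler k S (CohB1.tensorMod (ClSub.quotMod Γ) (ClSub.idealMod (Z i))) - Curv2.euler k S (ClSub.quotMod Γ)) : ℚ)
        - μ i * ((Curv2.euler k S (CohB1.tensorMod (ClSub.quotMod Γ) LF) - Curv2.euler k S (ClSub.quotMod Γ)) : ℚ)) :
    (Finset.univ.sum fun i : Fin n =>
        (((FGA.intNum k S 2 ![L, LF] (Coh.structureModule S) : ℚ) + (FGA.intNum k S 2 ![ClSub.idealMod (Z i.castSucc), LF] (Coh.structureModule S) : ℚ) - μ i.castSucc * (FGA.intNum k S 2 ![LF, LF] (Coh.structureModule S) : ℚ))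
          + ((FGA.intNum k S 2 ![L, LF] (Coh.structureModule S) : ℚ) + (FGA.intNum k S 2 ![ClSub.idealMod (Z i.succ), LF] (Coh.structureModule S) : ℚ) - μ i.succ * (FGA.intNum k S 2 ![LF, LF] (Coh.structureModule S) : ℚ)))
        * (μ i.castSucc - μ i.succ)) ≤ (FGA.intNum k S 2 ![L, L] (Coh.structureModule S) : ℚ) := by
    classical
    haveI := EulerIneqLib.isNoetherian_proper (X := S) k
    have hIF : PicF.IsInvertible (ClSub.idealMod (f.fiberι p).ker) :=
      AmpleLib.isInvertible_of_tensor_iso ((CurveLib.tmodComm _ LF) ≪≫ hLF.some)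
    have hLFI : PicF.IsInvertible LF := AmpleLib.isInvertible_of_tensor_iso hLF.some
    have hZI : ∀ i, PicF.IsInvertible (ClSub.idealMod (Z i)) := fun i => (S8914.result _).2 (hZ i)
    have hμ0 : ∀ i, 0 ≤ μ i := fun i => hμlast ▸ hμ.antitone (Fin.le_last i)
    obtain ⟨m, hm, a, ha⟩ := exists_common_den μ hμ0
    have hmq : (0 : ℚ) < m := by exact_mod_cast hm
    set l := Nakai.cl hL with hl
    set F := Nakai.cl hLFI with hF
    let c : Fin (n + 1) → IntLib.PicRing S := fun i => Nakai.cl (hZI i)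
    let z : Fin (n + 1) → IntLib.PicRing S := fun i => (m : ℤ) • (l + c i) - (a i : ℤ) • F
    have hzmem : ∀ i, z i ∈ Nakai.Aug S := fun i => Ideal.sub_mem _
      (Submodule.smul_of_tower_mem _ _ (Ideal.add_mem _ (Nakai.cl_mem hL) (Nakai.cl_mem (hZI i))))
      (Submodule.smul_of_tower_mem _ _ (Nakai.cl_mem hLFI))
    have hcurve : ∀ (i : Fin (n + 1)) (Γ : S.IdealSheafData), IsIntegral Γ.subscheme →
        topologicalKrullDim (Γ.support : Set S) = 1 → 0 ≤ IntLib.pairing k (ClSub.quotMod Γ) (z i) := by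
      intro i Γ hΓ hΓd
      have h := hnef i Γ hΓ hΓd
      simp only [z, c, l, F, map_sub, map_zsmul, map_add, smul_eq_mul, Nakai.pairing_cl k]
      exact arith₁ _ _ _ _ hm (ha i) h
    have hsq : ∀ i, 0 ≤ Nakai.form k (z i) (z i) := by
      intro i
      have hLZ := AmpleLib.isInvertible_tensor hL (hZI i)
      have hM := AmpleLib.isInvertible_tensor (AmpleLib.isInvertible_tensorPow hLZ m)
        (AmpleLib.isInvertible_tensorPow hIF (a i))
      have hmz : Nakai.cl hM - z i ∈ Nakai.Aug S ^ 2 := by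
        have h1 : Nakai.cl hM - (Nakai.cl (AmpleLib.isInvertible_tensorPow hLZ m) +
            Nakai.cl (AmpleLib.isInvertible_tensorPow hIF (a i))) ∈ Nakai.Aug S ^ 2 := by
          rw [Nakai.cl_tensor (AmpleLib.isInvertible_tensorPow hLZ m) (AmpleLib.isInvertible_tensorPow hIF (a i)),
            add_sub_cancel_left, pow_two]
          exact Ideal.mul_mem_mul (Nakai.cl_mem _) (Nakai.cl_mem _)
        have h2 := Nakai.cl_tensorPow_sub_mem hLZ m
        have h3 := Nakai.cl_tensorPow_sub_mem hIF (a i)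
        have h4 : Nakai.cl hLZ - (l + c i) ∈ Nakai.Aug S ^ 2 := by
          rw [Nakai.cl_tensor hL (hZI i), add_sub_cancel_left, pow_two]
          exact Ideal.mul_mem_mul (Nakai.cl_mem _) (Nakai.cl_mem _)
        have h5 : Nakai.cl hIF + F ∈ Nakai.Aug S ^ 2 := by
          have := Nakai.cl_mul_inverse_mem hLFI hIF hLF.some
          rwa [show IntLib.dif hIF = - Nakai.cl hIF by rw [Nakai.cl_eq_neg_dif, neg_neg], sub_neg_eq_add,
            add_comm] at this
        exact combine_mem h1 h2 h3 h4 h5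
      have hNef : Nakai.NefP k hM := Nakai.nefP_of_quotMod k hM fun Γ hΓ hΓd => by
        rw [← Nakai.pairing_cl k _ hM, Nakai.pairing_congr k hmz (IntLib.isCoh_quotMod Γ)
          (lt_of_le_of_lt ((Topology.IsEmbedding.inclusion (IntLib.support_quotMod_subset Γ)).isInducing.topologicalKrullDim_le.trans
            hΓd.le) (by exact_mod_cast Nat.lt_succ_self 1))]
        exact hcurve i Γ hΓ hΓd
      have h := Nakai.kleiman k hNef (DevLib.isCoh_structureModule S) (d := 2)
        (lt_of_le_of_lt (Topology.IsEmbedding.subtypeVal.isInducing.topologicalKrullDim_le.trans hdim.le)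
          (by exact_mod_cast Nat.lt_succ_self 2))
      rw [pow_two] at h
      rw [← Nakai.form_congr k hdim hmz (hzmem i), Nakai.form_comm,
        ← Nakai.form_congr k hdim hmz (Nakai.cl_mem hM)]
      exact h
    have hstep : ∀ i : Fin n,
        ((a i.castSucc : ℤ) - a i.succ) * (Nakai.form k (z i.castSucc) F + Nakai.form k (z i.succ) F) ≤
          Nakai.form k (z i.succ) (z i.succ) - Nakai.form k (z i.castSucc) (z i.castSucc) := by
      intro i
      obtain ⟨J, hJ, hJe⟩ := exists_eq_mul_of_le (hZ i.succ) (hZ i.castSucc) (hZmono i.castSucc_lt_succ.le)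
      have hJI := (S8914.result J).2 hJ
      set w := Nakai.cl hJI
      let zc : IntLib.PicRing S := (m : ℤ) • (l + (c i.succ + w)) - (a i.castSucc : ℤ) • F
      have hwc : ∀ v ∈ Nakai.Aug S, Nakai.form k (c i.castSucc) v = Nakai.form k (c i.succ + w) v := fun v hv => by
        have hmI : PicF.IsInvertible (ClSub.idealMod (Z i.succ * J)) := hJe ▸ hZI i.castSucc
        rw [show c i.castSucc = Nakai.cl hmI from Nakai.cl_congr _ _ (eqToIso (congrArg ClSub.idealMod hJe)),
          form_ideal_mul k hdim (hZI i.succ) hJI hmI hv, Nakai.form_add_left]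
      have hzc : ∀ v ∈ Nakai.Aug S, Nakai.form k (z i.castSucc) v = Nakai.form k zc v := fun v hv => by
        simp only [z, zc, form_lin, Nakai.form_add_left, hwc v hv]
      have hzcm : zc ∈ Nakai.Aug S := Ideal.sub_mem _
        (Submodule.smul_of_tower_mem _ _ (Ideal.add_mem _ (Nakai.cl_mem hL)
          (Ideal.add_mem _ (Nakai.cl_mem (hZI i.succ)) (Nakai.cl_mem hJI))))
        (Submodule.smul_of_tower_mem _ _ (Nakai.cl_mem hLFI))
      have hw1 : ∀ j, Nakai.form k w (z j) ≤ 0 := fun j =>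
        pairing_nonneg_of_curves k hdim (hzmem j) hJ hJI fun C hC hCd _ => hcurve j C hC hCd
      have e1 : Nakai.form k (z i.castSucc) (z i.castSucc) = Nakai.form k zc zc := by
        rw [hzc _ (hzmem _), Nakai.form_comm k, hzc _ hzcm]
      have e2 : Nakai.form k (z i.castSucc) F = Nakai.form k zc F := hzc F (Nakai.cl_mem hLFI)
      have e3 : Nakai.form k w zc = Nakai.form k w (z i.castSucc) := by
        rw [Nakai.form_comm, ← hzc _ (Nakai.cl_mem hJI), Nakai.form_comm]
      have key := form_step k (x := zc) (y := z i.succ) (w := w) (F := F) (p := (m : ℤ))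
        (q := (a i.castSucc : ℤ) - a i.succ) (by simp only [z, zc, smul_add, sub_smul]; abel)
      rw [e1, e2, key, e3]
      exact arith₂ (hw1 _) (hw1 _)
    have hlast : Nakai.form k (z (Fin.last n)) (z (Fin.last n)) = (m : ℤ) * ((m : ℤ) * Nakai.form k l l) := by
      have ha0 : a (Fin.last n) = 0 := by
        have := ha (Fin.last n); rw [hμlast, mul_zero] at this; exact_mod_cast this.symm
      have hc : ∀ v ∈ Nakai.Aug S, Nakai.form k (c (Fin.last n)) v = 0 := fun v hv => by
        have hmI : PicF.IsInvertible (ClSub.idealMod (Z (Fin.last n) * Z (Fin.last n))) := by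
          rw [hZlast, eq_top_of_le_mul]; exact hZlast ▸ hZI (Fin.last n)
        have e := form_ideal_mul k hdim (hZI (Fin.last n)) (hZI (Fin.last n)) hmI hv
        rw [Nakai.cl_congr hmI (hZI (Fin.last n)) (eqToIso (congrArg ClSub.idealMod
          (by rw [hZlast, eq_top_of_le_mul])))] at e
        show Nakai.form k (Nakai.cl (hZI (Fin.last n))) v = 0
        linarith
      have hcl := hc l (Nakai.cl_mem hL)
      have hcz := hc (z (Fin.last n)) (hzmem _)
      have e : ∀ v, Nakai.form k (z (Fin.last n)) v = (m : ℤ) * (Nakai.form k l v + Nakai.form k (c (Fin.last n)) v) := fun v => by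
        simp only [z, form_lin, Nakai.form_add_left, ha0, Nat.cast_zero, zero_mul, sub_zero]
      rw [e, Nakai.form_comm k l, e, hcz, hcl, add_zero, add_zero]
    simp only [intNum_eq_form k hdim.le hL hL, intNum_eq_form k hdim.le hL hLFI,
      intNum_eq_form k hdim.le hLFI hLFI, intNum_eq_form k hdim.le (hZI _) hLFI, ← hl, ← hF]
    have hd : ∀ i, (Nakai.form k (z i) F : ℚ) = (m : ℚ) *
        ((Nakai.form k l F : ℚ) + (Nakai.form k (c i) F : ℚ) - μ i * (Nakai.form k F F : ℚ)) := fun i => by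
      simp only [z, form_lin, Nakai.form_add_left]
      push_cast
      rw [← ha i]
      ring
    exact final_sum μ a hm ha (fun i => Nakai.form k (z i) (z i)) (fun i => Nakai.form k (z i) F)
      (fun i => (Nakai.form k l F : ℚ) + (Nakai.form k (c i) F : ℚ) - μ i * (Nakai.form k F F : ℚ))
      (Nakai.form k l l) hd hstep (hsq 0) hlast

end Groth.Agent.S14313
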