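import Groth.Statements.S14314
import Groth.Agent.TwistShriek.FibreNef
import Groth.Agent.TwistShriek.SurfEff
import Groth.Agent.BlowCompLib.Compose
-- import your own Groth.Agent.* helpers here

set_option autoImplicit false
set_option backward.isDefEq.respectTransparency false
set_option maxHeartbeats 800000
set_option synthInstance.maxHeartbeats 200000
universe u
open CategoryTheory CategoryTheory.Limits AlgebraicGeometry TopologicalSpace
open Surf
open Groth.Agent Groth.Agent.TwistShriek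

namespace Groth.Agent.S14314

theorem arith₁ (a₁ a₂ c eO z y z₁ : ℤ) {μ₁ μ₂ : ℚ} (hn : a₁ - eO = a₂ - eO)
    (hm : z₁ - eO = (z - eO) + (y - eO)) (ho : y - eO ≤ 0) (hF : 0 ≤ c - eO) (hμ : μ₂ ≤ μ₁)
    (h : (0 : ℚ) ≤ ((a₁ : ℚ) - eO) + ((z₁ : ℚ) - eO) - μ₁ * ((c : ℚ) - eO)) :
    (0 : ℚ) ≤ ((a₂ : ℚ) - eO) + ((z : ℚ) - eO) - μ₂ * ((c : ℚ) - eO) := by
  have hn' : (a₁ : ℚ) = a₂ := by exact_mod_cast (by omega : a₁ = a₂)
  have hm' : (z₁ : ℚ) - eO = ((z : ℚ) - eO) + ((y : ℚ) - eO) := by exact_mod_cast hm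
  have ho' : (y : ℚ) - eO ≤ 0 := by exact_mod_cast ho
  have hF' : (0 : ℚ) ≤ (c : ℚ) - eO := by exact_mod_cast hF
  nlinarith [mul_le_mul_of_nonneg_right hμ hF']

theorem arith₂ (a z y z₂ c eO : ℤ) {μ : ℚ} (hm : z₂ - eO = (z - eO) + (y - eO)) (ho : y - eO ≤ 0)
    (h : (0 : ℚ) ≤ ((a : ℚ) - eO) + ((z₂ : ℚ) - eO) - μ * ((c : ℚ) - eO)) :
    (0 : ℚ) ≤ ((a : ℚ) - eO) + ((z : ℚ) - eO) - μ * ((c : ℚ) - eO) := by
  have hm' : (z₂ : ℚ) - eO = ((z : ℚ) - eO) + ((y : ℚ) - eO) := by exact_mod_cast hm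
  have ho' : (y : ℚ) - eO ≤ 0 := by exact_mod_cast ho
  linarith

/-- Let k be an algebraically closed field, S a smooth projective surface over k (integral, proper and
smooth over k, of dimension 2), f : S → C a surjective k-morphism onto a smooth projective curve and
F = f⁻¹(p) the fibre over a closed point p, with O_S(F) a tensor inverse of its ideal sheaf. Let
D_1, D_2 be numerically equivalent divisors (invertible modules L_1, L_2 with (L_1·Γ) = (L_2·Γ) for
every integral curve Γ ⊆ S, where (L·Γ) = χ(O_Γ ⊗ L) − χ(O_Γ)), μ_1 ≥ μ_2 rational numbers and Z_1,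
Z_2 effective Cartier divisors with common part Z, that is Z_i = Z + Y_i with Z, Y_1, Y_2 effective
Cartier divisors and Y_1, Y_2 without common component (Y_1 ∩ Y_2 finite); in terms of ideal sheaves
I_{Z_i} = I_Z · I_{Y_i}. If N_i = D_i − Z_i − μ_i F is nef for i = 1, 2, that is (D_i·Γ) +
(I_{Z_i}·Γ) − μ_i (F·Γ) ≥ 0 for every integral curve Γ, then N = D_2 − Z − μ_2 F is nef. (The
published statement is for the chapter's fibration over an algebraically closed field of positive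
characteristic; this row asks only that f be surjective and allows any algebraically closed field.) -/
theorem result (k : Type u) [Field k] [IsAlgClosed k]
    (S : Scheme.{u}) [S.Over (Spec (CommRingCat.of k))] [IsProper (S ↘ (Spec (CommRingCat.of k)))]
    [Smooth (S ↘ (Spec (CommRingCat.of k)))] [IsIntegral S] (hdim : topologicalKrullDim S = 2)
    (C : Scheme.{u}) [C.Over (Spec (CommRingCat.of k))] [IsProper (C ↘ (Spec (CommRingCat.of k)))]
    [Smooth (C ↘ (Spec (CommRingCat.of k)))] [IsIntegral C] (hdimC : topologicalKrullDim C = 1)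
    (f : S ⟶ C) [f.IsOver (Spec (CommRingCat.of k))] [Surjective f]
    (p : C) (hp : IsClosed ({p} : Set C))
    (LF : S.Modules) (hLF : ClSub.IsInverseOf LF (ClSub.idealMod (f.fiberι p).ker))
    (L₁ L₂ : S.Modules) (hL₁ : PicF.IsInvertible L₁) (hL₂ : PicF.IsInvertible L₂)
    (hnum : ∀ Γ : S.IdealSheafData, IsIntegral Γ.subscheme → topologicalKrullDim (Γ.support : Set S) = 1 →
      (Curv2.euler k S (CohB1.tensorMod (ClSub.quotMod Γ) L₁) - Curv2.euler k S (ClSub.quotMod Γ)) = (Curv2.euler k S (CohB1.tensorMod (ClSub.quotMod Γ) L₂) - Curv2.euler k S (ClSub.quotMod Γ)))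
    (μ₁ μ₂ : ℚ) (hμ : μ₂ ≤ μ₁)
    (Z Y₁ Y₂ Z₁ Z₂ : S.IdealSheafData) (hZ : FGA.IsEffCartier Z) (hY₁ : FGA.IsEffCartier Y₁) (hY₂ : FGA.IsEffCartier Y₂)
    (hZ₁ : Z₁ = Z * Y₁) (hZ₂ : Z₂ = Z * Y₂) (hY : ((Y₁ ⊔ Y₂).support : Set S).Finite)
    (hnef₁ : (∀ Γ : S.IdealSheafData, IsIntegral Γ.subscheme → topologicalKrullDim (Γ.support : Set S) = 1 →
      (0 : ℚ) ≤ ((Curv2.euler k S (CohB1.tensorMod (ClSub.quotMod Γ) L₁) - Curv2.euler k S (ClSub.quotMod Γ)) : ℚ) + ((Curv2.euler k S (CohB1.tensorMod (ClSub.quotMod Γ) (ClSub.idealMod Z₁)) - Curv2.euler k S (ClSub.quotMod Γ)) : ℚ)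
        - μ₁ * ((Curv2.euler k S (CohB1.tensorMod (ClSub.quotMod Γ) LF) - Curv2.euler k S (ClSub.quotMod Γ)) : ℚ)))
    (hnef₂ : (∀ Γ : S.IdealSheafData, IsIntegral Γ.subscheme → topologicalKrullDim (Γ.support : Set S) = 1 →
      (0 : ℚ) ≤ ((Curv2.euler k S (CohB1.tensorMod (ClSub.quotMod Γ) L₂) - Curv2.euler k S (ClSub.quotMod Γ)) : ℚ) + ((Curv2.euler k S (CohB1.tensorMod (ClSub.quotMod Γ) (ClSub.idealMod Z₂)) - Curv2.euler k S (ClSub.quotMod Γ)) : ℚ)
        - μ₂ * ((Curv2.euler k S (CohB1.tensorMod (ClSub.quotMod Γ) LF) - Curv2.euler k S (ClSub.quotMod Γ)) : ℚ))) :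
    (∀ Γ : S.IdealSheafData, IsIntegral Γ.subscheme → topologicalKrullDim (Γ.support : Set S) = 1 →
      (0 : ℚ) ≤ ((Curv2.euler k S (CohB1.tensorMod (ClSub.quotMod Γ) L₂) - Curv2.euler k S (ClSub.quotMod Γ)) : ℚ) + ((Curv2.euler k S (CohB1.tensorMod (ClSub.quotMod Γ) (ClSub.idealMod Z)) - Curv2.euler k S (ClSub.quotMod Γ)) : ℚ)
        - μ₂ * ((Curv2.euler k S (CohB1.tensorMod (ClSub.quotMod Γ) LF) - Curv2.euler k S (ClSub.quotMod Γ)) : ℚ)) := by
    intro Γ hΓ hΓd
    haveI := hΓ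
    have hΓI := invertible_curve k hdim Γ hΓ hΓd
    have hmul : ∀ (A B : S.IdealSheafData) (hA : FGA.IsEffCartier A) (hB : FGA.IsEffCartier B),
        (Curv2.euler k S (CohB1.tensorMod (ClSub.quotMod Γ) (ClSub.idealMod (A * B))) - Curv2.euler k S (ClSub.quotMod Γ)) =
          (Curv2.euler k S (CohB1.tensorMod (ClSub.quotMod Γ) (ClSub.idealMod A)) - Curv2.euler k S (ClSub.quotMod Γ)) +
          (Curv2.euler k S (CohB1.tensorMod (ClSub.quotMod Γ) (ClSub.idealMod B)) - Curv2.euler k S (ClSub.quotMod Γ)) := by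
      intro A B hA hB
      have hAI := (S8914.result A).2 hA
      have hBI := (S8914.result B).2 hB
      have hABI := (S8914.result (A * B)).2 (BlowCompLib.isEffCartier_mul hA hB)
      rw [← Nakai.pairing_cl k _ hABI, ← Nakai.pairing_cl k _ hAI, ← Nakai.pairing_cl k _ hBI,
        pairing_quotMod_cl k hΓI, pairing_quotMod_cl k hΓI, pairing_quotMod_cl k hΓI,
        Nakai.form_comm k (Nakai.cl hΓI), Nakai.form_comm k (Nakai.cl hΓI), Nakai.form_comm k (Nakai.cl hΓI),
        form_ideal_mul k hdim hAI hBI hABI (Nakai.cl_mem hΓI)]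
      ring
    have hout : ∀ (Y : S.IdealSheafData), FGA.IsEffCartier Y → ¬ (Γ.support : Set S) ⊆ (Y.support : Set S) →
        Curv2.euler k S (CohB1.tensorMod (ClSub.quotMod Γ) (ClSub.idealMod Y)) - Curv2.euler k S (ClSub.quotMod Γ) ≤ 0 := by
      intro Y hYc hsub
      have hYI := (S8914.result Y).2 hYc
      rw [← Nakai.pairing_cl k _ hYI, pairing_quotMod_cl k hΓI, Nakai.form_comm]
      exact neg_nonpos.2 (form_ideal_nonneg k hdim hYc hYI hΓ hΓd hΓI hsub)
    have hF := fibre_nef k hdimC f hp hLF Γ hΓ hΓd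
    have h1 := hnef₁ Γ hΓ hΓd
    have h2 := hnef₂ Γ hΓ hΓd
    have hn := hnum Γ hΓ hΓd
    by_cases hsub : (Γ.support : Set S) ⊆ (Y₂.support : Set S)
    · have hsub1 : ¬ (Γ.support : Set S) ⊆ (Y₁.support : Set S) := fun h => by
        have hfin : (Γ.support : Set S).Finite := hY.subset (by
          rw [Scheme.IdealSheafData.support_sup]; exact Set.subset_inter h hsub)
        haveI := hfin.to_subtype
        haveI := EulerIneqLib.isNoetherian_proper (X := S) k
        haveI : JacobsonSpace S := LocallyOfFiniteType.jacobsonSpace (S ↘ Spec (CommRingCat.of k))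
        haveI : JacobsonSpace (Γ.support : Set S) :=
          JacobsonSpace.of_isClosedEmbedding Γ.support.isClosed.isClosedEmbedding_subtypeVal
        have h0 := topologicalKrullDim_zero_of_discreteTopology (Γ.support : Set S)
        rw [hΓd] at h0
        exact absurd h0 (by norm_num)
      have hm := hmul Z Y₁ hZ hY₁
      have ho := hout Y₁ hY₁ hsub1
      rw [← hZ₁] at hm
      exact arith₁ _ _ _ _ _ _ _ hn hm ho hF hμ h1
    · have hm := hmul Z Y₂ hZ hY₂
      have ho := hout Y₂ hY₂ hsub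
      rw [← hZ₂] at hm
      exact arith₂ _ _ _ _ _ _ hm ho h2

end Groth.Agent.S14314
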