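import Groth.Statements.S14315
import Groth.Agent.H6CurveCorr
import Groth.Agent.S16049
import Groth.Agent.FlatLocus.FibreCrit

set_option autoImplicit false
universe u
open CategoryTheory CategoryTheory.Limits AlgebraicGeometry TopologicalSpace
open Surf

namespace Groth.Agent.S14315

open CategoryTheory CategoryTheory.Limits AlgebraicGeometry

set_option backward.isDefEq.respectTransparency false
set_option backward.defeqAttrib.useBackward true
set_option linter.style.haveILetI false


open Groth.Agent

theorem smooth_over {P S C C' B : Scheme.{u}} {f : S ⟶ C} {ψ : C' ⟶ C} {a : P ⟶ S} {b : P ⟶ C'}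
    (h : IsPullback a b f ψ) (U : S.Opens) [Smooth (U.ι ≫ f)] (q : C' ⟶ B) [Smooth q] :
    Smooth ((a ⁻¹ᵁ U).ι ≫ b ≫ q) := by
  have h1 : IsPullback ((a ⁻¹ᵁ U).ι ≫ b) (a ∣_ U) ψ (U.ι ≫ f) :=
    (isPullback_morphismRestrict a U).flip.paste_horiz h.flip
  have h2 : Smooth ((a ⁻¹ᵁ U).ι ≫ b) := MorphismProperty.of_isPullback (P := @Smooth) h1.flip ‹_›
  haveI := h2
  rw [← Category.assoc]
  infer_instance

theorem isDominant_of_isFinite (k : Type u) [Field k] {C C' : Scheme.{u}} [IsIntegral C] [IsIntegral C']
    [C'.Over (Spec (CommRingCat.of k))] [IsProper (C' ↘ (Spec (CommRingCat.of k)))]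
    (ψ : C' ⟶ C) [IsFinite ψ] (hC : topologicalKrullDim C = 1) (hC' : topologicalKrullDim C' = 1) :
    IsDominant ψ := by
  haveI : JacobsonSpace C' := LocallyOfFiniteType.jacobsonSpace (C' ↘ (Spec (CommRingCat.of k)))
  have hgen : ψ (genericPoint C') = genericPoint C := by
    by_contra hne
    have hcl : IsClosed ({ψ (genericPoint C')} : Set C) :=
      H6CurveCorr.isClosed_singleton hC.le (fun x => (genericPoint_spec C).specializes trivial) hne
    have huniv : ∀ x : C', x ∈ ψ ⁻¹' {ψ (genericPoint C')} := fun x =>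
      ((genericPoint_spec C').specializes trivial).mem_closed (hcl.preimage ψ.continuous) rfl
    haveI : Finite C' := Set.finite_univ_iff.1 ((ψ.finite_preimage_singleton _).subset fun x _ => huniv x)
    have h3 := topologicalKrullDim_zero_of_discreteTopology C'
    rw [hC'] at h3
    exact absurd h3 (by norm_num)
  refine ⟨fun x => ?_⟩
  exact closure_mono (Set.singleton_subset_iff.2 (Set.mem_range_self (f := (ψ : C' → C)) (genericPoint C')))
    (hgen ▸ (genericPoint_spec C).specializes trivial |>.mem_closure)

/-- Let k be an algebraically closed field, S a smooth projective surface over k (integral, proper and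
smooth over k, of dimension 2), f : S → C a surjective k-morphism onto a smooth projective curve C
(integral, proper and smooth over k, of dimension 1), and ψ : C' → C a finite k-morphism from
another smooth projective curve C' which is unramified at every point of C' lying over a point of C
whose fibre of f is not smooth. Then S ×_C C' is smooth over k. (The published statement takes ψ
separable and f the chapter's generically smooth semi-stable fibration with connected fibres over an
algebraically closed field of positive characteristic; this row assumes only f surjective and ψ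
finite, over any algebraically closed field.) -/
theorem result (k : Type u) [Field k] [IsAlgClosed k]
    (S : Scheme.{u}) [S.Over (Spec (CommRingCat.of k))] [IsProper (S ↘ (Spec (CommRingCat.of k)))]
    [Smooth (S ↘ (Spec (CommRingCat.of k)))] [IsIntegral S] (hdim : topologicalKrullDim S = 2)
    (C : Scheme.{u}) [C.Over (Spec (CommRingCat.of k))] [IsProper (C ↘ (Spec (CommRingCat.of k)))]
    [Smooth (C ↘ (Spec (CommRingCat.of k)))] [IsIntegral C] (hdimC : topologicalKrullDim C = 1)
    (f : S ⟶ C) [f.IsOver (Spec (CommRingCat.of k))] [Surjective f]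
    (C' : Scheme.{u}) [C'.Over (Spec (CommRingCat.of k))] [IsProper (C' ↘ (Spec (CommRingCat.of k)))]
    [Smooth (C' ↘ (Spec (CommRingCat.of k)))] [IsIntegral C'] (hdimC' : topologicalKrullDim C' = 1)
    (ψ : C' ⟶ C) [ψ.IsOver (Spec (CommRingCat.of k))] [IsFinite ψ]
    (hψ : ∀ c : C', ¬ Smooth (f.fiberToSpecResidueField (ψ.base c)) →
      ∃ U : C'.Opens, c ∈ U ∧ FormallyUnramified (U.ι ≫ ψ)) :
    Smooth (pullback.snd f ψ ≫ (C' ↘ (Spec (CommRingCat.of k)))) := by
  let K := Spec (CommRingCat.of k)
  haveI : IsDominant f := ⟨f.surjective.denseRange⟩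
  haveI : Flat f := H6CurveCorr.flat (k := k) f hdimC.le
  haveI : IsDominant ψ := isDominant_of_isFinite k ψ hdimC hdimC'
  haveI : Flat ψ := H6CurveCorr.flat (k := k) ψ hdimC.le
  haveI : LocallyOfFinitePresentation f := by
    haveI : LocallyOfFinitePresentation (f ≫ (C ↘ K)) := by rw [comp_over]; infer_instance
    exact FlatLocus.locallyOfFinitePresentation_of_comp f (C ↘ K)
  haveI : LocallyOfFinitePresentation ψ := by
    haveI : LocallyOfFinitePresentation (ψ ≫ (C ↘ K)) := by rw [comp_over]; infer_instance
    exact FlatLocus.locallyOfFinitePresentation_of_comp ψ (C ↘ K)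
  let a := pullback.fst f ψ
  let b := pullback.snd f ψ
  have hsq : IsPullback a b f ψ := IsPullback.of_hasPullback f ψ
  let A : Type u := {W : (pullback f ψ).Opens // Smooth (W.ι ≫ b ≫ (C' ↘ K))}
  refine IsZariskiLocalAtSource.of_iSup_eq_top (P := @Smooth) (fun W : A => W.1) (top_le_iff.1 fun z _ => ?_)
    fun W => W.2
  by_cases hz : Smooth (f.fiberToSpecResidueField (ψ.base (b z)))
  · have hfib : Smooth (pullback.snd f ((𝟙 C : C ⟶ C).fiberι (ψ.base (b z)))) := by
      haveI := hz
      have h1 : (𝟙 C : C ⟶ C).fiberι (ψ.base (b z)) =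
          (𝟙 C : C ⟶ C).fiberToSpecResidueField (ψ.base (b z)) ≫ C.fromSpecResidueField (ψ.base (b z)) := by
        rw [← Scheme.Hom.fiber_fac]
        exact (Category.comp_id _).symm
      rw [h1]
      generalize (𝟙 C : C ⟶ C).fiberToSpecResidueField (ψ.base (b z)) = t
      erw [← (Iso.inv_comp_eq _).2 (pullbackLeftPullbackSndIso_hom_snd f (C.fromSpecResidueField (ψ.base (b z))) t).symm]
      haveI : Smooth (pullback.snd (pullback.snd f (C.fromSpecResidueField (ψ.base (b z)))) t) :=
        MorphismProperty.pullback_snd _ _ hz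
      infer_instance
    obtain ⟨U, hU, hUs⟩ := S16049.result (𝟙 C) f f (Category.comp_id f) (ψ.base (b z)) hfib
    refine TopologicalSpace.Opens.mem_iSup.2 ⟨⟨a ⁻¹ᵁ U, smooth_over hsq U (C' ↘ K)⟩, hU (a z) ?_⟩
    show (a ≫ f) z = (b ≫ ψ) z
    rw [hsq.w]
  · obtain ⟨U, hU, hUu⟩ := hψ (b z) hz
    haveI : Etale (U.ι ≫ ψ) := Etale.of_formallyUnramified_of_flat _
    haveI : Smooth (U.ι ≫ ψ) := inferInstance
    refine TopologicalSpace.Opens.mem_iSup.2 ⟨⟨b ⁻¹ᵁ U, ?_⟩, hU⟩
    have h := smooth_over hsq.flip U (S ↘ K)
    have e : b ≫ (C' ↘ K) = a ≫ (S ↘ K) := by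
      rw [← comp_over ψ K, ← comp_over f K, reassoc_of% hsq.w]
    rw [e]
    exact h

end Groth.Agent.S14315
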