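import Groth.Statements.S14316
import Groth.Agent.CyclicCoverLib.Curve
import Groth.Agent.CoverDivLib.Pull
import Groth.Agent.CurveFF.Duality
import Groth.Agent.CurveFF.Pic
import Mathlib.RingTheory.Adjoin.Field

set_option autoImplicit false
universe u
open CategoryTheory CategoryTheory.Limits AlgebraicGeometry TopologicalSpace
open Curves

namespace Groth.Agent.S14316

open CategoryTheory CategoryTheory.Limits AlgebraicGeometry

set_option backward.isDefEq.respectTransparency false
set_option backward.isDefEq.respectTransparency.types false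
set_option linter.style.haveILetI false
set_option maxHeartbeats 2000000

attribute [local instance] Curv2.stalkAlgebra
attribute [local instance high] FunFld.Place.algRes

/-- Rank-one case. Let k be an algebraically closed field, C a smooth projective curve over k (integral,
proper and smooth over k, of dimension 1), E an invertible O_C-module of positive degree χ(E) −
χ(O_C) > 0, and T ⊆ C a finite set of points. Then there are a smooth projective curve C' over k and
a finite k-morphism ψ : C' → C which is generically unramified (separable) and unramified at every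
point lying over T, such that H⁰(C', ψ^*E) ≠ 0. (This is the rank-one step of the published lemma,
which is stated for locally free E of any rank and positive degree modulo a good base extension for
a fibration over C, the extension being required unramified over the images of the singular fibres;
here that finite set is an arbitrary finite set T. The steps for higher rank are not restated. The
published statement works over an algebraically closed field of positive characteristic; this row
allows any algebraically closed field.) -/
theorem result (k : Type u) [Field k] [IsAlgClosed k]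
    (C : Scheme.{u}) [C.Over (Spec (CommRingCat.of k))] [IsProper (C ↘ (Spec (CommRingCat.of k)))]
    [Smooth (C ↘ (Spec (CommRingCat.of k)))] [IsIntegral C] (hdimC : topologicalKrullDim C = 1)
    (E : C.Modules) (hE : PicF.IsInvertible E) (hdeg : 0 < Curv2.deg k C E 1)
    (T : Set C) (hT : T.Finite) :
    ∃ (C' : Scheme.{u}) (_ : C'.Over (Spec (CommRingCat.of k))) (ψ : C' ⟶ C),
      IsProper (C' ↘ (Spec (CommRingCat.of k))) ∧ Smooth (C' ↘ (Spec (CommRingCat.of k))) ∧ IsIntegral C' ∧ topologicalKrullDim C' = 1 ∧
      ψ.IsOver (Spec (CommRingCat.of k)) ∧ IsFinite ψ ∧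
      (∃ U : C'.Opens, (U : Set C').Nonempty ∧ FormallyUnramified (U.ι ≫ ψ)) ∧
      (∀ c : C', ψ.base c ∈ T → ∃ U : C'.Opens, c ∈ U ∧ FormallyUnramified (U.ι ≫ ψ)) ∧
      Nontrivial (Coh.HH C' ((Scheme.Modules.pullback ψ).obj E) 0) := by
  classical
  haveI := Groth.Agent.EulerIneqLib.isNoetherian_proper (X := C) k
  haveI := Groth.Agent.VBLib.isRegCurve_of_smooth (X := C) k hdimC.le
  have h0 := Groth.Agent.CurveFF.h0_eq_one k hdimC
  have hK := Groth.Agent.CurveFF.isFunctionField k hdimC h0
  obtain ⟨e, he⟩ := Groth.Agent.CurveFF.exists_base hE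
  obtain ⟨D, hD⟩ := Groth.Agent.CurveFF.exists_isDiv hdimC h0 hE he
  have hdd := (Groth.Agent.CurveFF.genus_and_deg hdimC h0 hE he hD).2
  -- the places over the finite set
  let Tc : Finset C := hT.toFinset.filter fun y => IsClosed ({y} : Set C)
  let Ps : Finset (FunFld.Place k C.functionField) := Tc.attach.image fun y =>
    Groth.Agent.CurveFF.placeOf k hdimC y.1 ((Finset.mem_filter (p := fun y => IsClosed ({y} : Set C))).1 y.2).2
  obtain ⟨m, f, hm, hmk, hf, hord, hPs⟩ :=
    Groth.Agent.CyclicCoverLib.exists_function hK (D := D) (by rw [← hdd]; exact hdeg) Ps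
  -- the field generated by a root
  let F := C.functionField
  haveI : NeZero m := ⟨hm.ne'⟩
  obtain ⟨t₀, ht₀⟩ := IsAlgClosed.exists_pow_nat_eq (algebraMap F (AlgebraicClosure F) f) hm
  have hint : IsIntegral F t₀ := Algebra.IsIntegral.isIntegral t₀
  let L := IntermediateField.adjoin F ({t₀} : Set (AlgebraicClosure F))
  haveI : FiniteDimensional F L := IntermediateField.adjoin.finiteDimensional hint
  haveI : Algebra.IsSeparable F L := by
    refine (IntermediateField.isSeparable_adjoin_simple_iff_isSeparable F (AlgebraicClosure F)).2 ?_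
    have hmF : (m : F) ≠ 0 := by
      rw [← map_natCast (algebraMap k F) m]; exact (_root_.map_ne_zero _).2 hmk
    refine (Polynomial.separable_X_pow_sub_C f hmF hf).of_dvd (minpoly.dvd F t₀ ?_)
    rw [map_sub, map_pow, Polynomial.aeval_X, ht₀]
    exact sub_eq_zero.2 (Polynomial.aeval_C t₀ f).symm
  obtain ⟨X, iOv, iInt, hPX, hSX, hRX, ψ, hψf, hψs, hdim, hψ, ⟨ε⟩⟩ :=
    Groth.Agent.CyclicCoverLib.exists_curve (k := k) (Y := C) hdimC (L := L)
  haveI := hPX
  haveI := hRX
  letI := Groth.Agent.NormHomLib.ffAlg ψ
  haveI : IsScalarTower k C.functionField X.functionField := Groth.Agent.CastSeveriLib.scalarTower ψ hψ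
  haveI : FiniteDimensional C.functionField X.functionField := Groth.Agent.NormHomLib.finite_functionField ψ
  haveI : Algebra.IsSeparable C.functionField X.functionField := AlgEquiv.Algebra.isSeparable ε
  let t : X.functionField := ε (IntermediateField.AdjoinSimple.gen F t₀)
  have ht : t ^ m = algebraMap C.functionField X.functionField f := by
    rw [← ε.commutes, ← map_pow]
    exact congrArg ε (Subtype.ext ht₀)
  have hgen : IntermediateField.adjoin C.functionField ({t} : Set X.functionField) = ⊤ := by
    have h1 := congrArg (IntermediateField.map ε.toAlgHom)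
      (show IntermediateField.adjoin F ({IntermediateField.AdjoinSimple.gen F t₀} : Set L) = ⊤ from by
        refine IntermediateField.map_injective L.val ?_
        rw [IntermediateField.adjoin_map, Set.image_singleton, ← AlgHom.fieldRange_eq_map, IntermediateField.fieldRange_val]
        rfl)
    rw [IntermediateField.adjoin_map, Set.image_singleton, ← AlgHom.fieldRange_eq_map,
      AlgHom.fieldRange_eq_top.2 ε.surjective] at h1
    exact h1
  have hcl : ∀ c : X, IsClosed ({c} : Set X) → IsClosed ({ψ c} : Set C) := fun c hc => by
    rw [← Set.image_singleton]; exact ψ.isClosedMap _ hc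
  obtain ⟨e', he', hD'⟩ := Groth.Agent.CoverDivLib.exists_isDiv_pullback hdim hdimC ψ hψ hE he hD
  refine ⟨X, iOv, ψ, hPX, hSX, iInt, hdim, ⟨hψ⟩, inferInstance, ?_, fun c hc => ?_, ?_⟩
  · obtain ⟨U, hU, hU'⟩ := Groth.Agent.CyclicCoverLib.exists_unramified_nhd hdim hdimC ψ hψ (genericPoint X)
      (Or.inl ⟨rfl, inferInstance⟩)
    exact ⟨U, ⟨_, hU⟩, hU'⟩
  · refine Groth.Agent.CyclicCoverLib.exists_unramified_nhd hdim hdimC ψ hψ c ?_
    by_cases hcc : IsClosed ({c} : Set X)
    · refine Or.inr ⟨hcc, hcl c hcc, ?_⟩
      refine Groth.Agent.CyclicCoverLib.ramIdx_eq_one_of_root hK hm hmk hf ht hgen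
        (hPs _ (Finset.mem_image.2 ⟨⟨ψ c, Finset.mem_filter.2 ⟨hT.mem_toFinset.2 hc, hcl c hcc⟩⟩,
          Finset.mem_attach _ _, rfl⟩)) ?_
      exact Groth.Agent.CastSeveriLib.isOver_placeOf hdim hdimC ψ hψ hcc (hcl c hcc)
    · exact Or.inl ⟨Groth.Agent.CurveFF.eq_generic_of_not_closed k hdim hcc, inferInstance⟩
  · have hmem : t ∈ FunFld.L (FunFld.conorm X.functionField D) :=
      Groth.Agent.CyclicCoverLib.mem_L_conorm_of_pow hK hm hf hord ht
    have ht0 : t ≠ 0 := fun h => hf ((map_eq_zero (algebraMap C.functionField X.functionField)).1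
      (by rw [← ht, h, zero_pow hm.ne']))
    have hX0 := Groth.Agent.CurveFF.h0_eq_one k hdim
    haveI := Groth.Agent.FF.finite_L (Groth.Agent.CurveFF.isFunctionField k hdim hX0)
      (FunFld.conorm X.functionField D)
    refine Module.nontrivial_of_finrank_pos (R := k) ?_
    rw [Groth.Agent.CurveFF.finrank_H0_eq_ell hdim (Groth.Agent.AmpleLib.isInvertible_pullback ψ hE) he' hD']
    exact Module.finrank_pos_iff_exists_ne_zero.2 ⟨⟨t, hmem⟩, fun h => ht0 (congrArg Subtype.val h)⟩

end Groth.Agent.S14316
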