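import Groth.Statements.S1432
import Mathlib

set_option autoImplicit false
set_option linter.style.haveILetI false
set_option linter.unusedVariables false
universe u
open FlatMor

namespace Groth.Agent.S1432

open AlgebraicGeometry CategoryTheory Limits

theorem core {X Y : Scheme.{u}} [IsAffine Y] (f : X ⟶ Y) [QuasiCompact f]
    (H : ∀ (A B : Type u) [CommRing A] [CommRing B] (φ : A →+* B), Function.Injective φ →
      ∀ (a : Spec (CommRingCat.of B) ⟶ X) (b : Spec (CommRingCat.of A) ⟶ Y),
        Spec.map (CommRingCat.ofHom φ) ≫ b = a ≫ f →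
        ∃ l : Spec (CommRingCat.of A) ⟶ X, Spec.map (CommRingCat.ofHom φ) ≫ l = a ∧ l ≫ f = b) :
    IsClosedImmersion f := by
  haveI : CompactSpace X := QuasiCompact.compactSpace_of_compactSpace f
  let 𝒰 := X.affineCover.finiteSubcover
  let W := ∐ 𝒰.X
  let π : W ⟶ X := Sigma.desc 𝒰.f
  haveI : IsAffine W := inferInstance
  have hπι : ∀ i, Sigma.ι 𝒰.X i ≫ π = 𝒰.f i := fun i => Sigma.ι_desc _ _
  have hinj : Function.Injective π.appTop := by
    rw [injective_iff_map_eq_zero]
    intro s hs
    refine Scheme.zero_of_zero_cover (𝒰 := 𝒰) s ?_ <;> intro i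
    rw [← hπι i, Scheme.Hom.comp_app]
    show (Sigma.ι 𝒰.X i).app _ (π.app _ s) = 0
    exact (congrArg _ hs).trans (map_zero _)
  let χ : Γ(Y, ⊤) →+* Γ(W, ⊤) := (π ≫ f).appTop.hom
  let mk' : Γ(Y, ⊤) →+* (Γ(Y, ⊤) ⧸ RingHom.ker χ) := Ideal.Quotient.mk _
  let φ := RingHom.kerLift χ
  let b : Spec (CommRingCat.of (Γ(Y, ⊤) ⧸ RingHom.ker χ)) ⟶ Y :=
    Spec.map (CommRingCat.ofHom mk') ≫ Y.isoSpec.inv
  haveI : IsClosedImmersion (Spec.map (CommRingCat.ofHom mk')) :=
    IsClosedImmersion.spec_of_surjective _ Ideal.Quotient.mk_surjective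
  haveI : IsClosedImmersion b := by dsimp only [b]; infer_instance
  let a : Spec (CommRingCat.of Γ(W, ⊤)) ⟶ X := W.isoSpec.inv ≫ π
  have hcomm : Spec.map (CommRingCat.ofHom φ) ≫ b = a ≫ f := by
    dsimp only [a, b]
    rw [Category.assoc, ← Category.assoc, ← Spec.map_comp]
    have : CommRingCat.ofHom mk' ≫ CommRingCat.ofHom φ = (π ≫ f).appTop := by ext r; rfl
    rw [this, Scheme.isoSpec_inv_naturality]
  obtain ⟨l, hl1, hl2⟩ := H _ _ φ (RingHom.kerLift_injective χ) a b hcomm
  have hker : ∀ r ∈ RingHom.ker χ, f.appTop.hom r = 0 := fun r hr => by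
    apply hinj
    rw [map_zero]
    exact hr
  let g : X ⟶ Spec (CommRingCat.of (Γ(Y, ⊤) ⧸ RingHom.ker χ)) :=
    X.toSpecΓ ≫ Spec.map (CommRingCat.ofHom (Ideal.Quotient.lift (RingHom.ker χ) f.appTop.hom hker))
  have hg : g ≫ b = f := by
    dsimp only [g, b]
    rw [Category.assoc, ← Spec.map_comp_assoc]
    have : CommRingCat.ofHom mk' ≫
        CommRingCat.ofHom (Ideal.Quotient.lift (RingHom.ker χ) f.appTop.hom hker) = f.appTop := by
      ext r; rfl
    rw [this, ← Scheme.toSpecΓ_naturality_assoc, ← Y.isoSpec_hom, Iso.hom_inv_id, Category.comp_id]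
  have h1 : l ≫ g = 𝟙 _ := by
    rw [← cancel_mono b, Category.assoc, hg, hl2, Category.id_comp]
  have h2 : g ≫ l = 𝟙 X := by
    have e1 : π ≫ g = W.isoSpec.hom ≫ Spec.map (CommRingCat.ofHom φ) := by
      rw [← cancel_mono b, Category.assoc, hg, Category.assoc, hcomm]
      simp [a]
    have e2 : π ≫ g ≫ l = π := by
      rw [← Category.assoc, e1, Category.assoc, hl1]
      simp [a]
    refine 𝒰.hom_ext _ _ fun i => ?_
    rw [← hπι i, Category.assoc, e2, Category.comp_id]
  haveI : IsIso g := ⟨l, h2, h1⟩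
  rw [← hg]
  infer_instance


open AlgebraicGeometry CategoryTheory Limits in
/-- For a quasi-compact morphism f : X → Y, being a closed immersion is equivalent to the following
lifting property: for each injective ring map A → B and each commutative square with Spec B → X on
top and Spec A → Y at the bottom there is a lift Spec A → X making both triangles commute. -/
theorem result {X Y : Scheme.{u}} (f : X ⟶ Y) [QuasiCompact f] :
    IsClosedImmersion f ↔ ∀ (A B : Type u) [CommRing A] [CommRing B] (φ : A →+* B), Function.Injective φ →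
      ∀ (a : Spec (CommRingCat.of B) ⟶ X) (b : Spec (CommRingCat.of A) ⟶ Y), Spec.map (CommRingCat.ofHom φ) ≫ b = a ≫ f →
        ∃ l : Spec (CommRingCat.of A) ⟶ X, Spec.map (CommRingCat.ofHom φ) ≫ l = a ∧ l ≫ f = b := by
  refine ⟨fun _ A B _ _ φ hφ a b hab => ?_, fun H => ?_⟩
  · haveI : IsSchemeTheoreticallyDominant (Spec.map (CommRingCat.ofHom φ)) := by
      rw [isSchemeTheoreticallyDominant_iff]
      refine Scheme.IdealSheafData.ext_of_isAffine ?_
      rw [Scheme.Hom.ker_apply]
      simp only [Scheme.IdealSheafData.ideal_bot, Pi.bot_apply, ← RingHom.injective_iff_ker_eq_bot]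
      have h := Scheme.ΓSpecIso_naturality (CommRingCat.ofHom φ)
      intro x y hxy
      have hb := (ConcreteCategory.bijective_of_isIso (Scheme.ΓSpecIso (CommRingCat.of A)).hom).1
      apply hb
      apply hφ
      have hx := ConcreteCategory.congr_hom h x
      have hy := ConcreteCategory.congr_hom h y
      simp only [CommRingCat.comp_apply] at hx hy
      exact hx.symm.trans ((congrArg (Scheme.ΓSpecIso (CommRingCat.of B)).hom.hom hxy).trans hy)
    have hle : f.ker ≤ b.ker := by
      have h1 : (Spec.map (CommRingCat.ofHom φ) ≫ b).ker = b.ker := by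
        rw [Scheme.Hom.ker_comp, Scheme.Hom.ker_eq_bot (Spec.map (CommRingCat.ofHom φ)),
          Scheme.IdealSheafData.map_bot]
      rw [← h1, hab]
      exact Scheme.Hom.le_ker_comp a f
    refine ⟨IsClosedImmersion.lift f b hle, ?_, IsClosedImmersion.lift_fac _ _ _⟩
    rw [← cancel_mono f, Category.assoc, IsClosedImmersion.lift_fac, hab]
  · refine IsZariskiLocalAtTarget.of_openCover (P := @IsClosedImmersion) Y.affineCover fun i => ?_
    show IsClosedImmersion (pullback.snd f (Y.affineCover.f i))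
    refine core _ fun A B _ _ φ hφ a b hab => ?_
    obtain ⟨l, hl1, hl2⟩ := H A B φ hφ (a ≫ pullback.fst _ _) (b ≫ Y.affineCover.f i) (by
      rw [← Category.assoc, hab, Category.assoc, Category.assoc, pullback.condition]
      )
    refine ⟨pullback.lift l b hl2, ?_, pullback.lift_snd _ _ _⟩
    apply pullback.hom_ext
    · rw [Category.assoc, pullback.lift_fst, hl1]
    · rw [Category.assoc, pullback.lift_snd, hab]

end Groth.Agent.S1432
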