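import Groth.Statements.S5088
import Mathlib
import Groth.Agent.MeroLib.Extend
import Groth.Agent.MeroLib.GenDense
import Groth.Agent.AmpleEmb.FiniteSetQA

set_option autoImplicit false
universe u
open CategoryTheory CategoryTheory.Limits AlgebraicGeometry TopologicalSpace
open Mero

namespace Groth.Agent.S5088

open CategoryTheory CategoryTheory.Limits AlgebraicGeometry

open TopologicalSpace Groth.Agent.MeroLib Groth.Agent.ParaFLib Groth.Agent.AmpleLib

variable {X : Scheme.{u}}

lemma mem_assPrimes_of_assPoint {W : X.Opens} (hW : IsAffineOpen W) [IsNoetherianRing Γ(X, W)]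
    (q : PrimeSpectrum Γ(X, W)) (hq : hW.fromSpec q ∈ W)
    (h : IsAssociatedPrime (IsLocalRing.maximalIdeal (X.presheaf.stalk (hW.fromSpec q))) (X.presheaf.stalk (hW.fromSpec q))) :
    q.asIdeal ∈ associatedPrimes Γ(X, W) Γ(X, W) := by
  letI : Algebra Γ(X, W) (X.presheaf.stalk (hW.fromSpec q)) :=
    TopCat.Presheaf.algebra_section_stalk X.presheaf (⟨hW.fromSpec q, hq⟩ : W)
  haveI : IsLocalization.AtPrime (X.presheaf.stalk (hW.fromSpec q)) q.asIdeal := hW.isLocalization_stalk' q hq
  rw [← IsLocalization.AtPrime.comap_maximalIdeal (X.presheaf.stalk (hW.fromSpec q)) q.asIdeal]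
  have h' : IsLocalRing.maximalIdeal (X.presheaf.stalk (hW.fromSpec q)) ∈
      associatedPrimes (X.presheaf.stalk (hW.fromSpec q)) (X.presheaf.stalk (hW.fromSpec q)) := h
  rwa [← Module.associatedPrimes.preimage_comap_associatedPrimes_eq_associatedPrimes_of_isLocalizedModule
    q.asIdeal.primeCompl (X.presheaf.stalk (hW.fromSpec q))
    (Algebra.linearMap Γ(X, W) (X.presheaf.stalk (hW.fromSpec q))), Set.mem_preimage] at h'

/-- An invertible module is trivial on an open containing all associated points. -/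
lemma exists_gen_ass [IsLocallyNoetherian X] {W : X.Opens} (hW : IsAffineOpen W)
    (hass : ∀ x : X, IsAssociatedPrime (IsLocalRing.maximalIdeal (X.presheaf.stalk x)) (X.presheaf.stalk x) → x ∈ W)
    {L : X.Modules} (hL : PicF.IsInvertible L) :
    ∃ (O : X.Opens) (e : Γ(L, O)), Gen O e ∧
      ∀ x : X, IsAssociatedPrime (IsLocalRing.maximalIdeal (X.presheaf.stalk x)) (X.presheaf.stalk x) → x ∈ O := by
  haveI : IsNoetherianRing Γ(X, W) := IsLocallyNoetherian.component_noetherian ⟨W, hW⟩
  haveI : IsAffine W.toScheme := hW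
  let Z : Set X := (fun q : PrimeSpectrum Γ(X, W) => hW.fromSpec q) ''
    {q | q.asIdeal ∈ associatedPrimes Γ(X, W) Γ(X, W)}
  have hZ : Z.Finite := Set.Finite.image _
    ((associatedPrimes.finite Γ(X, W) Γ(X, W)).preimage (fun _ _ _ _ h => PrimeSpectrum.ext h))
  have hmemZ : ∀ x : X, IsAssociatedPrime (IsLocalRing.maximalIdeal (X.presheaf.stalk x)) (X.presheaf.stalk x) →
      x ∈ Z := fun x hx => by
    obtain ⟨q, rfl⟩ := hW.range_fromSpec.superset (hass x hx)
    exact ⟨q, mem_assPrimes_of_assPoint hW q (hW.range_fromSpec.subset (Set.mem_range_self q)) hx, rfl⟩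
  have hLW : PicF.IsInvertible (L.restrict W.ι) := isInvertible_restrict W.ι hL
  have hZ' : (W.ι.base ⁻¹' Z).Finite := hZ.preimage W.ι.isOpenEmbedding.injective.injOn
  obtain ⟨s, -, hs, -⟩ := Groth.Agent.AmpleEmb.exists_genLocus_finite_quasiAffine (X := W.toScheme) hLW
    hZ' (U := ⊤) (fun _ _ => trivial)
  let G : W.toScheme.Opens := CohB1.genLocus (L.restrict W.ι) s
  have hgen : Gen G (resT (sec s) G) := gen_of_germ fun x hx => by
    have h := (mem_genLocus_iff hLW).1 hx
    simpa only [resT, TopCat.Presheaf.germ_res_apply] using h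
  obtain ⟨i⟩ := nonempty_iso_of_gen hgen
  have h2 : Nonempty (L.restrict (W.ι ''ᵁ G).ι ≅ Coh.structureModule (↑(W.ι ''ᵁ G))) := by
    let e := W.ι.isoImage G
    have he : e.inv ≫ G.ι ≫ W.ι = (W.ι ''ᵁ G).ι := by
      rw [← Scheme.Hom.isoImage_hom_ι]
      simp [e]
    exact ⟨(restrictCongr he L).symm ≪≫ restrictComp e.inv (G.ι ≫ W.ι) L ≪≫
      (Scheme.Modules.restrictFunctor e.inv).mapIso (restrictComp G.ι W.ι L ≪≫ i) ≪≫
      Groth.Agent.DCohLib.restrictUnit e.inv⟩
  obtain ⟨j⟩ := h2
  obtain ⟨e, he⟩ := exists_gen_of_iso j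
  refine ⟨_, e, he, fun x hx => (W.ι ''ᵁ G).ι_image_top.ge ?_⟩
  have hxW := hass x hx
  exact ⟨⟨x, hxW⟩, hs (hmemZ x hx), rfl⟩
/-- Case a): let X be a locally Noetherian scheme such that the set of associated points of O_X (the
points x such that the maximal ideal of O_{X,x} is an associated prime of O_{X,x}) is contained in
an affine open subset of X. Then every invertible O_X-module is isomorphic to O_X(D) for some
divisor D on X; in other words the canonical homomorphism Div(X) → Pic(X) is surjective and Pic(X)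
is the group of divisors modulo linear equivalence. -/
theorem result (X : Scheme.{u}) [IsLocallyNoetherian X]
    (hX : ∃ W : X.Opens, IsAffineOpen W ∧ ∀ x : ↥X,
      IsAssociatedPrime (IsLocalRing.maximalIdeal ↑(X.presheaf.stalk x)) ↑(X.presheaf.stalk x) → x ∈ W)
    (L : X.Modules) (hL : PicF.IsInvertible L) :
    ∃ D : Mero.Divisor X, Nonempty (L ≅ Mero.divMod D) := by
  classical
  obtain ⟨W, hW, hass⟩ := hX
  obtain ⟨O, eO, heO, hO⟩ := exists_gen_ass hW hass hL
  have hd : RegDense (⊤ : X.Opens) O := fun x _ => ⟨⊤, trivial, fun T hT _ _ => by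
    haveI : IsNoetherianRing Γ(X, T) := IsLocallyNoetherian.component_noetherian ⟨T, hT⟩
    refine exists_nonZeroDivisor_basicOpen_le hT (associatedPrimes.finite Γ(X, T) Γ(X, T))
      (fun p hp => IsAssociatedPrime.isPrime hp) (fun a ha => ?_) (fun p hp => ?_)
    · by_contra hn
      have : a ∈ ⋃ p ∈ associatedPrimes Γ(X, T) Γ(X, T), (p : Set Γ(X, T)) := by
        rw [biUnion_associatedPrimes_eq_compl_nonZeroDivisors]
        exact hn
      obtain ⟨p, hp, hap⟩ := Set.mem_iUnion₂.1 this
      exact ha p hp hap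
    · exact hO _ (maximalIdeal_mem_associatedPrimes hT ⟨p, _⟩
        (hT.range_fromSpec.subset (Set.mem_range_self _)) hp)⟩
  exact exists_divisor_of_gen_dense hL heO hd

end Groth.Agent.S5088
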