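import Groth.Statements.S5091
import Mathlib
import Groth.Agent.AssLib.Morph
import Groth.Agent.Depth.Basic
import Groth.Agent.MeroLib.Extend
import Groth.Agent.S5088

set_option autoImplicit false
universe u
open CategoryTheory CategoryTheory.Limits AlgebraicGeometry TopologicalSpace
open Div21

namespace Groth.Agent.S5091

/-- Let X be a locally Noetherian scheme, Y a closed subset and U = X − Y, with j : U → X the inclusion.
Then O_X → j_*O_U is injective — restriction of functions from every open V to V ∩ U is injective,
i.e. U is schematically dense in X — if and only if the local ring of X at every point of Y has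
depth at least 1. -/
theorem result (X : Scheme.{u}) [IsLocallyNoetherian X] (U : X.Opens) :
    CInt.IsSchematicallyDense U ↔
      ∀ x : ↥X, x ∉ U → (1 : ℕ∞) ≤ LocCoh.depth ↑(X.presheaf.stalk x) ↑(X.presheaf.stalk x) := by
  have hI : ∀ x : X, IsLocalRing.maximalIdeal (X.presheaf.stalk x) •
      (⊤ : Submodule (X.presheaf.stalk x) (X.presheaf.stalk x)) ≠ ⊤ := fun x => by
    rw [smul_eq_mul, Ideal.mul_top]
    exact (IsLocalRing.maximalIdeal.isMaximal _).ne_top
  have hzero : ∀ x : X, ¬ (1 : ℕ∞) ≤ LocCoh.depth (X.presheaf.stalk x) (X.presheaf.stalk x) ↔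
      IsAssociatedPrime (IsLocalRing.maximalIdeal (X.presheaf.stalk x)) (X.presheaf.stalk x) := fun x => by
    haveI : IsNoetherianRing (X.presheaf.stalk x) := inferInstance
    rw [not_le, ENat.lt_one_iff_eq_zero]
    refine (Groth.Agent.Depth.idealDepth_eq_zero_iff (hI x)).trans ⟨?_, ?_⟩
    · rintro ⟨z, hz, hk⟩
      refine isAssociatedPrime_iff.2 ⟨inferInstance, z, ((IsLocalRing.maximalIdeal.isMaximal _).eq_of_le ?_ ?_)⟩
      · intro htop
        have := (Submodule.mem_colon_singleton.1 (htop ▸ Submodule.mem_top : (1 : X.presheaf.stalk x) ∈ _))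
        rw [one_smul, Submodule.mem_bot] at this
        exact hz this
      · intro r hr
        rw [Submodule.mem_colon_singleton, Submodule.mem_bot]
        exact hk r hr
    · intro h
      obtain ⟨hP, z, hz⟩ := isAssociatedPrime_iff.1 h
      refine ⟨z, fun h0 => hP.ne_top ?_, fun r hr => ?_⟩
      · rw [hz, h0, eq_top_iff]
        exact fun r _ => by simp
      · rw [hz, Submodule.mem_colon_singleton, Submodule.mem_bot] at hr
        exact hr
  constructor
  · intro hU x hx
    by_contra h
    obtain ⟨W, hW, hxW, -⟩ := exists_isAffineOpen_mem_and_subset (U := (⊤ : X.Opens)) (x := x) trivial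
    haveI : IsNoetherianRing Γ(X, W) := IsLocallyNoetherian.component_noetherian ⟨W, hW⟩
    obtain ⟨q, rfl⟩ := hW.range_fromSpec.superset hxW
    obtain ⟨hP, z, hz⟩ := isAssociatedPrime_iff.1
      (Groth.Agent.S5088.mem_assPrimes_of_assPoint hW q hxW ((hzero _).1 h))
    refine hx (Groth.Agent.MeroLib.mem_of_schematicallyDense hW (hU W) q z (fun h0 => hP.ne_top ?_) fun a ha => ?_)
    · rw [hz, h0, eq_top_iff]
      exact fun r _ => by simp
    · rw [hz, Submodule.mem_colon_singleton, Submodule.mem_bot] at ha
      exact ha
  · intro h V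
    rw [injective_iff_map_eq_zero]
    intro s hs
    haveI : Coh.IsQCoh (Coh.structureModule X) := inferInstance
    refine Groth.Agent.AssLib.eq_zero_of_germ_ass (M := Coh.structureModule X) s fun y hy hya => ?_
    have hass := (Groth.Agent.AssLib.isAssPoint_structureModule_iff y).1 hya
    have hyU : y ∈ U := by_contra fun hyU => (hzero y).2 hass (h y hyU)
    refine (TopCat.Presheaf.germ_res_apply (Coh.structureModule X).presheaf
      (homOfLE (inf_le_left : V ⊓ U ≤ V)) y ⟨hy, hyU⟩ s).symm.trans ?_
    exact (congrArg _ hs).trans (map_zero _)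

end Groth.Agent.S5091
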