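import Groth.Statements.S14330
import Groth.Agent.ParaFLib.Depth
import Groth.Agent.S14104
import Groth.Agent.S5091

set_option autoImplicit false
universe u
open CategoryTheory CategoryTheory.Limits AlgebraicGeometry Opposite
open GrpSch

namespace Groth.Agent.S14330

open CategoryTheory CategoryTheory.Limits AlgebraicGeometry

open Groth.Agent
set_option backward.isDefEq.respectTransparency false
set_option linter.style.haveILetI false
set_option maxHeartbeats 1000000

theorem depth_ge_base {X S : Scheme.{u}} [IsLocallyNoetherian X] [IsLocallyNoetherian S] (f : X ⟶ S) [Flat f] (x : X) :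
    LocCoh.depth ↑(S.presheaf.stalk (f x)) ↑(S.presheaf.stalk (f x)) ≤ LocCoh.depth ↑(X.presheaf.stalk x) ↑(X.presheaf.stalk x) := by
  letI : Algebra (S.presheaf.stalk (f x)) (X.presheaf.stalk x) := (f.stalkMap x).hom.toAlgebra
  haveI : IsLocalHom (algebraMap (S.presheaf.stalk (f x)) (X.presheaf.stalk x)) :=
    inferInstanceAs (IsLocalHom (f.stalkMap x).hom)
  haveI : Module.Flat (S.presheaf.stalk (f x)) (X.presheaf.stalk x) := Flat.stalkMap f x
  have h := S2062.result (R := S.presheaf.stalk (f x)) (S := X.presheaf.stalk x) (M := S.presheaf.stalk (f x)) (N := X.presheaf.stalk x)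
  rw [Depth.depth_congr (TensorProduct.AlgebraTensorModule.rid (S.presheaf.stalk (f x)) (X.presheaf.stalk x) (X.presheaf.stalk x))] at h
  rw [h]
  exact le_self_add

/-- Sections of an invertible module vanishing on a schematically dense open vanish. -/
theorem injective_of_dense {X : Scheme.{u}} {L : X.Modules} (hL : PicF.IsInvertible L) (U : X.Opens)
    (hU : CInt.IsSchematicallyDense U) (O : X.Opens) :
    Function.Injective (L.presheaf.map (homOfLE (inf_le_left : O ⊓ U ≤ O)).op) := by
  choose W hxW hW using hL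
  let F : TopCat.Sheaf Ab.{u} X.carrier := ⟨L.presheaf, L.isSheaf⟩
  intro s t hst
  refine F.eq_of_locally_eq' (fun x : X => O ⊓ W x) O (fun x => homOfLE inf_le_left)
    (fun y hy => TopologicalSpace.Opens.mem_iSup.2 ⟨y, hy, hxW y⟩) s t fun x => ?_
  obtain ⟨i⟩ := hW x
  let e := i ≪≫ (DCohLib.restrictUnit (W x).ι).symm
  let a : (W x : Scheme.{u}).Opens := (W x).ι ⁻¹ᵁ (O ⊓ W x)
  let b : (W x : Scheme.{u}).Opens := (W x).ι ⁻¹ᵁ (O ⊓ W x ⊓ U)
  have hba : b ≤ a := fun z hz => hz.1
  have e₁ : ∀ c : X.Opens, c ≤ W x → (W x).ι ''ᵁ ((W x).ι ⁻¹ᵁ c) = c := fun c hc => by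
    rw [Scheme.Hom.image_preimage_eq_opensRange_inf, Scheme.Opens.opensRange_ι, inf_eq_right.2 hc]
  have key : ∀ (A B : X.Opens) (hBA : B ≤ A), A = (W x).ι ''ᵁ a → B = (W x).ι ''ᵁ b →
      Function.Injective (L.presheaf.map (homOfLE hBA).op) := by
    rintro A B hBA rfl rfl
    have hs : Function.Injective ((Coh.structureModule X).presheaf.map (homOfLE hBA).op) := by
      have h2 : ∀ (A B : X.Opens) (hBA : B ≤ A), B = A ⊓ U →
          Function.Injective ((Coh.structureModule X).presheaf.map (homOfLE hBA).op) := by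
        rintro A _ hBA rfl
        exact hU A
      exact h2 _ _ hBA (by rw [e₁ _ inf_le_right, e₁ _ (inf_le_left.trans inf_le_right)])
    have ha : Function.Bijective (e.hom.app a) := ConcreteCategory.bijective_of_isIso _
    have hb : Function.Bijective (e.hom.app b) := ConcreteCategory.bijective_of_isIso _
    intro p q hpq
    apply ha.1
    apply hs
    exact (DCohLib.app_natural e.hom hba p).symm.trans ((congrArg _ hpq).trans (DCohLib.app_natural e.hom hba q))
  apply key _ _ inf_le_left (e₁ _ inf_le_right).symm (e₁ _ (inf_le_left.trans inf_le_right)).symm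
  have h1 := congrArg (L.presheaf.map (homOfLE (inf_le_inf_right U inf_le_left : O ⊓ W x ⊓ U ≤ O ⊓ U)).op) hst
  rw [← ConcreteCategory.comp_apply, ← ConcreteCategory.comp_apply, ← Functor.map_comp] at h1
  rw [← ConcreteCategory.comp_apply, ← ConcreteCategory.comp_apply, ← Functor.map_comp]
  exact h1

/-- Let S be a locally Noetherian scheme, f : A → S a smooth morphism, L an invertible O_A-module and V
an open subscheme of S; for an open W of S consider the restriction of sections of L from f⁻¹(W) to
f⁻¹(W) ∩ f⁻¹(V), that is the component over W of the natural map f_*L → j_*j^*(f_*L), j : V → S the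
inclusion. If V is schematically dense in S, all these restrictions are injective. If V is a big
open of S, meaning that the local ring of S at every point outside V has depth at least 2, all these
restrictions are bijective. (The published statement is for a semi-stable group scheme A; its proof
uses only the smoothness of A over S and the local freeness of L, which are the hypotheses kept
here.) -/
theorem result {S A : Scheme.{u}} [IsLocallyNoetherian S]
    (f : A ⟶ S) [Smooth f] (L : A.Modules) (hL : PicF.IsInvertible L) (V : S.Opens) :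
    (CInt.IsSchematicallyDense V →
      ∀ W : S.Opens, Function.Injective (L.val.map (homOfLE (inf_le_left : f ⁻¹ᵁ W ⊓ f ⁻¹ᵁ V ≤ f ⁻¹ᵁ W)).op)) ∧
    ((∀ x : S, x ∉ V → 2 ≤ LocCoh.depth (S.presheaf.stalk x) (S.presheaf.stalk x)) →
      ∀ W : S.Opens, Function.Bijective (L.val.map (homOfLE (inf_le_left : f ⁻¹ᵁ W ⊓ f ⁻¹ᵁ V ≤ f ⁻¹ᵁ W)).op)) := by
  haveI : IsLocallyNoetherian A := LocallyOfFiniteType.isLocallyNoetherian f
  refine ⟨fun hV W => ?_, fun hV W => ?_⟩
  · have hd : CInt.IsSchematicallyDense (f ⁻¹ᵁ V) := (S5091.result A _).2 fun x hx =>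
      ((S5091.result S V).1 hV (f x) hx).trans (depth_ge_base f x)
    exact injective_of_dense hL (f ⁻¹ᵁ V) hd (f ⁻¹ᵁ W)
  · have h := (ParaFLib.isClosed'_iff (f ⁻¹ᵁ V).ι L).1
      (ParaFLib.isClosed'_of_depth (f ⁻¹ᵁ V) (fun x hx => (hV (f x) hx).trans (depth_ge_base f x)) hL) (f ⁻¹ᵁ W)
    rw [Scheme.Hom.image_preimage_eq_opensRange_inf, Scheme.Opens.opensRange_ι, inf_comm] at h
    exact h inf_le_left

end Groth.Agent.S14330
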