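import Mathlib
import Groth.Agent.FlatCx.Fiber
import Groth.Statements.S14336

set_option autoImplicit false
universe u
open CAlg

namespace Groth.Agent.S14336

/-- Let B be a Noetherian ring, K and K' finitely generated flat B-modules and φ : K → K' a B-linear
map; for a prime y of B write κ(y) for its residue field and φ_y for the base change κ(y) ⊗ K → κ(y)
⊗ K'. Then the function y ↦ dim_{κ(y)} Im(φ_y) on Spec B is lower semicontinuous. -/
theorem result (B : Type u) [CommRing B] [IsNoetherianRing B] (K K' : Type u) [AddCommGroup K] [Module B K] [Module.Finite B K] [Module.Flat B K] [AddCommGroup K'] [Module B K'] [Module.Finite B K'] [Module.Flat B K'] (φ : K →ₗ[B] K') : LowerSemicontinuous (fun y : PrimeSpectrum B => Module.finrank y.asIdeal.ResidueField ↥(LinearMap.range (φ.baseChange y.asIdeal.ResidueField))) := by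
  intro x n hn
  have hadd : ∀ y : PrimeSpectrum B,
      Module.finrank y.asIdeal.ResidueField ↥(LinearMap.range (φ.baseChange y.asIdeal.ResidueField)) +
        Groth.Agent.FlatCx.fdim (K' ⧸ LinearMap.range φ) y = Groth.Agent.FlatCx.fdim K' y := fun y => by
    have h1 := LinearMap.finrank_range_add_finrank_ker (φ.baseChange y.asIdeal.ResidueField)
    have h2 := Groth.Agent.FlatCx.kdim_add φ y.asIdeal.ResidueField
    unfold Groth.Agent.FlatCx.kdim at h2
    unfold Groth.Agent.FlatCx.fdim
    omega
  haveI : Module.FinitePresentation B K' := Module.finitePresentation_of_finite B K'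
  have hlc := Groth.Agent.FlatCx.fdim_isLocallyConstant (A := B) K'
  obtain ⟨U, hU, hxU, hUle⟩ := Groth.Agent.FlatCx.exists_nhd_fdim_le (K' ⧸ LinearMap.range φ) x
  refine Filter.mem_of_superset (Filter.inter_mem (hU.mem_nhds hxU)
    ((hlc.isOpen_fiber (Groth.Agent.FlatCx.fdim K' x)).mem_nhds rfl)) fun y hy => ?_
  obtain ⟨hy1, hy2⟩ := hy
  have a1 := hadd x
  have a2 := hadd y
  have a3 := hUle y hy1
  have a4 : Groth.Agent.FlatCx.fdim K' y = Groth.Agent.FlatCx.fdim K' x := hy2
  simp only [Set.mem_ofPred_eq] at hn ⊢
  omega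

end Groth.Agent.S14336
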