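import Mathlib
import Groth.Statements.S14337

set_option autoImplicit false
universe u
open scoped TensorProduct
open CAlg

namespace Groth.Agent.S14337

/-- Let B be a Noetherian ring, K and K' finitely generated flat B-modules and φ : K → K' a B-linear
map; for a prime y of B write κ(y) for its residue field and φ_y for the base change κ(y) ⊗ K → κ(y)
⊗ K'. If the cokernel K'/Im φ is a projective (locally free) B-module, then Im φ is projective, and
the formation of Im φ commutes with every base change: for every commutative B-algebra B' the map B'
⊗ Im φ → B' ⊗ K' induced by the inclusion is injective and its range is the range of the base change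
B' ⊗ K → B' ⊗ K' of φ. -/
theorem result (B : Type u) [CommRing B] [IsNoetherianRing B] (K K' : Type u) [AddCommGroup K] [Module B K] [Module.Finite B K] [Module.Flat B K] [AddCommGroup K'] [Module B K'] [Module.Finite B K'] [Module.Flat B K'] (φ : K →ₗ[B] K') (hc : Module.Projective B (K' ⧸ LinearMap.range φ)) : Module.Projective B ↥(LinearMap.range φ) ∧ ∀ (B' : Type u) [CommRing B'] [Algebra B B'], Function.Injective ((LinearMap.range φ).subtype.baseChange B') ∧ LinearMap.range ((LinearMap.range φ).subtype.baseChange B') = LinearMap.range (φ.baseChange B') := by
  haveI : Module.FinitePresentation B K' := Module.finitePresentation_of_finite B K'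
  haveI : Module.Projective B K' := Module.Flat.projective_of_finitePresentation
  obtain ⟨s, hs⟩ := Module.projective_lifting_property (LinearMap.range φ).mkQ LinearMap.id
    (Submodule.mkQ_surjective _)
  have hs' : ∀ z, (LinearMap.range φ).mkQ (s z) = z := fun z => LinearMap.congr_fun hs z
  let r : K' →ₗ[B] LinearMap.range φ := (LinearMap.id - s ∘ₗ (LinearMap.range φ).mkQ).codRestrict _ fun z => by
    rw [← (Submodule.Quotient.mk_eq_zero _), ← Submodule.mkQ_apply, LinearMap.sub_apply, LinearMap.id_apply,
      map_sub, LinearMap.comp_apply, hs', sub_self]
  have hr : r ∘ₗ (LinearMap.range φ).subtype = LinearMap.id := LinearMap.ext fun z => Subtype.ext (by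
    have h0 : Submodule.Quotient.mk (z : K') = (0 : K' ⧸ LinearMap.range φ) :=
      (Submodule.Quotient.mk_eq_zero _).2 z.2
    simp [r, h0])
  refine ⟨Module.Projective.of_split _ r hr, fun B' _ _ => ⟨?_, ?_⟩⟩
  · refine Function.LeftInverse.injective (g := r.baseChange B') fun z => ?_
    rw [← LinearMap.comp_apply, ← LinearMap.baseChange_comp, hr, LinearMap.baseChange_id, LinearMap.id_apply]
  · conv_rhs => rw [show φ = (LinearMap.range φ).subtype ∘ₗ φ.rangeRestrict from (LinearMap.subtype_comp_codRestrict _ _ _).symm,
      LinearMap.baseChange_comp, LinearMap.range_comp_of_range_eq_top _ (LinearMap.range_eq_top.2 (by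
        rw [LinearMap.baseChange_eq_ltensor]; exact LinearMap.lTensor_surjective B' φ.surjective_rangeRestrict))]

end Groth.Agent.S14337
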