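import Groth.Statements.S14339
import Groth.Agent.CurveFF.PlaneCurve
import Groth.Agent.CurveFF.PlaneGen
import Groth.Agent.CurveFF.DoubleG12
import Groth.Agent.CurveFF.GenEtale
import Groth.Agent.FF.RH
import Groth.Agent.REqLib.P1Line

set_option autoImplicit false
universe u
open CategoryTheory CategoryTheory.Limits AlgebraicGeometry
open Curves

namespace Groth.Agent.S14339

attribute [local instance] Curv2.stalkAlgebra
attribute [local instance high] FunFld.Place.algRes
set_option maxHeartbeats 1000000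

open scoped IntermediateField in
theorem exists_system {k K : Type*} [Field k] [Field K] [Algebra k K] (hK : FunFld.IsFunctionField k K)
    (hg : 2 ≤ FunFld.genus k K) {D : FunFld.Divisor k K} (hd : D.deg = 2) (h : 2 ≤ FunFld.ell D) :
    ∃ (F : IntermediateField k K) (B : FunFld.Divisor k K) (V : Submodule k K),
      F ≠ ⊤ ∧ B.deg ≤ 2 * (FunFld.genus k K : ℤ) - 2 ∧ V ≤ FunFld.L B ∧
        FunFld.genus k K ≤ Module.finrank k V ∧ ∀ v ∈ V, v ∈ F := by
  classical
  obtain ⟨z, hz, hzL⟩ := FF.exists_ne_zero_of_ell_pos (D := D) (by omega)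
  set E := D + FunFld.div k z with hE
  have hE0 : 0 ≤ E := FF.le_add_div_of_mem_L hK hz hzL
  have hEd : E.deg = 2 := by rw [hE, FF.deg_add, FF.deg_div hK, add_zero, hd]
  have hEl : 2 ≤ FunFld.ell E := by rw [hE, FF.ell_add_div hK _ hz]; exact h
  obtain ⟨x, hxE, hxc⟩ : ∃ x ∈ FunFld.L E, x ∉ Set.range (algebraMap k K) := by
    by_contra hall
    push Not at hall
    have hle : FunFld.L E ≤ (1 : Submodule k K) := fun f hf => Submodule.mem_one.2 (hall f hf)
    haveI : FiniteDimensional k ↥(1 : Submodule k K) := by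
      rw [Submodule.one_eq_span]; exact FiniteDimensional.span_singleton k 1
    have h1 : FunFld.ell E ≤ Module.finrank k ↥(1 : Submodule k K) := Submodule.finrank_mono hle
    rw [Submodule.one_eq_span, finrank_span_singleton one_ne_zero] at h1
    omega
  have hx := FF.transcendental_of_not_mem hK hxc
  set g := FunFld.genus k K
  have hpow : ∀ i, i < g → x ^ i ∈ FunFld.L (((g - 1 : ℕ) : ℤ) • E) := by
    intro i hi
    have h1 : ∀ j : ℕ, x ^ j ∈ FunFld.L ((j : ℤ) • E) := by
      intro j
      induction j with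
      | zero => rw [pow_zero, Nat.cast_zero, zero_smul]; exact FF.one_mem_L le_rfl
      | succ j ih => rw [pow_succ, Nat.cast_succ, add_smul, one_smul]; exact FF.mul_mem_L ih hxE
    exact FF.L_mono (smul_le_smul_of_nonneg_right (by omega) hE0) (h1 i)
  refine ⟨k⟮x⟯, ((g - 1 : ℕ) : ℤ) • E, Submodule.span k (Set.range fun i : Fin g => x ^ (i : ℕ)),
    fun htop => ?_, ?_, Submodule.span_le.2 (Set.range_subset_iff.2 fun i => hpow i i.isLt), ?_, ?_⟩
  · have h1 : Module.finrank k⟮x⟯ K = 1 := by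
      rw [htop]; exact IntermediateField.finrank_top
    have := FF.genus_eq_zero_of_finrank_one hK hx h1
    omega
  · rw [FF.deg_smul, hEd]; omega
  · have h1 := (Polynomial.basisMonomials k).linearIndependent.map' (Polynomial.aeval x).toLinearMap
      (LinearMap.ker_eq_bot.2 (transcendental_iff_injective.1 hx))
    have e : (fun l : ℕ => x ^ l) = ⇑(Polynomial.aeval x).toLinearMap ∘ ⇑(Polynomial.basisMonomials k) := by
      funext l; simp [Polynomial.coe_basisMonomials]
    rw [← e] at h1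
    have h2 := h1.comp (fun i : Fin g => (i : ℕ)) Fin.val_injective
    exact ((finrank_span_eq_card h2).trans (Fintype.card_fin g)).ge
  · intro v hv
    exact (Submodule.span_le (p := (k⟮x⟯).toSubalgebra.toSubmodule)).2
      (Set.range_subset_iff.2 fun i => pow_mem (IntermediateField.mem_adjoin_simple_self k x) _) hv

/-- Let k be a field, d ≥ 4, and f a nonzero homogeneous form of degree d in the homogeneous coordinates
of P^2_k whose plane curve X = V_+(f) is smooth over k. Then X is not hyperelliptic: there is no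
morphism φ : X → P^1_k over k which is finite and flat of constant rank 2 (a double cover of the
projective line). -/
theorem result (k : Type u) [Field k] (d : ℕ) (hd : 4 ≤ d) (f : LefPen.Form 2 k d) (hf : f ≠ 0) [Smooth ((LefPen.hypIdeal f).subschemeι ≫ CohB1.ProjSpace.toSpec 2 k)] : ¬ ∃ φ : (LefPen.hypIdeal f).subscheme ⟶ CohB1.ProjSpace 1 k, φ ≫ CohB1.ProjSpace.toSpec 1 k = (LefPen.hypIdeal f).subschemeι ≫ CohB1.ProjSpace.toSpec 2 k ∧ IsFinite φ ∧ Flat φ ∧ ∀ y : ↥(CohB1.ProjSpace 1 k), Scheme.Hom.finrank φ y = 2 := by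
  classical
  rintro ⟨φ, hφ, hfin, hflat, hrk⟩
  haveI := hfin
  haveI := hflat
  letI : (LefPen.hypIdeal f).subscheme.Over (Spec (CommRingCat.of k)) :=
    ⟨(LefPen.hypIdeal f).subschemeι ≫ CohB1.ProjSpace.toSpec 2 k⟩
  haveI : Smooth ((LefPen.hypIdeal f).subscheme ↘ Spec (CommRingCat.of k)) :=
    inferInstanceAs (Smooth ((LefPen.hypIdeal f).subschemeι ≫ CohB1.ProjSpace.toSpec 2 k))
  haveI := Groth.Agent.CurveFF.PlaneCurve.isProper f rfl
  haveI := Groth.Agent.CurveFF.PlaneCurve.isIntegral f hf rfl (by omega)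
  have hdim := Groth.Agent.CurveFF.PlaneCurve.dim_eq_one f hf rfl (by omega)
  haveI := Groth.Agent.VBLib.isRegCurve_of_smooth (X := (LefPen.hypIdeal f).subscheme) k hdim.le
  have h0 := Groth.Agent.HypSurfLib.finrank_H0 f hf rfl (by omega) le_rfl
  have hgenus := Groth.Agent.CurveFF.PlaneCurve.two_mul_genus f hf rfl (by omega) hdim
  have hK := Groth.Agent.CurveFF.isFunctionField k hdim h0
  have hgF := Groth.Agent.CurveFF.genus_eq (k := k) hdim h0
  have hg2 : 2 ≤ FunFld.genus k (LefPen.hypIdeal f).subscheme.functionField := by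
    obtain ⟨j, rfl⟩ := Nat.exists_eq_add_of_le hd
    rw [show 4 + j - 1 = j + 3 by omega, show 4 + j - 2 = j + 2 by omega] at hgenus
    nlinarith
  haveI : IsIntegral (CohB1.ProjSpace 1 k) := Groth.Agent.REqLib.isIntegral_projSpace 1 k
  haveI : IsProper (CohB1.ProjSpace 1 k ↘ Spec (CommRingCat.of k)) :=
    inferInstanceAs (IsProper (CohB1.ProjSpace.toSpec 1 k))
  haveI := Groth.Agent.EulerIneqLib.isNoetherian_proper (X := CohB1.ProjSpace 1 k) k
  haveI := Groth.Agent.EulerIneqLib.isNoetherian_proper (X := (LefPen.hypIdeal f).subscheme) k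
  haveI : Surjective φ := φ.one_le_finrank_iff_surjective.1 (fun y => by simp [hrk y])
  have hrd : φ.residueDegree (genericPoint (LefPen.hypIdeal f).subscheme) = 2 :=
    (Groth.Agent.CurveFF.GenEtale.finrank_eq_residueDegree φ (genericPoint _)).symm.trans (hrk _)
  obtain ⟨hL, hdL, h2⟩ := Groth.Agent.CurveFF.g12_of_double_cover hdim h0 (by omega) φ hφ hrd
  obtain ⟨e, he⟩ := Groth.Agent.CurveFF.exists_base hL
  obtain ⟨D, hD⟩ := Groth.Agent.CurveFF.exists_isDiv hdim h0 hL he
  rw [(Groth.Agent.CurveFF.genus_and_deg hdim h0 hL he hD).2] at hdL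
  rw [Groth.Agent.CurveFF.finrank_H0_eq_ell hdim hL he hD] at h2
  obtain ⟨F, B, V, hF, hB, hV, hVd, hVF⟩ := exists_system hK hg2 hdL h2.ge
  obtain ⟨x, y, g₀, hxy, hg₀, hrel, hdeg⟩ := Groth.Agent.CurveFF.PlaneCurve.exists_coords f hf rfl
  obtain ⟨A, hA, h1, hx, hy, hell⟩ :=
    Groth.Agent.CurveFF.PlaneGen.exists_adjoint x y hK hxy hg₀ hrel hdeg hd hgenus
  exact hF (Groth.Agent.CurveFF.PlaneGen.subfield_eq_top x y hK hxy (by omega) hA h1 hx hy hell F hB hV hVd hVF)

end Groth.Agent.S14339
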