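import Groth.Statements.S1434
import Groth.Agent.BlowCompLib.Compose

set_option autoImplicit false
universe u
open FlatMor

namespace Groth.Agent.S1434

open AlgebraicGeometry CategoryTheory Limits in
/-- Part (1), for a closed subscheme: let Z ⊂ X be the closed subscheme cut out by an ideal sheaf I and
Z' the one cut out by I², its first order infinitesimal neighbourhood. Given a first order
thickening T → T', a morphism a : T → Z and a morphism b : T' → X compatible with them, there is a
unique morphism T' → Z' through which b factors (compatibility with a is then automatic). -/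
theorem result {X T T' : Scheme.{u}} (I : X.IdealSheafData) (t : T ⟶ T') (ht : MoreMor.IsFirstOrderThickening t)
    (a : T ⟶ I.subscheme) (b : T' ⟶ X) (w : a ≫ I.subschemeι = t ≫ b) :
    ∃! a' : T' ⟶ (I ^ 2).subscheme, a' ≫ (I ^ 2).subschemeι = b := by
  have hI : I ≤ (t ≫ b).ker := by
    rw [← w, Scheme.Hom.ker_comp]
    calc I = I.subschemeι.ker := (I.ker_subschemeι).symm
      _ = (⊥ : I.subscheme.IdealSheafData).map I.subschemeι := (Scheme.IdealSheafData.map_bot _).symm
      _ ≤ a.ker.map I.subschemeι := (Scheme.IdealSheafData.map_gc I.subschemeι).monotone_u bot_le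
  rw [Scheme.Hom.ker_comp, Scheme.IdealSheafData.le_map_iff_comap_le] at hI
  have h2 : I ^ 2 ≤ b.ker := by
    rw [← Scheme.IdealSheafData.map_bot b, Scheme.IdealSheafData.le_map_iff_comap_le, pow_two,
      Groth.Agent.BlowCompLib.comap_mul, ← ht.2]
    exact mul_le_mul' hI hI
  refine ⟨IsClosedImmersion.lift (I ^ 2).subschemeι b (by rwa [Scheme.IdealSheafData.ker_subschemeι]),
    IsClosedImmersion.lift_fac _ _ _, fun a' ha' => ?_⟩
  rw [← cancel_mono (I ^ 2).subschemeι, IsClosedImmersion.lift_fac]
  exact ha'

end Groth.Agent.S1434
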