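import Groth.Statements.S14340
import Groth.Agent.CurveFF.G12Powers
import Groth.Agent.CurveFF.GenEtale
import Groth.Agent.S1536
import Groth.Agent.CurveLib.GlobalFun
import Groth.Agent.AVLib.GeomInt

set_option autoImplicit false
universe u
open CategoryTheory CategoryTheory.Limits AlgebraicGeometry
open Curves

namespace Groth.Agent.S14340

attribute [local instance] Curv2.stalkAlgebra Curv2.resAlgebra
attribute [local instance high] FunFld.Place.algRes
set_option backward.isDefEq.respectTransparency false
open Groth.Agent.CurveFF

/-- Let k be a field and C a smooth proper geometrically connected curve over k (of dimension one) of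
genus g = dim_k H^1(C, O_C) ≥ 2 which is hyperelliptic: there is a morphism f : C → P^1_k over k,
finite and flat of constant rank 2; let L = f^*O(1) be its g^1_2. Then for every r with 0 ≤ r ≤ g −
1 the k-vector space H^0(C, L^{⊗r}) has dimension r + 1. (The published statement asserts that the
pullback of sections H^0(P^1_k, O(r)) → H^0(C, L^{⊗r}) is an isomorphism and takes C projective;
this row states the equivalent dimension count, that map being injective for the dominant f with
source of dimension r + 1, and takes C proper, which for curves over a field is the same.) -/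
theorem result (k : Type u) [Field k] (C : Scheme.{u}) [C.Over (Spec (CommRingCat.of k))] [IsProper (C ↘ Spec (CommRingCat.of k))] [Smooth (C ↘ Spec (CommRingCat.of k))] [GeometricallyConnected (C ↘ Spec (CommRingCat.of k))] (hC : topologicalKrullDim C = 1) (g : ℕ) (hg2 : 2 ≤ g) (hg : Curv2.genus k C = g) (f : C ⟶ CohB1.ProjSpace 1 k) (hf : f ≫ CohB1.ProjSpace.toSpec 1 k = C ↘ Spec (CommRingCat.of k)) [IsFinite f] [Flat f] (hrk : ∀ y : ↥(CohB1.ProjSpace 1 k), Scheme.Hom.finrank f y = 2) (r : ℕ) (hr : r + 1 ≤ g) : Module.finrank k (Coh.HH C (CohB1.tensorPow ((Scheme.Modules.pullback f).obj (Twist.twistProjSpace 1 k 1)) r) 0) = r + 1 := by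
  classical
  haveI := Groth.Agent.AVLib.geometricallyReduced_of_smooth (C ↘ Spec (CommRingCat.of k))
  have h00 : Module.finrank k (Coh.HH C (Coh.structureModule C) 0) = 1 := Groth.Agent.S1536.result k C
  haveI : ConnectedSpace C := GeometricallyConnected.connectedSpace_of_subsingleton (C ↘ Spec (CommRingCat.of k))
  haveI := Groth.Agent.EulerIneqLib.isNoetherian_proper (X := C) k
  haveI := Groth.Agent.CurveLib.isIntegral_of_smooth (X := C) k
  haveI := Groth.Agent.VBLib.isRegCurve_of_smooth (X := C) k hC.le
  haveI : IsIntegral (CohB1.ProjSpace 1 k) := Groth.Agent.REqLib.isIntegral_projSpace 1 k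
  haveI : IsProper (CohB1.ProjSpace 1 k ↘ Spec (CommRingCat.of k)) :=
    inferInstanceAs (IsProper (CohB1.ProjSpace.toSpec 1 k))
  haveI := Groth.Agent.EulerIneqLib.isNoetherian_proper (X := CohB1.ProjSpace 1 k) k
  haveI : Surjective f := f.one_le_finrank_iff_surjective.1 (fun y => by simp [hrk y])
  have hrd : f.residueDegree (genericPoint C) = 2 :=
    (GenEtale.finrank_eq_residueDegree f (genericPoint _)).symm.trans (hrk _)
  obtain ⟨hL, hd, h2⟩ := g12_of_double_cover hC h00 (by omega) f hf hrd
  exact (tensorPow_g12 hC h00 hL hd (by omega) h2.ge (r := r) (by omega)).2.2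

end Groth.Agent.S14340
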