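import Groth.Statements.S14341
import Groth.Agent.CurveFF.PointIdeal
import Groth.Agent.CurveFF.CanGen
import Groth.Agent.CurveFF.Count
import Groth.Agent.FF.Misc

set_option autoImplicit false
universe u
open CategoryTheory CategoryTheory.Limits AlgebraicGeometry
open Curves

namespace Groth.Agent.S14341

attribute [local instance] Curv2.stalkAlgebra Curv2.resAlgebra
attribute [local instance high] FunFld.Place.algRes
set_option backward.isDefEq.respectTransparency false

/-- Let k be a field and X a smooth proper geometrically connected curve over k (of dimension one) of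
genus dim_k H^1(X, O_X) = 1, with a k-rational point O (a closed point with residue field k); for a
k-rational point P write I_P for the ideal sheaf of the reduced point P, an invertible ideal with
inverse O_X(P). Then for every invertible O_X-module L of degree 0 there is exactly one k-rational
point P with L ⊗ I_P ≅ I_O, that is L ≅ O_X(P − O): the map P ↦ O_X(P − O) is a bijection from X(k)
onto the isomorphism classes of invertible modules of degree zero. -/
theorem result (k : Type u) [Field k] (X : Scheme.{u}) [X.Over (Spec (CommRingCat.of k))] [IsProper (X ↘ Spec (CommRingCat.of k))] [Smooth (X ↘ Spec (CommRingCat.of k))] [GeometricallyConnected (X ↘ Spec (CommRingCat.of k))] (hX : topologicalKrullDim X = 1) (hg : Curv2.genus k X = 1) (O : X) (hOc : IsClosed ({O} : Set X)) (hO : Function.Bijective (Curv2.resMap k X O)) (L : X.Modules) (hL : PicF.IsInvertible L) (hdeg : Curv2.deg k X L 1 = 0) : ∃! P : {x : X // IsClosed ({x} : Set X) ∧ Function.Bijective (Curv2.resMap k X x)}, Nonempty (CohB1.tensorMod L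 (ClSub.idealMod (Scheme.IdealSheafData.vanishingIdeal ⟨{P.1}, P.2.1⟩)) ≅ ClSub.idealMod (Scheme.IdealSheafData.vanishingIdeal ⟨{O}, hOc⟩)) := by
  classical
  haveI := Groth.Agent.AVLib.geometricallyReduced_of_smooth (X ↘ Spec (CommRingCat.of k))
  have h00 : Module.finrank k (Coh.HH X (Coh.structureModule X) 0) = 1 := Groth.Agent.S1536.result k X
  haveI : ConnectedSpace X := GeometricallyConnected.connectedSpace_of_subsingleton (X ↘ Spec (CommRingCat.of k))
  haveI := Groth.Agent.EulerIneqLib.isNoetherian_proper (X := X) k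
  haveI := Groth.Agent.CurveLib.isIntegral_of_smooth (X := X) k
  haveI := Groth.Agent.VBLib.isRegCurve_of_smooth (X := X) k hX.le
  have hK := Groth.Agent.CurveFF.isFunctionField k hX h00
  let P0 := Groth.Agent.CurveFF.placeOf k hX O hOc
  have hres : ∀ (x : X) (hx : IsClosed ({x} : Set X)),
      Function.Bijective (Curv2.resMap k X x) ↔ (Groth.Agent.CurveFF.placeOf k hX x hx).deg = 1 := by
    intro x hx
    rw [Groth.Agent.CurveFF.deg_placeOf]
    constructor
    · intro h
      exact ((RingEquiv.ofBijective _ h).toAddEquiv.toLinearEquiv (R := k) (M := k) (M₂ := X.residueField x)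
        (fun c y => by show Curv2.resMap k X x (c * y) = _; rw [map_mul]; rfl)).finrank_eq.symm.trans (Module.finrank_self k)
    · intro h
      refine ⟨(Curv2.resMap k X x).injective, fun z => ?_⟩
      obtain ⟨c, hc⟩ := (finrank_eq_one_iff_of_nonzero' (1 : X.residueField x) one_ne_zero).1 h z
      exact ⟨c, by rw [← hc, Algebra.smul_def, mul_one]; rfl⟩
  have hP0 : P0.deg = 1 := (hres O hOc).1 hO
  obtain ⟨e, he⟩ := Groth.Agent.CurveFF.exists_base hL
  obtain ⟨D, hD⟩ := Groth.Agent.CurveFF.exists_isDiv hX h00 hL he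
  obtain ⟨hgen, hdd⟩ := Groth.Agent.CurveFF.genus_and_deg hX h00 hL he hD
  obtain ⟨C, hC⟩ := Groth.Agent.FF.exists_canonical hK
  obtain ⟨hC1, hC2⟩ := Groth.Agent.FF.canonical_deg hK hC
  have hE : (D + Finsupp.single P0 1).deg = 1 := by
    rw [Groth.Agent.FF.deg_add, Groth.Agent.FF.deg_single, hP0, ← hdd, hdeg]; norm_num
  have hl := Groth.Agent.FF.riemann_roch hK hC (D + Finsupp.single P0 1)
  obtain ⟨z, hz, hzL⟩ := Groth.Agent.FF.exists_ne_zero_of_ell_pos (D := D + Finsupp.single P0 1) (by omega)
  obtain ⟨P, hP, hPe⟩ := Groth.Agent.FF.exists_eq_single_of_deg_one hK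
    (Groth.Agent.FF.le_add_div_of_mem_L hK hz hzL)
    (by rw [Groth.Agent.FF.deg_add, Groth.Agent.FF.deg_div hK, add_zero, hE])
  obtain ⟨x, hx, hxP⟩ := Groth.Agent.CurveFF.placeOf_surjective hX P
  obtain ⟨hI0, e0, he0, hD0⟩ := Groth.Agent.CurveFF.isDiv_pointIdeal k hX hOc
  have key : ∀ (y : X) (hy : IsClosed ({y} : Set X)),
      (Nonempty (CohB1.tensorMod L (ClSub.idealMod (Scheme.IdealSheafData.vanishingIdeal ⟨{y}, hy⟩)) ≅
        ClSub.idealMod (Scheme.IdealSheafData.vanishingIdeal ⟨{O}, hOc⟩)) ↔
      D + Finsupp.single P0 1 - Finsupp.single (Groth.Agent.CurveFF.placeOf k hX y hy) 1 ∈ FunFld.prinDivs k X.functionField) := by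
    intro y hy
    obtain ⟨hIy, ey, hey, hDy⟩ := Groth.Agent.CurveFF.isDiv_pointIdeal k hX hy
    have hT := Groth.Agent.AmpleLib.isInvertible_tensor hL hIy
    have hb := Groth.Agent.CurveFF.isBase_tensor he hey
    have hDT := Groth.Agent.CurveFF.isDiv_tensor hX hL hIy he hey hD hDy
    constructor
    · rintro ⟨φ⟩
      have := Groth.Agent.CurveFF.sub_mem_prinDivs_of_iso hX h00 φ hb hDT he0 hD0
      convert this using 1
      simp only [P0]; abel
    · intro h
      refine Groth.Agent.CurveFF.nonempty_iso_of_sub_mem_prinDivs hX h00 hT hI0 hb hDT he0 hD0 ?_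
      convert neg_mem h using 1
      simp only [P0]; abel
  refine ⟨⟨x, hx, (hres x hx).2 (hxP ▸ hP)⟩, ?_, ?_⟩
  · refine (key x hx).2 ?_
    rw [hxP, ← hPe, sub_add_cancel_left]
    exact neg_mem ((Groth.Agent.FF.mem_prinDivs_iff hK).2 ⟨z, hz, rfl⟩)
  · rintro ⟨y, hy, hy'⟩ hiso
    refine Subtype.ext (Groth.Agent.CurveFF.placeOf_injective (k := k) hX hy hx ?_)
    by_contra hne
    have h1 := (key y hy).1 hiso
    have h2 : D + Finsupp.single P0 1 - Finsupp.single (Groth.Agent.CurveFF.placeOf k hX x hx) 1 ∈ FunFld.prinDivs k X.functionField := by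
      rw [hxP, ← hPe, sub_add_cancel_left]
      exact neg_mem ((Groth.Agent.FF.mem_prinDivs_iff hK).2 ⟨z, hz, rfl⟩)
    have h3 := sub_mem h1 h2
    rw [sub_sub_sub_cancel_left] at h3
    set Q := Groth.Agent.CurveFF.placeOf k hX y hy
    set R := Groth.Agent.CurveFF.placeOf k hX x hx
    have hQd : Q.deg = 1 := (hres y hy).1 hy'
    obtain ⟨w, hw, hwd⟩ := (Groth.Agent.FF.mem_prinDivs_iff hK).1 h3
    have hwL : w ∈ FunFld.L (Finsupp.single Q 1 : FunFld.Divisor k X.functionField) := by
      refine (Groth.Agent.FF.mem_L_iff_ord hw).2 fun S => ?_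
      have h4 : FunFld.div k w S = S.ord w := Groth.Agent.FF.div_apply hK w S
      rw [hwd, Finsupp.sub_apply] at h4
      rw [← h4, sub_add_cancel]
      exact (Finsupp.single_nonneg.2 (zero_le_one' ℤ) : (0 : FunFld.Divisor k X.functionField) ≤ Finsupp.single R 1) S
    have hle := Groth.Agent.CurveFF.ell_single_le (k := k) hX h00 (by omega) Q
    have h5 : FunFld.ell (0 : FunFld.Divisor k X.functionField) < FunFld.ell (Finsupp.single Q 1 : FunFld.Divisor k X.functionField) := by
      haveI := Groth.Agent.FF.finite_L hK (Finsupp.single Q 1 : FunFld.Divisor k X.functionField)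
      refine Submodule.finrank_lt_finrank_of_lt (lt_of_le_of_ne
        (Groth.Agent.FF.L_mono (Finsupp.single_nonneg.2 zero_le_one)) fun h6 => ?_)
      have h7 := (Groth.Agent.FF.mem_L_iff_ord hw).1 (h6 ▸ hwL : w ∈ FunFld.L (0 : FunFld.Divisor k X.functionField)) Q
      have h4 : FunFld.div k w Q = Q.ord w := Groth.Agent.FF.div_apply hK w Q
      rw [hwd, Finsupp.sub_apply, Finsupp.single_eq_same, Finsupp.single_eq_of_ne hne] at h4
      rw [Finsupp.zero_apply] at h7
      omega
    rw [Groth.Agent.FF.ell_zero hK] at h5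
    omega

end Groth.Agent.S14341
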