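import Groth.Statements.S14343
import Groth.Agent.BlowBCLib.Chart
import Groth.Agent.BlowChartLib.Scheme
import Groth.Agent.BlowCompLib.Flat
import Groth.Agent.PullbackMod.Flat
import Groth.Agent.PerfMorLib.KoszulMor
-- import your own Groth.Agent.* helpers here

set_option autoImplicit false
universe u
open CategoryTheory CategoryTheory.Limits AlgebraicGeometry TopologicalSpace
open QuotLF

namespace Groth.Agent.S14343

open Groth.Agent Groth.Agent.BlowChartLib

set_option backward.isDefEq.respectTransparency false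
set_option backward.defeqAttrib.useBackward true
set_option linter.style.haveILetI false

/-- Every point has an affine neighbourhood where a Koszul-regular sequence generates the ideal. -/
theorem exists_gen {X : Scheme.{u}} (𝓘 : X.IdealSheafData) (h : RegImm.IsRegularIdeal .koszul 𝓘) (y : X) :
    ∃ (U : X.affineOpens) (rs : List Γ(X, U.1)), y ∈ U.1 ∧ LCI.IsKoszulRegularSeq Γ(X, U.1) rs ∧
      𝓘.ideal U = Ideal.ofList rs := by
  by_cases hy : y ∈ 𝓘.support
  · obtain ⟨U, hyU, rs, hrs, hk⟩ := h y hy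
    exact ⟨U, rs, hyU, hrs, hk⟩
  · obtain ⟨_, ⟨U : X.Opens, hU, rfl⟩, hyU, hUsub⟩ :=
      X.isBasis_affineOpens.exists_subset_of_mem_open (show y ∈ (𝓘.support : Set X)ᶜ from hy) 𝓘.support.isClosed.isOpen_compl
    refine ⟨⟨U, hU⟩, [1], hyU, CILib.isKoszulRegularSeq_of_isWeaklyRegular _
      ((RingTheory.Sequence.isWeaklyRegular_singleton_iff _ _).2 (IsSMulRegular.one _)), ?_⟩
    rw [Ideal.ofList_singleton, Ideal.span_singleton_one]
    have h0 := Scheme.IdealSheafData.coe_support_inter 𝓘 ⟨U, hU⟩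
    rw [Set.disjoint_iff_inter_eq_empty.1 (Set.disjoint_left.2 fun p hp hpU => hUsub hpU hp)] at h0
    by_contra hne
    obtain ⟨P, hP, hle⟩ := Ideal.exists_le_maximal _ hne
    have hmem : hU.fromSpec ⟨P, hP.isPrime⟩ ∈ (X.zeroLocus (U := U) (𝓘.ideal ⟨U, hU⟩) ∩ (U : Set X)) := by
      rw [← hU.fromSpec_image_zeroLocus]
      exact ⟨⟨P, hP.isPrime⟩, hle, rfl⟩
    rw [← h0] at hmem
    exact hmem


/-- Let 𝓘 be a Koszul-regular quasi-coherent ideal sheaf on a scheme X (the ideal of a Koszul-regularly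
immersed closed subscheme Z) and let g : X' ⟶ X be a morphism which is Tor-independent with respect
to Z ⟶ X, stated in the following equivalent form: whenever 𝓘(U) is generated on an affine open U by
a Koszul-regular sequence, the image of that sequence in Γ(X', V) is again Koszul-regular for every
affine open V of X' lying over U (for a Koszul-regular ideal the Koszul complex of such a sequence
resolves O_Z on U, so this says exactly that the higher Tor groups of O_Z against O_{X'} vanish).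
Then for every blowing-up b : B ⟶ X of X in 𝓘, the base change B ×_X X' ⟶ X' is a blowing-up of X'
in the inverse image ideal sheaf 𝓘·O_{X'} (the ideal of Z ×_X X'). Blowing-ups are taken through
their universal property. -/
theorem result {X X' B : Scheme.{u}} (𝓘 : X.IdealSheafData)
    (h𝓘 : RegImm.IsRegularIdeal .koszul 𝓘) (g : X' ⟶ X)
    (hg : ∀ (U : X.affineOpens) (rs : List Γ(X, U.1)), LCI.IsKoszulRegularSeq Γ(X, U.1) rs →
      𝓘.ideal U = Ideal.ofList rs → ∀ (V : X'.affineOpens) (e : V.1 ≤ g ⁻¹ᵁ U.1),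
        LCI.IsKoszulRegularSeq Γ(X', V.1) (rs.map fun r => (g.appLE U.1 V.1 e).hom r))
    (b : B ⟶ X) (hb : BlowUp.IsBlowUp b 𝓘) :
    BlowUp.IsBlowUp (pullback.snd b g) (𝓘.comap g) := by
  let p₁ := pullback.fst b g
  let p₂ := pullback.snd b g
  have hw : p₁ ≫ b = p₂ ≫ g := pullback.condition
  refine ⟨fun z => ?_, fun Y h hh => ?_⟩
  · obtain ⟨⟨U, hU⟩, rs, hzU, hrs, hk⟩ := exists_gen 𝓘 h𝓘 (b (p₁ z))
    obtain ⟨a, ha, hzD⟩ := exists_mem_chartOpen 𝓘 ⟨U, hU⟩ b hb {r | r ∈ rs} hk.symm (p₁ z) hzU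
    have haI : a ∈ 𝓘.ideal ⟨U, hU⟩ := hk ▸ Ideal.subset_span ha
    obtain ⟨e, he⟩ := isOpenImmersion_hom 𝓘 ⟨U, hU⟩ a b haI hb
    let D : B.Opens := chartOpen 𝓘 ⟨U, hU⟩ a b
    have hD : IsAffineOpen D := IsAffine.of_isIso e.hom
    have eD : D ≤ b ⁻¹ᵁ U := fun y hy => by
      show b y ∈ U
      have h2 : b y = chartMap 𝓘 ⟨U, hU⟩ a (e.hom ⟨y, hy⟩) := by
        rw [← Scheme.Hom.comp_apply, he]; rfl
      rw [h2]
      exact le_preimage_chartMap 𝓘 ⟨U, hU⟩ a (x := e.hom ⟨y, hy⟩) trivial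
    obtain ⟨φ, hφ⟩ := Spec.map_surjective (hD.isoSpec.inv ≫ e.hom)
    haveI : IsIso (Spec.map φ) := by rw [hφ]; infer_instance
    haveI : IsIso φ := (ConcreteCategory.isIso_iff_bijective φ).2 (isIso_SpecMap_iff.1 inferInstance)
    have hφb : φ.hom.comp (algebraMap Γ(X, U) (ChartAlg 𝓘 ⟨U, hU⟩ a)) = (b.appLE U D eD).hom := by
      have h1 : b.appLE U D eD = CommRingCat.ofHom (algebraMap Γ(X, U) (ChartAlg 𝓘 ⟨U, hU⟩ a)) ≫ φ := by
        apply Spec.map_injective
        rw [← cancel_mono hU.fromSpec, IsAffineOpen.SpecMap_appLE_fromSpec b hU hD eD, Spec.map_comp, hφ]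
        simp only [Category.assoc]
        show hD.fromSpec ≫ b = hD.isoSpec.inv ≫ e.hom ≫ chartMap 𝓘 ⟨U, hU⟩ a
        rw [he, IsAffineOpen.fromSpec, Category.assoc]
      rw [h1]; rfl
    obtain ⟨⟨V, hV⟩, hzV, eV⟩ := BlowCompLib.exists_affine_le g (p₂ z) (U := U) (by
      rw [← Scheme.Hom.comp_apply, ← hw, Scheme.Hom.comp_apply]; exact hzU)
    obtain ⟨hW, hpo⟩ := PullbackMod.isPushout_appLE (IsPullback.of_hasPullback b g) hU hD hV eD eV
    let W : (pullback b g).Opens := p₁ ⁻¹ᵁ D ⊓ p₂ ⁻¹ᵁ V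
    letI : Algebra Γ(X, U) Γ(B, D) := (b.appLE U D eD).hom.toAlgebra
    letI : Algebra Γ(X, U) Γ(X', V) := (g.appLE U V eV).hom.toAlgebra
    letI : Algebra Γ(B, D) Γ(pullback b g, W) := (p₁.appLE D W inf_le_left).hom.toAlgebra
    letI : Algebra Γ(X', V) Γ(pullback b g, W) := (p₂.appLE V W inf_le_right).hom.toAlgebra
    letI : Algebra Γ(X, U) Γ(pullback b g, W) := ((p₁.appLE D W inf_le_left).hom.comp (b.appLE U D eD).hom).toAlgebra
    haveI : IsScalarTower Γ(X, U) Γ(B, D) Γ(pullback b g, W) := .of_algebraMap_eq fun _ => rfl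
    haveI : IsScalarTower Γ(X, U) Γ(X', V) Γ(pullback b g, W) := .of_algebraMap_eq' (by
      show ((b.appLE U D eD) ≫ p₁.appLE D W inf_le_left).hom = ((g.appLE U V eV) ≫ p₂.appLE V W inf_le_right).hom
      simp only [Scheme.Hom.appLE_comp_appLE, hw])
    haveI : Algebra.IsPushout Γ(X, U) Γ(X', V) Γ(B, D) Γ(pullback b g, W) := hpo
    obtain ⟨k, hk'⟩ := List.mem_iff_get.1 ha
    obtain ⟨m, hm⟩ : ∃ m, rs.length = m + 1 := ⟨rs.length - 1, by have := k.2; omega⟩
    let F : Fin (m + 1) → Γ(X, U) := fun t => rs.get (Fin.cast hm.symm t)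
    have hlist : List.ofFn F = rs := by
      rw [← List.ofFn_congr hm, List.ofFn_get]
    have hFj : F (Fin.cast hm k) = a := hk'
    subst hFj
    have hI : 𝓘.ideal ⟨U, hU⟩ = Ideal.span (Set.range F) := by
      rw [hk]
      refine (congrArg Ideal.ofList hlist.symm).trans ?_
      rw [Ideal.ofList]
      congr 1
      exact Set.ext fun r => List.mem_ofFn
    have hf' : LCI.IsKoszulRegularSeq Γ(X', V) (List.ofFn fun t => algebraMap Γ(X, U) Γ(X', V) (F t)) := by
      have := hg ⟨U, hU⟩ rs hrs hk ⟨V, hV⟩ eV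
      rw [← hlist, List.map_ofFn] at this
      exact this
    have hn := BlowBCLib.smul_regular_pushout F (Fin.cast hm k) (hlist.symm ▸ hrs) hI (A' := Γ(X', V))
      (B := Γ(B, D)) (C' := Γ(pullback b g, W)) φ.hom (ConcreteCategory.bijective_of_isIso φ) hφb hf'
    refine ⟨⟨W, hW⟩, ⟨hzD, hzV⟩, _, hn, ?_⟩
    have eW : W ≤ (p₁ ≫ b) ⁻¹ᵁ U := fun y hy => eD hy.1
    have h1 : ((𝓘.comap g).comap p₂) = 𝓘.comap (p₁ ≫ b) := by
      rw [← Scheme.IdealSheafData.comap_comp, hw]
    rw [h1, IdealStalkLib.comap_ideal 𝓘 (p₁ ≫ b) hU hW eW]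
    show (𝓘.ideal ⟨U, hU⟩).map ((p₁ ≫ b).appLE U W eW).hom =
      Ideal.span {(p₁.appLE D W inf_le_left).hom ((b.appLE U D eD).hom (F (Fin.cast hm k)))}
    rw [← Scheme.Hom.appLE_comp_appLE p₁ b U D W eD inf_le_left, CommRingCat.hom_comp, ← Ideal.map_map, ← hφb,
      ← Ideal.map_map, map_eq_span haI, Ideal.map_span, Set.image_singleton, Ideal.map_span, Set.image_singleton]
    rfl
  · rw [← Scheme.IdealSheafData.comap_comp] at hh
    obtain ⟨t, ht, huniq⟩ := hb.2 Y (h ≫ g) hh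
    refine ⟨pullback.lift t h ht, pullback.lift_snd _ _ _, fun t' ht' => pullback.hom_ext ?_ ?_⟩
    · rw [pullback.lift_fst]
      exact huniq _ ((Category.assoc _ _ _).trans (by rw [pullback.condition, reassoc_of% ht']))
    · rw [pullback.lift_snd, ht']

end Groth.Agent.S14343
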