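import Groth.Statements.S14346
import Mathlib

set_option autoImplicit false
universe u v
open TensorProduct
open QuotLF

namespace Groth.Agent.S14346

/-- Let R be a commutative ring, M an R-module, k ≥ 0, and A an R-algebra for which A ⊗_R M is finite
projective of constant rank k, i.e. Spec A → Spec R factors through the locally closed stratum where
M is locally free of rank k. Then A ⊗_R M has exactly one rank-k locally free quotient: the zero
submodule has finite projective quotient of constant rank k, and every submodule with such a
quotient is zero. In other words the Quot scheme of rank-k locally free quotients of M restricted to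
that stratum maps isomorphically onto it. -/
theorem result (R : Type u) [CommRing R]
    (M : Type v) [AddCommGroup M] [Module R M] (k : ℕ)
    (A : Type u) [CommRing A] [Algebra R A] [Module.Finite A (A ⊗[R] M)] [Module.Projective A (A ⊗[R] M)]
    (hk : ∀ p : PrimeSpectrum A, Module.rankAtStalk (R := A) (A ⊗[R] M) p = k) :
    (∃ N : Module.Grassmannian A (A ⊗[R] M) k, N.toSubmodule = ⊥) ∧
      ∀ N : Module.Grassmannian A (A ⊗[R] M) k, N.toSubmodule = ⊥ := by
  refine ⟨⟨⟨⊥, Module.Finite.equiv (Submodule.quotEquivOfEqBot ⊥ rfl).symm,
    Module.Projective.of_equiv (Submodule.quotEquivOfEqBot ⊥ rfl).symm, fun p => ?_⟩, rfl⟩, ?_⟩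
  · rw [Module.rankAtStalk_eq_of_equiv (Submodule.quotEquivOfEqBot (⊥ : Submodule A (A ⊗[R] M)) rfl)]
    exact hk p
  · intro N
    haveI := N.finite_quotient
    haveI := N.projective_quotient
    obtain ⟨s, hs⟩ := Module.projective_lifting_property N.toSubmodule.mkQ LinearMap.id
      (Submodule.mkQ_surjective _)
    let π : (A ⊗[R] M) →ₗ[A] N.toSubmodule :=
      (LinearMap.id - s ∘ₗ N.toSubmodule.mkQ).codRestrict N.toSubmodule (fun x => by
        have := LinearMap.congr_fun hs (N.toSubmodule.mkQ x)
        rw [← Submodule.Quotient.mk_eq_zero]
        simp only [LinearMap.sub_apply, LinearMap.id_apply, LinearMap.comp_apply,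
          Submodule.Quotient.mk_sub] at this ⊢
        exact sub_eq_zero.2 this.symm)
    have hπ : π ∘ₗ N.toSubmodule.subtype = LinearMap.id := by
      refine LinearMap.ext fun x => Subtype.ext ?_
      have : N.toSubmodule.mkQ x.1 = 0 := by simp
      simp [π, this]
    haveI : Module.Projective A N.toSubmodule := Module.Projective.of_split N.toSubmodule.subtype π hπ
    haveI : Module.Finite A N.toSubmodule :=
      Module.Finite.of_surjective π (fun x => ⟨x.1, LinearMap.congr_fun hπ x⟩)
    let e : (A ⊗[R] M) ≃ₗ[A] N.toSubmodule × ((A ⊗[R] M) ⧸ N.toSubmodule) :=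
      LinearEquiv.ofLinear (π.prod N.toSubmodule.mkQ)
        (N.toSubmodule.subtype.coprod s) (by
          have h1 : ∀ y, N.toSubmodule.mkQ (s y) = y := fun y => LinearMap.congr_fun hs y
          have h2 : ∀ y, π (s y) = 0 := fun y => Subtype.ext (by simp [π, h1])
          have h3 : ∀ y : N.toSubmodule, π y.1 = y := fun y => LinearMap.congr_fun hπ y
          refine LinearMap.ext fun z => ?_
          simp only [LinearMap.comp_apply, LinearMap.coprod_apply, LinearMap.prod_apply, Function.prod_apply,
            map_add, Submodule.subtype_apply, LinearMap.id_apply, h2, h3, h1, add_zero]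
          rw [show N.toSubmodule.mkQ (z.1 : A ⊗[R] M) = 0 by simp]
          simp) (by
          refine LinearMap.ext fun x => ?_
          simp [π])
    have hzero : Module.rankAtStalk (R := A) N.toSubmodule = 0 := by
      funext p
      have h1 := congrFun (Module.rankAtStalk_eq_of_equiv (R := A) (M := A ⊗[R] M)
        (N := N.toSubmodule × ((A ⊗[R] M) ⧸ N.toSubmodule)) e) p
      rw [Module.rankAtStalk_prod] at h1
      simp only [Pi.add_apply, N.rankAtStalk_eq p, hk p] at h1
      simp only [Pi.zero_apply]
      omega
    rw [Module.rankAtStalk_eq_zero_iff_subsingleton] at hzero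
    exact Submodule.eq_bot_of_subsingleton

end Groth.Agent.S14346
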