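import Groth.Statements.S14351

set_option autoImplicit false
universe u
open CAlg

namespace Groth.Agent.S14351
open TensorProduct

/-- For ring maps A → B → C with C faithfully flat over B and C faithfully flat over A, the ring B is
faithfully flat over A. -/
theorem result (A B C : Type u) [CommRing A] [CommRing B]
    [CommRing C] [Algebra A B] [Algebra B C] [Algebra A C] [IsScalarTower A B C]
    [Module.FaithfullyFlat B C] [Module.FaithfullyFlat A C] : Module.FaithfullyFlat A B := by
  refine (Module.FaithfullyFlat.iff_flat_and_lTensor_reflects_triviality _ _).mpr ⟨?_, ?_⟩
  · refine Module.Flat.iff_lTensor_preserves_injective_linearMap.mpr fun {N P} _ _ _ _ φ hφ => ?_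
    rw [← LinearMap.baseChange_eq_ltensor]
    refine (Module.FaithfullyFlat.lTensor_injective_iff_injective B C _).mp ?_
    intro x y hxy
    have hc : Function.Injective (φ.lTensor C) := Module.Flat.lTensor_preserves_injective_linearMap φ hφ
    apply (TensorProduct.AlgebraTensorModule.cancelBaseChange A B B C N).injective
    apply hc
    have key : ∀ z, φ.lTensor C (TensorProduct.AlgebraTensorModule.cancelBaseChange A B B C N z) = TensorProduct.AlgebraTensorModule.cancelBaseChange A B B C P ((φ.baseChange B).lTensor C z) := by
      intro z
      induction z with
      | zero => simp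
      | tmul c w =>
        induction w with
        | zero => simp
        | tmul b n => simp
        | add _ _ h1 h2 => simp only [TensorProduct.tmul_add, map_add, h1, h2]
      | add _ _ h1 h2 => simp only [map_add, h1, h2]
    rw [key, key, hxy]
  · intro N _ _ h
    have : Subsingleton (C ⊗[B] (B ⊗[A] N)) := inferInstance
    have : Subsingleton (C ⊗[A] N) := (TensorProduct.AlgebraTensorModule.cancelBaseChange A B B C N).symm.toEquiv.subsingleton
    exact Module.FaithfullyFlat.lTensor_reflects_triviality A C N

end Groth.Agent.S14351
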