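import Groth.Statements.S14354
import Groth.Agent.K0Fam.Quot
import Groth.Agent.ProjBundleLib.EpiClosed
import Groth.Agent.PullbackMod.SuppClosed


set_option autoImplicit false
universe u
open CategoryTheory CategoryTheory.Limits AlgebraicGeometry Opposite
open Coh

namespace Groth.Agent.S14354

open CategoryTheory CategoryTheory.Limits AlgebraicGeometry

open Groth.Agent CategoryTheory AlgebraicGeometry Limits Opposite
open Groth.Agent.PullbackMod
set_option backward.isDefEq.respectTransparency false

/-- The support of an image is where the map is nonzero on stalks. -/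
theorem mem_support_of_fac {X : Scheme.{u}} {F I G : X.Modules} (f : F ⟶ G) (e : F ⟶ I) (m : I ⟶ G) [Epi e] [Mono m]
    (h : e ≫ m = f) (x : X) : x ∈ CohB1.support I ↔ ∃ z, stalkLin f x z ≠ 0 := by
  subst h
  constructor
  · intro hx
    by_contra hne
    push Not at hne
    refine hx (subsingleton_of_forall_eq 0 fun w => ?_)
    obtain ⟨z, rfl⟩ := (epi_iff_stalk e).1 inferInstance x w
    refine (mono_iff_stalk m).1 inferInstance x ?_
    rw [map_zero, ← LinearMap.comp_apply, ← stalkLin_comp]
    exact hne z
  · rintro ⟨z, hz⟩ hsub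
    refine hz ?_
    rw [stalkLin_comp, LinearMap.comp_apply, @Subsingleton.elim _ hsub (stalkLin e x z) 0, map_zero]

/-- Over affine opens the image on sections only depends on the image subobject. -/
theorem range_le {X : Scheme.{u}} [IsLocallyNoetherian X] {F F' G : X.Modules} (hF' : Coh.IsCoh F') (hG : Coh.IsCoh G)
    (f : F ⟶ G) (g : F' ⟶ G) (h : imageSubobject f = imageSubobject g) {U : X.Opens} (hU : IsAffineOpen U)
    (m : F.val.obj (op U)) : ∃ m' : F'.val.obj (op U), g.app U m' = f.app U m := by
  have hfac : (imageSubobject g).Factors f := by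
    rw [← h]
    simpa using imageSubobject_factors_comp_self f (𝟙 F)
  have hzero : f ≫ cokernel.π g = 0 := by
    rw [← Subobject.factorThru_arrow _ f hfac, Category.assoc,
      imageSubobject_arrow_comp_eq_zero (cokernel.condition g), comp_zero]
  let k : F ⟶ Abelian.image g := kernel.lift _ f hzero
  obtain ⟨m', hm'⟩ := ProjBundleLib.surjective_app_of_epi hF'.1 (K0Fam.isCoh_image g hF' hG).1
    (Abelian.factorThruImage g) hU (k.app U m)
  refine ⟨m', ?_⟩
  have h1 : g.app U m' = (Abelian.image.ι g).app U ((Abelian.factorThruImage g).app U m') := by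
    rw [← ConcreteCategory.comp_apply, ← Scheme.Modules.Hom.comp_app, Abelian.image.fac]
  have h2 : f.app U m = (Abelian.image.ι g).app U (k.app U m) := by
    rw [← ConcreteCategory.comp_apply, ← Scheme.Modules.Hom.comp_app, kernel.lift_ι]
  rw [h1, h2, hm']

/-- Let X be a locally Noetherian scheme and (G_e)_{e ∈ ℕ} an inverse system of coherent O_X-modules
satisfying the Mittag-Leffler condition, in the sense that for every e the image subobject of G_d ⟶
G_e is the same for all sufficiently large d. Then for every e the support of the image of the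
canonical map lim_d G_d ⟶ G_e is closed in X. (The published statement is the case where G_e is the
i-th cohomology sheaf of the Fourier–Mukai transform of the e-th member of a Mittag-Leffler inverse
system of coherent modules on an abelian variety; the argument uses only the coherence of the G_e
and their Mittag-Leffler condition, which is the form stated here.) -/
theorem result (X : Scheme.{u}) [IsLocallyNoetherian X]
    (G : ℕᵒᵖ ⥤ X.Modules) (hG : ∀ n : ℕᵒᵖ, Coh.IsCoh (G.obj n))
    (hML : ∀ e : ℕ, ∃ (d : ℕ) (hd : e ≤ d), ∀ (d' : ℕ) (hd' : d ≤ d'),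
      imageSubobject (G.map (homOfLE (hd.trans hd')).op) = imageSubobject (G.map (homOfLE hd).op))
    (e : ℕ) : IsClosed (CohB1.support (image (limit.π G (op e)))) := by
  obtain ⟨d, hd, hdd⟩ := hML e
  let φ : G.obj (op d) ⟶ G.obj (op e) := G.map (homOfLE hd).op
  have himg : CohB1.support (image (limit.π G (op e))) = CohB1.support (Abelian.image φ) := by
    refine Set.ext fun x => ?_
    rw [mem_support_of_fac _ (factorThruImage _) (image.ι _) (image.fac _),
      mem_support_of_fac φ (Abelian.factorThruImage φ) (Abelian.image.ι φ) (Abelian.image.fac φ)]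
    constructor
    · rintro ⟨z, hz⟩
      refine ⟨stalkLin (limit.π G (op d)) x z, ?_⟩
      rw [← LinearMap.comp_apply, ← stalkLin_comp, limit.w]
      exact hz
    rintro ⟨z, hz⟩
    obtain ⟨W, hxW, w, rfl⟩ := TopCat.Presheaf.exists_germ_eq (G.obj (op d)).presheaf z
    obtain ⟨U, hU, hxU, hUW⟩ := exists_isAffineOpen_mem_and_subset (x := x) (U := W) hxW
    let p : ∀ {a b : ℕ}, a ≤ b → (G.obj (op b)).val.obj (op U) → (G.obj (op a)).val.obj (op U) :=
      fun h t => (G.map (homOfLE h).op).app U t
    have hp : ∀ {a b c : ℕ} (h : a ≤ b) (h' : b ≤ c) (t : (G.obj (op c)).val.obj (op U)),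
        p h (p h' t) = p (h.trans h') t := fun h h' t => by
      show (G.map (homOfLE h).op).app U ((G.map (homOfLE h').op).app U t) = _
      rw [← ConcreteCategory.comp_apply, ← Scheme.Modules.Hom.comp_app, ← G.map_comp]
      rfl
    let Stable : ∀ n : ℕ, (G.obj (op n)).val.obj (op U) → Prop := fun n t => ∀ (m : ℕ) (h : n ≤ m), ∃ s, p h s = t
    have hstab : ∀ {n N : ℕ} (hN : n ≤ N) (_ : ∀ (d' : ℕ) (hd' : N ≤ d'),
        imageSubobject (G.map (homOfLE (hN.trans hd')).op) = imageSubobject (G.map (homOfLE hN).op))
        (s : (G.obj (op N)).val.obj (op U)), Stable n (p hN s) := by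
      intro n N hN hE s m h
      obtain ⟨s', hs'⟩ := range_le (hG (op (max N m))) (hG (op n)) _ (G.map (homOfLE (hN.trans (le_max_left N m))).op)
        (hE _ (le_max_left N m)).symm hU s
      refine ⟨p (le_max_right N m) s', ?_⟩
      rw [hp]
      exact hs'
    have hsucc : ∀ (n : ℕ) (t : (G.obj (op n)).val.obj (op U)), Stable n t →
        ∃ u, Stable (n + 1) u ∧ p n.le_succ u = t := fun n t ht => by
      obtain ⟨N, hN, hE⟩ := hML (n + 1)
      obtain ⟨s, hs⟩ := ht N (n.le_succ.trans hN)
      exact ⟨p hN s, hstab hN hE s, by rw [hp]; exact hs⟩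
    choose step hstep hstep' using hsucc
    let t₀ : (G.obj (op e)).val.obj (op U) := p hd ((G.obj (op d)).presheaf.map (homOfLE hUW).op w)
    let seq : ∀ n : ℕ, {t : (G.obj (op (e + n))).val.obj (op U) // Stable (e + n) t} :=
      fun n => Nat.rec ⟨t₀, hstab hd hdd _⟩ (fun k t => ⟨step _ t.1 t.2, hstep _ t.1 t.2⟩) n
    have hseq : ∀ (a b : ℕ) (h : a ≤ b), p (Nat.add_le_add_left h e) (seq b).1 = (seq a).1 := by
      intro a b h
      induction h with
      | refl =>
        show (G.map (homOfLE (le_refl (e + a))).op).app U _ = _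
        rw [show (homOfLE (le_refl (e + a))).op = 𝟙 (op (e + a)) from Subsingleton.elim _ _, G.map_id]
        rfl
      | @step b h ih =>
        refine (hp (Nat.add_le_add_left h e) (Nat.le_succ (e + b)) (seq (b + 1)).1).symm.trans ?_
        rw [show p (Nat.le_succ (e + b)) (seq (b + 1)).1 = (seq b).1 from hstep' _ _ _]
        exact ih
    haveI : PreservesLimit G (SheafOfModules.evaluation.{u} X.ringCatSheaf (op U) : X.Modules ⥤ _) :=
      SheafOfModules.evaluationPreservesLimit (R := X.ringCatSheaf) G (op U)
    let E : X.Modules ⥤ Type u := (SheafOfModules.evaluation.{u} X.ringCatSheaf (op U) : X.Modules ⥤ _) ⋙ forget _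
    have hlim := isLimitOfPreserves E (limit.isLimit G)
    let T : ∀ n : ℕᵒᵖ, (G ⋙ E).obj n := fun n => p (Nat.le_add_left n.unop e) (seq n.unop).1
    have hT : T ∈ (G ⋙ E).sections := by
      intro a b h
      show p (leOfHom h.unop) (p (Nat.le_add_left a.unop e) (seq a.unop).1) = p (Nat.le_add_left b.unop e) (seq b.unop).1
      rw [hp, ← hseq b.unop a.unop (leOfHom h.unop), hp]
    obtain ⟨y, hy, -⟩ := (Types.isLimit_iff _).1 ⟨hlim⟩ T hT
    refine ⟨(limit G).presheaf.germ U x hxU y, ?_⟩
    have hyE : (limit.π G (op e)).app U y = t₀ := by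
      refine (hy (op e)).trans ?_
      show p (Nat.le_add_left e e) (seq e).1 = t₀
      exact hseq 0 e (Nat.zero_le e)
    rw [stalkLin_germ, hyE]
    intro h0
    refine hz ?_
    rw [← TopCat.Presheaf.germ_res_apply (G.obj (op d)).presheaf (homOfLE hUW) x hxU w, stalkLin_germ]
    exact h0
  rw [himg]
  haveI := K0Fam.isCoh_image φ (hG (op d)) (hG (op e))
  exact PullbackMod.isClosed_support_of_isFT (K0Fam.isCoh_image φ (hG (op d)) (hG (op e))).2


end Groth.Agent.S14354
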