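import Groth.Statements.S14355
import Mathlib

set_option autoImplicit false
universe v u
open CategoryTheory CategoryTheory.Limits
open SpSeqMor

namespace Groth.Agent.S14355

open CategoryTheory CategoryTheory.Limits AlgebraicGeometry

variable {C : Type u} [Category.{v} C] [Abelian C]

lemma homologyMap_eq_zero {ι : Type*} {c : ComplexShape ι} {K L : HomologicalComplex C c}
    (φ : K ⟶ L) (i : ι) (h : φ.f i = 0) : HomologicalComplex.homologyMap φ i = 0 := by
  have h1 : HomologicalComplex.cyclesMap φ i = 0 := by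
    rw [← cancel_mono (L.iCycles i), HomologicalComplex.cyclesMap_i, h, comp_zero, zero_comp]
  rw [← cancel_epi (K.homologyπ i), HomologicalComplex.homologyπ_naturality, h1, zero_comp,
    comp_zero]

lemma hom_f_eq_zero {E E' : E₂CohomologicalSpectralSequence C} (φ : E ⟶ E') (pq : ℤ × ℤ)
    (h : (φ.hom 2 le_rfl).f pq = 0) (r : ℤ) (hr : 2 ≤ r) : (φ.hom r hr).f pq = 0 := by
  induction r, hr using Int.le_induction with
  | base => exact h
  | succ r hr ih =>
    have hc := φ.comm r (r + 1) pq rfl hr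
    rw [homologyMap_eq_zero _ _ ih, zero_comp] at hc
    rw [← cancel_epi (E.iso r (r + 1) pq rfl hr).hom, ← hc, comp_zero]

lemma isZero_page {E : E₂CohomologicalSpectralSequence C} (pq : ℤ × ℤ)
    (h : IsZero ((E.page 2 le_rfl).X pq)) (r : ℤ) (hr : 2 ≤ r) : IsZero ((E.page r hr).X pq) :=
  (IsZero.iff_id_eq_zero _).2 (hom_f_eq_zero (𝟙 E) pq (h.eq_of_src _ _) r hr)

lemma fil_eq_succ {E : E₂CohomologicalSpectralSequence C} {H : ℤ → C} (a : SpSeq.Abutment E H)
    (n i q : ℤ) (hn : i + q = n) (h : IsZero ((E.page 2 le_rfl).X (i, q))) :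
    a.fil n (i + 1) = a.fil n i := by
  subst hn
  have hg := (isZero_page (i, q) h _ (a.stat (i, q)).1).of_iso (a.β (i, q)).symm
  have hle : a.fil (i + q) (i + 1) ≤ a.fil (i + q) i := a.anti _ (Int.le_add_one le_rfl)
  haveI : Epi ((a.fil (i + q) (i + 1)).ofLE _ hle) :=
    Preadditive.epi_of_isZero_cokernel _ hg
  haveI : IsIso ((a.fil (i + q) (i + 1)).ofLE _ hle) := isIso_of_mono_of_epi _
  exact le_antisymm hle (Subobject.le_of_comm (inv ((a.fil (i + q) (i + 1)).ofLE _ hle)) (by
    rw [IsIso.inv_comp_eq, Subobject.ofLE_arrow]))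

lemma lift_eq_zero {E E' : E₂CohomologicalSpectralSequence C} {φ : E ⟶ E'} {H H' : ℤ → C}
    {a : SpSeq.Abutment E H} {a' : SpSeq.Abutment E' H'} (f : SpSeqMor.AbutHom φ a a')
    (n i q : ℤ) (hn : i + q = n) (hbot : a'.fil n (i + 1) = ⊥)
    (hφ : (φ.hom 2 le_rfl).f (i, q) = 0) : (f.fil n).lift i = 0 := by
  subst hn
  set M := max (a.rk (i, q)) (a'.rk (i, q)) with hM
  have hkk : a.rk (i, q) + ((M - a.rk (i, q)).toNat : ℤ) =
      a'.rk (i, q) + ((M - a'.rk (i, q)).toNat : ℤ) := by omega
  have hc := f.comm (i, q) _ _ hkk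
  rw [hom_f_eq_zero φ (i, q) hφ] at hc
  simp only [zero_comp, comp_zero] at hc
  set L := a'.filObj (i + q) with hL
  have hz : L.stepLE (Int.le_add_one (le_refl i)) = 0 := by
    rw [← cancel_mono (L.fil i).arrow, Subobject.ofLE_arrow, zero_comp]
    have key : ∀ (S : Subobject L.obj), S = ⊥ → S.arrow = 0 := by
      rintro _ rfl; exact Subobject.bot_arrow
    exact key _ hbot
  haveI : IsIso (cokernel.π (L.stepLE (Int.le_add_one (le_refl i)))) :=
    ⟨cokernel.desc _ (𝟙 _) (by simp [hz]), by simp, by ext; simp⟩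
  rw [← cancel_mono (cokernel.π (L.stepLE (Int.le_add_one (le_refl i)))), zero_comp]
  have hgr : (f.fil (i + q)).gr i = 0 :=
    (cancel_epi (a.β (i, q)).hom).1 (hc.trans comp_zero.symm)
  have h := congrArg (cokernel.π ((a.filObj (i + q)).stepLE (Int.le_add_one (le_refl i))) ≫ ·) hgr
  simp only [SpSeqMor.FilLift.gr, cokernel.map, cokernel.π_desc, comp_zero] at h
  exact (cokernel.π_desc _ _ _).symm.trans (h.trans comp_zero)
/-- Let φ : E ⟶ E' be a morphism of E_2-cohomological spectral sequences in an abelian category, with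
abutments H and H' whose filtrations are finite in each degree, and f a morphism of abutment data
over φ. Fix integers l and a₀. If E_2^{i, l-i} = 0 for i < a₀, E'_2^{i, l-i} = 0 for i > a₀ and
φ_2^{a₀, l-a₀} = 0, then f^l : H^l ⟶ H'^l is zero. (The published statement prints the two vanishing
hypotheses at positions (i, l); the argument works on the line of total degree l, at positions (i, l
- i), which is the form stated here.) -/
theorem result (C : Type u) [Category.{v} C] [Abelian C]
    (E E' : E₂CohomologicalSpectralSequence C) (φ : E ⟶ E') (H H' : ℤ → C)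
    (a : SpSeq.Abutment E H) (a' : SpSeq.Abutment E' H')
    (ha : ∀ n : ℤ, a.IsFinite n) (ha' : ∀ n : ℤ, a'.IsFinite n)
    (f : SpSeqMor.AbutHom φ a a') (l a₀ : ℤ)
    (hE : ∀ i : ℤ, i < a₀ → IsZero ((E.page 2 le_rfl).X (i, l - i)))
    (hE' : ∀ i : ℤ, a₀ < i → IsZero ((E'.page 2 le_rfl).X (i, l - i)))
    (hφ : (φ.hom 2 le_rfl).f (a₀, l - a₀) = 0) :
    f.hom l = 0 := by
  obtain ⟨⟨c, hc⟩, -⟩ := ha l
  obtain ⟨-, ⟨d, hd⟩⟩ := ha' l
  change a.fil l c = ⊤ at hc
  change a'.fil l d = ⊥ at hd
  have htop : a.fil l a₀ = ⊤ := by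
    rcases le_or_gt a₀ c with h | h
    · exact top_le_iff.1 (hc ▸ a.anti l h)
    · have key : ∀ j : ℤ, c ≤ j → j ≤ a₀ → a.fil l j = ⊤ := by
        intro j hj
        induction j, hj using Int.le_induction with
        | base => exact fun _ => hc
        | succ j hj ih =>
          intro hja
          rw [fil_eq_succ a l j (l - j) (add_sub_cancel _ _) (hE j (by omega)), ih (by omega)]
      exact key a₀ h.le le_rfl
  have hbot : a'.fil l (a₀ + 1) = ⊥ := by
    rcases le_or_gt d (a₀ + 1) with h | h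
    · exact le_bot_iff.1 (hd ▸ a'.anti l h)
    · have key : ∀ j : ℤ, a₀ + 1 ≤ j → a'.fil l (a₀ + 1) = a'.fil l j := by
        intro j hj
        induction j, hj using Int.le_induction with
        | base => rfl
        | succ j hj ih =>
          rw [ih, fil_eq_succ a' l j (l - j) (add_sub_cancel _ _) (hE' j (by omega))]
      rw [key d h.le, hd]
  have hlift := lift_eq_zero f l a₀ (l - a₀) (add_sub_cancel _ _) hbot hφ
  have h := (f.fil l).lift_arrow a₀
  rw [hlift, zero_comp] at h
  haveI : IsIso ((a.filObj l).fil a₀).arrow := Subobject.isIso_arrow_iff_eq_top _ |>.2 htop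
  exact (cancel_epi ((a.filObj l).fil a₀).arrow).1 (h.symm.trans comp_zero.symm)


end Groth.Agent.S14355
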