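import Groth.Statements.S14357
import Groth.Agent.CompleteCurve.ProjSpace
import Groth.Agent.REqLib.P1Line
import Mathlib

set_option autoImplicit false
universe u
open AlgebraicGeometry
open Proj

namespace Groth.Agent.S14357

set_option backward.isDefEq.respectTransparency false

/-- For a field k the projective line over k is not an affine scheme. (The projective line is taken here
as Proj of the polynomial ring in two variables over k with its standard grading; the book builds it
by gluing two affine lines and identifies the two constructions later.) -/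
theorem result (k : Type u) [Field k] :
    ¬ IsAffine (CohB1.ProjSpace 1 k) := by
  intro hA
  haveI : IsIntegral (CohB1.ProjSpace 1 k) := Groth.Agent.REqLib.isIntegral_proj_domain 1 k
  haveI : IsProper (CohB1.ProjSpace.toSpec 1 k) := inferInstance
  have hF := isField_of_universallyClosed (K := k) (CohB1.ProjSpace.toSpec 1 k)
  letI := hF.toField
  haveI : Subsingleton (CohB1.ProjSpace 1 k) :=
    haveI : Subsingleton (Spec Γ(CohB1.ProjSpace 1 k, ⊤)) :=
      inferInstanceAs (Subsingleton (PrimeSpectrum Γ(CohB1.ProjSpace 1 k, ⊤)))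
    (CohB1.ProjSpace 1 k).isoSpec.hom.homeomorph.injective.subsingleton
  let 𝒜 := CohB1.polyGrading 1 k
  have hirr : (HomogeneousIdeal.irrelevant 𝒜).toIdeal ≠ ⊥ := fun h => by
    have h1 : (MvPolynomial.X 0 : MvPolynomial (Fin 2) k) ∈ (HomogeneousIdeal.irrelevant 𝒜).toIdeal :=
      HomogeneousIdeal.mem_irrelevant_of_mem _ one_pos (MvPolynomial.isHomogeneous_X k 0)
    rw [h, Ideal.mem_bot] at h1
    exact MvPolynomial.X_ne_zero _ h1
  let P0 : ProjectiveSpectrum 𝒜 := ⟨⊥, Ideal.isPrime_bot, fun h => hirr (le_bot_iff.1 h)⟩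
  have hX0 : Ideal.IsHomogeneous 𝒜 (Ideal.span {(MvPolynomial.X 0 : MvPolynomial (Fin 2) k)}) :=
    Ideal.homogeneous_span _ _ (by rintro x rfl; exact ⟨1, MvPolynomial.isHomogeneous_X k 0⟩)
  let P1 : ProjectiveSpectrum 𝒜 := ⟨⟨_, hX0⟩,
    (Ideal.span_singleton_prime (MvPolynomial.X_ne_zero _)).2 (MvPolynomial.X_prime (i := (0 : Fin 2))), fun h => by
    have h1 : (MvPolynomial.X 1 : MvPolynomial (Fin 2) k) ∈ Ideal.span {(MvPolynomial.X 0 : MvPolynomial (Fin 2) k)} :=
      h (HomogeneousIdeal.mem_irrelevant_of_mem _ one_pos (MvPolynomial.isHomogeneous_X k 1))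
    obtain ⟨c, hc⟩ := Ideal.mem_span_singleton.1 h1
    have := congrArg (MvPolynomial.eval (fun i : Fin 2 => if i = 0 then (0 : k) else 1)) hc
    simp at this⟩
  have hne : P0 ≠ P1 := fun h => by
    have h1 : (MvPolynomial.X 0 : MvPolynomial (Fin 2) k) ∈ P0.asHomogeneousIdeal := by
      rw [h]; exact Ideal.mem_span_singleton_self _
    have h2 : (MvPolynomial.X 0 : MvPolynomial (Fin 2) k) ∈ (⊥ : Ideal (MvPolynomial (Fin 2) k)) := h1
    exact MvPolynomial.X_ne_zero _ (Ideal.mem_bot.1 h2)
  exact hne (Subsingleton.elim (α := CohB1.ProjSpace 1 k) P0 P1)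

end Groth.Agent.S14357
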