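import Groth.Statements.S14358
import Mathlib

set_option autoImplicit false
universe u
open CAlg

namespace Groth.Agent.S14358

/-- Let A be a Noetherian integral domain with fraction field K and let r ∈ K. Then r belongs to A if
and only if, for every nonzero g ∈ A and every associated prime p of the A-module A/(g), the element
r belongs to the local ring A_p inside K, i.e. s r = a in K for some a ∈ A and some s ∈ A outside p. -/
theorem result (A K : Type u)
    [CommRing A] [IsDomain A] [IsNoetherianRing A] [Field K] [Algebra A K] [IsFractionRing A K]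
    (r : K) :
    r ∈ Set.range (algebraMap A K) ↔
      ∀ g : A, g ≠ 0 → ∀ p ∈ associatedPrimes A (A ⧸ Ideal.span {g}),
        ∃ a s : A, s ∉ p ∧ algebraMap A K s * r = algebraMap A K a := by
  constructor
  · rintro ⟨a, rfl⟩ g _ p hp
    exact ⟨a, 1, fun h => hp.1.ne_top ((Ideal.eq_top_iff_one _).mpr h), by rw [map_one, one_mul]⟩
  · intro h
    obtain ⟨a, g, hg, rfl⟩ := IsFractionRing.div_surjective A r
    have hg0 : g ≠ 0 := nonZeroDivisors.ne_zero hg
    have hgK : algebraMap A K g ≠ 0 := fun e => hg0 (IsFractionRing.injective A K (by rw [e, map_zero]))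
    by_cases ha : a ∈ Ideal.span ({g} : Set A)
    · obtain ⟨c, rfl⟩ := Ideal.mem_span_singleton'.mp ha
      exact ⟨c, by rw [map_mul, mul_div_assoc, div_self hgK, mul_one]⟩
    obtain ⟨p, hp, hle⟩ := exists_le_isAssociatedPrime_of_isNoetherianRing A (Ideal.Quotient.mk (Ideal.span ({g} : Set A)) a)
      (fun e => ha (Ideal.Quotient.eq_zero_iff_mem.mp e))
    obtain ⟨c, s, hs, hsc⟩ := h g hg0 p hp
    refine absurd (hle ?_) hs
    rw [Submodule.mem_colon_singleton, Submodule.mem_bot, Algebra.smul_def, Ideal.Quotient.algebraMap_eq, ← map_mul, Ideal.Quotient.eq_zero_iff_mem]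
    refine Ideal.mem_span_singleton'.mpr ⟨c, IsFractionRing.injective A K ?_⟩
    rw [map_mul, map_mul, ← hsc, mul_assoc, div_mul_cancel₀ _ hgK]

end Groth.Agent.S14358
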