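import Groth.Statements.S14360
import Mathlib

set_option autoImplicit false
universe u
open AlgebraicGeometry
open Variety

namespace Groth.Agent.S14360

open CategoryTheory CategoryTheory.Limits AlgebraicGeometry

theorem homOfLE_isoImage {X : Scheme.{u}} (U : X.Opens) (V : U.toScheme.Opens) {W : X.Opens}
    (h : W ≤ U.ι ''ᵁ V) (h' : W ≤ U) :
    X.homOfLE h ≫ (U.ι.isoImage V).inv ≫ V.ι = X.homOfLE h' := by
  rw [Scheme.Opens.isoImage_ι_inv_ι, Scheme.homOfLE_homOfLE]

/-- The composite of partial maps is the identity on an open set. -/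
theorem exists_retraction {X Y : Scheme.{u}} [IsIntegral X] [IsIntegral Y]
    (f : X.PartialMap Y) [IsDominant f.hom] (g : Y.PartialMap X)
    (h : (f.comp g).equiv (Scheme.PartialMap.id X)) :
    ∃ (W : X.Opens) (hW : Dense (W : Set X)) (hWU : W ≤ f.domain) (b : W.toScheme ⟶ g.domain.toScheme),
      b ≫ g.domain.ι = X.homOfLE hWU ≫ f.hom ∧ b ≫ g.hom = W.ι := by
  obtain ⟨W, hW, hWl, hWr, e⟩ := h
  refine ⟨W, hW, hWl.trans (f.domain.ι_image_le _),
    X.homOfLE hWl ≫ (f.domain.ι.isoImage _).inv ≫ f.hom ∣_ g.domain, ?_, ?_⟩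
  · rw [Category.assoc, Category.assoc, morphismRestrict_ι, ← Category.assoc, ← Category.assoc]
    congr 1
    rw [Category.assoc]
    exact homOfLE_isoImage _ _ _ _
  · simp only [Scheme.PartialMap.restrict_hom, Scheme.PartialMap.comp_hom] at e
    rw [Category.assoc, Category.assoc]
    refine e.trans ?_
    simp only [Scheme.Hom.toPartialMap_hom, Category.comp_id, Scheme.topIso_hom]
    exact X.homOfLE_ι hWr

/-- The opens on which the two composites are the identity are matched. -/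
theorem exists_hom {X Y : Scheme.{u}} (f : X.PartialMap Y) (g : Y.PartialMap X)
    (W : X.Opens) (hWU : W ≤ f.domain) (b : W.toScheme ⟶ g.domain.toScheme)
    (hb : b ≫ g.domain.ι = X.homOfLE hWU ≫ f.hom) (hbg : b ≫ g.hom = W.ι)
    (W' : Y.Opens) (hWV : W' ≤ g.domain) :
    ∃ α : (W ⊓ f.domain.ι ''ᵁ f.hom ⁻¹ᵁ W').toScheme ⟶ (W' ⊓ g.domain.ι ''ᵁ g.hom ⁻¹ᵁ W).toScheme,
      α ≫ (W' ⊓ g.domain.ι ''ᵁ g.hom ⁻¹ᵁ W).ι = X.homOfLE inf_le_left ≫ b ≫ g.domain.ι := by
  have hrange : Set.range (X.homOfLE (inf_le_left : W ⊓ f.domain.ι ''ᵁ f.hom ⁻¹ᵁ W' ≤ W) ≫ b ≫ g.domain.ι).base ⊆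
      Set.range (W' ⊓ g.domain.ι ''ᵁ g.hom ⁻¹ᵁ W).ι.base := by
    rintro _ ⟨z, rfl⟩
    rw [Scheme.Opens.range_ι]
    refine ⟨?_, ?_⟩
    · obtain ⟨u, hu, huz⟩ := z.2.2
      show (X.homOfLE inf_le_left ≫ b ≫ g.domain.ι) z ∈ W'
      rw [hb, ← Category.assoc, Scheme.homOfLE_homOfLE, Scheme.Hom.comp_apply]
      have : X.homOfLE ((inf_le_left : W ⊓ f.domain.ι ''ᵁ f.hom ⁻¹ᵁ W' ≤ W).trans hWU) z = u :=
        Subtype.ext ((Scheme.homOfLE_apply _ z).trans huz.symm)
      rw [this]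
      exact hu
    · refine ⟨(X.homOfLE inf_le_left ≫ b) z, ?_, ?_⟩
      · show g.hom ((X.homOfLE inf_le_left ≫ b) z) ∈ W
        rw [← Scheme.Hom.comp_apply, Category.assoc, hbg, Scheme.homOfLE_ι]
        exact z.2.1
      · rw [← Category.assoc]; rfl
  exact ⟨IsOpenImmersion.lift _ _ hrange, IsOpenImmersion.lift_fac _ _ hrange⟩

theorem hom_inv {X Y : Scheme.{u}} (g : Y.PartialMap X) (U W : X.Opens) (hU : U ≤ W) (V W' : Y.Opens)
    (hV : V ≤ W') (hWV : W' ≤ g.domain) (b : W.toScheme ⟶ g.domain.toScheme)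
    (hbg : b ≫ g.hom = W.ι) (b' : W'.toScheme ⟶ Y) {D : X.Opens} (c : W'.toScheme ⟶ D.toScheme)
    (hc : c ≫ D.ι = Y.homOfLE hWV ≫ g.hom)
    (α : U.toScheme ⟶ V.toScheme) (hα : α ≫ V.ι = X.homOfLE hU ≫ b ≫ g.domain.ι)
    (β : V.toScheme ⟶ U.toScheme) (hβ : β ≫ U.ι = Y.homOfLE hV ≫ c ≫ D.ι) :
    α ≫ β = 𝟙 _ := by
  have h1 : α ≫ Y.homOfLE (hV.trans hWV) = X.homOfLE hU ≫ b := by
    rw [← cancel_mono g.domain.ι, Category.assoc, Category.assoc, Scheme.homOfLE_ι, hα]
  rw [← cancel_mono U.ι, Category.assoc, hβ, hc, Category.id_comp, Scheme.homOfLE_homOfLE_assoc,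
    reassoc_of% h1, hbg, Scheme.homOfLE_ι]


/-- Let X and Y be integral schemes. Then X and Y have isomorphic dense open subschemes if and only if
they are birational in the sense of rational maps, i.e. there exist dominant rational maps f : X ⤏ Y
and g : Y ⤏ X such that the composites g ∘ f and f ∘ g are the identity rational maps of X and of Y. -/
theorem result (X Y : Scheme.{u})
    [IsIntegral X] [IsIntegral Y] :
    Scheme.Birational X Y ↔
      ∃ (f : X ⤏ Y) (g : Y ⤏ X) (_ : f.IsDominant) (_ : g.IsDominant),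
        f.comp g = Scheme.RationalMap.id X ∧ g.comp f = Scheme.RationalMap.id Y := by
  constructor
  · rintro ⟨e⟩
    let pf : X.PartialMap Y := ⟨e.source, e.dense_source, e.iso.hom ≫ e.target.ι⟩
    let pg : Y.PartialMap X := ⟨e.target, e.dense_target, e.iso.inv ≫ e.source.ι⟩
    haveI := Opens.isDominant_ι e.dense_target
    haveI := Opens.isDominant_ι e.dense_source
    haveI : IsDominant pf.hom := inferInstanceAs (IsDominant (e.iso.hom ≫ e.target.ι))
    haveI : IsDominant pg.hom := inferInstanceAs (IsDominant (e.iso.inv ≫ e.source.ι))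
    refine ⟨pf.toRationalMap, pg.toRationalMap, inferInstance, inferInstance, ?_, ?_⟩
    · rw [Scheme.RationalMap.toRationalMap_comp]
      refine Scheme.PartialMap.toRationalMap_eq_iff.2 ⟨_, (pf.comp pg).dense_domain, le_rfl, le_top, ?_⟩
      have h : pf.hom ∣_ e.target = (pf.hom ⁻¹ᵁ e.target).ι ≫ e.iso.hom := by
        rw [← cancel_mono e.target.ι, morphismRestrict_ι, Category.assoc]
      simp only [Scheme.PartialMap.restrict_hom, Scheme.PartialMap.comp_hom]
      rw [show pf.hom ∣_ pg.domain = _ from h]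
      simp [pf, pg, -Scheme.Hom.isoImage_inv_ι]
      exact (X.homOfLE_ι _).symm
    · rw [Scheme.RationalMap.toRationalMap_comp]
      refine Scheme.PartialMap.toRationalMap_eq_iff.2 ⟨_, (pg.comp pf).dense_domain, le_rfl, le_top, ?_⟩
      have h : pg.hom ∣_ e.source = (pg.hom ⁻¹ᵁ e.source).ι ≫ e.iso.inv := by
        rw [← cancel_mono e.source.ι, morphismRestrict_ι, Category.assoc]
      simp only [Scheme.PartialMap.restrict_hom, Scheme.PartialMap.comp_hom]
      rw [show pg.hom ∣_ pf.domain = _ from h]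
      simp [pf, pg, -Scheme.Hom.isoImage_inv_ι]
      exact (Y.homOfLE_ι _).symm
  · rintro ⟨f, g, hf, hg, hfg, hgf⟩
    obtain ⟨pf, rfl⟩ := f.exists_rep
    obtain ⟨pg, rfl⟩ := g.exists_rep
    haveI : IsDominant pf.hom := (Scheme.PartialMap.isDominant_toRationalMap_iff pf).1 hf
    haveI : IsDominant pg.hom := (Scheme.PartialMap.isDominant_toRationalMap_iff pg).1 hg
    rw [Scheme.RationalMap.toRationalMap_comp] at hfg hgf
    obtain ⟨W, hW, hWU, b, hb, hbg⟩ := exists_retraction pf pg (Scheme.PartialMap.toRationalMap_eq_iff.1 hfg)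
    obtain ⟨W', hW', hWV, c, hc, hcf⟩ := exists_retraction pg pf (Scheme.PartialMap.toRationalMap_eq_iff.1 hgf)
    obtain ⟨α, hα⟩ := exists_hom pf pg W hWU b hb hbg W' hWV
    obtain ⟨β, hβ⟩ := exists_hom pg pf W' hWV c hc hcf W hWU
    have hne : ∀ {A B : Scheme.{u}} [IsIntegral A] [IsIntegral B] (p : A.PartialMap B) [IsDominant p.hom]
        (P : A.Opens) (Q : B.Opens), Dense (P : Set A) → Dense (Q : Set B) →
        Dense ((P ⊓ p.domain.ι ''ᵁ p.hom ⁻¹ᵁ Q : A.Opens) : Set A) := by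
      intro A B _ _ p _ P Q hP hQ
      refine hP.inter_of_isOpen_left ?_ P.isOpen
      refine (p.domain.ι ''ᵁ p.hom ⁻¹ᵁ Q).2.dense ?_
      simpa [← Set.nonempty_preimage_iff] using p.hom.denseRange.inter_open_nonempty _ Q.2 hQ.nonempty
    exact ⟨{ source := W ⊓ pf.domain.ι ''ᵁ pf.hom ⁻¹ᵁ W'
             dense_source := hne pf W W' hW hW'
             target := W' ⊓ pg.domain.ι ''ᵁ pg.hom ⁻¹ᵁ W
             dense_target := hne pg W' W hW' hW
             iso := ⟨α, β, hom_inv pg _ W inf_le_left _ W' inf_le_left hWV b hbg (W'.ι) c hc α hα β hβ,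
               hom_inv pf _ W' inf_le_left _ W inf_le_left hWU c hcf (W.ι) b hb β hβ α hα⟩ }⟩

end Groth.Agent.S14360
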