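import Groth.Statements.S14363
import Mathlib

set_option autoImplicit false
universe u
open CAlg

namespace Groth.Agent.S14363

/-- Let A be a Noetherian ring and 0 → M' → M → M'' → 0 a short exact sequence of A-modules. If a prime
p of A is an associated prime of M'' and is not in the support of M', then p is an associated prime
of M. -/
theorem result (A : Type u) [CommRing A] [IsNoetherianRing A]
    (M' M M'' : Type u) [AddCommGroup M'] [Module A M'] [AddCommGroup M] [Module A M]
    [AddCommGroup M''] [Module A M'']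
    (f : M' →ₗ[A] M) (g : M →ₗ[A] M'') (hf : Function.Injective f) (hg : Function.Surjective g)
    (hfg : Function.Exact f g)
    (p : PrimeSpectrum A) (hp : p.asIdeal ∈ associatedPrimes A M'') (hsupp : p ∉ Module.support A M') :
    p.asIdeal ∈ associatedPrimes A M := by
  classical
  obtain ⟨hpp, x, hx⟩ := isAssociatedPrime_iff.mp hp
  obtain ⟨m, rfl⟩ := hg x
  have hmem : ∀ r, r ∈ p.asIdeal ↔ r • g m = 0 := fun r => by
    rw [hx, Submodule.mem_colon_singleton, Submodule.mem_bot]
  rw [Module.notMem_support_iff'] at hsupp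
  obtain ⟨S, hS⟩ := p.asIdeal.fg_of_isNoetherianRing
  have hex : ∀ a ∈ S, ∃ s ∉ p.asIdeal, s • a • m = 0 := by
    intro a ha
    obtain ⟨m', hm'⟩ := (hfg (a • m)).mp (by rw [map_smul]; exact (hmem a).mp (hS ▸ Submodule.subset_span ha))
    obtain ⟨s, hs, hs0⟩ := hsupp m'
    exact ⟨s, hs, by rw [← hm', ← map_smul, hs0, map_zero]⟩
  choose! s hs hs0 using hex
  let t := ∏ a ∈ S, s a
  have ht : t ∉ p.asIdeal := fun e => by
    obtain ⟨a, ha, hap⟩ := p.isPrime.prod_mem_iff.mp e
    exact hs a ha hap
  refine isAssociatedPrime_iff.mpr ⟨p.isPrime, t • m, le_antisymm ?_ ?_⟩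
  · rw [← hS, Submodule.span_le]
    intro a ha
    rw [SetLike.mem_coe, Submodule.mem_colon_singleton, Submodule.mem_bot, smul_comm,
      show t = (∏ u ∈ S.erase a, s u) * s a from (Finset.prod_erase_mul S s ha).symm, mul_smul, hs0 a ha, smul_zero]
  · intro r hr
    rw [Submodule.mem_colon_singleton, Submodule.mem_bot, ← mul_smul] at hr
    exact (p.isPrime.mem_or_mem ((hmem _).mpr (by rw [← map_smul, hr, map_zero]))).resolve_right ht

end Groth.Agent.S14363
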