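import Groth.Statements.S14366
import Groth.Agent.TwistShriek.RGammaFunc
-- import your own Groth.Agent.* helpers here

set_option autoImplicit false
set_option backward.isDefEq.respectTransparency false
set_option maxHeartbeats 800000
set_option synthInstance.maxHeartbeats 200000
universe u
open CategoryTheory CategoryTheory.Limits AlgebraicGeometry
open Groth.Agent
attribute [local instance] HasDerivedCategory.standard
open CxOX

namespace Groth.Agent.S14366

/-- Let j : X ⟶ X̄ be an open immersion of Noetherian schemes, U ⊆ X an open subscheme with closed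
complement Z, U' ⊆ X̄ the open complement of the closure Z̄ of j(Z) in X̄, and T = U' ∪ j(X), the
open complement of the closed subset Z̄ ∖ j(X). Let Rj_* exist and preserve complexes with
quasi-coherent cohomology, and let an adjunction j^* ⊣ Rj_* between D(O_X̄) and D(O_X) be given.
Then Rj_* and j^* are inverse equivalences between the objects of D_qc(O_X) whose cohomology sheaves
are supported on Z and the objects of D_qc(O_X̄) whose cohomology sheaves are supported on Z̄ and on
which RΓ_{Z̄ ∖ j(X)} vanishes: for F in the first class, Rj_* F has cohomology supported on Z̄ and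
RΓ_{Z̄ ∖ j(X)}(Rj_* F) is zero; the counit j^* Rj_* F ⟶ F is an isomorphism for every F; and for G
in the second class the unit G ⟶ Rj_* j^* G is an isomorphism and j^* G is in the first class.
(Throughout, RΓ with support is the total right derived functor of the sheaf of sections supported
in the closed subset. The published statement derives instead the functor of sections killed by some
power of a defining ideal; on complexes with quasi-coherent cohomology sheaves over a Noetherian
scheme the two derived functors agree.) -/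
theorem result {X Xbar : Scheme.{u}} [IsNoetherian Xbar] [IsNoetherian X]
    (j : X ⟶ Xbar) [IsOpenImmersion j] (U : X.Opens) (U' T : Xbar.Opens)
    (hU' : (U' : Set Xbar) = (closure (j.base '' ((U : Set X)ᶜ)))ᶜ)
    (hT : (T : Set Xbar) = (U' : Set Xbar) ∪ Set.range j.base)
    [DCoh.HasRpush j] [CxOX.HasRgammaZ T.ι] (hj : DCoh.RpushPreservesQCoh j)
    (adj : DCoh.restrictD j ⊣ DCoh.Rpush j) :
    (∀ F : DCoh.D X, DCoh.IsQCohD F → CxOX.IsSuppD U.ι F →
        CxOX.IsSuppD U'.ι ((DCoh.Rpush j).obj F) ∧ IsZero ((CxOX.RgammaZ T.ι).obj ((DCoh.Rpush j).obj F))) ∧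
    (∀ F : DCoh.D X, IsIso (adj.counit.app F)) ∧
    (∀ G : DCoh.D Xbar, DCoh.IsQCohD G → CxOX.IsSuppD U'.ι G → IsZero ((CxOX.RgammaZ T.ι).obj G) →
        IsIso (adj.unit.app G) ∧ DCoh.IsQCohD ((DCoh.restrictD j).obj G) ∧ CxOX.IsSuppD U.ι ((DCoh.restrictD j).obj G)) := by
    haveI : IsIso adj.counit := adj.isIso_counit_of_iso (TwistShriek.nonempty_rpush_restrictD j).some
    haveI : DCoh.HasLpull j := DCohLib.hasLpull _
    have hsub : j ⁻¹ᵁ U' ≤ U := fun x hx => by
      by_contra h
      have hx' : j.base x ∈ (U' : Set Xbar) := hx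
      rw [hU'] at hx'
      exact hx' (subset_closure ⟨x, h, rfl⟩)
    have hjT : j.opensRange ≤ T := fun x hx => by
      show x ∈ (T : Set Xbar)
      rw [hT]
      exact Or.inr hx
    have hcov : ∀ C : DCoh.D Xbar, IsZero ((DCoh.restrictD j).obj C) → IsZero ((DCoh.restrictD U'.ι).obj C) →
        IsZero ((DCoh.restrictD T.ι).obj C) := fun C h₁ h₂ =>
      TwistShriek.isZero_restrictD_of_cover T C fun x hx => by
        have hx' : x ∈ (T : Set Xbar) := hx
        rw [hT] at hx'
        rcases hx' with h | h
        · exact ⟨U', h, h₂⟩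
        · exact ⟨j.opensRange, h, TwistShriek.isZero_restrictD_opensRange j h₁⟩
    have hres : ∀ (C : DCoh.D Xbar), IsZero ((DCoh.restrictD T.ι).obj C) → IsZero ((DCoh.restrictD j).obj C) :=
      fun C h => ((DCoh.restrictD j.isoOpensRange.hom).map_isZero (TwistShriek.isZero_restrictD_mono hjT h)).of_iso
        ((DCohLib.restrictDCongr j.isoOpensRange_hom_ι.symm).app C ≪≫ (DCohLib.restrictDComp _ j.opensRange.ι).app C)
    refine ⟨fun F _ hF => ?_, fun F => inferInstance, fun G hG hGs hGT => ?_⟩
    · have hz : IsZero ((DCoh.restrictD U'.ι).obj ((DCoh.Rpush j).obj F)) :=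
        TwistShriek.isZero_restrictD_rpush j U' F
          (TwistShriek.isZero_restrictD_mono hsub ((TwistShriek.isSuppD_iff U F).1 hF))
      refine ⟨(TwistShriek.isSuppD_iff U' _).2 hz, ?_⟩
      obtain ⟨h₀, hb⟩ := TwistShriek.rgammaZ_props T ((DCoh.Rpush j).obj F)
      refine (IsZero.iff_id_eq_zero _).2 ((hb _ h₀).1 ?_)
      exact (adj.homEquiv _ F).symm.injective ((hres _ h₀).eq_of_src _ _)
    · have hG0 : IsZero ((DCoh.restrictD U'.ι).obj G) := (TwistShriek.isSuppD_iff U' G).1 hGs
      have hjG : IsZero ((DCoh.restrictD (j ⁻¹ᵁ U').ι).obj ((DCoh.restrictD j).obj G)) :=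
        ((DCoh.restrictD (j ∣_ U')).map_isZero hG0).of_iso
          (((DCohLib.restrictDComp (j ⁻¹ᵁ U').ι j).app G).symm ≪≫
            (DCohLib.restrictDCongr (morphismRestrict_ι j U').symm).app G ≪≫
            (DCohLib.restrictDComp (j ∣_ U') U'.ι).app G)
      refine ⟨?_, TildeD.isQCohD_restrict j G hG, (TwistShriek.isSuppD_iff U _).2
        (TwistShriek.isZero_restrictD_of_cover U _ fun x hx => ⟨j ⁻¹ᵁ U', ?_, hjG⟩)⟩
      swap
      · show j.base x ∈ (U' : Set Xbar)
        rw [hU']
        intro h
        have h2 : x ∈ closure ((U : Set X)ᶜ) := by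
          rw [j.isOpenEmbedding.isInducing.closure_eq_preimage_closure_image]
          exact h
        rw [U.isOpen.isClosed_compl.closure_eq] at h2
        exact h2 hx
      obtain ⟨C, p, q, hT'⟩ := CategoryTheory.Pretriangulated.distinguished_cocone_triangle (adj.unit.app G)
      have hj' : IsZero ((DCoh.restrictD j).obj C) := by
        haveI : IsIso ((DCoh.restrictD j).map (adj.unit.app G)) := by
          haveI : IsIso ((DCoh.restrictD j).map (adj.unit.app G) ≫ adj.counit.app ((DCoh.restrictD j).obj G)) := by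
            erw [adj.left_triangle_components]; exact IsIso.id _
          exact IsIso.of_isIso_comp_right _ (adj.counit.app ((DCoh.restrictD j).obj G))
        exact (Pretriangulated.Triangle.isZero₃_iff_isIso₁ _ ((DCoh.restrictD j).map_distinguished _ hT')).2 this
      have hU'C : IsZero ((DCoh.restrictD U'.ι).obj C) :=
        (Pretriangulated.Triangle.isZero₃_iff_isIso₁ _ ((DCoh.restrictD U'.ι).map_distinguished _ hT')).2
          ⟨0, hG0.eq_of_src _ _, (TwistShriek.isZero_restrictD_rpush j U' _ hjG).eq_of_src _ _⟩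
      have hC := hcov C hj' hU'C
      have hq : q = 0 := by
        apply (shiftFunctor (DCoh.D Xbar) (-1 : ℤ)).map_injective
        rw [Functor.map_zero, ← cancel_mono ((shiftEquiv (DCoh.D Xbar) (1 : ℤ)).unitIso.inv.app G), zero_comp]
        obtain ⟨-, hb⟩ := TwistShriek.rgammaZ_props T G
        obtain ⟨φ, hφ⟩ := (hb ((shiftFunctor (DCoh.D Xbar) (-1 : ℤ)).obj C)
          (((shiftFunctor _ (-1 : ℤ)).map_isZero hC).of_iso (((DCoh.restrictD T.ι).commShiftIso (-1 : ℤ)).app C))).2
          ((shiftFunctor (DCoh.D Xbar) (-1 : ℤ)).map q ≫ (shiftEquiv (DCoh.D Xbar) (1 : ℤ)).unitIso.inv.app G)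
        rw [← hφ, hGT.eq_of_tgt φ 0]
        exact zero_comp
      refine (Pretriangulated.Triangle.isZero₃_iff_isIso₁ _ hT').1 ?_
      obtain ⟨ψ, hψ⟩ := Pretriangulated.Triangle.coyoneda_exact₃ _ hT' (𝟙 C)
        (show 𝟙 C ≫ q = 0 by rw [hq, comp_zero])
      have h0 : ψ = 0 := (adj.homEquiv _ _).symm.injective (hj'.eq_of_src _ _)
      refine (IsZero.iff_id_eq_zero _).2 ?_
      show 𝟙 C = 0
      rw [show 𝟙 C = ψ ≫ p from hψ, h0, zero_comp]

end Groth.Agent.S14366
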