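import Groth.Statements.S14368
import Groth.Agent.TwistShriek.RGammaFunc
-- import your own Groth.Agent.* helpers here

set_option autoImplicit false
set_option backward.isDefEq.respectTransparency false
set_option maxHeartbeats 800000
set_option synthInstance.maxHeartbeats 200000
universe u
open CategoryTheory CategoryTheory.Limits AlgebraicGeometry
open Groth.Agent
attribute [local instance] HasDerivedCategory.standard
open CxOX

namespace Groth.Agent.S14368

/-- Let j : X ⟶ X̄ be an open immersion of Noetherian schemes and W ⊆ X̄ an open subscheme whose closed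
complement Z̄ = X̄ ∖ W is contained in j(X) (so Z̄ = j(Z) for the closed subset Z = X ∖ j⁻¹(W) of X:
this is the situation of a closed subset of X whose image in X̄ is still closed). Let Rj_* exist and
preserve complexes with quasi-coherent cohomology, and let an adjunction j^* ⊣ Rj_* on derived
categories be given. Then for every G in D(O_X̄) with quasi-coherent cohomology sheaves the unit
RΓ_{Z̄}(G) ⟶ Rj_* j^* RΓ_{Z̄}(G) is an isomorphism; composed with Rj_* of the isomorphism j^*
RΓ_{Z̄} ≅ RΓ_Z j^* it gives the isomorphism ε : RΓ_{Z̄} ≅ Rj_* RΓ_Z j^*. (Throughout, RΓ with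
support is the total right derived functor of the sheaf of sections supported in the closed subset.
The published statement derives instead the functor of sections killed by some power of a defining
ideal; on complexes with quasi-coherent cohomology sheaves over a Noetherian scheme the two derived
functors agree.) -/
theorem result {X Xbar : Scheme.{u}} [IsNoetherian Xbar] [IsNoetherian X]
    (j : X ⟶ Xbar) [IsOpenImmersion j] (W : Xbar.Opens) (hW : (W : Set Xbar)ᶜ ⊆ Set.range j.base)
    [DCoh.HasRpush j] [CxOX.HasRgammaZ W.ι] (hj : DCoh.RpushPreservesQCoh j)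
    (adj : DCoh.restrictD j ⊣ DCoh.Rpush j) (G : DCoh.D Xbar) (hG : DCoh.IsQCohD G) :
    IsIso (adj.unit.app ((CxOX.RgammaZ W.ι).obj G)) := by
    let M := (CxOX.RgammaZ W.ι).obj G
    let η := adj.unit.app M
    haveI : IsIso adj.counit := adj.isIso_counit_of_iso (TwistShriek.nonempty_rpush_restrictD j).some
    have hM : IsZero ((DCoh.restrictD W.ι).obj M) := (TwistShriek.rgammaZ_props W G).1
    have hM' : IsZero ((DCoh.restrictD W.ι).obj ((DCoh.Rpush j).obj ((DCoh.restrictD j).obj M))) := by
      refine TwistShriek.isZero_restrictD_rpush j W _ ?_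
      exact ((DCoh.restrictD (j ∣_ W)).map_isZero hM).of_iso
        (((DCohLib.restrictDComp (j ⁻¹ᵁ W).ι j).app M).symm ≪≫
          (DCohLib.restrictDCongr (morphismRestrict_ι j W).symm).app M ≪≫ (DCohLib.restrictDComp (j ∣_ W) W.ι).app M)
    obtain ⟨C, p, q, hT⟩ := CategoryTheory.Pretriangulated.distinguished_cocone_triangle η
    refine (Pretriangulated.Triangle.isZero₃_iff_isIso₁ _ hT).1 ?_
    show IsZero C
    have hj : IsZero ((DCoh.restrictD j).obj C) := by
      haveI : IsIso ((DCoh.restrictD j).map η) := by
        haveI : IsIso ((DCoh.restrictD j).map η ≫ adj.counit.app ((DCoh.restrictD j).obj M)) := by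
          erw [adj.left_triangle_components]; exact IsIso.id _
        exact IsIso.of_isIso_comp_right _ (adj.counit.app ((DCoh.restrictD j).obj M))
      exact (Pretriangulated.Triangle.isZero₃_iff_isIso₁ _ ((DCoh.restrictD j).map_distinguished _ hT)).2 this
    have hW' : IsZero ((DCoh.restrictD W.ι).obj C) := by
      refine (Pretriangulated.Triangle.isZero₃_iff_isIso₁ _ ((DCoh.restrictD W.ι).map_distinguished _ hT)).2 ?_
      exact ⟨0, hM.eq_of_src _ _, hM'.eq_of_src _ _⟩
    have hP : j.opensRange ⊔ W = ⊤ := eq_top_iff.2 fun x _ => by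
      by_cases hx : x ∈ W
      · exact Or.inr hx
      · exact Or.inl (hW hx)
    exact (IsZero.iff_id_eq_zero _).2 ((TwistShriek.subsingleton_hom_of_supports j W hP C C hW' hj).elim _ _)

end Groth.Agent.S14368
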