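import Groth.Statements.S14370
import Groth.Agent.DimFibreLib.Main

set_option autoImplicit false
universe u
open CategoryTheory CategoryTheory.Limits AlgebraicGeometry
open Variety

namespace Groth.Agent.S14370

/-- Let k be an algebraically closed field, X and Y schemes of finite type over k with Y irreducible,
and f : X → Y a k-morphism. Suppose that X is pure-dimensional (every irreducible component of X has
dimension dim X) and that for some natural number d the fibre of f over every closed point y of Y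
(the subspace of points mapping to y) is irreducible of dimension d. Then X is irreducible and dim X
= d + dim Y. (The published statement is for varieties, i.e. reduced separated schemes; this row
assumes neither.) -/
theorem result (k : Type u) [Field k] [IsAlgClosed k]
    {X Y : Scheme.{u}} (qX : X ⟶ Spec (CommRingCat.of k)) (qY : Y ⟶ Spec (CommRingCat.of k))
    [LocallyOfFiniteType qX] [QuasiCompact qX] [LocallyOfFiniteType qY] [QuasiCompact qY]
    (f : X ⟶ Y) (hf : f ≫ qY = qX) [IrreducibleSpace ↥Y]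
    (hpure : ∀ Z ∈ irreducibleComponents (↥X), topologicalKrullDim ↥Z = topologicalKrullDim ↥X) (d : ℕ)
    (hirr : ∀ y : ↥Y, IsClosed ({y} : Set ↥Y) → IsIrreducible (f.base ⁻¹' {y}))
    (hdim : ∀ y : ↥Y, IsClosed ({y} : Set ↥Y) → topologicalKrullDim ↥(f.base ⁻¹' {y}) = d) :
    IrreducibleSpace ↥X ∧ topologicalKrullDim ↥X = d + topologicalKrullDim ↥Y := by
  obtain ⟨Z₀, hZ₀, hdom₀, hZ₀dim, hsub₀⟩ := DimFibreLib.exists_component qX qY f hf d hirr hdim
  haveI : IsLocallyNoetherian X := LocallyOfFiniteType.isLocallyNoetherian qX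
  haveI : CompactSpace X := QuasiCompact.compactSpace_of_compactSpace qX
  haveI : IsNoetherian X := {}
  haveI : JacobsonSpace X := LocallyOfFiniteType.jacobsonSpace qX
  have hD : topologicalKrullDim X = (d : WithBot ℕ∞) + topologicalKrullDim Y :=
    (hpure Z₀ hZ₀).symm.trans hZ₀dim
  suffices huniv : Z₀ = (Set.univ : Set X) from
    ⟨(irreducibleSpace_def _).mpr (by rw [Set.top_eq_univ, ← huniv]; exact hZ₀.1), hD⟩
  refine Set.eq_univ_of_forall fun x₀ ↦ ?_
  let Z := irreducibleComponent x₀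
  have hZ : Z ∈ irreducibleComponents X := irreducibleComponent_mem_irreducibleComponents x₀
  suffices Z = Z₀ from this ▸ mem_irreducibleComponent
  by_contra hne
  have hZc := isClosed_of_mem_irreducibleComponents Z hZ
  have hZ₀c := isClosed_of_mem_irreducibleComponents Z₀ hZ₀
  -- a closed point of `Z` outside the other components
  obtain ⟨n, m, hm, hmn, hlow, V, hV, hVdim⟩ := DimFibreLib.exists_data qX qY f hf Z hZc hZ.1
  obtain ⟨n₀, m₀, hm₀, hmn₀, hlow₀, V₀, hV₀, hVdim₀⟩ :=
    DimFibreLib.exists_data qX qY f hf Z₀ hZ₀c hZ₀.1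
  rw [hdom₀, (Homeomorph.Set.univ Y).isHomeomorph.topologicalKrullDim_eq] at hm₀
  -- the relative dimension of `Z` is at least `d`, with equality only if `Z` dominates
  have hsum : m + n = d + m₀ := by
    have := hmn.symm.trans ((hpure Z hZ).trans hD)
    rw [hm₀] at this
    exact_mod_cast this
  have hn₀ : n₀ = d := by
    have := hmn₀.symm.trans hZ₀dim
    rw [hm₀] at this
    have h' : m₀ + n₀ = d + m₀ := by exact_mod_cast this
    omega
  obtain ⟨x, hxZ, hxc⟩ : (Z ∩ closedPoints X).Nonempty :=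
    nonempty_inter_closedPoints hZ.1.nonempty hZc.isLocallyClosed
  have hyc := DimFibreLib.isClosed_image_point qX qY f hf hxc
  have hnle : n ≤ d := by
    have h1 : (n : WithBot ℕ∞) ≤ topologicalKrullDim ↥(f.base ⁻¹' {f x}) :=
      (hlow (f x) ⟨x, hxZ, rfl⟩).trans
        (Topology.IsEmbedding.inclusion Set.inter_subset_right).isInducing.topologicalKrullDim_le
    rw [hdim _ hyc] at h1
    exact_mod_cast h1
  have hm_le : m ≤ m₀ := by
    have h1 : topologicalKrullDim ↥(closure (f '' Z)) ≤ topologicalKrullDim Y :=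
      topologicalKrullDim_subspace_le Y _
    rw [hm, hm₀] at h1
    exact_mod_cast h1
  have hn : n = d := by omega
  have hdom : closure (f '' Z) = Set.univ := by
    by_contra hnd
    have h1 := S10830.result Y
      (by rw [hm₀]; exact (WithBot.coe_lt_coe.mpr (ENat.natCast_lt_top m₀)).ne)
      _ isClosed_closure hnd
    rw [hm, hm₀] at h1
    have : m < m₀ := by exact_mod_cast h1
    omega
  have hsub : ∀ y ∈ f '' Z, IsClosed ({y} : Set Y) → f.base ⁻¹' {y} ⊆ Z := fun y hy hy' ↦
    DimFibreLib.eq_of_dim_le (hirr y hy') (hdim y hy') hZc (hn ▸ hlow y hy)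
  -- the generic point of `Z` avoids `Z₀` and lies over the good open of `Z₀`
  obtain ⟨η, hη⟩ := QuasiSober.sober hZ.1 hZc
  have hηV : f η ∈ V₀ := by
    obtain ⟨y, hy, -⟩ := hV₀
    have h2 : closure (f '' Z) ⊆ closure {f η} := by
      refine closure_minimal ?_ isClosed_closure
      rintro _ ⟨z, hz, rfl⟩
      exact ((hη.specializes hz).map f.continuous).mem_closure
    exact (specializes_iff_mem_closure.mpr (h2 (hdom ▸ trivial))).mem_open V₀.isOpen hy
  have hηZ₀ : η ∉ Z₀ := fun h ↦ hne <| Eq.symm <| by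
    have hle : Z ⊆ Z₀ := by
      rw [← hη.def]; exact closure_minimal (Set.singleton_subset_iff.mpr h) hZ₀c
    exact (hle.antisymm (hZ.2 hZ₀.1 hle)).symm
  obtain ⟨x', ⟨⟨hx'Z, hx'V⟩, hx'0⟩, hx'c⟩ :=
    nonempty_inter_closedPoints (Z := (Z ∩ f ⁻¹' (V₀ : Set Y)) ∩ Z₀ᶜ) ⟨η, ⟨hη.mem, hηV⟩, hηZ₀⟩
      ((hZc.isLocallyClosed.inter (V₀.isOpen.preimage f.continuous).isLocallyClosed).inter
        hZ₀c.isOpen_compl.isLocallyClosed)
  have hy'c := DimFibreLib.isClosed_image_point qX qY f hf hx'c
  refine hx'0 (hsub₀ (f x') ?_ hy'c rfl)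
  by_contra hnot
  have h1 := hVdim₀ (f x') hx'V (hdom₀ ▸ trivial)
  haveI : IsEmpty ↥(Z₀ ∩ f ⁻¹' {f x'}) :=
    ⟨fun z ↦ hnot ⟨z.1, z.2.1, z.2.2⟩⟩
  haveI : IsEmpty (TopologicalSpace.IrreducibleCloseds ↥(Z₀ ∩ f ⁻¹' {f x'})) :=
    ⟨fun z ↦ IsEmpty.false z.isIrreducible.nonempty.some⟩
  rw [topologicalKrullDim, Order.krullDim_eq_bot] at h1
  exact WithBot.bot_ne_coe h1

end Groth.Agent.S14370
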