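import Mathlib
import Groth.Agent.RegLocal.Basic
import Groth.Statements.S14371

set_option autoImplicit false
universe u
open CAlg

namespace Groth.Agent.S14371

/-- Let R be a regular local ring of dimension n with maximal ideal m and residue field κ, and I, J
ideals of R such that R/I and R/J are regular local rings of dimensions a and b (two subvarieties
smooth at the point). Suppose the quotient R/(I + J) is local with cotangent space m/(m² + I + J) of
dimension a + b − n over κ (the tangent spaces of the two subvarieties meet in the expected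
dimension, i.e. they intersect transversally at the point). Then R/(I + J) is a regular local ring
of dimension a + b − n; in particular I + J is a prime ideal. (The published statement is about the
local rings of a smooth variety over an algebraically closed field at a point where two smooth
closed subvarieties meet transversally, and also states the resulting equalities of tangent spaces
and of ideals; this row is the local-ring form, for an arbitrary regular local ring.) -/
theorem result {R : Type u} [CommRing R] [IsRegularLocalRing R]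
    (I J : Ideal R) [IsRegularLocalRing (R ⧸ I)] [IsRegularLocalRing (R ⧸ J)] [IsLocalRing (R ⧸ (I ⊔ J))]
    (n a b : ℕ) (hn : ringKrullDim R = n) (ha : ringKrullDim (R ⧸ I) = a) (hb : ringKrullDim (R ⧸ J) = b)
    (ht : Module.finrank (IsLocalRing.ResidueField (R ⧸ (I ⊔ J))) (IsLocalRing.CotangentSpace (R ⧸ (I ⊔ J))) + n = a + b) :
    IsRegularLocalRing (R ⧸ (I ⊔ J)) ∧ ringKrullDim (R ⧸ (I ⊔ J)) = ((a + b - n : ℕ) : WithBot ℕ∞) := by
  have key : ∀ (K : Ideal R) [IsRegularLocalRing (R ⧸ K)] (e : ℕ), ringKrullDim (R ⧸ K) = e →
      e ≤ n ∧ K.spanFinrank + e ≤ n ∧ K ≤ IsLocalRing.maximalIdeal R := by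
    intro K _ e he
    obtain ⟨x, c, hc, hx, hK⟩ := Groth.Agent.RegLocal.exists_generators_of_quot_regular R hn K
    let s : Finset (Fin n) := Finset.univ.map (Fin.castLEEmb hc)
    have hs : K = Ideal.span (x '' (s : Set (Fin n))) := by
      rw [hK]; congr 1; ext y
      constructor
      · rintro ⟨i, rfl⟩; exact ⟨Fin.castLE hc i, by simp [s], rfl⟩
      · rintro ⟨j, hj, rfl⟩
        simp only [s, Finset.coe_map, Finset.coe_univ, Set.image_univ, Set.mem_range] at hj
        obtain ⟨i, rfl⟩ := hj
        exact ⟨i, rfl⟩
    have hcard : s.card = c := by simp [s]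
    have hd := (Groth.Agent.RegLocal.quot_span_image hn x hx s).2
    rw [← hs, he, hcard] at hd
    have hd' : e = n - c := by exact_mod_cast hd
    have hr : K.spanFinrank ≤ c := by
      rw [hs]
      refine (Submodule.spanFinrank_span_le_ncard_of_finite (Set.toFinite _)).trans ?_
      exact (Set.ncard_image_le (Set.toFinite _)).trans_eq ((Set.ncard_coe_finset s).trans hcard)
    refine ⟨by omega, by omega, ?_⟩
    rw [hs, ← hx]
    exact Ideal.span_mono (Set.image_subset_range _ _)
  obtain ⟨han, hI, hIm⟩ := key I a ha
  obtain ⟨hbn, hJ, hJm⟩ := key J b hb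
  have hle : I ⊔ J ≤ IsLocalRing.maximalIdeal R := sup_le hIm hJm
  obtain ⟨d, hd⟩ := Groth.Agent.RegLocal.exists_nat_ringKrullDim (R ⧸ (I ⊔ J))
  have h1 := ringKrullDim_le_ringKrullDim_quotient_add_spanFinrank (I ⊔ J)
    (by rw [IsLocalRing.ringJacobson_eq_maximalIdeal]; exact hle)
  rw [hn, hd] at h1
  have h1' : n ≤ d + (I ⊔ J).spanFinrank := by exact_mod_cast h1
  have h2 : (I ⊔ J).spanFinrank ≤ I.spanFinrank + J.spanFinrank := by
    have hfI : I.FG := IsNoetherian.noetherian I
    have hfJ : J.FG := IsNoetherian.noetherian J
    have hsp : I ⊔ J = Submodule.span R (Submodule.generators I ∪ Submodule.generators J) := by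
      rw [Submodule.span_union, Submodule.span_generators, Submodule.span_generators]
    rw [hsp, ← Submodule.FG.generators_ncard hfI, ← Submodule.FG.generators_ncard hfJ]
    exact (Submodule.spanFinrank_span_le_ncard_of_finite ((Submodule.FG.finite_generators hfI).union (Submodule.FG.finite_generators hfJ))).trans
      (Set.ncard_union_le _ _)
  have h3 := ringKrullDim_le_spanFinrank_maximalIdeal (R ⧸ (I ⊔ J))
  rw [hd, IsLocalRing.spanFinrank_maximalIdeal_eq_finrank_cotangentSpace] at h3
  have h3' : d ≤ Module.finrank (IsLocalRing.ResidueField (R ⧸ (I ⊔ J))) (IsLocalRing.CotangentSpace (R ⧸ (I ⊔ J))) := by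
    exact_mod_cast h3
  have hdd : d = a + b - n := by omega
  refine ⟨(IsRegularLocalRing.iff_finrank_cotangentSpace _).2 ?_, by rw [hd, hdd]⟩
  rw [hd]
  exact_mod_cast (by omega : Module.finrank (IsLocalRing.ResidueField (R ⧸ (I ⊔ J))) (IsLocalRing.CotangentSpace (R ⧸ (I ⊔ J))) = d)

end Groth.Agent.S14371
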