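import Groth.Statements.S14372
import Groth.Agent.C1Lib.Forms
-- import your own Groth.Agent.* helpers here

set_option autoImplicit false
set_option backward.isDefEq.respectTransparency false
universe u
open Fano

namespace Groth.Agent.S14372

/-- Over an algebraically closed field k of arbitrary characteristic, let f be a homogeneous form of
degree d ≥ 2 in n + 1 variables and U a linear subspace of k^(n+1) on which f vanishes, such that at
every nonzero vector of U some partial derivative of f does not vanish (the hypersurface f = 0 in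
P^n contains the r-plane P(U), r + 1 = dim U, and is smooth at every point of it). Then 2 · dim U ≤
n + 1, i.e. r ≤ (n − 1)/2. (The published statement assumes the hypersurface smooth everywhere; this
row assumes smoothness only along P(U).) -/
theorem result (k : Type u) [Field k] [IsAlgClosed k]
    (n d : ℕ) (hd : 2 ≤ d) (f : MvPolynomial (Fin (n + 1)) k) (hf : f.IsHomogeneous d)
    (U : Submodule k (Fin (n + 1) → k)) (hU : ∀ u ∈ U, MvPolynomial.eval u f = 0)
    (hsm : ∀ u ∈ U, u ≠ 0 → ∃ i : Fin (n + 1), MvPolynomial.eval u (MvPolynomial.pderiv i f) ≠ 0) :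
    2 * Module.finrank k ↥U ≤ n + 1 := by
  classical
  by_contra hlt
  push Not at hlt
  let b := Module.finBasis k U
  obtain ⟨W, hW⟩ := U.exists_isCompl
  let w := Module.finBasis k W
  let L : Fin (n + 1) → MvPolynomial (Fin (Module.finrank k U)) k :=
    fun i => ∑ l, MvPolynomial.C ((b l : Fin (n + 1) → k) i) * MvPolynomial.X l
  have hLev : ∀ (a : Fin (Module.finrank k U) → k), (fun i => MvPolynomial.eval a (L i)) = ((∑ l, a l • b l : U) : Fin (n + 1) → k) := fun a => by
    ext i
    simp [L, mul_comm]
  have hev : ∀ (a : Fin (Module.finrank k U) → k) (g : MvPolynomial (Fin (n + 1)) k),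
      MvPolynomial.eval a (MvPolynomial.aeval L g) = MvPolynomial.eval ((∑ l, a l • b l : U) : Fin (n + 1) → k) g := fun a g => by
    rw [← hLev a]
    induction g using MvPolynomial.induction_on with
    | C c => simp
    | add p q hp hq => rw [map_add, map_add, map_add, hp, hq]
    | mul_X p i hp => rw [map_mul, map_mul, map_mul, hp, MvPolynomial.aeval_X, MvPolynomial.eval_X]
  have hzero : MvPolynomial.aeval L f = 0 := MvPolynomial.funext fun a => by
    rw [hev, map_zero]; exact hU _ (SetLike.coe_mem _)
  have hchain : ∀ (l : Fin (Module.finrank k U)) (g : MvPolynomial (Fin (n + 1)) k),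
      MvPolynomial.pderiv l (MvPolynomial.aeval L g) =
        ∑ i, MvPolynomial.C ((b l : Fin (n + 1) → k) i) * MvPolynomial.aeval L (MvPolynomial.pderiv i g) := fun l g => by
    induction g using MvPolynomial.induction_on with
    | C c => simp
    | add p q hp hq =>
      rw [map_add, map_add, hp, hq, ← Finset.sum_add_distrib]
      exact Finset.sum_congr rfl fun i _ => by rw [map_add, map_add, mul_add]
    | mul_X p j hp =>
      have hLj : MvPolynomial.pderiv l (L j) = MvPolynomial.C ((b l : Fin (n + 1) → k) j) := by
        simp [L, MvPolynomial.pderiv_mul, MvPolynomial.pderiv_X, Pi.single_apply]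
      rw [map_mul, MvPolynomial.pderiv_mul, hp, MvPolynomial.aeval_X, hLj, Finset.sum_mul]
      simp only [MvPolynomial.pderiv_mul, map_add, map_mul, MvPolynomial.aeval_X, mul_add, Finset.sum_add_distrib]
      congr 1
      · exact Finset.sum_congr rfl fun i _ => by ring
      · rw [Finset.sum_eq_single j]
        · simp [MvPolynomial.pderiv_X, mul_comm]
        · intro i _ hij; simp [MvPolynomial.pderiv_X, hij.symm]
        · simp
  let g : Fin (Module.finrank k W) → MvPolynomial (Fin (Module.finrank k U)) k :=
    fun j => ∑ i, MvPolynomial.C ((w j : Fin (n + 1) → k) i) * MvPolynomial.aeval L (MvPolynomial.pderiv i f)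
  have hgh : ∀ j, (g j).IsHomogeneous (d - 1) := fun j => MvPolynomial.IsHomogeneous.sum _ _ _ fun i _ => by
    refine MvPolynomial.IsHomogeneous.C_mul ?_ _
    have h1 := (hf.pderiv (i := i)).aeval L (fun i => MvPolynomial.IsHomogeneous.sum _ _ _ fun l _ =>
      (MvPolynomial.isHomogeneous_X k l).C_mul _)
    rwa [one_mul] at h1
  have hdim : Module.finrank k W < Module.finrank k U := by
    have := Submodule.finrank_add_eq_of_isCompl hW
    simp at this
    omega
  obtain ⟨a, ha, hga⟩ := Groth.Agent.C1Lib.exists_zero_of_isAlgClosed g (fun _ => d - 1) hgh (fun _ => by omega) (by simpa using hdim)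
  set u : U := ∑ l, a l • b l with hu
  have hu0 : (u : Fin (n + 1) → k) ≠ 0 := fun h => ha <| by
    ext l
    exact Fintype.linearIndependent_iff.mp b.linearIndependent a (Subtype.ext h) l
  let D : (Fin (n + 1) → k) →ₗ[k] k :=
    ∑ i, MvPolynomial.eval (u : Fin (n + 1) → k) (MvPolynomial.pderiv i f) • LinearMap.proj i
  have hDU : ∀ l, D (b l) = 0 := fun l => by
    have h1 := hchain l f
    rw [hzero, map_zero] at h1
    have h2 := congrArg (MvPolynomial.eval a) h1.symm
    simp only [map_sum, map_mul, MvPolynomial.eval_C, map_zero, hev, ← hu] at h2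
    simpa [D, mul_comm] using h2
  have hDW : ∀ j, D (w j) = 0 := fun j => by
    have h2 := hga j
    simp only [g, map_sum, map_mul, MvPolynomial.eval_C, hev, ← hu] at h2
    simpa [D, mul_comm] using h2
  have hD : D = 0 := by
    have h1 : D.domRestrict U = 0 := b.ext fun l => hDU l
    have h2 : D.domRestrict W = 0 := w.ext fun j => hDW j
    refine LinearMap.ext fun x => ?_
    obtain ⟨y, hy, z, hz, rfl⟩ := Submodule.mem_sup.mp (hW.sup_eq_top.symm ▸ Submodule.mem_top : x ∈ U ⊔ W)
    rw [map_add, show D y = 0 from LinearMap.congr_fun h1 ⟨y, hy⟩, show D z = 0 from LinearMap.congr_fun h2 ⟨z, hz⟩]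
    simp
  obtain ⟨i, hi⟩ := hsm _ u.2 hu0
  refine hi ?_
  have := LinearMap.congr_fun hD (Pi.single i 1)
  simpa [D, Pi.single_apply] using this

end Groth.Agent.S14372
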