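import Groth.Statements.S14373
import Mathlib
import Groth.Agent.FanoGenLib.Incidence

set_option autoImplicit false
universe u
open Fano

namespace Groth.Agent.S14373

section helpers

set_option maxHeartbeats 2000000


open MvPolynomial

variable {k : Type u} [Field k] {n : ℕ}

/-- A linear form as a polynomial. -/
noncomputable def linPoly (L : Module.Dual k (Fin (n + 1) → k)) : MvPolynomial (Fin (n + 1)) k :=
  ∑ i, C (L (Pi.single i 1)) * X i

lemma eval_linPoly (L : Module.Dual k (Fin (n + 1) → k)) (v : Fin (n + 1) → k) : eval v (linPoly L) = L v := by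
  conv_rhs => rw [pi_eq_sum_univ' v]
  rw [linPoly, map_sum, map_sum]
  exact Finset.sum_congr rfl fun i _ => by simp [mul_comm]

/-- Directional derivative. -/
noncomputable def dir (e : Fin (n + 1) → k) : MvPolynomial (Fin (n + 1)) k →ₗ[k] MvPolynomial (Fin (n + 1)) k :=
  ∑ i, e i • (pderiv i).toLinearMap

lemma dir_apply (e : Fin (n + 1) → k) (P : MvPolynomial (Fin (n + 1)) k) : dir e P = ∑ i, e i • pderiv i P := by
  simp [dir]

lemma dir_mul (e : Fin (n + 1) → k) (P Q : MvPolynomial (Fin (n + 1)) k) :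
    dir e (P * Q) = dir e P * Q + P * dir e Q := by
  simp only [dir_apply, pderiv_mul, smul_add, Finset.sum_add_distrib, Finset.sum_mul, Finset.mul_sum, smul_mul_assoc,
    mul_smul_comm]

lemma dir_linPoly (e : Fin (n + 1) → k) (L : Module.Dual k (Fin (n + 1) → k)) : dir e (linPoly L) = C (L e) := by
  classical
  conv_rhs => rw [pi_eq_sum_univ' e]
  rw [dir_apply, map_sum, map_sum]
  refine Finset.sum_congr rfl fun i _ => ?_
  simp [linPoly, Pi.single_apply, smul_eq_C_mul, mul_comm]

lemma isHomogeneous_linPoly (L : Module.Dual k (Fin (n + 1) → k)) : (linPoly L).IsHomogeneous 1 :=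
  IsHomogeneous.sum _ _ _ fun i _ => isHomogeneous_C_mul_X _ _

lemma isHomogeneous_dir {P : MvPolynomial (Fin (n + 1)) k} {d : ℕ} (hP : P.IsHomogeneous d) (e : Fin (n + 1) → k) :
    (dir e P).IsHomogeneous (d - 1) := by
  rw [dir_apply]
  exact IsHomogeneous.sum _ _ _ fun i _ => by
    rw [smul_eq_C_mul]
    exact hP.pderiv.C_mul _

lemma exists_dual_vanish (U : Submodule k (Fin (n + 1) → k)) {v : Fin (n + 1) → k} (hv : v ∉ U) :
    ∃ L : Module.Dual k (Fin (n + 1) → k), (∀ u ∈ U, L u = 0) ∧ L v = 1 := by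
  obtain ⟨f, hfv, hfU⟩ := Submodule.exists_dual_map_eq_bot_of_notMem hv inferInstance
  have hf : ∀ u ∈ U, f u = 0 := fun u hu => by
    have h : f u ∈ U.map f := Submodule.mem_map_of_mem hu
    rw [hfU] at h
    exact (Submodule.mem_bot k).mp h
  exact ⟨(f v)⁻¹ • f, fun u hu => by simp [hf u hu], by simp [inv_mul_cancel₀ hfv]⟩

variable {d : ℕ} (U : Submodule k (Fin (n + 1) → k)) (W : Submodule k (LefPen.Form n k d))
  (hW : ∀ G : LefPen.Form n k d, G ∈ W ↔ ∀ u ∈ U, eval u G.1 = 0)

lemma dir_single (i : Fin (n + 1)) (P : MvPolynomial (Fin (n + 1)) k) : dir (Pi.single i 1) P = pderiv i P := by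
  rw [dir_apply, Finset.sum_eq_single i (fun j _ hj => by simp [Pi.single_eq_of_ne hj])
    (fun h => absurd (Finset.mem_univ i) h), Pi.single_eq_same, one_smul]

lemma dir_pow_of_eq_zero {e : Fin (n + 1) → k} {L : Module.Dual k (Fin (n + 1) → k)} (h : L e = 0) (m : ℕ) :
    dir e (linPoly L ^ m) = 0 := by
  induction m with
  | zero => simp [dir_apply]
  | succ m ih => rw [pow_succ, dir_mul, ih, dir_linPoly, h]; simp

lemma eval_smul_of_isHomogeneous {P : MvPolynomial (Fin (n + 1)) k} {m : ℕ} (hP : P.IsHomogeneous m) (s : k)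
    (v : Fin (n + 1) → k) : eval (s • v) P = s ^ m * eval v P := by
  rw [eval_eq', eval_eq', Finset.mul_sum]
  refine Finset.sum_congr rfl fun e he => ?_
  have hdeg : e.degree = m := by
    by_contra hne
    exact mem_support_iff.mp he (hP.coeff_eq_zero hne)
  simp only [Pi.smul_apply, smul_eq_mul, mul_pow, Finset.prod_mul_distrib]
  rw [Finset.prod_pow_eq_pow_sum, ← hdeg, Finsupp.degree_eq_sum]
  ring

include hW in
lemma exists_miss_chart {σ R : Type*} [Fintype σ] [Fintype R] (hcard : Fintype.card σ < Fintype.card R)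
    (vp : Fin (n + 1) → MvPolynomial σ k) (D : R → MvPolynomial (Fin (n + 1)) k →ₗ[k] MvPolynomial (Fin (n + 1)) k)
    {τ : Type*} [Fintype τ] (b : Module.Basis τ k ↥W) :
    ∃ q : MvPolynomial τ k, q ≠ 0 ∧ ∀ (c : σ → k) (G : ↥W),
      (∀ t : R → k, ∃ G : MvPolynomial (Fin (n + 1)) k, G.IsHomogeneous d ∧
        (∀ u ∈ U, eval u G = 0) ∧ ∀ l, eval (fun i => eval c (vp i)) (D l G) = t l) →
      (∀ l, eval (fun i => eval c (vp i)) (D l G.1.1) = 0) → eval (fun t => b.repr G t) q = 0 := by
  let M : R → τ → MvPolynomial σ k := fun l t => aeval vp (D l (b t).1.1)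
  obtain ⟨q, hq, h⟩ := FanoGenLib.exists_miss_of_linear_family M hcard
  let φ : (σ → k) → R → ↥W →ₗ[k] k := fun c l =>
    (aeval (R := k) (fun i => eval c (vp i))).toLinearMap ∘ₗ D l ∘ₗ (Submodule.subtype _) ∘ₗ W.subtype
  have hφ : ∀ c l (G : ↥W), φ c l G = eval (fun i => eval c (vp i)) (D l G.1.1) := fun c l G => by
    simp [φ, aeval_eq_eval]
  have hM : ∀ c l t, eval c (M l t) = φ c l (b t) := fun c l t => by
    rw [hφ]
    show eval c (aeval vp (D l (b t).1.1)) = _
    have hcomp := comp_aeval_apply vp (aeval (R := k) c) (D l (b t).1.1)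
    simpa only [aeval_eq_eval] using hcomp
  have hev : ∀ c l (G : ↥W), ∑ t, eval c (M l t) * b.repr G t = φ c l G := fun c l G => by
    conv_rhs => rw [← b.sum_repr G, map_sum]
    exact Finset.sum_congr rfl fun t _ => by rw [map_smul, hM, smul_eq_mul, mul_comm]
  refine ⟨q, hq, fun c G hsurj hG => h c _ (fun y => ?_) fun l => by rw [hev, hφ, hG l]⟩
  obtain ⟨G', hG', hGU, hy⟩ := hsurj y
  refine ⟨fun t => b.repr (⟨⟨G', (mem_homogeneousSubmodule d _).mpr hG'⟩, (hW _).mpr hGU⟩ : ↥W) t,
    funext fun l => ?_⟩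
  dsimp only
  rw [hev, hφ, hy l]

include hW in
theorem isGeneric_smooth [Infinite k] (hd : 2 ≤ d) (hU : 2 * Module.finrank k ↥U ≤ n + 1) :
    LefPen.IsGeneric k {G : ↥W | ∀ v : Fin (n + 1) → k, v ≠ 0 → eval v G.1.1 = 0 →
      ∃ i : Fin (n + 1), eval v (pderiv i G.1.1) ≠ 0} := by
  classical
  haveI : FiniteDimensional k (LefPen.Form n k d) := by
    let f : LefPen.Form n k d →ₗ[k] (FanoGenLib.Mon n d → k) :=
      { toFun := fun G => FanoGenLib.coords G
        map_add' := fun G G' => funext fun e => by simp [FanoGenLib.coords]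
        map_smul' := fun a G => funext fun e => by simp [FanoGenLib.coords] }
    refine FiniteDimensional.of_injective f fun G G' h => Subtype.ext (MvPolynomial.ext _ _ fun e => ?_)
    by_cases he : e.degree = d
    · exact congrFun h ⟨e, he⟩
    · rw [((mem_homogeneousSubmodule d _).mp G.2).coeff_eq_zero he, ((mem_homogeneousSubmodule d _).mp G'.2).coeff_eq_zero he]
  haveI : Module.Free k ↥W := Module.Free.of_divisionRing k ↥W
  let b := Module.finBasis k ↥W
  let τ := Fin (Module.finrank k ↥W)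
  -- singular points outside `U`
  have hout : ∀ i0 : Fin (n + 1), ∃ q : MvPolynomial τ k, q ≠ 0 ∧ ∀ (v : Fin (n + 1) → k) (G : ↥W),
      v ∉ U → v i0 = 1 → eval v G.1.1 = 0 → (∀ i, eval v (pderiv i G.1.1) = 0) →
        eval (fun t => b.repr G t) q = 0 := by
    intro i0
    let vp : Fin (n + 1) → MvPolynomial {i : Fin (n + 1) // i ≠ i0} k := fun i => if h : i = i0 then 1 else X ⟨i, h⟩
    let D : Option {i : Fin (n + 1) // i ≠ i0} → MvPolynomial (Fin (n + 1)) k →ₗ[k] MvPolynomial (Fin (n + 1)) k :=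
      fun o => o.elim LinearMap.id fun i => dir (Pi.single i.1 1)
    obtain ⟨q, hq, h⟩ := exists_miss_chart U W hW (by rw [Fintype.card_option]; omega) vp D b
    refine ⟨q, hq, fun v G hv hv1 h0 hder => ?_⟩
    have hvp : (fun i => eval (fun j : {i : Fin (n + 1) // i ≠ i0} => v j.1) (vp i)) = v := by
      funext i
      simp only [vp]
      split_ifs with h
      · rw [h, hv1, map_one]
      · rw [eval_X]
    refine h (fun j => v j.1) G (fun t => ?_) (fun l => ?_)
    · obtain ⟨L, hLU, hLv⟩ := exists_dual_vanish U hv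
      let β : {i : Fin (n + 1) // i ≠ i0} → k := fun i => t (some i) - L (Pi.single i.1 1) * t none
      let p0 : Module.Dual k (Fin (n + 1) → k) := LinearMap.proj i0
      let M : Module.Dual k (Fin (n + 1) → k) :=
        t none • p0 + ∑ i : {i : Fin (n + 1) // i ≠ i0}, β i • (LinearMap.proj i.1 - v i.1 • p0)
      have hMv : M v = t none := by simp [M, p0, hv1]
      have hMe : ∀ i : {i : Fin (n + 1) // i ≠ i0}, M (Pi.single i.1 1) = β i := fun i => by
        simp [M, p0, Pi.single_eq_of_ne i.2.symm, Pi.single_apply, Subtype.val_inj, Finset.sum_ite_eq']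
      refine ⟨linPoly L * (linPoly p0 ^ (d - 2) * linPoly M), ?_, fun u hu => by simp [eval_linPoly, hLU u hu], ?_⟩
      · have h := (isHomogeneous_linPoly L).mul (((isHomogeneous_linPoly p0).pow (d - 2)).mul (isHomogeneous_linPoly M))
        rwa [show 1 + (1 * (d - 2) + 1) = d by omega] at h
      · rw [hvp]
        intro l
        cases l with
        | none => simp [D, eval_linPoly, hLv, p0, hv1, hMv]
        | some i =>
          have hp : p0 (Pi.single i.1 1) = 0 := Pi.single_eq_of_ne i.2.symm 1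
          simp [D, dir_mul, dir_linPoly, dir_pow_of_eq_zero hp, eval_linPoly, hLv, hMv, hMe, β]
          simp [p0, hv1]
    · rw [hvp]
      cases l with
      | none => exact h0
      | some i => simpa [D, dir_single] using hder i.1
  -- singular points on `U`
  obtain ⟨C', hC'⟩ := U.exists_isCompl
  let bU := Module.finBasis k ↥U
  let bC := Module.finBasis k ↥C'
  have hsum : Module.finrank k ↥U + Module.finrank k ↥C' = n + 1 := by
    rw [Submodule.finrank_add_eq_of_isCompl hC', Module.finrank_fintype_fun_eq_card, Fintype.card_fin]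
  have hin : ∀ j0 : Fin (Module.finrank k ↥U), ∃ q : MvPolynomial τ k, q ≠ 0 ∧ ∀ (v : ↥U) (G : ↥W),
      bU.repr v j0 = 1 → (∀ i, eval v.1 (pderiv i G.1.1) = 0) → eval (fun t => b.repr G t) q = 0 := by
    intro j0
    let vp : Fin (n + 1) → MvPolynomial {j : Fin (Module.finrank k ↥U) // j ≠ j0} k := fun i =>
      C ((bU j0).1 i) + ∑ j : {j : Fin (Module.finrank k ↥U) // j ≠ j0}, C ((bU j.1).1 i) * X j
    let D : Fin (Module.finrank k ↥C') → MvPolynomial (Fin (n + 1)) k →ₗ[k] MvPolynomial (Fin (n + 1)) k :=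
      fun l => dir (bC l).1
    obtain ⟨q, hq, h⟩ := exists_miss_chart U W hW (by
      simp only [Fintype.card_subtype_compl, Fintype.card_subtype_eq, Fintype.card_fin]; omega) vp D b
    refine ⟨q, hq, fun v G hv1 hder => ?_⟩
    have hvp : (fun i => eval (fun j : {j : Fin (Module.finrank k ↥U) // j ≠ j0} => bU.repr v j.1) (vp i)) = v.1 := by
      funext i
      conv_rhs => rw [← bU.sum_repr v, Submodule.coe_sum, Finset.sum_apply, Fintype.sum_eq_add_sum_compl j0,
        Finset.sum_subtype ({j0}ᶜ : Finset _) (p := (· ≠ j0)) (by simp)]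
      simp [vp, hv1, mul_comm]
    have hv0 : v.1 ∉ (⊥ : Submodule k (Fin (n + 1) → k)) := fun h => by
      rw [Submodule.mem_bot, ZeroMemClass.coe_eq_zero] at h
      simp [h] at hv1
    refine h (fun j => bU.repr v j.1) G (fun t => ?_) (fun l => ?_)
    · obtain ⟨L', -, hL'v⟩ := exists_dual_vanish ⊥ hv0
      let L : Module.Dual k (Fin (n + 1) → k) :=
        (bC.constr k t) ∘ₗ Submodule.projectionOnto C' U hC'.symm
      have hLU : ∀ u ∈ U, L u = 0 := fun u hu => by
        have hp : Submodule.projectionOnto C' U hC'.symm u = 0 :=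
          Submodule.projectionOnto_apply_right hC'.symm ⟨u, hu⟩
        simp only [L, LinearMap.comp_apply, hp, map_zero]
      refine ⟨linPoly L * linPoly L' ^ (d - 1), ?_, fun u hu => by simp [eval_linPoly, hLU u hu], ?_⟩
      · have h := (isHomogeneous_linPoly L).mul ((isHomogeneous_linPoly L').pow (d - 1))
        rwa [show 1 + 1 * (d - 1) = d by omega] at h
      · rw [hvp]
        intro l
        simp [D, dir_mul, dir_linPoly, eval_linPoly, hL'v, hLU v.1 v.2]
        simp [L]
    · rw [hvp]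
      simp [D, dir_apply, smul_eq_C_mul, hder]
  choose qo hqo hqo0 using hout
  choose qi hqi hqi0 using hin
  refine FanoGenLib.isGeneric_of_basis b _ ((∏ i, qo i) * ∏ j, qi j) (mul_ne_zero
    (Finset.prod_ne_zero_iff.mpr fun i _ => hqo i) (Finset.prod_ne_zero_iff.mpr fun j _ => hqi j))
    fun G hG v hv h0 => ?_
  by_contra hno
  push Not at hno
  rw [map_mul, mul_ne_zero_iff, map_prod, map_prod, Finset.prod_ne_zero_iff, Finset.prod_ne_zero_iff] at hG
  have hscale : ∀ s : k, eval (s • v) G.1.1 = 0 ∧ ∀ i, eval (s • v) (pderiv i G.1.1) = 0 := fun s =>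
    ⟨by rw [eval_smul_of_isHomogeneous ((mem_homogeneousSubmodule d _).mp G.1.2), h0, mul_zero],
      fun i => by rw [eval_smul_of_isHomogeneous ((mem_homogeneousSubmodule d _).mp G.1.2).pderiv, hno i, mul_zero]⟩
  by_cases hvU : v ∈ U
  · obtain ⟨j0, hj0⟩ : ∃ j0, bU.repr ⟨v, hvU⟩ j0 ≠ 0 := by
      by_contra hzero
      push Not at hzero
      have h0' : bU.repr ⟨v, hvU⟩ = 0 := Finsupp.ext fun j => by rw [hzero j]; rfl
      rw [LinearEquiv.map_eq_zero_iff] at h0'
      exact hv (congrArg Subtype.val h0')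
    let v0 : ↥U := ⟨v, hvU⟩
    let s : k := (bU.repr v0 j0)⁻¹
    have hv1 : bU.repr (s • v0) j0 = 1 := by
      rw [map_smul, Finsupp.smul_apply, smul_eq_mul]
      exact inv_mul_cancel₀ hj0
    have hder : ∀ i, eval (s • v0 : ↥U).1 (pderiv i G.1.1) = 0 := fun i => by
      rw [show ((s • v0 : ↥U) : Fin (n + 1) → k) = s • v from rfl]
      exact (hscale s).2 i
    exact hG.2 j0 (Finset.mem_univ _) (hqi0 j0 (s • v0) G hv1 hder)
  · obtain ⟨i0, hi0⟩ : ∃ i0, v i0 ≠ 0 := by
      by_contra hzero
      push Not at hzero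
      exact hv (funext hzero)
    exact hG.1 i0 (Finset.mem_univ _) (hqo0 i0 ((v i0)⁻¹ • v) G
      (fun h => hvU (by simpa [smul_smul, hi0] using U.smul_mem (v i0) h))
      (by simp [hi0]) (hscale _).1 (hscale _).2)

end helpers

/-- Over an algebraically closed field k of arbitrary characteristic, let d ≥ 2 and let U be a linear
subspace of k^(n+1) with 2 · dim U ≤ n + 1 (an r-plane P(U) in P^n with r ≤ (n − 1)/2). Let W be the
linear space of degree-d forms in n + 1 variables vanishing on U (hypersurfaces of degree d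
containing P(U)). Then a general member G of W defines a smooth hypersurface: for G outside the zero
set of some nonzero polynomial function on W, at every nonzero vector where G vanishes some partial
derivative of G is nonzero. -/
theorem result (k : Type u) [Field k] [IsAlgClosed k]
    (n d : ℕ) (hd : 2 ≤ d) (U : Submodule k (Fin (n + 1) → k)) (hU : 2 * Module.finrank k ↥U ≤ n + 1)
    (W : Submodule k (LefPen.Form n k d)) (hW : ∀ G : LefPen.Form n k d, G ∈ W ↔ ∀ u ∈ U, MvPolynomial.eval u G.1 = 0) :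
    LefPen.IsGeneric k {G : ↥W | ∀ v : Fin (n + 1) → k, v ≠ 0 → MvPolynomial.eval v G.1.1 = 0 →
      ∃ i : Fin (n + 1), MvPolynomial.eval v (MvPolynomial.pderiv i G.1.1) ≠ 0} := by
  exact isGeneric_smooth U W hW hd hU

end Groth.Agent.S14373
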