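import Groth.Statements.S14374
import Groth.Agent.DiscrFormLib.Main
-- import your own Groth.Agent.* helpers here

set_option autoImplicit false
universe u
open Fano

namespace Groth.Agent.S14374

section helpers

open MvPolynomial Groth.Agent.FanoGenLib Groth.Agent.DiscrFormLib

variable {k : Type u} [Field k] {n d : ℕ}

/-- The high monomials of a polynomial. -/
noncomputable def zOf (f0 : MvPolynomial (Fin (n + 1)) k) : High n d → k := fun e => coeff e.1.1 f0

lemma eval_lowCoef_zOf (f0 : MvPolynomial (Fin (n + 1)) k)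
    (hf : ∀ e ∈ f0.support, e.degree = d ∧ e 0 + 2 ≤ d) (v : Fin n → k) (j : Fin (n + 1)) :
    eval (Sum.elim 0 v) (lowCoef (zOf (d := d) f0) j) =
      Fin.cases (-eval (Fin.cons 1 v) f0 + ∑ i : Fin n, v i * eval (Fin.cons 1 v) (pderiv i.succ f0))
        (fun i => -eval (Fin.cons 1 v) (pderiv i.succ f0)) j := by
  classical
  have hw : (fun i => eval (Sum.elim 0 v) (vp (k := k) (n := n) (d := d) i)) = Fin.cons 1 v := by
    funext i
    refine Fin.cases ?_ (fun i => ?_) i
    · simp [vp]
    · simp [vp]
  have hmap : map (eval (Sum.elim 0 v)) (hiPart (zOf (d := d) f0)) = f0 := by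
    ext x
    rw [coeff_map, hiPart, coeff_sum, map_sum]
    simp only [coeff_monomial]
    simp only [apply_ite (eval (Sum.elim 0 v : High n d ⊕ Fin n → k)), map_zero, map_add, eval_C, eval_X,
      Sum.elim_inl, Pi.zero_apply, add_zero, zOf]
    by_cases hx : x ∈ f0.support
    · rw [Finset.sum_eq_single (⟨⟨x, (hf x hx).1⟩, (hf x hx).2⟩ : High n d)
        (fun b _ hb => if_neg fun h => hb (Subtype.ext (Subtype.ext h)))
        (fun h => absurd (Finset.mem_univ _) h), if_pos rfl]
    · rw [notMem_support_iff.mp hx, Finset.sum_eq_zero]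
      intro b _
      split_ifs with h
      · rw [h]; exact notMem_support_iff.mp hx
      · rfl
  refine Fin.cases ?_ (fun i => ?_) j
  · simp only [lowCoef, Fin.cases_zero, map_add, map_neg, map_sum, map_mul, eval_X, Sum.elim_inr, eval_map_of_comp,
      ← pderiv_map, hw, hmap]
  · simp only [lowCoef, Fin.cases_succ, map_neg, eval_map_of_comp, ← pderiv_map, hw, hmap]

lemma support_sum_subset_of {α β : Type*} [Fintype β] (p : β → MvPolynomial α k) (P : (α →₀ ℕ) → Prop)
    (h : ∀ b, ∀ e ∈ (p b).support, P e) : ∀ e ∈ (∑ b, p b).support, P e := fun e he => by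
  classical
  obtain ⟨b, -, hb⟩ := Finset.mem_biUnion.mp (support_sum he)
  exact h b e hb

/-- There are choices making all but one of the low coefficients independent. -/
lemma exists_choice [IsAlgClosed k] (hd : 2 ≤ d) :
    ∃ (z : High n d → k) (ι : Fin n → Fin (n + 1)), Function.Injective ι ∧
      ∀ b : Fin n → k, ∃ v : Fin n → k, ∀ i, eval (Sum.elim 0 v) (lowCoef z (ι i)) = b i := by
  classical
  by_cases hE : ∃ e : ℕ, 2 ≤ e ∧ e ≤ d ∧ (e : k) ≠ 0
  · obtain ⟨e, he2, hed, hek⟩ := hE
    let f0 : MvPolynomial (Fin (n + 1)) k := ∑ i : Fin n, monomial (Finsupp.single 0 (d - e) + Finsupp.single i.succ e) 1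
    have hf : ∀ x ∈ f0.support, x.degree = d ∧ x 0 + 2 ≤ d := by
      refine support_sum_subset_of _ (fun x => x.degree = d ∧ x 0 + 2 ≤ d) fun i x hx => ?_
      rw [Finset.mem_singleton.mp (support_monomial_subset hx)]
      refine ⟨?_, ?_⟩
      · rw [map_add, Finsupp.degree_single, Finsupp.degree_single]; omega
      · simp [Fin.succ_ne_zero]; omega
    refine ⟨zOf f0, Fin.succ, Fin.succ_injective n, fun b => ?_⟩
    choose v hv using fun i : Fin n => IsAlgClosed.exists_pow_nat_eq (-(b i) / (e : k)) (n := e - 1) (by omega)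
    refine ⟨v, fun i => ?_⟩
    rw [eval_lowCoef_zOf f0 hf, Fin.cases_succ]
    simp only [f0, map_sum, pderiv_monomial]
    rw [Finset.sum_eq_single i]
    · simp only [eval_monomial, Finsupp.coe_add, Pi.add_apply, one_mul]
      rw [Finsupp.single_eq_of_ne (Fin.succ_ne_zero i), Finsupp.single_eq_same, zero_add,
        add_tsub_assoc_of_le (Finsupp.single_le_iff.mpr (by rw [Finsupp.single_eq_same]; omega)),
        ← Finsupp.single_tsub, Finsupp.prod_add_index' (by simp) (by intros; rw [pow_add]),
        Finsupp.prod_single_index (by simp), Finsupp.prod_single_index (by simp), Fin.cons_zero, one_pow,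
        one_mul, Fin.cons_succ, hv i]
      field_simp
    · intro j _ hj
      simp [Finsupp.single_eq_of_ne (Fin.succ_ne_zero i), Finsupp.single_eq_of_ne ((Fin.succ_injective n).ne hj.symm)]
    · exact fun h => absurd (Finset.mem_univ i) h
  · push Not at hE
    have h2 : (2 : k) = 0 := by simpa using hE 2 le_rfl hd
    have hd2 : d = 2 := by
      by_contra hne
      have h3 : (3 : k) = 0 := by simpa using hE 3 (by omega) (by omega)
      exact one_ne_zero (show (1 : k) = 0 by linear_combination h3 - h2)
    subst hd2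
    let h := n / 2
    let r := n - 2 * h
    have hr : r ≤ 1 := by simp only [r, h]; omega
    let E : Fin n ≃ (Fin h × Bool) ⊕ Fin r := Fintype.equivOfCardEq (by simp [r, h]; omega)
    let x : (Fin h × Bool) ⊕ Fin r → Fin (n + 1) := fun a => (E.symm a).succ
    have hx : Function.Injective x := (Fin.succ_injective n).comp E.symm.injective
    let f0 : MvPolynomial (Fin (n + 1)) k :=
      (∑ j : Fin h, X (x (.inl (j, false))) * X (x (.inl (j, true)))) + ∑ a : Fin r, X (x (.inr a)) ^ 2
    have hf : ∀ e ∈ f0.support, e.degree = 2 ∧ e 0 + 2 ≤ 2 := by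
      intro e he
      rcases Finset.mem_union.mp (support_add he) with h' | h'
      · refine support_sum_subset_of _ (fun e => e.degree = 2 ∧ e 0 + 2 ≤ 2) (fun j y hy => ?_) e h'
        rw [X, X, monomial_mul] at hy
        rw [Finset.mem_singleton.mp (support_monomial_subset hy)]
        exact ⟨by rw [map_add, Finsupp.degree_single, Finsupp.degree_single], by simp [x, Fin.succ_ne_zero]⟩
      · refine support_sum_subset_of _ (fun e => e.degree = 2 ∧ e 0 + 2 ≤ 2) (fun a y hy => ?_) e h'
        rw [X_pow_eq_monomial] at hy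
        rw [Finset.mem_singleton.mp (support_monomial_subset hy)]
        exact ⟨by rw [Finsupp.degree_single], by simp [x, Fin.succ_ne_zero]⟩
    let ι : Fin n → Fin (n + 1) := fun i => Sum.elim (fun p => x (.inl p)) (fun _ => 0) (E i)
    have hι : Function.Injective ι := by
      intro i i' hii
      apply E.injective
      simp only [ι] at hii
      rcases hEi : E i with p | a <;> rcases hEi' : E i' with p' | a' <;> rw [hEi, hEi'] at hii
      · exact congrArg _ (Sum.inl_injective (hx hii))
      · exact absurd hii (Fin.succ_ne_zero _)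
      · exact absurd hii.symm (Fin.succ_ne_zero _)
      · exact congrArg _ (Fin.ext (by omega))
    refine ⟨zOf f0, ι, hι, fun b => ?_⟩
    let vp' : Fin h × Bool → k := fun p => -b (E.symm (.inl (p.1, !p.2)))
    let Q : k := ∑ j, vp' (j, false) * vp' (j, true)
    choose s hs using fun a : Fin r => IsAlgClosed.exists_pow_nat_eq (-b (E.symm (.inr a)) - Q) (n := 2) two_pos
    let v : Fin n → k := fun i => Sum.elim vp' s (E i)
    have hcons : ∀ a, (Fin.cons 1 v : Fin (n + 1) → k) (x a) = Sum.elim vp' s a := fun a => by simp [x, v]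
    have hpd : ∀ a, eval (Fin.cons 1 v) (pderiv (x a) f0) =
        Sum.elim (fun p => vp' (p.1, !p.2)) (fun _ => 0) a := by
      intro a
      simp only [f0, map_add, map_sum, pderiv_mul, pderiv_pow, map_mul, eval_X, map_pow, map_natCast, Nat.cast_ofNat, map_ofNat,
        pderiv_X, Pi.single_apply, hx.eq_iff, h2, zero_mul, Finset.sum_const_zero, add_zero, apply_ite (eval (Fin.cons 1 v)),
        map_one, map_zero, hcons, Sum.elim_inl, ite_mul, mul_ite, mul_one, one_mul, mul_zero]
      rcases a with ⟨j, _ | _⟩ | a <;> simp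
    have hval : eval (Fin.cons 1 v) f0 = Q + ∑ a : Fin r, s a ^ 2 := by
      simp only [f0, map_add, map_sum, map_mul, map_pow, eval_X, hcons, Sum.elim_inl, Sum.elim_inr, Q]
    refine ⟨v, fun i => ?_⟩
    rw [eval_lowCoef_zOf f0 hf]
    rcases hEi : E i with ⟨j, c⟩ | a
    · simp only [ι, hEi, Sum.elim_inl]
      rw [show x (Sum.inl (j, c)) = (E.symm (.inl (j, c))).succ from rfl, Fin.cases_succ,
        show (E.symm (.inl (j, c))).succ = x (.inl (j, c)) from rfl, hpd]
      simp only [Sum.elim_inl, vp', Bool.not_not, neg_neg]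
      rw [← hEi, E.symm_apply_apply]
    · simp only [ι, hEi, Sum.elim_inr, Fin.cases_zero, hval]
      have hsum : ∑ i : Fin n, v i * eval (Fin.cons 1 v) (pderiv i.succ f0) = 2 * Q := by
        rw [← E.symm.sum_comp, Fintype.sum_sum_type, Fintype.sum_prod_type]
        have hp : ∀ a, v (E.symm a) * eval (Fin.cons 1 v) (pderiv (E.symm a).succ f0) =
            Sum.elim vp' s a * Sum.elim (fun p => vp' (p.1, !p.2)) (fun _ => 0) a := fun a => by
          rw [show (E.symm a).succ = x a from rfl, hpd]; simp [v]
        simp only [hp, Sum.elim_inl, Sum.elim_inr, mul_zero, Finset.sum_const_zero, add_zero, Fintype.sum_bool,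
          Bool.not_true, Bool.not_false, Q, Finset.mul_sum]
        exact Finset.sum_congr rfl fun j _ => by ring
      rw [hsum, h2, zero_mul, add_zero]
      have huniq : ∑ a' : Fin r, s a' ^ 2 = s a ^ 2 := Finset.sum_eq_single a
        (fun a' _ ha' => absurd (Fin.ext (by omega)) ha') (fun hh => absurd (Finset.mem_univ a) hh)
      rw [huniq, hs a, ← hEi, E.symm_apply_apply]
      ring

theorem exists_discriminant [IsAlgClosed k] (hd : 2 ≤ d) :
    ∃ Δ : MvPolynomial (Mon n d) k, Irreducible Δ ∧ ∀ G : LefPen.Form n k d,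
      (∃ v, v ≠ 0 ∧ SingAt G.1 v) ↔ eval (coords G) Δ = 0 := by
  classical
  haveI : Infinite k := IsAlgClosed.instInfinite
  obtain ⟨z, ι, hι, hs⟩ := exists_choice (k := k) (n := n) hd
  obtain ⟨j0, hj0⟩ : ∃ j0, j0 ∉ Set.range ι := by
    by_contra hno
    push Not at hno
    have := Fintype.card_le_of_surjective ι fun j => hno j
    simp at this
  have hcover : ∀ j, j ≠ j0 → j ∈ Set.range ι := by
    intro j hj
    by_contra hn
    have h1 : (Finset.univ.image ι) ⊆ ({j, j0} : Finset (Fin (n + 1)))ᶜ := by
      intro y hy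
      obtain ⟨i, -, rfl⟩ := Finset.mem_image.mp hy
      simp only [Finset.mem_compl, Finset.mem_insert, Finset.mem_singleton, not_or]
      exact ⟨fun h => hn ⟨i, h⟩, fun h => hj0 ⟨i, h⟩⟩
    have h2 := Finset.card_le_card h1
    rw [Finset.card_image_of_injective _ hι, Finset.card_compl, Finset.card_pair hj] at h2
    simp at h2
    omega
  let low := lowMon (n := n) (d := d) (by omega : 1 ≤ d)
  let fam : High n d ⊕ Fin n → Mon n d := Sum.elim (fun e => e.1) (fun i => low (ι i))
  have hfam : Function.Injective fam := by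
    rintro (e | i) (e' | i') h
    · exact congrArg _ (Subtype.ext h)
    · exact absurd e.2 (by rw [show e.1 = low (ι i') from h]; exact lowMon_not_high hd _)
    · exact absurd e'.2 (by rw [← show low (ι i) = e'.1 from h]; exact lowMon_not_high hd _)
    · exact congrArg _ (hι (lowMon_injective hd h))
  have hne : ∀ a, fam a ≠ low j0 := by
    rintro (e | i) h
    · exact absurd e.2 (by rw [show e.1 = low j0 from h]; exact lowMon_not_high hd _)
    · exact hj0 ⟨i, lowMon_injective hd h⟩
  have hsurj : ∀ e : {e : Mon n d // e ≠ low j0}, ∃ a, fam a = e.1 := by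
    rintro ⟨e, he⟩
    rcases mon_cases hd e with h | ⟨j, hj⟩
    · exact ⟨.inl ⟨e, h⟩, rfl⟩
    · obtain ⟨i, hi⟩ := hcover j (fun h => he (by rw [hj, h]))
      exact ⟨.inr i, by show low (ι i) = e; rw [hj, hi]⟩
  choose g hg using hsurj
  have hginj : Function.Injective g := fun a b h => Subtype.ext (by rw [← hg a, ← hg b, h])
  let φ : MvPolynomial (Mon n d) k →ₐ[k] Prm k n d := aeval (par z (by omega : 1 ≤ d))
  let P : Ideal (MvPolynomial (Mon n d) k) := RingHom.ker φ
  haveI : P.IsPrime := RingHom.ker_isPrime φ
  let eqv : Mon n d ≃ Option {e : Mon n d // e ≠ low j0} := (Equiv.optionSubtypeNe (low j0)).symm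
  let Φ : MvPolynomial (Mon n d) k ≃ₐ[k] Polynomial (MvPolynomial {e : Mon n d // e ≠ low j0} k) :=
    (renameEquiv k eqv).trans (optionEquivLeft k _)
  let P' : Ideal (Polynomial (MvPolynomial {e : Mon n d // e ≠ low j0} k)) := P.comap Φ.symm
  haveI : P'.IsPrime := Ideal.comap_isPrime _ _
  have hP'0 : P' ≠ ⊥ := by
    have hcard : Fintype.card (High n d ⊕ Fin n) < Fintype.card (Mon n d) :=
      Fintype.card_lt_of_injective_of_notMem fam hfam (b := low j0) (by rintro ⟨a, ha⟩; exact hne a ha)
    obtain ⟨Q, hQ, hQ0⟩ := exists_relation (par z (by omega : 1 ≤ d)) hcard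
    intro h
    have hmem : Φ Q ∈ P' := by
      show φ (Φ.symm (Φ Q)) = 0
      rw [AlgEquiv.symm_apply_apply]; exact hQ0
    rw [h, Ideal.mem_bot, map_eq_zero_iff _ Φ.injective] at hmem
    exact hQ hmem
  have hR : ∀ r, Polynomial.C r ∈ P' → r = 0 := by
    intro r hr
    have hΦ : ∀ r, Φ (rename Subtype.val r) = Polynomial.C r := by
      intro r
      induction r using MvPolynomial.induction_on with
      | C a => simp [Φ, Polynomial.C_eq_algebraMap, IsScalarTower.algebraMap_apply k (MvPolynomial _ k) (Polynomial _)]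
      | add p q hp hq => rw [map_add, map_add, hp, hq, map_add]
      | mul_X p e hp =>
        rw [map_mul, map_mul, hp, map_mul, rename_X]
        congr 1
        have : eqv e.1 = some e := by
          rw [Equiv.apply_eq_iff_eq_symm_apply]; simp [eqv]
        simp [Φ, this]
    have h1 : φ (rename Subtype.val r) = 0 := by
      have : Φ.symm (Polynomial.C r) = rename Subtype.val r := by rw [← hΦ, AlgEquiv.symm_apply_apply]
      rw [← this]; exact hr
    have h2 := eq_zero_of_specialisation z (fun i => lowCoef z (ι i)) hs (rename g r) (by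
      rw [aeval_rename]
      simp only [φ] at h1
      rw [aeval_rename] at h1
      refine Eq.trans (congrArg (fun f => aeval f r) (funext fun e => ?_)) h1
      simp only [Function.comp_apply]
      rw [← hg e]
      rcases g e with a | i
      · exact (par_high z hd a).symm
      · exact (par_low z hd (ι i)).symm)
    exact (map_eq_zero_iff _ (rename_injective g hginj)).mp h2
  obtain ⟨D, hD, hP⟩ := exists_prime_eq_span P' hP'0 hR
  have hker : ∀ f, φ f = 0 ↔ Φ.symm D ∣ f := fun f => by
    have h1 : φ f = 0 ↔ Φ f ∈ P' := by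
      show _ ↔ φ (Φ.symm (Φ f)) = 0
      rw [AlgEquiv.symm_apply_apply]
    rw [h1, hP, Ideal.mem_span_singleton]
    refine ⟨fun h => by simpa using map_dvd Φ.symm h, fun h => by simpa using map_dvd Φ h⟩
  refine ⟨Φ.symm D, hD.irreducible.map Φ.symm, fun G => ⟨?_, fun h0 => ?_⟩⟩
  · rintro ⟨v, hv, hG⟩
    exact eval_eq_zero_of_singAt z hd _ ((hker _).mpr dvd_rfl) G v hv hG
  · by_contra hno
    push Not at hno
    obtain ⟨f, hf0, hf⟩ := exists_separating G hno
    have hφ : φ f = 0 := MvPolynomial.funext fun c => by
      obtain ⟨G', hG'⟩ := coords_surjective (k := k) (n := n) (d := d) fun e => eval c (par z (by omega) e)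
      obtain ⟨v, hv, hs'⟩ := singAt_of_param z hd G' c (fun e => (congrFun hG' e).symm)
      rw [map_zero, ← hf G' v hv hs', hG', ← aeval_eq_eval, ← aeval_eq_eval, comp_aeval_apply]
    obtain ⟨q, hq⟩ := (hker f).mp hφ
    exact hf0 (by rw [hq, map_mul, h0, zero_mul])

end helpers

/-- Over an algebraically closed field k of arbitrary characteristic, let n ≥ 1 and d ≥ 2, and call a
degree-d form G in n + 1 variables singular when there is a nonzero vector v with G(v) = 0 and all
partial derivatives ∂G/∂x_i(v) = 0 (the hypersurface G = 0 in P^n has a singular point, or G = 0).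
Then the singular forms are exactly the zero set of one irreducible polynomial function Δ on the
vector space of degree-d forms: the locus of singular hypersurfaces is an irreducible hypersurface
in the parameter space. (The published statement concerns the reduced hypersurfaces in the
projective space of degree-d forms, where the singular ones form an irreducible closed subset of
codimension one, and allows every positive degree; for d = 1 no hyperplane is singular, so this row
assumes d ≥ 2, and it is stated on the affine space of all forms.) -/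
theorem result (k : Type u) [Field k] [IsAlgClosed k]
    (n d : ℕ) (hn : 1 ≤ n) (hd : 2 ≤ d) :
    ∃ Δ : ↥(Algebra.adjoin k (Set.range (fun l : Module.Dual k (LefPen.Form n k d) => (l : LefPen.Form n k d → k)))),
      Irreducible Δ ∧ ∀ G : LefPen.Form n k d,
        (∃ v : Fin (n + 1) → k, v ≠ 0 ∧ MvPolynomial.eval v G.1 = 0 ∧
          ∀ i : Fin (n + 1), MvPolynomial.eval v (MvPolynomial.pderiv i G.1) = 0) ↔ Δ.1 G = 0 := by
  classical
  haveI : Infinite k := IsAlgClosed.instInfinite
  obtain ⟨Δ0, hirr, hiff⟩ := exists_discriminant (k := k) (n := n) hd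
  let Ψ : MvPolynomial (FanoGenLib.Mon n d) k →ₐ[k] (LefPen.Form n k d → k) :=
    Pi.algHom k _ fun G => MvPolynomial.aeval (FanoGenLib.coords G)
  have hΨ : ∀ q G, Ψ q G = MvPolynomial.eval (FanoGenLib.coords G) q := fun q G => rfl
  have hinj : Function.Injective Ψ := by
    intro p q hpq
    refine MvPolynomial.funext fun c => ?_
    obtain ⟨G, rfl⟩ := FanoGenLib.coords_surjective c
    exact congrFun hpq G
  have hrange : Ψ.range = Algebra.adjoin k
      (Set.range (fun l : Module.Dual k (LefPen.Form n k d) => (l : LefPen.Form n k d → k))) := by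
    refine le_antisymm ?_ (Algebra.adjoin_le ?_)
    · rintro _ ⟨q, rfl⟩
      exact FanoGenLib.isPolyFun_eval q
    · rintro _ ⟨l, rfl⟩
      let B : FanoGenLib.Mon n d → LefPen.Form n k d := fun b =>
        ⟨MvPolynomial.monomial b.1 1, (MvPolynomial.mem_homogeneousSubmodule d _).mpr (MvPolynomial.isHomogeneous_monomial _ b.2)⟩
      refine ⟨∑ b, MvPolynomial.C (l (B b)) * MvPolynomial.X b, funext fun G => ?_⟩
      have hG : G = ∑ b, FanoGenLib.coords G b • B b := by
        refine Subtype.ext (MvPolynomial.ext _ _ fun x => ?_)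
        simp only [Submodule.coe_sum, Submodule.coe_smul, MvPolynomial.coeff_sum, MvPolynomial.coeff_smul, B,
          MvPolynomial.coeff_monomial, smul_eq_mul, mul_ite, mul_one, mul_zero]
        by_cases hx : x.degree = d
        · rw [Finset.sum_eq_single (⟨x, hx⟩ : FanoGenLib.Mon n d) (fun b _ hb => if_neg fun h => hb (Subtype.ext h))
            (fun h => absurd (Finset.mem_univ _) h), if_pos rfl]
          rfl
        · rw [((MvPolynomial.mem_homogeneousSubmodule d _).mp G.2).coeff_eq_zero hx,
            Finset.sum_eq_zero fun (b : FanoGenLib.Mon n d) _ => if_neg fun h : b.1 = x => hx (h ▸ b.2)]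
      show MvPolynomial.eval (FanoGenLib.coords G) _ = l G
      conv_rhs => rw [hG, map_sum]
      simp only [map_sum, map_mul, MvPolynomial.eval_C, MvPolynomial.eval_X, map_smul, smul_eq_mul]
      exact Finset.sum_congr rfl fun b _ => mul_comm _ _
  let e := (AlgEquiv.ofInjective Ψ hinj).trans (Subalgebra.equivOfEq _ _ hrange)
  exact ⟨e Δ0, hirr.map e, fun G => hiff G⟩

end Groth.Agent.S14374
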