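import Groth.Statements.S14375
import Mathlib
import Groth.Agent.GeomIrred.Scheme

set_option autoImplicit false
universe u
open CategoryTheory CategoryTheory.Limits AlgebraicGeometry
open Variety

namespace Groth.Agent.S14375

/-- Let k be an algebraically closed field, F an irreducible scheme of finite type over k, and f : X → Y
a k-morphism of schemes of finite type over k with Y irreducible which is locally trivial with fibre
F: every point of Y has an open neighbourhood V such that f⁻¹(V) is isomorphic over V to V ×_k F.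
Then X is irreducible. (The published statement is for varieties, i.e. reduced separated schemes;
this row assumes neither.) -/
theorem result (k : Type u) [Field k] [IsAlgClosed k]
    {X Y F : Scheme.{u}} (qX : X ⟶ Spec (CommRingCat.of k)) (qY : Y ⟶ Spec (CommRingCat.of k))
    (qF : F ⟶ Spec (CommRingCat.of k))
    [LocallyOfFiniteType qX] [QuasiCompact qX] [LocallyOfFiniteType qY] [QuasiCompact qY]
    [LocallyOfFiniteType qF] [QuasiCompact qF] [IrreducibleSpace ↥F] [IrreducibleSpace ↥Y]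
    (f : X ⟶ Y) (hf : f ≫ qY = qX)
    (htriv : ∀ y : ↥Y, ∃ V : Y.Opens, y ∈ V ∧
      ∃ e : (↑(f ⁻¹ᵁ V) : Scheme.{u}) ≅ pullback (V.ι ≫ qY) qF, e.hom ≫ pullback.fst (V.ι ≫ qY) qF = f ∣_ V) :
    IrreducibleSpace ↥X := by
  haveI : GeometricallyIrreducible qF := Groth.Agent.GeomIrred.geometricallyIrreducible_of_irreducibleSpace qF
  have hW : ∀ V : Y.Opens, (V : Set ↥Y).Nonempty →
      (∃ e : (↑(f ⁻¹ᵁ V) : Scheme.{u}) ≅ Limits.pullback (V.ι ≫ qY) qF,
        e.hom ≫ Limits.pullback.fst (V.ι ≫ qY) qF = f ∣_ V) →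
      IsPreirreducible ((f ⁻¹ᵁ V : X.Opens) : Set ↥X) ∧ ∀ v ∈ V, ∃ x : ↥X, f x = v := by
    rintro V hne ⟨e, he⟩
    haveI : Nonempty ↥(V : Set ↥Y) := hne.to_subtype
    haveI : PreirreducibleSpace ↥(V : Set ↥Y) := Subtype.preirreducibleSpace
      ((PreirreducibleSpace.isPreirreducible_univ (X := ↥Y)).open_subset V.isOpen (Set.subset_univ _))
    haveI : IrreducibleSpace ↥V.toScheme :=
      { toPreirreducibleSpace := (inferInstance : PreirreducibleSpace ↥(V : Set ↥Y))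
        toNonempty := (inferInstance : Nonempty ↥(V : Set ↥Y)) }
    haveI : IrreducibleSpace ↥(f ⁻¹ᵁ V).toScheme :=
      e.hom.homeomorph.irreducibleSpace_iff.mpr inferInstance
    refine ⟨?_, fun v hv => ?_⟩
    · have h := (IrreducibleSpace.isIrreducible_univ ↥(f ⁻¹ᵁ V).toScheme).2.image
        (f ⁻¹ᵁ V).ι (f ⁻¹ᵁ V).ι.continuous.continuousOn
      rwa [Set.image_univ, Scheme.Opens.range_ι] at h
    · haveI : Surjective (Limits.pullback.fst (V.ι ≫ qY) qF) := inferInstance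
      obtain ⟨z, hz⟩ := (Limits.pullback.fst (V.ι ≫ qY) qF).surjective ⟨v, hv⟩
      refine ⟨(f ⁻¹ᵁ V).ι (e.inv z), ?_⟩
      have h1 : (f ∣_ V) (e.inv z) = ⟨v, hv⟩ := by
        rw [← he, ← hz, ← Scheme.Hom.comp_apply, Iso.inv_hom_id_assoc]
      have h2 := congrArg (fun φ : (f ⁻¹ᵁ V).toScheme ⟶ Y => φ (e.inv z)) (morphismRestrict_ι f V)
      simp only [Scheme.Hom.comp_apply] at h2
      rw [← h2, h1]
      rfl
  haveI hne : Nonempty ↥X := by
    obtain ⟨V, hV, h⟩ := htriv (Classical.arbitrary ↥Y)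
    exact ⟨((hW V ⟨_, hV⟩ h).2 _ hV).choose⟩
  refine { toPreirreducibleSpace := ⟨fun U U' hU hU' hne1 hne2 => ?_⟩, toNonempty := hne }
  rw [Set.univ_inter] at hne1 hne2 ⊢
  obtain ⟨x, hx⟩ := hne1
  obtain ⟨x', hx'⟩ := hne2
  obtain ⟨V, hV, hVe⟩ := htriv (f x)
  obtain ⟨V', hV', hVe'⟩ := htriv (f x')
  obtain ⟨v, hv, hv'⟩ := nonempty_preirreducible_inter V.isOpen V'.isOpen ⟨_, hV⟩ ⟨_, hV'⟩
  obtain ⟨hW1, hs1⟩ := hW V ⟨_, hV⟩ hVe
  obtain ⟨hW2, -⟩ := hW V' ⟨_, hV'⟩ hVe'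
  obtain ⟨z, hz⟩ := hs1 v hv
  obtain ⟨w, hwW, hwU, hwW'⟩ := hW1 U (f ⁻¹ᵁ V') hU (f ⁻¹ᵁ V').isOpen ⟨x, hV, hx⟩
    ⟨z, show f z ∈ V from hz ▸ hv, show f z ∈ V' from hz ▸ hv'⟩
  obtain ⟨r, -, hr1, hr2⟩ := hW2 U U' hU hU' ⟨w, hwW', hwU⟩ ⟨x', hV', hx'⟩
  exact ⟨r, hr1, hr2⟩

end Groth.Agent.S14375
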