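import Groth.Statements.S14376
import Groth.Agent.SqfreeFormLib.Basic
open MvPolynomial Groth.Agent.SqfreeFormLib
-- import your own Groth.Agent.* helpers here

set_option autoImplicit false
universe u
open Fano

namespace Groth.Agent.S14376

/-- Over an algebraically closed field k, let n ≥ 1 and d ≥ 1. In the vector space of degree-d forms in
n + 1 variables, the forms F that are squarefree (equivalently, nonzero with (F) a radical ideal:
the reduced hypersurfaces of degree d in P^n) form a Zariski-open subset, and this subset is
nonempty. (The published statement allows projective space of every dimension n; for n = 0 and d ≥ 2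
there is no squarefree form of degree d, so this row assumes n ≥ 1.) -/
theorem result (k : Type u) [Field k] [IsAlgClosed k]
    (n d : ℕ) (hn : 1 ≤ n) (hd : 1 ≤ d) :
    LefPen.IsZOpen k {F : LefPen.Form n k d | Squarefree F.1} ∧
      ({F : LefPen.Form n k d | Squarefree F.1}).Nonempty := by
  classical
  refine ⟨fun v hv => ?_, ?_⟩
  · have hvd : v.1.IsHomogeneous d := (mem_homogeneousSubmodule d _).mp v.2
    obtain ⟨a, b, hlc, hsep⟩ := exists_line (by omega) hvd hv
    let A' := Algebra.adjoin k (Set.range (fun l : Module.Dual k (LefPen.Form n k d) => (l : LefPen.Form n k d → k)))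
    let c : ℕ → A' := fun i =>
      ⟨((Polynomial.lcoeff k i).comp ((line a b).toLinearMap.comp (Submodule.subtype _)) : Module.Dual k (LefPen.Form n k d)),
        Algebra.subset_adjoin ⟨_, rfl⟩⟩
    let Q : Polynomial A' := ∑ i ∈ Finset.range (d + 1), Polynomial.monomial i (c i)
    let e : LefPen.Form n k d → A' →+* k := fun w => (Pi.evalRingHom (fun _ => k) w).comp A'.val.toRingHom
    have hdeg : ∀ w : LefPen.Form n k d, (line a b w.1).natDegree ≤ d := fun w =>
      (line_degree a b w.1 ((mem_homogeneousSubmodule d _).mp w.2).totalDegree_le).1
    have hQ : ∀ w : LefPen.Form n k d, Q.map (e w) = line a b w.1 := fun w => by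
      conv_rhs => rw [Polynomial.as_sum_range' _ (d + 1) (Nat.lt_succ_of_le (hdeg w))]
      rw [Polynomial.map_sum]
      exact Finset.sum_congr rfl fun i _ => by rw [Polynomial.map_monomial]; rfl
    let f : A' := c d * Polynomial.resultant Q Q.derivative d (d - 1)
    have hf : ∀ w, f.1 w = (line a b w.1).coeff d *
        Polynomial.resultant (line a b w.1) (line a b w.1).derivative d (d - 1) := fun w => by
      show e w (c d * Polynomial.resultant Q Q.derivative d (d - 1)) = _
      rw [map_mul, ← Polynomial.resultant_map_map, ← Polynomial.derivative_map, hQ]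
      rfl
    refine ⟨f.1, f.2, ?_, fun w hw => ?_⟩
    · rw [hf]
      exact mul_ne_zero hlc (resultant_ne_zero_of_separable (hdeg v) hlc hsep)
    · rw [hf, mul_ne_zero_iff] at hw
      exact squarefree_of_line a b ((mem_homogeneousSubmodule d _).mp w.2).totalDegree_le hw.1
        (separable_of_resultant_ne_zero (by omega) (hdeg w) hw.2)
  · haveI : Infinite k := IsAlgClosed.instInfinite
    let i1 : Fin (n + 1) := ⟨1, by omega⟩
    let c : Fin d → k := fun j => Infinite.natEmbedding k j
    have hc : Function.Injective c := fun x y h => Fin.ext ((Infinite.natEmbedding k).injective h)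
    let F : MvPolynomial (Fin (n + 1)) k := ∏ j, (X 0 - C (c j) * X i1)
    have hF : F.IsHomogeneous d := by
      have := MvPolynomial.IsHomogeneous.prod Finset.univ (fun j : Fin d => X 0 - C (c j) * X i1) (fun _ => 1)
        (fun j _ => (isHomogeneous_X k 0).sub (isHomogeneous_C_mul_X (c j) i1))
      simpa using this
    refine ⟨⟨F, (mem_homogeneousSubmodule d _).mpr hF⟩, ?_⟩
    have hline : line (fun i => if i = i1 then (1 : k) else 0) (fun i => if i = 0 then (1 : k) else 0) F =
        ∏ j, (Polynomial.X - Polynomial.C (c j)) := by
      simp only [F, map_prod, map_sub, map_mul, line_X, line_C]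
      refine Finset.prod_congr rfl fun j _ => ?_
      have h10 : i1 ≠ 0 := fun h => by simpa [i1] using congrArg Fin.val h
      simp [h10, h10.symm]
    refine squarefree_of_line (fun i => if i = i1 then (1 : k) else 0) (fun i => if i = 0 then (1 : k) else 0)
      hF.totalDegree_le ?_ ?_
    · rw [coeff_line_of_isHomogeneous _ _ hF]
      have h10 : i1 ≠ 0 := fun h => by simpa [i1] using congrArg Fin.val h
      simp [F, h10]
    · rw [hline]
      exact Polynomial.separable_prod_X_sub_C_iff.2 hc

end Groth.Agent.S14376
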