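import Groth.Statements.S8609
import Mathlib

set_option autoImplicit false
universe u
open CategoryTheory
open SGA4h

namespace Groth.Agent.S8609

noncomputable section
open TensorProduct PiTensorProduct

/-- sorted tuple -/
def srt {d n : ℕ} (p : Fin n → Fin d) : Fin n → Fin d := p ∘ Tuple.sort p

theorem srt_comp {d n : ℕ} (p : Fin n → Fin d) (σ : Equiv.Perm (Fin n)) : srt (p ∘ σ) = srt p :=
  Tuple.comp_perm_comp_sort_eq_comp_sort

theorem monotone_srt {d n : ℕ} (p : Fin n → Fin d) : Monotone (srt p) := fun _ _ h => Tuple.monotone_sort p h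

theorem srt_of_monotone {d n : ℕ} {p : Fin n → Fin d} (hp : Monotone p) : srt p = p := by
  show p ∘ Tuple.sort p = p
  rw [Tuple.sort_eq_refl_iff_monotone.mpr hp]; rfl

/-- trace on symmetric tensors in coordinates -/
def T {A : Type*} [CommRing A] {d : ℕ} (U : Matrix (Fin d) (Fin d) A) (n : ℕ) : A :=
  ∑ p : Fin n → Fin d, ∏ i, U (srt p i) (p i)

theorem T_map {A B : Type*} [CommRing A] [CommRing B] (f : A →+* B) {d : ℕ} (U : Matrix (Fin d) (Fin d) A) (n : ℕ) :
    T (U.map f) n = f (T U n) := by
  simp [T, map_sum, map_prod]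

section
variable {A : Type u} [CommRing A] {M : Type u} [AddCommGroup M] [Module A M]

abbrev Gam (A M : Type u) [CommRing A] [AddCommGroup M] [Module A M] (n : ℕ) : Submodule A (⨂[A] _i : Fin n, M) :=
  ⨅ σ : Equiv.Perm (Fin n),
    LinearMap.eqLocus ((PiTensorProduct.reindex A (fun _ : Fin n => M) σ).toLinearMap) LinearMap.id

theorem mem_Gam {n : ℕ} (x : ⨂[A] _i : Fin n, M) :
    x ∈ Gam A M n ↔ ∀ σ : Equiv.Perm (Fin n), PiTensorProduct.reindex A (fun _ : Fin n => M) σ x = x := by
  simp [Gam, Submodule.mem_iInf, LinearMap.mem_eqLocus]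

variable {d : ℕ} (b : Module.Basis (Fin d) A M)

abbrev B (n : ℕ) : Module.Basis (Fin n → Fin d) A (⨂[A] _i : Fin n, M) := Basis.piTensorProduct fun _ => b

theorem repr_reindex {n : ℕ} (σ : Equiv.Perm (Fin n)) (x : ⨂[A] _i : Fin n, M) (p : Fin n → Fin d) :
    (B b n).repr (PiTensorProduct.reindex A (fun _ : Fin n => M) σ x) p = (B b n).repr x (p ∘ σ) := by
  classical
  have : (Finsupp.lapply p).comp ((B b n).repr.toLinearMap.comp (PiTensorProduct.reindex A (fun _ : Fin n => M) σ).toLinearMap)
      = (Finsupp.lapply (p ∘ σ)).comp (B b n).repr.toLinearMap := by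
    refine (B b n).ext fun r => ?_
    simp only [LinearMap.comp_apply, LinearEquiv.coe_coe, Finsupp.lapply_apply]
    rw [Basis.piTensorProduct_apply, reindex_tprod, ← Basis.piTensorProduct_apply (fun _ : Fin n => b) r]
    rw [show (tprod A fun i => b (r (σ.symm i))) = B b n (r ∘ σ.symm) from (Basis.piTensorProduct_apply _ _).symm,
      Module.Basis.repr_self, Module.Basis.repr_self, Finsupp.single_apply, Finsupp.single_apply]
    refine if_congr ⟨fun h => ?_, fun h => ?_⟩ rfl rfl
    · rw [← h]; ext i; simp
    · rw [h]; ext i; simp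
  exact LinearMap.congr_fun this x

theorem mem_Gam_iff {n : ℕ} (x : ⨂[A] _i : Fin n, M) :
    x ∈ Gam A M n ↔ ∀ p, (B b n).repr x p = (B b n).repr x (srt p) := by
  rw [mem_Gam]
  refine ⟨fun h p => ?_, fun h σ => (B b n).ext_elem fun p => ?_⟩
  · conv_lhs => rw [← h (Tuple.sort p), repr_reindex]
    rfl
  · rw [repr_reindex, h, srt_comp, ← h]

abbrev Q (d n : ℕ) := {p : Fin n → Fin d // Monotone p}

def gamEquiv (n : ℕ) : Gam A M n ≃ₗ[A] (Q d n → A) where
  toFun x q := (B b n).repr x.1 q.1
  map_add' x y := by ext q; simp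
  map_smul' c x := by ext q; simp
  invFun c := ⟨(B b n).equivFun.symm fun p => c ⟨srt p, monotone_srt p⟩, by
    classical
    refine (mem_Gam_iff b _).mpr fun p => ?_
    simp only [← Module.Basis.equivFun_apply, LinearEquiv.apply_symm_apply]
    congr 2
    exact (srt_comp p (Tuple.sort p)).symm⟩
  left_inv x := by
    refine Subtype.ext ((B b n).ext_elem fun p => ?_)
    rw [← Module.Basis.equivFun_apply, LinearEquiv.apply_symm_apply]
    exact ((mem_Gam_iff b _).mp x.2 p).symm
  right_inv c := by
    funext q
    simp only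
    rw [← Module.Basis.equivFun_apply, LinearEquiv.apply_symm_apply]
    congr 1
    exact Subtype.ext (srt_of_monotone q.2)

variable (u : M →ₗ[A] M)

theorem repr_map {n : ℕ} (p q : Fin n → Fin d) :
    (B b n).repr (PiTensorProduct.map (fun _ : Fin n => u) (B b n p)) q =
      ∏ i, LinearMap.toMatrix b b u (q i) (p i) := by
  rw [Basis.piTensorProduct_apply, PiTensorProduct.map_tprod, Basis.piTensorProduct_repr_tprod_apply]
  simp [LinearMap.toMatrix_apply]

theorem trace_gam (n : ℕ) (γ : Gam A M n →ₗ[A] Gam A M n)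
    (hγ : ∀ x : Gam A M n, (γ x : ⨂[A] _i : Fin n, M) = PiTensorProduct.map (fun _ : Fin n => u) (x : ⨂[A] _i : Fin n, M)) :
    LinearMap.trace A _ γ = T (LinearMap.toMatrix b b u) n := by
  classical
  let β : Module.Basis (Q d n) A (Gam A M n) := Module.Basis.ofEquivFun (gamEquiv b n)
  rw [LinearMap.trace_eq_matrix_trace A β γ, Matrix.trace]
  have hq : ∀ q : Q d n, LinearMap.toMatrix β β γ q q =
      ∑ p : Fin n → Fin d, if srt p = q.1 then ∏ i, LinearMap.toMatrix b b u (q.1 i) (p i) else 0 := by
    intro q
    rw [LinearMap.toMatrix_apply]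
    show ((gamEquiv b n) (γ (β q))) q = _
    show (B b n).repr (γ (β q)).1 q.1 = _
    rw [hγ]
    have hβ : (β q).1 = ∑ p : Fin n → Fin d, (if srt p = q.1 then (1 : A) else 0) • B b n p := by
      simp only [β, Module.Basis.coe_ofEquivFun]
      show (B b n).equivFun.symm _ = _
      rw [Module.Basis.equivFun_symm_apply]
      refine Finset.sum_congr rfl fun p _ => ?_
      congr 1
      rw [Pi.single_apply]
      exact if_congr Subtype.ext_iff rfl rfl
    rw [hβ, map_sum, map_sum, Finsupp.finsetSum_apply]
    refine Finset.sum_congr rfl fun p _ => ?_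
    split_ifs with h
    · rw [one_smul, repr_map]
    · simp
  simp only [Matrix.diag, hq]
  rw [Finset.sum_comm, T]
  refine Finset.sum_congr rfl fun p _ => ?_
  rw [Finset.sum_eq_single ⟨srt p, monotone_srt p⟩, if_pos rfl]
  · intro q _ hne; exact if_neg fun h => hne (Subtype.ext h.symm)
  · simp

end

theorem T_triangular {K : Type*} [CommRing K] {d : ℕ} (U : Matrix (Fin d) (Fin d) K)
    (hU : ∀ i j, j < i → U i j = 0) (n : ℕ) :
    T U n = ∑ p : Q d n, ∏ i, U (p.1 i) (p.1 i) := by
  classical
  rw [T, ← Finset.sum_subtype (Finset.univ.filter fun p : Fin n → Fin d => Monotone p) (by simp)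
    (fun p => ∏ i, U (p i) (p i)), Finset.sum_filter]
  refine Finset.sum_congr rfl fun p _ => ?_
  split_ifs with h
  · rw [srt_of_monotone h]
  · have : ∃ i, p i < srt p i := by
      by_contra hne
      push Not at hne
      have hsum : ∑ i, ((srt p i : Fin d) : ℕ) = ∑ i, (p i : ℕ) := Equiv.sum_comp (Tuple.sort p) fun i => (p i : ℕ)
      have := (Finset.sum_eq_sum_iff_of_le fun i _ => Fin.le_def.mp (hne i)).mp hsum
      exact h (show Monotone p from (funext fun i => Fin.ext (this i (Finset.mem_univ i))) ▸ Tuple.monotone_sort p)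
    obtain ⟨i, hi⟩ := this
    exact Finset.prod_eq_zero (Finset.mem_univ i) (hU _ _ hi)

/-- complete homogeneous -/
def hs {K : Type*} [CommRing K] {d : ℕ} (l : Fin d → K) (n : ℕ) : K := ∑ p : Q d n, ∏ i, l (p.1 i)

theorem hs_succ {K : Type*} [CommRing K] {d : ℕ} (l : Fin (d + 1) → K) (n : ℕ) :
    hs l (n + 1) = hs (fun i => l i.castSucc) (n + 1) + l (Fin.last d) * hs l n := by
  classical
  rw [hs, ← Finset.sum_filter_add_sum_filter_not Finset.univ (fun p : Q (d + 1) (n + 1) => p.1 (Fin.last n) ≠ Fin.last d)]
  congr 1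
  · rw [hs]
    refine Finset.sum_bij' (fun p hp => ⟨fun i => (p.1 i).castPred (fun h => (Finset.mem_filter.mp hp).2
        (top_unique (le_of_eq h.symm |>.trans (p.2 (Fin.le_last i))))), fun i j hij => ?_⟩)
      (fun q _ => ⟨fun i => (q.1 i).castSucc, fun i j hij => Fin.castSucc_le_castSucc_iff.mpr (q.2 hij)⟩) ?_ ?_ ?_ ?_ ?_
    · exact Fin.castPred_le_castPred (hij |> fun h => p.2 h) _
    · intros; simp
    · intro q _; simp [Fin.ext_iff]; exact ((q.1 (Fin.last n)).isLt).ne
    · intro p hp; ext i; simp
    · intro q _; ext i; simp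
    · intro p hp; simp
  · rw [hs, Finset.mul_sum]
    refine Finset.sum_bij' (fun p _ => ⟨fun i => p.1 i.castSucc, fun i j hij => p.2 (Fin.castSucc_le_castSucc_iff.mpr hij)⟩)
      (fun q _ => ⟨Fin.snoc q.1 (Fin.last d), ?_⟩) ?_ ?_ ?_ ?_ ?_
    · intro i j hij
      induction j using Fin.lastCases with
      | last => rw [Fin.snoc_last]; exact Fin.le_last _
      | cast j =>
        induction i using Fin.lastCases with
        | last => exact absurd hij (not_le.mpr (Fin.castSucc_lt_last j))
        | cast i => rw [Fin.snoc_castSucc, Fin.snoc_castSucc]; exact q.2 (Fin.castSucc_le_castSucc_iff.mp hij)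
    · intros; simp
    · intro q _; simp
    · intro p hp
      refine Subtype.ext (funext fun i => ?_)
      have hl : p.1 (Fin.last n) = Fin.last d := by simpa using hp
      induction i using Fin.lastCases with
      | last => simp [hl]
      | cast i => simp
    · intro q _; ext i; simp
    · intro p hp
      have hl : p.1 (Fin.last n) = Fin.last d := by simpa using hp
      rw [Fin.prod_univ_castSucc, hl, mul_comm]

theorem hs_series {K : Type*} [CommRing K] : ∀ {d : ℕ} (l : Fin d → K),
    (∏ i, (1 - PowerSeries.C (l i) * PowerSeries.X)) * PowerSeries.mk (hs l) = 1 := by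
  intro d
  induction d with
  | zero =>
    intro l
    rw [Finset.univ_eq_empty, Finset.prod_empty, one_mul]
    ext n
    rw [PowerSeries.coeff_mk, PowerSeries.coeff_one]
    rcases n with _ | n
    · haveI : Unique (Q 0 0) := ⟨⟨⟨Fin.elim0, fun i => i.elim0⟩⟩, fun p => Subtype.ext (funext fun i => i.elim0)⟩
      simp [hs]
    · haveI : IsEmpty (Q 0 (n + 1)) := ⟨fun p => (p.1 0).elim0⟩
      simp [hs]
  | succ d ih =>
    intro l
    have key : (1 - PowerSeries.C (l (Fin.last d)) * PowerSeries.X) * PowerSeries.mk (hs l) =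
        PowerSeries.mk (hs fun i => l i.castSucc) := by
      ext n
      rw [sub_mul, one_mul, map_sub, mul_assoc, PowerSeries.coeff_C_mul]
      rcases n with _ | n
      · have h0 : ∀ (e : ℕ) (m : Fin e → K), hs m 0 = 1 := fun e m => by
          haveI : Unique (Q e 0) := ⟨⟨⟨(Fin.elim0 : Fin 0 → Fin e), fun i => i.elim0⟩⟩, fun p => Subtype.ext (funext fun i => i.elim0)⟩
          simp [hs]
        simp [PowerSeries.coeff_mk, h0]
      · rw [PowerSeries.coeff_succ_X_mul, PowerSeries.coeff_mk, PowerSeries.coeff_mk, PowerSeries.coeff_mk, hs_succ]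
        ring
    rw [Fin.prod_univ_castSucc, mul_assoc, key, ih]

theorem exists_triangular {K : Type u} [Field K] [IsAlgClosed K] : ∀ (d : ℕ) (V : Type u) [AddCommGroup V] [Module K V]
    [FiniteDimensional K V] (_ : Module.finrank K V = d) (f : V →ₗ[K] V),
    ∃ b : Module.Basis (Fin d) K V, ∀ i j, j < i → LinearMap.toMatrix b b f i j = 0 := by
  intro d
  induction d with
  | zero => intro V _ _ _ h f; exact ⟨Module.finBasisOfFinrankEq K V h, fun i => i.elim0⟩
  | succ d ih =>
    intro V _ _ _ h f
    haveI : Nontrivial V := Module.nontrivial_of_finrank_pos (R := K) (by omega)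
    obtain ⟨μ, hμ⟩ := Module.End.exists_eigenvalue f
    obtain ⟨v, hv⟩ := hμ.exists_hasEigenvector
    set N : Submodule K V := K ∙ v
    have hN : N ≤ N.comap f := Submodule.span_le.mpr (Set.singleton_subset_iff.mpr (by
      show f v ∈ N
      rw [hv.apply_eq_smul]; exact N.smul_mem μ (Submodule.mem_span_singleton_self v)))
    have hq : Module.finrank K (V ⧸ N) = d := by
      have h1 := N.finrank_quotient_add_finrank
      rw [finrank_span_singleton hv.2, h] at h1; omega
    obtain ⟨c, hc⟩ := ih (V ⧸ N) hq (N.mapQ N f hN)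
    choose w hw using fun i => N.mkQ_surjective (c i)
    let bf : Fin (d + 1) → V := Fin.cons v w
    have hsp : ⊤ ≤ Submodule.span K (Set.range bf) := by
      intro x _
      have hx : x - ∑ i, c.repr (N.mkQ x) i • w i ∈ N := by
        refine (Submodule.Quotient.mk_eq_zero N).mp ?_
        show N.mkQ _ = 0
        rw [map_sub, map_sum]
        simp only [map_smul, hw, c.sum_repr, sub_self]
      obtain ⟨a, ha⟩ := Submodule.mem_span_singleton.mp hx
      rw [show x = a • v + ∑ i, c.repr (N.mkQ x) i • w i by rw [ha, sub_add_cancel]]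
      refine add_mem (Submodule.smul_mem _ _ (Submodule.subset_span ⟨0, rfl⟩))
        (sum_mem fun i _ => Submodule.smul_mem _ _ (Submodule.subset_span ⟨i.succ, Fin.cons_succ _ _ _⟩))
    let bb := basisOfTopLeSpanOfCardEqFinrank bf hsp (by simp [h])
    have hbb : ∀ i, bb i = bf i := fun i => congrFun (coe_basisOfTopLeSpanOfCardEqFinrank _ _ _) i
    refine ⟨bb, fun i j hij => ?_⟩
    have hrepr : ∀ (x : V) (i : Fin d), bb.repr x i.succ = c.repr (N.mkQ x) i := by
      intro x i
      have : (Finsupp.lapply i.succ).comp bb.repr.toLinearMap = ((Finsupp.lapply i).comp c.repr.toLinearMap).comp N.mkQ := by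
        refine bb.ext fun j => ?_
        simp only [LinearMap.comp_apply, LinearEquiv.coe_coe, Finsupp.lapply_apply, Module.Basis.repr_self]
        rw [hbb]
        induction j using Fin.cases with
        | zero => simp [bf, show N.mkQ v = 0 from (Submodule.Quotient.mk_eq_zero N).mpr (Submodule.mem_span_singleton_self v), (Fin.succ_ne_zero i)]
        | succ j => simp [bf, hw, Finsupp.single_apply]
      exact LinearMap.congr_fun this x
    obtain ⟨i, rfl⟩ := Fin.exists_succ_eq.mpr (Fin.ne_zero_of_lt hij)
    rw [LinearMap.toMatrix_apply, hrepr, hbb]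
    induction j using Fin.cases with
    | zero =>
      show c.repr (N.mkQ (f v)) i = 0
      rw [show N.mkQ (f v) = 0 from (Submodule.Quotient.mk_eq_zero N).mpr (hN (Submodule.mem_span_singleton_self v))]
      simp
    | succ j =>
      show c.repr (N.mkQ (f (w j))) i = 0
      have h2 := hc i j (Fin.succ_lt_succ_iff.mp hij)
      rw [LinearMap.toMatrix_apply, ← hw j] at h2
      exact h2

theorem field_case {K : Type u} [Field K] [IsAlgClosed K] {d : ℕ} (U : Matrix (Fin d) (Fin d) K) :
    (U.charpolyRev : PowerSeries K) * PowerSeries.mk (T U) = 1 := by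
  classical
  let f : (Fin d → K) →ₗ[K] (Fin d → K) := Matrix.toLin' U
  obtain ⟨b, hb⟩ := exists_triangular d (Fin d → K) (by simp) f
  set W := LinearMap.toMatrix b b f with hW
  have hUf : LinearMap.toMatrix (Pi.basisFun K (Fin d)) (Pi.basisFun K (Fin d)) f = U := by
    rw [LinearMap.toMatrix_eq_toMatrix']; exact LinearMap.toMatrix'_toLin' U
  have hT : ∀ n, T U n = hs (fun i => W i i) n := by
    intro n
    have hmem : ∀ x ∈ Gam K (Fin d → K) n, PiTensorProduct.map (fun _ : Fin n => f) x ∈ Gam K (Fin d → K) n := by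
      intro x hx
      rw [mem_Gam] at hx ⊢
      intro σ
      have h2 : (PiTensorProduct.reindex K (fun _ : Fin n => Fin d → K) σ).toLinearMap ∘ₗ PiTensorProduct.map (fun _ : Fin n => f) =
          PiTensorProduct.map (fun _ : Fin n => f) ∘ₗ (PiTensorProduct.reindex K (fun _ : Fin n => Fin d → K) σ).toLinearMap := by
        ext g; simp [reindex_tprod]
      have h3 := LinearMap.congr_fun h2 x
      simp only [LinearMap.comp_apply, LinearEquiv.coe_coe, hx σ] at h3
      exact h3
    let γ := (PiTensorProduct.map (fun _ : Fin n => f)).restrict hmem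
    conv_lhs => rw [← hUf]
    rw [← trace_gam (Pi.basisFun K (Fin d)) f n γ (fun x => rfl), trace_gam b f n γ (fun x => rfl), T_triangular _ hb]
    rfl
  have hdet : U.charpolyRev = W.charpolyRev := by
    rw [← Matrix.reverse_charpoly, ← Matrix.reverse_charpoly, ← hUf, LinearMap.charpoly_toMatrix, LinearMap.charpoly_toMatrix]
  have hW' : W.charpolyRev = ∏ i, (1 - Polynomial.C (W i i) * Polynomial.X) := by
    rw [Matrix.charpolyRev, Matrix.det_of_upperTriangular]
    · refine Finset.prod_congr rfl fun i _ => ?_
      simp [Polynomial.X_mul_C]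
    · intro i j hij
      have hij' : j < i := hij
      simp [hb i j hij', ne_of_gt hij']
  rw [show PowerSeries.mk (T U) = PowerSeries.mk (hs fun i => W i i) from congrArg _ (funext hT), hdet, hW',
    ← hs_series (fun i => W i i)]
  congr 1
  rw [← Polynomial.coeToPowerSeries.ringHom_apply, map_prod]
  simp

theorem charpolyRev_map {R S : Type*} [CommRing R] [CommRing S] (f : R →+* S) {d : ℕ} (U : Matrix (Fin d) (Fin d) R) :
    (U.map f).charpolyRev = U.charpolyRev.map f := by
  rw [Matrix.charpolyRev, Matrix.charpolyRev, ← Polynomial.coe_mapRingHom, RingHom.map_det]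
  congr 1
  ext i j
  by_cases h : i = j <;> simp [h, Matrix.one_apply]

theorem general_case {A : Type u} [CommRing A] {d : ℕ} (U : Matrix (Fin d) (Fin d) A) :
    (U.charpolyRev : PowerSeries A) * PowerSeries.mk (T U) = 1 := by
  classical
  let R := MvPolynomial (Fin d × Fin d) ℤ
  let K := AlgebraicClosure (FractionRing R)
  let j : R →+* K := (algebraMap (FractionRing R) K).comp (algebraMap R (FractionRing R))
  let G : Matrix (Fin d) (Fin d) R := Matrix.mvPolynomialX (Fin d) (Fin d) ℤ
  have hinj : Function.Injective (PowerSeries.map j) := by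
    intro x y hxy
    refine PowerSeries.ext fun n => ?_
    apply (algebraMap (FractionRing R) K).injective.comp (IsFractionRing.injective R (FractionRing R))
    have := congrArg (PowerSeries.coeff n) hxy
    simpa [j] using this
  have key : ∀ {S : Type} {S' : Type u} [CommRing S] [CommRing S'] (f : S →+* S') (V : Matrix (Fin d) (Fin d) S),
      PowerSeries.map f ((V.charpolyRev : PowerSeries S) * PowerSeries.mk (T V)) =
        ((V.map f).charpolyRev : PowerSeries S') * PowerSeries.mk (T (V.map f)) := by
    intro S S' _ _ f V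
    rw [map_mul, charpolyRev_map, Polynomial.polynomial_map_coe]
    congr 1
    ext n
    simp [T_map]
  have hR : (G.charpolyRev : PowerSeries R) * PowerSeries.mk (T G) = 1 := by
    apply hinj
    have h1 : PowerSeries.map j ((G.charpolyRev : PowerSeries R) * PowerSeries.mk (T G)) =
        ((G.map j).charpolyRev : PowerSeries K) * PowerSeries.mk (T (G.map j)) := by
      rw [map_mul, charpolyRev_map, Polynomial.polynomial_map_coe]
      congr 1
      ext n
      simp [T_map]
    rw [h1, field_case, map_one]
  let φ : R →+* A := MvPolynomial.eval₂Hom (Int.castRingHom A) fun p => U p.1 p.2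
  have hU : G.map φ = U := by
    ext a b
    show φ (MvPolynomial.X (a, b)) = _
    exact MvPolynomial.eval₂Hom_X' _ _ _
  have := congrArg (PowerSeries.map φ) hR
  rwa [key φ G, hU, map_one] at this

theorem detOneSub_eq {A : Type u} [CommRing A] (M : Type u) [AddCommGroup M] [Module A M] [Module.Free A M]
    [Module.Finite A M] {d : ℕ} (b : Module.Basis (Fin d) A M) (u : M →ₗ[A] M) :
    SGA4h.detOneSub (ModuleCat.of A M) (ModuleCat.ofHom u) = (LinearMap.toMatrix b b u).charpolyRev := by
  classical
  let bX := Algebra.TensorProduct.basis (Polynomial A) b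
  show LinearMap.det (LinearMap.id - (Polynomial.X : Polynomial A) • u.baseChange (Polynomial A)) = _
  rw [← LinearMap.det_toMatrix bX, Matrix.charpolyRev]
  congr 1
  ext i j : 1
  rw [LinearMap.toMatrix_apply, LinearMap.sub_apply, LinearMap.smul_apply, LinearMap.id_apply,
    Algebra.TensorProduct.basis_apply, LinearMap.baseChange_tmul, Matrix.sub_apply, Matrix.smul_apply,
    Matrix.map_apply, LinearMap.toMatrix_apply]
  erw [map_sub, map_smul]
  simp [Algebra.TensorProduct.basis_repr_tmul, Matrix.one_apply, bX, Finsupp.single_apply, eq_comm]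

end

open TensorProduct PiTensorProduct Polynomial in
/-- The case of a module placed in degree 0: let A be a commutative ring, M a finite free A-module and u
an endomorphism of M. For each n let Γ^n M be the submodule of the n-fold tensor power of M fixed by
all permutations of the factors (symmetric tensors) and γ_n the endomorphism of Γ^n M induced by the
n-fold tensor power of u. Then the power series Σ_n Tr(γ_n) t^n is the inverse of the polynomial
det(1 - u t, M): their product is 1 in A[[t]]. (The published statement allows M projective of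
finite type; this row takes M free, where the trace of Γ^n M is the usual one.) -/
theorem result {A : Type u} [CommRing A] (M : Type u) [AddCommGroup M]
    [Module A M] [Module.Free A M] [Module.Finite A M] (u : M →ₗ[A] M)
    (γ : ∀ n : ℕ, ↥(⨅ σ : Equiv.Perm (Fin n),
        LinearMap.eqLocus ((PiTensorProduct.reindex A (fun _ : Fin n => M) σ).toLinearMap) LinearMap.id) →ₗ[A]
      ↥(⨅ σ : Equiv.Perm (Fin n),
        LinearMap.eqLocus ((PiTensorProduct.reindex A (fun _ : Fin n => M) σ).toLinearMap) LinearMap.id))
    (hγ : ∀ (n : ℕ) (x : ↥(⨅ σ : Equiv.Perm (Fin n),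
        LinearMap.eqLocus ((PiTensorProduct.reindex A (fun _ : Fin n => M) σ).toLinearMap) LinearMap.id)),
      (↑(γ n x) : ⨂[A] _i : Fin n, M) = PiTensorProduct.map (fun _ : Fin n => u) (↑x : ⨂[A] _i : Fin n, M)) :
    (↑(SGA4h.detOneSub (ModuleCat.of A M) (ModuleCat.ofHom u)) : PowerSeries A) *
      PowerSeries.mk (fun n => LinearMap.trace A _ (γ n)) = 1 := by
  classical
  let b := (Module.Free.chooseBasis A M).reindex (Fintype.equivFin _)
  rw [detOneSub_eq M b u, show PowerSeries.mk (fun n => LinearMap.trace A _ (γ n)) =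
    PowerSeries.mk (T (LinearMap.toMatrix b b u)) from congrArg _ (funext fun n => trace_gam b u n (γ n) (hγ n))]
  exact general_case _

end Groth.Agent.S8609
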