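import Groth.Statements.S14377
import Groth.Agent.S8609
import Groth.Agent.RegLocLib.AffineDim
import Groth.Agent.SMT.Dimension

set_option autoImplicit false
universe u
open Variety

namespace Groth.Agent.S14377

open MvPolynomial

theorem adjConj_pow {D : Type*} [CommRing D] {n : ℕ} (G U : Matrix (Fin n) (Fin n) D) (m : ℕ) :
    (G.adjugate * U * G) ^ (m + 1) = G.det ^ m • (G.adjugate * U ^ (m + 1) * G) := by
  induction m with
  | zero => simp
  | succ m ih =>
    rw [pow_succ, ih, Matrix.smul_mul, pow_succ G.det m, ← smul_smul]
    congr 1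
    calc G.adjugate * U ^ (m + 1) * G * (G.adjugate * U * G)
        = G.adjugate * U ^ (m + 1) * (G * G.adjugate) * U * G := by simp only [Matrix.mul_assoc]
      _ = G.det • (G.adjugate * U ^ (m + 1 + 1) * G) := by
          rw [Matrix.mul_adjugate, Matrix.mul_smul, Matrix.smul_mul, Matrix.smul_mul, Matrix.mul_one, pow_succ U (m + 1)]
          simp only [Matrix.mul_assoc]

theorem pow_strict_upper {D : Type*} [CommRing D] {n : ℕ} (U : Matrix (Fin n) (Fin n) D)
    (h : ∀ i j, j ≤ i → U i j = 0) : U ^ n = 0 := by
  have hbt : U.IsUpperTriangular := fun i j hij => h i j (le_of_lt hij)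
  have hc : U.charpoly = Polynomial.X ^ n := by
    rw [Matrix.charpoly_of_upperTriangular U hbt]
    simp [h]
  simpa [hc] using Matrix.aeval_self_charpoly U

theorem charpoly_nilpotent {D : Type*} [CommRing D] [IsDomain D] {n : ℕ} (M : Matrix (Fin n) (Fin n) D) (h : IsNilpotent M) :
    M.charpoly = Polynomial.X ^ n := by
  have h1 := (Matrix.isNilpotent_charpoly_sub_pow_of_isNilpotent h).eq_zero
  simpa [sub_eq_zero] using h1

theorem height_max {k : Type u} {σ : Type} [Field k] [Fintype σ] (P : Ideal (MvPolynomial σ k)) [P.IsMaximal] :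
    P.height = Fintype.card σ := by
  let e := (MvPolynomial.renameEquiv k (Fintype.equivFin σ)).toRingEquiv
  rw [← e.height_map P]
  exact Groth.Agent.RegLocLib.height_eq_of_isMaximal_mvPolynomial k _ _ (Ideal.map_isMaximal_of_equiv e)

/-- Over an algebraically closed field k, let n ≥ 1 and let I be the ideal of the polynomial ring
k[x_ij] in the n² entries of the generic n × n matrix generated by the coefficients of t^0, …,
t^(n−1) in its characteristic polynomial, so that the zero locus of I in the affine space of n × n
matrices is the set of nilpotent matrices. Then the spectrum of k[x_ij]/I is irreducible and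
k[x_ij]/I has Krull dimension n² − n: the nilpotent matrices form an irreducible closed subvariety
of dimension n² − n of the space of all n × n matrices. -/
theorem result (k : Type u) [Field k] [IsAlgClosed k]
    (n : ℕ) (hn : 1 ≤ n) (I : Ideal (MvPolynomial (Fin n × Fin n) k))
    (hI : I = Ideal.span (Set.range (fun i : Fin n =>
      (Matrix.charpoly (Matrix.mvPolynomialX (Fin n) (Fin n) k)).coeff (i : ℕ)))) :
    IrreducibleSpace (PrimeSpectrum (MvPolynomial (Fin n × Fin n) k ⧸ I)) ∧
      ringKrullDim (MvPolynomial (Fin n × Fin n) k ⧸ I) = ((n ^ 2 - n : ℕ) : WithBot ℕ∞) := by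
  classical
  let S := MvPolynomial (Fin n × Fin n) k
  let D := MvPolynomial ((Fin n × Fin n) ⊕ (Fin n × Fin n)) k
  let G : Matrix (Fin n) (Fin n) D := fun i j => X (Sum.inl (i, j))
  let U : Matrix (Fin n) (Fin n) D := fun i j => if i < j then X (Sum.inr (i, j)) else 0
  let Mg : Matrix (Fin n) (Fin n) D := G.adjugate * U * G
  let φ : S →ₐ[k] D := aeval fun p => Mg p.1 p.2
  have hMg : IsNilpotent Mg := by
    refine ⟨n, ?_⟩
    obtain ⟨m, hm⟩ := Nat.exists_eq_add_of_le' hn
    subst hm
    rw [adjConj_pow, pow_strict_upper U (fun i j hij => if_neg (not_lt.2 hij))]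
    simp
  have hgen : ∀ {T : Type u} [CommRing T] [Algebra k T] (ψ : S →ₐ[k] T),
      (Matrix.mvPolynomialX (Fin n) (Fin n) k).charpoly.map ψ.toRingHom =
        (Matrix.of fun i j => ψ (X (i, j))).charpoly := fun ψ => by
    rw [← Matrix.charpoly_map]
    rfl
  have hIker : I ≤ RingHom.ker φ.toRingHom := by
    rw [hI, Ideal.span_le]
    rintro _ ⟨i, rfl⟩
    rw [SetLike.mem_coe, RingHom.mem_ker, ← Polynomial.coeff_map, hgen φ]
    have : (Matrix.of fun i j => φ (X (i, j))) = Mg := Matrix.ext fun i j => aeval_X (fun p : Fin n × Fin n => Mg p.1 p.2) (i, j)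
    rw [this, charpoly_nilpotent Mg hMg, Polynomial.coeff_X_pow, if_neg (ne_of_lt i.2)]
  have hkerI : RingHom.ker φ.toRingHom ≤ I.radical := by
    intro f hf
    rw [← MvPolynomial.vanishingIdeal_zeroLocus_eq_radical (K := k)]
    intro x hx
    let M : Matrix (Fin n) (Fin n) k := Matrix.of fun i j => x (i, j)
    have hM : IsNilpotent M := by
      have hcp : M.charpoly = Polynomial.X ^ n := by
        ext i
        rw [Polynomial.coeff_X_pow]
        rcases lt_trichotomy i n with hi | hi | hi
        · rw [if_neg (ne_of_lt hi)]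
          have hh := hgen (aeval x : S →ₐ[k] k)
          have : (Matrix.of fun i j => (aeval x : S →ₐ[k] k) (X (i, j))) = M := by ext i j; simp [M]
          rw [← this, ← hh, Polynomial.coeff_map]
          exact hx _ (hI ▸ Ideal.subset_span ⟨⟨i, hi⟩, rfl⟩)
        · rw [if_pos hi, hi]
          have h1 := M.charpoly_monic.coeff_natDegree
          rwa [Matrix.charpoly_natDegree_eq_dim, Fintype.card_fin] at h1
        · rw [if_neg (ne_of_gt hi)]
          refine Polynomial.coeff_eq_zero_of_natDegree_lt ?_
          rw [Matrix.charpoly_natDegree_eq_dim, Fintype.card_fin]; exact hi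
      refine ⟨n, ?_⟩
      simpa [hcp] using Matrix.aeval_self_charpoly M
    obtain ⟨b, hb⟩ := Groth.Agent.S8609.exists_triangular n (Fin n → k) (by simp) (Matrix.toLin' M)
    set W := LinearMap.toMatrix b b (Matrix.toLin' M) with hW
    let P := (Pi.basisFun k (Fin n)).toMatrix b
    let Q := b.toMatrix (Pi.basisFun k (Fin n))
    have hPQ : P * Q = 1 := Module.Basis.toMatrix_mul_toMatrix_flip _ _
    have hQP : Q * P = 1 := Module.Basis.toMatrix_mul_toMatrix_flip _ _
    have hPWQ : P * W * Q = M := by
      rw [hW]
      rw [basis_toMatrix_mul_linearMap_toMatrix_mul_basis_toMatrix, LinearMap.toMatrix_eq_toMatrix', LinearMap.toMatrix'_toLin']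
    have hWnil : IsNilpotent W := by
      obtain ⟨N, hN⟩ := hM
      refine ⟨N, ?_⟩
      show (LinearMap.toMatrixAlgEquiv b (Matrix.toLinAlgEquiv' M)) ^ N = 0
      rw [← map_pow, ← map_pow, hN, map_zero, map_zero]
    have hW0 : ∀ i j, j ≤ i → W i j = 0 := by
      intro i j hij
      rcases lt_or_eq_of_le hij with h | h
      · exact hb i j h
      · subst h
        have h1 := charpoly_nilpotent W hWnil
        rw [Matrix.charpoly_of_upperTriangular W (fun a c hac => hb a c hac)] at h1
        have h2 := congrArg (Polynomial.eval (W j j)) h1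
        rw [Polynomial.eval_prod, Finset.prod_eq_zero (Finset.mem_univ j) (by simp), Polynomial.eval_pow, Polynomial.eval_X] at h2
        exact eq_zero_of_pow_eq_zero h2.symm
    have hd : Q.det ≠ 0 := left_ne_zero_of_mul_eq_one (by rw [← Matrix.det_mul, hQP, Matrix.det_one] : Q.det * P.det = 1)
    let pt : (Fin n × Fin n) ⊕ (Fin n × Fin n) → k := Sum.elim (fun p => Q p.1 p.2) (fun p => Q.det⁻¹ * W p.1 p.2)
    have hpt : Mg.map (aeval pt : D →ₐ[k] k) = M := by
      show ((aeval pt : D →ₐ[k] k).toRingHom.mapMatrix) (G.adjugate * U * G) = M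
      rw [map_mul, map_mul, RingHom.map_adjugate]
      have hG : (aeval pt : D →ₐ[k] k).toRingHom.mapMatrix G = Q := by
        refine Matrix.ext fun i j => ?_
        show (aeval pt : D →ₐ[k] k) (X (Sum.inl (i, j))) = _
        simp [pt]
      have hU : (aeval pt : D →ₐ[k] k).toRingHom.mapMatrix U = Q.det⁻¹ • W := by
        refine Matrix.ext fun i j => ?_
        show (aeval pt : D →ₐ[k] k) (if i < j then X (Sum.inr (i, j)) else 0) = _
        by_cases hij : i < j
        · simp [pt, hij]
        · simp [hij, hW0 i j (not_lt.1 hij)]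
      rw [hG, hU]
      have hadj : Q.adjugate = Q.det • P := by
        calc Q.adjugate = Q.adjugate * (Q * P) := by rw [hQP, Matrix.mul_one]
          _ = Q.det • P := by rw [← Matrix.mul_assoc, Matrix.adjugate_mul, Matrix.smul_mul, Matrix.one_mul]
      rw [hadj, Matrix.smul_mul, Matrix.mul_smul, smul_smul, mul_inv_cancel₀ hd, one_smul, hPWQ]
    have hcomp : (aeval pt : D →ₐ[k] k).comp φ = aeval x := by
      refine MvPolynomial.algHom_ext fun p => ?_
      simp only [φ, AlgHom.comp_apply, aeval_X]
      exact congrFun (congrFun hpt p.1) p.2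
    rw [← hcomp, AlgHom.comp_apply, show φ f = 0 from hf, map_zero]
  have hrad : I.radical = RingHom.ker φ.toRingHom :=
    le_antisymm ((Ideal.IsPrime.isRadical (RingHom.ker_isPrime φ.toRingHom)).radical_le_iff.2 hIker) hkerI
  haveI : (RingHom.ker φ.toRingHom).IsPrime := RingHom.ker_isPrime φ.toRingHom
  refine ⟨?_, ?_⟩
  · rw [PrimeSpectrum.irreducibleSpace_iff_isPrime_nilradical]
    have : nilradical (S ⧸ I) = (RingHom.ker φ.toRingHom).map (Ideal.Quotient.mk I) := by
      rw [← hrad, Ideal.map_radical_of_surjective Ideal.Quotient.mk_surjective (by rw [Ideal.mk_ker]), Ideal.map_quotient_self]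
      rfl
    rw [this]
    exact Ideal.map_isPrime_of_surjective Ideal.Quotient.mk_surjective (by rw [Ideal.mk_ker]; exact hIker)
  refine le_antisymm ?_ ?_
  · -- upper bound
    rw [ringKrullDim_quotient, ← PrimeSpectrum.zeroLocus_radical, ← ringKrullDim_quotient, hrad,
      ringKrullDim_eq_of_ringEquiv (RingHom.quotientKerEquivRange φ.toRingHom)]
    let σ := {p : Fin n × Fin n // p.1 ≠ p.2}
    let D' := φ.toRingHom.range
    let ψ : MvPolynomial σ k →+* D' := φ.toRingHom.rangeRestrict.comp (rename (R := k) Subtype.val).toRingHom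
    letI := ψ.toAlgebra
    haveI : Algebra.IsIntegral (MvPolynomial σ k) D' := by
      let K := FractionRing D
      let ι : D →+* K := algebraMap D K
      let Mk : Matrix (Fin n) (Fin n) K := Mg.map ι
      have hMk : IsNilpotent Mk := hMg.map ι.mapMatrix
      have hdiag : ∀ (V : ValuationSubring K), (∀ i j, i ≠ j → Mk i j ∈ V) → ∀ i, Mk i i ∈ V := by
        intro V hoff i
        by_contra hi
        obtain ⟨j, -, hj⟩ := Finset.exists_max_image Finset.univ (fun j => V.valuation (Mk j j)) ⟨i, Finset.mem_univ i⟩
        have hj1 : 1 < V.valuation (Mk j j) :=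
          lt_of_lt_of_le (lt_of_not_ge fun h => hi ((V.valuation_le_one_iff _).1 h)) (hj i (Finset.mem_univ i))
        have hj0 : Mk j j ≠ 0 := fun h => by rw [h, map_zero] at hj1; exact not_lt_zero' hj1
        let c := (Mk j j)⁻¹
        have hc : V.valuation c < 1 := by
          rw [map_inv₀]; exact inv_lt_one_of_one_lt₀ hj1
        have hmem : ∀ a b, c * Mk a b ∈ V := by
          intro a b
          rw [← V.valuation_le_one_iff, map_mul]
          by_cases hab : a = b
          · subst hab
            rw [map_inv₀, inv_mul_le_iff₀ (zero_lt_one.trans hj1), mul_one]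
            exact hj a (Finset.mem_univ a)
          · exact mul_le_one' hc.le ((V.valuation_le_one_iff _).2 (hoff a b hab))
        let MV : Matrix (Fin n) (Fin n) V := fun a b => ⟨c * Mk a b, hmem a b⟩
        have hMV : IsNilpotent MV := by
          obtain ⟨N, hN⟩ := hMk
          refine ⟨N, ?_⟩
          have hinj : Function.Injective (V.subtype.mapMatrix (m := Fin n)) := fun A B h => by
            ext a b; exact congrFun (congrFun h a) b
          apply hinj
          rw [map_pow, map_zero, show V.subtype.mapMatrix MV = c • Mk from rfl, smul_pow, hN, smul_zero]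
        let res := IsLocalRing.residue V
        have hres : res.mapMatrix MV = Matrix.diagonal fun a => res (MV a a) := by
          ext a b
          by_cases hab : a = b
          · subst hab; simp
          · rw [Matrix.diagonal_apply_ne _ hab]
            show res (MV a b) = 0
            rw [IsLocalRing.residue_eq_zero_iff, ValuationSubring.valuation_lt_one_iff]
            show V.valuation (c * Mk a b) < 1
            rw [map_mul]
            exact mul_lt_one_of_lt_of_le hc ((V.valuation_le_one_iff _).2 (hoff a b hab))
        obtain ⟨N, hN⟩ := hMV.map res.mapMatrix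
        rw [hres, Matrix.diagonal_pow] at hN
        have h1 := congrFun (congrFun hN j) j
        rw [Matrix.diagonal_apply_eq] at h1
        have : MV j j = 1 := Subtype.ext (inv_mul_cancel₀ hj0)
        simp [this] at h1
      let R₀ : Subalgebra (MvPolynomial σ k) D' := integralClosure _ _
      refine ⟨fun y => ?_⟩
      have hgens : ∀ p, IsIntegral (MvPolynomial σ k) (φ.toRingHom.rangeRestrict (X p : S)) := by
        intro p
        by_cases hp : p.1 = p.2
        · let s : Set K := Set.range fun y : MvPolynomial σ k => ι (ψ y : D)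
          have hy : ι (Mg p.1 p.2) ∈ (integralClosure (Subring.closure s) K).toSubring := by
            rw [← iInf_valuationSubring_superset, Subring.mem_iInf]
            rintro ⟨V, hV⟩
            show Mk p.1 p.2 ∈ V
            rw [hp]
            refine hdiag V (fun a b hab => hV ⟨X ⟨(a, b), hab⟩, ?_⟩) _
            show ι (φ (rename Subtype.val (X ⟨(a, b), hab⟩ : MvPolynomial σ k))) = ι (Mg a b)
            rw [rename_X]
            exact congrArg ι (aeval_X _ _)
          let χ : MvPolynomial σ k →+* K := ι.comp (D'.subtype.comp ψ)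
          have hs : Subring.closure s = χ.range := by
            rw [show s = ↑χ.range from rfl, Subring.closure_eq]
          rw [hs] at hy
          obtain ⟨q, hqm, hq⟩ := hy
          obtain ⟨q', hq'm, -, hq'd⟩ := Polynomial.lifts_and_degree_eq_and_monic
            (f := χ.rangeRestrict) (p := q) (Polynomial.map_surjective _ χ.rangeRestrict_surjective q) hqm
          refine ⟨q', hq'd, ?_⟩
          have hinj : Function.Injective (ι.comp D'.subtype) := (IsFractionRing.injective D K).comp Subtype.val_injective
          apply hinj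
          rw [map_zero, Polynomial.hom_eval₂]
          refine Eq.trans ?_ hq
          rw [← hq'm, Polynomial.eval₂_map]
          congr 1
          exact congrArg ι (aeval_X _ _)
        · have : φ.toRingHom.rangeRestrict (X p : S) = algebraMap (MvPolynomial σ k) D' (X ⟨p, hp⟩) := by
            apply Subtype.ext
            show φ (X p) = φ (rename Subtype.val (X ⟨p, hp⟩ : MvPolynomial σ k))
            rw [rename_X]
          rw [this]; exact isIntegral_algebraMap
      obtain ⟨f, rfl⟩ := φ.toRingHom.rangeRestrict_surjective y
      induction f using MvPolynomial.induction_on with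
      | C a =>
        have : φ.toRingHom.rangeRestrict (C a : S) = algebraMap (MvPolynomial σ k) D' (C a) := by
          apply Subtype.ext
          show φ (C a) = φ (rename Subtype.val (C a : MvPolynomial σ k))
          rw [rename_C]
        rw [this]; exact isIntegral_algebraMap
      | add f g hf hg => rw [map_add]; exact hf.add hg
      | mul_X f p hf => rw [map_mul]; exact hf.mul (hgens p)
    refine (Groth.Agent.SMT.ringKrullDim_le_of_isIntegral (P := MvPolynomial σ k)).trans ?_
    rw [MvPolynomial.ringKrullDim_of_isNoetherianRing, ringKrullDim_eq_zero_of_field, zero_add]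
    have hcard : Nat.card σ = n ^ 2 - n := by
      rw [Nat.card_eq_fintype_card, Fintype.card_subtype_compl, Fintype.card_prod, Fintype.card_fin]
      have : Fintype.card {p : Fin n × Fin n // p.1 = p.2} = n := by
        refine (Fintype.card_congr (β := Fin n) ⟨fun p => p.1.1, fun i => ⟨(i, i), rfl⟩, fun p => Subtype.ext (Prod.ext rfl p.2), fun _ => rfl⟩).trans (Fintype.card_fin n)
      rw [this, sq]
    rw [hcard]
  · -- lower bound
    let m : Ideal (MvPolynomial (Fin n × Fin n) k) := RingHom.ker (aeval (fun _ => (0 : k)) : S →ₐ[k] k).toRingHom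
    haveI : m.IsMaximal := RingHom.ker_isMaximal_of_surjective _ fun a => ⟨C a, aeval_C _ a⟩
    have hm := height_max (k := k) (σ := Fin n × Fin n) m
    let s : Set S := Set.range fun i : Fin n => (Matrix.mvPolynomialX (Fin n) (Fin n) k).charpoly.coeff (i : ℕ)
    have hsm : s ⊆ m := by
      rintro _ ⟨i, rfl⟩
      rw [SetLike.mem_coe, RingHom.mem_ker, ← Polynomial.coeff_map, hgen]
      have : (Matrix.of fun i j => (aeval (fun _ => (0 : k)) : S →ₐ[k] k) (X (i, j))) = 0 := by ext i j; simp
      rw [this, charpoly_nilpotent 0 IsNilpotent.zero, Polynomial.coeff_X_pow, if_neg (ne_of_lt i.2)]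
    have h1 := Ideal.height_le_ringKrullDim_quotient_add_encard s hsm
    have h2 : s.encard ≤ n := by
      rw [show s = (fun i : Fin n => (Matrix.mvPolynomialX (Fin n) (Fin n) k).charpoly.coeff (i : ℕ)) '' Set.univ from Set.image_univ.symm]
      exact (Set.encard_image_le _ _).trans (by simp)
    rw [hm, Fintype.card_prod, Fintype.card_fin, show Ideal.span s = I from hI.symm] at h1
    have h3 : ((n * n : ℕ) : WithBot ℕ∞) ≤ ringKrullDim (S ⧸ I) + ((n : ℕ∞) : WithBot ℕ∞) :=
      le_trans (by exact_mod_cast h1) (add_le_add le_rfl (WithBot.coe_le_coe.2 h2))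
    revert h3
    generalize ringKrullDim (S ⧸ I) = d
    intro h3
    induction d with
    | bot =>
      rw [WithBot.bot_add, le_bot_iff] at h3
      exact absurd h3 (WithBot.natCast_ne_bot _)
    | coe d =>
      induction d with
      | top => exact WithBot.coe_le_coe.2 le_top
      | coe d =>
        have : n * n ≤ d + n := by exact_mod_cast h3
        rw [sq]
        exact WithBot.coe_le_coe.2 (Nat.cast_le.2 (show n * n - n ≤ d by omega))

end Groth.Agent.S14377
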