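import Groth.Statements.S14378
import Groth.Agent.DimFibreLib.Main

set_option autoImplicit false
universe u
open CategoryTheory CategoryTheory.Limits AlgebraicGeometry
open Variety

namespace Groth.Agent.S14378

open TopologicalSpace

section
variable {k : Type u} [Field k] {X Y : Scheme.{u}} (qX : X ⟶ Spec (CommRingCat.of k))
  (qY : Y ⟶ Spec (CommRingCat.of k))
  [LocallyOfFiniteType qX] [QuasiCompact qX] [LocallyOfFiniteType qY] [QuasiCompact qY]
  (f : X ⟶ Y) (hf : f ≫ qY = qX) (d : ℕ)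
  (hirr : ∀ y : Y, IsClosed ({y} : Set Y) → IsIrreducible (f.base ⁻¹' {y}))
  (hdim : ∀ y : Y, IsClosed ({y} : Set Y) → topologicalKrullDim ↥(f.base ⁻¹' {y}) = d)

include hirr hdim hf in
/-- Over a closed irreducible subset of the base there is a closed irreducible set of full fibres. -/
theorem exists_over (W : Set Y) (hWc : IsClosed W) (hWi : IsIrreducible W) :
    ∃ Z₀ : Set X, IsClosed Z₀ ∧ IsIrreducible Z₀ ∧ closure (f '' Z₀) = W ∧
      topologicalKrullDim ↥Z₀ = (d : WithBot ℕ∞) + topologicalKrullDim ↥W ∧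
      ∀ y ∈ f '' Z₀, IsClosed ({y} : Set Y) → f.base ⁻¹' {y} ⊆ Z₀ := by
  let I := Scheme.IdealSheafData.vanishingIdeal (⟨W, hWc⟩ : Closeds Y)
  let i := I.subschemeι
  have hri : Set.range i = W := by
    show Set.range I.subschemeι = W
    rw [Scheme.IdealSheafData.range_subschemeι, Scheme.IdealSheafData.coe_support_vanishingIdeal]
    rfl
  let eW : I.subscheme ≃ₜ W := i.isEmbedding.toHomeomorph.trans (Homeomorph.setCongr hri)
  haveI : IrreducibleSpace I.subscheme := by
    haveI : IrreducibleSpace W := isIrreducible_iff_irreducibleSpace.mp hWi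
    exact eW.symm.surjective.irreducibleSpace eW.symm.continuous
  haveI : IsClosedImmersion i := inferInstance
  let j := pullback.fst f i
  haveI : IsClosedImmersion j := inferInstance
  let g := pullback.snd f i
  have hrj : Set.range j = f ⁻¹' W := by
    rw [show Set.range j = f ⁻¹' Set.range i from Scheme.Pullback.range_fst f i, hri]
  have hfj : ∀ x, f (j x) = i (g x) := fun x => by
    show (j ≫ f) x = (g ≫ i) x
    rw [pullback.condition]
  have hfibre : ∀ w : I.subscheme, j '' (g.base ⁻¹' {w}) = f.base ⁻¹' {i w} := by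
    intro w
    ext x
    constructor
    · rintro ⟨z, hz, rfl⟩
      show f (j z) = i w
      rw [hfj]; exact congrArg i hz
    · intro hx
      obtain ⟨z, rfl⟩ : x ∈ Set.range j := by
        rw [hrj]
        show f x ∈ W
        rw [show f x = i w from hx]
        exact hri.le ⟨w, rfl⟩
      exact ⟨z, i.isEmbedding.injective ((hfj z).symm.trans hx), rfl⟩
  have hcl : ∀ w : I.subscheme, IsClosed ({w} : Set I.subscheme) → IsClosed ({i w} : Set Y) := fun w hw => by
    simpa using i.isClosedEmbedding.isClosedMap _ hw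
  have hirr' : ∀ w : I.subscheme, IsClosed ({w} : Set I.subscheme) → IsIrreducible (g.base ⁻¹' {w}) := by
    intro w hw
    have := hirr _ (hcl w hw)
    rw [← hfibre] at this
    obtain ⟨⟨_, z, hz, rfl⟩, hpre⟩ := this
    refine ⟨⟨z, hz⟩, fun u v hu hv ⟨a, ha, hau⟩ ⟨b, hb, hbv⟩ => ?_⟩
    obtain ⟨u', hu', rfl⟩ := j.isEmbedding.isInducing.isOpen_iff.mp hu
    obtain ⟨v', hv', rfl⟩ := j.isEmbedding.isInducing.isOpen_iff.mp hv
    obtain ⟨_, ⟨c, hc, rfl⟩, hcuv⟩ := hpre u' v' hu' hv' ⟨_, ⟨a, ha, rfl⟩, hau⟩ ⟨_, ⟨b, hb, rfl⟩, hbv⟩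
    exact ⟨c, hc, hcuv⟩
  have hdim' : ∀ w : I.subscheme, IsClosed ({w} : Set I.subscheme) →
      topologicalKrullDim ↥(g.base ⁻¹' {w}) = d := by
    intro w hw
    rw [← hdim _ (hcl w hw), ← hfibre]
    exact (j.isEmbedding.homeomorphImage _).isHomeomorph.topologicalKrullDim_eq
  have hcomp : g ≫ (i ≫ qY) = j ≫ qX := by rw [← Category.assoc, ← pullback.condition, Category.assoc, hf]
  obtain ⟨C, hC, hCdom, hCdim, hCsub⟩ :=
    DimFibreLib.exists_component (j ≫ qX) (i ≫ qY) g hcomp d hirr' hdim'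
  refine ⟨j '' C, j.isClosedEmbedding.isClosedMap _ (isClosed_of_mem_irreducibleComponents C hC),
    hC.1.image _ j.continuous.continuousOn, ?_, ?_, ?_⟩
  · have h1 : f '' (j '' C) = i '' (g '' C) := by
      rw [← Set.image_comp, ← Set.image_comp]
      exact Set.image_congr fun x _ => hfj x
    rw [h1, i.isClosedEmbedding.closure_image_eq, hCdom, Set.image_univ, hri]
  · rw [← eW.isHomeomorph.topologicalKrullDim_eq, ← hCdim]
    exact (j.isEmbedding.homeomorphImage C).isHomeomorph.topologicalKrullDim_eq.symm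
  · rintro _ ⟨_, ⟨z, hz, rfl⟩, rfl⟩ hy
    rw [hfj] at hy ⊢
    rw [← hfibre]
    refine Set.image_mono (hCsub (g z) ⟨z, hz, rfl⟩ ?_)
    have := hy.preimage i.continuous
    rwa [← Set.image_singleton, i.isEmbedding.injective.preimage_image] at this

include hf in
/-- A closed irreducible set is inside one made of full fibres with the same closure of image. -/
theorem subset_of_closure_image_eq (Z Z₀ : Set X) (hZc : IsClosed Z) (hZi : IsIrreducible Z)
    (h₀c : IsClosed Z₀) (h₀i : IsIrreducible Z₀) (h : closure (f '' Z) = closure (f '' Z₀))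
    (hsub : ∀ y ∈ f '' Z₀, IsClosed ({y} : Set Y) → f.base ⁻¹' {y} ⊆ Z₀) : Z ⊆ Z₀ := by
  haveI : JacobsonSpace X := LocallyOfFiniteType.jacobsonSpace qX
  obtain ⟨n, m, -, -, -, V, ⟨y₀, hy₀, hy₀c⟩, hVdim⟩ := DimFibreLib.exists_data qX qY f hf Z₀ h₀c h₀i
  obtain ⟨η, hη⟩ := QuasiSober.sober hZi hZc
  by_contra hne
  have hη₀ : η ∉ Z₀ := fun h' => hne (by
    rw [← hη.def]; exact closure_minimal (Set.singleton_subset_iff.mpr h') h₀c)
  have hηV : f η ∈ V := by
    have h2 : closure (f '' Z) ⊆ closure {f η} := by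
      refine closure_minimal ?_ isClosed_closure
      rintro _ ⟨z, hz, rfl⟩
      exact ((hη.specializes hz).map f.continuous).mem_closure
    exact (specializes_iff_mem_closure.mpr (h2 (h.ge hy₀c))).mem_open V.isOpen hy₀
  obtain ⟨x, ⟨⟨hxZ, hxV⟩, hx₀⟩, hxc⟩ :=
    nonempty_inter_closedPoints (Z := (Z ∩ f ⁻¹' (V : Set Y)) ∩ Z₀ᶜ) ⟨η, ⟨hη.mem, hηV⟩, hη₀⟩
      ((hZc.isLocallyClosed.inter (V.isOpen.preimage f.continuous).isLocallyClosed).inter
        h₀c.isOpen_compl.isLocallyClosed)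
  refine hx₀ (hsub (f x) ?_ (DimFibreLib.isClosed_image_point qX qY f hf hxc) rfl)
  by_contra hnot
  have h1 := hVdim (f x) hxV (h.le (subset_closure ⟨x, hxZ, rfl⟩))
  haveI : IsEmpty ↥(Z₀ ∩ f ⁻¹' {f x}) := ⟨fun z ↦ hnot ⟨z.1, z.2.1, z.2.2⟩⟩
  haveI : IsEmpty (TopologicalSpace.IrreducibleCloseds ↥(Z₀ ∩ f ⁻¹' {f x})) :=
    ⟨fun z ↦ IsEmpty.false z.isIrreducible.nonempty.some⟩
  rw [topologicalKrullDim, Order.krullDim_eq_bot] at h1
  exact WithBot.bot_ne_coe h1

include hirr hdim hf in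
theorem component_eq (Z : Set X) (hZ : Z ∈ irreducibleComponents X) :
    topologicalKrullDim ↥Z = (d : WithBot ℕ∞) + topologicalKrullDim ↥(closure (f '' Z)) ∧
      ∀ y ∈ f '' Z, IsClosed ({y} : Set Y) → f.base ⁻¹' {y} ⊆ Z := by
  have hW : IsIrreducible (closure (f '' Z)) := (hZ.1.image f f.continuous.continuousOn).closure
  obtain ⟨Z₀, h₀c, h₀i, h₀W, h₀dim, h₀sub⟩ := exists_over qX qY f hf d hirr hdim _ isClosed_closure hW
  have hle := subset_of_closure_image_eq qX qY f hf Z Z₀ (isClosed_of_mem_irreducibleComponents Z hZ)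
    hZ.1 h₀c h₀i h₀W.symm h₀sub
  have : Z₀ = Z := (hZ.2 h₀i hle).antisymm hle
  subst this
  exact ⟨h₀dim, h₀sub⟩

end

/-- Let k be an algebraically closed field, X and Y schemes of finite type over k with Y irreducible,
and f : X → Y a k-morphism such that for some natural number d the fibre of f over every closed
point of Y (the subspace of points mapping to it) is irreducible of dimension d. Then (i) exactly
one irreducible component of X has dense image in Y, and (ii) each irreducible component Z of X is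
made up of whole fibres — if Z meets the fibre over a closed point then it contains it — and dim Z =
d + dim f(Z)‾, the dimension of the closure of its image. (The published assertions are for
varieties, i.e. reduced separated schemes; this row assumes neither.) -/
theorem result (k : Type u) [Field k] [IsAlgClosed k]
    {X Y : Scheme.{u}} (qX : X ⟶ Spec (CommRingCat.of k)) (qY : Y ⟶ Spec (CommRingCat.of k))
    [LocallyOfFiniteType qX] [QuasiCompact qX] [LocallyOfFiniteType qY] [QuasiCompact qY]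
    (f : X ⟶ Y) (hf : f ≫ qY = qX) [IrreducibleSpace ↥Y] (d : ℕ)
    (hirr : ∀ y : ↥Y, IsClosed ({y} : Set ↥Y) → IsIrreducible (f.base ⁻¹' {y}))
    (hdim : ∀ y : ↥Y, IsClosed ({y} : Set ↥Y) → topologicalKrullDim ↥(f.base ⁻¹' {y}) = d) :
    (∃! Z : Set ↥X, Z ∈ irreducibleComponents ↥X ∧ Dense (f.base '' Z)) ∧
      ∀ Z ∈ irreducibleComponents ↥X,
        (∀ y : ↥Y, IsClosed ({y} : Set ↥Y) → (f.base ⁻¹' {y} ∩ Z).Nonempty → f.base ⁻¹' {y} ⊆ Z) ∧
        topologicalKrullDim ↥Z = d + topologicalKrullDim ↥(closure (f.base '' Z)) := by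
  refine ⟨?_, fun Z hZ => ?_⟩
  · obtain ⟨Z₀, hZ₀, hdom₀, -, hsub₀⟩ := DimFibreLib.exists_component qX qY f hf d hirr hdim
    refine ⟨Z₀, ⟨hZ₀, dense_iff_closure_eq.mpr hdom₀⟩, fun Z ⟨hZ, hdom⟩ => ?_⟩
    have hle := subset_of_closure_image_eq qX qY f hf Z Z₀ (isClosed_of_mem_irreducibleComponents Z hZ)
      hZ.1 (isClosed_of_mem_irreducibleComponents Z₀ hZ₀) hZ₀.1
      ((dense_iff_closure_eq.mp hdom).trans hdom₀.symm) hsub₀
    exact hle.antisymm (hZ.2 hZ₀.1 hle)
  · obtain ⟨h1, h2⟩ := component_eq qX qY f hf d hirr hdim Z hZ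
    exact ⟨fun y hy ⟨x, hxy, hxZ⟩ => h2 y ⟨x, hxZ, hxy⟩ hy, h1⟩

end Groth.Agent.S14378
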