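import Groth.Statements.S14379
import Groth.Agent.S10843
import Mathlib.RingTheory.NoetherNormalization

set_option autoImplicit false
open scoped TensorProduct
universe u
open CAlg

namespace Groth.Agent.S14379

section
variable {F : Type u} [Field F] {S : Type u} [CommRing S] [Algebra F S] {d : ℕ}

theorem finite_perturb (h x : Fin d → S) (c : Fin d → F) (hc : ∀ i, c i ≠ 0)
    (hfin : (MvPolynomial.aeval h : MvPolynomial (Fin d) F →ₐ[F] S).toRingHom.Finite) :
    ∃ M0 : ℕ, ∀ M, M0 ≤ M →
      (MvPolynomial.aeval (fun i => c i • h i ^ M + x i) : MvPolynomial (Fin d) F →ₐ[F] S).toRingHom.Finite := by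
  classical
  letI : Algebra (MvPolynomial (Fin d) F) S := (MvPolynomial.aeval h : MvPolynomial (Fin d) F →ₐ[F] S).toRingHom.toAlgebra
  haveI : Module.Finite (MvPolynomial (Fin d) F) S := hfin
  obtain ⟨m, e, he⟩ := Module.Finite.exists_fin (R := MvPolynomial (Fin d) F) (M := S)
  let mon : (Fin d → ℕ) → S := fun a => ∏ i, h i ^ a i
  let P : ℕ → Submodule F S := fun n => Submodule.span F {z | ∃ a l, (∑ i, a i) ≤ n ∧ mon a * e l = z}
  have hmono : Monotone P := fun a b hab => Submodule.span_mono (by rintro z ⟨a', l, ha, rfl⟩; exact ⟨a', l, ha.trans hab, rfl⟩)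
  have hall : ∀ s : S, ∃ n, s ∈ P n := by
    intro s
    have hs : s ∈ Submodule.span (MvPolynomial (Fin d) F) (Set.range e) := he ▸ Submodule.mem_top
    obtain ⟨p, rfl⟩ := (Submodule.mem_span_range_iff_exists_fun _).1 hs
    refine ⟨Finset.univ.sup fun l => (p l).totalDegree, sum_mem fun l _ => ?_⟩
    show MvPolynomial.aeval h (p l) * e l ∈ P _
    rw [(p l).as_sum, map_sum, Finset.sum_mul]
    refine sum_mem fun a ha => ?_
    rw [MvPolynomial.aeval_monomial, Algebra.algebraMap_eq_smul_one, smul_mul_assoc, one_mul, smul_mul_assoc]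
    refine Submodule.smul_mem _ _ (Submodule.subset_span ⟨fun i => a i, l, ?_, ?_⟩)
    · refine le_trans ?_ (Finset.le_sup (f := fun l => (p l).totalDegree) (Finset.mem_univ l))
      refine le_trans (le_of_eq ?_) (MvPolynomial.le_totalDegree ha)
      rw [Finsupp.sum_fintype _ _ (fun _ => rfl)]
    · rw [Finsupp.prod_fintype _ _ (fun _ => pow_zero _)]
  have hxe : ∀ il : Fin d × Fin m, ∃ n, x il.1 * e il.2 ∈ P n := fun il => hall _
  choose D hD using hxe
  have hx : ∀ i l a, x i * (mon a * e l) ∈ P ((∑ j, a j) + Finset.univ.sup D) := by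
    intro i l a
    have h1 : x i * e l ∈ P (Finset.univ.sup D) := hmono (Finset.le_sup (Finset.mem_univ (i, l))) (hD (i, l))
    rw [mul_left_comm]
    have h2 : P (Finset.univ.sup D) ≤ (P ((∑ j, a j) + Finset.univ.sup D)).comap (LinearMap.mulLeft F (mon a)) := by
      refine Submodule.span_le.2 ?_
      rintro z ⟨b, l', hb, rfl⟩
      refine Submodule.subset_span ⟨a + b, l', ?_, ?_⟩
      · rw [show (∑ i, (a + b) i) = (∑ i, a i) + ∑ i, b i from Finset.sum_add_distrib]; omega
      · simp [mon, pow_add, Finset.prod_mul_distrib, mul_assoc]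
    exact h2 h1
  refine ⟨Finset.univ.sup D + 1, fun M hM => ?_⟩
  let f : Fin d → S := fun i => c i • h i ^ M + x i
  let gF : MvPolynomial (Fin d) F →ₐ[F] S := MvPolynomial.aeval f
  let E : Finset S := (Finset.univ : Finset ((Fin d → Fin M) × Fin m)).image fun al => mon (fun i => (al.1 i : ℕ)) * e al.2
  letI algF : Algebra (MvPolynomial (Fin d) F) S := gF.toRingHom.toAlgebra
  haveI : IsScalarTower F (MvPolynomial (Fin d) F) S := IsScalarTower.of_algebraMap_eq fun r => (gF.commutes r).symm
  let T : Submodule (MvPolynomial (Fin d) F) S := Submodule.span _ (E : Set S)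
  have main : ∀ n, ∀ a l, (∑ i, a i) = n → mon a * e l ∈ T := by
    intro n
    induction n using Nat.strong_induction_on with
    | _ n ih =>
      intro a l han
      by_cases hsmall : ∀ i, a i < M
      · exact Submodule.subset_span (Finset.mem_coe.2 (Finset.mem_image.2 ⟨(fun i => ⟨a i, hsmall i⟩, l), Finset.mem_univ _, rfl⟩))
      · push_neg at hsmall
        obtain ⟨i, hi⟩ := hsmall
        let b : Fin d → ℕ := Function.update a i (a i - M)
        have hab : a = b + Pi.single i M := by
          funext j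
          by_cases hj : j = i
          · subst hj; simp [b]; omega
          · simp [b, hj]
        have hsum : (∑ j, a j) = (∑ j, b j) + M := by
          rw [hab, show (∑ j, (b + Pi.single i M : Fin d → ℕ) j) = (∑ j, b j) + ∑ j, (Pi.single i M : Fin d → ℕ) j from Finset.sum_add_distrib,
            Finset.sum_pi_single']
          simp
        have hmon : mon a = h i ^ M * mon b := by
          rw [hab]
          simp only [mon, Pi.add_apply, pow_add, Finset.prod_mul_distrib]
          rw [mul_comm]
          congr 1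
          exact (Finset.prod_eq_single i (fun j _ hj => by simp [hj]) (by simp)).trans (by simp)
        have hfb : f i * (mon b * e l) ∈ T := by
          have := T.smul_mem (MvPolynomial.X i) (ih _ (by omega) b l rfl)
          rwa [Algebra.smul_def, show algebraMap (MvPolynomial (Fin d) F) S (MvPolynomial.X i) = f i from MvPolynomial.aeval_X f i] at this
        have hlow : P ((∑ j, b j) + Finset.univ.sup D) ≤ T.restrictScalars F := by
          refine Submodule.span_le.2 ?_
          rintro z ⟨b', l', hb', rfl⟩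
          exact ih _ (by omega) b' l' rfl
        have hxb : x i * (mon b * e l) ∈ T := hlow (hx i l b)
        have hci : c i • (mon a * e l) ∈ T := by
          have : c i • (mon a * e l) = f i * (mon b * e l) - x i * (mon b * e l) := by
            simp only [f, hmon, Algebra.smul_def]; ring
          rw [this]
          exact sub_mem hfb hxb
        have := (T.restrictScalars F).smul_mem (c i)⁻¹ hci
        rwa [inv_smul_smul₀ (hc i)] at this
  refine Module.finite_def.2 ⟨E, top_le_iff.1 fun s _ => ?_⟩
  obtain ⟨n, hn⟩ := hall s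
  refine (show P n ≤ T.restrictScalars F from Submodule.span_le.2 ?_) hn
  rintro z ⟨a, l, -, rfl⟩
  exact main _ a l rfl

theorem exists_normalization [Algebra.FiniteType F S] (hdim : ringKrullDim S ≤ d) :
    ∃ h : Fin d → S, (MvPolynomial.aeval h : MvPolynomial (Fin d) F →ₐ[F] S).toRingHom.Finite := by
  cases subsingleton_or_nontrivial S
  · refine ⟨0, RingHom.Finite.of_surjective _ fun y => ⟨0, Subsingleton.elim _ _⟩⟩
  · obtain ⟨s, g, hinj, hfin⟩ := exists_finite_inj_algHom_of_fg F S
    have hs := (Groth.Agent.S10843.result F S s).2 ⟨g, hfin, hinj⟩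
    rw [hs] at hdim
    have hsd : s ≤ d := by exact_mod_cast hdim
    let h : Fin d → S := fun i => if hi : (i : ℕ) < s then g (MvPolynomial.X ⟨i, hi⟩) else 0
    refine ⟨h, ?_⟩
    have hg : g = (MvPolynomial.aeval h).comp (MvPolynomial.rename (Fin.castLE hsd)) := by
      refine MvPolynomial.algHom_ext fun i => ?_
      simp [h, i.2]
    rw [hg] at hfin
    exact RingHom.Finite.of_comp_finite hfin

theorem finite_rescale (h : Fin d → S) (c : Fin d → F) (hc : ∀ i, c i ≠ 0)
    (hfin : (MvPolynomial.aeval h : MvPolynomial (Fin d) F →ₐ[F] S).toRingHom.Finite) :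
    (MvPolynomial.aeval (fun i => c i • h i) : MvPolynomial (Fin d) F →ₐ[F] S).toRingHom.Finite := by
  have e : (MvPolynomial.aeval h : MvPolynomial (Fin d) F →ₐ[F] S) =
      (MvPolynomial.aeval (fun i => c i • h i)).comp (MvPolynomial.aeval fun i => (c i)⁻¹ • MvPolynomial.X i) := by
    refine MvPolynomial.algHom_ext fun i => ?_
    simp [inv_smul_smul₀ (hc i)]
  rw [e] at hfin
  exact RingHom.Finite.of_comp_finite hfin

end

theorem exists_clear {V : Type u} [CommRing V] [IsDomain V] {R : Type u} [CommRing R] [Algebra V R]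
    (z : FractionRing V ⊗[V] R) :
    ∃ (r : R) (s : V), s ≠ 0 ∧ algebraMap V (FractionRing V) s • z = (1 : FractionRing V) ⊗ₜ[V] r := by
  induction z using TensorProduct.induction_on with
  | zero => exact ⟨0, 1, one_ne_zero, by simp⟩
  | tmul q r =>
    obtain ⟨a, s, hs, rfl⟩ := IsFractionRing.div_surjective (A := V) q
    refine ⟨a • r, s, nonZeroDivisors.ne_zero hs, ?_⟩
    have hs0 : algebraMap V (FractionRing V) s ≠ 0 := IsFractionRing.to_map_ne_zero_of_mem_nonZeroDivisors hs
    rw [TensorProduct.smul_tmul', smul_eq_mul, mul_div_cancel₀ _ hs0, Algebra.algebraMap_eq_smul_one, TensorProduct.smul_tmul]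
  | add z w hz hw =>
    obtain ⟨r, s, hs, hz⟩ := hz
    obtain ⟨r', s', hs', hw⟩ := hw
    refine ⟨s' • r + s • r', s * s', mul_ne_zero hs hs', ?_⟩
    rw [TensorProduct.tmul_add, TensorProduct.tmul_smul, TensorProduct.tmul_smul, ← hz, ← hw, map_mul, smul_add,
      ← algebraMap_smul (FractionRing V) s', ← algebraMap_smul (FractionRing V) s (algebraMap V _ s' • w), smul_smul, smul_smul, mul_comm (algebraMap V _ s')]

/-- Let V be a discrete valuation ring with residue field k and fraction field K, let R be a flat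
V-algebra of finite type such that both fibre rings k ⊗_V R and K ⊗_V R have Krull dimension at most
d, let x_1, …, x_d be elements of R and let N ≥ 1 be an integer. Then there are elements y_1, …, y_d
of the subring of R generated by the N-th powers of elements of R such that, setting f_i = x_i +
y_i, the fibre ring k ⊗_V R is finite over the polynomial ring k[T_1, …, T_d] via T_i ↦ 1 ⊗ f_i and
K ⊗_V R is finite over K[T_1, …, T_d] via T_i ↦ 1 ⊗ f_i; in other words the morphism (f_1, …, f_d)
to affine d-space over V is finite on both fibres. -/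
theorem result (V : Type u) [CommRing V] [IsDomain V]
    [IsDiscreteValuationRing V] (R : Type u) [CommRing R] [Algebra V R] [Module.Flat V R]
    [Algebra.FiniteType V R] (d : ℕ)
    (hs : ringKrullDim (IsLocalRing.ResidueField V ⊗[V] R) ≤ d)
    (hη : ringKrullDim (FractionRing V ⊗[V] R) ≤ d)
    (x : Fin d → R) (N : ℕ) (hN : 1 ≤ N) :
    ∃ y : Fin d → R, (∀ i, y i ∈ Subring.closure (Set.range fun r : R => r ^ N)) ∧
      (MvPolynomial.aeval (fun i => (1 : IsLocalRing.ResidueField V) ⊗ₜ[V] (x i + y i)) :
          MvPolynomial (Fin d) (IsLocalRing.ResidueField V) →ₐ[IsLocalRing.ResidueField V]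
            IsLocalRing.ResidueField V ⊗[V] R).toRingHom.Finite ∧
      (MvPolynomial.aeval (fun i => (1 : FractionRing V) ⊗ₜ[V] (x i + y i)) :
          MvPolynomial (Fin d) (FractionRing V) →ₐ[FractionRing V] FractionRing V ⊗[V] R).toRingHom.Finite := by
  classical
  obtain ⟨ϖ, hϖ⟩ := IsDiscreteValuationRing.exists_irreducible V
  have hπK : algebraMap V (FractionRing V) ϖ ≠ 0 := by simpa using hϖ.ne_zero
  have hπk : algebraMap V (IsLocalRing.ResidueField V) ϖ = 0 :=
    (IsLocalRing.residue_eq_zero_iff ϖ).2 (by rw [hϖ.maximalIdeal_eq]; exact Ideal.mem_span_singleton_self _)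
  obtain ⟨g0, hg0⟩ := exists_normalization (F := IsLocalRing.ResidueField V) (d := d) hs
  have hsurj : ∀ z : IsLocalRing.ResidueField V ⊗[V] R, ∃ r : R, (1 : IsLocalRing.ResidueField V) ⊗ₜ[V] r = z :=
    fun z => TensorProduct.mk_surjective V R (IsLocalRing.ResidueField V) IsLocalRing.residue_surjective z
  choose g hg using fun i => hsurj (g0 i)
  obtain ⟨h0, hh0⟩ := exists_normalization (F := FractionRing V) (d := d) hη
  choose r s hs0 hr using fun i => exists_clear (h0 i)
  have hK1 := finite_rescale h0 (fun i => algebraMap V (FractionRing V) (s i)) (fun i => by simpa using hs0 i) hh0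
  simp only [hr] at hK1
  obtain ⟨M1, hM1⟩ := finite_perturb (fun i => (1 : FractionRing V) ⊗ₜ[V] r i) (fun i => (1 : FractionRing V) ⊗ₜ[V] g i)
    (fun _ => algebraMap V (FractionRing V) ϖ) (fun _ => hπK) hK1
  let gg : Fin d → R := fun i => ϖ • r i ^ M1 + g i
  have hgk : (fun i => (1 : IsLocalRing.ResidueField V) ⊗ₜ[V] gg i) = g0 := by
    funext i
    have : (1 : IsLocalRing.ResidueField V) ⊗ₜ[V] (ϖ • r i ^ M1) = 0 := by
      rw [← TensorProduct.smul_tmul, ← Algebra.algebraMap_eq_smul_one, hπk, TensorProduct.zero_tmul]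
    rw [TensorProduct.tmul_add, this, zero_add, hg]
  have hgK : (fun i => (1 : FractionRing V) ⊗ₜ[V] gg i) =
      fun i => algebraMap V (FractionRing V) ϖ • ((1 : FractionRing V) ⊗ₜ[V] r i) ^ M1 + (1 : FractionRing V) ⊗ₜ[V] g i := by
    funext i
    rw [TensorProduct.tmul_add, Algebra.TensorProduct.tmul_pow, one_pow, algebraMap_smul, TensorProduct.tmul_smul]
  obtain ⟨A1, hA1⟩ := finite_perturb (F := IsLocalRing.ResidueField V) (fun i => (1 : IsLocalRing.ResidueField V) ⊗ₜ[V] gg i)
    (fun i => (1 : IsLocalRing.ResidueField V) ⊗ₜ[V] x i) (fun _ => 1) (fun _ => one_ne_zero) (by rw [hgk]; exact hg0)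
  obtain ⟨A2, hA2⟩ := finite_perturb (F := FractionRing V) (fun i => (1 : FractionRing V) ⊗ₜ[V] gg i)
    (fun i => (1 : FractionRing V) ⊗ₜ[V] x i) (fun _ => 1) (fun _ => one_ne_zero) (by rw [hgK]; exact hM1 M1 le_rfl)
  have hN' : A1 + A2 ≤ N * (A1 + A2 + 1) := le_trans (Nat.le_succ _) (Nat.le_mul_of_pos_left _ hN)
  refine ⟨fun i => gg i ^ (N * (A1 + A2 + 1)), fun i => ?_, ?_, ?_⟩
  · show gg i ^ _ ∈ _
    rw [pow_mul']
    exact Subring.subset_closure ⟨gg i ^ (A1 + A2 + 1), rfl⟩
  · have e : (fun i => (1 : IsLocalRing.ResidueField V) ⊗ₜ[V] (x i + gg i ^ (N * (A1 + A2 + 1)))) =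
        fun i => (1 : IsLocalRing.ResidueField V) • ((1 : IsLocalRing.ResidueField V) ⊗ₜ[V] gg i) ^ (N * (A1 + A2 + 1)) + (1 : IsLocalRing.ResidueField V) ⊗ₜ[V] x i := by
      funext i
      simp [TensorProduct.tmul_add, add_comm]
    have := hA1 (N * (A1 + A2 + 1)) (by omega)
    simp only [← e] at this ⊢
    exact this
  · have e : (fun i => (1 : FractionRing V) ⊗ₜ[V] (x i + gg i ^ (N * (A1 + A2 + 1)))) =
        fun i => (1 : FractionRing V) • ((1 : FractionRing V) ⊗ₜ[V] gg i) ^ (N * (A1 + A2 + 1)) + (1 : FractionRing V) ⊗ₜ[V] x i := by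
      funext i
      simp [TensorProduct.tmul_add, add_comm]
    have := hA2 (N * (A1 + A2 + 1)) (by omega)
    simp only [← e] at this ⊢
    exact this

end Groth.Agent.S14379
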