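import Groth.Statements.S1438
import Mathlib

set_option autoImplicit false
universe u
open FlatMor

namespace Groth.Agent.S1438

open AlgebraicGeometry CategoryTheory Limits in
/-- A separated scheme with an open covering by n + 1 affine opens has affine stratification number at
most n: it admits an affine stratification with index set {0, …, n}. -/
theorem result (X : Scheme.{u}) [X.IsSeparated] (n : ℕ) (U : Fin (n + 1) → X.Opens)
    (hU : ∀ i, IsAffineOpen (U i)) (hcov : ⨆ i, U i = ⊤) :
    MoreMor.HasAffineStratification X n := by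
  classical
  have hne : ∀ x : X, (Finset.univ.filter fun i => x ∈ U i).Nonempty := fun x => by
    have hx : x ∈ ⨆ i, U i := by rw [hcov]; trivial
    obtain ⟨i, hi⟩ := TopologicalSpace.Opens.mem_iSup.1 hx
    exact ⟨i, Finset.mem_filter.2 ⟨Finset.mem_univ i, hi⟩⟩
  refine ⟨fun x => (Finset.univ.filter fun i => x ∈ U i).max' (hne x), fun i => ?_, fun i => ?_⟩
  · have : {x : X | (Finset.univ.filter fun j => x ∈ U j).max' (hne x) ≤ i} =
        ⋂ j ∈ {j | i < j}, (U j : Set X)ᶜ := by
      ext x
      simp only [Set.mem_setOf_eq, Finset.max'_le_iff, Finset.mem_filter, Finset.mem_univ, true_and,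
        Set.mem_iInter, Set.mem_compl_iff, SetLike.mem_coe]
      exact ⟨fun h j hj hxj => absurd (h j hxj) (not_le.2 hj), fun h j hxj => not_lt.1 fun hj => h j hj hxj⟩
    rw [this]
    exact isClosed_biInter fun j _ => (U j).2.isClosed_compl
  · let C : TopologicalSpace.Closeds (U i).toScheme :=
      ⟨(U i).ι ⁻¹' (⋂ j ∈ {j | i < j}, (U j : Set X)ᶜ),
        (isClosed_biInter fun j _ => (U j).2.isClosed_compl).preimage (U i).ι.continuous⟩
    let I := Scheme.IdealSheafData.vanishingIdeal C
    haveI : IsAffine (U i).toScheme := hU i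
    haveI : IsAffine I.subscheme := isAffine_of_isAffineHom I.subschemeι
    haveI : IsAffineHom (I.subschemeι ≫ (U i).ι) := by
      haveI : IsAffineHom ((I.subschemeι ≫ (U i).ι) ≫ Limits.terminal.from X) := inferInstance
      exact MorphismProperty.of_postcomp (W := @IsAffineHom) (W' := @IsSeparated) _ (Limits.terminal.from X)
        inferInstance inferInstance
    refine ⟨I.subscheme, I.subschemeι ≫ (U i).ι, inferInstance, inferInstance, inferInstance, ?_⟩
    have hr : Set.range (I.subschemeι ≫ (U i).ι) = (U i).ι '' C := by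
      rw [← show (I.support : Set (U i).toScheme) = C from rfl, ← Scheme.IdealSheafData.range_subschemeι,
        ← Set.range_comp]
      rfl
    rw [hr]
    ext x
    constructor
    · rintro ⟨z, hz, rfl⟩
      refine le_antisymm (Finset.max'_le _ _ _ fun j hj => not_lt.1 fun hij => ?_)
        (Finset.le_max' _ i (Finset.mem_filter.2 ⟨Finset.mem_univ i, z.2⟩))
      exact (Set.mem_iInter₂.1 hz j hij) (Finset.mem_filter.1 hj).2
    · intro hx
      have h1 := (Finset.univ.filter fun j => x ∈ U j).max'_mem (hne x)
      rw [show (Finset.univ.filter fun j => x ∈ U j).max' (hne x) = i from hx] at h1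
      refine ⟨⟨x, (Finset.mem_filter.1 h1).2⟩, Set.mem_iInter₂.2 fun j hj hxj => ?_, rfl⟩
      have := Finset.le_max' (Finset.univ.filter fun k => x ∈ U k) j (Finset.mem_filter.2 ⟨Finset.mem_univ j, hxj⟩)
      rw [show (Finset.univ.filter fun k => x ∈ U k).max' (hne x) = i from hx] at this
      exact absurd this (not_le.2 hj)

end Groth.Agent.S1438
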