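import Groth.Statements.S14382
import Groth.Agent.KPi1Lib.FiniteEtale
import Groth.Agent.S0101
import Groth.Agent.S0106
import Groth.Agent.FLCLib.Basic
import Groth.Agent.FLCLib.Gen

set_option autoImplicit false
open CategoryTheory CategoryTheory.Limits AlgebraicGeometry Opposite
universe u
open EtCoh

set_option backward.isDefEq.respectTransparency false
set_option backward.isDefEq.respectTransparency.types false
set_option linter.style.haveILetI false
set_option maxHeartbeats 800000

namespace Groth.Agent.S14382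

/-- Let P be a set of prime numbers and f : X → Y a finite étale surjective morphism of schemes, where Y
is quasi-compact and quasi-separated with finitely many connected components. Then X is
quasi-compact and quasi-separated with finitely many connected components, and Y is a K(π,1) for
P-torsion coefficients if and only if X is; here a scheme Z is called a K(π,1) for P-torsion
coefficients when for every finite locally constant abelian sheaf F on the small étale site of Z
killed by some n ≥ 1 all of whose prime factors lie in P, every q > 0 and every class ζ in H^q(Z_ét,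
F) there is a finite étale surjective g : Z' → Z with g^*ζ = 0. (Exactness of pullback of abelian
sheaves, which always holds, is carried as an instance hypothesis.) -/
theorem result (P : Set ℕ) {X Y : Scheme.{u}} (f : X ⟶ Y)
    [IsFinite f] [Etale f] [Surjective f] [CompactSpace ↥Y] [QuasiSeparatedSpace ↥Y]
    (hconn : Finite (_root_.ConnectedComponents ↥Y)) :
    (CompactSpace ↥X ∧ QuasiSeparatedSpace ↥X ∧ Finite (_root_.ConnectedComponents ↥X)) ∧
    ((∀ (F : EtCoh.Ab Y), EtCoh.IsFiniteLocallyConstant F →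
        (∃ n : ℕ, 0 < n ∧ (∀ p : ℕ, p.Prime → p ∣ n → p ∈ P) ∧ EtCoh.KilledBy n F) →
        ∀ q : ℕ, 0 < q → ∀ ζ : EtCoh.H Y F q,
          ∃ (Y' : Scheme.{u}) (g : Y' ⟶ Y), IsFinite g ∧ Etale g ∧ Surjective g ∧
            ∀ [PreservesFiniteLimits (EtCoh.pull g)], EtCore.Hpull g F q ζ = 0) ↔
     (∀ (F : EtCoh.Ab X), EtCoh.IsFiniteLocallyConstant F →
        (∃ n : ℕ, 0 < n ∧ (∀ p : ℕ, p.Prime → p ∣ n → p ∈ P) ∧ EtCoh.KilledBy n F) →
        ∀ q : ℕ, 0 < q → ∀ ζ : EtCoh.H X F q,
          ∃ (X' : Scheme.{u}) (g : X' ⟶ X), IsFinite g ∧ Etale g ∧ Surjective g ∧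
            ∀ [PreservesFiniteLimits (EtCoh.pull g)], EtCore.Hpull g F q ζ = 0)) := by
  haveI : CompactSpace ↥X := QuasiCompact.compactSpace_of_compactSpace f
  haveI : QuasiSeparatedSpace ↥X := quasiSeparatedSpace_of_quasiSeparated f
  haveI := hconn
  haveI : ∀ {A B : Scheme.{u}} (a : A ⟶ B), PreservesFiniteLimits (EtCoh.pull a) := fun a => S0101.result a
  have kill : ∀ {A B : Scheme.{u}} (Φ : EtCoh.Ab B ⥤ EtCoh.Ab A) [Φ.Additive] (n : ℕ) (G : EtCoh.Ab B),
      EtCoh.KilledBy n G → EtCoh.KilledBy n (Φ.obj G) := fun Φ _ n G h => by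
    rw [FLCLib.killedBy_iff] at h ⊢
    rw [← Φ.map_id, ← Functor.map_nsmul, h, Functor.map_zero]
  refine ⟨⟨‹_›, ‹_›, KPi1Lib.finite_connectedComponents_cover f f.isOpenMap f.isClosedMap
    fun b => f.finite_preimage_singleton b⟩, fun hY F hF hn q hq ζ => ?_, fun hX F hF hn q hq ζ => ?_⟩
  · haveI : (EtCoh.push f).Additive := (EtCoh.pullPushAdj f).right_adjoint_additive
    obtain ⟨x, hx⟩ := KPi1Lib.exists_HpullThen_counit f q F ζ
    obtain ⟨n, h1, h2, h3⟩ := hn
    obtain ⟨Y', g, hgf, hge, hgs, hg⟩ := hY _ (S0106.result f F hF) ⟨n, h1, h2, kill (EtCoh.push f) n F h3⟩ q hq x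
    refine ⟨pullback f g, pullback.fst f g, inferInstance, inferInstance, inferInstance, ?_⟩
    intro _
    have h : EtCore.Hpull (pullback.snd f g) _ q (EtCore.Hpull g _ q x) = 0 := by rw [hg, map_zero]
    rw [← KPi1Lib.Hpull_comp_eq_zero g (pullback.snd f g) (pullback.fst f g ≫ f) pullback.condition.symm] at h
    rw [KPi1Lib.Hpull_comp_eq_zero f (pullback.fst f g) (pullback.fst f g ≫ f) rfl] at h
    let ε := (EtCoh.pullPushAdj f).counit
    rw [← hx, EtLimLib.HpullThen_eq_map f]
    refine (KPi1Lib.HpullThen_id' _ F q _).symm.trans ?_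
    refine (EtLimLib.HpullThen_natural (M' := (EtCoh.pull (pullback.fst f g)).obj F) (pullback.fst f g) (𝟙 _) (𝟙 _)
      (ε.app F) ((EtCoh.pull (pullback.fst f g)).map (ε.app F))
      ((Category.id_comp _).trans (Category.comp_id _).symm) q _).symm.trans ?_
    rw [KPi1Lib.HpullThen_id', KPi1Lib.HpullThen_id']
    exact (congrArg _ h).trans (map_zero _)
  · obtain ⟨n, h1, h2, h3⟩ := hn
    haveI : (EtCoh.pull f).Additive := (EtCoh.pullPushAdj f).left_adjoint_additive
    obtain ⟨X', g, hgf, hge, hgs, hg⟩ := hX _ (FLCLib.isFiniteLocallyConstant_pull f hF)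
      ⟨n, h1, h2, kill (EtCoh.pull f) n F h3⟩ q hq (EtCore.Hpull f F q ζ)
    refine ⟨X', g ≫ f, inferInstance, inferInstance, inferInstance, ?_⟩
    intro _
    exact (KPi1Lib.Hpull_comp_eq_zero f g (g ≫ f) rfl F q ζ).2 hg

end Groth.Agent.S14382
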