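import Groth.Statements.S14383


set_option autoImplicit false
open scoped TensorProduct
open AlgebraicGeometry
universe u
open CAlg

open scoped TensorProduct
namespace Groth.Agent.S14383

set_option linter.style.haveILetI false

/-- Differentials of a smooth algebra of relative dimension `d`. -/
theorem rankAtStalk_of_locally {R B : Type u} [CommRing R] [CommRing B] [Algebra R B] (d : ℕ)
    (h : RingHom.Locally (RingHom.IsStandardSmoothOfRelativeDimension d) (algebraMap R B)) [Algebra.Smooth R B]
    (P : PrimeSpectrum B) : Module.rankAtStalk (R := B) Ω[B⁄R] P = d := by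
  obtain ⟨s, hs, hst⟩ := h
  obtain ⟨t, ht, htP⟩ : ∃ t ∈ s, t ∉ P.asIdeal := by
    by_contra hc
    push Not at hc
    exact P.2.ne_top (eq_top_iff.2 (hs ▸ Ideal.span_le.2 hc))
  let T := Localization.Away t
  have ht' := hst t ht
  rw [← IsScalarTower.algebraMap_eq R B T, RingHom.isStandardSmoothOfRelativeDimension_algebraMap] at ht'
  haveI := ht'
  obtain ⟨Q, hQ⟩ : P ∈ Set.range (PrimeSpectrum.comap (algebraMap B T)) := by
    rw [PrimeSpectrum.localization_away_comap_range T t]; exact htP
  haveI : Nontrivial T := Q.nontrivial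
  haveI : Algebra.IsStandardSmooth R T := Algebra.IsStandardSmoothOfRelativeDimension.isStandardSmooth d
  haveI : Algebra.FormallyEtale B T := Algebra.FormallyEtale.of_isLocalization (Submonoid.powers t)
  haveI : Module.Projective B Ω[B⁄R] := Algebra.FormallySmooth.projective_kaehlerDifferential
  haveI : Module.Finite B Ω[B⁄R] := inferInstance
  have h2 := Module.rankAtStalk_baseChange (R := B) (M := Ω[B⁄R]) (S := T) Q
  rw [← Module.rankAtStalk_eq_of_equiv (KaehlerDifferential.tensorKaehlerEquivOfFormallyEtale R B T).symm,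
    Module.rankAtStalk_eq_finrank_of_free, Pi.natCast_apply, Nat.cast_id, hQ] at h2
  rw [← h2, Module.finrank]
  rw [Algebra.IsStandardSmoothOfRelativeDimension.rank_kaehlerDifferential (R := R) (S := T) d]
  simp

open AlgebraicGeometry in
/-- The generic fibre of a finite type algebra over a discrete valuation ring. -/
theorem generic_fibre {V K S : Type u} [CommRing V] [Field K] [Algebra V K] [CommRing S] [Algebra V S]
    (ϖ : V) [IsLocalization.Away ϖ K] (d : ℕ)
    (h : SmoothOfRelativeDimension d (Spec.map (CommRingCat.ofHom (algebraMap K (K ⊗[V] S))))) :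
    Algebra.FormallySmooth V (K ⊗[V] S) ∧
      ∀ P : PrimeSpectrum (K ⊗[V] S), Module.rankAtStalk (R := K ⊗[V] S) Ω[(K ⊗[V] S)⁄V] P = d := by
  have hl : RingHom.Locally (RingHom.IsStandardSmoothOfRelativeDimension d) (algebraMap K (K ⊗[V] S)) :=
    (HasRingHomProperty.Spec_iff (P := @SmoothOfRelativeDimension d)).mp h
  haveI : Smooth (Spec.map (CommRingCat.ofHom (algebraMap K (K ⊗[V] S)))) := SmoothOfRelativeDimension.smooth d _
  haveI : Algebra.Smooth K (K ⊗[V] S) :=
    RingHom.smooth_algebraMap.mp ((HasRingHomProperty.Spec_iff (P := @Smooth) (φ := CommRingCat.ofHom (algebraMap K (K ⊗[V] S)))).mp ‹_›)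
  haveI : Algebra.FormallyEtale V K := Algebra.FormallyEtale.of_isLocalization (Submonoid.powers ϖ)
  refine ⟨Algebra.FormallySmooth.comp V K _, fun P => ?_⟩
  let m := KaehlerDifferential.map V K (K ⊗[V] S) (K ⊗[V] S)
  have hinj : Function.Injective m := (injective_iff_map_eq_zero _).mpr fun x hx => by
    obtain ⟨y, rfl⟩ := (KaehlerDifferential.exact_mapBaseChange_map V K (K ⊗[V] S) x).mp hx
    rw [Subsingleton.elim y 0, map_zero]
  rw [Module.rankAtStalk_eq_of_equiv (LinearEquiv.ofBijective m ⟨hinj, KaehlerDifferential.map_surjective V K (K ⊗[V] S)⟩)]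
  exact rankAtStalk_of_locally d hl P

set_option backward.isDefEq.respectTransparency false in
/-- An unramified morphism of smooth algebras of the same relative dimension is etale. -/
theorem formallyEtale_of_rank (V B C : Type u) [CommRing V] [CommRing B] [CommRing C] [Algebra V B] [Algebra V C]
    [Algebra B C] [IsScalarTower V B C] [Algebra.FormallySmooth V B] [Algebra.FormallySmooth V C]
    [Algebra.FormallyUnramified B C] [Module.Finite B Ω[B⁄V]] [Module.Finite C Ω[C⁄V]] (d : ℕ)
    (hB : ∀ P : PrimeSpectrum B, Module.rankAtStalk (R := B) Ω[B⁄V] P = d)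
    (hC : ∀ P : PrimeSpectrum C, Module.rankAtStalk (R := C) Ω[C⁄V] P = d) :
    Algebra.FormallyEtale B C := by
  let m := KaehlerDifferential.mapBaseChange V B C
  have hs : Function.Surjective m := fun y =>
    (KaehlerDifferential.exact_mapBaseChange_map V B C y).mp (Subsingleton.elim _ _)
  obtain ⟨s, hsm⟩ := Module.projective_lifting_property m LinearMap.id hs
  have hms : ∀ y, m (s y) = y := fun y => LinearMap.congr_fun hsm y
  let π : C ⊗[B] Ω[B⁄V] →ₗ[C] LinearMap.ker m :=
    (LinearMap.id - s ∘ₗ m).codRestrict _ fun x => by simp [LinearMap.mem_ker, hms]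
  let e : C ⊗[B] Ω[B⁄V] ≃ₗ[C] LinearMap.ker m × Ω[C⁄V] := LinearEquiv.ofLinear (π.prod m)
    (LinearMap.coprod (LinearMap.ker m).subtype s)
    (LinearMap.ext fun x => Prod.ext (Subtype.ext (by
      have h0 : m x.1.1 = 0 := x.1.2
      simp [π, h0, hms])) (by
      have h0 : m x.1.1 = 0 := x.1.2
      simp [h0, hms]))
    (LinearMap.ext fun x => by simp [π])
  haveI : Module.Projective B Ω[B⁄V] := Algebra.FormallySmooth.projective_kaehlerDifferential
  haveI : Module.Projective C Ω[C⁄V] := Algebra.FormallySmooth.projective_kaehlerDifferential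
  haveI : Module.Projective C (LinearMap.ker m) :=
    Module.Projective.of_split (LinearMap.ker m).subtype π (LinearMap.ext fun x => Subtype.ext (by
      have h0 : m x.1 = 0 := x.2
      simp [π, h0]))
  haveI : Module.Finite C (LinearMap.ker m) := Module.Finite.of_surjective π fun x => ⟨x.1, Subtype.ext (by
      have h0 : m x.1 = 0 := x.2
      simp [π, h0])⟩
  haveI : Subsingleton (LinearMap.ker m) := by
    rw [← Module.rankAtStalk_eq_zero_iff_subsingleton (R := C)]
    funext P
    have h := congrFun (Module.rankAtStalk_eq_of_equiv (R := C) (M := C ⊗[B] Ω[B⁄V]) (N := LinearMap.ker m × Ω[C⁄V]) e) P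
    rw [Module.rankAtStalk_prod, Pi.add_apply, Module.rankAtStalk_baseChange, hB, hC] at h
    simpa using h
  have hinj : Function.Injective m := by
    rw [← LinearMap.ker_eq_bot]; exact Submodule.eq_bot_of_subsingleton
  refine ⟨inferInstance, ⟨fun x y => ?_⟩⟩
  have hz : ∀ z, Algebra.H1Cotangent.δ V B C z = 0 := fun z =>
    hinj (((Algebra.H1Cotangent.exact_δ_mapBaseChange V B C).apply_apply_eq_zero z).trans (map_zero _).symm)
  obtain ⟨x', rfl⟩ := (Algebra.H1Cotangent.exact_map_δ V B C x).mp (hz x)
  obtain ⟨y', rfl⟩ := (Algebra.H1Cotangent.exact_map_δ V B C y).mp (hz y)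
  rw [Subsingleton.elim x' y']

/-- Let V be a discrete valuation ring of characteristic zero with uniformizer ϖ, whose residue field k
is perfect of characteristic p > 0, and let A → R be a homomorphism of V-algebras of finite type,
viewed as a morphism f : Spec R → Spec A of schemes of finite type over Spec V. Say f is η-étale
when there is an open neighbourhood of the closed fibre of Spec R on whose generic fibre f is étale;
for affine Spec R this means: some a ∈ R with (a) + (ϖ) = R has R[1/(aϖ)] étale over A. First: if f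
is η-étale then for some n ≥ 0 the submodule p^n Ω_{R/A} of the module of differentials is contained
in ϖ p^n Ω_{R/A} (that is, p^n Ω_{R/A} vanishes along the closed fibre). Conversely: if the generic
fibres Spec(K ⊗_V A) and Spec(K ⊗_V R) are both smooth over K of the same relative dimension d, K
the fraction field of V, then such an n forces f to be η-étale. (The published statement is for
arbitrary schemes X → Y of finite type over V and also lists an intermediate equivalent condition,
that the restriction of p^n Ω_{X/Y} to the closed fibre as an abelian sheaf vanishes for some n;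
this row is the case of affine schemes and states the other two conditions.) -/
theorem result (V : Type u) [CommRing V] [IsDomain V] [IsDiscreteValuationRing V] [CharZero V]
    (ϖ : V) (hϖ : Irreducible ϖ) (p : ℕ) [Fact p.Prime] [CharP (IsLocalRing.ResidueField V) p]
    [PerfectField (IsLocalRing.ResidueField V)]
    (A : Type u) [CommRing A] [Algebra V A] [Algebra.FiniteType V A]
    (R : Type u) [CommRing R] [Algebra V R] [Algebra.FiniteType V R] [Algebra A R] [IsScalarTower V A R] :
    ((∃ a : R, Ideal.span {a} ⊔ Ideal.span {algebraMap V R ϖ} = ⊤ ∧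
        ((algebraMap R (Localization.Away (a * algebraMap V R ϖ))).comp (algebraMap A R)).Etale) →
      ∃ n : ℕ, Ideal.span {((p : R)) ^ n} • (⊤ : Submodule R (Ω[R⁄A])) ≤
        Ideal.span {algebraMap V R ϖ * (p : R) ^ n} • (⊤ : Submodule R (Ω[R⁄A]))) ∧
    (∀ d : ℕ, SmoothOfRelativeDimension d
        (Spec.map (CommRingCat.ofHom (algebraMap (FractionRing V) (FractionRing V ⊗[V] A)))) →
      SmoothOfRelativeDimension d
        (Spec.map (CommRingCat.ofHom (algebraMap (FractionRing V) (FractionRing V ⊗[V] R)))) →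
      (∃ n : ℕ, Ideal.span {((p : R)) ^ n} • (⊤ : Submodule R (Ω[R⁄A])) ≤
        Ideal.span {algebraMap V R ϖ * (p : R) ^ n} • (⊤ : Submodule R (Ω[R⁄A]))) →
      ∃ a : R, Ideal.span {a} ⊔ Ideal.span {algebraMap V R ϖ} = ⊤ ∧
        ((algebraMap R (Localization.Away (a * algebraMap V R ϖ))).comp (algebraMap A R)).Etale) := by
  classical
  haveI : IsNoetherianRing A := Algebra.FiniteType.isNoetherianRing V A
  haveI : Algebra.FiniteType A R := Algebra.FiniteType.of_restrictScalars_finiteType V A R
  haveI : Module.Finite R (Ω[R⁄A]) := inferInstance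
  have hp0 : (p : V) ≠ 0 := Nat.cast_ne_zero.mpr (Fact.out : p.Prime).ne_zero
  obtain ⟨e, hassoc⟩ := IsDiscreteValuationRing.associated_pow_irreducible hp0 hϖ
  obtain ⟨u, hu⟩ := hassoc.symm
  have he : e ≠ 0 := by
    rintro rfl
    have h1 : IsUnit (p : V) := ⟨u, by simpa using hu⟩
    have h2 := h1.map (IsLocalRing.residue V)
    rw [map_natCast, CharP.cast_eq_zero] at h2
    exact not_isUnit_zero h2
  have hpR : (p : R) = algebraMap V R ϖ ^ e * algebraMap V R (u : V) := by
    rw [← map_pow, ← map_mul, hu, map_natCast]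
  refine ⟨?_, ?_⟩
  · rintro ⟨a, ha, het⟩
    set L := Localization.Away (a * algebraMap V R ϖ)
    haveI : Algebra.Etale A L := by
      rw [← RingHom.etale_algebraMap, IsScalarTower.algebraMap_eq A R L]; exact het
    have hker : ∀ ω : Ω[R⁄A], ∃ n : ℕ, (a * algebraMap V R ϖ) ^ n • ω = 0 := fun ω => by
      haveI := KaehlerDifferential.isLocalizedModule_map A R L (Submonoid.powers (a * algebraMap V R ϖ))
      have h0 : KaehlerDifferential.map A A R L ω = 0 := Subsingleton.elim _ _
      obtain ⟨⟨_, n, rfl⟩, hn⟩ := (IsLocalizedModule.eq_zero_iff (Submonoid.powers (a * algebraMap V R ϖ)) _).mp h0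
      exact ⟨n, hn⟩
    choose N hN using hker
    obtain ⟨s, hs⟩ := Module.Finite.fg_top (R := R) (M := Ω[R⁄A])
    let n := s.sup N
    have hkill : ∀ ω : Ω[R⁄A], (a * algebraMap V R ϖ) ^ n • ω = 0 := fun ω => by
      have : Submodule.span R (s : Set (Ω[R⁄A])) ≤ Submodule.torsionBy R _ ((a * algebraMap V R ϖ) ^ n) := by
        refine Submodule.span_le.mpr fun x hx => ?_
        show (a * algebraMap V R ϖ) ^ n • x = 0
        obtain ⟨m, hm⟩ := Nat.exists_eq_add_of_le (Finset.le_sup (f := N) hx : N x ≤ n)
        rw [show n = N x + m from hm, add_comm, pow_add, mul_smul, hN x, smul_zero]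
      exact this (hs ▸ Submodule.mem_top)
    refine ⟨n, ?_⟩
    rw [Submodule.ideal_span_singleton_smul, Submodule.ideal_span_singleton_smul]
    intro x hx
    rw [Submodule.mem_smul_pointwise_iff_exists] at hx ⊢
    obtain ⟨ω, -, rfl⟩ := hx
    have htop : Ideal.span {a ^ n} ⊔ Ideal.span {algebraMap V R ϖ} = ⊤ := by
      have hc : IsCoprime a (algebraMap V R ϖ) := by
        rw [← Ideal.isCoprime_span_singleton_iff, Ideal.isCoprime_iff_sup_eq]; exact ha
      have := Ideal.isCoprime_iff_sup_eq.mp ((Ideal.isCoprime_span_singleton_iff _ _).mpr (hc.pow_left (m := n)))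
      exact this
    obtain ⟨x, hx, y, hy, hxy⟩ := Submodule.mem_sup.mp (htop ▸ Submodule.mem_top : (1 : R) ∈ Ideal.span {a ^ n} ⊔ Ideal.span {algebraMap V R ϖ})
    obtain ⟨c, rfl⟩ := Ideal.mem_span_singleton'.mp hx
    obtain ⟨d, rfl⟩ := Ideal.mem_span_singleton'.mp hy
    refine ⟨d • ω, trivial, ?_⟩
    have h1 : ((p : R) ^ n * (c * a ^ n)) • ω = 0 := by
      rw [hpR, show (algebraMap V R ϖ ^ e * algebraMap V R (u : V)) ^ n * (c * a ^ n) =
        ((algebraMap V R ϖ) ^ ((e - 1) * n) * algebraMap V R (u : V) ^ n * c) * (a * algebraMap V R ϖ) ^ n from ?_,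
        mul_smul, hkill, smul_zero]
      have : e * n = (e - 1) * n + n := by
        obtain ⟨e', rfl⟩ := Nat.exists_eq_add_of_le' (Nat.one_le_iff_ne_zero.mpr he)
        simp [add_mul]
      rw [mul_pow, mul_pow, ← pow_mul, this, pow_add]
      ring
    have h2 : (p : R) ^ n • ω = ((p : R) ^ n * (c * a ^ n)) • ω + (algebraMap V R ϖ * (p : R) ^ n * d) • ω := by
      rw [← add_smul]; congr 1
      calc (p : R) ^ n = (p : R) ^ n * (c * a ^ n + d * algebraMap V R ϖ) := by rw [hxy, mul_one]
        _ = _ := by ring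
    rw [h2, h1, zero_add, mul_smul, mul_smul, smul_smul (algebraMap V R ϖ)]
  intro d hA hR hn
  obtain ⟨n, hn⟩ := hn
  set K := FractionRing V
  haveI : IsLocalization.Away ϖ K := by
    refine (IsLocalization.iff_of_le_of_exists_dvd (Submonoid.powers ϖ) (nonZeroDivisors V) ?_ fun m hm => ?_).2
      (inferInstance : IsFractionRing V K)
    · rw [Submonoid.powers_le]
      exact mem_nonZeroDivisors_of_ne_zero hϖ.ne_zero
    · obtain ⟨k, hk⟩ := IsDiscreteValuationRing.associated_pow_irreducible (nonZeroDivisors.ne_zero hm) hϖ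
      exact ⟨ϖ ^ k, ⟨k, rfl⟩, hk.dvd⟩
  haveI : Algebra.FormallyEtale V K := Algebra.FormallyEtale.of_isLocalization (Submonoid.powers ϖ)
  -- the generic fibres
  obtain ⟨hA1, hA2⟩ := Groth.Agent.S14383.generic_fibre (K := K) (S := A) ϖ d hA
  obtain ⟨hR1, hR2⟩ := Groth.Agent.S14383.generic_fibre (K := K) (S := R) ϖ d hR
  letI : Algebra A (K ⊗[V] A) := Algebra.TensorProduct.rightAlgebra
  letI : Algebra R (K ⊗[V] R) := Algebra.TensorProduct.rightAlgebra
  haveI := hA1
  haveI := hR1
  -- the element
  let q := (p : R) ^ n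
  let M : Submodule R (Ω[R⁄A]) := Ideal.span {q} • ⊤
  have hMle : M ≤ Ideal.span {algebraMap V R ϖ} • M := by
    refine hn.trans ?_
    rw [← Ideal.span_singleton_mul_span_singleton, mul_smul]
  haveI : IsNoetherianRing R := Algebra.FiniteType.isNoetherianRing V R
  haveI : IsNoetherian R (Ω[R⁄A]) := isNoetherian_of_isNoetherianRing_of_finite R _
  obtain ⟨a, ha1, ha2⟩ := Submodule.exists_sub_one_mem_and_smul_eq_zero_of_fg_of_le_smul _ M (IsNoetherian.noetherian M) hMle
  refine ⟨a, ?_, ?_⟩
  · rw [Ideal.eq_top_iff_one]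
    have : (1 : R) = a - (a - 1) := by ring
    rw [this]
    exact sub_mem (Ideal.mem_sup_left (Ideal.mem_span_singleton_self a)) (Ideal.mem_sup_right ha1)
  set w := a * algebraMap V R ϖ
  set L := Localization.Away w
  have hw : IsUnit (algebraMap R L w) := IsLocalization.Away.algebraMap_isUnit w
  rw [map_mul, IsUnit.mul_iff] at hw
  have hϖL : IsUnit (algebraMap V L ϖ) := by rw [IsScalarTower.algebraMap_apply V R L]; exact hw.2
  have huA : ∀ y : Algebra.algebraMapSubmonoid A (Submonoid.powers ϖ), IsUnit (algebraMap A L y) := by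
    rintro ⟨_, _, ⟨i, rfl⟩, rfl⟩
    show IsUnit (algebraMap A L (algebraMap V A (ϖ ^ i)))
    rw [← IsScalarTower.algebraMap_apply, map_pow]; exact hϖL.pow i
  have huR : ∀ y : Algebra.algebraMapSubmonoid R (Submonoid.powers ϖ), IsUnit (algebraMap R L y) := by
    rintro ⟨_, _, ⟨i, rfl⟩, rfl⟩
    show IsUnit (algebraMap R L (algebraMap V R (ϖ ^ i)))
    rw [← IsScalarTower.algebraMap_apply, map_pow]; exact hϖL.pow i
  letI : Algebra (K ⊗[V] A) L := (IsLocalization.lift (S := K ⊗[V] A) huA).toAlgebra
  letI : Algebra (K ⊗[V] R) L := (IsLocalization.lift (S := K ⊗[V] R) huR).toAlgebra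
  haveI tA : IsScalarTower A (K ⊗[V] A) L := .of_algebraMap_eq fun x => (IsLocalization.lift_eq huA x).symm
  haveI tR : IsScalarTower R (K ⊗[V] R) L := .of_algebraMap_eq fun x => (IsLocalization.lift_eq huR x).symm
  haveI : IsScalarTower V (K ⊗[V] A) L := .of_algebraMap_eq fun x => by
    exact (IsScalarTower.algebraMap_apply V A L x).trans ((IsScalarTower.algebraMap_apply A (K ⊗[V] A) L _).trans
      (congrArg _ (IsScalarTower.algebraMap_apply V A (K ⊗[V] A) x).symm))
  haveI : IsScalarTower V (K ⊗[V] R) L := .of_algebraMap_eq fun x => by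
    exact (IsScalarTower.algebraMap_apply V R L x).trans ((IsScalarTower.algebraMap_apply R (K ⊗[V] R) L _).trans
      (congrArg _ (IsScalarTower.algebraMap_apply V R (K ⊗[V] R) x).symm))
  haveI eA : Algebra.FormallyEtale A (K ⊗[V] A) := Algebra.FormallyEtale.of_isLocalization (Algebra.algebraMapSubmonoid A (Submonoid.powers ϖ))
  haveI eR : Algebra.FormallyEtale R (K ⊗[V] R) := Algebra.FormallyEtale.of_isLocalization (Algebra.algebraMapSubmonoid R (Submonoid.powers ϖ))
  haveI eL : Algebra.FormallyEtale R L := Algebra.FormallyEtale.of_isLocalization (Submonoid.powers w)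
  haveI : Algebra.FormallyUnramified R (K ⊗[V] R) := inferInstance
  haveI : Algebra.FormallyEtale (K ⊗[V] R) L := Algebra.FormallyEtale.of_restrictScalars (R := R)
  haveI : Algebra.FormallySmooth V L := Algebra.FormallySmooth.comp V (K ⊗[V] R) L
  -- relative differentials vanish
  have hq : IsUnit (algebraMap R L q) := by
    rw [map_pow, hpR, map_mul, map_pow, ← IsScalarTower.algebraMap_apply, ← IsScalarTower.algebraMap_apply]
    exact ((hϖL.pow e).mul (u.isUnit.map (algebraMap V L))).pow n
  haveI : Subsingleton (Ω[L⁄A]) := by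
    let T := KaehlerDifferential.tensorKaehlerEquivOfFormallyEtale A R L
    suffices h : ∀ x : L ⊗[R] Ω[R⁄A], x = 0 from
      T.symm.toEquiv.subsingleton_congr.mpr ⟨fun x y => (h x).trans (h y).symm⟩
    intro x
    induction x using TensorProduct.induction_on with
    | zero => rfl
    | add x y hx hy => rw [hx, hy, add_zero]
    | tmul l ω =>
      have h0 : (a * q) • ω = 0 := by
        rw [mul_smul]
        exact ha2 _ (Submodule.smul_mem_smul (Ideal.mem_span_singleton_self q) trivial)
      obtain ⟨v, hv⟩ := hw.1.mul hq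
      have : l = (↑v⁻¹ * l) * algebraMap R L (a * q) := by
        rw [map_mul, ← hv, mul_comm, ← mul_assoc, Units.mul_inv, one_mul]
      rw [this, mul_comm, ← Algebra.smul_def, TensorProduct.smul_tmul, h0, TensorProduct.tmul_zero]
  haveI : Algebra.FormallyUnramified A L := ⟨inferInstance⟩
  haveI : Algebra.FormallyUnramified (K ⊗[V] A) L := Algebra.FormallyUnramified.of_restrictScalars A (K ⊗[V] A) L
  haveI : Algebra.FormallyEtale (K ⊗[V] A) L := by
    haveI : Module.Finite (K ⊗[V] A) (Ω[(K ⊗[V] A)⁄V]) := Module.Finite.equiv (KaehlerDifferential.tensorKaehlerEquivOfFormallyEtale V A (K ⊗[V] A))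
    haveI : Module.Finite L (Ω[L⁄V]) := Module.Finite.equiv (KaehlerDifferential.tensorKaehlerEquivOfFormallyEtale V R L)
    refine Groth.Agent.S14383.formallyEtale_of_rank V (K ⊗[V] A) L d (fun P => ?_) (fun P => ?_)
    · exact hA2 P
    · haveI : Module.Projective (K ⊗[V] R) (Ω[(K ⊗[V] R)⁄V]) := Algebra.FormallySmooth.projective_kaehlerDifferential
      haveI : Module.Finite (K ⊗[V] R) (Ω[(K ⊗[V] R)⁄V]) := Module.Finite.equiv (KaehlerDifferential.tensorKaehlerEquivOfFormallyEtale V R (K ⊗[V] R))
      rw [← Module.rankAtStalk_eq_of_equiv (KaehlerDifferential.tensorKaehlerEquivOfFormallyEtale V (K ⊗[V] R) L),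
        Module.rankAtStalk_baseChange]
      exact hR2 _
  haveI : Algebra.FormallyEtale A L := Algebra.FormallyEtale.comp A (K ⊗[V] A) L
  haveI : Algebra.FiniteType A L := Algebra.FiniteType.trans (S := R) ‹_› inferInstance
  haveI : Algebra.FinitePresentation A L := Algebra.FinitePresentation.of_finiteType.mp ‹_›
  rw [← IsScalarTower.algebraMap_eq A R L, RingHom.etale_algebraMap]
  exact ⟨inferInstance, inferInstance⟩

end Groth.Agent.S14383
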