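import Groth.Statements.S14388
import Mathlib.Algebra.Homology.DerivedCategory.FullyFaithful
import Mathlib.Algebra.Homology.DerivedCategory.TStructure
import Mathlib.Algebra.Homology.DerivedCategory.HomologySequence
import Mathlib.CategoryTheory.Triangulated.TStructure.SpectralObject

set_option autoImplicit false
open CategoryTheory CategoryTheory.Limits
universe w v u
open CohDer

namespace Groth.Agent.S14388

open CategoryTheory Category Limits Pretriangulated DerivedCategory Triangulated

namespace S14388Aux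

variable {C : Type u} [Category.{v} C] [Abelian C] [HasDerivedCategory.{w} C]

lemma eq_zero_of_homology {X Y : DerivedCategory C} (n : ℤ) [X.IsGE n] [X.IsLE n] [Y.IsGE n]
    [Y.IsLE n] (g : X ⟶ Y) (h : (homologyFunctor C n).map g = 0) : g = 0 := by
  obtain ⟨A, ⟨e⟩⟩ := exists_iso_singleFunctor_obj_of_isGE_of_isLE X n
  obtain ⟨B, ⟨e'⟩⟩ := exists_iso_singleFunctor_obj_of_isGE_of_isLE Y n
  obtain ⟨k, hk⟩ := (singleFunctor C n).map_surjective (e.inv ≫ g ≫ e'.hom)
  have h2 : (homologyFunctor C n).map ((singleFunctor C n).map k) = 0 := by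
    rw [hk]; simp [Functor.map_comp, h]
  have h3 : k = 0 := by
    have := NatIso.naturality_1 (singleFunctorCompHomologyFunctorIso C n) k
    simp only [Functor.comp_map, h2, zero_comp, comp_zero, Functor.id_map] at this
    exact this.symm
  rw [h3, Functor.map_zero] at hk
  rw [← cancel_epi e.inv, ← cancel_mono e'.hom, Category.assoc, ← hk]
  simp

lemma homology_truncLT_map {X Y : DerivedCategory C} (f : X ⟶ Y) (n m : ℤ) (hnm : n < m)
    (h : (homologyFunctor C n).map f = 0) :
    (homologyFunctor C n).map (((DerivedCategory.TStructure.t (C := C)).truncLT m).map f) = 0 := by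
  have hm : Mono ((homologyFunctor C n).map (((DerivedCategory.TStructure.t (C := C)).truncLTι m).app Y)) := by
    refine (HomologySequence.mono_homologyMap_mor₁_iff _
      ((DerivedCategory.TStructure.t (C := C)).triangleLTGE_distinguished m Y) (n - 1) n (by omega)).2 ?_
    haveI : (((DerivedCategory.TStructure.t (C := C)).truncGE m).obj Y).IsGE m := (DerivedCategory.TStructure.t (C := C)).isGE_truncGE_obj Y m m le_rfl
    exact (isZero_of_isGE (((DerivedCategory.TStructure.t (C := C)).truncGE m).obj Y) m (n - 1) (by omega)).eq_of_src _ _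
  rw [← cancel_mono ((homologyFunctor C n).map (((DerivedCategory.TStructure.t (C := C)).truncLTι m).app Y)), ← Functor.map_comp,
    ((DerivedCategory.TStructure.t (C := C)).truncLTι m).naturality f, zero_comp]
  simp [h]

lemma homology_truncGE_map {X Y : DerivedCategory C} (f : X ⟶ Y) (n m : ℤ) (hnm : m ≤ n)
    (h : (homologyFunctor C n).map f = 0) :
    (homologyFunctor C n).map (((DerivedCategory.TStructure.t (C := C)).truncGE m).map f) = 0 := by
  have hm : Epi ((homologyFunctor C n).map (((DerivedCategory.TStructure.t (C := C)).truncGEπ m).app X)) := by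
    refine (HomologySequence.epi_homologyMap_mor₂_iff _
      ((DerivedCategory.TStructure.t (C := C)).triangleLTGE_distinguished m X) n (n + 1) rfl).2 ?_
    haveI : (((DerivedCategory.TStructure.t (C := C)).truncLT m).obj X).IsLE (m - 1) := (DerivedCategory.TStructure.t (C := C)).isLE_truncLT_obj X m (m - 1) (by omega)
    exact (isZero_of_isLE (((DerivedCategory.TStructure.t (C := C)).truncLT m).obj X) (m - 1) (n + 1) (by omega)).eq_of_tgt _ _
  rw [← cancel_epi ((homologyFunctor C n).map (((DerivedCategory.TStructure.t (C := C)).truncGEπ m).app X)), ← Functor.map_comp,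
    ← ((DerivedCategory.TStructure.t (C := C)).truncGEπ m).naturality f, comp_zero]
  simp [h]

lemma truncGELT_map_eq_zero {X Y : DerivedCategory C} (f : X ⟶ Y) (n m : ℤ) (hm : n + 1 = m)
    (h : (homologyFunctor C n).map f = 0) :
    ((DerivedCategory.TStructure.t (C := C)).truncGELT n m).map f = 0 := by
  have hn : m - 1 = n := by omega
  have hle : ∀ Z : DerivedCategory C, (((DerivedCategory.TStructure.t (C := C)).truncGELT n m).obj Z).IsLE n := fun Z => by
    have : (DerivedCategory.TStructure.t (C := C)).IsLE (((DerivedCategory.TStructure.t (C := C)).truncGELT n m).obj Z) (m - 1) := inferInstance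
    rwa [hn] at this
  have hge : ∀ Z : DerivedCategory C, (((DerivedCategory.TStructure.t (C := C)).truncGELT n m).obj Z).IsGE n := fun Z => inferInstance
  haveI := hle X; haveI := hle Y; haveI := hge X; haveI := hge Y
  exact eq_zero_of_homology n _
    (homology_truncGE_map _ n n le_rfl (homology_truncLT_map f n m (by omega) h))

noncomputable abbrev incl (a b c : ℤ) (hbc : b ≤ c) (X : DerivedCategory C) :
    ((DerivedCategory.TStructure.t (C := C)).truncGELT a b).obj X ⟶ ((DerivedCategory.TStructure.t (C := C)).truncGELT a c).obj X :=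
  ((DerivedCategory.TStructure.t (C := C)).truncGE a).map (((DerivedCategory.TStructure.t (C := C)).natTransTruncLTOfLE b c hbc).app X)

noncomputable abbrev proj (a b c : ℤ) (hab : a ≤ b) (X : DerivedCategory C) :
    ((DerivedCategory.TStructure.t (C := C)).truncGELT a c).obj X ⟶ ((DerivedCategory.TStructure.t (C := C)).truncGELT b c).obj X :=
  ((DerivedCategory.TStructure.t (C := C)).natTransTruncGEOfLE a b hab).app (((DerivedCategory.TStructure.t (C := C)).truncLT c).obj X)

set_option backward.isDefEq.respectTransparency false in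
lemma exists_triangle (a b c : ℤ) (hab : a ≤ b) (hbc : b ≤ c) (X : DerivedCategory C) :
    ∃ δ, Triangle.mk (incl a b c hbc X) (proj a b c hab X) δ ∈ distTriang _ := by
  have hab' : (a : EInt) ≤ (b : EInt) := by simpa using hab
  have hbc' : (b : EInt) ≤ (c : EInt) := by simpa using hbc
  refine ⟨((DerivedCategory.TStructure.t (C := C)).ω₁δ (a : EInt) b c hab' hbc').app X, ?_⟩
  refine isomorphic_distinguished _ ((DerivedCategory.TStructure.t (C := C)).triangleω₁δ_distinguished (a : EInt) b c hab' hbc' X) _ ?_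
  refine Triangle.isoMk _ _ (Iso.refl _) (Iso.refl _) (Iso.refl _) ?_ ?_ ?_
  · dsimp [incl]
    simp
    rfl
  · dsimp [proj]
    simp
    rfl
  · dsimp
    simp

end S14388Aux

open S14388Aux

/-- Let A be an abelian category, D(A) its derived category with the canonical t-structure and
truncation functors τ_{≥a}, τ_{<b}, and write τ_[a,b] = τ_{≥a} ∘ τ_{<b+1}, so that τ_[q,q] K is
H^q(K) placed in degree q. Let f : K → K' be a morphism in D(A) and q an integer such that the
induced maps H^(q-1)(K) → H^(q-1)(K') and H^q(K) → H^q(K') are both zero. Then there is a unique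
morphism L : τ_[q,q] K → τ_[q-1,q-1] K' such that τ_[q-1,q](f) : τ_[q-1,q] K → τ_[q-1,q] K' is the
composite of the canonical projection τ_[q-1,q] K → τ_[q,q] K, the morphism L, and the canonical
inclusion τ_[q-1,q-1] K' → τ_[q-1,q] K'. (Under τ_[n,n] ≅ H^n(−)[−n] the morphism L corresponds to a
morphism L_f[−q] : H^q(K)[−q] → H^(q-1)(K')[1−q].) -/
theorem result {C : Type u} [Category.{v} C] [Abelian C]
    [HasDerivedCategory.{w} C] {K K' : DerivedCategory C} (f : K ⟶ K') (q : ℤ)
    (h₁ : (DerivedCategory.homologyFunctor C (q - 1)).map f = 0)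
    (h₂ : (DerivedCategory.homologyFunctor C q).map f = 0) :
    ∃! L : ((DerivedCategory.TStructure.t (C := C)).truncGELT q (q + 1)).obj K ⟶
        ((DerivedCategory.TStructure.t (C := C)).truncGELT (q - 1) q).obj K',
      ((DerivedCategory.TStructure.t (C := C)).truncGELT (q - 1) (q + 1)).map f =
        ((DerivedCategory.TStructure.t (C := C)).natTransTruncGEOfLE (q - 1) q (sub_one_lt q).le).app
            (((DerivedCategory.TStructure.t (C := C)).truncLT (q + 1)).obj K) ≫ L ≫
          ((DerivedCategory.TStructure.t (C := C)).truncGE (q - 1)).map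
            (((DerivedCategory.TStructure.t (C := C)).natTransTruncLTOfLE q (q + 1) (lt_add_one q).le).app K') := by
  set t := DerivedCategory.TStructure.t (C := C)
  have h1q : q - 1 ≤ q := by omega
  have hq1 : q ≤ q + 1 := by omega
  obtain ⟨δ, hT⟩ := exists_triangle (C := C) (q - 1) q (q + 1) h1q hq1 K
  obtain ⟨δ', hT'⟩ := exists_triangle (C := C) (q - 1) q (q + 1) h1q hq1 K'
  -- naturality of the inclusion and of the projection
  have ni : incl (q - 1) q (q + 1) hq1 K ≫ (t.truncGELT (q - 1) (q + 1)).map f = 0 := by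
    have e : (t.natTransTruncLTOfLE q (q + 1) hq1).app K ≫ (t.truncLT (q + 1)).map f =
        (t.truncLT q).map f ≫ (t.natTransTruncLTOfLE q (q + 1) hq1).app K' :=
      ((t.natTransTruncLTOfLE q (q + 1) hq1).naturality f).symm
    have e0 := truncGELT_map_eq_zero f (q - 1) q (by omega) h₁
    show (t.truncGE (q - 1)).map _ ≫ (t.truncGE (q - 1)).map ((t.truncLT (q + 1)).map f) = 0
    rw [← Functor.map_comp, e, Functor.map_comp]
    exact (congrArg (· ≫ _) e0).trans zero_comp
  have np : (t.truncGELT (q - 1) (q + 1)).map f ≫ proj (q - 1) q (q + 1) h1q K' = 0 := by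
    have e := (t.natTransTruncGEOfLE (q - 1) q h1q).naturality ((t.truncLT (q + 1)).map f)
    have e0 := truncGELT_map_eq_zero f q (q + 1) rfl h₂
    exact e.trans ((congrArg (_ ≫ ·) e0).trans comp_zero)
  -- vanishing of homs
  haveI A1 : t.IsLE ((t.truncGELT (q - 1) q).obj K) (q - 1) := inferInstance
  haveI A1' : t.IsLE ((t.truncGELT (q - 1) q).obj K') (q - 1) := inferInstance
  haveI A2 : t.IsGE ((t.truncGELT q (q + 1)).obj K') q := inferInstance
  haveI A2' : t.IsGE ((t.truncGELT q (q + 1)).obj K) q := inferInstance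
  -- postcomposition with the inclusion is injective on maps out of objects `≤ q`
  have inj : ∀ {Z : DerivedCategory C}, t.IsLE Z q →
      ∀ (g : Z ⟶ (t.truncGELT (q - 1) q).obj K'),
      g ≫ incl (q - 1) q (q + 1) hq1 K' = 0 → g = 0 := by
    intro Z hZ g hg
    obtain ⟨k, hk⟩ := Triangle.coyoneda_exact₂ _ (inv_rot_of_distTriang _ hT') g hg
    have : t.IsGE (((t.truncGELT q (q + 1)).obj K')⟦(-1 : ℤ)⟧) (q + 1) :=
      t.isGE_shift _ q (-1) (q + 1) (by omega)
    have hk0 : k = 0 := t.zero_of_isLE_of_isGE k q (q + 1) (by omega) hZ this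
    rw [hk, hk0]; exact zero_comp
  obtain ⟨g, hg⟩ : ∃ g : (t.truncGELT (q - 1) (q + 1)).obj K ⟶ (t.truncGELT (q - 1) q).obj K',
      (t.truncGELT (q - 1) (q + 1)).map f = g ≫ incl (q - 1) q (q + 1) hq1 K' :=
    Triangle.coyoneda_exact₂ _ hT' _ np
  have hig : incl (q - 1) q (q + 1) hq1 K ≫ g = 0 := by
    apply inj (t.isLE_of_le _ (q - 1) q (by omega))
    rw [Category.assoc]
    exact (congrArg (_ ≫ ·) hg.symm).trans ni
  obtain ⟨L, hL⟩ : ∃ L : (t.truncGELT q (q + 1)).obj K ⟶ (t.truncGELT (q - 1) q).obj K',
      g = proj (q - 1) q (q + 1) h1q K ≫ L :=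
    Triangle.yoneda_exact₂ _ hT g hig
  refine ⟨L, ?_, ?_⟩
  · show _ = proj (q - 1) q (q + 1) h1q K ≫ L ≫ incl (q - 1) q (q + 1) hq1 K'
    rw [← Category.assoc]
    exact hg.trans (congrArg (· ≫ _) hL)
  · intro L' hL'
    have hd : proj (q - 1) q (q + 1) h1q K ≫ (L' - L) = 0 := by
      apply inj
      · have : t.IsLE ((t.truncGELT (q - 1) (q + 1)).obj K) (q + 1 - 1) := inferInstance
        rwa [add_sub_cancel_right] at this
      · have hL2 : (proj (q - 1) q (q + 1) h1q K ≫ L) ≫ incl (q - 1) q (q + 1) hq1 K' =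
            (t.truncGELT (q - 1) (q + 1)).map f := (hg.trans (congrArg (· ≫ _) hL)).symm
        rw [Preadditive.comp_sub, Preadditive.sub_comp, hL2, Category.assoc, sub_eq_zero]
        exact hL'.symm
    obtain ⟨k, hk⟩ := Triangle.yoneda_exact₂ _ (rot_of_distTriang _ hT) (L' - L) hd
    have hle2 : t.IsLE (((t.truncGELT (q - 1) q).obj K)⟦(1 : ℤ)⟧) (q - 2) :=
      t.isLE_shift _ (q - 1) 1 (q - 2) (by omega)
    haveI : t.IsGE ((t.truncGELT (q - 1) q).obj K') (q - 1) := inferInstance
    have hk0 : k = 0 := t.zero_of_isLE_of_isGE k (q - 2) (q - 1) (by omega) hle2 inferInstance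
    rw [hk0] at hk
    exact sub_eq_zero.1 (hk.trans comp_zero)

end Groth.Agent.S14388
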