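import Groth.Statements.S14389
import Groth.Agent.EtLimLib.Hpull
import Groth.Agent.EtLimLib.Bridge
import Groth.Agent.S0101

set_option backward.isDefEq.respectTransparency false
set_option backward.isDefEq.respectTransparency.types false
set_option linter.style.haveILetI false
set_option maxHeartbeats 1000000

set_option autoImplicit false
open CategoryTheory CategoryTheory.Limits AlgebraicGeometry Opposite
universe u
open EtLim

namespace Groth.Agent.S14389

/-- For small étale sites of schemes: let g' ≫ f = f' ≫ g be a commutative square of schemes with f : X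
→ Y, g : Y' → Y, f' : X' → Y', g' : X' → X, and let F be an abelian sheaf on the small étale site of
X. For every q and every class ζ in H^q(Y_ét, f_*F), the pullback along g' of the image of ζ under
the canonical map H^q(Y, f_*F) → H^q(X, F) (pull back along f, then apply the counit f⁻¹f_*F → F)
equals the image of g^*ζ ∈ H^q(Y', g⁻¹f_*F) under the map induced by the base-change morphism
g⁻¹f_*F → f'_*g'⁻¹F followed by the canonical map H^q(Y', f'_*g'⁻¹F) → H^q(X', g'⁻¹F). (The
published statement is for a commutative square of topoi with a chosen isomorphism f_*g'_* ≅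
g_*f'_*; this row is the square of étale topoi of schemes. Exactness of pullback of abelian sheaves,
which always holds, is carried as instance hypotheses.) -/
theorem result {X Y X' Y' : Scheme.{u}} (f : X ⟶ Y)
    (g : Y' ⟶ Y) (f' : X' ⟶ Y') (g' : X' ⟶ X) (w : g' ≫ f = f' ≫ g) (F : EtCoh.Ab X) (q : ℕ)
    [PreservesFiniteLimits (EtCoh.pull f)] [PreservesFiniteLimits (EtCoh.pull g)]
    [PreservesFiniteLimits (EtCoh.pull f')] [PreservesFiniteLimits (EtCoh.pull g')]
    (ζ : EtCoh.H Y ((EtCoh.push f).obj F) q) :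
    EtCore.Hpull g' F q (EtLim.HofPush f F q ζ) =
      EtLim.HofPush f' ((EtCoh.pull g').obj F) q
        (((EtCoh.HF Y' q).map (EtCoh.baseChange0 f g f' g' w F)).hom
          (EtCore.Hpull g ((EtCoh.push f).obj F) q ζ)) := by
  haveI : PreservesFiniteLimits (EtCoh.pull (f' ≫ g)) := Groth.Agent.S0101.result _
  have hid : ∀ {A B : Scheme.{u}} (v : A ⟶ B) [PreservesFiniteLimits (EtCoh.pull v)] (G : EtCoh.Ab B)
      (x : EtCoh.H B G q), EtCore.Hpull v G q x = EtLim.HpullThen v G (𝟙 _) q x := fun v _ G x =>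
    (Abelian.Ext.comp_mk₀_id _).symm
  let P := (EtCoh.push f).obj F
  let N := (EtCoh.pull g').obj F
  let ε := (EtCoh.pullPushAdj f).counit.app F
  let ε' := (EtCoh.pullPushAdj f').counit.app N
  let bc := EtCoh.baseChange0 f g f' g' w F
  let γ : (EtCoh.pull (f' ≫ g)).obj P ⟶ N := ((EtCoh.pullPushAdj (f' ≫ g)).homEquiv _ _).symm
    ((EtCoh.push f).map ((EtCoh.pullPushAdj g').unit.app F) ≫ Groth.Agent.EtLimLib.pushJoin f g' (f' ≫ g) w N)
  have e : ∀ {A B : Scheme.{u}} (v : A ⟶ B) (G : EtCoh.Ab A),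
      (EtCoh.pullPushAdj v).homEquiv _ _ ((EtCoh.pullPushAdj v).counit.app G) = 𝟙 _ := fun v G => by
    rw [Adjunction.homEquiv_unit]
    exact (EtCoh.pullPushAdj v).right_triangle_components G
  have hγ : (EtCoh.pullPushAdj (f' ≫ g)).homEquiv P N γ =
      (EtCoh.push f).map ((EtCoh.pullPushAdj g').unit.app F) ≫ Groth.Agent.EtLimLib.pushJoin f g' (f' ≫ g) w N :=
    Equiv.apply_symm_apply _ _
  have hbc : (EtCoh.pullPushAdj g).homEquiv P ((EtCoh.push f').obj N) bc =
      (EtCoh.push f).map ((EtCoh.pullPushAdj g').unit.app F) ≫ (EtCoh.pushComp f g').hom.app N ≫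
        (EtCoh.pushCongr w).hom.app N ≫ (EtCoh.pushComp g f').inv.app N :=
    Equiv.apply_symm_apply _ _
  have hg1 : (EtCoh.pullPushAdj g').homEquiv F N (𝟙 N) = (EtCoh.pullPushAdj g').unit.app F :=
    Adjunction.homEquiv_id _ _
  have h1 := Groth.Agent.EtLimLib.HpullThen_comp f g' (f' ≫ g) w (F := P) (M := F) (N := N) ε (𝟙 N) γ (by
    refine hγ.trans ?_
    refine Eq.trans ?_ (congrArg (fun a => a ≫ (EtCoh.push f).map ((EtCoh.pullPushAdj g').homEquiv F N (𝟙 N)) ≫
      Groth.Agent.EtLimLib.pushJoin f g' (f' ≫ g) w N) (e f F).symm)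
    rw [hg1]
    exact (Category.id_comp _).symm) q ζ
  have h2 := Groth.Agent.EtLimLib.HpullThen_comp g f' (f' ≫ g) rfl (F := P) (M := (EtCoh.push f').obj N) (N := N) bc ε' γ (by
    refine hγ.trans ?_
    refine Eq.trans ?_ (congrArg (fun a => ((EtCoh.pullPushAdj g).homEquiv P ((EtCoh.push f').obj N) bc) ≫
      (EtCoh.push g).map a ≫ Groth.Agent.EtLimLib.pushJoin g f' (f' ≫ g) rfl N) (e f' N).symm)
    show _ = _ ≫ (EtCoh.push g).map (𝟙 ((EtCoh.push f').obj N)) ≫ _
    rw [hbc, CategoryTheory.Functor.map_id, Category.id_comp, ← Groth.Agent.EtLimLib.pushComp_hom_eq,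
      Category.assoc, Category.assoc, Category.assoc, Iso.inv_hom_id_app, Category.comp_id,
      Groth.Agent.EtLimLib.pushComp_congr_eq]) q ζ
  calc EtCore.Hpull g' F q (EtLim.HofPush f F q ζ)
      = EtLim.HpullThen g' F (𝟙 _) q (EtLim.HpullThen f P ε q ζ) := hid g' F _
    _ = EtLim.HpullThen (f' ≫ g) P γ q ζ := h1.symm
    _ = EtLim.HpullThen f' ((EtCoh.push f').obj N) ε' q (EtLim.HpullThen g P bc q ζ) := h2
    _ = _ := rfl

end Groth.Agent.S14389
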