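import Groth.Statements.S1439
import Groth.Agent.WeightStrat.Top
-- import your own Groth.Agent.* helpers here

set_option autoImplicit false
set_option backward.isDefEq.respectTransparency false
universe u
open FlatMor

namespace Groth.Agent.S1439

open AlgebraicGeometry CategoryTheory Limits in
/-- Let f : X → Y be surjective and quasi-finite with X affine and Y separated and nonempty, and let w
be a positive weighting of f. If the fibre integral of w along f takes exactly k distinct values,
then Y has an affine stratification with index set {0, …, k − 1} (its affine stratification number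
is at most k − 1). -/
theorem result {X Y : Scheme.{u}} (f : X ⟶ Y) [Surjective f] [LocallyQuasiFinite f] [LocallyOfFiniteType f] [QuasiCompact f]
    [IsAffine X] [Y.IsSeparated] [Nonempty ↑Y] (w : ↑X → ℤ) (hw : MoreMor.IsWeighting f w) (hpos : ∀ x, 0 < w x)
    (k : ℕ) (hk : (Set.range (MoreMor.fibreIntegral f w)).ncard = k) (hkfin : (Set.range (MoreMor.fibreIntegral f w)).Finite) :
    MoreMor.HasAffineStratification Y (k - 1) := by
  classical
  haveI : IsSeparated (terminal.from Y) := (inferInstance : Y.IsSeparated).1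
  haveI : IsSeparated f := inferInstance
  have hfin : ∀ y : Y, (f ⁻¹' {y}).Finite := fun y => f.finite_preimage_singleton y
  let G := MoreMor.fibreIntegral f w
  have hGpos : ∀ y, 0 < G y := fun y => by
    obtain ⟨x, rfl⟩ := f.surjective y
    exact lt_of_lt_of_le (hpos x) (Groth.Agent.EtaleSplit.le_fibreIntegral f w x (fun z _ => (hpos z).le)
      ((hfin _).subset fun _ h => h.2))
  have hk0 : k ≠ 0 := by
    rw [← hk]
    exact (Set.ncard_pos hkfin).mpr (Set.range_nonempty _) |>.ne'
  obtain ⟨m, rfl⟩ := Nat.exists_eq_succ_of_ne_zero hk0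
  have hcard : hkfin.toFinset.card = m + 1 := by rw [← Set.ncard_eq_toFinset_card _ hkfin]; exact hk
  let e := hkfin.toFinset.orderIsoOfFin hcard
  let s : Y → Fin (m + 1) := fun y => e.symm ⟨G y, by simp [G]⟩
  have hs : ∀ y i, s y ≤ i ↔ G y ≤ (e i).1 := fun y i => by
    show e.symm _ ≤ i ↔ _
    rw [OrderIso.symm_apply_le]
    rfl
  have hs' : ∀ y i, s y = i ↔ G y = (e i).1 := fun y i => by
    show e.symm _ = i ↔ _
    rw [OrderIso.symm_apply_eq, Subtype.ext_iff]
  have hlsc := Groth.Agent.EtaleSplit.IsWeighting.lowerSemicontinuous hfin hw hpos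
  show ∃ s : Y → Fin (m + 1), _
  refine ⟨s, fun i => ?_, fun i => ?_⟩
  · rw [show {y | s y ≤ i} = G ⁻¹' Set.Iic (e i).1 from Set.ext fun y => hs y i]
    exact hlsc.isClosed_preimage _
  · let d := (e i).1
    have hd : 0 < d := by
      obtain ⟨y, hy⟩ : d ∈ Set.range G := hkfin.mem_toFinset.mp (e i).2
      exact hy ▸ hGpos y
    let I := Scheme.IdealSheafData.vanishingIdeal (⟨G ⁻¹' Set.Iic d, hlsc.isClosed_preimage _⟩ : TopologicalSpace.Closeds Y)
    let ι := I.subschemeι
    have hrange : Set.range ι = G ⁻¹' Set.Iic d := by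
      rw [Scheme.IdealSheafData.range_subschemeι, Scheme.IdealSheafData.coe_support_vanishingIdeal]
      rfl
    have hc : IsPullback (pullback.fst f ι) (pullback.snd f ι) f ι := IsPullback.of_hasPullback f ι
    haveI : IsAffine (pullback f ι) := isAffine_of_isAffineHom (pullback.fst f ι)
    haveI : LocallyQuasiFinite (pullback.snd f ι) := MorphismProperty.pullback_snd _ _ inferInstance
    haveI : LocallyOfFiniteType (pullback.snd f ι) := MorphismProperty.pullback_snd _ _ inferInstance
    haveI : QuasiCompact (pullback.snd f ι) := MorphismProperty.pullback_snd _ _ inferInstance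
    haveI : I.subscheme.IsSeparated := ⟨by
      rw [← terminal.comp_from ι]
      infer_instance⟩
    have hGc : ∀ z, MoreMor.fibreIntegral (pullback.snd f ι) (fun a => w (pullback.fst f ι a)) z = G (ι z) := fun z =>
      Groth.Agent.EtaleSplit.fibreIntegral_baseChange hc w z ((hfin _).subset fun _ hx => hx.2)
    obtain ⟨U, hU, hUaff⟩ := Groth.Agent.WeightStrat.isAffine_max (pullback.snd f ι)
      (Groth.Agent.EtaleSplit.IsWeighting.baseChange hw hc) (fun a => hpos _) d hd fun z => by
        rw [hGc]; exact (hrange ▸ Set.mem_range_self z : ι z ∈ G ⁻¹' Set.Iic d)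
    haveI : IsAffine U.toScheme := hUaff
    refine ⟨U.toScheme, U.ι ≫ ι, inferInstance, inferInstance, ?_, ?_⟩
    · haveI : IsAffineHom ((U.ι ≫ ι) ≫ terminal.from Y) := inferInstance
      exact IsAffineHom.of_comp _ (terminal.from Y)
    · rw [Scheme.Hom.comp_base, TopCat.coe_comp, Set.range_comp, Scheme.Opens.range_ι, hU]
      ext y
      constructor
      · rintro ⟨z, hz, rfl⟩
        exact (hs' _ i).mpr ((hGc z).symm.trans hz)
      · intro hy
        have hy' : G y = d := (hs' y i).mp hy
        obtain ⟨z, rfl⟩ : y ∈ Set.range ι := hrange ▸ (show y ∈ G ⁻¹' Set.Iic d from hy'.le)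
        exact ⟨z, (hGc z).trans hy', rfl⟩

end Groth.Agent.S1439
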