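import Groth.Statements.S14397
import Mathlib

set_option autoImplicit false
universe u
open DualGr

namespace Groth.Agent.S14397

/-- Let (V, E) with endpoint map E → V × V be a finite multigraph (loops and parallel edges allowed; the
order of the two endpoints is an auxiliary orientation), and let D_1, …, D_n be finite sets of edges
such that every edge lies outside at least one D_i. For each i let Γ_i be the multigraph obtained by
contracting the edges of D_i, and let H₁(Γ, ℤ) → H₁(Γ_i, ℤ) be the map of cycle lattices (integer
edge vectors with zero boundary) given by restriction to the surviving edges. Then the map H₁(Γ, ℤ)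
→ ⊕_i H₁(Γ_i, ℤ) has torsion-free cokernel. (The published statement is about the connected labelled
dual graph of the closed fibre of a nodal curve, smooth outside a normal crossing divisor with
components D_1, …, D_n, over a Noetherian regular strictly local base; Γ_i is the dual graph of the
fibre over the generic point of D_i, the lattices are identified with the character groups of the
toric parts of the Picard schemes of these fibres, and the map is the generization map of character
groups; this row states the assertion about cycle lattices, for any finite multigraph, which is what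
the argument establishes.) -/
theorem result
    {V E : Type u} [Fintype V] [Fintype E] [DecidableEq V] [DecidableEq E]
    (ends : E → V × V) {n : ℕ} (D : Fin n → Finset E) (hcover : ∀ e : E, ∃ i : Fin n, e ∉ D i) :
    IsAddTorsionFree (((i : Fin n) → ↥(DualGr.cycleLattice (DualGr.ctrEnds ends (D i)))) ⧸
      LinearMap.range (LinearMap.pi fun i : Fin n => DualGr.genMap ends (D i))) := by
  suffices h : ∀ (m : ℕ), m ≠ 0 → ∀ c : (i : Fin n) → ↥(DualGr.cycleLattice (DualGr.ctrEnds ends (D i))),
      m • c ∈ LinearMap.range (LinearMap.pi fun i : Fin n => DualGr.genMap ends (D i)) →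
      c ∈ LinearMap.range (LinearMap.pi fun i : Fin n => DualGr.genMap ends (D i)) by
    refine ⟨fun m hm a b hab => ?_⟩
    obtain ⟨a, rfl⟩ := Submodule.Quotient.mk_surjective _ a
    obtain ⟨b, rfl⟩ := Submodule.Quotient.mk_surjective _ b
    change m • Submodule.Quotient.mk a = m • Submodule.Quotient.mk b at hab
    rw [← Submodule.Quotient.mk_smul, ← Submodule.Quotient.mk_smul, Submodule.Quotient.eq, ← nsmul_sub] at hab
    exact (Submodule.Quotient.eq _).2 (h m hm _ hab)
  rintro m hm c ⟨z, hz⟩
  have hz' : ∀ (i : Fin n) (e : DualGr.CtrEdge (D i)), z.1 e.1 = (m : ℤ) * (c i).1 e := fun i e => by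
    have := congr_arg (fun y : (i : Fin n) → ↥(DualGr.cycleLattice (DualGr.ctrEnds ends (D i))) => (y i).1 e) hz
    simpa [DualGr.genMap, DualGr.resE, nsmul_eq_mul] using this
  have hm' : (m : ℤ) ≠ 0 := Int.natCast_ne_zero.2 hm
  choose i hi using hcover
  let w : E → ℤ := fun e => (c (i e)).1 ⟨e, hi e⟩
  have hzw : z.1 = (m : ℤ) • w := funext fun e => by simpa [w] using hz' (i e) ⟨e, hi e⟩
  have hw : w ∈ DualGr.cycleLattice ends := by
    have h0 := z.2
    simp only [DualGr.cycleLattice, LinearMap.mem_ker] at h0 ⊢
    rw [hzw, map_smul] at h0
    exact (smul_eq_zero.1 h0).resolve_left hm'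
  refine ⟨⟨w, hw⟩, funext fun j => Subtype.ext (funext fun e => mul_left_cancel₀ hm' ?_)⟩
  rw [← hz' j e, hzw]
  simp [DualGr.genMap, DualGr.resE]

end Groth.Agent.S14397
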