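import Groth.Statements.S14399
import Groth.Agent.GenTrivVertLib.Comp
import Groth.Agent.GenTrivVertLib.Div
import Groth.Agent.GenTrivVertLib.Special
import Groth.Agent.NodePtLib.Gor

set_option autoImplicit false
set_option backward.isDefEq.respectTransparency false
set_option linter.style.haveILetI false
universe u
open CategoryTheory AlgebraicGeometry
open SemiFact

namespace Groth.Agent.S14399

/-- Let R be a discrete valuation ring with perfect fraction field K and residue field k, and f : X →
Spec R a nodal curve (proper, flat, locally of finite presentation, geometric fibres connected with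
one-dimensional irreducible components and at most ordinary double points) whose special fibre X_k
has split singularities: every closed point of X_k either has an open neighbourhood smooth over k or
has completed local ring isomorphic over k to k[[u,v]]/(uv). Let L be an invertible O_X-module whose
pullback to the generic fibre X_K is isomorphic to the structure sheaf. If the degree over k of the
restriction of L to every irreducible component of X_k — each taken with its reduced structure, as
an integral curve over k closed-immersed in X over Spec R — is zero, then L is isomorphic to O_X.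
(The published lemma states that the multidegree of generically trivial invertible modules is
computed by the multidegree operator on Cartier vertex labellings of the labelled dual graph, and
its proof records that this multidegree map on generically trivial invertible modules is injective;
this row is that injectivity.) -/
theorem result
    (R : Type u) [CommRing R] [IsDomain R] [IsDiscreteValuationRing R]
    [PerfectField (FractionRing R)]
    {X : Scheme.{u}} (f : X ⟶ Spec (CommRingCat.of R)) [IsProper f]
    (hf : Curv2.IsNodalFamily f)
    (hconn : ∀ (L : Type u) [Field L] (t : Spec (CommRingCat.of L) ⟶ Spec (CommRingCat.of R)),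
      ConnectedSpace ↑(Limits.pullback f t))
    (hsplit : ∀ y : ↥(f.fiber (IsLocalRing.closedPoint R)), IsClosed ({y} : Set ↥(f.fiber (IsLocalRing.closedPoint R))) →
        (∃ W : (f.fiber (IsLocalRing.closedPoint R)).Opens, y ∈ W ∧ Smooth (W.ι ≫ f.fiberToSpecResidueField (IsLocalRing.closedPoint R))) ∨
        @Curv2.IsOrdDoublePt ((Spec (CommRingCat.of R)).residueField (IsLocalRing.closedPoint R)) _ ((f.fiber (IsLocalRing.closedPoint R)).presheaf.stalk y) _ (@Curv2.stalkAlgebra ((Spec (CommRingCat.of R)).residueField (IsLocalRing.closedPoint R)) _ (f.fiber (IsLocalRing.closedPoint R)) ⟨f.fiberToSpecResidueField (IsLocalRing.closedPoint R)⟩ y) _)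
    (L : X.Modules) (hL : PicF.IsInvertible L)
    (hgen : Nonempty ((Scheme.Modules.pullback (Limits.pullback.fst f (Neron.genPt R))).obj L ≅
      Coh.structureModule (Limits.pullback f (Neron.genPt R))))
    (hdeg : ∀ Γ : ArSurf.VertComp R (Over.mk f), ArSurf.inter R (Over.mk f) L Γ = 0) :
    Nonempty (L ≅ Coh.structureModule X) := by
  obtain ⟨ϖ, hϖ⟩ := IsDiscreteValuationRing.exists_irreducible R
  obtain ⟨hflat, hlfp, hfib⟩ := hf
  haveI := hflat
  let s₀ : ↥(Spec (CommRingCat.of R)) := IsLocalRing.closedPoint R
  letI : (f.fiber s₀).Over (Spec ((Spec (CommRingCat.of R)).residueField s₀)) := ⟨f.fiberToSpecResidueField s₀⟩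
  haveI : IsLocallyNoetherian X := LocallyOfFiniteType.isLocallyNoetherian f
  haveI : CompactSpace X := QuasiCompact.compactSpace_of_compactSpace f
  haveI : QuasiSeparatedSpace X := quasiSeparatedSpace_of_quasiSeparated f
  haveI : LocallyOfFiniteType (f.fiberToSpecResidueField s₀) :=
    MorphismProperty.pullback_snd _ _ inferInstance
  haveI : ConnectedSpace ↥(f.fiber s₀) :=
    hconn _ ((Spec (CommRingCat.of R)).fromSpecResidueField s₀)
  haveI : LocallyOfFiniteType
      (f.fiber s₀ ↘ Spec (CommRingCat.of ((Spec (CommRingCat.of R)).residueField s₀))) :=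
    inferInstanceAs (LocallyOfFiniteType (f.fiberToSpecResidueField s₀))
  haveI : IsReduced (f.fiber s₀) := Groth.Agent.NodePtLib.isReduced_of_atWorstNodal (hfib s₀).1 (hfib s₀).2
  haveI := GenTrivVertLib.isOpenImmersion_genPt (R := R)
  let t := Coh.toGlobal f ϖ
  have hU : ∀ x, x ∈ X.basicOpen t ↔ f x ≠ s₀ := GenTrivVertLib.mem_basicOpen_toGlobal f hϖ
  have hU' : ∀ x, x ∉ X.basicOpen t → f x = s₀ := fun x hx => not_not.1 fun h => hx ((hU x).2 h)
  obtain ⟨τ, hτ⟩ := GenTrivVertLib.exists_gen_of_iso_genericFibre f (X.basicOpen t) hU hL hgen
  refine CubeLib.triv_iff.1 (GenTrivVertLib.triv_of_gen_basicOpen hL t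
    (fun x v => GenTrivVertLib.toGlobal_regular f hϖ.ne_zero x v)
    (fun x hx => GenTrivVertLib.isRadical_span_toGlobal f hϖ x (hU' x hx)) ?_ τ hτ)
  rintro s - ⟨x, hx, hxG⟩ y hy
  exact GenTrivVertLib.forall_mem_genLocus_of_connected f (hfib s₀).1 hL hdeg _ (hU' x hx) hxG (hU' y hy)

end Groth.Agent.S14399
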