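import Groth.Statements.S14400
import Groth.Agent.GalDesc.Basic

set_option autoImplicit false
set_option linter.style.haveILetI false
set_option backward.isDefEq.respectTransparency false
universe u
open CategoryTheory CategoryTheory.Limits AlgebraicGeometry
open Desc

namespace Groth.Agent.S14400

/-- Let K/k be a finite Galois extension of fields, X and Y schemes over k with base changes X_K and
Y_K, and g : X_K ⟶ Y_K a morphism over Spec K. Then g is the base change of a k-morphism f : X ⟶ Y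
(that is, g followed by the projection Y_K ⟶ Y is the projection X_K ⟶ X followed by f) if and only
if g commutes with the action of every k-automorphism σ of K on X_K and on Y_K (the identity on X,
resp. Y, and Spec σ on the factor Spec K). In other words the image of the k-morphisms X ⟶ Y among
the K-morphisms X_K ⟶ Y_K is exactly the set of Galois-invariant ones. -/
theorem result (k : Type u) [Field k] (K : Type u) [Field K]
    [Algebra k K] [FiniteDimensional k K] [IsGalois k K]
    (X Y : Scheme.{u}) [X.Over (Spec (CommRingCat.of k))] [Y.Over (Spec (CommRingCat.of k))]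
    (g : Curv2.bc k X K ⟶ Curv2.bc k Y K) (hg : g ≫ Curv2.bcSnd k Y K = Curv2.bcSnd k X K) :
    (∃ f : X ⟶ Y, f ≫ (Y ↘ Spec (CommRingCat.of k)) = X ↘ Spec (CommRingCat.of k) ∧
        g ≫ Curv2.bcFst k Y K = Curv2.bcFst k X K ≫ f) ↔
      ∀ σ : K ≃ₐ[k] K, Curv2.galAct k X K σ ≫ g = g ≫ Curv2.galAct k Y K σ := by
  have hsnd : ∀ σ : K ≃ₐ[k] K, Curv2.galAct k X K σ ≫ Curv2.bcSnd k X K =
      Curv2.bcSnd k X K ≫ Spec.map (CommRingCat.ofHom (σ : K →ₐ[k] K).toRingHom) :=
    fun σ => pullback.lift_snd _ _ _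
  have hsndY : ∀ σ : K ≃ₐ[k] K, Curv2.galAct k Y K σ ≫ Curv2.bcSnd k Y K =
      Curv2.bcSnd k Y K ≫ Spec.map (CommRingCat.ofHom (σ : K →ₐ[k] K).toRingHom) :=
    fun σ => pullback.lift_snd _ _ _
  have hfst : ∀ σ : K ≃ₐ[k] K, Curv2.galAct k X K σ ≫ Curv2.bcFst k X K = Curv2.bcFst k X K :=
    fun σ => (pullback.lift_fst _ _ _).trans (Category.comp_id _)
  have hfstY : ∀ σ : K ≃ₐ[k] K, Curv2.galAct k Y K σ ≫ Curv2.bcFst k Y K = Curv2.bcFst k Y K :=
    fun σ => (pullback.lift_fst _ _ _).trans (Category.comp_id _)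
  constructor
  · rintro ⟨f, -, hf⟩ σ
    refine pullback.hom_ext ?_ ?_
    · simp only [Category.assoc, hfstY, hf, reassoc_of% hfst σ]
    · simp only [Category.assoc, hsndY, hg, hsnd, reassoc_of% hg]
  intro h
  haveI : Flat (Groth.Agent.GalDesc.sK k K) := by
    rw [Flat.SpecMap_iff]
    exact RingHom.flat_algebraMap_iff.2 inferInstance
  haveI : Surjective (Groth.Agent.GalDesc.sK k K) := ⟨fun x =>
    ⟨Classical.arbitrary _, Subsingleton.elim _ _⟩⟩
  haveI : Flat (Curv2.bcFst k X K) := MorphismProperty.pullback_fst _ _ inferInstance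
  haveI : Surjective (Curv2.bcFst k X K) := MorphismProperty.pullback_fst _ _ inferInstance
  haveI : QuasiCompact (Curv2.bcFst k X K) := MorphismProperty.pullback_fst _ _ inferInstance
  have key : ∀ {T : Scheme.{u}} (a b : T ⟶ Curv2.bc k X K),
      a ≫ Curv2.bcFst k X K = b ≫ Curv2.bcFst k X K →
        a ≫ g ≫ Curv2.bcFst k Y K = b ≫ g ≫ Curv2.bcFst k Y K := by
    intro T a b hab
    let ρ : T ⟶ pullback (Groth.Agent.GalDesc.sK k K) (Groth.Agent.GalDesc.sK k K) :=
      pullback.lift (a ≫ Curv2.bcSnd k X K) (b ≫ Curv2.bcSnd k X K) (by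
        simp only [Category.assoc, ← pullback.condition, reassoc_of% hab])
    refine Scheme.Cover.hom_ext ((Groth.Agent.GalDesc.graphCover k K).pullback₁ ρ) _ _ fun σ => ?_
    show pullback.fst ρ (Groth.Agent.GalDesc.graph k K σ) ≫ _ =
      pullback.fst ρ (Groth.Agent.GalDesc.graph k K σ) ≫ _
    have hc := pullback.condition (f := ρ) (g := Groth.Agent.GalDesc.graph k K σ)
    have hρ₁ : ρ ≫ pullback.fst _ _ = a ≫ Curv2.bcSnd k X K := pullback.lift_fst _ _ _
    have hρ₂ : ρ ≫ pullback.snd _ _ = b ≫ Curv2.bcSnd k X K := pullback.lift_snd _ _ _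
    have ha := congr($hc ≫ pullback.fst _ _)
    have hb := congr($hc ≫ pullback.snd _ _)
    simp only [Category.assoc, hρ₁, hρ₂,
      Groth.Agent.GalDesc.graph_fst, Groth.Agent.GalDesc.graph_snd, Category.comp_id] at ha hb
    have hu : pullback.fst ρ (Groth.Agent.GalDesc.graph k K σ) ≫ b =
        pullback.fst ρ (Groth.Agent.GalDesc.graph k K σ) ≫ a ≫ Curv2.galAct k X K σ := by
      refine pullback.hom_ext ?_ ?_
      · simp only [Category.assoc, hfst, hab]
      · simp only [Category.assoc, hsnd, hb, reassoc_of% ha]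
    rw [reassoc_of% hu, reassoc_of% h σ, hfstY]
  refine ⟨EffectiveEpi.desc (Curv2.bcFst k X K) (g ≫ Curv2.bcFst k Y K) key, ?_,
    (EffectiveEpi.fac (Curv2.bcFst k X K) (g ≫ Curv2.bcFst k Y K) key).symm⟩
  rw [← cancel_epi (Curv2.bcFst k X K), EffectiveEpi.fac_assoc]
  simp only [Category.assoc, pullback.condition, reassoc_of% hg]

end Groth.Agent.S14400
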