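import Groth.Statements.S14404
import Groth.Agent.FlatDim.Trdeg

set_option autoImplicit false
universe u
open CategoryTheory AlgebraicGeometry
open FlatMor

namespace Groth.Agent.S14404

/-- Let k be a field, X and Y irreducible schemes of finite type over k and f : X ⟶ Y a flat k-morphism.
Then dim Y ≤ dim X, and for every point y of Y every irreducible component Z of the scheme-theoretic
fibre of f over y has dim Z + dim Y = dim X; that is, every non-empty fibre has all its irreducible
components of dimension dim X − dim Y. -/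
theorem result (k : Type u) [Field k]
    {X Y : Scheme.{u}} (qX : X ⟶ Spec (CommRingCat.of k)) (qY : Y ⟶ Spec (CommRingCat.of k))
    [LocallyOfFiniteType qX] [QuasiCompact qX] [LocallyOfFiniteType qY] [QuasiCompact qY]
    [IrreducibleSpace X] [IrreducibleSpace Y] (f : X ⟶ Y) (hf : f ≫ qY = qX) [Flat f] :
    topologicalKrullDim Y ≤ topologicalKrullDim X ∧
      ∀ (y : Y), ∀ Z ∈ irreducibleComponents (f.fiber y : Type u),
        topologicalKrullDim Z + topologicalKrullDim Y = topologicalKrullDim X := by
  obtain ⟨d, -, hd⟩ := Groth.Agent.FlatDim.topologicalKrullDim_closure k qY (genericPoint Y)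
  obtain ⟨c, -, hc⟩ := Groth.Agent.FlatDim.topologicalKrullDim_closure k qX (genericPoint X)
  rw [(genericPoint_spec Y).def] at hd
  rw [(genericPoint_spec X).def] at hc
  have hd' : topologicalKrullDim ↥Y = (d : WithBot ℕ∞) := by
    rw [← hd, ← IsHomeomorph.topologicalKrullDim_eq _ (Homeomorph.Set.univ ↥Y).isHomeomorph]
  have hc' : topologicalKrullDim ↥X = (c : WithBot ℕ∞) := by
    rw [← hc, ← IsHomeomorph.topologicalKrullDim_eq _ (Homeomorph.Set.univ ↥X).isHomeomorph]
  rw [hd', hc']
  have key : ∀ (y : Y), ∀ C ∈ irreducibleComponents (f.fiber y : Type u), ∃ a : ℕ,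
      topologicalKrullDim C = (a : WithBot ℕ∞) ∧ c = d + a := by
    intro y C hC
    obtain ⟨z, rfl, hz⟩ := Groth.Agent.FlatDim.exists_generic_of_component hC
    have hξ : ∀ w : X, w ⤳ genericPoint X → genericPoint X ⤳ w := fun w _ => (genericPoint_spec X).specializes trivial
    obtain ⟨a, b, c', ha, hb, hc1, habc⟩ := Groth.Agent.FlatDim.component_dims qX qY f hf y z hz (genericPoint X)
      ((genericPoint_spec X).specializes trivial) hξ
    have hη : closure ({f (genericPoint X)} : Set Y) = Set.univ := by
      have h1 := Groth.Agent.FlatDim.closure_mem_components _ (Groth.Agent.FlatDim.maximal_map f hξ)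
      rwa [irreducibleComponents_eq_singleton, Set.mem_singleton_iff] at h1
    rw [hη, hd] at hb
    rw [(genericPoint_spec X).def, hc] at hc1
    have hb' : d = b := by exact_mod_cast hb
    have hc'' : c = c' := by exact_mod_cast hc1
    exact ⟨a, ha, by omega⟩
  refine ⟨?_, fun y Z hZ => ?_⟩
  · haveI : Nonempty ↥(f.fiber (f (genericPoint X))) := ⟨f.asFiber _⟩
    obtain ⟨a, -, hca⟩ := key _ _ (irreducibleComponent_mem_irreducibleComponents (f.asFiber (genericPoint X)))
    exact_mod_cast (show d ≤ c by omega)
  · obtain ⟨a, ha, hca⟩ := key y Z hZ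
    rw [ha, hca]
    push_cast
    rw [add_comm]

end Groth.Agent.S14404
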