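import Groth.Statements.S14405
import Mathlib


set_option autoImplicit false
open Polynomial
open HilbNum

namespace Groth.Agent.S14405
open Polynomial

/-- Let φ be a function from the integers to the rationals and Q a nonzero polynomial with rational
coefficients of degree d such that φ(m) - φ(m-1) = Q(m) for every integer m. Then there is a
polynomial P with rational coefficients, of degree d + 1, such that φ(m) = P(m) for every integer m.
(The explicit form of P in the binomial basis is not part of this statement.) -/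
theorem result (φ : ℤ → ℚ) (d : ℕ) (Q : ℚ[X]) (hQ : Q ≠ 0)
    (hd : Q.natDegree = d) (h : ∀ m : ℤ, φ m - φ (m - 1) = Q.eval (m : ℚ)) :
    ∃ P : ℚ[X], P.natDegree = d + 1 ∧ ∀ m : ℤ, φ m = P.eval (m : ℚ) := by
  classical
  have key : ∀ (e : ℕ) (Q : ℚ[X]), Q.natDegree ≤ e → ∃ P : ℚ[X], P.natDegree ≤ e + 1 ∧
      P.coeff (e + 1) = Q.coeff e / (e + 1) ∧
      ∀ x : ℚ, P.eval x - P.eval (x - 1) = Q.eval x := by
    intro e
    induction e with
    | zero =>
      intro Q hQ
      refine ⟨C (Q.coeff 0) * X, (natDegree_C_mul_le _ _).trans natDegree_X_le, by simp, fun x => ?_⟩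
      conv_rhs => rw [eq_C_of_natDegree_le_zero hQ]
      simp only [eval_mul, eval_C, eval_X]
      ring
    | succ e ih =>
      intro Q hQ
      set c : ℚ := Q.coeff (e + 1) / ((e : ℚ) + 2) with hc
      let T : ℚ[X] := X ^ (e + 2) - (X - 1) ^ (e + 2)
      have hT : T = ∑ j ∈ Finset.range (e + 2), (-(-1 : ℚ[X]) ^ (e + 2 - j) * C ((e + 2).choose j : ℚ)) * X ^ j := by
        have : ((X : ℚ[X]) - 1) ^ (e + 2) = ∑ j ∈ Finset.range (e + 3),
            X ^ j * (-1) ^ (e + 2 - j) * ((e + 2).choose j : ℚ[X]) := by
          rw [sub_eq_add_neg, add_pow]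
        show X ^ (e + 2) - _ = _
        rw [this, Finset.sum_range_succ _ (e + 2), Nat.choose_self, Nat.sub_self, pow_zero, mul_one,
          Nat.cast_one, mul_one, sub_add_cancel_right, ← Finset.sum_neg_distrib]
        refine Finset.sum_congr rfl fun j _ => ?_
        rw [map_natCast]
        ring
      have hTdeg : T.natDegree ≤ e + 1 := by
        rw [hT]
        refine natDegree_sum_le_of_forall_le _ _ fun j hj => ?_
        refine natDegree_mul_le.trans ?_
        have h1 : (-(-1 : ℚ[X]) ^ (e + 2 - j) * C ((e + 2).choose j : ℚ)).natDegree = 0 := by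
          rw [show (-(-1 : ℚ[X]) ^ (e + 2 - j) * C ((e + 2).choose j : ℚ)) =
            C (-(-1 : ℚ) ^ (e + 2 - j) * ((e + 2).choose j : ℚ)) by simp]
          exact natDegree_C _
        rw [h1, natDegree_X_pow]
        have := Finset.mem_range.1 hj
        omega
      have hTc : T.coeff (e + 1) = (e : ℚ) + 2 := by
        rw [hT, finsetSum_coeff, Finset.sum_eq_single (e + 1)]
        · rw [show e + 2 - (e + 1) = 1 by omega, coeff_mul_X_pow', if_pos le_rfl, Nat.sub_self,
            Nat.choose_succ_self_right]
          simp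
          ring
        · intro j _ hj
          rw [show (-(-1 : ℚ[X]) ^ (e + 2 - j) * C ((e + 2).choose j : ℚ)) =
            C (-(-1 : ℚ) ^ (e + 2 - j) * ((e + 2).choose j : ℚ)) by simp, coeff_C_mul_X_pow,
            if_neg (Ne.symm hj)]
        · intro h; exact absurd (Finset.mem_range.2 (by omega)) h
      have hne : ((e : ℚ) + 2) ≠ 0 := by positivity
      have hQ' : (Q - C c * T).natDegree ≤ e := by
        refine natDegree_le_iff_coeff_eq_zero.2 fun m hm => ?_
        rw [coeff_sub, coeff_C_mul]
        rcases Nat.lt_or_eq_of_le (Nat.succ_le_of_lt hm) with h | h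
        · rw [coeff_eq_zero_of_natDegree_lt (lt_of_le_of_lt hQ h),
            coeff_eq_zero_of_natDegree_lt (lt_of_le_of_lt hTdeg h), mul_zero, sub_zero]
        · subst h
          rw [hTc, hc, div_mul_cancel₀ _ hne, sub_self]
      obtain ⟨P, hP1, -, hP2⟩ := ih _ hQ'
      refine ⟨P + C c * X ^ (e + 2), ?_, ?_, fun x => ?_⟩
      · exact (natDegree_add_le _ _).trans (max_le (hP1.trans (by omega))
          ((natDegree_C_mul_le _ _).trans (natDegree_X_pow _).le))
      · rw [coeff_add, coeff_eq_zero_of_natDegree_lt (by omega), coeff_C_mul_X_pow, if_pos rfl,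
          zero_add, hc]
        push_cast
        ring
      · have := hP2 x
        simp only [eval_sub, eval_mul, eval_C, T, eval_pow, eval_X, eval_one] at this
        simp only [eval_add, eval_mul, eval_C, eval_pow, eval_X]
        linear_combination this
  obtain ⟨P, hP1, hP2, hP3⟩ := key d Q hd.le
  have hstep : ∀ m : ℤ, φ m - P.eval (m : ℚ) = φ (m - 1) - P.eval ((m : ℚ) - 1) := fun m => by
    linear_combination h m - hP3 (m : ℚ)
  set c0 := φ 0 - P.eval 0 with hc0
  have hconst : ∀ m : ℤ, φ m - P.eval (m : ℚ) = c0 := by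
    intro m
    induction m using Int.induction_on with
    | zero => simp [hc0]
    | succ i ih =>
      rw [hstep]
      push_cast
      rw [add_sub_cancel_right, add_sub_cancel_right]
      simpa using ih
    | pred i ih =>
      have := hstep (-(i : ℤ))
      rw [ih] at this
      rw [this]
      push_cast
      ring_nf
  refine ⟨P + C c0, ?_, fun m => by rw [eval_add, eval_C, ← hconst m]; ring⟩
  have hlc : (P + C c0).coeff (d + 1) ≠ 0 := by
    rw [coeff_add, coeff_C, if_neg (Nat.succ_ne_zero d), add_zero, hP2]
    refine div_ne_zero ?_ (by positivity)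
    rw [← hd]
    exact leadingCoeff_ne_zero.2 hQ
  exact le_antisymm ((natDegree_add_le _ _).trans (max_le hP1 (by simp))) (le_natDegree_of_ne_zero hlc)

end Groth.Agent.S14405
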