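import Groth.Statements.S14408
import Groth.Agent.ShStabLib.DimBound
import Groth.Agent.AmpleEmb.Serre
import Groth.Agent.AmpleEmb.TwistOne
import Groth.Agent.ProjTwistLib.Ample
import Groth.Agent.CompleteCurve.ProjSpace
import Groth.Agent.EulerIneqLib.Basic
import Groth.Agent.CohBase.ProjSpace
-- import your own Groth.Agent.* helpers here

set_option autoImplicit false
set_option backward.isDefEq.respectTransparency false
universe u
open CategoryTheory CategoryTheory.Limits AlgebraicGeometry
open HilbNum

namespace Groth.Agent.S14408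

/-- Let k be an algebraically closed field, n a positive integer, F a nonzero coherent O-module on
projective n-space P over k (quasi-coherent of finite type), and P_F a polynomial with rational
coefficients such that P_F(m) = χ(F(m)) = Σ_{j ≤ n} (-1)^j dim_k H^j(P, F ⊗ O(m)) for every integer
m. Then the degree of P_F equals the dimension of the support of F (the closed set of points where
the stalk of F is nonzero, with the subspace topology). The existence of such a polynomial is not
part of this statement; it enters through the hypothesis on P_F. -/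
theorem result (k : Type u) [Field k] [IsAlgClosed k] (n : ℕ) (hn : 0 < n)
    (F : (CohB1.ProjSpace n k).Modules) (hF : Coh.IsCoh F) (hF0 : ¬ IsZero F) (P : Polynomial ℚ)
    (hP : ∀ m : ℤ,
      ((Finset.range (n + 1)).sum fun j => (-1 : ℚ) ^ j *
        (Module.finrank k (Coh.HH (CohB1.ProjSpace n k) (CohB1.tensorMod F (Twist.twistProjSpace n k m)) j) : ℚ)) =
      P.eval (m : ℚ)) :
    topologicalKrullDim ↥(CohB1.support F) = (P.natDegree : WithBot ℕ∞) := by
  haveI : IsProper ((CohB1.ProjSpace n k) ↘ Spec (CommRingCat.of k)) :=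
    inferInstanceAs (IsProper (CohB1.ProjSpace.toSpec n k))
  haveI := Groth.Agent.EulerIneqLib.isNoetherian_proper (X := CohB1.ProjSpace n k) k
  have hcov : (⨆ f : CohB1.polyGrading n k 1, Proj.basicOpen (CohB1.polyGrading n k) (f : _)) = ⊤ := by
    rw [eq_top_iff, ← Groth.Agent.AmpleEmb.iSup_stdOpen n k]
    exact iSup_le fun a => le_iSup_of_le (Groth.Agent.AmpleEmb.coordForm n k a) le_rfl
  refine Groth.Agent.ShStabLib.dim_eq_natDegree k (Groth.Agent.AmpleEmb.isAmple_twistOne n k) hF hF0 fun m => ?_
  let e : CohB1.tensorMod F (CohB1.tensorPow (Twist.twistProjSpace n k 1) m) ≅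
        CohB1.tensorMod F (Twist.twistProjSpace n k (m : ℤ)) :=
      Groth.Agent.AmpleLib.tIso (Iso.refl F)
        (Groth.Agent.ProjTwistLib.powIso (Groth.Agent.ProjTwistLib.hasUnit_one_of_cover hcov 1) m ≪≫
          eqToIso (congrArg (Twist.twist (CohB1.polyGrading n k)) (mul_one (m : ℤ))))
  have h := hP (m : ℤ)
  haveI hq : Coh.IsQCoh (CohB1.tensorMod F (Twist.twistProjSpace n k (m : ℤ))) :=
    (Groth.Agent.ShStabLib.isCoh_of_iso e (Groth.Agent.HilbLib.isCoh_twist (Groth.Agent.AmpleEmb.isInvertible_twistOne n k) hF m)).1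
  have hv : ∀ i, n + 1 ≤ i → Subsingleton (Coh.HH (CohB1.ProjSpace n k) (CohB1.tensorMod F (Twist.twistProjSpace n k (m : ℤ))) i) :=
    fun i hi => Groth.Agent.CohBase.PS.vanishing_gt n k _ i (by omega)
  rw [show Curv2.euler k (CohB1.ProjSpace n k) (ShStab.twist _ (Twist.twistProjSpace n k 1) F m) =
    Curv2.euler k (CohB1.ProjSpace n k) (CohB1.tensorMod F (Twist.twistProjSpace n k (m : ℤ))) from
      Groth.Agent.CurveLib.euler_iso (K := k) e, Groth.Agent.CurveLib.euler_eq_sum _ (n + 1) hv]
  push_cast at h ⊢
  rw [← h]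

end Groth.Agent.S14408
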