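import Groth.Statements.S14409
import Groth.Agent.ExtShLib.Sections


set_option autoImplicit false
universe u
open CategoryTheory AlgebraicGeometry TopologicalSpace Opposite
open Coherent

namespace Groth.Agent.S14409

open CategoryTheory CategoryTheory.Limits AlgebraicGeometry

set_option backward.isDefEq.respectTransparency false

open CategoryTheory AlgebraicGeometry Opposite Groth.Agent.ExtShLib in
theorem aux (X : Scheme.{u}) [IsLocallyNoetherian X] (U : X.Opens) (hU : IsAffineOpen U) (F G : X.Modules)
    (hFc : Coh.IsCoh F) [Coh.IsQCoh G] [ModSite.HasSheafHom (O := X.sheaf) F]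
    [HasInjectiveResolutions (ModSite.Mod X.sheaf)] (i : ℕ) :
    Nonempty (Γ(ExtVanLib.extS F G i, U) ≃ₗ[Γ(X, U)]
      Abelian.Ext (ModuleCat.of Γ(X, U) Γ(F, U)) (ModuleCat.of Γ(X, U) Γ(G, U)) i) := by
  haveI : IsAffine (U : Scheme.{u}) := hU
  haveI : EnoughInjectives (ModSite.Mod (U : Scheme.{u}).sheaf) := SiteBase.enoughInjectives_sheafOfModules _
  haveI : HasInjectiveResolutions (ModSite.Mod (U : Scheme.{u}).sheaf) := inferInstance
  have hc : Coh.IsCoh ((Scheme.Modules.restrictFunctor U.ι).obj F) :=
    ProjBundleLib.isCoh_restrict_open hFc.1 hFc.2 U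
  haveI := hc.1
  haveI : Coh.IsQCoh ((Scheme.Modules.restrictFunctor U.ι).obj G) := inferInstance
  obtain ⟨r⟩ := nonempty_restrict_extS U F G i
  obtain ⟨l⟩ := nonempty_gsec_extS ((Scheme.Modules.restrictFunctor U.ι).obj F) hc
    ((Scheme.Modules.restrictFunctor U.ι).obj G) i
  let σ : Γ(X, U) ≃+* Γ((U : Scheme.{u}), ⊤) := U.topIso.symm.commRingCatIsoToRingEquiv
  let top : ∀ M : X.Modules, Γ((Scheme.Modules.restrictFunctor U.ι).obj M, (⊤ : (U : Scheme.{u}).Opens)) ≃+ Γ(M, U) :=
    fun M => (M.presheaf.mapIso (eqToIso U.ι_image_top.symm).op).addCommGroupIsoToAddEquiv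
  have htop : ∀ (M : X.Modules) (a : Γ(X, U))
      (x : Γ((Scheme.Modules.restrictFunctor U.ι).obj M, (⊤ : (U : Scheme.{u}).Opens))),
      top M (σ a • x) = a • top M x := fun M a x => by
    change M.presheaf.map (eqToHom U.ι_image_top.symm).op
      (((U.ι.appIso ⊤).inv (σ a)) • (show Γ(M, U.ι ''ᵁ ⊤) from x)) = a • _
    rw [Scheme.Modules.map_smul, Scheme.Opens.ι_appIso]
    congr 1
    exact RingEquiv.symm_apply_apply σ a
  let el : ∀ M : X.Modules,
      (ModuleCat.restrictScalars σ.toRingHom).obj ((gsec (X := (U : Scheme.{u}))).obj ((Scheme.Modules.restrictFunctor U.ι).obj M)) ≅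
        ModuleCat.of Γ(X, U) Γ(M, U) := fun M =>
    LinearEquiv.toModuleIso (X₁ := ((ModuleCat.restrictScalars σ.toRingHom).obj
        ((gsec (X := (U : Scheme.{u}))).obj ((Scheme.Modules.restrictFunctor U.ι).obj M))))
      (g₁ := ((ModuleCat.restrictScalars σ.toRingHom).obj
        ((gsec (X := (U : Scheme.{u}))).obj ((Scheme.Modules.restrictFunctor U.ι).obj M))).isAddCommGroup)
      (m₁ := ((ModuleCat.restrictScalars σ.toRingHom).obj
        ((gsec (X := (U : Scheme.{u}))).obj ((Scheme.Modules.restrictFunctor U.ι).obj M))).isModule)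
      { toAddHom := (top M).toAddMonoidHom.toAddHom
        map_smul' := fun a x => htop M a x
        invFun := (top M).symm
        left_inv := fun x => (top M).left_inv x
        right_inv := fun x => (top M).right_inv x }
  obtain ⟨f, hf⟩ := exists_ext_ringEquiv σ ((gsec (X := (U : Scheme.{u}))).obj ((Scheme.Modules.restrictFunctor U.ι).obj F))
    ((gsec (X := (U : Scheme.{u}))).obj ((Scheme.Modules.restrictFunctor U.ι).obj G)) i
  let g : Abelian.Ext.{u} ((ModuleCat.restrictScalars σ.toRingHom).obj ((gsec (X := (U : Scheme.{u}))).obj ((Scheme.Modules.restrictFunctor U.ι).obj F)))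
      ((ModuleCat.restrictScalars σ.toRingHom).obj ((gsec (X := (U : Scheme.{u}))).obj ((Scheme.Modules.restrictFunctor U.ι).obj G))) i ≃ₗ[Γ(X, U)]
        Abelian.Ext.{u} (ModuleCat.of Γ(X, U) Γ(F, U)) (ModuleCat.of Γ(X, U) Γ(G, U)) i :=
    { toFun := fun x => ((Abelian.Ext.mk₀ (el F).inv).comp x (zero_add i)).comp (Abelian.Ext.mk₀ (el G).hom) (add_zero i)
      invFun := fun y => ((Abelian.Ext.mk₀ (el F).hom).comp y (zero_add i)).comp (Abelian.Ext.mk₀ (el G).inv) (add_zero i)
      map_add' := fun x y => by simp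
      map_smul' := fun a x => by simp
      left_inv := fun x => by simp
      right_inv := fun y => by simp }
  let m := (gsec (X := (U : Scheme.{u}))).mapIso r ≪≫ l
  refine ⟨{ toAddEquiv := ((top (ExtVanLib.extS F G i)).symm.trans (m.toLinearEquiv.toAddEquiv.trans f)).trans g.toAddEquiv
            map_smul' := fun a y => ?_ }⟩
  change g (f (m.toLinearEquiv ((top _).symm (a • y)))) = a • g (f (m.toLinearEquiv ((top _).symm y)))
  have h : (top (ExtVanLib.extS F G i)).symm (a • y) = σ a • (top _).symm y := by
    apply (top (ExtVanLib.extS F G i)).injective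
    rw [AddEquiv.apply_symm_apply, htop, AddEquiv.apply_symm_apply]
  rw [h, ← map_smul g, ← hf]
  exact congrArg (fun z => g (f z)) (map_smul m.toLinearEquiv (σ a) ((top (ExtVanLib.extS F G i)).symm y))

/-- Let k be an algebraically closed field and X a variety over k, modelled as a reduced scheme
separated and of finite type over k; let U be an affine open subset of X and F, G coherent
O_X-modules (quasi-coherent of finite type; X is Noetherian). For i ≥ 0 let Ext^i(F, G) be the i-th
local Ext sheaf, the i-th right derived functor of the internal Hom functor Hom(F, -) on O_X-modules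
evaluated at G (existence of that internal Hom and of injective resolutions are the stated instance
hypotheses, both true). Then the module of sections Γ(U, Ext^i(F, G)) over the ring R = Γ(U, O_X) is
R-linearly isomorphic to Ext^i_R(F(U), G(U)), computed in the category of R-modules (existence of an
isomorphism only). -/
theorem result (k : Type u) [Field k] [IsAlgClosed k]
    (X : Scheme.{u}) [X.Over (Spec (CommRingCat.of k))] [IsReduced X]
    [IsSeparated (X ↘ (Spec (CommRingCat.of k)))] [LocallyOfFiniteType (X ↘ (Spec (CommRingCat.of k)))] [CompactSpace ↥X]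
    (U : X.Opens) (hU : IsAffineOpen U) (F G : X.Modules) (hF : Coh.IsCoh F) (hG : Coh.IsCoh G)
    [ModSite.HasSheafHom (O := X.sheaf) F] [HasInjectiveResolutions (ModSite.Mod X.sheaf)] (i : ℕ) :
    Nonempty (((ModSite.extSh (O := X.sheaf) F i).obj G).val.obj (op U)
      ≃ₗ[Γ(X, U)] Abelian.Ext (ModuleCat.of Γ(X, U) (F.val.obj (op U))) (ModuleCat.of Γ(X, U) (G.val.obj (op U))) i) := by
  haveI : IsLocallyNoetherian X :=
    LocallyOfFiniteType.isLocallyNoetherian (X ↘ (Spec (CommRingCat.of k)))
  haveI := hG.1
  exact aux X U hU F G hF i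

end Groth.Agent.S14409
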