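import Groth.Statements.S14412
import Mathlib
-- import your own Groth.Agent.* helpers here

set_option autoImplicit false
set_option backward.isDefEq.respectTransparency false
universe u
open CategoryTheory
open CAlg

namespace Groth.Agent.S14412

open CategoryTheory CategoryTheory.Abelian

universe w

variable {R : Type u} [CommRing R] (S : Submonoid R)

/-- The localization functor. -/
noncomputable abbrev L := ModuleCat.localizedModuleFunctor.{u} (R := R) S

noncomputable instance (X : ModuleCat.{u} R) : Module R ((L S).obj X) :=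
  inferInstanceAs (Module R (X.localizedModule S))

instance (X : ModuleCat.{u} R) : IsScalarTower R (Localization S) ((L S).obj X) :=
  inferInstanceAs (IsScalarTower R (Localization S) (X.localizedModule S))

theorem map_app {M N : ModuleCat.{u} R} (f : M ⟶ N) (x : M) :
    ((L S).map f).hom (M.localizedModuleMkLinearMap S x) = N.localizedModuleMkLinearMap S (f.hom x) :=
  IsLocalizedModule.map_apply S (M.localizedModuleMkLinearMap S) (N.localizedModuleMkLinearMap S) f.hom x

theorem map_smul_id (r : R) (X : ModuleCat.{u} R) :
    (L S).map (r • 𝟙 X) = algebraMap R (Localization S) r • 𝟙 ((L S).obj X) := by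
  refine ModuleCat.hom_ext <| LinearMap.restrictScalars_injective R ?_
  refine IsLocalizedModule.ext S (X.localizedModuleMkLinearMap S)
    (IsLocalizedModule.map_units (X.localizedModuleMkLinearMap S)) (LinearMap.ext fun x => ?_)
  show ((L S).map (r • 𝟙 X)).hom (X.localizedModuleMkLinearMap S x) =
    algebraMap R (Localization S) r • (X.localizedModuleMkLinearMap S x : (X.localizedModule S))
  rw [map_app, algebraMap_smul]
  simp

theorem map_smul_ext {M N : ModuleCat.{u} R} {i : ℕ} (r : R) (e : Ext M N i) :
    (L S).mapExtAddHom M N i (r • e) = algebraMap R (Localization S) r • (L S).mapExtAddHom M N i e := by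
  rw [Ext.smul_eq_comp_mk₀, Functor.mapExtAddHom_apply, Functor.mapExtAddHom_apply,
    Ext.mapExactFunctor_comp, Ext.mapExactFunctor_mk₀, map_smul_id, Ext.smul_eq_comp_mk₀]

theorem loc_ext [IsNoetherianRing R] (N : ModuleCat.{u} R) : ∀ (i : ℕ) (M : ModuleCat.{u} R) [Module.Finite R M],
    (∀ y : Ext ((L S).obj M) ((L S).obj N) i, ∃ (e : Ext M N i) (s : S),
      algebraMap R (Localization S) (s : R) • y = (L S).mapExtAddHom M N i e) ∧
    (∀ e : Ext M N i, (L S).mapExtAddHom M N i e = 0 → ∃ s : S, (s : R) • e = 0) := by
  intro i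
  induction i with
  | zero =>
    intro M _
    haveI : Module.FinitePresentation R M := Module.finitePresentation_of_finite R M
    constructor
    · intro y
      obtain ⟨g, rfl⟩ := Ext.mk₀_bijective _ _ |>.2 y
      obtain ⟨h, s, hs⟩ := Module.FinitePresentation.exists_lift_of_isLocalizedModule S
        (N.localizedModuleMkLinearMap S) ((g.hom.restrictScalars R).comp (M.localizedModuleMkLinearMap S))
      refine ⟨Ext.mk₀ (ModuleCat.ofHom h), s, ?_⟩
      rw [Functor.mapExtAddHom_apply, Ext.mapExactFunctor_mk₀, ← Ext.mk₀_smul]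
      congr 1
      refine ModuleCat.hom_ext <| LinearMap.restrictScalars_injective R ?_
      refine IsLocalizedModule.ext S (M.localizedModuleMkLinearMap S)
        (IsLocalizedModule.map_units (N.localizedModuleMkLinearMap S)) (LinearMap.ext fun x => ?_)
      show algebraMap R (Localization S) (s : R) • g.hom (M.localizedModuleMkLinearMap S x) =
        ((L S).map (ModuleCat.ofHom h)).hom (M.localizedModuleMkLinearMap S x)
      rw [map_app, algebraMap_smul]
      exact (LinearMap.congr_fun hs x).symm
    · intro e he
      obtain ⟨g, rfl⟩ := Ext.mk₀_bijective _ _ |>.2 e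
      rw [Functor.mapExtAddHom_apply, Ext.mapExactFunctor_mk₀, Ext.mk₀_eq_zero_iff] at he
      have h0 : (N.localizedModuleMkLinearMap S).comp g.hom = (N.localizedModuleMkLinearMap S).comp (0 : M →ₗ[R] N) := by
        refine LinearMap.ext fun x => ?_
        rw [LinearMap.comp_apply, ← map_app, he]
        simp
      obtain ⟨s, hs⟩ := Module.Finite.exists_smul_of_comp_eq_of_isLocalizedModule S (N.localizedModuleMkLinearMap S) _ _ h0
      refine ⟨s, ?_⟩
      rw [← Ext.mk₀_smul, Ext.mk₀_eq_zero_iff]
      refine ModuleCat.hom_ext ?_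
      rw [smul_zero] at hs
      exact hs
  | succ n ih =>
    intro M _
    obtain ⟨P, _, _, _, _, f, hf⟩ := Module.exists_finite_presentation R M
    let T := f.shortComplexKer
    have hT := LinearMap.shortExact_shortComplexKer hf
    haveI hP : CategoryTheory.Projective T.X₂ := ModuleCat.projective_of_categoryTheory_projective T.X₂
    haveI : Module.Finite R T.X₁ := Module.Finite.of_fg (IsNoetherian.noetherian (LinearMap.ker f))
    haveI : CategoryTheory.Projective (T.map (L S)).X₂ := (L S).projective_obj_of_projective hP
    have hT' := hT.map_of_exact (L S)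
    obtain ⟨hsurj, hker⟩ := ih T.X₁
    constructor
    · intro (y : Ext (T.map (L S)).X₃ ((L S).obj N) (n + 1))
      obtain ⟨y', rfl⟩ := Ext.contravariant_sequence_exact₃ hT' _ y (Ext.eq_zero_of_projective _) (add_comm 1 n)
      obtain ⟨e', s, hs⟩ := hsurj y'
      refine ⟨hT.extClass.comp e' (add_comm 1 n), s, ?_⟩
      rw [Functor.mapExtAddHom_apply, Ext.mapExactFunctor_comp, Ext.mapExactFunctor_extClass]
      erw [← Ext.comp_smul]
      exact congrArg (fun z => hT'.extClass.comp z (add_comm 1 n)) hs
    · intro (e : Ext T.X₃ N (n + 1)) he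
      obtain ⟨e', rfl⟩ := Ext.contravariant_sequence_exact₃ hT _ e (Ext.eq_zero_of_projective _) (add_comm 1 n)
      rw [Functor.mapExtAddHom_apply, Ext.mapExactFunctor_comp, Ext.mapExactFunctor_extClass] at he
      obtain ⟨z, hz⟩ := Ext.contravariant_sequence_exact₁ hT' _ _ (add_comm 1 n) he
      have hP2 : ∃ (w : Ext T.X₂ N n) (s : S),
          algebraMap R (Localization S) (s : R) • z = (L S).mapExtAddHom T.X₂ N n w := by
        haveI : Module.Finite R T.X₂ := inferInstanceAs (Module.Finite R P)
        exact (ih T.X₂).1 z
      obtain ⟨w, s, hw⟩ := hP2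
      obtain ⟨s', hs'⟩ := hker ((s : R) • e' - (Ext.mk₀ T.f).comp w (zero_add n)) <| by
        rw [map_sub, map_smul_ext, Functor.mapExtAddHom_apply, Functor.mapExtAddHom_apply, Ext.mapExactFunctor_comp,
          Ext.mapExactFunctor_mk₀, sub_eq_zero, ← hz]
        erw [← Ext.comp_smul]
        exact congrArg (fun t => (Ext.mk₀ ((L S).map T.f)).comp t (zero_add n)) hw
      refine ⟨s' * s, ?_⟩
      rw [smul_sub, sub_eq_zero, smul_smul] at hs'
      rw [Submonoid.coe_mul, ← Ext.comp_smul, hs', Ext.comp_smul]
      erw [hT.extClass_comp_assoc w]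
      rw [smul_zero]

/-- Let R be a Noetherian commutative ring, S a multiplicative subset of R, and M, N finitely generated
R-modules. For i ≥ 0 consider the map Ext^i_R(M, N) → Ext^i_{S⁻¹R}(S⁻¹M, S⁻¹N) induced on Ext groups
(computed in the categories of modules) by the exact localization functor M ↦ S⁻¹M. Then this map
exhibits its target as the localization S⁻¹ Ext^i_R(M, N): every element of the target, after
multiplication by some s ∈ S, is the image of an element of Ext^i_R(M, N), and an element of
Ext^i_R(M, N) maps to zero if and only if it is annihilated by some element of S. (Equivalently, the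
induced map identifies S⁻¹Ext^i_R(M, N) with Ext^i_{S⁻¹R}(S⁻¹M, S⁻¹N).) -/
theorem result (R : Type u) [CommRing R] [IsNoetherianRing R]
    (S : Submonoid R) (M N : ModuleCat.{u} R) [Module.Finite R M] [Module.Finite R N] (i : ℕ) :
    (∀ y : Abelian.Ext ((ModuleCat.localizedModuleFunctor.{u} S).obj M) ((ModuleCat.localizedModuleFunctor.{u} S).obj N) i,
        ∃ (e : Abelian.Ext M N i) (s : S),
          algebraMap R (Localization S) (s : R) • y = (ModuleCat.localizedModuleFunctor.{u} S).mapExtAddHom M N i e) ∧
      (∀ e : Abelian.Ext M N i,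
        (ModuleCat.localizedModuleFunctor.{u} S).mapExtAddHom M N i e = 0 ↔ ∃ s : S, (s : R) • e = 0) := by
  refine ⟨(loc_ext S N i M).1, fun e => ⟨(loc_ext S N i M).2 e, ?_⟩⟩
  rintro ⟨s, hs⟩
  have h1 := map_smul_ext S (s : R) e
  rw [hs, map_zero] at h1
  exact ((IsLocalization.map_units (Localization S) s).smul_eq_zero).mp h1.symm

end Groth.Agent.S14412
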