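import Groth.Statements.S14416
import Mathlib

set_option autoImplicit false
universe u
open scoped TensorProduct
open CAlg

namespace Groth.Agent.S14416

/-- Let B → A be a ring map with A a finitely generated B-module such that for every prime ideal p of B
the fibre κ(p) ⊗_B A has dimension at most one over the residue field κ(p). Then B → A is
surjective. In scheme language: a finite morphism whose degree at every point of the target is 0 or
1 is a closed immersion. (The published statement assumes the two schemes Noetherian; that
hypothesis plays no role and is dropped here.) -/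
theorem result
    (B A : Type u) [CommRing B] [CommRing A] [Algebra B A] [Module.Finite B A]
    (h : ∀ p : PrimeSpectrum B,
      Module.finrank p.asIdeal.ResidueField (p.asIdeal.ResidueField ⊗[B] A) ≤ 1) :
    Function.Surjective (algebraMap B A) := by
  let f := Algebra.linearMap B A
  suffices hC : Subsingleton (A ⧸ LinearMap.range f) by
    exact LinearMap.range_eq_top.mp (Submodule.Quotient.subsingleton_iff.mp hC)
  rw [← Module.support_eq_empty_iff (R := B)]
  refine Set.eq_empty_iff_forall_notMem.mpr fun p hp => ?_
  rw [Module.mem_support_iff_nontrivial_residueField_tensorProduct] at hp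
  let κ := p.asIdeal.ResidueField
  refine not_subsingleton (κ ⊗[B] (A ⧸ LinearMap.range f)) ?_
  refine subsingleton_of_forall_eq 0 fun x => ?_
  obtain ⟨y, rfl⟩ := LinearMap.lTensor_surjective κ (LinearMap.range f).mkQ_surjective x
  obtain ⟨c, rfl⟩ : ∃ c : κ, c ⊗ₜ[B] (1 : A) = y := by
    by_cases h1 : (1 : κ) ⊗ₜ[B] (1 : A) = 0
    · refine ⟨0, ?_⟩
      have : (1 : κ ⊗[B] A) = 0 := h1
      rw [TensorProduct.zero_tmul, ← mul_one y, this, mul_zero]
    · have h2 : Module.finrank κ (κ ⊗[B] A) = 1 := le_antisymm (h p) (Module.finrank_pos_iff_exists_ne_zero.mpr ⟨_, h1⟩)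
      obtain ⟨c, hc⟩ := exists_smul_eq_of_finrank_eq_one h2 h1 y
      exact ⟨c, by rw [← hc, TensorProduct.smul_tmul', smul_eq_mul, mul_one]⟩
  rw [LinearMap.lTensor_tmul, show (LinearMap.range f).mkQ (1 : A) = 0 from (Submodule.Quotient.mk_eq_zero _).mpr ⟨1, (algebraMap B A).map_one⟩, TensorProduct.tmul_zero]

end Groth.Agent.S14416
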