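import Groth.Statements.S14417
import Groth.Agent.RatPtSmooth.Main
import Groth.Agent.FieldExtLib.Imperfection
-- import your own Groth.Agent.* helpers here

set_option autoImplicit false
universe u
open CategoryTheory AlgebraicGeometry
open Variety

namespace Groth.Agent.S14417

/-- Generic smoothness on the source: let π : X → Y be a dominant morphism of finite type between
integral Noetherian schemes, sending the generic point of X to that of Y, such that the function
field K(Y) (equivalently K(X)) has characteristic zero, and let n be the transcendence degree of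
K(X) over K(Y). Then there is a nonempty (equivalently dense) open subscheme U of X on which π
restricts to a smooth morphism U → Y of relative dimension n. -/
theorem result
    (X Y : Scheme.{u}) [IsIntegral X] [IsIntegral Y] [IsNoetherian X] [IsNoetherian Y]
    (π : X ⟶ Y) [LocallyOfFiniteType π] [QuasiCompact π]
    (hdom : π.base (genericPoint X) = genericPoint Y) [CharZero Y.functionField]
    (n : ℕ) (hn : @Algebra.trdeg (Y.presheaf.stalk (π.base (genericPoint X))) X.functionField _ _
      (π.stalkMap (genericPoint X)).hom.toAlgebra = n) :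
    ∃ U : X.Opens, (U : Set X).Nonempty ∧ SmoothOfRelativeDimension n (U.ι ≫ π) := by
  let η := genericPoint X
  let A := Y.presheaf.stalk (π.base η)
  let L := X.functionField
  obtain ⟨hA, hA0⟩ : IsField A ∧ CharZero A := by
    have key : ∀ y : Y, y = genericPoint Y → IsField (Y.presheaf.stalk y) ∧ CharZero (Y.presheaf.stalk y) := by
      rintro y rfl
      exact ⟨Field.toIsField Y.functionField, ‹_›⟩
    exact key _ hdom
  letI : Field A := hA.toField
  haveI := hA0
  letI : Algebra A L := (π.stalkMap η).hom.toAlgebra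
  haveI : IsLocallyNoetherian X := inferInstance
  haveI : LocallyOfFinitePresentation π := inferInstance
  haveI : Algebra.EssFiniteType A L := LocallyOfFiniteType.stalkMap π η
  haveI : PerfectField A := PerfectField.ofCharZero
  haveI hfs : Algebra.FormallySmooth A L := Algebra.FormallySmooth.of_perfectField
  have hη : η ∈ π.smoothLocus := hfs
  have hrk : Module.finrank L Ω[L⁄A] = n := by
    rw [(Groth.Agent.FieldExtLib.finrank_kaehler_eq A L).2]
    haveI : Subsingleton (Algebra.H1Cotangent A L) := Algebra.FormallySmooth.subsingleton_h1Cotangent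
    have hn' : Algebra.trdeg A L = n := hn
    rw [Module.finrank_zero_of_subsingleton, hn', zero_add, Cardinal.toNat_natCast]
  refine ⟨π.smoothLocus, ⟨η, hη⟩, ?_⟩
  let U := π.smoothLocus
  haveI : Smooth (U.ι ≫ π) := by
    rw [← Scheme.Hom.smoothLocus_eq_top_iff, ← Scheme.Hom.preimage_smoothLocus_eq, eq_top_iff]
    rintro z -
    exact z.2
  refine ⟨fun x => ?_⟩
  obtain ⟨V, hV, W, hW, hxW, e, hstd⟩ := Smooth.exists_isStandardSmooth (U.ι ≫ π) x
  refine ⟨V, hV, W, hW, hxW, e, ?_⟩
  algebraize [((U.ι ≫ π).appLE V W e).hom]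
  obtain ⟨ι, σ, _, _, ⟨P⟩⟩ := (‹Algebra.IsStandardSmooth Γ(Y, V) Γ(↑U, W)›).out
  have hP : ((U.ι ≫ π).appLE V W e).hom.IsStandardSmoothOfRelativeDimension P.dimension :=
    Algebra.IsStandardSmoothOfRelativeDimension.mk ⟨ι, σ, inferInstance, inferInstance, P, rfl⟩
  have hWU : U.ι ''ᵁ W ≤ π ⁻¹ᵁ V := by
    rintro _ ⟨w, hw, rfl⟩
    exact e hw
  have hηW : η ∈ U.ι ''ᵁ W :=
    ((genericPoint_spec X).mem_open_set_iff (U.ι ''ᵁ W).2).2 ⟨U.ι x, trivial, x, hxW, rfl⟩
  have happ : (π.appLE V (U.ι ''ᵁ W) hWU).hom.IsStandardSmoothOfRelativeDimension P.dimension := by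
    have h1 : π.appLE V (U.ι ''ᵁ W) hWU ≫ (U.ι.appIso W).hom = (U.ι ≫ π).appLE V W e := by
      rw [Scheme.Hom.appIso_hom', Scheme.Hom.appLE_comp_appLE]
    rw [← h1] at hP
    exact (RingHom.isStandardSmoothOfRelativeDimension_respectsIso.cancel_right_isIso _ _).1 hP
  have hd := Groth.Agent.RatPtSmooth.finrank_of_std π hV (hW.image_of_isOpenImmersion U.ι) hWU hηW P.dimension happ
  rw [show P.dimension = n from hd.symm.trans hrk] at hP
  exact hP

end Groth.Agent.S14417
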