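import Mathlib
import Mathlib
import Groth.Statements.S14418

set_option autoImplicit false
universe u
open CategoryTheory
open CAlg

namespace Groth.Agent.S14418

/-- Let B → A be a local homomorphism of Noetherian local rings, n the maximal ideal of B, and T an
additive functor from B-modules to A-modules which is B-linear (T applied to multiplication by b ∈ B
is multiplication by the image of b in A), carries finitely generated B-modules to finitely
generated A-modules, and is half-exact on finitely generated modules (every short exact sequence of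
finitely generated B-modules goes to a sequence exact at its middle term). If T(B/n) = 0 then T(N) =
0 for every finitely generated B-module N. (The published statement takes T defined on finitely
generated modules only; here T is defined on all B-modules while every hypothesis and the conclusion
concern finitely generated modules.) -/
theorem result {B A : Type u} [CommRing B] [CommRing A]
    [IsNoetherianRing B] [IsLocalRing B] [IsNoetherianRing A] [IsLocalRing A] [Algebra B A]
    [IsLocalHom (algebraMap B A)] (T : ModuleCat.{u} B ⥤ ModuleCat.{u} A) [T.Additive]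
    (hlin : ∀ (N : ModuleCat.{u} B) (b : B),
      T.map (ModuleCat.ofHom (b • (LinearMap.id : N →ₗ[B] N))) =
        ModuleCat.ofHom (algebraMap B A b • (LinearMap.id : T.obj N →ₗ[A] T.obj N)))
    (hfin : ∀ N : ModuleCat.{u} B, Module.Finite B N → Module.Finite A (T.obj N))
    (hex : ∀ S : ShortComplex (ModuleCat.{u} B), S.ShortExact → Module.Finite B S.X₁ →
      Module.Finite B S.X₂ → Module.Finite B S.X₃ → (S.map T).Exact)
    (h0 : Limits.IsZero (T.obj (ModuleCat.of B (B ⧸ IsLocalRing.maximalIdeal B))))
    (N : ModuleCat.{u} B) [Module.Finite B N] : Limits.IsZero (T.obj N) := by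
  classical
  have seq : ∀ (P₁ P₂ P₃ : Type u) [AddCommGroup P₁] [Module B P₁] [Module.Finite B P₁]
      [AddCommGroup P₂] [Module B P₂] [Module.Finite B P₂] [AddCommGroup P₃] [Module B P₃] [Module.Finite B P₃]
      (f : P₁ →ₗ[B] P₂) (g : P₂ →ₗ[B] P₃), Function.Injective f → Function.Surjective g → Function.Exact f g →
      Function.Exact (T.map (ModuleCat.ofHom f)).hom (T.map (ModuleCat.ofHom g)).hom := by
    intro P₁ P₂ P₃ _ _ _ _ _ _ _ _ _ f g hfi hgs hfg
    have h0' : ModuleCat.ofHom f ≫ ModuleCat.ofHom g = 0 := by
      ext x; exact hfg.apply_apply_eq_zero x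
    have hS : (ShortComplex.mk _ _ h0').ShortExact :=
      { exact := (ShortComplex.ShortExact.moduleCat_exact_iff_function_exact _).mpr hfg
        mono_f := (ModuleCat.mono_iff_injective _).mpr hfi
        epi_g := (ModuleCat.epi_iff_surjective _).mpr hgs }
    exact (ShortComplex.ShortExact.moduleCat_exact_iff_function_exact _).mp (hex _ hS ‹_› ‹_› ‹_›)
  let Z : (P : Type u) → [AddCommGroup P] → [Module B P] → Prop := fun P _ _ => Subsingleton (T.obj (ModuleCat.of B P))
  have ext3 : ∀ (P₁ P₂ P₃ : Type u) [AddCommGroup P₁] [Module B P₁] [Module.Finite B P₁]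
      [AddCommGroup P₂] [Module B P₂] [Module.Finite B P₂] [AddCommGroup P₃] [Module B P₃] [Module.Finite B P₃]
      (f : P₁ →ₗ[B] P₂) (g : P₂ →ₗ[B] P₃), Function.Injective f → Function.Surjective g → Function.Exact f g →
      Z P₁ → Z P₃ → Z P₂ := by
    intro P₁ P₂ P₃ _ _ _ _ _ _ _ _ _ f g hfi hgs hfg z1 z3
    refine subsingleton_of_forall_eq 0 fun y => ?_
    obtain ⟨x, rfl⟩ := (seq P₁ P₂ P₃ f g hfi hgs hfg y).mp (@Subsingleton.elim _ z3 _ _)
    rw [@Subsingleton.elim _ z1 x 0, map_zero]
  have zsub : ∀ (P : Type u) [AddCommGroup P] [Module B P], Subsingleton P → Z P := fun P _ _ hP =>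
    ModuleCat.subsingleton_of_isZero (Functor.map_isZero T (ModuleCat.isZero_of_subsingleton (ModuleCat.of B P)))
  have hI : ∀ I : Ideal B, Z (B ⧸ I) := by
    intro I
    induction I using WellFoundedGT.induction with
    | ind I ih =>
      by_cases htop : I = ⊤
      · exact zsub _ (Submodule.Quotient.subsingleton_iff.mpr htop)
      by_cases hm : I = IsLocalRing.maximalIdeal B
      · subst hm; exact ModuleCat.subsingleton_of_isZero h0
      have hgex : ∀ a : B, Function.Surjective (Submodule.factor (le_sup_left : I ≤ I ⊔ Ideal.span {a})) :=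
        fun a => Submodule.factor_surjective _
      have hlt : ∀ a : B, a ∉ I → I < I ⊔ Ideal.span {a} := fun a ha =>
        lt_of_le_of_ne le_sup_left fun he => ha (he ▸ Ideal.mem_sup_right (Ideal.mem_span_singleton_self a))
      have hexact : ∀ (a : B) (K : Ideal B) (f : (B ⧸ K) →ₗ[B] B ⧸ I), (∀ r, f (Submodule.Quotient.mk r) = Submodule.Quotient.mk (r * a)) →
          Function.Exact f (Submodule.factor (le_sup_left : I ≤ I ⊔ Ideal.span {a})) := by
        intro a K f hf y
        obtain ⟨y, rfl⟩ := Submodule.Quotient.mk_surjective I y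
        constructor
        · intro hy
          rw [show Submodule.factor _ (Submodule.Quotient.mk y) = Submodule.Quotient.mk y from rfl,
            Submodule.Quotient.mk_eq_zero] at hy
          obtain ⟨i, hi, s, hs, rfl⟩ := Submodule.mem_sup.mp hy
          obtain ⟨r, rfl⟩ := Ideal.mem_span_singleton'.mp hs
          refine ⟨Submodule.Quotient.mk r, (hf r).trans ((Submodule.Quotient.eq I).mpr ?_)⟩
          simpa using I.neg_mem hi
        · rintro ⟨z, hz⟩
          obtain ⟨r, rfl⟩ := Submodule.Quotient.mk_surjective K z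
          rw [← hz, hf]
          exact (Submodule.Quotient.mk_eq_zero _).mpr (Ideal.mem_sup_right (Ideal.mem_span_singleton'.mpr ⟨r, rfl⟩))
      by_cases hp : I.IsPrime
      · obtain ⟨a, ham, ha⟩ := SetLike.exists_of_lt (lt_of_le_of_ne (IsLocalRing.le_maximalIdeal htop) hm)
        let f : (B ⧸ I) →ₗ[B] B ⧸ I := a • LinearMap.id
        have hfi : Function.Injective f := by
          rw [injective_iff_map_eq_zero]
          intro x hx
          obtain ⟨r, rfl⟩ := Submodule.Quotient.mk_surjective I x
          refine (Submodule.Quotient.mk_eq_zero I).mpr ((hp.mem_or_mem ?_).resolve_left ha)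
          exact (Submodule.Quotient.mk_eq_zero I).mp hx
        have hs := seq _ _ _ f _ hfi (hgex a) (hexact a I f fun r => by
          simp only [f, LinearMap.smul_apply, LinearMap.id_apply]
          rw [← Submodule.Quotient.mk_smul, smul_eq_mul, mul_comm])
        haveI : Module.Finite A (T.obj (ModuleCat.of B (B ⧸ I))) := hfin _ (inferInstanceAs (Module.Finite B (B ⧸ I)))
        have hsurj : ∀ y : T.obj (ModuleCat.of B (B ⧸ I)), ∃ x : T.obj (ModuleCat.of B (B ⧸ I)), algebraMap B A a • x = y := fun y => by
          obtain ⟨x, rfl⟩ := (hs y).mp (@Subsingleton.elim _ (ih _ (hlt a ha)) _ _)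
          exact ⟨x, (congrArg (fun t => t.hom x) (hlin (ModuleCat.of B (B ⧸ I)) a)).symm⟩
        refine subsingleton_of_forall_eq 0 fun y => ?_
        have hbot : (⊤ : Submodule A (T.obj (ModuleCat.of B (B ⧸ I)))) = ⊥ := by
          refine Submodule.eq_bot_of_le_smul_of_le_jacobson_bot (IsLocalRing.maximalIdeal A) ⊤ Module.Finite.fg_top (fun z _ => ?_)
            (IsLocalRing.maximalIdeal_le_jacobson _)
          obtain ⟨x, rfl⟩ := hsurj z
          exact Submodule.smul_mem_smul ((IsLocalRing.mem_maximalIdeal _).mpr fun hu =>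
            (IsLocalRing.mem_maximalIdeal _).mp ham (isUnit_of_map_unit _ _ hu)) Submodule.mem_top
        exact (Submodule.mem_bot A).mp (hbot ▸ Submodule.mem_top)
      · obtain ⟨a, b, hab, ha, hb⟩ : ∃ a b, a * b ∈ I ∧ a ∉ I ∧ b ∉ I := by
          by_contra hcon; push Not at hcon
          exact hp ⟨htop, fun {x y} hxy => or_iff_not_imp_left.mpr (hcon x y hxy)⟩
        let f₀ : B →ₗ[B] B ⧸ I := LinearMap.toSpanSingleton B (B ⧸ I) (Submodule.Quotient.mk a)
        have hf₀ : ∀ r, f₀ r = Submodule.Quotient.mk (r * a) := fun r => rfl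
        have hK : I < LinearMap.ker f₀ := by
          refine lt_of_le_of_ne (fun i hi => ?_) fun he => hb (he ▸ ?_)
          · exact LinearMap.mem_ker.mpr ((hf₀ i).trans ((Submodule.Quotient.mk_eq_zero I).mpr (I.mul_mem_right a hi)))
          · exact LinearMap.mem_ker.mpr ((hf₀ b).trans ((Submodule.Quotient.mk_eq_zero I).mpr (mul_comm a b ▸ hab)))
        exact ext3 _ _ _ (Submodule.liftQ (LinearMap.ker f₀) f₀ le_rfl) _
          (LinearMap.ker_eq_bot.mp (Submodule.ker_liftQ_eq_bot _ _ _ le_rfl)) (hgex a)
          (hexact a _ _ hf₀) (ih _ hK) (ih _ (hlt a ha))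
  haveI : Subsingleton (T.obj N) := by
    suffices H : ∀ (P : Type u) [AddCommGroup P] [Module B P], Module.Finite B P → Z P from H N ‹_›
    intro P _ _ hP
    induction hP using IsNoetherianRing.induction_on_isQuotientEquivQuotientPrime B with
    | subsingleton P => exact zsub P ‹_›
    | quotient P p e =>
      haveI : Subsingleton (T.obj (ModuleCat.of B (B ⧸ p.1))) := hI p.1
      exact (T.mapIso e.toModuleIso).toLinearEquiv.toEquiv.subsingleton
    | exact P₁ P₂ P₃ f g hfi hgs hfg z1 z3 => exact ext3 P₁ P₂ P₃ f g hfi hgs hfg z1 z3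
  exact ModuleCat.isZero_of_subsingleton _

end Groth.Agent.S14418
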