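import Groth.Statements.S1442
import Mathlib.RingTheory.QuasiFinite.Basic

set_option autoImplicit false
universe u
set_option backward.isDefEq.respectTransparency false
open FlatMor

namespace Groth.Agent.S1442

open AlgebraicGeometry CategoryTheory Limits in
/-- Let i : Z → X be a closed immersion and j : Z → Y an integral morphism such that for each point y of
Y the fibre of j over y is contained in the preimage of some affine open of X. Then for each y there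
are affine opens U of X and V of Y with y ∈ V and with the same preimage in Z. -/
theorem result {X Y Z : Scheme.{u}} (i : Z ⟶ X) [IsClosedImmersion i] (j : Z ⟶ Y) [IsIntegralHom j]
    (h : ∀ y : Y, ∃ U : X.Opens, IsAffineOpen U ∧ j ⁻¹' {y} ⊆ (i ⁻¹ᵁ U : Set ↑Z)) (y : Y) :
    ∃ (U : X.Opens) (V : Y.Opens), IsAffineOpen U ∧ IsAffineOpen V ∧ y ∈ V ∧ i ⁻¹ᵁ U = j ⁻¹ᵁ V := by
  classical
  have memD : ∀ {W : Z.Opens} (hW : IsAffineOpen W) {z : Z} (hz : z ∈ W) (r : Γ(Z, W)),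
      z ∈ Z.basicOpen r ↔ r ∉ (hW.primeIdealOf ⟨z, hz⟩).asIdeal := fun {W} hW {z} hz r => by
    have h := SetLike.ext_iff.1 (hW.fromSpec_preimage_basicOpen r) (hW.primeIdealOf ⟨z, hz⟩)
    rw [Scheme.Hom.mem_preimage, hW.fromSpec_primeIdealOf] at h
    exact h
  -- an affine neighbourhood of `y` whose preimage lies in one affine open of `X`
  obtain ⟨U₀, hU₀, hF⟩ := h y
  have hT : IsAffineOpen (i ⁻¹ᵁ U₀) := hU₀.preimage i
  obtain ⟨_, ⟨V₀, hV₀, rfl⟩, hyV₀, hV₀C⟩ := Y.isBasis_affineOpens.exists_subset_of_mem_open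
    (show y ∈ (j '' ((i ⁻¹ᵁ U₀ : Set Z)ᶜ))ᶜ from fun ⟨z, hz, e⟩ => hz (hF e))
    (j.isClosedMap _ (i ⁻¹ᵁ U₀).2.isClosed_compl).isOpen_compl
  have hW : IsAffineOpen (j ⁻¹ᵁ V₀) := hV₀.preimage j
  have hWT : j ⁻¹ᵁ V₀ ≤ i ⁻¹ᵁ U₀ := fun z hz => by_contra fun hn => hV₀C hz ⟨z, hn, rfl⟩
  -- finitely many functions cutting out the preimage
  choose c hc hzc using fun z : ↥(j ⁻¹ᵁ V₀) => hT.exists_basicOpen_le (V := j ⁻¹ᵁ V₀) z (hWT z.2)
  obtain ⟨t, ht⟩ := hW.isCompact.elim_finite_subcover (fun z => (Z.basicOpen (c z) : Set Z))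
    (fun z => (Z.basicOpen (c z)).2) (fun z hz => Set.mem_iUnion.2 ⟨⟨z, hz⟩, hzc ⟨z, hz⟩⟩)
  let ρ : Γ(Z, i ⁻¹ᵁ U₀) →+* Γ(Z, j ⁻¹ᵁ V₀) := (Z.presheaf.map (homOfLE hWT).op).hom
  have hρ : ∀ (r : Γ(Z, i ⁻¹ᵁ U₀)) {z : Z} (hz : z ∈ j ⁻¹ᵁ V₀),
      z ∈ Z.basicOpen r ↔ ρ r ∉ (hW.primeIdealOf ⟨z, hz⟩).asIdeal := fun r z hz => by
    rw [← memD hW hz, show Z.basicOpen (ρ r) = _ from Z.basicOpen_res r (homOfLE hWT).op]
    exact ⟨fun h => ⟨hz, h⟩, fun h => h.2⟩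
  let cs : ↥t → Γ(Z, i ⁻¹ᵁ U₀) := fun k => c k.1
  letI : Algebra Γ(Y, V₀) Γ(Z, j ⁻¹ᵁ V₀) := (j.app V₀).hom.toAlgebra
  haveI : Algebra.IsIntegral Γ(Y, V₀) Γ(Z, j ⁻¹ᵁ V₀) := ⟨j.isIntegral_app V₀ hV₀⟩
  let D := Algebra.adjoin Γ(Y, V₀) (Set.range fun k => ρ (cs k))
  haveI : Module.Finite Γ(Y, V₀) ↥D :=
    Module.Finite.iff_fg.2 (fg_adjoin_of_finite (Set.finite_range _) fun x _ => Algebra.IsIntegral.isIntegral x)
  let p := (hV₀.primeIdealOf ⟨y, hyV₀⟩).asIdeal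
  let S : Set (Ideal ↥D) := {Q ∈ p.primesOver ↥D | ∃ (z : Z) (hz : z ∈ j ⁻¹ᵁ V₀),
    j z = y ∧ Q = (hW.primeIdealOf ⟨z, hz⟩).asIdeal.comap D.val.toRingHom}
  have hS : S.Finite := (Algebra.QuasiFinite.finite_primesOver (S := ↥D) p).subset fun Q hQ => hQ.1
  let ψ : MvPolynomial ↥t ℤ →+* ↥D :=
    MvPolynomial.eval₂Hom (Int.castRingHom ↥D) fun k => ⟨ρ (cs k), Algebra.subset_adjoin ⟨k, rfl⟩⟩
  let ev : MvPolynomial ↥t ℤ →+* Γ(Z, i ⁻¹ᵁ U₀) := MvPolynomial.eval₂Hom (Int.castRingHom _) cs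
  have hψ : D.val.toRingHom.comp ψ = ρ.comp ev :=
    MvPolynomial.ringHom_ext (fun r => by simp [ψ, ev]) fun k => by simp [ψ, ev]
  -- one function in their ideal that is invertible on the whole fibre
  obtain ⟨e, heJ, he⟩ : ∃ e ∈ Ideal.span (Set.range (MvPolynomial.X : ↥t → MvPolynomial ↥t ℤ)),
      ∀ Q ∈ S, e ∉ Q.comap ψ := by
    by_contra hn
    push Not at hn
    obtain ⟨Q, hQ, hle⟩ := (Ideal.subset_union_prime (s := hS.toFinset) (f := fun Q => Q.comap ψ) ⊥ ⊥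
      fun Q hQ _ _ => by
        haveI := ((hS.mem_toFinset).1 hQ).1.1
        exact Ideal.comap_isPrime ψ Q).1 fun e he => by
      obtain ⟨Q, hQ, heQ⟩ := hn e he
      exact Set.mem_biUnion (hS.mem_toFinset.2 hQ) heQ
    obtain ⟨-, z, hz, -, rfl⟩ := hS.mem_toFinset.1 hQ
    obtain ⟨k, hkt, hzk⟩ := Set.mem_iUnion₂.1 (ht hz)
    refine (hρ _ hz).1 hzk ?_
    have h1 := hle (Ideal.subset_span ⟨⟨k, hkt⟩, rfl⟩)
    simpa [ψ, cs] using h1
  have hle : Z.basicOpen (ev e) ≤ j ⁻¹ᵁ V₀ := fun z hz => by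
    have hzT : z ∈ i ⁻¹ᵁ U₀ := Z.basicOpen_le _ hz
    obtain ⟨k, hk⟩ : ∃ k, z ∈ Z.basicOpen (cs k) := by
      by_contra hn
      push Not at hn
      refine (memD hT hzT _).1 hz ?_
      have : Ideal.span (Set.range MvPolynomial.X) ≤ (hT.primeIdealOf ⟨z, hzT⟩).asIdeal.comap ev := by
        rw [Ideal.span_le]
        rintro _ ⟨k, rfl⟩
        have := hn k
        rw [memD hT hzT, not_not] at this
        simpa [ev] using this
      exact this heJ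
    exact hc _ hk
  have hfib : ∀ z, j z = y → z ∈ Z.basicOpen (ev e) := fun z hz => by
    have hzW : z ∈ j ⁻¹ᵁ V₀ := by
      show j z ∈ V₀
      rw [hz]
      exact hyV₀
    rw [hρ _ hzW]
    have hover : ((hW.primeIdealOf ⟨z, hzW⟩).asIdeal.comap D.val.toRingHom) ∈ p.primesOver ↥D := by
      refine ⟨Ideal.comap_isPrime _ _, ⟨?_⟩⟩
      subst hz
      rw [Ideal.under_def, Ideal.comap_comap]
      have := congrArg PrimeSpectrum.asIdeal
        (IsAffineOpen.comap_primeIdealOf_appLE (f := j) V₀ hV₀ (j ⁻¹ᵁ V₀) hW le_rfl hzW)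
      rw [← Scheme.Hom.app_eq_appLE] at this
      exact this.symm
    have h1 := he _ ⟨hover, z, hzW, hz, rfl⟩
    rw [Ideal.mem_comap, Ideal.mem_comap] at h1
    rwa [show D.val.toRingHom (ψ e) = ρ (ev e) from RingHom.congr_fun hψ e] at h1
  -- shrink the base
  obtain ⟨g, hgle, hyg⟩ := hV₀.exists_basicOpen_le
    (V := V₀ ⊓ ⟨(j '' ((Z.basicOpen (ev e) : Set Z)ᶜ))ᶜ,
      (j.isClosedMap _ (Z.basicOpen (ev e)).2.isClosed_compl).isOpen_compl⟩)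
    ⟨y, hyV₀, fun ⟨z, hz, e'⟩ => hz (hfib z e')⟩ hyV₀
  have hgW : j ⁻¹ᵁ Y.basicOpen g ≤ Z.basicOpen (ev e) := fun z hz =>
    by_contra fun hn => (hgle hz).2 ⟨z, hn, rfl⟩
  haveI := hT.isLocalization_basicOpen (ev e)
  let b : Γ(Z, Z.basicOpen (ev e)) := Z.presheaf.map (homOfLE hle).op (j.app V₀ g)
  obtain ⟨⟨a, _, n, rfl⟩, ha⟩ := IsLocalization.surj (Submonoid.powers (ev e)) b
  have hb : Z.basicOpen b = j ⁻¹ᵁ Y.basicOpen g := by
    rw [show Z.basicOpen b = _ from Z.basicOpen_res _ (homOfLE hle).op, ← Scheme.preimage_basicOpen]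
    exact inf_eq_right.2 hgW
  have key : Z.basicOpen (ev e * a) = j ⁻¹ᵁ Y.basicOpen g := by
    have h1 := congrArg Z.basicOpen ha
    rw [Z.basicOpen_mul, hb, RingHom.algebraMap_toAlgebra] at h1
    erw [Z.basicOpen_res, Z.basicOpen_res] at h1
    rw [Z.basicOpen_mul, ← h1]
    refine inf_eq_left.2 (le_inf hgW ?_)
    show j ⁻¹ᵁ Y.basicOpen g ≤ Z.basicOpen (ev e ^ n)
    rcases n with - | n
    · rw [pow_zero]
      exact hgW.trans ((Z.basicOpen_le _).trans (Z.basicOpen_of_isUnit isUnit_one).ge)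
    · exact hgW.trans (Z.basicOpen_pow _ n.succ_pos).ge
  obtain ⟨a', ha'⟩ := i.app_surjective U₀ hU₀ (ev e * a)
  refine ⟨X.basicOpen a', Y.basicOpen g, hU₀.basicOpen a', hV₀.basicOpen g, hyg, ?_⟩
  rw [Scheme.preimage_basicOpen, ha', key]

end Groth.Agent.S1442
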