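import Groth.Statements.S14421
import Mathlib


set_option autoImplicit false
universe u v
open CategoryTheory
open HomAlg

namespace Groth.Agent.S14421



/-- Let φ : K → J be a morphism of cochain complexes of modules over a ring which is surjective in
degree p − 1. Then the map induced on cohomology in degree p is surjective if and only if the map
induced on cocycles in degree p is surjective. (Stated for cochain complexes indexed by the
integers; the published statement is for three-term complexes in degrees p − 1, p, p + 1, which
embed as such complexes.) -/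
theorem result {R : Type u} [Ring R]
    (K J : CochainComplex (ModuleCat.{v} R) ℤ) (φ : K ⟶ J) (p : ℤ) [Epi (φ.f (p - 1))] :
    Epi (HomologicalComplex.homologyMap φ p) ↔ Epi (HomologicalComplex.cyclesMap φ p) := by
  constructor
  · intro h
    rw [ModuleCat.epi_iff_surjective] at h ⊢
    intro y
    obtain ⟨x', hx'⟩ := h (J.homologyπ p y)
    obtain ⟨x, rfl⟩ := (ModuleCat.epi_iff_surjective (K.homologyπ p)).1 inferInstance x'
    have hy : J.homologyπ p (y - HomologicalComplex.cyclesMap φ p x) = 0 := by
      rw [map_sub, sub_eq_zero, ← hx']
      exact ConcreteCategory.congr_hom (HomologicalComplex.homologyπ_naturality φ p) x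
    have hex : (ShortComplex.mk (J.toCycles (p - 1) p) (J.homologyπ p) (J.toCycles_comp_homologyπ _ _)).Exact :=
      ShortComplex.exact_of_g_is_cokernel _ (J.homologyIsCokernel (p - 1) p (by simp))
    obtain ⟨z, hz⟩ := (ShortComplex.moduleCat_exact_iff _).1 hex _ hy
    obtain ⟨w, rfl⟩ := (ModuleCat.epi_iff_surjective (φ.f (p - 1))).1 inferInstance z
    refine ⟨x + K.toCycles (p - 1) p w, ?_⟩
    have h2 : HomologicalComplex.cyclesMap φ p (K.toCycles (p - 1) p w) = J.toCycles (p - 1) p (φ.f (p - 1) w) :=
      ConcreteCategory.congr_hom (show K.toCycles (p - 1) p ≫ HomologicalComplex.cyclesMap φ p = φ.f (p - 1) ≫ J.toCycles (p - 1) p by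
        rw [← cancel_mono (J.iCycles p)]; simp) w
    rw [map_add, h2]
    refine (congrArg (_ + ·) hz).trans ?_
    exact add_sub_cancel _ _
  · intro h
    haveI := h
    haveI : Epi (K.homologyπ p ≫ HomologicalComplex.homologyMap φ p) := by
      rw [HomologicalComplex.homologyπ_naturality]; exact epi_comp _ _
    exact epi_of_epi (K.homologyπ p) _

end Groth.Agent.S14421
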