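import Mathlib
import Groth.Agent.TorLib.Balance
import Groth.Statements.S14422

set_option autoImplicit false
universe u
open CategoryTheory
open CAlg

namespace Groth.Agent.S14422

/-- Long exact sequence for Tor: let A be a ring, M an A-module and 0 → N' → N → N'' → 0 a short exact
sequence of A-modules; write Tor_i(M, ·) for the i-th left derived functor of M ⊗_A ·. Then for
every i the composite Tor_i(M, N') → Tor_i(M, N) → Tor_i(M, N'') is zero and the sequence is exact,
Tor_0(M, N) → Tor_0(M, N'') is surjective, and there is a connecting map δ_i : Tor_{i+1}(M, N'') →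
Tor_i(M, N') such that Tor_{i+1}(M, N) → Tor_{i+1}(M, N'') → Tor_i(M, N') and Tor_{i+1}(M, N'') →
Tor_i(M, N') → Tor_i(M, N) are exact. (Only the existence of connecting maps with these exactness
properties is asserted; the published statement refers to the natural connecting homomorphisms.) -/
theorem result (A : Type u) [CommRing A] (M : ModuleCat.{u} A)
    (S : ShortComplex (ModuleCat.{u} A)) (hS : S.ShortExact) (i : ℕ) :
    (∃ w₀ : ((Tor (ModuleCat.{u} A) i).obj M).map S.f ≫ ((Tor (ModuleCat.{u} A) i).obj M).map S.g = 0,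
        (ShortComplex.mk (((Tor (ModuleCat.{u} A) i).obj M).map S.f) (((Tor (ModuleCat.{u} A) i).obj M).map S.g) w₀).Exact) ∧
      Epi (((Tor (ModuleCat.{u} A) 0).obj M).map S.g) ∧
      ∃ (δ : ((Tor (ModuleCat.{u} A) (i + 1)).obj M).obj S.X₃ ⟶ ((Tor (ModuleCat.{u} A) i).obj M).obj S.X₁)
        (w₁ : ((Tor (ModuleCat.{u} A) (i + 1)).obj M).map S.g ≫ δ = 0)
        (w₂ : δ ≫ ((Tor (ModuleCat.{u} A) i).obj M).map S.f = 0),
        (ShortComplex.mk (((Tor (ModuleCat.{u} A) (i + 1)).obj M).map S.g) δ w₁).Exact ∧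
          (ShortComplex.mk δ (((Tor (ModuleCat.{u} A) i).obj M).map S.f) w₂).Exact := by
  let P := projectiveResolution M
  let h := TorLib.cxSeq_shortExact P hS
  let T := fun j : ℕ => (CategoryTheory.Tor (ModuleCat.{u} A) j).obj M
  let θ : ∀ (j : ℕ) (X : ModuleCat.{u} A), (T j).obj X ≅ (TorLib.cx P X).homology j := fun j X =>
    (((TorLib.torBalance A j).app M).app X) ≪≫ TorLib.torIso P X j
  have nat : ∀ (j : ℕ) {X Y : ModuleCat.{u} A} (g : X ⟶ Y),
      (T j).map g ≫ (θ j Y).hom = (θ j X).hom ≫ HomologicalComplex.homologyMap (TorLib.cxMap P g) j := by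
    intro j X Y g
    have h1 := ((TorLib.torBalance A j).app M).hom.naturality g
    have h2 := TorLib.torIso_nat (P := P) g j
    simp only [θ, Iso.trans_hom, Category.assoc]
    refine ((Category.assoc _ _ _).symm.trans ((congrArg (· ≫ (TorLib.torIso P Y j).hom) h1).trans
      (Category.assoc _ _ _))).trans ?_
    exact congrArg (fun t => (((TorLib.torBalance A j).app M).app X).hom ≫ t) h2
  have w0 : (T i).map S.f ≫ (T i).map S.g = 0 := by
    rw [← cancel_mono (θ i S.X₃).hom, Category.assoc, nat, ← Category.assoc, nat, Category.assoc,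
      Limits.zero_comp]
    rw [← HomologicalComplex.homologyMap_comp, (TorLib.cxSeq P S).zero,
      HomologicalComplex.homologyMap_zero, Limits.comp_zero]
  refine ⟨⟨w0, ?_⟩, ?_, ?_⟩
  · refine ShortComplex.exact_of_iso ?_ (h.homology_exact₂ i)
    exact (ShortComplex.isoMk (θ i S.X₁) (θ i S.X₂) (θ i S.X₃) (nat i S.f).symm (nat i S.g).symm).symm
  · have hepi : Epi (HomologicalComplex.homologyMap (TorLib.cxMap P S.g) 0) := by
      have hg : Function.Surjective S.g.hom := (ModuleCat.epi_iff_surjective _).mp hS.epi_g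
      have : Epi (MonoidalCategory.whiskerRight S.g M) :=
        (ModuleCat.epi_iff_surjective _).mpr (LinearMap.rTensor_surjective _ hg)
      have heq : HomologicalComplex.homologyMap (TorLib.cxMap P S.g) 0 =
          (TorLib.h0Iso P S.X₂).hom ≫ MonoidalCategory.whiskerRight S.g M ≫
            (TorLib.h0Iso P S.X₃).inv := by
        rw [← Category.assoc, Iso.eq_comp_inv]
        exact TorLib.h0Iso_naturality P S.g
      rw [heq]
      infer_instance
    have heq : (T 0).map S.g = (θ 0 S.X₂).hom ≫
        HomologicalComplex.homologyMap (TorLib.cxMap P S.g) 0 ≫ (θ 0 S.X₃).inv := by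
      rw [← Category.assoc, Iso.eq_comp_inv]
      exact nat 0 S.g
    change Epi ((T 0).map S.g)
    rw [heq]
    infer_instance
  · refine ⟨(θ (i + 1) S.X₃).hom ≫ h.δ (i + 1) i rfl ≫ (θ i S.X₁).inv, ?_, ?_, ?_, ?_⟩
    · rw [← Category.assoc, nat (i + 1) S.g, Category.assoc, ← Category.assoc _ (h.δ (i + 1) i rfl),
        h.comp_δ, Limits.zero_comp, Limits.comp_zero]
    · rw [← cancel_mono (θ i S.X₂).hom]
      simp only [Category.assoc, Limits.zero_comp]
      rw [nat i S.f, Iso.inv_hom_id_assoc, h.δ_comp, Limits.comp_zero]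
    · refine ShortComplex.exact_of_iso ?_ (h.homology_exact₃ (i + 1) i rfl)
      exact (ShortComplex.isoMk (θ (i + 1) S.X₂) (θ (i + 1) S.X₃) (θ i S.X₁) (nat (i + 1) S.g).symm
        (by simp)).symm
    · refine ShortComplex.exact_of_iso ?_ (h.homology_exact₁ (i + 1) i rfl)
      exact (ShortComplex.isoMk (θ (i + 1) S.X₃) (θ i S.X₁) (θ i S.X₂) (by simp)
        (nat i S.f).symm).symm

end Groth.Agent.S14422
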