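import Groth.Statements.S14423
import Mathlib
import Groth.Agent.TorLib.Basic
-- import your own Groth.Agent.* helpers here

set_option autoImplicit false
universe u
open CategoryTheory
open CAlg

namespace Groth.Agent.S14423

/-- Graded freeness criterion: let k be a field, S = k[x_0, …, x_n] with its standard grading by degree,
and M a finitely generated graded S-module. If Tor_1^S(M, k) = 0, where k = S/S_+ (S modulo the
ideal of polynomials with zero constant term) and Tor_1^S(M, ·) is the first left derived functor of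
M ⊗_S ·, then M is free with a basis of homogeneous elements, i.e. M is isomorphic as a graded
module to a finite direct sum of shifted copies S(−d_i). (Here the module is graded in non-negative
degrees; the published statement allows any integer degrees.) -/
theorem result (k : Type u) [Field k] (n : ℕ)
    (M : Type u) [AddCommGroup M] [Module (MvPolynomial (Fin (n + 1)) k) M]
    [Module.Finite (MvPolynomial (Fin (n + 1)) k) M]
    (ℳ : ℕ → AddSubgroup M)
    [SetLike.GradedSMul (MvPolynomial.homogeneousSubmodule (Fin (n + 1)) k) ℳ]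
    [DirectSum.Decomposition ℳ]
    (h : Limits.IsZero (((Tor (ModuleCat.{u} (MvPolynomial (Fin (n + 1)) k)) 1).obj
      (ModuleCat.of (MvPolynomial (Fin (n + 1)) k) M)).obj
      (ModuleCat.of (MvPolynomial (Fin (n + 1)) k)
        (MvPolynomial (Fin (n + 1)) k ⧸
          RingHom.ker (MvPolynomial.constantCoeff : MvPolynomial (Fin (n + 1)) k →+* k))))) :
    ∃ (ι : Type u) (b : Module.Basis ι (MvPolynomial (Fin (n + 1)) k) M),
      ∀ i, SetLike.IsHomogeneousElem ℳ (b i) := by
  classical
  let R := MvPolynomial (Fin (n + 1)) k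
  let I : Ideal R := RingHom.ker (MvPolynomial.constantCoeff : R →+* k)
  have hhom : ∀ (r : R) (i : ℕ) {j : ℕ} {x : M}, x ∈ ℳ j → MvPolynomial.homogeneousComponent i r • x ∈ ℳ (i + j) :=
    fun r i j x hx => SetLike.GradedSMul.smul_mem (A := MvPolynomial.homogeneousSubmodule (Fin (n + 1)) k) (B := ℳ)
      (MvPolynomial.homogeneousComponent_mem i r) hx
  have key : ∀ (r : R) (j : ℕ) (x : M), x ∈ ℳ j → ∀ e : ℕ,
      (DirectSum.decompose ℳ (r • x) e : M) = if j ≤ e then MvPolynomial.homogeneousComponent (e - j) r • x else 0 := by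
    intro r j x hx e
    conv_lhs => rw [← MvPolynomial.sum_homogeneousComponent r]
    rw [Finset.sum_smul, DirectSum.decompose_sum, DFinsupp.finsetSum_apply, AddSubmonoidClass.coe_finsetSum]
    rw [Finset.sum_eq_single (e - j)]
    · split_ifs with h
      · exact DirectSum.decompose_of_mem_same ℳ (by have h2 := hhom r (e - j) hx; rwa [Nat.sub_add_cancel h] at h2)
      · exact DirectSum.decompose_of_mem_ne ℳ (hhom r (e - j) hx) (by omega)
    · intro i _ hi
      exact DirectSum.decompose_of_mem_ne ℳ (hhom r i hx) (by omega)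
    · intro hni
      rw [MvPolynomial.homogeneousComponent_eq_zero _ r (by rw [Finset.mem_range] at hni; omega)]
      simp
  have hex : ∃ l : ℕ, ∃ m : Fin l → M, (∀ i, SetLike.IsHomogeneousElem ℳ (m i)) ∧
      Submodule.span R (Set.range m) = ⊤ := by
    obtain ⟨G, hG⟩ := (Module.Finite.fg_top : (⊤ : Submodule R M).FG)
    let P : Finset M := G.biUnion fun x =>
      ((DirectSum.decompose ℳ x).support).image fun e => (DirectSum.decompose ℳ x e : M)
    refine ⟨P.card, fun i => (P.equivFin.symm i).1, fun i => ?_, ?_⟩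
    · obtain ⟨x, -, hx⟩ := Finset.mem_biUnion.mp (P.equivFin.symm i).2
      obtain ⟨e, -, he⟩ := Finset.mem_image.mp hx
      refine ⟨e, ?_⟩
      simp only [← he]
      exact (DirectSum.decompose ℳ x e).2
    · rw [eq_top_iff, ← hG, Submodule.span_le]
      intro x hx
      rw [← DirectSum.sum_support_decompose ℳ x]
      refine Submodule.sum_mem _ fun e he => Submodule.subset_span ?_
      exact ⟨P.equivFin ⟨_, Finset.mem_biUnion.mpr ⟨x, hx, Finset.mem_image.mpr ⟨e, he, rfl⟩⟩⟩, by simp⟩
  obtain ⟨m, hm, hspan⟩ := Nat.find_spec hex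
  choose d hd using hm
  let π : (Fin (Nat.find hex) → R) →ₗ[R] M := Fintype.linearCombination R m
  have hπ : Function.Surjective π := by
    rw [← LinearMap.range_eq_top, Fintype.range_linearCombination, hspan]
  have hker : ∀ c, π c = 0 → ∀ i, c i ∈ I := by
    intro c hc i
    rw [RingHom.mem_ker]
    by_contra hne
    have hmi : m i ∈ Submodule.span R (m '' {j | j ≠ i}) := by
      have hzero : ∑ j, (if d j ≤ d i then MvPolynomial.homogeneousComponent (d i - d j) (c j) • m j else 0) = 0 := by
        have h := congrArg (fun z => (DirectSum.decompose ℳ z (d i) : M)) hc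
        simp only [π, Fintype.linearCombination_apply, DirectSum.decompose_sum, DirectSum.decompose_zero,
          DirectSum.zero_apply, ZeroMemClass.coe_zero] at h
        refine Eq.trans ?_ h
        rw [DFinsupp.finsetSum_apply, AddSubmonoidClass.coe_finsetSum]
        exact Finset.sum_congr rfl fun j _ => (key (c j) (d j) (m j) (hd j) (d i)).symm
      rw [← Finset.add_sum_erase _ _ (Finset.mem_univ i), if_pos le_rfl, Nat.sub_self,
        MvPolynomial.homogeneousComponent_zero, add_eq_zero_iff_eq_neg] at hzero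
      have ha : IsUnit (MvPolynomial.C (MvPolynomial.coeff 0 (c i)) : R) := (isUnit_iff_ne_zero.2 hne).map _
      obtain ⟨v, hv⟩ := ha.exists_left_inv
      have hmv : m i = v • (MvPolynomial.C (MvPolynomial.coeff 0 (c i)) : R) • m i := by rw [← mul_smul, hv, one_smul]
      rw [hmv, hzero]
      refine Submodule.smul_mem _ _ (Submodule.neg_mem _ (Submodule.sum_mem _ fun j hj => ?_))
      split_ifs
      · exact Submodule.smul_mem _ _ (Submodule.subset_span ⟨j, (Finset.mem_erase.mp hj).1, rfl⟩)
      · exact Submodule.zero_mem _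
    obtain ⟨l', hl'⟩ := Nat.exists_eq_succ_of_ne_zero (Nat.pos_iff_ne_zero.mp i.pos)
    refine Nat.find_min hex (m := l') (by omega)
      ⟨fun j => m (Fin.cast hl'.symm ((Fin.cast hl' i).succAbove j)), fun j => ⟨_, hd _⟩, ?_⟩
    refine top_le_iff.mp (hspan.symm.le.trans (Submodule.span_le.mpr ?_))
    have hsub : m '' {j | j ≠ i} ⊆
        Set.range fun j => m (Fin.cast hl'.symm ((Fin.cast hl' i).succAbove j)) := by
      rintro _ ⟨j, hj, rfl⟩
      obtain ⟨j', hj'⟩ := Fin.exists_succAbove_eq (x := Fin.cast hl' j) (y := Fin.cast hl' i)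
        (fun h => hj (Fin.cast_injective _ h))
      exact ⟨j', by simp [hj']⟩
    rintro _ ⟨j, rfl⟩
    by_cases hj : j = i
    · subst hj; exact Submodule.span_mono hsub hmi
    · exact Submodule.subset_span (hsub ⟨j, hj, rfl⟩)
  let K := LinearMap.ker π
  have htor : Subsingleton (LinearMap.ker (K.subtype.rTensor (R ⧸ I))) := by
    haveI := ModuleCat.subsingleton_of_isZero h
    exact (Groth.Agent.TorLib.torOneEquivKer K.subtype π (R ⧸ I) K.subtype_injective hπ
      (LinearMap.exact_subtype_ker_map π)).symm.toEquiv.subsingleton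
  have hle : K ≤ I • K := by
    intro c hc
    have h0 : K.subtype.rTensor (R ⧸ I) ((⟨c, hc⟩ : K) ⊗ₜ[R] (1 : R ⧸ I)) = 0 := by
      rw [LinearMap.rTensor_tmul]
      show c ⊗ₜ[R] (1 : R ⧸ I) = 0
      rw [show c = ∑ i, c i • Pi.single i (1 : R) from by ext j; simp [Finset.sum_apply, Pi.single_apply],
        TensorProduct.sum_tmul]
      refine Finset.sum_eq_zero fun i _ => ?_
      rw [TensorProduct.smul_tmul, Algebra.smul_def, mul_one,
        show algebraMap R (R ⧸ I) (c i) = 0 from Ideal.Quotient.eq_zero_iff_mem.2 (hker c hc i), TensorProduct.tmul_zero]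
    have h1 : (⟨c, hc⟩ : K) ⊗ₜ[R] (1 : R ⧸ I) = 0 :=
      congrArg Subtype.val (Subsingleton.elim (⟨_, h0⟩ : LinearMap.ker (K.subtype.rTensor (R ⧸ I))) 0)
    have h2 := congrArg (TensorProduct.tensorQuotEquivQuotSMul K I) h1
    rw [← map_one (Ideal.Quotient.mk I), TensorProduct.tensorQuotEquivQuotSMul_tmul_mk,
      map_zero, one_smul, Submodule.Quotient.mk_eq_zero] at h2
    have h3 := Submodule.mem_map_of_mem (f := K.subtype) h2
    rwa [Submodule.map_smul'', Submodule.map_top, Submodule.range_subtype] at h3
  obtain ⟨r, hr, hr0⟩ := Submodule.exists_sub_one_mem_and_smul_eq_zero_of_fg_of_le_smul I K (IsNoetherian.noetherian K) hle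
  have hrne : r ≠ 0 := fun h' => by
    rw [h', zero_sub, RingHom.mem_ker, map_neg, map_one] at hr
    exact one_ne_zero (neg_eq_zero.1 hr)
  have hinj : Function.Injective π := by
    rw [injective_iff_map_eq_zero]
    intro c hc
    exact (smul_eq_zero.1 (hr0 c hc)).resolve_left hrne
  let b : Module.Basis (Fin (Nat.find hex)) R M :=
    (Pi.basisFun R _).map (LinearEquiv.ofBijective π ⟨hinj, hπ⟩)
  refine ⟨ULift.{u} (Fin (Nat.find hex)), b.reindex Equiv.ulift.symm, fun i => ?_⟩
  have hb : b i.down = m i.down := by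
    simp [b, π, Fintype.linearCombination_apply_single]
  simpa [hb] using ⟨d i.down, hd i.down⟩

end Groth.Agent.S14423
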