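import Groth.Statements.S14426
import Groth.Agent.KoszulCech.Basics
-- import your own Groth.Agent.* helpers here

set_option autoImplicit false
universe u
open Koszul3

namespace Groth.Agent.S14426

open CategoryTheory CategoryTheory.Limits in
/-- Let (R, m) be a Noetherian local ring, M a nonzero finitely generated R-module and x_1, …, x_n
elements of m generating the ideal a. Then depth(a, M) ≤ n; the Koszul cohomology H^p(x; M) vanishes
for every p < depth(a, M); and H^r(x; M) is nonzero for r = depth(a, M). (Cohomological indexing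
with H^n(x; M) = M/(x)M; in homological indexing this reads H_i = 0 for i > n − r and H_{n−r} ≠ 0.
Koszul complex realised by iterated mapping cones, as in the prelude.) -/
theorem result {R : Type u} [CommRing R] [IsNoetherianRing R] [IsLocalRing R]
    (M : Type u) [AddCommGroup M] [Module R M] [Module.Finite R M] [Nontrivial M]
    (xs : List R) (hxs : ∀ x ∈ xs, x ∈ IsLocalRing.maximalIdeal R) :
    LocCoh.idealDepth (Ideal.span {x | x ∈ xs}) M ≤ xs.length ∧
      (∀ p : ℕ, (p : ℕ∞) < LocCoh.idealDepth (Ideal.span {x | x ∈ xs}) M → IsZero (CohIII.koszulH xs (ModuleCat.of R M) p)) ∧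
      (∀ r : ℕ, LocCoh.idealDepth (Ideal.span {x | x ∈ xs}) M = r → ¬ IsZero (CohIII.koszulH xs (ModuleCat.of R M) r)) := by
  have hI : (Ideal.span {x | x ∈ xs}) • (⊤ : Submodule R M) ≠ ⊤ := fun h => by
    have h2 : (⊤ : Submodule R M) ≤ IsLocalRing.maximalIdeal R • ⊤ :=
      h.ge.trans (Submodule.smul_mono_left (Ideal.span_le.mpr hxs))
    have h3 : (⊤ : Submodule R M) = ⊥ := Submodule.eq_bot_of_le_smul_of_le_jacobson_bot
      (IsLocalRing.maximalIdeal R) ⊤ Module.Finite.fg_top h2 (IsLocalRing.maximalIdeal_le_jacobson _)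
    exact not_subsingleton M (Submodule.subsingleton_iff R |>.mp (subsingleton_of_top_le_bot h3.le))
  obtain ⟨rs, hrs⟩ := Groth.Agent.Depth.exists_isMaxSeq (M := M) hI
  rw [Groth.Agent.Depth.idealDepth_eq_length hI hrs]
  obtain ⟨hlow, hne⟩ := Groth.Agent.KoszulCech.depth_of_isMaxSeq xs rs M hrs
  refine ⟨Nat.cast_le.mpr ?_, fun p hp => hlow p (Nat.cast_lt.mp hp),
    fun r hr => (Nat.cast_inj.mp hr) ▸ hne⟩
  by_contra hlt
  refine hne ((Groth.Agent.KoszulCech.isZero_homology_iff _
    (show ((rs.length : ℤ) - xs.length - 1) + 1 = (rs.length : ℤ) - xs.length by omega) rfl).mpr fun x _ => ?_)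
  haveI := Groth.Agent.KoszulCech.subsingleton_X (ModuleCat.of R M) xs ((rs.length : ℤ) - xs.length)
    (Or.inl (by omega))
  exact ⟨0, Subsingleton.elim _ _⟩

end Groth.Agent.S14426
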