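import Groth.Statements.S14427
import Mathlib


set_option autoImplicit false
universe u
open CAlgX

namespace Groth.Agent.S14427

/-- Let k be a field and Λ a set of n ≥ 3 nonzero vectors of k^3 which are pairwise linearly
independent, i.e. n distinct k-rational points of the projective plane. Then the space of
homogeneous forms of degree n − 1 in k[x_0, x_1, x_2] vanishing at every point of Λ — the global
sections of I_Λ(n − 1) — has dimension C(n+1, 2) − n over k, the same for all such Λ. (The published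
statement is over an algebraically closed field; this row allows any field and k-rational points,
which is all its argument uses.) -/
theorem result (k : Type u) [Field k] (n : ℕ) (hn : 3 ≤ n)
    (Λ : Finset (Fin 3 → k)) (hcard : Λ.card = n) (h0 : ∀ v ∈ Λ, v ≠ 0)
    (hdist : ∀ v ∈ Λ, ∀ w ∈ Λ, v ≠ w → LinearIndependent k ![v, w]) :
    Module.finrank k ↥(MvPolynomial.homogeneousSubmodule (Fin 3) k (n - 1) ⊓ ⨅ v ∈ Λ, LinearMap.ker (MvPolynomial.aeval v).toLinearMap) = Nat.choose (n + 1) 2 - n := by
  classical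
  set N := n - 1 with hN
  let V := MvPolynomial.homogeneousSubmodule (Fin 3) k N
  let E : V →ₗ[k] (Λ → k) := LinearMap.pi fun v => (MvPolynomial.aeval (v : Fin 3 → k)).toLinearMap ∘ₗ V.subtype
  let b := (MvPolynomial.basisRestrictSupport k {d : Fin 3 →₀ ℕ | d.degree = N})
  let e : {d : Fin 3 →₀ ℕ | d.degree = N} ≃ Sym (Fin 3) N :=
    (Equiv.subtypeEquivRight fun d => by simp [Finsupp.degree_apply, Finsupp.sum]).trans (Sym.equivNatSum (Fin 3) N).symm
  haveI : Fintype {d : Fin 3 →₀ ℕ | d.degree = N} := Fintype.ofEquiv _ e.symm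
  have hV : MvPolynomial.restrictSupport k {d : Fin 3 →₀ ℕ | d.degree = N} = V :=
    (MvPolynomial.homogeneousSubmodule_eq_finsupp_supported (σ := Fin 3) (R := k) N).symm
  haveI : Module.Finite k V := Module.Finite.of_basis (b.map (LinearEquiv.ofEq _ _ hV))
  have hdim : Module.finrank k V = Nat.choose (n + 1) 2 := by
    rw [Module.finrank_eq_card_basis (b.map (LinearEquiv.ofEq _ _ hV)), Fintype.card_congr e, Sym.card_sym_eq_choose,
      Fintype.card_fin, show 3 + N - 1 = 2 + N by omega, show n + 1 = 2 + N by omega]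
    rw [Nat.choose_symm_add]
  have hsurj : Function.Surjective E := by
    rw [← LinearMap.range_eq_top, eq_top_iff]
    intro y _
    rw [pi_eq_sum_univ y]
    refine sum_mem fun v _ => Submodule.smul_mem _ _ ?_
    have hf : ∀ w ∈ Λ.erase (v : Fin 3 → k), ∃ p : MvPolynomial (Fin 3) k, p.IsHomogeneous 1 ∧
        MvPolynomial.aeval (v : Fin 3 → k) p = 1 ∧ MvPolynomial.aeval w p = 0 := by
      intro w hw
      obtain ⟨hne, hwΛ⟩ := Finset.mem_erase.mp hw
      have hli := hdist v v.2 w hwΛ hne.symm
      have hvw : (v : Fin 3 → k) ∉ Submodule.span k {w} := fun hmem => by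
        obtain ⟨c, hc⟩ := Submodule.mem_span_singleton.mp hmem
        have := (LinearIndependent.pair_iff.mp hli) 1 (-c) (by rw [← hc]; module)
        exact one_ne_zero this.1
      obtain ⟨φ, hφv, hφ⟩ := Submodule.exists_dual_map_eq_bot_of_notMem hvw inferInstance
      have hφw : φ w = 0 := by
        have : φ w ∈ (Submodule.span k {w}).map φ := Submodule.mem_map_of_mem (Submodule.mem_span_singleton_self w)
        rwa [hφ, Submodule.mem_bot] at this
      have hexp : ∀ x : Fin 3 → k, φ x = ∑ i, x i * φ (Pi.single i 1) := fun x => by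
        conv_lhs => rw [pi_eq_sum_univ' x, map_sum]
        exact Finset.sum_congr rfl fun i _ => by rw [map_smul, smul_eq_mul]
      refine ⟨∑ i, MvPolynomial.C ((φ (v : Fin 3 → k))⁻¹ * φ (Pi.single i 1)) * MvPolynomial.X i,
        MvPolynomial.IsHomogeneous.sum _ _ _ fun i _ => MvPolynomial.IsHomogeneous.C_mul (MvPolynomial.isHomogeneous_X k i) _, ?_, ?_⟩
      all_goals
        simp only [map_sum, map_mul, MvPolynomial.aeval_C, MvPolynomial.aeval_X, Algebra.algebraMap_self, RingHom.id_apply]
      · calc ∑ i, (φ (v : Fin 3 → k))⁻¹ * φ (Pi.single i 1) * (v : Fin 3 → k) i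
            = (φ (v : Fin 3 → k))⁻¹ * ∑ i, (v : Fin 3 → k) i * φ (Pi.single i 1) := by
              rw [Finset.mul_sum]; exact Finset.sum_congr rfl fun i _ => by ring
          _ = 1 := by rw [← hexp, inv_mul_cancel₀ hφv]
      · calc ∑ i, (φ (v : Fin 3 → k))⁻¹ * φ (Pi.single i 1) * w i
            = (φ (v : Fin 3 → k))⁻¹ * ∑ i, w i * φ (Pi.single i 1) := by
              rw [Finset.mul_sum]; exact Finset.sum_congr rfl fun i _ => by ring
          _ = 0 := by rw [← hexp, hφw, mul_zero]
    choose p hp hpv hpw using hf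
    refine ⟨⟨∏ w ∈ (Λ.erase (v : Fin 3 → k)).attach, p w.1 w.2, ?_⟩, ?_⟩
    · rw [MvPolynomial.mem_homogeneousSubmodule]
      convert MvPolynomial.IsHomogeneous.prod (Λ.erase (v : Fin 3 → k)).attach (fun w => p w.1 w.2) (fun _ => 1)
        (fun w _ => hp w.1 w.2) using 1
      simp [Finset.card_erase_of_mem v.2, hcard, hN]
    · funext w
      show MvPolynomial.aeval (w : Fin 3 → k) (∏ w' ∈ (Λ.erase (v : Fin 3 → k)).attach, p w'.1 w'.2) = _
      rw [map_prod]
      by_cases hvw : v = w
      · subst hvw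
        rw [if_pos rfl]
        exact Finset.prod_eq_one fun w' _ => hpv _ _
      · rw [if_neg hvw]
        have hw : (w : Fin 3 → k) ∈ Λ.erase (v : Fin 3 → k) :=
          Finset.mem_erase.mpr ⟨fun h => hvw (Subtype.ext h.symm), w.2⟩
        exact Finset.prod_eq_zero (Finset.mem_attach _ ⟨_, hw⟩) (hpw _ hw)
  have h1 := LinearMap.finrank_range_add_finrank_ker E
  rw [LinearMap.range_eq_top.mpr hsurj, finrank_top, Module.finrank_fintype_fun_eq_card, Fintype.card_coe, hcard, hdim] at h1
  have h2 : (LinearMap.ker E).map V.subtype =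
      V ⊓ ⨅ v ∈ Λ, LinearMap.ker (MvPolynomial.aeval v).toLinearMap := by
    ext p
    simp only [Submodule.mem_map, LinearMap.mem_ker, Submodule.mem_inf, Submodule.mem_iInf]
    constructor
    · rintro ⟨q, hq, rfl⟩
      exact ⟨q.2, fun v hv => congrFun hq ⟨v, hv⟩⟩
    · rintro ⟨hp, h⟩
      exact ⟨⟨p, hp⟩, funext fun v => h v v.2, rfl⟩
  rw [← h2, Submodule.finrank_map_subtype_eq]
  omega

end Groth.Agent.S14427
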