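import Groth.Statements.S14428
import Mathlib

set_option autoImplicit false
universe u
open CAlgX

namespace Groth.Agent.S14428

theorem points_le {k : Type u} [Field k] (n : ℕ) (Λ Λ' : Finset (Fin 3 → k)) (hcard : Λ.card = n)
    (hline : ¬ ∃ ℓ : (Fin 3 → k) →ₗ[k] k, ℓ ≠ 0 ∧ ∀ v ∈ Λ, ℓ v = 0)
    (hle : (MvPolynomial.homogeneousSubmodule (Fin 3) k (n - 1) ⊓ ⨅ v ∈ Λ, LinearMap.ker (MvPolynomial.aeval v).toLinearMap) ≤
      (MvPolynomial.homogeneousSubmodule (Fin 3) k (n - 1) ⊓ ⨅ v ∈ Λ', LinearMap.ker (MvPolynomial.aeval v).toLinearMap)) :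
    ∀ w ∈ Λ', w ≠ 0 → ∃ v ∈ Λ, ∃ c : k, w = c • v := by
  classical
  intro w hw hw0
  by_contra hc
  push Not at hc
  have sep : ∀ s : Set (Fin 3 → k), w ∉ Submodule.span k s → ∃ ℓ : (Fin 3 → k) →ₗ[k] k, ℓ w ≠ 0 ∧ ∀ x ∈ s, ℓ x = 0 := by
    intro s hs
    obtain ⟨f, hf, hf'⟩ := Submodule.exists_dual_map_eq_bot_of_notMem hs inferInstance
    exact ⟨f, hf, fun x hx => (Submodule.mem_bot k).1 (hf' ▸ Submodule.mem_map_of_mem (Submodule.subset_span hx))⟩
  obtain ⟨u, hu, v, hv, huv, hspan⟩ : ∃ u ∈ Λ, ∃ v ∈ Λ, u ≠ v ∧ w ∉ Submodule.span k ({u, v} : Set (Fin 3 → k)) := by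
    by_contra h
    push Not at h
    have hne : Λ.Nonempty := by
      rw [Finset.nonempty_iff_ne_empty]
      intro he
      exact hline ⟨LinearMap.proj 0, fun h => one_ne_zero (α := k) (by simpa using LinearMap.congr_fun h (Pi.single 0 1)), by simp [he]⟩
    obtain ⟨u, hu⟩ := hne
    obtain ⟨z, hz⟩ : ∃ z : Fin 3 → k, z ∉ Submodule.span k ({u, w} : Set (Fin 3 → k)) := by
      by_contra hh
      push Not at hh
      have h2 : Module.finrank k (Submodule.span k ({u, w} : Set (Fin 3 → k))) ≤ 2 :=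
        (finrank_span_le_card _).trans (by simpa using (Finset.card_le_two (a := u) (b := w)))
      rw [show Submodule.span k ({u, w} : Set (Fin 3 → k)) = ⊤ from eq_top_iff.2 fun x _ => hh x, finrank_top, Module.finrank_fin_fun] at h2
      omega
    obtain ⟨f, hf, hf'⟩ := Submodule.exists_dual_map_eq_bot_of_notMem hz inferInstance
    have hfz : ∀ x ∈ Submodule.span k ({u, w} : Set (Fin 3 → k)), f x = 0 := fun x hx =>
      (Submodule.mem_bot k).1 (hf' ▸ Submodule.mem_map_of_mem hx)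
    refine hline ⟨f, fun h => hf (by rw [h]; rfl), fun v hv => ?_⟩
    by_cases huv : u = v
    · exact huv ▸ hfz u (Submodule.subset_span (by simp))
    refine hfz v ?_
    obtain ⟨a, b, hab⟩ := Submodule.mem_span_pair.1 (h u hu v hv huv)
    have hb : b ≠ 0 := fun hb => hc u hu a (by rw [← hab, hb, zero_smul, add_zero])
    rw [Submodule.mem_span_pair]
    exact ⟨-(a / b), 1 / b, by rw [← hab, smul_add, smul_smul, smul_smul, one_div_mul_cancel hb, one_smul, ← add_assoc, ← add_smul]; simp [div_eq_inv_mul]⟩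
  obtain ⟨ℓ₀, hℓ₀, hℓ₀'⟩ := sep _ hspan
  let S := (Λ.erase u).erase v
  have hex : ∀ x : Fin 3 → k, ∃ ℓ : (Fin 3 → k) →ₗ[k] k, x ∈ Λ → (ℓ w ≠ 0 ∧ ℓ x = 0) := fun x => by
    by_cases hx : x ∈ Λ
    · obtain ⟨ℓ, h1, h2⟩ := sep {x} (fun hm => by
        obtain ⟨c, hc'⟩ := Submodule.mem_span_singleton.1 hm
        exact hc x hx c hc'.symm)
      exact ⟨ℓ, fun _ => ⟨h1, h2 x rfl⟩⟩
    · exact ⟨0, fun h => absurd h hx⟩
  choose L hL using hex
  let P : ((Fin 3 → k) →ₗ[k] k) → MvPolynomial (Fin 3) k := fun ℓ => ∑ i, MvPolynomial.C (ℓ (Pi.single i 1)) * MvPolynomial.X i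
  have hP : ∀ ℓ x, MvPolynomial.aeval x (P ℓ) = ℓ x := fun ℓ x => by
    simp only [P, map_sum, map_mul, MvPolynomial.aeval_C, MvPolynomial.aeval_X, Algebra.algebraMap_self, RingHom.id_apply]
    conv_rhs => rw [← Finset.univ_sum_single x, map_sum]
    refine Finset.sum_congr rfl fun i _ => ?_
    rw [show (Pi.single i (x i) : Fin 3 → k) = x i • Pi.single i 1 from by rw [← Pi.single_smul, smul_eq_mul, mul_one], map_smul, smul_eq_mul, mul_comm]
  have hPh : ∀ ℓ, (P ℓ).IsHomogeneous 1 := fun ℓ => MvPolynomial.IsHomogeneous.sum _ _ _ fun i _ => by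
    simpa using (MvPolynomial.isHomogeneous_C (Fin 3) (ℓ (Pi.single i 1))).mul (MvPolynomial.isHomogeneous_X k i)
  have hS : S.card + 1 = n - 1 := by
    have h1 : 2 ≤ Λ.card := Finset.one_lt_card.2 ⟨u, hu, v, hv, huv⟩
    rw [Finset.card_erase_of_mem (Finset.mem_erase.2 ⟨huv.symm, hv⟩), Finset.card_erase_of_mem hu]
    omega
  let F := P ℓ₀ * ∏ x ∈ S, P (L x)
  have hF : F ∈ MvPolynomial.homogeneousSubmodule (Fin 3) k (n - 1) := by
    rw [MvPolynomial.mem_homogeneousSubmodule, ← hS, add_comm]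
    have := MvPolynomial.IsHomogeneous.prod S (fun x => P (L x)) (fun _ => 1) (fun x _ => hPh _)
    simp only [Finset.sum_const, smul_eq_mul, mul_one] at this
    exact (hPh ℓ₀).mul this
  have hFΛ : ∀ x ∈ Λ, MvPolynomial.aeval x F = 0 := by
    intro x hx
    simp only [F, map_mul, map_prod, hP]
    by_cases hxu : x = u
    · rw [hxu, hℓ₀' u (by simp), zero_mul]
    by_cases hxv : x = v
    · rw [hxv, hℓ₀' v (by simp), zero_mul]
    exact mul_eq_zero_of_right _ (Finset.prod_eq_zero (Finset.mem_erase.2 ⟨hxv, Finset.mem_erase.2 ⟨hxu, hx⟩⟩) (hL x hx).2)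
  have := hle ⟨hF, by simp only [Submodule.coe_iInf, Set.mem_iInter, SetLike.mem_coe, LinearMap.mem_ker]; exact hFΛ⟩
  have h0 : MvPolynomial.aeval w F = 0 := by
    have h2 := this.2
    simp only [SetLike.mem_coe, Submodule.mem_iInf, LinearMap.mem_ker] at h2
    exact h2 w hw
  simp only [F, map_mul, map_prod, hP, mul_eq_zero, Finset.prod_eq_zero_iff] at h0
  rcases h0 with h0 | ⟨x, hx, h0⟩
  · exact hℓ₀ h0
  · exact (hL x (Finset.mem_of_mem_erase (Finset.mem_of_mem_erase hx))).1 h0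


/-- Let k be a field, n ≥ 3, and let Λ and Λ' be two sets of n nonzero, pairwise linearly independent
vectors of k^3 (n distinct k-rational points of the projective plane each), neither lying on a line
(no nonzero linear form vanishes on all of Λ, resp. Λ'). If the spaces of homogeneous forms of
degree n − 1 vanishing on Λ and on Λ' coincide, then Λ and Λ' define the same set of points of the
plane: the assignment Λ ↦ H^0(P^2, I_Λ(n − 1)), with values in a Grassmannian, is injective on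
non-collinear sets. (The published statement is over an algebraically closed field; this row allows
any field and k-rational points, which is all its argument uses.) -/
theorem result (k : Type u) [Field k] (n : ℕ) (hn : 3 ≤ n)
    (Λ Λ' : Finset (Fin 3 → k)) (hcard : Λ.card = n) (hcard' : Λ'.card = n)
    (h0 : ∀ v ∈ Λ, v ≠ 0) (h0' : ∀ v ∈ Λ', v ≠ 0)
    (hdist : ∀ v ∈ Λ, ∀ w ∈ Λ, v ≠ w → LinearIndependent k ![v, w])
    (hdist' : ∀ v ∈ Λ', ∀ w ∈ Λ', v ≠ w → LinearIndependent k ![v, w])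
    (hline : ¬ ∃ ℓ : (Fin 3 → k) →ₗ[k] k, ℓ ≠ 0 ∧ ∀ v ∈ Λ, ℓ v = 0)
    (hline' : ¬ ∃ ℓ : (Fin 3 → k) →ₗ[k] k, ℓ ≠ 0 ∧ ∀ v ∈ Λ', ℓ v = 0)
    (heq : (MvPolynomial.homogeneousSubmodule (Fin 3) k (n - 1) ⊓ ⨅ v ∈ Λ, LinearMap.ker (MvPolynomial.aeval v).toLinearMap) = (MvPolynomial.homogeneousSubmodule (Fin 3) k (n - 1) ⊓ ⨅ v ∈ Λ', LinearMap.ker (MvPolynomial.aeval v).toLinearMap)) :
    (∀ v ∈ Λ, ∃ w ∈ Λ', ∃ c : k, v = c • w) ∧ (∀ w ∈ Λ', ∃ v ∈ Λ, ∃ c : k, w = c • v) := by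
  exact ⟨fun v hv => points_le n Λ' Λ hcard' hline' heq.ge v hv (h0 v hv),
    fun w hw => points_le n Λ Λ' hcard hline heq.le w hw (h0' w hw)⟩

end Groth.Agent.S14428
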