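import Groth.Statements.S14429
import Groth.Agent.K0PnLib.Euler
-- import your own Groth.Agent.* helpers here

set_option autoImplicit false
universe u
open CategoryTheory CategoryTheory.Limits AlgebraicGeometry
open KZero

namespace Groth.Agent.S14429

/-- Let k be an algebraically closed field and n ≥ 0. The Grothendieck group of coherent sheaves on
P^n_k (K_0 of the full subcategory of O-modules on the coherent ones, with relations from short
exact sequences) is freely generated by the classes of O, O(−1), …, O(−n): the homomorphism ℤ^{n+1}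
→ K_0 sending (a_0, …, a_n) to Σ a_i [O(−i)] is bijective. -/
theorem result (k : Type u) [Field k] [IsAlgClosed k] (n : ℕ) :
    Function.Bijective (fun a : Fin (n + 1) → ℤ =>
      ∑ i : Fin (n + 1), a i • KZero.clSub (fun M : (CohB1.ProjSpace n k).Modules => Coh.IsCoh M)
        (Twist.twistProjSpace n k (-((i : ℕ) : ℤ)))) := by
  refine ⟨K0PnLib.injective_comb, fun x => ?_⟩
  let ψ : (Fin (n + 1) → ℤ) →+ KZero.K0sub (K0PnLib.P k n) :=
    AddMonoidHom.mk' (fun a : Fin (n + 1) → ℤ => ∑ i : Fin (n + 1), a i • KZero.clSub (K0PnLib.P k n)
        (Twist.twistProjSpace n k (-((i : ℕ) : ℤ))))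
      fun a b => by simp [add_smul, Finset.sum_add_distrib]
  suffices h : x ∈ ψ.range from h
  have hgen : K0PnLib.genSub k n ≤ ψ.range := by
    refine (AddSubgroup.closure_le _).2 ?_
    rintro _ ⟨i, rfl⟩
    refine ⟨Pi.single i 1, ?_⟩
    simp only [ψ, AddMonoidHom.mk'_apply]
    rw [Finset.sum_eq_single i (fun j _ hj => by simp [Pi.single_eq_of_ne hj]) (by simp)]
    simp
  induction x using QuotientAddGroup.induction_on with
  | H z =>
    induction z using FreeAbelianGroup.induction_on with
    | zero => exact zero_mem _
    | of M =>
      have := hgen (K0PnLib.mem_genSub M.2)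
      rwa [K0PnLib.cl_of M.2] at this
    | neg M h => exact neg_mem h
    | add y y' h h' => exact add_mem h h'

end Groth.Agent.S14429
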