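import Groth.Statements.S14430
import Groth.Agent.KRRAmple.PDRegular
import Groth.Agent.KRRAmple.PushCl
import Groth.Agent.S1108
import Groth.Agent.S1535
import Groth.Agent.ProjTwistLib.NotQuasiAffine
import Groth.Agent.AmpleLib.Pullback
-- import your own Groth.Agent.* helpers here

set_option autoImplicit false
set_option backward.isDefEq.respectTransparency false
universe u
open CategoryTheory CategoryTheory.Limits AlgebraicGeometry
open KZero

namespace Groth.Agent.S14430

/-- Let k be an algebraically closed field and X a smooth quasi-projective variety over k — here a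
k-scheme smooth over k admitting an immersion into some P^N_k over k. Write K^0(X) for the
Grothendieck group of finite locally free O_X-modules and K_0(X) for that of coherent O_X-modules
(K_0 of the corresponding full subcategories of O_X-modules, with relations from short exact
sequences all of whose terms lie in the subcategory). Then there is a homomorphism K^0(X) → K_0(X)
sending the class of each finite locally free E to its class as a coherent module (the canonical
one, determined by this), and it is bijective. (The published statement is for smooth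
quasi-projective varieties; this row takes a k-scheme smooth over k with an immersion into some
P^N_k, reduced since smooth; irreducibility is not assumed.) -/
theorem result (k : Type u) [Field k] [IsAlgClosed k] (N : ℕ)
    (X : Scheme.{u}) [X.Over (Spec (CommRingCat.of k))] [Smooth (X ↘ Spec (CommRingCat.of k))]
    (ι : X ⟶ CohB1.ProjSpace N k) [IsImmersion ι] (hι : ι ≫ CohB1.ProjSpace.toSpec N k = X ↘ Spec (CommRingCat.of k)) :
    ∃ α : KZero.K0sub (fun M : X.Modules => FlatMod.IsFinLocFree M) →+ KZero.K0sub (fun M : X.Modules => Coh.IsCoh M),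
      (∀ E : X.Modules, FlatMod.IsFinLocFree E →
        α (KZero.clSub (fun M : X.Modules => FlatMod.IsFinLocFree M) E) = KZero.clSub (fun M : X.Modules => Coh.IsCoh M) E) ∧
      Function.Bijective α := by
  have hcov : ⨆ a, Proj.basicOpen (CohB1.polyGrading N k) (MvPolynomial.X a) = ⊤ :=
    Groth.Agent.ProjTwistLib.iSup_basicOpen_of_adjoin (e := fun _ => 1) Groth.Agent.ProjMap.X_mem
      MvPolynomial.adjoin_range_X
  have hu : ∀ x : CohB1.ProjSpace N k, Groth.Agent.ProjTwistLib.HasUnit (CohB1.polyGrading N k) (1 : ℤ) x := by
    intro x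
    obtain ⟨a, ha⟩ := Groth.Agent.ProjTwistLib.exists_mem_of_cover hcov x
    simpa using Groth.Agent.ProjTwistLib.hasUnit_of_mem (⟨_, Groth.Agent.ProjMap.X_mem a⟩ : CohB1.polyGrading N k 1) ha
  haveI : CompactSpace (CohB1.ProjSpace N k) :=
    Groth.Agent.ProjTwistLib.compactSpace_of_cover (e := fun _ => 1) Groth.Agent.ProjMap.X_mem (fun _ => one_pos) hcov
  haveI : LocallyOfFiniteType (CohB1.ProjSpace.toSpec N k) := inferInstance
  haveI : IsLocallyNoetherian (CohB1.ProjSpace N k) := LocallyOfFiniteType.isLocallyNoetherian (CohB1.ProjSpace.toSpec N k)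
  haveI : IsNoetherian (CohB1.ProjSpace N k) := ⟨⟩
  haveI : IsLocallyNoetherian X := LocallyOfFiniteType.isLocallyNoetherian (X ↘ Spec (CommRingCat.of k))
  haveI : CompactSpace (ι.coborderRange : Scheme.{u}) := isCompact_iff_compactSpace.1
    (TopologicalSpace.NoetherianSpace.isCompact _)
  haveI : CompactSpace X := QuasiCompact.compactSpace_of_compactSpace ι.liftCoborder
  haveI : IsNoetherian X := ⟨⟩
  have hU : CohB1.IsAmple ((Scheme.Modules.pullback ι.coborderRange.ι).obj
      (Twist.twist (CohB1.polyGrading N k) ((1 : ℕ) : ℤ))) :=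
    Groth.Agent.ProjTwistLib.isAmple_pullback_twist _ one_pos fun x _ => hu x
  have hA := Groth.Agent.AmpleLib.isAmple_pullback ι.liftCoborder hU
  have hX : KRR.HasEnoughLocFree X := fun F hF => by
    exact Groth.Agent.S1108.result X _ hA F hF.1 hF.2
  have hreg : ∀ x : X, IsRegularLocalRing (X.presheaf.stalk x) := fun x => Groth.Agent.S1535.result k X x
  have h : ∀ M : X.Modules, FlatMod.IsFinLocFree M → Coh.IsCoh M := fun M hM => DCohLib.isCoh_of_isFinLocFree hM
  exact ⟨SGA6.mapSub (𝟭 X.Modules) (KRR.vbP X) (fun M : X.Modules => Coh.IsCoh M) h,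
    fun E hE => KRRAmple.mapSub_cl (𝟭 X.Modules) (KRR.vbP X) (fun M : X.Modules => Coh.IsCoh M) h hE,
    KRRAmple.poincare_bijective hX hreg h⟩

end Groth.Agent.S14430
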