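import Mathlib
import Groth.Agent.TorLib.Symm
import Groth.Statements.S14434

set_option autoImplicit false
universe u
open CAlg

namespace Groth.Agent.S14434

/-- Let R be a commutative ring, M an R-module and x ∈ R a non-zero-divisor on R and on M. Then
Tor_i^R(M, R/(x)) = 0 for all i ≥ 1 (Tor computed as the left derived functors of the tensor product
on R-modules). -/
theorem result {R : Type u} [CommRing R] (M : Type u) [AddCommGroup M] [Module R M]
    (x : R) (hxR : IsSMulRegular R x) (hxM : IsSMulRegular M x) (i : ℕ) (hi : 1 ≤ i) :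
    Subsingleton (DRing.Tor R i M (R ⧸ Ideal.span {x})) := by
  let q : R →ₗ[R] R ⧸ Ideal.span {x} := Submodule.mkQ _
  let f : R →ₗ[R] R := LinearMap.lsmul R R x
  have hf : Function.Injective f := hxR
  have hq : Function.Surjective q := Submodule.mkQ_surjective _
  have hfq : Function.Exact f q := fun y => by
    simp only [q, f, Submodule.mkQ_apply, Submodule.Quotient.mk_eq_zero, Set.mem_range, LinearMap.lsmul_apply,
      smul_eq_mul, Ideal.mem_span_singleton', mul_comm x]
  obtain ⟨e⟩ := Groth.Agent.TorLib.tor_symm (A := R) i M (R ⧸ Ideal.span {x})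
  suffices Subsingleton (DRing.Tor R i (R ⧸ Ideal.span {x}) M) from e.toEquiv.subsingleton
  match i, hi with
  | 1, _ =>
    refine @Equiv.subsingleton _ _ (Groth.Agent.TorLib.torOneEquivKer f q M hf hq hfq).toEquiv ?_
    refine ⟨fun a b => Subtype.ext ?_⟩
    have hinj : Function.Injective (f.rTensor M) := by
      have h : f.rTensor M = (TensorProduct.lid R M).symm.toLinearMap ∘ₗ (LinearMap.lsmul R M x) ∘ₗ
          (TensorProduct.lid R M).toLinearMap := by
        refine TensorProduct.ext' fun r m => (TensorProduct.lid R M).injective ?_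
        simp [f, mul_smul, smul_comm x]
      rw [h]
      exact ((TensorProduct.lid R M).symm.injective.comp hxM).comp (TensorProduct.lid R M).injective
    exact hinj ((LinearMap.mem_ker.1 a.2).trans (LinearMap.mem_ker.1 b.2).symm)
  | n + 2, _ =>
    exact @Equiv.subsingleton _ _ (Groth.Agent.TorLib.torSuccEquiv f q M hf hq hfq n).toEquiv
      (Groth.Agent.TorLib.subsingleton_tor_of_flat R M n)

end Groth.Agent.S14434
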