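import Groth.Statements.S14436
import Mathlib

set_option autoImplicit false
universe u
open CAlg

namespace Groth.Agent.S14436

/-- Let L/K be a finitely generated field extension which is separable in the sense that it has a
transcendence basis a_1, …, a_n over which L is a (finite) separable extension of K(a_1, …, a_n).
Then dim_L Ω_{L/K} = n, the transcendence degree of L over K. -/
theorem result (K L : Type u) [Field K] [Field L] [Algebra K L]
    (hfg : ∃ s : Finset L, IntermediateField.adjoin K (s : Set L) = ⊤)
    (n : ℕ) (a : Fin n → L) (ha : IsTranscendenceBasis K a)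
    (hsep : Algebra.IsSeparable ↥(IntermediateField.adjoin K (Set.range a)) L) :
    Module.finrank L (Ω[L⁄K]) = n := by
  classical
  let P := MvPolynomial (Fin n) K
  let E := IntermediateField.adjoin K (Set.range a)
  let e : FractionRing P ≃ₐ[K] E := ha.1.aevalEquivField
  letI : Algebra P E := ((e.toAlgHom.toRingHom).comp (algebraMap P (FractionRing P))).toAlgebra
  haveI : IsScalarTower K P E := IsScalarTower.of_algebraMap_eq fun r => by
    rw [RingHom.algebraMap_toAlgebra, RingHom.comp_apply, ← IsScalarTower.algebraMap_apply]
    exact (e.commutes r).symm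
  let e' : FractionRing P ≃ₐ[P] E := AlgEquiv.ofRingEquiv (f := e.toRingEquiv) fun r => rfl
  haveI : IsFractionRing P E := IsLocalization.isLocalization_of_algEquiv _ e'
  letI : Algebra P L := ((algebraMap E L).comp (algebraMap P E)).toAlgebra
  haveI : IsScalarTower P E L := IsScalarTower.of_algebraMap_eq fun r => rfl
  haveI : IsScalarTower K P L := IsScalarTower.of_algebraMap_eq fun r => by
    rw [RingHom.algebraMap_toAlgebra, RingHom.comp_apply, ← IsScalarTower.algebraMap_apply K P E, ← IsScalarTower.algebraMap_apply]
  haveI : Algebra.FormallyEtale P E := Algebra.FormallyEtale.of_isLocalization (nonZeroDivisors P)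
  haveI : Algebra.FormallyEtale E L := Algebra.FormallyEtale.of_isSeparable E L
  haveI : Algebra.FormallyEtale P L := Algebra.FormallyEtale.comp P E L
  rw [← (KaehlerDifferential.tensorKaehlerEquivOfFormallyEtale K P L).finrank_eq, Module.finrank_baseChange,
    Module.finrank_eq_card_basis (KaehlerDifferential.mvPolynomialBasis K (Fin n)), Fintype.card_fin]

end Groth.Agent.S14436
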