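import Mathlib
import Groth.Statements.S14437

set_option autoImplicit false
universe u
open CAlg TensorProduct

namespace Groth.Agent.S14437

/-- Let k be a field and A → B a local homomorphism of Noetherian local k-algebras with residue fields k
(k → A/m_A and k → B/m_B bijective) — for instance the local rings at a closed point x and at its
image y under a morphism of schemes of finite type over an algebraically closed k. Then dim_k
(Ω_{B/A} ⊗_B B/m_B) + rank(m_A/m_A² → m_B/m_B²) = dim_k (m_B/m_B²): the fibre at x of the sheaf of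
relative differentials is dual to the kernel of the tangent map T_x X → T_y Y. (The published
statement is the canonical isomorphism (Ω_{X/Y})_(x)^∨ ≅ ker(df_x); stated here as the resulting
equality of dimensions. Its second assertion, dim (Ω_{X/Y})_(x) ≥ r when the fibre has an
r-dimensional component through x, is not included.) -/
theorem result (k : Type u) [Field k]
    (A B : Type u) [CommRing A] [CommRing B] [IsLocalRing A] [IsLocalRing B] [IsNoetherianRing A] [IsNoetherianRing B]
    [Algebra k A] [Algebra k B] [Algebra A B] [IsScalarTower k A B]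
    (hle : IsLocalRing.maximalIdeal A ≤ Ideal.comap (IsScalarTower.toAlgHom k A B) (IsLocalRing.maximalIdeal B))
    (hA : Function.Bijective (algebraMap k (IsLocalRing.ResidueField A)))
    (hB : Function.Bijective (algebraMap k (IsLocalRing.ResidueField B))) :
    Module.finrank (IsLocalRing.ResidueField B) (TensorProduct B (IsLocalRing.ResidueField B) (Ω[B⁄A])) +
      Module.finrank k ↥(LinearMap.range (Ideal.mapCotangent (IsLocalRing.maximalIdeal A) (IsLocalRing.maximalIdeal B)
        (IsScalarTower.toAlgHom k A B) hle)) =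
      Module.finrank k (IsLocalRing.CotangentSpace B) := by
  classical
  let κ := IsLocalRing.ResidueField B
  let m := IsLocalRing.maximalIdeal B
  let eB := RingEquiv.ofBijective (algebraMap k κ) hB
  let eA := RingEquiv.ofBijective (algebraMap k (IsLocalRing.ResidueField A)) hA
  let c : B → k := fun b => eB.symm (IsLocalRing.residue B b)
  have hκ : ∀ r : k, IsLocalRing.residue B (algebraMap k B r) = algebraMap k κ r := fun r => rfl
  have hc : ∀ b, b - algebraMap k B (c b) ∈ m := fun b => by
    rw [← IsLocalRing.residue_eq_zero_iff, map_sub, hκ, sub_eq_zero]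
    exact (RingEquiv.apply_symm_apply eB _).symm
  have hcu : ∀ b r, b - algebraMap k B r ∈ m → c b = r := fun b r h => by
    rw [← IsLocalRing.residue_eq_zero_iff, map_sub, hκ, sub_eq_zero] at h
    simp only [c, h]
    exact RingEquiv.symm_apply_apply eB r
  let T := Ideal.mapCotangent (IsLocalRing.maximalIdeal A) m (IsScalarTower.toAlgHom k A B) hle
  let tc := m.toCotangent
  have hsm : ∀ (b : B) (v : m.Cotangent), b • v = c b • v := fun b v => by
    obtain ⟨x, rfl⟩ := m.toCotangent_surjective v
    rw [← algebraMap_smul B (c b) (m.toCotangent x), ← sub_eq_zero, ← sub_smul, ← map_smul, Ideal.toCotangent_eq_zero,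
      pow_two]
    exact Ideal.mul_mem_mul (hc b) x.2
  let S : Submodule B m.Cotangent :=
    { (LinearMap.range T).toAddSubmonoid with
      smul_mem' := fun b v hv => by rw [hsm]; exact (LinearMap.range T).smul_mem _ hv }
  have hS : ∀ v, v ∈ S ↔ v ∈ LinearMap.range T := fun v => Iff.rfl
  let C := m.Cotangent ⧸ S
  have hmC : ∀ b ∈ m, ∀ v : C, b • v = 0 := fun b hb v => by
    obtain ⟨v, rfl⟩ := S.mkQ_surjective v
    rw [← map_smul, hsm, hcu b 0 (by simpa using hb), zero_smul, map_zero]
  let δ : B → C := fun b => S.mkQ (tc ⟨b - algebraMap k B (c b), hc b⟩)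
  have hδ : ∀ b r (h : b - algebraMap k B r ∈ m), δ b = S.mkQ (tc ⟨b - algebraMap k B r, h⟩) := fun b r h => by
    obtain rfl := hcu b r h
    rfl
  have hadd : ∀ b b', δ (b + b') = δ b + δ b' := fun b b' => by
    rw [hδ (b + b') (c b + c b') (by rw [map_add, add_sub_add_comm]; exact m.add_mem (hc b) (hc b'))]
    simp only [δ, ← map_add]
    refine congrArg (fun z => S.mkQ (tc z)) (Subtype.ext ?_)
    simp only [Submodule.coe_add, map_add]; ring
  have hmul : ∀ b b', δ (b * b') = b • δ b' + b' • δ b := fun b b' => by
    have h' : b * (b' - algebraMap k B (c b')) + algebraMap k B (c b') * (b - algebraMap k B (c b)) =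
        b * b' - algebraMap k B (c b * c b') := by rw [map_mul]; ring
    have h'' : b * b' - algebraMap k B (c b * c b') ∈ m :=
      h' ▸ m.add_mem (m.mul_mem_left _ (hc b')) (m.mul_mem_left _ (hc b))
    have h3 : b' • δ b = algebraMap k B (c b') • δ b := by
      rw [← sub_eq_zero, ← sub_smul]; exact hmC _ (hc b') _
    rw [hδ (b * b') (c b * c b') h'', h3]
    simp only [δ, ← map_smul, ← map_add]
    refine congrArg (fun z => S.mkQ (tc z)) (Subtype.ext ?_)
    simpa [Algebra.smul_def] using h'.symm
  have hA0 : ∀ a : A, δ (algebraMap A B a) = 0 := fun a => by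
    have hr : a - algebraMap k A (eA.symm (IsLocalRing.residue A a)) ∈ IsLocalRing.maximalIdeal A := by
      rw [← IsLocalRing.residue_eq_zero_iff, map_sub, sub_eq_zero]
      exact (RingEquiv.apply_symm_apply eA _).symm
    have h2 : algebraMap A B a - algebraMap k B (eA.symm (IsLocalRing.residue A a)) ∈ m := by
      have := hle hr
      rw [Ideal.mem_comap, IsScalarTower.coe_toAlgHom', map_sub, ← IsScalarTower.algebraMap_apply k A B] at this
      exact this
    rw [hδ _ _ h2, Submodule.mkQ_apply, Submodule.Quotient.mk_eq_zero, hS]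
    refine ⟨(IsLocalRing.maximalIdeal A).toCotangent ⟨_, hr⟩, ?_⟩
    rw [Ideal.mapCotangent_toCotangent]
    refine congrArg m.toCotangent (Subtype.ext ?_)
    simp [IsScalarTower.algebraMap_apply k A B]
  let D : Derivation A B C := Derivation.mk'
    { toFun := δ
      map_add' := hadd
      map_smul' := fun a b => by
        rw [RingHom.id_apply, Algebra.smul_def, hmul, hA0, smul_zero, add_zero, algebraMap_smul] }
    fun b b' => hmul b b'
  have hzero : ∀ r ∈ m, ∀ ω : Ω[B⁄A], r • ((1 : κ) ⊗ₜ[B] ω) = 0 := fun r hr ω => by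
    have h0 : r • (1 : κ) = 0 := by
      rw [Algebra.smul_def, show algebraMap B κ r = 0 from (IsLocalRing.residue_eq_zero_iff r).mpr hr, zero_mul]
    rw [TensorProduct.smul_tmul', h0, TensorProduct.zero_tmul]
  let ψ : m →ₗ[B] κ ⊗[B] Ω[B⁄A] :=
    { toFun := fun x => 1 ⊗ₜ KaehlerDifferential.D A B x
      map_add' := fun x y => by rw [Submodule.coe_add, map_add, TensorProduct.tmul_add]
      map_smul' := fun b x => by
        show (1 : κ) ⊗ₜ[B] KaehlerDifferential.D A B (b * (x : B)) = b • ((1 : κ) ⊗ₜ[B] KaehlerDifferential.D A B (x : B))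
        rw [Derivation.leibniz, TensorProduct.tmul_add, TensorProduct.tmul_smul, TensorProduct.tmul_smul,
          hzero (x : B) x.2, add_zero] }
  have hψker : (m • ⊤ : Submodule B m) ≤ LinearMap.ker ψ := by
    rw [Submodule.smul_le]
    intro r hr x _
    rw [LinearMap.mem_ker, map_smul]
    exact hzero r hr _
  let ψ' : m.Cotangent →ₗ[B] κ ⊗[B] Ω[B⁄A] := (m • ⊤ : Submodule B m).liftQ ψ hψker
  have hψ' : ∀ x, ψ' (tc x) = 1 ⊗ₜ KaehlerDifferential.D A B x := fun x => rfl
  let Φ : m.Cotangent →ₗ[k] κ ⊗[B] Ω[B⁄A] := ψ'.restrictScalars k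
  have hsurj : Function.Surjective Φ := by
    have h1 : ∀ ω : Ω[B⁄A], (1 : κ) ⊗ₜ ω ∈ LinearMap.range ψ' := fun ω => by
      have hω : ω ∈ Submodule.span B (Set.range (KaehlerDifferential.D A B)) := by
        rw [KaehlerDifferential.span_range_derivation]; trivial
      induction hω using Submodule.span_induction with
      | mem x hx =>
        obtain ⟨b, rfl⟩ := hx
        refine ⟨tc ⟨b - algebraMap k B (c b), hc b⟩, ?_⟩
        rw [hψ']
        simp [IsScalarTower.algebraMap_apply k A B]
      | zero => simp
      | add x y _ _ hx hy => rw [TensorProduct.tmul_add]; exact Submodule.add_mem _ hx hy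
      | smul r x _ hx => rw [TensorProduct.tmul_smul]; exact Submodule.smul_mem _ r hx
    intro t
    induction t with
    | zero => exact ⟨0, map_zero _⟩
    | tmul r ω =>
      obtain ⟨b, rfl⟩ := Ideal.Quotient.mk_surjective r
      obtain ⟨v, hv⟩ := h1 ω
      refine ⟨b • v, ?_⟩
      show ψ' (b • v) = _
      rw [map_smul, hv, TensorProduct.smul_tmul', Algebra.smul_def, mul_one]
      rfl
    | add x y hx hy =>
      obtain ⟨u, hu⟩ := hx
      obtain ⟨v, hv⟩ := hy
      exact ⟨u + v, by rw [map_add, hu, hv]⟩
  have hker : LinearMap.ker Φ = LinearMap.range T := by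
    refine le_antisymm (fun v hv => ?_) ?_
    · obtain ⟨x, rfl⟩ := m.toCotangent_surjective v
      have h1 : KaehlerDifferential.D A B (x : B) ∈ m • (⊤ : Submodule B Ω[B⁄A]) := by
        have := congrArg (TensorProduct.quotTensorEquivQuotSMul Ω[B⁄A] m) (show (Ideal.Quotient.mk m 1) ⊗ₜ
          KaehlerDifferential.D A B (x : B) = (0 : (B ⧸ m) ⊗[B] Ω[B⁄A]) from hv)
        rwa [TensorProduct.quotTensorEquivQuotSMul_mk_tmul, one_smul, map_zero, Submodule.Quotient.mk_eq_zero] at this
      have h2 : D.liftKaehlerDifferential (KaehlerDifferential.D A B (x : B)) = 0 :=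
        Submodule.smul_induction_on (p := fun ω => D.liftKaehlerDifferential ω = 0) h1
          (fun r hr n _ => by rw [map_smul]; exact hmC r hr _) fun a b ha hb => by rw [map_add, ha, hb, add_zero]
      rw [Derivation.liftKaehlerDifferential_comp_D] at h2
      have h3 : δ (x : B) = S.mkQ (tc x) := by
        rw [hδ (x : B) 0 (by simp)]
        exact congrArg (fun z => S.mkQ (tc z)) (Subtype.ext (by simp))
      exact (hS _).mp ((Submodule.Quotient.mk_eq_zero S).mp (h3 ▸ h2 : S.mkQ (tc x) = 0))
    · rintro _ ⟨u, rfl⟩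
      obtain ⟨a, rfl⟩ := (IsLocalRing.maximalIdeal A).toCotangent_surjective u
      rw [LinearMap.mem_ker, Ideal.mapCotangent_toCotangent]
      show ψ' (tc ⟨_, _⟩) = 0
      rw [hψ']
      simp
  have : Module.Finite k κ := Module.Finite.of_surjective (Algebra.linearMap k κ) hB.2
  have : IsScalarTower k B (IsLocalRing.CotangentSpace B) := inferInstanceAs (IsScalarTower k B m.Cotangent)
  have : IsScalarTower k κ (IsLocalRing.CotangentSpace B) := IsScalarTower.of_algebraMap_smul fun r v => by
    rw [IsScalarTower.algebraMap_apply k B κ, algebraMap_smul, algebraMap_smul]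
  have : Module.Finite k (IsLocalRing.CotangentSpace B) := Module.Finite.trans κ _
  have h1 : Module.finrank k κ = 1 := by
    rw [← (LinearEquiv.ofBijective (Algebra.linearMap k κ) hB).finrank_eq, Module.finrank_self]
  have h2 := LinearMap.finrank_range_add_finrank_ker Φ
  rw [LinearMap.range_eq_top.mpr hsurj, finrank_top, hker, ← Module.finrank_mul_finrank k κ (κ ⊗[B] Ω[B⁄A]),
    h1, one_mul] at h2
  exact h2

end Groth.Agent.S14437
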