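import Mathlib
import Groth.Agent.S6320
import Groth.Statements.S14438

set_option autoImplicit false
universe u
open CAlg

namespace Groth.Agent.S14438

/-- Let (A, m) be a local ring, B a commutative A-algebra which is free of finite rank d as an A-module,
and assume that for every maximal ideal n of B containing mB the induced map of residue fields A/m →
B/n is bijective (as for the points of a fibre of a finite flat morphism of varieties over an
algebraically closed field). Then the multiplicities of the points of the fibre add up to the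
degree: the sum over all such n of the length of the B_n-module (B/mB)_n equals d. -/
theorem result (A B : Type u) [CommRing A] [IsLocalRing A] [CommRing B] [Algebra A B]
    [Module.Free A B] [Module.Finite A B] (d : ℕ) (hd : Module.finrank A B = d)
    (hres : ∀ (n : Ideal B) [n.IsMaximal] (h : Ideal.map (algebraMap A B) (IsLocalRing.maximalIdeal A) ≤ n),
      Function.Bijective (Ideal.quotientMap n (algebraMap A B) (Ideal.map_le_iff_le_comap.mp h))) :
    finsum (fun n : {n : MaximalSpectrum B // Ideal.map (algebraMap A B) (IsLocalRing.maximalIdeal A) ≤ n.asIdeal} =>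
      Module.length (Localization.AtPrime n.1.asIdeal)
        (LocalizedModule n.1.asIdeal.primeCompl (B ⧸ Ideal.map (algebraMap A B) (IsLocalRing.maximalIdeal A)))) = (d : ℕ∞) := by
  classical
  let m := IsLocalRing.maximalIdeal A
  let J : Ideal B := Ideal.map (algebraMap A B) m
  let k := A ⧸ m
  let _ : Field k := Ideal.Quotient.field m
  have : Module.Finite k (B ⧸ J) := Module.Finite.of_restrictScalars_finite A k (B ⧸ J)
  have hdim : Module.finrank k (B ⧸ J) = d := by
    rw [← hd]; exact IsLocalRing.finrank_quotient_map (R := A) (S := B)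
  have hlen : Module.length A (B ⧸ J) = (d : ℕ∞) := by
    rw [Module.length_eq_of_surjective (R := k) Ideal.Quotient.mk_surjective,
      Module.length_eq_finrank, hdim]
  have hover : ∀ n : MaximalSpectrum B, n.asIdeal.comap (algebraMap A B) = m := fun n => by
    have : (n.asIdeal.under A).IsMaximal := Ideal.IsMaximal.under A n.asIdeal
    exact IsLocalRing.eq_maximalIdeal this
  have hle : ∀ n : MaximalSpectrum B, J ≤ n.asIdeal := fun n =>
    Ideal.map_le_iff_le_comap.2 (hover n).ge
  have hfinB : IsFiniteLength B (B ⧸ J) := by
    rw [← Module.length_ne_top_iff]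
    intro htop
    have h1 := Submodule.length_le_length_restrictScalars A (⊤ : Submodule B (B ⧸ J))
    rw [Module.length_top, htop, Submodule.restrictScalars_top, Module.length_top, hlen] at h1
    exact (ENat.natCast_ne_top d) (le_antisymm le_top h1)
  have : Finite (MaximalSpectrum B) := by
    have : IsArtinianRing (B ⧸ J) := isArtinian_of_tower k inferInstance
    refine Finite.of_injective (β := MaximalSpectrum (B ⧸ J)) (fun n => ⟨n.asIdeal.map (Ideal.Quotient.mk J),
      Ideal.IsMaximal.map_of_surjective_of_ker_le Ideal.Quotient.mk_surjective (by rw [Ideal.mk_ker]; exact hle n)⟩) ?_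
    intro a b hab
    have h := congrArg (fun n : MaximalSpectrum (B ⧸ J) => n.asIdeal.comap (Ideal.Quotient.mk J)) hab
    simp only [Ideal.comap_map_of_surjective' _ Ideal.Quotient.mk_surjective, Ideal.mk_ker,
      sup_eq_left.2 (hle _)] at h
    exact MaximalSpectrum.ext h
  have hfin : ∀ n : MaximalSpectrum B, Module.Finite (A ⧸ n.asIdeal.comap (algebraMap A B)) (B ⧸ n.asIdeal) :=
    fun n => Module.Finite.of_restrictScalars_finite A _ _
  have hrk : ∀ n : MaximalSpectrum B, Module.finrank (A ⧸ n.asIdeal.comap (algebraMap A B)) (B ⧸ n.asIdeal) = 1 := by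
    intro n
    have := Ideal.comap_isPrime (algebraMap A B) n.asIdeal
    have hsur : Function.Surjective (algebraMap (A ⧸ n.asIdeal.comap (algebraMap A B)) (B ⧸ n.asIdeal)) := by
      intro y
      obtain ⟨x, hx⟩ := (hres n.asIdeal (hle n)).2 y
      obtain ⟨a, rfl⟩ := Ideal.Quotient.mk_surjective x
      exact ⟨Ideal.Quotient.mk _ a, hx⟩
    have hinj : Function.Injective (algebraMap (A ⧸ n.asIdeal.comap (algebraMap A B)) (B ⧸ n.asIdeal)) :=
      Ideal.quotientMap_injective' le_rfl
    rw [← (LinearEquiv.ofBijective (Algebra.linearMap (A ⧸ n.asIdeal.comap (algebraMap A B)) (B ⧸ n.asIdeal))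
      ⟨hinj, hsur⟩).finrank_eq, Module.finrank_self]
  have key := Groth.Agent.S6320.result (A := A) (B := B) hover hfin (B ⧸ J) hfinB
  rw [hlen] at key
  rw [key]
  refine finsum_eq_of_bijective (fun n => n.1) ⟨Subtype.val_injective, fun n => ⟨⟨n, hle n⟩, rfl⟩⟩ fun n => ?_
  rw [hrk, Nat.cast_one, one_mul]

end Groth.Agent.S14438
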