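import Groth.Statements.S1444
import Groth.Agent.FibreVanishQC.GlobGen

set_option autoImplicit false
set_option backward.isDefEq.respectTransparency false
universe u
open FlatMor

namespace Groth.Agent.S1444

open AlgebraicGeometry CategoryTheory Limits in
/-- Let f : X → Y be proper with Y affine, all fibres of f of dimension at most 1, and H¹(X_y, O_{X_y})
= 0 for every point y of Y. Then H¹(X, F) = 0 for every quasi-coherent O_X-module F which is
globally generated (a quotient of a direct sum of copies of the structure sheaf). -/
theorem result {X Y : Scheme.{u}} (f : X ⟶ Y) [IsProper f] [IsAffine Y]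
    (hdim : ∀ y : Y, topologicalKrullDim ↑(f.fiber y) ≤ 1) (hH1 : ∀ y : Y, Subsingleton (Coh.HH (f.fiber y) (Coh.structureModule (f.fiber y)) 1))
    (F : X.Modules) (hF : Coh.IsQCoh F) (ι : Type u) (e : (∐ fun _ : ι => Coh.structureModule X) ⟶ F) [Epi e] :
    Subsingleton (Coh.HH X F 1) := by
  haveI := hF
  haveI : Coh.IsQCoh (Coh.structureModule X) := inferInstance
  have h0 := Groth.Agent.FibreVanishQC.subsingleton_HH_of_fibres f 0 (fun y => by simpa using hdim y) hH1
  have h1 := Groth.Agent.FibreVanishQC.subsingleton_HU_of_globgen f 0 (fun y => by simpa using hdim y) h0 F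
    (fun a => Sigma.ι (fun _ : ι => Coh.structureModule X) a ≫ e) (fun U hU n => by
      obtain ⟨s, rfl⟩ := Groth.Agent.ProjBundleLib.surjective_app_of_epi
        (Groth.Agent.DCohLib.isQCoh_sigma_modules (fun _ : ι => Coh.structureModule X) fun _ => inferInstance) hF e hU n
      obtain ⟨T, hT⟩ := Groth.Agent.FibreVanishQC.exists_sum_inj
        (coproductIsCoproduct (fun _ : ι => Coh.structureModule X)) U hU.isCompact s
      classical
      refine ⟨∑ a ∈ T, Finsupp.single a ((Groth.Agent.DCohLib.sigmaProj
        (coproductIsCoproduct (fun _ : ι => Coh.structureModule X)) a).app U s), ?_⟩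
      rw [← Finsupp.sum_finsetSum_index (fun a => map_zero _) (fun a => map_add _)]
      refine Eq.trans ?_ (congrArg (e.app U) hT).symm
      rw [map_sum]
      refine Finset.sum_congr rfl fun a _ => ?_
      refine (Finsupp.sum_single_index ?_).trans rfl
      exact map_zero _)
  haveI := h1
  exact (Groth.Agent.CohBase.HHEquiv F 1).toEquiv.subsingleton

end Groth.Agent.S1444
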