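import Groth.Statements.S14442
import Mathlib

set_option autoImplicit false
universe u
open GrNak

namespace Groth.Agent.S14442

/-- Let R be a commutative ℕ-graded ring with irrelevant ideal R_+ = ⊕_{i>0} R_i, M an ℕ-graded R-module
and N a graded submodule of M (closed under taking homogeneous components). If M = R_+ M + N then N
= M. (The published statement is for finitely generated ℤ-graded modules over a graded quotient of a
polynomial ring, whose degrees are then bounded below; stated here for non-negatively graded modules
over any ℕ-graded commutative ring, where the same lowest-degree argument applies without finite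
generation.) -/
theorem result {R : Type u} [CommRing R] {σ : Type u} [SetLike σ R] [AddSubmonoidClass σ R]
    (𝒜 : ℕ → σ) [GradedRing 𝒜]
    {M : Type u} [AddCommGroup M] [Module R M] {τ : Type u} [SetLike τ M] [AddSubmonoidClass τ M]
    (ℳ : ℕ → τ) [DirectSum.Decomposition ℳ] [SetLike.GradedSMul 𝒜 ℳ]
    (N : Submodule R M) (hN : ∀ x ∈ N, ∀ i : ℕ, (DirectSum.decompose ℳ x i : M) ∈ N)
    (h : (HomogeneousIdeal.irrelevant 𝒜).toIdeal • (⊤ : Submodule R M) ⊔ N = ⊤) :
    N = ⊤ := by
  classical
  suffices main : ∀ d : ℕ, ∀ x : M, (DirectSum.decompose ℳ x d : M) ∈ N by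
    refine eq_top_iff.mpr fun x _ => ?_
    rw [← DirectSum.sum_support_decompose ℳ x]
    exact sum_mem fun d _ => main d x
  intro d
  induction d using Nat.strong_induction_on with
  | _ d ih =>
    intro x
    obtain ⟨y, hy, n, hn, rfl⟩ := Submodule.mem_sup.mp (h.symm ▸ Submodule.mem_top : x ∈ _)
    rw [DirectSum.decompose_add, DirectSum.add_apply]
    push_cast
    refine add_mem ?_ (hN n hn d)
    clear hn
    refine Submodule.smul_induction_on hy ?_ ?_
    · intro a ha m _
      have hdec : ∀ k : M, (DirectSum.decompose ℳ k d : M) = (AddMonoidHom.mk' (fun z => (DirectSum.decompose ℳ z d : M)) (fun u v => by rw [DirectSum.decompose_add, DirectSum.add_apply]; push_cast; rfl)) k := fun k => rfl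
      rw [hdec, ← DirectSum.sum_support_decompose 𝒜 a, Finset.sum_smul, map_sum]
      refine sum_mem fun i _ => ?_
      rw [← DirectSum.sum_support_decompose ℳ m, Finset.smul_sum, map_sum]
      refine sum_mem fun j _ => ?_
      rw [← hdec]
      have hmem : (DirectSum.decompose 𝒜 a i : R) • (DirectSum.decompose ℳ m j : M) ∈ ℳ (i + j) :=
        SetLike.GradedSMul.smul_mem (A := 𝒜) (B := ℳ) (SetLike.coe_mem (DirectSum.decompose 𝒜 a i)) (SetLike.coe_mem (DirectSum.decompose ℳ m j))
      by_cases hij : i + j = d
      · subst hij
        rw [DirectSum.decompose_of_mem_same ℳ hmem]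
        rcases Nat.eq_zero_or_pos i with hi | hi
        · subst hi
          have h0 : GradedRing.proj 𝒜 0 a = 0 := ha
          rw [GradedRing.proj_apply] at h0
          rw [h0, zero_smul]; exact zero_mem _
        · exact N.smul_mem _ (ih j (by omega) m)
      · rw [DirectSum.decompose_of_mem_ne ℳ hmem hij]; exact zero_mem _
    · intro u v hu hv
      rw [DirectSum.decompose_add, DirectSum.add_apply]
      push_cast
      exact add_mem hu hv

end Groth.Agent.S14442
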