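import Groth.Statements.S14444
import Groth.Agent.GenBCLib.Deg0

set_option autoImplicit false
universe u
open Coherent

namespace Groth.Agent.S14444

set_option backward.isDefEq.respectTransparency false
set_option linter.style.haveILetI false

open AlgebraicGeometry CategoryTheory Scheme.Modules in
/-- Let η : Y → V be a proper morphism of finite presentation and L a quasi-coherent O_Y-module of
finite presentation, flat over V, with H^1(Y_v, L_v) = 0 for every point v of V (cohomology of the
restriction of L to the fibre Y_v). Then η_* L is finite locally free, and for every cartesian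
square with vertex X = U ×_V Y, projections f : X → Y and ζ : X → U, over a morphism φ : U → V, the
base change map φ^* η_* L → ζ_* f^* L — the map adjoint to η_*(ρ) : η_* L → η_* f_* f^* L = φ_* ζ_*
f^* L, where ρ : L → f_* f^* L is the unit — is an isomorphism. -/
theorem result {Y V : Scheme.{u}} (η : Y ⟶ V)
    [IsProper η] [LocallyOfFinitePresentation η] (L : Y.Modules) [Coh.IsQCoh L] (hfp : CohB1.IsFP L)
    (hfl : FlatMod.IsFlatOver η L) (h1 : ∀ v : V, Subsingleton (CohIII.fiberH η L v 1)) :
    FlatMod.IsFinLocFree ((pushforward η).obj L) ∧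
      ∀ ⦃X U : Scheme.{u}⦄ (f : X ⟶ Y) (ζ : X ⟶ U) (φ : U ⟶ V) (h : IsPullback f ζ η φ),
        IsIso (((pullbackPushforwardAdjunction φ).homEquiv ((pushforward η).obj L)
            ((pushforward ζ).obj ((pullback f).obj L))).symm
          ((pushforward η).map ((pullbackPushforwardAdjunction f).unit.app L) ≫
            (pushforwardComp f η).hom.app ((pullback f).obj L) ≫
            (pushforwardCongr h.w).hom.app ((pullback f).obj L) ≫
            (pushforwardComp ζ φ).inv.app ((pullback f).obj L))) := by
  haveI : CategoryTheory.HasInjectiveResolutions Y.Modules := inferInstance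
  have key : ∀ v : V, ∃ (W : V.Opens) (D : GenBCLib.Dat η L W) (a : Γ(V, W)),
      v ∈ V.basicOpen a ∧ D.L.Good a 0 := fun v => by
    obtain ⟨W, D, hv⟩ := GenBCLib.exists_dat_at hfp hfl v
    obtain ⟨a, ha, -, hsa, -⟩ := D.exists_vanish hv (h1 v)
    exact ⟨W, D, a, ha, hsa⟩
  refine ⟨GenBCLib.isFinLocFree_of_nhds _ fun v => ?_, fun X U f ζ φ h => ?_⟩
  · obtain ⟨W, D, a, ha, hg⟩ := key v
    exact ⟨_, ha, GenBCLib.isFinLocFree_push_of_rpush η L (D.isFinLocFree_basicOpen hg (D.L.split_zero a))⟩
  · haveI : IsSeparated ζ := MorphismProperty.of_isPullback (P := @IsSeparated) h inferInstance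
    haveI : QuasiCompact ζ := MorphismProperty.of_isPullback (P := @QuasiCompact) h inferInstance
    haveI : Coh.IsQCoh ((pullback f).obj L) := PullbackMod.isQCoh_pullback _ L
    exact GenBCLib.isIso_bc0 h L fun z => key (φ z)

end Groth.Agent.S14444
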