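import Groth.Statements.S14447
import Mathlib
-- import your own Groth.Agent.* helpers here

set_option autoImplicit false
universe w v u
open AlgGrp

namespace Groth.Agent.S14447

open CategoryTheory CategoryTheory.Limits in
/-- Let C be a category with finite products and with all coproducts indexed by sets, and assume that
for every set I and every object U the canonical arrow ∐_{i∈I} U → (∐_{i∈I} pt) × U, whose i-th
component pairs U → pt → ∐_{i∈I} pt (i-th coprojection) with the identity of U, is an isomorphism.
Then the discrete-object functor from sets to C, I ↦ ∐_{i∈I} pt, preserves finite products. (Sets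
are the types of one fixed universe, the one indexing the coproducts. The published statement asks
only for the coproducts of copies of one object; this row assumes that C has all coproducts indexed
by sets, which Mathlib's discrete-object functor sigmaConst requires.) -/
theorem result {C : Type u} [Category.{v} C]
    [HasFiniteProducts C] [HasCoproducts.{w} C]
    (h : ∀ (I : Type w) (U : C), IsIso (Sigma.desc fun i : I =>
      prod.lift (terminal.from U ≫ Sigma.ι (fun _ : I => ⊤_ C) i) (𝟙 U))) :
    PreservesFiniteProducts (sigmaConst.{w}.obj (⊤_ C)) := by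
  classical
  open CategoryTheory CategoryTheory.Limits in
  (
  let pt : C := ⊤_ C
  let F : Type w ⥤ C := sigmaConst.{w}.obj pt
  haveI : PreservesLimit (Functor.empty.{0} (Type w)) F := by
    have hu : ∀ a b : (⊤_ (Type w)), a = b := fun a b =>
      Equiv.injective (Types.terminalIso.toEquiv) (Subsingleton.elim _ _)
    let z : (⊤_ (Type w)) := Types.terminalIso.inv PUnit.unit
    haveI : IsIso (terminal.from (F.obj (⊤_ (Type w)))) :=
      ⟨Sigma.ι (fun _ : (⊤_ (Type w)) => pt) z, by
        apply Sigma.hom_ext
        intro a
        have e0 : Sigma.ι (fun _ : (⊤_ (Type w)) => pt) a ≫ (terminal.from (F.obj (⊤_ (Type w)))) = 𝟙 pt :=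
          Subsingleton.elim _ _
        rw [← Category.assoc, e0, Category.id_comp, hu a z]
        exact (Category.comp_id _).symm, Subsingleton.elim _ _⟩
    exact preservesTerminal_of_isIso F (terminal.from _)
  haveI : PreservesLimitsOfShape (Discrete.{0} PEmpty) F :=
    preservesLimitsOfShape_pempty_of_preservesTerminal F
  haveI : ∀ I J : Type w, IsIso (prodComparison F I J) := by
    intro I J
    let U : C := F.obj J
    let Φ : (∐ fun _ : I => U) ⟶ (∐ fun _ : I => pt) ⨯ U :=
      Sigma.desc fun i : I => prod.lift (terminal.from U ≫ Sigma.ι (fun _ : I => pt) i) (𝟙 U)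
    haveI : IsIso Φ := h I U
    let e := (Types.binaryProductIso I J).toEquiv
    have he1 : ∀ z : (I ⨯ J : Type w), (e z).1 = (prod.fst : (I ⨯ J : Type w) ⟶ I) z := fun z =>
      by rw [← ConcreteCategory.congr_hom (Types.binaryProductIso_hom_comp_fst I J) z]; rfl
    have he2 : ∀ z : (I ⨯ J : Type w), (e z).2 = (prod.snd : (I ⨯ J : Type w) ⟶ J) z := fun z =>
      by rw [← ConcreteCategory.congr_hom (Types.binaryProductIso_hom_comp_snd I J) z]; rfl
    let Ψ : (∐ fun _ : (I ⨯ J : Type w) => pt) ⟶ (∐ fun _ : I => U) :=
      Sigma.desc fun z => Sigma.ι (fun _ : J => pt) (e z).2 ≫ Sigma.ι (fun _ : I => U) (e z).1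
    let Ψ' : (∐ fun _ : I => U) ⟶ (∐ fun _ : (I ⨯ J : Type w) => pt) :=
      Sigma.desc fun i => (Sigma.desc fun j : J => Sigma.ι (fun _ : (I ⨯ J : Type w) => pt) (e.symm (i, j)) :
        U ⟶ ∐ fun _ : (I ⨯ J : Type w) => pt)
    haveI : IsIso Ψ := ⟨Ψ', by
      apply Sigma.hom_ext
      intro z
      simp [Ψ, Ψ', U, F, sigmaConst], by
      apply Sigma.hom_ext
      intro i
      apply Sigma.hom_ext
      intro j
      simp [Ψ, Ψ', U, F, sigmaConst]⟩
    have hc : prodComparison F I J = Ψ ≫ Φ := by
      apply Sigma.hom_ext
      intro z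
      apply prod.hom_ext
      · simp only [prodComparison, Ψ, Φ, Category.assoc, prod.lift_fst, colimit.ι_desc_assoc, Cofan.mk_ι_app]
        simp [F, U, sigmaConst, pt, ← he1]
        erw [prod.lift_fst, ← Category.assoc]
        conv_rhs => arg 1; rw [Subsingleton.elim (_ ≫ _) (𝟙 (⊤_ C))]
        rw [Category.id_comp]
      · simp only [prodComparison, Ψ, Φ, Category.assoc, prod.lift_snd, colimit.ι_desc_assoc, Cofan.mk_ι_app]
        simp [F, U, sigmaConst, pt, ← he2]
        erw [prod.lift_snd, Category.comp_id]
    rw [hc]
    infer_instance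
  haveI := preservesBinaryProducts_of_isIso_prodComparison F
  exact PreservesFiniteProducts.of_preserves_binary_and_terminal F)

end Groth.Agent.S14447
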