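import Groth.Statements.S14448
import Mathlib

set_option autoImplicit false
universe u
open Coherent

namespace Groth.Agent.S14448

open CategoryTheory AlgebraicGeometry


open CategoryTheory AlgebraicGeometry Scheme.Modules

variable {X Y Z : Scheme.{u}}

theorem unit_comp (f : X ⟶ Y) (g : Y ⟶ Z) (L : Z.Modules) :
    (pullbackPushforwardAdjunction (f ≫ g)).unit.app L =
      (pullbackPushforwardAdjunction g).unit.app L ≫
        (pushforward g).map ((pullbackPushforwardAdjunction f).unit.app ((Scheme.Modules.pullback g).obj L)) ≫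
        (pushforwardComp f g).hom.app ((Scheme.Modules.pullback f).obj ((Scheme.Modules.pullback g).obj L)) ≫
        (pushforward (f ≫ g)).map ((pullbackComp f g).hom.app L) := by
  have h := unit_conjugateEquiv ((pullbackPushforwardAdjunction g).comp (pullbackPushforwardAdjunction f))
    (pullbackPushforwardAdjunction (f ≫ g)) (pullbackComp f g).inv L
  rw [conjugateEquiv_pullbackComp_inv, Adjunction.comp_unit_app] at h
  have h1 := congrArg (· ≫ (pushforward (f ≫ g)).map ((pullbackComp f g).hom.app L)) h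
  simp only [Category.assoc] at h1
  refine Eq.trans ?_ h1.symm
  rw [← Functor.map_comp, Iso.inv_hom_id_app]
  exact ((congrArg _ ((pushforward (f ≫ g)).map_id _)).trans (Category.comp_id _)).symm

theorem homEquiv_comp_hom (φ : X ⟶ Y) (ψ : Y ⟶ Z) {M : Z.Modules} {N : X.Modules}
    (b : (Scheme.Modules.pullback (φ ≫ ψ)).obj M ⟶ N) :
    ((pullbackPushforwardAdjunction ψ).comp (pullbackPushforwardAdjunction φ)).homEquiv M N
        ((pullbackComp φ ψ).hom.app M ≫ b) =
      (pullbackPushforwardAdjunction (φ ≫ ψ)).homEquiv M N b ≫ (pushforwardComp φ ψ).inv.app N := by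
  rw [Adjunction.homEquiv_unit, Adjunction.homEquiv_unit, unit_comp, Adjunction.comp_unit_app]
  refine Scheme.Modules.hom_ext _ _ fun U => ?_
  rfl

theorem key (f : X ⟶ Y) (g : Y ⟶ Z) (L : Z.Modules) (U : Z.Opens) (s : Γ(L, U)) :
    ((pullbackPushforwardAdjunction (f ≫ g)).unit.app L).app U s =
      ((pullbackComp f g).hom.app L).app ((f ≫ g) ⁻¹ᵁ U)
        (((pullbackPushforwardAdjunction f).unit.app ((Scheme.Modules.pullback g).obj L)).app (g ⁻¹ᵁ U)
          (((pullbackPushforwardAdjunction g).unit.app L).app U s)) := by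
  rw [unit_comp]
  rfl

open AlgebraicGeometry CategoryTheory Scheme.Modules in
/-- Take two commutative squares of schemes side by side, f : X → Y over φ : U → V (vertical maps ξ : X
→ U and η : Y → V, f ≫ η = ξ ≫ φ) and g : Y → Z over ψ : V → W (vertical map ζ : Z → W, g ≫ ζ = η ≫
ψ), and an O_Z-module L. For a commutative square the base change map β_{f,φ}(M) : φ^* η_* M → ξ_*
f^* M is the adjoint of η_*(unit) : η_* M → η_* f_* f^* M = φ_* ξ_* f^* M, and α denotes the
composition isomorphisms of module pullbacks. Then the composite of α_{φ,ψ}(ζ_* L) : φ^* ψ^* ζ_* L →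
(φ ≫ ψ)^* ζ_* L with β_{f ≫ g, φ ≫ ψ}(L) equals the composite of φ^* β_{g,ψ}(L), β_{f,φ}(g^* L) and
ξ_* α_{f,g}(L), as maps φ^* ψ^* ζ_* L → ξ_* (f ≫ g)^* L. No cartesian or finiteness hypothesis is
made; the outer square is used through any proof hw of its commutativity. -/
theorem result {X Y Z U V W : Scheme.{u}} (f : X ⟶ Y) (g : Y ⟶ Z)
    (ξ : X ⟶ U) (η : Y ⟶ V) (ζ : Z ⟶ W) (φ : U ⟶ V) (ψ : V ⟶ W)
    (h₁ : f ≫ η = ξ ≫ φ) (h₂ : g ≫ ζ = η ≫ ψ) (hw : (f ≫ g) ≫ ζ = ξ ≫ (φ ≫ ψ)) (L : Z.Modules) :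
    (pullbackComp φ ψ).hom.app ((pushforward ζ).obj L) ≫
        (((pullbackPushforwardAdjunction (φ ≫ ψ)).homEquiv ((pushforward ζ).obj L)
            ((pushforward ξ).obj ((pullback (f ≫ g)).obj L))).symm
          ((pushforward ζ).map ((pullbackPushforwardAdjunction (f ≫ g)).unit.app L) ≫
            (pushforwardComp (f ≫ g) ζ).hom.app ((pullback (f ≫ g)).obj L) ≫
            (pushforwardCongr hw).hom.app ((pullback (f ≫ g)).obj L) ≫
            (pushforwardComp ξ (φ ≫ ψ)).inv.app ((pullback (f ≫ g)).obj L))) =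
      (pullback φ).map (((pullbackPushforwardAdjunction ψ).homEquiv ((pushforward ζ).obj L)
            ((pushforward η).obj ((pullback g).obj L))).symm
          ((pushforward ζ).map ((pullbackPushforwardAdjunction g).unit.app L) ≫
            (pushforwardComp g ζ).hom.app ((pullback g).obj L) ≫
            (pushforwardCongr h₂).hom.app ((pullback g).obj L) ≫
            (pushforwardComp η ψ).inv.app ((pullback g).obj L))) ≫
        (((pullbackPushforwardAdjunction φ).homEquiv ((pushforward η).obj ((pullback g).obj L))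
            ((pushforward ξ).obj ((pullback f).obj ((pullback g).obj L)))).symm
          ((pushforward η).map ((pullbackPushforwardAdjunction f).unit.app ((pullback g).obj L)) ≫
            (pushforwardComp f η).hom.app ((pullback f).obj ((pullback g).obj L)) ≫
            (pushforwardCongr h₁).hom.app ((pullback f).obj ((pullback g).obj L)) ≫
            (pushforwardComp ξ φ).inv.app ((pullback f).obj ((pullback g).obj L)))) ≫
        (pushforward ξ).map ((pullbackComp f g).hom.app L) := by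
  apply (((pullbackPushforwardAdjunction ψ).comp (pullbackPushforwardAdjunction φ)).homEquiv _ _).injective
  refine (homEquiv_comp_hom φ ψ _).trans ?_
  rw [Equiv.apply_symm_apply]
  rw [Adjunction.homEquiv_unit, Adjunction.comp_unit_app]
  refine Eq.trans ?_ (Category.assoc _ _ _).symm
  rw [Functor.comp_map, ← Functor.map_comp]
  erw [← (pullbackPushforwardAdjunction φ).homEquiv_unit, (pullbackPushforwardAdjunction φ).homEquiv_naturality_left,
    (pullbackPushforwardAdjunction φ).homEquiv_naturality_right, Equiv.apply_symm_apply,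
    Functor.map_comp]
  rw [← Category.assoc ((pullbackPushforwardAdjunction ψ).unit.app _)]
  erw [← (pullbackPushforwardAdjunction ψ).homEquiv_unit, Equiv.apply_symm_apply]
  refine Scheme.Modules.hom_ext _ _ fun W₀ => ?_
  refine AddCommGrpCat.hom_ext (AddMonoidHom.ext fun s => ?_)
  have hk := key f g L (ζ ⁻¹ᵁ W₀) s
  let M₁ := (pullback f).obj ((pullback g).obj L)
  have e1 : η ⁻¹ᵁ (ψ ⁻¹ᵁ W₀) = g ⁻¹ᵁ (ζ ⁻¹ᵁ W₀) := congrArg (fun k => k ⁻¹ᵁ W₀) h₂.symm
  have e2 : ξ ⁻¹ᵁ (φ ⁻¹ᵁ (ψ ⁻¹ᵁ W₀)) = f ⁻¹ᵁ (η ⁻¹ᵁ (ψ ⁻¹ᵁ W₀)) := congrArg (fun k => k ⁻¹ᵁ (ψ ⁻¹ᵁ W₀)) h₁.symm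
  have e0 : ξ ⁻¹ᵁ (φ ⁻¹ᵁ (ψ ⁻¹ᵁ W₀)) = (f ≫ g) ⁻¹ᵁ (ζ ⁻¹ᵁ W₀) := congrArg (fun k => k ⁻¹ᵁ W₀) hw.symm
  show ((pullback (f ≫ g)).obj L).presheaf.map (eqToHom e0).op
      (((pullbackPushforwardAdjunction (f ≫ g)).unit.app L).app (ζ ⁻¹ᵁ W₀) s) =
    ((pullbackComp f g).hom.app L).app (ξ ⁻¹ᵁ (φ ⁻¹ᵁ (ψ ⁻¹ᵁ W₀)))
      (M₁.presheaf.map (eqToHom e2).op
        (((pullbackPushforwardAdjunction f).unit.app ((pullback g).obj L)).app (η ⁻¹ᵁ (ψ ⁻¹ᵁ W₀))
          (((pullback g).obj L).presheaf.map (eqToHom e1).op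
            (((pullbackPushforwardAdjunction g).unit.app L).app (ζ ⁻¹ᵁ W₀) s))))
  rw [hk]
  have nat : ∀ {S : Scheme.{u}} {A B : S.Modules} (t : A ⟶ B) {O O' : S.Opens} (r : O' ⟶ O) (a : Γ(A, O)),
      B.presheaf.map r.op (t.app O a) = t.app O' (A.presheaf.map r.op a) := fun {S A B} t {O O'} r a =>
    (ConcreteCategory.congr_hom (t.mapPresheaf.naturality r.op) a).symm
  refine (nat ((pullbackComp f g).hom.app L) (eqToHom e0) _).trans (congrArg _ ?_)
  refine Eq.trans ?_ (congrArg (M₁.presheaf.map (eqToHom e2).op)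
    (nat ((pullbackPushforwardAdjunction f).unit.app ((pullback g).obj L)) (eqToHom e1) _))
  have cmp : ∀ {A B C : X.Opens} (a : B ⟶ A) (b : C ⟶ B) (c : C ⟶ A) (x : Γ(M₁, A)),
      M₁.presheaf.map c.op x = M₁.presheaf.map b.op (M₁.presheaf.map a.op x) := fun {A B C} a b c x => by
    rw [Subsingleton.elim c (b ≫ a), op_comp, Functor.map_comp]
    rfl
  exact cmp ((TopologicalSpace.Opens.map f.base).map (eqToHom e1)) (eqToHom e2) (eqToHom e0) _

end Groth.Agent.S14448
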