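import Mathlib
import Mathlib
import Groth.Statements.S14456

set_option autoImplicit false
universe u
open CAlg

namespace Groth.Agent.S14456

/-- Take a local homomorphism A → B between Noetherian local rings, M a finitely generated B-module and
f an element of the maximal ideal of B. If M/f^(n+1)M is flat over A for every n ≥ 0, then M is flat
over A. -/
theorem result {A B : Type u} [CommRing A] [CommRing B]
    [IsNoetherianRing A] [IsNoetherianRing B] [IsLocalRing A] [IsLocalRing B] [Algebra A B]
    [IsLocalHom (algebraMap A B)] (M : Type u) [AddCommGroup M] [Module B M] [Module A M]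
    [IsScalarTower A B M] [Module.Finite B M] (f : B) (hf : f ∈ IsLocalRing.maximalIdeal B)
    (hflat : ∀ n : ℕ, Module.Flat A (M ⧸ (Ideal.span {f ^ (n + 1)} • (⊤ : Submodule B M)))) :
    Module.Flat A M := by
  open TensorProduct Pointwise in
  classical
  rw [Module.Flat.iff_lTensor_injective]
  intro J hJ
  haveI : Module.Finite A J := Module.Finite.iff_fg.mpr hJ
  haveI : Module.Finite B (M ⊗[A] J) := by
    obtain ⟨s, hs⟩ := (inferInstance : Module.Finite B M).fg_top
    obtain ⟨t, ht⟩ := (inferInstance : Module.Finite A J).fg_top
    refine ⟨⟨(s ×ˢ t).image fun p => p.1 ⊗ₜ[A] p.2, top_le_iff.mp fun z hzt => ?_⟩⟩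
    clear hzt
    induction z using TensorProduct.induction_on with
    | zero => exact Submodule.zero_mem _
    | add x y hx hy => exact Submodule.add_mem _ hx hy
    | tmul m j =>
      have hm : m ∈ Submodule.span B (s : Set M) := hs ▸ Submodule.mem_top
      induction hm using Submodule.span_induction with
      | zero => simp
      | add x y _ _ hx hy => rw [TensorProduct.add_tmul]; exact Submodule.add_mem _ hx hy
      | smul b x _ hx => rw [← TensorProduct.smul_tmul']; exact Submodule.smul_mem _ b hx
      | mem x hx =>
        have hj : j ∈ Submodule.span A (t : Set J) := ht ▸ Submodule.mem_top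
        induction hj using Submodule.span_induction with
        | zero => simp
        | add y z _ _ hy hz => rw [TensorProduct.tmul_add]; exact Submodule.add_mem _ hy hz
        | smul a y _ hy => rw [TensorProduct.tmul_smul, ← algebraMap_smul B a]; exact Submodule.smul_mem _ _ hy
        | mem y hy => exact Submodule.subset_span (Finset.mem_image.mpr ⟨(x, y), Finset.mem_product.mpr ⟨hx, hy⟩, rfl⟩)
  rw [injective_iff_map_eq_zero]
  intro z hz
  have key : ∀ k : ℕ, z ∈ Ideal.span {f ^ (k + 1)} • (⊤ : Submodule B (M ⊗[A] J)) := fun k => by
    haveI := hflat k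
    let P := Ideal.span {f ^ (k + 1)} • (⊤ : Submodule B M)
    let q : M →ₗ[A] M ⧸ P := P.mkQ.restrictScalars A
    have hq : Function.Surjective q := Submodule.mkQ_surjective P
    let i : P →ₗ[A] M := P.subtype.restrictScalars A
    have hex : Function.Exact i q := fun y => by
      show P.mkQ y = 0 ↔ y ∈ Set.range P.subtype
      simp
    have hz0 : q.rTensor J z = 0 := by
      apply (Module.Flat.iff_lTensor_injective.mp (hflat k)) hJ
      rw [map_zero, ← LinearMap.comp_apply, LinearMap.lTensor_comp_rTensor, ← LinearMap.rTensor_comp_lTensor,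
        LinearMap.comp_apply, hz, map_zero]
    obtain ⟨u, hu⟩ := (rTensor_exact J hex hq z).mp hz0
    rw [← hu]
    clear hu hz0
    induction u using TensorProduct.induction_on with
    | zero => simp
    | add x y hx hy => rw [map_add]; exact Submodule.add_mem _ hx hy
    | tmul p j =>
      obtain ⟨m, -, hm⟩ := (Submodule.mem_smul_pointwise_iff_exists _ _ _).mp
        (show (p : M) ∈ f ^ (k + 1) • (⊤ : Submodule B M) by rw [← Submodule.ideal_span_singleton_smul]; exact p.2)
      rw [LinearMap.rTensor_tmul, show i p = f ^ (k + 1) • m from hm.symm, ← TensorProduct.smul_tmul']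
      exact Submodule.smul_mem_smul (Ideal.mem_span_singleton_self _) Submodule.mem_top
  have hbot := Ideal.iInf_pow_smul_eq_bot_of_isLocalRing (M := M ⊗[A] J) (Ideal.span {f})
    (fun hh => (IsLocalRing.maximalIdeal.isMaximal B).ne_top (top_le_iff.mp (hh ▸ (Ideal.span_singleton_le_iff_mem _).mpr hf)))
  have : z ∈ (⨅ i : ℕ, Ideal.span {f} ^ i • (⊤ : Submodule B (M ⊗[A] J))) := by
    rw [Submodule.mem_iInf]
    intro n
    cases n with
    | zero => simp
    | succ k => rw [Ideal.span_singleton_pow]; exact key k
  rw [hbot] at this
  exact this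

end Groth.Agent.S14456
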