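import Mathlib
import Groth.Statements.S14457

set_option autoImplicit false
universe u
open CAlg

namespace Groth.Agent.S14457

open Polynomial in
/-- Let A be a commutative ring, a an element of A and n ≥ 1 an integer. The A-algebra A[T]/(T^n − a) is
etale exactly when either n = 1 or the product n·a is a unit of A. (The exponent n is a positive
integer here; for n = 0 the quotient is (A/(1 − a))[T] and the equivalence fails.) -/
theorem result (A : Type u) [CommRing A] (a : A) (n : ℕ) (hn : 1 ≤ n) :
    Algebra.Etale A (AdjoinRoot ((X : A[X]) ^ n - C a)) ↔ n = 1 ∨ IsUnit ((n : A) * a) := by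
  classical
  set f : A[X] := X ^ n - C a with hf
  have hmon : f.Monic := monic_X_pow_sub_C a (by omega)
  have hder : derivative f = C (n : A) * X ^ (n - 1) := by rw [hf]; simp [Polynomial.derivative_X_pow]
  constructor
  · intro het
    by_contra hcon
    push Not at hcon
    obtain ⟨hn1, hna⟩ := hcon
    haveI : Nontrivial A := not_subsingleton_iff_nontrivial.1 fun _ => hna (isUnit_of_subsingleton _)
    -- the derivative is a unit
    let J : Ideal (AdjoinRoot f) := Ideal.span {Polynomial.aeval (AdjoinRoot.root f) (derivative f)}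
    let Q := AdjoinRoot f ⧸ J
    let B := DualNumber Q
    let x₀ : Q := Ideal.Quotient.mk J (AdjoinRoot.root f)
    let ι : Q →ₐ[A] B := IsScalarTower.toAlgHom A Q B
    let g₁ : AdjoinRoot f →ₐ[A] B := ι.comp (Ideal.Quotient.mkₐ A J)
    have hx : Polynomial.aeval (ι x₀ + DualNumber.eps) f = 0 := by
      rw [Polynomial.aeval_add_of_sq_eq_zero _ _ _ (by rw [sq]; exact DualNumber.eps_mul_eps),
        Polynomial.aeval_algHom_apply ι, Polynomial.aeval_algHom_apply ι,
        show Polynomial.aeval x₀ f = 0 from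
          (Polynomial.aeval_algHom_apply (Ideal.Quotient.mkₐ A J) (AdjoinRoot.root f) f).trans (by
            rw [AdjoinRoot.aeval_eq, AdjoinRoot.mk_self, map_zero]),
        show Polynomial.aeval x₀ (derivative f) = 0 from
          (Polynomial.aeval_algHom_apply (Ideal.Quotient.mkₐ A J) (AdjoinRoot.root f) _).trans
            (Ideal.Quotient.eq_zero_iff_mem.2 (Ideal.mem_span_singleton_self _)),
        map_zero, zero_mul, add_zero]
    let g₂ : AdjoinRoot f →ₐ[A] B := AdjoinRoot.liftAlgHom f (Algebra.ofId A B) (ι x₀ + DualNumber.eps) hx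
    let I : Ideal B := RingHom.ker (TrivSqZeroExt.fstHom Q Q Q : B →ₐ[Q] Q).toRingHom
    have hI : I ^ 2 = ⊥ := eq_bot_iff.2 (by
      rw [sq, Ideal.mul_le]
      intro u hu v hv
      have hu' : u.fst = 0 := hu
      have hv' : v.fst = 0 := hv
      refine TrivSqZeroExt.ext ?_ ?_
      · rw [TrivSqZeroExt.fst_mul, hu', hv', mul_zero]; rfl
      · rw [TrivSqZeroExt.snd_mul, hu', hv', zero_smul, MulOpposite.op_zero, zero_smul, add_zero]; rfl)
    have hg : g₁ = g₂ := by
      refine Algebra.FormallyUnramified.comp_injective I hI (AdjoinRoot.algHom_ext ?_)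
      show Ideal.Quotient.mk I (g₁ (AdjoinRoot.root f)) = Ideal.Quotient.mk I (g₂ (AdjoinRoot.root f))
      rw [show g₂ (AdjoinRoot.root f) = ι x₀ + DualNumber.eps from AdjoinRoot.liftAlgHom_root _ _ _ _,
        map_add, show Ideal.Quotient.mk I (DualNumber.eps : B) = 0 from
          Ideal.Quotient.eq_zero_iff_mem.2 DualNumber.fst_eps, add_zero]
      rfl
    have h1 : (1 : Q) = 0 := by
      have h2 := congrArg TrivSqZeroExt.snd (DFunLike.congr_fun hg (AdjoinRoot.root f))
      rw [show g₂ (AdjoinRoot.root f) = ι x₀ + DualNumber.eps from AdjoinRoot.liftAlgHom_root _ _ _ _,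
        TrivSqZeroExt.snd_add, DualNumber.snd_eps, show g₁ (AdjoinRoot.root f) = ι x₀ from rfl] at h2
      simpa [ι] using h2
    have hu : IsUnit (Polynomial.aeval (AdjoinRoot.root f) (derivative f)) := by
      refine Ideal.span_singleton_eq_top.1 (Ideal.eq_top_iff_one _ |>.2 ?_)
      exact Ideal.Quotient.eq_zero_iff_mem.1 h1
    rw [hder, map_mul, map_pow, Polynomial.aeval_X, Polynomial.aeval_C, IsUnit.mul_iff, isUnit_pow_iff (by omega)] at hu
    have hroot : AdjoinRoot.root f ^ n = algebraMap A (AdjoinRoot f) a := by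
      have h3 : Polynomial.aeval (AdjoinRoot.root f) f = 0 := by rw [AdjoinRoot.aeval_eq, AdjoinRoot.mk_self]
      simpa [hf, sub_eq_zero] using h3
    haveI := hmon.finite_adjoinRoot
    haveI := hmon.free_adjoinRoot
    have hdeg : f.natDegree = n := natDegree_X_pow_sub_C
    have hinj : Function.Injective (algebraMap A (AdjoinRoot f)) :=
      (injective_iff_map_eq_zero _).2 fun c hc => by
        by_contra hc0
        exact hmon.not_dvd_of_natDegree_lt (p := f) (q := C c) (by simp [hc0])
          (by rw [natDegree_C, hdeg]; omega) (AdjoinRoot.mk_eq_zero.1 hc)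
    haveI : IsLocalHom (algebraMap A (AdjoinRoot f)) :=
      RingHom.IsIntegral.isLocalHom (RingHom.Finite.to_isIntegral (RingHom.finite_algebraMap.2 inferInstance)) hinj
    exact hna ((isUnit_of_map_unit (algebraMap A (AdjoinRoot f)) _ (by
      rw [map_mul, map_natCast]; exact (by simpa using hu.1 : IsUnit ((n : AdjoinRoot f))).mul (hroot ▸ hu.2.pow n))))
  · intro h
    have hcond : ∃ p₁ p₂ : A[X], derivative f * p₁ + f * p₂ = 1 ^ 1 := by
      rcases h with rfl | h
      · exact ⟨1, 0, by rw [hder]; simp⟩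
      · obtain ⟨u, hu⟩ := h
        have e0 : C (↑u⁻¹ : A) * (C (n : A) * C a) = 1 := by
          rw [← map_mul, ← map_mul, ← hu, Units.inv_mul, map_one]
        refine ⟨C (↑u⁻¹ : A) * X, -(C (↑u⁻¹ : A) * C (n : A)), ?_⟩
        have e1 : (X : A[X]) ^ (n - 1) * X = X ^ n := by rw [← pow_succ]; congr 1; omega
        rw [hder, hf]
        linear_combination C (↑u⁻¹ : A) * C (n : A) * e1 + e0
    obtain ⟨p₁, p₂, hp⟩ := hcond
    let P : StandardEtalePair A := ⟨f, hmon, 1, p₁, p₂, 1, hp⟩
    exact Algebra.Etale.of_equiv (P.equivAwayAdjoinRoot.trans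
      ((IsLocalization.atUnits (AdjoinRoot f) (Submonoid.powers (AdjoinRoot.mk f 1))
        (S := Localization.Away (AdjoinRoot.mk f 1)) (Submonoid.powers_le.2 (show IsUnit _ by simp))).symm.restrictScalars A))

end Groth.Agent.S14457
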