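import Groth.Statements.S14458
import Mathlib

set_option autoImplicit false
universe u
open CAlg

namespace Groth.Agent.S14458
open TensorProduct

open TensorProduct in
/-- Let R be an Artinian local ring with residue field k and M an R-module, not necessarily finitely
generated. If M ⊗_R k = 0 then M = 0. -/
theorem result {R : Type u} [CommRing R]
    [IsArtinianRing R] [IsLocalRing R] (M : Type u) [AddCommGroup M] [Module R M]
    (h : Subsingleton ((IsLocalRing.ResidueField R) ⊗[R] M)) : Subsingleton M := by
  obtain ⟨n, hn⟩ := (isArtinianRing_iff_isNilpotent_maximalIdeal R).mp ‹_›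
  set m := IsLocalRing.maximalIdeal R
  have h' : Subsingleton (M ⧸ (m • ⊤ : Submodule R M)) := by
    have : Subsingleton ((R ⧸ m) ⊗[R] M) := h
    exact (TensorProduct.quotTensorEquivQuotSMul M m).symm.toEquiv.subsingleton
  have htop : (m • ⊤ : Submodule R M) = ⊤ := Submodule.Quotient.subsingleton_iff.mp h'
  have hk : ∀ k : ℕ, (m ^ k • ⊤ : Submodule R M) = ⊤ := by
    intro k; induction k with
    | zero => simp
    | succ k ih => rw [pow_succ, mul_smul, htop, ih]
  have := hk n
  rw [hn] at this
  exact (Submodule.subsingleton_iff R).mp (subsingleton_of_bot_eq_top (by simpa using this))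

end Groth.Agent.S14458
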