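import Groth.Statements.S1446
import Groth.Agent.RelAssLib.Generic

set_option autoImplicit false
universe u
open FlatMor

namespace Groth.Agent.S1446

open AlgebraicGeometry CategoryTheory Limits in
/-- Let f : X → S be locally of finite type, F a quasi-coherent O_X-module of finite type, and ξ a point
of the relative assassin of F with closure Z. Then there is a nonempty subset V of Z, open in Z,
such that for every point x of V, if x is a generic point of an irreducible component of the fibre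
of V through x then x lies in the relative assassin of F. -/
theorem result {X S : Scheme.{u}} (f : X ⟶ S) [LocallyOfFiniteType f]
    (F : X.Modules) (hF : Coh.IsCoh F) (ξ : X) (hξ : ξ ∈ MoreMor.relAss f F) :
    ∃ V : Set ↑X, V ⊆ closure {ξ} ∧ IsOpen (Subtype.val ⁻¹' V : Set ↑(closure ({ξ} : Set ↑X))) ∧ V.Nonempty ∧
      ∀ (x : X) (hx : x ∈ V), (∃ C ∈ irreducibleComponents ↑(V ∩ f ⁻¹' {f x}), IsGenericPoint (⟨x, hx, rfl⟩ : ↑(V ∩ f ⁻¹' {f x})) C) →
        x ∈ MoreMor.relAss f F := by
  haveI : Coh.IsQCoh F := hF.1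
  obtain ⟨W, D, hξW, hξD, -, hW⟩ := RelAssLib.exists_nhd f F hF.2 hξ
  refine ⟨closure {ξ} ∩ W, Set.inter_subset_left, ?_, ⟨ξ, subset_closure rfl, hξW⟩, ?_⟩
  · convert W.2.preimage (continuous_subtype_val (p := fun x => x ∈ closure ({ξ} : Set X))) using 1
    ext z
    exact ⟨fun h => h.2, fun h => ⟨z.2, h⟩⟩
  · rintro x hx ⟨C, hC, hgen⟩
    refine hW x hx.2 (specializes_iff_mem_closure.mpr hx.1) fun z hξz hfz hzx => ?_
    let z' : ↑((closure {ξ} ∩ (W : Set X)) ∩ f ⁻¹' {f x}) :=
      ⟨z, ⟨specializes_iff_mem_closure.mp hξz, hzx.mem_open W.2 hx.2⟩, hfz⟩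
    let x' : ↑((closure {ξ} ∩ (W : Set X)) ∩ f ⁻¹' {f x}) := ⟨x, hx, rfl⟩
    have h1 : z' ⤳ x' := (subtype_specializes_iff z' x').mpr hzx
    have h2 : C ⊆ closure {z'} := hgen.def ▸ closure_minimal (Set.singleton_subset_iff.mpr h1.mem_closure) isClosed_closure
    have h3 : closure {z'} = C := (hC.eq_of_ge isIrreducible_singleton.closure h2).symm.symm
    have h4 : x' ⤳ z' := specializes_iff_mem_closure.mpr (hgen.def.symm ▸ h3 ▸ subset_closure rfl)
    exact (hzx.antisymm ((subtype_specializes_iff x' z').mp h4)).eq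

end Groth.Agent.S1446
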