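import Groth.Statements.S14460
import Groth.Agent.FEtLib.Points
import Groth.Agent.QuotLib.Free

set_option autoImplicit false
universe u
open CategoryTheory CategoryTheory.Limits AlgebraicGeometry
open Pi1

namespace Groth.Agent.S14460

theorem core {X T : Scheme.{u}} (f : T ⟶ X) [Etale f] [Nonempty T] (n : ℕ)
    (hfin : ∀ (K : Type u) [Field K] [IsAlgClosed K] (ξ : Spec (CommRingCat.of K) ⟶ X),
      Finite {s : Spec (CommRingCat.of K) ⟶ T // s ≫ f = ξ})
    (hn : ∀ (K : Type u) [Field K] [IsAlgClosed K] (ξ : Spec (CommRingCat.of K) ⟶ X),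
      Nat.card {s : Spec (CommRingCat.of K) ⟶ T // s ≫ f = ξ} = n)
    {G : Type u} [Group G] [Finite G] (m : G → (T ⟶ T)) (hm : ∀ g, m g ≫ f = f)
    (hinj : ∀ (K : Type u) [Field K] (a : Spec (CommRingCat.of K) ⟶ T), Function.Injective fun g => a ≫ m g) :
    Nat.card G ≤ n ∧ (Nat.card G = n ↔ IsIso (Limits.Sigma.desc fun g : G =>
      pullback.lift (𝟙 T) (m g) ((Category.id_comp f).trans (hm g).symm) : (∐ fun _ : G => T) ⟶ pullback f f)) := by
  let d : (∐ fun _ : G => T) ⟶ pullback f f :=
    Limits.Sigma.desc fun g : G => pullback.lift (𝟙 T) (m g) ((Category.id_comp f).trans (hm g).symm)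
  let orb : ∀ (K : Type u) [Field K] (a : Spec (CommRingCat.of K) ⟶ T),
      G → {s : Spec (CommRingCat.of K) ⟶ T // s ≫ f = a ≫ f} :=
    fun K _ a g => ⟨a ≫ m g, by rw [Category.assoc, hm]⟩
  have horb : ∀ (K : Type u) [Field K] (a : Spec (CommRingCat.of K) ⟶ T), Function.Injective (orb K a) :=
    fun K _ a g h e => hinj K a (congrArg Subtype.val e)
  have hfst : ∀ g (K : Type u) [Field K] (a : Spec (CommRingCat.of K) ⟶ T),
      (a ≫ Sigma.ι (fun _ : G => T) g) ≫ d ≫ pullback.fst f f = a := fun g K _ a => by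
    rw [Category.assoc, Limits.Sigma.ι_desc_assoc, pullback.lift_fst, Category.comp_id]
  have hsnd : ∀ g (K : Type u) [Field K] (a : Spec (CommRingCat.of K) ⟶ T),
      (a ≫ Sigma.ι (fun _ : G => T) g) ≫ d ≫ pullback.snd f f = a ≫ m g := fun g K _ a => by
    rw [Category.assoc, Limits.Sigma.ι_desc_assoc, pullback.lift_snd]
  have hfac : ∀ (K : Type u) [Field K] (s : Spec (CommRingCat.of K) ⟶ ∐ fun _ : G => T),
      ∃ g a, a ≫ Sigma.ι (fun _ : G => T) g = s := fun K _ s => by
    obtain ⟨g, y, hy⟩ := (sigmaOpenCover fun _ : G => T).exists_eq (s (IsLocalRing.closedPoint K))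
    refine ⟨g, IsOpenImmersion.lift (Sigma.ι (fun _ : G => T) g) s ?_, IsOpenImmersion.lift_fac _ _ _⟩
    rintro _ ⟨p, rfl⟩
    rw [@Subsingleton.elim (PrimeSpectrum K) _ p (IsLocalRing.closedPoint K)]
    exact ⟨y, hy⟩
  obtain ⟨t⟩ := (inferInstance : Nonempty T)
  obtain ⟨K₀, _, _, a₀, -⟩ := Groth.Agent.QuotLib.exists_geom_point t
  have hle : Nat.card G ≤ n := by
    haveI := hfin K₀ (a₀ ≫ f)
    exact (Nat.card_le_card_of_injective _ (horb K₀ a₀)).trans_eq (hn K₀ (a₀ ≫ f))
  refine ⟨hle, fun hG => ?_, fun hd => ?_⟩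
  · haveI : Etale d := by
      refine IsZariskiLocalAtSource.sigmaDesc (P := @Etale) fun g => ?_
      haveI : Etale (pullback.lift (𝟙 T) (m g) ((Category.id_comp f).trans (hm g).symm) ≫ pullback.fst f f) := by
        rw [pullback.lift_fst]; infer_instance
      exact Etale.of_comp _ (pullback.fst f f)
    refine Groth.Agent.QuotLib.isIso_of_etale_of_geom_bijective d (fun K _ _ z => ?_) (fun K _ _ s s' h => ?_)
    · let a := z ≫ pullback.fst f f
      haveI := hfin K (a ≫ f)
      have hb : Function.Bijective (orb K a) :=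
        (Nat.bijective_iff_injective_and_card _).2 ⟨horb K a, hG.trans (hn K (a ≫ f)).symm⟩
      obtain ⟨g, hg⟩ := hb.2 ⟨z ≫ pullback.snd f f, by simp [a, pullback.condition]⟩
      refine ⟨a ≫ Sigma.ι (fun _ : G => T) g, pullback.hom_ext ?_ ?_⟩
      · rw [Category.assoc, hfst]
      · rw [Category.assoc, hsnd]
        exact congrArg Subtype.val hg
    · obtain ⟨g, a, rfl⟩ := hfac K s
      obtain ⟨g', a', rfl⟩ := hfac K s'
      have h1 := congrArg (· ≫ pullback.fst f f) h
      have h2 := congrArg (· ≫ pullback.snd f f) h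
      simp only [Category.assoc] at h1 h2
      rw [← Category.assoc a, hfst, ← Category.assoc a', hfst] at h1
      rw [← Category.assoc a, hsnd, ← Category.assoc a', hsnd, ← h1] at h2
      obtain rfl : g = g' := hinj K a h2
      rw [h1]
  · haveI : IsIso d := hd
    refine (Nat.card_eq_of_bijective (orb K₀ a₀) ⟨horb K₀ a₀, fun b => ?_⟩).trans (hn K₀ (a₀ ≫ f))
    obtain ⟨g, a, ha⟩ := hfac K₀ (pullback.lift a₀ b.1 b.2.symm ≫ inv d)
    have h1 := congrArg (fun s => s ≫ d ≫ pullback.fst f f) ha
    have h2 := congrArg (fun s => s ≫ d ≫ pullback.snd f f) ha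
    simp only [hfst, hsnd, Category.assoc, IsIso.inv_hom_id_assoc, pullback.lift_fst, pullback.lift_snd] at h1 h2
    exact ⟨g, Subtype.ext (by rw [← h2, h1])⟩

/-- Let Y → X be finite étale with Y nonempty and all geometric fibres of the same cardinality n, and
let a finite group G act on Y over X without fixed points (no point of Y with values in a field is
fixed by a non-identity element). Then G has at most n elements, and it has exactly n elements if
and only if the morphism from the disjoint union of copies of Y indexed by G to Y ×_X Y, given on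
the copy indexed by g by the identity and g, is an isomorphism. (For Y empty the bound fails, since
every finite group acts without fixed points on the empty cover, whose fibres have cardinality 0;
this row assumes Y nonempty.) -/
theorem result {X : Scheme.{u}} (Y : FEt.Cat X)
    [Nonempty ↥Y.left] (n : ℕ)
    (hn : ∀ (Ω : Type u) [Field Ω] [IsSepClosed Ω] (ξ : Spec (CommRingCat.of Ω) ⟶ X), Nat.card (FEt.fiberObj ξ Y) = n)
    (G : Type u) [Group G] [Finite G] (ρ : G →* Aut Y)
    (hfree : ∀ g : G, g ≠ 1 → ∀ (K : Type u) [Field K] (y : Spec (CommRingCat.of K) ⟶ Y.left),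
      y ≫ (ρ g).hom.left ≠ y) :
    Nat.card G ≤ n ∧
      (Nat.card G = n ↔ IsIso (Limits.Sigma.desc fun g : G =>
        pullback.lift (𝟙 Y.left) (ρ g).hom.left
          ((Category.id_comp Y.hom).trans (Over.w (ρ g).hom.hom).symm) : (∐ fun _ : G => Y.left) ⟶ pullback Y.hom Y.hom)) := by
  let f : Y.left ⟶ X := Y.hom
  haveI : Etale f := Y.prop.2
  refine core f n (fun K _ _ ξ => ?_) (fun K _ _ ξ => hn K ξ) (fun g => (ρ g).hom.left)
    (fun g => Over.w (ρ g).hom.hom) (fun K _ a g h e => ?_)
  · haveI := Groth.Agent.FEtLib.finite_fib ξ Y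
    exact Finite.of_equiv _ (Groth.Agent.FEtLib.fibEquiv ξ Y)
  · by_contra hne
    refine hfree (h * g⁻¹) (fun h0 => hne (mul_inv_eq_one.1 h0).symm) K (a ≫ (ρ g).hom.left) ?_
    have hmul : ρ (h * g⁻¹) * ρ g = ρ h := by rw [← map_mul, inv_mul_cancel_right]
    have hl : (ρ g).hom.left ≫ (ρ (h * g⁻¹)).hom.left = (ρ h).hom.left :=
      congrArg (fun t : Aut Y => t.hom.left) hmul
    rw [Category.assoc, hl]
    exact e.symm

end Groth.Agent.S14460
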