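import Groth.Statements.S14462
import Groth.Agent.EtaleCodimLib.Disc
import Mathlib
open CategoryTheory
-- import your own Groth.Agent.* helpers here

set_option autoImplicit false
universe u
open CategoryTheory AlgebraicGeometry
open Unram

namespace Groth.Agent.S14462

/-- Let f : X → Y be finite and flat with Y locally Noetherian, and let U ⊆ Y be open with every point
of the complement having a local ring of Krull dimension at least 2. If f is étale over U, then f is
étale. -/
theorem result {X Y : Scheme.{u}} [IsLocallyNoetherian Y]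
    (f : X ⟶ Y) [IsFinite f] [Flat f] (U : Y.Opens)
    (hU : ∀ y : Y, y ∉ U → (2 : WithBot ℕ∞) ≤ ringKrullDim (Y.presheaf.stalk y))
    [Etale (f ∣_ U)] : Etale f := by
  classical
  have ek : ∀ W : Y.Opens, IsAffineOpen W → (Etale (f ∣_ W) ↔ (f.app W).hom.Etale) := by
    intro W hW
    haveI : IsAffine W.toScheme := hW
    haveI : IsAffine (f ⁻¹ᵁ W).toScheme := hW.preimage f
    rw [← Scheme.Hom.resLE_eq_morphismRestrict, HasRingHomProperty.iff_of_isAffine (P := @Etale), Scheme.Hom.app_eq_appLE]
    exact RingHom.Etale.respectsIso.arrow_mk_iso_iff (arrowResLEAppIso f W _ le_rfl)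
  have key : ∀ V : Y.affineOpens, Etale (f ∣_ V.1) := by
    rintro ⟨V, hV⟩
    have hV' : IsAffineOpen (f ⁻¹ᵁ V) := hV.preimage f
    haveI : IsNoetherianRing Γ(Y, V) := IsLocallyNoetherian.component_noetherian ⟨V, hV⟩
    let A := Γ(Y, V)
    let B := Γ(X, f ⁻¹ᵁ V)
    letI : Algebra A B := (f.app V).hom.toAlgebra
    haveI : Module.Finite A B := f.finite_app V hV
    haveI : Module.Flat A B := by
      have := f.flat_appLE hV hV' le_rfl
      rwa [← f.app_eq_appLE] at this
    have hB : Algebra.Etale A B := EtaleCodimLib.etale_of_height_le_one A B fun p _ hp => by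
      let x : Y := hV.fromSpec.base ⟨p, inferInstance⟩
      have hxV : x ∈ V := by
        show x ∈ (V : Set Y)
        rw [← hV.range_fromSpec]
        exact ⟨_, rfl⟩
      have hpx : (hV.primeIdealOf ⟨x, hxV⟩).asIdeal = p := by
        have : hV.primeIdealOf ⟨x, hxV⟩ = ⟨p, inferInstance⟩ :=
          hV.fromSpec.isOpenEmbedding.injective (hV.fromSpec_primeIdealOf ⟨x, hxV⟩)
        rw [this]
      have hxU : x ∈ U := by
        by_contra hx
        letI := TopCat.Presheaf.algebra_section_stalk Y.presheaf ⟨x, hxV⟩
        haveI := hV.isLocalization_stalk ⟨x, hxV⟩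
        have h2 := hU x hx
        rw [IsLocalization.AtPrime.ringKrullDim_eq_height (hV.primeIdealOf ⟨x, hxV⟩).asIdeal (Y.presheaf.stalk x), hpx] at h2
        exact absurd (h2.trans (WithBot.coe_le_coe.2 hp)) (by decide)
      obtain ⟨g, hgU, hxg⟩ := hV.exists_basicOpen_le (V := U ⊓ V) ⟨x, hxU, hxV⟩ hxV
      have hgp : g ∉ p := fun h => by
        have h' : ⟨p, inferInstance⟩ ∈ hV.fromSpec ⁻¹ᵁ Y.basicOpen g := hxg
        rw [hV.fromSpec_preimage_basicOpen] at h'
        exact h' h
      haveI := hV.isLocalization_basicOpen g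
      haveI := hV'.isLocalization_basicOpen (f.app V g)
      haveI : IsLocalization.Away (algebraMap A B g) Γ(X, X.basicOpen (f.app V g)) :=
        hV'.isLocalization_basicOpen (f.app V g)
      have hle : Y.basicOpen g ≤ U := hgU.trans inf_le_left
      have sq : IsPullback (f ∣_ Y.basicOpen g) (X.homOfLE (f.preimage_mono hle)) (Y.homOfLE hle) (f ∣_ U) := by
        refine IsPullback.of_bot ?_ ?_ (isPullback_morphismRestrict f U)
        · simpa using isPullback_morphismRestrict f (Y.basicOpen g)
        · rw [← cancel_mono U.ι]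
          simp
      have happ : (f.app (Y.basicOpen g)).hom.Etale :=
        (ek _ (hV.basicOpen g)).1 (MorphismProperty.of_isPullback (P := @Etale) sq.flip (inferInstance : Etale (f ∣_ U)))
      exact EtaleCodimLib.etale_atPrime_of_away A B Γ(Y, Y.basicOpen g) Γ(X, X.basicOpen (f.app V g)) g
        (IsLocalization.Away.map Γ(Y, Y.basicOpen g) Γ(X, X.basicOpen (f.app V g)) (f.app V).hom g)
        ((RingHom.Etale.respectsIso.arrow_mk_iso_iff (hV.appBasicOpenIsoAwayMap f hV' g)).1 happ)
        (fun a => IsLocalization.map_eq _ a) p hgp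
    exact (ek V hV).2 hB
  exact IsZariskiLocalAtTarget.of_iSup_eq_top _ (iSup_affineOpens_eq_top Y) key

end Groth.Agent.S14462
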