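import Groth.Statements.S14469
import Groth.Agent.CurveFamLib.Omega
import Groth.Agent.GenBCLib.RankGoal
import Groth.Agent.GenBCLib.Near
import Groth.Agent.GenBCLib.Helpers
import Groth.Agent.BCLib.SteinFlat
-- import your own Groth.Agent.* helpers here

set_option autoImplicit false
set_option backward.isDefEq.respectTransparency false
set_option linter.style.haveILetI false
universe u
open CategoryTheory CategoryTheory.Limits AlgebraicGeometry
open Curves

namespace Groth.Agent.S14469

/-- Let f : C → S be a proper smooth morphism of schemes whose fibres are geometrically connected, of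
dimension one and of genus g ≥ 2 (g the dimension of H¹ of the structure sheaf of each fibre over
its residue field), i.e. a family of smooth curves of genus g, and let n ≥ 2. Then f_*(Ω_{C/S}^{⊗n})
is finite locally free of rank (2n - 1)(g - 1) and R^i f_*(Ω_{C/S}^{⊗n}) = 0 for every i ≥ 1. (The
published statement also asserts that the formation of f_*(Ω_{C/S}^{⊗n}) commutes with every base
change S' → S; this row does not restate that clause.) -/
theorem result {C S : Scheme.{u}} (f : C ⟶ S)
    [IsProper f] [Smooth f] [GeometricallyConnected f]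
    (hdim : ∀ s : S, topologicalKrullDim ↥(f.fiber s) = 1) (g : ℕ) (hg : 2 ≤ g)
    (hgen : ∀ s : S, letI : (f.fiber s).Over (Spec (S.residueField s)) := ⟨f.fiberToSpecResidueField s⟩
      Curv2.genus (S.residueField s) (f.fiber s) = g)
    [HasInjectiveResolutions C.Modules] (n : ℕ) (hn : 2 ≤ n) :
    FlatMod.IsFinLocFreeOfRank ((2 * n - 1) * (g - 1)) ((Coh.push f).obj (CohB1.tensorPow (Omega.sheaf f) n)) ∧
      ∀ i : ℕ, 1 ≤ i → IsZero ((Coh.Rpush f i).obj (CohB1.tensorPow (Omega.sheaf f) n)) := by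
  let F := CohB1.tensorPow (Omega.sheaf f) n
  have hinv := Groth.Agent.AmpleLib.isInvertible_tensorPow (Groth.Agent.CurveFamLib.isInvertible_omega f hdim) n
  have hlf := Groth.Agent.CurveLib.isFinLocFree_of_isInvertible hinv
  obtain ⟨hq, hfp⟩ := Groth.Agent.PullbackMod.isQCoh_and_isFP_of_isFinLocFree _ hlf
  haveI : Coh.IsQCoh F := hq
  have hfl : FlatMod.IsFlatOver f F := Groth.Agent.TildePerf.isFlatOver_of_isFinLocFree _ hlf
  have key : ∀ s : S, ∃ (V : S.Opens) (D : Groth.Agent.GenBCLib.Dat f F V) (a : Γ(S, V)),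
      s ∈ S.basicOpen a ∧ D.L.Good a 0 ∧ ∀ x : ↥(LinearMap.ker (D.L.d 1)), a • x.1 ∈ D.L.bd 1 := fun s => by
    obtain ⟨V, D, hs⟩ := Groth.Agent.GenBCLib.exists_dat_at hfp hfl s
    obtain ⟨a, ha, -, hsa, hka⟩ := D.exists_vanish hs (n := 1)
      (Groth.Agent.CurveFamLib.fibre_tensorPow f hdim g hgen hg n hn s).1
    exact ⟨V, D, a, ha, hsa, hka⟩
  refine ⟨Groth.Agent.GenBCLib.isFinLocFreeOfRank_of_ptGood _ fun s => ?_, fun i hi => ?_⟩
  · obtain ⟨V, D, a, ha, hga, -⟩ := key s
    refine ⟨⟨V, D, a, ha, hga⟩, ?_⟩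
    rw [← (Groth.Agent.CurveFamLib.fibre_tensorPow f hdim g hgen hg n hn s).2]
    exact D.freeAt_of_good ha hga
  · refine Groth.Agent.GenBCLib.isZero_of_nhds _ fun s => ?_
    rcases Nat.eq_or_lt_of_le hi with rfl | hi2
    · obtain ⟨V, D, a, ha, -, hka⟩ := key s
      exact ⟨_, ha, D.isZero_basicOpen le_rfl hka⟩
    · obtain ⟨V, D, hs⟩ := Groth.Agent.GenBCLib.exists_dat_at hfp hfl s
      obtain ⟨a, ha, -, -, hka⟩ := D.exists_vanish hs
        (Groth.Agent.GenBCLib.subsingleton_fiberH_of_dim f F 1 s (hdim s).le (i := i) hi2)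
      exact ⟨_, ha, D.isZero_basicOpen le_rfl hka⟩

end Groth.Agent.S14469
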