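import Groth.Statements.S14471
import Groth.Agent.CurveFF.LinSer
import Groth.Agent.FF.Clifford

set_option autoImplicit false
universe u
open CategoryTheory CategoryTheory.Limits AlgebraicGeometry
open Curves

namespace Groth.Agent.S14471

attribute [local instance] Curv2.stalkAlgebra
attribute [local instance high] FunFld.Place.algRes
set_option backward.isDefEq.respectTransparency false
set_option maxHeartbeats 800000
open TopologicalSpace

/-- Let k be an algebraically closed field, C a smooth proper curve over k (proper and smooth over k,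
integral, of dimension one), (L, s_0, …, s_r) a linear series g^r_d on C (L an invertible module of
degree d with k-linearly independent global sections s_0, …, s_r spanning a subspace V of Γ(C, L))
and p a closed point of C. For a nonzero σ ∈ V write ord_p σ for the length of the O_{C,p}-module
L_p/(σ_p), the order of vanishing of σ at p. Then σ ↦ ord_p σ takes exactly r + 1 distinct values on
V minus 0. (The published statement is for a smooth projective curve over the complex numbers and a
complex point p; this row states it over any algebraically closed field.) -/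
theorem result (k : Type u) [Field k] [IsAlgClosed k]
    (C : Scheme.{u}) [C.Over (Spec (CommRingCat.of k))] (hC : Curve.IsSmoothProperCurve k C (C ↘ (Spec (CommRingCat.of k))))
    (L : C.Modules) (d r : ℕ) (s : Fin (r + 1) → LinSer.Sect C L) (hL : LinSer.IsLinSer k C L d r s)
    (p : C) (hp : IsClosed ({p} : Set C)) :
    Set.ncard ((fun c : Fin (r + 1) → k =>
        Module.length (C.presheaf.stalk p)
          (↥(L.presheaf.stalk p) ⧸ Submodule.span (C.presheaf.stalk p)
            {(L.presheaf.germ ⊤ p trivial) (∑ i, (Coh.toGlobal (C ↘ Spec (CommRingCat.of k)) (c i)) • s i)})) ''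
        {c : Fin (r + 1) → k | c ≠ 0}) = r + 1 := by
  obtain ⟨hpr, hsm, hint, hdim⟩ := hC
  haveI := hpr; haveI := hint; haveI := hsm
  haveI := Groth.Agent.VBLib.isRegCurve_of_smooth (X := C) k hdim.le
  have h0 := Groth.Agent.CurveFF.h0_eq_one (X := C) k hdim
  haveI := Groth.Agent.CurveFF.isDVR k hdim hp
  obtain ⟨hLinv, -, hli⟩ := hL
  let η := genericPoint C
  obtain ⟨e, he⟩ := Groth.Agent.CurveFF.exists_base hLinv
  obtain ⟨D, hD⟩ := Groth.Agent.CurveFF.exists_isDiv hdim h0 hLinv he
  let E := Equiv.ofBijective _ he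
  have hE : ∀ w, (E.symm w : C.presheaf.stalk η) • e = w := fun w => E.apply_symm_apply w
  let σ : (Fin (r + 1) → k) → LinSer.Sect C L := fun c =>
    ∑ i, (Coh.toGlobal (C ↘ Spec (CommRingCat.of k)) (c i)) • s i
  let φ : (Fin (r + 1) → k) →ₗ[k] C.functionField :=
    { toFun := fun c => E.symm (L.presheaf.germ ⊤ η trivial (σ c))
      map_add' := fun a b => he.1 (by
        show _ • e = (_ + _ : C.presheaf.stalk η) • e
        rw [add_smul, hE, hE, hE, ← map_add]
        congr 1
        simp [σ, add_smul, Finset.sum_add_distrib])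
      map_smul' := fun c a => he.1 (by
        show _ • e = ((c • E.symm (L.presheaf.germ ⊤ η trivial (σ a)) : C.functionField) :
          C.presheaf.stalk η) • e
        have hσ : σ (c • a) = (Coh.toGlobal (C ↘ Spec (CommRingCat.of k)) c) • σ a := by
          simp [σ, Finset.smul_sum, smul_smul]
        rw [hE, hσ, Groth.Agent.ParaFLib.germ_smul', Algebra.smul_def]
        exact (congrArg (Curv2.stalkMap k C η c • ·) (hE _).symm).trans (smul_smul _ _ _)) }
  have hφ : Function.Injective φ := by
    refine (injective_iff_map_eq_zero φ).2 fun c hc => hli c ?_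
    have h1 : L.presheaf.germ ⊤ η trivial (σ c) = 0 := by
      rw [← hE (L.presheaf.germ ⊤ η trivial (σ c))]
      show (φ c : C.presheaf.stalk η) • e = 0
      rw [hc]; exact zero_smul _ _
    exact Groth.Agent.ParaFLib.eq_zero_of_germ_generic hLinv (σ c) fun _ => h1
  have hspec : ∀ (x : C) (c), Groth.Agent.CurveFF.spec L x (L.presheaf.germ ⊤ x trivial (σ c)) = (φ c : C.presheaf.stalk η) • e :=
    fun x c => (Groth.Agent.CurveFF.spec_germ L (U := ⊤) trivial trivial _).trans (hE _).symm
  let W := LinearMap.range φ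
  have hWr : Module.finrank k W = r + 1 := by
    rw [LinearMap.finrank_range_of_inj hφ, Module.finrank_fin_fun]
  have hW : W ≤ FunFld.L D := by
    rintro _ ⟨c, rfl⟩
    refine fun P => ?_
    obtain ⟨x, hx, rfl⟩ := Groth.Agent.CurveFF.placeOf_surjective hdim P
    exact (hD x hx _).1 ⟨_, hspec x c⟩
  obtain ⟨U, t, hpU, ht⟩ := Groth.Agent.ParaFLib.exists_gen_nhd hLinv p
  obtain ⟨a, ha0, ha⟩ := Groth.Agent.CurveFF.exists_inStalk_iff he ht hpU
  let P := Groth.Agent.CurveFF.placeOf k hdim p hp
  let R := C.presheaf.stalk p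
  let T : R ≃ₗ[R] L.presheaf.stalk p :=
    LinearEquiv.ofBijective (LinearMap.toSpanSingleton R _ (L.presheaf.germ U p hpU t)) (ht.bijective_germ p hpU)
  obtain ⟨ϖ, hϖ⟩ := IsDiscreteValuationRing.exists_irreducible R
  have hv0 : P.1 (algebraMap R C.functionField ϖ) ≠ 0 :=
    (map_ne_zero _).2 ((map_ne_zero_iff _ (IsFractionRing.injective R C.functionField)).2 hϖ.ne_zero)
  have hv1 : P.1 (algebraMap R C.functionField ϖ) < 1 := by
    refine lt_of_le_of_ne ((Groth.Agent.CurveFF.placeOf_le_one_iff hdim hp _).2 ⟨ϖ, rfl⟩) fun h1 => hϖ.not_isUnit ?_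
    obtain ⟨y, hy⟩ := (Groth.Agent.CurveFF.placeOf_le_one_iff hdim hp (algebraMap R C.functionField ϖ)⁻¹).1
      (by rw [map_inv₀]; exact le_of_eq (by rw [show P.1 _ = 1 from h1, inv_one]))
    exact IsUnit.of_mul_eq_one y (IsFractionRing.injective R C.functionField (by
      rw [map_mul, hy, map_one, mul_inv_cancel₀ ((map_ne_zero_iff _ (IsFractionRing.injective R C.functionField)).2 hϖ.ne_zero)]))
  have hlen : ∀ c : Fin (r + 1) → k, c ≠ 0 → ∃ n : ℕ,
      Module.length R (↥(L.presheaf.stalk p) ⧸ Submodule.span R {L.presheaf.germ ⊤ p trivial (σ c)}) = n ∧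
      P.ord (φ c) = P.ord a + n * P.ord (algebraMap R C.functionField ϖ) := by
    intro c hc
    have hφc : φ c ≠ 0 := fun h => hc (hφ (h.trans (map_zero φ).symm))
    obtain ⟨r', hr'⟩ := T.surjective (L.presheaf.germ ⊤ p trivial (σ c))
    have hf : algebraMap R C.functionField r' * a = φ c := by
      refine he.1 ?_
      show _ • e = _ • e
      rw [← hspec p c, ← hr']
      show _ = Groth.Agent.CurveFF.spec L p (r' • L.presheaf.germ U p hpU t)
      rw [Groth.Agent.CurveFF.spec_smul, Groth.Agent.CurveFF.spec_germ L hpU (Groth.Agent.CurveFF.generic_mem hpU), ha, smul_smul]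
    have hr0 : r' ≠ 0 := fun h => hφc (by rw [← hf, h, map_zero, zero_mul])
    obtain ⟨n, u, rfl⟩ := IsDiscreteValuationRing.eq_unit_mul_pow_irreducible hr0 hϖ
    refine ⟨n, ?_, ?_⟩
    · rw [← hr']
      have hmap : (Submodule.span R {(u : R) * ϖ ^ n}).map (T : R →ₗ[R] L.presheaf.stalk p) = Submodule.span R {T ((u : R) * ϖ ^ n)} := by
        rw [Submodule.map_span, Set.image_singleton]; rfl
      rw [← (Submodule.Quotient.equiv _ _ T hmap).length_eq]
      show Ring.ord R ((u : R) * ϖ ^ n) = n
      rw [Ring.ord_mul_of_isUnit_left u.isUnit, Ring.ord_pow (mem_nonZeroDivisors_of_ne_zero hϖ.ne_zero),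
        Ring.ord_of_irreducible hϖ, nsmul_one]
    · rw [← hf]
      have hu : P.ord (algebraMap R C.functionField (u : R)) = 0 := by
        have h1 : P.1 (algebraMap R C.functionField (u : R)) ≤ 1 := (Groth.Agent.CurveFF.placeOf_le_one_iff hdim hp _).2 ⟨_, rfl⟩
        have h2 : P.1 (algebraMap R C.functionField ((u⁻¹ : Rˣ) : R)) ≤ 1 := (Groth.Agent.CurveFF.placeOf_le_one_iff hdim hp _).2 ⟨_, rfl⟩
        have h3 : P.1 (algebraMap R C.functionField (u : R)) * P.1 (algebraMap R C.functionField ((u⁻¹ : Rˣ) : R)) = 1 := by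
          rw [← map_mul, ← map_mul, Units.mul_inv, map_one, map_one]
        have h4 : P.1 (algebraMap R C.functionField (u : R)) = 1 :=
          le_antisymm h1 (h3.symm.le.trans (mul_le_of_le_one_right' h2))
        simp [FunFld.Place.ord, h4]
      have hne : ∀ m : ℕ, algebraMap R C.functionField (ϖ ^ m) ≠ 0 := fun m =>
        (map_ne_zero_iff _ (IsFractionRing.injective R C.functionField)).2 (pow_ne_zero _ hϖ.ne_zero)
      have hpow : ∀ m : ℕ, P.ord (algebraMap R C.functionField (ϖ ^ m)) = m * P.ord (algebraMap R C.functionField ϖ) := by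
        intro m
        induction m with
        | zero => simp [FunFld.Place.ord]
        | succ m ih =>
          rw [pow_succ, map_mul, Groth.Agent.FF.ord_mul P (hne m) (by simpa using hne 1), ih]
          push_cast; ring
      rw [map_mul, Groth.Agent.FF.ord_mul P (mul_ne_zero ((map_ne_zero_iff _ (IsFractionRing.injective R C.functionField)).2 u.isUnit.ne_zero) (hne n)) ha0,
        Groth.Agent.FF.ord_mul P ((map_ne_zero_iff _ (IsFractionRing.injective R C.functionField)).2 u.isUnit.ne_zero) (hne n), hu, hpow]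
      ring
  have hπ : P.ord (algebraMap R C.functionField ϖ) ≠ 0 := fun h => hv1.ne (by
    rw [Groth.Agent.FF.v_eq_exp P (fun h' => hv0 (by rw [h', map_zero])), h]; simp)
  set O : Set ℤ := (fun f => P.ord f) '' {f | f ∈ W ∧ f ≠ 0} with hOdef
  haveI : FiniteDimensional k W := LinearMap.finiteDimensional_range φ
  have hO : O.ncard = r + 1 := by
    obtain ⟨q, hq, hqi⟩ := Groth.Agent.FF.exists_ord_family (Groth.Agent.CurveFF.isFF k hdim) hW P
    have hfin : ∀ S : Finset ℤ, (S : Set ℤ) ⊆ O → S.card ≤ r + 1 := by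
      intro S hS
      have h1 : ∀ i : S, ∃ f, f ∈ W ∧ f ≠ 0 ∧ P.ord f = i := fun i => by
        obtain ⟨f, ⟨hf, hf0⟩, hfo⟩ := hS i.2
        exact ⟨f, hf, hf0, hfo⟩
      choose f hfW hf0 hfo using h1
      have hli' : LinearIndependent k (fun i => (⟨f i, hfW i⟩ : W)) :=
        LinearIndependent.of_comp W.subtype (Groth.Agent.FF.linearIndependent_of_ord P _ hf0 fun i j h => by
          apply Subtype.ext; simpa [hfo] using h)
      have h2 := hli'.fintype_card_le_finrank
      rwa [Fintype.card_coe, hWr] at h2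
    have hfinO : O.Finite := by
      by_contra hinf
      obtain ⟨S, hS, hc⟩ := Set.Infinite.exists_subset_card_eq hinf (r + 2)
      have := hfin S hS
      omega
    refine le_antisymm ?_ ?_
    · rw [Set.ncard_eq_toFinset_card _ hfinO]
      exact hfin _ (by rw [Set.Finite.coe_toFinset])
    · have : (Set.range fun i => P.ord (q i)).ncard = r + 1 := by
        rw [Set.ncard_range_of_injective hqi, Nat.card_eq_fintype_card, Fintype.card_fin, hWr]
      rw [← this]
      exact Set.ncard_le_ncard (by rintro _ ⟨i, rfl⟩; exact ⟨q i, hq i, rfl⟩) hfinO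
  refine Eq.trans ?_ hO
  let g : ℕ∞ → ℤ := fun n => P.ord a + (n.toNat : ℤ) * P.ord (algebraMap R C.functionField ϖ)
  have himg : O = g '' ((fun c : Fin (r + 1) → k =>
        Module.length R (↥(L.presheaf.stalk p) ⧸ Submodule.span R {L.presheaf.germ ⊤ p trivial (σ c)})) ''
        {c | c ≠ 0}) := by
    ext z
    constructor
    · rintro ⟨_, ⟨⟨c, rfl⟩, hc⟩, rfl⟩
      have hc0 : c ≠ 0 := fun h => hc (by rw [h, map_zero])
      obtain ⟨n, hn, hn'⟩ := hlen c hc0
      exact ⟨_, ⟨c, hc0, rfl⟩, by simp only [g, hn, ENat.toNat_natCast, hn']⟩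
    · rintro ⟨_, ⟨c, hc0, rfl⟩, rfl⟩
      obtain ⟨n, hn, hn'⟩ := hlen c hc0
      exact ⟨φ c, ⟨⟨c, rfl⟩, fun h => hc0 (hφ (h.trans (map_zero φ).symm))⟩, by simp only [g, hn, ENat.toNat_natCast, hn']⟩
  rw [himg]
  refine (Set.InjOn.ncard_image ?_).symm
  rintro _ ⟨c, hc, rfl⟩ _ ⟨c', hc', rfl⟩ h
  obtain ⟨n, hn, -⟩ := hlen c hc
  obtain ⟨n', hn', -⟩ := hlen c' hc'
  have h2 : g n = g n' := (congrArg g hn).symm.trans (h.trans (congrArg g hn'))
  simp only [g, ENat.toNat_natCast] at h2
  have : (n : ℤ) = n' := mul_right_cancel₀ hπ (by linarith)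
  exact hn.trans ((congrArg Nat.cast (Int.ofNat_inj.1 this)).trans hn'.symm)

end Groth.Agent.S14471
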