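import Groth.Statements.S14473
import Groth.Agent.CurveFF.GenusOneInv
import Groth.Agent.CurveFF.DoubleG12

set_option autoImplicit false
universe u
open CategoryTheory CategoryTheory.Limits AlgebraicGeometry
open Curves

namespace Groth.Agent.S14473

attribute [local instance] Curv2.stalkAlgebra
attribute [local instance high] FunFld.Place.algRes

/-- Let k be an algebraically closed field and C a smooth proper connected curve over k (proper and
smooth over k, integral, of dimension one) of genus 1, the genus being the dimension of H¹(C, O_C).
Then the group of k-automorphisms of C is infinite: there are infinitely many automorphisms of the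
scheme C over Spec k. -/
theorem result (k : Type u) [Field k] [IsAlgClosed k]
    (C : Scheme.{u}) [C.Over (Spec (CommRingCat.of k))] (hC : Curve.IsSmoothProperCurve k C (C ↘ (Spec (CommRingCat.of k))))
    (hg : Curv2.genus k C = 1) :
    Infinite {e : C ≅ C // e.hom ≫ (C ↘ (Spec (CommRingCat.of k))) = C ↘ (Spec (CommRingCat.of k))} := by
  obtain ⟨hp, hs, hi, hdim⟩ := hC
  haveI := hp; haveI := hs; haveI := hi
  haveI := Groth.Agent.VBLib.isRegCurve_of_smooth (X := C) k hdim.le
  have h0 : Module.finrank k (Coh.HH C (Coh.structureModule C) 0) = 1 := Groth.Agent.CurveLib.finrank_H0_structure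
  haveI := Groth.Agent.CurveFF.infinite_places (Groth.Agent.CurveFF.isFunctionField k hdim h0)
  haveI : Infinite {x : C // IsClosed ({x} : Set C)} :=
    (Groth.Agent.CurveFF.placeEquiv (k := k) hdim).infinite_iff.2 inferInstance
  obtain ⟨P, hP⟩ := (inferInstance : Nonempty {x : C // IsClosed ({x} : Set C)})
  choose σ hσ _ hσP _ using fun Q : {x : C // IsClosed ({x} : Set C)} =>
    Groth.Agent.CurveFF.exists_swap hdim hg hP Q.2
  refine Infinite.of_injective (fun Q => ⟨σ Q, hσ Q⟩) fun Q Q' h => Subtype.ext ?_
  rw [← hσP Q, ← hσP Q', (Subtype.mk.injEq _ _ _ _).mp h]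

end Groth.Agent.S14473
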