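import Groth.Statements.S14474
import Groth.Agent.NodePtLib.Open

set_option autoImplicit false
universe u
open CategoryTheory CategoryTheory.Limits AlgebraicGeometry
open Curves

namespace Groth.Agent.S14474

open CategoryTheory CategoryTheory.Limits AlgebraicGeometry

open Groth.Agent
set_option backward.isDefEq.respectTransparency false

/-- Let π : C → S be a proper, flat morphism of finite presentation all of whose fibres have every
irreducible component of dimension one (every geometric fibre is a curve). Then the set of points s
of S such that the fibre C_s, as a scheme over κ(s), has at-worst-nodal singularities (each closed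
point has a smooth open neighbourhood or is a node) is open in S. -/
theorem result {C S : Scheme.{u}} (π : C ⟶ S)
    [IsProper π] [Flat π] [LocallyOfFinitePresentation π]
    (hfib : ∀ s : S, ∀ Z ∈ irreducibleComponents (↥(π.fiber s) : Type u), topologicalKrullDim Z = 1) :
    IsOpen {s : S | letI : (π.fiber s).Over (Spec (S.residueField s)) := ⟨π.fiberToSpecResidueField s⟩
      Curv2.AtWorstNodal (S.residueField s) (π.fiber s)} := by
  classical
  have hopen := NodePtLib.isOpen_goodPt π hfib
  suffices h : {s : S | letI : (π.fiber s).Over (Spec (S.residueField s)) := ⟨π.fiberToSpecResidueField s⟩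
      Curv2.AtWorstNodal (S.residueField s) (π.fiber s)} = (π.base '' {p | NodePtLib.GoodPt π p}ᶜ)ᶜ by
    rw [h]
    exact (π.isClosedMap _ hopen.isClosed_compl).isOpen_compl
  ext s
  letI : (π.fiber s).Over (Spec (CommRingCat.of (S.residueField s))) := ⟨π.fiberToSpecResidueField s⟩
  haveI : LocallyOfFiniteType (π.fiber s ↘ Spec (CommRingCat.of (S.residueField s))) :=
    inferInstanceAs (LocallyOfFiniteType (pullback.snd π _))
  constructor
  · rintro h ⟨p, hp, hps⟩
    refine hp ?_
    subst hps
    rcases NodePtLib.smooth_or_node_at (k := S.residueField (π.base p)) (hfib _) h (π.asFiber p) with hs | hn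
    · have h' := (NodePtLib.smooth_fibre_iff π _ (π.asFiber p)).2 hs
      rw [π.fiberι_asFiber] at h'
      exact Or.inl h'
    · exact Or.inr hn
  · intro h x hx
    by_contra hbad
    refine h ⟨π.fiberι s x, fun hg => hbad ?_, ?_⟩
    · have hs : π.base (π.fiberι s x) = s := by
        have : π.fiberι s x ∈ π ⁻¹' {s} := by rw [← π.range_fiberι s]; exact ⟨x, rfl⟩
        exact this
      rcases hg with hg | hg
      · exact Or.inl ((NodePtLib.smooth_fibre_iff π s x).1 hg)
      · have gen : ∀ (s' : S) (_ : s' = s) (c : π.fiber s'), π.fiberι s' c = π.fiberι s x →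
            @Curv2.IsNode (S.residueField s') _ (π.fiber s') ⟨π.fiberToSpecResidueField s'⟩ c →
            Curv2.IsNode (S.residueField s) (π.fiber s) x := by
          intro s' e c hc hn
          subst e
          obtain rfl := (π.fiberι _).isEmbedding.injective hc
          exact hn
        exact Or.inr (gen _ hs _ (π.fiberι_asFiber _) hg)
    · have : π.fiberι s x ∈ π ⁻¹' {s} := by rw [← π.range_fiberι s]; exact ⟨x, rfl⟩
      exact this

end Groth.Agent.S14474
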