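import Groth.Statements.S14477
import Mathlib

set_option autoImplicit false
universe u
open KaehlerDifferential
open LocInt

namespace Groth.Agent.S14477

/-- A local frame of a projective module of constant rank, spread out over the ring. -/
theorem exists_frame {B : Type u} [CommRing B] {M : Type u} [AddCommGroup M] [Module B M]
    [Module.Finite B M] [Module.Projective B M] (n : ℕ) (p : PrimeSpectrum B)
    (hn : Module.rankAtStalk M p = n) :
    ∃ (e : Fin n → M) (s : B) (γ : M →ₗ[B] Fin n → B),
      (∀ x, s • x = ∑ i, γ x i • e i) ∧ s ∉ p.asIdeal ∧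
        Matrix.det (Matrix.of fun i j => γ (e j) i) ∉ p.asIdeal := by
  classical
  let S := p.asIdeal.primeCompl
  haveI : Module.Free (Localization.AtPrime p.asIdeal) (LocalizedModule S M) :=
    Module.free_of_flat_of_isLocalRing
  let b : Module.Basis (Fin n) (Localization.AtPrime p.asIdeal) (LocalizedModule S M) :=
    Module.finBasisOfFinrankEq _ _ hn
  let f := LocalizedModule.mkLinearMap S M
  choose t ht using fun i => IsLocalizedModule.surj S f (b i)
  let e : Fin n → M := fun i => (t i).1
  have hfe : ∀ i, f (e i) = ((t i).2 : B) • b i := fun i => (ht i).symm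
  have hind : ∀ c : Fin n → B, ∑ i, c i • e i = 0 → ∀ i, c i ∈ p.asIdeal := by
    intro c hc i
    have h1 := congrArg f hc
    rw [map_sum, map_zero] at h1
    simp only [map_smul, hfe, smul_smul] at h1
    have h2 : ∑ j, (algebraMap B (Localization.AtPrime p.asIdeal) (c j * (t j).2)) • b j = 0 := by
      rw [← h1]
      exact Finset.sum_congr rfl fun j _ => algebraMap_smul _ _ _
    have h3 := Fintype.linearIndependent_iff.mp b.linearIndependent _ h2 i
    obtain ⟨u, hu⟩ := (IsLocalization.map_eq_zero_iff S _ _).mp h3
    have h4 : (u : B) * (c i * (t i).2) ∈ p.asIdeal := by rw [hu]; exact zero_mem _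
    have h5 := (p.isPrime.mem_or_mem h4).resolve_left u.2
    exact (p.isPrime.mem_or_mem h5).resolve_right (t i).2.2
  have hspan : ∀ x, ∃ u : B, u ∉ p.asIdeal ∧ u • x ∈ Submodule.span B (Set.range e) := by
    intro x
    choose T hT using fun i => IsLocalization.surj S (b.repr (f x) i)
    let P : B := ∏ i, ((T i).2 : B)
    let Q : B := ∏ i, ((t i).2 : B)
    have hP : P ∈ S := Submonoid.prod_mem _ fun i _ => (T i).2.2
    have hQ : Q ∈ S := Submonoid.prod_mem _ fun i _ => (t i).2.2
    let a : Fin n → B := fun i =>
      (T i).1 * (∏ j ∈ Finset.univ.erase i, ((T j).2 : B)) * ∏ j ∈ Finset.univ.erase i, ((t j).2 : B)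
    have hfx : f ((P * Q) • x) = f (∑ i, a i • e i) := by
      rw [map_smul, map_sum]
      conv_lhs => rw [← b.sum_repr (f x), Finset.smul_sum]
      refine Finset.sum_congr rfl fun i _ => ?_
      rw [map_smul, hfe, smul_smul, ← algebraMap_smul (Localization.AtPrime p.asIdeal) (P * Q),
        ← algebraMap_smul (Localization.AtPrime p.asIdeal) (a i * (t i).2), smul_smul]
      congr 1
      have hPQ : P * Q = ((T i).2 : B) * ((∏ j ∈ Finset.univ.erase i, ((T j).2 : B)) *
          ∏ j ∈ Finset.univ.erase i, ((t j).2 : B)) * ((t i).2 : B) := by
        show (∏ i, ((T i).2 : B)) * (∏ i, ((t i).2 : B)) = _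
        rw [← Finset.mul_prod_erase _ (fun j => ((T j).2 : B)) (Finset.mem_univ i),
          ← Finset.mul_prod_erase _ (fun j => ((t j).2 : B)) (Finset.mem_univ i)]
        ring
      rw [hPQ]
      simp only [a, map_mul]
      rw [← hT i]
      ring
    obtain ⟨c, hc⟩ := IsLocalizedModule.exists_of_eq (S := S) hfx
    refine ⟨(c : B) * (P * Q), S.mul_mem c.2 (S.mul_mem hP hQ), ?_⟩
    rw [mul_smul, show (c : B) • ((P * Q) • x) = c • ((P * Q) • x) from rfl, hc]
    exact Submodule.smul_mem _ _ (Submodule.sum_mem _ fun i _ =>
      Submodule.smul_mem _ _ (Submodule.subset_span ⟨i, rfl⟩))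
  obtain ⟨G, hG⟩ := Module.Finite.fg_top (R := B) (M := M)
  choose u hu hux using hspan
  let s : B := ∏ x ∈ G, u x
  have hs : s ∉ p.asIdeal := Submonoid.prod_mem S (t := G) (f := u) fun x _ => hu x
  have hsx : ∀ x, s • x ∈ Submodule.span B (Set.range e) := by
    intro x
    have hx : x ∈ Submodule.span B (G : Set M) := by rw [hG]; exact Submodule.mem_top
    induction hx using Submodule.span_induction with
    | mem y hy =>
      show (∏ x ∈ G, u x) • y ∈ _
      rw [← Finset.mul_prod_erase _ _ (Finset.mem_coe.mp hy), mul_comm, mul_smul]
      exact Submodule.smul_mem _ _ (hux y)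
    | zero => rw [smul_zero]; exact zero_mem _
    | add a b _ _ ha hb => rw [smul_add]; exact add_mem ha hb
    | smul c a _ ha => rw [smul_comm]; exact Submodule.smul_mem _ _ ha
  let E : (Fin n → B) →ₗ[B] M := Fintype.linearCombination B e
  obtain ⟨γ, hγ⟩ := Module.projective_lifting_property E.rangeRestrict
    ((s • LinearMap.id : M →ₗ[B] M).codRestrict _ (fun x => by
      show s • x ∈ LinearMap.range E
      rw [Fintype.range_linearCombination]
      exact hsx x)) E.surjective_rangeRestrict
  have hγx : ∀ x, s • x = ∑ i, γ x i • e i := fun x =>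
    (congrArg Subtype.val (LinearMap.congr_fun hγ x)).symm.trans
      (Fintype.linearCombination_apply B e (γ x))
  refine ⟨e, s, γ, hγx, hs, fun hdet => hs ?_⟩
  have hmod : (Ideal.Quotient.mk p.asIdeal).mapMatrix (Matrix.of fun i j => γ (e j) i)
      = Matrix.diagonal fun _ : Fin n => Ideal.Quotient.mk p.asIdeal s := by
    ext i j
    rw [Matrix.diagonal_apply]
    show Ideal.Quotient.mk p.asIdeal (γ (e j) i) = _
    have h0 : ∑ k, (γ (e j) k - if k = j then s else 0) • e k = 0 := by
      simp only [sub_smul, Finset.sum_sub_distrib, ← hγx, ite_smul, zero_smul,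
        Finset.sum_ite_eq', Finset.mem_univ, if_true, sub_self]
    have h1 := Ideal.Quotient.eq.mpr (hind _ h0 i |> fun h => (show γ (e j) i - (if i = j then s else 0) ∈ p.asIdeal from h))
    rw [h1]
    split_ifs <;> simp
  have h2 := congrArg Matrix.det hmod
  rw [← RingHom.map_det, Matrix.det_diagonal, Ideal.Quotient.eq_zero_iff_mem.mpr hdet,
    Finset.prod_const, eq_comm] at h2
  exact Ideal.Quotient.eq_zero_iff_mem.mp (IsReduced.eq_zero _ ⟨_, h2⟩)

/-- on `n` vectors the top exterior power of a free module is one dimensional -/
theorem iota_eq_det_smul {R : Type u} [CommRing R] {M : Type u} [AddCommGroup M] [Module R M] (n : ℕ)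
    (E : Fin n → M) (C : Fin n → Fin n → R) :
    exteriorPower.ιMulti R n (fun j => ∑ i, C j i • E i)
      = (Pi.basisFun R (Fin n)).det C • exteriorPower.ιMulti R n E := by
  classical
  let P : (Fin n → R) →ₗ[R] M := Fintype.linearCombination R E
  have h : (exteriorPower.ιMulti R n).compLinearMap P
      = (LinearMap.toSpanSingleton R _ (exteriorPower.ιMulti R n E)).compAlternatingMap
        (Pi.basisFun R (Fin n)).det := by
    refine (Pi.basisFun R (Fin n)).ext_alternating fun σ hσ => ?_
    let τ : Equiv.Perm (Fin n) := Equiv.ofBijective σ (Finite.injective_iff_bijective.mp hσ)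
    have h1 : (fun i => Pi.basisFun R (Fin n) (σ i)) = (fun i => Pi.basisFun R (Fin n) i) ∘ τ := rfl
    rw [h1, AlternatingMap.map_perm, AlternatingMap.map_perm]
    congr 1
    show exteriorPower.ιMulti R n (fun i => P (Pi.basisFun R (Fin n) i))
      = (Pi.basisFun R (Fin n)).det (⇑(Pi.basisFun R (Fin n))) • _
    rw [Module.Basis.det_self, one_smul]
    congr 1
    funext i
    simp [P, Fintype.linearCombination_apply, Pi.single_apply]
  exact congrFun (congrArg DFunLike.coe h) C


/-- Let A → B be a smooth ring map with Ω_{B/A} of rank n at every prime of B, g ∈ B a nonzerodivisor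
and R = B/gB, a hypersurface of virtual relative dimension n - 1 over A; let J ⊆ R be the
annihilator of the n-th exterior power of Ω_{R/A} and Z = Spec R/J. Then J is the ideal of R
generated by the classes of the elements φ(dg), φ ranging over the B-linear forms on Ω_{B/A}; where
Ω_{B/A} is free on dt_1, …, dt_n this says that Z is cut out by the partial derivatives ∂g/∂t_1, …,
∂g/∂t_n. In particular every φ(dg) vanishes in R/J; since Ω_{B/A} is finite projective this says
that dg ⊗ 1 = 0 in Ω_{B/A} ⊗_B R/J, i.e. the map from the conormal module gB/g²B ⊗ R/J to Ω_{B/A}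
⊗_B R/J induced by d vanishes, and with the cotangent complex of R over A represented by the
two-term complex (gB/g²B → Ω_{B/A} ⊗_B R) this is the statement that the canonical map from L_Z =
L_1 i^* L_{R/A} to the conormal module restricted to Z is an isomorphism. (The published statement
also asserts that, for a regular immersion of any codimension into a smooth scheme, this map from
L_Z is a locally split injection; that part is not stated here. The published statement is the
isomorphism alone, which amounts to the inclusion of the ideal generated by the φ(dg) in J; this row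
states the equality, whose other inclusion is the local description of Z by the partial derivatives
given with the definition of Z.) -/
theorem result (A B R : Type u) [CommRing A] [CommRing B] [CommRing R]
    [Algebra A B] [Algebra B R] [Algebra A R] [IsScalarTower A B R] [Algebra.Smooth A B] (n : ℕ)
    (hn : ∀ p : PrimeSpectrum B, Module.rankAtStalk (Ω[B⁄A]) p = n)
    (g : B) (hg : IsSMulRegular B g) (hsurj : Function.Surjective (algebraMap B R))
    (hker : RingHom.ker (algebraMap B R) = Ideal.span {g}) :
    (⋀[R]^n (Ω[R⁄A])).annihilator =
      Ideal.span (Set.range fun φ : Ω[B⁄A] →ₗ[B] B => algebraMap B R (φ (KaehlerDifferential.D A B g))) := by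
  classical
  let J : Ideal R :=
    Ideal.span (Set.range fun φ : Ω[B⁄A] →ₗ[B] B => algebraMap B R (φ (KaehlerDifferential.D A B g)))
  let π := algebraMap B R
  let q : Ω[B⁄A] →ₗ[B] Ω[R⁄A] := KaehlerDifferential.map A A B R
  have hq0 : q (KaehlerDifferential.D A B g) = 0 := by
    have hg0 : algebraMap B R g = 0 := by
      rw [← RingHom.mem_ker, hker]; exact Ideal.mem_span_singleton_self g
    show KaehlerDifferential.map A A B R _ = 0
    rw [KaehlerDifferential.map_D, hg0, map_zero]
  have hqs : Function.Surjective q := KaehlerDifferential.map_surjective_of_surjective A A B R hsurj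
  show (⋀[R]^n (Ω[R⁄A])).annihilator = J
  have hloc : ∀ (I : Ideal R), (∀ m : Ideal R, m.IsMaximal → ∃ d ∈ I, d ∉ m) → I = ⊤ := by
    intro I hI
    by_contra hne
    obtain ⟨m, hm, hle⟩ := Ideal.exists_le_maximal I hne
    obtain ⟨d, hd, hdm⟩ := hI m hm
    exact hdm (hle hd)
  apply le_antisymm
  · intro r hr
    suffices hI : Submodule.colon J (({r} : Set R)) = ⊤ by
      have := (Ideal.eq_top_iff_one _).mp hI
      simpa [Submodule.mem_colon] using this
    refine hloc _ fun m hm => ?_
    haveI := hm.isPrime
    let p : PrimeSpectrum B := ⟨m.comap π, inferInstance⟩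
    obtain ⟨e, s, γ, hγ, hs, hdet⟩ := exists_frame n p (hn p)
    refine ⟨π (Matrix.det (Matrix.of fun i j => γ (e j) i)), ?_, hdet⟩
    let δ : B → (Fin n → R ⧸ J) := fun b i =>
      Ideal.Quotient.mk J (π (γ (KaehlerDifferential.D A B b) i))
    have hδker : ∀ b, π b = 0 → δ b = 0 := by
      intro b hb
      have hb' : b ∈ Ideal.span {g} := by rw [← hker]; exact hb
      obtain ⟨c, rfl⟩ := Ideal.mem_span_singleton'.mp hb'
      funext i
      simp only [δ, Derivation.leibniz, map_add, map_smul, Pi.add_apply, Pi.smul_apply, smul_eq_mul,
        map_mul, Pi.zero_apply]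
      have hg0 : π g = 0 := by rw [← RingHom.mem_ker, hker]; exact Ideal.mem_span_singleton_self g
      have hJ : Ideal.Quotient.mk J (π (γ (KaehlerDifferential.D A B g) i)) = 0 :=
        Ideal.Quotient.eq_zero_iff_mem.mpr
          (Ideal.subset_span ⟨LinearMap.proj i ∘ₗ γ, rfl⟩)
      rw [hg0, hJ]
      simp
    choose sec hsec using hsurj
    have hδadd : ∀ a b, δ (a + b) = δ a + δ b := fun a b => by
      funext i; simp [δ]
    have hδsub : ∀ a b, π a = π b → δ a = δ b := by
      intro a b hab
      have h1 := hδadd (a - b) b
      rw [sub_add_cancel, hδker (a - b) (by rw [map_sub, hab, sub_self]), zero_add] at h1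
      exact h1
    have hπA : ∀ c : A, π (algebraMap A B c) = algebraMap A R c := fun c =>
      (IsScalarTower.algebraMap_apply A B R c).symm
    let D' : Derivation A R (Fin n → R ⧸ J) :=
      { toFun := fun x => δ (sec x)
        map_add' := fun x y => by
          rw [← hδadd]
          exact hδsub _ _ (by rw [map_add]; simp only [π, hsec])
        map_smul' := fun c x => by
          rw [hδsub (sec (c • x)) (algebraMap A B c * sec x)
            (by rw [map_mul, hπA, Algebra.smul_def]; simp only [π, hsec])]
          funext i
          simp only [δ, Derivation.leibniz, Derivation.map_algebraMap, smul_zero, add_zero,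
            map_smul, Pi.smul_apply, smul_eq_mul, map_mul, hπA, RingHom.id_apply]
          rw [Algebra.smul_def]
          rfl
        map_one_eq_zero' := by
          show δ (sec 1) = 0
          rw [hδsub (sec 1) 1 (by simp only [π, hsec, map_one])]
          funext i; simp [δ]
        leibniz' := fun x y => by
          show δ (sec (x * y)) = x • δ (sec y) + y • δ (sec x)
          rw [hδsub (sec (x * y)) (sec x * sec y) (by rw [map_mul]; simp only [π, hsec])]
          funext i
          simp only [δ, Derivation.leibniz, map_add, map_smul, Pi.add_apply, Pi.smul_apply,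
            smul_eq_mul, map_mul]
          simp only [π, hsec, Algebra.smul_def, Ideal.Quotient.algebraMap_eq] }
    let P : Ω[R⁄A] →ₗ[R] (Fin n → R ⧸ J) := D'.liftKaehlerDifferential
    have hP : ∀ (x : Ω[B⁄A]) (i : Fin n), P (q x) i = Ideal.Quotient.mk J (π (γ x i)) := by
      intro x i
      have hx : x ∈ Submodule.span B (Set.range (KaehlerDifferential.D A B)) := by
        rw [KaehlerDifferential.span_range_derivation]; exact Submodule.mem_top
      induction hx using Submodule.span_induction with
      | mem y hy =>
        obtain ⟨b, rfl⟩ := hy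
        show P (KaehlerDifferential.map A A B R _) i = _
        rw [KaehlerDifferential.map_D]
        show D'.liftKaehlerDifferential _ i = _
        rw [Derivation.liftKaehlerDifferential_comp_D]
        show δ (sec (algebraMap B R b)) i = _
        rw [hδsub (sec (algebraMap B R b)) b (by simp only [π, hsec])]
      | zero => simp
      | add a b _ _ ha hb => simp [ha, hb]
      | smul c a _ ha =>
        rw [map_smul q, ← algebraMap_smul R c (q a), map_smul, Pi.smul_apply, ha, map_smul,
          Pi.smul_apply, smul_eq_mul, map_mul, map_mul, Algebra.smul_def,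
          Ideal.Quotient.algebraMap_eq]
    let G : Ω[R⁄A] [⋀^Fin n]→ₗ[R] (R ⧸ J) :=
        { toFun := fun v => Matrix.det (Matrix.of fun i => P (v i))
          map_update_add' := @fun inst v i x y => by
            obtain rfl : inst = instDecidableEqFin n := Subsingleton.elim _ _
            have h : ∀ z, (Matrix.of fun k => P (Function.update v i z k))
                = (Matrix.of fun k => P (v k)).updateRow i (P z) := by
              intro z
              ext k l
              rw [Matrix.updateRow_apply, Matrix.of_apply]
              by_cases hk : k = i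
              · subst hk; simp
              · simp [hk]
            simp only [h, map_add, Matrix.det_updateRow_add]
          map_update_smul' := @fun inst v i c x => by
            obtain rfl : inst = instDecidableEqFin n := Subsingleton.elim _ _
            have h : ∀ z, (Matrix.of fun k => P (Function.update v i z k))
                = (Matrix.of fun k => P (v k)).updateRow i (P z) := by
              intro z
              ext k l
              rw [Matrix.updateRow_apply, Matrix.of_apply]
              by_cases hk : k = i
              · subst hk; simp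
              · simp [hk]
            simp only [h, map_smul]
            rw [← algebraMap_smul (R ⧸ J) c (P x), Matrix.det_updateRow_smul, Algebra.smul_def]
          map_eq_zero_of_eq' := fun v i j hv hij =>
            Matrix.det_zero_of_row_eq hij (by funext l; simp [hv]) }
    have hG : G (fun j => q (e j)) = Ideal.Quotient.mk J (π (Matrix.det (Matrix.of fun i j => γ (e j) i))) := by
      rw [RingHom.map_det, RingHom.map_det, ← Matrix.det_transpose]
      show Matrix.det _ = Matrix.det _
      congr 1
      ext i j
      exact hP _ _
    have h0 : r • exteriorPower.ιMulti R n (fun j => q (e j)) = 0 :=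
      Module.mem_annihilator.mp hr _
    have h1 := congrArg (exteriorPower.alternatingMapLinearEquiv G) h0
    rw [map_smul, map_zero, exteriorPower.alternatingMapLinearEquiv_apply_ιMulti, hG,
      Algebra.smul_def, Ideal.Quotient.algebraMap_eq, ← map_mul, Ideal.Quotient.eq_zero_iff_mem] at h1
    rw [Submodule.mem_colon]
    intro z hz
    rw [Set.mem_singleton_iff.mp hz, smul_eq_mul, mul_comm]
    exact h1
  · refine Ideal.span_le.mpr ?_
    rintro _ ⟨ψ, rfl⟩
    refine Module.mem_annihilator.mpr fun y => ?_
    have hy : y ∈ Submodule.span R (Set.range (exteriorPower.ιMulti R n (M := Ω[R⁄A]))) := by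
      rw [exteriorPower.ιMulti_span]; exact Submodule.mem_top
    induction hy using Submodule.span_induction with
    | mem z hz =>
      obtain ⟨v, rfl⟩ := hz
      choose w hw using fun j => hqs (v j)
      suffices hI : (Submodule.span R {π (ψ (KaehlerDifferential.D A B g)) •
          exteriorPower.ιMulti R n v}).annihilator = ⊤ by
        have h1 := (Submodule.mem_annihilator_span_singleton _ _).mp
          ((Ideal.eq_top_iff_one _).mp hI)
        rwa [one_smul] at h1
      refine hloc _ fun m hm => ?_
      haveI := hm.isPrime
      let p : PrimeSpectrum B := ⟨m.comap π, inferInstance⟩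
      obtain ⟨e, s, γ, hγ, hs, -⟩ := exists_frame n p (hn p)
      refine ⟨π s ^ (n + 1), ?_, fun h => hs (Ideal.IsPrime.mem_of_pow_mem inferInstance _ h :)⟩
      let E : Fin n → Ω[R⁄A] := fun i => q (e i)
      have hsE : ∀ x : Ω[B⁄A], π s • q x = ∑ i, π (γ x i) • E i := by
        intro x
        rw [algebraMap_smul, ← map_smul, hγ x, map_sum]
        exact Finset.sum_congr rfl fun i _ => by rw [map_smul, algebraMap_smul]
      have hzero : ∀ i, π (γ (KaehlerDifferential.D A B g) i) • exteriorPower.ιMulti R n E = 0 := by
        intro i
        have h := hsE (KaehlerDifferential.D A B g)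
        rw [hq0, smul_zero, eq_comm] at h
        have h2 : exteriorPower.ιMulti R n (Function.update E i
            (∑ j, π (γ (KaehlerDifferential.D A B g) j) • E j)) = 0 := by
          rw [h]
          exact AlternatingMap.map_coord_zero (exteriorPower.ιMulti R n) i (by simp)
        rw [AlternatingMap.map_update_sum, Finset.sum_eq_single i] at h2
        · rwa [AlternatingMap.map_update_smul, Function.update_eq_self] at h2
        · intro j _ hj
          rw [AlternatingMap.map_update_smul,
            AlternatingMap.map_eq_zero_of_eq _ _ (i := i) (j := j)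
              (by simp [Function.update_of_ne hj]) (Ne.symm hj), smul_zero]
        · simp
      rw [Submodule.mem_annihilator_span_singleton, smul_smul, pow_succ, mul_assoc, mul_comm,
        mul_smul, show π s ^ n = ∏ _i : Fin n, π s from
          by rw [Finset.prod_const, Finset.card_univ, Fintype.card_fin],
        ← AlternatingMap.map_smul_univ]
      have hv : (fun j => π s • v j) = fun j => ∑ i, π (γ (w j) i) • E i :=
        funext fun j => by rw [← hw j, hsE]
      rw [hv, iota_eq_det_smul n E (fun j i => π (γ (w j) i)), smul_comm]
      have hψ : π s * π (ψ (KaehlerDifferential.D A B g))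
          = ∑ i, π (ψ (e i)) * π (γ (KaehlerDifferential.D A B g) i) := by
        rw [← map_mul, ← smul_eq_mul, ← map_smul ψ, hγ, map_sum, map_sum]
        exact Finset.sum_congr rfl fun i _ => by rw [map_smul, smul_eq_mul, map_mul, mul_comm]
      rw [hψ, Finset.sum_smul, Finset.sum_eq_zero fun i _ => by rw [mul_smul, hzero, smul_zero],
        smul_zero]
    | zero => exact smul_zero _
    | add a b _ _ ha hb => rw [smul_add, ha, hb, add_zero]
    | smul c a _ ha => rw [smul_comm, ha, smul_zero]

end Groth.Agent.S14477
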