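import Mathlib
import Groth.Statements.S14478
-- import your own Groth.Agent.* helpers here

set_option autoImplicit false
universe u
open CharCyc

namespace Groth.Agent.S14478

theorem exists_common_compl {k V : Type*} [Field k] [AddCommGroup V] [Module k V]
    [FiniteDimensional k V] (U U' : Submodule k V)
    (h : Module.finrank k U = Module.finrank k U') :
    ∃ C : Submodule k V, IsCompl U C ∧ Disjoint U' C := by
  obtain ⟨X, hXU, hX⟩ : ∃ X : Submodule k V, X ≤ U ∧ (Disjoint (U ⊓ U') X ∧ (U ⊓ U') ⊔ X = U) := by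
    obtain ⟨X, hX⟩ := Submodule.exists_isCompl ((U ⊓ U').comap U.subtype)
    refine ⟨X.map U.subtype, Submodule.map_subtype_le _ _, ?_, ?_⟩
    · have := congrArg (Submodule.map U.subtype) hX.inf_eq_bot
      rw [Submodule.map_inf _ U.injective_subtype, Submodule.map_comap_subtype,
        Submodule.map_bot, inf_eq_right.mpr inf_le_left] at this
      exact disjoint_iff.mpr this
    · have := congrArg (Submodule.map U.subtype) hX.sup_eq_top
      rwa [Submodule.map_sup, Submodule.map_comap_subtype, Submodule.map_top,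
        Submodule.range_subtype, inf_eq_right.mpr inf_le_left] at this
  obtain ⟨Y, hYU, hY⟩ : ∃ Y : Submodule k V, Y ≤ U' ∧ (Disjoint (U ⊓ U') Y ∧ (U ⊓ U') ⊔ Y = U') := by
    obtain ⟨X, hX⟩ := Submodule.exists_isCompl ((U ⊓ U').comap U'.subtype)
    refine ⟨X.map U'.subtype, Submodule.map_subtype_le _ _, ?_, ?_⟩
    · have := congrArg (Submodule.map U'.subtype) hX.inf_eq_bot
      rw [Submodule.map_inf _ U'.injective_subtype, Submodule.map_comap_subtype,
        Submodule.map_bot, inf_eq_right.mpr inf_le_right] at this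
      exact disjoint_iff.mpr this
    · have := congrArg (Submodule.map U'.subtype) hX.sup_eq_top
      rwa [Submodule.map_sup, Submodule.map_comap_subtype, Submodule.map_top,
        Submodule.range_subtype, inf_eq_right.mpr inf_le_right] at this
  obtain ⟨Z, hZ⟩ := Submodule.exists_isCompl (U ⊔ U')
  have h1 := Submodule.finrank_sup_add_finrank_inf_eq (U ⊓ U') X
  rw [hX.2, hX.1.eq_bot, finrank_bot, add_zero] at h1
  have h2 := Submodule.finrank_sup_add_finrank_inf_eq (U ⊓ U') Y
  rw [hY.2, hY.1.eq_bot, finrank_bot, add_zero] at h2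
  let e : X ≃ₗ[k] Y := LinearEquiv.ofFinrankEq X Y (by omega)
  let D : Submodule k V := LinearMap.range (X.subtype + Y.subtype ∘ₗ e.toLinearMap)
  have hDU : ∀ d ∈ D, d ∈ U ⊔ U' := by
    rintro _ ⟨x, rfl⟩
    exact Submodule.add_mem_sup (hXU x.2) (hYU (e x).2)
  have hU : Disjoint U (Z ⊔ D) ∧ Disjoint U' (Z ⊔ D) := by
    constructor <;>
    · rw [Submodule.disjoint_def]
      intro v hv hv'
      obtain ⟨z, hz, d, hd, rfl⟩ := Submodule.mem_sup.mp hv'
      obtain rfl : z = 0 := Submodule.disjoint_def.mp hZ.symm.disjoint z hz (by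
        have hv2 : z + d ∈ U ⊔ U' := by
          first
            | exact Submodule.mem_sup_left hv
            | exact Submodule.mem_sup_right hv
        simpa using Submodule.sub_mem _ hv2 (hDU d hd))
      obtain ⟨x, rfl⟩ := hd
      simp only [zero_add, LinearMap.add_apply, LinearMap.comp_apply, Submodule.coe_subtype,
        LinearEquiv.coe_coe] at hv ⊢
      have hx0 : x = 0 := by
        first
          | (have h3 : ((e x : Y) : V) ∈ U := by simpa using U.sub_mem hv (hXU x.2)
             exact e.map_eq_zero_iff.mp (Subtype.ext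
               (Submodule.disjoint_def.mp hY.1 _ ⟨h3, hYU (e x).2⟩ (e x).2)))
          | (have h3 : ((x : X) : V) ∈ U' := by simpa using U'.sub_mem hv (hYU (e x).2)
             exact Subtype.ext (Submodule.disjoint_def.mp hX.1 _ ⟨hXU x.2, h3⟩ x.2))
      simp [hx0]
  refine ⟨Z ⊔ D, (Submodule.isCompl_iff_disjoint _ _ ?_).mpr hU.1, hU.2⟩
  have hDfin : Module.finrank k D = Module.finrank k X := by
    refine LinearMap.finrank_range_of_inj ?_
    rw [injective_iff_map_eq_zero]
    intro x hx
    have hxU' : (x : V) ∈ U' := by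
      have : (x : V) = -((e x : Y) : V) := eq_neg_of_add_eq_zero_left hx
      rw [this]; exact U'.neg_mem (hYU (e x).2)
    exact Subtype.ext (Submodule.disjoint_def.mp hX.1 _ ⟨hXU x.2, hxU'⟩ x.2)
  have hZD : Disjoint Z D := hZ.symm.disjoint.mono_right hDU
  have h3 := Submodule.finrank_sup_add_finrank_inf_eq Z D
  rw [hZD.eq_bot, finrank_bot, add_zero] at h3
  have h4 := Submodule.finrank_add_eq_of_isCompl hZ
  have h5 := Submodule.finrank_sup_add_finrank_inf_eq U U'
  omega

theorem finrank_map_snd_add {k V W : Type*} [Field k] [AddCommGroup V] [Module k V]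
    [FiniteDimensional k V] [AddCommGroup W] [Module k W] [FiniteDimensional k W]
    (T : Submodule k (V × W)) :
    Module.finrank k (T.map (LinearMap.snd k V W)) +
      Module.finrank k (T.comap (LinearMap.inl k V W)) = Module.finrank k T := by
  rw [← LinearMap.finrank_range_add_finrank_ker ((LinearMap.snd k V W).domRestrict T),
    LinearMap.range_domRestrict]
  congr 1
  let f : T.comap (LinearMap.inl k V W) →ₗ[k] LinearMap.ker ((LinearMap.snd k V W).domRestrict T) :=
    { toFun := fun v => ⟨⟨(v.1, 0), v.2⟩, rfl⟩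
      map_add' := fun a b => by ext <;> simp
      map_smul' := fun c a => by ext <;> simp }
  refine (LinearEquiv.ofBijective f ⟨?_, ?_⟩).finrank_eq
  · intro v w h
    exact Subtype.ext (congrArg (fun x => (x.1.1 : V × W).1) h)
  · rintro ⟨⟨⟨v, φ⟩, hvT⟩, hφ⟩
    have : φ = 0 := hφ
    subst this
    exact ⟨⟨v, hvT⟩, rfl⟩

/-- Let V be a finite-dimensional vector space over a field k, let W = V × V^∨ with V^∨ the dual space,
and let T ⊆ W be a subspace with dim T = dim V; put V₁ = V ∩ T, where V sits in W as V × 0. Then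
there is a complement V₂ of V₁ in V with the following property: for every injective linear map A₁ :
V₁ → V₁^∨, the map A : V → V^∨ extending A₁ by zero along the decompositions V = V₁ ⊕ V₂ and V^∨ =
V₁^∨ ⊕ V₂^∨ (so A v = A₁(p v) ∘ p, with p : V → V₁ the projection along V₂) has graph Γ ⊆ W with Γ ∩
T = 0. -/
theorem result (k V : Type u) [Field k] [AddCommGroup V] [Module k V]
    [FiniteDimensional k V] (T : Submodule k (V × Module.Dual k V))
    (hT : Module.finrank k T = Module.finrank k V) :
    ∃ (V₂ : Submodule k V) (h : IsCompl (T.comap (LinearMap.inl k V (Module.Dual k V))) V₂),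
      ∀ A₁ : T.comap (LinearMap.inl k V (Module.Dual k V)) →ₗ[k]
          Module.Dual k (T.comap (LinearMap.inl k V (Module.Dual k V))),
        Function.Injective A₁ →
          LinearMap.graph ((Submodule.projectionOnto _ V₂ h).dualMap ∘ₗ A₁ ∘ₗ
              Submodule.projectionOnto _ V₂ h) ⊓ T = ⊥ := by
  classical
  set V₁ := T.comap (LinearMap.inl k V (Module.Dual k V)) with hV₁
  let L : Submodule k (Module.Dual k V) := T.map (LinearMap.snd k V (Module.Dual k V))
  have hL : Module.finrank k L + Module.finrank k V₁ = Module.finrank k V := by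
    rw [← hT]; exact finrank_map_snd_add T
  have hann : Module.finrank k L.dualCoannihilator = Module.finrank k V₁ := by
    have := Subspace.finrank_add_finrank_dualCoannihilator_eq L
    omega
  obtain ⟨V₂, hc, hd⟩ := exists_common_compl V₁ L.dualCoannihilator hann.symm
  refine ⟨V₂, hc, fun A₁ hA₁ => ?_⟩
  rw [eq_bot_iff]
  rintro ⟨v, φ⟩ ⟨hgr, hvT⟩
  rw [SetLike.mem_coe, LinearMap.mem_graph_iff] at hgr
  have hφ2 : ∀ w ∈ V₂, φ w = 0 := by
    intro w hw
    have hp : Submodule.projectionOnto V₁ V₂ hc w = 0 :=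
      Submodule.projectionOnto_apply_of_mem_right hc hw
    simp only at hgr
    simp [hgr, hp]
  have hL' : φ ∈ L := ⟨(v, φ), hvT, rfl⟩
  have htop : L.dualCoannihilator ⊔ V₂ = ⊤ := by
    refine ((Submodule.isCompl_iff_disjoint _ _ ?_).mpr hd).sup_eq_top
    have := Submodule.finrank_add_eq_of_isCompl hc
    omega
  have hφ0 : φ = 0 := by
    apply LinearMap.ext
    intro w
    obtain ⟨a, ha, b, hb, rfl⟩ := Submodule.mem_sup.mp (htop ▸ Submodule.mem_top : w ∈ L.dualCoannihilator ⊔ V₂)
    rw [map_add, hφ2 b hb, (Submodule.mem_dualCoannihilator _).mp ha φ hL', add_zero]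
    rfl
  subst hφ0
  have hv1 : v ∈ V₁ := hvT
  have hp : Submodule.projectionOnto V₁ V₂ hc v = ⟨v, hv1⟩ :=
    Submodule.projectionOnto_apply_left hc ⟨v, hv1⟩
  simp only [LinearMap.comp_apply, hp] at hgr
  have h0 : A₁ ⟨v, hv1⟩ = 0 := by
    apply LinearMap.ext
    intro x
    have := LinearMap.congr_fun hgr (x : V)
    rw [LinearMap.zero_apply, LinearMap.dualMap_apply, Submodule.projectionOnto_apply_left hc x] at this
    rw [LinearMap.zero_apply, ← this]
  have : (⟨v, hv1⟩ : V₁) = 0 := hA₁ (by rw [h0, map_zero])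
  simpa using congrArg Subtype.val this

end Groth.Agent.S14478
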