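import Groth.Statements.S14479
import Mathlib

set_option autoImplicit false
universe u
open CharCyc

namespace Groth.Agent.S14479

/-- Let V be a finite-dimensional vector space over a field k. If dim V is even or the characteristic of
k is different from 2, there is a bilinear form B on V such that the bilinear form (v, w) ↦ B(v, w)
+ B(w, v) (B plus its transpose, as a map V → V^∨) is nondegenerate. -/
theorem result (k V : Type u) [Field k] [AddCommGroup V] [Module k V]
    [FiniteDimensional k V] (h : Even (Module.finrank k V) ∨ ringChar k ≠ 2) :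
    ∃ B : LinearMap.BilinForm k V, (B + B.flip).Nondegenerate := by
  classical
  suffices H : ∃ (ι : Type) (_ : Fintype ι) (_ : DecidableEq ι) (b : Module.Basis ι k V) (M : Matrix ι ι k), (M + M.transpose).det ≠ 0 by
    obtain ⟨ι, _, _, b, M, hM⟩ := H
    refine ⟨Matrix.toBilin b M, (LinearMap.BilinForm.nondegenerate_iff_det_ne_zero b).mpr ?_⟩
    have : LinearMap.BilinForm.toMatrix b (Matrix.toBilin b M + (Matrix.toBilin b M).flip) = M + M.transpose := by
      ext i j
      simp [LinearMap.BilinForm.toMatrix_apply, LinearMap.BilinForm.flip_apply, Matrix.toBilin_apply, Finsupp.single_apply]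
    rwa [this]
  rcases h with ⟨m, hm⟩ | h2
  · let b := (Module.finBasisOfFinrankEq k V hm).reindex finSumFinEquiv.symm
    refine ⟨_, inferInstance, inferInstance, b, Matrix.fromBlocks (0 : Matrix (Fin m) (Fin m) k) (1 : Matrix (Fin m) (Fin m) k) (0 : Matrix (Fin m) (Fin m) k) (0 : Matrix (Fin m) (Fin m) k), fun h0 => ?_⟩
    have hsq : (Matrix.fromBlocks (0 : Matrix (Fin m) (Fin m) k) (1 : Matrix (Fin m) (Fin m) k) (0 : Matrix (Fin m) (Fin m) k) (0 : Matrix (Fin m) (Fin m) k) + (Matrix.fromBlocks (0 : Matrix (Fin m) (Fin m) k) (1 : Matrix (Fin m) (Fin m) k) (0 : Matrix (Fin m) (Fin m) k) (0 : Matrix (Fin m) (Fin m) k)).transpose) * (Matrix.fromBlocks (0 : Matrix (Fin m) (Fin m) k) (1 : Matrix (Fin m) (Fin m) k) (0 : Matrix (Fin m) (Fin m) k) (0 : Matrix (Fin m) (Fin m) k) + (Matrix.fromBlocks (0 : Matrix (Fin m) (Fin m) k) (1 : Matrix (Fin m) (Fin m) k) (0 : Matrix (Fin m) (Fin m) k) (0 : Matrix (Fin m) (Fin m) k)).transpose) = 1 := by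
      simp [Matrix.fromBlocks_transpose, Matrix.fromBlocks_add, Matrix.fromBlocks_multiply, Matrix.fromBlocks_one]
    have := congrArg Matrix.det hsq
    rw [Matrix.det_mul, h0, mul_zero, Matrix.det_one] at this
    exact zero_ne_one this
  · refine ⟨_, inferInstance, inferInstance, Module.finBasis k V, 1, ?_⟩
    rw [Matrix.transpose_one, show (1 + 1 : Matrix (Fin (Module.finrank k V)) (Fin (Module.finrank k V)) k) = (2:k) • 1 from (two_smul k _).symm, Matrix.det_smul, Matrix.det_one, mul_one]
    refine pow_ne_zero _ fun h0 => h2 ?_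
    have : CharP k 2 := CharTwo.of_one_ne_zero_of_two_eq_zero one_ne_zero h0
    exact ringChar.eq k 2

end Groth.Agent.S14479
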