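import Groth.Statements.S14480
import Groth.Agent.DimFibreLib.Main
import Mathlib

set_option autoImplicit false
universe u
open CategoryTheory AlgebraicGeometry
open CharCyc

namespace Groth.Agent.S14480

theorem h9_dim_le_of {T : Type u} [TopologicalSpace T] {b : WithBot ℕ∞}
    (h : ∀ Z : Set T, IsClosed Z → IsIrreducible Z → topologicalKrullDim Z ≤ b) : topologicalKrullDim T ≤ b := by
  refine iSup_le fun s => ?_
  have hsub : ∀ i, (s i : Set T) ⊆ s.last := fun i a ha => (s.monotone (Fin.le_last i) : s i ≤ s.last) ha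
  let g : Fin (s.length + 1) → TopologicalSpace.IrreducibleCloseds (s.last : Set T) := fun i =>
    ⟨Subtype.val ⁻¹' (s i : Set T),
      ⟨(by obtain ⟨a, ha⟩ := (s i).2.1; exact ⟨⟨a, hsub i ha⟩, ha⟩), by
        intro A B hA hB hAs hBs
        obtain ⟨A', hA', rfl⟩ := isOpen_induced_iff.1 hA
        obtain ⟨B', hB', rfl⟩ := isOpen_induced_iff.1 hB
        obtain ⟨a, ha, ha'⟩ := hAs
        obtain ⟨b, hb, hb'⟩ := hBs
        obtain ⟨c, hc, hc'⟩ := (s i).2.2 A' B' hA' hB' ⟨a.1, ha, ha'⟩ ⟨b.1, hb, hb'⟩
        exact ⟨⟨c, hsub i hc⟩, hc, hc'⟩⟩,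
      (s i).3.preimage continuous_subtype_val⟩
  have hg : ∀ i : Fin s.length, g i.castSucc < g i.succ := fun i => by
    have hst : s i.castSucc < s i.succ := s.step i
    refine lt_of_le_not_ge ?_ ?_
    · intro a ha; exact hst.le ha
    intro hge
    refine hst.not_ge ?_
    intro a ha
    exact hge (show (⟨a, hsub _ ha⟩ : (s.last : Set T)) ∈ (g i.succ : Set (s.last : Set T)) from ha)
  exact (le_iSup_of_le (⟨s.length, g, hg⟩ : LTSeries (TopologicalSpace.IrreducibleCloseds (s.last : Set T))) le_rfl).trans
    (h (s.last : Set T) s.last.3 s.last.2)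

theorem h9_dim_empty {T : Type u} [TopologicalSpace T] [IsEmpty T] : topologicalKrullDim T = ⊥ := by
  haveI : IsEmpty (TopologicalSpace.IrreducibleCloseds T) := ⟨fun Z => Z.2.1.elim fun a _ => isEmptyElim a⟩
  exact Order.krullDim_eq_bot

theorem h9_dim_mono {T : Type u} [TopologicalSpace T] {A B : Set T} (h : A ⊆ B) :
    topologicalKrullDim A ≤ topologicalKrullDim B :=
  Topology.IsInducing.topologicalKrullDim_le (f := Set.inclusion h) (Topology.IsEmbedding.inclusion h).isInducing

theorem h9_dim_union {T : Type u} [TopologicalSpace T] {A B : Set T} (hA : IsClosed A) (hB : IsClosed B) :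
    topologicalKrullDim ↥(A ∪ B) ≤ max (topologicalKrullDim A) (topologicalKrullDim B) := by
  refine h9_dim_le_of fun Z _ hZ => ?_
  have hcases : Z ⊆ Subtype.val ⁻¹' A ∨ Z ⊆ Subtype.val ⁻¹' B :=
    isPreirreducible_iff_isClosed_union_isClosed.1 hZ.2 _ _ (hA.preimage continuous_subtype_val) (hB.preimage continuous_subtype_val)
      fun z _ => z.2
  rcases hcases with h | h
  · refine le_trans ?_ (le_max_left _ _)
    exact Topology.IsInducing.topologicalKrullDim_le (f := fun z : Z => (⟨z.1.1, h z.2⟩ : A))
      ((Topology.IsEmbedding.subtypeVal.comp Topology.IsEmbedding.subtypeVal).codRestrict A _).isInducing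
  · refine le_trans ?_ (le_max_right _ _)
    exact Topology.IsInducing.topologicalKrullDim_le (f := fun z : Z => (⟨z.1.1, h z.2⟩ : B))
      ((Topology.IsEmbedding.subtypeVal.comp Topology.IsEmbedding.subtypeVal).codRestrict B _).isInducing

/-- Let k be a field, let π : C → X be a morphism between k-schemes of finite type, and let n be a
natural number. For j ≥ 0 let B_j ⊆ X be the set of points x whose fibre π⁻¹(x) has dimension at
least j (so B_0 is the image of π). Then dim C ≤ n if and only if, for every j, the closure of B_j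
in X has dimension at most n − j. Dimensions are topological Krull dimensions with the empty space
of dimension ⊥, and the inequality is written additively as dim cl(B_j) + j ≤ n. -/
theorem result (k : Type u) [Field k] (C X : Scheme.{u})
    (q : X ⟶ Spec (CommRingCat.of k)) (π : C ⟶ X)
    [LocallyOfFiniteType q] [CompactSpace X] [LocallyOfFiniteType π] [CompactSpace C] (n : ℕ) :
    topologicalKrullDim C ≤ n ↔
      ∀ j : ℕ, topologicalKrullDim (closure {x : X | (j : WithBot ℕ∞) ≤ topologicalKrullDim (π.fiber x)}) +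
        (j : WithBot ℕ∞) ≤ n := by
  let qC := π ≫ q
  haveI : QuasiCompact qC := (quasiCompact_iff_compactSpace qC).2 inferInstance
  haveI : IsLocallyNoetherian C := LocallyOfFiniteType.isLocallyNoetherian qC
  haveI : AlgebraicGeometry.IsNoetherian C := {}
  have hfib : ∀ x, topologicalKrullDim ↥(π.fiber x) = topologicalKrullDim ↥(π ⁻¹' {x}) := fun x =>
    (π.fiberHomeo x).isHomeomorph.topologicalKrullDim_eq
  constructor
  · intro hC j
    let B : Set C → Set X := fun Z => {y | (j : WithBot ℕ∞) ≤ topologicalKrullDim ↥(Z ∩ π ⁻¹' {y})}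
    suffices h : ∀ Z : TopologicalSpace.Closeds C,
        topologicalKrullDim ↥(closure (B (Z : Set C))) + (j : WithBot ℕ∞) ≤ n by
      have h1 := h ⊤
      have e : {x : X | (j : WithBot ℕ∞) ≤ topologicalKrullDim ↥(π.fiber x)} = B ((⊤ : TopologicalSpace.Closeds C) : Set C) := by
        ext y
        simp only [B, Set.mem_ofPred_eq, TopologicalSpace.Closeds.coe_top, hfib]
        rw [show (Set.univ ∩ π ⁻¹' {y}) = π ⁻¹' {y} from Set.univ_inter _]
      rw [e]; exact h1
    intro Z
    induction Z using WellFoundedLT.induction with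
    | ind Z ih =>
      by_cases hZe : (Z : Set C) = ∅
      · have : B (Z : Set C) = ∅ := Set.eq_empty_of_forall_notMem fun y hy => by
          haveI : IsEmpty ↥((Z : Set C) ∩ π ⁻¹' {y}) := by rw [hZe, Set.empty_inter]; infer_instance
          have hy' : (j : WithBot ℕ∞) ≤ topologicalKrullDim ↥((Z : Set C) ∩ π ⁻¹' {y}) := hy
          rw [h9_dim_empty] at hy'
          exact WithBot.not_coe_le_bot _ hy'
        rw [this, closure_empty, h9_dim_empty, WithBot.bot_add]
        exact bot_le
      by_cases hirr : IsIrreducible (Z : Set C)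
      · obtain ⟨n₀, m, hm, hZ, hlow, V, hV, hVdim⟩ := Groth.Agent.DimFibreLib.exists_data qC q π rfl (Z : Set C) Z.2 hirr
        by_cases hj : j ≤ n₀
        · have h1 : topologicalKrullDim ↥(closure (B (Z : Set C))) ≤ m := by
            rw [← hm]
            refine h9_dim_mono (closure_mono fun y hy => ?_)
            have hy' : (j : WithBot ℕ∞) ≤ topologicalKrullDim ↥((Z : Set C) ∩ π ⁻¹' {y}) := hy
            by_contra hn'
            haveI : IsEmpty ↥((Z : Set C) ∩ π ⁻¹' {y}) := ⟨fun a => hn' ⟨a.1, a.2.1, a.2.2⟩⟩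
            rw [h9_dim_empty] at hy'
            exact WithBot.not_coe_le_bot _ hy'
          have h2 : ((m + n₀ : ℕ) : WithBot ℕ∞) ≤ n := hZ ▸ (topologicalKrullDim_subspace_le C _).trans hC
          refine le_trans (add_le_add h1 le_rfl) (le_trans ?_ h2)
          push_cast
          exact add_le_add le_rfl (by exact_mod_cast hj)
        · let Z' : TopologicalSpace.Closeds C := ⟨(Z : Set C) ∩ π ⁻¹' (V : Set X)ᶜ, Z.2.inter (V.2.isClosed_compl.preimage π.continuous)⟩
          have hlt : Z' < Z := by
            refine lt_of_le_not_ge Set.inter_subset_left fun hge => ?_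
            obtain ⟨y, hyV, hyc⟩ := hV
            obtain ⟨y', hy', ⟨a, ha, rfl⟩⟩ := mem_closure_iff.1 hyc V V.2 hyV
            exact (hge ha).2 hy'
          have hsub : B (Z : Set C) ⊆ B (Z' : Set C) := fun y hy => by
            have hy' : (j : WithBot ℕ∞) ≤ topologicalKrullDim ↥((Z : Set C) ∩ π ⁻¹' {y}) := hy
            have hyV : y ∉ V := fun hyV => by
              by_cases hyc : y ∈ closure (π '' (Z : Set C))
              · rw [hVdim y hyV hyc] at hy'
                exact hj (by exact_mod_cast hy')
              · haveI : IsEmpty ↥((Z : Set C) ∩ π ⁻¹' {y}) := ⟨fun a => hyc (subset_closure ⟨a.1, a.2.1, a.2.2⟩)⟩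
                rw [h9_dim_empty] at hy'
                exact WithBot.not_coe_le_bot _ hy'
            refine hy'.trans (h9_dim_mono ?_)
            rintro a ⟨ha, hay⟩
            exact ⟨⟨ha, fun h => hyV (Set.mem_singleton_iff.1 hay ▸ h)⟩, hay⟩
          exact (add_le_add (h9_dim_mono (closure_mono hsub)) le_rfl).trans (ih Z' hlt)
      · have hne : (Z : Set C).Nonempty := Set.nonempty_iff_ne_empty.2 hZe
        have hp : ¬ IsPreirreducible (Z : Set C) := fun h => hirr ⟨hne, h⟩
        rw [isPreirreducible_iff_isClosed_union_isClosed] at hp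
        push Not at hp
        obtain ⟨A, A', hA, hA', hsub, hn1, hn2⟩ := hp
        let Z1 : TopologicalSpace.Closeds C := ⟨(Z : Set C) ∩ A, Z.2.inter hA⟩
        let Z2 : TopologicalSpace.Closeds C := ⟨(Z : Set C) ∩ A', Z.2.inter hA'⟩
        have hl1 : Z1 < Z := lt_of_le_not_ge Set.inter_subset_left fun hge => hn1 fun a ha => (hge ha).2
        have hl2 : Z2 < Z := lt_of_le_not_ge Set.inter_subset_left fun hge => hn2 fun a ha => (hge ha).2
        have hB : B (Z : Set C) ⊆ B (Z1 : Set C) ∪ B (Z2 : Set C) := fun y hy => by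
          have hy' : (j : WithBot ℕ∞) ≤ topologicalKrullDim ↥((Z : Set C) ∩ π ⁻¹' {y}) := hy
          have he : (Z : Set C) ∩ π ⁻¹' {y} ⊆ ((Z1 : Set C) ∩ π ⁻¹' {y}) ∪ ((Z2 : Set C) ∩ π ⁻¹' {y}) := by
            rintro a ⟨ha, hay⟩
            rcases hsub ha with h | h
            · exact Or.inl ⟨⟨ha, h⟩, hay⟩
            · exact Or.inr ⟨⟨ha, h⟩, hay⟩
          have h1 := hy'.trans (h9_dim_mono he)
          let F := π ⁻¹' {y}
          have h3 : topologicalKrullDim ↥((Z1 : Set C) ∩ F ∪ (Z2 : Set C) ∩ F) ≤
              max (topologicalKrullDim ↥((Z1 : Set C) ∩ F)) (topologicalKrullDim ↥((Z2 : Set C) ∩ F)) := by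
            have h4 := h9_dim_union (A := (Subtype.val ⁻¹' (Z1 : Set C) : Set F)) (B := Subtype.val ⁻¹' (Z2 : Set C))
              (Z1.2.preimage continuous_subtype_val) (Z2.2.preimage continuous_subtype_val)
            have hhom : ∀ S : Set C, topologicalKrullDim ↥(Subtype.val ⁻¹' S : Set F) = topologicalKrullDim ↥(S ∩ F) := fun S => by
              have he' : Topology.IsEmbedding (fun a : (Subtype.val ⁻¹' S : Set F) => a.1.1) :=
                Topology.IsEmbedding.subtypeVal.comp Topology.IsEmbedding.subtypeVal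
              rw [he'.toHomeomorph.isHomeomorph.topologicalKrullDim_eq]
              refine congrArg (fun W : Set C => topologicalKrullDim ↥W) (Set.ext fun a => ?_)
              exact ⟨fun ⟨b, hb⟩ => hb ▸ ⟨b.2, b.1.2⟩, fun ⟨h1, h2⟩ => ⟨⟨⟨a, h2⟩, h1⟩, rfl⟩⟩
            rw [← hhom, ← hhom, ← Set.union_inter_distrib_right, ← hhom]
            exact h4
          exact (le_max_iff.1 (h1.trans h3)).imp id id
        refine (add_le_add (h9_dim_mono ((closure_mono hB).trans_eq closure_union)) le_rfl).trans ?_
        refine (add_le_add (h9_dim_union isClosed_closure isClosed_closure) le_rfl).trans ?_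
        rcases le_total (topologicalKrullDim ↥(closure (B (Z1 : Set C)))) (topologicalKrullDim ↥(closure (B (Z2 : Set C)))) with h | h
        · rw [max_eq_right h]; exact ih Z2 hl2
        · rw [max_eq_left h]; exact ih Z1 hl1
  · intro h
    refine h9_dim_le_of fun Z hZc hZi => ?_
    obtain ⟨n₀, m, hm, hZ, hlow, -, -, -⟩ := Groth.Agent.DimFibreLib.exists_data qC q π rfl Z hZc hZi
    rw [hZ]
    refine le_trans ?_ (h n₀)
    push_cast
    refine add_le_add ?_ le_rfl
    rw [← hm]
    refine h9_dim_mono (closure_mono fun y hy => ?_)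
    show _ ≤ topologicalKrullDim ↥(π.fiber y)
    rw [hfib]
    exact (hlow y hy).trans (h9_dim_mono Set.inter_subset_right)

end Groth.Agent.S14480
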