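import Groth.Statements.S14482
import Groth.Agent.S14480
import Groth.Agent.ProperMeetLib.Main

set_option autoImplicit false
universe u
open CategoryTheory AlgebraicGeometry
open CharCyc CategoryTheory.Limits TopologicalSpace
set_option linter.style.haveILetI false

namespace Groth.Agent.S14482

theorem add_natCast_le_iff {d : WithBot ℕ∞} {c n : ℕ} (hc : c ≤ n) :
    d + (c : WithBot ℕ∞) ≤ n ↔ d ≤ ((n - c : ℕ) : WithBot ℕ∞) := by
  induction d using WithBot.recBotCoe with
  | bot => simp
  | coe e =>
    induction e using ENat.recTopCoe with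
    | top =>
      refine iff_of_false (fun h => ?_) (fun h => ?_)
      · have : ((⊤ : ℕ∞) + c : ℕ∞) ≤ n := WithBot.coe_le_coe.1 h
        simp at this
      · have : (⊤ : ℕ∞) ≤ ((n - c : ℕ) : ℕ∞) := WithBot.coe_le_coe.1 h
        simp at this
    | coe m =>
      constructor
      · intro h
        have : m + c ≤ n := by exact_mod_cast h
        exact WithBot.coe_le_coe.2 (Nat.cast_le.2 (show m ≤ n - c by omega))
      · intro h
        have : m ≤ n - c := Nat.cast_le.1 (WithBot.coe_le_coe.1 h)
        exact_mod_cast (show m + c ≤ n by omega)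

theorem add_natCast_le_iff_bot {d : WithBot ℕ∞} {c n : ℕ} (hc : n < c) : d + (c : WithBot ℕ∞) ≤ n ↔ d = ⊥ := by
  refine ⟨fun h => ?_, fun h => by simp [h]⟩
  by_contra hd
  have h0 : (0 : WithBot ℕ∞) ≤ d := by
    induction d using WithBot.recBotCoe with
    | bot => exact absurd rfl hd
    | coe e => exact WithBot.coe_le_coe.2 bot_le
  have : (c : WithBot ℕ∞) ≤ n := le_trans (le_add_of_nonneg_left h0) h
  have : c ≤ n := by exact_mod_cast this
  omega

theorem isEmpty_of_dim_eq_bot {T : Type*} [TopologicalSpace T] (h : topologicalKrullDim T = ⊥) : IsEmpty T :=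
  ⟨fun x => by
    haveI : Nonempty (TopologicalSpace.IrreducibleCloseds T) :=
      ⟨⟨closure {x}, isIrreducible_singleton.closure, isClosed_closure⟩⟩
    exact absurd h Order.bot_lt_krullDim.ne'⟩

/-- Second assertion: let k be a field, let π : C → X be a morphism between k-schemes of finite type
such that every irreducible component of C has dimension n, let ι : W → X be a regular immersion of
codimension c, and for j ≥ 0 let B_j ⊆ X be the set of points whose fibre under π has dimension at
least j. Assume that every B_j is closed in X. Then dim B_j + j ≤ n for every j, and the condition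
dim π⁻¹(ι(W)) + c ≤ n (that is, dim C ×_X W ≤ n − c) holds if and only if dim ι⁻¹(B_j) + c + j ≤ n
for every j (that is, ι meets the sequence (B_j) n-semi-properly). Dimensions are topological Krull
dimensions of subspaces, the empty space having dimension ⊥. (Stated for each of the four kinds of
regular immersion of codimension c — regular, Koszul-regular, H₁-regular, quasi-regular; the
published statement does not distinguish kinds.) -/
theorem result (k : Type u) [Field k] (C X W : Scheme.{u})
    (q : X ⟶ Spec (CommRingCat.of k)) (π : C ⟶ X) (ι : W ⟶ X)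
    [LocallyOfFiniteType q] [CompactSpace X] [LocallyOfFiniteType π] [CompactSpace C]
    (κ : RegImm.Kind) (n c : ℕ) (hι : RegImm.IsRegularImmersionOfCodim κ c ι)
    (hC : ∀ P ∈ irreducibleComponents (C : Type u), topologicalKrullDim P = n)
    (hB : ∀ j : ℕ, IsClosed {x : X | (j : WithBot ℕ∞) ≤ topologicalKrullDim (π.fiber x)}) :
    (∀ j : ℕ, topologicalKrullDim {x : X | (j : WithBot ℕ∞) ≤ topologicalKrullDim (π.fiber x)} + (j : WithBot ℕ∞) ≤ n) ∧
      (topologicalKrullDim (π ⁻¹' Set.range ι : Set C) + (c : WithBot ℕ∞) ≤ n ↔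
        ∀ j : ℕ, topologicalKrullDim (ι ⁻¹' {x : X | (j : WithBot ℕ∞) ≤ topologicalKrullDim (π.fiber x)} : Set W) + (c : WithBot ℕ∞) + (j : WithBot ℕ∞) ≤ n) := by
  have hdimC : topologicalKrullDim C ≤ n :=
    ProperMeetLib.topologicalKrullDim_le_of_forall_irreducible _ fun A hA => by
      obtain ⟨P, hP, hAP⟩ := exists_mem_irreducibleComponents_subset_of_isIrreducible A hA
      exact ⟨P, hAP, (hC P hP).le⟩
  refine ⟨fun j => ?_, ?_⟩
  · have h := (Groth.Agent.S14480.result k C X q π n).1 hdimC j
    rwa [(hB j).closure_eq] at h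
  haveI : IsImmersion ι := hι.1
  haveI : IsLocallyNoetherian X := LocallyOfFiniteType.isLocallyNoetherian q
  haveI : NoetherianSpace X := by
    haveI : IsNoetherian X := {}
    infer_instance
  haveI : LocallyOfFiniteType ι := inferInstance
  haveI : NoetherianSpace W := ι.isEmbedding.isInducing.noetherianSpace
  haveI : LocallyOfFiniteType (π ≫ q) := inferInstance
  haveI : IsLocallyNoetherian C := LocallyOfFiniteType.isLocallyNoetherian (π ≫ q)
  haveI : NoetherianSpace C := by
    haveI : IsNoetherian C := {}
    infer_instance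
  let fst := pullback.fst π ι
  let π' := pullback.snd π ι
  haveI : NoetherianSpace ↥(pullback π ι) := fst.isEmbedding.isInducing.noetherianSpace
  have hrange : Set.range fst = π ⁻¹' Set.range ι := Scheme.Pullback.range_fst π ι
  have hd : topologicalKrullDim ↥(pullback π ι) = topologicalKrullDim (π ⁻¹' Set.range ι : Set C) := by
    rw [(fst.isEmbedding.toHomeomorph.trans (Homeomorph.setCongr hrange)).isHomeomorph.topologicalKrullDim_eq]
  have hfib : ∀ w : W, topologicalKrullDim ↥(π'.fiber w) = topologicalKrullDim ↥(π.fiber (ι w)) := fun w => by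
    rw [(π'.fiberHomeo w).isHomeomorph.topologicalKrullDim_eq, (π.fiberHomeo (ι w)).isHomeomorph.topologicalKrullDim_eq]
    have himg : fst '' (π' ⁻¹' {w}) = π ⁻¹' {ι w} := by
      ext x
      constructor
      · rintro ⟨z, rfl, rfl⟩
        show π (fst z) = ι (π' z)
        rw [← Scheme.Hom.comp_apply, ← Scheme.Hom.comp_apply, pullback.condition]
      · intro hx
        obtain ⟨z, rfl⟩ : x ∈ Set.range fst := by rw [hrange]; exact ⟨w, hx.symm⟩
        refine ⟨z, ι.isEmbedding.injective ?_, rfl⟩
        rw [← show π (fst z) = ι w from hx, ← Scheme.Hom.comp_apply, ← Scheme.Hom.comp_apply, pullback.condition]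
    rw [(fst.isEmbedding.homeomorphImage (π' ⁻¹' {w})).isHomeomorph.topologicalKrullDim_eq, himg]
  have hset : ∀ j : ℕ, (ι ⁻¹' {x : X | (j : WithBot ℕ∞) ≤ topologicalKrullDim (π.fiber x)} : Set W) =
      closure {w : W | (j : WithBot ℕ∞) ≤ topologicalKrullDim (π'.fiber w)} := fun j => by
    rw [← ((hB j).preimage ι.continuous).closure_eq]
    simp only [hfib]
    rfl
  rw [← hd]
  have h80 : ∀ m : ℕ, topologicalKrullDim ↥(pullback π ι) ≤ m ↔ ∀ j : ℕ,
      topologicalKrullDim (ι ⁻¹' {x : X | (j : WithBot ℕ∞) ≤ topologicalKrullDim (π.fiber x)} : Set W) + (j : WithBot ℕ∞) ≤ m := fun m => by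
    refine (Groth.Agent.S14480.result k (pullback π ι) W (ι ≫ q) π' m).trans (forall_congr' fun j => ?_)
    rw [hset j]
  rcases le_or_gt c n with hcn | hnc
  · rw [add_natCast_le_iff hcn, h80]
    refine forall_congr' fun j => ?_
    rw [← add_natCast_le_iff hcn, add_right_comm]
  · rw [add_natCast_le_iff_bot hnc]
    constructor
    · intro h j
      have he : IsEmpty ↥(ι ⁻¹' {x : X | (j : WithBot ℕ∞) ≤ topologicalKrullDim (π.fiber x)} : Set W) := by
        haveI : IsEmpty ↥(pullback π ι) := isEmpty_of_dim_eq_bot h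
        refine ⟨fun w => ?_⟩
        have hw : (j : WithBot ℕ∞) ≤ topologicalKrullDim (π.fiber (ι w.1)) := w.2
        rw [← hfib] at hw
        haveI : IsEmpty ↥(π'.fiber w.1) := ⟨fun x => isEmptyElim (π'.fiberι w.1 x)⟩
        rw [Groth.Agent.S14480.h9_dim_empty] at hw
        exact WithBot.not_coe_le_bot _ hw
      rw [Groth.Agent.S14480.h9_dim_empty, WithBot.bot_add, WithBot.bot_add]
      exact bot_le
    · intro h
      haveI : IsEmpty ↥(pullback π ι) := ⟨fun z => by
        have h0 := h 0
        rw [Nat.cast_zero, add_zero, add_natCast_le_iff_bot hnc] at h0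
        have hz : π' z ∈ (ι ⁻¹' {x : X | (0 : WithBot ℕ∞) ≤ topologicalKrullDim (π.fiber x)} : Set W) := by
          show (0 : WithBot ℕ∞) ≤ topologicalKrullDim (π.fiber (ι (π' z)))
          rw [← hfib]
          have : Nonempty (IrreducibleCloseds ↥(π'.fiber (π' z))) :=
            ⟨⟨closure {(π'.fiberHomeo (π' z)).symm ⟨z, rfl⟩}, isIrreducible_singleton.closure, isClosed_closure⟩⟩
          exact Order.krullDim_nonneg
        exact (isEmpty_of_dim_eq_bot h0).false ⟨π' z, hz⟩⟩
      exact Groth.Agent.S14480.h9_dim_empty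

end Groth.Agent.S14482
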