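import Groth.Statements.S14483
import Groth.Agent.WellIntersectLib.Basic
-- import your own Groth.Agent.* helpers here

set_option autoImplicit false
set_option backward.isDefEq.respectTransparency false
universe u
open CategoryTheory CategoryTheory.Limits AlgebraicGeometry
open CharCyc

namespace Groth.Agent.S14483

/-- Let k be a field and let f : X → S be a morphism between separated k-schemes of finite type. Two
closed subsets Y, Z of X are said to well intersect with respect to f when dim(Y ×_S Z ∖ Y ×_X Z) ≤
dim Y + dim Z − dim S; here Y ×_S Z ∖ Y ×_X Z is taken as the subspace of X ×_S X of points whose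
two projections lie in Y and in Z and which are not in the image of the diagonal, and the inequality
is written additively as dim(Y ×_S Z ∖ Y ×_X Z) + dim S ≤ dim Y + dim Z (topological Krull
dimensions, the empty space having dimension ⊥). Let Y ⊆ X be closed and irreducible with dim Y <
dim S, and suppose that the pair Y, Y well intersects with respect to f. Then Y → S is generically
radicial onto its image: there is an open subset V of X meeting Y such that f is injective on V ∩ Y
and, at every point of V ∩ Y, the residue field extension induced by f is purely inseparable. -/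
theorem result (k : Type u) [Field k] (X S : Scheme.{u})
    (q : S ⟶ Spec (CommRingCat.of k)) (f : X ⟶ S)
    [LocallyOfFiniteType q] [CompactSpace S] [IsSeparated q] [LocallyOfFiniteType f] [CompactSpace X] [IsSeparated f]
    (Y : Set X) (hYc : IsClosed Y) (hYi : IsIrreducible Y)
    (hWI : topologicalKrullDim {p : ↥(pullback f f) | pullback.fst f f p ∈ Y ∧ pullback.snd f f p ∈ Y ∧ p ∉ Set.range (pullback.diagonal f)} + topologicalKrullDim S ≤ topologicalKrullDim Y + topologicalKrullDim Y)
    (hYS : topologicalKrullDim Y < topologicalKrullDim S) :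
    ∃ V : Set X, IsOpen V ∧ (V ∩ Y).Nonempty ∧ Set.InjOn f.base (V ∩ Y) ∧
      ∀ x ∈ V ∩ Y, (f.residueFieldMap x).hom.IsPurelyInseparable := by
  haveI : IsLocallyNoetherian S := LocallyOfFiniteType.isLocallyNoetherian q
  haveI : IsLocallyNoetherian X := LocallyOfFiniteType.isLocallyNoetherian f
  haveI : IsNoetherian S := ⟨⟩
  haveI : IsNoetherian X := ⟨⟩
  haveI : IsLocallyNoetherian (pullback f f) := LocallyOfFiniteType.isLocallyNoetherian (pullback.fst f f)
  haveI : QuasiCompact (pullback.fst f f) := inferInstance
  haveI : CompactSpace ↥(pullback f f) := QuasiCompact.compactSpace_of_compactSpace (pullback.fst f f)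
  haveI : IsNoetherian (pullback f f) := ⟨⟩
  open Groth.Agent.WellIntersectLib in
  have hη := hYi.isGenericPoint_genericPoint hYc
  have hA : Topology.IsConstructible (offDiag f Y Y) := by
    haveI : IsClosedImmersion (pullback.diagonal f) := IsSeparated.diagonal_isClosedImmersion
    have := isConstructible_of_noetherian ((hYc.preimage (pullback.fst f f).continuous).inter
      (hYc.preimage (pullback.snd f f).continuous))
      (pullback.diagonal f).isClosedEmbedding.isClosed_range.isOpen_compl
    convert this using 1
    ext p
    exact ⟨fun h => ⟨⟨h.1, h.2.1⟩, h.2.2⟩, fun h => ⟨h.1.1, h.1.2, h.2⟩⟩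
  set E := pullback.fst f f '' offDiag f Y Y
  have hnot : hYi.genericPoint ∉ closure E := fun h => not_mem_offDiag_image q f hYc hYc hη hη hWI hYS
    (mem_of_isConstructible ((pullback.fst f f).isConstructible_image hA) hη
      (Set.image_subset_iff.2 fun p hp => hp.1) h)
  refine ⟨(closure E)ᶜ, isClosed_closure.isOpen_compl, ⟨_, hnot, hη.mem⟩, ?_, ?_⟩
  · intro x hx y hy e
    by_contra hne
    obtain ⟨p, hpx, hpy⟩ := Scheme.Pullback.exists_preimage_pullback x y e
    refine hx.1 (subset_closure ⟨p, ⟨hpx ▸ hx.2, hpy ▸ hy.2, ?_⟩, hpx⟩)
    rintro ⟨u, rfl⟩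
    apply hne
    rw [← hpx, ← hpy, ← Scheme.Hom.comp_apply, ← Scheme.Hom.comp_apply, pullback.diagonal_fst, pullback.diagonal_snd]
  · intro x hx
    refine isPurelyInseparable_of_no_offDiag f x fun p h1 h2 => ?_
    by_contra hp
    exact hx.1 (subset_closure ⟨p, ⟨h1 ▸ hx.2, h2 ▸ hx.2, hp⟩, h1⟩)

end Groth.Agent.S14483
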