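import Groth.Statements.S14484
import Groth.Agent.WellIntersectLib.Basic
-- import your own Groth.Agent.* helpers here

set_option autoImplicit false
set_option backward.isDefEq.respectTransparency false
universe u
open CategoryTheory CategoryTheory.Limits AlgebraicGeometry
open CharCyc

namespace Groth.Agent.S14484

/-- Let k be a field and let f : X → S be a morphism between separated k-schemes of finite type. Two
closed subsets Y, Z of X are said to well intersect with respect to f when dim(Y ×_S Z ∖ Y ×_X Z) ≤
dim Y + dim Z − dim S; here Y ×_S Z ∖ Y ×_X Z is taken as the subspace of X ×_S X of points whose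
two projections lie in Y and in Z and which are not in the image of the diagonal, and the inequality
is written additively as dim(Y ×_S Z ∖ Y ×_X Z) + dim S ≤ dim Y + dim Z (topological Krull
dimensions, the empty space having dimension ⊥). Let Y, Z ⊆ X be closed irreducible subsets that
well intersect with respect to f, with dim Y < dim S and dim Z < dim S, and assume Y ⊄ Z. Then f(Y)
is not contained in the closure of f(Y) ∩ f(Z); in particular f(Y) ⊄ f(Z). -/
theorem result (k : Type u) [Field k] (X S : Scheme.{u})
    (q : S ⟶ Spec (CommRingCat.of k)) (f : X ⟶ S)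
    [LocallyOfFiniteType q] [CompactSpace S] [IsSeparated q] [LocallyOfFiniteType f] [CompactSpace X] [IsSeparated f]
    (Y Z : Set X) (hYc : IsClosed Y) (hYi : IsIrreducible Y) (hZc : IsClosed Z) (hZi : IsIrreducible Z)
    (hWI : topologicalKrullDim {p : ↥(pullback f f) | pullback.fst f f p ∈ Y ∧ pullback.snd f f p ∈ Z ∧ p ∉ Set.range (pullback.diagonal f)} + topologicalKrullDim S ≤ topologicalKrullDim Y + topologicalKrullDim Z)
    (hYS : topologicalKrullDim Y < topologicalKrullDim S) (hZS : topologicalKrullDim Z < topologicalKrullDim S)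
    (hYZ : ¬ Y ⊆ Z) :
    ¬ (f.base '' Y ⊆ closure (f.base '' Y ∩ f.base '' Z)) ∧ ¬ (f.base '' Y ⊆ f.base '' Z) := by
  haveI : IsLocallyNoetherian S := LocallyOfFiniteType.isLocallyNoetherian q
  haveI : IsLocallyNoetherian X := LocallyOfFiniteType.isLocallyNoetherian f
  haveI : IsNoetherian S := ⟨⟩
  haveI : IsNoetherian X := ⟨⟩
  open Groth.Agent.WellIntersectLib in
  have hη := hYi.isGenericPoint_genericPoint hYc
  have hζ := hZi.isGenericPoint_genericPoint hZc
  haveI : QuasiCompact f := QuasiCompact.of_comp f q
  have h1 : ¬ (f.base '' Y ⊆ closure (f.base '' Y ∩ f.base '' Z)) := by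
    intro h
    have hYcon : Topology.IsConstructible Y := by
      simpa using isConstructible_of_noetherian hYc (isOpen_univ (X := ↥X))
    have hZcon : Topology.IsConstructible Z := by
      simpa using isConstructible_of_noetherian hZc (isOpen_univ (X := ↥X))
    have hs := mem_of_isConstructible ((f.isConstructible_image hYcon).inter (f.isConstructible_image hZcon))
      (hη.image f.continuous) (Set.inter_subset_left.trans subset_closure) (h ⟨_, hη.mem, rfl⟩)
    obtain ⟨z, hz, hze⟩ := hs.2
    obtain ⟨p, hpx, hpy⟩ := Scheme.Pullback.exists_preimage_pullback hYi.genericPoint z hze.symm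
    refine not_mem_offDiag_image q f hYc hZc hη hζ hWI hZS ⟨p, ⟨hpx ▸ hη.mem, hpy ▸ hz, ?_⟩, hpx⟩
    rintro ⟨u, rfl⟩
    apply hYZ
    have : hYi.genericPoint = z := by
      rw [← hpx, ← hpy, ← Scheme.Hom.comp_apply, ← Scheme.Hom.comp_apply, pullback.diagonal_fst, pullback.diagonal_snd]
    rw [← hη.def, this]
    exact closure_minimal (Set.singleton_subset_iff.2 hz) hZc
  exact ⟨h1, fun h => h1 fun s hs => subset_closure ⟨hs, h hs⟩⟩

end Groth.Agent.S14484
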