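import Groth.Statements.S14485
import Groth.Agent.WellIntersectLib.BaseChange
-- import your own Groth.Agent.* helpers here

set_option autoImplicit false
set_option backward.isDefEq.respectTransparency false
universe u
open CategoryTheory CategoryTheory.Limits AlgebraicGeometry
open CharCyc

namespace Groth.Agent.S14485

/-- Let k be a field and let f : X → S be a morphism between separated k-schemes of finite type. Two
closed subsets Y, Z of X are said to well intersect with respect to f when dim(Y ×_S Z ∖ Y ×_X Z) ≤
dim Y + dim Z − dim S; here Y ×_S Z ∖ Y ×_X Z is taken as the subspace of X ×_S X of points whose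
two projections lie in Y and in Z and which are not in the image of the diagonal, and the inequality
is written additively as dim(Y ×_S Z ∖ Y ×_X Z) + dim S ≤ dim Y + dim Z (topological Krull
dimensions, the empty space having dimension ⊥). Let Y, Z ⊆ X be closed subsets, and let g : S' → S
be faithfully flat with every fibre of dimension d (relative constant dimension d), where S' is
again a separated k-scheme of finite type. Write f' : X' = X ×_S S' → S' for the base change and Y',
Z' ⊆ X' for the preimages of Y, Z. Then well-intersection of Y, Z with respect to f is equivalent to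
well-intersection of Y', Z' with respect to f'. -/
theorem result (k : Type u) [Field k] (X S S' : Scheme.{u})
    (q : S ⟶ Spec (CommRingCat.of k)) (f : X ⟶ S) (g : S' ⟶ S)
    [LocallyOfFiniteType q] [CompactSpace S] [IsSeparated q] [LocallyOfFiniteType f] [CompactSpace X] [IsSeparated f]
    [LocallyOfFiniteType g] [CompactSpace S'] [IsSeparated g] [Flat g] [Surjective g]
    (d : ℕ) (hd : ∀ s : S, topologicalKrullDim (g.fiber s) = d)
    (Y Z : Set X) (hYc : IsClosed Y) (hZc : IsClosed Z) :
    (topologicalKrullDim {p : ↥(pullback f f) | pullback.fst f f p ∈ Y ∧ pullback.snd f f p ∈ Z ∧ p ∉ Set.range (pullback.diagonal f)} + topologicalKrullDim S ≤ topologicalKrullDim Y + topologicalKrullDim Z) ↔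
      (topologicalKrullDim {p : ↥(pullback (pullback.snd f g) (pullback.snd f g)) | pullback.fst (pullback.snd f g) (pullback.snd f g) p ∈ ((pullback.fst f g) ⁻¹' Y) ∧ pullback.snd (pullback.snd f g) (pullback.snd f g) p ∈ ((pullback.fst f g) ⁻¹' Z) ∧ p ∉ Set.range (pullback.diagonal (pullback.snd f g))} + topologicalKrullDim S' ≤ topologicalKrullDim ((pullback.fst f g) ⁻¹' Y) + topologicalKrullDim ((pullback.fst f g) ⁻¹' Z)) := by
  open Groth.Agent.WellIntersectLib in
  haveI : IsClosedImmersion (pullback.diagonal f) := IsSeparated.diagonal_isClosedImmersion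
  haveI : LocallyOfFiniteType (f ≫ q) := inferInstance
  haveI : LocallyOfFiniteType (pullback.fst f f ≫ f ≫ q) := inferInstance
  let m : pullback (pullback.snd f g) (pullback.snd f g) ⟶ pullback f f :=
    pullback.lift (pullback.fst _ _ ≫ pullback.fst f g) (pullback.snd _ _ ≫ pullback.fst f g) (by
      have e : pullback.fst f g ≫ f = pullback.snd f g ≫ g := pullback.condition
      rw [Category.assoc, Category.assoc, e, ← Category.assoc, ← Category.assoc]
      exact congrArg (· ≫ g) pullback.condition)
  have hm₁ : m ≫ pullback.fst f f = pullback.fst _ _ ≫ pullback.fst f g := pullback.lift_fst _ _ _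
  have hm₂ : m ≫ pullback.snd f f = pullback.snd _ _ ≫ pullback.fst f g := pullback.lift_snd _ _ _
  have sqP : IsPullback (pullback.fst (pullback.snd f g) (pullback.snd f g) ≫ pullback.snd f g) m g
      (pullback.fst f f ≫ f) := by
    have e : pullback.fst f g ≫ f = pullback.snd f g ≫ g := pullback.condition
    refine ⟨⟨by rw [Category.assoc, reassoc_of% hm₁, e]⟩, ⟨PullbackCone.IsLimit.mk _
      (fun c => pullback.lift (pullback.lift (c.snd ≫ pullback.fst f f) c.fst (by rw [Category.assoc, c.condition]))
        (pullback.lift (c.snd ≫ pullback.snd f f) c.fst (by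
          rw [Category.assoc, ← pullback.condition, c.condition])) (by simp)) ?_ ?_ ?_⟩⟩
    · intro c
      simp
    · intro c
      apply pullback.hom_ext <;> simp [hm₁, hm₂]
    · intro c n hn₁ hn₂
      have a₁ : n ≫ pullback.fst (pullback.snd f g) (pullback.snd f g) ≫ pullback.fst f g = c.snd ≫ pullback.fst f f := by
        rw [← hn₂, Category.assoc, hm₁]
      have a₂ : n ≫ pullback.snd (pullback.snd f g) (pullback.snd f g) ≫ pullback.fst f g = c.snd ≫ pullback.snd f f := by
        rw [← hn₂, Category.assoc, hm₂]
      have a₃ : n ≫ pullback.snd (pullback.snd f g) (pullback.snd f g) ≫ pullback.snd f g = c.fst := by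
        exact (congrArg (n ≫ ·) pullback.condition.symm).trans hn₁
      apply pullback.hom_ext <;> apply pullback.hom_ext <;> simp [a₁, a₂, a₃, hn₁]
  have sqD : IsPullback (pullback.fst f g) (pullback.diagonal (pullback.snd f g)) (pullback.diagonal f) m := by
    have w : pullback.fst f g ≫ pullback.diagonal f = pullback.diagonal (pullback.snd f g) ≫ m := by
      apply pullback.hom_ext <;> simp [hm₁, hm₂]
    refine ⟨⟨w⟩, ⟨PullbackCone.IsLimit.mk w (fun c => c.snd ≫ pullback.fst _ _) ?_ ?_ ?_⟩⟩
    · intro c
      have := congrArg (· ≫ pullback.fst f f) c.condition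
      simp only [Category.assoc, pullback.diagonal_fst, Category.comp_id, hm₁] at this
      simp [this]
    · intro c
      have h1 := congrArg (· ≫ pullback.fst f f) c.condition
      have h2 := congrArg (· ≫ pullback.snd f f) c.condition
      simp only [Category.assoc, pullback.diagonal_fst, pullback.diagonal_snd, Category.comp_id, hm₁, hm₂] at h1 h2
      have h3 : c.snd ≫ pullback.fst _ _ = c.snd ≫ pullback.snd _ _ := by
        apply pullback.hom_ext
        · rw [Category.assoc, Category.assoc, ← h1, ← h2]
        · rw [Category.assoc, Category.assoc, pullback.condition]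
      apply pullback.hom_ext
      · simp
      · simpa using h3
    · intro c n hn₁ hn₂
      rw [← hn₂]
      simp
  have hX : ∀ C : Set X, IsClosed C → topologicalKrullDim ↥(pullback.fst f g ⁻¹' C) =
      topologicalKrullDim ↥C + (d : WithBot ℕ∞) := fun C hC => by
    have e := dim_preimage (IsPullback.of_hasPullback f g).flip (f ≫ q) d hd hC isOpen_univ
    rw [Set.inter_univ] at e
    exact e
  have hS : topologicalKrullDim ↥S' = topologicalKrullDim ↥S + (d : WithBot ℕ∞) := by
    have e := dim_preimage (IsPullback.id_horiz g) q d hd isClosed_univ isOpen_univ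
    rw [Set.inter_univ, Set.preimage_univ] at e
    rw [← (Homeomorph.Set.univ ↥S').isHomeomorph.topologicalKrullDim_eq,
      ← (Homeomorph.Set.univ ↥S).isHomeomorph.topologicalKrullDim_eq]
    exact e
  have hW := dim_preimage sqP (pullback.fst f f ≫ f ≫ q) d hd
    ((hYc.preimage (pullback.fst f f).continuous).inter (hZc.preimage (pullback.snd f f).continuous))
    (pullback.diagonal f).isClosedEmbedding.isClosed_range.isOpen_compl
  have e1 : ({p : ↥(pullback f f) | pullback.fst f f p ∈ Y ∧ pullback.snd f f p ∈ Z ∧ p ∉ Set.range (pullback.diagonal f)}) =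
      ((pullback.fst f f) ⁻¹' Y ∩ (pullback.snd f f) ⁻¹' Z) ∩ (Set.range (pullback.diagonal f))ᶜ :=
    Set.ext fun p => ⟨fun h => ⟨⟨h.1, h.2.1⟩, h.2.2⟩, fun h => ⟨h.1.1, h.1.2, h.2⟩⟩
  have hp₁ : ∀ p, pullback.fst f f (m p) = pullback.fst f g (pullback.fst (pullback.snd f g) (pullback.snd f g) p) :=
    fun p => by rw [← Scheme.Hom.comp_apply, hm₁, Scheme.Hom.comp_apply]
  have hp₂ : ∀ p, pullback.snd f f (m p) = pullback.fst f g (pullback.snd (pullback.snd f g) (pullback.snd f g) p) :=
    fun p => by rw [← Scheme.Hom.comp_apply, hm₂, Scheme.Hom.comp_apply]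
  have hp₃ : ∀ p, m p ∈ Set.range (pullback.diagonal f) ↔ p ∈ Set.range (pullback.diagonal (pullback.snd f g)) := by
    intro p
    constructor
    · rintro ⟨u, hu⟩
      obtain ⟨z, -, hz⟩ := Scheme.exists_preimage_of_isPullback sqD u p hu
      exact ⟨z, hz⟩
    · rintro ⟨u, rfl⟩
      exact ⟨pullback.fst f g u, by rw [← Scheme.Hom.comp_apply, sqD.w, Scheme.Hom.comp_apply]⟩
  have e2 : ({p : ↥(pullback (pullback.snd f g) (pullback.snd f g)) |
      pullback.fst (pullback.snd f g) (pullback.snd f g) p ∈ ((pullback.fst f g) ⁻¹' Y) ∧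
      pullback.snd (pullback.snd f g) (pullback.snd f g) p ∈ ((pullback.fst f g) ⁻¹' Z) ∧
      p ∉ Set.range (pullback.diagonal (pullback.snd f g))}) =
      m ⁻¹' (((pullback.fst f f) ⁻¹' Y ∩ (pullback.snd f f) ⁻¹' Z) ∩ (Set.range (pullback.diagonal f))ᶜ) := by
    ext p
    simp only [Set.mem_ofPred_eq, Set.mem_preimage, Set.mem_inter_iff, Set.mem_compl_iff, hp₁, hp₂, hp₃, and_assoc]
  rw [e1, e2, hW, hX Y hYc, hX Z hZc, hS, add_add_add_comm, add_add_add_comm (topologicalKrullDim ↥Y),
    ← Nat.cast_add, add_natCast_le_iff]

end Groth.Agent.S14485
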