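import Groth.Statements.S14486
import Groth.Agent.TwistShriek.SurfCurve
import Groth.Agent.TwistShriek.SurfSmooth
import Groth.Agent.FundLocIsoLib.Regular
import Groth.Agent.S8914
-- import your own Groth.Agent.* helpers here

set_option autoImplicit false
set_option backward.isDefEq.respectTransparency false
set_option maxHeartbeats 800000
set_option synthInstance.maxHeartbeats 200000
universe u
open CategoryTheory CategoryTheory.Limits AlgebraicGeometry
open Surf
open Groth.Agent Groth.Agent.TwistShriek

namespace Groth.Agent.S14486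

/-- Let k be an algebraically closed field and X a projective K3 surface over k: an integral scheme of
dimension two with all local rings regular, admitting a closed immersion into some P^n_k over k,
whose structure sheaf O_X is a second exterior power of Ω_{X/k} (the canonical sheaf is trivial) and
with H^1(X, O_X) = 0. Let C be a nonsingular curve of genus g on X: an integral closed subscheme of
dimension one with all local rings regular, with ideal sheaf I ⊆ O_X and g = dim_k H^1(C, O_C); let
M be an inverse of I for the tensor product (M = O_X(C)). Then C² = 2g - 2 and h^0(X, O_X(C)) = g +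
1. Writing (L·L') for the intersection number χ(O_X) - χ(L) - χ(L') + χ(L ⊗ L') of two invertible
modules (packaged as FGA.intNum), C² = (I·I), so the assertion reads (I·I) = 2g - 2 and dim_k H^0(X,
M) = g + 1. (A K3 surface is only required to be proper; this row assumes the projective embedding.) -/
theorem result (k : Type u) [Field k] [IsAlgClosed k] (X : Scheme.{u})
    [X.Over (Spec (CommRingCat.of k))] [IsIntegral X] (hdim : topologicalKrullDim X = 2)
    (hreg : ∀ x : X, IsRegularLocalRing (X.presheaf.stalk x))
    (hproj : ∃ (n : ℕ) (ι : X ⟶ CohB1.ProjSpace n k), IsClosedImmersion ι ∧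
      ι ≫ CohB1.ProjSpace.toSpec n k = (X ↘ (Spec (CommRingCat.of k))))
    (hK : ExtPow.IsExtPow 2 (Omega.sheaf (X ↘ (Spec (CommRingCat.of k)))) (Coh.structureModule X))
    (hH1 : Subsingleton (Coh.HH X (Coh.structureModule X) 1))
    (C : Scheme.{u}) (i : C ⟶ X) [IsClosedImmersion i] [IsIntegral C] (hC : topologicalKrullDim C = 1)
    (hCreg : ∀ c : C, IsRegularLocalRing (C.presheaf.stalk c))
    (M : X.Modules) (hM : ClSub.IsInverseOf M (ClSub.idealMod i.ker)) :
    letI : C.Over (Spec (CommRingCat.of k)) := ⟨i ≫ (X ↘ (Spec (CommRingCat.of k)))⟩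
    FGA.intNum k X 2 ![ClSub.idealMod i.ker, ClSub.idealMod i.ker] (Coh.structureModule X) =
        2 * (Curv2.genus k C : ℤ) - 2 ∧
      Module.finrank k (Coh.HH X M 0) = Curv2.genus k C + 1 := by
    letI : C.Over (Spec (CommRingCat.of k)) := ⟨i ≫ (X ↘ (Spec (CommRingCat.of k)))⟩
    obtain ⟨n, ι, hι0, hι⟩ := hproj
    haveI := hι0
    haveI := ProjSerreLib.isProper_over ι hι
    haveI := EulerIneqLib.isNoetherian_proper (X := X) k
    haveI : IsProper (C ↘ Spec (CommRingCat.of k)) := inferInstanceAs (IsProper (i ≫ (X ↘ Spec (CommRingCat.of k))))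
    haveI := EulerIneqLib.isNoetherian_proper (X := C) k
    haveI : CompactSpace X := QuasiCompact.compactSpace_of_compactSpace (X ↘ Spec (CommRingCat.of k))
    haveI := FundLocIsoLib.smoothOfRelativeDimension_of_regular (X ↘ Spec (CommRingCat.of k)) hreg hdim
    have hA : CohB1.IsAmple ((Scheme.Modules.pullback ι).obj (Twist.twistProjSpace n k 1)) :=
      AmpleLib.isAmple_pullback ι (AmpleEmb.isAmple_twistOne n k)
    obtain ⟨hOi, hd, hdj⟩ := canonical_data ι hι hK
    have hI : PicF.IsInvertible (ClSub.idealMod i.ker) := (S8914.result _).2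
      (isEffCartierIdeal_curve (X ↘ Spec (CommRingCat.of k)) hdim hreg i hC)
    obtain ⟨eM⟩ := hM
    have hMi : PicF.IsInvertible M := AmpleLib.isInvertible_of_tensor_iso eM
    have hsupp : topologicalKrullDim (i.ker.support : Set X) = 1 := by
      rw [Scheme.Hom.support_ker, i.isClosedEmbedding.isClosed_range.closure_eq,
        ← (i.isClosedEmbedding.isEmbedding.toHomeomorph).isHomeomorph.topologicalKrullDim_eq]
      exact hC
    haveI h0I : Subsingleton (Coh.HH X (ClSub.idealMod i.ker) 0) := subsingleton_H0_ideal k hdim hA hI hsupp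
    have hh0 : Module.finrank k (Coh.HH X (Coh.structureModule X) 0) = 1 := CurveLib.finrank_H0_structure
    have hC0 : Module.finrank k (Coh.HH C (Coh.structureModule C) 0) = 1 := CurveLib.finrank_H0_structure
    haveI hQ : Coh.IsQCoh (Coh.structureModule C) := (DevLib.isCoh_structureModule C).1
    obtain ⟨f⟩ := nonempty_quotMod_ker_iso i
    have hQ0 : Module.finrank k (Coh.HH X (ClSub.quotMod i.ker) 0) = 1 :=
      ((CurveLib.hMap_bijective_finrank (k := k) f 0).trans (IntLib.finrank_push k i rfl _ 0)).trans hC0
    haveI := Groth.Agent.SerreAff.epi_unitToPush i.ker.subschemeι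
    haveI : Mono (ClSub.idealModι i.ker) := inferInstanceAs (Mono (kernel.ι _))
    let S : ShortComplex X.Modules := ShortComplex.mk (ClSub.idealModι i.ker) (ClSub.toSubscheme i.ker) (kernel.condition _)
    have hS : S.ShortExact := ShortComplex.ShortExact.mk'
      (ShortComplex.exact_of_f_is_kernel _ (kernelIsKernel _)) (inferInstanceAs (Mono (ClSub.idealModι i.ker)))
      (inferInstanceAs (Epi (ClSub.toSubscheme i.ker)))
    haveI : Module.Finite k (Coh.HH X S.X₂ 0) := EulerIneqLib.finite_HH (k := k) (DevLib.isCoh_structureModule X) 0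
    haveI : Module.Finite k (Coh.HH X S.X₃ 0) := EulerIneqLib.finite_HH (k := k) (IntLib.isCoh_quotMod i.ker) 0
    have hg : Function.Surjective (CurveLib.hMap (k := k) S.g 0) := by
      refine (LinearMap.injective_iff_surjective_of_finrank_eq_finrank (hh0.trans hQ0.symm)).1 ?_
      rw [← LinearMap.ker_eq_bot, ← CurveLib.range_hMap_f hS]
      exact LinearMap.range_eq_bot.2 (LinearMap.ext fun x => by
        have hx : x = 0 := h0I.elim _ _
        rw [hx, map_zero, LinearMap.zero_apply])
    haveI h1I : Subsingleton (Coh.HH X (ClSub.idealMod i.ker) 1) := by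
      refine subsingleton_of_forall_eq 0 fun y => ?_
      have hy : y ∈ LinearMap.range (CurveLib.hδ (k := k) hS 0) := by
        rw [CurveLib.range_hδ hS 0]
        exact hH1.elim _ _
      obtain ⟨z, rfl⟩ := hy
      obtain ⟨w, rfl⟩ := hg z
      have hw : CurveLib.hMap (k := k) S.g 0 w ∈ LinearMap.ker (CurveLib.hδ (k := k) hS 0) := by
        rw [← CurveLib.range_hMap_g hS 0]
        exact ⟨w, rfl⟩
      exact hw
    have hsum : ∀ A : X.Modules, Curv2.euler k X A = (Module.finrank k (Coh.HH X A 0) : ℤ) -
        Module.finrank k (Coh.HH X A 1) + Module.finrank k (Coh.HH X A 2) := fun A => by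
      rw [CurveLib.euler_eq_sum (K := k) A 3 fun p hp => CurveLib.subsingleton_HH_of_dim A (d := 2) hdim.le (by omega),
        Finset.sum_range_succ, Finset.sum_range_succ, Finset.sum_range_succ, Finset.sum_range_zero]
      simp only [pow_zero, pow_one, one_mul, neg_one_mul, zero_add, neg_one_sq]
      ring
    have hTI : ∀ j, j ≤ 2 → Module.finrank k (Coh.HH X (ClSub.idealMod i.ker) j) =
        Module.finrank k (Coh.HH X M (2 - j)) := fun j hj => by
      rw [← hdj M _ hMi ⟨eM⟩ j hj]
      exact CurveLib.hMap_bijective_finrank (k := k) (AmpleLib.unitL _).symm j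
    have hO2 := hdj (Coh.structureModule X) (Coh.structureModule X) hOi ⟨AmpleLib.unitL _⟩ 0 (by omega)
    rw [(CurveLib.hMap_bijective_finrank (k := k) (AmpleLib.unitL (Coh.structureModule X)) 0), hh0, Nat.sub_zero] at hO2
    have hχO := hsum (Coh.structureModule X)
    haveI := hH1
    rw [hh0, ← hO2, Module.finrank_zero_of_subsingleton] at hχO
    have hh1 := hTI 1 (by omega)
    have hh2 := hTI 0 (by omega)
    rw [Module.finrank_zero_of_subsingleton] at hh1 hh2
    have hχM := hsum M
    rw [show (2 : ℕ) - 1 = 1 from rfl] at hh1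
    rw [Nat.sub_zero] at hh2
    rw [← hh1, ← hh2] at hχM
    have hcl0 : Nakai.cl hOi = 0 := by
      have e : IntLib.inv' hOi = 1 := Subtype.ext rfl
      rw [Nakai.cl, e, map_one, sub_self]
    have hzero : ∀ {A : X.Modules} (hA : PicF.IsInvertible A),
        FGA.intNum k X 2 ![A, Coh.structureModule X] (Coh.structureModule X) = 0 := fun {A} hA => by
      rw [intNum_eq_form k hdim.le hA hOi, hcl0, Nakai.form, mul_zero, map_zero]
    have hadj := intNum_adjunction k hdim.le hOi hd i hI
    rw [hzero hI, sub_zero] at hadj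
    have hCχ := CurveLib.euler_eq_sum (K := k) (Coh.structureModule C) 2 fun p hp =>
      CurveLib.subsingleton_HH_of_dim (Coh.structureModule C) (d := 1) hC.le (by omega)
    simp only [Finset.sum_range_succ, Finset.sum_range_zero, zero_add, pow_zero, pow_one, hC0] at hCχ
    have hgenus : (Curv2.genus k C : ℤ) = Module.finrank k (Coh.HH C (Coh.structureModule C) 1) := rfl
    have hrr := two_mul_euler_of_duality k hdim.le hOi hd hMi
    rw [hzero hMi] at hrr
    have hMM : FGA.intNum k X 2 ![M, M] (Coh.structureModule X) =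
        FGA.intNum k X 2 ![ClSub.idealMod i.ker, ClSub.idealMod i.ker] (Coh.structureModule X) := by
      rw [intNum_eq_form k hdim.le hMi hMi, intNum_eq_form k hdim.le hI hI]
      have hm : Nakai.cl hI - IntLib.dif hMi ∈ Nakai.Aug X ^ 2 :=
        Nakai.cl_mul_inverse_mem hI hMi (AmpleLib.comm _ _ ≪≫ eM)
      rw [Nakai.form_congr k hdim hm (Nakai.cl_mem hI), Nakai.form_comm k (IntLib.dif hMi) (Nakai.cl hI),
        Nakai.form_congr k hdim hm (by rw [← neg_neg (IntLib.dif hMi), ← Nakai.cl_eq_neg_dif]; exact neg_mem (Nakai.cl_mem hMi)),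
        Nakai.form, Nakai.form, Nakai.cl_eq_neg_dif hMi, neg_mul_neg]
    push_cast at hχM hχO hCχ hrr hadj ⊢
    refine ⟨by linarith, ?_⟩
    have : (Module.finrank k (Coh.HH X M 0) : ℤ) = (Curv2.genus k C : ℤ) + 1 := by linarith
    exact_mod_cast this

end Groth.Agent.S14486
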