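import Groth.Statements.S14489
import Groth.Agent.FibBundleLib.Split
-- import your own Groth.Agent.* helpers here

set_option autoImplicit false
universe u
open CategoryTheory CategoryTheory.Limits AlgebraicGeometry
open ProjBd

namespace Groth.Agent.S14489

open Groth.Agent
set_option backward.isDefEq.respectTransparency false
set_option backward.isDefEq.respectTransparency.types false
set_option linter.style.haveILetI false

/-- Let f : C → B be a proper smooth morphism of schemes of relative dimension one all of whose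
geometric fibres are projective lines (for every algebraically closed field Ω and every Spec Ω → B,
the fibre C ×_B Spec Ω is isomorphic to P^1_Ω over Ω). If f admits two sections s₁, s₂ with disjoint
images, then C is the projective bundle of a direct sum of two line bundles: there exist invertible
O_B-modules L₁, L₂, an invertible O_C-module O(1) and a surjection q : f^*(L₁ ⊕ L₂) → O(1) such that
(f : C → B, O(1), q) has the universal property of the projective bundle P(L₁ ⊕ L₂). -/
theorem result {C B : Scheme.{u}} (f : C ⟶ B)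
    [IsProper f] [SmoothOfRelativeDimension 1 f]
    (hfib : ∀ (Ω : Type u) [Field Ω] [IsAlgClosed Ω] (b : Spec (CommRingCat.of Ω) ⟶ B),
      ∃ e : pullback f b ≅ CohB1.ProjSpace 1 Ω, e.hom ≫ CohB1.ProjSpace.toSpec 1 Ω = pullback.snd f b)
    (s₁ s₂ : B ⟶ C) (hs₁ : s₁ ≫ f = 𝟙 B) (hs₂ : s₂ ≫ f = 𝟙 B)
    (hdisj : Disjoint (Set.range s₁) (Set.range s₂)) :
    ∃ L₁ L₂ : B.Modules, FlatMod.IsFinLocFreeOfRank 1 L₁ ∧ FlatMod.IsFinLocFreeOfRank 1 L₂ ∧
      ∃ (O1 : C.Modules) (q : (Scheme.Modules.pullback f).obj (L₁ ⊞ L₂) ⟶ O1),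
        KRR.IsProjBundle f (L₁ ⊞ L₂) O1 q := by
  haveI : Smooth f := SmoothOfRelativeDimension.smooth 1 f
  obtain ⟨L, E, q, hL, -, hE, hq⟩ := FibBundleLib.exists_isProjBundle_of_geomZero f s₁ hs₁ fun b => by
    obtain ⟨e, he⟩ := hfib _ (FibBundleLib.geomPt b)
    exact FibBundleLib.geomZero_of_P1 f b e he
  haveI := FibBundleLib.isIso_lift hE hq hs₁ hs₂ hdisj
  exact ⟨_, _, PBundleLib.rank_of_isInvertible (AmpleLib.isInvertible_pullback s₁ hL),
    PBundleLib.rank_of_isInvertible (AmpleLib.isInvertible_pullback s₂ hL), L, _,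
    FibBundleLib.isProjBundle_congr hq (asIso (biprod.lift (FibBundleLib.secQ q hs₁) (FibBundleLib.secQ q hs₂))).symm⟩

end Groth.Agent.S14489
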