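import Groth.Statements.S14490
import Groth.Agent.FibBundleLib.Split
-- import your own Groth.Agent.* helpers here

set_option autoImplicit false
universe u
open CategoryTheory CategoryTheory.Limits AlgebraicGeometry
open ProjBd

namespace Groth.Agent.S14490

open Groth.Agent
set_option backward.isDefEq.respectTransparency false
set_option backward.isDefEq.respectTransparency.types false
set_option linter.style.haveILetI false

/-- Let f : C → B be a proper smooth morphism of schemes of relative dimension one all of whose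
geometric fibres are projective lines (for every algebraically closed field Ω and every Spec Ω → B,
the fibre C ×_B Spec Ω is isomorphic to P^1_Ω over Ω). If f admits three sections s₁, s₂, s₃ with
pairwise disjoint images, then C is the projective bundle of the free module of rank 2, i.e. C ≅ B ×
P^1 over B: there exist an invertible O_C-module O(1) and a surjection q : f^*(O_B^2) → O(1) such
that (f : C → B, O(1), q) has the universal property of the projective bundle P(O_B^2). -/
theorem result {C B : Scheme.{u}} (f : C ⟶ B)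
    [IsProper f] [SmoothOfRelativeDimension 1 f]
    (hfib : ∀ (Ω : Type u) [Field Ω] [IsAlgClosed Ω] (b : Spec (CommRingCat.of Ω) ⟶ B),
      ∃ e : pullback f b ≅ CohB1.ProjSpace 1 Ω, e.hom ≫ CohB1.ProjSpace.toSpec 1 Ω = pullback.snd f b)
    (s₁ s₂ s₃ : B ⟶ C) (hs₁ : s₁ ≫ f = 𝟙 B) (hs₂ : s₂ ≫ f = 𝟙 B) (hs₃ : s₃ ≫ f = 𝟙 B)
    (h₁₂ : Disjoint (Set.range s₁) (Set.range s₂)) (h₁₃ : Disjoint (Set.range s₁) (Set.range s₃))
    (h₂₃ : Disjoint (Set.range s₂) (Set.range s₃)) :
    ∃ (O1 : C.Modules) (q : (Scheme.Modules.pullback f).obj (FlatMod.freeMod B 2) ⟶ O1),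
      KRR.IsProjBundle f (FlatMod.freeMod B 2) O1 q := by
  haveI : Smooth f := SmoothOfRelativeDimension.smooth 1 f
  obtain ⟨L, hL, ⟨i⟩⟩ := AmpleEmb.exists_isInverseOf (JacLib.isInvertible_ker_of_section f s₁ hs₁)
  have hLI : ClSub.IsInverseOf L (ClSub.idealMod s₁.ker) := ⟨AmpleLib.comm _ _ ≪≫ i⟩
  have hfd : ∀ b, FibBundleLib.FibData f L 1 b := fun b => by
    obtain ⟨e, he⟩ := hfib _ (FibBundleLib.geomPt b)
    obtain ⟨h1, h2, -, h4⟩ := FibBundleLib.fibre_of_geomZero (FibBundleLib.geomZero_of_P1 f b e he)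
    exact FibBundleLib.fibData_of_section f s₁ hs₁ hL hLI b h2 h4
  have hLa := AmpleLib.isInvertible_pullback s₁ hL
  obtain ⟨N, hN, ⟨iN⟩⟩ := AmpleEmb.exists_isInverseOf hLa
  have hfN := AmpleLib.isInvertible_pullback f hN
  let O1 := CohB1.tensorMod L ((Scheme.Modules.pullback f).obj N)
  have hT : PicF.IsInvertible O1 := AmpleLib.isInvertible_tensor hL hfN
  obtain ⟨E, q, hE, hq⟩ := FibBundleLib.exists_isProjBundle f hT 1 fun b => ⟨b, specializes_rfl, (hfd b).twist hL hN⟩
  haveI := FibBundleLib.isIso_lift hE hq hs₁ hs₂ h₁₂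
  haveI := FibBundleLib.isIso_lift hE hq hs₁ hs₃ h₁₃
  haveI := FibBundleLib.isIso_lift hE hq hs₂ hs₃ h₂₃
  obtain ⟨φ⟩ := FibBundleLib.nonempty_iso_of_splittings (FibBundleLib.secQ q hs₁) (FibBundleLib.secQ q hs₂)
    (FibBundleLib.secQ q hs₃)
  have hTa := AmpleLib.isInvertible_pullback s₁ hT
  have h0 : PicLib.cls hTa = 1 := by
    rw [← PicLib.pull_cls s₁ hT, PicLib.cls_tensor hL hfN, map_mul, ← PicLib.pull_cls f hN, ← PicLib.pull_comp, hs₁,
      PicLib.pull_id, PicLib.pull_cls]
    exact (PicLib.cls_tensor hLa hN).symm.trans ((PicLib.cls_eq_one _).2 ⟨iN⟩)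
  obtain ⟨ea⟩ := (PicLib.cls_eq_one hTa).1 h0
  obtain ⟨j⟩ := FibBundleLib.nonempty_freeMod_two B
  exact ⟨O1, _, FibBundleLib.isProjBundle_congr hq (j ≪≫ biprod.mapIso ea.symm (ea.symm ≪≫ φ) ≪≫
    (asIso (biprod.lift (FibBundleLib.secQ q hs₁) (FibBundleLib.secQ q hs₂))).symm)⟩

end Groth.Agent.S14490
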