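import Mathlib
import Groth.Agent.IndCofLib.Abelian
import Groth.Statements.S14495

set_option autoImplicit false
universe v
open IndCof

namespace Groth.Agent.S14495

open CategoryTheory CategoryTheory.Limits in
/-- Let C be a small abelian category all of whose objects are Artinian and killed by some power of a
prime p. The abelian category of ind-objects of C of cofinite type (those A with every A[p^n]
isomorphic to an object of C) is Artinian: for A of cofinite type, every decreasing chain of
sub-objects of A in Ind C whose underlying objects are of cofinite type is eventually constant.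
(Sub-objects of A in the full subcategory of cofinite-type objects are exactly such sub-objects,
since that subcategory is stable under kernels in Ind C.) -/
theorem result {C : Type v} [SmallCategory C] [Abelian C]
    (hart : ∀ X : C, IsArtinianObject X) (p : ℕ) (hp : p.Prime)
    (htor : ∀ X : C, ∃ n : ℕ, (p ^ n) • 𝟙 X = 0)
    (A : Ind C) (hA : ∀ n : ℕ, (Ind.yoneda (C := C)).essImage (kernel ((p ^ n) • 𝟙 A))) (S : ℕ → Subobject A) (hS : Antitone S)
    (hcof : ∀ m n : ℕ, (Ind.yoneda (C := C)).essImage
      (kernel ((p ^ n) • 𝟙 ((S m : Subobject A) : Ind C)))) :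
    ∃ N : ℕ, ∀ m : ℕ, N ≤ m → S m = S N := by
  have htor' : ∀ X : C, ∃ n : ℕ, 0 < n ∧ n • 𝟙 X = 0 := fun X =>
    (htor X).elim fun m hm => ⟨p ^ m, pow_pos hp.pos m, hm⟩
  exact Groth.Agent.IndCofLib.chain_stationary hart htor' p hp htor
    (Groth.Agent.IndCofLib.cof_of_primary p hp htor hA) S hS
    (fun m => Groth.Agent.IndCofLib.cof_of_primary p hp htor (hcof m))

end Groth.Agent.S14495
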