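import Mathlib
import Groth.Agent.IndCofLib.Abelian
import Groth.Statements.S14496

set_option autoImplicit false
universe v
open IndCof

namespace Groth.Agent.S14496

open CategoryTheory CategoryTheory.Limits in
/-- Let C be a small abelian category all of whose objects are Artinian and killed by some power of a
prime p, and A an ind-object of C of cofinite type. Let N be such that p^n A = p^N A for all n ≥ N,
so that the divisible part A_div = ⋂ p^n A equals p^N A. Then A_div is of cofinite type and
divisible (multiplication by p on it is an epimorphism; integers prime to p act invertibly on every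
ind-object here, so this is divisibility by all positive integers); it is the largest divisible
sub-object of A; and A / A_div is the largest quotient of A lying in C: every epimorphism from A
onto an object isomorphic to an object of C vanishes on A_div. (The row takes the stabilization
index N as a hypothesis instead of forming the intersection; that A / A_div itself lies in C is the
statement about A / p^N A and is not repeated here.) -/
theorem result {C : Type v} [SmallCategory C] [Abelian C]
    (hart : ∀ X : C, IsArtinianObject X) (p : ℕ) (hp : p.Prime)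
    (htor : ∀ X : C, ∃ n : ℕ, (p ^ n) • 𝟙 X = 0)
    (A : Ind C) (hA : ∀ n : ℕ, (Ind.yoneda (C := C)).essImage (kernel ((p ^ n) • 𝟙 A))) (N : ℕ)
    (hN : ∀ n : ℕ, N ≤ n → imageSubobject ((p ^ n) • 𝟙 A) = imageSubobject ((p ^ N) • 𝟙 A)) :
    (∀ n : ℕ, (Ind.yoneda (C := C)).essImage
        (kernel ((p ^ n) • 𝟙 ((imageSubobject ((p ^ N) • 𝟙 A) : Subobject A) : Ind C)))) ∧
      Epi (p • 𝟙 ((imageSubobject ((p ^ N) • 𝟙 A) : Subobject A) : Ind C)) ∧
      (∀ D : Subobject A, Epi (p • 𝟙 (D : Ind C)) → D ≤ imageSubobject ((p ^ N) • 𝟙 A)) ∧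
      (∀ (Q : Ind C) (q : A ⟶ Q), Epi q → (Ind.yoneda (C := C)).essImage Q →
        (imageSubobject ((p ^ N) • 𝟙 A)).arrow ≫ q = 0) := by
  have htor' : ∀ X : C, ∃ n : ℕ, 0 < n ∧ n • 𝟙 X = 0 := fun X =>
    (htor X).elim fun m hm => ⟨p ^ m, pow_pos hp.pos m, hm⟩
  have hA' := Groth.Agent.IndCofLib.cof_of_primary p hp htor hA
  set I := imageSubobject ((p ^ N) • 𝟙 A)
  let e := factorThruImageSubobject ((p ^ N) • 𝟙 A)
  have hι : e ≫ I.arrow = (p ^ N) • 𝟙 A := imageSubobject_arrow_comp _
  have hstep : ∀ n, N ≤ n → Groth.Agent.IndCofLib.Le ((p ^ N) • 𝟙 A) ((p ^ n) • 𝟙 A) := by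
    intro n hn
    have hz : (imageSubobject ((p ^ n) • 𝟙 A)).arrow ≫ cokernel.π ((p ^ n) • 𝟙 A) = 0 := by
      rw [← cancel_epi (factorThruImageSubobject ((p ^ n) • 𝟙 A)), comp_zero, ← Category.assoc,
        imageSubobject_arrow_comp, cokernel.condition]
    simp only [Groth.Agent.IndCofLib.Le]
    rw [← hι, Category.assoc, ← Subobject.ofLE_arrow (hN n hn).ge, Category.assoc, hz, comp_zero,
      comp_zero]
  refine ⟨fun n => ?_, ?_, fun D hD => ?_, fun Q q hq hQ => ?_⟩
  · have w : kernel.ι e ≫ e = 0 := kernel.condition e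
    refine Groth.Agent.IndCofLib.cof_of_shortExact hart htor' (kernel.ι e) e w
      (ShortComplex.exact_of_f_is_kernel (ShortComplex.mk (kernel.ι e) e w) (kernelIsKernel e))
      ?_ hA' _ (pow_pos hp.pos n)
    intro m hm
    have hκ : kernel.ι e ≫ ((p ^ N) • 𝟙 A) = 0 :=
      (congrArg (kernel.ι e ≫ ·) hι).symm.trans (by rw [kernel.condition_assoc, zero_comp])
    let φ : kernel ((p ^ N) • 𝟙 A) ≅ kernel e :=
      { hom := kernel.lift _ (kernel.ι _) (by
          rw [← cancel_mono I.arrow, Category.assoc, hι, kernel.condition, zero_comp])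
        inv := kernel.lift _ (kernel.ι e) hκ }
    exact Groth.Agent.IndCofLib.isObj_of_iso (kernel.mapIso _ _ φ φ (by simp))
      (Groth.Agent.IndCofLib.cof_kernel hA' hA' ((p ^ N) • 𝟙 A) m hm)
  · obtain ⟨T, π, hπ, c, hc⟩ := (hstep (N + 1) (Nat.le_succ N)).exists_lift
    have hc' : π ≫ e = (c ≫ e) ≫ (p • 𝟙 _) := by
      rw [← cancel_mono I.arrow, Category.assoc, hι, hc]
      simp only [Preadditive.comp_nsmul, Preadditive.nsmul_comp, Category.comp_id, Category.assoc,
        hι, Category.id_comp, smul_smul, pow_succ']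
    haveI : Epi ((c ≫ e) ≫ (p • 𝟙 (I : Ind C))) := by rw [← hc']; infer_instance
    exact epi_of_epi (c ≫ e) _
  · refine Groth.Agent.IndCofLib.subobject_le_of_le ?_
    haveI : Epi ((p ^ N) • 𝟙 (D : Ind C)) := by
      have hpow : ∀ k : ℕ, Epi ((p ^ k) • 𝟙 (D : Ind C)) := by
        intro k
        induction k with
        | zero => simpa using (inferInstance : Epi (𝟙 (D : Ind C)))
        | succ k ih =>
            rw [show (p ^ (k + 1)) • 𝟙 (D : Ind C) = ((p ^ k) • 𝟙 _) ≫ (p • 𝟙 _) by
              rw [Preadditive.comp_nsmul, Category.comp_id, smul_smul, ← pow_succ']]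
            exact epi_comp _ _
      exact hpow N
    simp only [Groth.Agent.IndCofLib.Le]
    rw [← cancel_epi ((p ^ N) • 𝟙 (D : Ind C)), comp_zero, Preadditive.nsmul_comp, Category.id_comp,
      ← Preadditive.nsmul_comp, show (p ^ N) • D.arrow = (D.arrow ≫ e) ≫ I.arrow by
        rw [Category.assoc, hι, Preadditive.comp_nsmul, Category.comp_id],
      Category.assoc, cokernel.condition, comp_zero]
  · obtain ⟨X, ⟨eX⟩⟩ := hQ
    obtain ⟨j, hj⟩ := htor X
    have hq0 : (p ^ j) • q = 0 := by
      have h' := congrArg (Ind.yoneda (C := C)).map hj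
      haveI := Groth.Agent.IndCofLib.additive_yoneda (C := C)
      rw [Functor.map_nsmul, CategoryTheory.Functor.map_id, Functor.map_zero] at h'
      rw [← cancel_mono eX.inv, zero_comp, Preadditive.nsmul_comp,
        ← Category.comp_id (q ≫ eX.inv), ← Preadditive.comp_nsmul, h', comp_zero]
    obtain ⟨T, π, hπ, c, hc⟩ := (hstep (N + j) (Nat.le_add_right N j)).exists_lift
    haveI : Epi e := inferInstance
    rw [← cancel_epi e, comp_zero, reassoc_of% hι, ← cancel_epi π, comp_zero, reassoc_of% hc,
      Preadditive.nsmul_comp, Category.id_comp, pow_add, mul_smul, hq0, smul_zero, comp_zero]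

end Groth.Agent.S14496
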