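import Groth.Statements.S14498
import Mathlib
-- import your own Groth.Agent.* helpers here

set_option autoImplicit false
universe v u
open AbDiag

namespace Groth.Agent.S14498

open CategoryTheory CategoryTheory.Limits in
/-- In an abelian category, let 0 → F → W → E' → 0 (maps a, b) and 0 → E → W → F' → G → G' → 0 (maps c,
d, e, g) be exact sequences such that the composite F → W → F' is a monomorphism. Then the composite
E → W → E' is a monomorphism, and there is a short exact sequence 0 → Coker(E → E') → Coker(F → F')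
→ Ker(G → G') → 0 whose first map is induced by d (through the quotient map b) and whose second map
is induced by e. -/
theorem result
    {V : Type u} [Category.{v} V] [Abelian V] {F W E' E F' G G' : V}
    (a : F ⟶ W) (b : W ⟶ E') (c : E ⟶ W) (d : W ⟶ F') (e : F' ⟶ G) (g : G ⟶ G')
    [Mono a] [Epi b] (wab : a ≫ b = 0) (hab : (ShortComplex.mk a b wab).Exact)
    [Mono c] (wcd : c ≫ d = 0) (hcd : (ShortComplex.mk c d wcd).Exact)
    (wde : d ≫ e = 0) (hde : (ShortComplex.mk d e wde).Exact)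
    (weg : e ≫ g = 0) (heg : (ShortComplex.mk e g weg).Exact) [Epi g]
    (hmono : Mono (a ≫ d)) :
    Mono (c ≫ b) ∧
      ∃ (φ : cokernel (c ≫ b) ⟶ cokernel (a ≫ d)) (ψ : cokernel (a ≫ d) ⟶ kernel g)
        (w : φ ≫ ψ = 0),
        b ≫ cokernel.π (c ≫ b) ≫ φ = d ≫ cokernel.π (a ≫ d) ∧
        cokernel.π (a ≫ d) ≫ ψ ≫ kernel.ι g = e ∧
        (ShortComplex.mk φ ψ w).ShortExact := by
  haveI : Mono (a ≫ d) := hmono
  haveI hm1 : Mono (c ≫ b) := by
    refine Preadditive.mono_of_cancel_zero _ fun {T} x hx => ?_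
    obtain ⟨y, hy⟩ : ∃ y : T ⟶ F, y ≫ a = x ≫ c :=
      ⟨hab.lift (x ≫ c) (by simpa using hx), hab.lift_f _ _⟩
    have hy0 : y = 0 := by
      rw [← cancel_mono (a ≫ d), zero_comp, ← Category.assoc, hy, Category.assoc, wcd, comp_zero]
    rw [← cancel_mono c, zero_comp, ← hy, hy0, zero_comp]
  refine ⟨hm1, ?_⟩
  obtain ⟨t, ht⟩ : ∃ t : E' ⟶ cokernel (a ≫ d), b ≫ t = d ≫ cokernel.π (a ≫ d) :=
    ⟨hab.desc (d ≫ cokernel.π (a ≫ d))
      (show a ≫ d ≫ cokernel.π (a ≫ d) = 0 by rw [← Category.assoc, cokernel.condition]), hab.g_desc _ _⟩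
  let φ : cokernel (c ≫ b) ⟶ cokernel (a ≫ d) :=
    cokernel.desc _ t (by rw [Category.assoc, ht, reassoc_of% wcd, zero_comp])
  let ψ : cokernel (a ≫ d) ⟶ kernel g :=
    cokernel.desc _ (kernel.lift g e weg) (by
      rw [← cancel_mono (kernel.ι g), Category.assoc, kernel.lift_ι, zero_comp, Category.assoc, wde, comp_zero])
  have hφ : b ≫ cokernel.π (c ≫ b) ≫ φ = d ≫ cokernel.π (a ≫ d) := by simp [φ, ht]
  have w : φ ≫ ψ = 0 := by
    rw [← cancel_epi (b ≫ cokernel.π (c ≫ b)), Category.assoc, comp_zero, ← Category.assoc (cokernel.π _),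
      ← Category.assoc b, hφ, ← cancel_mono (kernel.ι g)]
    simp [ψ, wde]
  refine ⟨φ, ψ, w, hφ, by simp [ψ], ?_⟩
  have hde' : (ShortComplex.mk d (kernel.lift g e weg) (by
      rw [← cancel_mono (kernel.ι g), Category.assoc, kernel.lift_ι, zero_comp, wde])).Exact := by
    let α : ShortComplex.mk d (kernel.lift g e weg) (by
        rw [← cancel_mono (kernel.ι g), Category.assoc, kernel.lift_ι, zero_comp, wde]) ⟶ ShortComplex.mk d e wde :=
      { τ₁ := 𝟙 _, τ₂ := 𝟙 _, τ₃ := kernel.ι g }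
    exact (ShortComplex.exact_iff_of_epi_of_isIso_of_mono α).2 hde
  haveI : Epi (kernel.lift g e weg) := (ShortComplex.exact_iff_epi_kernel_lift _).1 heg
  haveI : Epi ψ := epi_of_epi_fac (show cokernel.π (a ≫ d) ≫ ψ = kernel.lift g e weg by simp [ψ])
  haveI : Mono φ := by
    refine Preadditive.mono_of_cancel_zero _ fun {T} x hx => ?_
    obtain ⟨T', p, _, w₀, hw₀⟩ := surjective_up_to_refinements_of_epi (b ≫ cokernel.π (c ≫ b)) x
    have h1 : (w₀ ≫ d) ≫ cokernel.π (a ≫ d) = 0 := by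
      rw [Category.assoc, ← hφ, ← Category.assoc b, ← Category.assoc w₀, ← hw₀, Category.assoc, hx, comp_zero]
    obtain ⟨T'', p', _, y, hy⟩ := (ShortComplex.exact_cokernel (a ≫ d)).exact_up_to_refinements (w₀ ≫ d) h1
    obtain ⟨z, hz⟩ : ∃ z : T'' ⟶ E, z ≫ c = p' ≫ w₀ - y ≫ a :=
      ⟨hcd.lift (p' ≫ w₀ - y ≫ a)
        (show (p' ≫ w₀ - y ≫ a) ≫ d = 0 by
          rw [Preadditive.sub_comp, Category.assoc, Category.assoc, hy, sub_self]), hcd.lift_f _ _⟩
    have h2 : p' ≫ w₀ = z ≫ c + y ≫ a := by rw [hz, sub_add_cancel]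
    rw [← cancel_epi p, ← cancel_epi p', hw₀, ← Category.assoc, h2]
    simp [reassoc_of% wab]
    rw [← Category.assoc c, cokernel.condition, comp_zero]
  refine { exact := ShortComplex.exact_of_g_is_cokernel _ ?_ }
  exact CokernelCofork.IsColimit.ofπ' ψ w fun {Z} s hs => by
    refine ⟨hde'.desc (cokernel.π (a ≫ d) ≫ s) ?_, ?_⟩
    · show d ≫ cokernel.π (a ≫ d) ≫ s = 0
      rw [← Category.assoc d, ← hφ, Category.assoc, Category.assoc, hs, comp_zero, comp_zero]
    · rw [← cancel_epi (cokernel.π (a ≫ d)), ← Category.assoc]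
      simp only [ψ, cokernel.π_desc]
      exact hde'.g_desc _ _

end Groth.Agent.S14498
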