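import Groth.Statements.S14501
import Mathlib

set_option autoImplicit false
universe u
open IntTh

namespace Groth.Agent.S14501

open CategoryTheory CategoryTheory.Limits AlgebraicGeometry

lemma exists_smul_le {A : Type u} [CommRing A] [IsDomain A] {K : Type u} [Field K] [Algebra A K]
    [IsFractionRing A K] {V : Type u} [AddCommGroup V] [Module K V] [Module A V] [IsScalarTower A K V]
    (M N : Submodule A V) [Submodule.IsLattice K M] [Submodule.IsLattice K N] :
    ∃ a : A, a ≠ 0 ∧ ∀ x ∈ M, a • x ∈ N := by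
  classical
  have key : ∀ x : V, ∃ a : A, a ≠ 0 ∧ a • x ∈ N := by
    intro x
    have hx : x ∈ Submodule.span K (N : Set V) := by rw [Submodule.IsLattice.span_eq_top]; trivial
    induction hx using Submodule.span_induction with
    | mem y hy => exact ⟨1, one_ne_zero, by rwa [one_smul]⟩
    | zero => exact ⟨1, one_ne_zero, by rw [smul_zero]; exact zero_mem _⟩
    | add y z _ _ hy hz =>
      obtain ⟨a, ha, hay⟩ := hy
      obtain ⟨b, hb, hbz⟩ := hz
      refine ⟨b * a, mul_ne_zero hb ha, ?_⟩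
      rw [smul_add, mul_smul, mul_smul b a z, smul_comm b a z]
      exact add_mem (N.smul_mem b hay) (N.smul_mem a hbz)
    | smul r y _ hy =>
      obtain ⟨a, ha, hay⟩ := hy
      obtain ⟨p, q, hq, rfl⟩ := IsFractionRing.div_surjective A r
      refine ⟨q * a, mul_ne_zero (nonZeroDivisors.ne_zero hq) ha, ?_⟩
      have hq0 : algebraMap A K q ≠ 0 :=
        fun h => nonZeroDivisors.ne_zero hq ((map_eq_zero_iff _ (IsFractionRing.injective A K)).1 h)
      have : (q * a) • (algebraMap A K p / algebraMap A K q) • y = p • a • y := by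
        rw [← IsScalarTower.algebraMap_smul K (q * a), ← IsScalarTower.algebraMap_smul K p,
          ← IsScalarTower.algebraMap_smul K a, smul_smul, smul_smul, map_mul]
        congr 1
        field_simp
      rw [this]
      exact N.smul_mem p hay
  obtain ⟨s, hs⟩ := Submodule.IsLattice.fg (R := A) (A := K) (M := M)
  choose a ha haN using key
  refine ⟨∏ x ∈ s, a x, Finset.prod_ne_zero_iff.2 fun x _ => ha x, fun x hx => ?_⟩
  rw [← hs] at hx
  induction hx using Submodule.span_induction with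
  | mem y hy =>
    rw [← Finset.prod_erase_mul _ _ hy, mul_smul]
    exact N.smul_mem _ (haN y)
  | zero => rw [smul_zero]; exact zero_mem _
  | add y z _ _ hy hz => rw [smul_add]; exact add_mem hy hz
  | smul r y _ hy => rw [smul_comm]; exact N.smul_mem r hy

lemma length_split {A : Type u} [CommRing A] {V : Type u} [AddCommGroup V] [Module A V] (N I M : Submodule A V)
    (hNI : N ≤ I) (hIM : I ≤ M) :
    Module.length A (↥M ⧸ N.submoduleOf M) =
      Module.length A (↥I ⧸ N.submoduleOf I) + Module.length A (↥M ⧸ I.submoduleOf M) := by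
  have hle : N.submoduleOf M ≤ I.submoduleOf M := Submodule.comap_mono hNI
  refine Module.length_eq_add_of_exact
    ((N.submoduleOf I).mapQ (N.submoduleOf M) (Submodule.inclusion hIM) (fun x hx => hx))
    (Submodule.factor hle) ?_ (Submodule.factor_surjective hle) ?_
  · refine (injective_iff_map_eq_zero _).2 fun x hx => ?_
    obtain ⟨x, rfl⟩ := Submodule.Quotient.mk_surjective _ x
    rw [Submodule.mapQ_apply, Submodule.Quotient.mk_eq_zero] at hx
    exact (Submodule.Quotient.mk_eq_zero _).2 hx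
  · intro z
    obtain ⟨z, rfl⟩ := Submodule.Quotient.mk_surjective _ z
    constructor
    · intro hz
      change (Submodule.Quotient.mk z : ↥M ⧸ I.submoduleOf M) = 0 at hz
      rw [Submodule.Quotient.mk_eq_zero] at hz
      exact ⟨Submodule.Quotient.mk ⟨z.1, hz⟩, rfl⟩
    · rintro ⟨y, hy⟩
      obtain ⟨y, rfl⟩ := Submodule.Quotient.mk_surjective _ y
      rw [← hy]
      exact (Submodule.Quotient.mk_eq_zero _).2 y.2

lemma length_ne_top_of_killed {A : Type u} [CommRing A] [IsDomain A] [IsNoetherianRing A] [IsLocalRing A]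
    (hA : ringKrullDim A = 1) {N : Type u} [AddCommGroup N] [Module A N] [Module.Finite A N] (a : A) (ha : a ≠ 0)
    (h : ∀ x : N, a • x = 0) : Module.length A N ≠ ⊤ := by
  haveI : Ring.KrullDimLE 1 A := Ring.krullDimLE_iff.2 hA.le
  haveI : IsArtinianRing (A ⧸ Ideal.span {a}) := by
    rw [isArtinianRing_iff_isNoetherianRing_krullDimLE_zero]
    refine ⟨inferInstance, Ring.krullDimLE_zero_iff.2 fun P hP => ?_⟩
    haveI := hP
    have hc : (P.comap (Ideal.Quotient.mk (Ideal.span {a}))).IsMaximal :=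
      Ring.krullDimLE_one_iff_of_noZeroDivisors.1 inferInstance _ (fun h0 => ha (by
        have : a ∈ P.comap (Ideal.Quotient.mk (Ideal.span {a})) := by
          rw [Ideal.mem_comap, Ideal.Quotient.eq_zero_iff_mem.2 (Ideal.mem_span_singleton_self a)]
          exact zero_mem _
        rwa [h0, Ideal.mem_bot] at this)) (Ideal.IsPrime.comap _)
    have := hc.map_of_surjective_of_ker_le (f := Ideal.Quotient.mk (Ideal.span {a})) Ideal.Quotient.mk_surjective
      (Ideal.comap_mono bot_le)
    rwa [Ideal.map_comap_of_surjective _ Ideal.Quotient.mk_surjective] at this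
  have htors : Module.IsTorsionBySet A N (Ideal.span {a} : Ideal A) := fun x c => by
    obtain ⟨d, hd⟩ := Ideal.mem_span_singleton'.1 c.2
    show (c : A) • x = 0
    rw [← hd, mul_smul, h, smul_zero]
  letI := htors.module
  haveI : IsScalarTower A (A ⧸ Ideal.span {a}) N := htors.isScalarTower
  haveI : Module.Finite (A ⧸ Ideal.span {a}) N := Module.Finite.of_restrictScalars_finite A _ N
  rw [Module.length_eq_of_surjective (R := A ⧸ Ideal.span {a}) (S := A) (M := N) Ideal.Quotient.mk_surjective, Module.length_ne_top_iff]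
  exact isFiniteLength_iff_isNoetherian_isArtinian.2
    ⟨isNoetherian_of_isNoetherianRing_of_finite _ _, inferInstance⟩


/-- Take a one-dimensional Noetherian local domain A with fraction field K, V a finite-dimensional
K-vector space and M₁, M₂, M₃ lattices in V (finitely generated A-submodules spanning V over K).
Define the distance d(M, M') as length_A(M/(M ∩ M')) − length_A(M'/(M ∩ M')), with the (finite)
lengths read as natural numbers. Then d(M₁, M₃) = d(M₁, M₂) + d(M₂, M₃). -/
theorem result (A : Type u) [CommRing A] [IsDomain A] [IsNoetherianRing A]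
    [IsLocalRing A] (hA : ringKrullDim A = 1) (K : Type u) [Field K] [Algebra A K]
    [IsFractionRing A K] (V : Type u) [AddCommGroup V] [Module K V] [Module A V]
    [IsScalarTower A K V] [FiniteDimensional K V]
    (M₁ M₂ M₃ : Submodule A V) [Submodule.IsLattice K M₁] [Submodule.IsLattice K M₂]
    [Submodule.IsLattice K M₃] :
    ((Module.length A (↥M₁ ⧸ (M₁ ⊓ M₃).submoduleOf M₁)).toNat : ℤ) -
        ((Module.length A (↥M₃ ⧸ (M₁ ⊓ M₃).submoduleOf M₃)).toNat : ℤ) =
      (((Module.length A (↥M₁ ⧸ (M₁ ⊓ M₂).submoduleOf M₁)).toNat : ℤ) -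
        ((Module.length A (↥M₂ ⧸ (M₁ ⊓ M₂).submoduleOf M₂)).toNat : ℤ)) +
      (((Module.length A (↥M₂ ⧸ (M₂ ⊓ M₃).submoduleOf M₂)).toNat : ℤ) -
        ((Module.length A (↥M₃ ⧸ (M₂ ⊓ M₃).submoduleOf M₃)).toNat : ℤ)) := by
  obtain ⟨a12, h12, h12'⟩ := exists_smul_le (K := K) M₁ M₂
  obtain ⟨a13, h13, h13'⟩ := exists_smul_le (K := K) M₁ M₃
  obtain ⟨a21, h21, h21'⟩ := exists_smul_le (K := K) M₂ M₁
  obtain ⟨a23, h23, h23'⟩ := exists_smul_le (K := K) M₂ M₃
  obtain ⟨a31, h31, h31'⟩ := exists_smul_le (K := K) M₃ M₁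
  obtain ⟨a32, h32, h32'⟩ := exists_smul_le (K := K) M₃ M₂
  let N := M₁ ⊓ M₂ ⊓ M₃
  have fin : ∀ (M : Submodule A V) [Submodule.IsLattice K M] (a b : A), a ≠ 0 → b ≠ 0 →
      (∀ x ∈ M, (a * b) • x ∈ N) → Module.length A (↥M ⧸ N.submoduleOf M) ≠ ⊤ := by
    intro M _ a b ha hb hab
    haveI : Module.Finite A M := Module.Finite.iff_fg.2 (Submodule.IsLattice.fg (R := A) (A := K))
    refine length_ne_top_of_killed hA (a * b) (mul_ne_zero ha hb) fun x => ?_
    obtain ⟨x, rfl⟩ := Submodule.Quotient.mk_surjective _ x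
    rw [← Submodule.Quotient.mk_smul, Submodule.Quotient.mk_eq_zero]
    exact hab x.1 x.2
  have f1 : Module.length A (↥M₁ ⧸ N.submoduleOf M₁) ≠ ⊤ := fin M₁ a12 a13 h12 h13 fun x hx =>
    ⟨⟨M₁.smul_mem _ hx, by rw [mul_comm, mul_smul]; exact M₂.smul_mem _ (h12' x hx)⟩,
      by rw [mul_smul]; exact M₃.smul_mem _ (h13' x hx)⟩
  have f2 : Module.length A (↥M₂ ⧸ N.submoduleOf M₂) ≠ ⊤ := fin M₂ a21 a23 h21 h23 fun x hx =>
    ⟨⟨by rw [mul_comm, mul_smul]; exact M₁.smul_mem _ (h21' x hx), M₂.smul_mem _ hx⟩,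
      by rw [mul_smul]; exact M₃.smul_mem _ (h23' x hx)⟩
  have f3 : Module.length A (↥M₃ ⧸ N.submoduleOf M₃) ≠ ⊤ := fin M₃ a31 a32 h31 h32 fun x hx =>
    ⟨⟨by rw [mul_comm, mul_smul]; exact M₁.smul_mem _ (h31' x hx), by rw [mul_smul]; exact M₂.smul_mem _ (h32' x hx)⟩,
      M₃.smul_mem _ hx⟩
  have key : ∀ (I M M' : Submodule A V), N ≤ I → I ≤ M → I ≤ M' →
      Module.length A (↥M ⧸ N.submoduleOf M) ≠ ⊤ → Module.length A (↥M' ⧸ N.submoduleOf M') ≠ ⊤ →
      ((Module.length A (↥M ⧸ I.submoduleOf M)).toNat : ℤ) - ((Module.length A (↥M' ⧸ I.submoduleOf M')).toNat : ℤ) =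
      ((Module.length A (↥M ⧸ N.submoduleOf M)).toNat : ℤ) - ((Module.length A (↥M' ⧸ N.submoduleOf M')).toNat : ℤ) := by
    intro I M M' hI h1 h2 hf hf'
    rw [length_split N I M hI h1] at hf ⊢
    rw [length_split N I M' hI h2] at hf' ⊢
    simp only [ne_eq, ENat.add_eq_top, not_or] at hf
    obtain ⟨ha, hb⟩ := hf
    simp only [ne_eq, ENat.add_eq_top, not_or] at hf'
    obtain ⟨-, hb'⟩ := hf'
    rw [ENat.toNat_add ha hb, ENat.toNat_add ha hb']
    push_cast
    ring
  rw [key (M₁ ⊓ M₃) M₁ M₃ (le_inf (inf_le_left.trans inf_le_left) inf_le_right) inf_le_left inf_le_right f1 f3,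
    key (M₁ ⊓ M₂) M₁ M₂ inf_le_left inf_le_left inf_le_right f1 f2,
    key (M₂ ⊓ M₃) M₂ M₃ (le_inf (inf_le_left.trans inf_le_right) inf_le_right) inf_le_left inf_le_right f2 f3]
  ring

end Groth.Agent.S14501
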