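import Groth.Statements.S14503
import Groth.Agent.OrdDet.Lattice

set_option autoImplicit false
universe u
open IntTh

namespace Groth.Agent.S14503

/-- Let A ⊆ B be a module-finite extension of domains with A Noetherian local of Krull dimension one, K
⊆ L their fraction fields, and r ∈ B nonzero. Then B/rB has finite length as an A-module and
length_A(B/rB) equals the order at the closed point of A of the norm N_{L/K}(r), i.e.
length_A(A/(a)) − length_A(A/(b)) for N_{L/K}(r) = a/b. -/
theorem result (A : Type u) [CommRing A] [IsDomain A]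
    [IsNoetherianRing A] [IsLocalRing A] (hA : ringKrullDim A = 1) (B : Type u) [CommRing B]
    [IsDomain B] [Algebra A B] (hinj : Function.Injective (algebraMap A B)) [Module.Finite A B]
    (K L : Type u) [Field K] [Field L] [Algebra A K] [IsFractionRing A K] [Algebra B L]
    [IsFractionRing B L] [Algebra K L] [Algebra A L] [IsScalarTower A B L] [IsScalarTower A K L]
    [FiniteDimensional K L] (r : B) (hr : r ≠ 0) :
    Module.length A (B ⧸ Ideal.span {r}) < ⊤ ∧
      ((Module.length A (B ⧸ Ideal.span {r})).toNat : ℤ) =
        CycAlg.ordFrac A K (Algebra.norm K (algebraMap B L r)) := by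
  haveI : Ring.KrullDimLE 1 A := by rw [Ring.krullDimLE_iff, hA]; norm_num
  let j : B →ₗ[A] L := (IsScalarTower.toAlgHom A B L).toLinearMap
  have hj : Function.Injective j := IsFractionRing.injective B L
  let M : Submodule A L := LinearMap.range j
  have hfg : M.FG := by
    rw [show M = (⊤ : Submodule A B).map j from (Submodule.map_top j).symm]
    exact Module.Finite.fg_top.map j
  have hspan : Submodule.span K (M : Set L) = ⊤ := by
    refine eq_top_iff.mpr fun x _ => ?_
    obtain ⟨b, s, hs, rfl⟩ := IsFractionRing.div_surjective B x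
    haveI : FaithfulSMul A B := (faithfulSMul_iff_algebraMap_injective A B).mpr hinj
    obtain ⟨a, ha, t, hat⟩ := (Algebra.IsIntegral.isIntegral (R := A) s).isAlgebraic.exists_nonzero_dvd hs
    have hsL : algebraMap B L s ≠ 0 := by
      simpa using nonZeroDivisors.ne_zero hs
    have haL : algebraMap A L a = algebraMap B L s * algebraMap B L t := by
      rw [IsScalarTower.algebraMap_apply A B L a, ← map_mul, ← hat]
    have haK : algebraMap A K a ≠ 0 := fun h => ha (IsFractionRing.injective A K (by rw [h, map_zero]))
    have : algebraMap B L b / algebraMap B L s = (algebraMap A K a)⁻¹ • j (b * t) := by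
      rw [eq_inv_smul_iff₀ haK, algebraMap_smul, Algebra.smul_def]
      show algebraMap A L a * (algebraMap B L b / algebraMap B L s) = algebraMap B L (b * t)
      rw [haL, map_mul]
      field_simp
    rw [this]
    exact Submodule.smul_mem _ _ (Submodule.subset_span ⟨_, rfl⟩)
  have hrL : algebraMap B L r ≠ 0 := fun h => hr (IsFractionRing.injective B L (by rw [h, map_zero]))
  let φ : L ≃ₗ[K] L := LinearEquiv.ofBijective (Algebra.lmul K L (algebraMap B L r))
    ⟨fun x y hxy => mul_left_cancel₀ hrL hxy, fun y => ⟨(algebraMap B L r)⁻¹ * y, mul_inv_cancel_left₀ hrL y⟩⟩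
  obtain ⟨-, h2, -, h4⟩ := Groth.Agent.OrdDet.latticeDist M hfg hspan φ
  let m : B →ₗ[A] B := LinearMap.mulLeft A r
  have hMf : M.map (φ.toLinearMap.restrictScalars A) = (LinearMap.range m).map j := by
    ext x
    constructor
    · rintro ⟨_, ⟨b, rfl⟩, rfl⟩
      exact ⟨r * b, ⟨b, rfl⟩, map_mul (algebraMap B L) r b⟩
    · rintro ⟨_, ⟨b, rfl⟩, rfl⟩
      exact ⟨j b, ⟨b, rfl⟩, (map_mul (algebraMap B L) r b).symm⟩
  have hle : M.map (φ.toLinearMap.restrictScalars A) ≤ M := by
    rw [hMf]; rintro _ ⟨x, _, rfl⟩; exact ⟨x, rfl⟩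
  rw [inf_eq_right.mpr hle] at h2 h4
  rw [Groth.Agent.OrdDet.qlen_self] at h4
  have hlen : Groth.Agent.OrdDet.qlen M (M.map (φ.toLinearMap.restrictScalars A)) =
      Module.length A (B ⧸ Ideal.span {r}) := by
    rw [hMf, show M = (⊤ : Submodule A B).map j from (Submodule.map_top j).symm,
      Groth.Agent.OrdDet.qlen_map j hj, Groth.Agent.OrdDet.qlen_top]
    have : LinearMap.range m = (Ideal.span {r}).restrictScalars A := by
      ext x
      simp only [LinearMap.mem_range, m, LinearMap.mulLeft_apply, Submodule.restrictScalars_mem,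
        Ideal.mem_span_singleton']
      simp only [mul_comm r]
    rw [this]
    exact (Submodule.Quotient.restrictScalarsEquiv A (Ideal.span {r})).length_eq
  rw [hlen] at h2 h4
  refine ⟨h2, ?_⟩
  rw [Algebra.norm_apply]
  rw [show φ.toLinearMap = Algebra.lmul K L (algebraMap B L r) from LinearMap.ext fun _ => rfl] at h4
  simpa using h4

end Groth.Agent.S14503
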