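import Groth.Statements.S14504
import Mathlib

set_option autoImplicit false
universe u
open IntTh

namespace Groth.Agent.S14504

/-- Let K be a field, d ≤ n, λ = (λ₁ ≥ ⋯ ≥ λ_d) a non-increasing sequence of natural numbers, d_i = n −
d + i − λ_i, and V_j ⊆ K^n the span of the first j standard basis vectors. For a d × n matrix A over
K with linearly independent rows spanning the subspace W: one has dim(W ∩ V_{d_i}) ≥ i for every i =
1, …, d if and only if every d × d minor of A taken on strictly increasing columns j₁ < ⋯ < j_d
(1-indexed) with j_i > d_i for some i vanishes. (Indices are 0-based in the formal statement: row i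
: Fin d stands for i + 1 and column l : Fin n for l + 1.) -/
theorem result (K : Type u) [Field K] (n d : ℕ)
    (hdn : d ≤ n) (V : ℕ → Submodule K (Fin n → K))
    (hV : ∀ (j : ℕ) (v : Fin n → K), v ∈ V j ↔ ∀ l : Fin n, j ≤ (l : ℕ) → v l = 0)
    (lam : Fin d → ℕ) (hlam : Antitone lam) (A : Matrix (Fin d) (Fin n) K)
    (hA : LinearIndependent K (fun i : Fin d => A i)) :
    (∀ i : Fin d, (i : ℕ) + 1 ≤
        Module.finrank K ↥(Submodule.span K (Set.range fun i : Fin d => A i) ⊓
          V (n - d + ((i : ℕ) + 1) - lam i))) ↔
      ∀ J : Fin d → Fin n, StrictMono J →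
        (∃ i : Fin d, n - d + ((i : ℕ) + 1) - lam i < (J i : ℕ) + 1) →
          (A.submatrix id J).det = 0 := by
  classical
  let f : (Fin d → K) →ₗ[K] (Fin n → K) := Fintype.linearCombination K (fun i : Fin d => A i)
  have hf : Function.Injective f := (injective_iff_map_eq_zero f).2 fun x hx => funext (Fintype.linearIndependent_iff.1 hA x hx)
  have hfr : LinearMap.range f = Submodule.span K (Set.range fun i : Fin d => A i) :=
    Fintype.range_linearCombination K _
  have hfapp : ∀ x l, f x l = ∑ r, x r * A r l := fun x l => by
    simp [f, Fintype.linearCombination_apply, Finset.sum_apply]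
  have hdim : ∀ D, Module.finrank K ↥(Submodule.span K (Set.range fun i : Fin d => A i) ⊓ V D) =
      Module.finrank K ↥((V D).comap f) := fun D => by
    rw [← hfr, ← Submodule.map_comap_eq]
    exact ((Submodule.equivMapOfInjective f hf _).finrank_eq).symm
  constructor
  · intro h J hJ ⟨i, hi⟩
    by_contra hdet
    have hrest : Function.Injective fun x : Fin d → K => fun j : Fin d => f x (J j) := by
      have hu : IsUnit (A.submatrix id J) := (Matrix.isUnit_iff_isUnit_det _).2 (isUnit_iff_ne_zero.2 hdet)
      intro x y hxy
      apply Matrix.vecMul_injective_iff_isUnit.2 hu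
      funext j
      have := congrFun hxy j
      simp only [hfapp] at this
      simpa [Matrix.vecMul, dotProduct] using this
    set D := n - d + ((i : ℕ) + 1) - lam i with hD
    have hi' := h i
    rw [hdim, ← hD] at hi'
    let g : ↥((V D).comap f) →ₗ[K] ({j : Fin d // (J j : ℕ) < D} → K) :=
      { toFun := fun x j => f x.1 (J j.1)
        map_add' := fun x y => by funext j; simp
        map_smul' := fun c x => by funext j; simp }
    have hg : Function.Injective g := fun x y hxy => by
      refine Subtype.ext (hrest (funext fun j => ?_))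
      by_cases hj : (J j : ℕ) < D
      · exact congrFun hxy ⟨j, hj⟩
      · have hx := (hV D _).1 x.2 (J j) (not_lt.1 hj)
        have hy := (hV D _).1 y.2 (J j) (not_lt.1 hj)
        show f x.1 (J j) = f y.1 (J j)
        rw [hx, hy]
    have hc := LinearMap.finrank_le_finrank_of_injective hg
    rw [Module.finrank_fintype_fun_eq_card] at hc
    have hcard : Fintype.card {j : Fin d // (J j : ℕ) < D} ≤ (i : ℕ) := by
      rw [Fintype.card_subtype]
      calc _ ≤ (Finset.Iio i).card := Finset.card_le_card fun j hj => by
            rw [Finset.mem_Iio]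
            by_contra hle
            have h1 : (J j : ℕ) < D := (Finset.mem_filter.1 hj).2
            have h2 : (J i : ℕ) ≤ (J j : ℕ) := hJ.monotone (not_lt.1 hle)
            omega
        _ = i := Fin.card_Iio i
    omega
  · intro h i
    by_contra hlt
    push Not at hlt
    set D := n - d + ((i : ℕ) + 1) - lam i with hD
    rw [hdim] at hlt
    let c : Fin n → (Fin d → K) := fun l r => A r l
    let S : Set (Fin n) := {l | D ≤ (l : ℕ)}
    obtain ⟨b₁, hb₁S, hb₁span, hb₁⟩ := exists_linearIndepOn_id_extension
      (linearIndepOn_empty K (id : (Fin d → K) → (Fin d → K))) (Set.empty_subset (c '' S)) |>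
      fun ⟨b, hb, _, hs, hi⟩ => (⟨b, hb, hs, hi⟩ : ∃ b, b ⊆ c '' S ∧ c '' S ⊆ Submodule.span K b ∧
        LinearIndepOn K id b)
    obtain ⟨b, hb, hb₁b, hbspan, hbli⟩ := exists_linearIndepOn_id_extension hb₁
      (hb₁S.trans (Set.image_subset_range c S))
    have htop : Submodule.span K (Set.range c) = ⊤ := by
      apply Submodule.eq_top_of_finrank_eq
      rw [Module.finrank_pi, Fintype.card_fin]
      have h1 := Matrix.rank_eq_finrank_span_cols A
      have h2 := LinearIndependent.rank_matrix (R := K) (M := A) hA
      rw [Fintype.card_fin] at h2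
      exact h1.symm.trans h2
    have hbtop : Submodule.span K b = ⊤ := by
      rw [eq_top_iff, ← htop]
      exact Submodule.span_le.2 hbspan
    haveI : Fintype b := hbli.setFinite.fintype
    haveI : Fintype b₁ := hb₁.setFinite.fintype
    have hbcard : Fintype.card b = d := by
      have := finrank_span_set_eq_card hbli
      rw [hbtop, finrank_top, Module.finrank_pi, Fintype.card_fin, Set.toFinset_card] at this
      exact this.symm
    have hpick : ∀ v : b, ∃ l : Fin n, c l = v.1 ∧ (v.1 ∈ b₁ → l ∈ S) := fun v => by
      by_cases hv : v.1 ∈ b₁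
      · obtain ⟨l, hl, he⟩ := hb₁S hv
        exact ⟨l, he, fun _ => hl⟩
      · obtain ⟨l, he⟩ := hb v.2
        exact ⟨l, he, fun h => absurd h hv⟩
    choose L hLc hLS using hpick
    have hLinj : Function.Injective L := fun v w hvw => Subtype.ext (by rw [← hLc v, ← hLc w, hvw])
    let s : Finset (Fin n) := Finset.univ.image L
    have hs : s.card = d := by
      rw [Finset.card_image_of_injective _ hLinj, Finset.card_univ, hbcard]
    let J : Fin d → Fin n := s.orderEmbOfFin hs
    have hJs : ∀ j, ∃ v, L v = J j := fun j => by
      obtain ⟨v, -, hv⟩ := Finset.mem_image.1 (Finset.orderEmbOfFin_mem s hs j)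
      exact ⟨v, hv⟩
    choose e he using hJs
    have heinj : Function.Injective e := fun x y hxy =>
      (s.orderEmbOfFin hs).injective ((he x).symm.trans ((congrArg L hxy).trans (he y)))
    have hli : LinearIndependent K fun j : Fin d => c (J j) := by
      have hfun : (fun j : Fin d => c (J j)) = (fun v : b => (v : Fin d → K)) ∘ e := by
        funext j; simp only [Function.comp_apply, ← he, hLc]
      rw [hfun]
      exact hbli.comp e heinj
    -- few columns below `D`
    let φ : (Fin d → K) →ₗ[K] (b₁ → K) :=
      { toFun := fun x v => ∑ r, x r * v.1 r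
        map_add' := fun x y => by funext v; simp [add_mul, Finset.sum_add_distrib]
        map_smul' := fun a x => by funext v; simp [mul_assoc, Finset.mul_sum] }
    have hker : LinearMap.ker φ ≤ (V D).comap f := fun x hx => by
      rw [Submodule.mem_comap, hV]
      intro l hl
      rw [hfapp]
      have : ∀ v ∈ Submodule.span K b₁, ∑ r, x r * v r = 0 := fun v hv => by
        induction hv using Submodule.span_induction with
        | mem v hv => exact congrFun (LinearMap.mem_ker.1 hx) ⟨v, hv⟩
        | zero => simp
        | add v w _ _ h1 h2 => simp [mul_add, Finset.sum_add_distrib, h1, h2]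
        | smul a v _ h1 =>
          simp only [Pi.smul_apply, smul_eq_mul, mul_left_comm _ a, ← Finset.mul_sum, h1, mul_zero]
      exact this _ (hb₁span ⟨l, hl, rfl⟩)
    have hrn := LinearMap.finrank_range_add_finrank_ker φ
    rw [Module.finrank_pi, Fintype.card_fin] at hrn
    have h1 := Submodule.finrank_le (LinearMap.range φ)
    rw [Module.finrank_pi] at h1
    have h2 := Submodule.finrank_mono hker
    have hJi : D ≤ (J i : ℕ) := by
      by_contra hJi
      push Not at hJi
      let ι : b₁ → Fin d := fun v =>
        (s.orderIsoOfFin hs).symm ⟨L ⟨v.1, hb₁b v.2⟩, Finset.mem_image_of_mem L (Finset.mem_univ _)⟩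
      have hι : Function.Injective ι := fun v w h =>
        Subtype.ext (congrArg (fun z : b => z.1) (hLinj (congrArg Subtype.val ((s.orderIsoOfFin hs).symm.injective h))))
      have hgt : ∀ v, ι v ∈ Finset.Ioi i := fun v => by
        rw [Finset.mem_Ioi]
        by_contra hle
        have hJv : J (ι v) = L ⟨v.1, hb₁b v.2⟩ := by
          simp [J, ι, ← Finset.coe_orderIsoOfFin_apply]
        have h3 : (J (ι v) : ℕ) ≤ (J i : ℕ) := (s.orderEmbOfFin hs).monotone (not_lt.1 hle)
        have h4 : D ≤ (L ⟨v.1, hb₁b v.2⟩ : ℕ) := hLS _ v.2
        rw [hJv] at h3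
        omega
      have hc : Fintype.card b₁ ≤ (Finset.Ioi i).card := by
        rw [← Finset.card_univ]
        exact Finset.card_le_card_of_injOn ι (fun v _ => hgt v) hι.injOn
      rw [Fin.card_Ioi] at hc
      omega
    have hdet := h J (s.orderEmbOfFin hs).strictMono ⟨i, by rw [← hD]; omega⟩
    have hu : IsUnit (A.submatrix id J) :=
      Matrix.linearIndependent_cols_iff_isUnit.1 hli
    exact ((Matrix.isUnit_iff_isUnit_det _).1 hu).ne_zero hdet

end Groth.Agent.S14504
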