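import Groth.Statements.S14505
import Mathlib

set_option autoImplicit false
universe u
open IntTh

namespace Groth.Agent.S14505

open CategoryTheory CategoryTheory.Limits AlgebraicGeometry


open PowerSeries Finset

variable {R : Type u} [CommRing R]

/-- The geometric series inverting `1 + a t`. -/
noncomputable def geo (a : R) : PowerSeries R := PowerSeries.mk fun m => (-a) ^ m

lemma one_add_mul_geo (a : R) : (1 + C a * X) * geo a = 1 := by
  ext m
  cases m with
  | zero => simp [geo]
  | succ m =>
    rw [add_mul, one_mul, mul_assoc, map_add, coeff_C_mul, coeff_succ_X_mul, coeff_one,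
      if_neg (Nat.succ_ne_zero m)]
    simp [geo, pow_succ]
    ring

/-- The coefficient with the convention that negative indices give zero. -/
noncomputable def cz (P : PowerSeries R) (i m : ℕ) : R := if i ≤ m then coeff (m - i) P else 0

lemma cz_succ (a : R) (P : PowerSeries R) (i m : ℕ) :
    cz ((1 + C a * X) * P) i (m + 1) = cz P i (m + 1) + a * cz P i m := by
  unfold cz
  rcases le_or_gt i m with h | h
  · rw [if_pos (h.trans m.le_succ), if_pos (h.trans m.le_succ), if_pos h,
      show m + 1 - i = m - i + 1 by omega, add_mul, one_mul, mul_assoc, map_add, coeff_C_mul,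
      coeff_succ_X_mul]
  · rw [if_neg (Nat.not_le.mpr h), mul_zero, add_zero]
    by_cases h' : i ≤ m + 1
    · rw [if_pos h', if_pos h', show m + 1 - i = 0 by omega, coeff_zero_eq_constantCoeff, map_mul]
      simp
    · rw [if_neg h', if_neg h']

lemma coeff_prod_eq (e : ℕ) (β : Fin e → R) (a : R) :
    (∀ m, coeff m ((∏ j, (1 + C (β j) * X)) * geo a) =
      if e ≤ m then (-a) ^ (m - e) * ∏ j, (β j - a) else
        coeff m ((∏ j, (1 + C (β j) * X)) * geo a)) := by
  induction e with
  | zero => intro m; simp [geo]
  | succ e ih =>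
    intro m
    split_ifs with h
    · obtain ⟨m, rfl⟩ : ∃ k, m = k + 1 := ⟨m - 1, by omega⟩
      have hm : e ≤ m := by omega
      rw [Fin.prod_univ_castSucc, mul_right_comm, mul_comm _ (1 + C (β (Fin.last e)) * X), add_mul,
        one_mul, mul_assoc (C (β (Fin.last e))) X, map_add, coeff_C_mul, coeff_succ_X_mul, ih _ (m + 1),
        if_pos (hm.trans m.le_succ), ih _ m, if_pos hm, Fin.prod_univ_castSucc,
        show m + 1 - (e + 1) = m - e by omega, show m + 1 - e = m - e + 1 by omega, pow_succ]
      ring
    · rfl

theorem det_eq (e : ℕ) (β : Fin e → R) : ∀ (d : ℕ) (α : Fin d → R),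
    (Matrix.of fun i j : Fin d => cz ((∏ j : Fin e, (1 + C (β j) * X)) *
      ∏ l : Fin d, if l ≤ i then geo (α l) else 1) i (e + j)).det =
      ∏ i : Fin d, ∏ j : Fin e, (β j - α i) := by
  intro d
  induction d with
  | zero => intro α; simp
  | succ d ih =>
    intro α
    set b := ∏ j : Fin e, (1 + C (β j) * X) with hb
    let P : Fin (d + 1) → PowerSeries R := fun i => b * ∏ l : Fin (d + 1), if l ≤ i then geo (α l) else 1
    change (Matrix.of fun i j : Fin (d + 1) => cz (P i) i (e + j)).det = _
    let B : Matrix (Fin (d + 1)) (Fin (d + 1)) R :=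
      Matrix.of fun i j => if j = 0 then cz (P i) i e else cz ((1 + C (α 0) * X) * P i) i (e + j)
    have hAB : (Matrix.of fun i j : Fin (d + 1) => cz (P i) i (e + j)).det = B.det := by
      refine Matrix.det_eq_of_forall_col_eq_smul_add_pred (fun _ => -α 0) (fun i => ?_) (fun i j => ?_)
      · simp [B]
      · simp only [Matrix.of_apply, B, Fin.succ_ne_zero, if_false, Fin.val_succ, Fin.val_castSucc,
          ← add_assoc, cz_succ]
        ring
    rw [hAB, Matrix.det_succ_row_zero]
    have hP0 : P 0 = b * geo (α 0) := by
      change b * _ = _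
      congr 1
      rw [Fin.prod_univ_succ, if_pos le_rfl,
        Finset.prod_eq_one fun l _ => if_neg (by simp [Fin.le_def]), mul_one]
    have hcancel : ∀ i, (1 + C (α 0) * X) * P i =
        b * ∏ l : Fin d, if l.succ ≤ i then geo (α l.succ) else 1 := by
      intro i
      change (1 + C (α 0) * X) * (b * _) = _
      rw [Fin.prod_univ_succ, if_pos (Fin.zero_le i), ← mul_assoc (1 + C (α 0) * X), mul_comm _ b,
        mul_assoc b, ← mul_assoc (1 + C (α 0) * X), one_add_mul_geo, one_mul]
    rw [Finset.sum_eq_single (0 : Fin (d + 1))]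
    · have h00 : B 0 0 = ∏ j, (β j - α 0) := by
        simp only [B, Matrix.of_apply, if_pos, cz, Fin.val_zero, Nat.zero_le, Nat.sub_zero, hP0]
        rw [hb, coeff_prod_eq, if_pos le_rfl, Nat.sub_self, pow_zero, one_mul]
      have hsub : B.submatrix Fin.succ (Fin.succAbove 0) = Matrix.of fun i j : Fin d =>
          cz (b * ∏ l : Fin d, if l ≤ i then geo (α l.succ) else 1) i (e + j) := by
        ext i j
        simp only [B, Matrix.submatrix_apply, Matrix.of_apply, Fin.succAbove_zero, Fin.succ_ne_zero,
          if_false, hcancel, Fin.succ_le_succ_iff, Fin.val_succ]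
        unfold cz
        simp only [← add_assoc, Nat.add_le_add_iff_right, Nat.add_sub_add_right]
      rw [Fin.val_zero, pow_zero, one_mul, h00, hsub, ih (fun l => α l.succ), Fin.prod_univ_succ (fun i : Fin (d + 1) => ∏ j, (β j - α i))]
    · intro j _ hj
      obtain ⟨j, rfl⟩ := Fin.eq_succ_of_ne_zero hj
      have hz : B 0 j.succ = 0 := by
        simp only [B, Matrix.of_apply, Fin.succ_ne_zero, if_false, cz, Fin.val_zero, Nat.zero_le, if_pos,
          Nat.sub_zero, hcancel]
        rw [Finset.prod_eq_one fun l _ => if_neg (by simp [Fin.le_def]), mul_one, hb]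
        have hdeg : ∀ (n : ℕ) (γ : Fin n → R) (m : ℕ), n < m → coeff m (∏ j, (1 + C (γ j) * X)) = 0 := by
          intro n
          induction n with
          | zero => intro γ m hm; simp [coeff_one, hm.ne']
          | succ n ihn =>
            intro γ m hm
            obtain ⟨m, rfl⟩ : ∃ k, m = k + 1 := ⟨m - 1, by omega⟩
            rw [Fin.prod_univ_castSucc, mul_comm, add_mul, one_mul, mul_assoc, map_add, coeff_C_mul,
              coeff_succ_X_mul, ihn _ _ (by omega), ihn _ _ (by omega), mul_zero, add_zero]
        exact hdeg e β _ (by simp)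
      rw [hz, mul_zero, zero_mul]
    · simp

/-- Let R be a commutative ring, α₁, …, α_d, β₁, …, β_e ∈ R, b(t) = ∏ (1 + β_j t), and for k = 1, …, d
let P_k(t) = b(t)/∏_{i ≤ k} (1 + α_i t) ∈ R⟦t⟧, each factor 1 + α_i t being inverted by its
geometric series; write (P_k)_m for the coefficient of t^m, with (P_k)_m = 0 for m < 0. Then ∏_{i,j}
(β_j − α_i) = det((P_i)_{e+j−i})_{1 ≤ i,j ≤ d}, the d × d determinant whose i-th row is built from
the coefficients of the i-th partial quotient. (Rows and columns are 0-based in the formal
statement, which does not change j − i; the row of index i inverts the factors of index at most i.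
The companion form with every row built from the full quotient b/a is stated separately.) -/
theorem result (R : Type u) [CommRing R] (d e : ℕ)
    (α : Fin d → R) (β : Fin e → R) :
    ∏ i : Fin d, ∏ j : Fin e, (β j - α i) =
      (Matrix.of fun i j : Fin d =>
        if (i : ℕ) ≤ e + (j : ℕ) then
          PowerSeries.coeff (e + (j : ℕ) - (i : ℕ))
            ((∏ j : Fin e, (1 + PowerSeries.C (β j) * PowerSeries.X)) *
              ∏ l : Fin d, if l ≤ i then PowerSeries.mk (fun m => (-α l) ^ m) else 1)
        else 0).det := by
  rw [← det_eq e β d α]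
  rfl


end Groth.Agent.S14505
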