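import Groth.Statements.S14511
import Mathlib

set_option autoImplicit false
universe u
open CAlgX

namespace Groth.Agent.S14511

/-- Let R be a commutative ring and P ∈ R[x_1, …, x_r] a polynomial of total degree at most r. Then the
coefficient of the monomial x_1 ⋯ x_r in P equals Σ_J (−1)^{|J|} P(δ_J), the sum over all subsets J
⊆ {1, …, r} (the empty one included), where δ_J is the point with coordinate −1 at the indices in J
and 0 at the others. -/
theorem result (R : Type u) [CommRing R] (r : ℕ)
    (P : MvPolynomial (Fin r) R) (hP : P.totalDegree ≤ r) :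
    MvPolynomial.coeff (∑ i : Fin r, Finsupp.single i 1) P =
      ∑ J : Finset (Fin r), (-1 : R) ^ J.card * MvPolynomial.eval (fun j => if j ∈ J then (-1 : R) else 0) P := by
  classical
  have key : ∀ (s : Fin r →₀ ℕ), s.degree ≤ r → ∀ a : R,
      MvPolynomial.coeff (∑ i : Fin r, Finsupp.single i 1) (MvPolynomial.monomial s a) =
        ∑ J : Finset (Fin r), (-1 : R) ^ J.card *
          MvPolynomial.eval (fun j => if j ∈ J then (-1 : R) else 0) (MvPolynomial.monomial s a) := by
    intro s hs a
    have h1 : ∀ i, (∑ j : Fin r, Finsupp.single j 1 : Fin r →₀ ℕ) i = 1 := fun i => by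
      simp [Finsupp.finsetSum_apply, Finsupp.single_apply]
    have hterm : ∀ J : Finset (Fin r), (-1 : R) ^ J.card *
        MvPolynomial.eval (fun j => if j ∈ J then (-1 : R) else 0) (MvPolynomial.monomial s a) =
        a * ((∏ j ∈ J, -((-1 : R) ^ s j)) * ∏ j ∈ Finset.univ \ J, (0 : R) ^ s j) := by
      intro J
      rw [MvPolynomial.eval_monomial, Finsupp.prod_fintype _ _ (fun _ => pow_zero _),
        ← Finset.prod_mul_prod_compl J, Finset.compl_eq_univ_sdiff, Finset.prod_neg,
        Finset.prod_congr rfl (fun j hj => by rw [if_pos hj] : ∀ j ∈ J, (if j ∈ J then (-1 : R) else 0) ^ s j = (-1) ^ s j),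
        Finset.prod_congr rfl (fun j hj => by rw [if_neg (Finset.mem_sdiff.1 hj).2] :
          ∀ j ∈ Finset.univ \ J, (if j ∈ J then (-1 : R) else 0) ^ s j = 0 ^ s j)]
      ring
    rw [Finset.sum_congr rfl fun J _ => hterm J, ← Finset.mul_sum, ← Finset.powerset_univ, ← Finset.prod_add,
      MvPolynomial.coeff_monomial]
    split_ifs with h
    · rw [Finset.prod_eq_one fun j _ => ?_, mul_one]
      rw [h, h1]; ring
    · obtain ⟨j, hj⟩ : ∃ j, s j = 0 := by
        by_contra! hne
        refine h (Finsupp.ext fun i => ?_)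
        rw [h1]
        rw [Finsupp.degree_eq_sum] at hs
        by_contra hi
        have := Finset.sum_lt_sum (fun j _ => Nat.one_le_iff_ne_zero.2 (hne j))
          ⟨i, Finset.mem_univ i, (Nat.one_le_iff_ne_zero.2 (hne i)).lt_of_ne (Ne.symm hi)⟩
        simp at this
        omega
      rw [Finset.prod_eq_zero (Finset.mem_univ j) (by rw [hj]; ring), mul_zero]
  conv_lhs => rw [P.as_sum]
  rw [MvPolynomial.coeff_sum, Finset.sum_congr rfl fun s hs => key s ((MvPolynomial.le_totalDegree hs).trans hP) _,
    Finset.sum_comm]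
  refine Finset.sum_congr rfl fun J _ => ?_
  rw [← Finset.mul_sum, ← map_sum, ← P.as_sum]

end Groth.Agent.S14511
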