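import Groth.Statements.S14512
import Groth.Agent.S1585
import Groth.Agent.S1602
import Groth.Agent.S1603
import Groth.Agent.FinBirLib.Smooth
import Groth.Agent.CurveLib.GlobalFun

set_option autoImplicit false
universe u
open CategoryTheory CategoryTheory.Limits AlgebraicGeometry
open Curves

namespace Groth.Agent.S14512

open CategoryTheory CategoryTheory.Limits AlgebraicGeometry

set_option backward.isDefEq.respectTransparency false
set_option linter.style.haveILetI false

/-- Let k be an algebraically closed field and X a complete curve over k (integral, proper over k, of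
dimension one) of arithmetic genus dim_k H^1(X, O_X) = 0. Then X is smooth over k. (Over a
non-closed field an integral proper curve with vanishing H^1 need not be smooth, e.g. a projective
line over an inseparable extension of k viewed over k.) -/
theorem result (k : Type u) [Field k] [IsAlgClosed k] (X : Scheme.{u}) [X.Over (Spec (CommRingCat.of k))]
    [IsIntegral X] [IsProper (X ↘ (Spec (CommRingCat.of k)))] (hdim : topologicalKrullDim X = 1)
    (hg : Curv2.genus k X = 0) :
    Smooth (X ↘ (Spec (CommRingCat.of k))) := by
  haveI := EulerIneqLib.isNoetherian_proper (X := X) k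
  haveI : QuasiCompact (X.fromSpecStalk (genericPoint X)) := inferInstance
  haveI : QuasiSeparated (X.fromSpecStalk (genericPoint X)) := inferInstance
  obtain ⟨hfin, -, ⟨V, hV, hi⟩, hint, hnor⟩ := S1585.result k X
  haveI := hfin
  haveI := hint
  haveI := hi
  letI : (Curv2.normalization X).Over (Spec (CommRingCat.of k)) :=
    ⟨Curv2.normalizationι X ≫ (X ↘ (Spec (CommRingCat.of k)))⟩
  haveI : IsProper (Curv2.normalization X ↘ (Spec (CommRingCat.of k))) :=
    inferInstanceAs (IsProper (Curv2.normalizationι X ≫ (X ↘ (Spec (CommRingCat.of k)))))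
  haveI := EulerIneqLib.isNoetherian_proper (X := Curv2.normalization X) k
  have hV' : Dense ((Curv2.normalizationι X ⁻¹ᵁ V : (Curv2.normalization X).Opens) : Set (Curv2.normalization X)) := by
    refine (Curv2.normalizationι X ⁻¹ᵁ V).2.dense ?_
    obtain ⟨v, hv⟩ := hV
    obtain ⟨⟨z, hz⟩, -⟩ := (Curv2.normalizationι X ∣_ V).homeomorph.surjective ⟨v, hv⟩
    exact ⟨z, hz⟩
  have hle := S1602.result k X (Curv2.normalization X) hdim.le (Curv2.normalizationι X) rfl V (V.2.dense hV) hV' hi
  have hgN : Curv2.genus k (Curv2.normalization X) = Curv2.genus k X := by omega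
  have h0 : Function.Surjective ((Curv2.normalizationι X).app ⊤).hom := by
    let φ : k →+* Γ(Curv2.normalization X, ⊤) :=
      Coh.toGlobal (Curv2.normalization X ↘ (Spec (CommRingCat.of k)))
    letI := φ.toAlgebra
    haveI := EulerIneqLib.finite_HH (k := k) (DevLib.isCoh_structureModule (Curv2.normalization X)) 0
    let e : Coh.HH (Curv2.normalization X) (Coh.structureModule (Curv2.normalization X)) 0 ≃ₗ[k]
        Γ(Curv2.normalization X, ⊤) :=
      { (CurveLib.secOf (Coh.structureModule (Curv2.normalization X))) with
        map_smul' := fun r c => CurveLib.secOf_smul (k := k) _ r c }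
    haveI : Module.Finite k Γ(Curv2.normalization X, ⊤) := Module.Finite.equiv e
    intro y
    obtain ⟨c, hc⟩ := (IsAlgClosed.algebraMap_bijective_of_isIntegral (k := k) (K := Γ(Curv2.normalization X, ⊤))).2 y
    refine ⟨Coh.toGlobal (X ↘ (Spec (CommRingCat.of k))) c, ?_⟩
    rw [← hc]
    show _ = Coh.toGlobal (Curv2.normalizationι X ≫ (X ↘ (Spec (CommRingCat.of k)))) c
    rfl
  haveI : IsIso (Curv2.normalizationι X) :=
    S1603.result k X (Curv2.normalization X) hdim.le (Curv2.normalizationι X) rfl V (V.2.dense hV) hV' hi h0 hgN
  refine FinBirLib.smooth_of_regular_algClosed _ fun x _ => ?_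
  obtain ⟨y, rfl⟩ : ∃ y, Curv2.normalizationι X y = x := (Curv2.normalizationι X).homeomorph.surjective x
  let ex := (asIso ((Curv2.normalizationι X).stalkMap y)).commRingCatIsoToRingEquiv
  haveI : IsIntegrallyClosed (X.presheaf.stalk (Curv2.normalizationι X y)) :=
    haveI := (hnor y).2
    IsIntegrallyClosed.of_equiv ex.symm
  haveI : Ring.KrullDimLE 1 (X.presheaf.stalk (Curv2.normalizationι X y)) := by
    rw [Ring.krullDimLE_iff, ringKrullDim_stalk_eq_coheight]
    refine le_trans (Order.coheight_le_krullDim _) ?_
    rw [← DimLiftLib.topologicalKrullDim_eq, hdim]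
    rfl
  exact FinBirLib.isRegularLocalRing_of_normal_dimLE_one _


end Groth.Agent.S14512
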