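import Groth.Statements.S14513
import Groth.Agent.S11332
import Groth.Agent.S4808
import Groth.Agent.S7640
import Groth.Agent.VBLib.Regular
import Groth.Agent.CurveFF.Point

set_option autoImplicit false
universe u
open CategoryTheory CategoryTheory.Limits AlgebraicGeometry
open Curves

namespace Groth.Agent.S14513

set_option backward.isDefEq.respectTransparency false

/-- Let k be an algebraically closed field and f : X → Y a finite, separable morphism of smooth
projective curves over k (X, Y integral, proper and smooth over k, of dimension one; f sends the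
generic point to the generic point and the extension K(X)/K(Y) is separable). If X and Y have the
same genus g = dim_k H^1(O) and g ≥ 2, then f is an isomorphism. (The published statement also
asserts g(X) ≥ g(Y) and that equality holds exactly when f is an isomorphism, both curves are
projective lines, or both have genus one; this row states the equality case for genus at least two.) -/
theorem result (k : Type u) [Field k] [IsAlgClosed k]
    (X : Scheme.{u}) [X.Over (Spec (CommRingCat.of k))] [IsIntegral X] [IsProper (X ↘ (Spec (CommRingCat.of k)))] [Smooth (X ↘ (Spec (CommRingCat.of k)))] (hdimX : topologicalKrullDim X = 1)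
    (Y : Scheme.{u}) [Y.Over (Spec (CommRingCat.of k))] [IsIntegral Y] [IsProper (Y ↘ (Spec (CommRingCat.of k)))] [Smooth (Y ↘ (Spec (CommRingCat.of k)))] (hdimY : topologicalKrullDim Y = 1)
    (f : X ⟶ Y) [IsFinite f] (hf : f ≫ (Y ↘ (Spec (CommRingCat.of k))) = (X ↘ (Spec (CommRingCat.of k))))
    (e : f (genericPoint X) = genericPoint Y)
    (hg : Curv2.genus k X = Curv2.genus k Y) (h2 : 2 ≤ Curv2.genus k Y) :
    letI := ((Y.presheaf.stalkSpecializes (specializes_of_eq e) ≫ f.stalkMap (genericPoint X)).hom).toAlgebra
    Algebra.IsSeparable Y.functionField X.functionField → IsIso f := by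
  letI := ((Y.presheaf.stalkSpecializes (specializes_of_eq e) ≫ f.stalkMap (genericPoint X)).hom).toAlgebra
  intro hsep
  have hrX : ∀ x : X, IsRegularLocalRing (X.presheaf.stalk x) := fun x => Groth.Agent.CurveLib.isRegularLocalRing_stalk_of_smooth (k := k) x
  have hrY : ∀ y : Y, IsRegularLocalRing (Y.presheaf.stalk y) := fun x => Groth.Agent.CurveLib.isRegularLocalRing_stalk_of_smooth (k := k) x
  have h := Groth.Agent.S11332.result k X hdimX hrX Y hdimY hrY f hf e hsep
  set n := f.residueDegree (genericPoint X) with hn
  haveI := Groth.Agent.EulerIneqLib.isNoetherian_proper (X := Y) k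
  haveI := Groth.Agent.VBLib.isRegCurve_of_smooth (X := Y) k hdimY.le
  have hfin : (f.residueFieldMap (genericPoint X)).hom.Finite :=
    (Groth.Agent.QFinLib.isClosed_asFiber_iff f _).1 (isClosed_discrete _)
  have hn1 : n = 1 := by
    have hpos : 0 < n := by
      rw [hn, Scheme.Hom.residueDegree]
      letI := (f.residueFieldMap (genericPoint X)).hom.toAlgebra
      haveI : Module.Finite (Y.residueField (f (genericPoint X))) (X.residueField (genericPoint X)) := hfin
      exact Module.finrank_pos
    rw [hg] at h
    have h3 : (0 : ℤ) ≤ (Module.finrank k (Coh.HH X (Omega.sheaf f) 0) : ℤ) := Int.natCast_nonneg _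
    have h4 : (2 : ℤ) ≤ (Curv2.genus k Y : ℤ) := by exact_mod_cast h2
    by_contra hne
    have h5 : (2 : ℤ) ≤ n := by omega
    nlinarith
  have hsurj : Function.Surjective (f.residueFieldMap (genericPoint X)).hom := by
    letI := (f.residueFieldMap (genericPoint X)).hom.toAlgebra
    have h1 : Module.finrank (Y.residueField (f (genericPoint X))) (X.residueField (genericPoint X)) = 1 := by
      rw [← hn1, hn, Scheme.Hom.residueDegree]
    intro z
    obtain ⟨c, hc⟩ := (finrank_eq_one_iff_of_nonzero' (1 : X.residueField (genericPoint X)) one_ne_zero).1 h1 z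
    exact ⟨c, by rw [← hc, Algebra.smul_def, mul_one]; rfl⟩
  have hb : Function.Surjective (f.stalkMap (genericPoint X)).hom := fun z => by
    obtain ⟨w, hw⟩ := hsurj ((X.residue (genericPoint X)).hom z)
    obtain ⟨v, rfl⟩ := Y.residue_surjective (f (genericPoint X)) w
    exact ⟨v, Groth.Agent.S7640.residue_bijective.1 ((congr($(Scheme.residue_residueFieldMap f (genericPoint X)) v)).symm.trans hw)⟩
  exact Groth.Agent.NormalSch.isIso_of_integral_birational Groth.Agent.CurveFF.isNormalScheme f e hb

end Groth.Agent.S14513
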