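import Groth.Statements.S14514
import Groth.Agent.DimFormulaLib.Catenary
import Groth.Agent.DimFormulaLib.Field
import Groth.Agent.DimFormulaLib.Scheme
import Groth.Agent.FlatDim.Trdeg

set_option autoImplicit false
universe u
open CategoryTheory CategoryTheory.Limits AlgebraicGeometry
open Variety

namespace Groth.Agent.S14514

/-- Let k be an algebraically closed field and f : X → Y a morphism of algebraic varieties over k (X, Y
reduced, separated and of finite type over k) such that Y is irreducible and the image f(X) is dense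
in Y. Then X contains an irreducible closed subset Z with dim Z = dim Y such that f(Z) is dense in
Y. -/
theorem result (k : Type u) [Field k] [IsAlgClosed k]
    (X Y : Scheme.{u}) [X.Over (Spec (CommRingCat.of k))] [Y.Over (Spec (CommRingCat.of k))]
    [IsReduced X] [IsSeparated (X ↘ (Spec (CommRingCat.of k)))] [LocallyOfFiniteType (X ↘ (Spec (CommRingCat.of k)))] [QuasiCompact (X ↘ (Spec (CommRingCat.of k)))]
    [IsReduced Y] [IsSeparated (Y ↘ (Spec (CommRingCat.of k)))] [LocallyOfFiniteType (Y ↘ (Spec (CommRingCat.of k)))] [QuasiCompact (Y ↘ (Spec (CommRingCat.of k)))] [IrreducibleSpace Y]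
    (f : X ⟶ Y) (hf : f ≫ (Y ↘ (Spec (CommRingCat.of k))) = (X ↘ (Spec (CommRingCat.of k)))) [IsDominant f] :
    ∃ Z : Set X, IsClosed Z ∧ IsIrreducible Z ∧ topologicalKrullDim ↥Z = topologicalKrullDim Y ∧
      Dense (f '' Z) := by
  haveI : IsLocallyNoetherian X := LocallyOfFiniteType.isLocallyNoetherian (X ↘ (Spec (CommRingCat.of k)))
  haveI : CompactSpace X := QuasiCompact.compactSpace_of_compactSpace (X ↘ (Spec (CommRingCat.of k)))
  haveI : IsNoetherian X := ⟨⟩
  haveI : LocallyOfFiniteType (f ≫ (Y ↘ (Spec (CommRingCat.of k)))) := by rw [hf]; infer_instance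
  haveI : LocallyOfFiniteType f := locallyOfFiniteType_of_comp f (Y ↘ (Spec (CommRingCat.of k)))
  -- a point over the generic point
  obtain ⟨x₀, hx₀⟩ : ∃ x₀ : X, f x₀ = genericPoint Y := by
    have hfin := TopologicalSpace.NoetherianSpace.finite_irreducibleComponents (α := X)
    have hu : (genericPoint Y) ∈ ⋃ W ∈ irreducibleComponents X, closure (f '' W) := by
      rw [← hfin.closure_biUnion (fun W => f '' W), ← Set.image_iUnion₂, ← Set.sUnion_eq_biUnion,
        sUnion_irreducibleComponents, Set.image_univ, f.denseRange.closure_range]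
      trivial
    obtain ⟨W, hW, hη⟩ := Set.mem_iUnion₂.1 hu
    obtain ⟨ξ, hξ, -⟩ := Groth.Agent.DimFormulaLib.exists_generic_of_mem_irreducibleComponents hW
    refine ⟨ξ, ((genericPoint_specializes (f ξ)).antisymm (specializes_iff_mem_closure.2 ?_)).eq.symm⟩
    rw [← hξ, closure_image_closure f.continuous, Set.image_singleton] at hη
    exact hη
  obtain ⟨x, hx, ht⟩ := Groth.Agent.DimFormulaLib.exists_resTrdegAt_zero f x₀
  rw [hx₀] at hx
  refine ⟨closure {x}, isClosed_closure, isIrreducible_singleton.closure, ?_, ?_⟩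
  · obtain ⟨-, t, -, htX, -, hh⟩ := Groth.Agent.DimFormulaLib.field_dims (X ↘ (Spec (CommRingCat.of k))) x
    obtain ⟨-, n, -, hn, -, -⟩ := Groth.Agent.DimFormulaLib.field_dims (Y ↘ (Spec (CommRingCat.of k))) (genericPoint Y)
    rw [Groth.Agent.DimFormulaLib.topologicalKrullDim_eq_trdeg (Y ↘ (Spec (CommRingCat.of k))) n hn,
      Groth.Agent.DimFormulaLib.topologicalKrullDim_closure_singleton, hh]
    have hcomp := Groth.Agent.FlatDim.resTrdegAt_comp f (Y ↘ (Spec (CommRingCat.of k))) x
    rw [Groth.Agent.FlatDim.resTrdegAt_congr hf, ht, add_zero, htX,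
      Groth.Agent.FlatDim.resTrdegAt_point _ hx, hn] at hcomp
    have : t = n := by exact_mod_cast hcomp
    rw [this]
    rfl
  · refine dense_iff_closure_eq.2 (Set.eq_univ_of_univ_subset ?_)
    rw [closure_image_closure f.continuous, Set.image_singleton, hx, genericPoint_closure]


end Groth.Agent.S14514
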