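import Groth.Statements.S14515
import Groth.Agent.ExcPurityLib.Basic
import Groth.Agent.SmoothInterDim.Closure
import Groth.Agent.ASp.GeomRedEt
import Groth.Agent.PurityLib.Normal
import Groth.Agent.FlatLocus.FibreCrit

set_option autoImplicit false
universe u
open CategoryTheory CategoryTheory.Limits AlgebraicGeometry
open Variety

namespace Groth.Agent.S14515

/-- Let k be an algebraically closed field and f : X → Y a proper, birational morphism over k between
smooth, irreducible varieties (X, Y integral, separated, of finite type and smooth over k; f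
restricts to an isomorphism over some nonempty open subset of Y). Let Exc(f) ⊆ X be the exceptional
locus: the points x such that f restricts to an isomorphism over no open neighbourhood of f(x). Then
Exc(f) has pure codimension one: every irreducible component of Exc(f) has dimension dim X − 1. -/
theorem result (k : Type u) [Field k] [IsAlgClosed k]
    (X Y : Scheme.{u}) [X.Over (Spec (CommRingCat.of k))] [Y.Over (Spec (CommRingCat.of k))]
    [IsIntegral X] [IsSeparated (X ↘ (Spec (CommRingCat.of k)))] [LocallyOfFiniteType (X ↘ (Spec (CommRingCat.of k)))] [QuasiCompact (X ↘ (Spec (CommRingCat.of k)))] [Smooth (X ↘ (Spec (CommRingCat.of k)))]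
    [IsIntegral Y] [IsSeparated (Y ↘ (Spec (CommRingCat.of k)))] [LocallyOfFiniteType (Y ↘ (Spec (CommRingCat.of k)))] [QuasiCompact (Y ↘ (Spec (CommRingCat.of k)))] [Smooth (Y ↘ (Spec (CommRingCat.of k)))]
    (f : X ⟶ Y) (hf : f ≫ (Y ↘ (Spec (CommRingCat.of k))) = (X ↘ (Spec (CommRingCat.of k)))) [IsProper f]
    (hbir : ∃ V : Y.Opens, (V : Set Y).Nonempty ∧ IsIso (f ∣_ V)) :
    ∀ Z ∈ irreducibleComponents ↥{x : X | ∀ V : Y.Opens, f x ∈ V → ¬ IsIso (f ∣_ V)},
      topologicalKrullDim ↥Z + 1 = topologicalKrullDim X := by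
  classical
  let sX := X ↘ Spec (CommRingCat.of k)
  let sY := Y ↘ Spec (CommRingCat.of k)
  haveI : LocallyOfFinitePresentation f := by
    haveI : LocallyOfFinitePresentation (f ≫ sY) := by rw [hf]; infer_instance
    exact Groth.Agent.FlatLocus.locallyOfFinitePresentation_of_comp f sY
  haveI : IsLocallyNoetherian Y := LocallyOfFiniteType.isLocallyNoetherian sY
  haveI : IsLocallyNoetherian X := LocallyOfFiniteType.isLocallyNoetherian sX
  have hY : ∀ y : Y, IsIntegrallyClosed (Y.presheaf.stalk y) := fun y =>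
    haveI := Groth.Agent.ASp.isRegularLocalRing_stalk_of_smooth_field sY y
    (Groth.Agent.PurityLib.isIntegrallyClosed_of_regular (Y.presheaf.stalk y)).2
  obtain ⟨V₀, hV₀, hiso⟩ := hbir
  haveI : Nonempty V₀ := hV₀.to_subtype
  have hVX : genericPoint X ∈ f ⁻¹ᵁ V₀ := by
    obtain ⟨v⟩ := (inferInstance : Nonempty V₀)
    exact (genericPoint_specializes ((inv (f ∣_ V₀)) v).1).mem_open (f ⁻¹ᵁ V₀).2 ((inv (f ∣_ V₀)) v).2
  haveI : Nonempty (f ⁻¹ᵁ V₀ : X.Opens) := ⟨⟨_, hVX⟩⟩
  haveI : IsIntegral (f ⁻¹ᵁ V₀ : X.Opens).toScheme := isIntegral_of_isOpenImmersion (f ⁻¹ᵁ V₀).ι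
  haveI : IsOpenImmersion ((f ⁻¹ᵁ V₀).ι ≫ f) := by rw [← morphismRestrict_ι]; infer_instance
  have hgen : f (genericPoint X) = genericPoint Y := by
    rw [← genericPoint_eq_of_isOpenImmersion (f ⁻¹ᵁ V₀).ι, ← Scheme.Hom.comp_apply]
    exact genericPoint_eq_of_isOpenImmersion _
  have hst : IsIso (f.stalkMap (genericPoint X)) := by
    let pt : ((f ⁻¹ᵁ V₀ : X.Opens) : Scheme.{u}) := ⟨genericPoint X, hVX⟩
    have h1 : IsIso (((f ⁻¹ᵁ V₀).ι ≫ f).stalkMap pt) := inferInstance
    have h : IsIso (f.stalkMap ((f ⁻¹ᵁ V₀).ι pt) ≫ (f ⁻¹ᵁ V₀).ι.stalkMap pt) :=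
      (Scheme.Hom.stalkMap_comp (f ⁻¹ᵁ V₀).ι f pt) ▸ h1
    exact @IsIso.of_isIso_comp_right _ _ _ _ _ _ _ (inferInstance : IsIso ((f ⁻¹ᵁ V₀).ι.stalkMap pt)) h
  let W := Groth.Agent.ExcPurityLib.etaleOpen f
  have hne : genericPoint X ∈ W := Groth.Agent.ExcPurityLib.le_etaleOpen f (inferInstance : Etale ((f ⁻¹ᵁ V₀).ι ≫ f)) hVX
  have hExc : {x : X | ∀ V : Y.Opens, f x ∈ V → ¬ IsIso (f ∣_ V)} = (W : Set X)ᶜ := by
    ext x
    constructor
    · intro h hx
      obtain ⟨V, hxV, hV⟩ := Groth.Agent.ExcPurityLib.exists_isIso_over f hY hgen hst hne hx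
      exact h V hxV hV
    · intro hx V hxV hV
      haveI : IsOpenImmersion ((f ⁻¹ᵁ V).ι ≫ f) := by rw [← morphismRestrict_ι]; infer_instance
      exact hx (Groth.Agent.ExcPurityLib.le_etaleOpen f (inferInstance : Etale ((f ⁻¹ᵁ V).ι ≫ f)) hxV)
  intro Z hZ
  let E : Set X := {x : X | ∀ V : Y.Opens, f x ∈ V → ¬ IsIso (f ∣_ V)}
  have hEc : IsClosed E := by rw [show E = _ from hExc]; exact W.2.isClosed_compl
  haveI : QuasiSober ↥E := hEc.isClosedEmbedding_subtypeVal.quasiSober
  obtain ⟨⟨z, hz⟩, hgenZ⟩ := QuasiSober.sober hZ.1 (isClosed_of_mem_irreducibleComponents _ hZ)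
  have hzW : z ∉ W := fun h => (show z ∈ (W : Set X)ᶜ from hExc ▸ hz) h
  have hmax : ∀ b : X, b ∉ W → b ⤳ z → b = z := by
    intro b hb hbz
    let b' : ↥E := ⟨b, show b ∈ E by rw [show E = _ from hExc]; exact hb⟩
    have hsub : Z ⊆ closure {b'} := by
      rw [← hgenZ.def]
      exact closure_minimal (Set.singleton_subset_iff.2 (specializes_iff_mem_closure.1 ((subtype_specializes_iff b' ⟨z, hz⟩).2 hbz))) isClosed_closure
    have hbZ : b' ∈ Z := hZ.2 isIrreducible_singleton.closure hsub (subset_closure rfl)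
    exact (hbz.antisymm ((subtype_specializes_iff _ _).1 (hgenZ.specializes hbZ))).eq
  -- a chart
  obtain ⟨V, hV, hzV, -⟩ := exists_isAffineOpen_mem_and_subset (X := Y) (x := f z) (U := ⊤) trivial
  obtain ⟨U, hU, hzU, e⟩ := exists_isAffineOpen_mem_and_subset (X := X) (x := z) (U := f ⁻¹ᵁ V) hzV
  haveI : Nonempty U := ⟨⟨z, hzU⟩⟩
  let ψ : k →+* Γ(Y, V) := (sY.appLE ⊤ V le_top).hom.comp (Scheme.ΓSpecIso (CommRingCat.of k)).inv.hom
  let χ : k →+* Γ(X, U) := (sX.appLE ⊤ U le_top).hom.comp (Scheme.ΓSpecIso (CommRingCat.of k)).inv.hom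
  have hψ : ψ.Smooth := RingHom.Smooth.respectsIso.2 _ (Scheme.ΓSpecIso (CommRingCat.of k)).symm.commRingCatIsoToRingEquiv
    (HasRingHomProperty.appLE (P := @Smooth) sY inferInstance ⟨⊤, isAffineOpen_top _⟩ ⟨V, hV⟩ le_top)
  have hχ : χ.Smooth := RingHom.Smooth.respectsIso.2 _ (Scheme.ΓSpecIso (CommRingCat.of k)).symm.commRingCatIsoToRingEquiv
    (HasRingHomProperty.appLE (P := @Smooth) sX inferInstance ⟨⊤, isAffineOpen_top _⟩ ⟨U, hU⟩ le_top)
  letI := ψ.toAlgebra
  letI := χ.toAlgebra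
  letI := (f.appLE V U e).hom.toAlgebra
  haveI : Algebra.Smooth k Γ(Y, V) := hψ
  haveI : Algebra.Smooth k Γ(X, U) := hχ
  haveI : IsScalarTower k Γ(Y, V) Γ(X, U) := .of_algebraMap_eq' (by
    show χ = (f.appLE V U e).hom.comp ψ
    have h2 : sY.appLE ⊤ V le_top ≫ f.appLE V U e = sX.appLE ⊤ U le_top := by
      simp only [← show f ≫ sY = sX from hf]
      exact Scheme.Hom.appLE_comp_appLE f sY ⊤ V U le_top e
    show (sX.appLE ⊤ U le_top).hom.comp _ = _
    rw [← h2]
    rfl)
  haveI : IsNoetherianRing Γ(X, U) := Algebra.FiniteType.isNoetherianRing k _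
  let p : PrimeSpectrum Γ(X, U) := hU.primeIdealOf ⟨z, hzU⟩
  have hpz : hU.fromSpec p = z := hU.fromSpec_primeIdealOf ⟨z, hzU⟩
  let N : Set (PrimeSpectrum Γ(X, U)) := hU.fromSpec ⁻¹' (W : Set X)ᶜ
  have hN : IsClosed N := W.2.isClosed_compl.preimage hU.fromSpec.continuous
  have hht : p.asIdeal.height ≤ 1 := by
    refine Groth.Agent.ExcPurityLib.height_le_one k Γ(Y, V) Γ(X, U) p N hN
      (fun q => not_congr (Groth.Agent.ExcPurityLib.mem_etaleOpen_iff f hU hV e q)) ?_ fun q hq hqp => ?_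
    · show hU.fromSpec p ∉ W
      rwa [hpz]
    · have hs : hU.fromSpec q ⤳ hU.fromSpec p := (PrimeSpectrum.le_iff_specializes q p).1 hqp |>.map hU.fromSpec.continuous
      exact hU.fromSpec.isOpenEmbedding.injective ((hmax _ hq (hpz ▸ hs)).trans hpz.symm)
  obtain ⟨a, r, ha, hr, hd⟩ := Groth.Agent.ExcPurityLib.dim_eq_height_add k Γ(X, U) p
  have hpbot : p.asIdeal ≠ ⊥ := by
    intro h0
    have hgp : hU.fromSpec p ⤳ genericPoint X := by
      obtain ⟨q, hq⟩ : genericPoint X ∈ Set.range hU.fromSpec := by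
        rw [hU.range_fromSpec]; exact (genericPoint_specializes z).mem_open U.2 hzU
      rw [← hq]
      exact ((PrimeSpectrum.le_iff_specializes p q).1 (show p.asIdeal ≤ q.asIdeal by rw [h0]; exact bot_le)).map hU.fromSpec.continuous
    exact hzW ((hpz ▸ hgp).antisymm (genericPoint_specializes z) |>.eq ▸ hne)
  obtain rfl : a = 1 := by
    have h1 : a ≤ 1 := by rw [ha] at hht; exact_mod_cast hht
    have h0 : a ≠ 0 := by
      rintro rfl
      refine hpbot ?_
      haveI := p.isPrime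
      exact Ideal.height_eq_zero_iff_eq_bot.1 (by simpa using ha)
    omega
  have hX : topologicalKrullDim X = ringKrullDim Γ(X, U) := by
    let b : PrimeSpectrum Γ(X, U) := ⟨⊥, Ideal.isPrime_bot⟩
    have hb : hU.fromSpec b = genericPoint X := by
      obtain ⟨q, hq⟩ : genericPoint X ∈ Set.range hU.fromSpec := by
        rw [hU.range_fromSpec]; exact (genericPoint_specializes z).mem_open U.2 hzU
      have h : hU.fromSpec b ⤳ genericPoint X := hq ▸
        ((PrimeSpectrum.le_iff_specializes b q).1 (bot_le : (⊥ : Ideal Γ(X, U)) ≤ q.asIdeal)).map hU.fromSpec.continuous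
      exact (h.antisymm (genericPoint_specializes _)).eq
    have h := Groth.Agent.SmoothInterDim.dim_closure_spec sX hU.fromSpec b
    rw [hb, genericPoint_closure] at h
    rw [← (Homeomorph.Set.univ X).isHomeomorph.topologicalKrullDim_eq, h]
    exact ringKrullDim_eq_of_ringEquiv (RingEquiv.quotientBot _)
  have hZd : topologicalKrullDim ↥Z = ringKrullDim (Γ(X, U) ⧸ p.asIdeal) := by
    rw [← Groth.Agent.SmoothInterDim.dim_closure_spec sX hU.fromSpec p, hpz]
    have hemb : Topology.IsEmbedding (fun w : ↥Z => ((w : ↥E) : X)) :=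
      Topology.IsEmbedding.subtypeVal.comp Topology.IsEmbedding.subtypeVal
    have hrange : Set.range (fun w : ↥Z => ((w : ↥E) : X)) = closure {z} := by
      ext w
      constructor
      · rintro ⟨⟨v, hv⟩, rfl⟩
        exact specializes_iff_mem_closure.1 ((subtype_specializes_iff _ _).1 (hgenZ.specializes hv))
      · intro hw
        have hwE : w ∈ E := hEc.closure_subset_iff.2 (Set.singleton_subset_iff.2 hz) hw
        exact ⟨⟨⟨w, hwE⟩, hgenZ.specializes_iff_mem.1 ((subtype_specializes_iff _ _).2 (specializes_iff_mem_closure.2 hw))⟩, rfl⟩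
    exact (hemb.toHomeomorph.trans (Homeomorph.setCongr hrange)).isHomeomorph.topologicalKrullDim_eq
  rw [hX, hd, hZd, hr, Nat.add_comm]
  push_cast
  rfl

end Groth.Agent.S14515
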