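import Groth.Statements.S14517
import Groth.Agent.CastLib.Contract
import Groth.Agent.CastLib.Arith
import Groth.Agent.SurfPtBlow.Factor
import Groth.Agent.TwistShriek.NumBase
import Groth.Agent.TwistShriek.SurfCurve
import Groth.Agent.HilbLib.Poly
import Groth.Agent.DimFormulaLib.Field
import Groth.Agent.ProjOverLib.Affine
-- import your own Groth.Agent.* helpers here

set_option backward.isDefEq.respectTransparency false
set_option linter.style.haveILetI false
set_option maxHeartbeats 1000000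

set_option autoImplicit false
universe u
open CategoryTheory CategoryTheory.Limits AlgebraicGeometry
open Surf

namespace Groth.Agent.S14517

section
open CategoryTheory CategoryTheory.Limits AlgebraicGeometry TopologicalSpace
open Groth.Agent.SurfPtBlow Groth.Agent.CastLib Groth.Agent.AmpleLib
open Groth.Agent.IntLib (mk)

/-- A generated module near a line with all degrees killed: the twist `H(rE)`. -/
theorem exists_twist {X : Scheme.{u}} [IsLocallyNoetherian X] {k : Type u} [Field k] (j : CohB1.ProjSpace 1 k ⟶ X)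
    [IsClosedImmersion j] (hC : BlowUp.IsEffCartierIdeal j.ker)
    {n : ℕ} (hdI : degOn j (ClSub.idealMod j.ker) = n)
    {H : X.Modules} (hH : PicF.IsInvertible H) {r : ℕ} (hr : degOn j H = n * r) (hr0 : 0 < r)
    (h1 : Subsingleton (Coh.HH X H 1)) :
    ∃ L : X.Modules, PicF.IsInvertible L ∧ degOn j L = 0 ∧
      Nonempty (CohB1.tensorMod (CohB1.tensorPow (ClSub.idealMod j.ker) r) L ≅ H) ∧
      (∃ τ : Coh.structureModule X ⟶ L, Set.range j ⊆ CohB1.genLocus L τ) ∧
      ∀ t : Coh.structureModule X ⟶ H, ∃ t' : Coh.structureModule X ⟶ L,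
        (CohB1.genLocus L t' : Set X) = (CohB1.genLocus H t : Set X) \ Set.range j := by
  have hI := (S8914.result j.ker).2 hC
  obtain ⟨N, hN, ⟨eN⟩⟩ := AmpleEmb.exists_isInverseOf hI
  have hIN : mk (ClSub.idealMod j.ker) * mk N = 1 := IntLib.mk_congr eN
  have hdN : degOn j N = -(n : ℤ) := by
    have := (degOn_congr j eN).trans (degOn_one j)
    rw [degOn_tensor j hI hN, hdI] at this
    omega
  let L : ℕ → X.Modules := fun i => CohB1.tensorMod H (CohB1.tensorPow N i)
  have hL : ∀ i, PicF.IsInvertible (L i) := fun i => isInvertible_tensor hH (isInvertible_tensorPow hN i)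
  have hdL : ∀ i, degOn j (L i) = (n : ℤ) * ((r : ℤ) - i) := fun i => by
    rw [degOn_tensor j hH (isInvertible_tensorPow hN i), degOn_tensorPow j hN, hdN, hr]
    ring
  have hstep : ∀ i, Nonempty (CohB1.tensorMod (ClSub.idealMod j.ker) (L (i + 1)) ≅ L i) := fun i =>
    IntLib.mk_eq_mk.1 (by
      simp only [L, IntLib.mk_tensor, IntLib.mk_tensorPow, pow_succ]
      calc _ = mk H * mk N ^ i * (mk (ClSub.idealMod j.ker) * mk N) := by ac_rfl
        _ = _ := by rw [hIN, mul_one])
  have hvan : ∀ i, i < r → Subsingleton (Coh.HH X (L i) 1) := by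
    intro i
    induction i with
    | zero => intro _; exact CurveLib.subsingleton_HH_iso (unitR H).symm 1 h1
    | succ i ih =>
      intro hi
      obtain ⟨f⟩ := hstep i
      refine subsingleton_step j (hL _) (CurveLib.subsingleton_HH_iso f.symm 1 (ih (by omega))) ?_
      rw [hdL]
      have h0 : (0 : ℤ) ≤ (n : ℤ) * ((r : ℤ) - ((i + 1 : ℕ) : ℤ)) :=
        mul_nonneg (Int.natCast_nonneg n) (by omega)
      omega
  refine ⟨L r, hL r, by rw [hdL, sub_self, mul_zero], IntLib.mk_eq_mk.1 ?_, ?_, fun t => ?_⟩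
  · simp only [L, IntLib.mk_tensor, IntLib.mk_tensorPow]
    calc _ = mk H * (mk (ClSub.idealMod j.ker) * mk N) ^ r := by rw [mul_pow]; ac_rfl
      _ = _ := by rw [hIN, one_pow, mul_one]
  · obtain ⟨q, rfl⟩ := Nat.exists_eq_succ_of_ne_zero hr0.ne'
    obtain ⟨f⟩ := hstep q
    obtain ⟨g⟩ := nonempty_iso_twist_degP (isInvertible_pullback j (hL (q + 1))) (n := 0)
      (show degOn j (L (q + 1)) = 0 by rw [hdL]; push_cast; ring)
    let φ : Coh.structureModule (CohB1.ProjSpace 1 k) ≅ Twist.twistProjSpace 1 k ((0 : ℕ) : ℤ) :=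
      @asIso _ _ _ _ (ProjCoh.unitToTwist (CohB1.polyGrading 1 k)) ProjCoh.isIso_unitToTwist
    obtain ⟨τ, hτ⟩ := exists_lift_gen j (hL (q + 1))
      (CurveLib.subsingleton_HH_iso f.symm 1 (hvan q (by omega))) (φ.hom ≫ g.inv)
    refine ⟨τ, ?_⟩
    rintro _ ⟨z, rfl⟩
    refine hτ ?_
    have htop : CohB1.genLocus _ (φ.hom ≫ g.inv) = ⊤ := by
      rw [show φ.hom ≫ g.inv = 𝟙 _ ≫ (φ ≪≫ g.symm).hom by simp, genLocus_comp_iso, genLocus_id]
    rw [htop]
    trivial
  · obtain ⟨σ, hσ⟩ := AVLib.exists_section_genLocus_compl hC hN ⟨comm N (ClSub.idealMod j.ker) ≪≫ eN⟩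
    obtain ⟨q, rfl⟩ := Nat.exists_eq_succ_of_ne_zero hr0.ne'
    refine ⟨tensorS t (powS σ (q + 1)), ?_⟩
    rw [genLocus_tensorS hH (isInvertible_tensorPow hN _), genLocus_powS hN, hσ, Opens.coe_inf, Set.diff_eq]
    refine congrArg (_ ∩ ·) ?_
    show ((j.ker.support : Set X))ᶜ = _
    rw [Scheme.Hom.support_ker, j.isClosedEmbedding.isClosed_range.closure_eq]

/-- **The contraction morphism.** -/
theorem exists_contraction_map {A : Type u} [CommRing A] [IsNoetherianRing A] {X : Scheme.{u}} [IsIntegral X]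
    [IsNoetherian X] (s : X ⟶ Spec (CommRingCat.of A)) [IsProper s] {H₀ : X.Modules} (hH₀ : CohB1.IsAmple H₀)
    {k : Type u} [Field k] (j : CohB1.ProjSpace 1 k ⟶ X) [IsClosedImmersion j]
    (hC : BlowUp.IsEffCartierIdeal j.ker)
    {n : ℕ} (hn : 0 < n) (hdI : degOn j (ClSub.idealMod j.ker) = n) :
    ∃ (Y : Scheme.{u}) (_ : IsIntegral Y) (_ : IsNoetherian Y) (g : X ⟶ Y) (_ : IsProper g)
      (t : Y ⟶ Spec (CommRingCat.of A)) (_ : IsProper t) (y : Y) (hy : IsClosed ({y} : Set Y)),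
      g ≫ t = s ∧ RigidLib.BijApp g ∧ g ⁻¹' {y} = Set.range j ∧
      IsIso (g ∣_ (⟨{y}ᶜ, hy.isOpen_compl⟩ : Y.Opens)) ∧ (∃ M : Y.Modules, CohB1.IsAmple M) ∧
      ∃ (V : Y.Opens) (H L : X.Modules) (τ : Coh.structureModule X ⟶ L) (r : ℕ),
        IsAffineOpen V ∧ y ∈ V ∧ 0 < r ∧ CohB1.IsAmple H ∧ PicF.IsInvertible L ∧
        Nonempty (CohB1.tensorMod (CohB1.tensorPow (ClSub.idealMod j.ker) r) L ≅ H) ∧
        g ⁻¹ᵁ V ≤ CohB1.genLocus L τ := by
  classical
  haveI := isIntegral_P1 (k := k)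
  -- an ample module with sections and without `H¹`
  obtain ⟨T, hT, D, hD, u, -, -, -, hUa, -, -, -, -, hcov⟩ := AmpleEmb.exists_trivial_cover s hH₀ hH₀.1
  obtain ⟨n₀, hn₀⟩ := AmpleEmb.serre_vanishing s hH₀ (DevLib.isCoh_structureModule X)
  let H := CohB1.tensorPow H₀ (D * (n * (n₀ + 1)))
  have hHA : CohB1.IsAmple H := (isAmple_pow_iff hH₀.1 (by positivity)).2 hH₀
  have hH : PicF.IsInvertible H := hHA.1
  have hH1 : Subsingleton (Coh.HH X H 1) := CurveLib.subsingleton_HH_iso (unitL _) 1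
    (hn₀ _ (le_trans (le_trans (Nat.le_succ n₀) (Nat.le_mul_of_pos_left _ hn)) (Nat.le_mul_of_pos_left _ hD)) 1 one_pos)
  let v : T → (Coh.structureModule X ⟶ H) := fun i => powS (u i) (n * (n₀ + 1)) ≫ (powMul H₀ D (n * (n₀ + 1))).hom
  have hv : ∀ i, CohB1.genLocus H (v i) = CohB1.genLocus _ (u i) := fun i => by
    obtain ⟨q, hq⟩ := Nat.exists_eq_succ_of_ne_zero (show n * (n₀ + 1) ≠ 0 by positivity)
    simp only [v, H]
    rw [genLocus_comp_iso, hq, genLocus_powS (isInvertible_tensorPow hH₀.1 D)]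
  -- twist it
  obtain ⟨r₀, hr₀⟩ := Int.eq_ofNat_of_zero_le (degOn_pos_of_isAmple j hH₀).le
  have hr0 : 0 < D * (n₀ + 1) * r₀ := by
    have := degOn_pos_of_isAmple j hH₀
    have : 0 < r₀ := by omega
    positivity
  have hr : degOn j H = n * ((D * (n₀ + 1) * r₀ : ℕ) : ℤ) := by
    rw [show degOn j H = _ from degOn_tensorPow j hH₀.1 _, hr₀]
    push_cast
    ring
  obtain ⟨L, hL, -, hIL, ⟨τ, hτ⟩, hsec⟩ := exists_twist j hC hdI hH hr hr0 hH1
  choose v' hv' using fun i => hsec (v i)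
  obtain ⟨eT⟩ : Nonempty (Fin (Fintype.card T) ≃ T) := ⟨(Fintype.equivFin T).symm⟩
  let sf : Fin (Fintype.card T + 1) → (Coh.structureModule X ⟶ L) := Fin.cons τ fun i => v' (eT i)
  have hoff : ∀ x, x ∉ Set.range j → ∃ i, x ∈ CohB1.genLocus L (v' i) := fun x hx => by
    obtain ⟨i, hi⟩ := hcov x
    refine ⟨i, (hv' i).ge ⟨?_, hx⟩⟩
    rw [hv]; exact hi
  obtain ⟨F, hFU, hFg, hFt⟩ := GenMorph.exists_ratioFamily hL sf fun x => by
    by_cases hx : x ∈ Set.range j
    · exact ⟨0, hτ hx⟩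
    · obtain ⟨i, hi⟩ := hoff x hx
      exact ⟨(eT.symm i).succ, by simpa [sf] using hi⟩
  have haff : ∀ i : Fin (Fintype.card T), IsAffineOpen (F.U i.succ) := fun i => by
    obtain ⟨N, hN, ⟨eN⟩⟩ := AmpleEmb.exists_isInverseOf ((S8914.result j.ker).2 hC)
    obtain ⟨σ, hσ⟩ := AVLib.exists_section_genLocus_compl hC hN ⟨comm N (ClSub.idealMod j.ker) ≪≫ eN⟩
    have h1 : F.U i.succ = CohB1.genLocus _ (u (eT i)) ⊓ CohB1.genLocus N σ := by
      refine Opens.ext ?_
      rw [hFU, show sf i.succ = v' (eT i) from by simp [sf], hv', hv, Opens.coe_inf, hσ, Set.sdiff_eq]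
      refine congrArg (_ ∩ ·) ?_
      show _ = ((j.ker.support : Set X))ᶜ
      rw [Scheme.Hom.support_ker, j.isClosedEmbedding.isClosed_range.closure_eq]
    rw [h1, inf_comm]
    exact isAffineOpen_inf_genLocus hN σ (hUa (eT i))
  let φ : A →+* Γ(X, ⊤) := ((Scheme.ΓSpecIso (CommRingCat.of A)).inv ≫ s.appTop).hom
  let g₀ : X ⟶ CohB1.ProjSpace (Fintype.card T) A := GenMorph.toProj φ F
  have hg₀s : g₀ ≫ CohB1.ProjSpace.toSpec _ A = s := GenMorph.toProj_toSpec φ F s rfl
  haveI : IsProper g₀ := by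
    haveI : IsProper (g₀ ≫ CohB1.ProjSpace.toSpec (Fintype.card T) A) := by rw [hg₀s]; infer_instance
    exact IsProper.of_comp g₀ (CohB1.ProjSpace.toSpec (Fintype.card T) A)
  haveI : IsProper (CohB1.ProjSpace.toSpec (Fintype.card T) A) := inferInstance
  haveI : IsLocallyNoetherian (CohB1.ProjSpace (Fintype.card T) A) :=
    LocallyOfFiniteType.isLocallyNoetherian (CohB1.ProjSpace.toSpec (Fintype.card T) A)
  -- Stein factorisation
  let g := g₀.toNormalization
  let π := g₀.fromNormalization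
  have hgπ : g ≫ π = g₀ := g₀.toNormalization_fromNormalization
  haveI : IsFinite π := S1297.result g₀
  haveI := SteinConn.isLocallyNoetherian_normalization g₀
  haveI : CompactSpace g₀.normalization := QuasiCompact.compactSpace_of_compactSpace (π ≫ CohB1.ProjSpace.toSpec _ A)
  haveI : IsNoetherian g₀.normalization := { }
  have hO : RigidLib.BijApp g := SteinConn.bijApp_toNormalization g₀
  haveI : Surjective g := SteinConn.surjective_of_bijApp g hO
  let V : Fin (Fintype.card T + 1) → g₀.normalization.Opens := fun i =>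
    π ⁻¹ᵁ AmpleEmb.stdOpen (Fintype.card T) A i
  have hVa : ∀ i, IsAffineOpen (V i) := fun i => (AmpleEmb.isAffineOpen_stdOpen _ A i).preimage π
  have hVU : ∀ i, g ⁻¹ᵁ V i = F.U i := fun i => by
    show (g ≫ π) ⁻¹ᵁ (AmpleEmb.stdOpen (Fintype.card T) A i) = F.U i
    rw [hgπ]
    exact GenMorph.preimage_basicOpen φ F i
  have hjV : ∀ z, g (j z) ∈ V 0 := fun z => by
    have h1 : j z ∈ g ⁻¹ᵁ V 0 := by rw [hVU, hFU]; exact hτ ⟨z, rfl⟩
    exact h1
  let y := g (j (genericPoint (CohB1.ProjSpace 1 k)))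
  have hjy : ∀ z, g (j z) = y := fun z => by
    haveI : IsAffine (V 0).toScheme := hVa 0
    let l := IsOpenImmersion.lift (V 0).ι (j ≫ g)
      (by rw [Scheme.Opens.range_ι]; rintro _ ⟨w, rfl⟩; exact hjV w)
    have hl : l ≫ (V 0).ι = j ≫ g := IsOpenImmersion.lift_fac _ _ _
    have h2 := congrArg (V 0).ι (apply_eq_of_affine l z (genericPoint _))
    rwa [← Scheme.Hom.comp_apply, ← Scheme.Hom.comp_apply, hl] at h2
  have hy : IsClosed ({y} : Set g₀.normalization) := by
    have h1 := g.isClosedMap _ j.isClosedEmbedding.isClosed_range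
    rwa [← Set.range_comp, show Set.range (g ∘ j) = {y} from Set.eq_singleton_iff_nonempty_unique_mem.2
      ⟨⟨_, genericPoint _, rfl⟩, by rintro _ ⟨z, rfl⟩; exact hjy z⟩] at h1
  have hout : ∀ i : Fin (Fintype.card T), ∀ x ∈ F.U i.succ, x ∉ Set.range j := fun i x hx => by
    rw [hFU, show sf i.succ = v' (eT i) from by simp [sf]] at hx
    exact ((hv' (eT i)).le hx).2
  have hin : ∀ x, x ∉ Set.range j → ∃ i : Fin (Fintype.card T), x ∈ F.U i.succ := fun x hx => by
    obtain ⟨i, hi⟩ := hoff x hx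
    exact ⟨eT.symm i, by rw [hFU]; simpa [sf] using hi⟩
  have hfib : g ⁻¹' {y} = Set.range j := Set.ext fun x => ⟨fun hx => by
    by_contra hxj
    obtain ⟨i, hi⟩ := hin x hxj
    rw [← hVU] at hi
    have h1 : j (genericPoint _) ∈ g ⁻¹ᵁ V i.succ := by
      show y ∈ V i.succ
      rw [← Set.mem_singleton_iff.1 hx]
      exact hi
    rw [hVU] at h1
    exact hout i _ h1 ⟨_, rfl⟩, by rintro ⟨z, rfl⟩; exact hjy z⟩
  have hiso : IsIso (g ∣_ (⟨{y}ᶜ, hy.isOpen_compl⟩ : g₀.normalization.Opens)) := by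
    let U₀ : g₀.normalization.Opens := ⟨{y}ᶜ, hy.isOpen_compl⟩
    let W : Fin (Fintype.card T) → g₀.normalization.Opens := fun i => V i.succ
    have hWle : ∀ i, W i ≤ U₀ := fun i v hv hvy => by
      have h1 : j (genericPoint _) ∈ g ⁻¹ᵁ W i := by
        show y ∈ W i
        exact Set.mem_singleton_iff.1 hvy ▸ hv
      rw [hVU] at h1
      exact hout i _ h1 ⟨_, rfl⟩
    refine (IsZariskiLocalAtTarget.iff_of_iSup_eq_top (P := MorphismProperty.isomorphisms Scheme)
      (fun i => U₀.ι ⁻¹ᵁ W i) (top_le_iff.1 fun v _ => ?_)).2 fun i => ?_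
    · obtain ⟨x, hx⟩ := g.surjective (U₀.ι v)
      obtain ⟨i, hi⟩ := hin x fun hxj => v.2 (by
        obtain ⟨z, rfl⟩ := hxj
        exact hx.symm.trans (hjy z))
      rw [← hVU] at hi
      exact Opens.mem_iSup.2 ⟨i, show U₀.ι v ∈ W i from hx ▸ hi⟩
    · show IsIso ((g ∣_ U₀) ∣_ (U₀.ι ⁻¹ᵁ W i))
      haveI : IsIso (g ∣_ W i) :=
        isIso_restrict_of_affine g (W i) (hVa _) (by rw [hVU]; exact haff i) (hO (W i))
      haveI : IsIso (g ∣_ (U₀.ι ''ᵁ (U₀.ι ⁻¹ᵁ W i))) := by
        rw [Scheme.Hom.image_preimage_eq_opensRange_inf, Scheme.Opens.opensRange_ι, inf_eq_right.2 (hWle i)]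
        infer_instance
      exact (MorphismProperty.arrow_mk_iso_iff (MorphismProperty.isomorphisms _)
        (morphismRestrictRestrict g U₀ (U₀.ι ⁻¹ᵁ W i))).2 ‹_›
  refine ⟨g₀.normalization, inferInstance, inferInstance, g, inferInstance, π ≫ CohB1.ProjSpace.toSpec _ A,
    inferInstance, y, hy, by rw [← Category.assoc, hgπ, hg₀s], hO, hfib, hiso,
    ⟨_, isAmple_pullback π (AmpleEmb.isAmple_twistOne (Fintype.card T) A)⟩,
    V 0, H, L, τ, D * (n₀ + 1) * r₀, hVa 0, hjV _, hr0, hHA, hL, hIL, ?_⟩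
  rw [hVU, hFU]
  exact le_rfl

/-- The degree of the inverse ideal on the line is the self-intersection. -/
theorem degOn_of_intNum {k : Type u} [Field k] {X : Scheme.{u}} [X.Over (Spec (CommRingCat.of k))]
    [IsProper (X ↘ Spec (CommRingCat.of k))] (hd : topologicalKrullDim X ≤ ((2 : ℕ) : WithBot ℕ∞))
    (j : CohB1.ProjSpace 1 k ⟶ X) [IsClosedImmersion j]
    (hj : j ≫ (X ↘ Spec (CommRingCat.of k)) = CohB1.ProjSpace.toSpec 1 k)
    (hI : PicF.IsInvertible (ClSub.idealMod j.ker)) :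
    FGA.intNum k X 2 ![ClSub.idealMod j.ker, ClSub.idealMod j.ker] (Coh.structureModule X) =
      -degOn j (ClSub.idealMod j.ker) := by
  haveI := isProper_P1 (k := k)
  obtain ⟨N, hN, ⟨eN⟩⟩ := AmpleEmb.exists_isInverseOf hI
  have h := TwistShriek.intNum_ideal_inv_eq k hd j hI hN (comm N (ClSub.idealMod j.ker) ≪≫ eN)
  have key : ∀ M, (letI : (CohB1.ProjSpace 1 k).Over (Spec (CommRingCat.of k)) :=
      ⟨j ≫ (X ↘ Spec (CommRingCat.of k))⟩
    Curv2.euler k (CohB1.ProjSpace 1 k) M) = Curv2.euler k (CohB1.ProjSpace 1 k) M := by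
    rw [hj]
    intro M
    rfl
  rw [key, key] at h
  have h2 := (degOn_congr j eN).trans (degOn_one j)
  rw [degOn_tensor j hI hN] at h2
  rw [h, show degOn j (ClSub.idealMod j.ker) = -degOn j N by omega, neg_neg, degOn, degP, Curv2.deg]
  push_cast
  ring

end

/-- Let k be an algebraically closed field, X a smooth projective surface over k (integral, smooth over
k, of dimension two, with a closed immersion over k into some projective space) and C ⊆ X a curve,
given by a closed immersion i : C → X, with C isomorphic to P^1_k over k and (C·C) = −n for some n >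
0, the self-intersection being the alternating Euler-characteristic sum computed in the ideal I_C =
O_X(−C) (the prelude's FGA.intNum). Then there are a projective surface Y over k (integral, of
dimension two, with a closed immersion over k into some projective space), a morphism g : X → Y over
k and a closed point P of Y such that g^{-1}(P) = C as sets and g restricts to an isomorphism over Y
∖ {P}. (The published statement also identifies the completed local ring of Y at P with that of the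
vertex of the affine cone over a rational normal curve of degree n; this row omits that clause.) -/
theorem result (k : Type u) [Field k] [IsAlgClosed k]
    (X : Scheme.{u}) [X.Over (Spec (CommRingCat.of k))] [IsIntegral X] [Smooth (X ↘ (Spec (CommRingCat.of k)))] (hdim : topologicalKrullDim X = 2)
    (hprojX : ∃ (N : ℕ) (ι : X ⟶ CohB1.ProjSpace N k), IsClosedImmersion ι ∧ ι ≫ CohB1.ProjSpace.toSpec N k = (X ↘ (Spec (CommRingCat.of k))))
    (C : Scheme.{u}) (i : C ⟶ X) [IsClosedImmersion i]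
    (e : C ≅ CohB1.ProjSpace 1 k) (he : e.hom ≫ CohB1.ProjSpace.toSpec 1 k = i ≫ (X ↘ (Spec (CommRingCat.of k))))
    (n : ℕ) (hn : 0 < n)
    (hCC : FGA.intNum k X 2 ![ClSub.idealMod i.ker, ClSub.idealMod i.ker] (Coh.structureModule X) = -(n : ℤ)) :
    ∃ (Y : Scheme.{u}) (q : Y ⟶ Spec (CommRingCat.of k)) (g : X ⟶ Y) (P : Y) (hP : IsClosed ({P} : Set Y)),
      g ≫ q = (X ↘ (Spec (CommRingCat.of k))) ∧ IsIntegral Y ∧ topologicalKrullDim Y = 2 ∧
      (∃ (N : ℕ) (ι : Y ⟶ CohB1.ProjSpace N k), IsClosedImmersion ι ∧ ι ≫ CohB1.ProjSpace.toSpec N k = q) ∧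
      (∀ x : X, g x = P ↔ x ∈ Set.range i) ∧
      IsIso (g ∣_ (⟨({P} : Set Y)ᶜ, hP.isOpen_compl⟩ : Y.Opens)) := by
  obtain ⟨N, ι, hι0, hι⟩ := hprojX
  haveI := hι0
  haveI : IsProper (X ↘ Spec (CommRingCat.of k)) := ProjSerreLib.isProper_over ι hι
  haveI := EulerIneqLib.isNoetherian_proper (X := X) k
  have hH₀ := AmpleLib.isAmple_pullback ι (AmpleEmb.isAmple_twistOne N k)
  let j : CohB1.ProjSpace 1 k ⟶ X := e.inv ≫ i
  haveI : IsClosedImmersion j := inferInstanceAs (IsClosedImmersion (e.inv ≫ i))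
  have hker : j.ker = i.ker := Scheme.Hom.ker_comp_of_isIso e.inv i
  have hj : j ≫ (X ↘ Spec (CommRingCat.of k)) = CohB1.ProjSpace.toSpec 1 k := by
    rw [Category.assoc, ← he, Iso.inv_hom_id_assoc]
  have hint : IsIntegral j.ker.subscheme := by
    haveI := SurfPtBlow.isIntegral_P1 (k := k)
    haveI : Nonempty j.ker.subscheme := ⟨j.toImage (Classical.arbitrary _)⟩
    haveI : IsIso j.toImage := inferInstance
    exact AlgebraicGeometry.isIntegral_of_isOpenImmersion (inv j.toImage)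
  have hjdim : topologicalKrullDim (j.ker.support : Set X) = 1 := by
    rw [Scheme.Hom.support_ker, j.isClosedEmbedding.isClosed_range.closure_eq,
      ← IsHomeomorph.topologicalKrullDim_eq _ j.isClosedEmbedding.isEmbedding.toHomeomorph.isHomeomorph]
    exact SurfPtBlow.dim_P1
  have hI : PicF.IsInvertible (ClSub.idealMod j.ker) := TwistShriek.invertible_curve k hdim j.ker hint hjdim
  have hd : topologicalKrullDim X ≤ ((2 : ℕ) : WithBot ℕ∞) := by exact_mod_cast hdim.le
  have hdeg : SurfPtBlow.degOn j (ClSub.idealMod j.ker) = n := by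
    have h := degOn_of_intNum hd j hj hI
    rw [← hker] at hCC
    rw [hCC] at h
    omega
  obtain ⟨Y, _, _, g, _, t, _, P, hP, hgt, hO, hfib, hiso, ⟨M, hM⟩, -⟩ :=
    exists_contraction_map (X ↘ Spec (CommRingCat.of k)) hH₀ j ((S8914.result _).1 hI) hn hdeg
  haveI : IsProper (Over.mk t).hom := by change IsProper t; assumption
  obtain ⟨m, im, him, himY⟩ := CastLib.isProjectiveOver_of_isAmple (Over.mk t) hM
  haveI := him
  obtain ⟨e₀, he₀⟩ := ProjOverLib.exists_iso_polyProj m k
  have hrange : Set.range j = Set.range i := by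
    simp only [j, Scheme.Hom.comp_base, TopCat.coe_comp]
    exact Function.Surjective.range_comp e.inv.surjective _
  refine ⟨Y, t, g, P, hP, hgt, inferInstance, ?_, ⟨m, im ≫ e₀.hom, inferInstanceAs (IsClosedImmersion (im ≫ e₀.hom)), ?_⟩,
    fun x => ?_, hiso⟩
  · haveI : Surjective g := SteinConn.surjective_of_bijApp g hO
    refine le_antisymm ((SurfPtBlow.topologicalKrullDim_le_of_isClosedMap g.continuous g.isClosedMap g.surjective).trans hdim.le) ?_
    let U₀ : Y.Opens := ⟨({P} : Set Y)ᶜ, hP.isOpen_compl⟩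
    have hne : ((g ⁻¹ᵁ U₀ : X.Opens) : Set X).Nonempty := by
      rw [Set.nonempty_iff_ne_empty]
      intro h0
      have hall : (j.ker.support : Set X) = Set.univ := by
        rw [Scheme.Hom.support_ker, j.isClosedEmbedding.isClosed_range.closure_eq, ← hfib]
        exact Set.eq_univ_of_forall fun x => not_not.1 fun hx => h0.le hx
      have this := IsHomeomorph.topologicalKrullDim_eq _ (Homeomorph.Set.univ ↥X).isHomeomorph
      rw [← hall, hjdim, hdim] at this
      exact absurd this (by decide)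
    have h1 := DimFormulaLib.topologicalKrullDim_opens (X ↘ Spec (CommRingCat.of k)) (g ⁻¹ᵁ U₀) hne
    haveI : IsIso (g ∣_ U₀) := hiso
    have h2 := IsHomeomorph.topologicalKrullDim_eq _ (g ∣_ U₀).homeomorph.isHomeomorph
    rw [← hdim, ← h1]
    exact le_trans (le_of_eq h2) (topologicalKrullDim_subspace_le Y _)
  · rw [Category.assoc]
    erw [he₀]
    exact himY
  · rw [← hrange, ← hfib]
    rfl

end Groth.Agent.S14517
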