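import Groth.Statements.S14519
import Groth.Agent.BirQFLib.Conn
import Groth.Agent.S4809
import Groth.Agent.S4989
import Groth.Agent.CurveGlueLib.Ample

set_option autoImplicit false
universe u
open CategoryTheory CategoryTheory.Limits AlgebraicGeometry
open Curves

namespace Groth.Agent.S14519

/-- Let k be an algebraically closed field and f : X → Y a birational morphism over k between smooth
curves (X, Y integral, separated, of finite type and smooth over k, of dimension one; f sends the
generic point of X to that of Y and the induced map of function fields K(Y) → K(X) is bijective).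
Then f is an open immersion. -/
theorem result (k : Type u) [Field k] [IsAlgClosed k]
    (X Y : Scheme.{u}) [X.Over (Spec (CommRingCat.of k))] [Y.Over (Spec (CommRingCat.of k))]
    [IsIntegral X] [IsSeparated (X ↘ (Spec (CommRingCat.of k)))] [LocallyOfFiniteType (X ↘ (Spec (CommRingCat.of k)))] [QuasiCompact (X ↘ (Spec (CommRingCat.of k)))] [Smooth (X ↘ (Spec (CommRingCat.of k)))] (hdimX : topologicalKrullDim X = 1)
    [IsIntegral Y] [IsSeparated (Y ↘ (Spec (CommRingCat.of k)))] [LocallyOfFiniteType (Y ↘ (Spec (CommRingCat.of k)))] [QuasiCompact (Y ↘ (Spec (CommRingCat.of k)))] [Smooth (Y ↘ (Spec (CommRingCat.of k)))] (hdimY : topologicalKrullDim Y = 1)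
    (f : X ⟶ Y) (hf : f ≫ (Y ↘ (Spec (CommRingCat.of k))) = (X ↘ (Spec (CommRingCat.of k))))
    (e : f (genericPoint X) = genericPoint Y)
    (hbir : Function.Bijective (Y.presheaf.stalkSpecializes (specializes_of_eq e) ≫ f.stalkMap (genericPoint X)).hom) :
    IsOpenImmersion f := by
  haveI hS : LocallyOfFiniteType (f ≫ (Y ↘ (Spec (CommRingCat.of k)))) := by rw [hf]; infer_instance
  haveI : LocallyOfFiniteType f := locallyOfFiniteType_of_comp f (Y ↘ (Spec (CommRingCat.of k)))
  haveI : QuasiCompact (f ≫ (Y ↘ (Spec (CommRingCat.of k)))) := by rw [hf]; infer_instance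
  haveI : QuasiCompact f := QuasiCompact.of_comp f (Y ↘ (Spec (CommRingCat.of k)))
  haveI : IsSeparated (f ≫ (Y ↘ (Spec (CommRingCat.of k)))) := by rw [hf]; infer_instance
  haveI : IsSeparated f := IsSeparated.of_comp f (Y ↘ (Spec (CommRingCat.of k)))
  haveI : IsLocallyNoetherian Y := LocallyOfFiniteType.isLocallyNoetherian (Y ↘ (Spec (CommRingCat.of k)))
  have hspec : IsIso (Y.presheaf.stalkSpecializes (specializes_of_eq e)) :=
    ⟨Y.presheaf.stalkSpecializes (specializes_of_eq e.symm), by simp, by simp⟩
  have hbir' : IsIso (f.stalkMap (genericPoint X)) := by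
    haveI := hspec
    haveI := (ConcreteCategory.isIso_iff_bijective _).2 hbir
    exact IsIso.of_isIso_comp_left (Y.presheaf.stalkSpecializes (specializes_of_eq e)) _
  have hfin : ∀ y : Y, (f ⁻¹' {y}).Finite := fun y =>
    BirQFLib.finite_fibre f e (BirQFLib.resTrdegAt_eq_zero f _ hbir') y (by
      rw [ringKrullDim_stalk_eq_coheight]
      exact_mod_cast CurveGlueLib.coheight_le_one hdimY.le y)
  haveI : LocallyQuasiFinite f := LocallyQuasiFinite.of_finite_preimage_singleton f hfin
  have hN : ∀ y : Y, IsIntegrallyClosed (Y.presheaf.stalk y) := fun y => by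
    have hsm : y ∈ (Y ↘ (Spec (CommRingCat.of k))).smoothLocus := by
      rw [Scheme.Hom.smoothLocus_eq_top]; trivial
    refine ((S4989.result (Y ↘ (Spec (CommRingCat.of k))) y hsm).2.2 ?_).2
    let p := (Y ↘ (Spec (CommRingCat.of k))) y
    haveI : IsIntegral (Spec (CommRingCat.of k)) := inferInstance
    have hp : p = genericPoint (Spec (CommRingCat.of k)) := by
      haveI : Subsingleton (Spec (CommRingCat.of k)) := inferInstanceAs (Subsingleton (PrimeSpectrum k))
      exact Subsingleton.elim _ _
    change IsDomain ((Spec (CommRingCat.of k)).presheaf.stalk p) ∧ IsIntegrallyClosed ((Spec (CommRingCat.of k)).presheaf.stalk p)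
    rw [hp]
    letI := (Field.toIsField (Spec (CommRingCat.of k)).functionField).toField
    exact ⟨inferInstance, inferInstance⟩
  exact (S4809.result hN f e hbir').2 inferInstance


end Groth.Agent.S14519
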