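import Groth.Statements.S1452
import Groth.Agent.Unibranch.Unram
import Groth.Agent.EtDescent.Scheme
-- import your own Groth.Agent.* helpers here

set_option autoImplicit false
universe u
open FlatMor

namespace Groth.Agent.S1452

open AlgebraicGeometry CategoryTheory Limits in
/-- Let f : X → Y and g : Y → Z with Y integral and the local ring of Y at y = f x geometrically
unibranch; assume g ∘ f is étale on an open neighbourhood of x and some generization of x maps to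
the generic point of Y. Then f is étale on an open neighbourhood of x and g is étale on an open
neighbourhood of y. -/
theorem result {X Y Z : Scheme.{u}} (f : X ⟶ Y) (g : Y ⟶ Z) [IsIntegral Y] (x : X)
    (hY : CAlg2.IsGeomUnibranch (Y.presheaf.stalk (f x))) (het : ∃ U : X.Opens, x ∈ U ∧ Etale (U.ι ≫ f ≫ g))
    (hsp : ∃ x' : X, x' ⤳ x ∧ f x' = genericPoint ↑Y) :
    (∃ U : X.Opens, x ∈ U ∧ Etale (U.ι ≫ f)) ∧ ∃ V : Y.Opens, f x ∈ V ∧ Etale (V.ι ≫ g) := by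
  obtain ⟨U, hxU, hU⟩ := het
  haveI := hU
  haveI : FormallyUnramified (U.ι ≫ f) := by
    haveI : FormallyUnramified ((U.ι ≫ f) ≫ g) := by rw [Category.assoc]; infer_instance
    exact FormallyUnramified.of_comp (U.ι ≫ f) g
  obtain ⟨x', hx', hx'η⟩ := hsp
  haveI : LocallyOfFiniteType ((U.ι ≫ f) ≫ g) := by rw [Category.assoc]; infer_instance
  haveI : LocallyOfFiniteType (U.ι ≫ f) := locallyOfFiniteType_of_comp (U.ι ≫ f) g
  haveI : FormallyUnramified ((⊤ : (U : Scheme.{u}).Opens).ι ≫ U.ι ≫ f) :=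
    MorphismProperty.comp_mem @FormallyUnramified _ _ inferInstance inferInstance
  have hx'U : x' ∈ U := hx'.mem_open U.2 hxU
  have hspU : ∃ u' : (U : Scheme.{u}), u' ⤳ ⟨x, hxU⟩ ∧ (U.ι ≫ f) u' = genericPoint ↑Y :=
    ⟨⟨x', hx'U⟩, (U.ι.isOpenEmbedding.isInducing.specializes_iff).1 hx', hx'η⟩
  obtain ⟨V, hxV, hV⟩ := Groth.Agent.Unibranch.exists_etale_nbhd (U.ι ≫ f) ⟨x, hxU⟩ hY hspU
    ⟨⊤, trivial, inferInstance⟩
  haveI := hV
  refine ⟨⟨U.ι ''ᵁ V, ⟨⟨x, hxU⟩, hxV, rfl⟩, ?_⟩, ?_⟩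
  · rw [← Scheme.Hom.isoImage_inv_ι_assoc U.ι V]
    infer_instance
  · let W : Y.Opens := ⟨Set.range ((V.ι ≫ U.ι ≫ f) : _ ⟶ Y), (V.ι ≫ U.ι ≫ f).isOpenMap.isOpen_range⟩
    have hW : Set.range (V.ι ≫ U.ι ≫ f) ⊆ Set.range W.ι := by rw [Scheme.Opens.range_ι]; exact le_rfl
    let q := IsOpenImmersion.lift W.ι (V.ι ≫ U.ι ≫ f) hW
    have hq : q ≫ W.ι = V.ι ≫ U.ι ≫ f := IsOpenImmersion.lift_fac _ _ _
    haveI : Etale (q ≫ W.ι) := by rw [hq]; exact hV
    haveI : Etale q := Etale.of_comp q W.ι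
    haveI : Surjective q := ⟨fun w => by
      obtain ⟨v, hv⟩ := w.2
      refine ⟨v, W.ι.isOpenEmbedding.injective ?_⟩
      rw [← Scheme.Hom.comp_apply, hq]
      exact hv⟩
    haveI : Etale (q ≫ W.ι ≫ g) := by
      rw [← Category.assoc, hq, Category.assoc, Category.assoc]
      infer_instance
    exact ⟨W, ⟨⟨⟨x, hxU⟩, hxV⟩, rfl⟩, Groth.Agent.EtDescent.etale_of_precomp q (W.ι ≫ g)⟩

end Groth.Agent.S1452
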