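import Groth.Statements.S16555
import Groth.Agent.TraceH1Lib.Local
import Groth.Agent.ModifDimLib.Main
import Groth.Agent.BirQFLib.Conn
import Groth.Agent.CurveP1Lib.Rational
import Groth.Agent.DVRCrit.Local
import Groth.Agent.DivExtLib.Seq
import Groth.Agent.ProperFin.PushHH
import Groth.Agent.FibreVanishQC.Main
import Groth.Agent.RpushLib.Finite
import Groth.Agent.DevLib.Main
import Groth.Agent.S1543
import Groth.Agent.S1560
import Groth.Agent.IntImage.Spread
import Groth.Agent.S1688
import Groth.Agent.S9777

set_option autoImplicit false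
universe u
open CategoryTheory CategoryTheory.Limits AlgebraicGeometry
open Models

namespace Groth.Agent.S16555

set_option backward.isDefEq.respectTransparency false
set_option linter.style.haveILetI false
set_option maxHeartbeats 1600000
set_option synthInstance.maxHeartbeats 200000
open TopologicalSpace Groth.Agent Groth.Agent.CohBase

/-- A morphism from a reduced scheme into the range of a closed immersion factors through it. -/
theorem exists_lift_of_range {T W S : Scheme.{u}} [IsReduced T] (m : T ⟶ S) (j : W ⟶ S) [IsClosedImmersion j]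
    (h : Set.range m ⊆ Set.range j) : ∃ l : T ⟶ W, l ≫ j = m := by
  haveI : IsClosedImmersion (pullback.fst m j) := MorphismProperty.pullback_fst _ _ inferInstance
  haveI : Surjective (pullback.fst m j) := ⟨fun t => by
    have : t ∈ Set.range (pullback.fst m j) := by
      rw [Scheme.Pullback.range_fst]
      exact h ⟨t, rfl⟩
    exact this⟩
  haveI := isIso_of_isClosedImmersion_of_surjective (pullback.fst m j)
  exact ⟨inv (pullback.fst m j) ≫ pullback.snd m j, by
    rw [Category.assoc, ← pullback.condition, IsIso.inv_hom_id_assoc]⟩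

/-- A closed subscheme inherits the vanishing of the top cohomology. -/
theorem subsingleton_HH_closed {T X S : Scheme.{u}} (l : T ⟶ X) [IsClosedImmersion l] [IsAffine S] (c : X ⟶ S)
    [IsProper c] [IsLocallyNoetherian X] (hd : ∀ s, topologicalKrullDim ↥(c.fiber s) ≤ (1 : ℕ))
    [Subsingleton (Coh.HH X (Coh.structureModule X) 1)] :
    Subsingleton (Coh.HH T (Coh.structureModule T) 1) := by
  haveI : Epi (ClSub.unitToPush l) := DivExtLib.epi_unitToPush l
  let S' : ShortComplex X.Modules :=
    ShortComplex.mk (kernel.ι (ClSub.unitToPush l)) (ClSub.unitToPush l) (kernel.condition _)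
  have hS : S'.ShortExact := by
    haveI : Mono S'.f := inferInstanceAs (Mono (kernel.ι (ClSub.unitToPush l)))
    haveI : Epi S'.g := inferInstanceAs (Epi (ClSub.unitToPush l))
    exact ShortComplex.ShortExact.mk'
      (ShortComplex.exact_of_f_is_kernel _ (kernelIsKernel (ClSub.unitToPush l))) inferInstance inferInstance
  haveI : Coh.IsQCoh (Coh.structureModule X) := (DevLib.isCoh_structureModule X).1
  haveI : Coh.IsQCoh (Coh.structureModule T) := CohBase.isQCoh_structureModule
  haveI : Coh.IsQCoh ((Scheme.Modules.pushforward l).obj (Coh.structureModule T)) :=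
    QCohLib.isQCoh_pushforward (Coh.structureModule T) l
  haveI : Coh.IsQCoh S'.X₁ := (QCohLib.isQCoh_image (ClSub.unitToPush l) inferInstance inferInstance).1
  haveI : Subsingleton (HU (⊤ : X.Opens) (S'.map (QCohLib.toAbF X)).X₂ 1) :=
    (HHEquiv (Coh.structureModule X) 1).symm.toEquiv.subsingleton
  haveI : Subsingleton (HU (⊤ : X.Opens) (S'.map (QCohLib.toAbF X)).X₁ (1 + 1)) :=
    FibreVanishQC.subsingleton_HU_affine c 1 hd S'.X₁ 1 le_rfl
  haveI : Subsingleton (HU (⊤ : X.Opens) (Coh.toAb ((Scheme.Modules.pushforward l).obj (Coh.structureModule T))) 1) :=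
    subsingleton_quot (QCohLib.toAb_shortExact hS) (⊤ : X.Opens) 1
  obtain ⟨e, -⟩ := ProperFin.exists_pushEquiv l (M := Coh.structureModule T)
    (fun V hV m => affine_vanishing (Coh.structureModule T) (hV.preimage l) m) 1
  exact (e.trans (HHEquiv ((Scheme.Modules.pushforward l).obj (Coh.structureModule T)) 1)).toEquiv.subsingleton

/-- Let R be a discrete valuation ring with algebraically closed residue field k, YR an integral normal
scheme of dimension 2, proper and flat over Spec R, ZR an integral normal scheme with a proper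
R-morphism π : ZR -> YR which is an isomorphism over some nonempty open subset of YR, and y a closed
point of YR in the special fibre such that the local ring O_{YR,y} is a rational singularity and the
fibre π⁻¹(y) has dimension one. Then each irreducible component of π⁻¹(y) is, with its reduced
structure, a projective line over k: there is a closed immersion of P^1_k into ZR, compatible with
the maps to Spec R, whose image is that component. The published statement takes YR to be a
projective normal model of a smooth geometrically connected curve; this row only asks YR integral,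
normal, two-dimensional, proper and flat over R, which is all the local argument uses. (The
published statement also adds that the dual graph of π⁻¹(y) is a tree when ZR is regular; not
restated.) -/
theorem result
    (R : Type u) [CommRing R] [IsDomain R] [IsDiscreteValuationRing R]
    (hk : IsAlgClosed (IsLocalRing.ResidueField R))
    (YR ZR : Over (Spec (CommRingCat.of R))) [IsIntegral YR.left] [IsIntegral ZR.left]
    (hYn : Pi1.IsNormalScheme YR.left) (hZn : Pi1.IsNormalScheme ZR.left)
    [IsProper YR.hom] [Flat YR.hom] (hdY : topologicalKrullDim YR.left = 2)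
    (π : ZR ⟶ YR) [IsProper π.left]
    (hbir : ∃ U : YR.left.Opens, (U : Set YR.left).Nonempty ∧ IsIso (π.left ∣_ U))
    (y : YR.left) (hyc : IsClosed ({y} : Set YR.left)) (hys : y ∈ Models.specialFibreSet R YR)
    (hrat : Curv2.IsRationalSing (YR.left.presheaf.stalk y))
    (hdim : topologicalKrullDim (π.left.base ⁻¹' ({y} : Set YR.left)) = 1)
    (E : Set ZR.left)
    (hE : Maximal (fun S : Set ZR.left => IsIrreducible S ∧ S ⊆ π.left.base ⁻¹' ({y} : Set YR.left)) E) :
    ∃ e : CohB1.ProjSpace 1 (IsLocalRing.ResidueField R) ⟶ ZR.left, IsClosedImmersion e ∧ Set.range e.base = E ∧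
      e ≫ ZR.hom = CohB1.ProjSpace.toSpec 1 (IsLocalRing.ResidueField R) ≫
        Spec.map (CommRingCat.ofHom (algebraMap R (IsLocalRing.ResidueField R))) := by
  obtain ⟨U, hU, hUi⟩ := hbir
  haveI := hUi
  let p := YR.hom
  haveI : IsLocallyNoetherian YR.left := LocallyOfFiniteType.isLocallyNoetherian p
  haveI : CompactSpace YR.left := QuasiCompact.compactSpace_of_compactSpace p
  haveI : IsNoetherian YR.left := ⟨⟩
  haveI : YR.left.IsSeparated := ⟨by rw [← Limits.terminal.comp_from p]; infer_instance⟩
  haveI : IsLocallyNoetherian ZR.left := LocallyOfFiniteType.isLocallyNoetherian π.left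
  haveI : CompactSpace ZR.left := QuasiCompact.compactSpace_of_compactSpace π.left
  haveI : IsNoetherian ZR.left := ⟨⟩
  have hSdim : ∀ s : YR.left, ringKrullDim (YR.left.presheaf.stalk s) ≤ 2 := fun s =>
    (S1688.dim_le s).trans hdY.le
  have hfib := ModifDimLib.fibre_dim_le_one π.left hSdim hU hUi
  -- the component
  have hpre : IsClosed (π.left ⁻¹' ({y} : Set YR.left)) := hyc.preimage π.left.continuous
  have hEirr : IsIrreducible E := hE.prop.1
  have hEy : E ⊆ π.left ⁻¹' ({y} : Set YR.left) := hE.prop.2
  have hEc : IsClosed E := by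
    rw [← closure_subset_iff_isClosed]
    exact hE.2 ⟨hEirr.closure, closure_minimal hEy hpre⟩ subset_closure
  let I := Scheme.IdealSheafData.vanishingIdeal (⟨E, hEc⟩ : Closeds ZR.left)
  let T := I.subscheme
  let ι : T ⟶ ZR.left := I.subschemeι
  have hrι : Set.range ι = E := by
    rw [Scheme.IdealSheafData.range_subschemeι]
    simp [I, hEc.closure_eq]
  haveI : IsReduced T := DVRCrit.isReduced_vanishingIdeal _
  haveI : IrreducibleSpace T := by
    haveI : Nonempty T := by
      obtain ⟨z, hz⟩ := hEirr.nonempty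
      obtain ⟨t, -⟩ := hrι.ge hz
      exact ⟨t⟩
    refine (irreducibleSpace_def _).2 ⟨Set.univ_nonempty, ?_⟩
    have h := hEirr.2
    rw [← hrι, ← Set.image_univ] at h
    rintro A B hA hB ⟨a, -, ha⟩ ⟨b, -, hb⟩
    obtain ⟨A', hA', rfl⟩ := ι.isEmbedding.isInducing.isOpen_iff.1 hA
    obtain ⟨B', hB', rfl⟩ := ι.isEmbedding.isInducing.isOpen_iff.1 hB
    obtain ⟨w, ⟨c, -, rfl⟩, hw⟩ := h A' B' hA' hB' ⟨ι a, ⟨a, trivial, rfl⟩, ha⟩ ⟨ι b, ⟨b, trivial, rfl⟩, hb⟩
    exact ⟨c, trivial, hw⟩
  haveI : IsIntegral T := isIntegral_of_irreducibleSpace_of_isReduced T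
  have hTy : ∀ t : T, π.left (ι t) = y := fun t => hEy (hrι.le ⟨t, rfl⟩)
  -- the structure over the residue field
  let κR := IsLocalRing.ResidueField R
  let jk : Spec (CommRingCat.of κR) ⟶ Spec (CommRingCat.of R) :=
    Spec.map (CommRingCat.ofHom (algebraMap R κR))
  haveI : IsClosedImmersion jk :=
    IsClosedImmersion.spec_of_surjective (CommRingCat.ofHom (algebraMap R κR)) Ideal.Quotient.mk_surjective
  obtain ⟨σ, hσ⟩ := exists_lift_of_range (ι ≫ ZR.hom) jk (by
    rintro _ ⟨t, rfl⟩
    refine ⟨IsLocalRing.closedPoint κR, ?_⟩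
    rw [show (ι ≫ ZR.hom) t = p (π.left (ι t)) by rw [← Over.w π]; rfl, hTy,
      show p y = IsLocalRing.closedPoint R from hys]
    exact IsLocalRing.comap_closedPoint (IsLocalRing.residue R))
  letI : T.Over (Spec (CommRingCat.of κR)) := ⟨σ⟩
  haveI : IsProper ZR.hom := by rw [← Over.w π]; infer_instance
  haveI : IsProper (σ ≫ jk) := hσ.symm ▸ inferInstanceAs (IsProper (ι ≫ ZR.hom))
  haveI : IsProper (T ↘ Spec (CommRingCat.of κR)) := IsProper.of_comp σ jk
  -- dimension one
  have hTle : topologicalKrullDim T ≤ 1 := by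
    let m : T → (π.left ⁻¹' ({y} : Set YR.left)) := fun t => ⟨ι t, hTy t⟩
    have hm : Topology.IsInducing m :=
      Topology.IsInducing.of_comp (ι.continuous.subtype_mk hTy) continuous_subtype_val ι.isEmbedding.isInducing
    exact hm.topologicalKrullDim_le.trans hdim.le
  obtain ⟨ξ, hξ⟩ : ∃ ξ : ZR.left, IsGenericPoint ξ E := QuasiSober.sober hEirr hEc
  have hTge : ¬ topologicalKrullDim T ≤ 0 := by
    intro h0
    haveI : T1Space T := ASp.t1Space_of_topologicalKrullDim_le_zero _ h0
    have hξc : IsClosed ({ξ} : Set ZR.left) := by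
      obtain ⟨t, ht⟩ := hrι.ge hξ.mem
      have := ι.isClosedMap _ (isClosed_singleton (x := t))
      rwa [Set.image_singleton, ht] at this
    have hEs : E = {ξ} := hξ.def.symm.trans hξc.closure_eq
    -- no other point of the fibre lies over it
    have hmax : ∀ z, π.left z = y → z ⤳ ξ → z = ξ := fun z hz hzξ => by
      have h1 : closure ({z} : Set ZR.left) ≤ E := hE.2 ⟨isIrreducible_singleton.closure,
        closure_minimal (Set.singleton_subset_iff.2 hz) hpre⟩
        (hEs.le.trans (Set.singleton_subset_iff.2 hzξ.mem_closure))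
      exact (hEs.le (h1 (subset_closure rfl)) : z ∈ ({ξ} : Set ZR.left))
    obtain ⟨q, hq⟩ : ξ ∈ Set.range (π.left.fiberι y) := by
      rw [π.left.range_fiberι]
      exact hEy hξ.mem
    haveI : NoetherianSpace (π.left.fiber y) := (π.left.fiberι y).isEmbedding.isInducing.noetherianSpace
    have hopen : IsOpen ({q} : Set (π.left.fiber y)) := by
      obtain ⟨𝒮, hfin, hcl, hirr, hun⟩ := NoetherianSpace.exists_finite_set_isClosed_irreducible
        (s := (Set.univ : Set (π.left.fiber y))) isClosed_univ
      have : ({q} : Set (π.left.fiber y))ᶜ = ⋃₀ {S ∈ 𝒮 | q ∉ S} := by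
        ext z
        refine ⟨fun hz => ?_, fun ⟨S, hS, hzS⟩ h => hS.2 (h ▸ hzS)⟩
        obtain ⟨S, hS, hzS⟩ := hun.le (Set.mem_univ z)
        refine ⟨S, ⟨hS, fun hqS => hz ?_⟩, hzS⟩
        obtain ⟨w, hw⟩ := QuasiSober.sober (hirr S hS) (hcl S hS)
        have hwq : w = q := (π.left.fiberι y).isEmbedding.injective (by
          rw [hq]
          refine hmax _ ?_ (hq ▸ (hw.specializes hqS).map (π.left.fiberι y).continuous)
          exact (π.left.range_fiberι y).le ⟨w, rfl⟩)
        have h3 : q ⤳ z := hwq ▸ hw.specializes hzS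
        have h4 := h3.map (π.left.fiberι y).continuous
        rw [hq] at h4
        exact (π.left.fiberι y).isEmbedding.injective ((hξc.closure_eq.le h4.mem_closure).trans hq.symm)
      rw [← isClosed_compl_iff, this, Set.sUnion_eq_biUnion]
      exact (hfin.subset (Set.sep_subset _ _)).isClosed_biUnion fun S hS => hcl S hS.1
    obtain ⟨h1, h2⟩ := BirQFLib.qf_of_isolated π.left q hopen
    obtain ⟨hgen, hst⟩ := BirQFLib.birational_of_isIso_restrict π.left U hU hUi
    obtain ⟨V, hyV, hVi⟩ := BirQFLib.exists_nhd_isIso_of_normal_stalk π.left hgen hst _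
      (by rw [h1]; exact (hYn y).2) h2
    rw [h1] at hyV
    haveI := hVi
    have hsub : (π.left ⁻¹' ({y} : Set YR.left)).Subsingleton := fun a ha b hb => by
      have e : (π.left ∣_ V) ⟨a, show π.left a ∈ V from (show π.left a = y from ha).symm ▸ hyV⟩ =
          (π.left ∣_ V) ⟨b, show π.left b ∈ V from (show π.left b = y from hb).symm ▸ hyV⟩ :=
        Subtype.ext (by
          rw [morphismRestrict_base_coe, morphismRestrict_base_coe]
          exact (show π.left a = y from ha).trans (show π.left b = y from hb).symm)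
      exact congrArg Subtype.val ((π.left ∣_ V).isOpenEmbedding.injective e)
    haveI : Subsingleton (π.left ⁻¹' ({y} : Set YR.left)) := hsub.coe_sort
    have h5 := topologicalKrullDim_zero_of_discreteTopology (π.left ⁻¹' ({y} : Set YR.left))
    rw [hdim] at h5
    exact absurd h5 (by norm_num)
  have hT1 : topologicalKrullDim T = 1 := by
    refine le_antisymm hTle ?_
    rcases hd : topologicalKrullDim T with _ | d
    · exact absurd (hd ▸ (bot_le : (⊥ : WithBot ℕ∞) ≤ 0)) hTge
    · rw [hd] at hTge
      exact WithBot.coe_le_coe.2 (Order.one_le_iff_ne_zero.2 fun h => hTge (WithBot.coe_le_coe.2 h.le))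
  -- the local modification
  let Oy := YR.left.presheaf.stalk y
  haveI := (hYn y).1
  haveI := (hYn y).2
  let α := YR.left.fromSpecStalk y
  let X₁ := pullback π.left α
  let g : X₁ ⟶ ZR.left := pullback.fst π.left α
  let c : X₁ ⟶ Spec Oy := pullback.snd π.left α
  haveI : Flat α := IntImage.flat_fromSpecStalk y
  haveI : Flat g := MorphismProperty.pullback_fst _ _ inferInstance
  haveI : IsPreimmersion g := MorphismProperty.pullback_fst _ _ inferInstance
  haveI : IsProper c := MorphismProperty.pullback_snd _ _ inferInstance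
  haveI : IsLocallyNoetherian X₁ := LocallyOfFiniteType.isLocallyNoetherian c
  let O : (Spec Oy).Opens := α ⁻¹ᵁ U
  let η' : Spec Oy := ⟨⊥, Ideal.isPrime_bot⟩
  have hηU : genericPoint YR.left ∈ U := (genericPoint_specializes hU.some).mem_open U.2 hU.some_mem
  obtain ⟨w, hw⟩ : genericPoint YR.left ∈ Set.range α := by
    rw [Scheme.range_fromSpecStalk]
    exact genericPoint_specializes y
  have hwO : w ∈ O := show α w ∈ U from hw.symm ▸ hηU
  haveI hcO : IsIso (c ∣_ O) := ModPairLib.isIso_restrict_baseChange (IsPullback.of_hasPullback π.left α) U O le_rfl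
  haveI : IsIntegral (Spec Oy) := inferInstance
  haveI : Nonempty (O : Scheme.{u}) := ⟨⟨w, hwO⟩⟩
  haveI : IsIntegral ((g ⁻¹ᵁ (π.left ⁻¹ᵁ U) : X₁.Opens) : Scheme.{u}) := by
    have e : g ⁻¹ᵁ (π.left ⁻¹ᵁ U) = c ⁻¹ᵁ O := by
      simp only [O, ← Scheme.Hom.comp_preimage, g, c, pullback.condition]
    rw [e]
    haveI : Nonempty ((c ⁻¹ᵁ O : X₁.Opens) : Scheme.{u}) := ⟨inv (c ∣_ O) ⟨w, hwO⟩⟩
    haveI : IsIntegral (O : Scheme.{u}) := isIntegral_of_isOpenImmersion O.ι
    exact IsIntegral.of_isIso (inv (c ∣_ O))
  haveI : IsIntegral X₁ :=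
    RatCplLib.isIntegral_of_flat g (π.left ⁻¹ᵁ U) ⟨_, (inv (π.left ∣_ U) ⟨_, hηU⟩).2⟩
  have hX₁n : Pi1.IsNormalScheme X₁ := fun z => by
    haveI := ASp.isIso_stalkMap_of_flat_preimmersion g z
    obtain ⟨h1, h2⟩ := hZn (g z)
    haveI := h1
    haveI := h2
    let e := (asIso (g.stalkMap z)).commRingCatIsoToRingEquiv
    exact ⟨e.toMulEquiv.symm.isDomain _, IsIntegrallyClosed.of_equiv e⟩
  haveI : Subsingleton (Coh.HH X₁ (Coh.structureModule X₁) 1) :=
    hrat X₁ c inferInstance inferInstance hX₁n ⟨O, ⟨w, hwO⟩, hcO⟩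
  have hd₁ : ∀ s, topologicalKrullDim ↥(c.fiber s) ≤ (1 : ℕ) := fun s => by
    rw [Groth.Agent.S9777.result π.left α c g (IsPullback.of_hasPullback π.left α) s]
    exact hfib _
  -- the component inside it
  haveI : IsClosedImmersion (YR.left.fromSpecResidueField y) :=
    IsClosedImmersion.of_isPreimmersion _ (by rw [Scheme.range_fromSpecResidueField]; exact hyc)
  obtain ⟨τ, hτ⟩ := exists_lift_of_range (ι ≫ π.left) (YR.left.fromSpecResidueField y) (by
    rw [Scheme.range_fromSpecResidueField]
    rintro _ ⟨t, rfl⟩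
    exact hTy t)
  let l : T ⟶ X₁ := pullback.lift ι (τ ≫ Spec.map (YR.left.residue y)) (by
    rw [Category.assoc]
    exact hτ.symm)
  haveI : IsClosedImmersion (l ≫ g) := by
    simp only [l, g, pullback.lift_fst]
    infer_instance
  haveI : IsClosedImmersion l := IsClosedImmersion.of_comp l g
  haveI := subsingleton_HH_closed l c hd₁
  have hg0 : Curv2.genus κR T = 0 := Module.finrank_zero_of_subsingleton
  haveI : IsAlgClosed κR := hk
  haveI : GeometricallyReduced (T ↘ Spec (CommRingCat.of κR)) :=
    S1543.result κR T fun Z _ η _ => S1560.result κR T η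
  obtain ⟨e, he⟩ := CurveP1Lib.exists_iso_P1_of_sepClosed (k := κR) (X := T) hT1 hg0
  refine ⟨e.inv ≫ ι, inferInstance, ?_, ?_⟩
  · show Set.range (ι ∘ e.inv) = E
    erw [Function.Surjective.range_comp (f := ⇑e.inv) (Scheme.Hom.homeomorph e.inv).surjective]
    exact hrι
  · rw [Category.assoc, ← hσ, ← Category.assoc, show σ = T ↘ Spec (CommRingCat.of κR) from rfl, ← he,
      Iso.inv_hom_id_assoc]

end Groth.Agent.S16555
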