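import Groth.Statements.S5100
import Groth.Agent.DivDescLib.Global
import Groth.Agent.SerreLib.Normal
import Groth.Agent.FlatLocus.FibreStalk
import Mathlib.RingTheory.Ideal.AssociatedPrime.Localization


set_option autoImplicit false
universe u
open CategoryTheory CategoryTheory.Limits AlgebraicGeometry TopologicalSpace
open Div21

namespace Groth.Agent.S5100

open CategoryTheory CategoryTheory.Limits AlgebraicGeometry

open Groth.Agent.DivDescLib IntMult IsLocalRing

theorem isDVR_of_dim_one {A : Type u} [CommRing A] [IsDomain A] [IsLocalRing A] [IsNoetherianRing A]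
    [IsIntegrallyClosed A] (hdim : ringKrullDim A = 1) : IsDiscreteValuationRing A := by
  obtain ⟨hF, hrad⟩ := ringKrullDim_eq_one_iff_of_isLocalRing_isDomain.1 hdim
  have htfae := (IsDiscreteValuationRing.TFAE A hF).out 0 3
  refine htfae.2 ⟨inferInstance, maximalIdeal _,
    ⟨fun h => hF (IsLocalRing.isField_iff_maximalIdeal_eq.2 h), (maximalIdeal.isMaximal _).isPrime⟩, fun P ⟨hP0, hPp⟩ => ?_⟩
  obtain ⟨w, hwP, hw0⟩ := P.ne_bot_iff.1 hP0
  exact le_antisymm (IsLocalRing.le_maximalIdeal hPp.ne_top)
    ((hrad w hw0).trans (hPp.radical_le_iff.2 ((Ideal.span_singleton_le_iff_mem P).2 hwP)))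

theorem maximal_specializes_eq {Y : Scheme.{u}} {η : Y} (h : Order.coheight η = 0) (z : Y) (hz : z ⤳ η) : z = η :=
  (Specializes.antisymm hz ((Order.coheight_eq_zero.1 h) hz)).eq

theorem isUnit_of_gen_maximal {A : Type u} [CommRing A] [IsLocalRing A] (hdim : ringKrullDim A = 0) {a : A}
    (ha : a ∈ nonZeroDivisors A) : IsUnit a := by
  haveI : Ring.KrullDimLE 0 A := by
    rw [Ring.krullDimLE_iff, hdim]
    rfl
  by_contra hau
  have hnil : IsNilpotent a := by
    have hm : a ∈ maximalIdeal A := hau
    rw [← mem_nilradical, nilradical_eq_sInf]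
    refine Ideal.mem_sInf.2 fun P hP => ?_
    haveI : P.IsMaximal := Ideal.IsPrime.isMaximal' (R := A) (hI := hP)
    rw [IsLocalRing.eq_maximalIdeal (I := P) inferInstance]
    exact hm
  obtain ⟨k, hk⟩ := hnil
  exact zero_notMem_nonZeroDivisors (hk ▸ pow_mem ha k)

theorem ideal_comap_fromSpecStalk {X : Scheme.{u}} (J : X.IdealSheafData) (x : X) :
    (J.comap (X.fromSpecStalk x)).ideal ⟨⊤, isAffineOpen_top _⟩ =
      (stalkIdeal J x).map (Scheme.ΓSpecIso (X.presheaf.stalk x)).inv.hom := by
  obtain ⟨_, ⟨U : X.Opens, hU, rfl⟩, hxU, -⟩ := X.isBasis_affineOpens.exists_subset_of_mem_open (Set.mem_univ x) isOpen_univ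
  have e : (⊤ : (Spec (X.presheaf.stalk x)).Opens) ≤ X.fromSpecStalk x ⁻¹ᵁ U := fun p _ => by
    have hp : X.fromSpecStalk x p ∈ Set.range (X.fromSpecStalk x) := ⟨p, rfl⟩
    rw [X.range_fromSpecStalk] at hp
    exact hp.mem_open U.2 hxU
  rw [IdealStalkLib.comap_ideal J (X.fromSpecStalk x) hU (isAffineOpen_top _) e,
    IdealStalkLib.stalkIdeal_eq J ⟨U, hU⟩ x hxU, Ideal.map_map, ← CommRingCat.hom_comp]
  congr 2
  rw [Scheme.Hom.appLE, Scheme.fromSpecStalk_app hxU, Category.assoc, Category.assoc, ← Functor.map_comp]
  rw [← op_comp, show homOfLE e ≫ homOfLE (le_top : X.fromSpecStalk x ⁻¹ᵁ U ≤ ⊤) = 𝟙 _ from Subsingleton.elim _ _, op_id,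
    CategoryTheory.Functor.map_id]
  exact congrArg (_ ≫ ·) (Category.comp_id _)

theorem minPrime_ass {R : Type u} [CommRing R] [IsNoetherianRing R] {P : Ideal R}
    (h : P ∈ (Module.annihilator R R).minimalPrimes) : IsAssociatedPrime P R :=
  Module.associatedPrimes.minimalPrimes_annihilator_subset_associatedPrimes R R h

theorem cond_iff {X Y : Scheme.{u}} (f : X ⟶ Y) (J : X.IdealSheafData) {y : Y} (t : Y.presheaf.stalk y) (n : ℕ)
    (x : X) (hx : f x = y) :
    (J.comap (X.fromSpecStalk x)).ideal ⟨⊤, isAffineOpen_top _⟩ =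
        Ideal.span {(Scheme.ΓSpecIso (X.presheaf.stalk x)).inv
          (((f.stalkMap x).hom ((Y.presheaf.stalkCongr (.of_eq hx.symm)).hom t)) ^ n)} ↔
      stalkIdeal J x = Ideal.span {φ f (specializes_of_eq hx) t ^ n} := by
  have hb : Function.Bijective (Scheme.ΓSpecIso (X.presheaf.stalk x)).inv.hom :=
    ConcreteCategory.bijective_of_isIso _
  have key : ∀ (y : Y) (t : Y.presheaf.stalk y) (hx : f x = y),
      (f.stalkMap x).hom ((Y.presheaf.stalkCongr (.of_eq hx.symm)).hom t) = φ f (specializes_of_eq hx) t := by
    intro y t hx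
    subst hx
    rfl
  rw [ideal_comap_fromSpecStalk, key y t hx, ← Set.image_singleton, ← Ideal.map_span]
  refine ⟨fun h => ?_, fun h => congrArg _ h⟩
  have := congrArg (Ideal.comap (Scheme.ΓSpecIso (X.presheaf.stalk x)).inv.hom) h
  rwa [Ideal.comap_map_of_bijective _ hb, Ideal.comap_map_of_bijective _ hb] at this

/-- Suppose X and Y are locally Noetherian schemes, and consider a morphism f : X → Y that is flat and
surjective (i.e. faithfully flat) and is either quasi-compact or open. Assume Y is normal, and that
whenever y ∈ Y has a local ring of dimension 1, the fibre X_y has no embedded associated point (if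
one associated point of X_y specializes to another, the two coincide). Given an effective Cartier
divisor D' on X, described by its ideal sheaf 𝓙, D' arises as the inverse image of some effective
Cartier divisor on Y exactly when both of the following hold: (1) at each maximal point η of Y,
pulling D' back to the fibre X_η gives zero (the resulting ideal is the unit ideal); and (2) at each
y ∈ Y with one-dimensional local ring (a discrete valuation ring, because Y is normal) one can find
an integer n ≥ 0 so that, for any uniformizer t of O_{Y,y} and any maximal point x of f⁻¹(y), the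
ideal of D' in O_{X,x} (namely the inverse image of 𝓙 on Spec O_{X,x}) is generated by the image of
t raised to the n-th power. -/
theorem result {X Y : Scheme.{u}}
    [IsLocallyNoetherian X] [IsLocallyNoetherian Y] (f : X ⟶ Y) [Flat f] [Surjective f]
    (hf : QuasiCompact f ∨ IsOpenMap f) (hY : Pi1.IsNormalScheme Y)
    (hfib : ∀ y : ↥Y, ringKrullDim ↑(Y.presheaf.stalk y) = 1 → ∀ z z' : ↥(f.fiber y),
      IsAssociatedPrime (IsLocalRing.maximalIdeal ↑((f.fiber y).presheaf.stalk z)) ↑((f.fiber y).presheaf.stalk z) →
      IsAssociatedPrime (IsLocalRing.maximalIdeal ↑((f.fiber y).presheaf.stalk z')) ↑((f.fiber y).presheaf.stalk z') →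
      z' ⤳ z → z' = z)
    (𝓙 : X.IdealSheafData) (hJ : BlowUp.IsEffCartierIdeal 𝓙) :
    (∃ 𝓘 : Y.IdealSheafData, BlowUp.IsEffCartierIdeal 𝓘 ∧ 𝓘.comap f = 𝓙) ↔
      ((∀ η : ↥Y, (∀ z : ↥Y, z ⤳ η → z = η) → 𝓙.comap (f.fiberι η) = ⊤) ∧
        ∀ y : ↥Y, ringKrullDim ↑(Y.presheaf.stalk y) = 1 → ∃ n : ℕ, ∀ t : ↑(Y.presheaf.stalk y),
          IsLocalRing.maximalIdeal ↑(Y.presheaf.stalk y) = Ideal.span {t} →
          ∀ (x : ↥X) (hx : f x = y), (∀ z : ↥X, f z = y → z ⤳ x → z = x) →
            (𝓙.comap (X.fromSpecStalk x)).ideal ⟨⊤, isAffineOpen_top _⟩ =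
              Ideal.span {(Scheme.ΓSpecIso (X.presheaf.stalk x)).inv
                (((f.stalkMap x).hom ((Y.presheaf.stalkCongr (.of_eq hx.symm)).hom t)) ^ n)}) := by
  constructor
  · rintro ⟨I, hI, rfl⟩
    have hgen := exists_gen_of_descent (f := f) hJ hI rfl
    refine ⟨fun η hη => ?_, fun y hy => ?_⟩
    · obtain ⟨a, ha⟩ := hgen η
      have hu : IsUnit a := isUnit_of_gen_maximal (by
        rw [ringKrullDim_stalk_eq_coheight, Order.coheight_eq_zero.2 fun z hz => specializes_of_eq (hη z hz).symm]
        rfl) ha.1
      refine DivisorialLib.ext_stalk fun z => ?_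
      have hz : f (f.fiberι η z) = η := by
        have : f.fiberι η z ∈ f ⁻¹' {η} := by rw [← f.range_fiberι η]; exact ⟨z, rfl⟩
        exact this
      rw [IdealStalkLib.stalkIdeal_comap, ha.2 _ (specializes_of_eq hz), Ideal.span_singleton_eq_top.2 (hu.map _),
        Ideal.map_top, DivisorialLib.stalkIdeal_top]
    · haveI := (hY y).1
      haveI := (hY y).2
      haveI := isDVR_of_dim_one hy
      obtain ⟨a, ha⟩ := hgen y
      obtain ⟨π, hπ⟩ := IsDiscreteValuationRing.exists_irreducible (Y.presheaf.stalk y)
      obtain ⟨n, hn⟩ := (IsDiscreteValuationRing.ideal_eq_span_pow_irreducible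
        (s := Ideal.span {a}) (fun h => nonZeroDivisors.ne_zero ha.1 (Ideal.span_singleton_eq_bot.1 h)) hπ)
      refine ⟨n, fun t ht x hx _ => (cond_iff f _ t n x hx).2 ?_⟩
      rw [← map_pow, ha.2 x (specializes_of_eq hx)]
      refine span_map_eq _ ?_
      rw [hn, ← Ideal.span_singleton_pow, ← Ideal.span_singleton_pow, ← ht, hπ.maximalIdeal_eq]
  · rintro ⟨h0, h1⟩
    have htop : ∀ η : Y, (∀ z : Y, z ⤳ η → z = η) → ∀ x : X, f x = η → stalkIdeal 𝓙 x = ⊤ := by
      intro η hη x hx
      obtain ⟨z, hz⟩ : x ∈ Set.range (f.fiberι η) := by rw [f.range_fiberι η]; exact hx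
      subst hz
      have h1 := IdealStalkLib.stalkIdeal_comap 𝓙 (f.fiberι η) z
      rw [h0 η hη, DivisorialLib.stalkIdeal_top] at h1
      by_contra hne
      refine (maximalIdeal.isMaximal ((f.fiber η).presheaf.stalk z)).ne_top (top_le_iff.1 (h1.trans_le ?_))
      exact (Ideal.map_mono (IsLocalRing.le_maximalIdeal hne)).trans (Ideal.map_le_iff_le_comap.2 fun c hc =>
        map_nonunit ((f.fiberι η).stalkMap z).hom c hc)
    refine exists_descent (isQuotientMap hf) hJ (exists_gen hJ fun y hy hP => ?_)
    haveI := (hY y).1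
    haveI := (hY y).2
    have hle : Order.coheight y ≤ 1 := by
      by_contra hlt
      push Not at hlt
      have h2 := SerreLib.two_le_depth_of_normal (A := Y.presheaf.stalk y) (by
        rw [ringKrullDim_stalk_eq_coheight]
        exact_mod_cast hlt)
      exact absurd (le_trans h2 hy) (by norm_num)
    rcases hle.lt_or_eq with hlt0 | he1
    · refine ⟨1, gen_of_fibre hJ (fun x hx => ?_) hP⟩
      rw [htop y (maximal_specializes_eq (Order.lt_one_iff.1 hlt0)) x hx, map_one, Ideal.span_singleton_one]
    have hdim : ringKrullDim (Y.presheaf.stalk y) = 1 := by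
      rw [ringKrullDim_stalk_eq_coheight, he1]
      rfl
    haveI := isDVR_of_dim_one hdim
    obtain ⟨π, hπ⟩ := IsDiscreteValuationRing.exists_irreducible (Y.presheaf.stalk y)
    obtain ⟨n, hn⟩ := h1 y hdim
    refine ⟨π ^ n, gen_of_fibre hJ (fun x e => ?_) hP⟩
    obtain ⟨t, htn, ht⟩ := BlowExistsLib.exists_stalk_generator hJ x
    have hψnz : ∀ c : Y.presheaf.stalk y, c ≠ 0 → φ f (specializes_of_eq e) c ∈ nonZeroDivisors (X.presheaf.stalk x) := fun c hc => by
      letI := (φ f (specializes_of_eq e)).toAlgebra
      haveI : Module.Flat (Y.presheaf.stalk y) (X.presheaf.stalk x) := φ_flat f (specializes_of_eq e) e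
      have hr : IsSMulRegular (X.presheaf.stalk x) c :=
        Module.Flat.isSMulRegular_of_nonZeroDivisors (mem_nonZeroDivisors_of_ne_zero hc)
      refine mem_nonZeroDivisors_iff_right.2 fun s hs => hr ?_
      show c • s = c • 0
      rw [smul_zero, Algebra.smul_def]
      exact (mul_comm _ _).trans hs
    set π' := φ f (specializes_of_eq e) π with hπ'
    have main : ∀ a b : X.presheaf.stalk x, b ∈ nonZeroDivisors (X.presheaf.stalk x) →
        ((a = π' ^ n ∧ b = t) ∨ (a = t ∧ b = π' ^ n)) → a ∈ Ideal.span {b} := by
      intro a b hb hab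
      by_contra hnot
      let N := X.presheaf.stalk x ⧸ Ideal.span {b}
      obtain ⟨q, hq, hle⟩ := exists_le_isAssociatedPrime_of_isNoetherianRing (X.presheaf.stalk x)
        (Ideal.Quotient.mk (Ideal.span {b}) a) (fun h => hnot (Ideal.Quotient.eq_zero_iff_mem.1 h))
      haveI := hq.isPrime
      obtain ⟨x', hx, hxq⟩ := exists_generisation x q
      have hy' : f x' ⤳ y := (hx.map f.continuous).trans (specializes_of_eq e)
      letI := (X.presheaf.stalkSpecializes hx).hom.toAlgebra
      haveI := S5090.isLocalization_stalkSpecializes hx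
      have hbad : X.presheaf.stalkSpecializes hx a ∉ Ideal.span {X.presheaf.stalkSpecializes hx b} := by
        intro hm
        rw [← Set.image_singleton, ← Ideal.map_span] at hm
        obtain ⟨s, hs, hsa⟩ := (IsLocalization.algebraMap_mem_map_algebraMap_iff
          ((maximalIdeal (X.presheaf.stalk x')).comap (X.presheaf.stalkSpecializes hx).hom).primeCompl
          (X.presheaf.stalk x') (Ideal.span {b}) a).1 hm
        refine hs ?_
        rw [hxq]
        exact hle (Submodule.mem_colon_singleton.2 ((Submodule.mem_bot _).2 (Ideal.Quotient.eq_zero_iff_mem.2 hsa)))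
      refine hbad ?_
      have hgoal : Ideal.span {X.presheaf.stalkSpecializes hx (π' ^ n)} = Ideal.span {X.presheaf.stalkSpecializes hx t} := by
        rw [← stalkIdeal_gen 𝓙 hx ht]
        by_cases he : f x' = y
        swap
        · have hlt : Order.coheight (f x') < 1 := by
            rw [← he1]
            refine Order.coheight_strictAnti (lt_of_le_not_ge hy' fun h3 => he (Inseparable.eq (Specializes.antisymm hy' h3))) ?_
            have h4 : ringKrullDim (Y.presheaf.stalk (f x')) < ⊤ := ringKrullDim_lt_top
            rw [ringKrullDim_stalk_eq_coheight] at h4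
            exact WithBot.coe_lt_coe.1 h4
          rw [htop _ (maximal_specializes_eq (Order.lt_one_iff.1 hlt)) x' rfl, Ideal.span_singleton_eq_top, hπ', ← map_pow, ← φ_gen,
            ← φ_spec f hy' (specializes_refl _)]
          refine IsUnit.map _ (isUnit_of_gen_maximal ?_ ?_)
          · rw [ringKrullDim_stalk_eq_coheight, Order.lt_one_iff.1 hlt]; rfl
          · letI := (Y.presheaf.stalkSpecializes hy').hom.toAlgebra
            haveI := S5090.isLocalization_stalkSpecializes hy'
            exact IsLocalization.map_nonZeroDivisors_le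
              ((maximalIdeal (Y.presheaf.stalk (f x'))).comap (Y.presheaf.stalkSpecializes hy').hom).primeCompl
              (Y.presheaf.stalk (f x')) ⟨π ^ n, mem_nonZeroDivisors_of_ne_zero (pow_ne_zero n hπ.ne_zero), rfl⟩
        · have hπq : π' ∈ q := by
            rw [← hxq, Ideal.mem_comap]
            show X.presheaf.stalkSpecializes hx (φ f _ π) ∈ _
            rw [← φ_gen]
            haveI := φ_isLocalHom f hy' he
            exact map_nonunit (φ f hy') π hπ.not_isUnit
          obtain ⟨-, c₀, hc₀⟩ := isAssociatedPrime_iff.1 hq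
          obtain ⟨c, rfl⟩ := Ideal.Quotient.mk_surjective c₀
          have hqc : ∀ r, r ∈ q ↔ r * c ∈ Ideal.span {b} := fun r => by
            rw [hc₀, Submodule.mem_colon_singleton, Submodule.mem_bot, ← Ideal.Quotient.eq_zero_iff_mem]
            rfl
          obtain ⟨c', hc'⟩ := Ideal.mem_span_singleton.1 ((hqc π').1 hπq)
          have hπnz : π' ∈ nonZeroDivisors (X.presheaf.stalk x) := hψnz π hπ.ne_zero
          have hkey : ∀ r, r ∈ q ↔ r * c' ∈ Ideal.span {π'} := fun r => by
            constructor
            · intro hr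
              obtain ⟨e', he'⟩ := Ideal.mem_span_singleton.1 ((hqc r).1 hr)
              refine Ideal.mem_span_singleton.2 ⟨e', (mul_cancel_left_mem_nonZeroDivisors hb).1 ?_⟩
              linear_combination π' * he' - r * hc'
            · intro hr
              obtain ⟨e', he'⟩ := Ideal.mem_span_singleton.1 hr
              refine (hqc r).2 (Ideal.mem_span_singleton.2 ⟨e', (mul_cancel_left_mem_nonZeroDivisors hπnz).1 ?_⟩)
              linear_combination r * hc' + b * he'
          have hne : X.presheaf.stalkSpecializes hx c' ∉ Ideal.span {X.presheaf.stalkSpecializes hx π'} := by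
            intro hm
            rw [← Set.image_singleton, ← Ideal.map_span] at hm
            obtain ⟨s, hs, hsc⟩ := (IsLocalization.algebraMap_mem_map_algebraMap_iff
              ((maximalIdeal (X.presheaf.stalk x')).comap (X.presheaf.stalkSpecializes hx).hom).primeCompl
              (X.presheaf.stalk x') (Ideal.span {π'}) c').1 hm
            exact hs (hxq.symm ▸ (hkey s).2 hsc)
          have hkill : ∀ r ∈ maximalIdeal (X.presheaf.stalk x'),
              r * X.presheaf.stalkSpecializes hx c' ∈ Ideal.span {X.presheaf.stalkSpecializes hx π'} := fun r hr => by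
            obtain ⟨⟨r₀, w⟩, hw⟩ := IsLocalization.surj
              ((maximalIdeal (X.presheaf.stalk x')).comap (X.presheaf.stalkSpecializes hx).hom).primeCompl r
            change r * X.presheaf.stalkSpecializes hx w.1 = X.presheaf.stalkSpecializes hx r₀ at hw
            have hr₀ : r₀ ∈ q := by
              rw [← hxq, Ideal.mem_comap]
              show X.presheaf.stalkSpecializes hx r₀ ∈ _
              rw [← hw]
              exact Ideal.mul_mem_right _ _ hr
            have h3 := Ideal.mem_map_of_mem (X.presheaf.stalkSpecializes hx).hom ((hkey r₀).1 hr₀)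
            rw [Ideal.map_span, Set.image_singleton, map_mul] at h3
            erw [← hw] at h3
            rw [mul_right_comm] at h3
            exact (Ideal.mul_unit_mem_iff_mem _ (IsLocalization.map_units (X.presheaf.stalk x') w)).1 h3
          obtain ⟨z, hz⟩ : x' ∈ Set.range (f.fiberι y) := by rw [f.range_fiberι y]; exact he
          have hker : RingHom.ker ((f.fiberι y).stalkMap z).hom = Ideal.span {φ f (specializes_of_eq (show f (f.fiberι y z) = y from hz ▸ he)) π} := by
            rw [FlatLocus.ker_fiberι_stalkMap]
            have key : ∀ (y : Y) (π : Y.presheaf.stalk y) (x : X) (e : f x = y), maximalIdeal (Y.presheaf.stalk y) = Ideal.span {π} →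
                (maximalIdeal (Y.presheaf.stalk (f x))).map (f.stalkMap x).hom = Ideal.span {φ f (specializes_of_eq e) π} := by
              intro y π x e hm
              subst e
              rw [hm, Ideal.map_span, Set.image_singleton, φ_refl]
            exact key y π _ (show f (f.fiberι y z) = y from hz ▸ he) hπ.maximalIdeal_eq
          subst hz
          rw [hπ', ← φ_gen] at hne hkill
          have hsurj := FlatLocus.fiberι_stalkMap_surjective f y z
          haveI : IsNoetherianRing ((f.fiber y).presheaf.stalk z) := isNoetherianRing_of_surjective _ _ _ hsurj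
          have hass : IsAssociatedPrime (maximalIdeal ((f.fiber y).presheaf.stalk z)) ((f.fiber y).presheaf.stalk z) := by
            refine isAssociatedPrime_iff.2 ⟨inferInstance, (f.fiberι y).stalkMap z (X.presheaf.stalkSpecializes hx c'), ?_⟩
            have hle' : maximalIdeal ((f.fiber y).presheaf.stalk z) ≤ (⊥ : Submodule ((f.fiber y).presheaf.stalk z) ((f.fiber y).presheaf.stalk z)).colon
                {(f.fiberι y).stalkMap z (X.presheaf.stalkSpecializes hx c')} := fun r hr => by
              obtain ⟨r', rfl⟩ := hsurj r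
              rw [Submodule.mem_colon_singleton, Submodule.mem_bot, smul_eq_mul, ← map_mul]
              show r' * X.presheaf.stalkSpecializes hx c' ∈ RingHom.ker ((f.fiberι y).stalkMap z).hom
              rw [hker]
              refine hkill r' ((mem_maximalIdeal r').2 fun hu => (mem_maximalIdeal _).1 hr (hu.map _))
            refine (maximalIdeal.isMaximal _).eq_of_le (fun h => hne ?_) hle'
            have h4 : (1 : (f.fiber y).presheaf.stalk z) ∈ (⊥ : Submodule ((f.fiber y).presheaf.stalk z) ((f.fiber y).presheaf.stalk z)).colon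
                {(f.fiberι y).stalkMap z (X.presheaf.stalkSpecializes hx c')} := h ▸ Submodule.mem_top
            rw [Submodule.mem_colon_singleton, Submodule.mem_bot, one_smul] at h4
            rw [← hker]
            exact h4
          obtain ⟨q₀, hq₀⟩ := Ideal.nonempty_minimalPrimes
            (I := (⊥ : Ideal ((f.fiber y).presheaf.stalk z))) bot_ne_top
          haveI := hq₀.1.1
          obtain ⟨z', hz', hzq⟩ := exists_generisation z q₀
          have hass' : IsAssociatedPrime (maximalIdeal ((f.fiber y).presheaf.stalk z')) ((f.fiber y).presheaf.stalk z') := by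
            letI := ((f.fiber y).presheaf.stalkSpecializes hz').hom.toAlgebra
            haveI := S5090.isLocalization_stalkSpecializes hz'
            haveI : IsNoetherianRing ((f.fiber y).presheaf.stalk z') := IsLocalization.isNoetherianRing
              ((maximalIdeal ((f.fiber y).presheaf.stalk z')).comap ((f.fiber y).presheaf.stalkSpecializes hz').hom).primeCompl _ inferInstance
            refine Groth.Agent.S5100.minPrime_ass ?_
            rw [show Module.annihilator ((f.fiber y).presheaf.stalk z') ((f.fiber y).presheaf.stalk z') = ⊥ from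
              Module.annihilator_eq_bot.2 inferInstance]

            have h0' : ringKrullDim ((f.fiber y).presheaf.stalk z') = 0 := by
              rw [IsLocalization.AtPrime.ringKrullDim_eq_height ((maximalIdeal ((f.fiber y).presheaf.stalk z')).comap ((f.fiber y).presheaf.stalkSpecializes hz').hom)
                ((f.fiber y).presheaf.stalk z')]
              simp only [hzq]
              rw [Ideal.height_eq_zero_iff.2 hq₀]
              rfl
            haveI : Ring.KrullDimLE 0 ((f.fiber y).presheaf.stalk z') := by
              rw [Ring.krullDimLE_iff, h0']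
              rfl
            refine ⟨⟨inferInstance, bot_le⟩, fun P hP _ => ?_⟩
            haveI : P.IsMaximal := Ideal.IsPrime.isMaximal' (R := (f.fiber y).presheaf.stalk z') (hI := hP.1)
            exact (IsLocalRing.eq_maximalIdeal (I := P) inferInstance).ge
          have hzz := hfib y hdim z z' hass hass' hz'
          subst hzz
          refine Eq.trans ?_ ((cond_iff f 𝓙 π n _ he).1 (hn π hπ.maximalIdeal_eq _ he fun w hw hwx => ?_)).symm
          · rw [hπ', ← map_pow, ← φ_gen, map_pow]
          · obtain ⟨w', rfl⟩ : w ∈ Set.range (f.fiberι y) := by rw [f.range_fiberι y]; exact hw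
            have hw' := (f.fiberι y).isEmbedding.isInducing.specializes_iff.1 hwx
            have h5 : z' ⤳ w' := specializes_of_comap_le hz' hw' (by
              rw [hzq]
              exact hq₀.2 ⟨Ideal.IsPrime.comap _, bot_le⟩ (by
                rw [← hzq, TopCat.Presheaf.stalkSpecializes_refl]
                exact fun r hr => (mem_maximalIdeal r).2 fun hu => (mem_maximalIdeal _).1 hr (hu.map _)))
            exact congrArg _ (Specializes.antisymm hw' h5).eq
      rcases hab with ⟨rfl, rfl⟩ | ⟨rfl, rfl⟩
      · rw [← hgoal]; exact Ideal.mem_span_singleton_self _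
      · rw [hgoal]; exact Ideal.mem_span_singleton_self _
    rw [map_pow, ← hπ', ht]
    exact le_antisymm ((Ideal.span_singleton_le_iff_mem _).2 (main t (π' ^ n) (pow_mem (hψnz π hπ.ne_zero) n) (Or.inr ⟨rfl, rfl⟩)))
      ((Ideal.span_singleton_le_iff_mem _).2 (main (π' ^ n) t htn (Or.inl ⟨rfl, rfl⟩)))

end Groth.Agent.S5100
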