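import Groth.Statements.S9787
import Groth.Agent.SyntRegLib.Main
import Groth.Agent.CILib.Scheme
import Groth.Agent.BlowChartLib.Regular
import Groth.Agent.BlowChartLib.RegStalk
import Groth.Agent.RegBlowLib.Scheme
import Groth.Agent.SmoothRegLib.Fp
import Groth.Agent.FlatLocus.PointScheme
-- import your own Groth.Agent.* helpers here

set_option autoImplicit false
universe u
open CategoryTheory CategoryTheory.Limits AlgebraicGeometry TopologicalSpace
open FlatMor

namespace Groth.Agent.S9787

/-- For a smooth q : X ⟶ S and a closed immersion i : Z ⟶ X whose composite with q is smooth, any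
blowing up b : X' ⟶ X of the ideal sheaf of Z (given by its universal property) is smooth over S,
and so is its exceptional divisor. The published statement also identifies the exceptional divisor
over Z with the projective bundle of the conormal sheaf, with O(1) the restriction of O_{X'}(−E);
this row proves only the two smoothness claims. -/
theorem result {Z X X' S : Scheme.{u}} (q : X ⟶ S) [Smooth q] (i : Z ⟶ X) [IsClosedImmersion i]
    [Smooth (i ≫ q)] (b : X' ⟶ X) (hb : BlowUp.IsBlowUp b i.ker) :
    Smooth (b ≫ q) ∧ Smooth ((BlowUp.exceptional b i.ker).subschemeι ≫ b ≫ q) := by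
  haveI := (inferInstance : IsClosedImmersion i)
  have hci : CInt.IsCIMorphism (i ≫ q) :=
    (Groth.Agent.CILib.isCIMorphism_iff_isSyntomicMor _).2 (Groth.Agent.CILib.isSyntomicMor_of_smooth _)
  have hreg := Groth.Agent.SyntRegLib.isRegularImmersion_of_smooth i q hci
  have hi : Mor2.IsRegularClosedImmersion i := ⟨inferInstance, fun z => by
    obtain ⟨U, hz, -, rs, hrs, hk⟩ := hreg.2 z
    exact ⟨U.1, U.2, hz, rs, hrs, (Scheme.Hom.ker_apply _ _).trans hk⟩⟩
  let D := BlowUp.exceptional b i.ker
  let j := D.subschemeι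
  obtain ⟨g, hg⟩ : ∃ g : D.subscheme ⟶ Z, g ≫ i = j ≫ b := by
    refine ⟨IsClosedImmersion.lift i (j ≫ b) ?_, IsClosedImmersion.lift_fac _ _ _⟩
    have h0 : i.ker.comap b ≤ j.ker := (Scheme.IdealSheafData.ker_subschemeι D).ge
    exact ((Scheme.IdealSheafData.le_map_iff_comap_le (f := b) (I := j.ker) (J := i.ker)).2 h0).trans
      (Scheme.IdealSheafData.map_ker j b).le
  haveI hgs : Smooth g := Groth.Agent.BlowChartLib.smooth_exceptional i hi b hb g hg
  have hE : Smooth (j ≫ b ≫ q) := by
    rw [← Category.assoc, ← hg, Category.assoc]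
    infer_instance
  refine ⟨?_, hE⟩
  haveI hfp : LocallyOfFinitePresentation b := by
    refine (HasRingHomProperty.iff_appLE (P := @LocallyOfFinitePresentation)).mpr fun V W e => ?_
    letI := (b.appLE V W e).hom.toAlgebra
    exact Groth.Agent.PerfMorLib.finitePresentation_of_pcHom (Groth.Agent.PerfMorLib.isPerfectHom_iff.1
      (Groth.Agent.RegBlowLib.isPerfectMor_blowUp i hi b hb W.1 V.1 W.2 V.2 e)).1
  rw [← Scheme.Hom.smoothLocus_eq_top_iff, eq_top_iff]
  rintro x -
  by_cases hx : x ∈ (i.ker.comap b).support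
  · obtain ⟨w, rfl⟩ : ∃ w, j w = x := by
      have : x ∈ Set.range j := by
        rw [Scheme.IdealSheafData.range_subschemeι]
        exact hx
      exact this
    obtain ⟨⟨V, hV⟩, hwV, t, ht, hI⟩ := hb.1 (j w)
    let T := X'.presheaf.stalk (j w)
    let γ := (X'.presheaf.germ V (j w) hwV).hom
    have hk : RingHom.ker (j.stalkMap w).hom = Ideal.ofList [γ t] := by
      rw [Groth.Agent.RegIdealLib.ker_stalkMap j hV
        (IsZariskiLocalAtTarget.restrict (P := @IsClosedImmersion) (inferInstanceAs (IsClosedImmersion j)) V) w hwV,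
        Scheme.IdealSheafData.ker_subschemeι_app D ⟨V, hV⟩, Ideal.ofList_singleton]
      show (D.ideal ⟨V, hV⟩).map γ = _
      rw [show D.ideal ⟨V, hV⟩ = Ideal.span {t} from hI, Ideal.map_span, Set.image_singleton]
    have hreg' : RingTheory.Sequence.IsWeaklyRegular T [γ t] := by
      rw [RingTheory.Sequence.isWeaklyRegular_singleton_iff, isSMulRegular_iff_right_eq_zero_of_smul]
      intro a ha
      letI : Algebra Γ(X', V) T := TopCat.Presheaf.algebra_section_stalk X'.presheaf ⟨_, hwV⟩
      haveI := hV.isLocalization_stalk ⟨_, hwV⟩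
      have hgn : γ t ∈ nonZeroDivisors T :=
        IsLocalization.map_nonZeroDivisors_le (hV.primeIdealOf ⟨_, hwV⟩).asIdeal.primeCompl _ ⟨t, ht, rfl⟩
      exact hgn.1 a (by rw [← smul_eq_mul]; exact ha)
    have hY : ((j ≫ b ≫ q).stalkMap w).hom.FormallySmooth :=
      Scheme.Hom.mem_smoothLocus.1 (by rw [Scheme.Hom.smoothLocus_eq_top]; trivial)
    exact Groth.Agent.SmoothRegLib.formallySmooth_stalk_of_regular' (b ≫ q) j w hY [γ t] hreg' hk
  · let U : X'.Opens := (i.ker.comap b).support.compl
    haveI := Groth.Agent.BlowCompLib.isOpenImmersion_off_exceptional i.ker b hb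
    haveI : Smooth (U.ι ≫ b ≫ q) := by
      rw [← Category.assoc]
      infer_instance
    exact (Groth.Agent.FlatLocus.exists_smooth_nhd_iff (b ≫ q) x).1 ⟨U, hx, inferInstance⟩

end Groth.Agent.S9787
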