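import Groth.Statements.S14520
import Groth.Agent.TwistShriek.PointStrict
import Groth.Agent.TwistShriek.SurfH1
import Groth.Agent.TwistShriek.SurfCurve
import Groth.Agent.SurfPtBlow.Colon
import Groth.Agent.SurfPtBlow.Step
import Groth.Agent.CastLib.StrictPoint
import Groth.Agent.DiagRedLib.Geom
import Groth.Agent.RGBlowLib.Union.Shrink
import Groth.Agent.WLocalLib.UnivHomeoEtale
import Groth.Agent.S5100
import Groth.Agent.S7928
import Groth.Agent.S7303
import Groth.Agent.S8909
import Groth.Agent.S1680
import Groth.Agent.S2348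
import Groth.Agent.S9787
import Groth.Agent.S16555
import Groth.Agent.FinBirLib.Smooth
import Groth.Agent.HilbLib.Poly
import Groth.Agent.CurveLib.GlobalFun
import Groth.Agent.CurveLib.DegTensor

set_option autoImplicit false
universe u
open CategoryTheory CategoryTheory.Limits AlgebraicGeometry
open Surf

namespace Groth.Agent.S14520

set_option backward.isDefEq.respectTransparency false
set_option linter.style.haveILetI false
set_option maxHeartbeats 1000000
set_option synthInstance.maxHeartbeats 200000
open TopologicalSpace Groth.Agent Groth.Agent.TwistShriek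
open Groth.Agent.TwistShriek.PointBlow (pointIdeal)

/-- Stalk ideals at a generisation. -/
theorem stalkIdeal_map_specializes {X : Scheme.{u}} (I : X.IdealSheafData) {y z : X} (h : z ⤳ y) :
    (IntMult.stalkIdeal I y).map (X.presheaf.stalkSpecializes h).hom = IntMult.stalkIdeal I z := by
  obtain ⟨_, ⟨U : X.Opens, hU, rfl⟩, hy, -⟩ := X.isBasis_affineOpens.exists_subset_of_mem_open (Set.mem_univ y) isOpen_univ
  rw [IdealStalkLib.stalkIdeal_eq I ⟨U, hU⟩ y hy, IdealStalkLib.stalkIdeal_eq I ⟨U, hU⟩ z (h.mem_open U.2 hy),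
    Ideal.map_map]
  exact congrArg (fun φ : Γ(X, U) →+* _ => (I.ideal ⟨U, hU⟩).map φ)
    (RingHom.ext fun a => TopCat.Presheaf.germ_stalkSpecializes_apply (F := X.presheaf) hy h a)

/-- An ideal sheaf pulled to the local ring at a point. -/
theorem comap_fromSpecStalk_eq {X : Scheme.{u}} (I : X.IdealSheafData) (x : X) :
    I.comap (X.fromSpecStalk x) = Curv2.idealSheaf (X.presheaf.stalk x) (IntMult.stalkIdeal I x) :=
  Scheme.IdealSheafData.ext_of_isAffine ((S5100.ideal_comap_fromSpecStalk I x).trans
    (by simp [Curv2.idealSheaf]; rfl))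

/-- An ideal with integral closed subscheme contains everything vanishing on its support. -/
theorem le_of_support_subset {X : Scheme.{u}} {I K : X.IdealSheafData} [IsReduced I.subscheme]
    (h : (I.support : Set X) ⊆ K.support) : K ≤ I := by
  have hle : (⊤ : I.subscheme.Opens) ≤ ⊤ := le_rfl
  rw [← I.ker_subschemeι]
  obtain ⟨l, hl⟩ := S16555.exists_lift_of_range I.subschemeι K.subschemeι (by
    rw [Scheme.IdealSheafData.range_subschemeι, Scheme.IdealSheafData.range_subschemeι]; exact h)
  rw [← hl]
  conv_lhs => rw [← K.ker_subschemeι]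
  exact Scheme.Hom.le_ker_comp _ _

theorem euler_congr {k : Type u} [Field k] {C : Scheme.{u}} (o : C.Over (Spec (CommRingCat.of k)))
    (p : C ⟶ Spec (CommRingCat.of k)) (h : @OverClass.hom _ _ C _ o = p) (M : C.Modules) :
    @Curv2.euler k _ C ⟨p⟩ M = @Curv2.euler k _ C o M := by
  subst h
  rfl

/-- The total transform of a curve through a point of a surface. -/
theorem comap_eq_strict {k : Type u} [Field k] {X X' : Scheme.{u}} [IsIntegral X] [IsIntegral X']
    [IsNoetherian X] [IsLocallyNoetherian X'] (hregX : ∀ y : X, IsRegularLocalRing (X.presheaf.stalk y))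
    (hdim' : topologicalKrullDim X' ≤ ((2 : ℕ) : WithBot ℕ∞))
    (P : X) (hP : IsClosed ({P} : Set X)) (h2 : ringKrullDim (X.presheaf.stalk P) = 2)
    (f : X' ⟶ X) (hf : BlowUp.IsBlowUp f (pointIdeal hP))
    (hE : IsIntegral (BlowUp.exceptional f (pointIdeal hP)).subscheme)
    {C : Scheme.{u}} [IsIntegral C] (j : C ⟶ X) [IsClosedImmersion j]
    (hJ : BlowUp.IsEffCartierIdeal j.ker) (hjC : j (genericPoint C) ≠ P)
    (m : ℕ) (hm : j.ker ≤ pointIdeal hP ^ m) (hm' : ¬ j.ker ≤ pointIdeal hP ^ (m + 1))
    {C' : Scheme.{u}} [IsIntegral C'] (j' : C' ⟶ X') [IsClosedImmersion j']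
    (hJ' : BlowUp.IsEffCartierIdeal j'.ker) (hgen : f (j' (genericPoint C')) = j (genericPoint C)) :
    j.ker.comap f = j'.ker * BlowUp.exceptional f (pointIdeal hP) ^ m := by
  haveI := hE
  let I := BlowUp.exceptional f (pointIdeal hP)
  let J := j.ker
  let J' := j'.ker
  have hIdef : I = (pointIdeal hP).comap f := rfl
  have hIs : ∀ y : X', y ∈ I.support ↔ f y = P := fun y => by
    rw [hIdef, ← SetLike.mem_coe, Scheme.IdealSheafData.support_comap]
    simp [Scheme.IdealSheafData.coe_support_vanishingIdeal]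
  have hJs : ∀ z : X, z ∈ J.support ↔ z ∈ Set.range j := fun z => by
    rw [← SetLike.mem_coe, Scheme.Hom.support_ker, j.isClosedEmbedding.isClosed_range.closure_eq]
  have hJs' : ∀ z : X', z ∈ J'.support ↔ z ∈ Set.range j' := fun z => by
    rw [← SetLike.mem_coe, Scheme.Hom.support_ker, j'.isClosedEmbedding.isClosed_range.closure_eq]
  -- the curve upstairs maps into the curve downstairs
  have hrange : Set.range (j' ≫ f) ⊆ Set.range j := by
    rintro _ ⟨c, rfl⟩
    refine (((genericPoint_specializes c).map (j' ≫ f).continuous)).mem_closed j.isClosedEmbedding.isClosed_range ?_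
    exact ⟨genericPoint C, hgen.symm⟩
  have hle : J.comap f ≤ J' := by
    rw [← Scheme.IdealSheafData.le_map_iff_comap_le, Scheme.IdealSheafData.map_ker]
    obtain ⟨l, hl⟩ := S16555.exists_lift_of_range (j' ≫ f) j hrange
    rw [← hl]
    exact Scheme.Hom.le_ker_comp _ _
  -- the exceptional part
  haveI := (Groth.Agent.S1571.result X' _ hf.1).1
  haveI := (Groth.Agent.S1571.result X' _ hf.1).2
  haveI := PointBlow.isProper hf
  have hJcomap : BlowUp.IsEffCartierIdeal (J.comap f) := BlowCompLib.isEffCartier_comap_of_blowUp _ f hf hJ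
  have hIm : BlowUp.IsEffCartierIdeal (I ^ m) := CastLib.StrictPoint.isEffCartier_pow hf.1 m
  have hleI : J.comap f ≤ I ^ m := by
    rw [hIdef, ← RGBlowLib.Union.comap_pow]
    exact Scheme.IdealSheafData.comap_mono f hm
  obtain ⟨K, hK⟩ := SurfPtBlow.exists_eq_mul hIm hleI
  have hKc : BlowUp.IsEffCartierIdeal K := BlowCompLib.isEffCartier_of_mul (hK ▸ hJcomap)
  -- the multiplicity is exact
  have hnot : ¬ J.comap f ≤ I ^ (m + 1) := by
    intro hc
    let A := X.presheaf.stalk P
    haveI : IsRegularLocalRing A := hregX P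
    haveI : Flat (X.fromSpecStalk P) := WLocalLib.flat_fromSpecStalk_we P
    let b := pullback.fst (X.fromSpecStalk P) f
    have hb := Groth.Agent.S1680.result (X.fromSpecStalk P) (pointIdeal hP) f hf
    have hmax : IntMult.stalkIdeal (pointIdeal hP) P = IsLocalRing.maximalIdeal A := by
      refine le_antisymm (IdealStalkLib.stalkIdeal_le_maximal _ (by
        rw [← SetLike.mem_coe, Scheme.IdealSheafData.coe_support_vanishingIdeal]; rfl)) ?_
      obtain ⟨_, ⟨U : X.Opens, hU, rfl⟩, hy, -⟩ := X.isBasis_affineOpens.exists_subset_of_mem_open (Set.mem_univ P) isOpen_univ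
      letI : Algebra Γ(X, U) A := TopCat.Presheaf.algebra_section_stalk X.presheaf ⟨P, hy⟩
      haveI := hU.isLocalization_stalk ⟨P, hy⟩
      rw [IdealStalkLib.stalkIdeal_eq _ ⟨U, hU⟩ P hy,
        ← IsLocalization.AtPrime.map_eq_maximalIdeal (hU.primeIdealOf ⟨P, hy⟩).asIdeal A]
      refine Ideal.map_mono ?_
      have hmx := ideal_point_isMaximal hP ⟨U, hU⟩ hy
      refine (hmx.eq_of_le (hU.primeIdealOf ⟨P, hy⟩).2.ne_top ?_).ge
      intro a ha
      have h1 : P ∈ X.zeroLocus (U := U) ((pointIdeal hP).ideal ⟨U, hU⟩) ∩ U := by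
        rw [← Scheme.IdealSheafData.coe_support_inter _ ⟨U, hU⟩]
        exact ⟨by rw [Scheme.IdealSheafData.coe_support_vanishingIdeal]; rfl, hy⟩
      rw [← hU.fromSpec_image_zeroLocus] at h1
      obtain ⟨q, hq, hqP⟩ := h1
      have : q = hU.primeIdealOf ⟨P, hy⟩ := hU.fromSpec.isOpenEmbedding.injective
        (hqP.trans (hU.fromSpec_primeIdealOf ⟨P, hy⟩).symm)
      exact this ▸ hq ha
    rw [comap_fromSpecStalk_eq, hmax] at hb
    obtain ⟨s, -, hs⟩ := DivisorialLib.exists_gen hJ P
    have hsm : s ∈ IsLocalRing.maximalIdeal A ^ m := by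
      have h := H1ZeroLib.stalkIdeal_mono hm P
      rw [InfNbhdLib.stalkIdeal_pow, hmax, hs] at h
      exact h (Ideal.mem_span_singleton_self s)
    have hsm' : s ∉ IsLocalRing.maximalIdeal A ^ (m + 1) := fun h => hm' (DivisorialLib.le_of_stalk fun z => by
      rw [InfNbhdLib.stalkIdeal_pow]
      by_cases hz : z = P
      · subst hz
        rw [hmax, hs, Ideal.span_singleton_le_iff_mem]
        exact h
      · rw [IdealMulLib.stalkIdeal_eq_top (pointIdeal hP) (fun hmem => hz (by
          rw [← SetLike.mem_coe, Scheme.IdealSheafData.coe_support_vanishingIdeal] at hmem; exact hmem)),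
          ← Ideal.one_eq_top, one_pow, Ideal.one_eq_top]
        exact le_top)
    refine (S7928.result A h2 b hb s m hsm hsm').2.1 ?_
    have h := Scheme.IdealSheafData.comap_mono (pullback.snd (X.fromSpecStalk P) f) hc
    dsimp only at h
    rw [RGBlowLib.Union.comap_pow, hIdef, ← Scheme.IdealSheafData.comap_comp, ← Scheme.IdealSheafData.comap_comp,
      ← pullback.condition, Scheme.IdealSheafData.comap_comp, Scheme.IdealSheafData.comap_comp,
      comap_fromSpecStalk_eq, comap_fromSpecStalk_eq, hmax, hs] at h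
    exact h
  -- stalks away from the point
  have hoff : ∀ y : X', f y ≠ P → IntMult.stalkIdeal K y = IntMult.stalkIdeal J' y := by
    intro y hy
    let V : X.Opens := ⟨{P}ᶜ, hP.isOpen_compl⟩
    haveI hV : IsIso (f ∣_ V) := SurfPtBlow.isIso_restrict_compl hf V fun h => h rfl
    haveI : IsIso (f.stalkMap y) := ((MorphismProperty.isomorphisms CommRingCat).arrow_mk_iso_iff
      (morphismRestrictStalkMap f V ⟨y, hy⟩)).1 (inferInstanceAs (IsIso _))
    have hKA : IntMult.stalkIdeal (J.comap f) y = IntMult.stalkIdeal K y := by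
      rw [hK, DivisorialLib.stalkIdeal_mul, InfNbhdLib.stalkIdeal_pow,
        IdealMulLib.stalkIdeal_eq_top I (fun h => hy ((hIs y).1 h)), ← Ideal.one_eq_top, one_pow, mul_one]
    rw [← hKA]
    by_cases hyJ : f y ∈ J.support
    · have hy' : y ∈ J'.support := by
        obtain ⟨c, hc⟩ := (hJs _).1 hyJ
        have hcl : IsClosed (Set.range (j' ≫ f)) := (j' ≫ f).isClosedMap.isClosed_range
        obtain ⟨c', hc'⟩ : f y ∈ Set.range (j' ≫ f) := by
          rw [← hc]
          exact ((genericPoint_specializes c).map j.continuous).mem_closed hcl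
            ⟨genericPoint C', by rw [Scheme.Hom.comp_apply]; exact hgen⟩
        rw [Scheme.Hom.comp_apply] at hc'
        have hbij : Function.Injective (f ∣_ V) := (Scheme.Hom.homeomorph (f ∣_ V)).injective
        have e := hbij (a₁ := (⟨j' c', show f (j' c') ∈ V from hc'.symm ▸ hy⟩ : (f ⁻¹ᵁ V : X'.Opens)))
          (a₂ := (⟨y, hy⟩ : (f ⁻¹ᵁ V : X'.Opens)))
          (Subtype.ext (by simp only [morphismRestrict_base_coe]; exact hc'))
        exact (hJs' y).2 ⟨c', congrArg Subtype.val e⟩
      obtain ⟨a, ha0, ha⟩ := DivisorialLib.exists_gen hJcomap y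
      obtain ⟨b, -, hbb⟩ := DivisorialLib.exists_gen hJ' y
      have hp : (IntMult.stalkIdeal (J.comap f) y).IsPrime := by
        rw [IdealStalkLib.stalkIdeal_comap]
        haveI : (IntMult.stalkIdeal J (f y)).IsPrime := by
          obtain ⟨c, hc⟩ := (hJs _).1 hyJ
          rw [← hc, DiagRedLib.stalkIdeal_ker]
          exact RingHom.ker_isPrime _
        exact Ideal.map_isPrime_of_equiv (asIso (f.stalkMap y)).commRingCatIsoToRingEquiv
      have h := H1ZeroLib.stalkIdeal_mono hle y
      have hne : IntMult.stalkIdeal J' y ≠ ⊤ := fun htop =>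
        (IsLocalRing.maximalIdeal.isMaximal _).ne_top (top_le_iff.1 (htop ▸ IdealStalkLib.stalkIdeal_le_maximal J' hy'))
      rw [ha] at h hp ⊢
      rw [hbb] at h hne ⊢
      obtain ⟨c, hc⟩ := Ideal.mem_span_singleton'.1 (h (Ideal.mem_span_singleton_self a))
      refine le_antisymm h ((Ideal.span_singleton_le_iff_mem _).2 ?_)
      rcases hp.mem_or_mem (show c * b ∈ Ideal.span {a} from hc ▸ Ideal.mem_span_singleton_self a) with hcm | hbm
      · exfalso
        obtain ⟨d, hd⟩ := Ideal.mem_span_singleton'.1 hcm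
        refine hne (Ideal.span_singleton_eq_top.2 (IsUnit.of_mul_eq_one d ?_))
        have : a * (b * d) = a * 1 := by rw [mul_one]; linear_combination hc + b * hd
        exact (mul_cancel_left_mem_nonZeroDivisors ha0).1 this
      · exact hbm
    · have hy' : y ∉ J'.support := fun h => by
        obtain ⟨c, rfl⟩ := (hJs' y).1 h
        exact hyJ ((hJs _).2 (hrange ⟨c, by rw [Scheme.Hom.comp_apply]⟩))
      rw [IdealMulLib.stalkIdeal_eq_top J' hy', IdealStalkLib.stalkIdeal_comap,
        IdealMulLib.stalkIdeal_eq_top J hyJ, Ideal.map_top]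
  -- the strict transform divides
  have hKJ : K ≤ J' := DivisorialLib.le_of_stalk fun y => by
    by_cases hy : y ∈ J'.support
    · obtain ⟨c, rfl⟩ := (hJs' y).1 hy
      have hp : (IntMult.stalkIdeal J' (j' c)).IsPrime := by
        rw [DiagRedLib.stalkIdeal_ker]; exact RingHom.ker_isPrime _
      have hnI : ¬ IntMult.stalkIdeal I (j' c) ≤ IntMult.stalkIdeal J' (j' c) := fun hcon => by
        have hsp : j' (genericPoint C') ⤳ j' c := (genericPoint_specializes c).map j'.continuous
        have h1 := Ideal.map_mono (f := (X'.presheaf.stalkSpecializes hsp).hom) hcon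
        rw [stalkIdeal_map_specializes, stalkIdeal_map_specializes,
          IdealMulLib.stalkIdeal_eq_top I (fun h => hjC (hgen.symm.trans ((hIs _).1 h)))] at h1
        exact (IsLocalRing.maximalIdeal.isMaximal _).ne_top (top_le_iff.1 (h1.trans
          (IdealStalkLib.stalkIdeal_le_maximal J' ((hJs' _).2 ⟨_, rfl⟩))))
      obtain ⟨i, hi, hiQ⟩ := SetLike.not_le_iff_exists.1 hnI
      intro z hz
      refine (hp.mem_or_mem (H1ZeroLib.stalkIdeal_mono hle _ (?_ : z * i ^ m ∈ _))).resolve_right
        fun h => hiQ (hp.mem_of_pow_mem m h)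
      rw [hK, DivisorialLib.stalkIdeal_mul, InfNbhdLib.stalkIdeal_pow]
      exact Ideal.mul_mem_mul hz (Ideal.pow_mem_pow hi m)
    · rw [IdealMulLib.stalkIdeal_eq_top J' hy]; exact le_top
  obtain ⟨R, hR⟩ := SurfPtBlow.exists_eq_mul hJ' hKJ
  have hRc : BlowUp.IsEffCartierIdeal R := BlowCompLib.isEffCartier_of_mul (hR ▸ hKc)
  have hRE : ∀ y ∈ R.support, f y = P := fun y hy => by
    by_contra hne
    have h := hoff y hne
    rw [hR, DivisorialLib.stalkIdeal_mul] at h
    obtain ⟨b, hb0, hbb⟩ := DivisorialLib.exists_gen hJ' y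
    rw [hbb] at h
    obtain ⟨r, hr, hrb⟩ := Ideal.mem_mul_span_singleton.1 (h.ge (Ideal.mem_span_singleton_self b))
    have : r = 1 := (mul_cancel_right_mem_nonZeroDivisors hb0).1 (hrb.trans (one_mul b).symm)
    exact (IsLocalRing.maximalIdeal.isMaximal _).ne_top
      ((Ideal.eq_top_iff_one _).2 (IdealStalkLib.stalkIdeal_le_maximal R hy (this ▸ hr)))
  let ηE := I.subschemeι (genericPoint I.subscheme)
  have hηE : ∀ y ∈ I.support, ηE ⤳ y := fun y hy => by
    rw [← SetLike.mem_coe, ← Scheme.IdealSheafData.range_subschemeι] at hy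
    obtain ⟨z, rfl⟩ := hy
    exact (genericPoint_specializes z).map I.subschemeι.continuous
  have hηR : ηE ∉ R.support := fun h => hnot (by
    have hKI : K ≤ I := le_of_support_subset (fun y hy => by
      have hyR := (hηE y hy).mem_closed R.support.isClosed h
      rw [hR, Scheme.IdealSheafData.support_mul]
      exact Or.inl hyR)
    rw [hK, pow_succ']
    exact DivisorialLib.le_of_stalk fun y => by
      rw [DivisorialLib.stalkIdeal_mul, DivisorialLib.stalkIdeal_mul]
      exact Ideal.mul_mono_left (H1ZeroLib.stalkIdeal_mono hKI y))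
  have hRtop : R = ⊤ := by
    refine DivisorialLib.ext_stalk fun y => ?_
    rw [DivisorialLib.stalkIdeal_top]
    refine IdealMulLib.stalkIdeal_eq_top R fun hy => ?_
    -- a codimension one point of the support
    have hηmem : ηE ∈ I.support := by
      rw [← SetLike.mem_coe, ← Scheme.IdealSheafData.range_subschemeι]; exact ⟨_, rfl⟩
    obtain ⟨U, hyU, g, hg, hgU⟩ := hRc y
    haveI : IsNoetherianRing Γ(X', U.1) := IsLocallyNoetherian.component_noetherian U
    let q := (U.2.primeIdealOf ⟨y, hyU⟩)
    have hgq : Ideal.span {g} ≤ q.asIdeal := by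
      have h1 : y ∈ X'.zeroLocus (U := U.1) (R.ideal U) ∩ U.1 := by
        rw [← Scheme.IdealSheafData.coe_support_inter]; exact ⟨hy, hyU⟩
      rw [← U.2.fromSpec_image_zeroLocus] at h1
      obtain ⟨q', hq', hqy⟩ := h1
      have : q' = q := U.2.fromSpec.isOpenEmbedding.injective
        (hqy.trans (U.2.fromSpec_primeIdealOf ⟨y, hyU⟩).symm)
      rw [← hgU]
      exact this ▸ hq'
    obtain ⟨p, hp, hpq⟩ := Ideal.exists_minimalPrimes_le hgq
    haveI := hp.1.1
    have hp1 : p.height ≤ 1 := Ideal.height_le_one_of_isPrincipal_of_mem_minimalPrimes _ _ hp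
    let z : X' := U.2.fromSpec ⟨p, hp.1.1⟩
    have hzU : z ∈ U.1 := by
      have : z ∈ Set.range U.2.fromSpec := ⟨_, rfl⟩
      rwa [U.2.range_fromSpec] at this
    have hzR : z ∈ R.support := by
      have h1 : z ∈ X'.zeroLocus (U := U.1) (R.ideal U) ∩ U.1 := by
        rw [← U.2.fromSpec_image_zeroLocus]
        refine ⟨_, ?_, rfl⟩
        have h5 : R.ideal U ≤ p := hgU ▸ hp.1.2
        exact SetLike.coe_subset_coe.2 h5
      rw [← Scheme.IdealSheafData.coe_support_inter] at h1
      exact h1.1
    have hzq : U.2.primeIdealOf ⟨z, hzU⟩ = ⟨p, hp.1.1⟩ :=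
      U.2.fromSpec.isOpenEmbedding.injective (U.2.fromSpec_primeIdealOf ⟨z, hzU⟩)
    have hcz := S7303.height_primeIdealOf (U := U) hzU
    rw [hzq, ringKrullDim_stalk_eq_coheight] at hcz
    have hcz1 : Order.coheight z ≤ 1 := (WithBot.coe_le_coe.1 hcz.ge).trans hp1
    have hne : ηE ≠ z := fun h => hηR (h ▸ hzR)
    have hle2 := S8909.succ_le (hηE z ((hIs z).2 (hRE z hzR))) hne
    have hpos := S8909.coheight_ne_zero hf.1 hηmem
    have h1 : (1 : ℕ∞) ≤ Order.coheight ηE := Order.one_le_iff_pos.2 (pos_iff_ne_zero.2 hpos)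
    have : (2 : ℕ∞) ≤ 1 := (le_trans (by rw [← one_add_one_eq_two]; exact add_le_add h1 le_rfl) hle2).trans hcz1
    exact absurd this (by decide)
  rw [hK, hR, hRtop, ← Scheme.IdealSheafData.one_eq_top, one_mul]


/-- Let k be an algebraically closed field, X a smooth projective surface over k (integral, smooth over
k, of dimension two, with a closed immersion over k into some projective space), P a closed point of
X with ideal m_P, f : X' → X the blow-up of X at P (universal property), and C ⊆ X a curve (an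
integral closed subscheme of dimension one, closed immersion j) of multiplicity m = ord_P(C) at P:
the ideal of C is contained in m_P^m and not in m_P^{m+1}. Let C' ⊆ X' be the strict transform of C:
an integral closed subscheme of dimension one (closed immersion j') whose generic point is mapped by
f to the generic point of C. Then p_a(C') = p_a(C) − m(m−1)/2, written 2 p_a(C') + m(m−1) = 2 p_a(C)
with p_a = dim_k H^1(O). -/
theorem result (k : Type u) [Field k] [IsAlgClosed k]
    (X : Scheme.{u}) [X.Over (Spec (CommRingCat.of k))] [IsIntegral X] [Smooth (X ↘ (Spec (CommRingCat.of k)))] (hdim : topologicalKrullDim X = 2)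
    (hprojX : ∃ (N : ℕ) (ι : X ⟶ CohB1.ProjSpace N k), IsClosedImmersion ι ∧ ι ≫ CohB1.ProjSpace.toSpec N k = (X ↘ (Spec (CommRingCat.of k))))
    (P : X) (hP : IsClosed ({P} : Set X))
    (X' : Scheme.{u}) (f : X' ⟶ X) (hf : BlowUp.IsBlowUp f (Scheme.IdealSheafData.vanishingIdeal ⟨{P}, hP⟩))
    (C : Scheme.{u}) [C.Over (Spec (CommRingCat.of k))] [IsIntegral C] (hdimC : topologicalKrullDim C = 1)
    (j : C ⟶ X) [IsClosedImmersion j] (hj : j ≫ (X ↘ (Spec (CommRingCat.of k))) = (C ↘ (Spec (CommRingCat.of k))))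
    (m : ℕ) (hm : j.ker ≤ Scheme.IdealSheafData.vanishingIdeal ⟨{P}, hP⟩ ^ m)
    (hm' : ¬ j.ker ≤ Scheme.IdealSheafData.vanishingIdeal ⟨{P}, hP⟩ ^ (m + 1))
    (C' : Scheme.{u}) [C'.Over (Spec (CommRingCat.of k))] [IsIntegral C'] (hdimC' : topologicalKrullDim C' = 1)
    (j' : C' ⟶ X') [IsClosedImmersion j'] (hj' : j' ≫ f ≫ (X ↘ (Spec (CommRingCat.of k))) = (C' ↘ (Spec (CommRingCat.of k))))
    (hgen : f (j' (genericPoint C')) = j (genericPoint C)) :
    2 * Curv2.genus k C' + m * (m - 1) = 2 * Curv2.genus k C := by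
  obtain ⟨N, ι, hι0, hι⟩ := hprojX
  haveI := hι0
  haveI : IsProper (X ↘ Spec (CommRingCat.of k)) := ProjSerreLib.isProper_over ι hι
  haveI := EulerIneqLib.isNoetherian_proper (X := X) k
  have hregX : ∀ y : X, IsRegularLocalRing (X.presheaf.stalk y) :=
    fun y => ASp.isRegularLocalRing_stalk_of_smooth_field (X ↘ Spec (CommRingCat.of k)) y
  have h2 : ringKrullDim (X.presheaf.stalk P) = 2 := by
    rw [BoundaryConn.ringKrullDim_stalk_closed (X ↘ Spec (CommRingCat.of k)) P hP, hdim]
  obtain ⟨pp⟩ := exists_pointParams hP (hregX P) h2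
  have hPsub : ∀ {Z : Scheme.{u}} (g : Z ⟶ X), Function.Injective g → Set.range g ⊆ {P} →
      topologicalKrullDim Z ≤ 0 := fun {Z} g hg h => by
    haveI : Subsingleton Z := ⟨fun a b => hg ((h ⟨a, rfl⟩ : g a = P).trans (h ⟨b, rfl⟩ : g b = P).symm)⟩
    haveI : Subsingleton (IrreducibleCloseds Z) := ⟨fun a b => SetLike.coe_injective
      ((Set.Nonempty.eq_univ a.isIrreducible.nonempty).trans (Set.Nonempty.eq_univ b.isIrreducible.nonempty).symm)⟩
    exact Order.krullDim_nonpos_of_subsingleton
  have hI0 : pointIdeal hP ≠ ⊥ := fun h => by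
    have hall : ∀ y : X, y = P := fun y => by
      have : y ∈ ((pointIdeal hP).support : Set X) := by rw [h]; simp
      rwa [Scheme.IdealSheafData.coe_support_vanishingIdeal] at this
    have := hPsub (𝟙 X) (fun a b h => h) (fun y _ => hall y)
    rw [hdim] at this
    exact absurd this (by decide)
  obtain ⟨hint, hgenf, -⟩ := Groth.Agent.S2348.result (pointIdeal hP) hI0 f hf
  haveI := hint
  haveI := PointBlow.isProper hf
  letI : X'.Over (Spec (CommRingCat.of k)) := ⟨f ≫ (X ↘ Spec (CommRingCat.of k))⟩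
  haveI : IsProper (X' ↘ Spec (CommRingCat.of k)) :=
    inferInstanceAs (IsProper (f ≫ (X ↘ Spec (CommRingCat.of k))))
  haveI := EulerIneqLib.isNoetherian_proper (X := X') k
  haveI : Smooth (X' ↘ Spec (CommRingCat.of k)) := by
    let Z := (pointIdeal hP).subscheme
    haveI : IsIntegral Z := CurveLib.isIntegral_vanishingIdeal hP isIrreducible_singleton
    haveI : Subsingleton Z := ⟨fun a b => by
      have hr : Set.range (pointIdeal hP).subschemeι = {P} := by
        rw [Scheme.IdealSheafData.range_subschemeι, Scheme.IdealSheafData.coe_support_vanishingIdeal]; rfl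
      exact (pointIdeal hP).subschemeι.isEmbedding.injective
        ((hr.le ⟨a, rfl⟩ : _ = P).trans (hr.le ⟨b, rfl⟩ : _ = P).symm)⟩
    haveI : Smooth ((pointIdeal hP).subschemeι ≫ (X ↘ Spec (CommRingCat.of k))) :=
      FinBirLib.smooth_of_regular_algClosed _ fun z _ => by
        obtain rfl : z = genericPoint Z := Subsingleton.elim _ _
        letI : Field (Z.presheaf.stalk (genericPoint Z)) := inferInstanceAs (Field Z.functionField)
        infer_instance
    have h := Groth.Agent.S9787.result (X ↘ Spec (CommRingCat.of k)) (pointIdeal hP).subschemeι f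
      (by rw [Scheme.IdealSheafData.ker_subschemeι]; exact hf)
    exact h.1
  have hd' := PointBlow.topologicalKrullDim_blowUp_le hf pp (by exact_mod_cast hdim.le)
  have hjC : j (genericPoint C) ≠ P := fun h => by
    have := hPsub j j.isEmbedding.injective (by
      rintro _ ⟨c, rfl⟩
      exact ((genericPoint_specializes c).map j.continuous).mem_closed hP h)
    rw [hdimC] at this
    exact absurd this (by decide)
  have hdimX' : topologicalKrullDim X' = 2 := by
    refine le_antisymm (by exact_mod_cast hd') ?_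
    by_contra hlt
    have hne : genericPoint X' ∉ Set.range j' := by
      rintro ⟨c, hc⟩
      have h1 : j' (genericPoint C') = genericPoint X' :=
        (((genericPoint_specializes c).map j'.continuous).trans (specializes_of_eq hc)).antisymm
          (genericPoint_specializes _) |>.eq
      have hgen' := hgen
      rw [h1, hgenf] at hgen'
      have hsurj : ∀ y : X, y ∈ Set.range j := fun y =>
        (genericPoint_specializes y).mem_closed j.isClosedEmbedding.isClosed_range ⟨_, hgen'.symm⟩
      have hh : IsHomeomorph (j : C → X) := (isHomeomorph_iff_isEmbedding_surjective).2 ⟨j.isEmbedding, hsurj⟩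
      rw [IsHomeomorph.topologicalKrullDim_eq _ hh, hdim] at hdimC
      exact absurd hdimC (by norm_num)
    have hcl : closure {genericPoint X'} = (Set.univ : Set X') := (genericPoint_spec X').def
    have h := HilbLib.dim_lt_of_notMem (n := 1) j'.isClosedEmbedding.isClosed_range (by rw [hcl]; exact Set.subset_univ _)
      hne (by
        rw [hcl, IsHomeomorph.topologicalKrullDim_eq _ (Homeomorph.Set.univ X').isHomeomorph]
        exact not_le.1 hlt)
    rw [← (j'.isEmbedding.toHomeomorph).isHomeomorph.topologicalKrullDim_eq, hdimC'] at h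
    exact absurd h (lt_irrefl _)
  have hregX' : ∀ y : X', IsRegularLocalRing (X'.presheaf.stalk y) :=
    fun y => ASp.isRegularLocalRing_stalk_of_smooth_field (X' ↘ Spec (CommRingCat.of k)) y
  have hJ := isEffCartierIdeal_curve (X ↘ Spec (CommRingCat.of k)) hdim hregX j hdimC
  have hJ' := isEffCartierIdeal_curve (X' ↘ Spec (CommRingCat.of k)) hdimX' hregX' j' hdimC'
  have hcomap := comap_eq_strict (k := k) hregX hd' P hP h2 f hf (PointBlow.isIntegral_E hf pp) j hJ hjC m hm hm'
    j' hJ' hgen
  obtain ⟨W, hW⟩ := exists_canonical_proper k (X := X)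
  obtain ⟨W', hW'⟩ := exists_canonical_proper k (X := X')
  obtain ⟨hWi, hdual, -⟩ := canonical_data_proper k hdim hW
  obtain ⟨hWi', hdual', -⟩ := canonical_data_proper k hdimX' hW'
  have hI := (S8914.result j.ker).2 hJ
  have hI' := (S8914.result j'.ker).2 hJ'
  have h3 := PointBlow.strict_adjunction hf k (by exact_mod_cast hdim.le) hdimX' pp rfl hW hWi hW' hI hI' m hcomap
  have a1 := intNum_adjunction k (by exact_mod_cast hdim.le) hWi hdual j hI
  have a2 := intNum_adjunction k (by exact_mod_cast hdimX'.le) hWi' hdual' j' hI'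
  rw [euler_congr (inferInstance : C.Over (Spec (CommRingCat.of k))) _ hj.symm] at a1
  rw [euler_congr (inferInstance : C'.Over (Spec (CommRingCat.of k))) _ hj'.symm] at a2
  haveI : IsProper (C ↘ Spec (CommRingCat.of k)) := hj ▸ inferInstance
  haveI : IsProper (C' ↘ Spec (CommRingCat.of k)) :=
    hj' ▸ (inferInstance : IsProper (j' ≫ f ≫ (X ↘ Spec (CommRingCat.of k))))
  have e1 : Curv2.euler k C (Coh.structureModule C) = 1 - (Curv2.genus k C : ℤ) := by
    rw [CurveLib.euler_eq_sub (k := k) hdimC.le, CurveLib.finrank_H0_structure]; rfl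
  have e2 : Curv2.euler k C' (Coh.structureModule C') = 1 - (Curv2.genus k C' : ℤ) := by
    rw [CurveLib.euler_eq_sub (k := k) hdimC'.le, CurveLib.finrank_H0_structure]; rfl
  rw [e1] at a1
  rw [e2] at a2
  rw [a1, a2] at h3
  rcases m with _ | m
  · simp at h3 ⊢; omega
  · push_cast at h3
    simp only [Nat.add_sub_cancel]
    nlinarith [h3]

end Groth.Agent.S14520
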