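import Groth.Statements.S14522
import Groth.Agent.IntLib.Restrict
import Groth.Agent.S8914
-- import your own Groth.Agent.* helpers here

set_option autoImplicit false
set_option backward.isDefEq.respectTransparency false
universe u
open CategoryTheory CategoryTheory.Limits AlgebraicGeometry
open Variety

namespace Groth.Agent.S14522
open CategoryTheory CategoryTheory.Limits AlgebraicGeometry

/-- Let k be an algebraically closed field, X an irreducible complete variety over k (integral and
proper over k) of dimension at most d, L_1, …, L_r line bundles with tensor inverses M_1, …, M_r, F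
a coherent O_X-module with dim Supp F ≤ r + 1, and D an effective Cartier divisor on X (a
quasi-coherent ideal I_D locally generated by one nonzerodivisor) whose support contains no
associated point of F. Then (L_1⋯L_r·O_X(D); F) = (L_1⋯L_r; F ⊗ O_D): with intersection numbers
written as the alternating Euler-characteristic sums in the inverses (the prelude's FGA.intNum), the
(r+1)-fold number of F in M_1, …, M_r, I_D equals the r-fold number of F ⊗ O_D in M_1, …, M_r (for r
= 0 the right side is χ(F ⊗ O_D) = h^0(F ⊗ O_D)). -/
theorem result (k : Type u) [Field k] [IsAlgClosed k]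
    (X : Scheme.{u}) [X.Over (Spec (CommRingCat.of k))] [IsIntegral X] [IsProper (X ↘ (Spec (CommRingCat.of k)))] (d : ℕ) (hd : topologicalKrullDim X ≤ d)
    {r : ℕ} (M : Fin r → X.Modules) (hM : ∀ i, PicF.IsInvertible (M i))
    (F : X.Modules) (hF : Coh.IsCoh F) (hsupp : topologicalKrullDim ↥(CohB1.support F) ≤ r + 1)
    (D : X.IdealSheafData) (hD : BlowUp.IsEffCartierIdeal D) (hass : ∀ x ∈ D.support, ¬ Curv2.IsAssPoint F x) :
    FGA.intNum k X d (Fin.snoc M (ClSub.idealMod D)) F = FGA.intNum k X d M (CohB1.tensorMod F (ClSub.quotMod D)) := by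
  haveI := EulerIneqLib.isNoetherian_proper (X := X) k
  have hI : PicF.IsInvertible (ClSub.idealMod D) := (Groth.Agent.S8914.result D).2 hD
  have hM' : ∀ i, PicF.IsInvertible (Fin.snoc (α := fun _ => X.Modules) M (ClSub.idealMod D) i) := fun i => by
    induction i using Fin.lastCases with
    | last => rw [Fin.snoc_last]; exact hI
    | cast i => rw [Fin.snoc_castSucc]; exact hM i
  have e : ∀ {A B : X.Modules} (_ : A = B) (hA : PicF.IsInvertible A) (hB : PicF.IsInvertible B),
      IntLib.dif hA = IntLib.dif hB := fun h _ _ => by subst h; rfl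
  rw [IntLib.intNum_eq k hd F _ hM', IntLib.intNum_eq k hd _ M hM,
    IntLib.pairing_tensor_quotMod k hI hF hass, Fin.prod_univ_castSucc, e (Fin.snoc_last _ _) _ hI,
    Finset.prod_congr rfl fun i _ => e (Fin.snoc_castSucc _ _ i) _ (hM i), mul_comm]

end Groth.Agent.S14522
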