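import Groth.Statements.S14525
import Groth.Agent.TwistShriek.SurfSections
-- import your own Groth.Agent.* helpers here

set_option autoImplicit false
set_option backward.isDefEq.respectTransparency false
set_option maxHeartbeats 800000
set_option synthInstance.maxHeartbeats 200000
universe u
open CategoryTheory CategoryTheory.Limits AlgebraicGeometry
open Surf
open Groth.Agent Groth.Agent.TwistShriek

namespace Groth.Agent.S14525

/-- Let k be an algebraically closed field, X a smooth projective surface over k (integral, smooth over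
k, of dimension two, with a closed immersion over k into some projective space), L an invertible
O_X-module with tensor inverse L' such that (L·L) > 0, and M an ample invertible module with tensor
inverse M'; intersection numbers are the alternating Euler-characteristic sums in the inverses (the
prelude's FGA.intNum, so (L·L) is computed in L', L' and (L·M) in L', M'). Then (L·M) ≠ 0; if (L·M)
> 0 there is c > 0 with dim_k H^0(X, L^{⊗m}) > c·m² for all large m, and if (L·M) < 0 the same holds
for L' in place of L. -/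
theorem result (k : Type u) [Field k] [IsAlgClosed k]
    (X : Scheme.{u}) [X.Over (Spec (CommRingCat.of k))] [IsIntegral X] [Smooth (X ↘ (Spec (CommRingCat.of k)))] (hdim : topologicalKrullDim X = 2)
    (hprojX : ∃ (N : ℕ) (ι : X ⟶ CohB1.ProjSpace N k), IsClosedImmersion ι ∧ ι ≫ CohB1.ProjSpace.toSpec N k = (X ↘ (Spec (CommRingCat.of k))))
    (L L' : X.Modules) (hL : PicF.IsInvertible L) (hLL' : ClSub.IsInverseOf L L')
    (hpos : 0 < FGA.intNum k X 2 ![L', L'] (Coh.structureModule X))
    (M M' : X.Modules) (hM : CohB1.IsAmple M) (hMM' : ClSub.IsInverseOf M M') :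
    FGA.intNum k X 2 ![L', M'] (Coh.structureModule X) ≠ 0 ∧
    (0 < FGA.intNum k X 2 ![L', M'] (Coh.structureModule X) →
      ∃ c : ℚ, 0 < c ∧ ∃ m₀ : ℕ, ∀ m : ℕ, m₀ ≤ m →
        c * (m : ℚ) ^ 2 < (Module.finrank k (Coh.HH X (CohB1.tensorPow L m) 0) : ℚ)) ∧
    (FGA.intNum k X 2 ![L', M'] (Coh.structureModule X) < 0 →
      ∃ c : ℚ, 0 < c ∧ ∃ m₀ : ℕ, ∀ m : ℕ, m₀ ≤ m →
        c * (m : ℚ) ^ 2 < (Module.finrank k (Coh.HH X (CohB1.tensorPow L' m) 0) : ℚ)) := by
    obtain ⟨N, ι, hι0, hι⟩ := hprojX
    haveI := hι0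
    haveI := ProjSerreLib.isProper_over ι hι
    haveI := EulerIneqLib.isNoetherian_proper (X := X) k
    obtain ⟨e⟩ := hLL'
    obtain ⟨eM⟩ := hMM'
    have hL' : PicF.IsInvertible L' := AmpleLib.isInvertible_of_tensor_iso (CurveLib.tmodComm _ _ ≪≫ e)
    have hM' : PicF.IsInvertible M' := AmpleLib.isInvertible_of_tensor_iso (CurveLib.tmodComm _ _ ≪≫ eM)
    rw [intNum_eq_form k hdim.le hL' hL'] at hpos
    have h1 : Nakai.form k (Nakai.cl hL) (Nakai.cl hL) = Nakai.form k (Nakai.cl hL') (Nakai.cl hL') := by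
      rw [form_inverse k hdim hL hL' e (Nakai.cl_mem hL), Nakai.form_comm,
        form_inverse k hdim hL hL' e (Nakai.cl_mem hL'), neg_neg]
    have h2 : FGA.intNum k X 2 ![L', M'] (Coh.structureModule X) = Nakai.form k (Nakai.cl hL) (Nakai.cl hM.1) := by
      rw [intNum_eq_form k hdim.le hL' hM', form_inverse k hdim hL hL' e (Nakai.cl_mem hM.1), Nakai.form_comm k (Nakai.cl hL') (Nakai.cl hM.1),
        form_inverse k hdim hM.1 hM' eM (Nakai.cl_mem hL'), neg_neg, Nakai.form_comm]
    obtain ⟨W, hW⟩ := exists_canonical_proper k (X := X)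
    rw [h2]
    refine ⟨fun h0 => ?_, fun hp => growth_h0 k hdim hM hW hL hL' e (h1 ▸ hpos) hp,
      fun hn => growth_h0 k hdim hM hW hL' hL (CurveLib.tmodComm _ _ ≪≫ e) hpos ?_⟩
    · exact absurd (Nakai.form_nonpos k hdim hM (Nakai.cl_mem hL) h0) (not_le.2 (h1 ▸ hpos))
    · rw [form_inverse k hdim hL hL' e (Nakai.cl_mem hM.1), neg_neg_iff_pos] at hn
      exact hn

end Groth.Agent.S14525
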