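import Groth.Statements.S14536
import Groth.Agent.HopfPts.Basic

set_option autoImplicit false
universe u
open CategoryTheory MonoidalCategory CartesianMonoidalCategory MonObj GrpObj AlgebraicGeometry
open PrincBund

namespace Groth.Agent.S14536

/-- Let k be an algebraically closed field and h : G → G' a homomorphism of affine group schemes over k
(not necessarily of finite type) which is surjective on underlying spaces. Then h is surjective on
k-points: every k-point of G' is the image of a k-point of G. -/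
theorem result (k : Type u) [Field k] [IsAlgClosed k]
    (G G' : Over (Spec (CommRingCat.of k))) [GrpObj G] [GrpObj G'] [IsAffine G.left] [IsAffine G'.left]
    (h : G ⟶ G') [IsMonHom h] (hs : Surjective h.left) (x : 𝟙_ (Over (Spec (CommRingCat.of k))) ⟶ G') :
    ∃ g : 𝟙_ (Over (Spec (CommRingCat.of k))) ⟶ G, g ≫ h = x := by
  let R := CommRingCat.of k
  let GG : Grp (Over (Spec R)) := ⟨G⟩
  let GG' : Grp (Over (Spec R)) := ⟨G'⟩
  obtain ⟨⟨A⟩, ⟨i⟩⟩ := (essImage_hopfSpec (G := GG)).2 ‹IsAffine G.left›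
  obtain ⟨⟨A'⟩, ⟨i'⟩⟩ := (essImage_hopfSpec (G := GG')).2 ‹IsAffine G'.left›
  let hh : GG ⟶ GG' := Grp.homMk h
  let ff := (hopfSpec.fullyFaithful (R := R)).preimage (i.hom ≫ hh ≫ i'.inv)
  have hf : (hopfSpec R).map ff = i.hom ≫ hh ≫ i'.inv := (hopfSpec.fullyFaithful (R := R)).map_preimage _
  let f := ff.unop
  let fh : A' →ₐc[k] A := f.hom
  have hleft := congrArg (fun m => (Over.forget _).map m.hom.hom) hf
  have hmap : Spec.map (CommRingCat.ofHom (fh : A' →+* A)) = i.hom.hom.hom.left ≫ h.left ≫ i'.inv.hom.hom.left := hleft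
  haveI : Surjective h.left := hs
  haveI : IsIso i.hom.hom.hom.left := ⟨i.inv.hom.hom.left, congrArg (fun m => m.hom.hom.left) i.hom_inv_id,
    congrArg (fun m => m.hom.hom.left) i.inv_hom_id⟩
  haveI : IsIso i'.inv.hom.hom.left := ⟨i'.hom.hom.hom.left, congrArg (fun m => m.hom.hom.left) i'.inv_hom_id,
    congrArg (fun m => m.hom.hom.left) i'.hom_inv_id⟩
  haveI hsurj : Surjective (Spec.map (CommRingCat.ofHom (fh : A' →+* A))) := by
    rw [hmap]
    exact MorphismProperty.comp_mem _ _ _ (MorphismProperty.of_isIso @Surjective _)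
      (MorphismProperty.comp_mem _ _ _ hs (MorphismProperty.of_isIso @Surjective _))
  have hnil : ∀ a, fh a = 0 → IsNilpotent a := fun a ha => by
    rw [nilpotent_iff_mem_prime]
    intro P hP
    obtain ⟨Q, hQ⟩ := hsurj.surj ⟨P, hP⟩
    have h1 : a ∈ (PrimeSpectrum.comap (fh : A' →+* A) Q).asIdeal := by
      show fh a ∈ Q.asIdeal
      rw [ha]
      exact zero_mem _
    have h2 : PrimeSpectrum.comap (fh : A' →+* A) Q = (⟨P, hP⟩ : PrimeSpectrum A') := hQ
    rw [h2] at h1
    exact h1
  let x' : Spec R ⟶ Spec (CommRingCat.of A') := x.left ≫ i'.inv.hom.hom.left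
  have hx' : x' ≫ Spec.map (CommRingCat.ofHom (algebraMap k A')) = 𝟙 _ := by
    show (x.left ≫ i'.inv.hom.hom.left) ≫ _ = _
    rw [Category.assoc]
    exact (congrArg (x.left ≫ ·) (Over.w i'.inv.hom.hom)).trans (Over.w x)
  let χ' : A' →ₐ[k] k :=
    { (Spec.preimage x').hom with
      commutes' := fun r => by
        have h1 : CommRingCat.ofHom (algebraMap k A') ≫ Spec.preimage x' = 𝟙 R := by
          apply Spec.map_injective
          rw [Spec.map_comp, Spec.map_preimage, Spec.map_id]
          exact hx'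
        exact congrArg (fun m => (CommRingCat.Hom.hom m) r) h1 }
  obtain ⟨χ, hχ⟩ := Groth.Agent.HopfPts.exists_point_comp (k := k) fh hnil χ'
  let g' : 𝟙_ (Over (Spec R)) ⟶ ((hopfSpec R).obj (.op A)).X := Over.homMk (Spec.map (CommRingCat.ofHom χ.toRingHom)) (by
    have h1 : CommRingCat.ofHom (algebraMap k A) ≫ CommRingCat.ofHom χ.toRingHom = 𝟙 R :=
      CommRingCat.hom_ext (RingHom.ext fun r => χ.commutes r)
    show Spec.map _ ≫ Spec.map (CommRingCat.ofHom (algebraMap k A)) = _
    refine ((Spec.map_comp _ _).symm.trans ?_).trans (Spec.map_id R)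
    exact congrArg Spec.map h1)
  refine ⟨g' ≫ i.hom.hom.hom, Over.OverMorphism.ext ?_⟩
  show (Spec.map (CommRingCat.ofHom χ.toRingHom) ≫ i.hom.hom.hom.left) ≫ h.left = x.left
  rw [Category.assoc, ← cancel_mono i'.inv.hom.hom.left, Category.assoc, Category.assoc]
  erw [← hmap]
  erw [← Spec.map_comp, ← CommRingCat.ofHom_comp]
  rw [show χ.toRingHom.comp (fh : A' →+* A) = χ'.toRingHom from congrArg AlgHom.toRingHom hχ]
  show Spec.map (CommRingCat.ofHom (Spec.preimage x').hom) = x'
  exact Spec.map_preimage x'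

end Groth.Agent.S14536
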