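import Groth.Statements.S14537
import Groth.Agent.HopfPts.Basic
import Groth.Agent.GrpSchLib.OrderInvertible

set_option autoImplicit false
universe u
open CategoryTheory MonoidalCategory CartesianMonoidalCategory MonObj GrpObj AlgebraicGeometry
open PrincBund

namespace Groth.Agent.S14537

/-- Let k be an algebraically closed field and G an affine group scheme over k, not necessarily of
finite type. Then the set of k-rational points of G is dense in the underlying space of G. -/
theorem result (k : Type u) [Field k] [IsAlgClosed k]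
    (G : Over (Spec (CommRingCat.of k))) [GrpObj G] [IsAffine G.left] :
    Dense {x : ↥G.left | ∃ g : 𝟙_ (Over (Spec (CommRingCat.of k))) ⟶ G, g.left.base (IsLocalRing.closedPoint k) = x} := by
  obtain ⟨A, hA, e, he⟩ := Groth.Agent.GrpSchLib.exists_hopfAlgebra (CommRingCat.of k) G
  let B : Type u := A
  letI : HopfAlgebra k B := hA
  let π : Spec (CommRingCat.of B) ⟶ Spec (CommRingCat.of k) := Spec.map (CommRingCat.ofHom (algebraMap k B))
  have he' : e.inv ≫ G.hom = π := by rw [he, Iso.inv_hom_id_assoc]
  rw [dense_iff_inter_open]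
  rintro U hU ⟨y, hy⟩
  let V : Set (PrimeSpectrum B) := ⇑(show Spec (CommRingCat.of B) ⟶ G.left from e.inv).base ⁻¹' U
  have hV : IsOpen V := hU.preimage (show Spec (CommRingCat.of B) ⟶ G.left from e.inv).continuous
  have hyV : (show PrimeSpectrum B from e.hom.base y) ∈ V := by
    show e.inv.base (e.hom.base y) ∈ U
    rw [← Scheme.Hom.comp_apply, Iso.hom_inv_id]
    exact hy
  obtain ⟨_, ⟨f, rfl⟩, hmem, hsub⟩ :=
    PrimeSpectrum.isTopologicalBasis_basic_opens.exists_subset_of_mem_open hyV hV
  have hf : ¬ IsNilpotent (show B from f) := fun hn => hmem (nilpotent_iff_mem_prime.1 hn _ (PrimeSpectrum.isPrime _))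
  obtain ⟨χ, hχ⟩ := Groth.Agent.HopfPts.exists_point_ne_zero (k := k) hf
  let s : Spec (CommRingCat.of k) ⟶ G.left := Spec.map (CommRingCat.ofHom χ.toRingHom) ≫ (show Spec (CommRingCat.of B) ⟶ G.left from e.inv)
  have hs : s ≫ G.hom = 𝟙 _ := by
    show (Spec.map (CommRingCat.ofHom χ.toRingHom) ≫ (show Spec (CommRingCat.of B) ⟶ G.left from e.inv)) ≫ G.hom = _
    rw [Category.assoc]
    erw [he']
    rw [← Spec.map_comp, ← CommRingCat.ofHom_comp]
    rw [show χ.toRingHom.comp (algebraMap k B) = RingHom.id k from RingHom.ext fun r => χ.commutes r]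
    exact Spec.map_id _
  refine ⟨s.base (IsLocalRing.closedPoint k), ?_, ⟨Over.homMk s hs, rfl⟩⟩
  show s.base (IsLocalRing.closedPoint k) ∈ U
  refine hsub (a := (PrimeSpectrum.comap χ.toRingHom (IsLocalRing.closedPoint k) : PrimeSpectrum B)) ?_
  show f ∉ (IsLocalRing.maximalIdeal k).comap χ.toRingHom
  rw [IsLocalRing.maximalIdeal_eq_bot, Ideal.mem_comap, Ideal.mem_bot]
  exact hχ

end Groth.Agent.S14537
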