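import Groth.Statements.S14538
import Groth.Agent.GroupPtsLib.Dense
import Groth.Agent.ObsLib.Bridge

set_option autoImplicit false
set_option backward.isDefEq.respectTransparency false
universe u
open CategoryTheory MonoidalCategory CartesianMonoidalCategory MonObj GrpObj AlgebraicGeometry
open PrincBund

namespace Groth.Agent.S14538

open Groth.Agent ObsLib WithConv TensorProduct

/-- The points of a Hopf algebra as an algebraic structure on a group. -/
theorem exists_algPts (k A : Type u) [Field k] [IsAlgClosed k] [CommRing A] [HopfAlgebra k A]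
    [Algebra.FiniteType k A] :
    ∃ P : GroupPtsLib.AlgPts k (WithConv (A →ₐ[k] k)), ∀ a : A, (fun x : WithConv (A →ₐ[k] k) => x.ofConv a) ∈ P.F := by
  classical
  let Φ : A →ₐ[k] (WithConv (A →ₐ[k] k) → k) := Pi.algHom _ _ fun x => x.ofConv
  have hconv : ∀ (x y : WithConv (A →ₐ[k] k)) (a : A),
      (x * y).ofConv a = ∑ i ∈ (Coalgebra.Repr.arbitrary k a).index,
        x.ofConv ((Coalgebra.Repr.arbitrary k a).left i) * y.ofConv ((Coalgebra.Repr.arbitrary k a).right i) := by
    intro x y a
    rw [show (x * y).ofConv a = _ from AlgHom.convMul_apply x y a, ← (Coalgebra.Repr.arbitrary k a).eq, map_sum]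
    simp
  refine ⟨{ F := Φ.range
            fg := by rw [← Algebra.map_top]; exact (Algebra.FiniteType.out).map Φ
            rTr := ?_, lTr := ?_, inv := ?_, locFin := ?_, point := ?_ }, fun a => ⟨a, rfl⟩⟩
  · rintro g _ ⟨a, rfl⟩
    refine ⟨∑ i ∈ (Coalgebra.Repr.arbitrary k a).index,
      g.ofConv ((Coalgebra.Repr.arbitrary k a).right i) • (Coalgebra.Repr.arbitrary k a).left i, funext fun x => ?_⟩
    show x.ofConv _ = (x * g).ofConv a
    rw [hconv, map_sum]
    exact Finset.sum_congr rfl fun i _ => by rw [map_smul, smul_eq_mul, mul_comm]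
  · rintro g _ ⟨a, rfl⟩
    refine ⟨∑ i ∈ (Coalgebra.Repr.arbitrary k a).index,
      g.ofConv ((Coalgebra.Repr.arbitrary k a).left i) • (Coalgebra.Repr.arbitrary k a).right i, funext fun x => ?_⟩
    show x.ofConv _ = (g * x).ofConv a
    rw [hconv, map_sum]
    exact Finset.sum_congr rfl fun i _ => by rw [map_smul, smul_eq_mul]
  · rintro _ ⟨a, rfl⟩
    exact ⟨HopfAlgebra.antipode k a, funext fun x => rfl⟩
  · rintro _ ⟨a, rfl⟩
    refine ⟨(Coalgebra.Repr.arbitrary k a).index.image fun i => Φ ((Coalgebra.Repr.arbitrary k a).left i), fun g => ?_⟩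
    have h : (fun x => Φ a (x * g)) = ∑ i ∈ (Coalgebra.Repr.arbitrary k a).index,
        g.ofConv ((Coalgebra.Repr.arbitrary k a).right i) • Φ ((Coalgebra.Repr.arbitrary k a).left i) := by
      funext x
      rw [show Φ a (x * g) = (x * g).ofConv a from rfl, hconv, Finset.sum_apply]
      exact Finset.sum_congr rfl fun i _ => by rw [Pi.smul_apply, smul_eq_mul, mul_comm]; rfl
    show (fun x => Φ a (x * g)) ∈ _
    rw [h]
    exact Submodule.sum_mem _ fun i hi =>
      Submodule.smul_mem _ _ (Submodule.subset_span (Finset.mem_image_of_mem _ hi))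
  · intro θ
    refine ⟨toConv (θ.comp Φ.rangeRestrict), fun φ => ?_⟩
    obtain ⟨φ, a, rfl⟩ := φ
    rfl

/-- Let k be an algebraically closed field of characteristic 0 and G an affine group scheme of finite
type over k. Then the group G(k) of k-rational points has a finitely generated subgroup whose points
are dense in the underlying space of G. -/
theorem result (k : Type u) [Field k] [IsAlgClosed k] [CharZero k]
    (G : Over (Spec (CommRingCat.of k))) [GrpObj G] [IsAffine G.left] [LocallyOfFiniteType G.hom] :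
    ∃ Φ : Subgroup (𝟙_ (Over (Spec (CommRingCat.of k))) ⟶ G), Φ.FG ∧
      Dense {x : ↥G.left | ∃ g ∈ Φ, g.left.base (IsLocalRing.closedPoint k) = x} := by
  classical
  obtain ⟨C⟩ := nonempty_chart G
  haveI := finiteType_chart C
  obtain ⟨P, hP⟩ := exists_algPts k C.A
  obtain ⟨Φ, hΦ, hdense⟩ := P.exists_fg_dense
  let i : (𝟙_ (Over (Spec (CommRingCat.of k)))) ≅ VecGrp.pt k k := Over.isoMk (Iso.refl _) (by
    change 𝟙 _ ≫ Spec.map (CommRingCat.ofHom (algebraMap k k)) = 𝟙 _
    rw [Category.id_comp, Algebra.algebraMap_self, CommRingCat.ofHom_id, Spec.map_id])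
  let ψ : WithConv (C.A →ₐ[k] k) →* (𝟙_ (Over (Spec (CommRingCat.of k))) ⟶ G) :=
    { toFun := fun x => i.hom ≫ C.pt x.ofConv
      map_one' := by
        have h : C.pt ((1 : WithConv (C.A →ₐ[k] k)).ofConv) = 1 := by
          show GModComod.pts (toConv _) ≫ C.e.hom = _
          rw [toConv_ofConv, map_one]
          exact map_one (IsMonHom.monoidHom C.e.hom (VecGrp.pt k k))
        rw [h, MonObj.comp_one]
      map_mul' := fun x y => by
        rw [show (x * y).ofConv = pmul x.ofConv y.ofConv from (pmul_eq x.ofConv y.ofConv).symm, pt_pmul, MonObj.comp_mul] }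
  refine ⟨Φ.map ψ, ?_, ?_⟩
  · obtain ⟨T, hT⟩ := hΦ
    exact ⟨T.image ψ, by rw [Finset.coe_image, ← MonoidHom.map_closure, hT]⟩
  have hpts : Dense (Set.range fun g : Φ => (⟨RingHom.ker (g.1.ofConv : C.A →ₐ[k] k), RingHom.ker_isPrime _⟩ :
      PrimeSpectrum C.A)) := by
    rw [dense_iff_closure_eq, ← PrimeSpectrum.zeroLocus_vanishingIdeal_eq_closure, PrimeSpectrum.zeroLocus_eq_univ_iff]
    intro a ha
    rw [SetLike.mem_coe, nilradical_eq_sInf, Ideal.mem_sInf]
    intro p hp
    haveI : p.IsPrime := hp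
    by_contra hap
    obtain ⟨x, -, hx⟩ := exists_pt_not_mem (k := k) p hap
    refine hx ?_
    have h0 := hdense ⟨_, hP a⟩ fun g hg => by
      have := (PrimeSpectrum.mem_vanishingIdeal _ _).1 ha _ ⟨⟨g, hg⟩, rfl⟩
      exact this
    exact congrFun (congrArg Subtype.val h0) (toConv x)
  have hsurj : Function.Surjective C.e.hom.left.base :=
    ((TopCat.homeoOfIso (Scheme.forgetToTop.mapIso ((Over.forget _).mapIso C.e))).surjective)
  refine (hsurj.denseRange.dense_image (Scheme.Hom.continuous _) hpts).mono ?_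
  rintro _ ⟨_, ⟨g, rfl⟩, rfl⟩
  refine ⟨ψ g.1, ⟨g.1, g.2, rfl⟩, ?_⟩
  show C.e.hom.left.base ((Spec.map (CommRingCat.ofHom (g.1.ofConv : C.A →ₐ[k] k).toRingHom)).base
    (IsLocalRing.closedPoint k)) = _
  congr 1
  refine PrimeSpectrum.ext ?_
  show Ideal.comap (g.1.ofConv : C.A →ₐ[k] k).toRingHom (IsLocalRing.maximalIdeal k) = _
  rw [IsLocalRing.maximalIdeal_eq_bot]
  rfl

end Groth.Agent.S14538
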