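import Groth.Statements.S14539
import Groth.Agent.HopfPts.Basic

set_option autoImplicit false
universe u v w
open TensorProduct
open PrincBund

namespace Groth.Agent.S14539

/-- Let k be an algebraically closed field of characteristic 0, A a commutative Hopf algebra over k (the
coordinate ring of an affine group scheme G over k, not necessarily of finite type) and V a right
A-comodule, of any dimension. If a k-subspace W of V is mapped into itself by the action of every
k-rational point of G (every k-algebra homomorphism A → k, acting on V through the coaction), then W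
is a subcomodule of V. -/
theorem result (k : Type u) (A : Type v) [Field k] [IsAlgClosed k]
    [CharZero k] [CommRing A] [HopfAlgebra k A]
    (V : Type w) [AddCommGroup V] [Module k V] [HopfRep.Comod k A V] (W : Submodule k V)
    (hW : ∀ g : A →ₐ[k] k, W.map (HopfRep.Comod.act k A V g) ≤ W) :
    HopfRep.IsSubcomod (k := k) (A := A) W := by
  classical
  intro x hx
  haveI : IsReduced A := Groth.Agent.HopfPts.isReduced (k := k)
  let z : (V ⧸ W) ⊗[k] A := W.mkQ.rTensor A (HopfRep.Comod.coact (k := k) (A := A) x)
  have hz : z = 0 := by
    let c := Module.Basis.ofVectorSpace k (V ⧸ W)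
    refine (TensorProduct.equivFinsuppOfBasisLeft c).injective (Finsupp.ext fun i => ?_)
    rw [map_zero, Finsupp.zero_apply]
    by_contra hne
    have hnil : ¬ IsNilpotent (TensorProduct.equivFinsuppOfBasisLeft c z i) := fun hn => hne (IsReduced.eq_zero _ hn)
    obtain ⟨g, hg⟩ := Groth.Agent.HopfPts.exists_point_ne_zero (k := k) hnil
    refine hg ?_
    have e : ∀ y : V ⊗[k] A, g (TensorProduct.equivFinsuppOfBasisLeft c (W.mkQ.rTensor A y) i) =
        c.coord i (W.mkQ (TensorProduct.rid k V (g.toLinearMap.lTensor V y))) := fun y => by
      induction y using TensorProduct.induction_on with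
      | zero => simp
      | add p q hp hq => simp only [map_add, Finsupp.add_apply, hp, hq]
      | tmul p q =>
        simp only [LinearMap.rTensor_tmul, LinearMap.lTensor_tmul, TensorProduct.rid_tmul, map_smul,
          TensorProduct.equivFinsuppOfBasisLeft_apply_tmul_apply, Module.Basis.coord_apply, smul_eq_mul,
          AlgHom.toLinearMap_apply]
        ring
    rw [show z = W.mkQ.rTensor A (HopfRep.Comod.coact (k := k) (A := A) x) from rfl, e]
    have hmem : TensorProduct.rid k V (g.toLinearMap.lTensor V (HopfRep.Comod.coact (k := k) (A := A) x)) ∈ W :=
      hW g (Submodule.mem_map_of_mem hx)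
    rw [(Submodule.Quotient.mk_eq_zero W).2 hmem |> fun h => (show W.mkQ _ = 0 from h), map_zero]
  exact (rTensor_exact A (LinearMap.exact_subtype_mkQ W) W.mkQ_surjective _).1 hz

end Groth.Agent.S14539
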