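import Groth.Statements.S14546
import Groth.Agent.HomRep.Weil
import Groth.Agent.GammaBCLib.Basic

set_option autoImplicit false
set_option backward.isDefEq.respectTransparency false
set_option backward.isDefEq.respectTransparency.types false
universe u
open CategoryTheory MonoidalCategory CartesianMonoidalCategory MonObj GrpObj AlgebraicGeometry
open PrincBund

namespace Groth.Agent.S14546

/-- Let k be a field of characteristic 0, X a quasi-compact k-scheme whose ring of global functions is
finite-dimensional over k, and Z an affine k-scheme. Then the functor on k-schemes S ↦ Hom_k(X ×_k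
S, Z) is representable by an affine k-scheme M: there is a universal k-morphism X ×_k M → Z through
which every k-morphism X ×_k S → Z factors by a unique S → M; and M is of finite type over k if Z
is. (The published statement is about the scheme of invariant cross-sections of an affine scheme
under a transitive affine groupoid over a pregroupoid H, with a finiteness hypothesis on H; this row
is the case of the trivial groupoid, where the representing scheme is the scheme of k-morphisms from
X to Z and that hypothesis reads: X quasi-compact with finite-dimensional global functions.) -/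
theorem result (k : Type u) [Field k] [CharZero k]
    (X : Over (Spec (CommRingCat.of k))) [CompactSpace ↥X.left]
    (hfin : (X.hom.appTop.hom.comp (Scheme.ΓSpecIso (CommRingCat.of k)).inv.hom).Finite)
    (Z : Over (Spec (CommRingCat.of k))) [IsAffine Z.left] :
    ∃ (M : Over (Spec (CommRingCat.of k))) (_ : IsAffine M.left) (ev : X ⊗ M ⟶ Z),
      (∀ (S : Over (Spec (CommRingCat.of k))) (f : X ⊗ S ⟶ Z), ∃! g : S ⟶ M, (X ◁ g) ≫ ev = f) ∧
      (LocallyOfFiniteType Z.hom → LocallyOfFiniteType M.hom) := by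
  letI : Algebra k Γ(X.left, ⊤) := (X.hom.appTop.hom.comp (Scheme.ΓSpecIso (CommRingCat.of k)).inv.hom).toAlgebra
  haveI : Module.Finite k Γ(X.left, ⊤) := hfin
  letI : Algebra k Γ(Z.left, ⊤) := (Z.hom.appTop.hom.comp (Scheme.ΓSpecIso (CommRingCat.of k)).inv.hom).toAlgebra
  obtain ⟨M, evW, hMaff, hMft, -, hM⟩ := HomRep.exists_weilRes_Spec (R := k) Γ(X.left, ⊤) Γ(Z.left, ⊤)
  let S₀ := Spec (CommRingCat.of k)
  let X₀ : Over S₀ := Over.mk (Spec.map (CommRingCat.ofHom (algebraMap k Γ(X.left, ⊤))))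
  let Z₀ : Over S₀ := Over.mk (Spec.map (CommRingCat.ofHom (algebraMap k Γ(Z.left, ⊤))))
  have hsq : ∀ Y : Over S₀, Y.left.toSpecΓ ≫ Spec.map ((Scheme.ΓSpecIso (CommRingCat.of k)).inv ≫ Y.hom.appTop) = Y.hom := by
    intro Y
    rw [Spec.map_comp, ← reassoc_of% (Scheme.toSpecΓ_naturality Y.hom), toSpecΓ_SpecMap_ΓSpecIso_inv, Category.comp_id]
  let π : X ⟶ X₀ := Over.homMk X.left.toSpecΓ (hsq X)
  let eZ : Z ≅ Z₀ := Over.isoMk (asIso Z.left.toSpecΓ) (hsq Z)
  haveI : IsAffine M.left := isAffine_of_isAffineHom M.hom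
  have hk : IsField Γ(S₀, ⊤) :=
    MulEquiv.isField (Field.toIsField k) (Scheme.ΓSpecIso (CommRingCat.of k)).commRingCatIsoToRingEquiv.toMulEquiv
  have key : ∀ (T : Over S₀), IsAffine T.left → ∀ φ : X ⊗ T ⟶ Z₀, ∃! ψ : X₀ ⊗ T ⟶ Z₀, (π ▷ T) ≫ ψ = φ := by
    intro T hT φ
    haveI : IsAffine X₀.left := inferInstanceAs (IsAffine (Spec _))
    haveI : IsAffine Z₀.left := inferInstanceAs (IsAffine (Spec _))
    haveI : IsAffine (X₀ ⊗ T).left := inferInstanceAs (IsAffine (Limits.pullback X₀.hom T.hom))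
    have H := GammaBCLib.isPushout_appTop_of_isField (IsPullback.of_hasPullback X.hom T.hom) hk
    have H₀ := isPushout_appTop_of_isPullback (IsPullback.of_hasPullback X₀.hom T.hom)
    have hfst : (π ▷ T).left ≫ Limits.pullback.fst X₀.hom T.hom = Limits.pullback.fst X.hom T.hom ≫ π.left :=
      congrArg CommaMorphism.left (whiskerRight_fst π T)
    have hsnd : (π ▷ T).left ≫ Limits.pullback.snd X₀.hom T.hom = Limits.pullback.snd X.hom T.hom :=
      congrArg CommaMorphism.left (whiskerRight_snd π T)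
    haveI : IsIso π.left.appTop := by
      show IsIso X.left.toSpecΓ.appTop
      rw [Scheme.toSpecΓ_appTop]
      infer_instance
    have hX : X₀.hom.appTop ≫ π.left.appTop = X.hom.appTop := by
      rw [← Scheme.Hom.comp_appTop, Over.w π]
    have H' : IsPushout X₀.hom.appTop T.hom.appTop (π.left.appTop ≫ (Limits.pullback.fst X.hom T.hom).appTop)
        (Limits.pullback.snd X.hom T.hom).appTop :=
      H.of_iso (Iso.refl _) (asIso π.left.appTop).symm (Iso.refl _) (Iso.refl _)
        (by simp [← hX]) (by simp) (by simp) (by simp)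
    have hc : (π ▷ T).left.appTop = (H₀.isoIsPushout _ _ H').hom := by
      refine H₀.hom_ext ?_ ?_
      · rw [IsPushout.inl_isoIsPushout_hom, ← Scheme.Hom.comp_appTop, hfst, Scheme.Hom.comp_appTop]
      · rw [IsPushout.inr_isoIsPushout_hom, ← Scheme.Hom.comp_appTop, hsnd]
    haveI : IsIso (π ▷ T).left.appTop := hc ▸ inferInstance
    obtain ⟨ψ, hψ, huniq⟩ := GammaBCLib.existsUnique_fac_of_isIso_appTop (π ▷ T).left φ.left
    have hw : ψ ≫ Z₀.hom = (X₀ ⊗ T).hom := by
      refine (GammaBCLib.existsUnique_fac_of_isIso_appTop (π ▷ T).left ((π ▷ T).left ≫ (X₀ ⊗ T).hom)).unique ?_ rfl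
      rw [reassoc_of% hψ, Over.w φ, Over.w (π ▷ T)]
    refine ⟨Over.homMk ψ hw, Over.OverMorphism.ext hψ, fun ψ' hψ' => Over.OverMorphism.ext ?_⟩
    exact huniq _ (congrArg CommaMorphism.left hψ')
  refine ⟨M, inferInstance, (π ▷ M) ≫ evW ≫ eZ.inv, ?_, ?_⟩
  · refine HomRep.represents_of_affine _ fun D q φ => ?_
    obtain ⟨ψ, hψ, hψu⟩ := key (Over.mk q) (inferInstanceAs (IsAffine (Spec D))) (φ ≫ eZ.hom)
    obtain ⟨g, hg, hgu⟩ := hM (Over.mk q) ψ
    have hcomm : ∀ g : Over.mk q ⟶ M, (X ◁ g) ≫ (π ▷ M) ≫ evW ≫ eZ.inv = (π ▷ Over.mk q) ≫ ((X₀ ◁ g) ≫ evW) ≫ eZ.inv := by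
      intro g
      rw [Category.assoc, whisker_exchange_assoc]
    refine ⟨g, ?_, fun g' hg' => hgu g' (hψu _ ?_)⟩
    · show (X ◁ g) ≫ _ = φ
      rw [hcomm, hg, reassoc_of% hψ, Iso.hom_inv_id, Category.comp_id]
    · replace hg' : (X ◁ g') ≫ (π ▷ M) ≫ evW ≫ eZ.inv = φ := hg'
      rw [← hg', hcomm]
      simp only [Category.assoc, Iso.inv_hom_id, Category.comp_id]
      rfl
  · intro hZ
    refine hMft (RingHom.finiteType_algebraMap.1 ?_)
    have h : LocallyOfFiniteType Z₀.hom := by
      rw [← Over.w eZ.inv]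
      infer_instance
    rwa [show Z₀.hom = Spec.map _ from rfl, HasRingHomProperty.Spec_iff (P := @LocallyOfFiniteType)] at h

end Groth.Agent.S14546
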