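import Groth.Statements.S14547
import Groth.Agent.PrincBundLib.Descent
-- import your own Groth.Agent.* helpers here

set_option autoImplicit false
set_option backward.isDefEq.respectTransparency false
set_option maxHeartbeats 800000
set_option synthInstance.maxHeartbeats 200000
universe u
open CategoryTheory MonoidalCategory CartesianMonoidalCategory MonObj GrpObj AlgebraicGeometry
open PrincBund CategoryTheory.MonoidalCategory CategoryTheory.CartesianMonoidalCategory CategoryTheory.Limits

namespace Groth.Agent.S14547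

open scoped MonObj
open MonoidalCategory CartesianMonoidalCategory in
lemma transfer {X X' : Scheme.{u}} (f : X' ⟶ X) {J P : Over X} [GrpObj J] (a : AlgGrp.Action J P)
    (a' : AlgGrp.Action (Red.bc f J) (Red.bc f P))
    (ha' : Functor.LaxMonoidal.μ (Over.pullback f) J P ≫ (Over.pullback f).map a.act = a'.act)
    {T : Over X'} (g : T ⟶ Red.bc f J) (x : T ⟶ Red.bc f P) :
    ((Over.mapPullbackAdj f).homEquiv T P).symm (lift g x ≫ a'.act) =
      lift (((Over.mapPullbackAdj f).homEquiv T J).symm g) (((Over.mapPullbackAdj f).homEquiv T P).symm x) ≫ a.act := by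
  rw [← ha', ← Category.assoc, Adjunction.homEquiv_naturality_right_symm]
  congr 1
  apply CartesianMonoidalCategory.hom_ext
  · rw [lift_fst, ← Adjunction.homEquiv_naturality_right_symm, Category.assoc, Functor.Monoidal.μ_fst, lift_fst]
  · rw [lift_snd, ← Adjunction.homEquiv_naturality_right_symm, Category.assoc, Functor.Monoidal.μ_snd, lift_snd]

open MonoidalCategory CartesianMonoidalCategory in
lemma points_iff {X X' : Scheme.{u}} (f : X' ⟶ X) {J P : Over X} [GrpObj J] (a : AlgGrp.Action J P)
    (a' : AlgGrp.Action (Red.bc f J) (Red.bc f P))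
    (ha' : Functor.LaxMonoidal.μ (Over.pullback f) J P ≫ (Over.pullback f).map a.act = a'.act)
    (T : Over X') (x w : T ⟶ Red.bc f P) :
    (∃! g : T ⟶ Red.bc f J, lift g w ≫ a'.act = x) ↔
      ∃! g : (Over.map f).obj T ⟶ J, lift g (((Over.mapPullbackAdj f).homEquiv T P).symm w) ≫ a.act =
        ((Over.mapPullbackAdj f).homEquiv T P).symm x := by
  refine ((Over.mapPullbackAdj f).homEquiv T J).symm.existsUnique_congr fun {g} => ?_
  rw [← transfer f a a' ha', EmbeddingLike.apply_eq_iff_eq]


/-- Let f : X' → X be a faithfully flat quasi-compact morphism of schemes, J a group scheme affine over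
X with an action a on an X-scheme P, and a' the induced action of the base change J' = J ×_X X' on
P' = P ×_X X'. Then P with a is a J-torsor for the fpqc topology if and only if P' with a' is a
J'-torsor for the fpqc topology. (The published statement allows any morphism X' → X that is
covering for the fpqc topology, and an action of a pregroupoid; this row is the case of a faithfully
flat quasi-compact X' → X and the trivial pregroupoid.) -/
theorem result {X X' : Scheme.{u}} (f : X' ⟶ X)
    [Flat f] [Surjective f] [QuasiCompact f]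
    {J P : Over X} [GrpObj J] [IsAffineHom J.hom] (a : AlgGrp.Action J P)
    (a' : AlgGrp.Action (Red.bc f J) (Red.bc f P))
    (ha' : Functor.LaxMonoidal.μ (Over.pullback f) J P ≫ (Over.pullback f).map a.act = a'.act) :
    NonAbH1.IsTorsorFor Scheme.fpqcPrecoverage a ↔ NonAbH1.IsTorsorFor Scheme.fpqcPrecoverage a' := by
  constructor
  · rintro ⟨hps, R, hR, hs⟩
    refine ⟨(Groth.Agent.PrincBundLib.isIso_lift_snd_iff a'.act).mpr fun T x w => ?_, ?_⟩
    · exact (points_iff f a a' ha' T x w).mpr
        ((Groth.Agent.PrincBundLib.isIso_lift_snd_iff a.act).mp hps _ _ _)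
    obtain ⟨K, C, c, rfl⟩ := R.exists_eq_ofArrows
    have hs' : ∀ k, ∃ s : C k ⟶ P.left, s ≫ P.hom = c k := fun k => hs _ (Presieve.ofArrows.mk k)
    choose s hs using hs'
    refine ⟨_, Precoverage.mem_coverings_of_isPullback c hR f
      (fun k => pullback.fst f (c k)) (fun k => pullback.snd _ _) (fun k => IsPullback.of_hasPullback _ _), ?_⟩
    rintro _ _ ⟨k⟩
    exact ⟨pullback.lift (pullback.snd f (c k) ≫ s k) (pullback.fst f (c k))
      (by rw [Category.assoc, hs, pullback.condition]), pullback.lift_snd _ _ _⟩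
  · rintro ⟨hps, R, hR, hs⟩
    obtain ⟨K, C, c, rfl⟩ := R.exists_eq_ofArrows
    rw [Groth.Agent.PrincBundLib.isTorsorFor_fpqc_iff]
    have hf : Presieve.ofArrows (fun _ : PUnit.{u + 2} => X') (fun _ => f) ∈ Scheme.fpqcPrecoverage X := by
      rw [Presieve.ofArrows_pUnit]
      exact f.singleton_mem_fpqcPrecoverage
    haveI : Scheme.fpqcPrecoverage.{u}.IsStableUnderComposition := by
      rw [Scheme.fpqcPrecoverage]; infer_instance
    refine ⟨_, Precoverage.comp_mem_coverings (fun _ : PUnit.{u + 2} => f) hf (fun _ k => c k) (fun _ => hR), ?_⟩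
    rintro _ _ ⟨⟨-, k⟩⟩
    have hs' : ∃ s : C k ⟶ (Red.bc f P).left, s ≫ (Red.bc f P).hom = c k := hs _ (Presieve.ofArrows.mk k)
    obtain ⟨s, hs⟩ := hs'
    let s' : Over.mk (c k ≫ f) ⟶ P := ((Over.mapPullbackAdj f).homEquiv (Over.mk (c k)) P).symm (Over.homMk s hs)
    refine ⟨s', (Groth.Agent.PrincBundLib.isIso_lift_snd_iff _).mpr fun T x w => ?_⟩
    simp only [Groth.Agent.PrincBundLib.orbit_eq]
    let T' : Over X' := Over.mk (w.left ≫ c k)
    let e : T ≅ (Over.map f).obj T' := Over.isoMk (Iso.refl _) (by
      change 𝟙 _ ≫ (w.left ≫ c k) ≫ f = _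
      rw [Category.id_comp, Category.assoc]
      exact Over.w w)
    let E := (Over.mapPullbackAdj f).homEquiv T' P
    have h := (points_iff f a a' ha' T' (E (e.inv ≫ x)) (E (e.inv ≫ w ≫ s'))).mp
      ((Groth.Agent.PrincBundLib.isIso_lift_snd_iff a'.act).mp hps _ _ _)
    simp only [E, Equiv.symm_apply_apply] at h
    refine ((e.homCongr (Iso.refl J)).symm.existsUnique_congr fun {g} => ?_).mp h
    simp only [Iso.homCongr_symm, Iso.homCongr_apply, Iso.refl_symm, Iso.refl_hom, Category.comp_id, Iso.symm_inv]
    rw [← cancel_epi e.hom, ← Category.assoc, comp_lift]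
    simp

end Groth.Agent.S14547
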