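import Groth.Statements.S14549
import Groth.Agent.S12131

set_option autoImplicit false
set_option backward.isDefEq.respectTransparency false
set_option maxHeartbeats 1000000
universe u
open CategoryTheory MonoidalCategory CartesianMonoidalCategory MonObj GrpObj AlgebraicGeometry
open PrincBund

namespace Groth.Agent.S14549

open CategoryTheory.Limits TopologicalSpace

/-- Sections over the empty open are zero. -/
theorem subsingleton_bot {X : Scheme.{u}} (M : X.Modules) (W : X.Opens) (hW : W = ⊥) (a b : Γ(M, W)) : a = b :=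
  TopCat.Sheaf.eq_of_locally_eq' (⟨M.presheaf, M.isSheaf⟩ : TopCat.Sheaf Ab X) (fun i : PEmpty.{u+1} => i.elim) W
    (fun i => i.elim) (by rw [hW]; exact bot_le) a b fun i => i.elim

/-- For a clopen immersion, the restriction map is a split epimorphism. -/
theorem exists_section_of_clopen {Z P : Scheme.{u}} (δ : Z ⟶ P) [IsOpenImmersion δ] [IsClosedImmersion δ]
    (M : P.Modules) :
    ∃ s : (Scheme.Modules.pushforward δ).obj ((Scheme.Modules.restrictFunctor δ).obj M) ⟶ M,
      s ≫ (Scheme.Modules.restrictAdjunction δ).unit.app M = 𝟙 _ := by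
  let C : P.Opens := ⟨(Set.range δ)ᶜ, δ.isClosedEmbedding.isClosed_range.isOpen_compl⟩
  let a := (Scheme.Modules.restrictAdjunction δ).unit.app M
  let b := (Scheme.Modules.restrictAdjunction C.ι).unit.app M
  have hbij : ∀ {U : Scheme.{u}} (j : U ⟶ P) [IsOpenImmersion j] (W : P.Opens), W ≤ j.opensRange →
      Function.Bijective (((Scheme.Modules.restrictAdjunction j).unit.app M).app W) := fun j _ W hW => by
    have he : j ''ᵁ (j ⁻¹ᵁ W) = W := by
      rw [Scheme.Hom.image_preimage_eq_opensRange_inf, inf_eq_right.2 hW]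
    have : IsIso (homOfLE (j.image_preimage_le W)).op :=
      ⟨(homOfLE he.ge).op, Subsingleton.elim _ _, Subsingleton.elim _ _⟩
    exact ConcreteCategory.bijective_of_isIso (M.presheaf.map (homOfLE (j.image_preimage_le W)).op)
  have hzero : ∀ {U : Scheme.{u}} (j : U ⟶ P) [IsOpenImmersion j] (W : P.Opens), Disjoint W j.opensRange →
      ∀ t t' : Γ((Scheme.Modules.pushforward j).obj ((Scheme.Modules.restrictFunctor j).obj M), W), t = t' :=
    fun j _ W hW t t' => subsingleton_bot M (j ''ᵁ (j ⁻¹ᵁ W))
      (by rw [Scheme.Hom.image_preimage_eq_opensRange_inf, inf_comm]; exact hW.eq_bot) t t'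
  let L := biprod.lift a b
  have hfst : ∀ (W : P.Opens) m, (biprod.fst (X := (Scheme.Modules.pushforward δ).obj ((Scheme.Modules.restrictFunctor δ).obj M))
      (Y := (Scheme.Modules.pushforward C.ι).obj ((Scheme.Modules.restrictFunctor C.ι).obj M))).app W (L.app W m) = a.app W m := by
    intro W m
    exact congr($(congrArg (fun φ => Scheme.Modules.Hom.app φ W) (biprod.lift_fst a b)) m)
  have hsnd : ∀ (W : P.Opens) m, (biprod.snd (X := (Scheme.Modules.pushforward δ).obj ((Scheme.Modules.restrictFunctor δ).obj M))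
      (Y := (Scheme.Modules.pushforward C.ι).obj ((Scheme.Modules.restrictFunctor C.ι).obj M))).app W (L.app W m) = b.app W m := by
    intro W m
    exact congr($(congrArg (fun φ => Scheme.Modules.Hom.app φ W) (biprod.lift_snd a b)) m)
  let π₁ : (Scheme.Modules.pushforward δ).obj ((Scheme.Modules.restrictFunctor δ).obj M) ⊞ (Scheme.Modules.pushforward C.ι).obj ((Scheme.Modules.restrictFunctor C.ι).obj M) ⟶ (Scheme.Modules.pushforward δ).obj ((Scheme.Modules.restrictFunctor δ).obj M) := biprod.fst
  let π₂ : (Scheme.Modules.pushforward δ).obj ((Scheme.Modules.restrictFunctor δ).obj M) ⊞ (Scheme.Modules.pushforward C.ι).obj ((Scheme.Modules.restrictFunctor C.ι).obj M) ⟶ (Scheme.Modules.pushforward C.ι).obj ((Scheme.Modules.restrictFunctor C.ι).obj M) := biprod.snd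
  let ι₁ : (Scheme.Modules.pushforward δ).obj ((Scheme.Modules.restrictFunctor δ).obj M) ⟶ (Scheme.Modules.pushforward δ).obj ((Scheme.Modules.restrictFunctor δ).obj M) ⊞ (Scheme.Modules.pushforward C.ι).obj ((Scheme.Modules.restrictFunctor C.ι).obj M) := biprod.inl
  let ι₂ : (Scheme.Modules.pushforward C.ι).obj ((Scheme.Modules.restrictFunctor C.ι).obj M) ⟶ (Scheme.Modules.pushforward δ).obj ((Scheme.Modules.restrictFunctor δ).obj M) ⊞ (Scheme.Modules.pushforward C.ι).obj ((Scheme.Modules.restrictFunctor C.ι).obj M) := biprod.inr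
  have hext : ∀ (W : P.Opens) (t t' : Γ((Scheme.Modules.pushforward δ).obj ((Scheme.Modules.restrictFunctor δ).obj M) ⊞ (Scheme.Modules.pushforward C.ι).obj ((Scheme.Modules.restrictFunctor C.ι).obj M), W)),
      π₁.app W t = π₁.app W t' → π₂.app W t = π₂.app W t' → t = t' := by
    intro W t t' h1 h2
    have key : ∀ s, s = ι₁.app W (π₁.app W s) + ι₂.app W (π₂.app W s) := fun s =>
      (congr($(congrArg (fun φ => Scheme.Modules.Hom.app φ W) (show π₁ ≫ ι₁ + π₂ ≫ ι₂ = 𝟙 _ from biprod.total)) s)).symm
    rw [key t, key t', h1, h2]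
  haveI : IsIso L := S12131.isIso_of_bijective_small L fun x => by
    by_cases hx : x ∈ δ.opensRange
    · refine ⟨δ.opensRange, hx, fun W _ hW => ⟨fun m m' h => ?_, fun t => ?_⟩⟩
      · exact (hbij δ W hW).1 (by rw [← hfst, ← hfst, h])
      · obtain ⟨m, hm⟩ := (hbij δ W hW).2 (π₁.app W t)
        refine ⟨m, hext W _ _ ((hfst W m).trans hm) (hzero C.ι W ?_ _ _)⟩
        rw [Scheme.Opens.opensRange_ι]
        exact Disjoint.mono_left hW (disjoint_iff.2 (Opens.ext (Set.inter_compl_self _)))
    · refine ⟨C, hx, fun W _ hW => ?_⟩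
      have hW' : W ≤ C.ι.opensRange := by rwa [Scheme.Opens.opensRange_ι]
      refine ⟨fun m m' h => (hbij C.ι W hW').1 (by rw [← hsnd, ← hsnd, h]), fun t => ?_⟩
      obtain ⟨m, hm⟩ := (hbij C.ι W hW').2 (π₂.app W t)
      refine ⟨m, hext W _ _ (hzero δ W ?_ _ _) ((hsnd W m).trans hm)⟩
      exact Disjoint.mono_left hW (disjoint_iff.2 (Opens.ext (Set.compl_inter_self _)))
  refine ⟨biprod.inl ≫ inv L, ?_⟩
  show (biprod.inl ≫ inv L) ≫ a = _
  rw [show a = L ≫ biprod.fst from (biprod.lift_fst a b).symm, Category.assoc, IsIso.inv_hom_id_assoc,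
    biprod.inl_fst]
  rfl

/-- Let p : X' → X be a finite étale morphism of schemes and V' a quasi-coherent O_{X'}-module. Then V'
is a direct summand of p^* p_* V': the counit p^* p_* V' → V' of the adjunction between pullback and
pushforward of modules along p is a split epimorphism. (The published statement is for modules under
a pregroupoid H over X acting compatibly on X'; this row is the case of the trivial pregroupoid.) -/
theorem result {X X' : Scheme.{u}} (p : X' ⟶ X) [IsFinite p] [Etale p]
    (V' : X'.Modules) (hV' : Coh.IsQCoh V') :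
    IsSplitEpi ((Scheme.Modules.pullbackPushforwardAdjunction p).counit.app V') := by
  haveI := hV'
  let f' := pullback.snd p p
  let g' := pullback.fst p p
  let δ := pullback.diagonal p
  haveI : IsOpenImmersion δ := inferInstance
  haveI : IsClosedImmersion δ := inferInstance
  let M := (Scheme.Modules.pullback g').obj V'
  obtain ⟨s, hs⟩ := exists_section_of_clopen δ M
  let W := (Scheme.Modules.pushforward p).obj V'
  haveI := S12131.result p p g' f' (IsPullback.of_hasPullback p p) V'
  let u : (Scheme.Modules.pullback p).obj W ≅ (Scheme.Modules.pushforward f').obj M :=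
    @asIso _ _ _ _ _ this
  let θ : (Scheme.Modules.pushforward f').obj ((Scheme.Modules.pushforward δ).obj
      ((Scheme.Modules.restrictFunctor δ).obj M)) ≅ V' :=
    (Scheme.Modules.pushforward f').mapIso ((Scheme.Modules.pushforward δ).mapIso
      ((Scheme.Modules.restrictFunctorIsoPullback δ).app M ≪≫ (Scheme.Modules.pullbackComp δ g').app V' ≪≫
        (Scheme.Modules.pullbackCongr (pullback.diagonal_fst p)).app V' ≪≫ (Scheme.Modules.pullbackId X').app V')) ≪≫
      (Scheme.Modules.pushforwardComp δ f').app V' ≪≫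
      (Scheme.Modules.pushforwardCongr (pullback.diagonal_snd p)).app V' ≪≫ (Scheme.Modules.pushforwardId X').app V'
  let i : V' ⟶ (Scheme.Modules.pullback p).obj W := θ.inv ≫ (Scheme.Modules.pushforward f').map s ≫ u.inv
  let r : (Scheme.Modules.pullback p).obj W ⟶ V' :=
    u.hom ≫ (Scheme.Modules.pushforward f').map ((Scheme.Modules.restrictAdjunction δ).unit.app M) ≫ θ.hom
  have hir : i ≫ r = 𝟙 _ := by
    simp only [i, r, Category.assoc, Iso.inv_hom_id_assoc]
    rw [← Functor.map_comp_assoc, hs]
    simp
  let adj := Scheme.Modules.pullbackPushforwardAdjunction p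
  refine IsSplitEpi.mk' ⟨i ≫ (Scheme.Modules.pullback p).map (adj.unit.app W) ≫
    (Scheme.Modules.pullback p).map ((Scheme.Modules.pushforward p).map r), ?_⟩
  have h1 : (Scheme.Modules.pullback p).map ((Scheme.Modules.pushforward p).map r) ≫ adj.counit.app V' =
      adj.counit.app ((Scheme.Modules.pullback p).obj W) ≫ r := adj.counit.naturality r
  calc (i ≫ _ ≫ _) ≫ adj.counit.app V'
      = i ≫ (Scheme.Modules.pullback p).map (adj.unit.app W) ≫
          ((Scheme.Modules.pullback p).map ((Scheme.Modules.pushforward p).map r) ≫ adj.counit.app V') := by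
        simp only [Category.assoc]
    _ = i ≫ ((Scheme.Modules.pullback p).map (adj.unit.app W) ≫
          adj.counit.app ((Scheme.Modules.pullback p).obj W)) ≫ r := by rw [h1]; simp only [Category.assoc]
    _ = i ≫ r := by rw [adj.left_triangle_components]; exact congrArg (i ≫ ·) (Category.id_comp r)
    _ = _ := hir

end Groth.Agent.S14549
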