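import Groth.Statements.S14576
import Groth.Agent.MonoFibre.AntiAffinePart

set_option autoImplicit false
universe u
open CategoryTheory MonoidalCategory CartesianMonoidalCategory MonObj GrpObj AlgebraicGeometry CategoryTheory.Limits
open AlgGrp

namespace Groth.Agent.S14576

/-- Let k be a field and G a k-group scheme of finite type acting on an affine k-scheme X. If the action
is faithful, in the sense that for every k-scheme T a T-valued point of G acting as the identity on
X_T is the unit, then G is affine. -/
theorem result (k : Type u) [Field k]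
    (G X : Over (Spec (CommRingCat.of k))) [GrpObj G] [LocallyOfFiniteType G.hom] [QuasiCompact G.hom] [IsAffine X.left]
    (a : AlgGrp.Action G X)
    (hf : ∀ (T : Over (Spec (CommRingCat.of k))) (g : T ⟶ G),
      (∀ (T' : Over (Spec (CommRingCat.of k))) (t : T' ⟶ T) (x : T' ⟶ X), lift (t ≫ g) x ≫ a.act = x) → g = 1) :
    IsAffine G.left := by
  obtain ⟨hA, N, hN, i, ht, -, -, -, hi, hic, hNl, hNq, hker, hO⟩ :=
    MonoFibre.KerAntiAffine.exists_antiAffineKernel G
  letI := hA; letI := hN
  haveI := ht; haveI := hi; haveI := hic; haveI := hNl; haveI := hNq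
  have hfix := MonoFibre.AntiAffine.factor_snd ((MonoFibre.KerAntiAffine.bijective_iff N).mpr hO)
    ((i ▷ X) ≫ a.act)
  have hr : lift (toUnit X ≫ η[N]) (𝟙 X) ≫ (i ▷ X) ≫ a.act = 𝟙 X := by
    have h1 : lift (toUnit X ≫ η[N]) (𝟙 X) ≫ (i ▷ X) = (λ_ X).inv ≫ (η[G] ▷ X) := by
      apply CartesianMonoidalCategory.hom_ext
      · simp [IsMonHom.one_hom]
      · simp
    rw [← Category.assoc, h1, Category.assoc, a.one_act, Iso.inv_hom_id]
  rw [hr, Category.comp_id] at hfix
  have hone : i = 1 := hf N i (fun T' t x => by
    have := congrArg (fun z => lift t x ≫ z) hfix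
    simpa using this)
  have hid : (𝟙 N : N ⟶ N) = toUnit N ≫ η[N] := by
    haveI : Mono i := Over.mono_of_mono_left i
    rw [← cancel_mono i, Category.id_comp, Category.assoc, IsMonHom.one_hom, ← Hom.one_def, hone]
  haveI : IsIso N.hom := ⟨η[N].left, by
    have := congrArg Over.Hom.left hid
    exact (this.symm.trans rfl), Over.w η[N]⟩
  haveI : IsAffine N.left := .of_isIso N.hom
  exact MonoFibre.AntiAffinePart.isAffine_of_isAffine_part i hker

end Groth.Agent.S14576
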