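import Groth.Statements.S14587
import Mathlib
import Groth.Agent.GrpEasyLib.Quot

set_option autoImplicit false
universe u
open CategoryTheory MonoidalCategory CartesianMonoidalCategory MonObj GrpObj AlgebraicGeometry CategoryTheory.Limits
open AlgGrp

namespace Groth.Agent.S14587

private theorem eq_of_comp_eq {k : Type u} [Field k] {E T T0 : Over (Spec (CommRingCat.of k))}
    [FormallyUnramified E.hom] [LocallyOfFiniteType E.hom] (j : T0 ⟶ T) [Surjective j.left]
    (u v : T ⟶ E) (h : j ≫ u = j ≫ v) : u = v := by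
  let w : T.left ⟶ pullback E.hom E.hom := pullback.lift u.left v.left (by rw [Over.w u, Over.w v])
  let q : pullback w (pullback.diagonal E.hom) ⟶ T.left := pullback.fst _ _
  have hj : j.left ≫ w = (j.left ≫ u.left) ≫ pullback.diagonal E.hom := by
    apply pullback.hom_ext
    · rw [Category.assoc, Category.assoc, pullback.lift_fst, Category.assoc, pullback.diagonal_fst, Category.comp_id]
    · rw [Category.assoc, Category.assoc, pullback.lift_snd, Category.assoc, pullback.diagonal_snd, Category.comp_id]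
      exact (congrArg Over.Hom.left h).symm
  have : Surjective (pullback.lift j.left (j.left ≫ u.left) hj ≫ q) := by
    rw [pullback.lift_fst]; infer_instance
  have : Surjective q := Surjective.of_comp (pullback.lift j.left (j.left ≫ u.left) hj) q
  have : IsIso q := by
    rw [isIso_iff_isOpenImmersion_and_epi_base]
    exact ⟨inferInstance, (TopCat.epi_iff_surjective _).mpr q.surjective⟩
  have e1 : u.left = inv q ≫ pullback.snd w (pullback.diagonal E.hom) := by
    rw [IsIso.eq_inv_comp]
    have := congrArg (· ≫ pullback.fst E.hom E.hom) (pullback.condition (f := w) (g := pullback.diagonal E.hom))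
    simp only [w, Category.assoc, pullback.diagonal_fst, Category.comp_id] at this
    rw [pullback.lift_fst] at this
    exact this
  have e2 : v.left = inv q ≫ pullback.snd w (pullback.diagonal E.hom) := by
    rw [IsIso.eq_inv_comp]
    have := congrArg (· ≫ pullback.snd E.hom E.hom) (pullback.condition (f := w) (g := pullback.diagonal E.hom))
    simp only [w, Category.assoc, pullback.diagonal_snd, Category.comp_id] at this
    rw [pullback.lift_snd] at this
    exact this
  exact Over.OverMorphism.ext (e1.trans e2.symm)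

private theorem formallyEtale_of_reduced (k B : Type u) [Field k] [PerfectField k] [CommRing B] [Algebra k B]
    [Module.Finite k B] [IsReduced B] : Algebra.FormallyEtale k B := by
  have : IsArtinianRing B := IsArtinianRing.of_finite k B
  letI : ∀ I : MaximalSpectrum B, Field (B ⧸ I.asIdeal) := fun I =>
    haveI := I.isMaximal; Ideal.Quotient.field _
  have : ∀ I : MaximalSpectrum B, Algebra.FormallyEtale k (B ⧸ I.asIdeal) := fun I =>
    Algebra.FormallyEtale.of_isSeparable k (B ⧸ I.asIdeal)
  have : Algebra.FormallyEtale k (∀ I : MaximalSpectrum B, B ⧸ I.asIdeal) :=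
    (Algebra.FormallyEtale.pi_iff _).mpr inferInstance
  exact Algebra.FormallyEtale.of_equiv ((IsArtinianRing.equivPi B).restrictScalars k).symm

private theorem exists_retraction {k : Type u} [Field k] [PerfectField k]
    {E G : Over (Spec (CommRingCat.of k))} [IsFinite G.hom] (r : E ⟶ G) [IsClosedImmersion r.left]
    [IsReduced E.left] [Surjective r.left] :
    ∃ π : G ⟶ E, r ≫ π = 𝟙 E ∧ FormallyUnramified E.hom ∧ LocallyOfFiniteType E.hom ∧
      DiscreteTopology ↥G.left := by
  have hEf : IsFinite E.hom := by rw [← Over.w r]; infer_instance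
  have : IsAffine G.left := isAffine_of_isAffineHom G.hom
  have : IsAffine E.left := isAffine_of_isAffineHom E.hom
  algebraize [((Scheme.ΓSpecIso (CommRingCat.of k)).inv ≫ G.hom.appTop).hom,
    ((Scheme.ΓSpecIso (CommRingCat.of k)).inv ≫ E.hom.appTop).hom]
  have : Module.Finite k Γ(G.left, ⊤) := by
    rw [← RingHom.finite_algebraMap, RingHom.algebraMap_toAlgebra, CommRingCat.hom_comp]
    exact ((HasAffineProperty.iff_of_isAffine (P := @IsFinite) (f := G.hom)).mp inferInstance).2.comp
      (RingHom.Finite.of_surjective _ (ConcreteCategory.bijective_of_isIso (Scheme.ΓSpecIso (CommRingCat.of k)).inv).2)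
  have : Module.Finite k Γ(E.left, ⊤) := by
    rw [← RingHom.finite_algebraMap, RingHom.algebraMap_toAlgebra, CommRingCat.hom_comp]
    exact ((HasAffineProperty.iff_of_isAffine (P := @IsFinite) (f := E.hom)).mp hEf).2.comp
      (RingHom.Finite.of_surjective _ (ConcreteCategory.bijective_of_isIso (Scheme.ΓSpecIso (CommRingCat.of k)).inv).2)
  have := formallyEtale_of_reduced k Γ(E.left, ⊤)
  have : IsArtinianRing Γ(G.left, ⊤) := IsArtinianRing.of_finite k _
  let q : Γ(G.left, ⊤) →ₐ[k] Γ(E.left, ⊤) :=
    { r.left.appTop.hom with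
      commutes' := fun c => by
        simp only [RingHom.algebraMap_toAlgebra]
        conv_rhs => rw [← Over.w r, Scheme.Hom.comp_appTop]
        rfl }
  have hq : Function.Surjective q :=
    ((HasAffineProperty.iff_of_isAffine (P := @IsClosedImmersion) (f := r.left)).mp inferInstance).2
  have hsurj : Surjective (Spec.map r.left.appTop) :=
    (MorphismProperty.arrow_mk_iso_iff @Surjective (arrowIsoSpecΓOfIsAffine r.left)).mp inferInstance
  have hker : IsNilpotent (RingHom.ker q) := by
    refine (Ideal.FG.isNilpotent_iff_le_nilradical (IsNoetherian.noetherian _)).mpr fun x hx => ?_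
    rw [nilradical_eq_sInf, Ideal.mem_sInf]
    intro P hP
    obtain ⟨P', hP'⟩ := hsurj.surj ⟨P, hP⟩
    rw [show P = P'.asIdeal.comap r.left.appTop.hom from (congrArg PrimeSpectrum.asIdeal hP').symm]
    show r.left.appTop.hom x ∈ P'.asIdeal
    rw [show r.left.appTop.hom x = 0 from hx]
    exact P'.asIdeal.zero_mem
  let s := Algebra.FormallySmooth.liftOfSurjective (AlgHom.id k Γ(E.left, ⊤)) q hq hker
  have hs : q.comp s = AlgHom.id k Γ(E.left, ⊤) := Algebra.FormallySmooth.comp_liftOfSurjective _ _ _ _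
  let π' : G.left ⟶ E.left := G.left.isoSpec.hom ≫ Spec.map (CommRingCat.ofHom s.toRingHom) ≫ E.left.isoSpec.inv
  have hπ' : π'.appTop = CommRingCat.ofHom s.toRingHom := by
    have e2 : E.left.isoSpec.inv.appTop = (Scheme.ΓSpecIso Γ(E.left, ⊤)).inv := by
      have := congrArg Scheme.Hom.appTop (Scheme.isoSpec_inv_toSpecΓ E.left)
      rw [Scheme.Hom.comp_appTop, Scheme.toSpecΓ_appTop, Scheme.Hom.id_appTop] at this
      exact (Iso.hom_comp_eq_id _).mp this
    show (G.left.toSpecΓ ≫ Spec.map (CommRingCat.ofHom s.toRingHom) ≫ E.left.isoSpec.inv).appTop = _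
    rw [Scheme.Hom.comp_appTop, Scheme.Hom.comp_appTop, e2, ← Scheme.ΓSpecIso_inv_naturality,
      Category.assoc, Scheme.toSpecΓ_appTop, Iso.inv_hom_id, Category.comp_id]
  refine ⟨Over.homMk π' ?_, ?_, ?_, inferInstance, ?_⟩
  · refine ext_of_isAffine ?_
    rw [Scheme.Hom.comp_appTop, hπ', ← cancel_epi (Scheme.ΓSpecIso (CommRingCat.of k)).inv]
    exact CommRingCat.hom_ext (RingHom.ext fun c => s.commutes c)
  · refine Over.OverMorphism.ext (ext_of_isAffine ?_)
    show (r.left ≫ π').appTop = (𝟙 E.left : _ ⟶ _).appTop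
    rw [Scheme.Hom.comp_appTop, hπ', Scheme.Hom.id_appTop]
    exact CommRingCat.hom_ext (RingHom.ext fun x => AlgHom.congr_fun hs x)
  · rw [HasRingHomProperty.iff_of_isAffine (P := @FormallyUnramified)]
    have h : RingHom.FormallyUnramified ((Scheme.ΓSpecIso (CommRingCat.of k)).inv ≫ E.hom.appTop).hom := by
      show @Algebra.FormallyUnramified _ _ _ _ (RingHom.toAlgebra _)
      exact inferInstanceAs (Algebra.FormallyUnramified k Γ(E.left, ⊤))
    exact (RingHom.FormallyUnramified.respectsIso.cancel_left_isIso _ _).mp h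
  · exact (Scheme.homeoOfIso G.left.isoSpec).isEmbedding.discreteTopology

/-- Let k be a perfect field and G a finite k-group scheme, r : G_red → G its reduced subgroup scheme (a
homomorphism and closed immersion from a reduced k-group scheme, surjective on underlying spaces)
and i₀ : G⁰ → G its neutral component (a homomorphism and open immersion from a connected k-group
scheme). Then the multiplication morphism G_red × G⁰ → G is an isomorphism, exhibiting G as the
semi-direct product of G⁰ by G_red. -/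
theorem result (k : Type u) [Field k] [PerfectField k]
    (G Gr G₀ : Over (Spec (CommRingCat.of k))) [GrpObj G] [GrpObj Gr] [GrpObj G₀] [IsFinite G.hom]
    (r : Gr ⟶ G) [IsMonHom r] [IsClosedImmersion r.left] [IsReduced Gr.left] [Surjective r.left]
    (i₀ : G₀ ⟶ G) [IsMonHom i₀] [IsOpenImmersion i₀.left] [ConnectedSpace ↥G₀.left] :
    IsIso ((r ⊗ₘ i₀) ≫ μ[G]) := by
  obtain ⟨π, hπ, _, _, _⟩ := exists_retraction r
  have : DiscreteTopology ↥G₀.left := i₀.left.isOpenEmbedding.isEmbedding.discreteTopology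
  have : Subsingleton ↥G₀.left := PreconnectedSpace.trivial_of_discrete
  let t : G ⟶ G := (π ≫ r)⁻¹ * 𝟙 G
  have hrt : r ≫ t = toUnit Gr ≫ η[G₀] ≫ i₀ := by
    rw [MonObj.comp_mul, GrpObj.comp_inv, ← Category.assoc, hπ, Category.id_comp, Category.comp_id,
      inv_mul_cancel, Hom.one_def, IsMonHom.one_hom]
  have hrange : Set.range t.left ⊆ Set.range i₀.left := by
    rintro _ ⟨x, rfl⟩
    obtain ⟨y, rfl⟩ := r.left.surjective x
    refine ⟨((toUnit Gr) ≫ η[G₀]).left y, ?_⟩
    rw [← Scheme.Hom.comp_apply, ← Scheme.Hom.comp_apply, ← Over.comp_left, ← Over.comp_left, hrt,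
      Category.assoc]
  let l : G ⟶ G₀ := Over.homMk (IsOpenImmersion.lift i₀.left t.left hrange) (by
    rw [← Over.w i₀, IsOpenImmersion.lift_fac_assoc, Over.w t])
  have hl : l ≫ i₀ = t := Over.OverMorphism.ext (IsOpenImmersion.lift_fac _ _ _)
  let m : Gr ⊗ G₀ ⟶ G := (r ⊗ₘ i₀) ≫ μ[G]
  have hm : m = (fst Gr G₀ ≫ r) * (snd Gr G₀ ≫ i₀) := by
    rw [Hom.mul_def, ← tensorHom_fst r i₀, ← tensorHom_snd r i₀, ← comp_lift, lift_fst_snd]
    simp [m]
  have hunit : Surjective η[G₀].left := by
    refine ⟨fun x => ?_⟩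
    obtain ⟨z⟩ : Nonempty ↥(𝟙_ (Over (Spec (CommRingCat.of k)))).left :=
      inferInstanceAs (Nonempty (PrimeSpectrum k))
    exact ⟨z, Subsingleton.elim _ _⟩
  have := Groth.Agent.GrpEasyLib.surjective_whiskerLeft (Z := Gr) η[G₀] hunit
  let j : Gr ⟶ Gr ⊗ G₀ := (ρ_ Gr).inv ≫ (Gr ◁ η[G₀])
  have hj : Surjective j.left := by
    rw [Over.comp_left]; infer_instance
  have hj1 : j ≫ fst Gr G₀ = 𝟙 Gr := by simp [j]
  have hj2 : j ≫ snd Gr G₀ = (1 : Gr ⟶ G₀) := by
    simp [j, Hom.one_def]
  have hmπ : m ≫ π = fst Gr G₀ := by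
    refine eq_of_comp_eq j _ _ ?_
    rw [hm, ← Category.assoc, MonObj.comp_mul, ← Category.assoc, hj1, ← Category.assoc j, hj2,
      Category.id_comp, MonObj.one_comp, _root_.mul_one, hπ]
  have hmt : m ≫ t = snd Gr G₀ ≫ i₀ := by
    rw [MonObj.comp_mul, GrpObj.comp_inv, ← Category.assoc, hmπ, Category.comp_id, hm, inv_mul_cancel_left]
  refine ⟨⟨lift π l, ?_, ?_⟩⟩
  · change m ≫ lift π l = 𝟙 _
    rw [comp_lift, hmπ]
    have : m ≫ l = snd Gr G₀ := Over.OverMorphism.ext
      ((cancel_mono i₀.left).mp (congrArg Over.Hom.left (by rw [Category.assoc, hl, hmt] : (m ≫ l) ≫ i₀ = snd Gr G₀ ≫ i₀)))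
    rw [this, lift_fst_snd]
  · change lift π l ≫ m = 𝟙 _
    rw [hm, MonObj.comp_mul, lift_fst_assoc, lift_snd_assoc, hl]
    exact mul_inv_cancel_left _ _

end Groth.Agent.S14587
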