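import Groth.Statements.S14588
import Groth.Agent.GrpSchLib.Smooth
import Groth.Agent.S2259
-- import your own Groth.Agent.* helpers here

set_option autoImplicit false
universe u
open CategoryTheory MonoidalCategory CartesianMonoidalCategory MonObj GrpObj AlgebraicGeometry CategoryTheory.Limits
open AlgGrp

namespace Groth.Agent.S14588

/-- The image of the smooth locus is smooth. -/
theorem smooth_image {W X Y : Scheme.{u}} (j : W ⟶ X) [IsOpenImmersion j] (f : X ⟶ Y)
    [LocallyOfFinitePresentation f] : Smooth ((j ''ᵁ (j ≫ f).smoothLocus).ι ≫ f) := by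
  rw [← Scheme.Hom.smoothLocus_eq_top_iff, ← Scheme.Hom.preimage_smoothLocus_eq, ← Scheme.Hom.preimage_smoothLocus_eq,
    eq_top_iff]
  rintro ⟨x, z, hz, rfl⟩ -
  exact hz

/-- Let k be a field with algebraic closure K and G a k-group scheme locally of finite type. If the
local ring of G_K at its unit point is reduced, then G is smooth over k. -/
theorem result (k : Type u) [Field k]
    (G : Over (Spec (CommRingCat.of k))) [GrpObj G] [LocallyOfFiniteType G.hom]
    (t : ↥((𝟙_ (Over (Spec (CommRingCat.of (AlgebraicClosure k))))).left))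
    (h : _root_.IsReduced ↑((Red.bc (Spec.map (CommRingCat.ofHom (algebraMap k (AlgebraicClosure k)))) G).left.presheaf.stalk ((η[Red.bc (Spec.map (CommRingCat.ofHom (algebraMap k (AlgebraicClosure k)))) G]).left.base t))) :
    Smooth G.hom := by
  let g : Spec (CommRingCat.of (AlgebraicClosure k)) ⟶ Spec (CommRingCat.of k) :=
    Spec.map (CommRingCat.ofHom (algebraMap k (AlgebraicClosure k)))
  let Gb := Red.bc g G
  haveI : LocallyOfFiniteType Gb.hom := inferInstanceAs (LocallyOfFiniteType (pullback.snd G.hom g))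
  haveI : IsLocallyNoetherian Gb.left := LocallyOfFiniteType.isLocallyNoetherian Gb.hom
  haveI := h
  obtain ⟨U, hxU, hU⟩ := Groth.Agent.S2259.result Gb.left (η[Gb].left t)
  haveI := hU
  haveI : Nonempty U := ⟨⟨_, hxU⟩⟩
  obtain ⟨z, hz⟩ := (U.ι ≫ Gb.hom).dense_smoothLocus_of_perfectField.nonempty
  let V : Gb.left.Opens := U.ι ''ᵁ (U.ι ≫ Gb.hom).smoothLocus
  have hV : (V : Set Gb.left).Nonempty := ⟨U.ι z, z, hz, rfl⟩
  haveI : Smooth (V.ι ≫ Gb.hom) := smooth_image U.ι Gb.hom
  haveI : Smooth Gb.hom := GrpSchLib.smooth_of_smooth_open Gb V hV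
  exact MorphismProperty.of_pullback_snd_of_descendsAlong (Q := @Surjective ⊓ @Flat ⊓ @QuasiCompact) (g := g)
    ⟨⟨inferInstance, inferInstance⟩, inferInstance⟩ ‹Smooth Gb.hom›

end Groth.Agent.S14588
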