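import Groth.Statements.S1459
import Groth.Agent.RegSeqSlice.Scheme

set_option autoImplicit false
universe u
open FlatMor

namespace Groth.Agent.S1459

open AlgebraicGeometry CategoryTheory Limits in
/-- Let f : X → S be locally of finite presentation and flat at x with image s, and let h_1, …, h_r be
elements of O_{X,x} whose images in O_{X,x} / m_s O_{X,x} form a regular sequence. Then there are an
affine open U ∋ x and sections on U with these germs such that the closed subscheme Z of U they cut
out is a regular closed immersion whose image contains x, Z → S is flat and locally of finite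
presentation, and the base change of Z → U along any S' → S is again a regular closed immersion. -/
theorem result {X S : Scheme.{u}} (f : X ⟶ S) [LocallyOfFinitePresentation f] (x : X)
    (hflat : (f.stalkMap x).hom.Flat) (hs : List ↑(X.presheaf.stalk x))
    (hreg : RingTheory.Sequence.IsRegular (↑(X.presheaf.stalk x) ⧸ Ideal.map (f.stalkMap x).hom (IsLocalRing.maximalIdeal ↑(S.presheaf.stalk (f x))))
      (hs.map (Ideal.Quotient.mk (Ideal.map (f.stalkMap x).hom (IsLocalRing.maximalIdeal ↑(S.presheaf.stalk (f x))))))) :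
    ∃ (U : X.Opens) (hU : IsAffineOpen U) (hx : x ∈ U) (hs' : List Γ(X, U)), hs'.map (X.presheaf.germ U x hx) = hs ∧
      Mor2.IsRegularClosedImmersion (Spec.map (CommRingCat.ofHom (Ideal.Quotient.mk (Ideal.ofList hs'))) ≫ hU.isoSpec.inv) ∧
      x ∈ Set.range ⇑(Spec.map (CommRingCat.ofHom (Ideal.Quotient.mk (Ideal.ofList hs'))) ≫ hU.fromSpec) ∧
      Flat (Spec.map (CommRingCat.ofHom (Ideal.Quotient.mk (Ideal.ofList hs'))) ≫ hU.fromSpec ≫ f) ∧ LocallyOfFinitePresentation (Spec.map (CommRingCat.ofHom (Ideal.Quotient.mk (Ideal.ofList hs'))) ≫ hU.fromSpec ≫ f) ∧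
      ∀ (S' : Scheme.{u}) (g : S' ⟶ S), Mor2.IsRegularClosedImmersion
        (pullback.map (Spec.map (CommRingCat.ofHom (Ideal.Quotient.mk (Ideal.ofList hs'))) ≫ hU.isoSpec.inv ≫ U.ι ≫ f) g (U.ι ≫ f) g (Spec.map (CommRingCat.ofHom (Ideal.Quotient.mk (Ideal.ofList hs'))) ≫ hU.isoSpec.inv) (𝟙 S') (𝟙 S)
          (Category.comp_id _) ((Category.comp_id g).trans (Category.id_comp g).symm)) := by
  classical
  let h : Fin hs.length → X.presheaf.stalk x := hs.get
  have hof : List.ofFn h = hs := List.ofFn_get hs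
  set J := Ideal.map (f.stalkMap x).hom (IsLocalRing.maximalIdeal ↑(S.presheaf.stalk (f x)))
  have hm : ∀ i, h i ∈ IsLocalRing.maximalIdeal (X.presheaf.stalk x) := fun i hu => by
    refine hreg.top_ne_smul (top_unique fun z _ => ?_).symm
    rw [smul_eq_mul, Ideal.mul_top]
    have hmem : Ideal.Quotient.mk J (h i) ∈ Ideal.ofList (hs.map (Ideal.Quotient.mk J)) :=
      Ideal.subset_span (List.mem_map.2 ⟨h i, List.get_mem hs i, rfl⟩)
    rw [Ideal.eq_top_of_isUnit_mem _ hmem (hu.map _)]
    trivial
  obtain ⟨U, hU, hx, b, hb, -, h1, h2, h3, h4, h5⟩ := Groth.Agent.RegSeqSlice.exists_regular_slice f x hflat h hm (by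
    have h0 := hreg.toIsWeaklyRegular
    rw [← hof, List.map_ofFn] at h0
    exact h0)
  refine ⟨U, hU, hx, List.ofFn b, ?_, h1, h2, h3, h4, h5⟩
  rw [List.map_ofFn]
  exact (congrArg List.ofFn (funext hb)).trans hof

end Groth.Agent.S1459
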