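import Groth.Statements.S19655
import Groth.Agent.GrpExtLib.Dedekind
-- import your own Groth.Agent.* helpers here

set_option autoImplicit false
universe u
open CategoryTheory CategoryTheory.Limits MonoidalCategory CartesianMonoidalCategory AlgebraicGeometry
open Neron

namespace Groth.Agent.S19655

open MonoidalCategory CartesianMonoidalCategory MonObj
open Groth.Agent Groth.Agent.AVExtLib

set_option backward.isDefEq.respectTransparency false
set_option backward.isDefEq.respectTransparency.types false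

/-- Rational maps from smooth schemes over a field to proper groups are morphisms. -/
theorem existsUnique_rational {K : Type u} [Field K] (A : Over (Spec (CommRingCat.of K))) [GrpObj A] [IsProper A.hom]
    (Z : Scheme.{u}) (pZ : Z ⟶ Spec (CommRingCat.of K)) [Smooth pZ] (W : Z.Opens) (hW : Dense (W : Set Z))
    (g : (W : Scheme.{u}) ⟶ A.left) (hg : g ≫ A.hom = W.ι ≫ pZ) :
    ∃! h : Z ⟶ A.left, h ≫ A.hom = pZ ∧ W.ι ≫ h = g := by
  haveI : IsDedekindDomain K := inferInstance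
  haveI : IsLocallyNoetherian Z := LocallyOfFiniteType.isLocallyNoetherian pZ
  haveI : AlgebraicGeometry.IsReduced Z := ASp.isReduced_of_smooth pZ
  haveI : IsDominant W.ι := by
    rw [isDominant_iff, DenseRange]
    show Dense (Set.range _)
    rw [Scheme.Opens.range_ι]
    exact hW
  have hloc : ∀ z : Z, ∃ O : Z.Opens, z ∈ O ∧ IsAffineOpen O ∧ AlgebraicGeometry.IsIntegral (O : Scheme.{u}) := by
    intro z
    haveI := S11107.isRegularLocalRing_stalk pZ z
    haveI : IsDomain (Z.presheaf.stalk z) := RegLocal.isDomain _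
    obtain ⟨O₀, hz, hO₀⟩ := AffLim.exists_isIntegral_nhd (X := Z) z
    obtain ⟨O, hO, hzO, hle⟩ := exists_isAffineOpen_mem_and_subset (x := z) (U := O₀) hz
    haveI : Nonempty (O : Scheme.{u}) := ⟨⟨z, hzO⟩⟩
    exact ⟨O, hzO, hO, isIntegral_of_isOpenImmersion (Z.homOfLE hle)⟩
  choose O hzO hOa hOi using hloc
  have hext : ∀ z, ∃ h : (O z : Scheme.{u}) ⟶ A.left, h ≫ A.hom = (O z).ι ≫ pZ ∧
      ((O z).ι ⁻¹ᵁ W).ι ≫ h = ((O z).ι ∣_ W) ≫ g := by
    intro z
    haveI := hOi z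
    haveI : IsAffine (O z : Scheme.{u}) := hOa z
    let T : Over (Spec (CommRingCat.of K)) := Over.mk ((O z).ι ≫ pZ)
    haveI : Smooth T.hom := inferInstanceAs (Smooth ((O z).ι ≫ pZ))
    haveI : AlgebraicGeometry.IsIntegral T.left := hOi z
    haveI : IsSeparated T.hom := inferInstanceAs (IsSeparated ((O z).ι ≫ pZ))
    haveI : Smooth (T ⊗ T).hom := by
      haveI : Smooth (pullback.fst T.hom T.hom) := MorphismProperty.pullback_fst _ _ inferInstance
      exact inferInstanceAs (Smooth (pullback.fst T.hom T.hom ≫ T.hom))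
    haveI : IsLocallyNoetherian T.left := LocallyOfFiniteType.isLocallyNoetherian T.hom
    haveI : IsLocallyNoetherian (T ⊗ T).left := LocallyOfFiniteType.isLocallyNoetherian (T ⊗ T).hom
    let W' : T.left.Opens := (O z).ι ⁻¹ᵁ W
    have hW'ne : (W' : Set T.left).Nonempty := by
      obtain ⟨y, hy, hyW⟩ := hW.inter_open_nonempty (O z : Set Z) (O z).2 ⟨z, hzO z⟩
      exact ⟨⟨y, hy⟩, hyW⟩
    let f : (W' : Scheme.{u}) ⟶ A.left := ((O z).ι ∣_ W) ≫ g
    have hf : f ≫ A.hom = W'.ι ≫ T.hom := by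
      show (((O z).ι ∣_ W) ≫ g) ≫ A.hom = W'.ι ≫ (O z).ι ≫ pZ
      rw [Category.assoc, hg, morphismRestrict_ι_assoc]
    obtain ⟨U, hWU, v, hv, hvW, hU1⟩ := S11107.result T.hom A.hom W' (W'.2.dense hW'ne) f hf
    have hU1' : ∀ y, ringKrullDim (T.left.presheaf.stalk y) ≤ 1 → y ∈ U := fun y hy => by
      by_contra h
      exact absurd (le_trans (hU1 y h) hy) (by decide)
    obtain ⟨g', hg'⟩ := GrpExtLib.exists_extension (S11107.isRegularLocalRing_stalk T.hom)
      (S11107.isRegularLocalRing_stalk (T ⊗ T).hom) (hW'ne.mono hWU) (Over.homMk v hv : opn T U ⟶ A) hU1'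
      (fun O' t ht => by
        obtain ⟨t', h1, h2, h3⟩ := GrpExtLib.exists_generalization T.hom t
        exact ⟨t', ⟨h1.mem_open O'.2 ht, hU1' t' h3⟩, h2⟩)
    refine ⟨g'.left, Over.w g', ?_⟩
    have h1 : U.ι ≫ g'.left = v := congrArg CommaMorphism.left hg'
    show W'.ι ≫ g'.left = f
    rw [← hvW, ← h1, ← Category.assoc, T.left.homOfLE_ι]
  choose h hh hhW using hext
  let 𝒰 := Z.openCoverOfIsOpenCover O (eq_top_iff.2 fun t _ => TopologicalSpace.Opens.mem_iSup.2 ⟨t, hzO t⟩)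
  have key : ∀ {V : Scheme.{u}} (j : V ⟶ Z) [IsOpenImmersion j] (a b : V ⟶ A.left), a ≫ A.hom = j ≫ pZ →
      b ≫ A.hom = j ≫ pZ → (j ⁻¹ᵁ W).ι ≫ a = (j ⁻¹ᵁ W).ι ≫ b → a = b := by
    intro V j _ a b ha hb hab
    haveI : AlgebraicGeometry.IsReduced V := isReduced_of_isOpenImmersion j
    haveI : IsDominant (j ⁻¹ᵁ W).ι := by
      rw [isDominant_iff, DenseRange]
      show Dense (Set.range _)
      rw [Scheme.Opens.range_ι]
      exact hW.preimage j.isOpenMap
    exact ext_of_isDominant_of_isSeparated A.hom (ha.trans hb.symm) _ hab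
  have hglue : ∀ i j, pullback.fst (𝒰.f i) (𝒰.f j) ≫ h i = pullback.snd (𝒰.f i) (𝒰.f j) ≫ h j := by
    intro i j
    let m := pullback.fst (O i).ι (O j).ι ≫ (O i).ι
    have hm : pullback.snd (O i).ι (O j).ι ≫ (O j).ι = m := pullback.condition.symm
    refine key m _ _ (by rw [Category.assoc, hh, Category.assoc]; rfl)
      (by rw [Category.assoc, hh, ← reassoc_of% hm]; rfl) ?_
    have e : ∀ {V V' : Scheme.{u}} (q : V ⟶ V') (j' : V' ⟶ Z) (c : V ⟶ Z) (_ : q ≫ j' = c)
        (hV : c ⁻¹ᵁ W ≤ q ⁻¹ᵁ (j' ⁻¹ᵁ W)), (c ⁻¹ᵁ W).ι ≫ q = q.resLE (j' ⁻¹ᵁ W) (c ⁻¹ᵁ W) hV ≫ (j' ⁻¹ᵁ W).ι :=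
      fun q j' c _ hV => (Scheme.Hom.resLE_comp_ι q hV).symm
    have hV1 : m ⁻¹ᵁ W ≤ pullback.fst (O i).ι (O j).ι ⁻¹ᵁ ((O i).ι ⁻¹ᵁ W) := le_rfl
    have hV2 : m ⁻¹ᵁ W ≤ pullback.snd (O i).ι (O j).ι ⁻¹ᵁ ((O j).ι ⁻¹ᵁ W) := by
      rw [← Scheme.Hom.comp_preimage, hm]
    show (m ⁻¹ᵁ W).ι ≫ pullback.fst (O i).ι (O j).ι ≫ h i = (m ⁻¹ᵁ W).ι ≫ pullback.snd (O i).ι (O j).ι ≫ h j
    rw [← Category.assoc, ← Category.assoc, e _ _ m rfl hV1, e _ _ m hm hV2, Category.assoc, Category.assoc,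
      hhW, hhW, ← Category.assoc, ← Category.assoc]
    congr 1
    rw [← cancel_mono W.ι, Category.assoc, Category.assoc, morphismRestrict_ι, morphismRestrict_ι,
      Scheme.Hom.resLE_comp_ι_assoc, Scheme.Hom.resLE_comp_ι_assoc, hm]
  have hG : ∀ i, 𝒰.f i ≫ 𝒰.glueMorphisms h hglue = h i := fun i => 𝒰.ι_glueMorphisms h hglue i
  have hw : 𝒰.glueMorphisms h hglue ≫ A.hom = pZ := 𝒰.hom_ext _ _ fun i => by
    rw [← Category.assoc, hG]; exact hh i
  have hWg : W.ι ≫ 𝒰.glueMorphisms h hglue = g := by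
    refine Scheme.Cover.hom_ext (Z.openCoverOfIsOpenCover O
      (eq_top_iff.2 fun t _ => TopologicalSpace.Opens.mem_iSup.2 ⟨t, hzO t⟩) |>.pullback₁ W.ι) _ _ fun i => ?_
    let q : pullback W.ι (O i).ι ⟶ ((O i).ι ⁻¹ᵁ W : (O i).toScheme.Opens) :=
      IsOpenImmersion.lift ((O i).ι ⁻¹ᵁ W).ι (pullback.snd W.ι (O i).ι) (by
        rintro _ ⟨t, rfl⟩
        refine ⟨⟨pullback.snd W.ι (O i).ι t, ?_⟩, rfl⟩
        show (O i).ι (pullback.snd W.ι (O i).ι t) ∈ W
        rw [← Scheme.Hom.comp_apply, ← pullback.condition, Scheme.Hom.comp_apply]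
        exact (pullback.fst W.ι (O i).ι t).2)
    show pullback.fst W.ι (O i).ι ≫ W.ι ≫ _ = pullback.fst W.ι (O i).ι ≫ g
    rw [pullback.condition_assoc]
    show pullback.snd W.ι (O i).ι ≫ 𝒰.f i ≫ _ = _
    have hq : q ≫ ((O i).ι ⁻¹ᵁ W).ι = pullback.snd W.ι (O i).ι := IsOpenImmersion.lift_fac _ _ _
    rw [hG, ← hq, Category.assoc, hhW, ← Category.assoc]
    congr 1
    rw [← cancel_mono W.ι, Category.assoc, morphismRestrict_ι, ← Category.assoc, hq, pullback.condition]
  exact ⟨𝒰.glueMorphisms h hglue, ⟨hw, hWg⟩, fun h' hh' =>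
    ext_of_isDominant_of_isSeparated A.hom (hh'.1.trans hw.symm) W.ι (hh'.2.trans hWg.symm)⟩

/-- Let R be a Dedekind domain with fraction field K, A an abelian variety over K (a proper smooth
geometrically connected K-group scheme) and N a Néron model of A over Spec R. Then for every smooth
R-scheme Y, every K-morphism to A defined on a dense open subscheme of the generic fibre of Y is the
restriction of exactly one R-morphism Y → N: K-rational maps from smooth R-schemes to A extend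
uniquely to the Néron model. (The text works over a connected Dedekind scheme; the affine case is
stated.) -/
theorem result
    (R : Type u) [CommRing R] [IsDedekindDomain R]
    (N : Over (Spec (CommRingCat.of R))) (A : Over (Spec (CommRingCat.of (FractionRing R))))
    (e : (Neron.genericFibre R).obj N ≅ A) (hN : Neron.IsNeronModelOf R N A e)
    [GrpObj A] [IsProper A.hom] [Smooth A.hom] [GeometricallyConnected A.hom]
    (Y : Over (Spec (CommRingCat.of R))) [Smooth Y.hom]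
    (W : ((Neron.genericFibre R).obj Y).left.Opens) (hW : Dense (W : Set ↥((Neron.genericFibre R).obj Y).left))
    (g : (W : Scheme.{u}) ⟶ A.left) (hg : g ≫ A.hom = W.ι ≫ ((Neron.genericFibre R).obj Y).hom) :
    ∃! h : Y ⟶ N, W.ι ≫ ((Neron.genericFibre R).map h ≫ e.hom).left = g := by
  haveI : Smooth ((Neron.genericFibre R).obj Y).hom :=
    inferInstanceAs (Smooth (pullback.snd Y.hom _))
  obtain ⟨h₀, ⟨hh₀, hh₀W⟩, huniq⟩ := existsUnique_rational A ((Neron.genericFibre R).obj Y).left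
    ((Neron.genericFibre R).obj Y).hom W hW g hg
  obtain ⟨hNs, -, -, -, hbij⟩ := hN
  obtain ⟨h, hh, huni⟩ := (hbij Y inferInstance).existsUnique (Over.homMk h₀ hh₀)
  refine ⟨h, ?_, fun h' hh' => huni h' (Over.OverMorphism.ext ?_)⟩
  · show W.ι ≫ ((Neron.genericFibre R).map h ≫ e.hom).left = g
    rw [hh]
    exact hh₀W
  · exact huniq _ ⟨Over.w ((Neron.genericFibre R).map h' ≫ e.hom), hh'⟩

end Groth.Agent.S19655
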