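import Groth.Statements.S14595
import Groth.Agent.S14584
import Groth.Agent.S8709
import Groth.Agent.DSMapLib.Pts
import Groth.Agent.HomDesc.BaseChange
import Groth.Agent.MonoFibre.KernelFibre
import Groth.Agent.GeomRedDesc.Basic

set_option autoImplicit false
universe u
open CategoryTheory MonoidalCategory CartesianMonoidalCategory MonObj GrpObj AlgebraicGeometry CategoryTheory.Limits
open AlgGrp

namespace Groth.Agent.S14595

open CategoryTheory CategoryTheory.Limits AlgebraicGeometry

open Groth.Agent CategoryTheory.MonoidalCategory CategoryTheory.CartesianMonoidalCategory CategoryTheory.MonObj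
open Functor.LaxMonoidal Functor.OplaxMonoidal
set_option backward.isDefEq.respectTransparency false
set_option linter.style.haveILetI false
set_option maxHeartbeats 1000000
set_option synthInstance.maxHeartbeats 400000

noncomputable section

/-- A point of a diagonalisable group killed by every character is trivial. -/
theorem eq_one_of_chi {S : Scheme.{u}} {M : Type} [AddCommGroup M] {X : Over S} (v : X ⟶ Red.DS S M)
    (h : ∀ m : M, v ≫ Red.chi S m = 1) : v = 1 := by
  apply Over.OverMorphism.ext
  refine X.left.affineCover.hom_ext _ _ fun j => ?_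
  let w : Over.mk (X.left.affineCover.f j ≫ X.hom) ⟶ X := Over.homMk (X.left.affineCover.f j) rfl
  suffices hw : w ≫ v = w ≫ 1 from congrArg CommaMorphism.left hw
  rw [MonObj.comp_one]
  obtain ⟨χ, hχ⟩ := (DSMapLib.dsPt M (X.left.affineCover.f j ≫ X.hom)).surjective (w ≫ v)
  rw [← hχ, ← map_one (DSMapLib.dsPt M (X.left.affineCover.f j ≫ X.hom))]
  congr 1
  ext m
  have h1 : DSMapLib.dsPt M (X.left.affineCover.f j ≫ X.hom) χ ≫ Red.chi S m = 1 := by
    rw [hχ, Category.assoc, h, MonObj.comp_one]
  rw [Red.chi, DSMapLib.dsPt_comp, ← map_one (DSMapLib.dsPt ℤ (X.left.affineCover.f j ≫ X.hom))] at h1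
  simpa using DFunLike.congr_fun ((DSMapLib.dsPt ℤ _).injective h1) (Multiplicative.ofAdd (1 : ℤ))

/-- Rigidity for maps from a product into a split torus. -/
theorem eq_one_DS {k : Type u} [Field k] (M : Type) [AddCommGroup M] {X Y : Over (Spec (CommRingCat.of k))}
    [LocallyOfFiniteType X.hom] [QuasiCompact X.hom] [GeometricallyReduced X.hom] [GeometricallyConnected X.hom]
    [LocallyOfFiniteType Y.hom] [QuasiCompact Y.hom] [GeometricallyReduced Y.hom] [GeometricallyConnected Y.hom]
    (eX : 𝟙_ (Over (Spec (CommRingCat.of k))) ⟶ X) (eY : 𝟙_ (Over (Spec (CommRingCat.of k))) ⟶ Y)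
    (u : X ⊗ Y ⟶ Red.DS (Spec (CommRingCat.of k)) M)
    (huX : lift (𝟙 X) (toUnit X ≫ eY) ≫ u = 1) (huY : lift (toUnit Y ≫ eX) (𝟙 Y) ≫ u = 1) : u = 1 := by
  refine eq_one_of_chi u fun m => ?_
  haveI : IsMonHom (Red.chi (Spec (CommRingCat.of k)) m) := DSMapLib.isMonHom_DSmap _ _
  refine S8709.result k X Y eX eY _ ?_ ?_
  · rw [← Category.assoc, huX, MonObj.one_comp]
  · rw [← Category.assoc, huY, MonObj.one_comp]

/-- Sections stay sections after base change. -/
theorem map_lift_section {S S' : Scheme.{u}} (g : S' ⟶ S) {X Y : Over S} (eY : 𝟙_ (Over S) ⟶ Y) :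
    (Over.pullback g).map (lift (𝟙 X) (toUnit X ≫ eY)) =
      lift (𝟙 _) (toUnit _ ≫ Functor.LaxMonoidal.ε (Over.pullback g) ≫ (Over.pullback g).map eY) ≫
        Functor.LaxMonoidal.μ (Over.pullback g) X Y := by
  rw [← Functor.Monoidal.lift_μ]
  congr 1
  apply congrArg₂ lift
  · simp
  · rw [Functor.map_comp, ← Category.assoc]
    congr 1
    rw [← cancel_mono (Functor.Monoidal.εIso (Over.pullback g)).inv]
    exact toUnit_unique _ _

/-- The same on the other axis. -/
theorem map_lift_section' {S S' : Scheme.{u}} (g : S' ⟶ S) {X Y : Over S} (eX : 𝟙_ (Over S) ⟶ X) :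
    (Over.pullback g).map (lift (toUnit Y ≫ eX) (𝟙 Y)) =
      lift (toUnit _ ≫ Functor.LaxMonoidal.ε (Over.pullback g) ≫ (Over.pullback g).map eX) (𝟙 _) ≫
        Functor.LaxMonoidal.μ (Over.pullback g) X Y := by
  rw [← Functor.Monoidal.lift_μ]
  congr 1
  apply congrArg₂ lift
  · rw [Functor.map_comp, ← Category.assoc]
    congr 1
    rw [← cancel_mono (Functor.Monoidal.εIso (Over.pullback g)).inv]
    exact toUnit_unique _ _
  · simp

theorem geometricallyConnected_of_integral {X Y : Scheme.{u}} (f : X ⟶ Y) [GeometricallyIntegral f] :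
    GeometricallyConnected f := by
  refine ⟨fun K _ y Z a b h => ?_⟩
  haveI := GeometricallyIrreducible.geometrically_irreducibleSpace (f := f) y a b h
  infer_instance

/-- Split tori over a field are geometrically integral. -/
theorem geometricallyIntegral_DS (U : Scheme.{u}) (r : ℕ) : GeometricallyIntegral (Red.DS U (Fin r → ℤ)).hom := by
  haveI : GeometricallyIntegral (Red.diag (ULift.{u} ℤ) (Fin r → ℤ)).hom := by
    haveI : ObjectProperty.IsClosedUnderIsomorphisms (C := Scheme.{u}) (AlgebraicGeometry.IsIntegral ·) :=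
      ⟨fun e h => by
        haveI := h
        haveI : Nonempty _ := h.nonempty.map e.hom
        exact isIntegral_of_isOpenImmersion e.inv⟩
    refine ⟨?_⟩
    rw [geometrically_iff_of_isClosedUnderIsomorphisms]
    intro K _ y
    obtain ⟨φ, rfl⟩ := Spec.map_surjective y
    letI : Algebra (ULift.{u} ℤ) K := φ.hom.toAlgebra
    let i := pullbackSpecIso (ULift.{u} ℤ) (MonoidAlgebra (ULift.{u} ℤ) (Multiplicative (Fin r → ℤ))) K
    let e := ((Algebra.TensorProduct.comm (ULift.{u} ℤ) (MonoidAlgebra (ULift.{u} ℤ) (Multiplicative (Fin r → ℤ)))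
        K).toRingEquiv).trans
        (MonoidAlgebra.scalarTensorEquiv (ULift.{u} ℤ) K (M := Multiplicative (Fin r → ℤ))).toRingEquiv
    haveI : IsDomain (MonoidAlgebra K (Multiplicative (Fin r → ℤ))) := NoZeroDivisors.to_isDomain _
    haveI hd := (EquivLike.injective e).isDomain e.toRingHom
    exact ObjectProperty.prop_of_iso (AlgebraicGeometry.IsIntegral ·) i.symm (by infer_instance)
  exact MorphismProperty.pullback_snd (P := @GeometricallyIntegral) _ _ this

/-- A torus over a field splits over some field. -/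
theorem exists_split {k : Type u} [Field k] {T : Over (Spec (CommRingCat.of k))} [GrpObj T] (hT : Red.IsTorus T) :
    ∃ (K : Type u) (_ : Field K) (g : Spec (CommRingCat.of K) ⟶ Spec (CommRingCat.of k)) (r : ℕ),
      Nonempty (Grp.mk (Red.bc g T) ≅ Grp.mk (Red.DS (Spec (CommRingCat.of K)) (Fin r → ℤ))) := by
  obtain ⟨S', f, _, hsurj, -, hloc⟩ := hT
  obtain ⟨s', -⟩ := hsurj.1 (default : PrimeSpectrum k)
  obtain ⟨U, hsU, r, ⟨e⟩⟩ := hloc s'
  let K := U.toScheme.residueField ⟨s', hsU⟩
  let h : U.toScheme ⟶ Spec (CommRingCat.of k) := U.ι ≫ f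
  let p : Spec (CommRingCat.of K) ⟶ U.toScheme := U.toScheme.fromSpecResidueField ⟨s', hsU⟩
  exact ⟨K, inferInstance, p ≫ h, r, ⟨(HomDesc.bcGrpIso p h rfl T).symm ≪≫ (Over.pullback p).mapGrp.mapIso e ≪≫
    HomDesc.bcGrpIso p _ (specULiftZIsTerminal.hom_ext _ _) (Red.diag (ULift.{u} ℤ) (Fin r → ℤ))⟩⟩

/-- Tori over fields are geometrically integral. -/
theorem geometricallyIntegral_torus {k : Type u} [Field k] {T : Over (Spec (CommRingCat.of k))} [GrpObj T]
    (hT : Red.IsTorus T) : GeometricallyIntegral T.hom := by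
  obtain ⟨K, _, g, r, ⟨e₁⟩⟩ := exists_split hT
  haveI : Surjective g := ⟨fun _ => ⟨default, Subsingleton.elim (α := PrimeSpectrum k) _ _⟩⟩
  haveI : GeometricallyIntegral (pullback.snd T.hom g) :=
    FixedSmooth.hom_of_grpIso (A := Red.bc g T) e₁ @GeometricallyIntegral (geometricallyIntegral_DS _ r)
  exact GeomRedDesc.geometricallyIntegral_of_surjective T.hom g

/-- Rigidity for maps from a product into a torus. -/
theorem eq_one_torus {k : Type u} [Field k] {X Y T : Over (Spec (CommRingCat.of k))} [GrpObj T]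
    [LocallyOfFiniteType X.hom] [QuasiCompact X.hom] [GeometricallyReduced X.hom] [GeometricallyConnected X.hom]
    [LocallyOfFiniteType Y.hom] [QuasiCompact Y.hom] [GeometricallyReduced Y.hom] [GeometricallyConnected Y.hom]
    (hT : Red.IsTorus T) (eX : 𝟙_ (Over (Spec (CommRingCat.of k))) ⟶ X) (eY : 𝟙_ (Over (Spec (CommRingCat.of k))) ⟶ Y)
    (u : X ⊗ Y ⟶ T) (huX : lift (𝟙 X) (toUnit X ≫ eY) ≫ u = 1) (huY : lift (toUnit Y ≫ eX) (𝟙 Y) ≫ u = 1) :
    u = 1 := by
  obtain ⟨K, _, g, r, ⟨e₁⟩⟩ := exists_split hT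
  haveI : IsMonHom e₁.hom.hom.hom := e₁.hom.hom.isMonHom_hom
  haveI : LocallyOfFiniteType ((Over.pullback g).obj X).hom := MorphismProperty.pullback_snd _ _ inferInstance
  haveI : LocallyOfFiniteType ((Over.pullback g).obj Y).hom := MorphismProperty.pullback_snd _ _ inferInstance
  haveI : QuasiCompact ((Over.pullback g).obj X).hom := MorphismProperty.pullback_snd _ _ inferInstance
  haveI : QuasiCompact ((Over.pullback g).obj Y).hom := MorphismProperty.pullback_snd _ _ inferInstance
  haveI : GeometricallyReduced ((Over.pullback g).obj X).hom := MorphismProperty.pullback_snd _ _ inferInstance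
  haveI : GeometricallyReduced ((Over.pullback g).obj Y).hom := MorphismProperty.pullback_snd _ _ inferInstance
  haveI : GeometricallyConnected ((Over.pullback g).obj X).hom := MorphismProperty.pullback_snd _ _ inferInstance
  haveI : GeometricallyConnected ((Over.pullback g).obj Y).hom := MorphismProperty.pullback_snd _ _ inferInstance
  have h1 : (Functor.LaxMonoidal.μ (Over.pullback g) X Y ≫ (Over.pullback g).map u) ≫ e₁.hom.hom.hom = 1 := by
    refine eq_one_DS (Fin r → ℤ) (Functor.LaxMonoidal.ε (Over.pullback g) ≫ (Over.pullback g).map eX)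
      (Functor.LaxMonoidal.ε (Over.pullback g) ≫ (Over.pullback g).map eY) _ ?_ ?_
    · rw [← Category.assoc, ← Category.assoc, ← map_lift_section, ← Functor.map_comp, huX, Functor.map_one,
        MonObj.one_comp]
    · rw [← Category.assoc, ← Category.assoc, ← map_lift_section', ← Functor.map_comp, huY, Functor.map_one,
        MonObj.one_comp]
  have h2 : (Over.pullback g).map u = 1 := by
    haveI : IsIso e₁.hom.hom.hom :=
      ⟨e₁.inv.hom.hom, congrArg (fun f => f.hom.hom) e₁.hom_inv_id, congrArg (fun f => f.hom.hom) e₁.inv_hom_id⟩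
    rw [← cancel_mono e₁.hom.hom.hom, MonObj.one_comp, ← cancel_epi (Functor.LaxMonoidal.μ (Over.pullback g) X Y), MonObj.comp_one,
      ← Category.assoc, h1]
  rw [← Functor.map_one (Over.pullback g) (X := X ⊗ Y)] at h2
  haveI : Surjective g := ⟨fun _ => ⟨default, Subsingleton.elim (α := PrimeSpectrum k) _ _⟩⟩
  haveI : Flat g := inferInstance
  haveI : Flat (pullback.fst (X ⊗ Y).hom g) := MorphismProperty.pullback_fst _ _ inferInstance
  haveI : Surjective (pullback.fst (X ⊗ Y).hom g) := MorphismProperty.pullback_fst _ _ inferInstance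
  haveI : Epi (pullback.fst (X ⊗ Y).hom g) := Flat.epi_of_flat_of_surjective _
  apply Over.OverMorphism.ext
  rw [← cancel_epi (pullback.fst (X ⊗ Y).hom g)]
  have h3 := congrArg (fun m => m.left ≫ pullback.fst T.hom g) h2
  simp only [Over.pullback_map_left, pullback.lift_fst] at h3
  exact h3

/-- An extension of an abelian variety by a torus is geometrically connected and geometrically reduced. -/
theorem geometric_of_ext {k : Type u} [Field k] {T G A : Over (Spec (CommRingCat.of k))} [GrpObj T] [GrpObj G] [GrpObj A]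
    [LocallyOfFiniteType G.hom] [QuasiCompact G.hom] [LocallyOfFiniteType A.hom] [GeometricallyReduced A.hom]
    [ConnectedSpace ↥A.left] (i : T ⟶ G) (q : G ⟶ A) [IsMonHom q] [IsClosedImmersion i.left]
    [Flat q.left] [Surjective q.left] (hker : AlgGrp.IsKernel i q) (hT : Red.IsTorus T) :
    GeometricallyConnected G.hom ∧ GeometricallyReduced G.hom := by
  haveI := geometricallyIntegral_torus hT
  haveI : ConnectedSpace T.left := by
    haveI : Subsingleton ↥(Spec (CommRingCat.of k)) := inferInstanceAs (Subsingleton (PrimeSpectrum k))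
    haveI : IrreducibleSpace T.left := GeometricallyIrreducible.irreducibleSpace_of_subsingleton T.hom
    infer_instance
  haveI : LocallyOfFiniteType T.hom := by rw [← Over.w i]; infer_instance
  haveI := MonoFibre.KernelFibre.connectedSpace q i hker
  refine ⟨MonoFibre.geometricallyConnected_of_section G.hom η[G].left (Over.w η[G]), ⟨?_⟩⟩
  haveI : GeometricallyReduced (fst G T).left := MorphismProperty.of_isPullback (P := @GeometricallyReduced)
    (IsPullback.of_hasPullback G.hom T.hom).flip inferInstance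
  have sq := MonoFibre.KernelFibre.isPullback_torsor q i hker
  haveI : GeometricallyReduced (pullback.snd q.left q.left) := by
    rw [← sq.isoPullback_inv_snd]
    exact (MorphismProperty.cancel_left_of_respectsIso @GeometricallyReduced _ _).2 inferInstance
  haveI : GeometricallyReduced q.left := GeomRedDesc.geometricallyReduced_of_surjective q.left q.left
  rw [geometrically_iff_of_isClosedUnderIsomorphisms]
  intro L _ y
  haveI : IsReduced (pullback A.hom y) :=
    pullback_of_geometrically GeometricallyReduced.geometrically_isReduced L y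
  haveI : IsLocallyNoetherian (pullback A.hom y) := LocallyOfFiniteType.isLocallyNoetherian (pullback.snd A.hom y)
  haveI : IsReduced (pullback q.left (pullback.fst A.hom y)) := inferInstance
  exact ObjectProperty.prop_of_iso IsReduced
    (pullbackRightPullbackFstIso A.hom y q.left ≪≫ pullback.congrHom (Over.w q) rfl)
    (inferInstance : IsReduced (pullback q.left (pullback.fst A.hom y)))

/-- An extension of an abelian variety by a torus is commutative. -/
theorem comm_of_ext {k : Type u} [Field k] {T G A : Over (Spec (CommRingCat.of k))} [GrpObj T] [GrpObj G] [GrpObj A]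
    [LocallyOfFiniteType G.hom] [QuasiCompact G.hom] [LocallyOfFiniteType A.hom] [GeometricallyReduced A.hom]
    [ConnectedSpace ↥A.left] [IsCommMonObj A] (i : T ⟶ G) (q : G ⟶ A) [IsMonHom i] [IsMonHom q]
    [IsClosedImmersion i.left]
    [Flat q.left] [Surjective q.left] (hker : AlgGrp.IsKernel i q) (hT : Red.IsTorus T)
    {Z : Over (Spec (CommRingCat.of k))} (a b : Z ⟶ G) : a * b = b * a := by
  haveI := (geometric_of_ext i q hker hT).1
  haveI := (geometric_of_ext i q hker hT).2
  haveI : Mono i := by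
    haveI : Mono i.left := inferInstance
    exact (Over.forget _).mono_of_mono_map this
  have hF : (fst G G * snd G G * (fst G G)⁻¹ * (snd G G)⁻¹) ≫ q = 1 := by
    letI : CommGroup (G ⊗ G ⟶ A) := Hom.commGroup
    rw [MonObj.mul_comp, MonObj.mul_comp, MonObj.mul_comp, GrpObj.inv_comp, GrpObj.inv_comp,
      mul_inv_cancel_comm, mul_inv_cancel]
  let v : G ⊗ G ⟶ T := hker.lift _ (toUnit _) (hF.trans Hom.one_def)
  have hv : v ≫ i = fst G G * snd G G * (fst G G)⁻¹ * (snd G G)⁻¹ := hker.lift_fst _ _ _
  have h1 : v = 1 := by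
    refine eq_one_torus hT η[G] η[G] v ?_ ?_
    · rw [← cancel_mono i, Category.assoc, hv, MonObj.one_comp, MonObj.comp_mul, MonObj.comp_mul, MonObj.comp_mul,
        GrpObj.comp_inv, GrpObj.comp_inv, lift_fst, lift_snd, ← Hom.one_def, _root_.mul_one, _root_.inv_one,
        _root_.mul_one, mul_inv_cancel]
    · rw [← cancel_mono i, Category.assoc, hv, MonObj.one_comp, MonObj.comp_mul, MonObj.comp_mul, MonObj.comp_mul,
        GrpObj.comp_inv, GrpObj.comp_inv, lift_fst, lift_snd, ← Hom.one_def, _root_.one_mul, _root_.inv_one,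
        _root_.mul_one, mul_inv_cancel]
  rw [h1, MonObj.one_comp] at hv
  have h2 := congrArg (lift a b ≫ ·) hv
  simp only [MonObj.comp_one, MonObj.comp_mul, GrpObj.comp_inv, lift_fst, lift_snd] at h2
  rw [eq_mul_inv_iff_mul_eq, eq_mul_inv_iff_mul_eq, _root_.one_mul] at h2
  exact h2.symm

end

/-- Let k be a field, X and Y varieties over k (separated, geometrically integral, of finite type) with
rational points x₀, y₀, G a semi-abelian variety (an extension of a proper smooth connected k-group
scheme by a torus) and f : X × Y → G a k-morphism. Then f(x, y) f(x, y₀)⁻¹ f(x₀, y)⁻¹ f(x₀, y₀) = e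
identically, in the group of morphisms X × Y → G. -/
theorem result (k : Type u) [Field k]
    (X Y G : Over (Spec (CommRingCat.of k)))
    [LocallyOfFiniteType X.hom] [QuasiCompact X.hom] [IsSeparated X.hom] [GeometricallyIntegral X.hom]
    [LocallyOfFiniteType Y.hom] [QuasiCompact Y.hom] [IsSeparated Y.hom] [GeometricallyIntegral Y.hom]
    [GrpObj G] [LocallyOfFiniteType G.hom] [QuasiCompact G.hom] (hG : (∃ (T : Over (Spec (CommRingCat.of k))) (_ : GrpObj T) (i : T ⟶ G) (A : Over (Spec (CommRingCat.of k))) (_ : GrpObj A) (q : G ⟶ A),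
        IsMonHom i ∧ IsClosedImmersion i.left ∧ Red.IsTorus T ∧ IsMonHom q ∧ Surjective q.left ∧ Flat q.left ∧
        AlgGrp.IsKernel i q ∧ IsProper A.hom ∧ Smooth A.hom ∧ ConnectedSpace ↥A.left))
    (x₀ : 𝟙_ (Over (Spec (CommRingCat.of k))) ⟶ X) (y₀ : 𝟙_ (Over (Spec (CommRingCat.of k))) ⟶ Y) (f : X ⊗ Y ⟶ G) :
    f * (fst X Y ≫ lift (𝟙 X) (toUnit X ≫ y₀) ≫ f)⁻¹ * (snd X Y ≫ lift (toUnit Y ≫ x₀) (𝟙 Y) ≫ f)⁻¹ *
      (toUnit (X ⊗ Y) ≫ lift x₀ y₀ ≫ f) = 1 := by
  obtain ⟨T, _, i, A, _, q, hi, hcl, hT, hq, hqs, hqf, hker, hAp, hAs, hAc⟩ := hG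
  haveI := hqs; haveI := hqf; haveI := hi; haveI := hcl; haveI := hq; haveI := hAp; haveI := hAs; haveI := hAc
  haveI : GeometricallyReduced A.hom := AVLib.geometricallyReduced_of_smooth A.hom
  haveI : GeometricallyIntegral A.hom := AVLib.geometricallyIntegral_of_connectedSpace
  haveI := isCommMonObj_of_isProper_of_geometricallyIntegral A
  set F := f * (fst X Y ≫ lift (𝟙 X) (toUnit X ≫ y₀) ≫ f)⁻¹ * (snd X Y ≫ lift (toUnit Y ≫ x₀) (𝟙 Y) ≫ f)⁻¹ *
      (toUnit (X ⊗ Y) ≫ lift x₀ y₀ ≫ f) with hF
  have hq1 : F ≫ q = 1 := by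
    letI : CommGroup (X ⊗ Y ⟶ A) := Hom.commGroup
    have h := S14584.result k X Y A x₀ y₀ (f ≫ q)
    simp only [hF, MonObj.mul_comp, GrpObj.inv_comp, Category.assoc] at h ⊢
    generalize fst X Y ≫ lift (𝟙 X) (toUnit X ≫ y₀) ≫ f ≫ q = b at h ⊢
    generalize snd X Y ≫ lift (toUnit Y ≫ x₀) (𝟙 Y) ≫ f ≫ q = c at h ⊢
    generalize toUnit (X ⊗ Y) ≫ lift x₀ y₀ ≫ f ≫ q = a at h ⊢
    rw [h, mul_inv_cancel_right, mul_inv_cancel_right, inv_mul_cancel]
  let v : X ⊗ Y ⟶ T := hker.lift F (toUnit _) (by
    rw [hq1, Hom.one_def])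
  have hv : v ≫ i = F := hker.lift_fst _ _ _
  haveI : Mono i := by
    haveI : Mono i.left := inferInstance
    exact (Over.forget _).mono_of_mono_map this
  haveI := geometricallyConnected_of_integral X.hom
  haveI := geometricallyConnected_of_integral Y.hom
  have h1 : v = 1 := by
    refine eq_one_torus hT x₀ y₀ v ?_ ?_
    · rw [← cancel_mono i, Category.assoc, hv, MonObj.one_comp, hF]
      simp only [MonObj.comp_mul, GrpObj.comp_inv]
      simp only [← Category.assoc, comp_lift, lift_fst, lift_snd, Category.comp_id]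
      simp only [toUnit_unique (lift (𝟙 X) (toUnit X ≫ y₀) ≫ toUnit (X ⊗ Y)) (toUnit X),
        toUnit_unique ((toUnit X ≫ y₀) ≫ toUnit Y) (toUnit X), Category.id_comp]
      group
    · rw [← cancel_mono i, Category.assoc, hv, MonObj.one_comp, hF]
      simp only [MonObj.comp_mul, GrpObj.comp_inv]
      simp only [← Category.assoc, comp_lift, lift_fst, lift_snd, Category.comp_id]
      simp only [toUnit_unique (lift (toUnit Y ≫ x₀) (𝟙 Y) ≫ toUnit (X ⊗ Y)) (toUnit Y),
        toUnit_unique ((toUnit Y ≫ x₀) ≫ toUnit X) (toUnit Y), Category.id_comp]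
      rw [comm_of_ext i q hker hT _ (_)⁻¹]
      group
  rw [← hv, h1, MonObj.one_comp]

end Groth.Agent.S14595
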