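import Groth.Statements.S14596
import Groth.Agent.GrpPtsLib.DiscreteQuot
-- import your own Groth.Agent.* helpers here

set_option autoImplicit false
set_option backward.isDefEq.respectTransparency false
set_option backward.isDefEq.respectTransparency false
universe u
open CategoryTheory MonoidalCategory CartesianMonoidalCategory MonObj GrpObj AlgebraicGeometry CategoryTheory.Limits
open AlgGrp

namespace Groth.Agent.S14596

/-- Let k be a perfect field, G a k-group scheme of finite type and r₀ : G⁰_red → G the reduced neutral
component of G, i.e. a homomorphism and closed immersion from a reduced k-group scheme whose image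
is the connected component of the identity. Then the homogeneous space G/G⁰_red is finite, and
G⁰_red is the smallest closed subgroup scheme H of G such that G/H is finite: every such H contains
G⁰_red. -/
theorem result (k : Type u) [Field k] [PerfectField k]
    (G G₀ : Over (Spec (CommRingCat.of k))) [GrpObj G] [GrpObj G₀] [LocallyOfFiniteType G.hom] [QuasiCompact G.hom]
    [LocallyOfFiniteType G₀.hom] [QuasiCompact G₀.hom]
    (r₀ : G₀ ⟶ G) [IsMonHom r₀] [IsClosedImmersion r₀.left] [IsReduced G₀.left] (t : ↥((𝟙_ (Over (Spec (CommRingCat.of k)))).left))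
    (hr₀ : Set.range ⇑r₀.left.base = connectedComponent ((η[G]).left.base t)) :
    (∀ (X : Over (Spec (CommRingCat.of k))) (a : AlgGrp.Action G X) (o : 𝟙_ (Over (Spec (CommRingCat.of k))) ⟶ X), AGF.IsQuotient r₀ X a o → IsFinite X.hom) ∧
    ∀ (H : Over (Spec (CommRingCat.of k))) [GrpObj H] (h : H ⟶ G) [IsMonHom h] [IsClosedImmersion h.left]
      (X : Over (Spec (CommRingCat.of k))) (a : AlgGrp.Action G X) (o : 𝟙_ (Over (Spec (CommRingCat.of k))) ⟶ X),
      AGF.IsQuotient h X a o → IsFinite X.hom → ∃ g : G₀ ⟶ H, g ≫ h = r₀ := by
  haveI : IsLocallyNoetherian G.left := LocallyOfFiniteType.isLocallyNoetherian G.hom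
  refine ⟨fun X a o hX => Groth.Agent.GrpPtsLib.isFinite_of_isOpen_range r₀ a o hX ?_, ?_⟩
  · show IsOpen (Set.range ⇑r₀.left.base)
    rw [hr₀]
    exact Groth.Agent.ArtGrpLib.isOpen_connectedComponent _
  · intro H _ h _ _ X a o hX _
    haveI : ConnectedSpace G₀.left := by
      haveI : Nonempty G₀.left := ⟨η[G₀].left t⟩
      haveI : PreconnectedSpace G₀.left := by
        refine ⟨r₀.left.isEmbedding.isInducing.isPreconnected_image.1 ?_⟩
        rw [Set.image_univ]
        show _root_.IsPreconnected (Set.range ⇑r₀.left.base)
        rw [hr₀]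
        exact isPreconnected_connectedComponent
      exact ⟨inferInstance⟩
    exact Groth.Agent.GrpPtsLib.factor_of_isFinite h r₀ a o hX

end Groth.Agent.S14596
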