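import Groth.Statements.S14599
import Groth.Agent.AlbQuotLib.Basic

set_option autoImplicit false
set_option backward.isDefEq.respectTransparency false
universe u
open CategoryTheory MonoidalCategory CartesianMonoidalCategory MonObj GrpObj AlgebraicGeometry CategoryTheory.Limits
open AlgGrp

namespace Groth.Agent.S14599

/-- Let k be a field and G a smooth connected k-group scheme of finite type. Then G has a smallest
normal subgroup scheme N whose quotient is an abelian variety, N is connected, and the quotient
homomorphism α : G → G/N is universal: there are a connected closed normal subgroup scheme i : N →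
G, a proper smooth connected k-group scheme A and a flat surjective homomorphism α : G → A with
kernel N such that every k-morphism from G to a proper smooth connected k-group scheme sending e to
e factors uniquely through α, and every flat surjective homomorphism from G onto a proper smooth
connected k-group scheme kills N. -/
theorem result (k : Type u) [Field k]
    (G : Over (Spec (CommRingCat.of k))) [GrpObj G] [Smooth G.hom] [QuasiCompact G.hom] [ConnectedSpace ↥G.left] :
    ∃ (N : Over (Spec (CommRingCat.of k))) (_ : GrpObj N) (i : N ⟶ G) (A : Over (Spec (CommRingCat.of k))) (_ : GrpObj A) (α : G ⟶ A),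
      IsMonHom i ∧ IsClosedImmersion i.left ∧ AlgGrp.IsNormalHom i ∧ ConnectedSpace ↥N.left ∧
      IsProper A.hom ∧ Smooth A.hom ∧ ConnectedSpace ↥A.left ∧ IsMonHom α ∧ Surjective α.left ∧ Flat α.left ∧
      AlgGrp.IsKernel i α ∧
      (∀ (B : Over (Spec (CommRingCat.of k))) [GrpObj B] [IsProper B.hom] [Smooth B.hom] [ConnectedSpace ↥B.left] (f : G ⟶ B),
        η[G] ≫ f = η[B] → ∃! g : A ⟶ B, α ≫ g = f) ∧
      (∀ (B : Over (Spec (CommRingCat.of k))) [GrpObj B] [IsProper B.hom] [Smooth B.hom] [ConnectedSpace ↥B.left] (q : G ⟶ B)
        [IsMonHom q] [Surjective q.left] [Flat q.left], i ≫ q = 1) := by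
  haveI : GeometricallyConnected G.hom := MonoFibre.geometricallyConnected_of_section G.hom η[G].left (Over.w η[G])
  haveI : GeometricallyIntegral G.hom := AVLib.geometricallyIntegral_of_smooth G
  haveI : IsSeparated G.hom := GrpSchLib.isSeparated_hom
  obtain ⟨N, hN, i, A, hA, α, him, hic, hin, hcon, hAp, hAs, hAc, hαm, hαs, hαf, hk, hkill⟩ :=
    AlbQuotLib.exists_albanese G
  letI := hN; letI := hA
  haveI := hαm; haveI := hαs; haveI := hαf; haveI := hAp
  refine ⟨N, hN, i, A, hA, α, him, hic, hin, hcon, hAp, hAs, hAc, hαm, hαs, hαf, hk, ?_,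
    fun B _ _ _ _ q _ _ _ => hkill B q⟩
  intro B _ _ _ _ f hf
  haveI : GeometricallyConnected B.hom := MonoFibre.geometricallyConnected_of_section B.hom η[B].left (Over.w η[B])
  haveI : GeometricallyIntegral B.hom := AVLib.geometricallyIntegral_of_smooth B
  haveI : IsMonHom f := S11994.result k G B f hf
  haveI : QuasiCompact α.left := by
    haveI : QuasiCompact (α.left ≫ A.hom) := by rw [Over.w α]; infer_instance
    exact QuasiCompact.of_comp α.left A.hom
  haveI := SchDesc.IsFpqc.of_quasiCompact α.left
  haveI := GrpQuotLib.epi_of_isFpqc α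
  obtain ⟨g, hg⟩ := GrpQuotLib.exists_desc α f (fun T a b hab => by
    have hz : (a⁻¹ * b) ≫ α = toUnit T ≫ η[A] := by
      rw [MonObj.mul_comp, GrpObj.inv_comp, hab, inv_mul_cancel, Hom.one_def]
    have := congrArg (· ≫ f) (hk.lift_fst _ _ hz)
    simp only [Category.assoc, hkill B f, MonObj.comp_one, MonObj.mul_comp, GrpObj.inv_comp] at this
    exact inv_mul_eq_one.1 this.symm)
  exact ⟨g, hg, fun g' hg' => (cancel_epi α).1 (hg'.trans hg.symm)⟩

end Groth.Agent.S14599
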