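import Groth.Statements.S1460
import Groth.Agent.FPModelLib.ZModel
-- import your own Groth.Agent.* helpers here

set_option autoImplicit false
universe u
open FlatMor

namespace Groth.Agent.S1460

open AlgebraicGeometry CategoryTheory Limits in
/-- Let f : X → S be a morphism of finite presentation between affine schemes. Then f is the base change
of a morphism of finite type f₀ : X₀ → S₀ between affine schemes with S₀ of finite type over ℤ. -/
theorem result {X S : Scheme.{u}} (f : X ⟶ S) [IsAffine X] [IsAffine S] [LocallyOfFinitePresentation f] :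
    ∃ (X₀ S₀ : Scheme.{u}) (f₀ : X₀ ⟶ S₀) (g : S ⟶ S₀) (g' : X ⟶ X₀), IsAffine X₀ ∧ IsAffine S₀ ∧ IsPullback g' f f₀ g ∧
      Algebra.FiniteType ℤ Γ(S₀, ⊤) ∧ LocallyOfFiniteType f₀ := by
  obtain ⟨i, X₀, f₀, q, hX₀, hfp, hsq⟩ := Groth.Agent.FPModelLib.exists_affine_zmodel f
  exact ⟨X₀, _, f₀, Groth.Agent.FPModelLib.zπ S i, q, hX₀, inferInstance, hsq,
    Groth.Agent.FPModelLib.finiteType_Γ_zSys _ i, inferInstance⟩

end Groth.Agent.S1460
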