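import Groth.Statements.S14606
import Mathlib
open TensorProduct

set_option autoImplicit false
universe u
open FrobAlg

namespace Groth.Agent.S14606

/-- Let k be a field of characteristic p > 0 and R a finitely generated commutative k-algebra. The
scheme-theoretic image of the n-th relative Frobenius morphism of Spec R is the spectrum of the
k-subalgebra k[R^(p^n)] generated by all p^n-th powers; for n large enough this image is
geometrically reduced: there is an n such that k[R^(p^n)] is a geometrically reduced k-algebra.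
(Stated in affine, ring-theoretic form.) -/
theorem result (k : Type u) [Field k] (p : ℕ) [Fact p.Prime] [CharP k p]
    (R : Type u) [CommRing R] [Algebra k R] [Algebra.FiniteType k R] :
    ∃ n : ℕ, Algebra.IsGeometricallyReduced k ↥(Algebra.adjoin k (Set.range (fun x : R => x ^ (p ^ n)))) := by
  classical
  let K := AlgebraicClosure k
  let T := K ⊗[k] R
  haveI : IsNoetherianRing T := Algebra.FiniteType.isNoetherianRing K T
  obtain ⟨m, hm⟩ := IsNoetherianRing.isNilpotent_nilradical T
  obtain ⟨n, hn⟩ : ∃ n, m ≤ p ^ n := ⟨m, (Nat.lt_pow_self (Fact.out : p.Prime).one_lt).le⟩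
  refine ⟨n, (Algebra.isGeometricallyReduced_field_iff _ _).2 ⟨?_⟩⟩
  set A := Algebra.adjoin k (Set.range fun x : R => x ^ (p ^ n))
  intro z hz
  let φ : K ⊗[k] A →ₐ[K] T := Algebra.TensorProduct.map (AlgHom.id K K) A.val
  have hφ : Function.Injective φ :=
    Module.Flat.lTensor_preserves_injective_linearMap (M := K) A.val.toLinearMap Subtype.val_injective
  refine hφ ?_
  rw [map_zero]
  rcases subsingleton_or_nontrivial T with hT | hT
  · exact Subsingleton.elim _ _
  have hchar : CharP T p := charP_of_injective_algebraMap (algebraMap K T).injective p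
  have hpow : ∀ z, ∃ w : T, φ z = w ^ (p ^ n) := by
    intro z
    induction z using TensorProduct.induction_on with
    | zero => exact ⟨0, by rw [map_zero, zero_pow (pow_ne_zero _ (Fact.out : p.Prime).ne_zero)]⟩
    | add a b ha hb =>
      obtain ⟨u, hu⟩ := ha
      obtain ⟨v, hv⟩ := hb
      exact ⟨u + v, by rw [map_add, hu, hv, add_pow_char_pow]⟩
    | tmul c a =>
      obtain ⟨a, ha⟩ := a
      obtain ⟨c', hc'⟩ := IsAlgClosed.exists_pow_nat_eq c (pow_pos (Fact.out : p.Prime).pos n)
      suffices h : ∃ w : T, (1 : K) ⊗ₜ[k] a = w ^ (p ^ n) by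
        obtain ⟨w, hw⟩ := h
        refine ⟨(c' ⊗ₜ[k] (1 : R)) * w, ?_⟩
        rw [mul_pow, ← hw, Algebra.TensorProduct.tmul_pow, one_pow, Algebra.TensorProduct.tmul_mul_tmul,
          hc', mul_one, one_mul]
        rfl
      induction ha using Algebra.adjoin_induction with
      | mem x hx =>
        obtain ⟨r, rfl⟩ := hx
        exact ⟨(1 : K) ⊗ₜ[k] r, by rw [Algebra.TensorProduct.tmul_pow, one_pow]⟩
      | algebraMap r =>
        obtain ⟨r', hr'⟩ := IsAlgClosed.exists_pow_nat_eq (algebraMap k K r) (pow_pos (Fact.out : p.Prime).pos n)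
        refine ⟨r' ⊗ₜ[k] (1 : R), ?_⟩
        rw [Algebra.TensorProduct.tmul_pow, one_pow, hr', Algebra.algebraMap_eq_smul_one,
          Algebra.algebraMap_eq_smul_one, smul_tmul]
      | add x y _ _ hx hy =>
        obtain ⟨u, hu⟩ := hx
        obtain ⟨v, hv⟩ := hy
        exact ⟨u + v, by rw [tmul_add, hu, hv, add_pow_char_pow]⟩
      | mul x y _ _ hx hy =>
        obtain ⟨u, hu⟩ := hx
        obtain ⟨v, hv⟩ := hy
        exact ⟨u * v, by rw [mul_pow, ← hu, ← hv, Algebra.TensorProduct.tmul_mul_tmul, one_mul]⟩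
  obtain ⟨w, hw⟩ := hpow z
  have hwn : IsNilpotent w := by
    have : IsNilpotent (w ^ (p ^ n)) := hw ▸ hz.map φ
    obtain ⟨j, hj⟩ := this
    exact ⟨p ^ n * j, by rw [pow_mul, hj]⟩
  rw [hw]
  refine pow_eq_zero_of_le hn ?_
  have := Ideal.pow_mem_pow (mem_nilradical.2 hwn) m
  rwa [hm] at this

end Groth.Agent.S14606
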