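import Groth.Statements.S14607
import Groth.Agent.PicA1Lib.Main

set_option autoImplicit false
set_option linter.all false
universe u
open CategoryTheory AlgebraicGeometry CategoryTheory.Limits
open PicF

namespace Groth.Agent.S14607

/-- Let k be a field and X an integral, separated k-scheme of finite type which is seminormal, in the
sense that every point has an affine open neighbourhood whose ring of functions is seminormal (x³ =
y² implies x = a² and y = a³ for exactly one a). Then the pull-back along the first projection X ×
A¹ → X induces a bijection from the isomorphism classes of invertible O_X-modules onto those of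
invertible modules on X × A¹, i.e. Pic(X) → Pic(X × A¹) is an isomorphism. (This is the assertion
established in the course of the published proof, which deduces from it that the Picard variety of a
geometrically semi-normal proper variety is semi-abelian; semi-normality is taken in the
ring-theoretic form used by the cited input on Picard groups of polynomial rings.) -/
theorem result (k : Type u) [Field k]
    (X : Scheme.{u}) (f : X ⟶ Spec (CommRingCat.of k)) [IsIntegral X] [IsSeparated f] [LocallyOfFiniteType f] [QuasiCompact f]
    (hX : HTop.IsSeminormal X) :
    Set.BijOn (PicF.pullCl (pullback.fst f (𝔸(PUnit.{u + 1}; Spec (CommRingCat.of k)) ↘ Spec (CommRingCat.of k))))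
      {c : PicF.Cl X | PicF.IsInvertibleCl c}
      {c : PicF.Cl (pullback f (𝔸(PUnit.{u + 1}; Spec (CommRingCat.of k)) ↘ Spec (CommRingCat.of k))) | PicF.IsInvertibleCl c} := by
  let p := 𝔸(PUnit.{u + 1}; Spec (CommRingCat.of k)) ↘ Spec (CommRingCat.of k)
  let g := pullback.fst f p
  haveI : IsLocallyNoetherian X := LocallyOfFiniteType.isLocallyNoetherian f
  haveI : IsAffineHom p := inferInstanceAs (IsAffineHom (𝔸(PUnit.{u + 1}; Spec (CommRingCat.of k)) ↘ Spec (CommRingCat.of k)))
  haveI : IsAffineHom g := MorphismProperty.IsStableUnderBaseChange.of_isPullback (IsPullback.of_hasPullback f p).flip ‹_›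
  haveI : LocallyOfFiniteType g := inferInstance
  haveI : IsLocallyNoetherian (pullback f p) := LocallyOfFiniteType.isLocallyNoetherian g
  have h := (AffineSpace.isPullback_map (n := PUnit.{u + 1}) f).flip
  exact PicA1Lib.bijOn_pullCl g h.isoPullback.symm h.isoPullback_inv_fst hX

end Groth.Agent.S14607
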