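import Mathlib
import Groth.Statements.S14608
-- import your own Groth.Agent.* helpers here

set_option autoImplicit false
universe u v
open CAlg

namespace Groth.Agent.S14608

open TensorProduct LinearMap

variable {A R : Type u} [CommRing A] [CommRing R] [Algebra A R]
  {κ : Type u} [CommRing κ] [Algebra A κ] [Algebra R κ] [IsScalarTower A R κ]

theorem lTensor_baseChange_injective_iff {X Y : Type v} [AddCommGroup X] [Module A X]
    [AddCommGroup Y] [Module A Y] (f : X →ₗ[A] Y) :
    Function.Injective (lTensor κ (f.baseChange R)) ↔ Function.Injective (lTensor κ f) := by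
  let eX := AlgebraTensorModule.cancelBaseChange A R κ κ X
  let eY := AlgebraTensorModule.cancelBaseChange A R κ κ Y
  have h : ∀ z : κ ⊗[R] (R ⊗[A] X), eY (lTensor κ (f.baseChange R) z) = lTensor κ f (eX z) := by
    intro z
    induction z with
    | zero => simp
    | add a b ha hb => simp only [map_add, ha, hb]
    | tmul c w =>
      induction w with
      | zero => simp
      | add a b ha hb => simp only [tmul_add, map_add, ha, hb]
      | tmul a x => simp [eX, eY]
  constructor
  · intro hf a b hab
    obtain ⟨a, rfl⟩ := eX.surjective a
    obtain ⟨b, rfl⟩ := eX.surjective b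
    rw [← h, ← h] at hab
    rw [hf (eY.injective hab)]
  · intro hf a b hab
    apply eX.injective
    apply hf
    rw [← h, ← h, hab]

theorem injective_lTensor_of_retraction {S : Type u} [CommRing S] {Q : Type u} [AddCommGroup Q]
    [Module S Q] {X Y : Type*} [AddCommGroup X] [Module S X] [AddCommGroup Y] [Module S Y]
    (f : X →ₗ[S] Y) (l : Y →ₗ[S] X) (h : l ∘ₗ f = LinearMap.id) :
    Function.Injective (lTensor Q f) := by
  have : l.lTensor Q ∘ₗ f.lTensor Q = .id := by rw [← lTensor_comp, h, lTensor_id]
  exact Function.HasLeftInverse.injective ⟨_, LinearMap.congr_fun this⟩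

variable [IsLocalRing R] [Module.Flat A R] [IsNoetherianRing A]

/-- split short exact sequences of base changes -/
theorem baseChange_split {X Y Z : Type v} [AddCommGroup X] [Module A X]
    [AddCommGroup Y] [Module A Y] [AddCommGroup Z] [Module A Z]
    (f : X →ₗ[A] Y) (g : Y →ₗ[A] Z) (hf : Function.Injective f) (hg : Function.Surjective g)
    (hfg : Function.Exact f g) [Module.Projective R (R ⊗[A] Z)] :
    ∃ l, l ∘ₗ f.baseChange R = LinearMap.id := by
  have hi : Function.Injective (f.baseChange R) := by
    rw [baseChange_eq_ltensor]; exact Module.Flat.lTensor_preserves_injective_linearMap f hf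
  have hs : Function.Surjective (g.baseChange R) := by
    rw [baseChange_eq_ltensor]; exact LinearMap.lTensor_surjective R hg
  have he : Function.Exact (f.baseChange R) (g.baseChange R) := by
    rw [baseChange_eq_ltensor, baseChange_eq_ltensor]; exact lTensor_exact R hfg hg
  exact ((he.split_tfae' ).out 0 1 rfl rfl).mp
    ⟨hi, Module.projective_lifting_property _ LinearMap.id hs⟩ |>.2

theorem main_aux (M F : Type v) [AddCommGroup M] [Module A M] [Module.Finite A M]
    [AddCommGroup F] [Module A F] [Module.Finite A F] [Module.Free A F]
    (δ : M →ₗ[A] F) :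
    let κ := IsLocalRing.ResidueField R
    [ Function.Exact (lTensor κ (ker δ).subtype) (lTensor κ δ),
      Function.Exact (lTensor κ (ker δ).subtype) (lTensor κ δ) ∧
        Function.Injective (lTensor κ (ker δ).subtype),
      Module.Free R (R ⊗[A] (F ⧸ range δ)) ].TFAE ∧
    (Function.Exact (lTensor κ (ker δ).subtype) (lTensor κ δ) →
      Module.Free R (R ⊗[A] range δ)) := by
  intro κ
  set i := (range δ).subtype with hi_def
  set π := (range δ).mkQ
  set δ' := δ.rangeRestrict
  have hδ : δ = i ∘ₗ δ' := by ext; rfl
  have hex : Function.Exact (ker δ).subtype δ' := by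
    rw [LinearMap.exact_iff, Submodule.range_subtype]
    exact LinearMap.ker_rangeRestrict δ
  have hsurj : Function.Surjective δ' := LinearMap.surjective_rangeRestrict δ
  have hex' : Function.Exact i π := LinearMap.exact_subtype_mkQ _
  have hexκ : Function.Exact (lTensor κ (ker δ).subtype) (lTensor κ δ') :=
    lTensor_exact κ hex hsurj
  -- exactness gives injectivity
  have h1 : Function.Exact (lTensor κ (ker δ).subtype) (lTensor κ δ) →
      Function.Injective (lTensor κ i) := by
    intro h
    rw [injective_iff_map_eq_zero]
    intro z hz
    obtain ⟨y, rfl⟩ := LinearMap.lTensor_surjective κ hsurj z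
    rw [← LinearMap.comp_apply, ← lTensor_comp, ← hδ] at hz
    obtain ⟨w, rfl⟩ := (h y).mp hz
    exact hexκ.apply_apply_eq_zero w
  -- injectivity gives freeness
  have h2 : Function.Injective (lTensor κ i) →
      Module.Free R (R ⊗[A] (F ⧸ range δ)) ∧ Module.Free R (R ⊗[A] range δ) := by
    intro h
    have h' : Function.Injective (lTensor (IsLocalRing.ResidueField R) (i.baseChange R)) :=
      (lTensor_baseChange_injective_iff i).mpr h
    obtain ⟨l, hl⟩ :=
      (IsLocalRing.split_injective_iff_lTensor_residueField_injective (i.baseChange R)).mpr h'
    haveI : Module.Projective R (R ⊗[A] range δ) := Module.Projective.of_split _ _ hl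
    refine ⟨?_, Module.free_of_flat_of_isLocalRing⟩
    exact Module.free_of_lTensor_residueField_injective (i.baseChange R) (π.baseChange R)
      (by rw [baseChange_eq_ltensor]; exact LinearMap.lTensor_surjective R (Submodule.mkQ_surjective _))
      (by rw [baseChange_eq_ltensor, baseChange_eq_ltensor]
          exact lTensor_exact R hex' (Submodule.mkQ_surjective _)) h'
  -- freeness gives everything
  have h3 : Module.Free R (R ⊗[A] (F ⧸ range δ)) →
      Function.Exact (lTensor κ (ker δ).subtype) (lTensor κ δ) ∧
        Function.Injective (lTensor κ (ker δ).subtype) := by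
    intro h
    obtain ⟨l, hl⟩ := baseChange_split i π (Submodule.injective_subtype _)
      (Submodule.mkQ_surjective _) hex' (R := R)
    haveI : Module.Projective R (R ⊗[A] range δ) := Module.Projective.of_split _ _ hl
    obtain ⟨l', hl'⟩ := baseChange_split (ker δ).subtype δ' (Submodule.injective_subtype _)
      hsurj hex (R := R)
    have hi : Function.Injective (lTensor κ i) :=
      (lTensor_baseChange_injective_iff i).mp (injective_lTensor_of_retraction _ l hl)
    refine ⟨?_, (lTensor_baseChange_injective_iff _).mp (injective_lTensor_of_retraction _ l' hl')⟩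
    intro y
    rw [hδ, lTensor_comp, LinearMap.comp_apply]
    constructor
    · intro hy
      exact (hexκ y).mp (hi (by rw [hy, map_zero]))
    · intro hy
      rw [(hexκ y).mpr hy, map_zero]
  refine ⟨?_, fun h => (h2 (h1 h)).2⟩
  tfae_have 1 → 3 := fun h => (h2 (h1 h)).1
  tfae_have 3 → 2 := h3
  tfae_have 2 → 1 := And.left
  tfae_finish

open TensorProduct in
/-- Let A be a Noetherian ring, M a finitely generated A-module, F a finitely generated free A-module, δ
: M → F an A-linear map and p a prime of A with residue field κ(p). The following are equivalent: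
(a) the natural map (ker δ) ⊗ κ(p) → ker(δ ⊗ κ(p)) is surjective (its image is the whole kernel);
(b) that map is bijective; (c) (F / im δ) localized at p is a free module over the local ring A_p.
Moreover, if these hold then (im δ) localized at p is free over A_p. (The published statement takes
M to be the cokernel of a map of finitely generated free modules; over a Noetherian ring this is
every finitely generated M, which is what this row takes.) -/
theorem result (A : Type u) [CommRing A] [IsNoetherianRing A]
    (M : Type v) (F : Type v) [AddCommGroup M] [Module A M] [Module.Finite A M]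
    [AddCommGroup F] [Module A F] [Module.Finite A F] [Module.Free A F]
    (δ : M →ₗ[A] F) (p : Ideal A) [p.IsPrime] :
    [ Function.Exact (LinearMap.lTensor p.ResidueField (LinearMap.ker δ).subtype)
        (LinearMap.lTensor p.ResidueField δ),
      Function.Exact (LinearMap.lTensor p.ResidueField (LinearMap.ker δ).subtype)
        (LinearMap.lTensor p.ResidueField δ) ∧
        Function.Injective (LinearMap.lTensor p.ResidueField (LinearMap.ker δ).subtype),
      Module.Free (Localization.AtPrime p)
        (LocalizedModule p.primeCompl (F ⧸ LinearMap.range δ)) ].TFAE ∧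
    (Function.Exact (LinearMap.lTensor p.ResidueField (LinearMap.ker δ).subtype)
        (LinearMap.lTensor p.ResidueField δ) →
      Module.Free (Localization.AtPrime p)
        (LocalizedModule p.primeCompl (LinearMap.range δ))) := by
  have h := main_aux (A := A) (R := Localization.AtPrime p) M F δ
  have e1 := (LocalizedModule.equivTensorProduct p.primeCompl (F ⧸ LinearMap.range δ))
  have e2 := (LocalizedModule.equivTensorProduct p.primeCompl (LinearMap.range δ))
  have i1 : Module.Free (Localization.AtPrime p) (Localization.AtPrime p ⊗[A] (F ⧸ LinearMap.range δ)) ↔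
      Module.Free (Localization.AtPrime p) (LocalizedModule p.primeCompl (F ⧸ LinearMap.range δ)) :=
    ⟨fun _ => Module.Free.of_equiv e1.symm, fun _ => Module.Free.of_equiv e1⟩
  refine ⟨?_, fun hex => ?_⟩
  · rw [← i1]; exact h.1
  · haveI := h.2 hex
    exact Module.Free.of_equiv e2.symm

end Groth.Agent.S14608
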