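import Mathlib
import Groth.Agent.FlatCx.Fiber
import Groth.Statements.S14609

set_option autoImplicit false
universe u v
open CAlg

namespace Groth.Agent.S14609

open TensorProduct in
/-- Let A be a Noetherian ring, M a finitely generated A-module, F a finitely generated free A-module
and δ : M → F an A-linear map. Then the function on Spec A sending a prime p with residue field κ(p)
to the κ(p)-dimension of the kernel of δ ⊗ κ(p) : M ⊗ κ(p) → F ⊗ κ(p) is upper semicontinuous. -/
theorem result (A : Type u) [CommRing A]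
    [IsNoetherianRing A] (M : Type v) (F : Type v) [AddCommGroup M] [Module A M] [Module.Finite A M]
    [AddCommGroup F] [Module A F] [Module.Finite A F] [Module.Free A F] (δ : M →ₗ[A] F) :
    UpperSemicontinuous (fun x : PrimeSpectrum A =>
      Module.finrank x.asIdeal.ResidueField
        (LinearMap.ker (δ.baseChange x.asIdeal.ResidueField))) := by
  classical
  obtain ⟨m, π, hπ⟩ := Module.Finite.exists_fin' A M
  let eM : ((Fin m → A) ⧸ LinearMap.ker π) ≃ₗ[A] M := π.quotKerEquivOfSurjective hπ
  let bF := Module.Free.chooseBasis A F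
  let eF : F ≃ₗ[A] (Fin (Fintype.card (Module.Free.ChooseBasisIndex A F)) → A) :=
    (bF.reindex (Fintype.equivFin _)).equivFun
  let δ' := eF.toLinearMap ∘ₗ δ ∘ₗ eM.toLinearMap
  have key : ∀ x : PrimeSpectrum A, Module.finrank x.asIdeal.ResidueField
      (LinearMap.ker (δ.baseChange x.asIdeal.ResidueField)) =
      Groth.Agent.FlatCx.kdim δ' x.asIdeal.ResidueField := fun x => by
    have h1 : LinearMap.ker (δ'.baseChange x.asIdeal.ResidueField) =
        (LinearMap.ker (δ.baseChange x.asIdeal.ResidueField)).comap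
          ((eM.baseChange A x.asIdeal.ResidueField).toLinearMap) := by
      ext z
      simp only [δ', LinearMap.mem_ker, LinearMap.baseChange_comp, Submodule.mem_comap,
        LinearMap.comp_apply]
      exact (eF.baseChange A x.asIdeal.ResidueField).map_eq_zero_iff
    unfold Groth.Agent.FlatCx.kdim
    rw [h1]
    exact ((eM.baseChange A x.asIdeal.ResidueField).ofSubmodule' _).finrank_eq.symm
  simp only [key]
  intro x n hn
  have hlc := Groth.Agent.FlatCx.fdim_isLocallyConstant (A := A)
    (Fin (Fintype.card (Module.Free.ChooseBasisIndex A F)) → A)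
  obtain ⟨U, hU, hxU, hUle⟩ := Groth.Agent.FlatCx.exists_nhd_fdim_le
    ((Fin m → A) ⧸ LinearMap.ker π) x
  obtain ⟨V, hV, hxV, hVle⟩ := Groth.Agent.FlatCx.exists_nhd_fdim_le
    ((Fin (Fintype.card (Module.Free.ChooseBasisIndex A F)) → A) ⧸ LinearMap.range δ') x
  refine Filter.mem_of_superset (Filter.inter_mem (Filter.inter_mem (hU.mem_nhds hxU) (hV.mem_nhds hxV))
    ((hlc.isOpen_fiber _).mem_nhds (rfl : _ = Groth.Agent.FlatCx.fdim _ x))) fun y hy => ?_
  obtain ⟨⟨hy1, hy2⟩, hy3⟩ := hy
  have a1 := Groth.Agent.FlatCx.kdim_add δ' x.asIdeal.ResidueField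
  have a2 := Groth.Agent.FlatCx.kdim_add δ' y.asIdeal.ResidueField
  have a3 := hUle y hy1
  have a4 := hVle y hy2
  have a5 : Groth.Agent.FlatCx.fdim _ y = Groth.Agent.FlatCx.fdim _ x := hy3
  simp only [Set.mem_ofPred_eq] at hn ⊢
  unfold Groth.Agent.FlatCx.fdim at a3 a4 a5
  omega

end Groth.Agent.S14609
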