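import Mathlib
import Groth.Agent.FlatCx.Fiber
import Groth.Statements.S14610

set_option autoImplicit false
universe u v
open CAlg

namespace Groth.Agent.S14610

open TensorProduct in
/-- Let A be a reduced Noetherian ring, M a finitely generated A-module, F a finitely generated free
A-module and δ : M → F an A-linear map such that the function p ↦ dim_{κ(p)} ker(δ ⊗ κ(p)) is
locally constant on Spec A. Then M, ker δ and coker δ = F / im δ are projective A-modules, and for
every A-module N the natural map (ker δ) ⊗ N → M ⊗ N is injective with image equal to the kernel of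
δ ⊗ N. -/
theorem result (A : Type u) [CommRing A]
    [IsNoetherianRing A] [IsReduced A] (M : Type v) (F : Type v) [AddCommGroup M] [Module A M]
    [Module.Finite A M] [AddCommGroup F] [Module A F] [Module.Finite A F] [Module.Free A F]
    (δ : M →ₗ[A] F)
    (h : IsLocallyConstant (fun x : PrimeSpectrum A =>
      Module.finrank x.asIdeal.ResidueField
        (LinearMap.ker (δ.baseChange x.asIdeal.ResidueField)))) :
    Module.Projective A M ∧ Module.Projective A (LinearMap.ker δ) ∧
      Module.Projective A (F ⧸ LinearMap.range δ) ∧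
      ∀ (N : Type v) [AddCommGroup N] [Module A N],
        Function.Injective (LinearMap.rTensor N (LinearMap.ker δ).subtype) ∧
        Function.Exact (LinearMap.rTensor N (LinearMap.ker δ).subtype) (LinearMap.rTensor N δ) := by
  classical
  obtain ⟨m, π, hπ⟩ := Module.Finite.exists_fin' A M
  let eM : ((Fin m → A) ⧸ LinearMap.ker π) ≃ₗ[A] M := π.quotKerEquivOfSurjective hπ
  let bF := Module.Free.chooseBasis A F
  let eF : F ≃ₗ[A] (Fin (Fintype.card (Module.Free.ChooseBasisIndex A F)) → A) :=
    (bF.reindex (Fintype.equivFin _)).equivFun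
  let δ' := eF.toLinearMap ∘ₗ δ ∘ₗ eM.toLinearMap
  have key : ∀ x : PrimeSpectrum A, Module.finrank x.asIdeal.ResidueField
      (LinearMap.ker (δ.baseChange x.asIdeal.ResidueField)) =
      Groth.Agent.FlatCx.kdim δ' x.asIdeal.ResidueField := fun x => by
    have h1 : LinearMap.ker (δ'.baseChange x.asIdeal.ResidueField) =
        (LinearMap.ker (δ.baseChange x.asIdeal.ResidueField)).comap
          ((eM.baseChange A x.asIdeal.ResidueField).toLinearMap) := by
      ext z
      simp only [δ', LinearMap.mem_ker, LinearMap.baseChange_comp, Submodule.mem_comap,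
        LinearMap.comp_apply]
      exact (eF.baseChange A x.asIdeal.ResidueField).map_eq_zero_iff
    unfold Groth.Agent.FlatCx.kdim
    rw [h1]
    exact ((eM.baseChange A x.asIdeal.ResidueField).ofSubmodule' _).finrank_eq.symm
  simp only [key] at h
  set M' := (Fin m → A) ⧸ LinearMap.ker π
  set F' := Fin (Fintype.card (Module.Free.ChooseBasisIndex A F)) → A
  set C' := F' ⧸ LinearMap.range δ'
  have hF' := Groth.Agent.FlatCx.fdim_isLocallyConstant (A := A) F'
  have hloc : IsLocallyConstant (fun x => Groth.Agent.FlatCx.fdim (A := A) M' x) ∧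
      IsLocallyConstant (fun x => Groth.Agent.FlatCx.fdim (A := A) C' x) := by
    have main : ∀ x : PrimeSpectrum A, ∃ U : Set (PrimeSpectrum A), IsOpen U ∧ x ∈ U ∧ ∀ y ∈ U,
        Groth.Agent.FlatCx.fdim M' y = Groth.Agent.FlatCx.fdim M' x ∧
          Groth.Agent.FlatCx.fdim C' y = Groth.Agent.FlatCx.fdim C' x := by
      intro x
      obtain ⟨U, hU, hxU, hUle⟩ := Groth.Agent.FlatCx.exists_nhd_fdim_le M' x
      obtain ⟨V, hV, hxV, hVle⟩ := Groth.Agent.FlatCx.exists_nhd_fdim_le C' x
      refine ⟨U ∩ V ∩ ({y | Groth.Agent.FlatCx.fdim F' y = Groth.Agent.FlatCx.fdim F' x} ∩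
        {y | Groth.Agent.FlatCx.kdim δ' y.asIdeal.ResidueField = Groth.Agent.FlatCx.kdim δ' x.asIdeal.ResidueField}),
        (hU.inter hV).inter ((hF'.isOpen_fiber _).inter (h.isOpen_fiber _)), ⟨⟨hxU, hxV⟩, rfl, rfl⟩, ?_⟩
      rintro y ⟨⟨hy1, hy2⟩, hy3, hy4⟩
      have a1 := Groth.Agent.FlatCx.kdim_add δ' x.asIdeal.ResidueField
      have a2 := Groth.Agent.FlatCx.kdim_add δ' y.asIdeal.ResidueField
      have a3 := hUle y hy1
      have a4 := hVle y hy2
      simp only [Set.mem_ofPred_eq] at hy3 hy4
      unfold Groth.Agent.FlatCx.fdim at a3 a4 hy3 ⊢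
      simp only [M', F', C'] at a1 a2 a3 a4 hy3 hy4 ⊢
      omega
    constructor <;> refine (IsLocallyConstant.iff_exists_open _).2 fun x => ?_
    · obtain ⟨U, hU, hxU, hy⟩ := main x
      exact ⟨U, hU, hxU, fun y hyU => (hy y hyU).1⟩
    · obtain ⟨U, hU, hxU, hy⟩ := main x
      exact ⟨U, hU, hxU, fun y hyU => (hy y hyU).2⟩
  haveI : Module.Flat A M' := Groth.Agent.FlatCx.flat_of_fdim_isLocallyConstant M' hloc.1
  haveI : Module.Flat A C' := Groth.Agent.FlatCx.flat_of_fdim_isLocallyConstant C' hloc.2
  haveI : Module.FinitePresentation A M' := Module.finitePresentation_of_finite A M'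
  haveI : Module.FinitePresentation A C' := Module.finitePresentation_of_finite A C'
  haveI : Module.Projective A M' := Module.Flat.projective_of_finitePresentation
  haveI : Module.Projective A C' := Module.Flat.projective_of_finitePresentation
  haveI hM : Module.Projective A M := Module.Projective.of_equiv eM
  let eC : (F ⧸ LinearMap.range δ) ≃ₗ[A] C' := Submodule.Quotient.equiv _ _ eF (by
    ext z
    constructor
    · rintro ⟨w, ⟨v, rfl⟩, rfl⟩; exact ⟨eM.symm v, by simp [δ']⟩
    · rintro ⟨v, rfl⟩; exact ⟨δ (eM v), ⟨_, rfl⟩, rfl⟩)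
  haveI hC : Module.Projective A (F ⧸ LinearMap.range δ) := Module.Projective.of_equiv eC.symm
  obtain ⟨s, hs⟩ := Module.projective_lifting_property (LinearMap.range δ).mkQ LinearMap.id
    (Submodule.mkQ_surjective _)
  let ρ : F →ₗ[A] LinearMap.range δ := (LinearMap.id - s ∘ₗ (LinearMap.range δ).mkQ).codRestrict _ fun z => by
    rw [← Submodule.Quotient.mk_eq_zero, ← Submodule.mkQ_apply, LinearMap.sub_apply, LinearMap.id_apply,
      map_sub, LinearMap.comp_apply, show (LinearMap.range δ).mkQ (s ((LinearMap.range δ).mkQ z)) = _ from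
        LinearMap.congr_fun hs _, LinearMap.id_apply, sub_self]
  have hρ : ρ ∘ₗ (LinearMap.range δ).subtype = LinearMap.id := LinearMap.ext fun z => Subtype.ext (by
    have h0 : Submodule.Quotient.mk (z : F) = (0 : F ⧸ LinearMap.range δ) :=
      (Submodule.Quotient.mk_eq_zero _).2 z.2
    simp [ρ, h0])
  haveI : Module.Projective A (LinearMap.range δ) := Module.Projective.of_split _ ρ hρ
  obtain ⟨t, ht⟩ := Module.projective_lifting_property δ.rangeRestrict LinearMap.id δ.surjective_rangeRestrict
  have ht' : ∀ z, δ (t z) = z := fun z => congrArg Subtype.val (LinearMap.congr_fun ht z)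
  let σ : F →ₗ[A] M := t ∘ₗ ρ
  have hσ : ∀ v, δ (σ (δ v)) = δ v := fun v => by
    show δ (t (ρ (δ v))) = δ v
    rw [ht', show ρ (δ v) = ⟨δ v, v, rfl⟩ from LinearMap.congr_fun hρ ⟨δ v, v, rfl⟩]
  let r : M →ₗ[A] LinearMap.ker δ := (LinearMap.id - σ ∘ₗ δ).codRestrict _ fun v => by simp [hσ]
  have hr : r ∘ₗ (LinearMap.ker δ).subtype = LinearMap.id := LinearMap.ext fun v => Subtype.ext (by
    simp [r, LinearMap.mem_ker.1 v.2])
  refine ⟨hM, Module.Projective.of_split _ r hr, hC, fun N _ _ => ⟨?_, ?_⟩⟩
  · refine Function.LeftInverse.injective (g := r.rTensor N) fun z => ?_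
    rw [← LinearMap.comp_apply, ← LinearMap.rTensor_comp, hr, LinearMap.rTensor_id, LinearMap.id_apply]
  · intro z
    constructor
    · intro hz
      refine ⟨r.rTensor N z, ?_⟩
      rw [← LinearMap.comp_apply, ← LinearMap.rTensor_comp, show (LinearMap.ker δ).subtype ∘ₗ r = LinearMap.id - σ ∘ₗ δ from
        LinearMap.subtype_comp_codRestrict _ _ _, LinearMap.rTensor_sub, LinearMap.sub_apply, LinearMap.rTensor_id,
        LinearMap.id_apply, LinearMap.rTensor_comp, LinearMap.comp_apply, hz, map_zero, sub_zero]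
    · rintro ⟨w, rfl⟩
      rw [← LinearMap.comp_apply, ← LinearMap.rTensor_comp, LinearMap.comp_ker_subtype, LinearMap.rTensor_zero,
        LinearMap.zero_apply]

end Groth.Agent.S14610
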