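import Groth.Statements.S14611
import Groth.Agent.FlatCx.Cochain
import Mathlib.RingTheory.Flat.EquationalCriterion
-- import your own Groth.Agent.* helpers here

set_option autoImplicit false
universe u
open FlatCx

namespace Groth.Agent.S14611

open CategoryTheory CategoryTheory.Limits in
/-- Let A be a Noetherian ring, Q a cochain complex whose terms are finitely generated projective
A-modules, and d an integer such that H^p(Q) = 0 for every p < d and H^p(Q ⊗_A A/m) = 0 for every p
< d and every maximal ideal m of A. Then Q^d / im(Q^{d-1} → Q^d), the degree-d term of the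
truncation τ_{≥ d} Q, is a projective A-module, so that τ_{≥ d} Q is again a complex of projective
modules. (The published statement also asserts that Q → τ_{≥ d} Q is a quasi-isomorphism when H^p(Q)
= 0 for p < d; this row omits that clause.) -/
theorem result (A : Type u) [CommRing A] [IsNoetherianRing A]
    (Q : CochainComplex (ModuleCat.{u} A) ℤ)
    (hQ : ∀ i, Module.Finite A (Q.X i) ∧ Module.Projective A (Q.X i)) (d : ℤ)
    (h1 : ∀ p < d, IsZero (Q.homology p))
    (h2 : ∀ (m : Ideal A) [m.IsMaximal], ∀ p < d,
      IsZero ((CohIII.tensorObj Q (ModuleCat.of A (A ⧸ m))).homology p)) :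
    Module.Projective A (Q.opcycles d) := by
  let f := (Q.d (d - 1 - 1) (d - 1)).hom
  let g := (Q.d (d - 1) d).hom
  have hfg : LinearMap.range f = LinearMap.ker g := Groth.Agent.FlatCx.range_eq_ker_of_exactAt Q (d - 1 - 1) (d - 1) d
    (by omega) (by omega) ((Q.exactAt_iff_isZero_homology _).mpr (h1 _ (by omega)))
  let δ : (Q.X (d - 1) ⧸ LinearMap.range f) →ₗ[A] Q.X d := (LinearMap.range f).liftQ g hfg.le
  have hr : LinearMap.range δ = LinearMap.range g := Submodule.range_liftQ _ _ _
  haveI := (hQ (d - 1)).1
  haveI := (hQ d).1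
  haveI := (hQ d).2
  haveI : Module.Flat A (Q.X d ⧸ LinearMap.range δ) := by
    refine Groth.Agent.FlatCx.flat_of_injective_forall_maximal δ fun m _ => ?_
    rw [LinearMap.lTensor_inj_iff_rTensor_inj, injective_iff_map_eq_zero]
    intro z hz
    obtain ⟨w, rfl⟩ := LinearMap.rTensor_surjective _ (Submodule.mkQ_surjective _) z
    have hw : (g.rTensor (A ⧸ m)) w = 0 := by
      rw [← hz, ← LinearMap.rTensor_comp_apply]; rfl
    have he := Groth.Agent.FlatCx.range_eq_ker_of_exactAt (CohIII.tensorObj Q (ModuleCat.of A (A ⧸ m)))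
      (d - 1 - 1) (d - 1) d (by omega) (by omega)
      ((HomologicalComplex.exactAt_iff_isZero_homology _ _).mpr (h2 m _ (by omega)))
    obtain ⟨v, hv⟩ : w ∈ LinearMap.range (f.rTensor (A ⧸ m)) := he.ge hw
    rw [← hv, ← LinearMap.rTensor_comp_apply,
      f.exact_map_mkQ_range.linearMap_comp_eq_zero, LinearMap.rTensor_zero, LinearMap.zero_apply]
  haveI : Module.Flat A (Q.X d ⧸ LinearMap.range g) :=
    Module.Flat.of_linearEquiv (Submodule.quotEquivOfEq _ _ hr).symm
  haveI : Module.FinitePresentation A (Q.X d ⧸ LinearMap.range g) := Module.finitePresentation_of_finite A _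
  haveI : Module.Projective A (Q.X d ⧸ LinearMap.range g) := Module.Flat.projective_of_finitePresentation
  let e : Q.opcycles d ≃ₗ[A] (Q.X d ⧸ LinearMap.range g) := (((Q.opcyclesIsCokernel (d - 1) d (by simp)).coconePointUniqueUpToIso
    (ModuleCat.cokernelIsColimit (Q.d (d - 1) d)))).toLinearEquiv
  exact Module.Projective.of_equiv e.symm

end Groth.Agent.S14611
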