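import Groth.Statements.S14614
import Mathlib

set_option autoImplicit false
universe u
open Mor

namespace Groth.Agent.S14614

open CategoryTheory AlgebraicGeometry in
/-- Let S be a locally Noetherian scheme and i : Z → S a closed immersion with the following property:
for every Artinian local ring A with residue field k and every morphism g : Spec A → S, if the
restriction Spec k → Spec A → S of g factors through i then so does g. Then i is also an open
immersion, i.e. the closed subscheme Z is open in S as a subscheme. (The published hypothesis is an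
equivalence; its other direction always holds, so this row assumes only the implication.) -/
theorem result (S : Scheme.{u}) [IsLocallyNoetherian S]
    {Z : Scheme.{u}} (i : Z ⟶ S) [IsClosedImmersion i]
    (h : ∀ (A : Type u) [CommRing A] [IsArtinianRing A] [IsLocalRing A] (g : Spec (CommRingCat.of A) ⟶ S),
      (∃ t : Spec (CommRingCat.of (IsLocalRing.ResidueField A)) ⟶ Z,
          t ≫ i = Spec.map (CommRingCat.ofHom (IsLocalRing.residue A)) ≫ g) →
        ∃ g' : Spec (CommRingCat.of A) ⟶ Z, g' ≫ i = g) :
    IsOpenImmersion i := by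
  haveI : LocallyOfFinitePresentation i := LocallyOfFinitePresentation.iff_locallyOfFiniteType.mpr inferInstance
  haveI : Flat i := by
    refine HasRingHomProperty.of_stalkMap (P := @Flat) RingHom.Flat.ofLocalizationPrime fun z => ?_
    refine RingHom.Flat.of_bijective ⟨?_, i.stalkMap_surjective z⟩
    rw [RingHom.injective_iff_ker_eq_bot, eq_bot_iff,
      ← Ideal.iInf_pow_eq_bot_of_isLocalRing _ (IsLocalRing.maximalIdeal.isMaximal (S.presheaf.stalk (i z))).ne_top]
    refine le_iInf fun n => ?_
    set O := S.presheaf.stalk (i z)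
    let J := IsLocalRing.maximalIdeal O ^ n
    by_cases hn : n = 0
    · subst hn; rw [pow_zero, Ideal.one_eq_top]; exact le_top
    have hJ : J ≠ ⊤ := fun h' => (IsLocalRing.maximalIdeal.isMaximal O).ne_top
      (top_le_iff.1 (h'.ge.trans (Ideal.pow_le_self hn)))
    haveI : Nontrivial (O ⧸ J) := Ideal.Quotient.nontrivial_iff.2 hJ
    haveI : IsLocalRing (O ⧸ J) := .of_surjective' _ Ideal.Quotient.mk_surjective
    haveI : IsArtinianRing (O ⧸ J) := by
      refine (isArtinianRing_iff_isNilpotent_maximalIdeal _).mpr ⟨n, ?_⟩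
      rw [← IsLocalRing.map_maximalIdeal_of_surjective (Ideal.Quotient.mk J) Ideal.Quotient.mk_surjective,
        ← Ideal.map_pow, Ideal.map_quotient_self, Ideal.zero_eq_bot]
    haveI : IsLocalHom (Ideal.Quotient.mk J) := .of_surjective _ Ideal.Quotient.mk_surjective
    let μ : O ⟶ CommRingCat.of (O ⧸ J) := CommRingCat.ofHom (Ideal.Quotient.mk J)
    let g := Spec.map μ ≫ S.fromSpecStalk (i z)
    have hg : g (IsLocalRing.closedPoint (O ⧸ J)) = i z := by
      rw [Scheme.Hom.comp_apply]
      exact (congrArg _ (IsLocalRing.comap_closedPoint (Ideal.Quotient.mk J))).trans S.fromSpecStalk_closedPoint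
    let K := IsLocalRing.ResidueField (O ⧸ J)
    let r : Spec (CommRingCat.of K) ⟶ Spec (CommRingCat.of (O ⧸ J)) := Spec.map (CommRingCat.ofHom (IsLocalRing.residue (O ⧸ J)))
    haveI : IsClosedImmersion (Limits.pullback.snd i (r ≫ g)) := MorphismProperty.pullback_snd _ _ ‹_›
    haveI : Surjective (Limits.pullback.snd i (r ≫ g)) := ⟨fun a => by
      have ha : (r ≫ g) a = i z := by
        rw [Scheme.Hom.comp_apply, Subsingleton.elim a (IsLocalRing.closedPoint K)]
        exact (congrArg _ (IsLocalRing.comap_closedPoint (IsLocalRing.residue (O ⧸ J)))).trans hg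
      obtain ⟨w, -, hw⟩ := Scheme.Pullback.exists_preimage_pullback (f := i) (g := r ≫ g) z a ha.symm
      exact ⟨w, hw⟩⟩
    haveI : IsIso (Limits.pullback.snd i (r ≫ g)) := isIso_of_isClosedImmersion_of_surjective _
    obtain ⟨g', hg'⟩ := h (O ⧸ J) g ⟨inv (Limits.pullback.snd i (r ≫ g)) ≫ Limits.pullback.fst i (r ≫ g),
      by rw [Category.assoc, Limits.pullback.condition, IsIso.inv_hom_id_assoc]⟩
    have hz : g' (IsLocalRing.closedPoint (O ⧸ J)) = z := i.isClosedEmbedding.injective (by
      rw [← Scheme.Hom.comp_apply, hg', hg])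
    have key : ∃ φ : Z.presheaf.stalk (g' (IsLocalRing.closedPoint (O ⧸ J))) ⟶ CommRingCat.of (O ⧸ J),
        Spec.map φ ≫ Z.fromSpecStalk _ = g' := ⟨_, Scheme.Spec_stalkClosedPointTo_fromSpecStalk g'⟩
    rw [hz] at key
    obtain ⟨φ, hφ⟩ := key
    have he : i.stalkMap z ≫ φ = μ := Spec.map_injective ((cancel_mono (S.fromSpecStalk (i z))).1 (by
      rw [Spec.map_comp, Category.assoc, Scheme.SpecMap_stalkMap_fromSpecStalk, ← Category.assoc, hφ, hg']))
    intro a ha
    exact Ideal.Quotient.eq_zero_iff_mem.1 (show μ a = 0 by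
      rw [← he, CommRingCat.comp_apply, show i.stalkMap z a = 0 from ha, map_zero])
  exact IsOpenImmersion.of_flat_of_mono i

end Groth.Agent.S14614
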