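import Groth.Statements.S14615
import Mathlib

set_option autoImplicit false
universe u
open Formal2

namespace Groth.Agent.S14615

/-- the partial sums `∑_{k < m} t^k (y_{i+k})` -/
def P {G : ℕ → Type u} [∀ n, AddCommGroup (G n)] (t : ∀ n, G (n + 1) →+ G n) (y : ∀ n, G n) :
    ℕ → ∀ i, G i
  | 0, _ => 0
  | m + 1, i => y i + t i (P t y m (i + 1))

theorem P_succ_sub {G : ℕ → Type u} [∀ n, AddCommGroup (G n)] (t : ∀ n, G (n + 1) →+ G n)
    (y : ∀ n, G n) : ∀ (m i : ℕ), P t y (m + 2) i - P t y (m + 1) i
      = t i (P t y (m + 1) (i + 1) - P t y m (i + 1)) := by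
  intro m i
  show (y i + t i (P t y (m + 1) (i + 1))) - (y i + t i (P t y m (i + 1))) = _
  rw [map_sub]; abel


/-- Let … → G_2 → G_1 → G_0 be an inverse system of abelian groups with transition maps t_n : G_{n+1} →
G_n, and suppose that for every i there is j ≥ i such that the composite transition map G_j → G_i is
zero; this is expressed by asking that every sequence (x_n) ∈ ∏ G_n satisfying x_n = t_n(x_{n+1})
for i ≤ n < j has x_i = 0. Then both lim G_n and lim¹ G_n vanish: the map (x_n) ↦ (x_n −
t_n(x_{n+1})) on ∏ G_n, whose kernel is lim and whose cokernel is lim¹, is injective and surjective. -/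
theorem result (G : ℕ → Type u)
    [∀ n, AddCommGroup (G n)] (t : ∀ n, G (n + 1) →+ G n)
    (h : ∀ i : ℕ, ∃ j : ℕ, i ≤ j ∧
      ∀ x : ∀ n, G n, (∀ n, i ≤ n → n < j → x n = t n (x (n + 1))) → x i = 0) :
    Formal2.limZero G t = ⊥ ∧ Function.Surjective (Formal2.towerDiff G t) := by
  classical
  refine ⟨?_, ?_⟩
  · rw [eq_bot_iff]
    intro x hx
    have hx' : ∀ n, x n = t n (x (n + 1)) := fun n => sub_eq_zero.mp (congrFun hx n)
    funext i
    obtain ⟨j, -, hj⟩ := h i
    exact hj x fun n _ _ => hx' n
  · intro y
    choose J hJ hJ' using h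
    -- increments eventually vanish
    have hinc : ∀ i m, J i ≤ i + m → P t y (m + 1) i = P t y m i := by
      intro i m hm
      let x : ∀ n, G n := fun n => if n ≤ i + m then P t y (i + m - n + 1) n - P t y (i + m - n) n else 0
      have hx := hJ' i x fun n hin hnj => by
        have h1 : n ≤ i + m := by omega
        have h2 : n + 1 ≤ i + m := by omega
        show (if n ≤ i + m then _ else _) = t n (if n + 1 ≤ i + m then _ else _)
        rw [if_pos h1, if_pos h2]
        obtain ⟨d, hd⟩ : ∃ d, i + m - n = d + 1 := ⟨i + m - n - 1, by omega⟩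
        rw [hd, show i + m - (n + 1) = d by omega]
        exact P_succ_sub t y d n
      have hxi : x i = P t y (m + 1) i - P t y m i := by
        show (if i ≤ i + m then _ else _) = _
        rw [if_pos (Nat.le_add_right i m), Nat.add_sub_cancel_left]
      rw [hxi, sub_eq_zero] at hx
      exact hx
    have hstab : ∀ i m, J i ≤ m → P t y m i = P t y (J i) i := by
      intro i m hm
      induction m, hm using Nat.le_induction with
      | base => rfl
      | succ m hm ih => rw [hinc i m (by omega), ih]
    refine ⟨fun i => P t y (J i) i, funext fun i => ?_⟩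
    show P t y (J i) i - t i (P t y (J (i + 1)) (i + 1)) = y i
    have h1 := hstab i (max (J i) (J (i + 1)) + 1) (by omega)
    have h2 := hstab (i + 1) (max (J i) (J (i + 1))) (by omega)
    rw [← h1, ← h2]
    show y i + t i _ - t i _ = y i
    abel

end Groth.Agent.S14615
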