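import Groth.Statements.S14616
import Mathlib

set_option autoImplicit false
universe u
open Formal2

namespace Groth.Agent.S14616

/-- the partial sums `∑_{k < m} t^k (y_{i+k})` -/
def P {G : ℕ → Type u} [∀ n, AddCommGroup (G n)] (t : ∀ n, G (n + 1) →+ G n) (y : ∀ n, G n) :
    ℕ → ∀ i, G i
  | 0, _ => 0
  | m + 1, i => y i + t i (P t y m (i + 1))

theorem P_succ_sub {G : ℕ → Type u} [∀ n, AddCommGroup (G n)] (t : ∀ n, G (n + 1) →+ G n)
    (y : ∀ n, G n) : ∀ (m i : ℕ), P t y (m + 2) i - P t y (m + 1) i
      = t i (P t y (m + 1) (i + 1) - P t y m (i + 1)) := by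
  intro m i
  show (y i + t i (P t y (m + 1) (i + 1))) - (y i + t i (P t y m (i + 1))) = _
  rw [map_sub]; abel

/-- images of the iterated transition maps -/
def Im {G : ℕ → Type u} [∀ n, AddCommGroup (G n)] (t : ∀ n, G (n + 1) →+ G n) :
    ℕ → ∀ i, AddSubgroup (G i)
  | 0, _ => ⊤
  | m + 1, i => (Im t m (i + 1)).map (t i)

open CategoryTheory in
theorem range_eq {G : ℕ → Type u} [∀ n, AddCommGroup (G n)] (t : ∀ n, G (n + 1) →+ G n) :
    ∀ (m i k : ℕ) (_ : i + m = k) (f : Opposite.op k ⟶ Opposite.op i),
      Set.range (((Functor.ofOpSequence (X := fun n => AddCommGrpCat.of (G n))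
        (fun n => AddCommGrpCat.ofHom (t n)) ⋙ forget AddCommGrpCat).map f)) = (Im t m i : Set (G i)) := by
  intro m
  induction m with
  | zero =>
    intro i k hk f
    subst hk
    rw [Subsingleton.elim f (𝟙 _), CategoryTheory.Functor.map_id]
    exact Set.range_id
  | succ m ih =>
    intro i k hk f
    have hf : f = (homOfLE (show i + 1 ≤ k by omega)).op ≫ (homOfLE (Nat.le_succ i)).op :=
      Subsingleton.elim _ _
    rw [hf, Functor.map_comp, types_comp, Set.range_comp,
      ih (i + 1) k (by omega) _]
    show (((Functor.ofOpSequence (X := fun n => AddCommGrpCat.of (G n))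
        (fun n => AddCommGrpCat.ofHom (t n))).map (homOfLE (Nat.le_succ i)).op) '' _) = _
    rw [Functor.ofOpSequence_map_homOfLE_succ]
    rfl


open CategoryTheory in
/-- Let … → G_2 → G_1 → G_0 be an inverse system of abelian groups with transition maps t_n : G_{n+1} →
G_n which satisfies the Mittag-Leffler condition: for every i there is j ≥ i such that for all k ≥ j
the images of G_k → G_i and G_j → G_i coincide. Then lim¹ G_n = 0, i.e. the map (x_n) ↦ (x_n −
t_n(x_{n+1})) on ∏ G_n is surjective. -/
theorem result (G : ℕ → Type u) [∀ n, AddCommGroup (G n)]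
    (t : ∀ n, G (n + 1) →+ G n)
    (h : (Functor.ofOpSequence (X := fun n => AddCommGrpCat.of (G n))
      (fun n => AddCommGrpCat.ofHom (t n)) ⋙ forget AddCommGrpCat).IsMittagLeffler) :
    Function.Surjective (Formal2.towerDiff G t) := by
  classical
  intro y
  have hML : ∀ i, ∃ M, ∀ m, M ≤ m → Im t m i = Im t M i := by
    intro i
    obtain ⟨⟨j⟩, f, hf⟩ := h (Opposite.op i)
    have hij : i ≤ j := leOfHom f.unop
    have hanti : ∀ (m i : ℕ), Im t (m + 1) i ≤ Im t m i := by
      intro m
      induction m with
      | zero => exact fun i => le_top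
      | succ m ih => exact fun i => AddSubgroup.map_mono (ih (i + 1))
    refine ⟨j - i, fun m hm => le_antisymm ?_ ?_⟩
    · clear hf
      induction m, hm using Nat.le_induction with
      | base => exact le_rfl
      | succ m _ ih => exact (hanti m i).trans ih
    · intro x hx
      have h1 := hx
      rw [← SetLike.mem_coe, ← range_eq t (j - i) i j (by omega) f] at h1
      have h2 := hf (k := Opposite.op (i + m)) (homOfLE (Nat.le_add_right i m)).op h1
      rw [range_eq t m i (i + m) rfl _] at h2
      exact h2
  choose M hM using hML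
  let E : ∀ i, AddSubgroup (G i) := fun i => Im t (M i) i
  have hE : ∀ i, (E (i + 1)).map (t i) = E i := by
    intro i
    have h1 := hM (i + 1) (max (M i) (M (i + 1))) (le_max_right _ _)
    have h2 := hM i (max (M i) (M (i + 1)) + 1) (by omega)
    show (Im t (M (i + 1)) (i + 1)).map (t i) = Im t (M i) i
    rw [← h1, ← h2]
    rfl
  have hinc : ∀ m i, P t y (m + 1) i - P t y m i ∈ Im t m i := by
    intro m
    induction m with
    | zero => exact fun i => AddSubgroup.mem_top _
    | succ m ih => exact fun i => ⟨_, ih (i + 1), (P_succ_sub t y m i).symm⟩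
  have hstab : ∀ i m, M i ≤ m → P t y m i - P t y (M i) i ∈ E i := by
    intro i m hm
    induction m, hm using Nat.le_induction with
    | base => rw [sub_self]; exact zero_mem _
    | succ m hm ih =>
      have h1 : P t y (m + 1) i - P t y m i ∈ E i := by
        show _ ∈ Im t (M i) i
        rw [← hM i m hm]; exact hinc m i
      simpa using add_mem h1 ih
  let z : ∀ i, G i := fun i => P t y (M i) i
  let y' : ∀ i, G i := fun i => y i - (z i - t i (z (i + 1)))
  have hy' : ∀ i, y' i ∈ E i := by
    intro i
    have h1 := hstab i (max (M i) (M (i + 1)) + 1) (by omega)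
    have h2 := hstab (i + 1) (max (M i) (M (i + 1))) (le_max_right _ _)
    have h3 : t i (P t y (max (M i) (M (i + 1))) (i + 1) - z (i + 1)) ∈ E i := by
      rw [← hE i]; exact ⟨_, h2, rfl⟩
    have h4 := sub_mem h1 h3
    convert h4 using 1
    rw [map_sub]
    show y i - (z i - t i (z (i + 1))) = y i + t i _ - z i - (t i _ - t i (z (i + 1)))
    abel
  have hstep : ∀ i (w : E i), ∃ w' : E (i + 1), t i w' = (w : G i) - y' i := by
    intro i w
    have h1 : (w : G i) - y' i ∈ (E (i + 1)).map (t i) := by rw [hE i]; exact sub_mem w.2 (hy' i)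
    obtain ⟨w', hw', e⟩ := h1
    exact ⟨⟨w', hw'⟩, e⟩
  choose next hnext using hstep
  let x : ∀ i, E i := fun i => Nat.rec (0 : E 0) (fun n w => next n w) i
  refine ⟨fun i => (x i).1 + z i, funext fun i => ?_⟩
  show (x i).1 + z i - t i ((x (i + 1)).1 + z (i + 1)) = y i
  rw [map_add, show t i (x (i + 1)).1 = (x i).1 - y' i from hnext i (x i)]
  show _ = _
  simp only [y']
  abel

end Groth.Agent.S14616
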