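import Groth.Statements.S14617
import Mathlib

set_option autoImplicit false
universe u
open Formal2

namespace Groth.Agent.S14617

/-- Let 0 → (G'_n) → (G_n) → (G''_n) → 0 be a short exact sequence of inverse systems of abelian groups
indexed by ℕ: maps u_n : G'_n → G_n and v_n : G_n → G''_n commuting with the transition maps, with
u_n injective, v_n surjective and ker v_n = im u_n for every n. Writing lim and lim¹ for the kernel
and cokernel of (x_n) ↦ (x_n − t_n(x_{n+1})) on the product, there is an exact sequence 0 → lim G' →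
lim G → lim G'' → lim¹ G' → lim¹ G → lim¹ G'' → 0 in which the four outer maps are the ones induced
by u and v on products and the connecting map δ sends a compatible sequence (z_n) to the class of
the unique (w_n) with u_n(w_n) = y_n − t_n(y_{n+1}), for any levelwise lift (y_n) of (z_n). -/
theorem result (G' G G'' : ℕ → Type u)
    [∀ n, AddCommGroup (G' n)] [∀ n, AddCommGroup (G n)] [∀ n, AddCommGroup (G'' n)]
    (t' : ∀ n, G' (n + 1) →+ G' n) (t : ∀ n, G (n + 1) →+ G n) (t'' : ∀ n, G'' (n + 1) →+ G'' n)
    (u : ∀ n, G' n →+ G n) (v : ∀ n, G n →+ G'' n)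
    (hu : ∀ n x, t n (u (n + 1) x) = u n (t' n x)) (hv : ∀ n x, t'' n (v (n + 1) x) = v n (t n x))
    (hinj : ∀ n, Function.Injective (u n)) (hsurj : ∀ n, Function.Surjective (v n))
    (hex : ∀ n, (v n).ker = (u n).range) :
    ∃ (α : Formal2.limZero G' t' →+ Formal2.limZero G t) (β : Formal2.limZero G t →+ Formal2.limZero G'' t'')
      (δ : Formal2.limZero G'' t'' →+ Formal2.limOne G' t')
      (ε : Formal2.limOne G' t' →+ Formal2.limOne G t) (ζ : Formal2.limOne G t →+ Formal2.limOne G'' t''),
      (∀ (x : Formal2.limZero G' t') (n : ℕ), (α x : ∀ n, G n) n = u n ((x : ∀ n, G' n) n)) ∧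
      (∀ (x : Formal2.limZero G t) (n : ℕ), (β x : ∀ n, G'' n) n = v n ((x : ∀ n, G n) n)) ∧
      (∀ (z : Formal2.limZero G'' t'') (y : ∀ n, G n) (w : ∀ n, G' n),
          (∀ n, v n (y n) = (z : ∀ n, G'' n) n) → (∀ n, u n (w n) = Formal2.towerDiff G t y n) →
            δ z = (QuotientAddGroup.mk w : Formal2.limOne G' t')) ∧
      (∀ y : ∀ n, G' n, ε (QuotientAddGroup.mk y : Formal2.limOne G' t') =
          (QuotientAddGroup.mk (fun n => u n (y n)) : Formal2.limOne G t)) ∧
      (∀ y : ∀ n, G n, ζ (QuotientAddGroup.mk y : Formal2.limOne G t) =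
          (QuotientAddGroup.mk (fun n => v n (y n)) : Formal2.limOne G'' t'')) ∧
      Function.Injective α ∧ α.range = β.ker ∧ β.range = δ.ker ∧ δ.range = ε.ker ∧ ε.range = ζ.ker ∧
      Function.Surjective ζ := by
  classical
  have hu' : ∀ (x : ∀ n, G' n), Formal2.towerDiff G t (fun n => u n (x n)) =
      fun n => u n (Formal2.towerDiff G' t' x n) := fun x => funext fun n => by
    show u n (x n) - t n (u (n + 1) (x (n + 1))) = u n (x n - t' n (x (n + 1)))
    rw [map_sub, hu]
  have hv' : ∀ (x : ∀ n, G n), Formal2.towerDiff G'' t'' (fun n => v n (x n)) =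
      fun n => v n (Formal2.towerDiff G t x n) := fun x => funext fun n => by
    show v n (x n) - t'' n (v (n + 1) (x (n + 1))) = v n (x n - t n (x (n + 1)))
    rw [map_sub, hv]
  have hvu : ∀ n x, v n (u n x) = 0 := fun n x =>
    AddMonoidHom.mem_ker.mp (by rw [hex n]; exact ⟨x, rfl⟩)
  let U : (∀ n, G' n) →+ (∀ n, G n) :=
    { toFun := fun x n => u n (x n)
      map_zero' := funext fun n => map_zero _
      map_add' := fun a b => funext fun n => map_add _ _ _ }
  let V : (∀ n, G n) →+ (∀ n, G'' n) :=
    { toFun := fun x n => v n (x n)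
      map_zero' := funext fun n => map_zero _
      map_add' := fun a b => funext fun n => map_add _ _ _ }
  let α : Formal2.limZero G' t' →+ Formal2.limZero G t :=
    (U.comp (AddSubgroup.subtype _)).codRestrict _ fun x => by
      show Formal2.towerDiff G t (fun n => u n ((x : ∀ n, G' n) n)) = 0
      rw [hu', show Formal2.towerDiff G' t' (x : ∀ n, G' n) = 0 from x.2]
      exact funext fun n => map_zero _
  let β : Formal2.limZero G t →+ Formal2.limZero G'' t'' :=
    (V.comp (AddSubgroup.subtype _)).codRestrict _ fun x => by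
      show Formal2.towerDiff G'' t'' (fun n => v n ((x : ∀ n, G n) n)) = 0
      rw [hv', show Formal2.towerDiff G t (x : ∀ n, G n) = 0 from x.2]
      exact funext fun n => map_zero _
  let ε : Formal2.limOne G' t' →+ Formal2.limOne G t := QuotientAddGroup.map _ _ U (by
    rintro _ ⟨x, rfl⟩
    exact ⟨fun n => u n (x n), hu' x⟩)
  let ζ : Formal2.limOne G t →+ Formal2.limOne G'' t'' := QuotientAddGroup.map _ _ V (by
    rintro _ ⟨x, rfl⟩
    exact ⟨fun n => v n (x n), hv' x⟩)
  have hlift : ∀ z : Formal2.limZero G'' t'', ∃ (y : ∀ n, G n) (w : ∀ n, G' n),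
      (∀ n, v n (y n) = (z : ∀ n, G'' n) n) ∧ (∀ n, u n (w n) = Formal2.towerDiff G t y n) := by
    intro z
    choose y hy using fun n => hsurj n ((z : ∀ n, G'' n) n)
    have : ∀ n, Formal2.towerDiff G t y n ∈ (u n).range := by
      intro n
      rw [← hex n, AddMonoidHom.mem_ker]
      have h1 := congrFun (hv' y) n
      rw [← h1, show (fun n => v n (y n)) = (z : ∀ n, G'' n) from funext hy]
      exact congrFun z.2 n
    choose w hw using this
    exact ⟨y, w, hy, hw⟩
  choose Y W hY hW using hlift
  have huniq : ∀ (z : Formal2.limZero G'' t'') (y : ∀ n, G n) (w : ∀ n, G' n),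
      (∀ n, v n (y n) = (z : ∀ n, G'' n) n) → (∀ n, u n (w n) = Formal2.towerDiff G t y n) →
      (QuotientAddGroup.mk (W z) : Formal2.limOne G' t') = QuotientAddGroup.mk w := by
    intro z y w hy hw
    have : ∀ n, y n - Y z n ∈ (u n).range := fun n => by
      rw [← hex n, AddMonoidHom.mem_ker, map_sub, hy, hY, sub_self]
    choose a ha using this
    rw [QuotientAddGroup.eq]
    refine ⟨a, funext fun n => hinj n ?_⟩
    have h1 := congrFun (hu' a) n
    rw [← h1, show (fun n => u n (a n)) = y - Y z from funext ha, map_sub]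
    show _ = u n (-(W z n) + w n)
    rw [map_add, map_neg, hW, hw, Pi.sub_apply]
    abel
  let δ : Formal2.limZero G'' t'' →+ Formal2.limOne G' t' :=
    AddMonoidHom.mk' (fun z => QuotientAddGroup.mk (W z)) fun z z' => by
      rw [← QuotientAddGroup.mk_add]
      exact huniq (z + z') (Y z + Y z') (W z + W z')
        (fun n => by simp [hY]) (fun n => by rw [map_add]; simp [hW])
  have hδ : ∀ (z : Formal2.limZero G'' t'') (y : ∀ n, G n) (w : ∀ n, G' n),
      (∀ n, v n (y n) = (z : ∀ n, G'' n) n) → (∀ n, u n (w n) = Formal2.towerDiff G t y n) →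
      δ z = (QuotientAddGroup.mk w : Formal2.limOne G' t') := huniq
  refine ⟨α, β, δ, ε, ζ, fun x n => rfl, fun x n => rfl, hδ, fun y => rfl, fun y => rfl, ?_, ?_, ?_, ?_,
    ?_, ?_⟩
  · intro a b hab
    exact Subtype.ext (funext fun n => hinj n (congrFun (congrArg Subtype.val hab) n))
  · ext x
    constructor
    · rintro ⟨a, rfl⟩
      exact Subtype.ext (funext fun n => hvu n _)
    · intro hx
      have h0 := congrArg Subtype.val hx
      have : ∀ n, (x : ∀ n, G n) n ∈ (u n).range := fun n => by
        rw [← hex n, AddMonoidHom.mem_ker]; exact congrFun h0 n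
      choose a ha using this
      refine ⟨⟨a, funext fun n => hinj n ?_⟩, Subtype.ext (funext ha)⟩
      have h1 := congrFun (hu' a) n
      rw [← h1, show (fun n => u n (a n)) = (x : ∀ n, G n) from funext ha,
        show Formal2.towerDiff G t (x : ∀ n, G n) = 0 from x.2]
      exact (map_zero _).symm
  · ext z
    constructor
    · rintro ⟨x, rfl⟩
      show δ (β x) = 0
      rw [hδ (β x) (x : ∀ n, G n) 0 (fun n => rfl) (fun n => by
        rw [show Formal2.towerDiff G t (x : ∀ n, G n) = 0 from x.2]; exact map_zero _)]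
      exact QuotientAddGroup.mk_zero _
    · intro hz
      obtain ⟨a, ha⟩ := (QuotientAddGroup.eq_zero_iff _).mp (show (QuotientAddGroup.mk (W z) :
        Formal2.limOne G' t') = 0 from hz)
      refine ⟨⟨Y z - U a, ?_⟩, Subtype.ext (funext fun n => ?_)⟩
      · show Formal2.towerDiff G t (Y z - U a) = 0
        rw [map_sub, show U a = fun n => u n (a n) from rfl, hu', ha]
        funext n
        rw [Pi.sub_apply, Pi.zero_apply, hW, sub_self]
      · show v n (Y z n - u n (a n)) = _
        rw [map_sub, hvu, sub_zero, hY]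
  · ext q
    constructor
    · rintro ⟨z, rfl⟩
      exact (QuotientAddGroup.eq_zero_iff _).mpr ⟨Y z, funext fun n => (hW z n).symm⟩
    · intro hq
      obtain ⟨w, rfl⟩ := QuotientAddGroup.mk_surjective q
      obtain ⟨y, hy⟩ := (QuotientAddGroup.eq_zero_iff (U w)).mp hq
      refine ⟨⟨fun n => v n (y n), ?_⟩, hδ _ y w (fun n => rfl) (fun n => (congrFun hy n).symm)⟩
      show Formal2.towerDiff G'' t'' _ = 0
      rw [hv', hy]
      exact funext fun n => hvu n _
  · ext q
    constructor
    · rintro ⟨a, rfl⟩
      obtain ⟨w, rfl⟩ := QuotientAddGroup.mk_surjective a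
      exact (QuotientAddGroup.eq_zero_iff _).mpr ⟨0, by
        rw [map_zero]; exact funext fun n => (hvu n _).symm⟩
    · intro hq
      obtain ⟨y, rfl⟩ := QuotientAddGroup.mk_surjective q
      obtain ⟨b, hb⟩ := (QuotientAddGroup.eq_zero_iff (V y)).mp hq
      choose c hc using fun n => hsurj n (b n)
      have : ∀ n, y n - Formal2.towerDiff G t c n ∈ (u n).range := fun n => by
        rw [← hex n, AddMonoidHom.mem_ker, map_sub]
        have h1 := congrFun (hv' c) n
        rw [← h1, show (fun n => v n (c n)) = b from funext hc, hb]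
        exact sub_self _
      choose w hw using this
      refine ⟨QuotientAddGroup.mk w, ?_⟩
      show (QuotientAddGroup.mk (fun n => u n (w n)) : Formal2.limOne G t) = QuotientAddGroup.mk y
      rw [QuotientAddGroup.eq]
      refine ⟨c, funext fun n => ?_⟩
      show _ = -(u n (w n)) + y n
      rw [hw]
      abel
  · intro q
    obtain ⟨b, rfl⟩ := QuotientAddGroup.mk_surjective q
    choose c hc using fun n => hsurj n (b n)
    exact ⟨QuotientAddGroup.mk c, congrArg QuotientAddGroup.mk (funext hc)⟩

end Groth.Agent.S14617
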