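import Groth.Statements.S14618
import Groth.Agent.LocSplitLib.Basic

set_option autoImplicit false
set_option backward.isDefEq.respectTransparency false
set_option maxHeartbeats 1000000
set_option linter.style.haveILetI false
universe u
open FlatMor

namespace Groth.Agent.S14618

open AlgebraicGeometry CategoryTheory CategoryTheory.Limits

/-- Being locally a split monomorphism is stable under inverse image. -/
theorem pullback_locSplit {X X' : Scheme.{u}} {F V : X.Modules} (u : F ⟶ V) (g : X' ⟶ X) (x' : X')
    {U : X.Opens} (hU : g x' ∈ U) (h : IsSplitMono ((Scheme.Modules.pullback U.ι).map u)) :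
    ∃ U' : X'.Opens, x' ∈ U' ∧ ∃ r : (Scheme.Modules.pullback U'.ι).obj ((Scheme.Modules.pullback g).obj V) ⟶
        (Scheme.Modules.pullback U'.ι).obj ((Scheme.Modules.pullback g).obj F),
      (Scheme.Modules.pullback U'.ι).map ((Scheme.Modules.pullback g).map u) ≫ r = 𝟙 _ := by
  let Φ : Scheme.Modules.pullback U.ι ⋙ Scheme.Modules.pullback (g ∣_ U) ≅
      Scheme.Modules.pullback g ⋙ Scheme.Modules.pullback (g ⁻¹ᵁ U).ι :=
    Scheme.Modules.pullbackComp (g ∣_ U) U.ι ≪≫ Scheme.Modules.pullbackCongr (morphismRestrict_ι g U) ≪≫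
      (Scheme.Modules.pullbackComp (g ⁻¹ᵁ U).ι g).symm
  haveI := h
  obtain ⟨⟨r, hr⟩⟩ := (Groth.Agent.LocSplitLib.isSplitMono_of_iso Φ u
    (inferInstanceAs (IsSplitMono ((Scheme.Modules.pullback (g ∣_ U)).map ((Scheme.Modules.pullback U.ι).map u))))).exists_splitMono
  exact ⟨g ⁻¹ᵁ U, hU, r, hr⟩

/-- The converse at a point. -/
theorem split_of_locSplit {X T : Scheme.{u}} {F V : X.Modules} (u : F ⟶ V) (hFt : CohB1.IsFT F)
    (hV : FlatMod.IsFinLocFree V) (g : T ⟶ X) (t : T) (U : T.Opens) (ht : t ∈ U)
    (r : (Scheme.Modules.pullback U.ι).obj ((Scheme.Modules.pullback g).obj V) ⟶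
      (Scheme.Modules.pullback U.ι).obj ((Scheme.Modules.pullback g).obj F))
    (hr : (Scheme.Modules.pullback U.ι).map ((Scheme.Modules.pullback g).map u) ≫ r = 𝟙 _) :
    ∃ l', l' ∘ₗ Groth.Agent.PullbackMod.stalkLin u (g t) = LinearMap.id := by
  have hs : IsSplitMono ((Scheme.Modules.pullback (U.ι ≫ g)).map u) :=
    Groth.Agent.LocSplitLib.isSplitMono_of_iso (Scheme.Modules.pullbackComp U.ι g) u (IsSplitMono.mk' ⟨r, hr⟩)
  refine (show (U.ι ≫ g) ⟨t, ht⟩ = g t from rfl) ▸
    Groth.Agent.LocSplitLib.split_of_pullback_mono u hFt hV (U.ι ≫ g) ⟨t, ht⟩ ?_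
  intro T' h' _
  haveI := hs
  haveI := Groth.Agent.LocSplitLib.isSplitMono_of_iso (Scheme.Modules.pullbackComp h' (U.ι ≫ g)) u
    (inferInstanceAs (IsSplitMono ((Scheme.Modules.pullback h').map ((Scheme.Modules.pullback (U.ι ≫ g)).map u))))
  infer_instance

open CategoryTheory CategoryTheory.Limits AlgebraicGeometry in
/-- Let f : X → S be a morphism of schemes and u : F → V a morphism of O_X-modules with F quasi-coherent
of finite type and V finite locally free. The following are equivalent: (a) u is a locally split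
monomorphism, i.e. every point of X has an open neighbourhood U such that the restriction of u to U
has a left inverse; (b) for every point s of S the pullback of u to the fibre X_s = X ×_S Spec κ(s)
is a locally split monomorphism on X_s; (c) for every point s of S the pullback of u to the
geometric fibre X ×_S Spec k̄, k̄ an algebraic closure of κ(s), is a locally split monomorphism.
Restrictions to opens and to fibres are written as module pullbacks along the corresponding
immersions/projections. (In the published statement X and S are schemes in a terminology where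
schemes are separated preschemes; the proof is local on X and on S, so this row assumes no
separatedness.) -/
theorem result {X S : Scheme.{u}} (f : X ⟶ S) {F V : X.Modules} (u : F ⟶ V)
    (hF : Coh.IsQCoh F) (hFt : CohB1.IsFT F) (hV : FlatMod.IsFinLocFree V) :
    [ ∀ x : X, ∃ U : X.Opens, x ∈ U ∧
        ∃ r : (Scheme.Modules.pullback U.ι).obj V ⟶ (Scheme.Modules.pullback U.ι).obj F,
          (Scheme.Modules.pullback U.ι).map u ≫ r = 𝟙 _,
      ∀ (s : S) (x : f.fiber s), ∃ U : (f.fiber s).Opens, x ∈ U ∧
        ∃ r : (Scheme.Modules.pullback U.ι).obj ((Scheme.Modules.pullback (f.fiberι s)).obj V) ⟶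
            (Scheme.Modules.pullback U.ι).obj ((Scheme.Modules.pullback (f.fiberι s)).obj F),
          (Scheme.Modules.pullback U.ι).map ((Scheme.Modules.pullback (f.fiberι s)).map u) ≫ r = 𝟙 _,
      ∀ (s : S) (x : ↑(pullback f (Spec.map (CommRingCat.ofHom (algebraMap (S.residueField s)
            (AlgebraicClosure (S.residueField s)))) ≫ S.fromSpecResidueField s))),
        ∃ U : Scheme.Opens _, x ∈ U ∧
        ∃ r : (Scheme.Modules.pullback U.ι).obj ((Scheme.Modules.pullback (pullback.fst f
              (Spec.map (CommRingCat.ofHom (algebraMap (S.residueField s) (AlgebraicClosure (S.residueField s)))) ≫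
                S.fromSpecResidueField s))).obj V) ⟶
            (Scheme.Modules.pullback U.ι).obj ((Scheme.Modules.pullback (pullback.fst f
              (Spec.map (CommRingCat.ofHom (algebraMap (S.residueField s) (AlgebraicClosure (S.residueField s)))) ≫
                S.fromSpecResidueField s))).obj F),
          (Scheme.Modules.pullback U.ι).map ((Scheme.Modules.pullback (pullback.fst f
              (Spec.map (CommRingCat.ofHom (algebraMap (S.residueField s) (AlgebraicClosure (S.residueField s)))) ≫
                S.fromSpecResidueField s))).map u) ≫ r = 𝟙 _ ].TFAE := by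
  have hsplit : ∀ {T : Scheme.{u}} (g : T ⟶ X), (∀ t : T, ∃ U : T.Opens, t ∈ U ∧
      ∃ r : (Scheme.Modules.pullback U.ι).obj ((Scheme.Modules.pullback g).obj V) ⟶
          (Scheme.Modules.pullback U.ι).obj ((Scheme.Modules.pullback g).obj F),
        (Scheme.Modules.pullback U.ι).map ((Scheme.Modules.pullback g).map u) ≫ r = 𝟙 _) →
      ∀ t : T, ∃ l', l' ∘ₗ Groth.Agent.PullbackMod.stalkLin u (g t) = LinearMap.id := fun {T} g h t => by
    obtain ⟨U, ht, r, hr⟩ := h t
    exact split_of_locSplit u hFt hV g t U ht r hr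
  have hback : (∀ x : X, ∃ l', l' ∘ₗ Groth.Agent.PullbackMod.stalkLin u x = LinearMap.id) →
      ∀ x : X, ∃ U : X.Opens, x ∈ U ∧
        ∃ r : (Scheme.Modules.pullback U.ι).obj V ⟶ (Scheme.Modules.pullback U.ι).obj F,
          (Scheme.Modules.pullback U.ι).map u ≫ r = 𝟙 _ := fun hs x => by
    obtain ⟨U, hx, h⟩ := Groth.Agent.LocSplitLib.exists_nhd_isSplitMono u hFt hV hs x
    obtain ⟨⟨r, hr⟩⟩ := h.exists_splitMono
    exact ⟨U, hx, r, hr⟩
  tfae_have 1 → 2 := fun h s x => by
    obtain ⟨U, hx, r, hr⟩ := h (f.fiberι s x)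
    exact pullback_locSplit u (f.fiberι s) x hx (IsSplitMono.mk' ⟨r, hr⟩)
  tfae_have 1 → 3 := fun h s x => by
    obtain ⟨U, hx, r, hr⟩ := h (pullback.fst f (Spec.map (CommRingCat.ofHom (algebraMap (S.residueField s)
      (AlgebraicClosure (S.residueField s)))) ≫ S.fromSpecResidueField s) x)
    exact pullback_locSplit u _ x hx (IsSplitMono.mk' ⟨r, hr⟩)
  tfae_have 2 → 1 := fun h => hback fun x => by
    have := hsplit (f.fiberι (f x)) (h (f x)) (f.asFiber x)
    rwa [f.fiberι_asFiber x] at this
  tfae_have 3 → 1 := fun h => hback fun x => by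
    let k := Spec.map (CommRingCat.ofHom (algebraMap (S.residueField (f x))
      (AlgebraicClosure (S.residueField (f x))))) ≫ S.fromSpecResidueField (f x)
    obtain ⟨z, hz, -⟩ := Scheme.Pullback.exists_preimage_pullback (f := f) (g := k) x
      (IsLocalRing.closedPoint _) ((Scheme.Hom.comp_apply _ _ _).trans (Scheme.fromSpecResidueField_apply (f x) _)).symm
    have := hsplit (pullback.fst f k) (h (f x)) z
    rwa [hz] at this
  tfae_finish

end Groth.Agent.S14618
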