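import Groth.Statements.S14620
import Groth.Agent.Hensel.Idempotent
import Groth.Agent.Hensel.Basic

set_option autoImplicit false
universe u
open Hensel

namespace Groth.Agent.S14620

/-- In the strictly henselian case, let f : A → B be a finite local homomorphism of local rings. If A is
strictly henselian (henselian local with separably closed residue field), then so is B. -/
theorem result {A B : Type u} [CommRing A] [IsLocalRing A]
    [CommRing B] [IsLocalRing B] (f : A →+* B) (hf : f.Finite) [IsLocalHom f]
    (hA : EtCoh.IsStrictlyHenselianLocalRing A) : EtCoh.IsStrictlyHenselianLocalRing B := by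
  obtain ⟨hh, hsep⟩ := hA
  letI := f.toAlgebra
  haveI : Module.Finite A B := hf
  haveI : IsLocalHom (algebraMap A B) := ‹IsLocalHom f›
  haveI : HenselianRing A (IsLocalRing.maximalIdeal A) := inferInstance
  have h := Groth.Agent.Hensel.of_isIntegral (I := IsLocalRing.maximalIdeal A) B
  have hr : ((IsLocalRing.maximalIdeal A).map (algebraMap A B)).radical = (IsLocalRing.maximalIdeal B).radical := by
    refine le_antisymm (Ideal.radical_mono (((IsLocalRing.local_hom_TFAE (algebraMap A B)).out 0 2 rfl rfl).mp inferInstance)) ?_
    rw [(IsLocalRing.maximalIdeal.isMaximal B).isPrime.radical, Ideal.radical_eq_sInf]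
    refine le_sInf fun P hP => ?_
    have := hP.2
    refine (IsLocalRing.eq_maximalIdeal (Ideal.isMaximal_of_isIntegral_of_isMaximal_comap (R := A) P ?_)).ge
    rw [← (IsLocalRing.maximalIdeal.isMaximal A).eq_of_le (Ideal.IsPrime.ne_top inferInstance)
      (Ideal.map_le_iff_le_comap.1 hP.1)]
    exact IsLocalRing.maximalIdeal.isMaximal A
  rw [Groth.Agent.Hensel.iff_of_radical_eq hr] at h
  refine ⟨Groth.Agent.Hensel.henselianRing_maximalIdeal_iff.1 h, ?_⟩
  haveI : Module.Finite (IsLocalRing.ResidueField A) (IsLocalRing.ResidueField B) :=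
    Module.Finite.of_restrictScalars_finite A _ _
  haveI := hsep
  exact Algebra.IsAlgebraic.isSepClosed (F := IsLocalRing.ResidueField A)

end Groth.Agent.S14620
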