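import Groth.Statements.S14624
import Mathlib
import Groth.Agent.FPSysLib.Algebra
-- import your own Groth.Agent.* helpers here

set_option autoImplicit false
open CategoryTheory CategoryTheory.Limits
universe u
open Hensel

namespace Groth.Agent.S14624

/-- Let A be a commutative ring, m a proper ideal of A and Â the m-adic completion. Assume the
approximation property for polynomial systems: whenever finitely many polynomials over A in finitely
many variables have a common zero â in Â, then for every c there is a common zero a in A which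
agrees with â in A/m^c. Let F be a functor from A-algebras (commutative rings under A) to sets which
preserves filtered colimits, c a natural number and ξ ∈ F(Â). Then there is η ∈ F(A) whose image in
F(A/m^c) equals the image of ξ; here π is the A-algebra map Â → A/m^c (pinned by its underlying ring
map) and ρ the A-algebra map A → A/m^c. (The published statement takes for A the henselization at a
prime ideal of an algebra of finite type over a field or over an excellent discrete valuation ring,
for which the approximation property of polynomial systems is quoted; this row carries that property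
as a hypothesis and draws the published conclusion for functors.) -/
theorem result (A : Type u) [CommRing A]
    (m : Ideal A) (hm : m ≠ ⊤)
    (hAP : ∀ (k l c : ℕ) (f : Fin l → MvPolynomial (Fin k) A) (â : Fin k → AdicCompletion m A),
      (∀ i, MvPolynomial.aeval â (f i) = 0) →
      ∃ a : Fin k → A, (∀ i, MvPolynomial.eval a (f i) = 0) ∧
        ∀ j, Ideal.Quotient.mk (m ^ c) (a j) = AdicCompletion.evalₐ m c (â j))
    (F : Under (CommRingCat.of A) ⥤ Type u)
    (hF : ∀ (J : Type u) [SmallCategory J] [IsFiltered J], PreservesColimitsOfShape J F)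
    (c : ℕ)
    (π : Under.mk (CommRingCat.ofHom (algebraMap A (AdicCompletion m A))) ⟶
      Under.mk (CommRingCat.ofHom (algebraMap A (A ⧸ m ^ c))))
    (hπ : π.right = CommRingCat.ofHom
      (AdicCompletion.evalₐ m c : AdicCompletion m A →ₐ[A] A ⧸ m ^ c).toRingHom)
    (ρ : Under.mk (𝟙 (CommRingCat.of A)) ⟶ Under.mk (CommRingCat.ofHom (algebraMap A (A ⧸ m ^ c))))
    (ξ : F.obj (Under.mk (CommRingCat.ofHom (algebraMap A (AdicCompletion m A))))) :
    ∃ η : F.obj (Under.mk (𝟙 (CommRingCat.of A))), F.map ρ η = F.map π ξ := by
  classical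
  let Â := AdicCompletion m A
  let P := FPSysLib.Alg.Idx A Â
  let D : P ⥤ Under (CommRingCat.of A) :=
    { obj := fun p => Under.mk (CommRingCat.ofHom (algebraMap A (FPSysLib.Alg.Stage p)))
      map := fun {p q} h => Under.homMk (CommRingCat.ofHom (FPSysLib.Alg.trans p q (leOfHom h)).toRingHom)
        (CommRingCat.hom_ext (FPSysLib.Alg.trans p q (leOfHom h)).comp_algebraMap)
      map_id := fun p => by
        ext x
        exact DFunLike.congr_fun (FPSysLib.Alg.trans_self p) x
      map_comp := fun {p q r} f g => by
        ext x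
        exact (DFunLike.congr_fun (FPSysLib.Alg.trans_trans (leOfHom f) (leOfHom g)) x).symm }
  let co : Cocone D :=
    { pt := Under.mk (CommRingCat.ofHom (algebraMap A Â))
      ι :=
        { app := fun p => Under.homMk (CommRingCat.ofHom (FPSysLib.Alg.toLim p).toRingHom)
            (CommRingCat.hom_ext (FPSysLib.Alg.toLim p).comp_algebraMap)
          naturality := fun p q h => by
            ext x
            exact DFunLike.congr_fun (FPSysLib.Alg.toLim_trans p q (leOfHom h)) x } }
  obtain ⟨hco⟩ := FPSysLib.Alg.nonempty_isColimit co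
    (fun x => FPSysLib.Alg.exists_toLim_eq (R := A) (A := Â) x)
    (fun p x y hxy => by
      obtain ⟨q, h, -, hq⟩ := FPSysLib.Alg.exists_trans_eq_zero p (x - y)
        ((map_sub (FPSysLib.Alg.toLim p) x y).trans (sub_eq_zero.2 hxy))
      exact ⟨q, h, sub_eq_zero.1 ((map_sub (FPSysLib.Alg.trans p q h) x y).symm.trans hq)⟩)
  haveI := hF P
  obtain ⟨p, y, rfl⟩ := Types.jointly_surjective _ (isColimitOfPreserves F hco) ξ
  let G := {x // x ∈ p.1.1}
  let e : G ≃ Fin (Fintype.card G) := Fintype.equivFin G
  let W : Set (MvPolynomial G A) := {w | MvPolynomial.rename Subtype.val w ∈ p.1.2}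
  have hW : W.Finite :=
    Set.Finite.preimage (MvPolynomial.rename_injective _ Subtype.val_injective).injOn p.1.2.finite_toSet
  haveI : Finite W := hW
  haveI : Fintype W := Fintype.ofFinite _
  let eW : W ≃ Fin (Fintype.card W) := Fintype.equivFin W
  obtain ⟨a, ha, hac⟩ := hAP (Fintype.card G) (Fintype.card W) c
    (fun i => MvPolynomial.rename e (eW.symm i).1) (fun j => ((e.symm j).1 : Â)) (fun i => by
      rw [MvPolynomial.aeval_rename]
      have h0 := FPSysLib.Alg.rel_le p (eW.symm i).1 (Ideal.subset_span (eW.symm i).2)
      simpa [Function.comp_def] using h0)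
  let σ₀ : MvPolynomial G A →ₐ[A] A := MvPolynomial.aeval fun g => a (e g)
  have hσ : FPSysLib.Alg.rel p ≤ RingHom.ker σ₀ := Ideal.span_le.2 fun w hw => by
    have h0 := ha (eW ⟨w, hw⟩)
    rw [Equiv.symm_apply_apply, MvPolynomial.eval_rename] at h0
    exact h0
  let σ : FPSysLib.Alg.Stage p →ₐ[A] A := Ideal.Quotient.liftₐ _ σ₀ fun w hw => hσ hw
  let σ' : D.obj p ⟶ Under.mk (𝟙 (CommRingCat.of A)) :=
    Under.homMk (CommRingCat.ofHom σ.toRingHom) (CommRingCat.hom_ext σ.comp_algebraMap)
  have key : σ' ≫ ρ = co.ι.app p ≫ π := by
    apply Under.UnderMorphism.ext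
    apply CommRingCat.hom_ext
    have e1 : (Ideal.Quotient.mkₐ A (m ^ c)).comp σ =
        (AdicCompletion.evalₐ m c).comp (FPSysLib.Alg.toLim p) :=
      Ideal.Quotient.algHom_ext _ (MvPolynomial.algHom_ext fun g => by
        show Ideal.Quotient.mk (m ^ c) (σ₀ (MvPolynomial.X g)) =
          AdicCompletion.evalₐ m c (FPSysLib.Alg.toLim p (Ideal.Quotient.mk _ (MvPolynomial.X g)))
        rw [FPSysLib.Alg.toLim_mk, MvPolynomial.aeval_X]
        simp only [σ₀, MvPolynomial.aeval_X]
        rw [hac (e g), Equiv.symm_apply_apply])
    have hρ : ρ.right = CommRingCat.ofHom (algebraMap A (A ⧸ m ^ c)) := by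
      simpa using (Under.w ρ)
    rw [Under.comp_right, Under.comp_right, hπ, hρ]
    exact congrArg AlgHom.toRingHom e1
  refine ⟨F.map σ' y, ?_⟩
  show F.map ρ (F.map σ' y) = F.map π (F.map (co.ι.app p) y)
  rw [← Functor.map_comp_apply, ← Functor.map_comp_apply, key]

end Groth.Agent.S14624
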