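import Groth.Statements.S14629
import Groth.Agent.PicDefLib.Main
-- import your own Groth.Agent.* helpers here

set_option autoImplicit false
open CategoryTheory CategoryTheory.Limits AlgebraicGeometry
universe u
open PicF

namespace Groth.Agent.S14629

theorem iso_of_cl_eq {Y : Scheme.{u}} {L L' : Y.Modules} (h : PicF.cl L = PicF.cl L') : Nonempty (L ≅ L') := by
  have h' := Quot.eqvGen_exact h
  clear h
  induction h' with
  | rel _ _ h => exact h
  | refl _ => exact ⟨Iso.refl _⟩
  | symm _ _ _ h => exact ⟨h.some.symm⟩
  | trans _ _ _ _ _ h h' => exact ⟨h.some ≪≫ h'.some⟩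


/-- Let X be a scheme and I a quasi-coherent ideal sheaf of square zero defining the closed subscheme i
: X₀ → X, and suppose H¹(X, I) = 0 for the ideal regarded as an O_X-module (Zariski cohomology).
Then two invertible O_X-modules with isomorphic pullbacks to X₀ are isomorphic: restriction of
Picard groups along i is injective. (The published statement allows a nilpotent ideal with the same
hypothesis on I alone; its proof treats the square-zero case, which is what is stated.) -/
theorem result (X : Scheme.{u}) (I : X.IdealSheafData)
    (hI : I * I = ⊥) (h1 : Subsingleton (Coh.HH X (ClSub.idealMod I) 1))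
    (c d : PicF.Cl X) (hc : PicF.IsInvertibleCl c) (hd : PicF.IsInvertibleCl d)
    (h : PicF.pullCl I.subschemeι c = PicF.pullCl I.subschemeι d) : c = d := by
  obtain ⟨L, rfl, hL⟩ := hc
  obtain ⟨M, rfl, hM⟩ := hd
  haveI := h1
  obtain ⟨φ⟩ := iso_of_cl_eq h
  obtain ⟨e⟩ := PicDefLib.nonempty_iso_of_pullback I hI hL hM φ
  exact Quot.sound ⟨e⟩

end Groth.Agent.S14629
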