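import Groth.Statements.S14631
import Mathlib

set_option backward.isDefEq.respectTransparency false
set_option autoImplicit false
open CategoryTheory AlgebraicGeometry
universe u
open EtBase

namespace Groth.Agent.S14631

/-- Let X be a quasi-separated scheme and U an étale X-scheme. Then there is a jointly surjective family
of étale U-schemes each of which is quasi-compact and quasi-separated, hence of finite presentation,
over X. (Sheaves on the small étale site are therefore determined by their values on étale X-schemes
of finite presentation; that equivalence is not stated here.) -/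
theorem result (X : Scheme.{u})
    [QuasiSeparatedSpace ↥X] (U : X.Etale) :
    ∃ (ι : Type u) (V : ι → Over U), (∀ i, QuasiCompact (V i).left.hom ∧ QuasiSeparated (V i).left.hom) ∧
      ∀ x : ↥(U.left), ∃ (i : ι) (y : ↥((V i).left.left)), (V i).hom.left.base y = x := by
  haveI hUet : Etale U.hom := U.prop
  let mk : U.left.affineOpens → Over U := fun O =>
    Over.mk (Y := MorphismProperty.Over.mk (⊤ : MorphismProperty Scheme.{u}) (O.1.ι ≫ U.hom)
      (inferInstance : Etale (O.1.ι ≫ U.hom))) (MorphismProperty.Over.homMk O.1.ι rfl trivial)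
  refine ⟨U.left.affineOpens, mk, fun O => ?_, fun x => ?_⟩
  · haveI : CompactSpace ↥(O.1 : Scheme.{u}) := isCompact_iff_compactSpace.mp O.2.isCompact
    haveI : IsAffine (O.1 : Scheme.{u}) := O.2
    haveI : QuasiSeparatedSpace ↥(O.1 : Scheme.{u}) := inferInstance
    show QuasiCompact (O.1.ι ≫ U.hom) ∧ QuasiSeparated (O.1.ι ≫ U.hom)
    haveI : QuasiSeparatedSpace ↥((CategoryTheory.Functor.fromPUnit X).obj U.right) := ‹QuasiSeparatedSpace ↥X›
    exact ⟨quasiCompact_of_compactSpace _, inferInstance⟩
  · obtain ⟨_, ⟨O, hO, rfl⟩, hx, -⟩ := U.left.isBasis_affineOpens.exists_subset_of_mem_open (Set.mem_univ x) isOpen_univ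
    exact ⟨⟨O, hO⟩, ⟨x, hx⟩, rfl⟩

end Groth.Agent.S14631
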