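import Groth.Statements.S14634
import Groth.Agent.S4643
import Groth.Agent.MonoFibre.AntiAffine
import Groth.Agent.ASp.PropDescend
import Groth.Agent.RatDenseLib.Group

set_option autoImplicit false
universe u
open CategoryTheory MonoidalCategory CartesianMonoidalCategory MonObj GrpObj AlgebraicGeometry CategoryTheory.Limits
open AlgGrp

namespace Groth.Agent.S14634

/-- Over a field k, let G be a smooth connected k-group scheme of finite type acting on a curve C, i.e.
a separated, geometrically integral k-scheme of finite type of dimension 1. Then C is almost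
homogeneous under G, meaning that the graph morphism G × C → C × C, (g, x) ↦ (x, g·x), is dominant,
if and only if the action is not the trivial one (the action morphism is not the second projection). -/
theorem result (k : Type u) [Field k]
    (G C : Over (Spec (CommRingCat.of k))) [GrpObj G] [Smooth G.hom] [QuasiCompact G.hom] [ConnectedSpace ↥G.left]
    [IsSeparated C.hom] [LocallyOfFiniteType C.hom] [QuasiCompact C.hom] [GeometricallyIntegral C.hom] (hdim : topologicalKrullDim ↥C.left = 1)
    (a : AlgGrp.Action G C) :
    IsDominant (CartesianMonoidalCategory.lift (CartesianMonoidalCategory.snd G C) a.act).left ↔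
      a.act ≠ CartesianMonoidalCategory.snd G C := by
  haveI : IsIntegral C.left := GeometricallyIntegral.isIntegral_of_subsingleton C.hom
  haveI : IrreducibleSpace (G ⊗ C).left := MonoFibre.AntiAffine.irreducibleSpace_tensor C
  haveI : IrreducibleSpace (C ⊗ C).left := by
    haveI : GeometricallyIrreducible C.hom := inferInstance
    haveI : UniversallyOpen C.hom := inferInstance
    haveI : UniversallyOpen (Limits.pullback.snd C.hom C.hom) := MorphismProperty.pullback_snd _ _ ‹UniversallyOpen C.hom›
    exact GeometricallyIrreducible.irreducibleSpace (Limits.pullback.snd C.hom C.hom) (Limits.pullback.snd C.hom C.hom).isOpenMap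
  have hdim2 : topologicalKrullDim ↥(C ⊗ C).left = 2 := by
    show topologicalKrullDim ↥(Limits.pullback C.hom C.hom) = 2
    rw [S4643.result C.hom C.hom, hdim]; rfl
  let δ : C ⟶ C ⊗ C := lift (𝟙 C) (𝟙 C)
  haveI hδ : IsClosedImmersion δ.left := by
    have : δ.left = Limits.pullback.diagonal C.hom := by
      apply Limits.pullback.hom_ext
      · rw [Limits.pullback.diagonal_fst]
        exact congrArg Over.Hom.left (lift_fst (𝟙 C) (𝟙 C))
      · rw [Limits.pullback.diagonal_snd]
        exact congrArg Over.Hom.left (lift_snd (𝟙 C) (𝟙 C))
    rw [this]; infer_instance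
  let σ := lift (snd G C) a.act
  have hunit : lift (1 : C ⟶ G) (𝟙 C) ≫ σ = δ := by
    simp only [σ, δ, comp_lift, lift_snd, a.lift_one_act]
  have hΔsub : Set.range δ.left ⊆ Set.range σ.left := by
    rw [← hunit, Over.comp_left]
    rintro _ ⟨c, rfl⟩
    exact ⟨_, (Scheme.Hom.comp_apply _ _ _).symm⟩
  constructor
  · intro hdom heq
    haveI : IsDominant σ.left := hdom
    have h1 : σ = snd G C ≫ δ := by simp only [σ, δ, comp_lift, Category.comp_id, heq]
    have h2 : Set.range σ.left ⊆ Set.range δ.left := by
      rw [h1, Over.comp_left]
      rintro _ ⟨z, rfl⟩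
      exact ⟨_, (Scheme.Hom.comp_apply _ _ _).symm⟩
    have h3 : Set.range δ.left = Set.univ := Set.eq_univ_of_univ_subset (by
      rw [← (Scheme.Hom.denseRange σ.left).closure_range]
      exact closure_minimal h2 δ.left.isClosedEmbedding.isClosed_range)
    have h4 : IsHomeomorph δ.left := isHomeomorph_iff_isEmbedding_surjective.2
      ⟨δ.left.isClosedEmbedding.isEmbedding, Set.range_eq_univ.1 h3⟩
    have := IsHomeomorph.topologicalKrullDim_eq _ h4
    rw [hdim, hdim2] at this
    exact absurd this (by decide)
  · intro hne
    refine ⟨dense_iff_closure_eq.mpr ?_⟩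
    by_contra hZ
    haveI : AlgebraicGeometry.IsReduced (G ⊗ C).left := ASp.isReduced_of_smooth (Limits.pullback.snd G.hom C.hom)
    have hlt : Set.range δ.left ⊂ closure (Set.range σ.left) := by
      refine ⟨hΔsub.trans subset_closure, fun h => hne ?_⟩
      obtain ⟨g, hg⟩ := RatDenseLib.exists_lift δ σ (subset_closure.trans h)
      have e1 : g = snd G C := by
        have := congrArg (· ≫ fst C C) hg
        simpa [δ, σ] using this
      have e2 := congrArg (· ≫ snd C C) hg
      simp [δ, σ, e1] at e2
      exact e2.symm
    obtain ⟨A, B, hAB⟩ : ∃ A B : TopologicalSpace.IrreducibleCloseds C.left, A < B := by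
      by_contra h
      push Not at h
      have : topologicalKrullDim C.left ≤ 0 := Order.krullDim_nonpos_iff_forall_isMax.2 fun A B hAB => by
        by_contra h'
        exact h A B (lt_of_le_not_ge hAB h')
      rw [hdim] at this
      exact absurd this (by decide)
    let im : TopologicalSpace.IrreducibleCloseds C.left → TopologicalSpace.IrreducibleCloseds (C ⊗ C).left := fun s =>
      ⟨δ.left '' s, s.isIrreducible.image _ δ.left.continuous.continuousOn,
        δ.left.isClosedEmbedding.isClosedMap _ s.isClosed⟩
    let Z : TopologicalSpace.IrreducibleCloseds (C ⊗ C).left :=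
      ⟨closure (Set.range σ.left), (by
        rw [← Set.image_univ]
        exact ((IrreducibleSpace.isIrreducible_univ _).image _ σ.left.continuous.continuousOn).closure), isClosed_closure⟩
    let W : TopologicalSpace.IrreducibleCloseds (C ⊗ C).left := ⟨Set.univ, IrreducibleSpace.isIrreducible_univ _, isClosed_univ⟩
    have l1 : im A < im B := δ.left.isClosedEmbedding.injective.image_strictMono hAB
    have l2 : im B < Z := show (δ.left '' B : Set _) ⊂ closure (Set.range σ.left) from (Set.image_subset_range _ _).trans_ssubset hlt
    have l3 : Z < W := ⟨Set.subset_univ _, fun h => hZ (Set.eq_univ_of_univ_subset h)⟩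
    have h3 : (3 : WithBot ℕ∞) ≤ topologicalKrullDim ↥(C ⊗ C).left :=
      Order.LTSeries.length_le_krullDim
        ((((RelSeries.singleton _ (im A)).snoc (im B) l1).snoc Z (by simpa using l2)).snoc W (by simpa using l3))
    rw [hdim2] at h3
    exact absurd h3 (by decide)

end Groth.Agent.S14634
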