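import Groth.Statements.S14636
import Groth.Agent.H6HomogNorm

set_option autoImplicit false
universe u
open CategoryTheory MonoidalCategory CartesianMonoidalCategory MonObj GrpObj AlgebraicGeometry CategoryTheory.Limits
open AlgGrp

namespace Groth.Agent.S14636

open CategoryTheory CategoryTheory.Limits AlgebraicGeometry

open Groth.Agent MonoidalCategory CartesianMonoidalCategory
set_option backward.isDefEq.respectTransparency false

/-- Over a field k, let G be a smooth connected k-group scheme of finite type acting on a variety X (a
separated, geometrically integral k-scheme of finite type), let ν : X̃ → X be the normalization of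
X, and let G act on X̃ so that ν is equivariant (such an action exists and is unique). Then X is
almost homogeneous, i.e. the graph morphism G × X → X × X, (g, x) ↦ (x, g·x), is dominant, if and
only if X̃ is almost homogeneous for the lifted action. (The quasi-compactness and
quasi-separatedness binders on the morphism from the generic point always hold; they are only needed
to form the normalization.) -/
theorem result (k : Type u) [Field k]
    (G X : Over (Spec (CommRingCat.of k))) [GrpObj G] [Smooth G.hom] [QuasiCompact G.hom] [ConnectedSpace ↥G.left]
    [IsSeparated X.hom] [LocallyOfFiniteType X.hom] [QuasiCompact X.hom] [GeometricallyIntegral X.hom] [IsIntegral X.left] [QuasiCompact (X.left.fromSpecStalk (genericPoint ↥X.left))] [QuasiSeparated (X.left.fromSpecStalk (genericPoint ↥X.left))]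
    (a : AlgGrp.Action G X)
    (b : AlgGrp.Action G (Over.mk (Curv2.normalizationι X.left ≫ X.hom)))
    (hb : (G ◁ (Over.homMk (Curv2.normalizationι X.left) rfl : Over.mk (Curv2.normalizationι X.left ≫ X.hom) ⟶ X)) ≫ a.act =
      b.act ≫ Over.homMk (Curv2.normalizationι X.left) rfl) :
    IsDominant (CartesianMonoidalCategory.lift (CartesianMonoidalCategory.snd G X) a.act).left ↔
      IsDominant (CartesianMonoidalCategory.lift
        (CartesianMonoidalCategory.snd G (Over.mk (Curv2.normalizationι X.left ≫ X.hom))) b.act).left := by
  letI : X.left.Over (Spec (CommRingCat.of k)) := ⟨X.hom⟩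
  haveI : LocallyOfFiniteType (X.left ↘ Spec (CommRingCat.of k)) := ‹LocallyOfFiniteType X.hom›
  obtain ⟨hfin, hdom, ⟨V, hV, hiso⟩, hint, -⟩ := S1585.result k X.left
  haveI := hfin
  haveI := hdom
  haveI := hint
  haveI : Surjective (Curv2.normalizationι X.left) :=
    ⟨Set.range_eq_univ.mp (by
      rw [← (Curv2.normalizationι X.left).denseRange.closure_range,
        (Curv2.normalizationι X.left).isClosedMap.isClosed_range.closure_eq])⟩
  let n : Over.mk (Curv2.normalizationι X.left ≫ X.hom) ⟶ X :=
    Over.homMk (Curv2.normalizationι X.left) rfl
  haveI : IsFinite n.left := hfin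
  haveI : Surjective n.left := inferInstanceAs (Surjective (Curv2.normalizationι X.left))
  haveI : IsIntegral (Over.mk (Curv2.normalizationι X.left ≫ X.hom)).left := hint
  haveI : LocallyOfFiniteType (Over.mk (Curv2.normalizationι X.left ≫ X.hom)).hom :=
    inferInstanceAs (LocallyOfFiniteType (Curv2.normalizationι X.left ≫ X.hom))
  refine H6HomogNorm.isDominant_iff n V hV hiso _ _ ?_
  refine CartesianMonoidalCategory.hom_ext _ _ ?_ ?_
  · simp
  · simp only [Category.assoc, lift_snd, tensorHom_snd]
    rw [reassoc_of% lift_snd (snd G _) b.act]
    exact hb


end Groth.Agent.S14636
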