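import Groth.Statements.S14637
import Mathlib

set_option autoImplicit false
universe u
open CategoryTheory MonoidalCategory CartesianMonoidalCategory MonObj GrpObj AlgebraicGeometry CategoryTheory.Limits
open AlgGrp

namespace Groth.Agent.S14637

open LaurentPolynomial in
private theorem unit_form {R : Type*} [CommRing R] [IsDomain R] {u : LaurentPolynomial R} (hu : IsUnit u) :
    ∃ (r : R) (n : ℤ), IsUnit r ∧ u = C r * T n := by
  obtain ⟨v, hv⟩ := hu.exists_right_inv
  obtain ⟨m, p, hp⟩ := exists_T_pow u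
  obtain ⟨l, q, hq⟩ := exists_T_pow v
  have hpq : p * q = Polynomial.X ^ (m + l) := by
    apply Polynomial.toLaurent_injective
    rw [map_mul, hp, hq, Polynomial.toLaurent_X_pow, _root_.mul_mul_mul_comm, hv, _root_.one_mul, ← T_add]
    push_cast; rfl
  obtain ⟨i, -, hi⟩ := (dvd_prime_pow Polynomial.prime_X _).mp ⟨q, hpq.symm⟩
  obtain ⟨w, hw⟩ := hi.symm
  obtain ⟨r, hr, hrw⟩ := Polynomial.isUnit_iff.mp w.isUnit
  refine ⟨r, (i : ℤ) - m, hr, ?_⟩
  have h1 : u * T (m : ℤ) = C r * T (i : ℤ) := by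
    rw [← hp, ← hw, map_mul, Polynomial.toLaurent_X_pow, ← hrw, Polynomial.toLaurent_C, _root_.mul_comm]
  have h2 := congrArg (· * T (-(m : ℤ))) h1
  simp only [_root_.mul_assoc, ← T_add, add_neg_cancel, T_zero, _root_.mul_one] at h2
  rw [sub_eq_add_neg]
  exact h2

open LaurentPolynomial in
private theorem hom_ext' {k A : Type*} [CommRing k] [CommRing A] {f f' : LaurentPolynomial k →+* A}
    (hC : ∀ c, f (C c) = f' (C c)) (hT : f (T 1) = f' (T 1)) : f = f' := by
  refine RingHom.ext fun x => ?_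
  obtain ⟨m, p, hp⟩ := exists_T_pow x
  have hT' : ∀ n : ℕ, f (T (n : ℤ)) = f' (T (n : ℤ)) := fun n => by
    rw [← _root_.mul_one (n : ℤ), ← T_pow, map_pow, map_pow, hT]
  have hpol : f.comp Polynomial.toLaurent = f'.comp Polynomial.toLaurent :=
    Polynomial.ringHom_ext (fun a => by simp [hC]) (by simp [hT])
  have h := RingHom.congr_fun hpol p
  simp only [RingHom.comp_apply, hp, map_mul, hT'] at h
  exact ((isUnit_T (m : ℤ)).map f').mul_left_inj.mp h

/-- Over a field k, the only structure of algebraic group on the punctured affine line Spec k[T, T⁻¹]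
with unit element the point T = 1 is the multiplicative group. Precisely: let G be a k-group scheme
and e an isomorphism of k-schemes from the underlying scheme of G to Spec k[T, T⁻¹] under which the
unit section has T-coordinate 1; then for every k-scheme S and all S-valued points g, h of G, the
T-coordinate of g · h (the pull-back of the global function T along the point composed with e) is
the product of the T-coordinates of g and of h. -/
theorem result (k : Type u) [Field k]
    (G : Over (Spec (CommRingCat.of k))) [GrpObj G]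
    (e : G.left ≅ Spec (CommRingCat.of (LaurentPolynomial k)))
    (he : e.hom ≫ Spec.map (CommRingCat.ofHom (algebraMap k (LaurentPolynomial k))) = G.hom)
    (hunit : ((η[G]).left ≫ e.hom).appTop.hom ((Scheme.ΓSpecIso (CommRingCat.of (LaurentPolynomial k))).inv.hom (LaurentPolynomial.T 1)) = 1)
    (S : Over (Spec (CommRingCat.of k))) (g h : S ⟶ G) :
    ((g * h).left ≫ e.hom).appTop.hom ((Scheme.ΓSpecIso (CommRingCat.of (LaurentPolynomial k))).inv.hom (LaurentPolynomial.T 1)) =
      (g.left ≫ e.hom).appTop.hom ((Scheme.ΓSpecIso (CommRingCat.of (LaurentPolynomial k))).inv.hom (LaurentPolynomial.T 1)) * (h.left ≫ e.hom).appTop.hom ((Scheme.ΓSpecIso (CommRingCat.of (LaurentPolynomial k))).inv.hom (LaurentPolynomial.T 1)) := by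
  let B := CommRingCat.of (LaurentPolynomial k)
  let alg : k →+* LaurentPolynomial k := algebraMap k (LaurentPolynomial k)
  let t : Γ(Spec B, ⊤) := (Scheme.ΓSpecIso B).inv.hom (LaurentPolynomial.T 1)
  let co : ∀ {X : Over (Spec (CommRingCat.of k))}, (X ⟶ G) → Γ(X.left, ⊤) :=
    fun {X} x => (x.left ≫ e.hom).appTop.hom t
  let st : ∀ (X : Over (Spec (CommRingCat.of k))), k →+* Γ(X.left, ⊤) :=
    fun X => ((Scheme.ΓSpecIso (CommRingCat.of k)).inv ≫ X.hom.appTop).hom
  let cB : ∀ {X : Over (Spec (CommRingCat.of k))}, (X ⟶ G) → LaurentPolynomial k →+* Γ(X.left, ⊤) :=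
    fun {X} x => ((Scheme.ΓSpecIso B).inv ≫ (x.left ≫ e.hom).appTop).hom
  have cB_C : ∀ {X : Over (Spec (CommRingCat.of k))} (x : X ⟶ G) (c : k),
      cB x (LaurentPolynomial.C c) = st X c := by
    intro X x c
    have w : (x.left ≫ e.hom) ≫ Spec.map (CommRingCat.ofHom alg) = X.hom := by
      rw [Category.assoc, he, Over.w x]
    have h2 : CommRingCat.ofHom alg ≫ (Scheme.ΓSpecIso B).inv ≫ (x.left ≫ e.hom).appTop =
        (Scheme.ΓSpecIso (CommRingCat.of k)).inv ≫ X.hom.appTop := by
      rw [Scheme.ΓSpecIso_inv_naturality_assoc, ← Scheme.Hom.comp_appTop, w]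
    exact ConcreteCategory.congr_hom h2 c
  have ext' : ∀ {X : Over (Spec (CommRingCat.of k))} (x y : X ⟶ G), co x = co y → x = y := by
    intro X x y h
    have h1 : cB x = cB y := hom_ext' (fun c => by rw [cB_C, cB_C]) h
    refine Over.OverMorphism.ext ((cancel_mono e.hom).mp (ext_of_isAffine ?_))
    rw [← cancel_epi (Scheme.ΓSpecIso B).inv]
    exact CommRingCat.hom_ext h1
  have co_comp : ∀ {X Y : Over (Spec (CommRingCat.of k))} (φ : X ⟶ Y) (y : Y ⟶ G),
      co (φ ≫ y) = φ.left.appTop.hom (co y) := by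
    intro X Y φ y
    show ((φ ≫ y).left ≫ e.hom).appTop.hom t = _
    rw [Over.comp_left, Category.assoc, Scheme.Hom.comp_appTop]
    rfl
  have co_unit : ∀ {X : Over (Spec (CommRingCat.of k))} (x : X ⟶ G), IsUnit (co x) := fun {X} x =>
    (LaurentPolynomial.isUnit_T 1).map (cB x)
  have co_one : ∀ (X : Over (Spec (CommRingCat.of k))), co (1 : X ⟶ G) = 1 := by
    intro X
    rw [Hom.one_def, co_comp]
    exact (congrArg _ hunit).trans (map_one _)
  -- the universal pair of points
  let ι0 : k →+* LaurentPolynomial (LaurentPolynomial k) := LaurentPolynomial.C.comp LaurentPolynomial.C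
  let R := CommRingCat.of (LaurentPolynomial (LaurentPolynomial k))
  let S0 : Over (Spec (CommRingCat.of k)) := Over.mk (Spec.map (CommRingCat.ofHom ι0))
  have mkpt : ∀ (ψ : LaurentPolynomial k →+* LaurentPolynomial (LaurentPolynomial k)), ψ.comp alg = ι0 →
      ∃ x : S0 ⟶ G, co x = (Scheme.ΓSpecIso R).inv.hom (ψ (LaurentPolynomial.T 1)) := by
    intro ψ hψ
    refine ⟨Over.homMk (Spec.map (CommRingCat.ofHom ψ) ≫ e.inv) ?_, ?_⟩
    · show (Spec.map (CommRingCat.ofHom ψ) ≫ e.inv) ≫ G.hom = Spec.map (CommRingCat.ofHom ι0)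
      rw [← he, Category.assoc, e.inv_hom_id_assoc, ← Spec.map_comp, ← CommRingCat.ofHom_comp, hψ]
    · show ((Spec.map (CommRingCat.ofHom ψ) ≫ e.inv) ≫ e.hom).appTop.hom t = _
      rw [Category.assoc, e.inv_hom_id, Category.comp_id]
      exact (ConcreteCategory.congr_hom (Scheme.ΓSpecIso_inv_naturality (CommRingCat.ofHom ψ)) _).symm
  let u2 : (LaurentPolynomial (LaurentPolynomial k))ˣ :=
    (LaurentPolynomial.isUnit_T (R := LaurentPolynomial k) 1).unit
  obtain ⟨g0, hg0⟩ := mkpt LaurentPolynomial.C (RingHom.ext fun c => by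
    simp [alg, ι0, ← LaurentPolynomial.C_eq_algebraMap])
  obtain ⟨h0, hh0⟩ := mkpt (LaurentPolynomial.eval₂ ι0 u2) (RingHom.ext fun c => by
    simp [alg, ← LaurentPolynomial.C_eq_algebraMap])
  rw [LaurentPolynomial.eval₂_T, zpow_one, IsUnit.unit_spec] at hh0
  obtain ⟨r, b, hr, hrb⟩ := unit_form ((co_unit (g0 * h0)).map (Scheme.ΓSpecIso R).hom.hom)
  obtain ⟨c, a, -, rfl⟩ := unit_form hr
  have key : ∀ {X : Over (Spec (CommRingCat.of k))} (x y : X ⟶ G),
      co (x * y) = st X c * ((co_unit x).unit ^ a : Γ(X.left, ⊤)ˣ) * ((co_unit y).unit ^ b : Γ(X.left, ⊤)ˣ) := by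
    intro X x y
    let ψ0 : LaurentPolynomial k →+* Γ(X.left, ⊤) := LaurentPolynomial.eval₂ (st X) (co_unit x).unit
    let ψ : LaurentPolynomial (LaurentPolynomial k) →+* Γ(X.left, ⊤) :=
      LaurentPolynomial.eval₂ ψ0 (co_unit y).unit
    let φ' : X.left ⟶ Spec R := X.left.toSpecΓ ≫ Spec.map (CommRingCat.ofHom ψ)
    have hφ' : (Scheme.ΓSpecIso R).inv ≫ φ'.appTop = CommRingCat.ofHom ψ := by
      rw [Scheme.Hom.comp_appTop, ← Scheme.ΓSpecIso_inv_naturality_assoc, Scheme.toSpecΓ_appTop]
      simp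
    have hw : φ' ≫ S0.hom = X.hom := by
      refine ext_of_isAffine ?_
      rw [← cancel_epi (Scheme.ΓSpecIso (CommRingCat.of k)).inv, Scheme.Hom.comp_appTop]
      show _ ≫ (Spec.map (CommRingCat.ofHom ι0)).appTop ≫ _ = _
      rw [← Scheme.ΓSpecIso_inv_naturality_assoc, hφ']
      refine CommRingCat.hom_ext (RingHom.ext fun d => ?_)
      show ψ (ι0 d) = st X d
      simp [ψ, ψ0, ι0]
    let φ : X ⟶ S0 := Over.homMk φ' hw
    have hval : ∀ z, φ.left.appTop.hom ((Scheme.ΓSpecIso R).inv.hom z) = ψ z :=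
      fun z => ConcreteCategory.congr_hom hφ' z
    have hx : φ ≫ g0 = x := ext' _ _ (by rw [co_comp, hg0, hval]; simp [ψ, ψ0])
    have hy : φ ≫ h0 = y := ext' _ _ (by rw [co_comp, hh0, hval]; simp [ψ])
    rw [← hx, ← hy, ← MonObj.comp_mul, co_comp]
    have hz : co (g0 * h0) = (Scheme.ΓSpecIso R).inv.hom (LaurentPolynomial.C (LaurentPolynomial.C c *
        LaurentPolynomial.T a) * LaurentPolynomial.T b) := by
      rw [← hrb, Iso.hom_inv_id_apply]
    rw [hz, hval]
    simp only [hx, hy]
    simp [ψ, ψ0]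
  -- specialise to the generic point and the unit
  let X1 : Over (Spec (CommRingCat.of k)) := Over.mk (Spec.map (CommRingCat.ofHom alg))
  let x1 : X1 ⟶ G := Over.homMk e.inv (by rw [← he, e.inv_hom_id_assoc]; rfl)
  have hx1 : co x1 = t := by
    show (e.inv ≫ e.hom).appTop.hom t = t
    rw [e.inv_hom_id]; rfl
  have hst : ∀ d, st X1 d = (Scheme.ΓSpecIso B).inv.hom (LaurentPolynomial.C d) := by
    intro d
    rw [LaurentPolynomial.C_eq_algebraMap]
    exact (ConcreteCategory.congr_hom (Scheme.ΓSpecIso_inv_naturality (CommRingCat.ofHom alg)) d).symm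
  have hpow : ∀ n : ℤ, (((co_unit x1).unit ^ n : Γ(X1.left, ⊤)ˣ) : Γ(X1.left, ⊤)) =
      (Scheme.ΓSpecIso B).inv.hom (LaurentPolynomial.T n) := by
    intro n
    have h1 : (co_unit x1).unit = Units.map (Scheme.ΓSpecIso B).inv.hom.toMonoidHom
        (LaurentPolynomial.isUnit_T (R := k) 1).unit := Units.ext hx1
    rw [h1, ← map_zpow]
    show (Scheme.ΓSpecIso B).inv.hom _ = _
    congr 1
    have := LaurentPolynomial.eval₂_T (LaurentPolynomial.C (R := k)) (LaurentPolynomial.isUnit_T (R := k) 1).unit n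
    rw [← this]
    exact (RingHom.congr_fun (hom_ext' (f := RingHom.id (LaurentPolynomial k)) (f' := LaurentPolynomial.eval₂
      LaurentPolynomial.C (LaurentPolynomial.isUnit_T (R := k) 1).unit) (fun d => by simp)
      (by simp [LaurentPolynomial.eval₂_T])) _).symm
  have hone : (co_unit (1 : X1 ⟶ G)).unit = 1 := Units.ext (co_one X1)
  have inj : Function.Injective (Scheme.ΓSpecIso B).inv.hom :=
    (ConcreteCategory.bijective_of_isIso (Scheme.ΓSpecIso B).inv).1
  have ha := key x1 (1 : X1 ⟶ G)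
  rw [_root_.mul_one, hone, one_zpow, Units.val_one, _root_.mul_one, hpow, hx1, hst, ← map_mul] at ha
  have hb := key (1 : X1 ⟶ G) x1
  rw [_root_.one_mul, hone, one_zpow, Units.val_one, _root_.mul_one, hpow, hx1, hst, ← map_mul] at hb
  replace ha := inj ha
  replace hb := inj hb
  rw [← LaurentPolynomial.single_eq_C_mul_T] at ha hb
  simp only [LaurentPolynomial.T] at ha hb
  have ha1 : a = 1 := by
    have h := congrArg (fun q : LaurentPolynomial k => q.coeff 1) ha
    simp only [AddMonoidAlgebra.coeff_single, Finsupp.single_apply] at h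
    split_ifs at h with h2 <;> simp_all
  have hb1 : b = 1 := by
    have h := congrArg (fun q : LaurentPolynomial k => q.coeff 1) hb
    simp only [AddMonoidAlgebra.coeff_single, Finsupp.single_apply] at h
    split_ifs at h with h2 <;> simp_all
  subst ha1 hb1
  have hc : c = 1 := by
    have h := congrArg (fun q : LaurentPolynomial k => q.coeff 1) ha
    simp only [AddMonoidAlgebra.coeff_single, Finsupp.single_apply] at h
    simpa using h.symm
  subst hc
  have := key g h
  rw [map_one, _root_.one_mul, zpow_one, zpow_one] at this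
  exact this

end Groth.Agent.S14637
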