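import Groth.Statements.S18824
import Groth.Agent.GrpEasyLib.Quot
-- import your own Groth.Agent.* helpers here

set_option autoImplicit false
set_option backward.isDefEq.respectTransparency false
universe u
open CategoryTheory MonoidalCategory CartesianMonoidalCategory MonObj AlgebraicGeometry
open AlgGrp

namespace Groth.Agent.S18824

/-- Let k be a field, G a locally algebraic group over k (a group k-scheme locally of finite type)
acting on a k-scheme X through a : G ×_k X → X, and U an open subset of X. Let G·U ⊆ X be the image
under a of G ×_k U (the preimage of U under the projection). Then G·U is open in X, contains U, is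
G-stable in the sense that a maps G ×_k (G·U) into G·U, and is the smallest such set: every G-stable
open subset of X containing U contains G·U. -/
theorem result (k : Type u) [Field k]
    (G X : Over (Spec (CommRingCat.of k))) [GrpObj G] [LocallyOfFiniteType G.hom] (a : AlgGrp.Action G X)
    (U : Set ↥X.left) (hU : IsOpen U) :
    IsOpen (a.act.left.base '' ((CartesianMonoidalCategory.snd G X).left.base ⁻¹' U)) ∧
      U ⊆ a.act.left.base '' ((CartesianMonoidalCategory.snd G X).left.base ⁻¹' U) ∧
      a.act.left.base '' ((CartesianMonoidalCategory.snd G X).left.base ⁻¹'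
          (a.act.left.base '' ((CartesianMonoidalCategory.snd G X).left.base ⁻¹' U))) ⊆
        a.act.left.base '' ((CartesianMonoidalCategory.snd G X).left.base ⁻¹' U) ∧
      ∀ W : Set ↥X.left, IsOpen W → U ⊆ W →
        a.act.left.base '' ((CartesianMonoidalCategory.snd G X).left.base ⁻¹' W) ⊆ W →
          a.act.left.base '' ((CartesianMonoidalCategory.snd G X).left.base ⁻¹' U) ⊆ W := by
  haveI : Subsingleton ↥(Spec (CommRingCat.of k)) := inferInstanceAs (Subsingleton (PrimeSpectrum k))
  haveI : LocallyOfFinitePresentation G.hom := LocallyOfFinitePresentation.iff_locallyOfFiniteType.mpr inferInstance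
  have hop : UniversallyOpen a.act.left :=
    Groth.Agent.GrpEasyLib.action_prop a @UniversallyOpen inferInstance
  refine ⟨a.act.left.isOpenMap _ (hU.preimage (CartesianMonoidalCategory.snd G X).left.continuous),
    fun x hx => ?_, Groth.Agent.GrpEasyLib.image_stable a U, fun W _ hUW hW => ?_⟩
  · refine ⟨(lift (1 : X ⟶ G) (𝟙 X)).left x, ?_, ?_⟩
    · show ((lift (1 : X ⟶ G) (𝟙 X)).left ≫ (CartesianMonoidalCategory.snd G X).left) x ∈ U
      rw [← Over.comp_left, lift_snd]
      exact hx
    · show ((lift (1 : X ⟶ G) (𝟙 X)).left ≫ a.act.left) x = x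
      rw [← Over.comp_left, Groth.Agent.GrpEasyLib.act_one a.act a.one_act]
      rfl
  · rintro _ ⟨p, hp, rfl⟩
    exact hW ⟨p, hUW hp, rfl⟩

end Groth.Agent.S18824
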