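import Groth.Statements.S14638
import Groth.Agent.AlmostHomLib.Basic
import Groth.Agent.S18824

set_option autoImplicit false
set_option backward.isDefEq.respectTransparency false
set_option backward.isDefEq.respectTransparency.types false
universe u
open CategoryTheory MonoidalCategory CartesianMonoidalCategory MonObj GrpObj AlgebraicGeometry CategoryTheory.Limits
open AlgGrp

namespace Groth.Agent.S14638

/-- Over a field k, let G be a smooth k-group scheme of finite type acting on a variety X (a separated,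
geometrically integral k-scheme of finite type). Then X is almost homogeneous, i.e. the graph
morphism G × X → X × X, (g, x) ↦ (x, g·x), is dominant, if and only if there is a nonempty open
subscheme U of X which is G-stable (the action restricts to an action on U) and homogeneous (the
graph morphism G × U → U × U is surjective). Moreover there is at most one such open subscheme U
(the open orbit). -/
theorem result (k : Type u) [Field k]
    (G X : Over (Spec (CommRingCat.of k))) [GrpObj G] [Smooth G.hom] [QuasiCompact G.hom]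
    [IsSeparated X.hom] [LocallyOfFiniteType X.hom] [QuasiCompact X.hom] [GeometricallyIntegral X.hom]
    (a : AlgGrp.Action G X) :
    (IsDominant (CartesianMonoidalCategory.lift (CartesianMonoidalCategory.snd G X) a.act).left ↔
      ∃ U : X.left.Opens, (U : Set ↥X.left).Nonempty ∧
        ∃ b : AlgGrp.Action G (Over.mk (U.ι ≫ X.hom)),
          (G ◁ (Over.homMk U.ι rfl : Over.mk (U.ι ≫ X.hom) ⟶ X)) ≫ a.act = b.act ≫ Over.homMk U.ι rfl ∧
          Surjective (CartesianMonoidalCategory.lift (CartesianMonoidalCategory.snd G (Over.mk (U.ι ≫ X.hom))) b.act).left) ∧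
    ∀ U U' : X.left.Opens,
      ((U : Set ↥X.left).Nonempty ∧ ∃ b : AlgGrp.Action G (Over.mk (U.ι ≫ X.hom)),
          (G ◁ (Over.homMk U.ι rfl : Over.mk (U.ι ≫ X.hom) ⟶ X)) ≫ a.act = b.act ≫ Over.homMk U.ι rfl ∧
          Surjective (CartesianMonoidalCategory.lift (CartesianMonoidalCategory.snd G (Over.mk (U.ι ≫ X.hom))) b.act).left) →
      ((U' : Set ↥X.left).Nonempty ∧ ∃ b' : AlgGrp.Action G (Over.mk (U'.ι ≫ X.hom)),
          (G ◁ (Over.homMk U'.ι rfl : Over.mk (U'.ι ≫ X.hom) ⟶ X)) ≫ a.act = b'.act ≫ Over.homMk U'.ι rfl ∧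
          Surjective (CartesianMonoidalCategory.lift (CartesianMonoidalCategory.snd G (Over.mk (U'.ι ≫ X.hom))) b'.act).left) →
      U = U' := by
  haveI : IsIntegral X.left := GeometricallyIntegral.isIntegral_of_subsingleton X.hom
  haveI : GeometricallyIrreducible X.hom := inferInstance
  haveI hXXirr : IrreducibleSpace (X ⊗ X).left := by
    haveI : UniversallyOpen X.hom := inferInstance
    haveI : UniversallyOpen (Limits.pullback.snd X.hom X.hom) := MorphismProperty.pullback_snd _ _ ‹UniversallyOpen X.hom›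
    exact GeometricallyIrreducible.irreducibleSpace (Limits.pullback.snd X.hom X.hom) (Limits.pullback.snd X.hom X.hom).isOpenMap
  haveI : LocallyOfFiniteType (G ⊗ X).hom := by rw [Over.tensorObj_hom]; infer_instance
  haveI : LocallyOfFiniteType (X ⊗ X).hom := by rw [Over.tensorObj_hom]; infer_instance
  letI : Algebra k (AlgebraicClosure k) := inferInstance
  refine ⟨⟨fun hdom => ?_, ?_⟩, ?_⟩
  · obtain ⟨V, hV, htr⟩ := AlmostHomLib.exists_open_transitive (K := AlgebraicClosure k) a hdom
    obtain ⟨hUo, hVU, hUs, -⟩ := Groth.Agent.S18824.result k G X a V V.2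
    let U : X.left.Opens := ⟨_, hUo⟩
    obtain ⟨b, hb⟩ := AlmostHomLib.exists_restrict a U hUs
    refine ⟨U, hV.mono hVU, b, hb, ?_⟩
    let XU := Over.mk (U.ι ≫ X.hom)
    let j : XU ⟶ X := Over.homMk U.ι rfl
    haveI : IsOpenImmersion j.left := inferInstanceAs (IsOpenImmersion U.ι)
    haveI : Mono j := Over.mono_of_mono_left j
    haveI : CompactSpace X.left := QuasiCompact.compactSpace_of_compactSpace X.hom
    haveI : IsLocallyNoetherian X.left := LocallyOfFiniteType.isLocallyNoetherian X.hom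
    haveI : IsNoetherian X.left := {}
    haveI : QuasiCompact U.ι := inferInstance
    haveI : QuasiCompact XU.hom := inferInstanceAs (QuasiCompact (U.ι ≫ X.hom))
    haveI : LocallyOfFiniteType XU.hom := inferInstanceAs (LocallyOfFiniteType (U.ι ≫ X.hom))
    haveI : LocallyOfFiniteType (G ⊗ XU).hom := by rw [Over.tensorObj_hom]; infer_instance
    haveI : QuasiCompact (G ⊗ XU).hom := by rw [Over.tensorObj_hom]; infer_instance
    haveI : LocallyOfFiniteType (XU ⊗ XU).hom := by rw [Over.tensorObj_hom]; infer_instance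
    haveI : QuasiCompact (XU ⊗ XU).hom := by rw [Over.tensorObj_hom]; infer_instance
    refine SepPtsLib.surjective_of_algClosed_pts (K := AlgebraicClosure k)
      (lift (snd G XU) b.act) fun z => ?_
    have hmem : ∀ w : Over.mk (Spec.map (CommRingCat.ofHom (algebraMap k (AlgebraicClosure k)))) ⟶ XU,
        ∃ (g : Over.mk (Spec.map (CommRingCat.ofHom (algebraMap k (AlgebraicClosure k)))) ⟶ G) (w' : _ ⟶ X),
          AlmostHomLib.img w' ∈ V ∧ lift g w' ≫ a.act = w ≫ j := by
      intro w
      obtain ⟨u, hu, huV⟩ := AlmostHomLib.exists_lift_pt a.act ((snd G X).left ⁻¹ᵁ V) (w ≫ j)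
        (show AlmostHomLib.img (w ≫ j) ∈ (U : Set X.left) from (AlmostHomLib.img w).2)
      exact ⟨u ≫ fst G X, u ≫ snd G X, huV, by rw [← comp_lift, lift_fst_snd, Category.comp_id, hu]⟩
    obtain ⟨g, x, hx, hgx⟩ := hmem (z ≫ fst XU XU)
    obtain ⟨h, y, hy, hhy⟩ := hmem (z ≫ snd XU XU)
    obtain ⟨m, hm⟩ := htr x y hx hy
    have key : lift (h * m * g⁻¹) (z ≫ fst XU XU ≫ j) ≫ a.act = z ≫ snd XU XU ≫ j := by
      rw [← Category.assoc z, ← Category.assoc z (snd XU XU), ← hgx, ← a.lift_mul_act, inv_mul_cancel_right,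
        a.lift_mul_act, hm, hhy]
    refine ⟨lift (h * m * g⁻¹) (z ≫ fst XU XU), ?_⟩
    apply CartesianMonoidalCategory.hom_ext
    · simp
      rfl
    · rw [Category.assoc, lift_snd, ← cancel_mono j, Category.assoc, Category.assoc, ← hb, ← Category.assoc,
        lift_whiskerLeft, Category.assoc, key]
  · rintro ⟨U, hU, b, hb, hs⟩
    let XU := Over.mk (U.ι ≫ X.hom)
    let j : XU ⟶ X := Over.homMk U.ι rfl
    haveI : IsOpenImmersion j.left := inferInstanceAs (IsOpenImmersion U.ι)
    haveI : IsOpenImmersion (j ▷ XU).left :=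
      MorphismProperty.of_isPullback (P := @IsOpenImmersion) (GrpEasyLib.isPullback_whiskerRight j).flip inferInstance
    haveI : IsOpenImmersion (X ◁ j).left :=
      MorphismProperty.of_isPullback (P := @IsOpenImmersion) (GrpEasyLib.isPullback_whiskerLeft j).flip inferInstance
    have hsub : Set.range ((j ▷ XU).left ≫ (X ◁ j).left) ⊆ Set.range (lift (snd G X) a.act).left := by
      have e : lift (snd G XU) b.act ≫ (j ▷ XU) ≫ (X ◁ j) = (G ◁ j) ≫ lift (snd G X) a.act := by
        apply CartesianMonoidalCategory.hom_ext <;> simp [XU, j, hb]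
      rintro _ ⟨w, rfl⟩
      obtain ⟨v, rfl⟩ := hs.surj w
      refine ⟨(G ◁ j).left v, ?_⟩
      exact (congrArg (fun f => f.left v) e).symm
    refine ⟨Dense.mono hsub ?_⟩
    refine ((j ▷ XU).left ≫ (X ◁ j).left).isOpenEmbedding.isOpen_range.dense ?_
    obtain ⟨x, hx⟩ := hU
    exact ⟨_, ⟨(lift (𝟙 XU) (𝟙 XU)).left ⟨x, hx⟩, rfl⟩⟩
  · have main : ∀ U U' : X.left.Opens,
      ((U : Set ↥X.left).Nonempty ∧ ∃ b : AlgGrp.Action G (Over.mk (U.ι ≫ X.hom)),
          (G ◁ (Over.homMk U.ι rfl : Over.mk (U.ι ≫ X.hom) ⟶ X)) ≫ a.act = b.act ≫ Over.homMk U.ι rfl ∧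
          Surjective (CartesianMonoidalCategory.lift (CartesianMonoidalCategory.snd G (Over.mk (U.ι ≫ X.hom))) b.act).left) →
      ((U' : Set ↥X.left).Nonempty ∧ ∃ b' : AlgGrp.Action G (Over.mk (U'.ι ≫ X.hom)),
          (G ◁ (Over.homMk U'.ι rfl : Over.mk (U'.ι ≫ X.hom) ⟶ X)) ≫ a.act = b'.act ≫ Over.homMk U'.ι rfl ∧
          Surjective (CartesianMonoidalCategory.lift (CartesianMonoidalCategory.snd G (Over.mk (U'.ι ≫ X.hom))) b'.act).left) →
      U ≤ U' := by
      rintro U U' ⟨hU, b, hb, hs⟩ ⟨hU', b', hb', -⟩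
      let XU := Over.mk (U.ι ≫ X.hom)
      let j : XU ⟶ X := Over.homMk U.ι rfl
      let XU' := Over.mk (U'.ι ≫ X.hom)
      let j' : XU' ⟶ X := Over.homMk U'.ι rfl
      haveI : LocallyOfFiniteType XU.hom := inferInstanceAs (LocallyOfFiniteType (U.ι ≫ X.hom))
      haveI : LocallyOfFiniteType XU'.hom := inferInstanceAs (LocallyOfFiniteType (U'.ι ≫ X.hom))
      haveI : LocallyOfFiniteType (G ⊗ XU).hom := by rw [Over.tensorObj_hom]; infer_instance
      haveI : LocallyOfFiniteType (XU ⊗ XU).hom := by rw [Over.tensorObj_hom]; infer_instance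
      refine AlmostHomLib.subset_of_pts (K := AlgebraicClosure k) fun x hx => ?_
      obtain ⟨z, hz, hz'⟩ := AlmostHomLib.exists_pt_mem (K := AlgebraicClosure k) ((U : Set X.left) ∩ U') (U.2.inter U'.2)
        (nonempty_preirreducible_inter U.2 U'.2 hU hU')
      obtain ⟨x₀, hx₀, -⟩ := AlmostHomLib.exists_lift_pt j ⊤ x ⟨⟨_, hx⟩, trivial, rfl⟩
      obtain ⟨z₀, hz₀, -⟩ := AlmostHomLib.exists_lift_pt j ⊤ z ⟨⟨_, hz⟩, trivial, rfl⟩
      obtain ⟨z₁, hz₁, -⟩ := AlmostHomLib.exists_lift_pt j' ⊤ z ⟨⟨_, hz'⟩, trivial, rfl⟩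
      haveI : Surjective (lift (snd G XU) b.act).left := hs
      obtain ⟨p, hp⟩ := SepPtsLib.exists_lift_pt_of_surjective (lift (snd G XU) b.act) (lift z₀ x₀)
      have h1 : p ≫ snd G XU = z₀ := by
        have h := congrArg (· ≫ fst _ _) hp
        simp only [Category.assoc, lift_fst] at h
        exact h
      have h2 : p ≫ b.act = x₀ := by
        have h := congrArg (· ≫ snd _ _) hp
        simp only [Category.assoc, lift_snd] at h
        exact h
      have hx' : x = lift (p ≫ fst G XU) z₁ ≫ b'.act ≫ j' := by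
        rw [← hb', ← Category.assoc, lift_whiskerLeft, hz₁, ← hz₀, ← hx₀, ← h2, ← h1, Category.assoc p, ← hb]
        rw [← Category.assoc p (G ◁ j)]
        congr 1
        apply CartesianMonoidalCategory.hom_ext <;> simp [XU, j]
      rw [hx', ← Category.assoc, AlmostHomLib.img_comp]
      exact (AlmostHomLib.img (lift (p ≫ fst G XU) z₁ ≫ b'.act)).2
    exact fun U U' h h' => le_antisymm (main U U' h h') (main U' U h' h)

end Groth.Agent.S14638
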