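import Groth.Statements.S14639
import Mathlib
-- import your own Groth.Agent.* helpers here

set_option autoImplicit false
universe u
open Polynomial
open AlgGrp

namespace Groth.Agent.S14639

/-- Classification of the subalgebras of a truncated polynomial ring that are stable under the unipotent
substitutions, which is the algebraic step behind the classification of curves almost homogeneous
under the additive group in characteristic zero. Let k be a field of characteristic zero, N ≥ 0 and
R = k[u]/(u^(N+1)). The additive group acts on R through the substitutions u ↦ u/(1 + a u), a in k.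
If A is a k-subalgebra of R stable under all these substitutions (stated for every k-algebra
endomorphism σ of R with σ(u)(1 + a u) = u for some a in k), then there is an integer n with 1 ≤ n ≤
N + 1 such that A = k ⊕ (u^n): as a k-subspace, A is the span of 1 plus the ideal generated by u^n.
(In positive characteristic p and for N ≥ p + 1, the subalgebra generated by u^p is stable and not
of this form.) -/
theorem result (k : Type u) [Field k] [CharZero k]
    (N : ℕ) (A : Subalgebra k (AdjoinRoot ((Polynomial.X : Polynomial k) ^ (N + 1))))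
    (hA : ∀ (a : k) (σ : AdjoinRoot ((Polynomial.X : Polynomial k) ^ (N + 1)) →ₐ[k] AdjoinRoot ((Polynomial.X : Polynomial k) ^ (N + 1))),
      σ (AdjoinRoot.root ((Polynomial.X : Polynomial k) ^ (N + 1))) * (1 + algebraMap k (AdjoinRoot ((Polynomial.X : Polynomial k) ^ (N + 1))) a * AdjoinRoot.root ((Polynomial.X : Polynomial k) ^ (N + 1))) = AdjoinRoot.root ((Polynomial.X : Polynomial k) ^ (N + 1)) →
        A.map σ ≤ A) :
    ∃ n : ℕ, 1 ≤ n ∧ n ≤ N + 1 ∧
      Subalgebra.toSubmodule A =
        Submodule.span k {1} ⊔ (Ideal.span {AdjoinRoot.root ((Polynomial.X : Polynomial k) ^ (N + 1)) ^ n}).restrictScalars k := by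
  classical
  set R := AdjoinRoot ((Polynomial.X : Polynomial k) ^ (N + 1)) with hR
  let t : R := AdjoinRoot.root ((Polynomial.X : Polynomial k) ^ (N + 1))
  let C : k →+* R := algebraMap k R
  have ht : t ^ (N + 1) = 0 := by
    have := AdjoinRoot.eval₂_root ((Polynomial.X : Polynomial k) ^ (N + 1))
    simpa [Polynomial.eval₂_pow] using this
  have hrep : ∀ y : R, ∃ (b : k) (z : R), y = C b + t * z := by
    intro y
    obtain ⟨p, rfl⟩ := AdjoinRoot.mk_surjective y
    refine ⟨p.coeff 0, AdjoinRoot.mk _ p.divX, ?_⟩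
    conv_lhs => rw [← Polynomial.X_mul_divX_add p]
    rw [map_add, map_mul, AdjoinRoot.mk_X, AdjoinRoot.mk_C, add_comm]
    rfl
  have hnil : IsNilpotent t := ⟨_, ht⟩
  obtain ⟨v, hv⟩ := hnil.isUnit_one_add
  let u : R := ↑v⁻¹
  have hu : u * (1 + t) = 1 := by rw [← hv]; exact Units.inv_mul v
  let σ : R →ₐ[k] R := AdjoinRoot.liftAlgHom _ (Algebra.ofId k R) (t * u) (by
    rw [Polynomial.eval₂_pow, Polynomial.eval₂_X, mul_pow, ht, zero_mul])
  have hσt : σ t = t * u := AdjoinRoot.liftAlgHom_root _ _ _ _
  have hσA : ∀ x ∈ A, σ x ∈ A := by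
    intro x hx
    refine hA 1 σ ?_ ⟨x, hx, rfl⟩
    show σ t * (1 + algebraMap k R 1 * t) = t
    rw [hσt, map_one, one_mul, mul_assoc, hu, mul_one]
  have hpow : ∀ m : ℕ, ∃ w, u ^ m = 1 - (m : R) * t + t ^ 2 * w := by
    intro m
    induction m with
    | zero => exact ⟨0, by simp⟩
    | succ m ih =>
      obtain ⟨w, hw⟩ := ih
      refine ⟨u + (m : R) * u + w * u, ?_⟩
      rw [pow_succ, hw]
      push_cast
      linear_combination (1 - t - (m : R) * t) * hu
  let P : ℕ → Prop := fun m => ∃ c : k, c ≠ 0 ∧ ∃ r : R, t ^ m * (C c + t * r) ∈ A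
  have hPtop : P (N + 1) := ⟨1, one_ne_zero, 0, by rw [ht, zero_mul]; exact zero_mem A⟩
  have hex : ∃ m, 1 ≤ m ∧ P m := ⟨N + 1, by omega, hPtop⟩
  let n := Nat.find hex
  obtain ⟨hn1, hPn⟩ : 1 ≤ n ∧ P n := Nat.find_spec hex
  have hnN : n ≤ N + 1 := Nat.find_le ⟨by omega, hPtop⟩
  have hstep : ∀ m, 1 ≤ m → P m → P (m + 1) := by
    rintro m hm ⟨c, hc, r, hx⟩
    obtain ⟨b, r', hr⟩ := hrep r
    obtain ⟨w, hw⟩ := hpow m
    refine ⟨-((m : k) * c), neg_ne_zero.mpr (mul_ne_zero (Nat.cast_ne_zero.mpr (by omega)) hc), ?_⟩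
    obtain ⟨z, hz⟩ : ∃ z, t * u * σ r = C b * t + t ^ 2 * z := by
      refine ⟨-(u * C b) + u * u * σ r', ?_⟩
      rw [hr, map_add, map_mul, hσt, show σ (C b) = C b from σ.commutes b]
      linear_combination (t * C b) * hu
    refine ⟨w * C c + z - (m : R) * C b - (m : R) * t * z + w * C b * t + w * t ^ 2 * z - r', ?_⟩
    convert sub_mem (hσA _ hx) hx using 1
    rw [map_mul, map_pow, map_add, map_mul, hσt, show σ (C c) = C c from σ.commutes c, mul_pow, mul_assoc, hw, hz, hr,
      map_neg, map_mul, map_natCast]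
    ring
  have hPge : ∀ m, n ≤ m → P m := by
    intro m hm
    induction m, hm using Nat.le_induction with
    | base => exact hPn
    | succ m hm ih => exact hstep m (hn1.trans hm) ih
  have hdown : ∀ i m, n ≤ m → N + 1 ≤ m + i → ∀ y : R, t ^ m * y ∈ A := by
    intro i
    induction i with
    | zero =>
      intro m _ hm y
      rw [show t ^ m = 0 from pow_eq_zero_of_le (by omega) ht, zero_mul]
      exact zero_mem A
    | succ i ih =>
      intro m hnm hm y
      obtain ⟨c, hc, r, hx⟩ := hPge m hnm
      obtain ⟨b, s, rfl⟩ := hrep y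
      have h1 := ih (m + 1) (by omega) (by omega) (s - C (b / c) * r)
      have h2 : t ^ m * (C b + t * s) = t ^ (m + 1) * (s - C (b / c) * r) + (b / c) • (t ^ m * (C c + t * r)) := by
        rw [Algebra.smul_def]
        show _ = _ + C (b / c) * _
        have : C (b / c) * C c = C b := by rw [← map_mul, div_mul_cancel₀ b hc]
        linear_combination (-(t ^ m)) * this
      rw [h2]
      exact add_mem h1 (A.smul_mem hx _)
  have hup : ∀ m, 1 ≤ m → m ≤ n → ∀ x ∈ A, ∃ (b : k) (y : R), x = C b + t ^ m * y := by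
    intro m hm
    induction m, hm using Nat.le_induction with
    | base => intro _ x _; obtain ⟨b, z, rfl⟩ := hrep x; exact ⟨b, z, by rw [pow_one]⟩
    | succ m hm ih =>
      intro hmn x hx
      obtain ⟨b, y, rfl⟩ := ih (by omega) x hx
      obtain ⟨c, r, rfl⟩ := hrep y
      rcases eq_or_ne c 0 with rfl | hc
      · exact ⟨b, r, by rw [map_zero, zero_add]; ring⟩
      · refine absurd ⟨hm, c, hc, r, ?_⟩ (Nat.find_min hex (by omega : m < n))
        have := sub_mem hx (A.algebraMap_mem b)
        rwa [add_sub_cancel_left] at this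
  refine ⟨n, hn1, hnN, le_antisymm (fun x hx => ?_) ?_⟩
  · obtain ⟨b, y, rfl⟩ := hup n hn1 le_rfl x hx
    refine Submodule.add_mem_sup (Submodule.mem_span_singleton.mpr ⟨b, by rw [Algebra.smul_def, mul_one]⟩) ?_
    exact Ideal.mem_span_singleton.mpr ⟨y, rfl⟩
  · refine sup_le ((Submodule.span_singleton_le_iff_mem _ _).mpr (one_mem A)) fun x hx => ?_
    obtain ⟨y, rfl⟩ := Ideal.mem_span_singleton.mp hx
    exact hdown (N + 1) n le_rfl (by omega) y

end Groth.Agent.S14639
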