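import Groth.Statements.S1464
import Groth.Agent.FPModelLib.ZModel
import Groth.Agent.FPModelLib.Fibre
-- import your own Groth.Agent.* helpers here

set_option autoImplicit false
universe u
open FlatMor

namespace Groth.Agent.S1464

open AlgebraicGeometry CategoryTheory Limits in
/-- Let f : X → S be a morphism of finite presentation between affine schemes all of whose fibres have
dimension d. Then f is the base change of a morphism of finite type f₀ : X₀ → S₀ between affine
schemes with S₀ of finite type over ℤ, where f₀ can be chosen with the same property. -/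
theorem result {X S : Scheme.{u}} (f : X ⟶ S) [IsAffine X] [IsAffine S] [LocallyOfFinitePresentation f] (d : ℕ) (hd : ∀ s : S, topologicalKrullDim ↑(f.fiber s) = d) :
    ∃ (X₀ S₀ : Scheme.{u}) (f₀ : X₀ ⟶ S₀) (g : S ⟶ S₀) (g' : X ⟶ X₀), IsAffine X₀ ∧ IsAffine S₀ ∧ IsPullback g' f f₀ g ∧
      Algebra.FiniteType ℤ Γ(S₀, ⊤) ∧ LocallyOfFiniteType f₀ ∧ ∀ s₀ : S₀, topologicalKrullDim ↑(f₀.fiber s₀) = d := by
  obtain ⟨i, X₀, f₀, q, hX₀, hfp, hsq⟩ := Groth.Agent.FPModelLib.exists_affine_zmodel f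
  haveI : QuasiCompact f₀ := quasiCompact_of_compactSpace _
  have hd' : ∀ s, topologicalKrullDim ↥((f ≫ S.isoSpec.hom).fiber s) = d := fun s => by
    have hiso : IsPullback (𝟙 X) (f ≫ S.isoSpec.hom) f S.isoSpec.inv :=
      IsPullback.of_horiz_isIso ⟨by simp⟩
    exact (Groth.Agent.S9777.result f S.isoSpec.inv (f ≫ S.isoSpec.hom) (𝟙 X) hiso s).trans (hd _)
  obtain ⟨j, φ, hj⟩ := Groth.Agent.FPModelLib.exists_fibreDim_eq (Groth.Agent.FPModelLib.zSys Γ(S, ⊤))
    (Groth.Agent.FPModelLib.zCone Γ(S, ⊤)) (Groth.Agent.FPModelLib.isLimitZCone _) f₀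
    (Groth.Agent.FPModelLib.isPullback_cone f hsq) (d : WithBot ℕ∞) hd'
  obtain ⟨q', hq'⟩ := Groth.Agent.FPModelLib.exists_isPullback_stage f φ hsq
  exact ⟨_, _, _, _, q', inferInstance, inferInstance, hq', Groth.Agent.FPModelLib.finiteType_Γ_zSys _ j,
    MorphismProperty.pullback_snd f₀ _ inferInstance, hj⟩

end Groth.Agent.S1464
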