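import Groth.Statements.S14640
import Groth.Agent.HomogLib.Main
import Groth.Agent.SepPtsLib.Basic
import Groth.Agent.AlmostHomLib.Basic

set_option linter.all false
set_option backward.isDefEq.respectTransparency false
set_option backward.isDefEq.respectTransparency.types false
set_option autoImplicit false
universe u
open CategoryTheory MonoidalCategory CartesianMonoidalCategory MonObj GrpObj AlgebraicGeometry CategoryTheory.Limits
open AlgGrp

namespace Groth.Agent.S14640

/-- Over a field k, let G be a smooth k-group scheme of finite type acting on a variety X (a separated,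
geometrically integral k-scheme of finite type), and let i : G° → G be its identity component: a
homomorphism which is an open immersion from a connected k-group scheme whose image is the connected
component of the unit element of G. Let G° act on X through i. Then X is homogeneous under G (the
graph morphism G × X → X × X, (g, x) ↦ (x, g·x), is surjective) if and only if it is homogeneous
under G°, and X is almost homogeneous under G (the graph morphism is dominant) if and only if it is
almost homogeneous under G°. -/
theorem result (k : Type u) [Field k]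
    (G G0 X : Over (Spec (CommRingCat.of k))) [GrpObj G] [Smooth G.hom] [QuasiCompact G.hom]
    [GrpObj G0] (i : G0 ⟶ G) [IsMonHom i] [IsOpenImmersion i.left] [ConnectedSpace ↥G0.left]
    (hi : Set.range i.left.base = connectedComponent ((η[G]).left.base (IsLocalRing.closedPoint k)))
    [IsSeparated X.hom] [LocallyOfFiniteType X.hom] [QuasiCompact X.hom] [GeometricallyIntegral X.hom]
    (a : AlgGrp.Action G X) (a0 : AlgGrp.Action G0 X) (ha0 : a0.act = (i ▷ X) ≫ a.act) :
    (Surjective (CartesianMonoidalCategory.lift (CartesianMonoidalCategory.snd G X) a.act).left ↔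
      Surjective (CartesianMonoidalCategory.lift (CartesianMonoidalCategory.snd G0 X) a0.act).left) ∧
    (IsDominant (CartesianMonoidalCategory.lift (CartesianMonoidalCategory.snd G X) a.act).left ↔
      IsDominant (CartesianMonoidalCategory.lift (CartesianMonoidalCategory.snd G0 X) a0.act).left) := by
  let K := AlgebraicClosure k
  letI : Algebra k (AlgebraicClosure k) := inferInstance
  haveI : LocallyOfFiniteType G0.hom := by rw [← Over.w i]; infer_instance
  haveI : IsLocallyNoetherian G.left := LocallyOfFiniteType.isLocallyNoetherian G.hom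
  haveI : QuasiCompact G0.hom := by rw [← Over.w i]; infer_instance
  haveI : LocallyOfFiniteType (G ⊗ X).hom := by rw [Over.tensorObj_hom]; infer_instance
  haveI : QuasiCompact (G ⊗ X).hom := by rw [Over.tensorObj_hom]; infer_instance
  haveI : LocallyOfFiniteType (G0 ⊗ X).hom := by rw [Over.tensorObj_hom]; infer_instance
  haveI : QuasiCompact (G0 ⊗ X).hom := by rw [Over.tensorObj_hom]; infer_instance
  haveI : LocallyOfFiniteType (X ⊗ X).hom := by rw [Over.tensorObj_hom]; infer_instance
  haveI : QuasiCompact (X ⊗ X).hom := by rw [Over.tensorObj_hom]; infer_instance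
  have efac : lift (snd G0 X) a0.act = (i ▷ X) ≫ lift (snd G X) a.act := by
    rw [ha0, comp_lift, whiskerRight_snd]
  have low : ∀ (h : Over.mk (Spec.map (CommRingCat.ofHom (algebraMap k K))) ⟶ G0)
      (u : _ ⟶ X), lift h u ≫ a0.act = lift (h ≫ i) u ≫ a.act := fun h u => by
    rw [ha0, lift_whiskerRight_assoc]
  have main : ∀ (V : X.left.Opens), (V : Set X.left).Nonempty →
      (∀ x y : Over.mk (Spec.map (CommRingCat.ofHom (algebraMap k K))) ⟶ X, AlmostHomLib.img x ∈ V →
        AlmostHomLib.img y ∈ V → ∃ g, lift g x ≫ a.act = y) →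
      ∀ z : Over.mk (Spec.map (CommRingCat.ofHom (algebraMap k K))) ⟶ X ⊗ X,
        AlmostHomLib.img (z ≫ fst X X) ∈ V → AlmostHomLib.img (z ≫ snd X X) ∈ V →
        ∃ p, p ≫ lift (snd G0 X) a0.act = z := by
    intro V hV htr z hz1 hz2
    obtain ⟨h, hh, he⟩ := HomogLib.transitive a V hV (z ≫ fst X X) (fun w hw => htr _ w hz1 hw) (z ≫ fst X X)
      (z ≫ snd X X) ⟨1, a.lift_one_act _⟩ (htr _ _ hz1 hz2)
    have hm := HomogLib.img_mem_of_C0 (pt := IsLocalRing.closedPoint k) hh
    rw [← hi] at hm
    obtain ⟨w, hw⟩ := hm
    obtain ⟨h0, rfl, -⟩ := AlmostHomLib.exists_lift_pt i ⊤ h ⟨w, trivial, hw⟩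
    refine ⟨lift h0 (z ≫ fst X X), ?_⟩
    rw [comp_lift, lift_snd, low, he, ← comp_lift, lift_fst_snd, Category.comp_id]
  refine ⟨⟨fun hs => ?_, fun hs => ?_⟩, ⟨fun hd => ?_, fun hd => ?_⟩⟩
  · haveI := hs
    refine SepPtsLib.surjective_of_algClosed_pts (K := K) _ fun z => ?_
    haveI : IsIntegral X.left := GeometricallyIntegral.isIntegral_of_subsingleton X.hom
    refine main ⊤ ⟨genericPoint X.left, trivial⟩ (fun x y _ _ => ?_) z trivial trivial
    obtain ⟨p, hp⟩ := SepPtsLib.exists_lift_pt_of_surjective (lift (snd G X) a.act) (lift x y)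
    have h1 : p ≫ snd G X = x := by simpa using congrArg (· ≫ fst X X) hp
    have h2 : p ≫ a.act = y := by simpa using congrArg (· ≫ snd X X) hp
    exact ⟨p ≫ fst G X, by rw [← h1, ← comp_lift, lift_fst_snd, Category.comp_id, h2]⟩
  · rw [efac, Over.comp_left] at hs
    haveI := hs
    exact Surjective.of_comp (i ▷ X).left _
  · obtain ⟨V, hV, htr⟩ := AlmostHomLib.exists_open_transitive (K := K) a hd
    haveI : IsIntegral X.left := GeometricallyIntegral.isIntegral_of_subsingleton X.hom
    haveI : GeometricallyIrreducible X.hom := inferInstance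
    haveI hXXirr : IrreducibleSpace (X ⊗ X).left := by
      haveI : UniversallyOpen X.hom := inferInstance
      haveI : UniversallyOpen (Limits.pullback.snd X.hom X.hom) :=
        MorphismProperty.pullback_snd _ _ ‹UniversallyOpen X.hom›
      exact GeometricallyIrreducible.irreducibleSpace (Limits.pullback.snd X.hom X.hom)
        (Limits.pullback.snd X.hom X.hom).isOpenMap
    refine ⟨dense_iff_inter_open.mpr fun W hW hWne => ?_⟩
    have hVV : IsOpen ((fst X X).left ⁻¹' V ∩ (snd X X).left ⁻¹' V) :=
      (V.2.preimage (fst X X).left.continuous).inter (V.2.preimage (snd X X).left.continuous)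
    have hVVne : ((fst X X).left ⁻¹' V ∩ (snd X X).left ⁻¹' V).Nonempty := by
      obtain ⟨v, hv⟩ := hV
      refine ⟨(lift (𝟙 X) (𝟙 X)).left v, ?_, ?_⟩
      · show ((lift (𝟙 X) (𝟙 X)).left ≫ (fst X X).left) v ∈ (V : Set X.left)
        rw [← Over.comp_left, lift_fst]; exact hv
      · show ((lift (𝟙 X) (𝟙 X)).left ≫ (snd X X).left) v ∈ (V : Set X.left)
        rw [← Over.comp_left, lift_snd]; exact hv
    obtain ⟨z, hzW, hz1, hz2⟩ := AlmostHomLib.exists_pt_mem (K := K) _ (hW.inter hVV)
      (nonempty_preirreducible_inter hW hVV hWne hVVne)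
    obtain ⟨p, rfl⟩ := main V hV htr z hz1 hz2
    exact ⟨_, hzW, ⟨_, rfl⟩⟩
  · rw [efac, Over.comp_left] at hd
    haveI := hd
    exact IsDominant.of_comp (i ▷ X).left _

end Groth.Agent.S14640
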