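import Groth.Statements.S14643
import Groth.Agent.MagnetHom.Descent
-- import your own Groth.Agent.* helpers here

set_option autoImplicit false
set_option backward.isDefEq.respectTransparency false
universe u
open CategoryTheory MonoidalCategory CartesianMonoidalCategory MonObj GrpObj AlgebraicGeometry CategoryTheory.Limits
open AlgGrp

namespace Groth.Agent.S14643

/-- Over a field k, let G be a smooth k-group scheme of finite type acting on a variety X (a separated,
geometrically integral k-scheme of finite type). Let n : N → G be the kernel of the action: a closed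
subgroup scheme such that, for every k-scheme T, a T-point of G factors through N exactly when it
acts as the identity on all points of X over T-schemes. Let π : G → Q be a homomorphism onto a
k-group scheme of finite type which is flat and surjective with kernel N (the quotient G/N). Then
there is a unique action of Q on X inducing the given one along π; this action of Q is faithful (a
T-point of Q acting as the identity on all points of X over T-schemes is the unit); and X is
homogeneous under G (surjective graph morphism (g, x) ↦ (x, g·x)) if and only if it is homogeneous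
under Q, and almost homogeneous under G (dominant graph morphism) if and only if it is almost
homogeneous under Q. -/
theorem result (k : Type u) [Field k]
    (G N Q X : Over (Spec (CommRingCat.of k))) [GrpObj G] [Smooth G.hom] [QuasiCompact G.hom]
    [IsSeparated X.hom] [LocallyOfFiniteType X.hom] [QuasiCompact X.hom] [GeometricallyIntegral X.hom] (a : AlgGrp.Action G X)
    [GrpObj N] (n : N ⟶ G) [IsMonHom n] [IsClosedImmersion n.left]
    (hN : ∀ (T : Over (Spec (CommRingCat.of k))) (g : T ⟶ G),
      (∃ m : T ⟶ N, m ≫ n = g) ↔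
        ∀ (T' : Over (Spec (CommRingCat.of k))) (s : T' ⟶ T) (x : T' ⟶ X), CartesianMonoidalCategory.lift (s ≫ g) x ≫ a.act = x)
    [GrpObj Q] [LocallyOfFiniteType Q.hom] [QuasiCompact Q.hom] (π : G ⟶ Q) [IsMonHom π] [Flat π.left] [Surjective π.left]
    (hker : AlgGrp.IsKernel n π) :
    (∃! b : AlgGrp.Action Q X, (π ▷ X) ≫ b.act = a.act) ∧
    ∀ b : AlgGrp.Action Q X, (π ▷ X) ≫ b.act = a.act →
      (∀ (T : Over (Spec (CommRingCat.of k))) (q : T ⟶ Q),
        (∀ (T' : Over (Spec (CommRingCat.of k))) (s : T' ⟶ T) (x : T' ⟶ X), CartesianMonoidalCategory.lift (s ≫ q) x ≫ b.act = x) → q = 1) ∧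
      (Surjective (CartesianMonoidalCategory.lift (CartesianMonoidalCategory.snd G X) a.act).left ↔
        Surjective (CartesianMonoidalCategory.lift (CartesianMonoidalCategory.snd Q X) b.act).left) ∧
      (IsDominant (CartesianMonoidalCategory.lift (CartesianMonoidalCategory.snd G X) a.act).left ↔
        IsDominant (CartesianMonoidalCategory.lift (CartesianMonoidalCategory.snd Q X) b.act).left) := by
  open Groth.Agent.MagnetHom in
  haveI : QuasiCompact (π.left ≫ Q.hom) := by rw [Over.w]; infer_instance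
  haveI : LocallyOfFiniteType Q.hom := inferInstance
  haveI : IsLocallyNoetherian Q.left := LocallyOfFiniteType.isLocallyNoetherian Q.hom
  haveI : QuasiCompact π.left := QuasiCompact.of_comp π.left Q.hom
  have hπ : IsFSQ π.left := ⟨⟨inferInstance, inferInstance⟩, inferInstance⟩
  have hπX : IsFSQ (π ▷ X).left := isFSQ_whiskerRight π hπ X
  have hmul : ∀ {T : Over _} (g h : T ⟶ G) (x : T ⟶ X),
      lift (g * h) x ≫ a.act = lift g (lift h x ≫ a.act) ≫ a.act := fun g h x => by
    have := congrArg (lift (lift g h) x ≫ ·) a.mul_act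
    simp only [lift_whiskerRight_assoc, lift_lift_associator_hom_assoc, lift_whiskerLeft_assoc] at this
    exact this
  have hfix : ∀ {T : Over _} (d : T ⟶ G) (x : T ⟶ X), d ≫ π = 1 → lift d x ≫ a.act = x := fun {T} d x hd => by
    obtain ⟨m, hm⟩ : ∃ m : T ⟶ N, m ≫ n = d :=
      ⟨hker.lift d (toUnit T) (by rw [hd]; exact CategoryTheory.Hom.one_def), hker.lift_fst _ _ _⟩
    have := (hN T d).mp ⟨m, hm⟩ T (𝟙 T) x
    rwa [Category.id_comp] at this
  obtain ⟨b, hb⟩ := exists_desc (π ▷ X) hπX a.act (fun T p q e => by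
    obtain ⟨g₁, x₁, rfl⟩ : ∃ g x, lift g x = p := ⟨p ≫ fst G X, p ≫ snd G X, lift_comp_fst_snd p⟩
    obtain ⟨g₂, x₂, rfl⟩ : ∃ g x, lift g x = q := ⟨q ≫ fst G X, q ≫ snd G X, lift_comp_fst_snd q⟩
    rw [lift_whiskerRight, lift_whiskerRight] at e
    have e₁ : g₁ ≫ π = g₂ ≫ π := by simpa using congrArg (· ≫ fst Q X) e
    obtain rfl : x₁ = x₂ := by simpa using congrArg (· ≫ snd Q X) e
    have hd : (g₁⁻¹ * g₂) ≫ π = 1 := by
      rw [MonObj.mul_comp, GrpObj.inv_comp, e₁, inv_mul_cancel]
    have := hmul g₁ (g₁⁻¹ * g₂) x₁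
    rw [mul_inv_cancel_left, hfix _ x₁ hd] at this
    exact this.symm)
  have key : ∀ {T : Over _} (g : T ⟶ G) (x : T ⟶ X), lift (g ≫ π) x ≫ b = lift g x ≫ a.act := fun g x => by
    rw [← lift_whiskerRight_assoc, hb]
  have hQπ : IsFSQ ((Q ◁ π) ▷ X).left :=
    isFSQ_whiskerRight _ (MorphismProperty.of_isPullback (P := IsFSQ) (isPullback_whiskerLeft_left Q π).flip hπ) X
  have hπG : IsFSQ ((π ▷ G) ▷ X).left := isFSQ_whiskerRight _ (isFSQ_whiskerRight π hπ G) X
  have hone : (η[Q] ▷ X) ≫ b = (λ_ X).hom := by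
    rw [← IsMonHom.one_hom π, comp_whiskerRight, Category.assoc, hb]
    exact a.one_act
  have hassoc : (μ[Q] ▷ X) ≫ b = (α_ Q Q X).hom ≫ (Q ◁ b) ≫ b := by
    refine eq_of_fsq ((Q ◁ π) ▷ X) hQπ (eq_of_fsq ((π ▷ G) ▷ X) hπG ?_)
    refine Magnet.hom_ext_lift₂ fun T gg x => ?_
    obtain ⟨g₁, g₂, rfl⟩ : ∃ g h, lift g h = gg := ⟨gg ≫ fst G G, gg ≫ snd G G, lift_comp_fst_snd gg⟩
    simp only [lift_whiskerRight_assoc, lift_whiskerRight, lift_whiskerLeft, lift_lift_associator_hom_assoc,
      lift_whiskerLeft_assoc]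
    rw [← CategoryTheory.Hom.mul_def, ← MonObj.mul_comp, key, key, key]
    exact hmul g₁ g₂ x
  have huniq : ∀ b' : AlgGrp.Action Q X, (π ▷ X) ≫ b'.act = a.act → b'.act = b := fun b' h =>
    eq_of_fsq (π ▷ X) hπX (h.trans hb.symm)
  refine ⟨⟨⟨b, hone, hassoc⟩, hb, fun b' h => ?_⟩, fun b' hb' => ?_⟩
  · have e := huniq b' h
    obtain ⟨act, h₁, h₂⟩ := b'
    subst e
    rfl
  have key' : ∀ {T : Over _} (g : T ⟶ G) (x : T ⟶ X), lift (g ≫ π) x ≫ b'.act = lift g x ≫ a.act := fun g x => by
    rw [huniq b' hb']; exact key g x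
  refine ⟨fun T q hq => ?_, ?_⟩
  · have hP : IsPullback (Limits.pullback.fst q π) (Limits.pullback.snd q π) q π := IsPullback.of_hasPullback q π
    set g := Limits.pullback.snd q π
    set p := Limits.pullback.fst q π
    have hp : IsFSQ p.left := MorphismProperty.of_isPullback (P := IsFSQ) (hP.map (Over.forget _)).flip hπ
    obtain ⟨m, hm⟩ : ∃ m : Limits.pullback q π ⟶ N, m ≫ n = g := (hN _ g).mpr fun T' s x => by
      have h1 := hq T' (s ≫ p) x
      rw [Category.assoc, hP.w, ← Category.assoc, key'] at h1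
      exact h1
    refine eq_of_fsq p hp ?_
    rw [hP.w, ← hm, Category.assoc, hker.w, MonObj.comp_one, CategoryTheory.Hom.one_def, ← Category.assoc,
      toUnit_unique (m ≫ toUnit N) (toUnit _)]
  have hgraph : (lift (snd G X) a.act).left = (π ▷ X).left ≫ (lift (snd Q X) b'.act).left := by
    rw [← Over.comp_left, comp_lift, whiskerRight_snd, hb']
  haveI : Surjective (π ▷ X).left := hπX.1.2
  rw [hgraph]
  refine ⟨⟨fun h => Surjective.of_comp (π ▷ X).left _, fun h => inferInstance⟩,
    ⟨fun h => ?_, fun h => inferInstance⟩⟩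
  exact IsDominant.of_comp (π ▷ X).left _

end Groth.Agent.S14643
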