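import Groth.Statements.S14645
import Groth.Agent.SepPtsLib.Basic
-- import your own Groth.Agent.* helpers here

set_option autoImplicit false
set_option backward.isDefEq.respectTransparency false
set_option backward.isDefEq.respectTransparency false
universe u
open CategoryTheory MonoidalCategory CartesianMonoidalCategory MonObj GrpObj AlgebraicGeometry CategoryTheory.Limits
open AlgGrp

namespace Groth.Agent.S14645

/-- Over a field k with algebraic closure K, let G be a smooth k-group scheme of finite type acting on a
variety X (a separated, geometrically integral k-scheme of finite type). Then X is homogeneous under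
G, i.e. the graph morphism G × X → X × X, (g, x) ↦ (x, g·x), is surjective, if and only if the
abstract group G(K) of K-points over k acts transitively on the set X(K): for all K-points x, y of X
there is a K-point g of G with g · x = y. -/
theorem result (k : Type u) [Field k]
    (G X : Over (Spec (CommRingCat.of k))) [GrpObj G] [Smooth G.hom] [QuasiCompact G.hom]
    [IsSeparated X.hom] [LocallyOfFiniteType X.hom] [QuasiCompact X.hom] [GeometricallyIntegral X.hom] (a : AlgGrp.Action G X)
    (K : Type u) [Field K] [Algebra k K] [IsAlgClosure k K] :
    Surjective (CartesianMonoidalCategory.lift (CartesianMonoidalCategory.snd G X) a.act).left ↔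
      ∀ x y : Over.mk (Spec.map (CommRingCat.ofHom (algebraMap k K))) ⟶ X, ∃ g : Over.mk (Spec.map (CommRingCat.ofHom (algebraMap k K))) ⟶ G, CartesianMonoidalCategory.lift g x ≫ a.act = y := by
  haveI : IsAlgClosed K := IsAlgClosure.isAlgClosed k
  haveI : LocallyOfFiniteType (G ⊗ X).hom := by rw [Over.tensorObj_hom]; infer_instance
  haveI : QuasiCompact (G ⊗ X).hom := by rw [Over.tensorObj_hom]; infer_instance
  haveI : LocallyOfFiniteType (X ⊗ X).hom := by rw [Over.tensorObj_hom]; infer_instance
  haveI : QuasiCompact (X ⊗ X).hom := by rw [Over.tensorObj_hom]; infer_instance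
  let gr : G ⊗ X ⟶ X ⊗ X := lift (snd G X) a.act
  constructor
  · intro h x y
    haveI : Surjective gr.left := h
    obtain ⟨p, hp⟩ := Groth.Agent.SepPtsLib.exists_lift_pt_of_surjective gr (lift x y)
    have h1 : p ≫ snd G X = x := by simpa [gr] using congrArg (· ≫ fst X X) hp
    have h2 : p ≫ a.act = y := by simpa [gr] using congrArg (· ≫ snd X X) hp
    refine ⟨p ≫ fst G X, ?_⟩
    rw [← h1, ← comp_lift, lift_fst_snd, Category.comp_id, h2]
  · intro h
    exact Groth.Agent.SepPtsLib.surjective_of_algClosed_pts (K := K) gr fun z => by
      obtain ⟨g, hg⟩ := h (z ≫ fst X X) (z ≫ snd X X)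
      refine ⟨lift g (z ≫ fst X X), ?_⟩
      apply CartesianMonoidalCategory.hom_ext <;> simp [gr, hg]

end Groth.Agent.S14645
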