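import Groth.Statements.S14646
import Groth.Agent.P1PuncLib.Chart
import Groth.Agent.ProjBC.Basic
import Groth.Agent.CompleteCurve.ProjSpace

set_option linter.style.haveILetI false

set_option backward.isDefEq.respectTransparency false

set_option autoImplicit false
universe u
open CategoryTheory CategoryTheory.Limits AlgebraicGeometry
open AlgGrp

namespace Groth.Agent.S14646

/-- Over a field k, let P be a closed point of the projective line P¹_k whose residue field κ(P) is
purely inseparable over k, and let C = P¹_k ∖ {P} be its open complement. Then C is a form of the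
affine line: for an algebraic closure K of k, the base change C ×_k Spec K is isomorphic over K to
Spec K[T]. (The published statement assumes moreover that k is imperfect and [κ(P) : k] ≥ 3; this
row assumes only that κ(P) is purely inseparable over k.) -/
theorem result (k : Type u) [Field k]
    (P : ↥(CohB1.ProjSpace 1 k)) (hP : IsClosed ({P} : Set ↥(CohB1.ProjSpace 1 k)))
    (hpi : letI := ((CohB1.ProjSpace.toSpec 1 k).residueFieldMap P).hom.toAlgebra
      IsPurelyInseparable ↑((Spec (CommRingCat.of k)).residueField ((CohB1.ProjSpace.toSpec 1 k) P)) ↑((CohB1.ProjSpace 1 k).residueField P))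
    (K : Type u) [Field K] [Algebra k K] [IsAlgClosure k K] :
    ∃ e : pullback (@Scheme.Opens.ι (CohB1.ProjSpace 1 k) ⟨{P}ᶜ, hP.isOpen_compl⟩ ≫ CohB1.ProjSpace.toSpec 1 k) (Spec.map (CommRingCat.ofHom (algebraMap k K))) ≅
        Spec (CommRingCat.of (Polynomial K)),
      e.hom ≫ Spec.map (CommRingCat.ofHom (algebraMap K (Polynomial K))) = pullback.snd _ _ := by
  classical
  letI := ((CohB1.ProjSpace.toSpec 1 k).residueFieldMap P).hom.toAlgebra
  haveI := hpi
  haveI : IsAlgClosed K := IsAlgClosure.isAlgClosed k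
  let B := MvPolynomial (Fin (1 + 1)) k
  let A := MvPolynomial (Fin (1 + 1)) K
  letI : Algebra B A := MvPolynomial.algebraMvPolynomial
  haveI : IsScalarTower k B A := IsScalarTower.of_algebraMap_eq fun r => (MvPolynomial.map_C _ r).symm
  let φ : CohB1.polyGrading 1 k →+*ᵍ CohB1.polyGrading 1 K :=
    { MvPolynomial.map (algebraMap k K) with
      map_mem := fun h => MvPolynomial.IsHomogeneous.map h _ }
  have hirr : HomogeneousIdeal.irrelevant (CohB1.polyGrading 1 K) ≤
      (HomogeneousIdeal.irrelevant (CohB1.polyGrading 1 k)).map φ := by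
    refine (HomogeneousIdeal.irrelevant_le _).2 fun i hi => ?_
    intro x hx
    have hx' : x ∈ MvPolynomial.idealOfVars (Fin (1 + 1)) K := by
      rw [MvPolynomial.idealOfVars, ← Set.image_univ, MvPolynomial.mem_ideal_span_X_image]
      intro m hm
      have hd := hx (MvPolynomial.mem_support_iff.1 hm)
      by_contra h
      push Not at h
      have : m = 0 := Finsupp.ext fun j => by simpa using h j
      subst this
      simp at hd
      omega
    refine Ideal.span_le.2 ?_ hx'
    rintro _ ⟨j, rfl⟩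
    have : φ (MvPolynomial.X j) = MvPolynomial.X j := MvPolynomial.map_X _ j
    rw [← this]
    exact Ideal.mem_map_of_mem _
      (HomogeneousIdeal.mem_irrelevant_of_mem _ one_pos (MvPolynomial.isHomogeneous_X _ j))
  let π : CohB1.ProjSpace 1 K ⟶ CohB1.ProjSpace 1 k := Proj.map φ hirr
  have hπ : IsPullback π (CohB1.ProjSpace.toSpec 1 K) (CohB1.ProjSpace.toSpec 1 k)
      (Spec.map (CommRingCat.ofHom (algebraMap k K))) :=
    Groth.Agent.ProjBC.isPullback (CohB1.polyGrading 1 k) (CohB1.polyGrading 1 K) φ (fun _ => rfl) hirr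
  haveI : LocallyOfFiniteType (CohB1.ProjSpace.toSpec 1 K) := inferInstance
  haveI : JacobsonSpace ↥(CohB1.ProjSpace 1 K) :=
    LocallyOfFiniteType.jacobsonSpace (CohB1.ProjSpace.toSpec 1 K)
  haveI hts : Surjective (Spec.map (CommRingCat.ofHom (algebraMap k K))) := by
    haveI : Nonempty (Spec (CommRingCat.of K)) := inferInstanceAs (Nonempty (PrimeSpectrum K))
    haveI : Subsingleton (Spec (CommRingCat.of k)) := inferInstanceAs (Subsingleton (PrimeSpectrum k))
    exact ⟨fun x => ⟨Classical.arbitrary _, Subsingleton.elim _ _⟩⟩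
  haveI : Surjective π := MorphismProperty.of_isPullback hπ.flip hts
  -- the fibre over `P` is one rational point
  let F : Set ↥(CohB1.ProjSpace 1 K) := π ⁻¹' {P}
  have hF : IsClosed F := hP.preimage π.continuous
  have huniq : ∀ s₁ s₂ : Spec (CommRingCat.of K) ⟶ CohB1.ProjSpace 1 K,
      s₁ ≫ CohB1.ProjSpace.toSpec 1 K = 𝟙 _ → s₂ ≫ CohB1.ProjSpace.toSpec 1 K = 𝟙 _ →
      (s₁ ≫ π) (IsLocalRing.closedPoint K) = P → (s₂ ≫ π) (IsLocalRing.closedPoint K) = P → s₁ = s₂ := by
    intro s₁ s₂ h₁ h₂ hp₁ hp₂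
    refine hπ.hom_ext ?_ (h₁.trans h₂.symm)
    obtain ⟨g₁, hg₁⟩ : ∃ g : (CohB1.ProjSpace 1 k).residueField P ⟶ CommRingCat.of K,
        Spec.map g ≫ (CohB1.ProjSpace 1 k).fromSpecResidueField P = s₁ ≫ π := by
      rw [← hp₁]
      exact ⟨_, Scheme.descResidueField_stalkClosedPointTo_fromSpecResidueField K _ _⟩
    obtain ⟨g₂, hg₂⟩ : ∃ g : (CohB1.ProjSpace 1 k).residueField P ⟶ CommRingCat.of K,
        Spec.map g ≫ (CohB1.ProjSpace 1 k).fromSpecResidueField P = s₂ ≫ π := by
      rw [← hp₂]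
      exact ⟨_, Scheme.descResidueField_stalkClosedPointTo_fromSpecResidueField K _ _⟩
    rw [← hg₁, ← hg₂]
    congr 2
    have hbase : (CohB1.ProjSpace.toSpec 1 k).residueFieldMap P ≫ g₁ =
        (CohB1.ProjSpace.toSpec 1 k).residueFieldMap P ≫ g₂ := by
      refine Spec.map_injective ?_
      rw [← cancel_mono ((Spec (CommRingCat.of k)).fromSpecResidueField _), Spec.map_comp, Spec.map_comp,
        Category.assoc, Category.assoc, Scheme.Hom.SpecMap_residueFieldMap_fromSpecResidueField,
        reassoc_of% hg₁, reassoc_of% hg₂, hπ.w, reassoc_of% h₁, reassoc_of% h₂]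
    refine CommRingCat.hom_ext (RingHom.ext fun x => ?_)
    let q := ringExpChar ↑((Spec (CommRingCat.of k)).residueField ((CohB1.ProjSpace.toSpec 1 k) P))
    haveI : ExpChar ↑((CohB1.ProjSpace 1 k).residueField P) q :=
      expChar_of_injective_ringHom ((CohB1.ProjSpace.toSpec 1 k).residueFieldMap P).hom.injective q
    haveI : ExpChar K q := expChar_of_injective_ringHom g₁.hom.injective q
    obtain ⟨n, c, hc⟩ := IsPurelyInseparable.pow_mem
      ↑((Spec (CommRingCat.of k)).residueField ((CohB1.ProjSpace.toSpec 1 k) P)) q x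
    refine iterateFrobenius_inj K q n ?_
    simp only [iterateFrobenius_def]
    rw [← map_pow, ← map_pow, ← hc]
    exact congr(($hbase).hom c)
  obtain ⟨z₀, hz₀F, hz₀c⟩ : ∃ z, z ∈ F ∧ IsClosed ({z} : Set ↥(CohB1.ProjSpace 1 K)) :=
    nonempty_inter_closedPoints (Surjective.surj (f := π) P) hF.isLocallyClosed
  let s := pointOfClosedPoint (CohB1.ProjSpace.toSpec 1 K) z₀ hz₀c
  have hs : s ≫ CohB1.ProjSpace.toSpec 1 K = 𝟙 _ := pointOfClosedPoint_comp _ _ _
  have hF1 : F = {z₀} := by
    have hc : F ∩ closedPoints ↥(CohB1.ProjSpace 1 K) ⊆ {z₀} := by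
      rintro z ⟨hzF, hzc⟩
      have h := huniq (pointOfClosedPoint (CohB1.ProjSpace.toSpec 1 K) z hzc) s
        (pointOfClosedPoint_comp _ _ _) hs
        (by rw [Scheme.Hom.comp_apply, pointOfClosedPoint_apply]; exact hzF)
        (by rw [Scheme.Hom.comp_apply, pointOfClosedPoint_apply]; exact hz₀F)
      have h2 := congr($h (IsLocalRing.closedPoint K))
      rwa [pointOfClosedPoint_apply, pointOfClosedPoint_apply] at h2
    refine Set.Subset.antisymm ?_ (Set.singleton_subset_iff.2 hz₀F)
    calc F = closure F := hF.closure_eq.symm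
      _ = closure (F ∩ closedPoints ↥(CohB1.ProjSpace 1 K)) :=
        (JacobsonSpace.closure_inter_closedPoints_eq_closure hF.isLocallyClosed).symm
      _ ⊆ {z₀} := closure_minimal hc hz₀c
  -- move it to infinity
  obtain ⟨a, ha, ha1⟩ := Groth.Agent.PtdP1Lib.exists_aut_sections (K := K) (m := 1) one_le_two
    (fun _ => s) (fun _ => Groth.Agent.PtdP1Lib.stdPt 1) (fun _ => hs)
    (fun _ => Groth.Agent.PtdP1Lib.stdPt_toSpec 1) (fun _ _ _ => Subsingleton.elim _ _)
    (fun _ _ _ => Subsingleton.elim _ _)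
  haveI := Groth.Agent.P1PuncLib.isOpenImmersion_polyPoint (K := K) 0
  let U : (CohB1.ProjSpace 1 k).Opens := ⟨{P}ᶜ, hP.isOpen_compl⟩
  let j := Groth.Agent.P1PuncLib.polyPoint (K := K) 0 ≫ a.inv
  have hz : a.hom z₀ = Groth.Agent.PtdP1Lib.stdPt (K := K) 1 default := by
    have h := congr($(ha1 0) default)
    rwa [Scheme.Hom.comp_apply, show s default = z₀ from pointOfClosedPoint_apply _ _ _ _] at h
  have hr : Set.range j = Set.range (π ⁻¹ᵁ U).ι := by
    rw [Scheme.Opens.range_ι]
    show Set.range (a.inv ∘ Groth.Agent.P1PuncLib.polyPoint (K := K) 0) = Fᶜ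
    rw [Set.range_comp, Groth.Agent.P1PuncLib.range_polyPoint_zero, hF1, ← hz]
    ext x
    constructor
    · rintro ⟨y, hy, rfl⟩ hx
      apply hy
      rw [Set.mem_singleton_iff] at hx ⊢
      rw [← hx, ← Scheme.Hom.comp_apply, a.inv_hom_id]
      rfl
    · intro hx
      refine ⟨a.hom x, fun hy => hx ?_, ?_⟩
      · exact a.hom.homeomorph.injective hy
      · rw [← Scheme.Hom.comp_apply, a.hom_inv_id]
        rfl
  let e₁ := IsOpenImmersion.isoOfRangeEq j (π ⁻¹ᵁ U).ι hr
  have hsq : IsPullback (π ∣_ U) ((π ⁻¹ᵁ U).ι ≫ CohB1.ProjSpace.toSpec 1 K) (U.ι ≫ CohB1.ProjSpace.toSpec 1 k)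
      (Spec.map (CommRingCat.ofHom (algebraMap k K))) :=
    (isPullback_morphismRestrict π U).paste_vert hπ
  refine ⟨hsq.isoPullback.symm ≪≫ e₁.symm, ?_⟩
  rw [Iso.trans_hom, Iso.symm_hom, Iso.symm_hom, Category.assoc, Iso.inv_comp_eq, hsq.isoPullback_hom_snd,
    Iso.inv_comp_eq, IsOpenImmersion.isoOfRangeEq_hom_fac_assoc]
  have ha' : a.inv ≫ CohB1.ProjSpace.toSpec 1 K = CohB1.ProjSpace.toSpec 1 K := by
    rw [Iso.inv_comp_eq, ha]
  rw [Category.assoc, ha', Groth.Agent.P1PuncLib.polyPoint_toSpec]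

end Groth.Agent.S14646
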