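import Groth.Statements.S14647
import Groth.Agent.P1FixLib.Basic
import Groth.Agent.ProjMap.Bilin

set_option autoImplicit false
set_option backward.isDefEq.respectTransparency false
set_option linter.style.haveILetI false
universe u
open CategoryTheory CategoryTheory.Limits AlgebraicGeometry
open AlgGrp
open scoped TensorProduct

namespace Groth.Agent.S14647

/-- Over a field k, let P be a closed point of the projective line P¹_k whose residue field κ(P) is
purely inseparable over k with [κ(P) : k] ≥ 3 (this forces k to be imperfect). Then the centraliser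
of P (with its reduced structure) in the automorphism group of P¹ is infinitesimal; on geometric
points: for an algebraic closure K of k, every automorphism φ of P¹_k ×_k Spec K over Spec K which
induces the identity on the closed subscheme Spec κ(P) ×_k Spec K — meaning φ ∘ z = z for every
scheme T and every T-point z of P¹_k ×_k Spec K whose image in P¹_k factors through Spec κ(P) → P¹_k
— is the identity. -/
theorem result (k : Type u) [Field k]
    (P : ↥(CohB1.ProjSpace 1 k))
    (hpi : letI := ((CohB1.ProjSpace.toSpec 1 k).residueFieldMap P).hom.toAlgebra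
      IsPurelyInseparable ↑((Spec (CommRingCat.of k)).residueField ((CohB1.ProjSpace.toSpec 1 k) P)) ↑((CohB1.ProjSpace 1 k).residueField P))
    (hdeg : letI := ((CohB1.ProjSpace.toSpec 1 k).residueFieldMap P).hom.toAlgebra
      3 ≤ Module.finrank ↑((Spec (CommRingCat.of k)).residueField ((CohB1.ProjSpace.toSpec 1 k) P)) ↑((CohB1.ProjSpace 1 k).residueField P))
    (K : Type u) [Field K] [Algebra k K] [IsAlgClosure k K]
    (φ : pullback (CohB1.ProjSpace.toSpec 1 k) (Spec.map (CommRingCat.ofHom (algebraMap k K))) ≅ pullback (CohB1.ProjSpace.toSpec 1 k) (Spec.map (CommRingCat.ofHom (algebraMap k K))))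
    (hφ : φ.hom ≫ pullback.snd (CohB1.ProjSpace.toSpec 1 k) (Spec.map (CommRingCat.ofHom (algebraMap k K))) = pullback.snd (CohB1.ProjSpace.toSpec 1 k) (Spec.map (CommRingCat.ofHom (algebraMap k K))))
    (hfix : ∀ (T : Scheme.{u}) (z : T ⟶ pullback (CohB1.ProjSpace.toSpec 1 k) (Spec.map (CommRingCat.ofHom (algebraMap k K)))) (w : T ⟶ Spec ((CohB1.ProjSpace 1 k).residueField P)),
      z ≫ pullback.fst (CohB1.ProjSpace.toSpec 1 k) (Spec.map (CommRingCat.ofHom (algebraMap k K))) = w ≫ (CohB1.ProjSpace 1 k).fromSpecResidueField P → z ≫ φ.hom = z) :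
    φ.hom = 𝟙 _ := by
  classical
  let y0 := (CohB1.ProjSpace.toSpec 1 k) P
  let K0 := (Spec (CommRingCat.of k)).residueField y0
  let κ := (CohB1.ProjSpace 1 k).residueField P
  letI aK0κ : Algebra K0 κ := ((CohB1.ProjSpace.toSpec 1 k).residueFieldMap P).hom.toAlgebra
  let rk := Spec.preimage ((Spec (CommRingCat.of k)).fromSpecResidueField y0)
  letI akK0 : Algebra k K0 := rk.hom.toAlgebra
  letI akκ : Algebra k κ := ((algebraMap K0 κ).comp (algebraMap k K0)).toAlgebra
  haveI : IsScalarTower k K0 κ := IsScalarTower.of_algebraMap_eq' rfl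
  let ι := (CohB1.ProjSpace 1 k).fromSpecResidueField P
  have hι : ι ≫ CohB1.ProjSpace.toSpec 1 k = Spec.map (CommRingCat.ofHom (algebraMap k κ)) := by
    show _ = Spec.map (rk ≫ (CohB1.ProjSpace.toSpec 1 k).residueFieldMap P)
    rw [Spec.map_comp, Spec.map_preimage]
    exact ((CohB1.ProjSpace.toSpec 1 k).SpecMap_residueFieldMap_fromSpecResidueField P).symm
  -- coordinates of P
  haveI : Unique (Spec (CommRingCat.of κ)) := inferInstanceAs (Unique (Spec ((CohB1.ProjSpace 1 k).residueField P)))
  obtain ⟨c, hc⟩ := Groth.Agent.ProjMap.exists_chart k P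
  have hr : Set.range ι ⊆ Set.range (Groth.Agent.ProjMap.chart (R := k) c) := by
    rintro _ ⟨z, rfl⟩
    rw [show ι z = P from Scheme.fromSpecResidueField_apply _ _]
    exact hc
  let j := IsOpenImmersion.lift (Groth.Agent.ProjMap.chart (R := k) c) ι hr
  have hj : j ≫ Groth.Agent.ProjMap.chart (R := k) c = ι := IsOpenImmersion.lift_fac _ _ _
  have hψ : Groth.Agent.ProjMap.IsAlg (R := k) (A := κ) c (Spec.preimage j).hom := by
    refine Groth.Agent.ProjMap.isAlg_of_toSpec c _ ?_
    rw [CommRingCat.ofHom_hom, Spec.map_preimage, ← Category.assoc, hj, hι]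
  let t : Fin 2 → κ := Groth.Agent.ProjMap.coords c (Spec.preimage j).hom
  have htc : t c = 1 := Groth.Agent.ProjMap.coords_self _ _
  have htu : IsUnit (t c) := htc ▸ isUnit_one
  have hιt : Groth.Agent.ProjMap.point (R := k) t c htu = ι := by
    rw [Groth.Agent.ProjMap.point_coords c _ hψ, CommRingCat.ofHom_hom, Spec.map_preimage, hj]
  obtain ⟨d, hcd⟩ : ∃ d : Fin 2, c ≠ d := exists_ne c |>.imp fun _ h => h.symm
  -- they generate the residue field
  let a : κ := t d
  let F₀ : IntermediateField K0 κ := IntermediateField.adjoin K0 {a}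
  have htF : ∀ i, t i ∈ F₀ := fun i => by
    have hi : i = c ∨ i = d := by
      fin_cases c <;> fin_cases d <;> fin_cases i <;> simp_all
    rcases hi with rfl | rfl
    · rw [htc]; exact F₀.one_mem
    · exact IntermediateField.mem_adjoin_simple_self K0 a
  let t₀ : Fin 2 → F₀ := fun i => ⟨t i, htF i⟩
  have ht₀ : IsUnit (t₀ c) := by
    rw [show t₀ c = 1 from Subtype.ext htc]; exact isUnit_one
  have hincl : Spec.map (CommRingCat.ofHom F₀.val.toRingHom) ≫ Groth.Agent.ProjMap.point (R := k) t₀ c ht₀ = ι := by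
    exact (Groth.Agent.ProjMap.specMap_point (R := k) F₀.val.toRingHom (fun r => rfl) t₀ c ht₀).trans hιt
  have htop : F₀ = ⊤ := by
    let p0 := Groth.Agent.ProjMap.point (R := k) t₀ c ht₀
    have hP : p0.base (IsLocalRing.closedPoint F₀) = P := by
      have h := congrArg (fun m : Spec (CommRingCat.of κ) ⟶ CohB1.ProjSpace 1 k => m.base default) hincl
      simp only [Scheme.Hom.comp_apply] at h
      refine Eq.trans ?_ (h.trans (Scheme.fromSpecResidueField_apply _ _))
      congr 1
      exact Subsingleton.elim (α := PrimeSpectrum F₀) _ _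
    obtain ⟨g, hg⟩ : ∃ g : κ ⟶ CommRingCat.of F₀, Spec.map g ≫ ι = p0 := by
      have h := Scheme.descResidueField_stalkClosedPointTo_fromSpecResidueField F₀ _ p0
      exact ⟨((CohB1.ProjSpace 1 k).residueFieldCongr hP).inv ≫
        (CohB1.ProjSpace 1 k).descResidueField (Scheme.stalkClosedPointTo p0), by
        rw [Spec.map_comp, Category.assoc]
        refine Eq.trans ?_ h
        congr 1
        rw [← cancel_epi (Spec.map ((CohB1.ProjSpace 1 k).residueFieldCongr hP).hom), ← Spec.map_comp_assoc,
          Iso.inv_hom_id, Spec.map_id, Category.id_comp, Scheme.residueFieldCongr_fromSpecResidueField]⟩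
    have hid : g ≫ CommRingCat.ofHom F₀.val.toRingHom = 𝟙 κ := by
      refine Spec.map_injective ?_
      rw [← cancel_mono ι, Spec.map_comp, Category.assoc, hg, Spec.map_id]
      exact hincl.trans (Category.id_comp _).symm
    refine eq_top_iff.2 fun x _ => ?_
    have hx : F₀.val (g x) = x := ConcreteCategory.congr_hom hid x
    rw [← hx]
    exact SetLike.coe_mem _
  have hdeg' : 3 ≤ Module.finrank K0 κ := hdeg
  haveI : Module.Finite K0 κ := Module.finite_of_finrank_pos (by omega)
  have hint : IsIntegral K0 a := IsIntegral.of_finite K0 a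
  have hmin : 3 ≤ (minpoly K0 a).natDegree := by
    rw [← IntermediateField.adjoin.finrank hint]
    show 3 ≤ Module.finrank K0 F₀
    rw [htop, IntermediateField.finrank_top']
    exact hdeg'
  have hli : LinearIndependent k (fun i : Fin 3 => a ^ (i : ℕ)) := by
    have h0 : LinearIndependent K0 (fun i : Fin 3 => a ^ (i : ℕ)) :=
      (linearIndependent_pow (K := K0) a).comp (Fin.castLE hmin) (Fin.castLE_injective hmin)
    refine h0.restrict_scalars ?_
    intro x y h
    exact (algebraMap k K0).injective (by simpa [Algebra.smul_def] using h)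
  obtain ⟨L, hL⟩ := (Fintype.linearCombination k (fun i : Fin 3 => a ^ (i : ℕ))).exists_leftInverse_of_injective
    (LinearMap.ker_eq_bot.2 hli.fintypeLinearCombination_injective)
  -- the fibre over P
  let A := TensorProduct k κ K
  letI : Algebra K A := Algebra.TensorProduct.rightAlgebra
  let inl : κ →ₐ[k] A := Algebra.TensorProduct.includeLeft
  let v : Fin 2 → A := fun i => inl (t i)
  have hvc : v c = 1 := by simp [v, htc]
  have hvu : IsUnit (v c) := hvc ▸ isUnit_one
  let π := Groth.Agent.GenSeesawLib.bcMap 1 k K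
  have hπ := Groth.Agent.GenSeesawLib.isPullback_bcMap 1 k K
  let e := hπ.isoPullback
  let z : Spec (CommRingCat.of A) ⟶ CohB1.ProjSpace 1 K := Groth.Agent.ProjMap.point (R := K) v c hvu
  haveI : IsScalarTower k K A := IsScalarTower.of_algebraMap_eq fun r =>
    (Algebra.TensorProduct.includeRight.commutes r).symm
  have hz : z ≫ π = Spec.map (CommRingCat.ofHom inl.toRingHom) ≫ ι := by
    rw [Groth.Agent.P1FixLib.point_bcMap k K v c hvu, ← hιt,
      Groth.Agent.ProjMap.specMap_point inl.toRingHom inl.commutes]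
    rfl
  have hzfix := hfix _ (z ≫ e.hom) (Spec.map (CommRingCat.ofHom inl.toRingHom))
    (by rw [Category.assoc, hπ.isoPullback_hom_fst]; exact hz)
  let g := e.hom ≫ φ.hom ≫ e.inv
  have hg : g ≫ CohB1.ProjSpace.toSpec 1 K = CohB1.ProjSpace.toSpec 1 K := by
    show (e.hom ≫ φ.hom ≫ e.inv) ≫ _ = _
    rw [Category.assoc, Category.assoc, hπ.isoPullback_inv_snd, hφ, hπ.isoPullback_hom_snd]
  obtain ⟨M, hM⟩ := Groth.Agent.PnAutLib.exists_eq_Lin g hg
  have hzg : z ≫ g = z := by
    show z ≫ e.hom ≫ φ.hom ≫ e.inv = z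
    rw [← Category.assoc, ← Category.assoc, hzfix, Category.assoc, e.hom_inv_id, Category.comp_id]
  have hid := Groth.Agent.P1FixLib.Lin_eq_id M v c d hcd hvc (fun p q r hpqr => ?_) (hM ▸ hzg)
  · have hg1 : e.hom ≫ φ.hom ≫ e.inv = 𝟙 _ := hM.trans hid
    rw [← cancel_epi e.hom, ← cancel_mono e.inv, Category.assoc, hg1, Category.comp_id, e.hom_inv_id]
  · have h1 : (1 : κ) ⊗ₜ[k] p + a ⊗ₜ[k] q + (a * a) ⊗ₜ[k] r = (0 : A) := by
      have hA : ∀ x : K, algebraMap K A x = (1 : κ) ⊗ₜ[k] x := fun _ => rfl
      rw [← hpqr]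
      rw [hA, hA, hA, show v d = a ⊗ₜ[k] (1 : K) from rfl, Algebra.TensorProduct.tmul_mul_tmul,
        Algebra.TensorProduct.tmul_mul_tmul, Algebra.TensorProduct.tmul_mul_tmul]
      simp only [one_mul, mul_one]
    have h2 : ∀ i : Fin 3, (TensorProduct.lid k K)
        ((LinearMap.proj i ∘ₗ L).rTensor K ((1 : κ) ⊗ₜ[k] p + a ⊗ₜ[k] q + (a * a) ⊗ₜ[k] r)) = 0 := fun i => by
      rw [h1, map_zero, map_zero]
    have hLpow : ∀ i : Fin 3, L (a ^ (i : ℕ)) = Pi.single i 1 := fun i => by
      have := LinearMap.congr_fun hL (Pi.single i 1)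
      simpa [Fintype.linearCombination_apply_single] using this
    have hL0 : L (1 : κ) = Pi.single (0 : Fin 3) 1 := by simpa using hLpow 0
    have hL1 : L a = Pi.single (1 : Fin 3) 1 := by simpa using hLpow 1
    have hL2 : L (a * a) = Pi.single (2 : Fin 3) 1 := by simpa [pow_two] using hLpow 2
    exact ⟨by simpa [hL0, hL1, hL2] using h2 0, by simpa [hL0, hL1, hL2] using h2 1,
      by simpa [hL0, hL1, hL2] using h2 2⟩

end Groth.Agent.S14647
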