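import Groth.Statements.S14648
import Groth.Agent.MagnetHom.UnitsRep
import Groth.Agent.S1585

set_option autoImplicit false
universe u
open CategoryTheory MonoidalCategory CartesianMonoidalCategory MonObj GrpObj AlgebraicGeometry CategoryTheory.Limits
open AlgGrp

namespace Groth.Agent.S14648

set_option backward.isDefEq.respectTransparency false

theorem eq_of_isIso_over {W Y X : Scheme.{u}} (f : Y ⟶ X) (V : X.Opens) [IsIso (f ∣_ V)] {p q : W ⟶ Y}
    (h : p ≫ f = q ≫ f) (hq : Set.range q ⊆ ((f ⁻¹ᵁ V : Y.Opens) : Set Y)) : p = q := by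
  have hp : Set.range p ⊆ ((f ⁻¹ᵁ V : Y.Opens) : Set Y) := by
    rintro _ ⟨w, rfl⟩
    show (p ≫ f) w ∈ V
    rw [h]
    exact hq ⟨w, rfl⟩
  let p' := IsOpenImmersion.lift (f ⁻¹ᵁ V).ι p (by rwa [Scheme.Opens.range_ι])
  let q' := IsOpenImmersion.lift (f ⁻¹ᵁ V).ι q (by rwa [Scheme.Opens.range_ι])
  have hpq : p' = q' := by
    rw [← cancel_mono (f ∣_ V), ← cancel_mono V.ι]
    simp only [Category.assoc, morphismRestrict_ι]
    rw [← Category.assoc, IsOpenImmersion.lift_fac, ← Category.assoc, IsOpenImmersion.lift_fac, h]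
  rw [← IsOpenImmersion.lift_fac (f ⁻¹ᵁ V).ι p (by rwa [Scheme.Opens.range_ι]),
    ← IsOpenImmersion.lift_fac (f ⁻¹ᵁ V).ι q (by rwa [Scheme.Opens.range_ι])]
  exact congrArg (· ≫ (f ⁻¹ᵁ V).ι) hpq

section Act

variable {S : Scheme.{u}} {G X : Over S} [GrpObj G] (a : AlgGrp.Action G X)

theorem lift_one_act {T : Over S} (x : T ⟶ X) : lift (1 : T ⟶ G) x ≫ a.act = x := by
  have h : lift (1 : T ⟶ G) x = lift (toUnit T) x ≫ (η[G] ▷ X) := by
    rw [lift_whiskerRight]
    rfl
  rw [h, Category.assoc, a.one_act, leftUnitor_hom, lift_snd]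

theorem lift_mul_act {T : Over S} (g h : T ⟶ G) (x : T ⟶ X) :
    lift (g * h) x ≫ a.act = lift g (lift h x ≫ a.act) ≫ a.act := by
  have e : lift (g * h) x = lift (lift g h) x ≫ (μ[G] ▷ X) := by rw [lift_whiskerRight]; rfl
  rw [e, Category.assoc, a.mul_act, lift_lift_associator_hom_assoc, lift_whiskerLeft_assoc]

variable {Y : Over S} {b : AlgGrp.Action G Y} {n : Y ⟶ X} (hb : (G ◁ n) ≫ a.act = b.act ≫ n)

include hb in
theorem lift_act_comp {T : Over S} (g : T ⟶ G) (y : T ⟶ Y) :
    lift g y ≫ b.act ≫ n = lift g (y ≫ n) ≫ a.act := by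
  rw [← hb, lift_whiskerLeft_assoc]

include hb in
theorem isPullback_act : IsPullback b.act (G ◁ n) n a.act := by
  refine ⟨⟨hb.symm⟩, ⟨PullbackCone.IsLimit.mk _
    (fun c => lift (c.snd ≫ fst G X) (lift (c.snd ≫ fst G X)⁻¹ c.fst ≫ b.act)) (fun c => ?_) (fun c => ?_)
    fun c m h1 h2 => ?_⟩⟩
  · rw [← lift_mul_act, mul_inv_cancel, lift_one_act]
  · have e : c.snd ≫ a.act = lift (c.snd ≫ fst G X) (c.snd ≫ snd G X) ≫ a.act := by rw [lift_comp_fst_snd]
    rw [lift_whiskerLeft, Category.assoc, lift_act_comp a hb, c.condition, e, ← lift_mul_act, inv_mul_cancel,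
      lift_one_act, lift_comp_fst_snd]
  · have hg : m ≫ fst G Y = c.snd ≫ fst G X := by
      rw [← h2, Category.assoc, whiskerLeft_fst]
    have hy : lift (m ≫ fst G Y) (m ≫ snd G Y) ≫ b.act = c.fst := by rw [lift_comp_fst_snd, h1]
    conv_lhs => rw [← lift_comp_fst_snd m]
    rw [← hy, hg, ← lift_mul_act, inv_mul_cancel, lift_one_act]

end Act

/-- Over a field k, let G be a smooth connected k-group scheme of finite type acting on a variety X (a
separated, geometrically integral k-scheme of finite type), let ν : X̃ → X be the normalization of X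
and let G act on X̃ so that ν is equivariant (such a lifted action exists and is unique; here it is
given). Then the commutative square with the action maps G × X̃ → X̃ and G × X → X as horizontal
sides and id_G × ν, ν as vertical sides is cartesian, and the two actions have the same kernel: for
every k-scheme T, a T-point g of G acts as the identity on all points of X over T-schemes if and
only if it acts as the identity on all points of X̃ over T-schemes. (The quasi-compactness and
quasi-separatedness binders on the morphism from the generic point always hold; they are only needed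
to form the normalization.) -/
theorem result (k : Type u) [Field k]
    (G X : Over (Spec (CommRingCat.of k))) [GrpObj G] [Smooth G.hom] [QuasiCompact G.hom] [ConnectedSpace ↥G.left]
    [IsSeparated X.hom] [LocallyOfFiniteType X.hom] [QuasiCompact X.hom] [GeometricallyIntegral X.hom] [IsIntegral X.left] [QuasiCompact (X.left.fromSpecStalk (genericPoint ↥X.left))] [QuasiSeparated (X.left.fromSpecStalk (genericPoint ↥X.left))]
    (a : AlgGrp.Action G X) (b : AlgGrp.Action G (Over.mk (Curv2.normalizationι X.left ≫ X.hom)))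
    (hb : (G ◁ (Over.homMk (Curv2.normalizationι X.left) rfl : Over.mk (Curv2.normalizationι X.left ≫ X.hom) ⟶ X)) ≫ a.act = b.act ≫ Over.homMk (Curv2.normalizationι X.left) rfl) :
    IsPullback b.act (G ◁ (Over.homMk (Curv2.normalizationι X.left) rfl : Over.mk (Curv2.normalizationι X.left ≫ X.hom) ⟶ X)) (Over.homMk (Curv2.normalizationι X.left) rfl : Over.mk (Curv2.normalizationι X.left ≫ X.hom) ⟶ X) a.act ∧
    ∀ (T : Over (Spec (CommRingCat.of k))) (g : T ⟶ G),
      (∀ (T' : Over (Spec (CommRingCat.of k))) (s : T' ⟶ T) (x : T' ⟶ X), CartesianMonoidalCategory.lift (s ≫ g) x ≫ a.act = x) ↔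
      (∀ (T' : Over (Spec (CommRingCat.of k))) (s : T' ⟶ T) (y : T' ⟶ Over.mk (Curv2.normalizationι X.left ≫ X.hom)), CartesianMonoidalCategory.lift (s ≫ g) y ≫ b.act = y) := by
  let Y : Over (Spec (CommRingCat.of k)) := Over.mk (Curv2.normalizationι X.left ≫ X.hom)
  let n : Y ⟶ X := Over.homMk (Curv2.normalizationι X.left) rfl
  refine ⟨isPullback_act a hb, ?_⟩
  letI : X.left.Over (Spec (CommRingCat.of k)) := ⟨X.hom⟩
  haveI : LocallyOfFiniteType (X.left ↘ Spec (CommRingCat.of k)) := ‹LocallyOfFiniteType X.hom›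
  obtain ⟨hfin, hdom, ⟨V, hV, hiso⟩, hint, -⟩ := S1585.result k X.left
  haveI : IsFinite n.left := hfin
  haveI : IsDominant n.left := hdom
  haveI : IsIntegral Y.left := hint
  haveI : IsSchemeTheoreticallyDominant n.left := .of_isDominant _
  haveI : IsSeparated Y.hom := inferInstanceAs (IsSeparated (n.left ≫ X.hom))
  haveI : LocallyOfFiniteType Y.hom := inferInstanceAs (LocallyOfFiniteType (n.left ≫ X.hom))
  haveI : IsLocallyNoetherian Y.left := LocallyOfFiniteType.isLocallyNoetherian Y.hom
  let U : Y.left.Opens := n.left ⁻¹ᵁ V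
  let j : Over.mk (U.ι ≫ Y.hom) ⟶ Y := Over.homMk U.ι rfl
  haveI : IsOpenImmersion j.left := inferInstanceAs (IsOpenImmersion U.ι)
  haveI : IsSchemeTheoreticallyDominant j.left := by
    have hne : (U : Set Y.left).Nonempty := by
      obtain ⟨y, hy⟩ := n.left.denseRange.exists_mem_open V.2 hV
      exact ⟨y, hy⟩
    have : IsDominant j.left := by
      rw [isDominant_iff]
      show Dense (Set.range U.ι)
      rw [Scheme.Opens.range_ι]
      exact U.2.dense hne
    exact .of_isDominant _
  intro T g
  haveI : Flat (snd T Y).left := inferInstanceAs (Flat (pullback.snd T.hom Y.hom))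
  haveI : Flat (snd T X).left := inferInstanceAs (Flat (pullback.snd T.hom X.hom))
  haveI : IsSchemeTheoreticallyDominant (T ◁ j).left :=
    .of_isPullback (MagnetHom.isPullback_whiskerLeft_left T j).flip
  haveI : IsSchemeTheoreticallyDominant (T ◁ n).left :=
    .of_isPullback (MagnetHom.isPullback_whiskerLeft_left T n).flip
  have hbn := fun {T' : Over (Spec (CommRingCat.of k))} (h : T' ⟶ G) (y : T' ⟶ Y) =>
    lift_act_comp (b := b) (n := n) a hb h y
  constructor
  · intro H T' s y
    have hU : lift (fst T Y ≫ g) (snd T Y) ≫ b.act = snd T Y := by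
      refine MagnetHom.eq_of_dominant (T ◁ j) (Over.OverMorphism.ext ?_)
      refine eq_of_isIso_over (Curv2.normalizationι X.left) V ?_ ?_
      · have h := congrArg CommaMorphism.left (congrArg ((T ◁ j) ≫ ·)
          ((hbn (fst T Y ≫ g) (snd T Y)).trans (H _ (fst T Y) (snd T Y ≫ n))))
        simp only [Category.assoc, Over.comp_left] at h ⊢
        exact h
      · rw [whiskerLeft_snd]
        rintro _ ⟨w, rfl⟩
        rw [Over.comp_left, Scheme.Hom.comp_apply]
        exact ((snd T (Over.mk (U.ι ≫ Y.hom))).left w).2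
    have key : ∀ (z : T' ⟶ Y), lift (s ≫ g) z ≫ b.act = z := fun z => by
      have h := congrArg (lift s z ≫ ·) hU
      simp only [comp_lift_assoc, lift_fst_assoc] at h
      have e : lift s z ≫ snd T Y = z := lift_snd _ _
      erw [e] at h
      exact h
    exact key y
  · intro H T' s x
    have hX : lift (fst T X ≫ g) (snd T X) ≫ a.act = snd T X := by
      refine MagnetHom.eq_of_dominant (T ◁ n) ?_
      rw [whiskerLeft_snd, comp_lift_assoc, whiskerLeft_fst_assoc, whiskerLeft_snd, ← hbn]
      exact (Category.assoc _ _ _).symm.trans (congrArg (· ≫ n) (H _ (fst T Y) (snd T Y)))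
    have h := congrArg (lift s x ≫ ·) hX
    simp only [comp_lift_assoc, lift_fst_assoc, lift_snd] at h
    exact h

end Groth.Agent.S14648
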