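import Groth.Statements.S14649
import Groth.Agent.FiltBlLib.Transfer

set_option autoImplicit false
universe u
open FiltBl

namespace Groth.Agent.S14649

/-- Let A be a Noetherian local ring that is a quotient of a Gorenstein ring, and F a filtration of
ideals on A (F^0 = A ⊇ F^1 ⊇ ⋯, F^i F^j ⊆ F^{i+j}) with every F^n nonzero and ⋂ F^n = 0, whose Rees
algebra ⊕_{n ≥ 0} F^n X^n is finitely generated over A and with F^1 of height at least 2
(equivalently, every F^n with n ≥ 1 has height at least 2, all F^n having the same radical). Then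
the extended Rees algebra R' = ⊕_{n ∈ ℤ} F^n T^n ⊆ A[T, T⁻¹] is a Cohen–Macaulay ring if and only if
the associated graded ring G = ⊕ F^n/F^{n+1}, realised as R'/uR' with u = T⁻¹, is a Cohen–Macaulay
ring. (The published statement is made under the further standing assumption that no nonzero element
of the Rees algebra ⊕_{n ≥ 0} F^n T^n is annihilated by a power of the ideal generated by its
homogeneous elements of positive degree; this row does not assume it, and the assertion holds
without it.) -/
theorem result (A : Type u) [CommRing A] [IsNoetherianRing A] [IsLocalRing A]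
    (S : Type u) [CommRing S] [LocCoh.IsGorensteinRing S] (π : S →+* A) (hπ : Function.Surjective π)
    (𝓕 : FiltBl.IdealFiltration A) (hne : ∀ n, 𝓕.F n ≠ ⊥) (hsep : ⨅ n, 𝓕.F n = ⊥)
    (hfg : Algebra.FiniteType A 𝓕.rees) (hht : 2 ≤ (𝓕.F 1).height) :
    LocCoh.IsCohenMacaulayRing 𝓕.extRees ↔ LocCoh.IsCohenMacaulayRing 𝓕.Gr := by
  haveI := FiltBlLib.isNoetherianRing_extRees 𝓕 hfg
  have hG := FiltBlLib.forall_iff_graded (G := 𝓕.Gr) (P := fun R [CommRing R] => LocCoh.IsCohenMacaulayLocalRing R)
    (Pbar := fun R [CommRing R] => LocCoh.IsCohenMacaulayLocalRing R) 𝓕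
    (Ideal.Quotient.mk (Ideal.span {𝓕.u})) Ideal.Quotient.mk_surjective Ideal.mk_ker
    FiltBlLib.flatStable_cm.iso (fun B _ _ _ f hf hreg => CMFlatLib.cm_quot_iff B hf hreg) (fun _ => True)
  constructor
  · intro h
    exact { isCohenMacaulayLocalRing_localization := fun p _ =>
          hG.1 (fun P' _ _ _ => h.isCohenMacaulayLocalRing_localization P') p trivial }
  · intro h
    have hu : ∀ (P' : Ideal 𝓕.extRees) [P'.IsPrime], 𝓕.u ∈ P' →
        LocCoh.IsCohenMacaulayLocalRing (Localization.AtPrime P') := fun P' _ hP' =>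
      hG.2 (fun p _ _ => h.isCohenMacaulayLocalRing_localization p) P' hP' trivial
    have hA : ∀ (q : Ideal A) [q.IsPrime], LocCoh.IsCohenMacaulayLocalRing (Localization.AtPrime q) := by
      intro q _
      refine FiltBlLib.base_of_extRees FiltBlLib.flatStable_cm 𝓕 q fun P' _ hP' => ?_
      obtain ⟨M, hM, huM, hle⟩ := FiltBlLib.exists_maximal_above 𝓕 q hsep (Ideal.IsPrime.ne_top inferInstance)
      haveI := hu M huM
      haveI : LocCoh.IsCohenMacaulayRing (Localization.AtPrime M) := CMCat.isCohenMacaulayRing_of_local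
      exact FiltBlLib.of_le (P := fun R [CommRing R] => LocCoh.IsCohenMacaulayLocalRing R)
        FiltBlLib.flatStable_cm.iso M P' (hP' ▸ hle)
        fun Q _ => LocCoh.IsCohenMacaulayRing.isCohenMacaulayLocalRing_localization Q
    refine { isCohenMacaulayLocalRing_localization := fun P' _ => ?_ }
    by_cases hP' : 𝓕.u ∈ P'
    · exact hu P' hP'
    · exact FiltBlLib.extRees_of_base FiltBlLib.flatStable_cm 𝓕 P' hP' fun Q _ _ => hA _

end Groth.Agent.S14649
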