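import Groth.Statements.S14651
import Groth.Agent.FiltBlLib.Transfer

set_option autoImplicit false
universe u
open FiltBl

namespace Groth.Agent.S14651

/-- Let A be a Noetherian local ring that is a quotient of a Gorenstein ring, and F a filtration of
ideals on A (F^0 = A ⊇ F^1 ⊇ ⋯, F^i F^j ⊆ F^{i+j}) with every F^n nonzero and ⋂ F^n = 0, whose Rees
algebra ⊕_{n ≥ 0} F^n X^n is finitely generated over A and with F^1 of height at least 2
(equivalently, every F^n with n ≥ 1 has height at least 2, all F^n having the same radical). Then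
the extended Rees algebra R' = ⊕_{n ∈ ℤ} F^n T^n ⊆ A[T, T⁻¹] satisfies Serre's condition (S_2) if
and only if the associated graded ring G = ⊕ F^n/F^{n+1}, realised as R'/uR' with u = T⁻¹, satisfies
(S_1) and A satisfies (S_2). (The published statement is made under the further standing assumption
that no nonzero element of the Rees algebra ⊕_{n ≥ 0} F^n T^n is annihilated by a power of the ideal
generated by its homogeneous elements of positive degree; this row does not assume it, and the
assertion holds without it.) -/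
theorem result (A : Type u) [CommRing A] [IsNoetherianRing A] [IsLocalRing A]
    (S : Type u) [CommRing S] [LocCoh.IsGorensteinRing S] (π : S →+* A) (hπ : Function.Surjective π)
    (𝓕 : FiltBl.IdealFiltration A) (hne : ∀ n, 𝓕.F n ≠ ⊥) (hsep : ⨅ n, 𝓕.F n = ⊥)
    (hfg : Algebra.FiniteType A 𝓕.rees) (hht : 2 ≤ (𝓕.F 1).height) :
    LocCoh.HasSk 2 𝓕.extRees 𝓕.extRees ↔ (LocCoh.HasSk 1 𝓕.Gr 𝓕.Gr ∧ LocCoh.HasSk 2 A A) := by
  haveI := FiltBlLib.isNoetherianRing_extRees 𝓕 hfg
  have hG := FiltBlLib.forall_iff_graded (G := 𝓕.Gr) (P := fun R [CommRing R] => FlatDepth.SkLocal 2 R)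
    (Pbar := fun R [CommRing R] => FlatDepth.SkLocal 1 R) 𝓕
    (Ideal.Quotient.mk (Ideal.span {𝓕.u})) Ideal.Quotient.mk_surjective Ideal.mk_ker
    (FiltBlLib.flatStable_sk 1).iso (fun B _ _ _ f hf hreg => by simpa only [show (1:ℕ) + 1 = 2 from rfl] using FiltBlLib.skLocal_quot_iff 1 hf hreg) (fun _ => True)
  rw [FlatDepth.hasSk_iff, FlatDepth.hasSk_iff, FlatDepth.hasSk_iff]
  constructor
  · intro h
    refine ⟨fun p _ => hG.1 (fun P' _ _ _ => h P') p trivial, fun q _ => ?_⟩
    exact FiltBlLib.base_of_extRees (FiltBlLib.flatStable_sk 2) 𝓕 q fun P' _ _ => h P'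
  · rintro ⟨hg, hA⟩ P' _
    by_cases hP' : 𝓕.u ∈ P'
    · exact hG.2 (fun p _ _ => hg p) P' hP' trivial
    · exact FiltBlLib.extRees_of_base (FiltBlLib.flatStable_sk 2) 𝓕 P' hP' fun Q _ _ => hA _

end Groth.Agent.S14651
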