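import Groth.Statements.S14652
import Mathlib

set_option autoImplicit false
universe u
open FiltBl

namespace Groth.Agent.S14652

open CategoryTheory CategoryTheory.Limits AlgebraicGeometry

open Polynomial

theorem coe_add_le {a b : ℤ} {x y : WithTop ℤ} (hx : (a : WithTop ℤ) ≤ x) (hy : (b : WithTop ℤ) ≤ y) :
    ((a + b : ℤ) : WithTop ℤ) ≤ x + y := by
  rw [WithTop.coe_add]; exact add_le_add hx hy

theorem coe_add_lt {a b : ℤ} {x y : WithTop ℤ} (hx : (a : WithTop ℤ) < x) (hy : (b : WithTop ℤ) ≤ y) :
    ((a + b : ℤ) : WithTop ℤ) < x + y := by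
  induction x with
  | top => simp
  | coe x =>
    induction y with
    | top => simp
    | coe y =>
      rw [WithTop.coe_lt_coe] at hx
      rw [WithTop.coe_le_coe] at hy
      rw [← WithTop.coe_add, WithTop.coe_lt_coe]; omega

section
variable {A : Type u} [CommRing A] (w : AddValuation A (WithTop ℤ)) (P : ℤ)

def Bdd (f : A[X]) (m : ℤ) : Prop := ∀ j : ℕ, ((m + j * P : ℤ) : WithTop ℤ) ≤ w (f.coeff j)

def Lead (f : A[X]) (m : ℤ) (k : ℕ) : Prop :=
  Bdd w P f m ∧ w (f.coeff k) = ((m + k * P : ℤ) : WithTop ℤ) ∧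
    ∀ j, j < k → ((m + j * P : ℤ) : WithTop ℤ) < w (f.coeff j)

theorem bdd_one : Bdd w P (1 : A[X]) 0 := fun j => by
  rcases eq_or_ne j 0 with rfl | h
  · simp
  · simp [coeff_one, h]

theorem bdd_mul {f g : A[X]} {m n : ℤ} (hf : Bdd w P f m) (hg : Bdd w P g n) :
    Bdd w P (f * g) (m + n) := by
  intro N
  rw [coeff_mul]
  refine w.map_le_sum fun x hx => ?_
  rw [Finset.HasAntidiagonal.mem_antidiagonal] at hx
  have e : m + n + (N : ℤ) * P = (m + x.1 * P) + (n + x.2 * P) := by
    rw [← hx]; push_cast; ring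
  rw [AddValuation.map_mul, e]
  exact coe_add_le (hf _) (hg _)

theorem lead_mul {f g : A[X]} {m n : ℤ} {k l : ℕ} (hf : Lead w P f m k) (hg : Lead w P g n l) :
    Lead w P (f * g) (m + n) (k + l) := by
  classical
  have hlt : ∀ (N : ℕ) (x : ℕ × ℕ), x.1 + x.2 = N → x.1 < k ∨ x.2 < l →
      ((m + n + N * P : ℤ) : WithTop ℤ) < w (f.coeff x.1 * g.coeff x.2) := by
    intro N x hx h
    have e : m + n + (N : ℤ) * P = (m + x.1 * P) + (n + x.2 * P) := by
      rw [← hx]; push_cast; ring
    rw [AddValuation.map_mul, e]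
    rcases h with h | h
    · exact coe_add_lt (hf.2.2 _ h) (hg.1 _)
    · rw [add_comm (m + _), add_comm (w _)]
      exact coe_add_lt (hg.2.2 _ h) (hf.1 _)
  refine ⟨bdd_mul w P hf.1 hg.1, ?_, fun N hN => ?_⟩
  · have hmem : (k, l) ∈ Finset.HasAntidiagonal.antidiagonal (k + l) := Finset.HasAntidiagonal.mem_antidiagonal.2 rfl
    rw [coeff_mul, ← Finset.add_sum_erase _ _ hmem]
    have hmain : w (f.coeff k * g.coeff l) = ((m + n + ((k + l : ℕ) : ℤ) * P : ℤ) : WithTop ℤ) := by
      rw [AddValuation.map_mul, hf.2.1, hg.2.1, ← WithTop.coe_add, WithTop.coe_eq_coe]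
      push_cast; ring
    have hrest : ((m + n + ((k + l : ℕ) : ℤ) * P : ℤ) : WithTop ℤ) <
        w (∑ x ∈ (Finset.HasAntidiagonal.antidiagonal (k + l)).erase (k, l), f.coeff x.1 * g.coeff x.2) := by
      refine w.map_lt_sum WithTop.coe_ne_top fun x hx => hlt _ x ?_ ?_
      · exact Finset.HasAntidiagonal.mem_antidiagonal.1 (Finset.mem_of_mem_erase hx)
      · have h1 := Finset.HasAntidiagonal.mem_antidiagonal.1 (Finset.mem_of_mem_erase hx)
        by_contra h
        push Not at h
        exact (Finset.ne_of_mem_erase hx) (Prod.ext (by dsimp only; omega) (by dsimp only; omega))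
    refine le_antisymm ?_ ?_
    · by_contra h
      push Not at h
      have := w.map_lt_add h hrest
      rw [← hmain] at h hrest
      have h3 : w (f.coeff k * g.coeff l) <
          w ((f.coeff k * g.coeff l + ∑ x ∈ (Finset.HasAntidiagonal.antidiagonal (k + l)).erase (k, l),
            f.coeff x.1 * g.coeff x.2) -
            ∑ x ∈ (Finset.HasAntidiagonal.antidiagonal (k + l)).erase (k, l), f.coeff x.1 * g.coeff x.2) :=
        lt_of_lt_of_le (lt_min h hrest) (w.map_sub _ _)
      rw [add_sub_cancel_right] at h3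
      exact lt_irrefl _ h3
    · exact w.map_le_add hmain.ge hrest.le
  · rw [coeff_mul]
    refine w.map_lt_sum WithTop.coe_ne_top fun x hx => hlt _ x (Finset.HasAntidiagonal.mem_antidiagonal.1 hx) ?_
    have := Finset.HasAntidiagonal.mem_antidiagonal.1 hx
    omega

theorem lead_pow {f : A[X]} {m : ℤ} {k : ℕ} (hf : Lead w P f m k) :
    ∀ n : ℕ, 0 < n → Lead w P (f ^ n) (n * m) (n * k) := by
  intro n hn
  induction n, hn using Nat.le_induction with
  | base => simpa using hf
  | succ n hn ih =>
    have := lead_mul w P ih hf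
    rw [pow_succ, Nat.cast_succ, add_mul, one_mul, add_mul, one_mul]
    exact this

theorem bdd_pow {f : A[X]} {m : ℤ} (hf : Bdd w P f m) : ∀ n : ℕ, Bdd w P (f ^ n) (n * m)
  | 0 => by simpa using bdd_one w P
  | n + 1 => by
    have := bdd_mul w P (bdd_pow hf n) hf
    rw [pow_succ, Nat.cast_succ, add_mul, one_mul]
    exact this

/-- If f satisfies a monic equation whose coefficients are bounded by zero, so is f. -/
theorem bdd_of_monic {f : A[X]} (n : ℕ) (hn : 0 < n) (c : ℕ → A[X]) (hc : ∀ j, Bdd w P (c j) 0)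
    (he : f ^ n + ∑ j ∈ Finset.range n, c j * f ^ j = 0) : Bdd w P f 0 := by
  classical
  by_contra hneg
  obtain ⟨j0, hj0⟩ := not_forall.1 hneg
  let S := f.support.filter fun j => w (f.coeff j) ≠ ⊤
  have hS : ∀ j, j ∉ S → w (f.coeff j) = ⊤ := by
    intro j hj
    by_contra h
    refine hj (Finset.mem_filter.2 ⟨mem_support_iff.2 fun h0 => h ?_, h⟩)
    rw [h0, AddValuation.map_zero]
  have hne : S.Nonempty := ⟨j0, by
    by_contra h
    exact hj0 (by rw [hS j0 h]; exact le_top)⟩
  have hval : ∀ j ∈ S, ∃ z : ℤ, w (f.coeff j) = ((z + j * P : ℤ) : WithTop ℤ) := by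
    intro j hj
    obtain ⟨z, hz⟩ := WithTop.ne_top_iff_exists.1 (Finset.mem_filter.1 hj).2
    exact ⟨z - j * P, by rw [sub_add_cancel, hz]⟩
  choose! z hz using hval
  obtain ⟨k1, hk1, hk1min⟩ := S.exists_min_image z hne
  let T := S.filter fun j => z j = z k1
  have hT : T.Nonempty := ⟨k1, Finset.mem_filter.2 ⟨hk1, rfl⟩⟩
  obtain ⟨hkS, hkz⟩ := Finset.mem_filter.1 (T.min'_mem hT)
  have hlead : Lead w P f (z k1) (T.min' hT) := by
    refine ⟨fun j => ?_, by rw [hz _ hkS, hkz], fun j hj => ?_⟩
    · by_cases h : j ∈ S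
      · rw [hz j h, WithTop.coe_le_coe]; linarith [hk1min j h]
      · rw [hS j h]; exact le_top
    · by_cases h : j ∈ S
      · rw [hz j h, WithTop.coe_lt_coe]
        have h1 := hk1min j h
        have h2 : z j ≠ z k1 := fun e =>
          absurd (T.min'_le j (Finset.mem_filter.2 ⟨h, e⟩)) (not_le.2 hj)
        have : z k1 < z j := lt_of_le_of_ne h1 (Ne.symm h2)
        linarith
      · rw [hS j h]; exact WithTop.coe_lt_top _
  have hm : z k1 < 0 := by
    by_contra h
    push Not at h
    refine hneg fun j => le_trans ?_ (hlead.1 j)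
    rw [WithTop.coe_le_coe]; linarith
  set m := z k1
  set k := T.min' hT
  have h1 := (lead_pow w P hlead n hn).2.1
  have h2 : ((n * m + ((n * k : ℕ) : ℤ) * P : ℤ) : WithTop ℤ) <
      w ((∑ j ∈ Finset.range n, c j * f ^ j).coeff (n * k)) := by
    rw [finsetSum_coeff]
    refine w.map_lt_sum WithTop.coe_ne_top fun j hj => ?_
    refine lt_of_lt_of_le ?_ (bdd_mul w P (hc j) (bdd_pow w P hlead.1 j) (n * k))
    rw [WithTop.coe_lt_coe, zero_add]
    have : (j : ℤ) < n := by exact_mod_cast Finset.mem_range.1 hj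
    nlinarith
  rw [eq_neg_of_add_eq_zero_left he, coeff_neg, AddValuation.map_neg] at h1
  exact (ne_of_gt h2) h1

end


/-- Let A be a Noetherian integrally closed domain with fraction field K, let v_1, …, v_s be finitely
many valuations on K with values in ℤ ∪ {∞} (written additively) that are non-negative on A, and let
r_i = p_i / q_i be positive rationals (p_i, q_i positive integers). Let F be the filtration of
ideals of A given by F^k = {x ∈ A | q_i · v_i(x) ≥ k · p_i for every i}. Then the Rees algebra ⊕_{k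
≥ 0} F^k X^k ⊆ A[X] is an integrally closed domain (it need not be Noetherian). -/
theorem result (A K : Type u) [CommRing A] [IsDomain A]
    [IsNoetherianRing A] [IsIntegrallyClosed A] [Field K] [Algebra A K] [IsFractionRing A K]
    (ι : Type) [Finite ι] (v : ι → AddValuation K (WithTop ℤ))
    (hv : ∀ (i : ι) (x : A), 0 ≤ v i (algebraMap A K x)) (p q : ι → ℕ) (hp : ∀ i, 0 < p i)
    (hq : ∀ i, 0 < q i) (𝓕 : FiltBl.IdealFiltration A)
    (hF : ∀ (k : ℕ) (x : A), x ∈ 𝓕.F k ↔
      ∀ i, ((k * p i : ℕ) : WithTop ℤ) ≤ (q i : WithTop ℤ) * v i (algebraMap A K x)) :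
    IsIntegrallyClosed 𝓕.rees := by
  classical
  have hmono : ∀ i, ∀ x y : WithTop ℤ, x ≤ y → (q i : WithTop ℤ) * x ≤ (q i : WithTop ℤ) * y := by
    intro i x y h
    induction y with
    | top => rw [WithTop.mul_top (by exact_mod_cast (hq i).ne')]; exact le_top
    | coe y =>
      induction x with
      | top => simp at h
      | coe x =>
        rw [WithTop.coe_le_coe] at h
        have : ((q i : ℤ) : WithTop ℤ) = (q i : WithTop ℤ) := rfl
        rw [← this, ← WithTop.coe_mul, ← WithTop.coe_mul, WithTop.coe_le_coe]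
        exact mul_le_mul_of_nonneg_left h (Int.natCast_nonneg _)
  let w : ι → AddValuation A (WithTop ℤ) := fun i =>
    AddValuation.of (fun x => (q i : WithTop ℤ) * v i (algebraMap A K x))
      (by rw [map_zero, AddValuation.map_zero]; exact WithTop.mul_top (by exact_mod_cast (hq i).ne'))
      (by rw [map_one, AddValuation.map_one, mul_zero])
      (fun x y => by
        rw [map_add]
        rcases (v i).map_add' (algebraMap A K x) (algebraMap A K y) with h | h
        · exact (min_le_left _ _).trans (hmono i _ _ h)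
        · exact (min_le_right _ _).trans (hmono i _ _ h))
      (fun x y => by
        rw [map_mul, AddValuation.map_mul]
        generalize v i (algebraMap A K x) = a
        generalize v i (algebraMap A K y) = b
        have : (q i : WithTop ℤ) ≠ 0 := by exact_mod_cast (hq i).ne'
        induction a with
        | top => simp [this]
        | coe a =>
          induction b with
          | top => simp [this]
          | coe b =>
            have : ((q i : ℤ) : WithTop ℤ) = (q i : WithTop ℤ) := rfl
            rw [← this, ← WithTop.coe_add, ← WithTop.coe_mul, ← WithTop.coe_mul, ← WithTop.coe_mul,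
              ← WithTop.coe_add, mul_add])
  have hmem : ∀ f : A[X], f ∈ 𝓕.rees ↔ ∀ i, Bdd (w i) (p i : ℤ) f 0 := by
    intro f
    have e : ∀ (i : ι) (j : ℕ), ((0 + (j : ℤ) * (p i : ℤ) : ℤ) : WithTop ℤ) = ((j * p i : ℕ) : WithTop ℤ) := by
      intro i j; rw [zero_add, ← Nat.cast_mul]; rfl
    constructor
    · intro h i j
      rw [e]
      exact (hF j _).1 (h j) i
    · intro h j
      rw [hF]
      intro i
      have := h i j
      rw [e] at this
      exact this
  let L := FractionRing A[X]
  haveI : IsIntegrallyClosed A[X] := inferInstance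
  rw [isIntegrallyClosed_iff (FractionRing 𝓕.rees)]
  intro x hx
  let φ : FractionRing 𝓕.rees →+* L :=
    IsFractionRing.map (j := 𝓕.rees.val.toRingHom) Subtype.val_injective
  have hφ : φ.comp (algebraMap 𝓕.rees (FractionRing 𝓕.rees)) =
      (algebraMap A[X] L).comp 𝓕.rees.val.toRingHom := IsLocalization.map_comp _
  obtain ⟨P, hPm, hPx⟩ := hx
  have heq : Polynomial.eval₂ ((algebraMap A[X] L).comp 𝓕.rees.val.toRingHom) (φ x) P = 0 := by
    rw [← hφ, ← Polynomial.hom_eval₂, hPx, map_zero]
  have hint : IsIntegral A[X] (φ x) := ⟨P.map 𝓕.rees.val.toRingHom, hPm.map _, by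
    rw [Polynomial.eval₂_map]; exact heq⟩
  obtain ⟨f, hf⟩ := IsIntegrallyClosed.algebraMap_eq_of_integral hint
  have hdeg : 0 < P.natDegree := by
    by_contra h
    have h1 : P = 1 := hPm.natDegree_eq_zero.1 (by omega)
    rw [h1, Polynomial.eval₂_one] at hPx
    exact one_ne_zero hPx
  have hfP : Polynomial.eval₂ 𝓕.rees.val.toRingHom f P = 0 := by
    apply IsFractionRing.injective A[X] L
    rw [Polynomial.hom_eval₂, hf, heq, map_zero]
  rw [Polynomial.eval₂_eq_sum_range, Finset.sum_range_succ, hPm.coeff_natDegree,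
    RingHom.map_one, one_mul, add_comm] at hfP
  have hfmem : f ∈ 𝓕.rees := (hmem f).2 fun i =>
    bdd_of_monic (w i) _ P.natDegree hdeg (fun j => (P.coeff j : A[X]))
      (fun j => (hmem _).1 (P.coeff j).2 i) hfP
  refine ⟨⟨f, hfmem⟩, φ.injective ?_⟩
  rw [← hf]
  exact RingHom.congr_fun hφ ⟨f, hfmem⟩

end Groth.Agent.S14652
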