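import Groth.Statements.S2119
import Mathlib

set_option autoImplicit false
universe u
open CAlg

namespace Groth.Agent.S2119

/-- Nagata's criterion for factoriality, final assertion: let `A` be a domain in which every nonzero
nonunit factors into irreducibles, and `S` the multiplicative subset generated by a set of prime
elements. If the localization `S⁻¹A` is a unique factorization domain, then so is `A`. -/
theorem result {A : Type u} [CommRing A] [IsDomain A]
    (hfac : ∀ a : A, a ≠ 0 → ¬ IsUnit a → ∃ f : Multiset A, (∀ b ∈ f, Irreducible b) ∧ Associated f.prod a) (P : Set A)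
    (hP : ∀ p ∈ P, Prime p) [IsDomain (Localization (Submonoid.closure P))]
    (hS : UniqueFactorizationMonoid (Localization (Submonoid.closure P))) : UniqueFactorizationMonoid A := by
  classical
  let M := Submonoid.closure P
  let L := Localization M
  have hM : M ≤ nonZeroDivisors A := Submonoid.closure_le.2 fun p hp =>
    mem_nonZeroDivisors_of_ne_zero (hP p hp).ne_zero
  have hinj := IsLocalization.injective L hM
  have hsplit : ∀ s ∈ M, ∀ y z w : A, y * z = s * w → ∃ u v y' z' : A, u ∈ M ∧ v ∈ M ∧
      y = u * y' ∧ z = v * z' ∧ y' * z' = w := by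
    intro s hs
    induction hs using Submonoid.closure_induction with
    | mem p hp =>
      intro y z w h
      rcases (hP p hp).dvd_or_dvd ⟨w, h⟩ with ⟨y', rfl⟩ | ⟨z', rfl⟩
      · exact ⟨p, 1, y', z, Submonoid.subset_closure hp, M.one_mem, rfl, (one_mul z).symm,
          mul_left_cancel₀ (hP p hp).ne_zero (by rw [← h]; ring)⟩
      · exact ⟨1, p, y, z', M.one_mem, Submonoid.subset_closure hp, (one_mul y).symm, rfl,
          mul_left_cancel₀ (hP p hp).ne_zero (by rw [← h]; ring)⟩
    | one =>
      intro y z w h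
      exact ⟨1, 1, y, z, M.one_mem, M.one_mem, (one_mul y).symm, (one_mul z).symm, by rw [h, one_mul]⟩
    | mul s t _ _ ihs iht =>
      intro y z w h
      obtain ⟨u, v, y', z', hu, hv, rfl, rfl, h'⟩ := ihs y z (t * w) (by rw [h, mul_assoc])
      obtain ⟨u', v', y'', z'', hu', hv', rfl, rfl, h''⟩ := iht y' z' w h'
      exact ⟨u * u', v * v', y'', z'', M.mul_mem hu hu', M.mul_mem hv hv', (mul_assoc _ _ _).symm,
        (mul_assoc _ _ _).symm, h''⟩
  have hirr : ∀ b : A, Irreducible b → Prime b := by
    intro b hb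
    by_cases hdiv : ∃ p ∈ P, p ∣ b
    · obtain ⟨p, hp, hpb⟩ := hdiv
      exact ((hP p hp).irreducible.associated_of_dvd hb hpb).prime (hP p hp)
    push Not at hdiv
    have hcancel : ∀ s ∈ M, ∀ y : A, b ∣ s * y → b ∣ y := by
      intro s hs
      induction hs using Submonoid.closure_induction with
      | mem p hp =>
        rintro y ⟨c, hc⟩
        obtain ⟨c', rfl⟩ := ((hP p hp).dvd_or_dvd (show p ∣ b * c from ⟨y, hc.symm⟩)).resolve_left (hdiv p hp)
        exact ⟨c', mul_left_cancel₀ (hP p hp).ne_zero (by rw [hc]; ring)⟩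
      | one => intro y h; simpa using h
      | mul s t _ _ ihs iht =>
        intro y h
        exact iht y (ihs _ (by rwa [← mul_assoc]))
    have hunitM : ∀ u ∈ M, IsUnit (algebraMap A L u) := fun u hu => IsLocalization.map_units L ⟨u, hu⟩
    have hnu : ¬ IsUnit (algebraMap A L b) := by
      intro h
      obtain ⟨c, hc⟩ := h.exists_right_inv
      obtain ⟨⟨r, ⟨s, hs⟩⟩, hr⟩ := IsLocalization.surj M c
      dsimp only at hr
      have : b * r = s := hinj (by rw [map_mul, ← hr, ← mul_assoc, hc, one_mul])
      exact hb.not_isUnit (isUnit_of_dvd_one (hcancel s hs 1 ⟨r, by rw [mul_one, this]⟩))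
    have hirrL : Irreducible (algebraMap A L b) := by
      refine ⟨hnu, fun a c hac => ?_⟩
      obtain ⟨⟨y, ⟨s, hs⟩⟩, hy⟩ := IsLocalization.surj M a
      obtain ⟨⟨z, ⟨t, ht⟩⟩, hz⟩ := IsLocalization.surj M c
      dsimp only at hy hz
      have h : y * z = (s * t) * b := hinj (by
        rw [map_mul, ← hy, ← hz, map_mul, map_mul, hac]; ring)
      obtain ⟨u, v, y', z', hu, hv, rfl, rfl, hb'⟩ := hsplit _ (M.mul_mem hs ht) y z b h
      rcases hb.isUnit_or_isUnit hb'.symm with h1 | h1
      · refine Or.inl (isUnit_of_mul_isUnit_left (y := algebraMap A L s) ?_)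
        rw [hy, map_mul]; exact (hunitM u hu).mul (h1.map _)
      · refine Or.inr (isUnit_of_mul_isUnit_left (y := algebraMap A L t) ?_)
        rw [hz, map_mul]; exact (hunitM v hv).mul (h1.map _)
    haveI := hS
    have hpL := UniqueFactorizationMonoid.irreducible_iff_prime.1 hirrL
    refine ⟨hb.ne_zero, hb.not_isUnit, fun y z hyz => ?_⟩
    have hdesc : ∀ y : A, algebraMap A L b ∣ algebraMap A L y → b ∣ y := by
      rintro y ⟨c, hc⟩
      obtain ⟨⟨r, ⟨s, hs⟩⟩, hr⟩ := IsLocalization.surj M c
      dsimp only at hr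
      exact hcancel s hs y ⟨r, hinj (by rw [map_mul, map_mul, hc, ← hr]; ring)⟩
    have := hpL.dvd_or_dvd (show algebraMap A L b ∣ algebraMap A L y * algebraMap A L z by
      rw [← map_mul]; exact map_dvd _ hyz)
    exact this.imp (hdesc y) (hdesc z)
  refine UniqueFactorizationMonoid.of_exists_prime_factors fun a ha => ?_
  by_cases hu : IsUnit a
  · exact ⟨0, by simp, by simpa using (associated_one_iff_isUnit.2 hu).symm⟩
  obtain ⟨f, hf, hfa⟩ := hfac a ha hu
  exact ⟨f, fun b hb => hirr b (hf b hb), hfa⟩

end Groth.Agent.S2119
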