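import Groth.Statements.S14653
import Groth.Agent.FiltBlLib.Basic
import Groth.Agent.S2119

set_option autoImplicit false
universe u
open FiltBl

namespace Groth.Agent.S14653

open CategoryTheory CategoryTheory.Limits AlgebraicGeometry

set_option backward.isDefEq.respectTransparency false
set_option linter.style.haveILetI false

open Polynomial LaurentPolynomial FiltBl Groth.Agent

variable {A : Type u} [CommRing A] [IsDomain A]

theorem eq_C_mul_X_pow_of_mul {g h : A[X]} {a : A} {n : ℕ} (ha : a ≠ 0)
    (e : g * h = Polynomial.C a * Polynomial.X ^ n) : ∃ (c : A) (i : ℕ), g = Polynomial.C c * Polynomial.X ^ i := by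
  have hg : g ≠ 0 := fun h0 => by
    rw [h0, zero_mul, eq_comm, mul_eq_zero, Polynomial.C_eq_zero] at e
    simp [ha] at e
  have hh : h ≠ 0 := fun h0 => by
    rw [h0, mul_zero, eq_comm, mul_eq_zero, Polynomial.C_eq_zero] at e
    simp [ha] at e
  have h1 := Polynomial.natDegree_mul hg hh
  have h2 := Polynomial.natTrailingDegree_mul hg hh
  rw [e, Polynomial.natDegree_C_mul_X_pow n a ha] at h1
  rw [e, Polynomial.C_mul_X_pow_eq_monomial, Polynomial.natTrailingDegree_monomial ha] at h2
  have h3 := Polynomial.natTrailingDegree_le_natDegree g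
  have h4 := Polynomial.natTrailingDegree_le_natDegree h
  refine ⟨g.coeff g.natDegree, g.natDegree, ?_⟩
  ext m
  rw [Polynomial.coeff_C_mul_X_pow]
  split_ifs with hm
  · rw [hm]
  · rcases lt_or_gt_of_ne hm with hlt | hlt
    · exact Polynomial.coeff_eq_zero_of_lt_natTrailingDegree (by omega)
    · exact Polynomial.coeff_eq_zero_of_natDegree_lt hlt

theorem ufm_localization {R L : Type u} [CommRing R] [IsDomain R] [UniqueFactorizationMonoid R] [CommRing L]
    [IsDomain L] [Algebra R L] (M : Submonoid R) [IsLocalization M L] (hM : M ≤ nonZeroDivisors R) :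
    UniqueFactorizationMonoid L := by
  rw [UniqueFactorizationMonoid.iff_exists_prime_mem_of_isPrime]
  intro Q hne hQ
  haveI := hQ
  have hne' : Q.comap (algebraMap R L) ≠ ⊥ := fun h => hne (by
    rw [← IsLocalization.map_under M L Q]
    show Ideal.map _ (Q.comap (algebraMap R L)) = ⊥
    rw [h, Ideal.map_bot])
  obtain ⟨p, hp, hpp⟩ := UniqueFactorizationMonoid.iff_exists_prime_mem_of_isPrime.1 inferInstance
    (Q.comap (algebraMap R L)) hne' inferInstance
  refine ⟨algebraMap R L p, hp, ?_⟩
  haveI : (Ideal.span {p}).IsPrime := (Ideal.span_singleton_prime hpp.ne_zero).2 hpp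
  have hd : Disjoint (M : Set R) (Ideal.span {p} : Ideal R) := Set.disjoint_left.2 fun x hx hxp =>
    hQ.ne_top (Q.eq_top_of_isUnit_mem ((Ideal.span_singleton_le_iff_mem (Q.comap (algebraMap R L))).2 hp hxp)
      (IsLocalization.map_units L ⟨x, hx⟩))
  have hpr := IsLocalization.isPrime_of_isPrime_disjoint M L (Ideal.span {p}) inferInstance hd
  rw [Ideal.map_span, Set.image_singleton] at hpr
  exact (Ideal.span_singleton_prime ((map_ne_zero_iff _ (IsLocalization.injective L hM)).2 hpp.ne_zero)).1 hpr

theorem ufm_of_polynomial [IsNoetherianRing A] (h : UniqueFactorizationMonoid A[X]) : UniqueFactorizationMonoid A := by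
  haveI := h
  refine UniqueFactorizationMonoid.of_exists_prime_factors fun a ha => ?_
  by_cases hu : IsUnit a
  · exact ⟨0, by simp, by simpa using (associated_one_iff_isUnit.2 hu).symm⟩
  obtain ⟨f, hf, hfa⟩ := WfDvdMonoid.exists_factors a ha
  refine ⟨f, fun b hb => Polynomial.prime_C_iff.1 (UniqueFactorizationMonoid.irreducible_iff_prime.1 ?_), hfa⟩
  have hbi := hf b hb
  refine ⟨fun hC => hbi.not_isUnit (Polynomial.isUnit_C.1 hC), fun x y hxy => ?_⟩
  have hb0 := hbi.ne_zero
  have hx : x ≠ 0 := fun h0 => hb0 (Polynomial.C_eq_zero.1 (by rw [hxy, h0, zero_mul]))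
  have hy : y ≠ 0 := fun h0 => hb0 (Polynomial.C_eq_zero.1 (by rw [hxy, h0, mul_zero]))
  have hd := Polynomial.natDegree_mul hx hy
  rw [← hxy, Polynomial.natDegree_C] at hd
  obtain ⟨c, rfl⟩ := Polynomial.natDegree_eq_zero.1 (show x.natDegree = 0 by omega)
  obtain ⟨d, rfl⟩ := Polynomial.natDegree_eq_zero.1 (show y.natDegree = 0 by omega)
  rw [← map_mul, Polynomial.C_inj] at hxy
  exact (hbi.isUnit_or_isUnit hxy).imp (fun h => h.map _) (fun h => h.map _)

theorem ufm_closure_localization {R L : Type u} [CommRing R] [CommRing L] [Algebra R L] (x : R)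
    [IsLocalization (Submonoid.powers x) L] [IsDomain L] (hL : UniqueFactorizationMonoid L) :
    ∃ _ : IsDomain (Localization (Submonoid.closure ({x} : Set R))),
      UniqueFactorizationMonoid (Localization (Submonoid.closure ({x} : Set R))) := by
  haveI := hL
  haveI : IsLocalization (Submonoid.closure ({x} : Set R)) L := by
    rw [← Submonoid.powers_eq_closure]; infer_instance
  let e := (IsLocalization.algEquiv (Submonoid.closure ({x} : Set R)) L
    (Localization (Submonoid.closure ({x} : Set R)))).toRingEquiv.toMulEquiv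
  exact ⟨e.symm.isDomain _, (e.uniqueFactorizationMonoid_iff).1 hL⟩

theorem irreducible_u (𝓕 : IdealFiltration A) [IsLocalRing A] (hsep : ⨅ n, 𝓕.F n = ⊥) :
    Irreducible 𝓕.u := by
  classical
  have hnotunit : ¬ IsUnit 𝓕.u := by
    intro h
    obtain ⟨M, hM, huM, -⟩ := FiltBlLib.exists_maximal_above 𝓕 (IsLocalRing.maximalIdeal A) hsep
      (IsLocalRing.maximalIdeal.isMaximal A).ne_top
    exact hM.ne_top (M.eq_top_of_isUnit_mem huM h)
  refine ⟨hnotunit, fun x y hxy => ?_⟩
  have hxy' : T (-1) = (x : A[T;T⁻¹]) * (y : A[T;T⁻¹]) := congrArg (fun z : 𝓕.extRees => (z : A[T;T⁻¹])) hxy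
  have hshape : ∀ x y : A[T;T⁻¹], x * y = T (-1) → ∃ (c : A) (i : ℤ), x = LaurentPolynomial.C c * T i := by
    intro x y hxy
    obtain ⟨n, g, hg⟩ := LaurentPolynomial.exists_T_pow x
    obtain ⟨m, h, hh⟩ := LaurentPolynomial.exists_T_pow y
    have e : g * (h * Polynomial.X) = Polynomial.C (1 : A) * Polynomial.X ^ (n + m) := Polynomial.toLaurent_injective (by
      rw [map_mul, map_mul, hg, hh, Polynomial.toLaurent_X, map_one, one_mul, Polynomial.toLaurent_X_pow]
      rw [show x * T (n : ℤ) * (y * T (m : ℤ) * T 1) = x * y * (T (n : ℤ) * T (m : ℤ) * T 1) by ring, hxy,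
        ← T_add, ← T_add, ← T_add]
      congr 1
      push_cast; ring)
    obtain ⟨c, i, rfl⟩ := eq_C_mul_X_pow_of_mul one_ne_zero e
    refine ⟨c, (i : ℤ) - n, ?_⟩
    rw [Polynomial.toLaurent_C_mul_X_pow] at hg
    rw [T_sub, ← mul_assoc, hg, mul_assoc, ← T_add, add_neg_cancel, T_zero, mul_one]
  obtain ⟨c, i, hx⟩ := hshape _ _ hxy'.symm
  obtain ⟨d, j, hy⟩ := hshape _ _ ((mul_comm _ _).trans hxy'.symm)
  rw [hx, hy, show LaurentPolynomial.C c * T i * (LaurentPolynomial.C d * T j) =
    LaurentPolynomial.C (c * d) * T (i + j) by rw [map_mul, T_add]; ring] at hxy'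
  have h1 : ∀ n : ℤ, (T (-1) : A[T;T⁻¹]).coeff n = (LaurentPolynomial.C (c * d) * T (i + j)).coeff n :=
    fun n => by rw [hxy']
  have hcd : c * d = 1 ∧ i + j = -1 := by
    have h := h1 (-1)
    rw [← single_eq_C_mul_T, AddMonoidAlgebra.coeff_single, Finsupp.single_apply, T_apply, if_pos rfl] at h
    split_ifs at h with hij
    · exact ⟨h.symm, hij⟩
    · exact absurd h one_ne_zero
  have key : ∀ (x : 𝓕.extRees) (c d : A) (i : ℤ), (x : A[T;T⁻¹]) = LaurentPolynomial.C c * T i →
      c * d = 1 → 0 ≤ i → IsUnit x := by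
    intro x c d i hx hcd hi
    have hi0 : i = 0 := by
      by_contra hne
      have hc := x.2 i
      rw [hx, ← single_eq_C_mul_T, AddMonoidAlgebra.coeff_single, Finsupp.single_eq_same] at hc
      refine FiltBlLib.F_one_ne_top 𝓕 hsep (Ideal.eq_top_of_isUnit_mem _ (𝓕.antitone (by omega) hc)
        (IsUnit.of_mul_eq_one _ hcd))
    subst hi0
    refine IsUnit.of_mul_eq_one (algebraMap A 𝓕.extRees d) (Subtype.ext ?_)
    show (x : A[T;T⁻¹]) * algebraMap A A[T;T⁻¹] d = 1
    rw [hx, T_zero, mul_one, LaurentPolynomial.algebraMap_apply, Algebra.algebraMap_self, RingHom.id_apply,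
      ← map_mul, hcd, map_one]
  rcases le_or_gt 0 i with hi | hi
  · exact Or.inl (key x c d i hx hcd.1 hi)
  · exact Or.inr (key y d c j hy ((mul_comm d c).trans hcd.1) (by omega))


/-- Let A be a Noetherian local ring that is a quotient of a Gorenstein ring, and F a filtration of
ideals on A (F^0 = A ⊇ F^1 ⊇ ⋯, F^i F^j ⊆ F^{i+j}) with every F^n nonzero and ⋂ F^n = 0, whose Rees
algebra ⊕_{n ≥ 0} F^n X^n is finitely generated over A and with F^1 of height at least 2
(equivalently, every F^n with n ≥ 1 has height at least 2, all F^n having the same radical); assume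
moreover that the extended Rees algebra R' = ⊕_{n ∈ ℤ} F^n T^n ⊆ A[T, T⁻¹] is an integrally closed
domain. Then R' is a unique factorization domain exactly when A is one and the associated graded
ring G = ⊕ F^n/F^{n+1}, realised as R'/uR' with u = T⁻¹, is an integral domain. (The published
statement is made under the further standing assumption that no nonzero element of the Rees algebra
⊕_{n ≥ 0} F^n T^n is annihilated by a power of the ideal generated by its homogeneous elements of
positive degree; this row does not assume it, and the assertion holds without it.) -/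
theorem result (A : Type u) [CommRing A] [IsNoetherianRing A] [IsLocalRing A]
    (S : Type u) [CommRing S] [LocCoh.IsGorensteinRing S] (π : S →+* A) (hπ : Function.Surjective π)
    (𝓕 : FiltBl.IdealFiltration A) (hne : ∀ n, 𝓕.F n ≠ ⊥) (hsep : ⨅ n, 𝓕.F n = ⊥)
    (hfg : Algebra.FiniteType A 𝓕.rees) (hht : 2 ≤ (𝓕.F 1).height) [IsDomain A]
    [IsDomain 𝓕.extRees] (hnor : IsIntegrallyClosed 𝓕.extRees) :
    UniqueFactorizationMonoid 𝓕.extRees ↔ (UniqueFactorizationMonoid A ∧ IsDomain 𝓕.Gr) := by
  haveI := FiltBlLib.isNoetherianRing_extRees 𝓕 hfg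
  haveI := FiltBlLib.isLocalization_extRees 𝓕
  have hX : Submonoid.powers (Polynomial.X : Polynomial A) ≤ nonZeroDivisors (Polynomial A) :=
    Submonoid.powers_le.2 (mem_nonZeroDivisors_of_ne_zero Polynomial.X_ne_zero)
  have huirr := irreducible_u 𝓕 hsep
  have hu0 : Submonoid.powers 𝓕.u ≤ nonZeroDivisors 𝓕.extRees :=
    Submonoid.powers_le.2 (mem_nonZeroDivisors_of_ne_zero huirr.ne_zero)
  constructor
  · intro h
    refine ⟨ufm_of_polynomial ?_, ?_⟩
    · haveI : UniqueFactorizationMonoid (LaurentPolynomial A) := ufm_localization (Submonoid.powers 𝓕.u) hu0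
      obtain ⟨hd, hU⟩ := ufm_closure_localization (R := Polynomial A) (L := LaurentPolynomial A) Polynomial.X inferInstance
      exact Groth.Agent.S2119.result (fun a ha _ => WfDvdMonoid.exists_factors a ha) {Polynomial.X}
        (fun p hp => (Set.mem_singleton_iff.1 hp) ▸ Polynomial.prime_X) hU
    · haveI := h
      rw [Ideal.Quotient.isDomain_iff_prime, Ideal.span_singleton_prime huirr.ne_zero]
      exact UniqueFactorizationMonoid.irreducible_iff_prime.1 huirr
  · rintro ⟨hA, hG⟩
    haveI := hA
    have hL : UniqueFactorizationMonoid (LaurentPolynomial A) :=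
      ufm_localization (R := Polynomial A) (Submonoid.powers Polynomial.X) hX
    obtain ⟨hd, hU⟩ := ufm_closure_localization (R := 𝓕.extRees) (L := LaurentPolynomial A) 𝓕.u hL
    rw [Ideal.Quotient.isDomain_iff_prime, Ideal.span_singleton_prime huirr.ne_zero] at hG
    exact Groth.Agent.S2119.result (fun a ha _ => WfDvdMonoid.exists_factors a ha) {𝓕.u}
      (fun p hp => (Set.mem_singleton_iff.1 hp) ▸ hG) hU

end Groth.Agent.S14653
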