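import Groth.Statements.S14654
import Mathlib
import Groth.Agent.ProjStalkLib.Basic
import Groth.Agent.GeomRk.Normal
import Groth.Agent.GeomRk.NormalFlat

set_option autoImplicit false
universe u
open FiltBl

namespace Groth.Agent.S14654

open CategoryTheory CategoryTheory.Limits AlgebraicGeometry

set_option backward.isDefEq.respectTransparency false
set_option backward.defeqAttrib.useBackward true
set_option linter.style.haveILetI false


open AlgebraicGeometry in
/-- Let A be a Noetherian ℕ-graded commutative ring which is normal, i.e. every localization of A at a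
prime ideal is an integrally closed domain. Then the scheme Proj A is normal: every local ring of
Proj A is an integrally closed domain. -/
theorem result (A : Type u) [CommRing A] [IsNoetherianRing A]
    (𝒜 : ℕ → AddSubgroup A) [GradedRing 𝒜]
    (hA : ∀ (p : Ideal A) [p.IsPrime], IsDomain (Localization.AtPrime p) ∧
      IsIntegrallyClosed (Localization.AtPrime p))
    (x : Proj 𝒜) :
    IsDomain ((Proj 𝒜).presheaf.stalk x) ∧ IsIntegrallyClosed ((Proj 𝒜).presheaf.stalk x) := by
  have := (hA x.asHomogeneousIdeal.toIdeal).1
  have := (hA x.asHomogeneousIdeal.toIdeal).2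
  have := ProjStalkLib.isDomain_atPrime 𝒜 x.asHomogeneousIdeal.toIdeal
  have := ProjStalkLib.isIntegrallyClosed_atPrime 𝒜 x.asHomogeneousIdeal.toIdeal
  let e : (Proj 𝒜).presheaf.stalk x ≃+* HomogeneousLocalization.AtPrime 𝒜 x.asHomogeneousIdeal.toIdeal :=
    (Proj.stalkIso 𝒜 x).commRingCatIsoToRingEquiv
  exact ⟨MulEquiv.isDomain _ e.toMulEquiv, IsIntegrallyClosed.of_equiv e.symm⟩

end Groth.Agent.S14654
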