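import Groth.Statements.S14655
import Groth.Agent.ProjStalkLib.CM
import Groth.Agent.CMCat.Polynomial

set_option autoImplicit false
universe u
open FiltBl

namespace Groth.Agent.S14655

open CategoryTheory CategoryTheory.Limits AlgebraicGeometry

set_option backward.isDefEq.respectTransparency false

open AlgebraicGeometry in
/-- Let A be a Noetherian ℕ-graded commutative ring which is a Cohen–Macaulay ring. Then the scheme Proj
A is Cohen–Macaulay: every local ring of Proj A is a Cohen–Macaulay local ring. -/
theorem result (A : Type u) [CommRing A]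
    (𝒜 : ℕ → AddSubgroup A) [GradedRing 𝒜] [LocCoh.IsCohenMacaulayRing A] (x : Proj 𝒜) :
    LocCoh.IsCohenMacaulayLocalRing ((Proj 𝒜).presheaf.stalk x) := by
  let P : Ideal A := x.asHomogeneousIdeal.toIdeal
  haveI : P.IsPrime := x.isPrime
  obtain ⟨f, d, hd, hf, hfp⟩ := Groth.Agent.ProjStalkLib.exists_pos_degree_not_mem 𝒜 x.not_irrelevant_le
  haveI := LocCoh.IsCohenMacaulayRing.isCohenMacaulayLocalRing_localization (R := A) P
  haveI := Groth.Agent.ProjStalkLib.isCohenMacaulayLocalRing_atPrime 𝒜 P x.asHomogeneousIdeal.isHomogeneous hd hf hfp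
  exact Groth.Agent.CMCat.isCohenMacaulayLocalRing_of_ringEquiv (Proj.stalkIso' 𝒜 x).symm

end Groth.Agent.S14655
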