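import Groth.Statements.S14656
import Mathlib
import Groth.Agent.ProjStalkLib.Basic
import Groth.Agent.GeomRk.Normal
import Groth.Agent.GeomRk.NormalFlat

set_option autoImplicit false
universe u
open FiltBl

namespace Groth.Agent.S14656

open CategoryTheory CategoryTheory.Limits AlgebraicGeometry

set_option backward.isDefEq.respectTransparency false
set_option backward.defeqAttrib.useBackward true
set_option linter.style.haveILetI false


open AlgebraicGeometry in
/-- Let A be a Noetherian ℕ-graded commutative ring satisfying Serre's condition (S_1) (every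
localization A_p has depth at least min(1, dim A_p)). Then every local ring of the scheme Proj A
satisfies (S_1). -/
theorem result (A : Type u) [CommRing A] [IsNoetherianRing A]
    (𝒜 : ℕ → AddSubgroup A) [GradedRing 𝒜] (hA : LocCoh.HasSk 1 A A) (x : Proj 𝒜) :
    LocCoh.HasSk 1 ((Proj 𝒜).presheaf.stalk x) ((Proj 𝒜).presheaf.stalk x) := by
  obtain ⟨f, d, hd, hf, hfp⟩ := ProjStalkLib.exists_pos_degree_not_mem 𝒜
    (q := x.asHomogeneousIdeal.toIdeal) x.not_irrelevant_le
  have h := ProjStalkLib.hasSk_one_atPrime 𝒜 x.asHomogeneousIdeal.toIdeal hA hd hf hfp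
  have := ProjStalkLib.isNoetherianRing 𝒜 x.asHomogeneousIdeal.toIdeal.primeCompl
  let e : (Proj 𝒜).presheaf.stalk x ≃+* HomogeneousLocalization.AtPrime 𝒜 x.asHomogeneousIdeal.toIdeal :=
    (Proj.stalkIso 𝒜 x).commRingCatIsoToRingEquiv
  exact GeomRk.hasSk_of_ringEquiv e.symm 1 h

end Groth.Agent.S14656
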