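import Groth.Statements.S14658
import Groth.Agent.GrUnitRegLib.Basic

set_option autoImplicit false
universe u
open FiltBl

namespace Groth.Agent.S14658

/-- Let R be a Noetherian ℤ-graded commutative ring which is regular (every localization at a prime is a
regular local ring) and whose degree-0 subring R_0 is a local ring with maximal ideal m. Let t ∈ R_N
be a homogeneous unit of R of positive degree N such that R_i · R_j ⊆ m · t for all positive i, j
with i + j = N (every product a b with a ∈ R_i, b ∈ R_j is c t for some c ∈ m). Then the ring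
R[U]/(U^N − t), U an indeterminate, is again regular: all its localizations at prime ideals are
regular local rings. -/
theorem result (R : Type u) [CommRing R]
    [IsNoetherianRing R] (𝒜 : ℤ → AddSubgroup R) [GradedRing 𝒜]
    (hreg : ∀ (p : Ideal R) [p.IsPrime], IsRegularLocalRing (Localization.AtPrime p))
    [IsLocalRing (GrLC.deg0 𝒜)] (N : ℕ) (hN : 0 < N) (t : R) (ht : t ∈ 𝒜 (N : ℤ))
    (htu : IsUnit t)
    (hm : ∀ (i j : ℤ), 0 < i → 0 < j → i + j = (N : ℤ) → ∀ a ∈ 𝒜 i, ∀ b ∈ 𝒜 j,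
      ∃ c : GrLC.deg0 𝒜, c ∈ IsLocalRing.maximalIdeal (GrLC.deg0 𝒜) ∧ a * b = (c : R) * t)
    (q : Ideal (AdjoinRoot (Polynomial.X ^ N - Polynomial.C t))) [q.IsPrime] :
    IsRegularLocalRing (Localization.AtPrime q) := by
  classical
  obtain ⟨t, rfl⟩ := htu
  -- no units in degrees strictly between `0` and `N`
  have hmin : ∀ (n : ℤ), 0 < n → n < (N : ℤ) → ∀ s ∈ 𝒜 n, ¬ IsUnit s := by
    intro n h0 hn s hs hu
    obtain ⟨s, rfl⟩ := hu
    have hb : ((t * s⁻¹ : Rˣ) : R) ∈ 𝒜 ((N : ℤ) - n) := by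
      rw [sub_eq_add_neg, Units.val_mul]
      exact SetLike.mul_mem_graded ht (GrUnitRegLib.inv_mem 𝒜 s hs)
    obtain ⟨c, hc, he⟩ := hm n ((N : ℤ) - n) h0 (by omega) (by omega) _ hs _ hb
    rw [← Units.val_mul, mul_comm t, mul_inv_cancel_left] at he
    have hc1 : (c : R) = 1 := (IsUnit.mul_eq_right t.isUnit).1 he.symm
    exact (IsLocalRing.mem_maximalIdeal _).1 hc (by
      rw [show c = 1 from Subtype.ext hc1]; exact isUnit_one)
  set C := R ⧸ Ideal.span {(t : R) - 1}
  have := GrUnitRegLib.isRegularLocalRing_quotient 𝒜 N hN t ht hmin hreg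
  have hC : IsRegularRing C := isRegularRing_iff.2 fun p hp =>
    Groth.Agent.RegLocal.isRegularLocalRing_localization C p
  have hL : IsRegularRing (LaurentPolynomial C) :=
    Groth.Agent.CyclicRootLib.isRegularRing_of_isLocalization (Submonoid.powers (Polynomial.X : Polynomial C)) _
  -- the inverse of the root
  set S := AdjoinRoot (Polynomial.X ^ N - Polynomial.C (t : R))
  set U : S := AdjoinRoot.root _ with hU
  have hUN : U ^ N = AdjoinRoot.of _ (t : R) := by
    have := AdjoinRoot.eval₂_root (Polynomial.X ^ N - Polynomial.C (t : R))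
    simpa [sub_eq_zero] using this
  obtain ⟨V, hV⟩ : IsUnit U := (isUnit_pow_iff hN.ne').1 (hUN ▸ t.isUnit.map _)
  -- `R → C[T^±]`
  let φ : R →+* LaurentPolynomial C := GrUnitRegLib.gradedLift 𝒜
    (fun i => AddMonoidHom.mk' (fun x => LaurentPolynomial.C (Ideal.Quotient.mk _ (x : R)) * LaurentPolynomial.T i)
      (fun x y => by simp [add_mul]))
    (by simp) (fun {i j} a b => by
      simp only [AddMonoidHom.mk'_apply, map_mul, LaurentPolynomial.T_add]; ring)
  have hφ : ∀ {i : ℤ} {x : R}, x ∈ 𝒜 i →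
      φ x = LaurentPolynomial.C (Ideal.Quotient.mk _ x) * LaurentPolynomial.T i :=
    fun hx => GrUnitRegLib.gradedLift_apply 𝒜 _ _ _ _ hx
  let Φ : S →+* LaurentPolynomial C := AdjoinRoot.lift φ (LaurentPolynomial.T 1) (by
    rw [Polynomial.eval₂_sub, Polynomial.eval₂_X_pow, Polynomial.eval₂_C, hφ ht,
      show Ideal.Quotient.mk (Ideal.span {(t : R) - 1}) (t : R) = 1 by
        rw [← map_one (Ideal.Quotient.mk (Ideal.span {(t : R) - 1})), Ideal.Quotient.eq]
        exact Ideal.mem_span_singleton_self _,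
      map_one, one_mul, LaurentPolynomial.T_pow, mul_one, sub_self])
  -- `C → S`
  let χ : R →+* S := GrUnitRegLib.gradedLift 𝒜
    (fun i => AddMonoidHom.mk' (fun x => AdjoinRoot.of _ (x : R) * ((V ^ (-i) : Sˣ) : S))
      (fun x y => by simp [add_mul]))
    (by simp) (fun {i j} a b => by
      simp only [AddMonoidHom.mk'_apply, map_mul, neg_add, zpow_add, Units.val_mul]; ring)
  have hχ : ∀ {i : ℤ} {x : R}, x ∈ 𝒜 i → χ x = AdjoinRoot.of _ x * ((V ^ (-i) : Sˣ) : S) :=
    fun hx => GrUnitRegLib.gradedLift_apply 𝒜 _ _ _ _ hx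
  let g₀ : C →+* S := Ideal.Quotient.lift _ χ fun a ha => by
    obtain ⟨c, rfl⟩ := Ideal.mem_span_singleton'.1 ha
    have : χ (t : R) = 1 := by
      rw [hχ ht, ← hUN, ← hV, ← Units.val_pow_eq_pow_val, ← Units.val_mul, zpow_neg, zpow_natCast,
        mul_inv_cancel, Units.val_one]
    rw [map_mul, map_sub, map_one, this, sub_self, mul_zero]
  let Ψ : LaurentPolynomial C →+* S := LaurentPolynomial.eval₂ g₀ V
  have h1 : Φ.comp Ψ = RingHom.id _ := by
    have hV' : ∀ n : ℤ, Φ ((V ^ n : Sˣ) : S) = LaurentPolynomial.T n := by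
      have hpos : ∀ n : ℕ, Φ ((V ^ (n : ℤ) : Sˣ) : S) = LaurentPolynomial.T (n : ℤ) := by
        intro n
        rw [zpow_natCast, Units.val_pow_eq_pow_val, map_pow, hV, AdjoinRoot.lift_root,
          LaurentPolynomial.T_pow, mul_one]
      intro n
      obtain ⟨n, rfl | rfl⟩ := Int.eq_nat_or_neg n
      · exact hpos n
      · have h2 : Φ ((V ^ (n : ℤ) : Sˣ) : S) * Φ ((V ^ (-(n : ℤ)) : Sˣ) : S) = 1 := by
          rw [← map_mul, ← Units.val_mul, ← zpow_add, add_neg_cancel, zpow_zero, Units.val_one, map_one]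
        rw [hpos] at h2
        calc Φ ((V ^ (-(n : ℤ)) : Sˣ) : S)
            = LaurentPolynomial.T (-(n : ℤ)) * (LaurentPolynomial.T (n : ℤ) * Φ ((V ^ (-(n : ℤ)) : Sˣ) : S)) := by
              rw [← mul_assoc, ← LaurentPolynomial.T_add, neg_add_cancel, LaurentPolynomial.T_zero, one_mul]
          _ = _ := by rw [h2, mul_one]
    refine IsLocalization.ringHom_ext (Submonoid.powers (Polynomial.X : Polynomial C))
      (Polynomial.ringHom_ext' (Ideal.Quotient.ringHom_ext
        (GrUnitRegLib.ringHom_ext 𝒜 fun i x hx => ?_)) ?_)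
    · show Φ (Ψ (algebraMap (Polynomial C) _ (Polynomial.C (Ideal.Quotient.mk _ x)))) =
        algebraMap (Polynomial C) _ (Polynomial.C (Ideal.Quotient.mk _ x))
      rw [LaurentPolynomial.algebraMap_eq_toLaurent, Polynomial.toLaurent_C]
      have e1 : Ψ (LaurentPolynomial.C (Ideal.Quotient.mk _ x)) = χ x :=
        (LaurentPolynomial.eval₂_C g₀ V _).trans rfl
      have e2 : Φ (AdjoinRoot.of _ x) = φ x := AdjoinRoot.lift_of _
      rw [e1, hχ hx, map_mul, e2, hV', hφ hx, mul_assoc, ← LaurentPolynomial.T_add, add_neg_cancel,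
        LaurentPolynomial.T_zero, mul_one]
    · show Φ (Ψ (algebraMap (Polynomial C) _ Polynomial.X)) = algebraMap (Polynomial C) _ Polynomial.X
      rw [LaurentPolynomial.algebraMap_eq_toLaurent, Polynomial.toLaurent_X]
      have e1 : Ψ (LaurentPolynomial.T 1) = ((V ^ (1 : ℤ) : Sˣ) : S) := LaurentPolynomial.eval₂_T g₀ V 1
      rw [e1, hV']
  have h2 : Ψ.comp Φ = RingHom.id _ := by
    refine Ideal.Quotient.ringHom_ext (Polynomial.ringHom_ext'
      (GrUnitRegLib.ringHom_ext 𝒜 fun i x hx => ?_) ?_)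
    · show Ψ (Φ (AdjoinRoot.of _ x)) = AdjoinRoot.of _ x
      have e2 : Φ (AdjoinRoot.of _ x) = φ x := AdjoinRoot.lift_of _
      have e1 : Ψ (LaurentPolynomial.C (Ideal.Quotient.mk _ x)) = χ x :=
        (LaurentPolynomial.eval₂_C g₀ V _).trans rfl
      have e3 : Ψ (LaurentPolynomial.T i) = ((V ^ i : Sˣ) : S) := LaurentPolynomial.eval₂_T g₀ V i
      rw [e2, hφ hx, map_mul, e1, e3, hχ hx, mul_assoc, ← Units.val_mul, ← zpow_add, neg_add_cancel,
        zpow_zero, Units.val_one, mul_one]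
    · show Ψ (Φ (AdjoinRoot.root _)) = AdjoinRoot.root _
      have e2 : Φ (AdjoinRoot.root _) = LaurentPolynomial.T 1 := AdjoinRoot.lift_root _
      have e3 : Ψ (LaurentPolynomial.T 1) = ((V ^ (1 : ℤ) : Sˣ) : S) := LaurentPolynomial.eval₂_T g₀ V 1
      rw [e2, e3, zpow_one, hV]
  have : IsRegularRing S := IsRegularRing.of_ringEquiv (RingEquiv.ofRingHom Φ Ψ h1 h2).symm
  exact isRegularRing_iff.1 this q

end Groth.Agent.S14658
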