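import Groth.Statements.S14660
import Groth.Agent.FiltBlLib.Transfer

set_option autoImplicit false
universe u
open FiltBl

namespace Groth.Agent.S14660

/-- (ii) ⇔ (iii): let A be a Noetherian local ring that is a quotient of a Gorenstein ring, and F a
filtration of ideals on A (F^0 = A ⊇ F^1 ⊇ ⋯, F^i F^j ⊆ F^{i+j}) with every F^n nonzero and ⋂ F^n =
0, whose Rees algebra ⊕_{n ≥ 0} F^n X^n is finitely generated over A and with F^1 of height at least
2 (equivalently, every F^n with n ≥ 1 has height at least 2, all F^n having the same radical). Let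
R' = ⊕_{n ∈ ℤ} F^n T^n ⊆ A[T, T⁻¹] be the extended Rees algebra, R_+R' its ideal generated by the
elements a T^n with n ≥ 1 and a ∈ F^n, u = T⁻¹, and G the associated graded ring, given here as any
ring with a surjection φ : R' → G whose kernel is uR', with G_+ = φ(R_+R'). Then the open subscheme
Spec R' − V(R_+R') is Cohen–Macaulay (every localization of R' at a prime not containing R_+R' is a
Cohen–Macaulay local ring) if and only if the localization G_p is Cohen–Macaulay for every prime p
of G with G_+ ⊄ p and the localization A_q is Cohen–Macaulay for every prime q of A with F^1 ⊄ q.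
(The published statement phrases the first condition for the scheme Spec_X ⊕_{n ∈ ℤ} O_X(n) over the
filtered blowing-up X = Proj ⊕_{n ≥ 0} F^n T^n, which is identified with this open subscheme of Spec
R'; it asks the condition on G only at homogeneous primes not containing G_+, which for the graded
ring G is equivalent to asking it at all such primes; it states the condition on A at the primes not
containing a fixed F^N with F^{nN} = (F^N)^n for all n, an ideal with the same radical as F^1; and
it is made under the further standing assumption that no nonzero element of ⊕_{n ≥ 0} F^n T^n is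
annihilated by a power of the ideal generated by its homogeneous elements of positive degree, which
this row does not assume and which is not needed.) -/
theorem result (A : Type u) [CommRing A] [IsNoetherianRing A] [IsLocalRing A]
    (S : Type u) [CommRing S] [LocCoh.IsGorensteinRing S] (π : S →+* A) (hπ : Function.Surjective π)
    (𝓕 : FiltBl.IdealFiltration A) (hne : ∀ n, 𝓕.F n ≠ ⊥) (hsep : ⨅ n, 𝓕.F n = ⊥)
    (hfg : Algebra.FiniteType A 𝓕.rees) (hht : 2 ≤ (𝓕.F 1).height)
    (G : Type u) [CommRing G] (φ : 𝓕.extRees →+* G) (hφ : Function.Surjective φ)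
    (hker : RingHom.ker φ = Ideal.span {𝓕.u}) (Rp : Ideal 𝓕.extRees)
    (hRp : Rp = Ideal.span {x : 𝓕.extRees | ∃ n : ℕ, 0 < n ∧ ∃ a ∈ 𝓕.F n,
      (x : LaurentPolynomial A) = LaurentPolynomial.C a * LaurentPolynomial.T (n : ℤ)}) :
    (∀ (P : Ideal 𝓕.extRees) [P.IsPrime], ¬ Rp ≤ P →
        LocCoh.IsCohenMacaulayLocalRing (Localization.AtPrime P)) ↔
      ((∀ (p : Ideal G) [p.IsPrime], ¬ Ideal.map φ Rp ≤ p →
          LocCoh.IsCohenMacaulayLocalRing (Localization.AtPrime p)) ∧
        (∀ (q : Ideal A) [q.IsPrime], ¬ 𝓕.F 1 ≤ q →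
            LocCoh.IsCohenMacaulayLocalRing (Localization.AtPrime q))) := by
  haveI := FiltBlLib.isNoetherianRing_extRees 𝓕 hfg
  have hG := FiltBlLib.forall_iff_graded (P := fun R [CommRing R] => LocCoh.IsCohenMacaulayLocalRing R)
    (Pbar := fun R [CommRing R] => LocCoh.IsCohenMacaulayLocalRing R) 𝓕 φ hφ hker
    FiltBlLib.flatStable_cm.iso (fun B _ _ _ f hf hreg => CMFlatLib.cm_quot_iff B hf hreg) (fun P' => ¬ Rp ≤ P')
  constructor
  · intro h
    refine ⟨fun p _ hp => hG.1 (fun P' _ _ hS => h P' hS) p (fun hle => hp (Ideal.map_le_iff_le_comap.2 hle)),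
      fun q _ hq => ?_⟩
    refine FiltBlLib.base_of_extRees FiltBlLib.flatStable_cm 𝓕 q fun P' _ hP' => h P' ?_
    obtain ⟨hQ, hQc⟩ := FiltBlLib.isPrime_map_laurent q
    haveI := hQ
    rw [hP', hRp, FiltBlLib.posPart_le_comap_iff, hQc]
    exact hq
  · rintro ⟨hg, hA⟩ P' _ hS
    by_cases hP' : 𝓕.u ∈ P'
    · exact hG.2 (fun p _ hp => hg p (fun hle => hp (Ideal.map_le_iff_le_comap.1 hle))) P' hP' hS
    · refine FiltBlLib.extRees_of_base FiltBlLib.flatStable_cm 𝓕 P' hP' fun Q _ hQ => hA _ fun hle => hS ?_
      rw [← hQ, hRp]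
      exact (FiltBlLib.posPart_le_comap_iff 𝓕 Q).2 hle

end Groth.Agent.S14660
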