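import Groth.Statements.S14661
import Groth.Agent.GradedNormLib.Local
import Groth.Agent.LocCohLib.Basic
import Groth.Agent.LocCohLib.Depth

set_option autoImplicit false
universe u
open FiltBl

namespace Groth.Agent.S14661

/-- Let k be a field and G a Noetherian ℕ-graded k-algebra which is an integral domain of Krull
dimension at least 2 with G_0 = k (the degree-0 part is the image of k); let L be the fraction field
of G and Ḡ the integral closure of G in L. If the G-module Ḡ/G has finite length, then Ḡ/G is
isomorphic, as a G-module, to the local cohomology module H^1_{G_+}(G) with support in the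
irrelevant ideal G_+ (existence of a G-linear isomorphism only; the comparison map itself is not
named here). -/
theorem result (k : Type u) [Field k]
    (G : Type u) [CommRing G] [IsDomain G] [Algebra k G] [IsNoetherianRing G]
    (𝒢 : ℕ → Submodule k G) [GradedAlgebra 𝒢]
    (h0 : ∀ x ∈ 𝒢 0, x ∈ Set.range (algebraMap k G)) (hdim : 2 ≤ ringKrullDim G)
    (L : Type u) [Field L] [Algebra G L] [IsFractionRing G L]
    (hfin : IsFiniteLength G (↥(integralClosure G L) ⧸
      LinearMap.range (Algebra.linearMap G ↥(integralClosure G L)))) :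
    Nonempty ((↥(integralClosure G L) ⧸
        LinearMap.range (Algebra.linearMap G ↥(integralClosure G L))) ≃ₗ[G]
      LocCoh.H (HomogeneousIdeal.irrelevant 𝒢).toIdeal 1 G) := by
  classical
  set I := (HomogeneousIdeal.irrelevant 𝒢).toIdeal
  set N := integralClosure G L
  obtain ⟨a, b, ha, hb, hreg⟩ := GradedNormLib.exists_regular_pair 𝒢 h0 L hdim
  obtain ⟨n, hn⟩ := GradedNormLib.exists_pow_le_annihilator 𝒢 h0 L hfin
  have hinj : Function.Injective (Algebra.linearMap G N) := fun x y h =>
    IsFractionRing.injective G L (congrArg Subtype.val h)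
  let S : CategoryTheory.ShortComplex (ModuleCat.{u} G) :=
    CategoryTheory.ShortComplex.mk (ModuleCat.ofHom (Algebra.linearMap G N))
      (ModuleCat.ofHom (LinearMap.range (Algebra.linearMap G N)).mkQ)
      (ModuleCat.hom_ext (LinearMap.ext fun x =>
        (Submodule.Quotient.mk_eq_zero _).2 (LinearMap.mem_range_self _ x)))
  have hS : S.ShortExact :=
    { exact := (CategoryTheory.ShortComplex.ShortExact.moduleCat_exact_iff_function_exact _).2
        (LinearMap.exact_map_mkQ_range (Algebra.linearMap G N))
      mono_f := (ModuleCat.mono_iff_injective _).2 hinj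
      epi_g := (ModuleCat.epi_iff_surjective _).2 (Submodule.mkQ_surjective _) }
  have hvan : ∀ i < 2, Subsingleton ((localCohomology I i).obj S.X₂ : Type u) := fun i hi =>
    LocCohLib.subsingleton_of_isWeaklyRegular I (ModuleCat.of G N) [a, b] hreg
      (by simp [ha, hb]; exact ⟨ha, hb⟩) i hi
  have hbij : Function.Bijective (LocCohLib.δ I hS 0) := by
    haveI := hvan 0 (by omega)
    haveI := hvan 1 (by omega)
    refine ⟨(injective_iff_map_eq_zero _).2 fun z hz => ?_, fun z => ?_⟩
    · obtain ⟨w, rfl⟩ := LocCohLib.exists_of_δ_eq_zero I hS 0 z hz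
      rw [Subsingleton.elim w 0, map_zero]
    · exact LocCohLib.exists_of_map_f_eq_zero I hS 0 z (Subsingleton.elim _ _)
  have htop : DRing.torsionSub I S.X₃ = ⊤ := by
    refine eq_top_iff.2 fun x _ => ?_
    exact ⟨n, fun r hr => Module.mem_annihilator.1 (hn hr) x⟩
  exact ⟨(((LocCohLib.h0Equiv I S.X₃).trans (LinearEquiv.ofEq _ _ htop)).trans Submodule.topEquiv).symm.trans
    (LinearEquiv.ofBijective _ hbij)⟩

end Groth.Agent.S14661
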