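import Groth.Statements.S14662
import Groth.Agent.FlatSymLib.CurveSmooth
import Groth.Agent.FlatSymLib.FibPow
import Groth.Agent.QuotLib.Props
-- import your own Groth.Agent.* helpers here

set_option autoImplicit false
universe u
open CategoryTheory CategoryTheory.Limits AlgebraicGeometry
open SymProd

namespace Groth.Agent.S14662

/-- Let S be a locally Noetherian scheme and f : C ⟶ S a proper morphism, smooth of relative dimension
1, such that every finite set of points of C lying over a single point of S is contained in an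
affine open of C; let n ≥ 0 and let (Y, q, g) be an n-th symmetric power of C over S, i.e. q : C ×_S
⋯ ×_S C ⟶ Y (n factors) is a quotient by the symmetric group permuting the factors (affine,
invariant, identifying sections of O_Y with invariant sections) and g : Y ⟶ S satisfies q ≫ g = the
structure map of the fibre power. Then g is proper and smooth. (The published statement is for a
flat projective family whose geometric fibres are connected regular curves, and concludes that the
symmetric power is proper and flat with regular geometric fibres; this row assumes only properness,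
smoothness of relative dimension 1 and the affine-open property, which is what the proof uses, and
states regularity of the geometric fibres of the flat finite-type morphism g as smoothness.) -/
theorem result {C S Y : Scheme.{u}} [IsLocallyNoetherian S]
    (f : C ⟶ S) [IsProper f] [SmoothOfRelativeDimension 1 f] (hAF : SymProd.IsAF f)
    (n : ℕ) (q : SymProd.fibPow f n ⟶ Y) (g : Y ⟶ S) (hq : SymProd.IsSymProd f n q g) :
    IsProper g ∧ Smooth g := by
  classical
  have hquot := hq.isQuot
  haveI := hquot.affine
  haveI : Smooth f := SmoothOfRelativeDimension.smooth 1 f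
  haveI hb : IsProper (WidePullback.base fun _ : Fin n => f) :=
    haveI : MorphismProperty.ContainsIdentities @IsProper.{u} := ⟨fun X => inferInstance⟩
    FlatSymLib.base_mem f @IsProper.{u} inferInstance n
  haveI hqg : IsProper (q ≫ g) := by rw [hq.over]; exact hb
  haveI : IsSeparated g := (QuotLib.isSeparated_iff hquot g).1 inferInstance
  haveI : LocallyOfFiniteType g := QuotLib.locallyOfFiniteType hquot g
  haveI : Surjective q := ⟨QuotLib.surjective hquot⟩
  haveI : UniversallyClosed g := UniversallyClosed.of_comp_surjective q g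
  refine ⟨{ }, ?_⟩
  haveI : IsZariskiLocalAtSource @Smooth.{u} :=
    HasRingHomProperty.instIsZariskiLocalAtSource (Q := RingHom.Smooth)
  have key : ∀ y : Y, ∃ (U : Scheme.{u}) (j : U ⟶ Y) (_ : IsOpenImmersion j),
      y ∈ Set.range j ∧ Smooth (j ≫ g) := by
    intro y
    obtain ⟨x, rfl⟩ := QuotLib.surjective hquot y
    obtain ⟨S₀, hS₀, hxS₀, -⟩ := exists_isAffineOpen_mem_and_subset (X := S)
      (x := WidePullback.base (fun _ : Fin n => f) x) (U := ⊤) trivial
    have hfx : ∀ (z : SymProd.fibPow f n) i,
        f (WidePullback.π (fun _ : Fin n => f) i z) = WidePullback.base (fun _ : Fin n => f) z := fun z i => by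
      rw [← Scheme.Hom.comp_apply, WidePullback.π_arrow]
    obtain ⟨U₀, hU₀, hTU⟩ := hAF (WidePullback.base (fun _ : Fin n => f) x)
      (Finset.univ.image fun i => WidePullback.π (fun _ : Fin n => f) i x) (by
      intro z hz
      obtain ⟨i, -, rfl⟩ := Finset.mem_image.1 hz
      exact hfx x i)
    obtain ⟨h, hhle, hh⟩ := QuotLib.exists_basicOpen_finite hU₀ (f ⁻¹ᵁ S₀)
      (fun i => WidePullback.π (fun _ : Fin n => f) i x)
      (fun i => hTU _ (Finset.mem_image_of_mem _ (Finset.mem_univ i)))
      (fun i => show f _ ∈ S₀ by rw [hfx x i]; exact hxS₀)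
    obtain ⟨jY, hjY, e, -, -, hjg, -, hrange⟩ :=
      FlatSymLib.chart_of_opens f n q g hq S₀ hS₀ (C.basicOpen h) (hU₀.basicOpen h) hhle
    refine ⟨_, jY, hjY, (hrange x).2 ⟨hxS₀, fun i => hh i⟩, ?_⟩
    letI : Algebra Γ(S, S₀) Γ(C, C.basicOpen h) := (f.appLE S₀ _ hhle).hom.toAlgebra
    haveI : IsNoetherianRing Γ(S, S₀) := IsLocallyNoetherian.component_noetherian (⟨S₀, hS₀⟩ : S.affineOpens)
    haveI : Algebra.Smooth Γ(S, S₀) Γ(C, C.basicOpen h) :=
      Scheme.Hom.smooth_appLE f hS₀ (hU₀.basicOpen h) hhle
    haveI : Module.Flat Γ(S, S₀) Γ(C, C.basicOpen h) :=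
      Scheme.Hom.flat_appLE f hS₀ (hU₀.basicOpen h) hhle
    haveI : LocallyOfFiniteType (jY ≫ g) := inferInstance
    haveI : Algebra.FiniteType Γ(S, S₀) (SymTen.TS Γ(S, S₀) Γ(C, C.basicOpen h) n) := by
      rw [hjg] at this
      have h2 := locallyOfFiniteType_of_comp
        (Spec.map (CommRingCat.ofHom (algebraMap Γ(S, S₀) (SymTen.TS Γ(S, S₀) Γ(C, C.basicOpen h) n))))
        hS₀.fromSpec
      exact RingHom.finiteType_algebraMap.1 ((HasRingHomProperty.Spec_iff (P := @LocallyOfFiniteType)).1 h2)
    obtain ⟨s, hs, hsm⟩ := HasRingHomProperty.appLE (P := @SmoothOfRelativeDimension.{u} 1) f inferInstance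
      ⟨S₀, hS₀⟩ ⟨C.basicOpen h, hU₀.basicOpen h⟩ hhle
    have hcurve : FlatSymLib.IsCurveOver Γ(S, S₀) Γ(C, C.basicOpen h) := by
      refine FlatSymLib.isCurveOver_of_span s hs fun r hr => ?_
      obtain ⟨φ, hφC, hφ⟩ := RingHom.IsStandardSmoothOfRelativeDimension.exists_etale_mvPolynomial (hsm r hr)
      refine FlatSymLib.isCurveOver_of_etale
        { φ with commutes' := fun a => ?_ } hφ
      exact (DFunLike.congr_fun hφC a).trans
        (IsScalarTower.algebraMap_apply Γ(S, S₀) Γ(C, C.basicOpen h) _ a).symm
    haveI := FlatSymLib.smooth_TS (n := n) hcurve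
    rw [hjg]
    haveI : Smooth (Spec.map (CommRingCat.ofHom
        (algebraMap Γ(S, S₀) (SymTen.TS Γ(S, S₀) Γ(C, C.basicOpen h) n)))) :=
      (HasRingHomProperty.Spec_iff (P := @Smooth)).2 (RingHom.smooth_algebraMap.2 inferInstance)
    infer_instance
  choose U j hj hmem hsm using key
  let 𝒰 : Y.OpenCover := Scheme.Cover.mkOfCovers Y U j
    (fun y => ⟨y, (hmem y).choose, (hmem y).choose_spec⟩) hj
  exact (IsZariskiLocalAtSource.iff_of_openCover (P := @Smooth) (f := g) 𝒰).2 fun y => hsm y

end Groth.Agent.S14662
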