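import Groth.Statements.S14665
import Groth.Agent.FlatSymLib.ModelBC
-- import your own Groth.Agent.* helpers here

set_option autoImplicit false
universe u
open CategoryTheory CategoryTheory.Limits AlgebraicGeometry
open SymProd

namespace Groth.Agent.S14665

open scoped TensorProduct

/-- Let f : X ⟶ S be a flat morphism such that every finite set of points of X lying over a single point
of S is contained in an affine open of X, let n ≥ 0 and let (Y, q, g) be an n-th symmetric power of
X over S (q : X ×_S ⋯ ×_S X ⟶ Y a quotient of the n-fold fibre power by the symmetric group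
permuting the factors: affine, invariant, identifying sections of O_Y with invariant sections; q ≫ g
= the structure map). Then the formation of the symmetric power commutes with arbitrary base change:
for any b : S' ⟶ S, with X' = X ×_S S' and f' its projection to S', let c be the morphism from the
n-fold fibre power of X' over S' to that of X over S whose components are the first projections X' ⟶
X and which lies over b, and let q' be the morphism from the fibre power of X' to Y ×_S S' with
components c ≫ q and the structure map to S'. Then q' together with the projection Y ×_S S' ⟶ S' is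
an n-th symmetric power of X' over S'. -/
theorem result {X S S' Y : Scheme.{u}} (f : X ⟶ S) [Flat f]
    (hAF : SymProd.IsAF f) (n : ℕ) (q : SymProd.fibPow f n ⟶ Y) (g : Y ⟶ S) (hq : SymProd.IsSymProd f n q g)
    (b : S' ⟶ S)
    (c : SymProd.fibPow (pullback.snd f b) n ⟶ SymProd.fibPow f n)
    (hcπ : ∀ i : Fin n, c ≫ WidePullback.π (fun _ => f) i = WidePullback.π (fun _ => pullback.snd f b) i ≫ pullback.fst f b)
    (hcb : c ≫ WidePullback.base (fun _ => f) = WidePullback.base (fun _ => pullback.snd f b) ≫ b)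
    (q' : SymProd.fibPow (pullback.snd f b) n ⟶ pullback g b)
    (hq'₁ : q' ≫ pullback.fst g b = c ≫ q)
    (hq'₂ : q' ≫ pullback.snd g b = WidePullback.base (fun _ => pullback.snd f b)) :
    SymProd.IsSymProd (pullback.snd f b) n q' (pullback.snd g b) := by
  classical
  have hquot := hq.isQuot
  have hC : IsPullback c (WidePullback.base fun _ => pullback.snd f b) (WidePullback.base fun _ => f) b := by
    refine IsPullback.of_isLimit' ⟨hcb⟩ (PullbackCone.IsLimit.mk hcb
      (fun s => WidePullback.lift s.snd (fun i => pullback.lift (s.fst ≫ WidePullback.π _ i) s.snd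
        (by rw [Category.assoc, WidePullback.π_arrow, s.condition])) (fun i => pullback.lift_snd _ _ _))
      (fun s => WidePullback.hom_ext _ _ _ (fun i => ?_) ?_) (fun s => WidePullback.lift_base ..)
      (fun s m h1 h2 => WidePullback.hom_ext _ _ _ (fun i => ?_) ?_))
    · rw [Category.assoc, hcπ, WidePullback.lift_π_assoc, pullback.lift_fst]
    · rw [Category.assoc, hcb, WidePullback.lift_base_assoc, s.condition]
    · rw [WidePullback.lift_π]
      refine pullback.hom_ext ?_ ?_
      · rw [pullback.lift_fst, Category.assoc, ← hcπ, ← Category.assoc, h1]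
      · rw [pullback.lift_snd, Category.assoc, WidePullback.π_arrow, h2]
    · rw [WidePullback.lift_base, h2]
  have hQ : IsPullback c q' q (pullback.fst g b) := by
    refine IsPullback.of_bot (v₂₁ := pullback.snd g b) (v₂₂ := g) (h₃₁ := b) ?_ hq'₁.symm
      (IsPullback.of_hasPullback g b)
    rw [hq'₂, hq.over]
    exact hC
  haveI : IsAffineHom q' := MorphismProperty.of_isPullback hQ hquot.affine
  have hperm : ∀ σ, (SymProd.permActU (pullback.snd f b) n σ).hom ≫ c =
      c ≫ (SymProd.permActU f n σ).hom := by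
    intro σ
    rw [SymProd.permActU_hom, SymProd.permActU_hom]
    refine WidePullback.hom_ext _ _ _ (fun i => ?_) ?_
    · rw [Category.assoc, Category.assoc, hcπ, SymProd.permHom_π, ← Category.assoc,
        SymProd.permHom_π, hcπ]
    · rw [Category.assoc, Category.assoc, hcb, SymProd.permHom_base, ← Category.assoc,
        SymProd.permHom_base, hcb]
  have hinv : ∀ σ, (SymProd.permActU (pullback.snd f b) n σ).hom ≫ q' = q' := by
    intro σ
    refine pullback.hom_ext ?_ ?_
    · rw [Category.assoc, hq'₁, ← Category.assoc, hperm, Category.assoc, hquot.inv]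
    · rw [Category.assoc, hq'₂, SymProd.permActU_hom, SymProd.permHom_base]
  refine ⟨FlatSymLib.isQuot_of_charts hinv fun z => ?_, hq'₂⟩
  obtain ⟨A, B, cA, cB, alg, flatAB, jS, hjS, jY, hjY, e, hmem, hsq, heb, hjg, heperm⟩ :=
    FlatSymLib.exists_chart f hAF n q g hq (pullback.fst g b z)
  letI := cA; letI := cB; letI := alg; letI := flatAB; letI := hjS; letI := hjY
  obtain ⟨t, ht⟩ := hmem
  have hz : b (pullback.snd g b z) ∈ jS.opensRange := by
    refine ⟨Spec.map (CommRingCat.ofHom (algebraMap A (SymTen.TS A B n))) t, ?_⟩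
    rw [← Scheme.Hom.comp_apply, ← hjg, Scheme.Hom.comp_apply, ht, ← Scheme.Hom.comp_apply,
      pullback.condition, Scheme.Hom.comp_apply]
  obtain ⟨_, ⟨S₁, hS₁, rfl⟩, hzS₁, hS₁le⟩ := S'.isBasis_affineOpens.exists_subset_of_mem_open
    (show pullback.snd g b z ∈ b ⁻¹ᵁ jS.opensRange from hz) (b ⁻¹ᵁ jS.opensRange).2
  let fS' : Spec (CommRingCat.of Γ(S', S₁)) ⟶ S' := hS₁.fromSpec
  let a : Spec (CommRingCat.of Γ(S', S₁)) ⟶ Spec (CommRingCat.of A) :=
    IsOpenImmersion.lift jS (fS' ≫ b) (by
      rintro _ ⟨w, rfl⟩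
      have : fS' w ∈ (S₁ : Set S') := by rw [← hS₁.range_fromSpec]; exact ⟨w, rfl⟩
      exact hS₁le this)
  have ha : a ≫ jS = fS' ≫ b := IsOpenImmersion.lift_fac ..
  let A' : Type u := Γ(S', S₁)
  letI : Algebra A A' := (Spec.preimage a).hom.toAlgebra
  have haA : Spec.map (CommRingCat.ofHom (algebraMap A A')) = a := Spec.map_preimage a
  let U₀ := Spec (CommRingCat.of (SymTen.TS A B n ⊗[A] A'))
  let O₀ := Spec (CommRingCat.of (FlatSymLib.T A B n ⊗[A] A'))
  have P₀ := isPullback_SpecMap_of_isPushout _ _ _ _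
    (CommRingCat.isPushout_tensorProduct A (SymTen.TS A B n) A')
  have P₁ := isPullback_SpecMap_of_isPushout _ _ _ _
    (CommRingCat.isPushout_tensorProduct A (FlatSymLib.T A B n) A')
  rw [haA] at P₀ P₁
  generalize hprTS : Spec.map (CommRingCat.ofHom (R := SymTen.TS A B n) (S := SymTen.TS A B n ⊗[A] A') (Algebra.TensorProduct.includeLeftRingHom :
    SymTen.TS A B n →+* SymTen.TS A B n ⊗[A] A')) = prTS at P₀
  generalize hprT : Spec.map (CommRingCat.ofHom (R := FlatSymLib.T A B n) (S := FlatSymLib.T A B n ⊗[A] A') (Algebra.TensorProduct.includeLeftRingHom :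
    FlatSymLib.T A B n →+* FlatSymLib.T A B n ⊗[A] A')) = prT at P₁
  generalize hprA : Spec.map (CommRingCat.ofHom (R := A') (S := SymTen.TS A B n ⊗[A] A') (Algebra.TensorProduct.includeRight :
    A' →ₐ[A] SymTen.TS A B n ⊗[A] A').toRingHom) = prA at P₀
  generalize hprA1 : Spec.map (CommRingCat.ofHom (R := A') (S := FlatSymLib.T A B n ⊗[A] A') (Algebra.TensorProduct.includeRight :
    A' →ₐ[A] FlatSymLib.T A B n ⊗[A] A').toRingHom) = prA₁ at P₁
  let p₁ : O₀ ⟶ U₀ := Spec.map (CommRingCat.ofHom (R := SymTen.TS A B n ⊗[A] A')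
    (S := FlatSymLib.T A B n ⊗[A] A') (FlatSymLib.valBC A B n A').toRingHom)
  have hp₁A : p₁ ≫ prA = prA₁ := by
    rw [← hprA, ← hprA1, ← Spec.map_comp]
    congr 1
  have hp₁T : prT ≫ Spec.map (CommRingCat.ofHom (SymTen.TS A B n).val.toRingHom) = p₁ ≫ prTS := by
    rw [← hprT, ← hprTS, ← Spec.map_comp, ← Spec.map_comp]
    congr 1
  have hbase : Spec.map (CommRingCat.ofHom (SymTen.TS A B n).val.toRingHom) ≫
      Spec.map (CommRingCat.ofHom (algebraMap A (SymTen.TS A B n))) = FlatSymLib.toBase A B n := by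
    rw [FlatSymLib.toBase, ← Spec.map_comp]
    congr 1
  let j₁ : U₀ ⟶ pullback g b := pullback.lift (prTS ≫ jY) (prA ≫ fS') (by
    rw [Category.assoc, hjg, ← Category.assoc, P₀.w, Category.assoc, Category.assoc, ha])
  have hj₁eq : j₁ = P₀.isoPullback.hom ≫ pullback.map _ _ g b jY fS' jS hjg.symm ha := by
    refine pullback.hom_ext ?_ ?_
    · rw [Category.assoc, pullback.lift_fst, pullback.lift_fst, ← Category.assoc,
        IsPullback.isoPullback_hom_fst]
    · rw [Category.assoc, pullback.lift_snd, pullback.lift_snd, ← Category.assoc,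
        IsPullback.isoPullback_hom_snd]
  haveI : IsOpenImmersion fS' := IsAffineOpen.isOpenImmersion_fromSpec hS₁
  haveI : IsOpenImmersion j₁ := by rw [hj₁eq]; infer_instance
  let e₁ : O₀ ⟶ SymProd.fibPow (pullback.snd f b) n := hC.lift (prT ≫ e) (prA₁ ≫ fS') (by
    rw [Category.assoc, heb, ← Category.assoc,
      show prT ≫ FlatSymLib.toBase A B n = prA₁ ≫ a from P₁.w, Category.assoc, Category.assoc, ha])
  have he₁c : e₁ ≫ c = prT ≫ e := hC.lift_fst _ _ _
  have he₁b : e₁ ≫ WidePullback.base (fun _ => pullback.snd f b) = prA₁ ≫ fS' := hC.lift_snd _ _ _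
  have hmid : IsPullback prT p₁ (Spec.map (CommRingCat.ofHom (SymTen.TS A B n).val.toRingHom)) prTS := by
    refine IsPullback.of_bot (v₂₁ := prA) (v₂₂ := Spec.map (CommRingCat.ofHom
      (algebraMap A (SymTen.TS A B n)))) (h₃₁ := a) ?_ hp₁T P₀
    rw [hp₁A, hbase]
    exact P₁
  have hcomm : e₁ ≫ q' = p₁ ≫ j₁ := by
    refine pullback.hom_ext ?_ ?_
    · rw [Category.assoc, hq'₁, ← Category.assoc, he₁c, Category.assoc, hsq.w, ← Category.assoc,
        hp₁T, Category.assoc, Category.assoc, pullback.lift_fst]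
    · rw [Category.assoc, hq'₂, he₁b, Category.assoc, pullback.lift_snd, ← Category.assoc, hp₁A]
  refine ⟨O₀, U₀, e₁, j₁, p₁, inferInstance, FlatSymLib.specAct (FlatSymLib.permHomBC A B n A'), ?_, ?_,
    fun σ => ?_, FlatSymLib.isQuot_TS_baseChange A B n A'⟩
  · rw [hj₁eq]
    have hw : z ∈ Set.range (pullback.map _ _ g b jY fS' jS hjg.symm ha) := by
      rw [Scheme.Pullback.range_map]
      refine ⟨⟨t, ht⟩, ?_⟩
      show pullback.snd g b z ∈ Set.range fS'
      rw [hS₁.range_fromSpec]
      exact hzS₁
    obtain ⟨w, rfl⟩ := hw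
    exact ⟨P₀.isoPullback.inv w, by
      rw [← Scheme.Hom.comp_apply, ← Category.assoc, Iso.inv_hom_id, Category.id_comp]⟩
  · refine IsPullback.of_right (h₁₂ := c) (h₂₂ := pullback.fst g b) ?_ hcomm hQ
    rw [he₁c, pullback.lift_fst]
    exact hmid.paste_horiz hsq
  · refine hC.hom_ext ?_ ?_
    · rw [Category.assoc, Category.assoc, he₁c, hperm, ← Category.assoc e₁, he₁c, Category.assoc,
        ← heperm σ, ← Category.assoc, ← Category.assoc]
      congr 1
      rw [← hprT, FlatSymLib.specAct_hom, FlatSymLib.specAct_hom, ← Spec.map_comp, ← Spec.map_comp]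
      congr 1
    · rw [Category.assoc, Category.assoc, he₁b, SymProd.permActU_hom, SymProd.permHom_base, he₁b,
        ← Category.assoc]
      congr 1
      rw [← hprA1, FlatSymLib.specAct_hom, ← Spec.map_comp]
      congr 1
      refine CommRingCat.hom_ext (RingHom.ext fun x => ?_)
      show FlatSymLib.permHomBC A B n A' σ⁻¹ (1 ⊗ₜ x) = 1 ⊗ₜ x
      rw [FlatSymLib.permHomBC_tmul, map_one]

end Groth.Agent.S14665
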