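import Groth.Statements.S14666
import Groth.Agent.RigidLib.Basic
import Mathlib.AlgebraicGeometry.Geometrically.Integral
-- import your own Groth.Agent.* helpers here

set_option autoImplicit false
universe u
open CategoryTheory CategoryTheory.Limits AlgebraicGeometry
open AbSch

namespace Groth.Agent.S14666

/-- Let S be a locally Noetherian scheme, ξ : X ⟶ S a proper morphism all of whose geometric fibres are
integral and for which O_S ⟶ ξ_*O_X is an isomorphism (the map Γ(U, O_S) → Γ(ξ⁻¹U, O_X) is bijective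
for every open U of S), v : Y ⟶ S an arbitrary S-scheme and f : X ⟶ Y a morphism over S. Let U be
the set of points s of S such that f sends every point of the fibre ξ⁻¹(s) to one and the same point
of Y. Then U is open in S, and for every morphism τ : T ⟶ S the base change of f to T factors
through the projection X ×_S T ⟶ T — that is, there is r : T ⟶ Y with r ≫ v = τ and fst ≫ f = snd ≫
r on X ×_S T — if and only if τ maps every point of T into U. -/
theorem result {X Y S : Scheme.{u}} [IsLocallyNoetherian S]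
    (ξ : X ⟶ S) [IsProper ξ] [GeometricallyIntegral ξ]
    (h0 : ∀ U : S.Opens, Function.Bijective (ξ.app U).hom)
    (v : Y ⟶ S) (f : X ⟶ Y) (hf : f ≫ v = ξ) :
    IsOpen {s : ↥S | ∃ y : ↥Y, ∀ x : ↥X, ξ.base x = s → f.base x = y} ∧
    ∀ (T : Scheme.{u}) (τ : T ⟶ S),
      ((∃ r : T ⟶ Y, r ≫ v = τ ∧ pullback.fst ξ τ ≫ f = pullback.snd ξ τ ≫ r) ↔
        ∀ t : ↥T, τ.base t ∈ {s : ↥S | ∃ y : ↥Y, ∀ x : ↥X, ξ.base x = s → f.base x = y}) := by
  have hcl : IsClosedMap ξ := ξ.isClosedMap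
  have hp : Surjective ξ := inferInstance
  refine ⟨Groth.Agent.RigidLib.isOpen_locus hcl h0 f, fun T τ => ⟨?_, fun h => ?_⟩⟩
  · rintro ⟨r, -, hr⟩ t
    refine ⟨r t, fun x hx => ?_⟩
    obtain ⟨z, hz₁, hz₂⟩ := Scheme.Pullback.exists_preimage_pullback x t hx
    rw [← hz₁, ← hz₂, ← Scheme.Hom.comp_apply, hr, Scheme.Hom.comp_apply]
  let U : S.Opens := ⟨Groth.Agent.RigidLib.locus ξ f, Groth.Agent.RigidLib.isOpen_locus hcl h0 f⟩
  obtain ⟨r₀, hr₀, hr₀'⟩ := Groth.Agent.RigidLib.exists_section_over hcl hp h0 f hf U subset_rfl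
  let τ' : T ⟶ U.toScheme := IsOpenImmersion.lift U.ι τ (by
    rw [Scheme.Opens.range_ι]
    rintro _ ⟨t, rfl⟩
    exact h t)
  let l : pullback ξ τ ⟶ (ξ ⁻¹ᵁ U).toScheme := IsOpenImmersion.lift (ξ ⁻¹ᵁ U).ι (pullback.fst ξ τ) (by
    rw [Scheme.Opens.range_ι]
    rintro _ ⟨z, rfl⟩
    show ξ (pullback.fst ξ τ z) ∈ U
    rw [← Scheme.Hom.comp_apply, pullback.condition, Scheme.Hom.comp_apply]
    exact h _)
  refine ⟨τ' ≫ r₀, by rw [Category.assoc, hr₀, IsOpenImmersion.lift_fac], ?_⟩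
  have hl : l ≫ (ξ ∣_ U) = pullback.snd ξ τ ≫ τ' := by
    rw [← cancel_mono U.ι, Category.assoc, morphismRestrict_ι, IsOpenImmersion.lift_fac_assoc, Category.assoc,
      IsOpenImmersion.lift_fac, pullback.condition]
  rw [← Category.assoc, ← hl, Category.assoc, hr₀', IsOpenImmersion.lift_fac_assoc]

end Groth.Agent.S14666
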