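import Groth.Statements.S14668
import Groth.Agent.AVLib.ProjConst
import Groth.Agent.RigidLib.Univ
import Groth.Agent.RigidLib.Group
import Groth.Agent.GeomRedDesc.Basic

set_option autoImplicit false
universe u
open CategoryTheory CategoryTheory.Limits MonoidalCategory CartesianMonoidalCategory MonObj GrpObj AlgebraicGeometry
open AbSch

namespace Groth.Agent.S14668

open Groth.Agent

set_option backward.isDefEq.respectTransparency false in
theorem geometricallyIntegral_of_fibres {X S : Scheme.{u}} (p : X ⟶ S)
    (hP : ∀ (K : Type u) [Field K] [IsAlgClosed K] (s : Spec (CommRingCat.of K) ⟶ S),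
      ∃ (n : ℕ) (e : pullback p s ≅ CohB1.ProjSpace n K), e.hom ≫ CohB1.ProjSpace.toSpec n K = pullback.snd p s) :
    GeometricallyIntegral p := by
  rw [GeometricallyIntegral.eq_geometrically]
  intro K _ y Z fst snd h
  suffices hI : IsIntegral (pullback p y) by
    haveI : Nonempty ↥Z := ⟨h.isoPullback.inv (Classical.arbitrary _)⟩
    exact isIntegral_of_isOpenImmersion h.isoPullback.hom
  let L := AlgebraicClosure K
  let a : Spec (CommRingCat.of L) ⟶ Spec (CommRingCat.of K) := Spec.map (CommRingCat.ofHom (algebraMap K L))
  haveI : Surjective a := GeomIrred.surjective_specMap_field K L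
  haveI : Subsingleton ↥(Spec (CommRingCat.of K)) := inferInstanceAs (Subsingleton (PrimeSpectrum K))
  obtain ⟨n, e, -⟩ := hP L (a ≫ y)
  let e' := pullbackLeftPullbackSndIso p y a ≪≫ e
  haveI : IsIntegral (CohB1.ProjSpace n L) := PicProjLib.isIntegral_projSpace _ _
  haveI : Nonempty ↥(pullback (pullback.snd p y) a) := ⟨e'.inv (Classical.arbitrary _)⟩
  haveI : IsIntegral (pullback (pullback.snd p y) a) := isIntegral_of_isOpenImmersion e'.hom
  haveI := AVLib.geometricallyIntegral_of_isIntegral (K := L) (pullback.snd (pullback.snd p y) a)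
  haveI := GeomRedDesc.geometricallyIntegral_of_surjective (pullback.snd p y) a
  exact GeometricallyIntegral.isIntegral_of_subsingleton (pullback.snd p y)

/-- Let S be a locally Noetherian scheme, A an abelian scheme over S (an S-group scheme whose structure
morphism is proper and flat with geometrically integral fibres), and P an S-scheme whose structure
morphism is proper and flat and whose geometric fibres are projective spaces: for every
algebraically closed field K and every K-point of S, the fibre P ×_S Spec K is isomorphic over Spec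
K to projective n-space over K for some n. Then every S-morphism P ⟶ A factors through the structure
morphism of P: it is the composite of P ⟶ S with a section S ⟶ A. -/
theorem result {S : Scheme.{u}} [IsLocallyNoetherian S]
    (A : Over S) [GrpObj A] [IsProper A.hom] [Flat A.hom] [GeometricallyIntegral A.hom]
    (P : Over S) [IsProper P.hom] [Flat P.hom]
    (hP : ∀ (K : Type u) [Field K] [IsAlgClosed K] (s : Spec (CommRingCat.of K) ⟶ S),
      ∃ (n : ℕ) (e : pullback P.hom s ≅ CohB1.ProjSpace n K), e.hom ≫ CohB1.ProjSpace.toSpec n K = pullback.snd P.hom s)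
    (φ : P ⟶ A) :
    ∃ a : 𝟙_ (Over S) ⟶ A, φ = toUnit P ≫ a := by
  haveI hGI : GeometricallyIntegral P.hom := geometricallyIntegral_of_fibres P.hom hP
  haveI : GeometricallyConnected P.hom :=
    ⟨fun K _ y Z fst snd h => by
      haveI : IrreducibleSpace ↥Z := GeometricallyIrreducible.geometrically_irreducibleSpace (f := P.hom) y fst snd h
      infer_instance⟩
  have huniv : RigidLib.locus P.hom φ.left = Set.univ := by
    refine Set.eq_univ_of_forall fun s => (RigidLib.mem_locus_iff (RigidLib.surjective_of_geom P.hom) _).2
      fun x x' hx hx' => ?_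
    let K := AlgebraicClosure (S.residueField s)
    let y : Spec (CommRingCat.of K) ⟶ S :=
      Spec.map (CommRingCat.ofHom (algebraMap (S.residueField s) K)) ≫ S.fromSpecResidueField s
    obtain ⟨n, e, he⟩ := hP K y
    haveI : Subsingleton ↥(Spec (CommRingCat.of K)) := inferInstanceAs (Subsingleton (PrimeSpectrum K))
    let F := Over.pullback y
    letI : GrpObj (F.obj A) := Functor.grpObjObj
    haveI : IsProper (F.obj A).hom := inferInstanceAs (IsProper (pullback.snd A.hom y))
    haveI : GeometricallyIntegral (F.obj A).hom := inferInstanceAs (GeometricallyIntegral (pullback.snd A.hom y))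
    let e0 : AVLib.projOver n K ≅ F.obj P :=
      Over.isoMk e.symm (show e.inv ≫ pullback.snd P.hom y = CohB1.ProjSpace.toSpec n K by
        rw [← he, Iso.inv_hom_id_assoc])
    obtain ⟨a, ha⟩ := AVLib.exists_eq_const (e0.hom ≫ F.map φ)
    have h1 : (F.map φ).left = (e0.inv ≫ toUnit _ ≫ a).left := by rw [← ha, Iso.inv_hom_id_assoc]
    have h2 : (F.map φ).left ≫ pullback.fst A.hom y = pullback.fst P.hom y ≫ φ.left := pullback.lift_fst _ _ _
    have hy : ∀ x₀, P.hom x₀ = s → ∃ z : ↥(pullback P.hom y), pullback.fst P.hom y z = x₀ := fun x₀ h₀ => by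
      obtain ⟨z, hz, -⟩ := Scheme.Pullback.exists_preimage_pullback (f := P.hom) (g := y) x₀
        (IsLocalRing.closedPoint K) (by
          rw [h₀, show y (IsLocalRing.closedPoint K) = S.fromSpecResidueField s _ from rfl,
            Scheme.fromSpecResidueField_apply])
      exact ⟨z, hz⟩
    obtain ⟨z, rfl⟩ := hy x hx
    obtain ⟨z', rfl⟩ := hy x' hx'
    have h3 : (F.map φ).left z = (F.map φ).left z' := by
      rw [h1]
      exact congrArg a.left (Subsingleton.elim (α := ↥(Spec (CommRingCat.of K))) _ _)
    simp only [← Scheme.Hom.comp_apply, ← h2]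
    exact congrArg (pullback.fst A.hom y) h3
  obtain ⟨t, ht, hf⟩ := RigidLib.exists_section_of_univ P.hom.isClosedMap (RigidLib.surjective_of_geom P.hom)
    (RigidLib.bijApp_of_geom P.hom) φ.left (Over.w φ) huniv
  exact ⟨Over.homMk t ht, Over.OverMorphism.ext hf⟩

end Groth.Agent.S14668
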