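import Groth.Statements.S14674
import Groth.Agent.CubeBaseLib.Group
-- import your own Groth.Agent.* helpers here

set_option autoImplicit false
universe u
open CategoryTheory CategoryTheory.Limits MonoidalCategory CartesianMonoidalCategory MonObj GrpObj AlgebraicGeometry
open AbSch

set_option backward.isDefEq.respectTransparency false

namespace Groth.Agent.S14674

theorem iso_of_eq {Y Z : Scheme.{u}} {L : Y.Modules} (hL : PicF.IsInvertible L) (f g : Y ⟶ Y) (e : Z ⟶ Y)
    (α : Y ⟶ Z) (k i j : ℕ)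
    (h : Groth.Agent.PicLib.pull f (Groth.Agent.PicLib.cls hL) *
        Groth.Agent.PicLib.pull α (Groth.Agent.PicLib.pull e (Groth.Agent.PicLib.cls hL)) ^ k =
      Groth.Agent.PicLib.cls hL ^ i * Groth.Agent.PicLib.pull g (Groth.Agent.PicLib.cls hL) ^ j *
        Groth.Agent.PicLib.pull α (Groth.Agent.PicLib.pull e (Groth.Agent.PicLib.cls hL))) :
    Nonempty (CohB1.tensorMod ((Scheme.Modules.pullback f).obj L)
        ((Scheme.Modules.pullback α).obj (CohB1.tensorPow ((Scheme.Modules.pullback e).obj L) k)) ≅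
      CohB1.tensorMod (CohB1.tensorMod (CohB1.tensorPow L i) ((Scheme.Modules.pullback g).obj (CohB1.tensorPow L j)))
        ((Scheme.Modules.pullback α).obj ((Scheme.Modules.pullback e).obj L))) := by
  have hE := Groth.Agent.AmpleLib.isInvertible_pullback e hL
  have hEk := Groth.Agent.AmpleLib.isInvertible_tensorPow hE k
  have hi := Groth.Agent.AmpleLib.isInvertible_tensorPow hL i
  have hj := Groth.Agent.AmpleLib.isInvertible_tensorPow hL j
  refine (Groth.Agent.PicLib.cls_eq_cls
    (Groth.Agent.AmpleLib.isInvertible_tensor (Groth.Agent.AmpleLib.isInvertible_pullback f hL)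
      (Groth.Agent.AmpleLib.isInvertible_pullback α hEk))
    (Groth.Agent.AmpleLib.isInvertible_tensor
      (Groth.Agent.AmpleLib.isInvertible_tensor hi (Groth.Agent.AmpleLib.isInvertible_pullback g hj))
      (Groth.Agent.AmpleLib.isInvertible_pullback α hE))).1 ?_
  rw [Groth.Agent.PicLib.cls_tensor (Groth.Agent.AmpleLib.isInvertible_pullback f hL)
      (Groth.Agent.AmpleLib.isInvertible_pullback α hEk),
    Groth.Agent.PicLib.cls_tensor
      (Groth.Agent.AmpleLib.isInvertible_tensor hi (Groth.Agent.AmpleLib.isInvertible_pullback g hj))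
      (Groth.Agent.AmpleLib.isInvertible_pullback α hE),
    Groth.Agent.PicLib.cls_tensor hi (Groth.Agent.AmpleLib.isInvertible_pullback g hj),
    ← Groth.Agent.PicLib.pull_cls f hL, ← Groth.Agent.PicLib.pull_cls α hEk, ← Groth.Agent.PicLib.pull_cls g hj,
    ← Groth.Agent.PicLib.pull_cls α hE, Groth.Agent.PicLib.cls_tensorPow hE k, Groth.Agent.PicLib.cls_tensorPow hL i,
    Groth.Agent.PicLib.cls_tensorPow hL j, ← Groth.Agent.PicLib.pull_cls e hL, map_pow, map_pow]
  exact h

/-- Let S be a locally Noetherian scheme, X an abelian scheme over S (an S-group scheme whose structure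
morphism α is proper and flat with geometrically integral fibres) with unit section e : S ⟶ X, L an
invertible O_X-module and n an integer; write [n] for the n-th multiple of the identity in the group
of S-endomorphisms of X. Then [n]^*L ⊗ α^*(e^*L)^{⊗ n²} is isomorphic to L^{⊗(n²+n)/2} ⊗
[-1]^*L^{⊗(n²−n)/2} ⊗ α^*e^*L; equivalently [n]^*L ≅ L^{⊗(n²+n)/2} ⊗ [-1]^*L^{⊗(n²−n)/2} ⊗
[0]^*L^{⊗(1−n²)} with [0]^*L = α^*e^*L (existence of an isomorphism of O_X-modules only). -/
theorem result {S : Scheme.{u}} [IsLocallyNoetherian S] (X : Over S) [GrpObj X] [IsProper X.hom] [Flat X.hom] [GeometricallyIntegral X.hom]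
    (L : X.left.Modules) (hL : PicF.IsInvertible L) (n : ℤ) :
    Nonempty (CohB1.tensorMod ((Scheme.Modules.pullback (𝟙 X ^ n).left).obj L)
        ((Scheme.Modules.pullback X.hom).obj (CohB1.tensorPow ((Scheme.Modules.pullback (η[X]).left).obj L) (n.natAbs ^ 2))) ≅
      CohB1.tensorMod (CohB1.tensorMod (CohB1.tensorPow L ((n ^ 2 + n) / 2).toNat)
          ((Scheme.Modules.pullback (𝟙 X ^ (-1 : ℤ)).left).obj (CohB1.tensorPow L ((n ^ 2 - n) / 2).toNat)))
        ((Scheme.Modules.pullback X.hom).obj ((Scheme.Modules.pullback (η[X]).left).obj L))) := by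
  refine iso_of_eq hL _ _ _ _ _ _ _ ?_
  generalize Groth.Agent.PicLib.cls hL = a
  erw [← Groth.Agent.CubeBaseLib.pull_one_eq (V := X) a]
  rw [ zpow_neg, zpow_one]
  have key := Groth.Agent.CubeBaseLib.pow_pull a n.natAbs
  have hc : ∀ m : ℕ, (m + 1).choose 2 = m + m.choose 2 := fun m => by
    rw [Nat.choose_succ_succ' m 1, Nat.choose_one_right]
  have two : ∀ m : ℕ, 2 * (m.choose 2 : ℤ) + m = (m : ℤ) ^ 2 := by
    intro m
    induction m with
    | zero => simp
    | succ k ih => rw [hc]; push_cast; linear_combination ih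
  have h2 := two n.natAbs
  rw [Int.natAbs_sq] at h2
  rcases Int.natAbs_eq n with hn | hn
  · have e1 : ((n ^ 2 + n) / 2).toNat = (n.natAbs + 1).choose 2 := by rw [hc]; omega
    have e2 : ((n ^ 2 - n) / 2).toNat = n.natAbs.choose 2 := by omega
    rw [e1, e2]
    rw [show 𝟙 X ^ n = 𝟙 X ^ n.natAbs by conv_lhs => rw [hn, zpow_natCast]]
    exact key
  · have e1 : ((n ^ 2 + n) / 2).toNat = n.natAbs.choose 2 := by omega
    have e2 : ((n ^ 2 - n) / 2).toNat = (n.natAbs + 1).choose 2 := by rw [hc]; omega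
    rw [e1, e2]
    rw [show 𝟙 X ^ n = (𝟙 X ^ n.natAbs)⁻¹ by conv_lhs => rw [hn, zpow_neg, zpow_natCast]]
    have h1 := congrArg (Groth.Agent.PicLib.pull (𝟙 X)⁻¹.left) key
    simp only [map_mul, map_pow, Groth.Agent.CubeBaseLib.pull_left_comp, MonObj.comp_pow, GrpObj.comp_inv,
      MonObj.comp_one, Category.comp_id, _root_.inv_inv, inv_pow] at h1
    rw [show Groth.Agent.PicLib.pull (𝟙 X : X ⟶ X).left a = a from Groth.Agent.PicLib.pull_id a] at h1
    rw [h1, _root_.mul_comm (a ^ _) _]

end Groth.Agent.S14674
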