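import Groth.Statements.S14675
import Groth.Agent.HilbCurveLib.Split
-- import your own Groth.Agent.* helpers here

set_option autoImplicit false
universe u
open CategoryTheory CategoryTheory.Limits AlgebraicGeometry
open HilbD

namespace Groth.Agent.S14675

/-- Let S be a locally Noetherian scheme, f : C ⟶ S proper and smooth of relative dimension 1, d ≥ 0,
and D the closed subscheme of C defined by a quasi-coherent ideal sheaf I, with D ⟶ S finite locally
free of degree d (an effective relative Cartier divisor of constant degree d). Then D becomes a sum
of d sections after an fppf base change: there are b : S' ⟶ S flat, surjective and locally of finite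
presentation and sections σ_1, …, σ_d of the projection C ×_S S' ⟶ S' such that the ideal sheaf of D
×_S S' ⊆ C ×_S S' (the kernel ideal of the base change of D ⟶ C) is the product of the kernel ideal
sheaves of the σ_i. (The published statement is for a flat projective family whose geometric fibres
are connected regular curves; this row assumes properness and smoothness of relative dimension 1,
which is what the proof uses.) -/
theorem result {C S : Scheme.{u}} [IsLocallyNoetherian S]
    (f : C ⟶ S) [IsProper f] [SmoothOfRelativeDimension 1 f] (d : ℕ) (I : C.IdealSheafData)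
    (hD : Mor2.IsFinLocFreeOfDeg d (I.subschemeι ≫ f)) :
    ∃ (S' : Scheme.{u}) (b : S' ⟶ S), Flat b ∧ Surjective b ∧ LocallyOfFinitePresentation b ∧
      ∃ σ : Fin d → (S' ⟶ pullback f b), (∀ i, σ i ≫ pullback.snd f b = 𝟙 S') ∧
        (pullback.snd I.subschemeι (pullback.fst f b)).ker = ∏ i, (σ i).ker := by
  haveI : IsSeparated f := inferInstance
  obtain ⟨S', C', b, p, f', sq, hb1, hb2, hb3, σ, hσ, hI⟩ := HilbCurveLib.exists_split d f I hD
  refine ⟨S', b, hb1, hb2, hb3, fun i => σ i ≫ sq.isoPullback.hom, fun i => by
    rw [Category.assoc, sq.isoPullback_hom_snd, hσ], ?_⟩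
  have h1 : (pullback.snd I.subschemeι (pullback.fst f b)).ker = I.comap (pullback.fst f b) := by
    rw [← pullbackSymmetry_hom_comp_fst, Scheme.Hom.ker_comp_of_isIso]
    rfl
  have h2 : ∀ J : C'.IdealSheafData, J = (J.comap sq.isoPullback.inv).comap sq.isoPullback.hom := fun J => by
    rw [← Scheme.IdealSheafData.comap_comp, Iso.hom_inv_id, Scheme.IdealSheafData.comap_id]
  rw [h1, show pullback.fst f b = sq.isoPullback.inv ≫ p by rw [sq.isoPullback_inv_fst],
    Scheme.IdealSheafData.comap_comp, hI]
  have h3 : ∀ i, (σ i ≫ sq.isoPullback.hom).ker = (σ i).ker.comap sq.isoPullback.inv := fun i => by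
    haveI : IsSeparated f' := MorphismProperty.of_isPullback sq inferInstance
    haveI := (HilbCurveLib.deg_section f' (σ i) (hσ i)).1
    exact HilbCurveLib.ker_of_isPullback (b := 𝟙 S') (IsPullback.of_vert_isIso ⟨by simp⟩)
  simp only [h3]
  induction (Finset.univ : Finset (Fin d)) using Finset.induction_on with
  | empty => rw [Finset.prod_empty, Finset.prod_empty]; exact Scheme.IdealSheafData.comap_top _
  | insert a s ha ih => rw [Finset.prod_insert ha, Finset.prod_insert ha, BlowCompLib.comap_mul, ih]

end Groth.Agent.S14675
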