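import Groth.Statements.S14676
import Mathlib

set_option autoImplicit false
universe u
open CAlg

namespace Groth.Agent.S14676

/-- Let A be a commutative ring which is separated and complete for the I-adic topology of an ideal I,
let P be any polynomial over A (not assumed monic) and a₀ an element of A such that P(a₀) lies in I
and P'(a₀) is a unit modulo I. Then there is a unique a in A congruent to a₀ modulo I with P(a) = 0. -/
theorem result (A : Type u) [CommRing A] (I : Ideal A) [IsAdicComplete I A]
    (P : Polynomial A) (a₀ : A) (h₀ : P.eval a₀ ∈ I)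
    (h₁ : IsUnit (Ideal.Quotient.mk I (P.derivative.eval a₀))) :
    ∃! a : A, a - a₀ ∈ I ∧ P.IsRoot a := by
  obtain ⟨v, hv⟩ := Ideal.Quotient.mk_surjective (↑(h₁.unit⁻¹) : A ⧸ I)
  have hv' : 1 - P.derivative.eval a₀ * v ∈ I := by
    rw [← Ideal.Quotient.eq_zero_iff_mem, map_sub, map_mul, map_one, hv, IsUnit.mul_val_inv, sub_self]
  let seq : ℕ → A := fun n => (fun a => a - P.eval a * v)^[n] a₀
  have hs : ∀ n, seq (n+1) = seq n - P.eval (seq n) * v := fun n => Function.iterate_succ_apply' _ _ _
  have hder : ∀ a, a - a₀ ∈ I → 1 - P.derivative.eval a * v ∈ I := by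
    intro a ha
    obtain ⟨z, hz⟩ := P.derivative.evalSubFactor a a₀
    rw [show 1 - P.derivative.eval a * v = (1 - P.derivative.eval a₀ * v) - (P.derivative.eval a - P.derivative.eval a₀) * v by ring, hz]
    exact sub_mem hv' (Ideal.mul_mem_right _ _ (Ideal.mul_mem_left _ _ ha))
  have key : ∀ n, seq n - a₀ ∈ I ∧ P.eval (seq n) ∈ I ^ (n+1) := by
    intro n; induction n with
    | zero => exact ⟨by simp [seq], by simpa [seq] using h₀⟩
    | succ n ih =>
      obtain ⟨h1, h2⟩ := ih
      have hI : P.eval (seq n) ∈ I := Ideal.pow_le_self (by omega) h2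
      refine ⟨by rw [hs, sub_right_comm]; exact sub_mem h1 (Ideal.mul_mem_right _ _ hI), ?_⟩
      obtain ⟨z, hz⟩ := P.binomExpansion (seq n) (-(P.eval (seq n) * v))
      rw [hs, sub_eq_add_neg, hz, show P.eval (seq n) + P.derivative.eval (seq n) * -(P.eval (seq n) * v) + z * (-(P.eval (seq n) * v)) ^ 2
        = P.eval (seq n) * (1 - P.derivative.eval (seq n) * v) + P.eval (seq n) * P.eval (seq n) * (z * v ^ 2) by ring, pow_succ I (n+1)]
      exact add_mem (Ideal.mul_mem_mul h2 (hder _ h1)) (Ideal.mul_mem_right _ _ (Ideal.mul_mem_mul h2 hI))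
  obtain ⟨a, ha⟩ := IsPrecomplete.prec (I := I) (M := A) inferInstance (f := seq) (fun {m n} h => by
    rw [SModEq.sub_mem, smul_eq_mul, Ideal.mul_top]
    induction n, h using Nat.le_induction with
    | base => simp
    | succ n hn ih =>
      rw [hs, ← sub_add]
      exact add_mem ih (Ideal.mul_mem_right _ _ (Ideal.pow_le_pow_right (by omega) (key n).2)))
  have ha' : ∀ n, seq n - a ∈ I ^ n := fun n => by simpa [SModEq.sub_mem] using ha n
  have haI : a - a₀ ∈ I := by
    have h1 := ha' 1; rw [pow_one] at h1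
    rw [show a - a₀ = (seq 1 - a₀) - (seq 1 - a) by ring]
    exact sub_mem (key 1).1 h1
  have hroot : P.eval a = 0 := by
    refine IsHausdorff.haus (I := I) inferInstance _ fun n => ?_
    rw [SModEq.zero, smul_eq_mul, Ideal.mul_top]
    obtain ⟨z, hz⟩ := P.evalSubFactor (seq n) a
    rw [show P.eval a = P.eval (seq n) - (P.eval (seq n) - P.eval a) by ring, hz]
    exact sub_mem (Ideal.pow_le_pow_right (by omega) (key n).2) (Ideal.mul_mem_left _ _ (ha' n))
  refine ⟨a, ⟨haI, hroot⟩, fun b ⟨hbI, hb⟩ => ?_⟩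
  obtain ⟨z, hz⟩ := P.binomExpansion a (b - a)
  rw [add_sub_cancel, hb.eq_zero, hroot, zero_add] at hz
  have hu : IsUnit (P.derivative.eval a + z * (b - a)) := by
    have hj : 1 - (P.derivative.eval a + z * (b - a)) * v ∈ (⊥ : Ideal A).jacobson := by
      refine IsAdicComplete.le_jacobson_bot I ?_
      rw [show 1 - (P.derivative.eval a + z * (b - a)) * v = (1 - P.derivative.eval a * v) - z * ((b - a₀) - (a - a₀)) * v by ring]
      exact sub_mem (hder a haI) (Ideal.mul_mem_right _ _ (Ideal.mul_mem_left _ _ (sub_mem hbI haI)))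
    have := Ideal.mem_jacobson_bot.mp (neg_mem hj) 1
    rw [show (-(1 - (P.derivative.eval a + z * (b - a)) * v)) * 1 + 1 = (P.derivative.eval a + z * (b - a)) * v by ring] at this
    exact isUnit_of_mul_isUnit_left this
  exact sub_eq_zero.mp ((hu.mul_right_eq_zero).mp (by linear_combination -hz))

end Groth.Agent.S14676
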