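import Groth.Statements.S14677
import Mathlib

set_option autoImplicit false
universe u
open CAlg

namespace Groth.Agent.S14677

/-- Let A be a Noetherian commutative ring, I and J ideals of A and M a finitely generated A-module.
Then the map of I-adic completions induced by the inclusion of the submodule JM into M is injective
with image exactly J·M̂, where M̂ is the I-adic completion of M; that is, the completion of JM is J
times the completion of M. (The published statement does not say that A is Noetherian; its proof
uses exactness of completion on finitely generated modules, which needs it, so this row assumes A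
Noetherian.) -/
theorem result (A : Type u) [CommRing A] [IsNoetherianRing A] (I J : Ideal A)
    (M : Type u) [AddCommGroup M] [Module A M] [Module.Finite A M] :
    Function.Injective (AdicCompletion.map I (J • (⊤ : Submodule A M)).subtype) ∧
      LinearMap.range (AdicCompletion.map I (J • (⊤ : Submodule A M)).subtype) =
        (J.map (algebraMap A (AdicCompletion I A))) • (⊤ : Submodule (AdicCompletion I A) (AdicCompletion I M)) := by
  refine ⟨AdicCompletion.map_injective I (Submodule.injective_subtype _), le_antisymm ?_ ?_⟩
  · rintro _ ⟨x, rfl⟩
    obtain ⟨t, rfl⟩ := AdicCompletion.ofTensorProduct_surjective_of_finite I _ x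
    induction t with
    | zero => simp
    | tmul r i =>
      rw [AdicCompletion.ofTensorProduct_tmul, map_smul, AdicCompletion.map_of]
      refine Submodule.smul_mem _ _ ?_
      refine Submodule.smul_induction_on (p := fun y => AdicCompletion.of I M y ∈ (J.map (algebraMap A (AdicCompletion I A))) • (⊤ : Submodule (AdicCompletion I A) (AdicCompletion I M))) i.2 (fun a ha m _ => ?_) (fun a b ha hb => by rw [map_add]; exact add_mem ha hb)
      rw [map_smul, ← algebraMap_smul (AdicCompletion I A) a]
      exact Submodule.smul_mem_smul (Ideal.mem_map_of_mem _ ha) Submodule.mem_top
    | add a b ha hb => rw [map_add, map_add]; exact add_mem ha hb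
  · rw [Submodule.smul_le]
    intro r hr z hz
    clear hz
    have hr' : r ∈ Ideal.span (algebraMap A (AdicCompletion I A) '' (J : Set A)) := hr
    induction hr' using Submodule.span_induction with
    | mem x hx =>
      obtain ⟨a, ha, rfl⟩ := hx
      rw [algebraMap_smul]
      obtain ⟨t, rfl⟩ := AdicCompletion.ofTensorProduct_surjective_of_finite I M z
      induction t with
      | zero => simp
      | tmul r m =>
        rw [AdicCompletion.ofTensorProduct_tmul, smul_comm, ← map_smul]
        refine Submodule.smul_mem _ _ ⟨AdicCompletion.of I _ ⟨a • m, Submodule.smul_mem_smul ha Submodule.mem_top⟩, ?_⟩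
        rw [AdicCompletion.map_of]; rfl
      | add u v hu hv => rw [map_add, smul_add]; exact add_mem hu hv
    | zero => rw [zero_smul]; exact zero_mem _
    | add x y hx hy ihx ihy => rw [add_smul]; exact add_mem (ihx hx) (ihy hy)
    | smul c x hx ih => rw [smul_assoc]; exact Submodule.smul_mem _ _ (ih hx)

end Groth.Agent.S14677
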