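import Groth.Statements.S6381
import Mathlib
import Groth.Agent.ResLiftLib.Basic

set_option autoImplicit false
universe u
open CAlg

namespace Groth.Agent.S6381

/-- Let R be a ring, p ⊆ R a prime and L a finite extension of the residue field κ(p). Then one can find
a ring map R → S, with S finite free over R, for which q = pS is a prime of S and the residue field
κ(q) is isomorphic to L over κ(p) (stated as a ring isomorphism κ(q) ≅ L compatible with the maps
from R, which determines compatibility with κ(p)). -/
theorem result (R : Type u) [CommRing R] (p : Ideal R) [p.IsPrime]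
    (L : Type u) [Field L] [Algebra p.ResidueField L] [FiniteDimensional p.ResidueField L]
    [Algebra R L] [IsScalarTower R p.ResidueField L] :
    ∃ (S : Type u) (_ : CommRing S) (_ : Algebra R S) (_ : Module.Finite R S) (_ : Module.Free R S)
      (_ : (p.map (algebraMap R S)).IsPrime)
      (e : (p.map (algebraMap R S)).ResidueField ≃+* L),
      ∀ r : R, e (algebraMap R (p.map (algebraMap R S)).ResidueField r) = algebraMap R L r := by
  have hker : RingHom.ker (algebraMap R L) = p := by
    rw [IsScalarTower.algebraMap_eq R p.ResidueField L,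
      RingHom.ker_comp_of_injective _ (algebraMap p.ResidueField L).injective, Ideal.ker_algebraMap_residueField]
  have hgen : ∀ x : p.ResidueField, algebraMap p.ResidueField L x ∈ Groth.Agent.ResLiftLib.genField (algebraMap R L) := fun x => by
    obtain ⟨a, b, -, rfl⟩ := IsFractionRing.div_surjective (A := R ⧸ p) x
    obtain ⟨a, rfl⟩ := Ideal.Quotient.mk_surjective a
    obtain ⟨b, rfl⟩ := Ideal.Quotient.mk_surjective b
    rw [map_div₀]
    exact div_mem (Subfield.subset_closure ⟨a, IsScalarTower.algebraMap_apply R p.ResidueField L a⟩)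
      (Subfield.subset_closure ⟨b, IsScalarTower.algebraMap_apply R p.ResidueField L b⟩)
  have hfin : Module.Finite (Groth.Agent.ResLiftLib.genField (algebraMap R L)) L := by
    let := ((algebraMap p.ResidueField L).codRestrict _ hgen).toAlgebra
    have : IsScalarTower p.ResidueField (Groth.Agent.ResLiftLib.genField (algebraMap R L)) L :=
      IsScalarTower.of_algebraMap_eq fun _ => rfl
    exact Module.Finite.of_restrictScalars_finite p.ResidueField _ _
  obtain ⟨S, i1, i2, i3, i4, ψ, hψ, htop⟩ := Groth.Agent.ResLiftLib.exists_finite_free p hker hfin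
  have hprime : (p.map (algebraMap R S)).IsPrime := hψ ▸ RingHom.ker_isPrime _
  let g : (p.map (algebraMap R S)).ResidueField →+* L :=
    Ideal.ResidueField.lift _ ψ.toRingHom hψ.ge (fun x hx => isUnit_iff_ne_zero.2 fun hx0 => hx (hψ.le hx0))
  have hg : ∀ a : S, g (algebraMap S _ a) = ψ a := fun a => Ideal.ResidueField.lift_algebraMap _ _ _ _ a
  refine ⟨S, i1, i2, i3, i4, hprime, RingEquiv.ofBijective g ⟨g.injective, fun y => ?_⟩, fun r => ?_⟩
  · have hy : y ∈ Groth.Agent.ResLiftLib.genField ψ.toRingHom := htop ▸ Subfield.mem_top y
    obtain ⟨a, b, -, rfl⟩ := Groth.Agent.ResLiftLib.exists_div _ hy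
    exact ⟨algebraMap S _ a / algebraMap S _ b, by rw [map_div₀, hg, hg]; rfl⟩
  · show g _ = _
    rw [IsScalarTower.algebraMap_apply R S (p.map (algebraMap R S)).ResidueField, hg, ψ.commutes]

end Groth.Agent.S6381
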