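import Groth.Statements.S14678
import Mathlib
import Groth.Agent.S6381

set_option backward.isDefEq.respectTransparency false
set_option autoImplicit false
universe u
open CategoryTheory CategoryTheory.Limits AlgebraicGeometry
open EtBase

namespace Groth.Agent.S14678

/-- Let S be a scheme, s a point of S and ℓ a finite field extension of the residue field κ(s). Then,
fppf-locally around s, ℓ occurs as a residue field: there are an affine scheme U', a flat morphism b
: U' ⟶ S locally of finite presentation (so with open image containing s) and a morphism t : Spec ℓ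
⟶ U' over the canonical morphism Spec ℓ ⟶ Spec κ(s) ⟶ S which is a preimmersion, i.e. the inclusion
of a point s' of U' above s together with an identification of κ(s') with ℓ over κ(s); such a point
is closed in its fibre over s. (The published statement gives an affine open neighbourhood U of s
and an fppf morphism U' ⟶ U; this row asks only for a flat, locally finitely presented U' ⟶ S, whose
open image then contains s.) -/
theorem result (S : Scheme.{u}) (s : ↥S)
    (ℓ : Type u) [Field ℓ] [Algebra (S.residueField s) ℓ] [Module.Finite (S.residueField s) ℓ] :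
    ∃ (U' : Scheme.{u}) (b : U' ⟶ S) (t : Spec (CommRingCat.of ℓ) ⟶ U'),
      IsAffine U' ∧ Flat b ∧ LocallyOfFinitePresentation b ∧ IsPreimmersion t ∧
        t ≫ b = Spec.map (CommRingCat.ofHom (algebraMap (S.residueField s) ℓ)) ≫ S.fromSpecResidueField s := by
  obtain ⟨U, hU, hs, -⟩ := S.isBasis_affineOpens.exists_subset_of_mem_open (Set.mem_univ s) isOpen_univ |>
    fun ⟨_, ⟨U, hU, rfl⟩, h1, _⟩ => (⟨U, hU, h1, trivial⟩ : ∃ U : S.Opens, IsAffineOpen U ∧ s ∈ U ∧ True)
  set R := Γ(S, U) with hR
  let x : Spec R := hU.primeIdealOf ⟨s, hs⟩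
  have hx : hU.fromSpec x = s := hU.fromSpec_primeIdealOf ⟨s, hs⟩
  haveI : IsIso (hU.fromSpec.residueFieldMap x) := inferInstance
  let α : S.residueField s ⟶ CommRingCat.of x.asIdeal.ResidueField :=
    (S.residueFieldCongr hx.symm).hom ≫ hU.fromSpec.residueFieldMap x ≫ (Scheme.Spec.residueFieldIso _ _).hom
  have hα : Spec.map α ≫ S.fromSpecResidueField s =
      Spec.map (CommRingCat.ofHom (algebraMap R x.asIdeal.ResidueField)) ≫ hU.fromSpec := by
    simp only [α, Spec.map_comp, Category.assoc, Scheme.residueFieldCongr_fromSpecResidueField,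
      Scheme.Hom.SpecMap_residueFieldMap_fromSpecResidueField]
    rw [← Scheme.Spec.map_residueFieldIso_inv_eq_fromSpecResidueField, ← Category.assoc, ← Category.assoc,
      ← Spec.map_comp, Iso.inv_hom_id, Spec.map_id, Category.id_comp]
  haveI : IsIso α := inferInstance
  let γ : x.asIdeal.ResidueField →+* ℓ := (algebraMap (S.residueField s) ℓ).comp (inv α).hom
  letI : Algebra x.asIdeal.ResidueField ℓ := γ.toAlgebra
  letI : Algebra R ℓ := (γ.comp (algebraMap R x.asIdeal.ResidueField)).toAlgebra
  haveI : IsScalarTower R x.asIdeal.ResidueField ℓ := IsScalarTower.of_algebraMap_eq fun _ => rfl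
  haveI : FiniteDimensional x.asIdeal.ResidueField ℓ :=
    (RingHom.Finite.comp (RingHom.finite_algebraMap.2 inferInstance)
      (RingHom.Finite.of_surjective _ (ConcreteCategory.bijective_of_isIso (inv α)).2) : γ.Finite)
  obtain ⟨S', i1, i2, i3, i4, i5, e, he⟩ := Groth.Agent.S6381.result R x.asIdeal ℓ
  set q : Ideal S' := x.asIdeal.map (algebraMap R S') with hq
  refine ⟨Spec (CommRingCat.of S'), Spec.map (CommRingCat.ofHom (algebraMap R S')) ≫ hU.fromSpec,
    Spec.map (CommRingCat.ofHom e.toRingHom) ≫
      Spec.map (CommRingCat.ofHom (algebraMap S' q.ResidueField)), inferInstance, ?_, ?_, ?_, ?_⟩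
  · haveI : Flat (Spec.map (CommRingCat.ofHom (algebraMap R S'))) := by
      rw [HasRingHomProperty.Spec_iff (P := @Flat)]
      exact RingHom.flat_algebraMap_iff.2 inferInstance
    infer_instance
  · haveI : LocallyOfFinitePresentation (Spec.map (CommRingCat.ofHom (algebraMap R S'))) := by
      rw [HasRingHomProperty.Spec_iff (P := @LocallyOfFinitePresentation)]
      haveI := Module.finitePresentation_of_projective R S'
      exact RingHom.finitePresentation_algebraMap.2 inferInstance
    infer_instance
  · haveI : IsIso (CommRingCat.ofHom e.toRingHom) := e.toCommRingCatIso.isIso_hom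
    haveI h1 : IsPreimmersion (Spec.map (CommRingCat.ofHom (algebraMap S' q.ResidueField))) := by
      have h := Scheme.Spec.map_residueFieldIso_inv_eq_fromSpecResidueField (R := CommRingCat.of S')
        (⟨q, i5⟩ : PrimeSpectrum S')
      have h2 : Spec.map (CommRingCat.ofHom (algebraMap S' q.ResidueField)) =
          Spec.map (Scheme.Spec.residueFieldIso (CommRingCat.of S') ⟨q, i5⟩).hom ≫
            (Spec (CommRingCat.of S')).fromSpecResidueField ⟨q, i5⟩ := by
        rw [← h, ← Category.assoc, ← Spec.map_comp, Iso.inv_hom_id, Spec.map_id, Category.id_comp]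
      rw [h2]
      infer_instance
    infer_instance
  · have h1 : CommRingCat.ofHom (algebraMap R S') ≫ CommRingCat.ofHom (algebraMap S' q.ResidueField) ≫
        CommRingCat.ofHom e.toRingHom =
        CommRingCat.ofHom (algebraMap R x.asIdeal.ResidueField) ≫ inv α ≫
          CommRingCat.ofHom (algebraMap (S.residueField s) ℓ) := by
      ext r
      exact (congrArg e (IsScalarTower.algebraMap_apply R S' q.ResidueField r).symm).trans (he r)
    rw [Category.assoc, ← Spec.map_comp_assoc, ← Spec.map_comp_assoc, h1, Spec.map_comp, Spec.map_comp,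
      Category.assoc, Category.assoc, ← hα, ← Spec.map_comp_assoc, ← Spec.map_comp_assoc, IsIso.hom_inv_id_assoc]

end Groth.Agent.S14678
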