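import Groth.Statements.S14679
import Mathlib

set_option autoImplicit false
set_option backward.isDefEq.respectTransparency false
universe u
open CategoryTheory CategoryTheory.Limits AlgebraicGeometry
open EtBase

namespace Groth.Agent.S14679

/-- Given a morphism of schemes f : X ⟶ Y and a point x ∈ X with image y = f(x), such that the residue
field map κ(y) → κ(x) is bijective; let ℓ be an algebraic extension field of κ(y) and form the base
change X ×_Y Spec ℓ along Spec ℓ ⟶ Spec κ(y) ⟶ Y. Then there is exactly one point of X ×_Y Spec ℓ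
mapping to x under the first projection. (The published statement takes ℓ to be an algebraic closure
of κ(y), noting that any algebraic extension works, and also identifies the local ring at the point
with O_{X,x} ⊗_{O_{Y,y}} ℓ; this row allows any algebraic extension ℓ and states only the first
assertion.) -/
theorem result {X Y : Scheme.{u}} (f : X ⟶ Y) (x : ↥X)
    (hx : Function.Bijective (f.residueFieldMap x).hom)
    (ℓ : Type u) [Field ℓ] [Algebra (Y.residueField (f.base x)) ℓ] [Algebra.IsAlgebraic (Y.residueField (f.base x)) ℓ] :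
    ∃! z : ↥(pullback f (Spec.map (CommRingCat.ofHom (algebraMap (Y.residueField (f.base x)) ℓ)) ≫ Y.fromSpecResidueField (f.base x))),
      (pullback.fst f (Spec.map (CommRingCat.ofHom (algebraMap (Y.residueField (f.base x)) ℓ)) ≫ Y.fromSpecResidueField (f.base x))).base z = x := by
  let y := f x
  let a : Spec (CommRingCat.of ℓ) ⟶ Spec (Y.residueField y) :=
    Spec.map (CommRingCat.ofHom (algebraMap (Y.residueField (f.base x)) ℓ))
  let m : Spec (Y.residueField y) ⟶ Y := Y.fromSpecResidueField y
  let g := Limits.pullback.fst f (a ≫ m)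
  let α : Spec (X.residueField x) ⟶ Spec (Y.residueField y) := Spec.map (f.residueFieldMap x)
  haveI : IsIso (f.residueFieldMap x) := (ConcreteCategory.isIso_iff_bijective _).2 hx
  have hc : X.fromSpecResidueField x ≫ f = α ≫ m :=
    (Scheme.Hom.SpecMap_residueFieldMap_fromSpecResidueField f x).symm
  have sq : IsPullback (g.fiberToSpecResidueField x) (g.fiberι x ≫ Limits.pullback.snd f (a ≫ m))
      (α ≫ m) (a ≫ m) := by
    rw [← hc]
    exact ((IsPullback.of_hasPullback g (X.fromSpecResidueField x)).paste_horiz
      (IsPullback.of_hasPullback f (a ≫ m)).flip).flip.flip.flip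
  obtain ⟨pt⟩ := (inferInstance : Nonempty (Spec (CommRingCat.of ℓ)))
  let s : Spec (CommRingCat.of ℓ) ⟶ g.fiber x := sq.lift (a ≫ inv α) (𝟙 _) (by simp)
  have hs : (g.fiberι x ≫ Limits.pullback.snd f (a ≫ m)) ≫ s = 𝟙 _ := by
    refine sq.hom_ext ?_ ?_
    · rw [Category.assoc, sq.lift_fst, Category.id_comp]
      rw [← cancel_mono α]
      simp only [Category.assoc, IsIso.inv_hom_id, Category.comp_id]
      rw [← cancel_mono m]
      simpa only [Category.assoc] using sq.w.symm
    · rw [Category.assoc, sq.lift_snd, Category.comp_id, Category.id_comp]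
  have hsub : ∀ c : g.fiber x, c = s pt := fun c => by
    have := congrArg (fun h => h c) hs
    simp only [Scheme.Hom.comp_apply] at this
    refine this.symm.trans ?_
    rw [Subsingleton.elim ((Limits.pullback.snd f (a ≫ m)) (g.fiberι x c)) pt]
  have hrange : ∀ z, g z = x ↔ ∃ c, g.fiberι x c = z := fun z => by
    show z ∈ g ⁻¹' {x} ↔ z ∈ Set.range (g.fiberι x)
    rw [Scheme.Hom.range_fiberι]
  refine ⟨g.fiberι x (s pt), (hrange _).2 ⟨_, rfl⟩, fun z hz => ?_⟩
  obtain ⟨c, rfl⟩ := (hrange z).1 hz
  rw [hsub c]

end Groth.Agent.S14679
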