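import Mathlib
import Mathlib
import Groth.Statements.S14680

set_option autoImplicit false
universe u
open CAlg

namespace Groth.Agent.S14680

/-- Let A be a Noetherian commutative ring and f : M' → M, g : M → M'' linear maps between finitely
generated A-modules. Then the sequence 0 → M' → M → M'' → 0 is exact — f injective, the image of f
equal to the kernel of g, g surjective — if and only if for every maximal ideal m of A the sequence
of m-adic completions 0 → M'^ → M^ → M''^ → 0 (maps induced by f and g) is exact in the same sense. -/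
theorem result (A : Type u) [CommRing A] [IsNoetherianRing A]
    (M' M M'' : Type u) [AddCommGroup M'] [Module A M'] [AddCommGroup M] [Module A M] [AddCommGroup M''] [Module A M'']
    [Module.Finite A M'] [Module.Finite A M] [Module.Finite A M''] (f : M' →ₗ[A] M) (g : M →ₗ[A] M'') :
    (Function.Injective f ∧ Function.Exact f g ∧ Function.Surjective g) ↔
      ∀ (m : Ideal A) [m.IsMaximal],
        Function.Injective (AdicCompletion.map m f) ∧ Function.Exact (AdicCompletion.map m f) (AdicCompletion.map m g) ∧
          Function.Surjective (AdicCompletion.map m g) := by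
  refine ⟨fun ⟨hi, he, hs⟩ m _ => ⟨AdicCompletion.map_injective m hi, AdicCompletion.map_exact hi he hs,
    AdicCompletion.map_surjective m hs⟩, fun h => ?_⟩
  have sep : ∀ (X : Type u) [AddCommGroup X] [Module A X] [Module.Finite A X] (x : X),
      (∀ m : Ideal A, m.IsMaximal → ∀ n : ℕ, x ∈ m ^ n • (⊤ : Submodule A X)) → x = 0 := by
    intro X _ _ _ x hx
    by_contra hne
    obtain ⟨m, hm, hle⟩ := Ideal.exists_le_maximal (LinearMap.ker (LinearMap.toSpanSingleton A X x))
      (fun hh => hne (by simpa using (LinearMap.mem_ker.mp (hh ▸ Submodule.mem_top : (1 : A) ∈ LinearMap.ker (LinearMap.toSpanSingleton A X x)))))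
    obtain ⟨⟨r, hr⟩, hrx⟩ := (Ideal.mem_iInf_smul_pow_eq_bot_iff m x).mp (Submodule.mem_iInf _ |>.mpr fun n => hx m hm n)
    have hrx' : r • x = x := hrx
    have h1 : 1 - r ∈ m := hle (LinearMap.mem_ker.mpr (by simp [sub_smul, hrx']))
    exact hm.ne_top (m.eq_top_iff_one.mpr (by simpa using m.add_mem h1 hr))
  have hof : ∀ (m : Ideal A) (X : Type u) [AddCommGroup X] [Module A X] (x : X),
      AdicCompletion.of m X x = 0 → ∀ n : ℕ, x ∈ m ^ n • (⊤ : Submodule A X) := fun m X _ _ x hx n => by
    have := congrArg (AdicCompletion.eval m X n) hx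
    rw [map_zero] at this
    exact (Submodule.Quotient.mk_eq_zero _).mp this
  have him : ∀ (m : Ideal A) (X Y : Type u) [AddCommGroup X] [Module A X] [AddCommGroup Y] [Module A Y]
      (φ : X →ₗ[A] Y) (y : Y), AdicCompletion.of m Y y ∈ Set.range (AdicCompletion.map m φ) →
      ∀ n : ℕ, Submodule.Quotient.mk (p := LinearMap.range φ) y ∈ m ^ n • (⊤ : Submodule A (Y ⧸ LinearMap.range φ)) := by
    intro m X Y _ _ _ _ φ y hy n
    obtain ⟨z, hz⟩ := hy
    revert hz
    apply AdicCompletion.induction_on m X z
    intro a ha
    have h1 : Submodule.Quotient.mk (φ (a n)) = (Submodule.Quotient.mk y : Y ⧸ (m ^ n • (⊤ : Submodule A Y))) :=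
      congrArg (AdicCompletion.eval m Y n) ha
    rw [Submodule.Quotient.eq] at h1
    have h2 := Submodule.mem_map_of_mem (f := (LinearMap.range φ).mkQ) h1
    rw [Submodule.map_smul'', Submodule.map_top, Submodule.range_mkQ, map_sub, Submodule.mkQ_apply, Submodule.mkQ_apply,
      (Submodule.Quotient.mk_eq_zero _).mpr (LinearMap.mem_range_self φ (a n)), zero_sub] at h2
    simpa using Submodule.neg_mem _ h2
  refine ⟨?_, ?_, ?_⟩
  · rw [injective_iff_map_eq_zero]
    intro x hx
    refine sep M' x fun m hm => hof m M' x ((h m).1 ?_)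
    rw [AdicCompletion.map_of, hx, map_zero, map_zero]
  · intro y
    constructor
    · intro hy
      have := sep _ (Submodule.Quotient.mk (p := LinearMap.range f) y) fun m hm => him m M' M f y ((h m).2.1 _ |>.mp (by
        rw [AdicCompletion.map_of, hy, map_zero]))
      exact (Submodule.Quotient.mk_eq_zero _).mp this
    · rintro ⟨x, rfl⟩
      refine sep M'' _ fun m hm => hof m M'' _ ?_
      rw [← AdicCompletion.map_of, ← AdicCompletion.map_of]
      exact (h m).2.1.apply_apply_eq_zero _
  · intro y
    have := sep _ (Submodule.Quotient.mk (p := LinearMap.range g) y) fun m hm => him m M M'' g y ((h m).2.2 _)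
    exact (Submodule.Quotient.mk_eq_zero _).mp this

end Groth.Agent.S14680
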