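import Groth.Statements.S14681
import Groth.Agent.AVLib.AmpleCrit
import Groth.Agent.AVLib.DivSection
-- import your own Groth.Agent.* helpers here

set_option autoImplicit false
universe u
open CategoryTheory CategoryTheory.Limits MonoidalCategory CartesianMonoidalCategory MonObj GrpObj AlgebraicGeometry
open AbVar

namespace Groth.Agent.S14681

/-- (b) ⇒ (e): let k be an algebraically closed field, A an abelian variety over k (a proper k-group
scheme whose structure morphism is geometrically integral), D an effective Cartier divisor on A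
given by its ideal sheaf I, and L an invertible O_A-module with L ⊗ I ≅ O_A (so L = O_A(D)). Suppose
the set of k-points a of A whose translation x ↦ x·a maps each irreducible component of the support
of D onto itself is finite. Then L is ample. -/
theorem result (k : Type u) [Field k] [IsAlgClosed k]
    (A : Over (Spec (CommRingCat.of k))) [GrpObj A] [IsProper A.hom] [GeometricallyIntegral A.hom]
    (I : A.left.IdealSheafData) (hI : BlowUp.IsEffCartierIdeal I)
    (L : A.left.Modules) (hL : PicF.IsInvertible L) (hLI : ClSub.IsInverseOf L (ClSub.idealMod I))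
    (hb : Set.Finite {a : (𝟙_ (Over (Spec (CommRingCat.of k)))) ⟶ A |
      ∀ Z ∈ irreducibleComponents ↥(I.support : Set ↥A.left),
        (fun x : ↥A.left => (𝟙 A * (toUnit A ≫ a)).left.base x) '' (Subtype.val '' Z) = Subtype.val '' Z}) :
    CohB1.IsAmple L := by
  haveI : Subsingleton ↥(Spec (CommRingCat.of k)) := inferInstanceAs (Subsingleton (PrimeSpectrum k))
  haveI : IsIntegral A.left := GeometricallyIntegral.isIntegral_of_subsingleton A.hom
  haveI : LocallyOfFiniteType A.hom := inferInstance
  haveI : IsLocallyNoetherian A.left := LocallyOfFiniteType.isLocallyNoetherian A.hom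
  haveI : CompactSpace A.left := QuasiCompact.compactSpace_of_compactSpace A.hom
  haveI : IsNoetherian A.left := { }
  haveI : JacobsonSpace A.left := LocallyOfFiniteType.jacobsonSpace A.hom
  let pt : ↥(Spec (CommRingCat.of k)) := IsLocalRing.closedPoint k
  let S : Set A.left := (I.support : Set A.left)
  have hS : IsClosed S := I.support.isClosed
  obtain ⟨σ, hσ⟩ := AVLib.exists_section_genLocus_compl hI hL hLI
  have hne : (CohB1.genLocus L σ : Set A.left).Nonempty := by
    rw [hσ]
    obtain ⟨U, hxU, f, hf, hfU⟩ := hI (Classical.arbitrary A.left)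
    haveI : Nonempty U.1 := ⟨⟨_, hxU⟩⟩
    have hb : A.left.basicOpen f ≠ ⊥ := fun h =>
      nonZeroDivisors.ne_zero hf ((basicOpen_eq_bot_iff f).1 h)
    obtain ⟨y, hy⟩ := TopologicalSpace.Opens.ne_bot_iff_nonempty _ |>.1 hb
    exact ⟨y, ((AVLib.inter_compl_support U hfU).ge hy).1⟩
  refine AVLib.isAmple_of_effective hL σ hne ?_
  rw [hσ]
  -- a point in the set preserves the support
  have hkey : ∀ d : (𝟙_ (Over (Spec (CommRingCat.of k))) ⟶ A),
      (∀ b : (𝟙_ (Over (Spec (CommRingCat.of k))) ⟶ A), b.left pt ∈ I.support.compl ↔ (b * d).left pt ∈ I.support.compl) →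
      (AVLib.trR d).left '' S = S := by
    intro d hd
    have e : ∀ b : (𝟙_ (Over (Spec (CommRingCat.of k))) ⟶ A), (AVLib.trR d).left (b.left pt) = (b * d).left pt := fun b => by
      have e1 : b ≫ AVLib.trR d = b * d := by
        rw [AVLib.comp_trR, toUnit_unique (toUnit _) (𝟙 _), Category.id_comp]
      rw [← e1]
      rfl
    let h := (AVLib.trR d).left.homeomorph
    have hc : h '' (S ∩ closedPoints A.left) = S ∩ closedPoints A.left := by
      ext z
      constructor
      · rintro ⟨y, ⟨hy, hyc⟩, rfl⟩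
        obtain ⟨b, rfl⟩ := AVLib.exists_ratPt (Z := A) hyc
        refine ⟨?_, ?_⟩
        · change (AVLib.trR d).left (b.left pt) ∈ S
          rw [e]
          exact not_not.1 (mt (hd b).2 (not_not.2 hy))
        · rw [mem_closedPoints_iff] at hyc ⊢
          simpa using h.isClosedMap _ hyc
      · rintro ⟨hz, hzc⟩
        have hyc : h.symm z ∈ closedPoints A.left := by
          rw [mem_closedPoints_iff] at hzc ⊢
          simpa using h.symm.isClosedMap _ hzc
        refine ⟨h.symm z, ⟨?_, hyc⟩, h.apply_symm_apply z⟩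
        obtain ⟨b, hb⟩ := AVLib.exists_ratPt (Z := A) hyc
        rw [← hb]
        refine not_not.1 (mt (hd b).1 (not_not.2 ?_))
        rw [← e, hb]
        show h (h.symm z) ∈ S
        rwa [h.apply_symm_apply]
    have h1 := h.image_closure (S ∩ closedPoints A.left)
    rw [JacobsonSpace.closure_inter_closedPoints_eq_closure hS.isLocallyClosed, hS.closure_eq, hc,
      JacobsonSpace.closure_inter_closedPoints_eq_closure hS.isLocallyClosed, hS.closure_eq] at h1
    exact h1
  haveI : Finite (irreducibleComponents ↥S) := TopologicalSpace.NoetherianSpace.finite_irreducibleComponents.to_subtype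
  let Ψ : (𝟙_ (Over (Spec (CommRingCat.of k))) ⟶ A) → irreducibleComponents ↥S → Set A.left :=
    fun d Z => (AVLib.trR d).left '' (Subtype.val '' (Z : Set ↥S))
  refine Set.Finite.of_finite_fibers Ψ ((Set.Finite.pi fun _ : irreducibleComponents ↥S =>
    (Set.finite_range fun Z : irreducibleComponents ↥S => Subtype.val '' (Z : Set ↥S))).subset ?_) ?_
  · rintro _ ⟨d, hd, rfl⟩
    intro Z _
    let e : ↥S ≃ₜ ↥S := ((AVLib.trR d).left.homeomorph.image S).trans (Homeomorph.setCongr (hkey d hd.1))
    refine ⟨⟨e '' (Z : Set ↥S), ⟨Z.2.1.image _ e.continuous.continuousOn, fun W hW hle => ?_⟩⟩, ?_⟩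
    · have h2 := Z.2.2 (hW.image _ e.symm.continuous.continuousOn) fun z hz => ⟨e z, hle ⟨z, hz, rfl⟩, e.symm_apply_apply z⟩
      intro w hw
      exact ⟨e.symm w, h2 ⟨w, hw, rfl⟩, e.apply_symm_apply w⟩
    · show Subtype.val '' (e '' (Z : Set ↥S)) = _
      simp only [Ψ, Set.image_image]
      rfl
  · intro ψ hψ
    obtain ⟨d₀, hd₀, rfl⟩ := hψ
    haveI := AVLib.isCommMonObj (A := A)
    letI : CommGroup (𝟙_ (Over (Spec (CommRingCat.of k))) ⟶ A) := Hom.commGroup
    refine ((hb.image fun a => a * d₀).subset fun d hd => ?_)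
    have hd2 : Ψ d = Ψ d₀ := hd.2
    refine ⟨d * d₀⁻¹, fun Z hZ => ?_, inv_mul_cancel_right d d₀⟩
    have h3 : (AVLib.trR d).left '' (Subtype.val '' Z) = (AVLib.trR d₀).left '' (Subtype.val '' Z) :=
      congrFun hd2 ⟨Z, hZ⟩
    have h4 : AVLib.trR d ≫ AVLib.trR d₀⁻¹ = AVLib.trR (d * d₀⁻¹) := by
      rw [AVLib.comp_trR, AVLib.trR, AVLib.trR, MonObj.comp_mul, _root_.mul_assoc]
    have h5 : AVLib.trR d₀ ≫ AVLib.trR d₀⁻¹ = 𝟙 A := by
      rw [AVLib.comp_trR, AVLib.trR, GrpObj.comp_inv, mul_inv_cancel_right]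
    show (fun x => (AVLib.trR (d * d₀⁻¹)).left x) '' (Subtype.val '' Z) = _
    rw [← h4]
    have h6 : (fun x => (AVLib.trR d ≫ AVLib.trR d₀⁻¹).left x) = (AVLib.trR d₀⁻¹).left ∘ (AVLib.trR d).left := rfl
    rw [h6, Set.image_comp, h3, ← Set.image_comp]
    have h7 : ((AVLib.trR d₀⁻¹).left ∘ (AVLib.trR d₀).left : A.left → A.left) = id := by
      funext x
      exact congrArg (fun g : A ⟶ A => g.left x) h5
    rw [h7, Set.image_id]

end Groth.Agent.S14681
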