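import Groth.Statements.S14682
import Groth.Agent.FlatSymLib.Hilb
-- import your own Groth.Agent.* helpers here

set_option autoImplicit false
set_option backward.isDefEq.respectTransparency false
set_option backward.isDefEq.respectTransparency.types false
set_option linter.style.haveILetI false
universe u
open CategoryTheory CategoryTheory.Limits AlgebraicGeometry
open SymProd

namespace Groth.Agent.S14682

/-- Let S be a locally Noetherian scheme and f : C ⟶ S a proper morphism, smooth of relative dimension
1, such that every finite set of points of C lying over a single point of S is contained in an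
affine open of C; let n ≥ 0 and let (Y, q, g) be an n-th symmetric power of C over S (q : C ×_S ⋯
×_S C ⟶ Y a quotient of the n-fold fibre power by the symmetric group permuting the factors: affine,
invariant, identifying sections of O_Y with invariant sections; q ≫ g = the structure map). On the
fibre product of the n-fold fibre power with C consider the divisor D̃ = sum of the graphs of the n
projections, i.e. the product of the kernel ideal sheaves of the n sections (id, p_i). Then there is
exactly one quasi-coherent ideal sheaf J on Y ×_S C whose inverse image along q × id is D̃, and the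
closed subscheme of Y ×_S C defined by any such J is finite locally free of degree n over Y (an
effective relative Cartier divisor of degree n). (The published statement is for a flat projective
family whose geometric fibres are connected regular curves; this row assumes properness, smoothness
of relative dimension 1 and the affine-open property, which is what the proof uses.) -/
theorem result {C S Y : Scheme.{u}} [IsLocallyNoetherian S]
    (f : C ⟶ S) [IsProper f] [SmoothOfRelativeDimension 1 f] (hAF : SymProd.IsAF f)
    (n : ℕ) (q : SymProd.fibPow f n ⟶ Y) (g : Y ⟶ S) (hq : SymProd.IsSymProd f n q g) :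
    (∃! J : (pullback g f).IdealSheafData, J.comap (pullback.map (WidePullback.base fun _ : Fin n => f) f g f q (𝟙 C) (𝟙 S) ((Category.comp_id _).trans hq.over.symm) ((Category.comp_id f).trans (Category.id_comp f).symm)) = ∏ i : Fin n, (pullback.lift (𝟙 (SymProd.fibPow f n)) (WidePullback.π (fun _ : Fin n => f) i) ((Category.id_comp _).trans (WidePullback.π_arrow (fun _ : Fin n => f) i).symm) : SymProd.fibPow f n ⟶ pullback (WidePullback.base fun _ : Fin n => f) f).ker) ∧
    ∀ J : (pullback g f).IdealSheafData, J.comap (pullback.map (WidePullback.base fun _ : Fin n => f) f g f q (𝟙 C) (𝟙 S) ((Category.comp_id _).trans hq.over.symm) ((Category.comp_id f).trans (Category.id_comp f).symm)) = ∏ i : Fin n, (pullback.lift (𝟙 (SymProd.fibPow f n)) (WidePullback.π (fun _ : Fin n => f) i) ((Category.id_comp _).trans (WidePullback.π_arrow (fun _ : Fin n => f) i).symm) : SymProd.fibPow f n ⟶ pullback (WidePullback.base fun _ : Fin n => f) f).ker →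
      Mor2.IsFinLocFreeOfDeg n (J.subschemeι ≫ pullback.fst g f) := by
  obtain ⟨D, -, hD⟩ := Groth.Agent.FlatSymLib.exists_universal f hAF n q g hq
  obtain ⟨⟨q1, q2, q3⟩, q4⟩ := Groth.Agent.S14663.result f hAF n q g hq
  haveI : Surjective q := ⟨QuotLib.surjective hq.isQuot⟩
  let b := WidePullback.base fun _ : Fin n => f
  let M : pullback b f ⟶ pullback g f := pullback.map b f g f q (𝟙 C) (𝟙 S)
    ((Category.comp_id _).trans hq.over.symm) ((Category.comp_id f).trans (Category.id_comp f).symm)
  let qO : FlatSymLib.powOver f n ⟶ Over.mk g := Over.homMk q hq.over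
  let σY := pullbackSymmetry g f
  let σT := pullbackSymmetry b f
  have hsq : IsPullback M (pullback.fst b f) (pullback.fst g f) q := by
    refine IsPullback.of_right ?_ (pullback.lift_fst _ _ _) (IsPullback.of_hasPullback g f).flip
    rw [show M ≫ pullback.snd g f = pullback.snd b f from (pullback.lift_snd _ _ _).trans (Category.comp_id _),
      hq.over]
    exact (IsPullback.of_hasPullback b f).flip
  haveI : Flat M := MorphismProperty.of_isPullback (P := @Flat) hsq.flip q2
  haveI : Surjective M := MorphismProperty.of_isPullback (P := @Surjective) hsq.flip inferInstance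
  have hcomm : M ≫ σY.hom = σT.hom ≫ PicF.XTmap f qO := by
    apply pullback.hom_ext
    · simp [M, σY, σT, qO, PicF.XTmap, b]
    · simp [M, σY, σT, qO, PicF.XTmap, b]
  have hJ : (D.1.comap σY.hom).comap M = ∏ i : Fin n, (pullback.lift (𝟙 (SymProd.fibPow f n))
      (WidePullback.π (fun _ : Fin n => f) i)
      ((Category.id_comp _).trans (WidePullback.π_arrow (fun _ : Fin n => f) i).symm) :
        SymProd.fibPow f n ⟶ pullback b f).ker := by
    rw [← Scheme.IdealSheafData.comap_comp, hcomm, Scheme.IdealSheafData.comap_comp,
      ← HilbCurveLib.pull_eq, hD, FlatSymLib.sumGraphs]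
    have e : ∀ t : Finset (Fin n), (∏ i ∈ t, HilbD.secGraph f (FlatSymLib.powOver f n) (WidePullback.π _ i)
        (WidePullback.π_arrow (fun _ : Fin n => f) i)).comap σT.hom = ∏ i ∈ t, (pullback.lift
        (𝟙 (SymProd.fibPow f n)) (WidePullback.π (fun _ : Fin n => f) i)
        ((Category.id_comp _).trans (WidePullback.π_arrow (fun _ : Fin n => f) i).symm) :
          SymProd.fibPow f n ⟶ pullback b f).ker := by
      intro t
      induction t using Finset.induction with
      | empty => simp only [Finset.prod_empty]; exact Scheme.IdealSheafData.comap_top _
      | insert a t ha ih =>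
        rw [Finset.prod_insert ha, Finset.prod_insert ha, BlowCompLib.comap_mul, ih]
        congr 1
        haveI := (HilbCurveLib.secGraph_deg f (FlatSymLib.powOver f n) _
          (WidePullback.π_arrow (fun _ : Fin n => f) a)).1
        refine (HilbCurveLib.ker_of_isPullback (b := 𝟙 _) (IsPullback.of_vert_isIso ⟨?_⟩)).symm
        apply pullback.hom_ext <;> simp [σT, b]
    exact e Finset.univ
  have huniq : ∀ J : (pullback g f).IdealSheafData, J.comap M = (D.1.comap σY.hom).comap M →
      J = D.1.comap σY.hom := fun J e => Groth.Agent.S1181.eq_of_comap_eq M e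
  refine ⟨⟨D.1.comap σY.hom, hJ, fun J e => huniq J (Eq.trans e hJ.symm)⟩, fun J e => ?_⟩
  rw [huniq J (Eq.trans e hJ.symm)]
  exact HilbCurveLib.deg_comap (IsPullback.of_horiz_isIso (fst := σY.hom) (g := 𝟙 Y)
    ⟨(pullbackSymmetry_hom_comp_snd g f).trans (Category.comp_id _).symm⟩) D.2

end Groth.Agent.S14682
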