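import Groth.Statements.S14687
import Groth.Agent.SWTorsorLib.Global
set_option linter.all false
set_option backward.isDefEq.respectTransparency false

set_option autoImplicit false
universe u
open CategoryTheory AlgebraicGeometry
open SekSuwa

namespace Groth.Agent.S14687

/-- Let R be a discrete valuation ring of characteristic zero and residue characteristic p, λ ≠ 0 in R,
and X a scheme flat over Spec R, with X_λ = X ×_R Spec(R/λR) its closed subscheme where λ vanishes.
Suppose that the restriction map on global units Γ(X, O_X)^× → Γ(X_λ, O_{X_λ})^× is surjective and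
that Pic X = 0, taken in the form the argument uses: every torsor for the fppf topology over X under
the multiplicative group has a section. Then every torsor for the fppf topology over X under (the
base change to X of) the affine R-group G^(λ) = Spec R[T, 1/(1+λT)] with law s + t + λst has a
section over X; that is, H¹(X, G^(λ)) is trivial. -/
theorem result (R : Type u) [CommRing R] [IsDomain R] [IsDiscreteValuationRing R] [CharZero R]
    (p : ℕ) [Fact p.Prime] [CharP (IsLocalRing.ResidueField R) p]
    (lam : R) (hlam : lam ≠ 0)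
    (X : Scheme.{u}) (f : X ⟶ Spec (CommRingCat.of R)) [Flat f]
    (hunit : Function.Surjective (Units.map
      (Limits.pullback.fst f (Spec.map (CommRingCat.ofHom (Ideal.Quotient.mk (Ideal.span ({lam} : Set R)))))).appTop.hom.toMonoidHom))
    (hpic : ∀ (Q : Over X) (b : AlgGrp.Action (Red.bc f (Red.diag R ℤ)) Q),
      NonAbH1.IsTorsorFor Scheme.fppfPrecoverage b → NonAbH1.HasSectionOver Q (𝟙 X))
    (P : Over X) (a : AlgGrp.Action (Red.bc f (SekSuwa.G R lam)) P)
    (hP : NonAbH1.IsTorsorFor Scheme.fppfPrecoverage a) :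
    NonAbH1.HasSectionOver P (𝟙 X) := by
  classical
  have hfp : NonAbH1.IsTorsorFor Scheme.fpqcPrecoverage a :=
    ⟨hP.1, hP.2.choose, Scheme.fppfPrecoverage_le_fpqcPrecoverage _ hP.2.choose_spec.1, hP.2.choose_spec.2⟩
  haveI := SWTorsorLib.isAffineHom_bc_diag f
  obtain ⟨P', φ, hφ⟩ := TorsorPush.exists_pushforward (SWTorsorLib.alphaS f lam) ⟨P, a, hfp⟩
  have hP' : NonAbH1.IsTorsorFor Scheme.fppfPrecoverage P'.act := by
    obtain ⟨-, Rc, hR, hsec⟩ := hP
    refine ⟨P'.isTorsor.1, Rc, hR, fun S' g hg => ?_⟩
    obtain ⟨t, ht⟩ := hsec g hg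
    exact ⟨t ≫ φ.left, by rw [Category.assoc, Over.w φ, ht]⟩
  obtain ⟨s, hs⟩ := hpic P'.X P'.act hP'
  exact SWTorsorLib.hasSectionOver f hlam hunit a hfp P'.act P'.isTorsor.1 φ hφ (Over.homMk s hs)

end Groth.Agent.S14687
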