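import Groth.Statements.S14695
import Mathlib
import Groth.Agent.FpqcDesc.Basic
import Groth.Agent.PrincBundLib.Descends
import Groth.Agent.NormalSch.SectionExt

set_option autoImplicit false
universe u
open CategoryTheory AlgebraicGeometry
open NonAbH1

namespace Groth.Agent.S14695
open CategoryTheory.Limits MonoidalCategory CartesianMonoidalCategory in
theorem comp_bijective {X E : Scheme.{u}} (e : E ⟶ X) {G G' : Over X} (g : G ⟶ G')
    (hg : IsIso ((Over.pullback e).map g)) (T : Over X) (t : T.left ⟶ E) (ht : t ≫ e = T.hom) :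
    Function.Bijective (fun h : T ⟶ G => h ≫ g) := by
  let i : (Over.map e).obj (Over.mk t) ≅ T := Over.isoMk (Iso.refl _) (by simp [ht])
  let A := fun W : Over X => (Iso.homFromEquiv i.symm).trans ((Over.mapPullbackAdj e).homEquiv (Over.mk t) W)
  have key : (fun h : T ⟶ G => h ≫ g) =
      (A G').symm ∘ (fun m => m ≫ (Over.pullback e).map g) ∘ (A G) := by
    funext h
    apply (A G').injective
    simp only [Function.comp_apply, Equiv.apply_symm_apply]
    simp only [A, Equiv.trans_apply]
    rw [← Adjunction.homEquiv_naturality_right]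
    simp [Iso.homFromEquiv]
  rw [key]
  refine (A G').symm.bijective.comp (Function.Bijective.comp ⟨fun m n h => (cancel_mono _).mp h,
    fun m => ⟨m ≫ inv ((Over.pullback e).map g), by simp⟩⟩ (A G).bijective)

open CategoryTheory.Limits MonoidalCategory CartesianMonoidalCategory MonObj Groth.Agent.PrincBundLib in
theorem exists_generic_section {X E : Scheme.{u}} (e : E ⟶ X) {G G' : Over X} [GrpObj G] [GrpObj G']
    (g : G ⟶ G') [IsMonHom g] (hg : IsIso ((Over.pullback e).map g))
    {P P' : Over X} (a : AlgGrp.Action G P) (hP : NonAbH1.IsTorsorFor Scheme.fpqcPrecoverage a)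
    (a' : AlgGrp.Action G' P') (hP' : NonAbH1.IsPseudoTorsorSch a')
    (f : P ⟶ P') (hf : a.act ≫ f = lift (fst G P ≫ g) (snd G P ≫ f) ≫ a'.act)
    (s : Over.mk e ⟶ P') : ∃ x : Over.mk e ⟶ P, x ≫ f = s := by
  have act_f : ∀ (T : Over X) (h : T ⟶ G) (x : T ⟶ P),
      (lift h x ≫ a.act) ≫ f = lift (h ≫ g) (x ≫ f) ≫ a'.act := fun T h x => by
    rw [Category.assoc, hf, comp_lift_assoc, lift_fst_assoc, lift_snd_assoc]
  have hu' := (isIso_lift_snd_iff a'.act).mp hP'
  have hu := (isIso_lift_snd_iff a.act).mp hP.1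
  have uniq : ∀ (T : Over X) (w : T ⟶ Over.mk e) (x₁ x₂ : T ⟶ P), x₁ ≫ f = w ≫ s → x₂ ≫ f = w ≫ s →
      x₁ = x₂ := by
    intro T w x₁ x₂ h₁ h₂
    obtain ⟨k, hk, -⟩ := hu T x₁ x₂
    have h3 : lift (k ≫ g) (w ≫ s) ≫ a'.act = w ≫ s := by
      conv_lhs => rw [← h₂, ← act_f, hk, h₁]
    have h4 : lift ((1 : T ⟶ G) ≫ g) (w ≫ s) ≫ a'.act = w ≫ s := by
      conv_lhs => rw [← h₂, ← act_f, AlgGrp.Action.lift_one_act, h₂]
    have h5 : k = 1 := (comp_bijective e g hg T w.left (Over.w w)).1 ((hu' T _ _).unique h3 h4)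
    rw [← hk, h5, AlgGrp.Action.lift_one_act]
  obtain ⟨R, hR, hs⟩ := hP.2
  obtain ⟨K, Q, c, rfl⟩ := R.exists_eq_ofArrows
  have hloc : ∀ k, ∃ x : pullObj (Over.mk e) (c k) ⟶ P, x ≫ f = pullTo (Over.mk e) (c k) ≫ s := by
    intro k
    obtain ⟨x₀, hx₀⟩ := hs _ (Presieve.ofArrows.mk k)
    let x₁ := pullSnd (Over.mk e) (c k) ≫ (Over.homMk x₀ hx₀ : Over.mk (c k) ⟶ P)
    obtain ⟨h', hh', -⟩ := hu' _ (pullTo (Over.mk e) (c k) ≫ s) (x₁ ≫ f)
    obtain ⟨h, rfl⟩ := (comp_bijective e g hg _ (pullTo (Over.mk e) (c k)).left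
      (Over.w (pullTo (Over.mk e) (c k)))).2 h'
    exact ⟨lift h x₁ ≫ a.act, (act_f _ h x₁).trans hh'⟩
  choose x hx using hloc
  obtain ⟨y, hy, -⟩ := glue_points hR (Over.mk e) x fun k l V i j h =>
    uniq V (i ≫ pullTo _ _) _ _ (by rw [Category.assoc, hx, ← Category.assoc])
      (by rw [Category.assoc, hx, ← Category.assoc, h])
  refine ⟨y, ext_points hR fun k => ?_⟩
  rw [← Category.assoc, hy, hx]


/-- In the case where the morphism Y → X is the identity of X: let X be a normal integral scheme
(integral, with every local ring an integrally closed domain), G and G' X-group schemes which are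
finite and flat over X, and g : G → G' a homomorphism which becomes an isomorphism after base change
to the spectrum of the function field of X. If an fppf G-torsor P over X becomes trivial after
extension of the structure group along g — there is an fppf G'-torsor P' over X with a g-equivariant
X-morphism P → P', and P' has a section over X — then P has a section over X. (The published
statement takes G, G' commutative and all schemes Noetherian, allows also composition with the
pull-back along a morphism Y → X admitting a rational section, and is phrased as injectivity of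
H¹(X, G) → H¹(Y, G'_Y); this row is the case where Y → X is the identity of X, as the trivial-kernel
assertion the argument establishes, for which commutativity and the Noetherian condition are not
needed.) -/
theorem result {X : Scheme.{u}} [IsIntegral X]
    (hX : Pi1.IsNormalScheme X) (G G' : Over X) [GrpObj G] [GrpObj G']
    [IsFinite G.hom] [Flat G.hom] [IsFinite G'.hom] [Flat G'.hom]
    (g : G ⟶ G') [IsMonHom g]
    (hg : IsIso ((Over.pullback (X.fromSpecStalk (genericPoint X))).map g))
    (P : Over X) (a : AlgGrp.Action G P) (hP : NonAbH1.IsTorsorFor Scheme.fppfPrecoverage a)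
    (P' : Over X) (a' : AlgGrp.Action G' P') (hP' : NonAbH1.IsTorsorFor Scheme.fppfPrecoverage a')
    (hpush : NonAbH1.IsPushforwardAlongSch g a a') (htriv : NonAbH1.HasSectionOver P' (𝟙 X)) :
    NonAbH1.HasSectionOver P (𝟙 X) := by
  haveI := Groth.Agent.FpqcDesc.isFinite_descends.{u}
  have hP₁ : NonAbH1.IsTorsorFor Scheme.fpqcPrecoverage a :=
    ⟨hP.1, hP.2.imp fun R hR => ⟨Scheme.fppfPrecoverage_le_fpqcPrecoverage _ hR.1, hR.2⟩⟩
  haveI : IsFinite P.hom := Groth.Agent.PrincBundLib.property_of_torsor @IsFinite a hP₁ inferInstance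
  obtain ⟨f, hf⟩ := hpush
  obtain ⟨s', hs'⟩ := htriv
  obtain ⟨x, -⟩ := exists_generic_section _ g hg a hP₁ a' hP'.1 f hf
    (Over.homMk (X.fromSpecStalk (genericPoint X) ≫ s') (by rw [Category.assoc, hs']; simp))
  obtain ⟨s, hs, -⟩ := Groth.Agent.NormalSch.exists_section_of_isIntegralHom hX P.hom x.left (Over.w x)
  exact ⟨s, hs⟩

end Groth.Agent.S14695
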