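import Groth.Statements.S14688
import Groth.Agent.SWTorsorLib.GKGen
import Groth.Agent.S14695
set_option linter.all false
set_option backward.isDefEq.respectTransparency false
set_option backward.isDefEq.respectTransparency.types false

set_option autoImplicit false
universe u
open CategoryTheory AlgebraicGeometry
open SekSuwa

namespace Groth.Agent.S14688

/-- Let R be a discrete valuation ring of characteristic zero and residue characteristic p, n ≥ 1, λ ∈ R
satisfying the divisibility condition under which the finite flat R-group scheme G_{λ,n} (the kernel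
of ψ on the one-parameter group with law s + t + λst, of order p^n) and its homomorphism α^{λ,n} to
μ_{p^n} are defined, and X a normal integral scheme which is faithfully flat over Spec R. If an fppf
torsor P over X under G_{λ,n} becomes trivial after extension of the structure group along α^{λ,n} —
there is an fppf μ_{p^n}-torsor P' over X with an α^{λ,n}-equivariant X-morphism P → P', and P' has
a section over X — then P has a section over X. So H¹(X, G_{λ,n}) → H¹(X, μ_{p^n}) has trivial
kernel, and the groups H¹(X, G_{π^i,n}) for decreasing i form an increasing filtration of H¹(X,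
μ_{p^n}). (The published statement is the filtration itself, for the commutative groups in question
injectivity of these homomorphisms; the trivial-kernel assertion stated here is what the argument
establishes.) -/
theorem result (R : Type u) [CommRing R] [IsDomain R] [IsDiscreteValuationRing R] [CharZero R]
    (p : ℕ) [Fact p.Prime] [CharP (IsLocalRing.ResidueField R) p]
    (n : ℕ) (hn : 0 < n) (lam : R) (h : SekSuwa.DivCond lam (p ^ n))
    (X : Scheme.{u}) [IsIntegral X] (hX : Pi1.IsNormalScheme X)
    (f : X ⟶ Spec (CommRingCat.of R)) [Flat f] [Surjective f]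
    (P : Over X) (a : AlgGrp.Action (Red.bc f (SekSuwa.GK R lam (p ^ n) h)) P)
    (hP : NonAbH1.IsTorsorFor Scheme.fppfPrecoverage a)
    (P' : Over X) (a' : AlgGrp.Action (Red.bc f (Red.diag R (ZMod (p ^ n)))) P')
    (hP' : NonAbH1.IsTorsorFor Scheme.fppfPrecoverage a')
    (hpush : NonAbH1.IsPushforwardAlongSch ((Over.pullback f).map (SekSuwa.alphaN R lam (p ^ n) h)) a a')
    (htriv : NonAbH1.HasSectionOver P' (𝟙 X)) :
    NonAbH1.HasSectionOver P (𝟙 X) := by
  have hN : 0 < p ^ n := pow_pos (Fact.out : p.Prime).pos n
  haveI : NeZero (p ^ n) := ⟨hN.ne'⟩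
  obtain ⟨hf1, hf2⟩ := SWTorsorLib.isFinite_GK hN h
  obtain ⟨hm1, hm2⟩ := SWTorsorLib.isFinite_mu (R := R) (N := p ^ n)
  haveI : IsFinite (Red.bc f (SekSuwa.GK R lam (p ^ n) h)).hom := MorphismProperty.pullback_snd _ _ hf1
  haveI : Flat (Red.bc f (SekSuwa.GK R lam (p ^ n) h)).hom := MorphismProperty.pullback_snd _ _ hf2
  haveI : IsFinite (Red.bc f (Red.diag R (ZMod (p ^ n)))).hom := MorphismProperty.pullback_snd _ _ hm1
  haveI : Flat (Red.bc f (Red.diag R (ZMod (p ^ n)))).hom := MorphismProperty.pullback_snd _ _ hm2
  refine S14695.result hX _ _ ((Over.pullback f).map (SekSuwa.alphaN R lam (p ^ n) h)) ?_ P a hP P' a' hP' hpush htriv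
  let e := X.fromSpecStalk (genericPoint X)
  let φ := Spec.preimage (e ≫ f)
  letI : Algebra R X.functionField := φ.hom.toAlgebra
  have hef : Spec.map (CommRingCat.ofHom (algebraMap R X.functionField)) = e ≫ f := Spec.map_preimage _
  have hlam : IsUnit (algebraMap R X.functionField lam) := by
    refine isUnit_iff_ne_zero.2 fun h0 => nonZeroDivisors.ne_zero h.nzd ?_
    have hgen : f (genericPoint X) = genericPoint (Spec (CommRingCat.of R)) := by
      refine ((genericPoint_spec X).image f.continuous).eq ?_
      convert genericPoint_spec (Spec (CommRingCat.of R)) using 1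
      rw [Set.image_univ, f.surjective.range_eq, closure_univ]
    let pt : Spec X.functionField := IsLocalRing.closedPoint X.functionField
    have hpt : (Spec.map (CommRingCat.ofHom (algebraMap R X.functionField))) pt = f (genericPoint X) := by
      rw [hef, Scheme.Hom.comp_apply]
      exact congrArg f (Scheme.fromSpecStalk_closedPoint (X := X) (x := genericPoint X))
    have hmem : lam ∈ (f (genericPoint X)).asIdeal := by
      rw [← hpt]
      show algebraMap R X.functionField lam ∈ pt.asIdeal
      rw [h0]
      exact zero_mem _
    rw [hgen, genericPoint_eq_bot_of_affine] at hmem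
    exact hmem
  haveI := SWTorsorLib.isIso_pullback_alphaN hN h X.functionField hlam
  have h2 : IsIso ((Over.pullback (e ≫ f)).map (SekSuwa.alphaN R lam (p ^ n) h)) := by
    rw [← hef]; exact this
  exact (NatIso.isIso_map_iff (Over.pullbackComp e f) (SekSuwa.alphaN R lam (p ^ n) h)).1 h2

end Groth.Agent.S14688
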