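import Groth.Statements.S14689
import Groth.Agent.SWTorsorLib.CharExt
set_option linter.all false
set_option backward.isDefEq.respectTransparency false
set_option backward.isDefEq.respectTransparency.types false

set_option autoImplicit false
universe u
open CategoryTheory AlgebraicGeometry
open SekSuwa

namespace Groth.Agent.S14689

/-- Let R be a discrete valuation ring of characteristic zero and residue characteristic p containing a
primitive p²-th root of unity, λ, μ nonzero elements of the maximal ideal of R with μ satisfying the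
divisibility condition under which G_{μ,1} ⊂ G^(μ) = Spec R[T, 1/(1+μT)] (law s + t + μst) is
defined, and S_λ = Spec(R/λR). Then the map Hom_gr(G^(μ)|S_λ, 𝔾_m|S_λ) → Hom_gr(G_{μ,1}|S_λ,
𝔾_m|S_λ) induced by the inclusion G_{μ,1} → G^(μ) is surjective: every homomorphism of S_λ-group
schemes from the base change of G_{μ,1} to the (split) multiplicative group over S_λ is the
restriction of a homomorphism defined on the base change of G^(μ). -/
theorem result (R : Type u) [CommRing R] [IsDomain R] [IsDiscreteValuationRing R] [CharZero R]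
    (p : ℕ) [Fact p.Prime] [CharP (IsLocalRing.ResidueField R) p]
    (ζ : R) (hζ : IsPrimitiveRoot ζ (p ^ 2))
    (lam mu : R) (hlam : lam ≠ 0) (hlam' : lam ∈ IsLocalRing.maximalIdeal R)
    (hmu' : mu ∈ IsLocalRing.maximalIdeal R) (h : SekSuwa.DivCond mu p)
    (φ : Red.bc (Spec.map (CommRingCat.ofHom (Ideal.Quotient.mk (Ideal.span ({lam} : Set R))))) (SekSuwa.GK R mu p h) ⟶ Red.bc (Spec.map (CommRingCat.ofHom (Ideal.Quotient.mk (Ideal.span ({lam} : Set R))))) (Red.diag R ℤ)) [IsMonHom φ] :
    ∃ ψ : Red.bc (Spec.map (CommRingCat.ofHom (Ideal.Quotient.mk (Ideal.span ({lam} : Set R))))) (SekSuwa.G R mu) ⟶ Red.bc (Spec.map (CommRingCat.ofHom (Ideal.Quotient.mk (Ideal.span ({lam} : Set R))))) (Red.diag R ℤ),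
      IsMonHom ψ ∧ (Over.pullback (Spec.map (CommRingCat.ofHom (Ideal.Quotient.mk (Ideal.span ({lam} : Set R)))))).map (SekSuwa.incl R mu p h) ≫ ψ = φ := by
  have hp : 0 < p := (Fact.out : p.Prime).pos
  obtain ⟨hc, hhi⟩ := S14694.monic_psi hp h
  have hle : (SekSuwa.psiPoly mu p h).natDegree ≤ p := Polynomial.natDegree_le_iff_coeff_eq_zero.2 hhi
  have hmon : (SekSuwa.psiPoly mu p h).Monic := Polynomial.monic_of_natDegree_le_of_coeff_eq_one p hle hc
  haveI : Nontrivial (R ⧸ Ideal.span ({lam} : Set R)) := Ideal.Quotient.nontrivial_iff.2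
    (fun e => (IsLocalRing.maximalIdeal.isMaximal R).ne_top
      (top_unique (e ▸ (Ideal.span_singleton_le_iff_mem _).2 hlam')))
  have hdeg : ((SekSuwa.psiPoly mu p h).map (Ideal.Quotient.mk (Ideal.span ({lam} : Set R)))).natDegree = p := by
    rw [hmon.natDegree_map]
    exact Polynomial.natDegree_eq_of_le_of_coeff_ne_zero hle (by rw [hc]; exact one_ne_zero)
  exact SWTorsorLib.exists_extension _ hp h hmon hdeg φ

end Groth.Agent.S14689
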