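import Groth.Statements.S1469
import Groth.Agent.RegHomLib.Basic
import Groth.Agent.PurityLib.Normal

set_option autoImplicit false
universe u
open FlatMor

namespace Groth.Agent.S1469

open AlgebraicGeometry CategoryTheory Limits in
/-- A smooth morphism is normal; concretely, for affine opens U ⊆ f⁻¹(V) the ring map O_Y(V) → O_X(U) is
flat with geometrically normal fibre rings. -/
theorem result {X Y : Scheme.{u}} (f : X ⟶ Y) [Smooth f] (U : X.Opens) (V : Y.Opens) (hU : IsAffineOpen U) (hV : IsAffineOpen V) (hUV : U ≤ f ⁻¹ᵁ V) :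
    letI := (f.appLE V U hUV).hom.toAlgebra
    EGA4.IsNormalHom Γ(Y, V) Γ(X, U) := by
  letI := (f.appLE V U hUV).hom.toAlgebra
  haveI : Algebra.Smooth Γ(Y, V) Γ(X, U) := Smooth.smooth_appLE f hV hU hUV
  refine ⟨inferInstance, fun p _ k' _ _ hfin q _ => ?_⟩
  haveI : IsRegularRing k' := isRegularRing_iff.2 fun r _ => by
    refine IsRegularLocalRing.of_ringEquiv (R := k') (IsLocalization.atUnits k' r.primeCompl (S := Localization.AtPrime r) fun z hz => ?_).toRingEquiv
    exact isUnit_iff_ne_zero.2 fun h => hz (h ▸ r.zero_mem)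
  haveI : Algebra.Smooth p.ResidueField (p.Fiber Γ(X, U)) := inferInstanceAs (Algebra.Smooth p.ResidueField (TensorProduct Γ(Y, V) p.ResidueField Γ(X, U)))
  haveI : Algebra.Smooth k' (TensorProduct p.ResidueField k' (p.Fiber Γ(X, U))) := inferInstance
  haveI := Groth.Agent.RegHomLib.isRegularRing_of_smooth k' (TensorProduct p.ResidueField k' (p.Fiber Γ(X, U)))
  exact Groth.Agent.PurityLib.isIntegrallyClosed_of_regular (Localization.AtPrime q)

end Groth.Agent.S1469
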