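import Groth.Statements.S14691
import Groth.Agent.GrpRedLib.PowEqOne
-- import your own Groth.Agent.* helpers here

set_option autoImplicit false
set_option backward.isDefEq.respectTransparency false
set_option backward.isDefEq.respectTransparency.types false
universe u
open CategoryTheory AlgebraicGeometry
open SekSuwa

namespace Groth.Agent.S14691

open scoped CategoryTheory.MonObj

/-- Let R be a discrete valuation ring of characteristic zero and residue characteristic p, and G a
commutative finite flat R-group scheme of order m (finite locally free of degree m over Spec R).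
Then the endomorphism of Ext¹(G, 𝔾_m) induced by the m-th power map of the multiplicative group —
that is, multiplication by m on this group — is zero. Here Ext¹ is taken between the abelian sheaves
of points of G and of the split multiplicative group on the big fppf site of Spec R. (The published
statement is made under a standing assumption that R contains a primitive p²-th root of unity; this
row does not assume it, the argument not using it.) -/
theorem result (R : Type u) [CommRing R] [IsDomain R] [IsDiscreteValuationRing R] [CharZero R]
    (p : ℕ) [Fact p.Prime] [CharP (IsLocalRing.ResidueField R) p]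
    (G : Over (Spec (CommRingCat.of R))) [GrpObj G] [IsCommMonObj G]
    (m : ℕ) (hG : Mor2.IsFinLocFreeOfDeg m G.hom)
    (x : CGrpSh.ExtS Scheme.fppfPrecoverage G (Red.diag R ℤ) 1) : m • x = 0 := by
  obtain ⟨⟨_, _, _⟩, h⟩ := hG
  have hpow : (𝟙 G : G ⟶ G) ^ m = 1 := Groth.Agent.GrpRedLib.pow_eq_one_of_finrank G m h G (𝟙 G)
  have hzero : m • 𝟙 (CGrpSh.pts Scheme.fppfPrecoverage G) = 0 := by
    refine Sheaf.hom_ext (NatTrans.ext (funext fun T => AddCommGrpCat.ext fun z => ?_))
    let v : Opposite.unop T ⟶ G := z.down.toMul
    have h1 : v ^ m = 1 := by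
      have e := MonObj.comp_pow (𝟙 G) m v
      rw [Category.comp_id, hpow, MonObj.comp_one] at e
      exact e.symm
    have h2 : ∀ j : ℕ, ((j • 𝟙 (CGrpSh.pts Scheme.fppfPrecoverage G) :
        CGrpSh.pts Scheme.fppfPrecoverage G ⟶ CGrpSh.pts Scheme.fppfPrecoverage G)).hom.app T z
          = ULift.up (Additive.ofMul (v ^ j)) := fun j => by
      induction j with
      | zero => rw [zero_smul, pow_zero]; rfl
      | succ j ih =>
        rw [succ_nsmul, pow_succ]
        exact (congrArg (· + z) ih).trans rfl
    refine (h2 m).trans ?_
    rw [h1]
    rfl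
  have key : ∀ j : ℕ, j • x = (CategoryTheory.Abelian.Ext.mk₀ (j • 𝟙 (CGrpSh.pts Scheme.fppfPrecoverage G))).comp x (zero_add 1) := fun j => by
    induction j with
    | zero => rw [zero_smul, zero_smul, CategoryTheory.Abelian.Ext.mk₀_zero, CategoryTheory.Abelian.Ext.zero_comp]
    | succ j ih =>
      rw [succ_nsmul, succ_nsmul, CategoryTheory.Abelian.Ext.mk₀_add, CategoryTheory.Abelian.Ext.add_comp, ← ih,
        CategoryTheory.Abelian.Ext.mk₀_id_comp]
  rw [key m, hzero, CategoryTheory.Abelian.Ext.mk₀_zero, CategoryTheory.Abelian.Ext.zero_comp]

end Groth.Agent.S14691
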