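import Groth.Statements.S14693
import Mathlib

set_option autoImplicit false
universe u
open CategoryTheory AlgebraicGeometry
open SekSuwa

namespace Groth.Agent.S14693

open AlgebraicGeometry CategoryTheory Limits MonObj CartesianMonoidalCategory
set_option backward.isDefEq.respectTransparency false

lemma isPushout_AK (R : Type u) [CommRing R] (lam : R) (N : ℕ) (h : SekSuwa.DivCond lam N) :
    IsPushout (CommRingCat.ofHom (SekSuwa.psiHom R lam N h : SekSuwa.A R (lam ^ N) →+* SekSuwa.A R lam))
      (CommRingCat.ofHom (Bialgebra.counitAlgHom R (SekSuwa.A R (lam ^ N))).toRingHom)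
      (CommRingCat.ofHom (SekSuwa.AK.mkHom R lam N h : SekSuwa.A R lam →+* SekSuwa.AK R lam N h))
      (CommRingCat.ofHom (algebraMap R (SekSuwa.AK R lam N h))) := by
  have w : (SekSuwa.AK.mkHom R lam N h : SekSuwa.A R lam →+* SekSuwa.AK R lam N h).comp (SekSuwa.psiHom R lam N h : SekSuwa.A R (lam ^ N) →+* SekSuwa.A R lam) =
      (algebraMap R (SekSuwa.AK R lam N h)).comp (Bialgebra.counitAlgHom R (SekSuwa.A R (lam ^ N))).toRingHom := by
    exact congrArg (fun φ : SekSuwa.A R (lam ^ N) →ₐc[R] SekSuwa.AK R lam N h => (φ : SekSuwa.A R (lam ^ N) →+* SekSuwa.AK R lam N h)) (SekSuwa.mkHom_comp_psiHom R lam N h)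
  refine ⟨⟨by rw [← CommRingCat.ofHom_comp, ← CommRingCat.ofHom_comp, w]⟩, ⟨PushoutCocone.IsColimit.mk _ ?_ ?_ ?_ ?_⟩⟩
  · exact fun s => CommRingCat.ofHom (Ideal.Quotient.lift (SekSuwa.kerIdeal lam N h) s.inl.hom (by
      intro z hz
      obtain ⟨a, rfl⟩ := Ideal.mem_span_singleton'.mp hz
      have e : s.inl.hom (SekSuwa.psiHom R lam N h SekSuwa.A.t) = s.inr.hom (CoalgebraStruct.counit (R := R) (SekSuwa.A.t : SekSuwa.A R (lam ^ N))) :=
        congr($(congrArg CommRingCat.Hom.hom s.condition) (SekSuwa.A.t : SekSuwa.A R (lam ^ N)))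
      rw [SekSuwa.psiHom_t, SekSuwa.A.counit_t, map_zero] at e
      rw [map_mul, e, mul_zero]))
  · exact fun s => CommRingCat.hom_ext (RingHom.ext fun x => rfl)
  · intro s
    refine CommRingCat.hom_ext (RingHom.ext fun r => ?_)
    have e : s.inl.hom (SekSuwa.psiHom R lam N h (algebraMap R _ r)) = s.inr.hom (Bialgebra.counitAlgHom R (SekSuwa.A R (lam ^ N)) (algebraMap R _ r)) :=
      congr($(congrArg CommRingCat.Hom.hom s.condition) (algebraMap R (SekSuwa.A R (lam ^ N)) r))
    rw [AlgHomClass.commutes, AlgHom.commutes] at e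
    exact e
  · intro s m h1 h2
    refine CommRingCat.hom_ext (Ideal.Quotient.ringHom_ext ?_)
    exact congrArg CommRingCat.Hom.hom h1

/-- For any commutative ring R, λ ∈ R and N such that λ is a non-zero-divisor and λ^N divides (1 + λX)^N
− 1 in R[X] with quotient P_{λ,N}, the closed subgroup scheme G_{λ,N} = Spec R[T]/(P_{λ,N}(T)) of
the affine R-group G^(λ) = Spec R[T, 1/(1+λT)] (group law s + t + λst) is the kernel of the
homomorphism ψ_{λ,N} : G^(λ) → G^(λ^N), T ↦ P_{λ,N}(T): the square with sides the inclusion G_{λ,N}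
→ G^(λ), ψ_{λ,N}, the unit section of G^(λ^N) and G_{λ,N} → Spec R is cartesian. (The published
text, over a discrete valuation ring and with N = p^n, introduces G_{λ,n} as the kernel of the
isogeny ψ_{λ,n}; this row is that assertion for every N, including the degenerate N = 0 where ψ is
trivial and G_{λ,0} = G^(λ).) -/
theorem result (R : Type u) [CommRing R] (lam : R) (N : ℕ) (h : SekSuwa.DivCond lam N) :
    AlgGrp.IsKernel (SekSuwa.incl R lam N h) (SekSuwa.psi R lam N h) := by
  refine CategoryTheory.IsPullback.of_map_of_faithful (Over.forget (Spec (CommRingCat.of R))) ?_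
  have key := AlgebraicGeometry.isPullback_SpecMap_of_isPushout _ _ _ _ (isPushout_AK R lam N h)
  convert key using 1
  all_goals first
    | rfl
    | exact one_spec_asOver_spec_left
    | skip

end Groth.Agent.S14693
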