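import Groth.Statements.S14697
import Groth.Agent.TwistShriek.SurfRR
import Groth.Agent.TwistShriek.SurfCan
import Groth.Agent.TwistShriek.SurfInter
import Groth.Agent.SurfPtBlow.Push
import Groth.Agent.ModifDimLib.Main
import Groth.Agent.RatSingLib.Main
import Groth.Agent.FinBirLib.Smooth
import Groth.Agent.CurveLib.Inv
import Groth.Agent.S0927
import Groth.Agent.S1525
import Groth.Agent.S1688

set_option autoImplicit false
universe u
open CategoryTheory CategoryTheory.Limits AlgebraicGeometry
open Surf

namespace Groth.Agent.S14697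

set_option backward.isDefEq.respectTransparency false
set_option linter.style.haveILetI false
set_option maxHeartbeats 1000000
set_option synthInstance.maxHeartbeats 200000
open TopologicalSpace Groth.Agent Groth.Agent.TwistShriek

/-- Fibres over an open over which the morphism is an isomorphism. -/
theorem dim_fiber_zero {S X : Scheme.{u}} (π : S ⟶ X) (U : X.Opens) (h : IsIso (π ∣_ U)) (y : X) (hy : y ∈ U) :
    topologicalKrullDim ↥(π.fiber y) ≤ (0 : ℕ) := by
  rw [IsHomeomorph.topologicalKrullDim_eq _ (π.fiberHomeo y).isHomeomorph]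
  haveI := h
  have hbij : Function.Bijective (π ∣_ U) := (Scheme.Hom.homeomorph (π ∣_ U)).bijective
  haveI : Subsingleton ↥(π.base ⁻¹' {y}) := ⟨fun a b => by
    have ha : π a.1 ∈ U := by rw [show π a.1 = y from a.2]; exact hy
    have hb : π b.1 ∈ U := by rw [show π b.1 = y from b.2]; exact hy
    have e := hbij.1 (a₁ := (⟨a.1, ha⟩ : (π ⁻¹ᵁ U : S.Opens))) (a₂ := (⟨b.1, hb⟩ : (π ⁻¹ᵁ U : S.Opens)))
      (Subtype.ext (by simp only [morphismRestrict_base_coe]; exact a.2.trans b.2.symm))
    exact Subtype.ext (congrArg Subtype.val e :)⟩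
  haveI : Subsingleton (IrreducibleCloseds ↥(π.base ⁻¹' {y})) := ⟨fun a b => SetLike.coe_injective
    ((Set.subsingleton_of_subsingleton.eq_empty_or_singleton).elim
      (fun h => absurd h a.isIrreducible.nonempty.ne_empty) fun ⟨x, hx⟩ => hx.trans (by
        obtain ⟨z, hz⟩ := b.isIrreducible.nonempty
        exact (Set.eq_singleton_iff_unique_mem.2 ⟨Subsingleton.elim z x ▸ hz, fun _ _ => Subsingleton.elim _ _⟩).symm))⟩
  exact Order.krullDim_nonpos_of_subsingleton


/-- Let k be an algebraically closed field and X an integral normal scheme of dimension two admitting a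
closed immersion into some P^n_k over k. Let φ : Y → X be a k-morphism from an integral scheme Y of
dimension two with all local rings regular, itself admitting a closed immersion into some P^m_k over
k, such that φ restricts to an isomorphism over an open subset U of X with finite complement (any
such resolution: φ may also fail to be an isomorphism over finitely many regular points). Let W be a
canonical module of Y, a second exterior power of Ω_{Y/k}, and L an invertible O_X-module. Then 2
χ(X, L) = (φ^*L · φ^*L) - (φ^*L · W) + 2 χ(X, O_X), the intersection numbers being taken on Y as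
(A·B) = χ(O_Y) - χ(A) - χ(B) + χ(A ⊗ B) (packaged as FGA.intNum). In the published form D.D and
D.K_* are the intersection numbers of the Cartier divisor D of L with itself and with the direct
image K_* of a canonical divisor of Y, in the rational-valued pairing defined through the
resolution; for a Cartier divisor both equal the numbers on Y written here. (The published statement
takes a resolved model, that is, φ an isomorphism exactly over the complement of the singular points
with exceptional curves nonsingular and crossing normally; this row allows any φ that is an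
isomorphism over some open subset with finite complement, to which the same proof applies. The
published display has constant term the arithmetic genus p_a(X) = χ(O_X) - 1 of the surface; the
proof given establishes the constant χ(O_X) used here, and with p_a(X) the identity already fails
for the trivial divisor, whose two sides would read χ(O_X) and χ(O_X) - 1.) -/
theorem result (k : Type u) [Field k] [IsAlgClosed k] (X : Scheme.{u}) [X.Over (Spec (CommRingCat.of k))]
    [IsIntegral X] (hdim : topologicalKrullDim X = 2)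
    (hproj : ∃ (n : ℕ) (ι : X ⟶ CohB1.ProjSpace n k), IsClosedImmersion ι ∧ ι ≫ CohB1.ProjSpace.toSpec n k = (X ↘ (Spec (CommRingCat.of k))))
    (hnorm : Pi1.IsNormalScheme X) (U : X.Opens) (hU : ((U : Set X)ᶜ).Finite)
    (Y : Scheme.{u}) (φ : Y ⟶ X) [IsIntegral Y] (hdimY : topologicalKrullDim Y = 2)
    (hregY : ∀ y : Y, IsRegularLocalRing (Y.presheaf.stalk y))
    (hprojY : ∃ (n : ℕ) (ι : Y ⟶ CohB1.ProjSpace n k), IsClosedImmersion ι ∧ ι ≫ CohB1.ProjSpace.toSpec n k = φ ≫ (X ↘ (Spec (CommRingCat.of k))))
    (hisoY : IsIso (φ ∣_ U))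
    (W : Y.Modules) (hW : ExtPow.IsExtPow 2 (Omega.sheaf (φ ≫ (X ↘ (Spec (CommRingCat.of k))))) W)
    (L : X.Modules) (hL : PicF.IsInvertible L) :
    letI : Y.Over (Spec (CommRingCat.of k)) := ⟨φ ≫ (X ↘ (Spec (CommRingCat.of k)))⟩
    2 * Curv2.euler k X L =
      FGA.intNum k Y 2 ![(Scheme.Modules.pullback φ).obj L, (Scheme.Modules.pullback φ).obj L] (Coh.structureModule Y) -
        FGA.intNum k Y 2 ![(Scheme.Modules.pullback φ).obj L, W] (Coh.structureModule Y) +
        2 * Curv2.euler k X (Coh.structureModule X) := by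
  letI : Y.Over (Spec (CommRingCat.of k)) := ⟨φ ≫ (X ↘ (Spec (CommRingCat.of k)))⟩
  obtain ⟨nX, ιX, hX0, hX1⟩ := hproj
  obtain ⟨nY, ιY, hY0, hY1⟩ := hprojY
  haveI := hX0
  haveI := hY0
  haveI := ProjSerreLib.isProper_over ιX hX1
  haveI : IsProper (Y ↘ Spec (CommRingCat.of k)) := ProjSerreLib.isProper_over ιY hY1
  haveI := EulerIneqLib.isNoetherian_proper (X := X) k
  haveI := EulerIneqLib.isNoetherian_proper (X := Y) k
  haveI : X.IsSeparated := ⟨by rw [← Limits.terminal.comp_from (X ↘ Spec (CommRingCat.of k))]; infer_instance⟩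
  haveI : IsProper φ := by
    haveI : IsProper (φ ≫ (X ↘ (Spec (CommRingCat.of k)))) :=
      (inferInstance : IsProper (Y ↘ Spec (CommRingCat.of k)))
    exact IsProper.of_comp φ (X ↘ (Spec (CommRingCat.of k)))
  haveI : JacobsonSpace X := LocallyOfFiniteType.jacobsonSpace (X ↘ Spec (CommRingCat.of k))
  haveI : Smooth (Y ↘ Spec (CommRingCat.of k)) :=
    FinBirLib.smooth_of_regular_algClosed (Y ↘ Spec (CommRingCat.of k)) fun y _ => hregY y
  let Z : Set X := (U : Set X)ᶜ
  have hZc : IsClosed Z := U.2.isClosed_compl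
  have hZd : topologicalKrullDim Z ≤ 0 := TwistShriek.topologicalKrullDim_finite_le hZc hU
  have hUne : (U : Set X).Nonempty := by
    by_contra hne
    have hall : ∀ x : X, x ∉ U := fun x hx => hne ⟨x, hx⟩
    have hZu : Z = Set.univ := Set.eq_univ_of_forall hall
    rw [hZu, IsHomeomorph.topologicalKrullDim_eq _ (Homeomorph.Set.univ X).isHomeomorph, hdim] at hZd
    exact absurd hZd (by decide)
  have hSdim : ∀ s : X, ringKrullDim (X.presheaf.stalk s) ≤ 2 := fun s => (S1688.dim_le s).trans hdim.le
  have hfib1 := ModifDimLib.fibre_dim_le_one φ hSdim hUne hisoY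
  haveI := SurfPtBlow.isIso_unitToPush φ ⟨U, hUne, hisoY⟩ fun z => (hnorm z).2
  obtain ⟨hWi, hdual, -⟩ := canonical_data_proper k hdimY hW
  let O := Coh.structureModule Y
  have hO : Coh.IsCoh O := DevLib.isCoh_structureModule Y
  let L' := (Scheme.Modules.pullback φ).obj L
  have hL' : PicF.IsInvertible L' := AmpleLib.isInvertible_pullback φ hL
  have hRR := two_mul_euler_of_duality k (by exact_mod_cast hdimY.le) hWi hdual hL'
  haveI : HasInjectiveResolutions Y.Modules := inferInstance
  -- the direct images
  have hR : ∀ q, Coh.IsCoh ((Coh.Rpush φ q).obj O) := fun q => RpushLib.isCoh_rpush φ hO q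
  have hst : ∀ (p : ℕ) (y : X) (d : ℕ), topologicalKrullDim ↥(φ.fiber y) ≤ d → d < p →
      Subsingleton (((Coh.Rpush φ p).obj O).presheaf.stalk y) := fun p y d hdy hp =>
    AddCommGrpCat.subsingleton_of_isZero (IsZero.of_iso (CurveLib.isZero_stalk_rpush φ y d hdy O hO p hp)
      ((TopCat.Presheaf.stalkFunctor AddCommGrpCat.{u} y).mapIso
        ((sheafToPresheaf _ _).mapIso ((RpushLib.toAbRpushIso φ p).app O))))
  let F : ℕ → ℤ := fun q => Curv2.euler k X ((Coh.Rpush φ q).obj O)
  have hge : ∀ q, 2 ≤ q → IsZero ((Coh.Rpush φ q).obj O) := fun q hq =>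
    GrothBddLib.isZero_of_stalks fun y => hst q y 1 (hfib1 y) hq
  have hdiff : ∀ q, 1 ≤ q → Curv2.euler k X (CohB1.tensorMod ((Coh.Rpush φ q).obj O) L) = F q := fun q hq => by
    have hs : CohB1.support ((Coh.Rpush φ q).obj O) ⊆ Z := fun y hy hyU =>
      hy (hst q y 0 (dim_fiber_zero φ U hisoY y hyU) hq)
    have h := IntLib.pairing_prod_eq_zero k (r := 1) (hR q)
      (lt_of_le_of_lt (((Topology.IsEmbedding.inclusion hs).isInducing).topologicalKrullDim_le.trans hZd)
        (by norm_num)) (fun _ => L) (fun _ => hL)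
    rw [Fin.prod_univ_one, IntLib.pairing_dif] at h
    linarith
  have h0 : Curv2.euler k X (CohB1.tensorMod ((Coh.Rpush φ 0).obj O) L) = Curv2.euler k X L ∧
      F 0 = Curv2.euler k X (Coh.structureModule X) := by
    let e : (Coh.Rpush φ 0).obj O ≅ Coh.structureModule X :=
      (Scheme.Modules.pushforward φ).rightDerivedZeroIsoSelf.app O ≪≫ (asIso (ClSub.unitToPush φ)).symm
    exact ⟨CurveLib.euler_iso (K := k) (((DCoh.tensorBi (X := X)).mapIso e).app L ≪≫ AmpleLib.unitL L),
      CurveLib.euler_iso (K := k) e⟩
  have hproj : ∀ q, Curv2.euler k X ((Coh.Rpush φ q).obj L') =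
      Curv2.euler k X (CohB1.tensorMod ((Coh.Rpush φ q).obj O) L) := fun q => by
    obtain ⟨e⟩ := Groth.Agent.S0927.result φ O L (CurveLib.isFinLocFree_of_isInvertible hL) q
    exact ((CurveLib.euler_iso (K := k) (e ≪≫ (Coh.Rpush φ q).mapIso (AmpleLib.unitR L'))).symm).trans
      (CurveLib.euler_iso (K := k) (AmpleLib.comm L ((Coh.Rpush φ q).obj O)))
  have hsum : ∀ (M : Y.Modules) (hM : Coh.IsCoh M) (G : ℕ → ℤ),
      (∀ q, Curv2.euler k X ((Coh.Rpush φ q).obj M) = G q) → (∀ q, 2 ≤ q → G q = 0) →
      Curv2.euler k Y M = G 0 - G 1 := fun M hM G hG hG2 => by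
    rw [Groth.Agent.S1525.result k X Y φ rfl M hM,
      finsum_eq_sum_of_support_subset _ (s := Finset.range 2) fun i hi => ?_, Finset.sum_range_succ,
      Finset.sum_range_one, hG, hG]
    · ring
    · rw [Finset.coe_range, Set.mem_Iio]
      by_contra hle
      rw [Function.mem_support] at hi
      exact hi (by rw [hG, hG2 i (not_lt.1 hle), mul_zero])
  have hF2 : ∀ q, 2 ≤ q → F q = 0 := fun q hq => Groth.Agent.NumBdd.euler_isZero (k := k) (hge q hq)
  have e1 := hsum O hO F (fun q => rfl) hF2
  have e2 := hsum L' (CurveLib.isCoh_of_isInvertible hL') _ hproj fun q hq => by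
    rw [hdiff q (by omega)]; exact hF2 q hq
  rw [h0.1, hdiff 1 le_rfl] at e2
  rw [h0.2] at e1
  linarith

end Groth.Agent.S14697
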