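import Groth.Statements.S14698
import Groth.Agent.FibCompLib.Main
-- import your own Groth.Agent.* helpers here

set_option autoImplicit false
set_option backward.isDefEq.respectTransparency false
set_option maxHeartbeats 800000
set_option synthInstance.maxHeartbeats 200000
universe u
open CategoryTheory CategoryTheory.Limits AlgebraicGeometry
open Resolve

namespace Groth.Agent.S14698

open Groth.Agent CategoryTheory
set_option backward.isDefEq.respectTransparency false
set_option maxHeartbeats 800000

/-- Let k be an algebraically closed field and X an integral normal scheme of dimension two admitting a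
closed immersion into some P^n_k over k. Let φ : Y → X be a k-morphism from an integral scheme Y of
dimension two with all local rings regular, itself admitting a closed immersion into some P^m_k over
k, which restricts to an isomorphism over an open subset U of X with finite complement. Then for
every point x of X at which the local ring is not regular, the fibre φ⁻¹(x) (with the topology
induced from Y) is nonempty and every irreducible component of it has dimension one: such a
desingularization is a monoidal model. (The published statement takes φ an isomorphism exactly over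
the complement of the singular points; this row allows any open U with finite complement over which
φ is an isomorphism.) -/
theorem result (k : Type u) [Field k] [IsAlgClosed k] (X : Scheme.{u}) [X.Over (Spec (CommRingCat.of k))]
    [IsIntegral X] (hdim : topologicalKrullDim X = 2)
    (hproj : ∃ (n : ℕ) (ι : X ⟶ CohB1.ProjSpace n k), IsClosedImmersion ι ∧ ι ≫ CohB1.ProjSpace.toSpec n k = (X ↘ (Spec (CommRingCat.of k))))
    (hnorm : Pi1.IsNormalScheme X) (U : X.Opens) (hU : ((U : Set X)ᶜ).Finite)
    (Y : Scheme.{u}) (φ : Y ⟶ X) [IsIntegral Y] (hdimY : topologicalKrullDim Y = 2)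
    (hregY : ∀ y : Y, IsRegularLocalRing (Y.presheaf.stalk y))
    (hprojY : ∃ (n : ℕ) (ι : Y ⟶ CohB1.ProjSpace n k), IsClosedImmersion ι ∧ ι ≫ CohB1.ProjSpace.toSpec n k = φ ≫ (X ↘ (Spec (CommRingCat.of k))))
    (hisoY : IsIso (φ ∣_ U))
    (x : X) (hx : ¬ IsRegularLocalRing (X.presheaf.stalk x)) :
    (φ.base ⁻¹' ({x} : Set X)).Nonempty ∧
      ∀ Z ∈ irreducibleComponents ↥(φ.base ⁻¹' ({x} : Set X)), topologicalKrullDim ↥Z = 1 := by
  obtain ⟨n, ι, hι, hιe⟩ := hproj
  obtain ⟨m, κ, hκ, hκe⟩ := hprojY
  haveI := hι
  haveI := hκ
  haveI : IsProper (CohB1.ProjSpace.toSpec n k) := inferInstance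
  haveI : IsProper (CohB1.ProjSpace.toSpec m k) := inferInstance
  haveI hX : IsProper (X ↘ (Spec (CommRingCat.of k))) := hιe ▸ inferInstance
  haveI hY : IsProper (φ ≫ (X ↘ (Spec (CommRingCat.of k)))) := hκe ▸ inferInstance
  haveI : IsProper φ := IsProper.of_comp φ (X ↘ (Spec (CommRingCat.of k)))
  haveI : IsLocallyNoetherian Y := LocallyOfFiniteType.isLocallyNoetherian (φ ≫ (X ↘ (Spec (CommRingCat.of k))))
  haveI : CompactSpace Y := QuasiCompact.compactSpace_of_compactSpace (φ ≫ (X ↘ (Spec (CommRingCat.of k))))
  haveI : IsJacobsonRing k := inferInstance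
  haveI : JacobsonSpace X := LocallyOfFiniteType.jacobsonSpace (X ↘ (Spec (CommRingCat.of k)))
  haveI : Finite ↥((U : Set X)ᶜ) := hU.to_subtype
  haveI : JacobsonSpace ↥((U : Set X)ᶜ) :=
    JacobsonSpace.of_isClosedEmbedding U.2.isClosed_compl.isClosedEmbedding_subtypeVal
  haveI : DiscreteTopology ↥((U : Set X)ᶜ) := inferInstance
  have hne : (U : Set X).Nonempty := by
    by_contra h
    rw [Set.not_nonempty_iff_eq_empty] at h
    have hfin : Finite X := Set.finite_univ_iff.1 (by simpa [h] using hU)
    haveI : DiscreteTopology X := inferInstance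
    haveI : Subsingleton X := ⟨fun a b => by
      obtain ⟨c, h1, h2⟩ := nonempty_preirreducible_inter (isOpen_discrete ({a} : Set X)) (isOpen_discrete ({b} : Set X)) (Set.singleton_nonempty a) (Set.singleton_nonempty b)
      exact (Set.mem_singleton_iff.1 h1).symm.trans (Set.mem_singleton_iff.1 h2)⟩
    have h0 : topologicalKrullDim X ≤ 0 := by
      haveI : Subsingleton (TopologicalSpace.IrreducibleCloseds X) := ⟨fun a b =>
        TopologicalSpace.IrreducibleCloseds.ext (Set.ext fun z => ⟨fun _ => by
          obtain ⟨w, hw⟩ := b.isIrreducible.1; exact Subsingleton.elim w z ▸ hw, fun _ => by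
          obtain ⟨w, hw⟩ := a.isIrreducible.1; exact Subsingleton.elim w z ▸ hw⟩)⟩
      exact Order.krullDim_nonpos_of_subsingleton
    rw [hdim] at h0
    exact absurd h0 (by show ¬ ((2 : ℕ) : WithBot ℕ∞) ≤ ((0 : ℕ) : WithBot ℕ∞); decide)
  have hxc : IsClosed ({x} : Set X) := by
    have hxU : x ∉ U := fun hxU => by
      haveI := hisoY
      obtain ⟨w, hw⟩ := (φ ∣_ U).surjective ⟨x, hxU⟩
      have hwx : φ w.1 = x := (morphismRestrict_base_coe φ U w).symm.trans (congrArg Subtype.val hw)
      refine hx ?_
      subst hwx
      have h1 : IsIso ((φ ∣_ U).stalkMap w) := inferInstance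
      haveI := (MorphismProperty.arrow_mk_iso_iff (MorphismProperty.isomorphisms CommRingCat)
        (morphismRestrictStalkMap φ U w)).1 h1
      haveI := hregY w.1
      exact IsRegularLocalRing.of_ringEquiv (asIso (φ.stalkMap w.1)).commRingCatIsoToRingEquiv.symm
    have h := U.2.isClosed_compl.isClosedEmbedding_subtypeVal.isClosedMap {⟨x, hxU⟩} (isClosed_discrete _)
    rwa [Set.image_singleton] at h
  exact FibCompLib.fibre_components φ hdimY hnorm hregY U hne hisoY x hxc hx

end Groth.Agent.S14698
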