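import Groth.Statements.S1470
import Groth.Agent.RelAssLib.Dim
import Groth.Agent.FlatDim.Trdeg
-- import your own Groth.Agent.* helpers here

set_option autoImplicit false
set_option backward.isDefEq.respectTransparency false
universe u
open FlatMor

namespace Groth.Agent.S1470

open AlgebraicGeometry CategoryTheory Limits in
/-- Let f : X → S be locally of finite type, F a quasi-coherent O_X-module of finite type, and y a point
of the relative assassin of F with image t; let Y be the closure of y. For a point s of S and a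
point x of the fibre of Y over s which is generic in an irreducible component of that fibre, if F is
flat over S at x then x belongs to the relative assassin of F and the local dimension of the fibre
of Y over s at x equals the dimension of the fibre of Y over t (fibres taken as subspaces of X). -/
theorem result {X S : Scheme.{u}} (f : X ⟶ S) [LocallyOfFiniteType f]
    (F : X.Modules) (hF : Coh.IsCoh F) (y : X) (hy : y ∈ MoreMor.relAss f F) (s : S) (x : X) (hx : x ∈ closure ({y} : Set ↑X)) (hxs : f x = s)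
    (hgen : ∃ C ∈ irreducibleComponents ↑(closure ({y} : Set ↑X) ∩ f ⁻¹' {s}), IsGenericPoint (⟨x, hx, hxs⟩ : ↑(closure ({y} : Set ↑X) ∩ f ⁻¹' {s})) C)
    (hfl : FlatMod.IsFlatOverAt f F x) :
    x ∈ MoreMor.relAss f F ∧
      FlatMor.localDim ↑(closure ({y} : Set ↑X) ∩ f ⁻¹' {s}) ⟨x, hx, hxs⟩ = topologicalKrullDim ↑(closure ({y} : Set ↑X) ∩ f ⁻¹' {f y}) := by
  haveI : Coh.IsQCoh F := hF.1
  have hyx : y ⤳ x := specializes_iff_mem_closure.2 hx
  obtain ⟨C, hC, hgenC⟩ := hgen
  have hmax : ∀ z : X, y ⤳ z → f z = f x → z ⤳ x → z = x := fun z hyz hfz hzx => by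
    let z' : ↑(closure ({y} : Set ↑X) ∩ f ⁻¹' {s}) := ⟨z, specializes_iff_mem_closure.1 hyz, hfz.trans hxs⟩
    have h1 : z' ⤳ (⟨x, hx, hxs⟩ : ↑(closure ({y} : Set ↑X) ∩ f ⁻¹' {s})) := (subtype_specializes_iff z' _).mpr hzx
    have h2 : C ⊆ closure {z'} := hgenC.def ▸ closure_minimal (Set.singleton_subset_iff.2 h1.mem_closure) isClosed_closure
    have h3 : closure {z'} ⊆ C := hC.2 isIrreducible_singleton.closure h2
    have h4 : (⟨x, hx, hxs⟩ : ↑(closure ({y} : Set ↑X) ∩ f ⁻¹' {s})) ⤳ z' := hgenC.specializes (h3 (subset_closure rfl))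
    exact (hzx.antisymm ((subtype_specializes_iff _ z').mp h4)).eq
  refine ⟨Groth.Agent.RelAssLib.mem_relAss_of_maximal f F hF.2 hy hyx hmax hfl, ?_⟩
  rw [Groth.Agent.OpenDim.dim_generic_fibre f]
  refine le_antisymm ?_ ?_
  · refine Groth.Agent.OpenDim.localDim_inter_le f _ isClosed_closure ⟨x, hx, hxs⟩ fun z hz hzx => ?_
    rw [hmax z (specializes_iff_mem_closure.2 hz.1) (hz.2.trans hxs.symm) hzx,
      Groth.Agent.RelAssLib.trd_eq_of_maximal f F hF.2 hy hyx hmax hfl]
  · rw [← Groth.Agent.RelAssLib.trd_eq_of_maximal f F hF.2 hy hyx hmax hfl]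
    exact Groth.Agent.OpenDim.trd_le_localDim_inter f _ isClosed_closure ⟨x, hx, hxs⟩ ⟨hx, hxs⟩ (specializes_refl _)

end Groth.Agent.S1470
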