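import Groth.Statements.S14700
import Groth.Agent.TwistShriek.SurfUnion
import Groth.Agent.ProjSerreLib.CMDual
import Groth.Agent.CurveFF.SmoothReg
-- import your own Groth.Agent.* helpers here

set_option autoImplicit false
set_option backward.isDefEq.respectTransparency false
set_option maxHeartbeats 800000
set_option synthInstance.maxHeartbeats 200000
universe u
open CategoryTheory CategoryTheory.Limits AlgebraicGeometry
open Surf
open Groth.Agent Groth.Agent.TwistShriek

namespace Groth.Agent.S14700

/-- Let k be an algebraically closed field and X an integral scheme of dimension two with all local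
rings regular, admitting a closed immersion into some P^n_k over k. Let C_1, …, C_n be pairwise
distinct integral one-dimensional closed subschemes of X with ideal sheaves I_1, …, I_n, and let Y
be the reduced closed subscheme with ideal I_1 ∩ ⋯ ∩ I_n (their union); assume Y is connected. Then
χ(O_Y) ≤ 1, i.e. the arithmetic genus 1 - χ(O_Y) of Y is nonnegative. If moreover χ(O_Y) = 1, then
χ(O_{C_i}) = 1 for every i (each C_i has arithmetic genus zero) and Σ_{i<j} (C_i · C_j) = n - 1, so
that the incidence graph of the C_i, which is connected with Σ_{i<j} (C_i · C_j) edges, contains no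
cycle; here (C_i · C_j) = χ(O_X) - χ(I_i) - χ(I_j) + χ(I_i ⊗ I_j) is the intersection number
(packaged as FGA.intNum). (The published statement allows any integral projective surface regular in
codimension one; this row takes X with all local rings regular, where the intersection numbers used
by the proof are defined.) -/
theorem result (k : Type u) [Field k] [IsAlgClosed k] (X : Scheme.{u}) [X.Over (Spec (CommRingCat.of k))]
    [IsIntegral X] (hdim : topologicalKrullDim X = 2)
    (hproj : ∃ (n : ℕ) (ι : X ⟶ CohB1.ProjSpace n k), IsClosedImmersion ι ∧ ι ≫ CohB1.ProjSpace.toSpec n k = (X ↘ (Spec (CommRingCat.of k))))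
    (hreg : ∀ x : X, IsRegularLocalRing (X.presheaf.stalk x))
    (n : ℕ) (C : Fin n → X.IdealSheafData) (hCint : ∀ i, IsIntegral (C i).subscheme)
    (hCdim : ∀ i, topologicalKrullDim ((C i).support : Set X) = 1)
    (hCinj : Function.Injective fun i => ((C i).support : Set X))
    (hconn : _root_.IsConnected ((⨅ i, C i).support : Set X)) :
    Curv2.euler k X (ClSub.quotMod (⨅ i, C i)) ≤ 1 ∧
      (Curv2.euler k X (ClSub.quotMod (⨅ i, C i)) = 1 →
        (∀ i, Curv2.euler k X (ClSub.quotMod (C i)) = 1) ∧
          (∑ i : Fin n, ∑ j : Fin n,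
              if i < j then FGA.intNum k X 2 ![ClSub.idealMod (C i), ClSub.idealMod (C j)] (Coh.structureModule X) else 0) =
            (n : ℤ) - 1) := by
    classical
    obtain ⟨N, ι, hι0, hι⟩ := hproj
    haveI := hι0
    haveI := ProjSerreLib.isProper_over ι hι
    haveI : Smooth (X ↘ Spec (CommRingCat.of k)) := CurveFF.smooth_of_regular hreg
    obtain ⟨hY, -, -, hchi⟩ := euler_union k hdim C hCint hCdim hCinj Finset.univ
    rw [Finset.inf_univ_eq_iInf] at hY hchi
    have hred : ∀ i, (C i).radical = C i := fun i => haveI := hCint i; radical_eq_self (C i)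
    haveI : IsReduced (⨅ i, C i).subscheme := by
      have h : (⨅ i, C i) = Scheme.IdealSheafData.vanishingIdeal (⨅ i, C i).support := by
        rw [Scheme.IdealSheafData.vanishingIdeal_support]
        refine le_antisymm (Scheme.IdealSheafData.le_radical _) (le_iInf fun i => ?_)
        rw [← hred i]
        exact fun U => Ideal.radical_mono ((iInf_le C i : (⨅ i, C i) ≤ C i) U)
      rw [h]
      exact DVRCrit.isReduced_vanishingIdeal _
    haveI : ConnectedSpace (⨅ i, C i).subscheme := by
      refine connectedSpace_iff_univ.2 ?_
      have h := hconn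
      rw [← Scheme.IdealSheafData.range_subschemeι, ← Set.image_univ] at h
      exact ⟨Set.image_nonempty.1 h.1, (⨅ i, C i).subschemeι.isEmbedding.isInducing.isPreconnected_image.1 h.2⟩
    have hne : (⨅ i, C i) ≠ ⊤ := fun h => by
      have h' : ((⨅ i, C i).support : Set X) = ∅ := by rw [h, Scheme.IdealSheafData.support_top]; rfl
      exact Set.not_nonempty_empty (h' ▸ hconn.1)
    have hd := (dim_divisor k hdim hY hne).le
    have he := euler_divisor k hd
    rw [finrank_H0_quot_connected k (⨅ i, C i)] at he
    have h0 := Int.natCast_nonneg (Module.finrank k (Coh.HH X (ClSub.quotMod (⨅ i, C i)) 1))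
    refine ⟨by rw [he, Nat.cast_one]; linarith, fun h1 => ?_⟩
    haveI := EulerIneqLib.isNoetherian_proper (X := X) k
    haveI := EulerIneqLib.finite_HH (k := k) (IntLib.isCoh_quotMod (⨅ i, C i)) 1
    haveI : Subsingleton (Coh.HH X (ClSub.quotMod (⨅ i, C i)) 1) :=
      Module.finrank_zero_iff.1 (show Module.finrank k (Coh.HH X (ClSub.quotMod (⨅ i, C i)) 1) = 0 by
        rw [h1, Nat.cast_one] at he; exact Int.natCast_inj.1 (show ((Module.finrank k (Coh.HH X (ClSub.quotMod (⨅ i, C i)) 1) : ℕ) : ℤ) = ((0 : ℕ) : ℤ) by rw [Nat.cast_zero]; linarith))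
    have hC1 : ∀ i, Curv2.euler k X (ClSub.quotMod (C i)) = 1 := fun i => by
      haveI : Subsingleton (Coh.HH X (ClSub.quotMod (C i)) 1) :=
        (surjective_hMap_one k (iInf_le C i) hd).subsingleton
      rw [(euler_curve_eq k (hCint i) (hCdim i)).1,
        Module.finrank_zero_of_subsingleton (R := k) (M := Coh.HH X (ClSub.quotMod (C i)) 1)]
      rfl
    refine ⟨hC1, ?_⟩
    rw [h1, Finset.sum_congr rfl (fun i _ => hC1 i), Finset.sum_const, Finset.card_univ, Fintype.card_fin,
      nsmul_eq_mul, mul_one] at hchi
    rw [Finset.sum_congr rfl (fun i _ => Finset.sum_congr rfl fun j _ => show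
      (if i < j then FGA.intNum k X 2 ![ClSub.idealMod (C i), ClSub.idealMod (C j)] (Coh.structureModule X) else 0) =
        if i < j then Nakai.form k (Nakai.cl (invertible_curve k hdim (C i) (hCint i) (hCdim i)))
          (Nakai.cl (invertible_curve k hdim (C j) (hCint j) (hCdim j))) else 0 by
      rw [intNum_eq_form k hdim.le (invertible_curve k hdim (C i) (hCint i) (hCdim i))
        (invertible_curve k hdim (C j) (hCint j) (hCdim j))])]
    linarith

end Groth.Agent.S14700
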