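import Groth.Statements.S14703
import Groth.Agent.TwistShriek.SurfInter
import Groth.Agent.TwistShriek.SurfSec
import Groth.Agent.TwistShriek.SurfCurve
import Groth.Agent.SurfPtBlow.CartierPart
import Groth.Agent.CastLib.InterFibreClass
import Groth.Agent.CastLib.InterDeg
import Groth.Agent.JacLib.IdealPull
import Groth.Agent.BirQFLib.Conn
import Groth.Agent.NakaiLib.Hodge
import Groth.Agent.H1ZeroLib.Main
import Groth.Agent.HilbLib.Poly
import Groth.Agent.CurveLib.Finite
import Groth.Agent.S7303
import Groth.Agent.S8909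
import Groth.Agent.DiagRedLib.Geom
import Groth.Agent.CastLib.StrictPoint
import Groth.Agent.S1659

set_option autoImplicit false
universe u
open CategoryTheory CategoryTheory.Limits AlgebraicGeometry
open Surf

namespace Groth.Agent.S14703

set_option backward.isDefEq.respectTransparency false
set_option linter.style.haveILetI false
set_option maxHeartbeats 1000000
set_option synthInstance.maxHeartbeats 200000
open TopologicalSpace Groth.Agent Groth.Agent.TwistShriek

/-- A point of an effective Cartier divisor has a generalisation of codimension one in it. -/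
theorem exists_codim_one {X : Scheme.{u}} [IsIntegral X] [IsLocallyNoetherian X] {R : X.IdealSheafData}
    (hR : BlowUp.IsEffCartierIdeal R) {y : X} (hy : y ∈ R.support) :
    ∃ z, z ⤳ y ∧ z ∈ R.support ∧ Order.coheight z = 1 := by
  obtain ⟨U, hyU, g, -, hgU⟩ := hR y
  haveI : IsNoetherianRing Γ(X, U.1) := IsLocallyNoetherian.component_noetherian U
  let q := (U.2.primeIdealOf ⟨y, hyU⟩)
  have hgq : Ideal.span {g} ≤ q.asIdeal := by
    have h1 : y ∈ X.zeroLocus (U := U.1) (R.ideal U) ∩ U.1 := by
      rw [← Scheme.IdealSheafData.coe_support_inter]; exact ⟨hy, hyU⟩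
    rw [← U.2.fromSpec_image_zeroLocus] at h1
    obtain ⟨q', hq', hqy⟩ := h1
    have : q' = q := U.2.fromSpec.isOpenEmbedding.injective
      (hqy.trans (U.2.fromSpec_primeIdealOf ⟨y, hyU⟩).symm)
    rw [← hgU]
    exact this ▸ hq'
  obtain ⟨p, hp, hpq⟩ := Ideal.exists_minimalPrimes_le hgq
  have hp1 : p.height ≤ 1 := Ideal.height_le_one_of_isPrincipal_of_mem_minimalPrimes _ _ hp
  let z : X := U.2.fromSpec ⟨p, hp.1.1⟩
  have hzU : z ∈ U.1 := by
    have : z ∈ Set.range U.2.fromSpec := ⟨_, rfl⟩
    rwa [U.2.range_fromSpec] at this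
  have hzR : z ∈ R.support := by
    have h1 : z ∈ X.zeroLocus (U := U.1) (R.ideal U) ∩ U.1 := by
      rw [← U.2.fromSpec_image_zeroLocus]
      refine ⟨_, ?_, rfl⟩
      have h5 : R.ideal U ≤ p := hgU ▸ hp.1.2
      exact SetLike.coe_subset_coe.2 h5
    rw [← Scheme.IdealSheafData.coe_support_inter] at h1
    exact h1.1
  have hzy : z ⤳ y := by
    have h := Specializes.map ((PrimeSpectrum.le_iff_specializes ⟨p, hp.1.1⟩ q).1 hpq) U.2.fromSpec.continuous
    rwa [U.2.fromSpec_primeIdealOf ⟨y, hyU⟩] at h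
  have hzq : U.2.primeIdealOf ⟨z, hzU⟩ = ⟨p, hp.1.1⟩ :=
    U.2.fromSpec.isOpenEmbedding.injective (U.2.fromSpec_primeIdealOf ⟨z, hzU⟩)
  have hcz := S7303.height_primeIdealOf (U := U) hzU
  rw [hzq, ringKrullDim_stalk_eq_coheight] at hcz
  exact ⟨z, hzy, hzR, le_antisymm ((WithBot.coe_le_coe.1 hcz.ge).trans hp1)
    (Order.one_le_iff_pos.2 (pos_iff_ne_zero.2 (S8909.coheight_ne_zero hR hzR)))⟩

/-- Equal principal products cancel. -/
theorem cancel_stalk {Y : Scheme.{u}} [IsIntegral Y] {D : Y.IdealSheafData} (hD : BlowUp.IsEffCartierIdeal D) (y : Y)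
    {a b : Ideal (Y.presheaf.stalk y)} (h : a * IntMult.stalkIdeal D y = b * IntMult.stalkIdeal D y) : a = b := by
  obtain ⟨g, hg, hgD⟩ := DivisorialLib.exists_gen hD y
  rw [hgD, mul_comm a, mul_comm b] at h
  exact (Ideal.span_singleton_mul_right_inj (nonZeroDivisors.ne_zero hg)).1 h

/-- Invertible modules are trivial on a scheme mapping to a point. -/
theorem nonempty_pullback_trivial {X Z : Scheme.{u}} (g : Z ⟶ X) (P : X) (hg : ∀ z, g z = P) {M : X.Modules}
    (hM : PicF.IsInvertible M) : Nonempty ((Scheme.Modules.pullback g).obj M ≅ Coh.structureModule Z) := by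
  obtain ⟨U, hPU, ⟨e⟩⟩ := hM P
  have hr : Set.range g ⊆ Set.range U.ι := by
    rintro _ ⟨z, rfl⟩
    rw [Scheme.Opens.range_ι, hg z]
    exact hPU
  refine ⟨(Scheme.Modules.pullbackCongr (IsOpenImmersion.lift_fac U.ι g hr).symm).app M ≪≫
    ((Scheme.Modules.pullbackComp (IsOpenImmersion.lift U.ι g hr) U.ι).app M).symm ≪≫
    (Scheme.Modules.pullback (IsOpenImmersion.lift U.ι g hr)).mapIso
      (((Scheme.Modules.restrictFunctorIsoPullback U.ι).app M).symm ≪≫ e) ≪≫ AmpleLib.pullO _⟩


/-- Let k be an algebraically closed field, X an integral scheme of dimension two admitting a closed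
immersion into some P^n_k over k, and U ⊆ X open with finite complement. Let φ : Y → X be a
k-morphism from an integral scheme of dimension two with all local rings regular, itself admitting a
closed immersion into some projective space over k, restricting to an isomorphism over U; let μ_1,
…, μ_s be distinct integral one-dimensional closed subschemes of Y, each mapped to a point, such
that every integral one-dimensional closed subscheme of Y mapped to a point has the support of one
of them. Let D be an effective Cartier divisor on X (an ideal sheaf I_D locally generated by one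
nonzerodivisor) and D̃ an effective Cartier divisor on Y whose support contains no μ_j and whose
ideal agrees with the inverse-image ideal φ⁻¹I_D · O_Y on every affine open contained in φ⁻¹(U) —
the strict transform of D. Then there are natural numbers γ_1, …, γ_s such that φ⁻¹I_D · O_Y =
I_{D̃} · ∏_j I_{μ_j}^{γ_j} (the total transform is the strict transform plus Σ γ_j μ_j) and Σ_j (μ_i
· μ_j) γ_j = -(D̃ · μ_i) for every i (the total transform meets every μ_i with intersection number
zero), where (A · B) = χ(O_Y) - χ(I_A) - χ(I_B) + χ(I_A ⊗ I_B) (packaged as FGA.intNum). (The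
published statement writes the coefficient vector as γ = -d⁻¹ (D̃ · μ), with d = (μ_i · μ_j), for a
locally principal divisor on a normal surface and a resolution that is an isomorphism exactly off
the singular points with exceptional fibres of pure dimension one; this row states the linear system
d γ = -(D̃ · μ), for effective Cartier divisors, any resolution that is an isomorphism over an open
subset with finite complement, and X not assumed normal.) -/
theorem result (k : Type u) [Field k] [IsAlgClosed k] (X : Scheme.{u}) [X.Over (Spec (CommRingCat.of k))]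
    [IsIntegral X] (hdim : topologicalKrullDim X = 2)
    (hproj : ∃ (n : ℕ) (ι : X ⟶ CohB1.ProjSpace n k), IsClosedImmersion ι ∧ ι ≫ CohB1.ProjSpace.toSpec n k = (X ↘ (Spec (CommRingCat.of k))))
    (U : X.Opens) (hU : ((U : Set X)ᶜ).Finite)
    (Y : Scheme.{u}) (φ : Y ⟶ X) [IsIntegral Y] (hdimY : topologicalKrullDim Y = 2)
    (hregY : ∀ y : Y, IsRegularLocalRing (Y.presheaf.stalk y))
    (hprojY : ∃ (n : ℕ) (ι : Y ⟶ CohB1.ProjSpace n k), IsClosedImmersion ι ∧ ι ≫ CohB1.ProjSpace.toSpec n k = φ ≫ (X ↘ (Spec (CommRingCat.of k))))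
    (hiso : IsIso (φ ∣_ U))
    (s : ℕ) (μ : Fin s → Y.IdealSheafData) (hμint : ∀ j, IsIntegral (μ j).subscheme)
    (hμdim : ∀ j, topologicalKrullDim ((μ j).support : Set Y) = 1)
    (hμpt : ∀ j, ∃ x : X, φ.base '' ((μ j).support : Set Y) = {x})
    (hμinj : Function.Injective fun j => ((μ j).support : Set Y))
    (hμall : ∀ E : Y.IdealSheafData, IsIntegral E.subscheme → topologicalKrullDim (E.support : Set Y) = 1 →
      (∃ x : X, φ.base '' (E.support : Set Y) = {x}) → ∃ j, (E.support : Set Y) = (μ j).support)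
    (D : X.IdealSheafData) (hD : FGA.IsEffCartier D) (Dt : Y.IdealSheafData) (hDt : FGA.IsEffCartier Dt)
    (hDtexc : ∀ j, ¬ ((μ j).support : Set Y) ⊆ Dt.support)
    (hDtU : ∀ W : Y.affineOpens, (W : Y.Opens) ≤ φ ⁻¹ᵁ U → Dt.ideal W = (D.comap φ).ideal W) :
    letI : Y.Over (Spec (CommRingCat.of k)) := ⟨φ ≫ (X ↘ (Spec (CommRingCat.of k)))⟩
    ∃ γ : Fin s → ℕ, D.comap φ = Dt * ∏ j : Fin s, μ j ^ γ j ∧
      ∀ i : Fin s, (∑ j : Fin s, FGA.intNum k Y 2 ![ClSub.idealMod (μ i), ClSub.idealMod (μ j)] (Coh.structureModule Y) * (γ j : ℤ)) =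
        - FGA.intNum k Y 2 ![ClSub.idealMod Dt, ClSub.idealMod (μ i)] (Coh.structureModule Y) := by
  letI : Y.Over (Spec (CommRingCat.of k)) := ⟨φ ≫ (X ↘ (Spec (CommRingCat.of k)))⟩
  obtain ⟨nX, ιX, hX0, hX1⟩ := hproj
  obtain ⟨nY, ιY, hY0, hY1⟩ := hprojY
  haveI := hX0
  haveI := hY0
  haveI := ProjSerreLib.isProper_over ιX hX1
  haveI : IsProper (Y ↘ Spec (CommRingCat.of k)) := ProjSerreLib.isProper_over ιY hY1
  haveI := EulerIneqLib.isNoetherian_proper (X := X) k
  haveI := EulerIneqLib.isNoetherian_proper (X := Y) k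
  haveI : JacobsonSpace X := LocallyOfFiniteType.jacobsonSpace (X ↘ Spec (CommRingCat.of k))
  have hcU : ∀ x : X, x ∉ U → IsClosed ({x} : Set X) := fun x hx =>
    TwistShriek.isClosed_singleton_of_mem_finite U.2.isClosed_compl hU hx
  have hUne : (U : Set X).Nonempty := by
    by_contra hne
    have hall : ∀ x : X, x ∉ U := fun x hx => hne ⟨x, hx⟩
    have h2 : ringKrullDim (X.presheaf.stalk (genericPoint X)) = 2 := by
      rw [BoundaryConn.ringKrullDim_stalk_closed (X ↘ Spec (CommRingCat.of k)) _ (hcU _ (hall _)), hdim]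
    rw [ringKrullDim_stalk_eq_coheight, Order.coheight_eq_zero.2 fun y _ => Scheme.le_iff_specializes.2 (genericPoint_specializes y)] at h2
    exact absurd h2 (by decide)
  obtain ⟨hgenφ, -⟩ := BirQFLib.birational_of_isIso_restrict φ U hUne hiso
  have hD' : BlowUp.IsEffCartierIdeal D := fun x => hD x
  have hDt' : BlowUp.IsEffCartierIdeal Dt := fun x => hDt x
  let A := D.comap φ
  have hA : BlowUp.IsEffCartierIdeal A := CastLib.isEffCartier_comap_integral φ hD' (by
    rw [hgenφ]
    exact fun h => S8909.coheight_ne_zero hD' h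
      (Order.coheight_eq_zero.2 fun y _ => Scheme.le_iff_specializes.2 (genericPoint_specializes y)))
  have hstalk : ∀ y : Y, φ y ∈ U → IntMult.stalkIdeal Dt y = IntMult.stalkIdeal A y := fun y hy => by
    obtain ⟨_, ⟨W, hW, rfl⟩, hyW, hWU⟩ :=
      Y.isBasis_affineOpens.exists_subset_of_mem_open (a := y) (u := ↑(φ ⁻¹ᵁ U)) hy (φ ⁻¹ᵁ U).2
    rw [IdealStalkLib.stalkIdeal_eq Dt ⟨W, hW⟩ y hyW, IdealStalkLib.stalkIdeal_eq A ⟨W, hW⟩ y hyW, hDtU ⟨W, hW⟩ hWU]
  have hcl2 : ∀ z : Y, IsClosed ({z} : Set Y) → Order.coheight z = 2 := fun z hz => by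
    have h := BoundaryConn.ringKrullDim_stalk_closed (Y ↘ Spec (CommRingCat.of k)) z hz
    rw [hdimY, ringKrullDim_stalk_eq_coheight] at h
    exact WithBot.coe_inj.1 h
  -- exceptional curves
  have hexc : ∀ z : Y, Order.coheight z = 1 → φ z ∉ U → ∃ j, z ∈ (μ j).support ∧ (μ j).support ≤ ⟨closure {z}, isClosed_closure⟩ := by
    intro z hz1 hzU
    have hne : genericPoint Y ∉ closure ({z} : Set Y) := fun h => by
      have : z = genericPoint Y := ((specializes_iff_mem_closure.2 h).antisymm (genericPoint_specializes z)).eq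
      rw [this, Order.coheight_eq_zero.2 fun y _ => Scheme.le_iff_specializes.2 (genericPoint_specializes y)] at hz1
      exact absurd hz1 (by decide)
    have hcl : closure {genericPoint Y} = (Set.univ : Set Y) := (genericPoint_spec Y).def
    have hlt := HilbLib.dim_lt_of_notMem (n := 2) isClosed_closure (by rw [hcl]; exact Set.subset_univ _) hne (by
      rw [hcl, IsHomeomorph.topologicalKrullDim_eq _ (Homeomorph.Set.univ Y).isHomeomorph, hdimY]
      exact_mod_cast Nat.lt_succ_self 2)
    have hd1 : topologicalKrullDim (closure ({z} : Set Y)) = 1 := by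
      have hn0 : ¬ topologicalKrullDim (closure ({z} : Set Y)) ≤ 0 := fun h0 => by
        have h := CurveLib.closure_singleton_eq isClosed_closure h0 (subset_closure rfl : z ∈ closure ({z} : Set Y))
        have := hcl2 z (h ▸ isClosed_closure)
        rw [hz1] at this
        exact absurd this (by decide)
      generalize topologicalKrullDim (closure ({z} : Set Y)) = d at hlt hn0
      induction d using WithBot.recBotCoe with
      | bot => exact absurd bot_le hn0
      | coe m =>
        change (m : WithBot ℕ∞) < ((2 : ℕ∞) : WithBot ℕ∞) at hlt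
        have h1 : m < 1 + 1 := by rw [one_add_one_eq_two]; exact WithBot.coe_lt_coe.1 hlt
        have h2 : m ≤ 1 := (ENat.lt_add_one_iff ENat.one_ne_top).1 h1
        have h3 : (1 : ℕ∞) ≤ m := Order.one_le_iff_pos.2 (lt_of_not_ge fun h => hn0 (WithBot.coe_le_coe.2 h))
        exact congrArg WithBot.some (le_antisymm h2 h3)
    let E := Scheme.IdealSheafData.vanishingIdeal (⟨closure {z}, isClosed_closure⟩ : Closeds Y)
    have hEs : (E.support : Set Y) = closure {z} := Scheme.IdealSheafData.coe_support_vanishingIdeal _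
    haveI : IsIntegral E.subscheme := CurveLib.isIntegral_vanishingIdeal isClosed_closure isIrreducible_singleton.closure
    obtain ⟨j, hj⟩ := hμall E inferInstance (by rw [hEs]; exact hd1) ⟨φ z, by
      rw [hEs]
      refine Set.Subset.antisymm ((image_closure_subset_closure_image φ.continuous).trans ?_) ?_
      · rw [Set.image_singleton, (hcU _ hzU).closure_eq]
      · rintro _ rfl; exact ⟨z, subset_closure rfl, rfl⟩⟩
    rw [hEs] at hj
    refine ⟨j, ?_, ?_⟩
    · rw [← SetLike.mem_coe, ← hj]; exact subset_closure rfl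
    · intro w hw; show w ∈ closure {z}; rw [hj]; exact hw
  -- the common part
  let G := A ⊔ Dt
  have hG : G ≠ ⊥ := fun h => by
    have : Dt = ⊥ := le_bot_iff.1 (h ▸ le_sup_right)
    exact S8909.coheight_ne_zero hDt' (x := genericPoint Y) (by rw [this, Scheme.IdealSheafData.support_bot]; trivial)
      (Order.coheight_eq_zero.2 fun y _ => Scheme.le_iff_specializes.2 (genericPoint_specializes y))
  obtain ⟨D0, Kf, hD0, hGK, hKfin, hKpts⟩ := SurfPtBlow.exists_cartier_mul hregY hdimY.le G hG
  have hG0 : G ≤ D0 := DivisorialLib.le_of_stalk fun y => by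
    rw [hGK, DivisorialLib.stalkIdeal_mul]; exact Ideal.mul_le_right
  obtain ⟨A', hA'⟩ := SurfPtBlow.exists_eq_mul hD0 (le_sup_left.trans hG0 : A ≤ D0)
  obtain ⟨B', hB'⟩ := SurfPtBlow.exists_eq_mul hD0 (le_sup_right.trans hG0 : Dt ≤ D0)
  have hA'c : BlowUp.IsEffCartierIdeal A' := BlowCompLib.isEffCartier_of_mul (hA' ▸ hA)
  have hB'c : BlowUp.IsEffCartierIdeal B' := BlowCompLib.isEffCartier_of_mul (hB' ▸ hDt')
  have hAB : ∀ y, φ y ∈ U → IntMult.stalkIdeal A' y = IntMult.stalkIdeal B' y := fun y hy => by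
    apply cancel_stalk hD0 y
    rw [← DivisorialLib.stalkIdeal_mul, ← DivisorialLib.stalkIdeal_mul, ← hA', ← hB', hstalk y hy]
  have hB'top : B' = ⊤ := by
    refine DivisorialLib.ext_stalk fun y => ?_
    rw [DivisorialLib.stalkIdeal_top]
    refine IdealMulLib.stalkIdeal_eq_top B' fun hy => ?_
    obtain ⟨z, -, hz, hz1⟩ := exists_codim_one hB'c hy
    have hzD : z ∈ Dt.support := by rw [hB', Scheme.IdealSheafData.support_mul]; exact Or.inl hz
    have hzU : φ z ∈ U := by
      by_contra hzU
      obtain ⟨j, -, hj⟩ := hexc z hz1 hzU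
      exact hDtexc j fun w hw => (specializes_iff_mem_closure.2 (hj hw)).mem_closed Dt.support.isClosed hzD
    have hKz : IntMult.stalkIdeal Kf z = IntMult.stalkIdeal B' z := by
      apply cancel_stalk hD0 z
      rw [← DivisorialLib.stalkIdeal_mul, ← DivisorialLib.stalkIdeal_mul, ← hGK, ← hB']
      refine le_antisymm ?_ (H1ZeroLib.stalkIdeal_mono le_sup_right z)
      rw [DiagRedLib.stalkIdeal_sup]
      exact sup_le (hstalk z hzU).ge le_rfl
    have hzK : z ∈ Kf.support := DivisorialLib.mem_support_of_ne_top fun htop => by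
      rw [hKz] at htop
      exact (IsLocalRing.maximalIdeal.isMaximal _).ne_top
        (top_le_iff.1 (htop ▸ IdealStalkLib.stalkIdeal_le_maximal B' hz))
    have := hcl2 z (hKpts z hzK).1
    rw [hz1] at this
    exact absurd this (by decide)
  have hAeq : A = A' * Dt := by rw [hB', hB'top, ← Scheme.IdealSheafData.one_eq_top, one_mul]; exact hA'
  have hμc : ∀ j, BlowUp.IsEffCartierIdeal (μ j) := fun j => by
    haveI := hμint j
    have hd : topologicalKrullDim (μ j).subscheme = 1 := by
      rw [← hμdim j, ← Scheme.IdealSheafData.range_subschemeι]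
      exact ((μ j).subschemeι.isEmbedding.toHomeomorph).isHomeomorph.topologicalKrullDim_eq
    have h := isEffCartierIdeal_curve (Y ↘ Spec (CommRingCat.of k)) hdimY hregY (μ j).subschemeι hd
    rwa [Scheme.IdealSheafData.ker_subschemeι] at h
  have hA'supp : (A'.support : Set Y) ⊆ ⋃ j, ((μ j).support : Set Y) := fun y hy => by
    obtain ⟨z, hzy, hz, hz1⟩ := exists_codim_one hA'c hy
    have hzU : φ z ∉ U := fun hzU => by
      have h := hAB z hzU
      rw [hB'top, DivisorialLib.stalkIdeal_top] at h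
      exact (IsLocalRing.maximalIdeal.isMaximal _).ne_top
        (top_le_iff.1 (h ▸ IdealStalkLib.stalkIdeal_le_maximal A' hz))
    obtain ⟨j, hj, -⟩ := hexc z hz1 hzU
    exact Set.mem_iUnion.2 ⟨j, hzy.mem_closed (μ j).support.isClosed hj⟩
  obtain ⟨γ, hγ⟩ := Groth.Agent.S1659.result Y A' hA'c s μ hμc hμint hA'supp
  refine ⟨γ, by rw [show D.comap φ = A' * Dt from hAeq, hγ, mul_comm], fun i => ?_⟩
  -- the total transform is orthogonal to the exceptional curves
  have hd : topologicalKrullDim Y ≤ ((2 : ℕ) : WithBot ℕ∞) := by exact_mod_cast hdimY.le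
  have hd2 : topologicalKrullDim Y = ((2 : ℕ) : WithBot ℕ∞) := by exact_mod_cast hdimY
  have hμi : ∀ j, PicF.IsInvertible (ClSub.idealMod (μ j)) := fun j => CastLib.isInvertible_idealMod (hμc j)
  have hDti := CastLib.isInvertible_idealMod hDt'
  have hAi := CastLib.isInvertible_idealMod hA
  obtain ⟨L, ⟨eL⟩⟩ := CastLib.exists_inverse_idealMod hA
  have hL : PicF.IsInvertible L := AmpleLib.isInvertible_of_tensor_iso eL
  let ι := (μ i).subschemeι
  have hIker : PicF.IsInvertible (ClSub.idealMod ι.ker) := by rw [Scheme.IdealSheafData.ker_subschemeι]; exact hμi i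
  have hzero : FGA.intNum k Y 2 ![ClSub.idealMod (μ i), ClSub.idealMod A] (Coh.structureModule Y) = 0 := by
    have h := intNum_ideal_inv_eq k hd ι hIker hL eL
    rw [Scheme.IdealSheafData.ker_subschemeι] at h
    rw [h]
    obtain ⟨P, hP⟩ := hμpt i
    have hg : ∀ z, (ι ≫ φ) z = P := fun z => by
      have : φ (ι z) ∈ φ.base '' ((μ i).support : Set Y) :=
        ⟨ι z, (μ i).range_subschemeι.le ⟨z, rfl⟩, rfl⟩
      rw [hP] at this
      exact this
    obtain ⟨e1⟩ := nonempty_pullback_trivial (ι ≫ φ) P hg ((S8914.result D).2 hD')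
    obtain ⟨e2⟩ := JacLib.nonempty_iso_pullback_idealMod φ D hD' hA
    have eA : (Scheme.Modules.pullback ι).obj (ClSub.idealMod A) ≅ Coh.structureModule _ :=
      (Scheme.Modules.pullback ι).mapIso e2.symm ≪≫ (Scheme.Modules.pullbackComp ι φ).app _ ≪≫ e1
    have hmk : IntLib.mk ((Scheme.Modules.pullback ι).obj L) = 1 := by
      have h1 := congrArg (IntLib.pullCls ι) ((IntLib.mk_tensor L (ClSub.idealMod A)).symm.trans
        ((IntLib.mk_congr eL).trans IntLib.mk_structureModule))
      rwa [map_mul, map_one, IntLib.pullCls_mk, IntLib.pullCls_mk, IntLib.mk_congr eA, IntLib.mk_structureModule,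
        mul_one] at h1
    obtain ⟨e3⟩ := IntLib.mk_eq_mk.1 (hmk.trans IntLib.mk_structureModule.symm)
    letI : (μ i).subscheme.Over (Spec (CommRingCat.of k)) := ⟨ι ≫ (Y ↘ Spec (CommRingCat.of k))⟩
    haveI : IsProper ((μ i).subscheme ↘ Spec (CommRingCat.of k)) :=
      inferInstanceAs (IsProper (ι ≫ (Y ↘ Spec (CommRingCat.of k))))
    exact sub_eq_zero.2 (CurveLib.euler_iso (K := k) e3)
  let Q : Y.IdealSheafData → ℤ := fun J =>
    FGA.intNum k Y 2 ![ClSub.idealMod J, ClSub.idealMod (μ i)] (Coh.structureModule Y)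
  have hQ : ∀ {J : Y.IdealSheafData} (hJ : PicF.IsInvertible (ClSub.idealMod J)),
      Q J = Nakai.form k (Nakai.cl hJ) (Nakai.cl (hμi i)) := fun hJ => intNum_eq_form k hd hJ (hμi i)
  have hmul : ∀ {I J : Y.IdealSheafData}, BlowUp.IsEffCartierIdeal I → BlowUp.IsEffCartierIdeal J →
      Q (I * J) = Q I + Q J := fun {I J} hI hJ => by
    obtain ⟨e⟩ := IntLib.mk_eq_mk.1 ((CastLib.mk_idealMod_mul hI hJ).trans
      (IntLib.mk_tensor (ClSub.idealMod I) (ClSub.idealMod J)).symm)
    rw [hQ (CastLib.isInvertible_idealMod (BlowCompLib.isEffCartier_mul hI hJ)), hQ (CastLib.isInvertible_idealMod hI),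
      hQ (CastLib.isInvertible_idealMod hJ),
      Nakai.cl_congr _ (AmpleLib.isInvertible_tensor (CastLib.isInvertible_idealMod hI) (CastLib.isInvertible_idealMod hJ)) e,
      Nakai.cl_tensor (CastLib.isInvertible_idealMod hI) (CastLib.isInvertible_idealMod hJ), ← Nakai.form_add_left]
    refine Nakai.form_congr k hd2 ?_ (Nakai.cl_mem _)
    rw [add_sub_cancel_left, pow_two]
    exact Ideal.mul_mem_mul (Nakai.cl_mem _) (Nakai.cl_mem _)
  have htop : Q 1 = 0 := by
    have hT : BlowUp.IsEffCartierIdeal (1 : Y.IdealSheafData) := BlowCompLib.isEffCartier_top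
    have h := hmul hT hT
    rw [one_mul] at h
    linarith
  have hpow : ∀ (j : Fin s) (m : ℕ), Q (μ j ^ m) = (m : ℤ) * Q (μ j) := fun j m => by
    induction m with
    | zero => rw [pow_zero, htop, Nat.cast_zero, zero_mul]
    | succ m ih =>
      rw [pow_succ, hmul (CastLib.StrictPoint.isEffCartier_pow (hμc j) m) (hμc j), ih]
      push_cast; ring
  have hprod : ∀ t : Finset (Fin s), Q (∏ j ∈ t, μ j ^ γ j) = ∑ j ∈ t, (γ j : ℤ) * Q (μ j) := fun t => by
    induction t using Finset.induction_on with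
    | empty => rw [Finset.prod_empty, Finset.sum_empty, htop]
    | insert j t hj ih =>
      rw [Finset.prod_insert hj, hmul (CastLib.StrictPoint.isEffCartier_pow (hμc j) (γ j))
        (CastLib.mk_idealMod_prod μ hμc γ t).1, hpow, ih, Finset.sum_insert hj]
  have hA0 : Q A = 0 := by
    rw [hQ hAi, Nakai.form_comm, ← intNum_eq_form k hd (hμi i) hAi]
    exact hzero
  have htot : Q A = Q Dt + ∑ j, (γ j : ℤ) * Q (μ j) := by
    conv_lhs => rw [hAeq, hγ, mul_comm]
    rw [hmul hDt' (CastLib.mk_idealMod_prod μ hμc γ Finset.univ).1, hprod]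
  have hterm : ∀ j, FGA.intNum k Y 2 ![ClSub.idealMod (μ i), ClSub.idealMod (μ j)] (Coh.structureModule Y) * (γ j : ℤ) =
      (γ j : ℤ) * Q (μ j) := fun j => by
    rw [intNum_eq_form k hd (hμi i) (hμi j), hQ (hμi j), Nakai.form_comm]; exact mul_comm _ _
  rw [Finset.sum_congr rfl fun j _ => hterm j]
  show _ = -Q Dt
  linarith

end Groth.Agent.S14703
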