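import Groth.Statements.S1660
import Groth.Agent.InvExt.Cartier
import Groth.Agent.SubLib.ExtendWO

set_option autoImplicit false
universe u
open CategoryTheory CategoryTheory.Limits AlgebraicGeometry
open Divisors

namespace Groth.Agent.S1660

open CategoryTheory CategoryTheory.Limits AlgebraicGeometry


open TopologicalSpace Opposite Groth.Agent.InvExt

variable {X : Scheme.{u}} {U : X.Opens}

lemma comap_map_eq (D : (U : Scheme.{u}).IdealSheafData) [QuasiCompact U.ι] : (D.map U.ι).comap U.ι = D := by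
  refine le_antisymm (Scheme.IdealSheafData.comap_map_le D U.ι) fun V r hr => ?_
  rw [Scheme.IdealSheafData.ideal_comap_of_isOpenImmersion, Ideal.mem_comap]
  have H : IsAffineOpen (U.ι ⁻¹ᵁ (U.ι ''ᵁ V.1)) := by rw [U.ι.preimage_image_eq]; exact V.2
  rw [Scheme.IdealSheafData.ideal_map D U.ι ⟨_, V.2.image_of_isOpenImmersion U.ι⟩ H, Ideal.mem_comap]
  have h1 := Ideal.mem_map_of_mem ((U : Scheme.{u}).presheaf.map (homOfLE (U.ι.preimage_image_eq V.1).le).op).hom hr
  replace h1 := (D.map_ideal (U := ⟨_, H⟩) (V := V) (U.ι.preimage_image_eq V.1).le).le h1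
  refine (Eq.subst (motive := fun t => t ∈ _) ?_ h1)
  show _ = (U.ι.app (U.ι ''ᵁ V.1)) ((U.ι.appIso V.1).inv r)
  rw [← CommRingCat.comp_apply, Scheme.Hom.appIso_inv_app]
  rfl

lemma image_principal (D : (U : Scheme.{u}).IdealSheafData) [QuasiCompact U.ι] (V : (U : Scheme.{u}).affineOpens)
    (t : Γ((U : Scheme.{u}), V.1)) (ht : D.ideal V = Ideal.span {t}) :
    (D.map U.ι).ideal ⟨_, V.2.image_of_isOpenImmersion U.ι⟩ = Ideal.span {(U.ι.appIso V.1).inv t} := by
  have h := congrArg (fun J => J.ideal V) (comap_map_eq D)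
  simp only [Scheme.IdealSheafData.ideal_comap_of_isOpenImmersion] at h
  refine (Ideal.map_comap_of_surjective _ (U.ι.appIso V.1).symm.commRingCatIsoToRingEquiv.surjective _).symm.trans ?_
  refine (congrArg (Ideal.map (U.ι.appIso V.1).inv.hom) (h.trans ht)).trans ?_
  rw [Ideal.map_span, Set.image_singleton]

lemma mem_map_ideal (D : (U : Scheme.{u}).IdealSheafData) [QuasiCompact U.ι] (W : X.affineOpens) (r : Γ(X, W.1))
    (h : ∀ (V : X.affineOpens) (hV : V.1 ≤ W.1), V.1 ≤ U →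
      X.presheaf.map (homOfLE hV).op r ∈ (D.map U.ι).ideal V) : r ∈ (D.map U.ι).ideal W := by
  rw [Scheme.IdealSheafData.map, Scheme.Hom.ker_apply, RingHom.mem_ker]
  let g := D.subschemeι ≫ U.ι
  let ι' := {V : X.affineOpens // V.1 ≤ W.1 ∧ V.1 ≤ U}
  have hcov : g ⁻¹ᵁ W.1 ≤ ⨆ V : ι', g ⁻¹ᵁ V.1.1 := fun p hp => by
    obtain ⟨V, hV, hpV, hVW⟩ := exists_isAffineOpen_mem_and_subset (U := W.1 ⊓ U) (x := g p) ⟨hp, (D.subschemeι p).2⟩
    exact Opens.mem_iSup.2 ⟨⟨⟨V, hV⟩, fun a ha => (hVW ha).1, fun a ha => (hVW ha).2⟩, hpV⟩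
  refine TopCat.Sheaf.eq_of_locally_eq' D.subscheme.sheaf (fun V : ι' => g ⁻¹ᵁ V.1.1) (g ⁻¹ᵁ W.1)
    (fun V => homOfLE (g.preimage_mono V.2.1)) hcov _ _ fun V => ?_
  have h1 := h V.1 V.2.1 V.2.2
  rw [Scheme.IdealSheafData.map, Scheme.Hom.ker_apply, RingHom.mem_ker] at h1
  refine Eq.trans ?_ (h1.trans (map_zero _).symm)
  exact (ConcreteCategory.congr_hom (g.naturality (homOfLE V.2.1).op) r).symm

/-- Let X be locally Noetherian, U open, and D an effective Cartier divisor on U. If the local ring of X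
at every point outside U is a unique factorisation domain, then there is an effective Cartier
divisor D' on X whose restriction (inverse image ideal) to U is D. -/
theorem result (X : Scheme.{u}) [IsLocallyNoetherian X] (U : X.Opens)
    (D : (U : Scheme.{u}).IdealSheafData) (hD : BlowUp.IsEffCartierIdeal D)
    (hufd : ∀ x : X, x ∉ U → IsDomain (X.presheaf.stalk x) ∧ UniqueFactorizationMonoid (X.presheaf.stalk x)) :
    ∃ D' : X.IdealSheafData, BlowUp.IsEffCartierIdeal D' ∧ D'.comap U.ι = D := by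

  have hNX : ∀ x : X, ∃ W : X.Opens, x ∈ W ∧ NoetherianSpace (W : Set X) := fun y => by
    obtain ⟨W, hW, hyW, -⟩ := exists_isAffineOpen_mem_and_subset (X := X) (U := ⊤) (x := y) trivial
    haveI : IsNoetherianRing Γ(X, W) := IsLocallyNoetherian.component_noetherian ⟨W, hW⟩
    exact ⟨W, hyW, noetherianSpace_of_isAffineOpen W hW⟩
  haveI : QuasiCompact U.ι := SubLib.quasiCompact_ι_of_isCompact_inter U
    fun _ h => SubLib.isCompact_inter_of_noetherianNhds hNX h U
  let D' := D.map U.ι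
  -- charts on `U`
  have hchart : ∀ (q : X), q ∈ U → ∃ V : X.affineOpens, q ∈ V.1 ∧ V.1 ≤ U ∧
      ∃ t, t ∈ nonZeroDivisors Γ(X, V.1) ∧ D'.ideal V = Ideal.span {t} := by
    intro q hq
    obtain ⟨V, hqV, t, htn, ht⟩ := hD ⟨q, hq⟩
    refine ⟨⟨_, V.2.image_of_isOpenImmersion U.ι⟩, ⟨⟨q, hq⟩, hqV, rfl⟩, ?_, _, ?_, image_principal D V t ht⟩
    · rintro _ ⟨w, -, rfl⟩
      exact w.2
    · let e := (U.ι.appIso V.1).symm.commRingCatIsoToRingEquiv
      have h0 : ∀ y, e y = 0 → y = 0 := fun y hy => e.map_eq_zero_iff.1 hy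
      refine mem_nonZeroDivisors_iff.2 ⟨fun z hz => ?_, fun z hz => ?_⟩
      · obtain ⟨y, rfl⟩ := e.surjective z
        rw [(mem_nonZeroDivisors_iff.1 htn).1 y (h0 _ ((map_mul e t y).trans hz)), map_zero]
      · obtain ⟨y, rfl⟩ := e.surjective z
        rw [(mem_nonZeroDivisors_iff.1 htn).2 y (h0 _ ((map_mul e y t).trans hz)), map_zero]
  refine ⟨D', fun x => ?_, comap_map_eq D⟩
  by_cases hx : x ∈ U
  · obtain ⟨V, hxV, -, t, htn, ht⟩ := hchart x hx
    exact ⟨V, hxV, t, htn, ht⟩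
  obtain ⟨_, _⟩ := hufd x hx
  -- a basic open of `W` inside a chart
  have hbasic : ∀ (W : X.affineOpens) (q : X), q ∈ W.1 → q ∈ U → ∃ (V : X.affineOpens) (f : Γ(X, W.1)) (t : Γ(X, V.1))
      (hfV : X.basicOpen f ≤ V.1), q ∈ X.basicOpen f ∧ t ∈ nonZeroDivisors Γ(X, V.1) ∧ D'.ideal V = Ideal.span {t} ∧
        (D'.ideal W).map (X.presheaf.map (homOfLE (X.basicOpen_le f)).op).hom =
          Ideal.span {X.presheaf.map (homOfLE hfV).op t} := by
    intro W q hqW hqU
    obtain ⟨V, hqV, -, t, htn, ht⟩ := hchart q hqU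
    obtain ⟨f, hf, hqf⟩ := W.2.exists_basicOpen_le ⟨q, hqV⟩ hqW
    refine ⟨V, f, t, hf, hqf, htn, ht, ?_⟩
    rw [D'.map_ideal_basicOpen W f, ← D'.map_ideal (U := X.affineBasicOpen f) (V := V) hf, ht, Ideal.map_span,
      Set.image_singleton]
    rfl
  refine exists_cartier_nhd D' x ?_ ?_
  · intro W hxW hint hbot
    haveI := hint
    haveI : IsDomain Γ(X, W.1) := isDomain_sections (W₀ := W.1) le_rfl ⟨x, hxW⟩
    suffices h1 : (1 : Γ(X, W.1)) ∈ D'.ideal W by
      rw [hbot, Ideal.mem_bot] at h1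
      exact one_ne_zero h1
    refine mem_map_ideal D W 1 fun V' hV'W hV'U => ?_
    suffices hU' : (V'.1 : Set X) = ∅ by
      haveI : Subsingleton Γ(X, V'.1) := by
        rw [show V'.1 = ⊥ from Opens.ext hU']
        infer_instance
      rw [Subsingleton.elim (X.presheaf.map (homOfLE hV'W).op (1 : Γ(X, W.1))) (0 : Γ(X, V'.1))]
      exact zero_mem _
    by_contra hne
    obtain ⟨q, hq⟩ := Set.nonempty_iff_ne_empty.2 hne
    obtain ⟨V, f, t, hfV, hqf, htn, ht, hmap⟩ := hbasic W q (hV'W hq) (hV'U hq)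
    rw [hbot, Ideal.map_bot, eq_comm, Ideal.span_singleton_eq_bot] at hmap
    have hne2 := inter_nonempty (W₀ := W.1) (X.basicOpen_le f) le_rfl ⟨q, hqf⟩ ⟨q, hV'W hq⟩
    -- the germ of a nonzerodivisor at `q` cannot vanish
    letI : Algebra Γ(X, V.1) (X.presheaf.stalk q) := TopCat.Presheaf.algebra_section_stalk X.presheaf ⟨q, hfV hqf⟩
    haveI := V.2.isLocalization_stalk ⟨q, hfV hqf⟩
    have h0 : algebraMap Γ(X, V.1) (X.presheaf.stalk q) t = algebraMap Γ(X, V.1) (X.presheaf.stalk q) 0 := by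
      rw [map_zero]
      show X.presheaf.germ V.1 q _ t = 0
      rw [← X.presheaf.germ_res_apply (homOfLE hfV) q hqf t, hmap, map_zero]
    obtain ⟨c, hc⟩ := (IsLocalization.eq_iff_exists (V.2.primeIdealOf ⟨q, hfV hqf⟩).asIdeal.primeCompl _).1 h0
    rw [mul_zero] at hc
    have hc0 : (c : Γ(X, V.1)) = 0 := (mem_nonZeroDivisors_iff.1 htn).2 _ hc
    exact c.2 (hc0 ▸ zero_mem _)
  · intro W hxW hint a ha q hqW hqx hcol
    have hqU : q ∈ U := by
      by_contra hqU
      refine ha (mem_map_ideal D W a fun V' hV'W hV'U => ?_)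
      have hsub : ∀ z ∈ V'.1, ∃ r : Γ(X, W.1), z ∈ X.basicOpen r ∧ r * a ∈ D'.ideal W := fun z hz => by
        obtain ⟨r, hr, hzr⟩ := W.2.exists_basicOpen_le ⟨z, (hV'U hz : z ∈ U)⟩ (hV'W hz)
        refine ⟨r, hzr, (hcol r).2 ?_⟩
        by_contra hrQ
        exact hqU (hr ((mem_basicOpen_iff_not_mem W.2 q hqW r).2 hrQ))
      choose r hzr hra using hsub
      have hspan : Ideal.span (Set.range fun z : V'.1 => X.presheaf.map (homOfLE hV'W).op (r z.1 z.2)) = ⊤ := by
        rw [← V'.2.iSup_basicOpen_eq_self_iff]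
        refine le_antisymm (iSup_le fun _ => X.basicOpen_le _) fun z hz => ?_
        refine Opens.mem_iSup.2 ⟨⟨_, ⟨⟨z, hz⟩, rfl⟩⟩, ?_⟩
        rw [Scheme.basicOpen_res]
        exact ⟨hz, hzr z hz⟩
      have hle : Ideal.span (Set.range fun z : V'.1 => X.presheaf.map (homOfLE hV'W).op (r z.1 z.2)) ≤
          (D'.ideal V').colon {X.presheaf.map (homOfLE hV'W).op a} := Ideal.span_le.2 (by
        rintro _ ⟨z, rfl⟩
        rw [SetLike.mem_coe, Submodule.mem_colon_singleton, smul_eq_mul, ← map_mul]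
        exact D'.ideal_le_comap_ideal (show V' ≤ W from hV'W) (hra z.1 z.2))
      have h1 := hle (hspan.symm ▸ Submodule.mem_top : (1 : Γ(X, V'.1)) ∈ _)
      rw [Submodule.mem_colon_singleton, one_smul] at h1
      exact h1
    obtain ⟨V, f, t, hfV, hqf, htn, -, hmap⟩ := hbasic W q hqW hqU
    let Q := (W.2.primeIdealOf ⟨q, hqW⟩).asIdeal
    letI : Algebra Γ(X, W.1) (X.presheaf.stalk q) := TopCat.Presheaf.algebra_section_stalk X.presheaf ⟨q, hqW⟩
    haveI := W.2.isLocalization_stalk ⟨q, hqW⟩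
    refine principalAt_of_isPrincipal_loc _ Q (X.presheaf.stalk q) ⟨X.presheaf.germ _ q hqf (X.presheaf.map (homOfLE hfV).op t), ?_⟩
    have h2 : (algebraMap Γ(X, W.1) (X.presheaf.stalk q)) =
        (X.presheaf.germ _ q hqf).hom.comp (X.presheaf.map (homOfLE (X.basicOpen_le f)).op).hom := by
      rw [← CommRingCat.hom_comp, X.presheaf.germ_res]
      rfl
    rw [h2, ← Ideal.map_map, hmap, Ideal.map_span, Set.image_singleton]


end Groth.Agent.S1660
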