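import Groth.Statements.S18460
import Groth.Agent.TwistShriek.NumCurves
import Groth.Agent.TwistShriek.SurfInter
import Groth.Agent.SurfPtBlow.CartierPart
import Groth.Agent.SurfPtBlow.Colon
import Groth.Agent.CastLib.InterFibreClass
import Groth.Agent.CastLib.InterDeg
import Groth.Agent.CastLib.InterLinAlg
import Groth.Agent.CastLib.StrictPoint
import Groth.Agent.JacLib.IdealPull
import Groth.Agent.BirQFLib.Conn
import Groth.Agent.HilbLib.Poly
import Groth.Agent.S1660
import Groth.Agent.S4362
import Groth.Agent.S8909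
import Groth.Agent.S10881
import Groth.Agent.S14520
import Groth.Agent.S14703

set_option autoImplicit false
universe u
open CategoryTheory CategoryTheory.Limits AlgebraicGeometry TopologicalSpace
open Surf

namespace Groth.Agent.S18460

set_option backward.isDefEq.respectTransparency false
set_option linter.style.haveILetI false
set_option maxHeartbeats 1000000
set_option synthInstance.maxHeartbeats 200000
open TopologicalSpace Groth.Agent Groth.Agent.TwistShriek

/-- Split off prescribed integral divisors. -/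
theorem exists_split {X : Scheme.{u}} [IsIntegral X] [IsNoetherian X] {r : ℕ} (C : Fin r → X.IdealSheafData)
    (hC : ∀ i, BlowUp.IsEffCartierIdeal (C i)) (hi : ∀ i, IsIntegral (C i).subscheme) (D : X.IdealSheafData)
    (hD : BlowUp.IsEffCartierIdeal D) :
    ∃ (H : X.IdealSheafData) (m : Fin r → ℕ), BlowUp.IsEffCartierIdeal H ∧ D = H * ∏ i, C i ^ m i ∧
      ∀ i, ¬ ((C i).support : Set X) ⊆ H.support := by
  classical
  haveI := Groth.Agent.S4362.result X
  induction D using (WellFoundedGT.induction (α := X.IdealSheafData)) with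
  | _ D ih =>
  by_cases hex : ∃ i, ((C i).support : Set X) ⊆ D.support
  · obtain ⟨i, hsub⟩ := hex
    haveI := hi i
    obtain ⟨D', hD'⟩ := SurfPtBlow.exists_eq_mul (hC i) (S14520.le_of_support_subset hsub)
    have hD'c : BlowUp.IsEffCartierIdeal D' := BlowCompLib.isEffCartier_of_mul (hD' ▸ hD)
    have hle : D ≤ D' := DivisorialLib.le_of_stalk fun y => by
      rw [hD', DivisorialLib.stalkIdeal_mul]; exact Ideal.mul_le_left
    have hlt : D < D' := lt_of_le_of_ne hle fun he => by
      obtain ⟨c, hc⟩ : ((C i).support : Set X).Nonempty := by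
        rw [← Scheme.IdealSheafData.range_subschemeι]
        exact Set.range_nonempty _
      have h := congrArg (IntMult.stalkIdeal · c) hD'
      simp only [DivisorialLib.stalkIdeal_mul, ← he] at h
      have h1 : IntMult.stalkIdeal (C i) c * IntMult.stalkIdeal D c = (⊤ : Ideal _) * IntMult.stalkIdeal D c := by
        rw [mul_comm, ← h, ← Ideal.one_eq_top, one_mul]
      exact (IsLocalRing.maximalIdeal.isMaximal _).ne_top
        (top_le_iff.1 ((S14703.cancel_stalk hD c h1) ▸ IdealStalkLib.stalkIdeal_le_maximal (C i) hc))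
    obtain ⟨H, m, hH, hDm, hn⟩ := ih D' hlt hD'c
    refine ⟨H, fun j => if j = i then m j + 1 else m j, hH, ?_, hn⟩
    rw [hD', hDm, mul_assoc]
    congr 1
    rw [← Finset.prod_erase_mul _ _ (Finset.mem_univ i), ← Finset.prod_erase_mul _ _ (Finset.mem_univ i),
      mul_assoc]
    simp only [if_true, pow_succ]
    congr 1
    exact Finset.prod_congr rfl fun j hj => by rw [if_neg (Finset.ne_of_mem_erase hj)]
  · push_neg at hex
    refine ⟨D, fun _ => 0, hD, ?_, hex⟩
    simp only [pow_zero, Finset.prod_const_one, mul_one]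

/-- A closed subset not containing a curve meets it in finitely many points. -/
theorem finite_inter_curve {X : Scheme.{u}} [IsNoetherian X] [JacobsonSpace X] (C : X.IdealSheafData)
    [IsIntegral C.subscheme] (hd : topologicalKrullDim (C.support : Set X) = 1) {T : Set X} (hT : IsClosed T)
    (h : ¬ (C.support : Set X) ⊆ T) : ((C.support : Set X) ∩ T).Finite := by
  let c := C.subschemeι (genericPoint C.subscheme)
  have hcl : closure {c} = (C.support : Set X) := by
    refine Set.Subset.antisymm (closure_minimal (Set.singleton_subset_iff.2 (C.range_subschemeι.le ⟨_, rfl⟩)) C.support.isClosed) ?_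
    intro y hy
    rw [← Scheme.IdealSheafData.range_subschemeι] at hy
    obtain ⟨z, rfl⟩ := hy
    exact ((genericPoint_specializes z).map C.subschemeι.continuous).mem_closure
  have hlt := HilbLib.dim_lt_of_notMem (n := 1) (C := (C.support : Set X) ∩ T) (ξ := c) (C.support.isClosed.inter hT)
    (hcl ▸ Set.inter_subset_left) (fun hc => h (hcl ▸ closure_minimal (Set.singleton_subset_iff.2 hc.2) hT))
    (by rw [hcl, hd]; exact_mod_cast Nat.lt_succ_self 1)
  exact CurveLib.finite_of_dim_le_zero (C.support.isClosed.inter hT) (IntLib.dim_le_of_lt (q := 0) hlt)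

/-- Divisors meeting properly have positive intersection number. -/
theorem inter_nonneg_pos (k : Type u) [Field k] [IsAlgClosed k] {X : Scheme.{u}} [X.Over (Spec (CommRingCat.of k))]
    [IsProper (X ↘ (Spec (CommRingCat.of k)))] [Smooth (X ↘ (Spec (CommRingCat.of k)))] [IsIntegral X]
    (hdim : topologicalKrullDim X = 2) (A B : X.IdealSheafData) (hA : BlowUp.IsEffCartierIdeal A)
    (hB : BlowUp.IsEffCartierIdeal B) (hfin : ((A.support : Set X) ∩ B.support).Finite) :
    0 ≤ FGA.intNum k X 2 ![ClSub.idealMod A, ClSub.idealMod B] (Coh.structureModule X) ∧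
      (((A.support : Set X) ∩ B.support).Nonempty →
        0 < FGA.intNum k X 2 ![ClSub.idealMod A, ClSub.idealMod B] (Coh.structureModule X)) := by
  haveI := EulerIneqLib.isNoetherian_proper (X := X) k
  haveI : JacobsonSpace X := LocallyOfFiniteType.jacobsonSpace (X ↘ Spec (CommRingCat.of k))
  have hreg := fun x => ASp.isRegularLocalRing_stalk_of_smooth_field (X ↘ Spec (CommRingCat.of k)) x
  have hs : ((A ⊔ B).support : Set X) = (A.support : Set X) ∩ B.support := by simp
  have hfin' : ((A ⊔ B).support : Set X).Finite := hs ▸ hfin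
  rw [intNum_eq_finrank_inter k (by exact_mod_cast hdim.le) (fun x => haveI := hreg x; S10881.cm_of_regular _)
    (fun x hx => dim_closed_point_integral (X ↘ Spec (CommRingCat.of k)) hdim x hx) A B hA hB hfin']
  refine ⟨by positivity, fun ⟨v, hv⟩ => ?_⟩
  haveI : Module.Finite k (Coh.HH X (ClSub.quotMod (A ⊔ B)) 0) := EulerIneqLib.finite_HH (k := k) (IntLib.isCoh_quotMod _) 0
  by_contra hle
  haveI : Subsingleton (Coh.HH X (ClSub.quotMod (A ⊔ B)) 0) :=
    Module.finrank_zero_iff.1 (show Module.finrank k (Coh.HH X (ClSub.quotMod (A ⊔ B)) 0) = 0 by omega)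
  exact Nakai.mem_support_quotMod (A ⊔ B) (show v ∈ ((A ⊔ B).support : Set X) from hs ▸ hv)
    (CurveLib.subsingleton_stalk_of_H0 (A ⊔ B).support.isClosed
      (TwistShriek.topologicalKrullDim_finite_le (A ⊔ B).support.isClosed hfin')
      (ClSub.quotMod (A ⊔ B)) (IntLib.support_quotMod_subset _) v)


/-- Let k be an algebraically closed field of characteristic zero and X a smooth projective surface over
k (integral, proper and smooth over k, of dimension 2). Let Y be an integral normal scheme of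
dimension 2, locally of finite type over k, y a closed point of Y, and π : X → Y a proper k-morphism
which restricts to an isomorphism over Y ∖ {y} and whose fibre over y is, as a set, the union of
pairwise distinct integral curves C_1, …, C_r on X (r ≥ 1, ideal sheaves I_i), this union being
connected; so π contracts the connected curve C = ⋃ C_i to the normal point y. Then the intersection
matrix of the C_i is negative definite: Σ_{i,j} a_i a_j (I_i·I_j) < 0 for every nonzero integer
vector a, where (A·B) = χ(O_X) − χ(A) − χ(B) + χ(A ⊗ B). The published statement is about a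
holomorphic contraction of a compact connected curve in a complex surface to a point of a normal
analytic surface; this row is the algebraic case, with Y locally of finite type so that the local
ring at y is a two-dimensional Noetherian normal domain and a nonzero function vanishing at y cuts
out a curve through y, which is what the printed argument (pull back such a function and apply the
formal negativity lemma proved there) uses. -/
theorem result (k : Type u) [Field k] [IsAlgClosed k] [CharZero k]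
    (X : Scheme.{u}) [X.Over (Spec (CommRingCat.of k))] [IsProper (X ↘ (Spec (CommRingCat.of k)))]
    [Smooth (X ↘ (Spec (CommRingCat.of k)))] [IsIntegral X] (hdim : topologicalKrullDim X = 2)
    (Y : Scheme.{u}) [Y.Over (Spec (CommRingCat.of k))] [IsIntegral Y] (hYn : Pi1.IsNormalScheme Y)
    (hYd : topologicalKrullDim Y = 2)
    [LocallyOfFiniteType (Y ↘ (Spec (CommRingCat.of k)))]
    (π : X ⟶ Y) (hπk : π ≫ (Y ↘ (Spec (CommRingCat.of k))) = (X ↘ (Spec (CommRingCat.of k)))) [IsProper π]
    (y : Y) (hy : IsClosed ({y} : Set Y)) (hiso : IsIso (π ∣_ (⟨({y} : Set Y)ᶜ, hy.isOpen_compl⟩ : Y.Opens)))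
    (r : ℕ) (hr : 0 < r) (C : Fin r → X.IdealSheafData) (hC : Function.Injective C)
    (hCi : ∀ i, IsIntegral (C i).subscheme) (hCd : ∀ i, topologicalKrullDim ((C i).support : Set X) = 1)
    (hfib : (π.base : X → Y) ⁻¹' {y} = ⋃ i, ((C i).support : Set X))
    (hconn : _root_.IsConnected (⋃ i, ((C i).support : Set X))) :
    ∀ a : Fin r → ℤ, a ≠ 0 →
      ∑ i, ∑ j, a i * a j * FGA.intNum k X 2 ![(ClSub.idealMod (C i)), (ClSub.idealMod (C j))] (Coh.structureModule X) < 0 := by
  classical
  haveI := EulerIneqLib.isNoetherian_proper (X := X) k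
  haveI : JacobsonSpace X := LocallyOfFiniteType.jacobsonSpace (X ↘ Spec (CommRingCat.of k))
  haveI : IsLocallyNoetherian Y := LocallyOfFiniteType.isLocallyNoetherian (Y ↘ Spec (CommRingCat.of k))
  have hregX := fun x => ASp.isRegularLocalRing_stalk_of_smooth_field (X ↘ Spec (CommRingCat.of k)) x
  have hy2 : ringKrullDim (Y.presheaf.stalk y) = 2 := by
    rw [BoundaryConn.ringKrullDim_stalk_closed (Y ↘ Spec (CommRingCat.of k)) y hy, hYd]
  have hηy : genericPoint Y ≠ y := fun h => by
    rw [← h, ringKrullDim_stalk_eq_coheight,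
      Order.coheight_eq_zero.2 fun z _ => Scheme.le_iff_specializes.2 (genericPoint_specializes z)] at hy2
    exact absurd hy2 (by decide)
  obtain ⟨hgen, -⟩ := BirQFLib.birational_of_isIso_restrict π _ ⟨genericPoint Y, hηy⟩ hiso
  have hsurj : ∀ z, ∃ w, π w = z := fun z => by
    obtain ⟨w, -, hw⟩ := (π.isClosedMap _ isClosed_univ).stableUnderSpecialization
      (hgen ▸ genericPoint_specializes z : π (genericPoint X) ⤳ z) ⟨_, trivial, rfl⟩
    exact ⟨w, hw⟩
  haveI : CompactSpace Y := by
    rw [← isCompact_univ_iff, ← Set.range_eq_univ.2 hsurj]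
    exact isCompact_range π.continuous
  haveI : IsNoetherian Y := ⟨⟩
  -- a function through the point
  obtain ⟨_, ⟨V : Y.Opens, hV, rfl⟩, (hyV : y ∈ V), -⟩ :=
    Y.isBasis_affineOpens.exists_subset_of_mem_open (Set.mem_univ y) isOpen_univ
  haveI : Nonempty V.toScheme := ⟨⟨y, hyV⟩⟩
  haveI : IsIntegral V.toScheme := isIntegral_of_isOpenImmersion V.ι
  haveI : IsLocallyNoetherian V.toScheme := LocallyOfFiniteType.isLocallyNoetherian V.ι
  haveI : Nonempty V := ⟨⟨y, hyV⟩⟩
  obtain ⟨g, hgq, hg0⟩ : ∃ g ∈ (hV.primeIdealOf ⟨y, hyV⟩).asIdeal, g ≠ 0 := by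
    refine Submodule.exists_mem_ne_zero_of_ne_bot fun hbot => ?_
    have h := S7303.height_primeIdealOf (U := (⟨V, hV⟩ : Y.affineOpens)) hyV
    rw [hy2] at h
    change (((hV.primeIdealOf ⟨y, hyV⟩).asIdeal.height : ℕ∞) : WithBot ℕ∞) = 2 at h
    rw [hbot, Ideal.height_bot] at h
    exact absurd h (by decide)
  let J0 : V.toScheme.IdealSheafData := (Curv2.idealSheaf Γ(Y, V) (Ideal.span {g})).comap hV.isoSpec.hom
  have hJ0 : BlowUp.IsEffCartierIdeal J0 :=
    BlowCompLib.isEffCartier_comap_openImmersion (CastLib.StrictPoint.isEffCartier_span hg0) hV.isoSpec.hom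
  let y' : V.toScheme := ⟨y, hyV⟩
  have hy'J : y' ∈ J0.support := by
    show y' ∈ ((Curv2.idealSheaf Γ(Y, V) (Ideal.span {g})).comap hV.isoSpec.hom).support
    rw [Scheme.IdealSheafData.support_comap]
    exact (CastLib.StrictPoint.mem_support_idealSheaf _ _).2 ((Ideal.span_singleton_le_iff_mem _).2 hgq)
  have hcoV : ∀ z : V.toScheme, ringKrullDim (V.toScheme.presheaf.stalk z) = ringKrullDim (Y.presheaf.stalk (V.ι z)) :=
    fun z => (ringKrullDim_eq_of_ringEquiv (asIso (V.ι.stalkMap z)).commRingCatIsoToRingEquiv).symm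
  obtain ⟨z, hzy, hzJ, hz1⟩ := S14703.exists_codim_one hJ0 hy'J
  have hzy' : V.ι z ≠ y := fun h => by
    have h1 := hcoV z
    rw [h, hy2, ringKrullDim_stalk_eq_coheight, hz1] at h1
    exact absurd h1 (by decide)
  let J := J0.map V.ι
  have hJV : J.comap V.ι = J0 := S1660.comap_map_eq J0
  let I := J.comap π
  have hIs : ∀ x, x ∈ I.support ↔ π x ∈ J.support := fun x => by
    show x ∈ (J.comap π).support ↔ _
    rw [Scheme.IdealSheafData.support_comap]; rfl
  have hJs : ∀ q : V.toScheme, q ∈ J0.support ↔ V.ι q ∈ J.support := fun q => by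
    rw [← hJV, Scheme.IdealSheafData.support_comap]; rfl
  let U' : X.Opens := π ⁻¹ᵁ V
  have hηV : genericPoint Y ∈ V := (genericPoint_specializes y).mem_open V.2 hyV
  have hηJ : genericPoint Y ∉ J.support := fun h => by
    have h1 := (hJs ⟨genericPoint Y, hηV⟩).2 h
    exact S8909.coheight_ne_zero hJ0 h1 (Order.coheight_eq_zero.2 fun q hq => by
      refine Scheme.le_iff_specializes.2 ?_
      exact V.ι.isEmbedding.isInducing.specializes_iff.1 (genericPoint_specializes (V.ι q)))
  have hI0 : I ≠ ⊥ := fun h => hηJ (by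
    have : genericPoint X ∈ I.support := by rw [h, Scheme.IdealSheafData.support_bot]; trivial
    exact hgen ▸ (hIs _).1 this)
  obtain ⟨D, K, hD, hIKD, hKfin, hKpts⟩ := SurfPtBlow.exists_cartier_mul hregX hdim.le I hI0
  haveI : Nonempty U'.toScheme := by
    obtain ⟨w, hw⟩ := hsurj y
    exact ⟨⟨w, show π w ∈ V from hw ▸ hyV⟩⟩
  haveI : IsIntegral U'.toScheme := isIntegral_of_isOpenImmersion U'.ι
  haveI : IsLocallyNoetherian U'.toScheme := LocallyOfFiniteType.isLocallyNoetherian U'.ι
  have hA : I.comap U'.ι = J0.comap (π ∣_ V) := by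
    rw [← hJV]
    show (J.comap π).comap U'.ι = _
    rw [← Scheme.IdealSheafData.comap_comp, ← Scheme.IdealSheafData.comap_comp, morphismRestrict_ι]
  have hAc : BlowUp.IsEffCartierIdeal (J0.comap (π ∣_ V)) := CastLib.isEffCartier_comap_integral _ hJ0 fun h => by
    refine hηJ ?_
    have h1 := (hJs _).1 h
    rw [← Scheme.Hom.comp_apply, morphismRestrict_ι, Scheme.Hom.comp_apply] at h1
    have h2 : U'.ι (genericPoint U'.toScheme) = genericPoint X := genericPoint_eq_of_isOpenImmersion U'.ι
    rw [h2, hgen] at h1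
    exact h1
  have hDV : D.comap U'.ι = J0.comap (π ∣_ V) := by
    have hmul : J0.comap (π ∣_ V) = K.comap U'.ι * D.comap U'.ι := by
      rw [← hA, hIKD, BlowCompLib.comap_mul]
    have hKc : BlowUp.IsEffCartierIdeal (K.comap U'.ι) := BlowCompLib.isEffCartier_of_mul (hmul ▸ hAc)
    have hKtop : K.comap U'.ι = ⊤ := by
      refine DivisorialLib.ext_stalk fun q => ?_
      rw [DivisorialLib.stalkIdeal_top]
      refine IdealMulLib.stalkIdeal_eq_top _ fun hq => ?_
      obtain ⟨q1, -, hq1, hc1⟩ := S14703.exists_codim_one hKc hq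
      rw [← SetLike.mem_coe, Scheme.IdealSheafData.support_comap] at hq1
      have h1 := BoundaryConn.ringKrullDim_stalk_closed (X ↘ Spec (CommRingCat.of k)) _ (hKpts _ hq1).1
      rw [hdim, ringKrullDim_eq_of_ringEquiv (asIso (U'.ι.stalkMap q1)).commRingCatIsoToRingEquiv,
        ringKrullDim_stalk_eq_coheight, hc1] at h1
      exact absurd h1 (by decide)
    rw [hmul, hKtop, ← Scheme.IdealSheafData.one_eq_top, one_mul]
  have hDs : ∀ x, π x ∈ V → π x ∈ J.support → x ∈ D.support := fun x hxV hxJ => by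
    let x' : U'.toScheme := ⟨x, hxV⟩
    have h1 : x' ∈ (I.comap U'.ι).support := by
      rw [← SetLike.mem_coe, Scheme.IdealSheafData.support_comap]; exact (hIs x).2 hxJ
    rw [hA, ← hDV, ← SetLike.mem_coe, Scheme.IdealSheafData.support_comap] at h1
    exact h1
  -- the curves
  have hCc : ∀ i, BlowUp.IsEffCartierIdeal (C i) := fun i =>
    (S8914.result _).1 (invertible_curve k hdim (C i) (hCi i) (hCd i))
  have hCI : ∀ i, PicF.IsInvertible (ClSub.idealMod (C i)) := fun i => invertible_curve k hdim (C i) (hCi i) (hCd i)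
  have hCy : ∀ i x, x ∈ (C i).support → π x = y := fun i x hx => by
    have : x ∈ π.base ⁻¹' {y} := hfib.symm ▸ Set.mem_iUnion.2 ⟨i, hx⟩
    exact this
  have hyJ : y ∈ J.support := (hJs y').1 hy'J
  obtain ⟨H, m, hH, hDm, hHC⟩ := exists_split C hCc hCi D hD
  have hprodc := fun t => (CastLib.mk_idealMod_prod C hCc m t).1
  have hsupp : ∀ x, x ∈ D.support → x ∈ H.support ∨ ∃ i, 0 < m i ∧ x ∈ (C i).support := fun x hx => by
    by_contra hno
    push_neg at hno
    have htop : IntMult.stalkIdeal D x = ⊤ := by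
      rw [hDm, DivisorialLib.stalkIdeal_mul, IdealMulLib.stalkIdeal_eq_top H hno.1, CastLib.stalkIdeal_prod',
        ← Ideal.one_eq_top, one_mul]
      refine Finset.prod_eq_one fun i _ => ?_
      rcases Nat.eq_zero_or_pos (m i) with h0 | h0
      · rw [h0, pow_zero]
      · rw [IdealMulLib.stalkIdeal_eq_top _ (hno.2 i h0), ← Ideal.one_eq_top, one_pow]
    exact (IsLocalRing.maximalIdeal.isMaximal _).ne_top
      (top_le_iff.1 (htop ▸ IdealStalkLib.stalkIdeal_le_maximal D hx))
  have hm : ∀ i, 0 < m i := fun i => by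
    haveI := hCi i
    have hc : DivisorialLib.genPt (C i) ∈ (C i).support := (DivisorialLib.genPt_mem _)
    rcases hsupp _ (hDs _ (by rw [hCy i _ hc]; exact hyV) (by rw [hCy i _ hc]; exact hyJ)) with h | ⟨j, hj, h⟩
    · exact absurd (fun x hx => (DivisorialLib.specializes_genPt _ hx).mem_closed H.support.isClosed h) (hHC i)
    · haveI := hCi j
      have he : DivisorialLib.genPt (C j) = DivisorialLib.genPt (C i) := by
        by_contra hne
        have h3 := S8909.succ_le (DivisorialLib.specializes_genPt _ h) hne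
        rw [S8909.coheight_genPt (hCc i), S8909.coheight_genPt (hCc j)] at h3
        exact absurd h3 (by decide)
      have hsub : ∀ {i j : Fin r} [IsIntegral (C i).subscheme] [IsIntegral (C j).subscheme],
          DivisorialLib.genPt (C i) = DivisorialLib.genPt (C j) → C j ≤ C i := fun {i j} _ _ he =>
        S14520.le_of_support_subset fun x hx =>
          (he ▸ DivisorialLib.specializes_genPt _ hx).mem_closed (C j).support.isClosed (DivisorialLib.genPt_mem _)
      rwa [← hC (le_antisymm (hsub he) (hsub he.symm))] at hj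
  -- the horizontal part meets the fibre
  obtain ⟨w, hw⟩ := hsurj (V.ι z)
  have hwH : w ∈ H.support := by
    rcases hsupp w (hDs w (hw.symm ▸ z.2) (hw.symm ▸ (hJs z).1 hzJ)) with h | ⟨i, -, h⟩
    · exact h
    · exact absurd (hw.symm.trans (hCy i w h)) hzy'
  obtain ⟨v, hv, hvy⟩ := (π.isClosedMap _ (isClosed_closure (s := ({w} : Set X)))).stableUnderSpecialization
    (show π w ⤳ y by rw [hw]; exact hzy.map V.ι.continuous) ⟨w, subset_closure rfl, rfl⟩
  obtain ⟨i₀, hi₀⟩ : ∃ i, v ∈ (C i).support := Set.mem_iUnion.1 (hfib ▸ (show v ∈ π.base ⁻¹' {y} from hvy))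
  have hvH : v ∈ H.support := (specializes_iff_mem_closure.2 hv).mem_closed H.support.isClosed hwH
  -- intersection numbers
  have hd : topologicalKrullDim X ≤ ((2 : ℕ) : WithBot ℕ∞) := by exact_mod_cast hdim.le
  have hd2 : topologicalKrullDim X = ((2 : ℕ) : WithBot ℕ∞) := by exact_mod_cast hdim
  let M : Fin r → Fin r → ℤ := fun i j => FGA.intNum k X 2 ![ClSub.idealMod (C i), ClSub.idealMod (C j)] (Coh.structureModule X)
  have hsymm : ∀ i j, i ≠ j → M i j = M j i := fun i j _ => by
    simp only [M, intNum_eq_form k hd (hCI i) (hCI j), intNum_eq_form k hd (hCI j) (hCI i)]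
    exact Nakai.form_comm k _ _
  have hfinC : ∀ i j, i ≠ j → (((C i).support : Set X) ∩ (C j).support).Finite := fun i j hij => by
    haveI := hCi i
    haveI := hCi j
    refine finite_inter_curve (C i) (hCd i) (C j).support.isClosed fun hsub => hij (hC ?_)
    have h1 : DivisorialLib.genPt (C i) ∈ (C j).support := hsub (DivisorialLib.genPt_mem _)
    have he : DivisorialLib.genPt (C j) = DivisorialLib.genPt (C i) := by
      by_contra hne
      have h3 := S8909.succ_le (DivisorialLib.specializes_genPt _ h1) hne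
      rw [S8909.coheight_genPt (hCc i), S8909.coheight_genPt (hCc j)] at h3
      exact absurd h3 (by decide)
    refine le_antisymm (S14520.le_of_support_subset fun x hx => ?_) (S14520.le_of_support_subset hsub)
    exact (he.symm ▸ DivisorialLib.specializes_genPt _ hx).mem_closed (C i).support.isClosed (DivisorialLib.genPt_mem _)
  have hoff : ∀ i j, i ≠ j → 0 ≤ M i j := fun i j hij =>
    (inter_nonneg_pos k hdim (C i) (C j) (hCc i) (hCc j) (hfinC i j hij)).1
  have hHnn : ∀ i, 0 ≤ FGA.intNum k X 2 ![ClSub.idealMod (C i), ClSub.idealMod H] (Coh.structureModule X) ∧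
      ((((C i).support : Set X) ∩ H.support).Nonempty →
        0 < FGA.intNum k X 2 ![ClSub.idealMod (C i), ClSub.idealMod H] (Coh.structureModule X)) := fun i => by
    haveI := hCi i
    exact inter_nonneg_pos k hdim (C i) H (hCc i) hH (finite_inter_curve (C i) (hCd i) H.support.isClosed (hHC i))
  have hzero : ∀ i, FGA.intNum k X 2 ![ClSub.idealMod (C i), ClSub.idealMod D] (Coh.structureModule X) = 0 := fun i => by
    obtain ⟨L, ⟨eL⟩⟩ := CastLib.exists_inverse_idealMod hD
    have hL : PicF.IsInvertible L := AmpleLib.isInvertible_of_tensor_iso eL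
    let ι := (C i).subschemeι
    have h := intNum_ideal_inv_eq k hd ι (by rw [Scheme.IdealSheafData.ker_subschemeι]; exact hCI i) hL eL
    rw [Scheme.IdealSheafData.ker_subschemeι] at h
    rw [h]
    have hr : Set.range ι ⊆ Set.range U'.ι := by
      rintro _ ⟨q, rfl⟩
      rw [Scheme.Opens.range_ι]
      show π (ι q) ∈ V
      rw [hCy i _ ((C i).range_subschemeι.le ⟨q, rfl⟩)]
      exact hyV
    let l := IsOpenImmersion.lift U'.ι ι hr
    have hl : l ≫ U'.ι = ι := IsOpenImmersion.lift_fac _ _ _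
    have hg : ∀ q, (l ≫ (π ∣_ V)) q = y' := fun q => by
      refine V.ι.isOpenEmbedding.injective ?_
      rw [← Scheme.Hom.comp_apply, Category.assoc, morphismRestrict_ι, ← Category.assoc, hl, Scheme.Hom.comp_apply]
      exact hCy i _ ((C i).range_subschemeι.le ⟨q, rfl⟩)
    obtain ⟨e1⟩ := S14703.nonempty_pullback_trivial (l ≫ (π ∣_ V)) y' hg ((S8914.result J0).2 hJ0)
    obtain ⟨e2⟩ := JacLib.nonempty_iso_pullback_idealMod (π ∣_ V) J0 hJ0 hAc
    obtain ⟨e3⟩ := JacLib.nonempty_iso_pullback_idealMod U'.ι D hD (hDV ▸ hAc)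
    rw [hDV] at e3
    have eA : (Scheme.Modules.pullback ι).obj (ClSub.idealMod D) ≅ Coh.structureModule _ :=
      (Scheme.Modules.pullbackCongr hl.symm).app _ ≪≫ ((Scheme.Modules.pullbackComp l U'.ι).app _).symm ≪≫
        (Scheme.Modules.pullback l).mapIso (e3 ≪≫ e2.symm) ≪≫ (Scheme.Modules.pullbackComp l (π ∣_ V)).app _ ≪≫ e1
    have hmk : IntLib.mk ((Scheme.Modules.pullback ι).obj L) = 1 := by
      have h1 := congrArg (IntLib.pullCls ι) ((IntLib.mk_tensor L (ClSub.idealMod D)).symm.trans
        ((IntLib.mk_congr eL).trans IntLib.mk_structureModule))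
      rwa [map_mul, map_one, IntLib.pullCls_mk, IntLib.pullCls_mk, IntLib.mk_congr eA, IntLib.mk_structureModule,
        mul_one] at h1
    obtain ⟨e4⟩ := IntLib.mk_eq_mk.1 (hmk.trans IntLib.mk_structureModule.symm)
    letI : (C i).subscheme.Over (Spec (CommRingCat.of k)) := ⟨ι ≫ (X ↘ Spec (CommRingCat.of k))⟩
    haveI : IsProper ((C i).subscheme ↘ Spec (CommRingCat.of k)) :=
      inferInstanceAs (IsProper (ι ≫ (X ↘ Spec (CommRingCat.of k))))
    exact sub_eq_zero.2 (CurveLib.euler_iso (K := k) e4)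
  let Q : Fin r → X.IdealSheafData → ℤ := fun i J =>
    FGA.intNum k X 2 ![ClSub.idealMod (C i), ClSub.idealMod J] (Coh.structureModule X)
  have hQ : ∀ i {J : X.IdealSheafData} (hJ : PicF.IsInvertible (ClSub.idealMod J)),
      Q i J = Nakai.form k (Nakai.cl hJ) (Nakai.cl (hCI i)) := fun i {J} hJ =>
    (intNum_eq_form k hd (hCI i) hJ).trans (Nakai.form_comm k _ _)
  have hmul : ∀ i {A B : X.IdealSheafData}, BlowUp.IsEffCartierIdeal A → BlowUp.IsEffCartierIdeal B →
      Q i (A * B) = Q i A + Q i B := fun i {A B} hA hB => by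
    obtain ⟨e⟩ := IntLib.mk_eq_mk.1 ((CastLib.mk_idealMod_mul hA hB).trans
      (IntLib.mk_tensor (ClSub.idealMod A) (ClSub.idealMod B)).symm)
    rw [hQ i (CastLib.isInvertible_idealMod (BlowCompLib.isEffCartier_mul hA hB)), hQ i (CastLib.isInvertible_idealMod hA),
      hQ i (CastLib.isInvertible_idealMod hB),
      Nakai.cl_congr _ (AmpleLib.isInvertible_tensor (CastLib.isInvertible_idealMod hA) (CastLib.isInvertible_idealMod hB)) e,
      Nakai.cl_tensor (CastLib.isInvertible_idealMod hA) (CastLib.isInvertible_idealMod hB), ← Nakai.form_add_left]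
    refine Nakai.form_congr k hd2 ?_ (Nakai.cl_mem _)
    rw [add_sub_cancel_left, pow_two]
    exact Ideal.mul_mem_mul (Nakai.cl_mem _) (Nakai.cl_mem _)
  have htop : ∀ i, Q i 1 = 0 := fun i => by
    have hT : BlowUp.IsEffCartierIdeal (1 : X.IdealSheafData) := BlowCompLib.isEffCartier_top
    have h := hmul i hT hT
    rw [one_mul] at h
    linarith
  have hpow : ∀ i (j : Fin r) (n : ℕ), Q i (C j ^ n) = (n : ℤ) * Q i (C j) := fun i j n => by
    induction n with
    | zero => rw [pow_zero, htop, Nat.cast_zero, zero_mul]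
    | succ n ih =>
      rw [pow_succ, hmul i (CastLib.StrictPoint.isEffCartier_pow (hCc j) n) (hCc j), ih]
      push_cast; ring
  have hprod : ∀ i (t : Finset (Fin r)), Q i (∏ j ∈ t, C j ^ m j) = ∑ j ∈ t, (m j : ℤ) * M i j := fun i t => by
    induction t using Finset.induction_on with
    | empty => rw [Finset.prod_empty, Finset.sum_empty, htop]
    | insert j t hj ih =>
      rw [Finset.prod_insert hj, hmul i (CastLib.StrictPoint.isEffCartier_pow (hCc j) (m j)) (hprodc t), hpow, ih,
        Finset.sum_insert hj]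
  have hrow : ∀ i, ∑ j, (m j : ℤ) * M i j = - Q i H := fun i => by
    have h1 : Q i D = 0 := hzero i
    rw [hDm, hmul i hH (hprodc _), hprod] at h1
    linarith
  intro a ha
  have hle : ∀ i, ∑ j, (m j : ℤ) * M i j ≤ 0 := fun i => by rw [hrow]; exact neg_nonpos.2 (hHnn i).1
  refine lt_of_le_of_ne (CastLib.form_nonpos M m hsymm hoff hm hle a) fun h0 => ha ?_
  have h := CastLib.two_mul_form_eq M m hsymm hm a
  have h0' : ∑ i, ∑ j, ((a i * a j * M i j : ℤ) : ℚ) = 0 := by exact_mod_cast h0
  simp only [h0', mul_zero] at h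
  have hS1 : ∀ i, ((a i : ℚ) / m i) ^ 2 * (m i : ℚ) * (∑ j, ((m j * M i j : ℤ) : ℚ)) ≤ 0 := fun i => by
    refine mul_nonpos_of_nonneg_of_nonpos (by positivity) ?_
    exact_mod_cast hle i
  have hnn : ∀ i j, 0 ≤ (M i j : ℚ) * m i * m j * ((a i : ℚ) / m i - (a j : ℚ) / m j) ^ 2 := fun i j => by
    by_cases hij : i = j
    · subst hij; simp
    · have : (0 : ℚ) ≤ (M i j : ℚ) := by exact_mod_cast hoff i j hij
      positivity
  have hA' : ∑ i, ((a i : ℚ) / m i) ^ 2 * (m i : ℚ) * (∑ j, ((m j * M i j : ℤ) : ℚ)) ≤ 0 :=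
    Finset.sum_nonpos fun i _ => hS1 i
  have hB' : 0 ≤ ∑ i, ∑ j, (M i j : ℚ) * m i * m j * ((a i : ℚ) / m i - (a j : ℚ) / m j) ^ 2 :=
    Finset.sum_nonneg fun i _ => Finset.sum_nonneg fun j _ => hnn i j
  have hA0 : ∑ i, ((a i : ℚ) / m i) ^ 2 * (m i : ℚ) * (∑ j, ((m j * M i j : ℤ) : ℚ)) = 0 := by linarith
  have hB0 : ∑ i, ∑ j, (M i j : ℚ) * m i * m j * ((a i : ℚ) / m i - (a j : ℚ) / m j) ^ 2 = 0 := by linarith
  have hmne : ∀ i, (m i : ℚ) ≠ 0 := fun i => by exact_mod_cast (hm i).ne'
  have ha0 : a i₀ = 0 := by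
    have h1 := (Finset.sum_eq_zero_iff_of_nonpos fun i _ => hS1 i).1 hA0 i₀ (Finset.mem_univ _)
    have h2 : ∑ j, ((m j * M i₀ j : ℤ) : ℚ) ≠ 0 := by
      have : ∑ j, (m j : ℤ) * M i₀ j ≠ 0 := by
        rw [hrow]
        exact neg_ne_zero.2 ((hHnn i₀).2 ⟨v, hi₀, hvH⟩).ne'
      exact_mod_cast this
    simpa [hmne] using (mul_eq_zero.1 h1).resolve_right h2
  have hlink : ∀ i j, i ≠ j → (((C i).support : Set X) ∩ (C j).support).Nonempty → a i = 0 → a j = 0 := fun i j hij hne hi => by
    have hM : (M i j : ℚ) ≠ 0 := by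
      exact_mod_cast ((inter_nonneg_pos k hdim (C i) (C j) (hCc i) (hCc j) (hfinC i j hij)).2 hne).ne'
    have h1 := (Finset.sum_eq_zero_iff_of_nonneg fun i _ => Finset.sum_nonneg fun j _ => hnn i j).1 hB0 i (Finset.mem_univ i)
    have h2 := (Finset.sum_eq_zero_iff_of_nonneg fun j _ => hnn i j).1 h1 j (Finset.mem_univ j)
    simpa [hi, hM, hmne] using h2
  by_contra hne
  obtain ⟨j₀, hj₀⟩ := Function.ne_iff.1 hne
  let U₁ : Set X := ⋃ i ∈ {i : Fin r | a i = 0}, ((C i).support : Set X)
  let U₂ : Set X := ⋃ i ∈ {i : Fin r | a i ≠ 0}, ((C i).support : Set X)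
  have hU₁ : IsClosed U₁ := (Set.toFinite _).isClosed_biUnion fun i _ => (C i).support.isClosed
  have hU₂ : IsClosed U₂ := (Set.toFinite _).isClosed_biUnion fun i _ => (C i).support.isClosed
  obtain ⟨p, hp⟩ : ((C j₀).support : Set X).Nonempty := by
    haveI := hCi j₀
    exact ⟨_, (DivisorialLib.genPt_mem _)⟩
  obtain ⟨q, -, hq₁, hq₂⟩ := isPreconnected_closed_iff.1 hconn.2 U₁ U₂ hU₁ hU₂
    (fun x hx => by
      obtain ⟨i, hi⟩ := Set.mem_iUnion.1 hx
      by_cases h : a i = 0
      · exact Or.inl (Set.mem_biUnion (show i ∈ {i : Fin r | a i = 0} from h) hi)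
      · exact Or.inr (Set.mem_biUnion (show i ∈ {i : Fin r | a i ≠ 0} from h) hi))
    ⟨v, Set.mem_iUnion.2 ⟨i₀, hi₀⟩, Set.mem_biUnion (show i₀ ∈ {i : Fin r | a i = 0} from ha0) hi₀⟩
    ⟨p, Set.mem_iUnion.2 ⟨j₀, hp⟩, Set.mem_biUnion (show j₀ ∈ {i : Fin r | a i ≠ 0} from hj₀) hp⟩
  simp only [U₁, U₂, Set.mem_iUnion, exists_prop, Set.mem_setOf_eq] at hq₁ hq₂
  obtain ⟨i, hi, hqi⟩ := hq₁
  obtain ⟨j, hj, hqj⟩ := hq₂
  exact hj (hlink i j (fun h => hj (h ▸ hi)) ⟨q, hqi, hqj⟩ hi)

end Groth.Agent.S18460
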