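import Groth.Statements.S16976
import Groth.Agent.S18460
import Groth.Agent.CastLib.InterCartier
import Groth.Agent.CastLib.InterFibre
import Groth.Agent.CastLib.InterFibreClass
import Groth.Agent.SteinConn.Conn
import Groth.Agent.TwistShriek.SurfFibred

set_option autoImplicit false
universe u
open CategoryTheory CategoryTheory.Limits AlgebraicGeometry TopologicalSpace
open Surf

namespace Groth.Agent.S16976

set_option backward.isDefEq.respectTransparency false
set_option linter.style.haveILetI false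
set_option maxHeartbeats 1000000
set_option synthInstance.maxHeartbeats 200000
open TopologicalSpace IsLocalRing Groth.Agent Groth.Agent.TwistShriek Groth.Agent.CastLib

/-- The codimension one points of a Cartier divisor. -/
theorem exists_components {X : Scheme.{u}} [IsNoetherian X] {I : X.IdealSheafData} (hI : BlowUp.IsEffCartierIdeal I) :
    ∃ (n : ℕ) (ξ : Fin n → X), (∀ i, Order.coheight (ξ i) = 1) ∧ Function.Injective ξ ∧ (∀ i, ξ i ∈ I.support) ∧
      ∀ η ∈ I.support, Order.coheight η = 1 → ∃ i, ξ i = η := by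
  classical
  let F : Set X := {η | η ∈ I.support ∧ Order.coheight η = 1}
  have hF : F.Finite := by
    obtain ⟨S, hS, hSc, hSi, hSe⟩ :=
      NoetherianSpace.exists_finite_set_isClosed_irreducible (α := X) I.support.isClosed
    refine (hS.biUnion fun T hT => Set.Subsingleton.finite (s := {η | IsGenericPoint η T})
      fun a ha b hb => IsGenericPoint.eq ha hb).subset fun η hη => ?_
    obtain ⟨T, hT, hηT⟩ := Set.mem_sUnion.1 (show η ∈ ⋃₀ S by rw [← hSe]; exact hη.1)
    obtain ⟨g, hg⟩ := QuasiSober.sober (hSi T hT) (hSc T hT)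
    refine Set.mem_biUnion hT ?_
    suffices g = η by exact this ▸ hg
    by_contra hne
    have h3 := S8909.succ_le (hg.specializes hηT) hne
    have hgI : g ∈ I.support := by
      rw [← SetLike.mem_coe, hSe]
      exact Set.mem_sUnion_of_mem hg.mem hT
    rw [hη.2] at h3
    exact absurd (h3.trans' (add_le_add (Order.one_le_iff_pos.2 (pos_iff_ne_zero.2
      (S8909.coheight_ne_zero hI hgI))) le_rfl)) (by decide)
  let e := hF.toFinset.equivFin.symm
  have hξ : ∀ i, (e i).1 ∈ F := fun i => hF.mem_toFinset.1 (e i).2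
  exact ⟨_, fun i => (e i).1, fun i => (hξ i).2, fun i j hij => e.injective (Subtype.ext hij), fun i => (hξ i).1,
    fun η h1 h2 => ⟨e.symm ⟨η, hF.mem_toFinset.2 ⟨h1, h2⟩⟩, by simp⟩⟩

/-- Cartier divisors supported on given curves are sums of them. -/
theorem exists_exponents {X : Scheme.{u}} [IsIntegral X] [IsNoetherian X]
    (hreg : ∀ x : X, IsRegularLocalRing (X.presheaf.stalk x)) {n : ℕ} (ξ : Fin n → X)
    (hξ : ∀ i, Order.coheight (ξ i) = 1) (hinj : Function.Injective ξ) {J : X.IdealSheafData}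
    (hJ : BlowUp.IsEffCartierIdeal J) (hsupp : ∀ η ∈ J.support, Order.coheight η = 1 → ∃ i, ξ i = η) :
    ∃ a : Fin n → ℕ, J = ∏ i, cl (ξ i) ^ a i := by
  have hexp : ∀ i, ∃ m, IntMult.stalkIdeal J (ξ i) = maximalIdeal (X.presheaf.stalk (ξ i)) ^ m := fun i => by
    haveI : IsDiscreteValuationRing (X.presheaf.stalk (ξ i)) :=
      CDivLib.isDVR_stalk (fun x => by haveI := hreg x; exact PurityLib.isIntegrallyClosed_of_regular _) (hξ i)
    obtain ⟨ϖ, hϖ⟩ := IsDiscreteValuationRing.exists_irreducible (X.presheaf.stalk (ξ i))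
    obtain ⟨f, hf, hfI⟩ := DivisorialLib.exists_gen hJ (ξ i)
    refine S8909.exists_eq_pow hϖ.maximalIdeal_eq fun hbot => nonZeroDivisors.ne_zero hf ?_
    exact Ideal.span_singleton_eq_bot.1 (hfI.symm.trans hbot)
  choose a ha using hexp
  exact ⟨a, eq_prod_cl hreg ξ hξ hinj _ a rfl J hJ hsupp ha⟩

/-- Codimension one points of a surface have one-dimensional closure. -/
theorem dim_closure (k : Type u) [Field k] {X : Scheme.{u}} [X.Over (Spec (CommRingCat.of k))]
    [IsProper (X ↘ Spec (CommRingCat.of k))] [IsIntegral X] (hdim : topologicalKrullDim X = 2) {ξ : X}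
    (hξ : Order.coheight ξ = 1) : topologicalKrullDim (closure {ξ} : Set X) = 1 := by
  haveI := EulerIneqLib.isNoetherian_proper (X := X) k
  haveI : JacobsonSpace X := LocallyOfFiniteType.jacobsonSpace (X ↘ Spec (CommRingCat.of k))
  have hgen : genericPoint X ∉ closure {ξ} := fun h => by
    have he : genericPoint X = ξ :=
      ((genericPoint_specializes ξ).antisymm (specializes_iff_mem_closure.2 h)).eq
    rw [← he, Order.coheight_eq_zero.2 fun z _ => Scheme.le_iff_specializes.2 (genericPoint_specializes z)] at hξ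
    exact absurd hξ (by decide)
  have hlt := HilbLib.dim_lt_of_notMem (ξ := genericPoint X) (n := 2) (C := closure {ξ}) isClosed_closure
    (fun y _ => specializes_iff_mem_closure.1 (genericPoint_specializes y)) hgen
    (lt_of_le_of_lt ((Topology.IsEmbedding.subtypeVal.isInducing.topologicalKrullDim_le).trans hdim.le)
      (by exact_mod_cast Nat.lt_succ_self 2))
  have hle : topologicalKrullDim (closure {ξ} : Set X) ≤ 1 := IntLib.dim_le_of_lt (q := 1) hlt
  by_contra hne
  have hlt1 : topologicalKrullDim (closure {ξ} : Set X) < ((1 : ℕ) : WithBot ℕ∞) := lt_of_le_of_ne hle hne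
  haveI := (CurveLib.finite_of_dim_le_zero (X := X) isClosed_closure
    (IntLib.dim_le_of_lt (q := 0) (by exact_mod_cast hlt1))).to_subtype
  haveI : JacobsonSpace (closure {ξ} : Set X) :=
    JacobsonSpace.of_isClosedEmbedding isClosed_closure.isClosedEmbedding_subtypeVal
  have h := isClosed_closure.isClosedEmbedding_subtypeVal.isClosedMap _
    (isClosed_discrete ({⟨ξ, subset_closure rfl⟩} : Set (closure {ξ} : Set X)))
  rw [Set.image_singleton] at h
  have h2 := BoundaryConn.ringKrullDim_stalk_closed (X ↘ Spec (CommRingCat.of k)) ξ h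
  rw [hdim, ringKrullDim_stalk_eq_coheight, hξ] at h2
  exact absurd h2 (by decide)

/-- Let f : S ⟶ B be a relatively minimal fibration of genus at least 2 over an algebraically closed
field k of characteristic 0 (S a smooth projective integral surface, B a smooth projective integral
curve, f a surjective k-morphism with O_B ⟶ f_*O_S an isomorphism, every closed fibre with χ(O_F) <
0, and no (-1)-curve in a fibre: every integral closed curve E ⊆ S with regular local rings, mapped
to a point and with χ(O_E) = 1, has E.E ≠ -1). Let F = f⁻¹(p) be the fibre over a closed point, with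
ideal sheaf I_F = m_p·O_S. Then F is a positive multiple m·E of a 1-connected effective divisor E:
for every m ≥ 1 and every locally principal ideal sheaf I_E with I_E^m = I_F that is not the n-th
power (n ≥ 2) of a locally principal ideal sheaf (so that E = F/m with m the greatest common divisor
of the multiplicities of F), and for every factorisation I_E = I_A · I_B with I_A, I_B locally
principal ideal sheaves different from O_S (an effective decomposition E = A + B), the intersection
number A.B — computed as the intersection number of the ideal sheaves I_A, I_B on S — is at least 1. -/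
theorem result (k : Type u) [Field k] [IsAlgClosed k] [CharZero k]
    (S : Scheme.{u}) [S.Over (Spec (CommRingCat.of k))] [IsProper (S ↘ (Spec (CommRingCat.of k)))]
    [Smooth (S ↘ (Spec (CommRingCat.of k)))] [IsIntegral S] (hdimS : topologicalKrullDim S = 2)
    (B : Scheme.{u}) [B.Over (Spec (CommRingCat.of k))] [IsProper (B ↘ (Spec (CommRingCat.of k)))]
    [Smooth (B ↘ (Spec (CommRingCat.of k)))] [IsIntegral B] (hdimB : topologicalKrullDim B = 1)
    (f : S ⟶ B) [f.IsOver (Spec (CommRingCat.of k))] [Surjective f] (hconn : IsIso (ClSub.unitToPush f))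
    (hg : ∀ p : B, IsClosed ({p} : Set B) → Curv2.euler k S (ClSub.quotMod (f.fiberι p).ker) < 0)
    (hmin : ∀ (E : Scheme.{u}) (j : E ⟶ S), IsClosedImmersion j → IsIntegral E → topologicalKrullDim E = 1 →
      (∀ e : E, IsRegularLocalRing (E.presheaf.stalk e)) → (∃ p : B, Set.range (j ≫ f).base ⊆ {p}) →
      Curv2.euler k S (ClSub.quotMod j.ker) = 1 →
      FGA.intNum k S 2 ![ClSub.idealMod j.ker, ClSub.idealMod j.ker] (Coh.structureModule S) ≠ -1)
    (p : B) (hp : IsClosed ({p} : Set B))
    (m : ℕ) (hm : 1 ≤ m) (IE : S.IdealSheafData) (hIE : Curv2.IsLocPrincipal IE)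
    (hpow : IE ^ m = (Scheme.IdealSheafData.vanishingIdeal ⟨{p}, hp⟩).comap f)
    (hprim : ∀ n : ℕ, 2 ≤ n → ∀ J : S.IdealSheafData, Curv2.IsLocPrincipal J → J ^ n ≠ IE)
    (IA IB : S.IdealSheafData) (hIA : Curv2.IsLocPrincipal IA) (hIB : Curv2.IsLocPrincipal IB)
    (hA : IA ≠ ⊤) (hB : IB ≠ ⊤) (hAB : IA * IB = IE) :
    1 ≤ FGA.intNum k S 2 ![ClSub.idealMod IA, ClSub.idealMod IB] (Coh.structureModule S) := by
  classical
  haveI := EulerIneqLib.isNoetherian_proper (X := S) k
  haveI := EulerIneqLib.isNoetherian_proper (X := B) k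
  haveI : JacobsonSpace S := LocallyOfFiniteType.jacobsonSpace (S ↘ Spec (CommRingCat.of k))
  haveI := VBLib.isRegCurve_of_smooth k (X := B) hdimB.le
  have hreg := fun x => ASp.isRegularLocalRing_stalk_of_smooth_field (S ↘ Spec (CommRingCat.of k)) x
  haveI : IsProper f := by
    haveI : IsProper (f ≫ (B ↘ Spec (CommRingCat.of k))) := by
      rw [comp_over f (Spec (CommRingCat.of k))]; infer_instance
    exact IsProper.of_comp f (B ↘ Spec (CommRingCat.of k))
  set P := Scheme.IdealSheafData.vanishingIdeal (⟨{p}, hp⟩ : Closeds B) with hPdef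
  have hPc : BlowUp.IsEffCartierIdeal P := (S8914.result P).1 (CurveFF.isDiv_pointIdeal k hdimB hp).1
  set F := P.comap f with hFdef
  have hFs : ∀ x, x ∈ F.support ↔ f x = p := fun x => by
    rw [← SetLike.mem_coe, hFdef, Scheme.IdealSheafData.support_comap, Closeds.coe_preimage, hPdef,
      Scheme.IdealSheafData.coe_support_vanishingIdeal]
    rfl
  have hgen : f (genericPoint S) = genericPoint B := ((genericPoint_spec S).image f.continuous).eq (by
    rw [Set.image_univ, f.surjective.range_eq, closure_univ]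
    exact genericPoint_spec B)
  have hne : genericPoint B ≠ p := fun h => by
    have h1 := genericPoint_closure (α := B)
    rw [h, hp.closure_eq] at h1
    have h0 := topologicalKrullDim_zero_of_discreteTopology ({p} : Set B)
    rw [h1, (Homeomorph.Set.univ B).isHomeomorph.topologicalKrullDim_eq, hdimB] at h0
    exact absurd h0 (by norm_num)
  have hFc : BlowUp.IsEffCartierIdeal F := CastLib.isEffCartier_comap_integral f hPc fun h => by
    rw [hgen, ← SetLike.mem_coe, hPdef, Scheme.IdealSheafData.coe_support_vanishingIdeal] at h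
    exact hne h
  have hEc : BlowUp.IsEffCartierIdeal IE := by
    obtain ⟨m', rfl⟩ : ∃ m', m = m' + 1 := ⟨m - 1, by omega⟩
    refine BlowCompLib.isEffCartier_of_mul (B := IE ^ m') ?_
    rw [← pow_succ', hpow]
    exact hFc
  have hAc : BlowUp.IsEffCartierIdeal IA := BlowCompLib.isEffCartier_of_mul (hAB ▸ hEc)
  have hBc : BlowUp.IsEffCartierIdeal IB := BlowCompLib.isEffCartier_of_mul (mul_comm IA IB ▸ hAB ▸ hEc)
  obtain ⟨n, ξ, hξ, hinj, hξF, hξall⟩ := exists_components hFc
  have hsubF : ∀ {J K : S.IdealSheafData}, J * K = IE → ∀ x ∈ J.support, x ∈ F.support := fun {J K} hJK x hx => by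
    refine DivisorialLib.mem_support_of_ne_top fun htop => (maximalIdeal.isMaximal (S.presheaf.stalk x)).ne_top (top_le_iff.1 ?_)
    rw [← htop, show F = IE ^ m from hpow.symm,
      show IE ^ m = IE * IE ^ (m - 1) by rw [← pow_succ', Nat.sub_add_cancel hm], DivisorialLib.stalkIdeal_mul,
      ← hJK, DivisorialLib.stalkIdeal_mul]
    exact Ideal.mul_le_left.trans (Ideal.mul_le_left.trans (IdealStalkLib.stalkIdeal_le_maximal J hx))
  obtain ⟨α, hα⟩ := exists_exponents hreg ξ hξ hinj hAc fun η hη h1 => hξall η (hsubF hAB η hη) h1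
  obtain ⟨β, hβ⟩ := exists_exponents hreg ξ hξ hinj hBc fun η hη h1 =>
    hξall η (hsubF ((mul_comm IB IA).trans hAB) η hη) h1
  let C : Fin n → S.IdealSheafData := fun i => cl (ξ i)
  haveI hCi : ∀ i, IsIntegral (C i).subscheme := fun i =>
    CurveLib.isIntegral_vanishingIdeal isClosed_closure isIrreducible_singleton.closure
  have hCc : ∀ i, BlowUp.IsEffCartierIdeal (C i) := fun i => SurfPtBlow.isEffCartier_closure hreg _ (hξ i)
  have hCI : ∀ i, PicF.IsInvertible (ClSub.idealMod (C i)) := fun i => CastLib.isInvertible_idealMod (hCc i)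
  have hCs : ∀ i, ((C i).support : Set S) = closure {ξ i} := fun i => Scheme.IdealSheafData.coe_support_vanishingIdeal _
  have hCd : ∀ i, topologicalKrullDim ((C i).support : Set S) = 1 := fun i => by
    rw [hCs]; exact dim_closure k hdimS (hξ i)
  have hCp : ∀ i x, x ∈ (C i).support → f x = p := fun i x hx =>
    (hFs x).1 ((CastLib.mem_support_cl.1 hx).mem_closed F.support.isClosed (hξF i))
  let ε : Fin n → ℕ := α + β
  have hE : IE = ∏ i, C i ^ ε i := by
    rw [← hAB, hα, hβ, ← Finset.prod_mul_distrib]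
    exact Finset.prod_congr rfl fun i _ => by rw [← pow_add]; rfl
  have hcov : ∀ x, x ∈ F.support → ∃ i, 0 < ε i ∧ x ∈ (C i).support := fun x hx => by
    by_contra hno
    push_neg at hno
    have htop : IntMult.stalkIdeal IE x = ⊤ := by
      rw [hE, CastLib.stalkIdeal_prod', ← Ideal.one_eq_top]
      refine Finset.prod_eq_one fun i _ => ?_
      rcases Nat.eq_zero_or_pos (ε i) with h0 | h0
      · rw [h0, pow_zero]
      · rw [IdealMulLib.stalkIdeal_eq_top _ (hno i h0), ← Ideal.one_eq_top, one_pow]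
    have hpw : ∀ q : ℕ, IntMult.stalkIdeal (IE ^ q) x = ⊤ := fun q => by
      induction q with
      | zero => rw [pow_zero, Scheme.IdealSheafData.one_eq_top, DivisorialLib.stalkIdeal_top]
      | succ q ih => rw [pow_succ, DivisorialLib.stalkIdeal_mul, ih, htop, ← Ideal.one_eq_top, one_mul]
    refine (maximalIdeal.isMaximal (S.presheaf.stalk x)).ne_top (top_le_iff.1 ?_)
    rw [← hpw m, show IE ^ m = F from hpow]
    exact IdealStalkLib.stalkIdeal_le_maximal F hx
  have hεpos : ∀ i, 0 < ε i := fun i => by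
    obtain ⟨j, hj, hjx⟩ := hcov _ (hξF i)
    have hji : j = i := hinj (by
      by_contra hne'
      have h3 := S8909.succ_le (CastLib.mem_support_cl.1 hjx) hne'
      rw [hξ i, hξ j] at h3
      exact absurd h3 (by decide))
    exact hji ▸ hj
  -- the form
  have hd : topologicalKrullDim S ≤ ((2 : ℕ) : WithBot ℕ∞) := by exact_mod_cast hdimS.le
  have hd2 : topologicalKrullDim S = ((2 : ℕ) : WithBot ℕ∞) := by exact_mod_cast hdimS
  let Φ : S.IdealSheafData → S.IdealSheafData → ℤ := fun G H =>
    FGA.intNum k S 2 ![ClSub.idealMod G, ClSub.idealMod H] (Coh.structureModule S)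
  have hΦ : ∀ {G H : S.IdealSheafData} (hG : BlowUp.IsEffCartierIdeal G) (hH : BlowUp.IsEffCartierIdeal H),
      Φ G H = Nakai.form k (Nakai.cl (CastLib.isInvertible_idealMod hH)) (Nakai.cl (CastLib.isInvertible_idealMod hG)) :=
    fun hG hH => (intNum_eq_form k hd _ _).trans (Nakai.form_comm k _ _)
  have hsym : ∀ {G H : S.IdealSheafData}, BlowUp.IsEffCartierIdeal G → BlowUp.IsEffCartierIdeal H → Φ G H = Φ H G :=
    fun hG hH => by rw [hΦ hG hH, hΦ hH hG]; exact Nakai.form_comm k _ _
  have hmul : ∀ {G A A' : S.IdealSheafData}, BlowUp.IsEffCartierIdeal G → BlowUp.IsEffCartierIdeal A →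
      BlowUp.IsEffCartierIdeal A' → Φ G (A * A') = Φ G A + Φ G A' := fun {G A A'} hG hA hA' => by
    obtain ⟨e⟩ := IntLib.mk_eq_mk.1 ((CastLib.mk_idealMod_mul hA hA').trans
      (IntLib.mk_tensor (ClSub.idealMod A) (ClSub.idealMod A')).symm)
    rw [hΦ hG (BlowCompLib.isEffCartier_mul hA hA'), hΦ hG hA, hΦ hG hA',
      Nakai.cl_congr _ (AmpleLib.isInvertible_tensor (CastLib.isInvertible_idealMod hA) (CastLib.isInvertible_idealMod hA')) e,
      Nakai.cl_tensor (CastLib.isInvertible_idealMod hA) (CastLib.isInvertible_idealMod hA'), ← Nakai.form_add_left]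
    refine Nakai.form_congr k hd2 ?_ (Nakai.cl_mem _)
    rw [add_sub_cancel_left, pow_two]
    exact Ideal.mul_mem_mul (Nakai.cl_mem _) (Nakai.cl_mem _)
  have htop : ∀ {G : S.IdealSheafData}, BlowUp.IsEffCartierIdeal G → Φ G 1 = 0 := fun {G} hG => by
    have hT : BlowUp.IsEffCartierIdeal (1 : S.IdealSheafData) := BlowCompLib.isEffCartier_top
    have h := hmul hG hT hT
    rw [one_mul] at h
    linarith
  have hpowΦ : ∀ {G A : S.IdealSheafData}, BlowUp.IsEffCartierIdeal G → BlowUp.IsEffCartierIdeal A → ∀ q : ℕ,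
      Φ G (A ^ q) = (q : ℤ) * Φ G A := fun {G A} hG hA q => by
    induction q with
    | zero => rw [pow_zero, htop hG, Nat.cast_zero, zero_mul]
    | succ q ih =>
      rw [pow_succ, hmul hG (CastLib.StrictPoint.isEffCartier_pow hA q) hA, ih]
      push_cast; ring
  have hprod : ∀ {G : S.IdealSheafData}, BlowUp.IsEffCartierIdeal G → ∀ (e : Fin n → ℕ) (t : Finset (Fin n)),
      Φ G (∏ j ∈ t, C j ^ e j) = ∑ j ∈ t, (e j : ℤ) * Φ G (C j) := fun {G} hG e t => by
    induction t using Finset.induction_on with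
    | empty => rw [Finset.prod_empty, Finset.sum_empty, htop hG]
    | insert j t hj ih =>
      rw [Finset.prod_insert hj, hmul hG (CastLib.StrictPoint.isEffCartier_pow (hCc j) (e j))
        (CastLib.mk_idealMod_prod C hCc e t).1, hpowΦ hG (hCc j), ih, Finset.sum_insert hj]
  let M : Fin n → Fin n → ℤ := fun i j => Φ (C i) (C j)
  have hfin : ∀ i j, i ≠ j → (((C i).support : Set S) ∩ (C j).support).Finite := fun i j hij =>
    S18460.finite_inter_curve (C i) (hCd i) (C j).support.isClosed fun hsub => hij (hinj (by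
      have h1 : ξ j ⤳ ξ i := CastLib.mem_support_cl.1 (hsub (by rw [hCs]; exact subset_closure rfl))
      by_contra hne'
      have h3 := S8909.succ_le h1 (Ne.symm hne')
      rw [hξ i, hξ j] at h3
      exact absurd h3 (by decide)))
  have hoff : ∀ i j, i ≠ j → 0 ≤ M i j := fun i j hij =>
    (S18460.inter_nonneg_pos k hdimS (C i) (C j) (hCc i) (hCc j) (hfin i j hij)).1
  have hsymm : ∀ i j, i ≠ j → M i j = M j i := fun i j _ => hsym (hCc i) (hCc j)
  have hzero : ∀ i, Φ (C i) F = 0 := fun i => by
    obtain ⟨L, ⟨eL⟩⟩ := CastLib.exists_inverse_idealMod hFc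
    have hL : PicF.IsInvertible L := AmpleLib.isInvertible_of_tensor_iso eL
    let ι := (C i).subschemeι
    have h := intNum_ideal_inv_eq k hd ι (by rw [Scheme.IdealSheafData.ker_subschemeι]; exact hCI i) hL eL
    rw [Scheme.IdealSheafData.ker_subschemeι] at h
    refine h.trans ?_
    obtain ⟨e1⟩ := S14703.nonempty_pullback_trivial (ι ≫ f) p
      (fun q => hCp i _ ((C i).range_subschemeι.le ⟨q, rfl⟩)) ((S8914.result P).2 hPc)
    obtain ⟨e2⟩ := JacLib.nonempty_iso_pullback_idealMod f P hPc hFc
    have eA : (Scheme.Modules.pullback ι).obj (ClSub.idealMod F) ≅ Coh.structureModule _ :=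
      (Scheme.Modules.pullback ι).mapIso e2.symm ≪≫ (Scheme.Modules.pullbackComp ι f).app _ ≪≫ e1
    have hmk : IntLib.mk ((Scheme.Modules.pullback ι).obj L) = 1 := by
      have h1 := congrArg (IntLib.pullCls ι) ((IntLib.mk_tensor L (ClSub.idealMod F)).symm.trans
        ((IntLib.mk_congr eL).trans IntLib.mk_structureModule))
      rwa [map_mul, map_one, IntLib.pullCls_mk, IntLib.pullCls_mk, IntLib.mk_congr eA, IntLib.mk_structureModule,
        mul_one] at h1
    obtain ⟨e4⟩ := IntLib.mk_eq_mk.1 (hmk.trans IntLib.mk_structureModule.symm)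
    letI : (C i).subscheme.Over (Spec (CommRingCat.of k)) := ⟨ι ≫ (S ↘ Spec (CommRingCat.of k))⟩
    haveI : IsProper ((C i).subscheme ↘ Spec (CommRingCat.of k)) :=
      inferInstanceAs (IsProper (ι ≫ (S ↘ Spec (CommRingCat.of k))))
    exact sub_eq_zero.2 (CurveLib.euler_iso (K := k) e4)
  have hrow : ∀ i, ∑ j, (ε j : ℤ) * M i j = 0 := fun i => by
    have h := hzero i
    rw [show F = IE ^ m from hpow.symm, hpowΦ (hCc i) hEc, hE, hprod (hCc i)] at h
    exact (mul_eq_zero.1 h).resolve_left (by exact_mod_cast (by omega : m ≠ 0))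
  -- connectedness of the fibre
  have hbij : RigidLib.BijApp f := fun U => by
    haveI := hconn
    exact ConcreteCategory.bijective_of_isIso ((ClSub.unitToPush f).app U)
  have hpre : _root_.IsPreconnected (F.support : Set S) := by
    haveI := SteinConn.connectedSpace_fiber f hbij p
    have he : (F.support : Set S) = Set.range (f.fiberι p) := by
      rw [f.range_fiberι]; exact Set.ext fun x => hFs x
    rw [he]
    exact isPreconnected_range (f.fiberι p).continuous
  have hlink : ∀ I : Finset (Fin n), I.Nonempty → I ≠ Finset.univ → ∃ i ∈ I, ∃ j ∉ I, M i j ≠ 0 := fun I hI hI' => by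
    obtain ⟨i₁, hi₁⟩ := hI
    obtain ⟨j₁, hj₁⟩ : ∃ j, j ∉ I := by
      by_contra h
      push_neg at h
      exact hI' (Finset.eq_univ_iff_forall.2 h)
    let U₁ : Set S := ⋃ i ∈ I, ((C i).support : Set S)
    let U₂ : Set S := ⋃ i ∈ Iᶜ, ((C i).support : Set S)
    obtain ⟨q, -, hq₁, hq₂⟩ := isPreconnected_closed_iff.1 hpre U₁ U₂
      (I.finite_toSet.isClosed_biUnion fun i _ => (C i).support.isClosed)
      (Iᶜ.finite_toSet.isClosed_biUnion fun i _ => (C i).support.isClosed)
      (fun x hx => by
        obtain ⟨i, -, hi⟩ := hcov x hx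
        by_cases h : i ∈ I
        · exact Or.inl (Set.mem_biUnion h hi)
        · exact Or.inr (Set.mem_biUnion (Finset.mem_compl.2 h) hi))
      ⟨ξ i₁, hξF i₁, Set.mem_biUnion hi₁ (by rw [hCs]; exact subset_closure rfl)⟩
      ⟨ξ j₁, hξF j₁, Set.mem_biUnion (Finset.mem_compl.2 hj₁) (by rw [hCs]; exact subset_closure rfl)⟩
    simp only [U₁, U₂, Set.mem_iUnion, exists_prop] at hq₁ hq₂
    obtain ⟨i, hi, hqi⟩ := hq₁
    obtain ⟨j, hj, hqj⟩ := hq₂
    have hij : i ≠ j := fun h => Finset.mem_compl.1 hj (h ▸ hi)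
    exact ⟨i, hi, j, Finset.mem_compl.1 hj,
      ((S18460.inter_nonneg_pos k hdimS (C i) (C j) (hCc i) (hCc j) (hfin i j hij)).2 ⟨q, hqi, hqj⟩).ne'⟩
  have hval : Φ IA IB = - ∑ i, ∑ j, (α i : ℤ) * α j * M i j := by
    have h1 : Φ IA IB = ∑ i, (β i : ℤ) * Φ IA (C i) := by rw [hβ]; exact hprod hAc β Finset.univ
    have h2 : ∀ i, Φ IA (C i) = ∑ j, (α j : ℤ) * M i j := fun i => by
      rw [hsym hAc (hCc i), hα]; exact hprod (hCc i) α Finset.univ
    have h3 : ∀ i j, M i j = M j i := fun i j => hsym (hCc i) (hCc j)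
    have h4 : ∑ i, ∑ j, (ε i : ℤ) * α j * M i j = 0 := by
      rw [Finset.sum_comm]
      refine Finset.sum_eq_zero fun j _ => ?_
      calc ∑ i, (ε i : ℤ) * α j * M i j = (α j : ℤ) * ∑ i, (ε i : ℤ) * M j i := by
            rw [Finset.mul_sum]
            exact Finset.sum_congr rfl fun i _ => by rw [h3 i j]; ring
        _ = 0 := by rw [hrow, mul_zero]
    rw [h1, eq_neg_iff_add_eq_zero, ← h4, ← Finset.sum_add_distrib]
    refine Finset.sum_congr rfl fun i _ => ?_
    rw [h2, Finset.mul_sum, ← Finset.sum_add_distrib]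
    refine Finset.sum_congr rfl fun j _ => ?_
    simp only [ε, Pi.add_apply, Nat.cast_add]
    ring
  change 1 ≤ Φ IA IB
  rw [hval]
  have hnp := CastLib.form_nonpos M ε hsymm hoff hεpos (fun i => (hrow i).le) (fun i => (α i : ℤ))
  suffices hne0 : ∑ i, ∑ j, (α i : ℤ) * α j * M i j ≠ 0 by omega
  intro h0
  obtain ⟨c, hc⟩ := CastLib.proportional_of_form_eq_zero M ε hsymm hoff hεpos hrow hlink (fun i => (α i : ℤ)) h0
  have hden : ∀ i, c.den ∣ ε i := fun i => by
    have h1 : ((α i : ℤ) * c.den : ℚ) = (c.num * ε i : ℚ) := by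
      rw [hc i, ← Rat.mul_den_eq_num c]
      ring
    have h2 : (α i : ℤ) * c.den = c.num * (ε i : ℤ) := by exact_mod_cast h1
    have h3 : (c.den : ℤ) ∣ c.num * (ε i : ℤ) := ⟨α i, by rw [← h2, mul_comm]⟩
    have h4 : IsCoprime (c.den : ℤ) c.num := by
      rw [Int.isCoprime_iff_nat_coprime, Int.natAbs_natCast]
      exact c.reduced.symm
    exact_mod_cast h4.dvd_of_dvd_mul_left h3
  have hd1 : c.den = 1 := by
    by_contra hd'
    have h2 : 2 ≤ c.den := by have := c.den_pos; omega
    refine hprim c.den h2 (∏ i, C i ^ (ε i / c.den)) ?_ ?_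
    · intro x _
      obtain ⟨U, hxU, g, -, hgU⟩ := (CastLib.mk_idealMod_prod C hCc (fun i => ε i / c.den) Finset.univ).1 x
      exact ⟨U, hxU, g, hgU⟩
    · rw [← Finset.prod_pow, hE]
      exact Finset.prod_congr rfl fun i _ => by rw [← pow_mul, Nat.div_mul_cancel (hden i)]
  have hq : ∀ i, (α i : ℤ) = c.num * (ε i : ℤ) := fun i => by
    have h1 := hc i
    rw [← Rat.num_div_den c, hd1, Nat.cast_one, div_one] at h1
    exact_mod_cast h1
  rcases le_or_gt c.num 0 with hq0 | hq0
  · refine hA ?_
    rw [hα, ← Scheme.IdealSheafData.one_eq_top]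
    refine Finset.prod_eq_one fun i _ => ?_
    have h1 : c.num * (ε i : ℤ) ≤ 0 := mul_nonpos_of_nonpos_of_nonneg hq0 (Int.natCast_nonneg _)
    rw [show α i = 0 by have := hq i; omega, pow_zero]
  · refine hB ?_
    rw [hβ, ← Scheme.IdealSheafData.one_eq_top]
    refine Finset.prod_eq_one fun i _ => ?_
    have h1 : (ε i : ℤ) ≤ c.num * (ε i : ℤ) := le_mul_of_one_le_left (Int.natCast_nonneg _) hq0
    have h2 : ε i = α i + β i := rfl
    rw [show β i = 0 by have := hq i; omega, pow_zero]

end Groth.Agent.S16976
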