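import Groth.Statements.S14701
import Groth.Agent.S14700
import Groth.Agent.S16555
import Groth.Agent.S16976
import Groth.Agent.SteinConn.NormalPoint
import Groth.Agent.RpushLib.Sections
import Groth.Agent.RpushLib.ToAb
import Groth.Agent.SubLib.ExtendWO
import Groth.Agent.CurveP1Lib.Rational
import Groth.Agent.ModifDimLib.Main
import Groth.Agent.S9777
import Groth.Agent.S1688
import Groth.Agent.AVLib.AmpleCrit

set_option autoImplicit false
universe u
open CategoryTheory CategoryTheory.Limits AlgebraicGeometry
open Resolve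

namespace Groth.Agent.S14701

set_option backward.isDefEq.respectTransparency false
set_option linter.style.haveILetI false
set_option maxHeartbeats 1000000
set_option synthInstance.maxHeartbeats 200000
open TopologicalSpace IsLocalRing Groth.Agent Groth.Agent.TwistShriek

/-- `R¹ = 0` kills the first cohomology over an affine open. -/
theorem subsingleton_HH1_preimage {X Y : Scheme.{u}} (f : X ⟶ Y) [IsProper f] [IsNoetherian X]
    [IsNoetherian Y] [Y.IsSeparated] (hvan : IsZero ((Coh.RpushAb f 1).obj (Coh.toAb (Coh.structureModule X))))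
    {V : Y.Opens} (hV : IsAffineOpen V) :
    Subsingleton (Coh.HH (f ⁻¹ᵁ V).toScheme (Coh.structureModule (f ⁻¹ᵁ V).toScheme) 1) := by
  haveI : HasInjectiveResolutions X.Modules := inferInstance
  haveI : Coh.IsQCoh (Coh.structureModule X) := (DevLib.isCoh_structureModule X).1
  have hz : IsZero (((Coh.Rpush f 1).obj (Coh.structureModule X)).presheaf.obj (.op V)) :=
    (Functor.map_isZero (sheafToPresheaf _ _) (hvan.of_iso
      ((RpushLib.toAbRpushIso f 1).app (Coh.structureModule X)))).obj _
  haveI : Subsingleton Γ((Coh.Rpush f 1).obj (Coh.structureModule X), V) := AddCommGrpCat.subsingleton_of_isZero hz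
  obtain ⟨e, -⟩ := RpushLib.exists_sections_equiv (M := Coh.structureModule X) f 1 hV
  exact CurveLib.subsingleton_HH_iso
    ((Scheme.Modules.restrictFunctorIsoPullback (f ⁻¹ᵁ V).ι).app _ ≪≫ AmpleLib.pullO (f ⁻¹ᵁ V).ι) 1
    e.symm.toEquiv.subsingleton

/-- The closure of a point of a surface is a curve unless the point is closed or generic. -/
theorem dim_closure_eq_one (k : Type u) [Field k] {X : Scheme.{u}} [X.Over (Spec (CommRingCat.of k))]
    [IsProper (X ↘ Spec (CommRingCat.of k))] [IsIntegral X] (hdim : topologicalKrullDim X = 2) {ξ : X}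
    (hgen : genericPoint X ∉ closure {ξ}) (hξ : ¬ IsClosed ({ξ} : Set X)) :
    topologicalKrullDim (closure {ξ} : Set X) = 1 := by
  haveI := EulerIneqLib.isNoetherian_proper (X := X) k
  haveI : JacobsonSpace X := LocallyOfFiniteType.jacobsonSpace (X ↘ Spec (CommRingCat.of k))
  have hlt := HilbLib.dim_lt_of_notMem (ξ := genericPoint X) (n := 2) (C := closure {ξ}) isClosed_closure
    (fun y _ => specializes_iff_mem_closure.1 (genericPoint_specializes y)) hgen
    (lt_of_le_of_lt ((Topology.IsEmbedding.subtypeVal.isInducing.topologicalKrullDim_le).trans hdim.le)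
      (by exact_mod_cast Nat.lt_succ_self 2))
  have hle : topologicalKrullDim (closure {ξ} : Set X) ≤ 1 := IntLib.dim_le_of_lt (q := 1) hlt
  by_contra hne
  have hlt1 : topologicalKrullDim (closure {ξ} : Set X) < ((1 : ℕ) : WithBot ℕ∞) := lt_of_le_of_ne hle hne
  haveI := (CurveLib.finite_of_dim_le_zero (X := X) isClosed_closure
    (IntLib.dim_le_of_lt (q := 0) (by exact_mod_cast hlt1))).to_subtype
  haveI : JacobsonSpace (closure {ξ} : Set X) :=
    JacobsonSpace.of_isClosedEmbedding isClosed_closure.isClosedEmbedding_subtypeVal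
  have h := isClosed_closure.isClosedEmbedding_subtypeVal.isClosedMap _
    (isClosed_discrete ({⟨ξ, subset_closure rfl⟩} : Set (closure {ξ} : Set X)))
  rw [Set.image_singleton] at h
  exact hξ h

/-- The support of a finite intersection of ideal sheaves is the union of the supports. -/
theorem support_finset_inf {X : Scheme.{u}} {n : ℕ} (E : Fin n → X.IdealSheafData) (s : Finset (Fin n)) :
    ((s.inf E).support : Set X) = ⋃ i ∈ s, ((E i).support : Set X) := by
  classical
  induction s using Finset.induction_on with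
  | empty => simp
  | insert a t ha ih =>
    rw [Finset.inf_insert, Finset.set_biUnion_insert, ← ih]
    refine Set.Subset.antisymm ?_ (Set.union_subset
      (Scheme.IdealSheafData.support_antitone inf_le_left) (Scheme.IdealSheafData.support_antitone inf_le_right))
    have hle : E a * t.inf E ≤ E a ⊓ t.inf E := fun U => by
      rw [Scheme.IdealSheafData.ideal_mul, Scheme.IdealSheafData.ideal_inf]
      exact Ideal.mul_le_inf
    intro z hz
    have h := Scheme.IdealSheafData.support_antitone hle hz
    rw [Scheme.IdealSheafData.support_mul] at h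
    exact h

/-- Let k be an algebraically closed field and X an integral normal scheme of dimension two admitting a
closed immersion into some P^n_k over k. Let φ : Y → X be a k-morphism from an integral scheme Y of
dimension two with all local rings regular, itself admitting a closed immersion into some P^m_k over
k, which restricts to an isomorphism over an open subset U of X with finite complement, and assume
R^1 φ_* O_Y = 0 (first right derived functor of the direct image on abelian sheaves), so that the
singular points of X are rational singularities. Let x be a point of X whose local ring is not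
regular and E_1, …, E_n pairwise distinct integral one-dimensional closed subschemes of Y mapped by
φ to x such that every integral one-dimensional closed subscheme of Y mapped to x has the support of
one of them. Then every E_i is isomorphic to the projective line P^1_k, and Σ_{i<j} (E_i · E_j) = n
- 1, so that the incidence graph of the E_i (connected, as the fibre is connected) is a tree; here
(E_i · E_j) = χ(O_Y) - χ(I_i) - χ(I_j) + χ(I_i ⊗ I_j), I_i the ideal sheaves (packaged as
FGA.intNum). (The published statement is for a resolved model, whose exceptional curves are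
nonsingular with normal crossings, and takes rationality in any of five forms it quotes as
equivalent; this row assumes the vanishing of R^1 φ_* O_Y, the first of them, and the passage from
it to the nonpositivity of arithmetic genera of exceptional cycles used in the proof is taken from
the literature.) -/
theorem result (k : Type u) [Field k] [IsAlgClosed k] (X : Scheme.{u}) [X.Over (Spec (CommRingCat.of k))]
    [IsIntegral X] (hdim : topologicalKrullDim X = 2)
    (hproj : ∃ (n : ℕ) (ι : X ⟶ CohB1.ProjSpace n k), IsClosedImmersion ι ∧ ι ≫ CohB1.ProjSpace.toSpec n k = (X ↘ (Spec (CommRingCat.of k))))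
    (hnorm : Pi1.IsNormalScheme X) (U : X.Opens) (hU : ((U : Set X)ᶜ).Finite)
    (Y : Scheme.{u}) (φ : Y ⟶ X) [IsIntegral Y] (hdimY : topologicalKrullDim Y = 2)
    (hregY : ∀ y : Y, IsRegularLocalRing (Y.presheaf.stalk y))
    (hprojY : ∃ (n : ℕ) (ι : Y ⟶ CohB1.ProjSpace n k), IsClosedImmersion ι ∧ ι ≫ CohB1.ProjSpace.toSpec n k = φ ≫ (X ↘ (Spec (CommRingCat.of k))))
    (hisoY : IsIso (φ ∣_ U))
    (hrat : IsZero ((Coh.RpushAb φ 1).obj (Coh.toAb (Coh.structureModule Y))))
    (x : X) (hx : ¬ IsRegularLocalRing (X.presheaf.stalk x))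
    (n : ℕ) (E : Fin n → Y.IdealSheafData) (hEint : ∀ i, IsIntegral (E i).subscheme)
    (hEdim : ∀ i, topologicalKrullDim ((E i).support : Set Y) = 1)
    (hEpt : ∀ i, φ.base '' ((E i).support : Set Y) = {x})
    (hEinj : Function.Injective fun i => ((E i).support : Set Y))
    (hEall : ∀ F : Y.IdealSheafData, IsIntegral F.subscheme → topologicalKrullDim (F.support : Set Y) = 1 →
      φ.base '' (F.support : Set Y) = {x} → ∃ i, (F.support : Set Y) = (E i).support) :
    letI : Y.Over (Spec (CommRingCat.of k)) := ⟨φ ≫ (X ↘ (Spec (CommRingCat.of k)))⟩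
    (∀ i, Nonempty ((E i).subscheme ≅ CohB1.ProjSpace 1 k)) ∧
      (∑ i : Fin n, ∑ j : Fin n,
          if i < j then FGA.intNum k Y 2 ![ClSub.idealMod (E i), ClSub.idealMod (E j)] (Coh.structureModule Y) else 0) =
        (n : ℤ) - 1 := by
  letI : Y.Over (Spec (CommRingCat.of k)) := ⟨φ ≫ (X ↘ (Spec (CommRingCat.of k)))⟩
  classical
  obtain ⟨mX, ιX, hιX0, hιX⟩ := hproj
  haveI := hιX0
  haveI := ProjSerreLib.isProper_over ιX hιX
  obtain ⟨mY, ιY, hιY0, hιY⟩ := id hprojY
  haveI := hιY0
  haveI : IsProper (Y ↘ Spec (CommRingCat.of k)) :=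
    ProjSerreLib.isProper_over (X := Y) ιY hιY
  haveI := EulerIneqLib.isNoetherian_proper (X := X) k
  haveI := EulerIneqLib.isNoetherian_proper (X := Y) k
  haveI : JacobsonSpace X := LocallyOfFiniteType.jacobsonSpace (X ↘ Spec (CommRingCat.of k))
  haveI : IsProper φ := by
    haveI : IsProper (φ ≫ (X ↘ Spec (CommRingCat.of k))) :=
      inferInstanceAs (IsProper (Y ↘ Spec (CommRingCat.of k)))
    exact IsProper.of_comp φ (X ↘ Spec (CommRingCat.of k))
  haveI : X.IsSeparated := ⟨by rw [← Limits.terminal.comp_from (X ↘ Spec (CommRingCat.of k))]; infer_instance⟩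
  have hUne : (U : Set X).Nonempty := by
    by_contra h
    rw [Set.not_nonempty_iff_eq_empty] at h
    rw [h, Set.compl_empty] at hU
    haveI : Finite X := Set.finite_univ_iff.1 hU
    have h0 := topologicalKrullDim_zero_of_discreteTopology (X := X)
    rw [hdim] at h0
    exact absurd h0 (by norm_num)
  obtain ⟨hgen, hst⟩ := BirQFLib.birational_of_isIso_restrict φ U hUne hisoY
  have hηU : genericPoint X ∈ U := (genericPoint_specializes hUne.some).mem_open U.2 hUne.some_mem
  have hxU : x ∉ U := fun hxU => hx (by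
    obtain ⟨⟨w, hw⟩, hwe⟩ := (φ ∣_ U).homeomorph.surjective ⟨x, hxU⟩
    have hfw : φ w = x := by
      have := congrArg Subtype.val hwe
      rwa [Scheme.Hom.homeomorph_apply, morphismRestrict_base] at this
    haveI : IsIso ((φ ∣_ U).stalkMap ⟨w, hw⟩) := inferInstance
    haveI : IsIso (φ.stalkMap w) :=
      ((MorphismProperty.isomorphisms CommRingCat).arrow_mk_iso_iff (morphismRestrictStalkMap φ U ⟨w, hw⟩)).1 this
    haveI := hregY w
    rw [← hfw]
    exact IsRegularLocalRing.of_ringEquiv (asIso (φ.stalkMap w)).commRingCatIsoToRingEquiv.symm)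
  have hxc : IsClosed ({x} : Set X) := by
    have hUc : IsClosed ((U : Set X)ᶜ) := U.2.isClosed_compl
    haveI := hU.to_subtype
    haveI : JacobsonSpace ((U : Set X)ᶜ : Set X) :=
      JacobsonSpace.of_isClosedEmbedding hUc.isClosedEmbedding_subtypeVal
    have h := hUc.isClosedEmbedding_subtypeVal.isClosedMap _
      (isClosed_discrete ({⟨x, hxU⟩} : Set ((U : Set X)ᶜ : Set X)))
    rwa [Set.image_singleton] at h
  let Φ : Set Y := φ ⁻¹' {x}
  have hΦc : IsClosed Φ := hxc.preimage φ.continuous
  have hηΦ : genericPoint Y ∉ Φ := fun h => hxU ((show φ (genericPoint Y) = x from h) ▸ hgen.symm ▸ hηU)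
  have hΦne : Φ.Nonempty := by
    obtain ⟨w, -, hw⟩ := (φ.isClosedMap _ isClosed_univ).stableUnderSpecialization
      (hgen ▸ genericPoint_specializes x : φ (genericPoint Y) ⤳ x) ⟨_, trivial, rfl⟩
    exact ⟨w, hw⟩
  have hES : ∀ i, ((E i).support : Set Y) ⊆ Φ := fun i z hz => by
    have : φ z ∈ ({x} : Set X) := hEpt i ▸ Set.mem_image_of_mem _ hz
    exact this
  -- the fibre is covered by the curves
  have hcov : ∀ z ∈ Φ, ∃ i, z ∈ (E i).support := by
    intro z hz
    by_contra hno
    push_neg at hno
    obtain ⟨𝒮, hfin, hcl, hirr, hun⟩ := NoetherianSpace.exists_finite_set_isClosed_irreducible hΦc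
    have hcurve : ∀ g ∈ Φ, ¬ IsClosed ({g} : Set Y) → ∃ i, closure {g} = ((E i).support : Set Y) := fun g hg hgc => by
      have hsub : closure ({g} : Set Y) ⊆ Φ := closure_minimal (Set.singleton_subset_iff.2 hg) hΦc
      let F := Scheme.IdealSheafData.vanishingIdeal (⟨closure {g}, isClosed_closure⟩ : Closeds Y)
      have hFs : (F.support : Set Y) = closure {g} := Scheme.IdealSheafData.coe_support_vanishingIdeal _
      obtain ⟨i, hi⟩ := hEall F (CurveLib.isIntegral_vanishingIdeal isClosed_closure isIrreducible_singleton.closure)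
        (by rw [hFs]; exact dim_closure_eq_one k hdimY (fun h => hηΦ (hsub h)) hgc)
        (by
          rw [hFs]
          refine Set.Subset.antisymm (Set.image_subset_iff.2 hsub) ?_
          rintro _ rfl
          exact ⟨g, subset_closure rfl, hg⟩)
      exact ⟨i, hFs.symm.trans hi⟩
    -- every component through `z` is the point `z`
    have hpt : ∀ S ∈ 𝒮, z ∈ S → S = {z} := fun S hS hzS => by
      obtain ⟨g, hg⟩ := QuasiSober.sober (hirr S hS) (hcl S hS)
      have hgΦ : g ∈ Φ := hun.symm ▸ Set.mem_sUnion_of_mem hg.mem hS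
      by_cases hgc : IsClosed ({g} : Set Y)
      · have hS' : S = {g} := hg.def.symm.trans hgc.closure_eq
        rw [hS'] at hzS ⊢
        rw [Set.mem_singleton_iff.1 hzS]
      · obtain ⟨i, hi⟩ := hcurve g hgΦ hgc
        exact absurd (show z ∈ ((E i).support : Set Y) from hi ▸ (hg.def.symm ▸ hzS : z ∈ closure {g})) (hno i)
    obtain ⟨q, hq⟩ : z ∈ Set.range (φ.fiberι x) := by
      rw [φ.range_fiberι]; exact hz
    have hopen : IsOpen ({q} : Set (φ.fiber x)) := by
      have : ({q} : Set (φ.fiber x))ᶜ = φ.fiberι x ⁻¹' ⋃₀ {S ∈ 𝒮 | z ∉ S} := by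
        ext w
        refine ⟨fun hw => ?_, fun hw h => ?_⟩
        · have hwΦ : φ.fiberι x w ∈ Φ := (φ.range_fiberι x).le ⟨w, rfl⟩
          obtain ⟨S, hS, hwS⟩ := hun.le hwΦ
          refine ⟨S, ⟨hS, fun hzS => hw ?_⟩, hwS⟩
          rw [hpt S hS hzS, Set.mem_singleton_iff, ← hq] at hwS
          exact (φ.fiberι x).isEmbedding.injective hwS
        · obtain ⟨S, hS, hwS⟩ := hw
          rw [Set.mem_singleton_iff.1 h, hq] at hwS
          exact hS.2 hwS
      rw [← isClosed_compl_iff, this, Set.sUnion_eq_biUnion]
      exact ((hfin.subset (Set.sep_subset _ _)).isClosed_biUnion fun S hS => hcl S hS.1).preimage (φ.fiberι x).continuous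
    obtain ⟨h1, h2⟩ := BirQFLib.qf_of_isolated φ q hopen
    obtain ⟨V, hxV, hVi⟩ := BirQFLib.exists_nhd_isIso_of_normal_stalk φ hgen hst _
      (by rw [h1]; exact (hnorm x).2) h2
    rw [h1] at hxV
    haveI := hVi
    refine hx ?_
    obtain ⟨⟨w, hw⟩, hwe⟩ := (φ ∣_ V).homeomorph.surjective ⟨x, hxV⟩
    have hfw : φ w = x := by
      have := congrArg Subtype.val hwe
      rwa [Scheme.Hom.homeomorph_apply, morphismRestrict_base] at this
    haveI : IsIso ((φ ∣_ V).stalkMap ⟨w, hw⟩) := inferInstance
    haveI : IsIso (φ.stalkMap w) :=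
      ((MorphismProperty.isomorphisms CommRingCat).arrow_mk_iso_iff (morphismRestrictStalkMap φ V ⟨w, hw⟩)).1 this
    haveI := hregY w
    rw [← hfw]
    exact IsRegularLocalRing.of_ringEquiv (asIso (φ.stalkMap w)).commRingCatIsoToRingEquiv.symm
  -- the union
  let Z := ⨅ i, E i
  have hZs : (Z.support : Set Y) = Φ := by
    rw [show Z = Finset.univ.inf E from (Finset.inf_univ_eq_iInf E).symm, support_finset_inf]
    ext z
    simp only [Finset.mem_univ, Set.iUnion_true, Set.mem_iUnion]
    exact ⟨fun ⟨i, hi⟩ => hES i hi, hcov z⟩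
  have hdom : φ.base (genericPoint Y) ⤳ genericPoint X := specializes_of_eq hgen
  have hsurj : Function.Surjective (CohIII.stalkToFunctionField φ (genericPoint X) hdom) := fun a => by
    haveI := hst
    obtain ⟨b, rfl⟩ := (ConcreteCategory.bijective_of_isIso (φ.stalkMap (genericPoint Y))).2 a
    refine ⟨(X.presheaf.stalkSpecializes (specializes_of_eq hgen.symm)).hom b, ?_⟩
    show (φ.stalkMap _).hom ((X.presheaf.stalkSpecializes hdom).hom _) = _
    congr 1
    rw [← CategoryTheory.comp_apply, TopCat.Presheaf.stalkSpecializes_comp, TopCat.Presheaf.stalkSpecializes_refl]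
    rfl
  have hconn : _root_.IsConnected (Z.support : Set Y) := by
    rw [hZs]
    haveI := (SteinConn.geometricallyConnected_and_bijApp φ hdom (fun a _ => hsurj a) x (hnorm x).2).1
    haveI : ConnectedSpace ↥(φ.fiber x) :=
      GeometricallyConnected.connectedSpace_of_subsingleton (φ.fiberToSpecResidueField x)
    rw [show Φ = Set.range (φ.fiberι x) from (φ.range_fiberι x).symm]
    exact isConnected_range (φ.fiberι x).continuous
  obtain ⟨hle, himp⟩ := S14700.result k Y hdimY hprojY hregY n E hEint hEdim hEinj hconn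
  haveI : Smooth (Y ↘ Spec (CommRingCat.of k)) := CurveFF.smooth_of_regular hregY
  -- the first cohomology of the union
  obtain ⟨hY', -, -, -⟩ := euler_union k hdimY E hEint hEdim hEinj Finset.univ
  rw [Finset.inf_univ_eq_iInf] at hY'
  have hne : Z ≠ ⊤ := fun h => by
    have h' : (Z.support : Set Y) = ∅ := by rw [h, Scheme.IdealSheafData.support_top]; rfl
    exact Set.not_nonempty_empty (h' ▸ hconn.1)
  have hd := (dim_divisor k hdimY hY' hne).le
  obtain ⟨_, ⟨V : X.Opens, hV, rfl⟩, (hxV : x ∈ V), -⟩ :=
    X.isBasis_affineOpens.exists_subset_of_mem_open (Set.mem_univ x) isOpen_univ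
  haveI := subsingleton_HH1_preimage φ hrat hV
  have hr : Set.range Z.subschemeι ⊆ Set.range (φ ⁻¹ᵁ V).ι := by
    rw [Scheme.IdealSheafData.range_subschemeι, hZs, Scheme.Opens.range_ι]
    intro z hz
    show φ z ∈ V
    rw [show φ z = x from hz]; exact hxV
  let l := IsOpenImmersion.lift (φ ⁻¹ᵁ V).ι Z.subschemeι hr
  have hl : l ≫ (φ ⁻¹ᵁ V).ι = Z.subschemeι := IsOpenImmersion.lift_fac _ _ _
  haveI : IsClosedImmersion (l ≫ (φ ⁻¹ᵁ V).ι) := by rw [hl]; infer_instance
  haveI : IsClosedImmersion l := IsClosedImmersion.of_comp l (φ ⁻¹ᵁ V).ι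
  haveI : IsAffine V.toScheme := hV
  haveI : IsLocallyNoetherian (φ ⁻¹ᵁ V).toScheme := LocallyOfFiniteType.isLocallyNoetherian (φ ⁻¹ᵁ V).ι
  have hfib := ModifDimLib.fibre_dim_le_one φ (fun s => (S1688.dim_le s).trans hdim.le) hUne hisoY
  haveI hT : Subsingleton (Coh.HH Z.subscheme (Coh.structureModule Z.subscheme) 1) :=
    S16555.subsingleton_HH_closed l (φ ∣_ V) fun s => by
      rw [Groth.Agent.S9777.result φ V.ι (φ ∣_ V) (φ ⁻¹ᵁ V).ι (isPullback_morphismRestrict φ V).flip s]
      exact hfib _
  letI : Z.subscheme.Over (Spec (CommRingCat.of k)) := ⟨Z.subschemeι ≫ (Y ↘ Spec (CommRingCat.of k))⟩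
  haveI : IsProper (Z.subscheme ↘ Spec (CommRingCat.of k)) :=
    inferInstanceAs (IsProper (Z.subschemeι ≫ (Y ↘ Spec (CommRingCat.of k))))
  haveI : IsLocallyNoetherian Z.subscheme := LocallyOfFiniteType.isLocallyNoetherian Z.subschemeι
  haveI : Coh.IsQCoh (Coh.structureModule Z.subscheme) := (DevLib.isCoh_structureModule Z.subscheme).1
  have h1 : Module.finrank k (Coh.HH Y (ClSub.quotMod Z) 1) = 0 := by
    refine (IntLib.finrank_push k Z.subschemeι rfl (Coh.structureModule Z.subscheme) 1).trans ?_
    exact Module.finrank_zero_of_subsingleton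
  haveI : IsReduced Z.subscheme := by
    have h : Z = Scheme.IdealSheafData.vanishingIdeal Z.support := by
      rw [Scheme.IdealSheafData.vanishingIdeal_support]
      refine le_antisymm (Scheme.IdealSheafData.le_radical _) (le_iInf fun i => ?_)
      haveI := hEint i
      rw [← radical_eq_self (E i)]
      exact fun U => Ideal.radical_mono ((iInf_le E i : Z ≤ E i) U)
    rw [h]
    exact DVRCrit.isReduced_vanishingIdeal _
  haveI : ConnectedSpace Z.subscheme := by
    refine connectedSpace_iff_univ.2 ?_
    have h := hconn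
    rw [← Scheme.IdealSheafData.range_subschemeι, ← Set.image_univ] at h
    exact ⟨Set.image_nonempty.1 h.1, Z.subschemeι.isEmbedding.isInducing.isPreconnected_image.1 h.2⟩
  have he := euler_divisor k hd
  rw [finrank_H0_quot_connected k Z, h1] at he
  have hχ : Curv2.euler k Y (ClSub.quotMod Z) = 1 := by rw [he]; simp
  obtain ⟨hEi, hsum⟩ := himp hχ
  refine ⟨fun i => ?_, hsum⟩
  haveI := hEint i
  letI : (E i).subscheme.Over (Spec (CommRingCat.of k)) := ⟨(E i).subschemeι ≫ (Y ↘ Spec (CommRingCat.of k))⟩
  haveI : IsProper ((E i).subscheme ↘ Spec (CommRingCat.of k)) :=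
    inferInstanceAs (IsProper ((E i).subschemeι ≫ (Y ↘ Spec (CommRingCat.of k))))
  haveI : GeometricallyIntegral ((E i).subscheme ↘ Spec (CommRingCat.of k)) :=
    AVLib.geometricallyIntegral_of_isIntegral _
  have hdE : topologicalKrullDim (E i).subscheme = 1 := by
    rw [← hEdim i, ← Scheme.IdealSheafData.range_subschemeι]
    exact ((E i).subschemeι.isEmbedding.toHomeomorph).isHomeomorph.topologicalKrullDim_eq
  obtain ⟨hc1, hc2⟩ := euler_curve_eq k (hEint i) (hEdim i)
  rw [hEi i] at hc1
  haveI := hc2.2 (by omega)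
  obtain ⟨e, -⟩ := CurveP1Lib.exists_iso_P1_of_sepClosed (k := k) (X := (E i).subscheme) hdE
    (show Curv2.genus k (E i).subscheme = 0 from Module.finrank_zero_of_subsingleton)
  exact ⟨e⟩

end Groth.Agent.S14701
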