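import Groth.Statements.S14702
import Groth.Agent.FundLocIsoLib.SmoothDual
import Groth.Agent.FundLocIsoLib.Regular
import Groth.Agent.CanonFacLib.Restrict
import Groth.Agent.CanonFacLib.GenusOne
import Groth.Agent.ExtShLib.Local
import Groth.Agent.ExtStabLib.ExtBidual
import Groth.Agent.DCohLib.OpenD
import Groth.Agent.DevLib.Closed
import Groth.Agent.DimFormulaLib.Field
-- import your own Groth.Agent.* helpers here

set_option autoImplicit false
universe u
open CategoryTheory CategoryTheory.Limits AlgebraicGeometry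
open ProjDual

namespace Groth.Agent.S14702

set_option backward.isDefEq.respectTransparency false
set_option linter.style.haveILetI false
set_option maxHeartbeats 1000000

open Groth.Agent Groth.Agent.FundLocIsoLib in
/-- Dualizing modules are unique. -/
theorem nonempty_iso_of_dual {k : Type u} [Field k] {X : Scheme.{u}} [X.Over (Spec (CommRingCat.of k))] {r : ℕ}
    {ω ω' : X.Modules} (hc : Coh.IsCoh ω) (hc' : Coh.IsCoh ω') (t : Coh.HH X ω r →ₗ[k] k) (t' : Coh.HH X ω' r →ₗ[k] k)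
    (h : ∀ F : X.Modules, Coh.IsCoh F → ∀ ψ : Coh.HH X F r →ₗ[k] k,
      ∃! φ : F ⟶ ω, ∀ x : Coh.HH X F r,
        ψ x = t (Sheaf.H.map ((SheafOfModules.toSheaf X.ringCatSheaf).map φ) r x))
    (h' : ∀ F : X.Modules, Coh.IsCoh F → ∀ ψ : Coh.HH X F r →ₗ[k] k,
      ∃! φ : F ⟶ ω', ∀ x : Coh.HH X F r,
        ψ x = t' (Sheaf.H.map ((SheafOfModules.toSheaf X.ringCatSheaf).map φ) r x)) :
    Nonempty (ω ≅ ω') := by
  obtain ⟨a, ha, -⟩ := h' ω hc t
  obtain ⟨b, hb, -⟩ := h ω' hc' t'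
  refine ⟨⟨a, b, ?_, ?_⟩⟩
  · refine (h ω hc t).unique ?_ ?_
    · intro x
      rw [Functor.map_comp, Sheaf.H.map_comp_apply, ← hb, ← ha]
    · intro x
      rw [CategoryTheory.Functor.map_id, Sheaf.H.map_id_apply]
  · refine (h' ω' hc' t').unique ?_ ?_
    · intro x
      rw [Functor.map_comp, Sheaf.H.map_comp_apply, ← ha, ← hb]
    · intro x
      rw [CategoryTheory.Functor.map_id, Sheaf.H.map_id_apply]

/-- Let k be an algebraically closed field and X an integral closed subscheme of P^N_k of dimension two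
which is a local complete intersection (every local ring is a complete intersection) with only
finitely many non-regular points; let U ⊆ X be the open subset of regular points. Let (ω, t) be a
dualizing sheaf for X: ω coherent, t a k-linear form on H^2(X, ω), and for every coherent F and
every k-linear form ψ on H^2(X, F) there is exactly one φ : F → ω with ψ = t ∘ H^2(φ). Then the
restriction of ω to U is isomorphic to ω_U, a second exterior power of the sheaf of differentials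
Ω_{U/k} (existence of an isomorphism of O_U-modules; the published statement also asserts an unnamed
isomorphism). -/
theorem result (k : Type u) [Field k] [IsAlgClosed k] (N : ℕ)
    (X : Scheme.{u}) [X.Over (Spec (CommRingCat.of k))] [IsIntegral X] (hdim : topologicalKrullDim X = 2)
    (ι : X ⟶ CohB1.ProjSpace N k) [IsClosedImmersion ι] (hι : ι ≫ CohB1.ProjSpace.toSpec N k = X ↘ (Spec (CommRingCat.of k)))
    (hlci : ∀ x : X, Pi1.IsCompleteIntersection (X.presheaf.stalk x))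
    (U : X.Opens) (hUreg : ∀ x : X, x ∈ U ↔ IsRegularLocalRing (X.presheaf.stalk x)) (hU : ((U : Set X)ᶜ).Finite)
    (ω : X.Modules) (hωcoh : Coh.IsCoh ω) (t : Coh.HH X ω 2 →ₗ[k] k)
    (hdual : ∀ F : X.Modules, Coh.IsCoh F → ∀ ψ : Coh.HH X F 2 →ₗ[k] k,
        ∃! φ : F ⟶ ω, ∀ x : Coh.HH X F 2,
          ψ x = t (Sheaf.H.map ((SheafOfModules.toSheaf X.ringCatSheaf).map φ) 2 x))
    (W : (U : Scheme.{u}).Modules) (hW : ExtPow.IsExtPow 2 (Omega.sheaf (U.ι ≫ (X ↘ (Spec (CommRingCat.of k))))) W) :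
    Nonempty ((Scheme.Modules.restrictFunctor U.ι).obj ω ≅ W) := by
  classical
  obtain ⟨V, rfl⟩ : ∃ V : (CohB1.ProjSpace N k).Opens, U = ι ⁻¹ᵁ V := by
    have hcl : IsClosed (ι '' ((U : Set X)ᶜ)) := ι.isClosedEmbedding.isClosedMap _ U.2.isClosed_compl
    refine ⟨⟨(ι '' ((U : Set X)ᶜ))ᶜ, hcl.isOpen_compl⟩, TopologicalSpace.Opens.ext (Set.ext fun x => ⟨fun hx => ?_, fun hx => ?_⟩)⟩
    · rintro ⟨y, hy, hyx⟩
      exact hy (ι.isClosedEmbedding.injective hyx ▸ hx)
    · by_contra h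
      exact hx ⟨x, h, rfl⟩
  let π := CohB1.ProjSpace.toSpec N k
  haveI : LocallyOfFiniteType (X ↘ Spec (CommRingCat.of k)) := hι ▸ inferInstance
  haveI := ProjSerreLib.isNoetherian_sub ι
  haveI : IsNoetherian (CohB1.ProjSpace N k) := ProjSerreLib.isNoetherian_sub (𝟙 (CohB1.ProjSpace N k))
  -- the regular locus is a smooth surface
  have hη : genericPoint X ∈ ι ⁻¹ᵁ V := by
    refine (hUreg _).2 ?_
    exact inferInstanceAs (IsRegularLocalRing X.functionField)
  haveI : Nonempty (ι ⁻¹ᵁ V : X.Opens) := ⟨⟨_, hη⟩⟩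
  haveI : Nonempty ↑↥((ι ⁻¹ᵁ V : X.Opens) : Scheme.{u}) := ⟨⟨_, hη⟩⟩
  haveI : IsIntegral ((ι ⁻¹ᵁ V : X.Opens) : Scheme.{u}) := isIntegral_of_isOpenImmersion (ι ⁻¹ᵁ V).ι
  let g := (ι ⁻¹ᵁ V).ι ≫ (X ↘ Spec (CommRingCat.of k))
  haveI hsm : SmoothOfRelativeDimension 2 g := by
    refine FundLocIsoLib.smoothOfRelativeDimension_of_regular g (fun x => ?_) ?_
    · haveI := (hUreg x.1).1 x.2
      exact IsRegularLocalRing.of_ringEquiv (Scheme.Opens.stalkIso (ι ⁻¹ᵁ V) x).commRingCatIsoToRingEquiv.symm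
    · exact (DimFormulaLib.topologicalKrullDim_opens (X ↘ Spec (CommRingCat.of k)) (ι ⁻¹ᵁ V) ⟨_, hη⟩).trans
        (by rw [hdim]; rfl)
  haveI : SmoothOfRelativeDimension N (V.ι ≫ π) := by
    have h : SmoothOfRelativeDimension (0 + N) (V.ι ≫ π) := inferInstance
    simpa using h
  haveI : IsClosedImmersion (ι ∣_ V) := inferInstance
  have hfac : (ι ∣_ V) ≫ (V.ι ≫ π) = g := by
    rw [← Category.assoc, morphismRestrict_ι, Category.assoc, hι]
  haveI : QuasiSeparated g := hfac ▸ inferInstance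
  have hN : 2 ≤ N := by
    obtain ⟨-, -, -, -, -, hr⟩ := FundLocIsoLib.exists_conormal_sequence (V.ι ≫ π) g (ι ∣_ V) N 2 hfac
    obtain ⟨-, a, -, -, -, ha⟩ := hr ⟨_, hη⟩
    omega
  -- the dualizing module is the Ext sheaf
  haveI : ModSite.HasSheafHom (O := (CohB1.ProjSpace N k).sheaf) (ProjSerreLib.pushO ι) :=
    ModTensor.hasSheafHom (O := (CohB1.ProjSpace N k).sheaf) _
  haveI : HasInjectiveResolutions (CohB1.ProjSpace N k).Modules := inferInstance
  haveI : HasInjectiveResolutions (ModSite.Mod (CohB1.ProjSpace N k).sheaf) :=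
    ‹HasInjectiveResolutions (CohB1.ProjSpace N k).Modules›
  let T := Twist.twistProjSpace N k (-((N : ℤ) + 1))
  let R := injectiveResolution T
  obtain ⟨eE⟩ := ProjSerreLib.nonempty_extSh_shCx ι R (N - 2)
  let ω' : X.Modules := (ProjSerreLib.shCx ι R).homology (N - 2)
  haveI : Smooth π := SmoothOfRelativeDimension.smooth N π
  haveI := (PullbackMod.isQCoh_and_isFP_of_isFinLocFree _ (InfLiftLib.isFinLocFree_omega π)).1
  obtain ⟨ωP, -, hωP⟩ := ExtPowLib.exists_isExtPow (Omega.sheaf π) N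
  obtain ⟨eT⟩ := FundLocIsoLib.nonempty_topForms_iso_twist hωP
  have hTc : Coh.IsCoh T := DCohLib.isCoh_of_isFinLocFree (DCohLib.isFinLocFree_iso eT
    (CurveLib.isFinLocFree_of_isInvertible ((CanonFac.hasFrames_omega π N).isInvertible hωP)))
  have hω'c : Coh.IsCoh ω' := by
    haveI := DCohLib.isIso_counit_closedImmersion ι ω'
    have h := PullbackMod.isCoh_pullback ι _ (ExtShLib.isCoh_extS (ProjSerreLib.pushO ι)
      (DevLib.isCoh_pushforward_closed ι (DevLib.isCoh_structureModule X)) T hTc (N - 2))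
    exact DCohLib.isCoh_iso ((Scheme.Modules.pullback ι).mapIso eE ≪≫
      asIso ((Scheme.Modules.pullbackPushforwardAdjunction ι).counit.app ω')) h
  obtain ⟨t', ht'⟩ := ProjSerreLib.exists_trace hN ι hι (by rw [hdim]; exact le_rfl) ω' ⟨eE.symm⟩
  obtain ⟨a⟩ := nonempty_iso_of_dual hωcoh hω'c t t' hdual ht'
  -- on the regular locus
  haveI : ModSite.HasSheafHom (O := (V : Scheme.{u}).sheaf) (ProjSerreLib.pushO (ι ∣_ V)) :=
    ModTensor.hasSheafHom (O := (V : Scheme.{u}).sheaf) _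
  haveI : ModSite.HasSheafHom (O := (V : Scheme.{u}).sheaf) ((ProjSerreLib.pushO ι).restrict V.ι) :=
    ModTensor.hasSheafHom (O := (V : Scheme.{u}).sheaf) _
  haveI : ModSite.HasSheafHom (O := (V : Scheme.{u}).sheaf)
      ((Scheme.Modules.restrictFunctor V.ι).obj (ProjSerreLib.pushO ι)) :=
    ModTensor.hasSheafHom (O := (V : Scheme.{u}).sheaf) _
  haveI : HasInjectiveResolutions (V : Scheme.{u}).Modules := inferInstance
  haveI : HasInjectiveResolutions (ModSite.Mod (V : Scheme.{u}).sheaf) :=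
    ‹HasInjectiveResolutions (V : Scheme.{u}).Modules›
  haveI : IsLocallyNoetherian (V : Scheme.{u}) := inferInstance
  haveI : Smooth (V.ι ≫ π) := SmoothOfRelativeDimension.smooth N _
  haveI : QuasiCompact V.ι := inferInstance
  haveI := (PullbackMod.isQCoh_and_isFP_of_isFinLocFree _ (CanonFac.hasFrames_omega (V.ι ≫ π) N).1).1
  obtain ⟨ωV, -, hωV⟩ := ExtPowLib.exists_isExtPow (Omega.sheaf (V.ι ≫ π)) N
  obtain ⟨eV⟩ : Nonempty (ωV ≅ (Scheme.Modules.restrictFunctor V.ι).obj T) := by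
    obtain ⟨Z₁, i₁, g₁, c₁, n₁, h₁, hi₁, hg₁, hq₁, hs₁, hv₁⟩ := CanonFac.isCanonical_omega π N hωP
    obtain ⟨Z₂, i₂, g₂, c₂, n₂, h₂, hi₂, hg₂, hq₂, hs₂, hv₂⟩ := CanonFac.isCanonical_omega (V.ι ≫ π) N hωV
    haveI := hq₁
    haveI := hs₁
    haveI := hq₂
    haveI := hs₂
    obtain ⟨e⟩ := CanonFac.nonempty_iso_via i₂ g₂ (V.ι ≫ i₁) g₁ (by rw [h₂, Category.assoc, h₁]) hi₂ hg₂
      (CanonFac.codim_open_comp V.ι i₁ hi₁) hg₁ hv₂ (CanonFac.isCanonicalVia_open V.ι i₁ g₁ hi₁ hv₁)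
    exact ⟨e ≪≫ (Scheme.Modules.restrictFunctorIsoPullback V.ι).symm.app _ ≪≫
      (Scheme.Modules.restrictFunctor V.ι).mapIso eT⟩
  obtain ⟨eW⟩ := FundLocIsoLib.nonempty_topForms_extSh (V.ι ≫ π) g (ι ∣_ V) hfac N 2 hωV hW
  obtain ⟨eR⟩ := ExtShLib.nonempty_restrict_extS V (ProjSerreLib.pushO ι) T (N - 2)
  obtain ⟨eC⟩ := ExtStab.nonempty_extSh_congr (A := (Scheme.Modules.restrictFunctor V.ι).obj (ProjSerreLib.pushO ι))
    (B := ProjSerreLib.pushO (ι ∣_ V))
    ((DCohLib.restrictPushIso ι V).app _ ≪≫ (Scheme.Modules.pushforward (ι ∣_ V)).mapIso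
      (DCohLib.restrictUnit (ι ⁻¹ᵁ V).ι))
    ((Scheme.Modules.restrictFunctor V.ι).obj T) (N - 2)
  exact ⟨(Scheme.Modules.restrictFunctor (ι ⁻¹ᵁ V).ι).mapIso a ≪≫ ProjSerreLib.isoOfPush (ι ∣_ V)
    (((DCohLib.restrictPushIso ι V).app ω').symm ≪≫ (Scheme.Modules.restrictFunctor V.ι).mapIso eE.symm ≪≫
      eR ≪≫ eC ≪≫ ((ModSite.extSh (O := (V : Scheme.{u}).sheaf) (ProjSerreLib.pushO (ι ∣_ V)) (N - 2)).mapIso eV).symm ≪≫
      eW.symm)⟩

end Groth.Agent.S14702
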