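import Groth.Statements.S14708
import Groth.Agent.ExtNatLib.Basic
import Mathlib

set_option autoImplicit false
universe u
open HRes

namespace Groth.Agent.S14708

open CategoryTheory CategoryTheory.Limits AlgebraicGeometry Opposite
set_option backward.isDefEq.respectTransparency false
set_option maxHeartbeats 800000

lemma pullConst_id (K : Precoverage Scheme.{u}) (S : Scheme.{u}) (M : AddCommGrpCat.{u + 1}) :
    (HRes.pullConst K (𝟙 S) M).inv ≫ (K.toGrothendieck.overMapPullbackId AddCommGrpCat.{u + 1} S).hom.app _ = 𝟙 _ := by
  apply Sheaf.hom_ext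
  refine sheafify_hom_ext _ _ _ (Sheaf.cond _) ?_
  ext U : 2
  simp [HRes.pullConst, GrothendieckTopology.overMapPullbackId]
  exact ((toSheafify (QuotSh.J K S) ((Functor.const (Over S)ᵒᵖ).obj M)).naturality ((Over.mapId S).inv.app (unop U)).op).symm.trans
    ((Category.id_comp _).trans (Category.comp_id _).symm)

open CategoryTheory AlgebraicGeometry in
/-- Let S be a scheme, K a precoverage on schemes with its big site over S, F an abelian sheaf on that
site and n ≥ 0. For every class x ∈ H^n(S, F), restricting x along the identity of S and then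
applying the map induced on cohomology by the canonical isomorphism (𝟙_S)⁻¹ F ≅ F gives back x; this
is the identity law of the presheaf U ↦ H^n(U, F) given by the restriction maps. The statement is
asserted for every precoverage K; it has no hypothesis depending on K. -/
theorem result (K : Precoverage Scheme.{u}) (S : Scheme.{u})
    (F : BigSite.Ab K S) (n : ℕ) (x : BigSite.H K S F n) :
    Sheaf.H.map ((K.toGrothendieck.overMapPullbackId AddCommGrpCat.{u + 1} S).hom.app F) n
      (HRes.pull K (𝟙 S) F n x) = x := by
  let e := K.toGrothendieck.overMapPullbackId AddCommGrpCat.{u + 1} S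
  rw [HRes.pull_apply, Sheaf.H.map_apply, Abelian.Ext.comp_assoc_of_third_deg_zero]
  refine (congrArg (fun z => (Abelian.Ext.mk₀ _).comp z (zero_add n)) (Groth.Agent.ExtNatLib.mapExactFunctor_naturality (BigSite.pullBig K (𝟙 S) AddCommGrpCat.{u + 1}) (𝟭 _) e.hom n x)).trans ?_
  rw [Groth.Agent.ExtNatLib.mapExactFunctor_id, ← Abelian.Ext.comp_assoc_of_second_deg_zero,
    Abelian.Ext.mk₀_comp_mk₀]
  erw [pullConst_id]
  exact Abelian.Ext.mk₀_id_comp _

end Groth.Agent.S14708
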