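import Groth.Statements.S14709
import Groth.Agent.ExtNatLib.Basic
import Mathlib

set_option autoImplicit false
universe u
open HRes

namespace Groth.Agent.S14709

open CategoryTheory CategoryTheory.Limits AlgebraicGeometry Opposite
set_option backward.isDefEq.respectTransparency false
set_option maxHeartbeats 800000

lemma compFunctor_step {C D E : Type*} [Category C] [Category D] [Category E] [Abelian C] [Abelian D] [Abelian E]
    [HasExt.{u+1} C] [HasExt.{u+1} D] [HasExt.{u+1} E]
    (F : C ⥤ D) [F.Additive] [PreservesFiniteLimits F] [PreservesFiniteColimits F]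
    (G : D ⥤ E) [G.Additive] [PreservesFiniteLimits G] [PreservesFiniteColimits G]
    {n : ℕ} {X : C} {S : ShortComplex C} (hS : S.ShortExact) (y : Abelian.Ext X S.X₃ n)
    (ih : (y.mapExactFunctor F).mapExactFunctor G = y.mapExactFunctor (F ⋙ G)) :
    ((y.comp hS.extClass rfl).mapExactFunctor F).mapExactFunctor G =
      (y.comp hS.extClass rfl).mapExactFunctor (F ⋙ G) := by
  rw [Abelian.Ext.mapExactFunctor_comp, Abelian.Ext.mapExactFunctor_comp, Abelian.Ext.mapExactFunctor_comp, ih,
    Abelian.Ext.mapExactFunctor_extClass F hS, Abelian.Ext.mapExactFunctor_extClass (F ⋙ G) hS]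
  refine congrArg (fun z => (y.mapExactFunctor (F ⋙ G)).comp z rfl) ?_
  exact Abelian.Ext.mapExactFunctor_extClass G (hS.map_of_exact F)

lemma mapExactFunctor_compFunctor {C D E : Type*} [Category C] [Category D] [Category E] [Abelian C] [Abelian D] [Abelian E]
    [HasExt.{u+1} C] [HasExt.{u+1} D] [HasExt.{u+1} E] [EnoughInjectives C]
    (F : C ⥤ D) [F.Additive] [PreservesFiniteLimits F] [PreservesFiniteColimits F]
    (G : D ⥤ E) [G.Additive] [PreservesFiniteLimits G] [PreservesFiniteColimits G]
    (n : ℕ) {X Y : C} (x : Abelian.Ext X Y n) :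
    (x.mapExactFunctor F).mapExactFunctor G = x.mapExactFunctor (F ⋙ G) := by
  induction n generalizing Y with
  | zero =>
    obtain ⟨f, rfl⟩ := (Abelian.Ext.mk₀_bijective X Y).2 x
    simp only [Abelian.Ext.mapExactFunctor_mk₀]
    rfl
  | succ n ih =>
    obtain ⟨J⟩ := EnoughInjectives.presentation Y
    let S : ShortComplex C := ShortComplex.mk J.f (cokernel.π J.f) (cokernel.condition _)
    have hS : S.ShortExact :=
      { exact := ShortComplex.exact_of_g_is_cokernel _ (cokernelIsCokernel _) }
    haveI : Injective S.X₂ := J.injective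
    obtain ⟨y, rfl⟩ : ∃ y : Abelian.Ext X S.X₃ n, y.comp hS.extClass rfl = x :=
      Abelian.Ext.covariant_sequence_exact₁ X hS x (Abelian.Ext.eq_zero_of_injective (I := S.X₂) _) rfl
    exact compFunctor_step F G hS y (ih y)

lemma pullConst_comp (K : Precoverage Scheme.{u}) {S T T' : Scheme.{u}} (f : T ⟶ S) (g : T' ⟶ T)
    (M : AddCommGrpCat.{u + 1}) :
    (HRes.pullConst K g M).inv ≫ (BigSite.pullBig K g AddCommGrpCat.{u + 1}).map (HRes.pullConst K f M).inv ≫
      (K.toGrothendieck.overMapPullbackComp AddCommGrpCat.{u + 1} g f).hom.app _ = (HRes.pullConst K (g ≫ f) M).inv := by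
  apply Sheaf.hom_ext
  refine sheafify_hom_ext _ _ _ (Sheaf.cond _) ?_
  ext U : 2
  simp [HRes.pullConst, GrothendieckTopology.overMapPullbackComp]
  rw [← Category.assoc, ← NatTrans.comp_app, toSheafify_sheafifyLift]
  exact ((toSheafify (QuotSh.J K S) ((Functor.const (Over S)ᵒᵖ).obj M)).naturality ((Over.mapComp g f).hom.app (unop U)).op).symm.trans
    (Category.id_comp _)

open CategoryTheory AlgebraicGeometry in
/-- Let g : T' ⟶ T and f : T ⟶ S be morphisms of schemes, K a precoverage on schemes with its big sites,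
F an abelian sheaf on the big site of S and n ≥ 0. For every x ∈ H^n(S, F), the restriction of x
along g ≫ f is the restriction of x along f, restricted further along g, and then carried along the
map induced on cohomology by the canonical isomorphism g⁻¹(f⁻¹ F) ≅ (g ≫ f)⁻¹ F; this is the
composition law of the presheaf U ↦ H^n(U, F) given by the restriction maps. The statement is
asserted for every precoverage K; it has no hypothesis depending on K. -/
theorem result (K : Precoverage Scheme.{u}) {S T T' : Scheme.{u}}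
    (f : T ⟶ S) (g : T' ⟶ T) (F : BigSite.Ab K S) (n : ℕ) (x : BigSite.H K S F n) :
    HRes.pull K (g ≫ f) F n x =
      Sheaf.H.map ((K.toGrothendieck.overMapPullbackComp AddCommGrpCat.{u + 1} g f).hom.app F) n
        (HRes.pull K g ((BigSite.pullBig K f AddCommGrpCat.{u + 1}).obj F) n (HRes.pull K f F n x)) := by
  let c := fun {A B : Scheme.{u}} (h : A ⟶ B) => (HRes.pullConst K h (AddCommGrpCat.of (ULift.{u + 1} ℤ))).inv
  let e := K.toGrothendieck.overMapPullbackComp AddCommGrpCat.{u + 1} g f
  have h1 := Groth.Agent.ExtNatLib.mapExactFunctor_naturality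
    (BigSite.pullBig K f AddCommGrpCat.{u + 1} ⋙ BigSite.pullBig K g AddCommGrpCat.{u + 1})
    (BigSite.pullBig K (g ≫ f) AddCommGrpCat.{u + 1}) e.hom n x
  rw [HRes.pull_apply, Sheaf.H.map_apply, HRes.pull_apply, HRes.pull_apply, Abelian.Ext.mapExactFunctor_comp,
    Abelian.Ext.mapExactFunctor_mk₀, mapExactFunctor_compFunctor,
    Abelian.Ext.comp_assoc_of_third_deg_zero, Abelian.Ext.comp_assoc_of_third_deg_zero]
  refine Eq.symm ((congrArg (fun z => (Abelian.Ext.mk₀ (c g)).comp
    ((Abelian.Ext.mk₀ ((BigSite.pullBig K g AddCommGrpCat.{u + 1}).map (c f))).comp z (zero_add n)) (zero_add n)) h1).trans ?_)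
  rw [← Abelian.Ext.comp_assoc_of_second_deg_zero, Abelian.Ext.mk₀_comp_mk₀,
    ← Abelian.Ext.comp_assoc_of_second_deg_zero, Abelian.Ext.mk₀_comp_mk₀, Category.assoc]
  erw [pullConst_comp]

end Groth.Agent.S14709
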