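import Groth.Statements.S14712
import Groth.Agent.LinUniqueLib.Char
import Groth.Agent.AVLib.GeomInt
import Groth.Agent.MonoFibre.KernelFibre

set_option autoImplicit false
universe u
open CategoryTheory MonoidalCategory CartesianMonoidalCategory MonObj GrpObj AlgebraicGeometry Topology
open GIT

namespace Groth.Agent.S14712

open CategoryTheory CategoryTheory.Limits AlgebraicGeometry

open Groth.Agent CategoryTheory.MonoidalCategory CategoryTheory.CartesianMonoidalCategory CategoryTheory.MonObj GLinSh TopologicalSpace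
set_option backward.isDefEq.respectTransparency false
set_option linter.style.haveILetI false
set_option maxHeartbeats 1000000

noncomputable section

variable {k : Type u} [Field k]

local notation "I₀" => (𝟙_ (Over (Spec (CommRingCat.of k))))

/-- The value of a function at a rational point. -/
def ev {Z : Over (Spec (CommRingCat.of k))} (p : I₀ ⟶ Z) (U : Z.left.Opens) (h : (⊤ : Opens (I₀).left) ≤ p.left ⁻¹ᵁ U) (y : Γ(Z.left, U)) :
    Γ((I₀).left, ⊤) := p.left.appLE U ⊤ h y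

/-- A rational point whose point lies in an open set factors through it. -/
theorem le_of_mem {Z : Over (Spec (CommRingCat.of k))} (p : I₀ ⟶ Z) (U : Z.left.Opens) {z : (I₀).left} (h : p.left z ∈ U) :
    (⊤ : Opens (I₀).left) ≤ p.left ⁻¹ᵁ U := fun w _ => by
  have : w = z := @Subsingleton.elim _ (inferInstanceAs (Subsingleton (PrimeSpectrum k))) w z
  rw [this]
  exact h

theorem ev_congr {Z : Over (Spec (CommRingCat.of k))} {p q : I₀ ⟶ Z} (hpq : p = q) (U : Z.left.Opens) (h : ⊤ ≤ p.left ⁻¹ᵁ U)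
    (h' : ⊤ ≤ q.left ⁻¹ᵁ U) (y : Γ(Z.left, U)) : ev p U h y = ev q U h' y := by
  subst hpq
  rfl

theorem ev_comp {Z Z' : Over (Spec (CommRingCat.of k))} (p : I₀ ⟶ Z) (f : Z ⟶ Z') (U : Z'.left.Opens) (W : Z.left.Opens)
    (e : W ≤ f.left ⁻¹ᵁ U) (h : ⊤ ≤ p.left ⁻¹ᵁ W) (h' : ⊤ ≤ (p ≫ f).left ⁻¹ᵁ U) (y : Γ(Z'.left, U)) :
    ev p W h (f.left.appLE U W e y) = ev (p ≫ f) U h' y :=
  congrArg (fun t : Γ(Z'.left, U) ⟶ Γ((I₀).left, ⊤) => t y) (Scheme.Hom.appLE_comp_appLE p.left f.left U W ⊤ e h)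

theorem ev_mul {Z : Over (Spec (CommRingCat.of k))} (p : I₀ ⟶ Z) (U : Z.left.Opens) (h : ⊤ ≤ p.left ⁻¹ᵁ U)
    (y y' : Γ(Z.left, U)) : ev p U h (y * y') = ev p U h y * ev p U h y' := map_mul _ _ _

theorem ev_res {Z : Over (Spec (CommRingCat.of k))} (p : I₀ ⟶ Z) {U W : Z.left.Opens} (hWU : W ≤ U) (h : ⊤ ≤ p.left ⁻¹ᵁ W)
    (h' : ⊤ ≤ p.left ⁻¹ᵁ U) (y : Γ(Z.left, U)) :
    ev p W h (Z.left.presheaf.map (homOfLE hWU).op y) = ev p U h' y :=
  congrArg (fun t : Γ(Z.left, U) ⟶ Γ((I₀).left, ⊤) => t y) (Scheme.Hom.map_appLE p.left h (homOfLE hWU).op)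

variable {G X V : Over (Spec (CommRingCat.of k))} [GrpObj G] (a : AlgGrp.Action G X) (π : V ⟶ X)

theorem act_mul {U : Over (Spec (CommRingCat.of k))} (g h : U ⟶ G) (x : U ⟶ X) :
    lift (g * h) x ≫ a.act = lift g (lift h x ≫ a.act) ≫ a.act := by
  rw [Hom.mul_def, show lift (lift g h ≫ μ[G]) x = lift (lift g h) x ≫ (μ[G] ▷ X) by
    apply CartesianMonoidalCategory.hom_ext <;> simp, Category.assoc, a.mul_act, ← Category.assoc,
    show lift (lift g h) x ≫ (α_ G G X).hom = lift g (lift h x) by simp, ← Category.assoc, lift_whiskerLeft]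

theorem act_one {U : Over (Spec (CommRingCat.of k))} (x : U ⟶ X) : lift (1 : U ⟶ G) x ≫ a.act = x := by
  rw [Hom.one_def, show lift (toUnit U ≫ η[G]) x = lift (toUnit U) x ≫ (η[G] ▷ X) by
    apply CartesianMonoidalCategory.hom_ext <;> simp, Category.assoc, a.one_act]
  simp [leftUnitor_hom]

/-- A linear lift acts on the fibre over a rational point by a scalar. -/
theorem exists_scalar (A : LinAtlas π) (Φ : AlgGrp.Action G V) (hπ : Φ.act ≫ π = (G ◁ π) ≫ a.act)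
    (hl : IsLinearLift a π Φ A.chart hπ) (g : I₀ ⟶ G) (x : I₀ ⟶ X)
    {U U' : X.left.Opens} (hU : ⊤ ≤ x.left ⁻¹ᵁ U) (hU' : ⊤ ≤ (lift g x ≫ a.act).left ⁻¹ᵁ U')
    {y : Γ(V.left, π.left ⁻¹ᵁ U)} {y' : Γ(V.left, π.left ⁻¹ᵁ U')} (hy : y ∈ A.chart U) (hy' : y' ∈ A.chart U') :
    ∃ s : Γ((I₀).left, ⊤), ∀ (v : I₀ ⟶ V) (_ : v ≫ π = x) (h : ⊤ ≤ v.left ⁻¹ᵁ (π.left ⁻¹ᵁ U))
      (h' : ⊤ ≤ (lift g v ≫ Φ.act).left ⁻¹ᵁ (π.left ⁻¹ᵁ U')),
      ev (lift g v ≫ Φ.act) _ h' y' = s * ev v _ h y := by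
  obtain ⟨c, hc⟩ := hl U U' y y' hy hy'
  refine ⟨ev (lift g x) (a.act.left ⁻¹ᵁ U' ⊓ (snd G X).left ⁻¹ᵁ U) ?_ c, fun v hv h h' => ?_⟩
  · intro z _
    refine ⟨hU' (x := z) trivial, ?_⟩
    have h1 := hU (x := z) trivial
    rw [← lift_snd g x] at h1
    exact h1
  have hw : lift g v ≫ (G ◁ π) = lift g x := by rw [lift_whiskerLeft, hv]
  have hw' : lift g v ≫ snd G V = v := lift_snd _ _
  have hopen : ⊤ ≤ (lift g v).left ⁻¹ᵁ liftOpen a π U U' := by
    intro z _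
    have h1 : (lift g v ≫ (G ◁ π) ≫ a.act).left z ∈ U' := by
      rw [← Category.assoc, hw]
      exact hU' (x := z) trivial
    have h2 : (lift g v ≫ (G ◁ π) ≫ snd G X).left z ∈ U := by
      rw [← Category.assoc, hw, lift_snd]
      exact hU (x := z) trivial
    exact ⟨h1, h2⟩
  have := congrArg (ev (lift g v) _ hopen) hc
  rw [ev_mul, ev_comp (lift g v) Φ.act _ _ _ hopen h', ev_comp (lift g v) (G ◁ π) _ _ _ hopen,
    ev_comp (lift g v) (snd G V) _ _ _ hopen] at this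
  · rwa [ev_congr hw _ _ _, ev_congr hw' _ _ h] at this
  · rw [hw']
    exact h
  · rw [hw]
    intro z _
    refine ⟨hU' (x := z) trivial, ?_⟩
    have h1 := hU (x := z) trivial
    rw [← lift_snd g x] at h1
    exact h1

/-- A rational point over `x` is determined by its coordinate. -/
theorem eq_of_coord (A : LinAtlas π) {U W : X.left.Opens} {y : Γ(V.left, π.left ⁻¹ᵁ U)} (hy : y ∈ A.chart U)
    (hW : IsAffineOpen W) (hWU : W ≤ U) {v v' : I₀ ⟶ V} (hv : v ≫ π = v' ≫ π)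
    (h : ⊤ ≤ v.left ⁻¹ᵁ (π.left ⁻¹ᵁ W)) (h' : ⊤ ≤ v'.left ⁻¹ᵁ (π.left ⁻¹ᵁ W))
    (he : ev v _ h (res π hWU y) = ev v' _ h' (res π hWU y)) : v = v' := by
  haveI := A.affine
  have key : v.left.appLE (π.left ⁻¹ᵁ W) ⊤ h = v'.left.appLE (π.left ⁻¹ᵁ W) ⊤ h' := by
    ext f
    obtain ⟨p, rfl⟩ := (A.coord U y hy W hW hWU).2 f
    show ((v.left.appLE (π.left ⁻¹ᵁ W) ⊤ h).hom.comp (Polynomial.eval₂RingHom (π.left.app W).hom (res π hWU y))) p =
      ((v'.left.appLE (π.left ⁻¹ᵁ W) ⊤ h').hom.comp (Polynomial.eval₂RingHom (π.left.app W).hom (res π hWU y))) p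
    refine RingHom.congr_fun (Polynomial.ringHom_ext (fun c => ?_) ?_) p
    · simp only [RingHom.comp_apply, Polynomial.coe_eval₂RingHom, Polynomial.eval₂_C]
      rw [Scheme.Hom.app_eq_appLE]
      show ev v _ h _ = ev v' _ h' _
      rw [ev_comp v π W (π.left ⁻¹ᵁ W) le_rfl h h, ev_comp v' π W (π.left ⁻¹ᵁ W) le_rfl h' h']
      exact ev_congr hv _ _ _ _
    · simp only [RingHom.comp_apply, Polynomial.coe_eval₂RingHom, Polynomial.eval₂_X]
      exact he
  apply Over.OverMorphism.ext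
  have hV : IsAffineOpen (π.left ⁻¹ᵁ W) := hW.preimage π.left
  haveI : IsAffine (I₀).left := inferInstanceAs (IsAffine (Spec (CommRingCat.of k)))
  have h1 := hV.SpecMap_appLE_fromSpec v.left (isAffineOpen_top _) h
  have h2 := hV.SpecMap_appLE_fromSpec v'.left (isAffineOpen_top _) h'
  rw [key, h2] at h1
  rw [IsAffineOpen.fromSpec_top] at h1
  exact ((cancel_epi _).1 h1).symm

/-- A rational point with coordinate one. -/
theorem exists_coord_one (A : LinAtlas π) {U W : X.left.Opens} {y : Γ(V.left, π.left ⁻¹ᵁ U)} (hy : y ∈ A.chart U)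
    (hW : IsAffineOpen W) (hWU : W ≤ U) (x : I₀ ⟶ X) (hx : ⊤ ≤ x.left ⁻¹ᵁ W) :
    ∃ (v : I₀ ⟶ V) (_ : v ≫ π = x) (h : ⊤ ≤ v.left ⁻¹ᵁ (π.left ⁻¹ᵁ W)), ev v _ h (res π hWU y) = 1 := by
  haveI := A.affine
  haveI : IsAffine (I₀).left := inferInstanceAs (IsAffine (Spec (CommRingCat.of k)))
  let e := RingEquiv.ofBijective _ (A.coord U y hy W hW hWU)
  let ψ : Γ(V.left, π.left ⁻¹ᵁ W) →+* Γ((I₀).left, ⊤) :=
    (Polynomial.eval₂RingHom (x.left.appLE W ⊤ hx).hom 1).comp e.symm.toRingHom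
  have hψy : ψ (res π hWU y) = 1 := by
    have : e Polynomial.X = res π hWU y := Polynomial.eval₂_X _ _
    rw [← this]
    simp [ψ]
  have hψc : CommRingCat.ofHom ψ |> fun t => π.left.app W ≫ t = x.left.appLE W ⊤ hx := by
    ext c
    have : e (Polynomial.C c) = π.left.app W c := Polynomial.eval₂_C _ _
    show ψ (π.left.app W c) = _
    rw [← this]
    simp [ψ]
  have hV : IsAffineOpen (π.left ⁻¹ᵁ W) := hW.preimage π.left
  let q : (I₀).left ⟶ V.left := (I₀).left.isoSpec.hom ≫ Spec.map (CommRingCat.ofHom ψ) ≫ hV.fromSpec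
  have hqπ : q ≫ π.left = x.left := by
    have h1 := hW.SpecMap_appLE_fromSpec x.left (isAffineOpen_top _) hx
    have h2 := hW.SpecMap_appLE_fromSpec π.left hV le_rfl
    rw [← Scheme.Hom.app_eq_appLE] at h2
    simp only [q, Category.assoc]
    rw [← h2, ← Spec.map_comp_assoc, hψc, h1, IsAffineOpen.fromSpec_top, Iso.hom_inv_id_assoc]
  let v : I₀ ⟶ V := Over.homMk q (by rw [← Over.w π, reassoc_of% hqπ, Over.w x])
  have h : ⊤ ≤ v.left ⁻¹ᵁ (π.left ⁻¹ᵁ W) := by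
    intro z _
    show (q ≫ π.left) z ∈ W
    rw [hqπ]
    exact hx (x := z) trivial
  refine ⟨v, Over.OverMorphism.ext hqπ, h, ?_⟩
  have h1 := hV.SpecMap_appLE_fromSpec v.left (isAffineOpen_top _) h
  have h3 : Spec.map (v.left.appLE _ ⊤ h) = Spec.map (CommRingCat.ofHom ψ) := by
    haveI : IsOpenImmersion hV.fromSpec := inferInstance
    rw [← cancel_mono hV.fromSpec, h1, IsAffineOpen.fromSpec_top]
    show (I₀).left.isoSpec.inv ≫ q = _
    simp [q]
  show (v.left.appLE _ ⊤ h) (res π hWU y) = 1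
  rw [Spec.map_injective h3]
  exact hψy

/-- The comparison of two lifts. -/
def cmp (Φ₁ Φ₂ : AlgGrp.Action G V) {T : Over (Spec (CommRingCat.of k))} (g : T ⟶ G) (v : T ⟶ V) : T ⟶ V :=
  lift g⁻¹ (lift g v ≫ Φ₂.act) ≫ Φ₁.act

theorem comp_cmp (Φ₁ Φ₂ : AlgGrp.Action G V) {T T' : Over (Spec (CommRingCat.of k))} (t : T' ⟶ T) (g : T ⟶ G) (v : T ⟶ V) :
    t ≫ cmp Φ₁ Φ₂ g v = cmp Φ₁ Φ₂ (t ≫ g) (t ≫ v) := by
  simp only [cmp, comp_lift_assoc, comp_lift, GrpObj.comp_inv, ← Category.assoc]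

theorem cmp_base (Φ₁ Φ₂ : AlgGrp.Action G V) (h₁ : Φ₁.act ≫ π = (G ◁ π) ≫ a.act)
    (h₂ : Φ₂.act ≫ π = (G ◁ π) ≫ a.act) {T : Over (Spec (CommRingCat.of k))} (g : T ⟶ G) (v : T ⟶ V) :
    cmp Φ₁ Φ₂ g v ≫ π = v ≫ π := by
  rw [cmp, Category.assoc, h₁, lift_whiskerLeft_assoc, Category.assoc, h₂, lift_whiskerLeft_assoc,
    ← act_mul, inv_mul_cancel, act_one]

theorem cmp_cmp (Φ₁ Φ₂ : AlgGrp.Action G V) {T : Over (Spec (CommRingCat.of k))} (g : T ⟶ G) (v : T ⟶ V) :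
    cmp Φ₂ Φ₁ g (cmp Φ₁ Φ₂ g v) = v := by
  rw [cmp, cmp, ← act_mul, mul_inv_cancel, act_one, ← act_mul, inv_mul_cancel,
    act_one]

/-- The comparison of two linear lifts scales each fibre. -/
theorem cmp_scalar (A : LinAtlas π) (Φ₁ Φ₂ : AlgGrp.Action G V) (h₁ : Φ₁.act ≫ π = (G ◁ π) ≫ a.act)
    (h₂ : Φ₂.act ≫ π = (G ◁ π) ≫ a.act) (hl₁ : IsLinearLift a π Φ₁ A.chart h₁)
    (hl₂ : IsLinearLift a π Φ₂ A.chart h₂) (g : I₀ ⟶ G) (x : I₀ ⟶ X)
    {U : X.left.Opens} (hU : ⊤ ≤ x.left ⁻¹ᵁ U) {y : Γ(V.left, π.left ⁻¹ᵁ U)} (hy : y ∈ A.chart U) :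
    ∃ s : Γ((I₀).left, ⊤), ∀ (v : I₀ ⟶ V) (_ : v ≫ π = x) (h : ⊤ ≤ v.left ⁻¹ᵁ (π.left ⁻¹ᵁ U))
      (h' : ⊤ ≤ (cmp Φ₁ Φ₂ g v).left ⁻¹ᵁ (π.left ⁻¹ᵁ U)),
      ev (cmp Φ₁ Φ₂ g v) _ h' y = s * ev v _ h y := by
  let z₀ : (I₀).left := (default : PrimeSpectrum k)
  obtain ⟨U', hxU', y', hy'⟩ := A.cover ((lift g x ≫ a.act).left z₀)
  have hU' := le_of_mem _ _ hxU'
  obtain ⟨s₂, hs₂⟩ := exists_scalar a π A Φ₂ h₂ hl₂ g x hU hU' hy hy'
  have hx : lift g⁻¹ (lift g x ≫ a.act) ≫ a.act = x := by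
    rw [← act_mul, inv_mul_cancel, act_one]
  obtain ⟨s₁, hs₁⟩ := exists_scalar a π A Φ₁ h₁ hl₁ g⁻¹ (lift g x ≫ a.act) hU' (U' := U) (by rw [hx]; exact hU)
    hy' hy
  refine ⟨s₁ * s₂, fun v hv h h' => ?_⟩
  have hw : (lift g v ≫ Φ₂.act) ≫ π = lift g x ≫ a.act := by
    rw [Category.assoc, h₂, lift_whiskerLeft_assoc, hv]
  have hmid : ⊤ ≤ (lift g v ≫ Φ₂.act).left ⁻¹ᵁ (π.left ⁻¹ᵁ U') := by
    intro z _
    show ((lift g v ≫ Φ₂.act) ≫ π).left z ∈ U'
    rw [hw]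
    exact hU' (x := z) trivial
  exact (hs₁ _ hw hmid h').trans (by rw [hs₂ v hv h hmid, _root_.mul_assoc])

/-- A unit function as a map to the multiplicative group. -/
theorem exists_to_Gm (Z : Over (Spec (CommRingCat.of k))) (φ : (Γ(Z.left, ⊤))ˣ) :
    ∃ (χ : Z ⟶ Red.Gm (Spec (CommRingCat.of k))) (t : Γ((Red.Gm (Spec (CommRingCat.of k))).left, ⊤)), χ.left.appTop t = φ := by
  let R := MonoidAlgebra (ULift.{u} ℤ) (Multiplicative ℤ)
  let ψ : R →+* Γ(Z.left, ⊤) :=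
    MonoidAlgebra.liftNCRingHom ((Int.castRingHom _).comp (ULift.ringEquiv (R := ℤ)).toRingHom)
      ((Units.coeHom _).comp (zpowersHom _ φ)) fun _ _ => Commute.all _ _
  let m : Z.left ⟶ Spec (CommRingCat.of R) := Z.left.toSpecΓ ≫ Spec.map (CommRingCat.ofHom ψ)
  let p : (Red.Gm (Spec (CommRingCat.of k))).left ⟶ Spec (CommRingCat.of R) := pullback.fst _ _
  refine ⟨Over.homMk (pullback.lift m Z.hom (specULiftZIsTerminal.hom_ext _ _)) (pullback.lift_snd _ _ _),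
    p.appTop ((Scheme.ΓSpecIso (CommRingCat.of R)).inv (MonoidAlgebra.single (Multiplicative.ofAdd (1 : ℤ)) 1)), ?_⟩
  show (p.appTop ≫ (pullback.lift m Z.hom _).appTop) _ = _
  rw [← Scheme.Hom.comp_appTop, pullback.lift_fst]
  simp only [m, Scheme.Hom.comp_appTop, Scheme.toSpecΓ_appTop]
  rw [Scheme.ΓSpecIso_naturality, CommRingCat.comp_apply]
  erw [Iso.inv_hom_id_apply]
  show ψ _ = _
  simp [ψ, MonoidAlgebra.liftNCRingHom]

/-- A unit function on a connected group without characters is constant. -/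
theorem unit_const [LocallyOfFiniteType G.hom] [QuasiCompact G.hom] [GeometricallyReduced G.hom]
    [GeometricallyConnected G.hom] (hχ : ∀ (χ : G ⟶ Red.Gm (Spec (CommRingCat.of k))) [IsMonHom χ], χ = 1) (φ : (Γ(G.left, ⊤))ˣ)
    (g : I₀ ⟶ G) : ev g ⊤ le_top φ.1 = ev η[G] ⊤ le_top φ.1 := by
  obtain ⟨χ, t, ht⟩ := exists_to_Gm G φ
  have h2 : χ = toUnit G ≫ η[G] ≫ χ :=
    LinUnique.eq_const hχ χ
  have h3 : g ≫ χ = η[G] ≫ χ := by
    conv_lhs => rw [h2]
    rw [← Category.assoc, toUnit_unique (g ≫ toUnit G) (𝟙 _), Category.id_comp]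
  rw [← ht]
  rw [show χ.left.appTop = χ.left.appLE ⊤ ⊤ le_top from Scheme.Hom.app_eq_appLE _]
  rw [ev_comp g χ ⊤ ⊤ le_top le_top le_top, ev_comp η[G] χ ⊤ ⊤ le_top le_top le_top]
  exact ev_congr h3 _ _ _ _

/-- A function with unit values at all rational points is a unit. -/
theorem isUnit_of_values [IsAlgClosed k] {Z : Over (Spec (CommRingCat.of k))} [LocallyOfFiniteType Z.hom] (φ : Γ(Z.left, ⊤))
    (h : ∀ g : I₀ ⟶ Z, IsUnit (ev g ⊤ le_top φ)) : IsUnit φ := by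
  haveI : JacobsonSpace Z.left := LocallyOfFiniteType.jacobsonSpace Z.hom
  have htop : Z.left.basicOpen φ = ⊤ := by
    by_contra hne
    have hne' : ((Z.left.basicOpen φ : Set Z.left)ᶜ).Nonempty := by
      rw [Set.nonempty_compl]
      exact fun h => hne (Opens.ext h)
    obtain ⟨z, hz, hzc⟩ := nonempty_inter_closedPoints hne' (Z.left.basicOpen φ).isOpen.isClosed_compl.isLocallyClosed
    let g : I₀ ⟶ Z := Over.homMk (pointOfClosedPoint Z.hom z hzc) (pointOfClosedPoint_comp _ _ _)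
    have h1 : g.left ⁻¹ᵁ Z.left.basicOpen φ = ⊤ := by
      rw [Scheme.preimage_basicOpen]
      refine Scheme.basicOpen_of_isUnit _ ?_
      rw [Scheme.Hom.app_eq_appLE]
      exact h g
    apply hz
    have h2 : (default : PrimeSpectrum k) ∈ g.left ⁻¹ᵁ Z.left.basicOpen φ := by rw [h1]; trivial
    have h3 : g.left (default : PrimeSpectrum k) = z := pointOfClosedPoint_apply Z.hom z hzc _
    exact h3 ▸ h2
  have h1 := Z.left.toRingedSpace.isUnit_res_basicOpen φ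
  have : ∀ (W : Z.left.Opens) (e : W = ⊤) (i : W ⟶ ⊤), IsUnit (Z.left.presheaf.map i.op φ) → IsUnit φ := by
    rintro W rfl i hi
    rwa [show i = 𝟙 _ from Subsingleton.elim _ _, op_id, CategoryTheory.Functor.map_id] at hi
  exact this _ htop _ h1

/-- The total space is reduced and locally of finite type. -/
theorem total_props (A : LinAtlas π) [LocallyOfFiniteType X.hom] [IsReduced X.left] :
    IsReduced V.left ∧ LocallyOfFiniteType π.left := by
  haveI := A.affine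
  have hpoly : ∀ U : X.left.Opens, _root_.IsReduced (Polynomial Γ(X.left, U)) := fun U => ⟨fun p hp => by
    ext i
    rw [Polynomial.coeff_zero]
    exact (Polynomial.isNilpotent_iff.1 hp i).eq_zero⟩
  have key : ∀ x : X.left, ∃ W : X.left.Opens, IsAffineOpen W ∧ x ∈ W ∧
      _root_.IsReduced Γ(V.left, π.left ⁻¹ᵁ W) ∧ (π.left.app W).hom.FiniteType := by
    intro x
    obtain ⟨U, hxU, y, hy⟩ := A.cover x
    obtain ⟨W, hW, hxW, hWU⟩ := exists_isAffineOpen_mem_and_subset hxU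
    haveI := hpoly W
    refine ⟨W, hW, hxW, ?_, ?_⟩
    · exact isReduced_of_injective (RingEquiv.ofBijective _ (A.coord U y hy W hW hWU)).symm
        (RingEquiv.ofBijective _ (A.coord U y hy W hW hWU)).symm.injective
    · letI := (π.left.app W).hom.toAlgebra
      exact Algebra.FiniteType.of_surjective (Polynomial.aeval (R := Γ(X.left, W)) (res π hWU y))
        (A.coord U y hy W hW hWU).2
  choose W hW hxW hred hft using key
  refine ⟨?_, ?_⟩
  · have hsup : ⨆ x, π.left ⁻¹ᵁ W x = ⊤ := top_le_iff.1 fun v _ => Opens.mem_iSup.2 ⟨π.left v, hxW _⟩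
    refine @IsReduced.of_openCover _ (Scheme.openCoverOfIsOpenCover _ _ hsup) fun x => ?_
    haveI : IsAffine ((π.left ⁻¹ᵁ W x).toScheme) := (hW x).preimage π.left
    haveI : _root_.IsReduced Γ((π.left ⁻¹ᵁ W x).toScheme, ⊤) :=
      isReduced_of_injective (π.left ⁻¹ᵁ W x).topIso.hom.hom
        ((ConcreteCategory.bijective_of_isIso (π.left ⁻¹ᵁ W x).topIso.hom).1)
    exact @isReduced_of_isAffine_isReduced ((π.left ⁻¹ᵁ W x).toScheme) _ _
  · rw [HasRingHomProperty.iff_exists_appLE (P := @LocallyOfFiniteType)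
      (RingHom.finiteType_stableUnderComposition.stableUnderCompositionWithLocalizationAway
        RingHom.finiteType_holdsForLocalizationAway).left]
    intro v
    refine ⟨⟨W (π.left v), hW _⟩, ⟨π.left ⁻¹ᵁ W (π.left v), (hW _).preimage π.left⟩, hxW (π.left v),
      le_rfl, ?_⟩
    rw [← Scheme.Hom.app_eq_appLE]
    exact hft _

end

/-- Over an algebraically closed field k, let G be a connected algebraic group (a smooth connected group
scheme of finite type) admitting no non-trivial homomorphism to the multiplicative group, acting on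
a reduced scheme X of finite type over k (not necessarily separated), and let π : V → X be a line
bundle over X in total-space form (an affine morphism with a linear atlas of fibre coordinates).
Then any two liftings of the action to fibrewise-linear bundle actions of G on V coincide: an
invertible sheaf on X admits at most one G-linearisation. (The published statement is over an
arbitrary field, with X geometrically reduced and the character condition imposed after extension to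
an algebraically closed field; this row is the case of an algebraically closed ground field, to
which the published proof reduces. L is taken in total-space form: a linearisation is a lifted
bundle action.) -/
theorem result (k : Type u) [Field k] [IsAlgClosed k]
    (G X V : Over (Spec (CommRingCat.of k))) [GrpObj G]
    [Smooth G.hom] [LocallyOfFiniteType G.hom] [QuasiCompact G.hom] [ConnectedSpace G.left]
    (hχ : ∀ (χ : G ⟶ Red.Gm (Spec (CommRingCat.of k))) [IsMonHom χ], χ = 1)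
    [LocallyOfFiniteType X.hom] [QuasiCompact X.hom] [IsReduced X.left]
    (a : AlgGrp.Action G X) (π : V ⟶ X) (A : GLinSh.LinAtlas π)
    (Φ₁ Φ₂ : AlgGrp.Action G V) (h₁ : Φ₁.act ≫ π = (G ◁ π) ≫ a.act) (h₂ : Φ₂.act ≫ π = (G ◁ π) ≫ a.act)
    (hl₁ : GLinSh.IsLinearLift a π Φ₁ A.chart h₁) (hl₂ : GLinSh.IsLinearLift a π Φ₂ A.chart h₂) :
    Φ₁.act = Φ₂.act := by
  haveI : GeometricallyReduced G.hom := AVLib.geometricallyReduced_of_smooth G.hom
  haveI : GeometricallyConnected G.hom :=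
    MonoFibre.geometricallyConnected_of_section G.hom η[G].left (Over.w η[G])
  obtain ⟨hVr, hπft⟩ := total_props π A
  haveI := hVr
  haveI := hπft
  haveI := A.affine
  haveI : LocallyOfFiniteType V.hom := by rw [← Over.w π]; infer_instance
  haveI : IsLocallyNoetherian V.left := LocallyOfFiniteType.isLocallyNoetherian V.hom
  haveI : IsReduced (G ⊗ V).left := inferInstanceAs (IsReduced (pullback G.hom V.hom))
  haveI : LocallyOfFiniteType (G ⊗ V).hom := by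
    show LocallyOfFiniteType (pullback.fst G.hom V.hom ≫ G.hom)
    infer_instance
  have hpts : ∀ (g : 𝟙_ _ ⟶ G) (v : 𝟙_ _ ⟶ V), cmp Φ₁ Φ₂ g v = v := by
    intro g v
    let z₀ : (𝟙_ (Over (Spec (CommRingCat.of k)))).left := (default : PrimeSpectrum k)
    obtain ⟨U, hxU, y, hy⟩ := A.cover ((v ≫ π).left z₀)
    obtain ⟨W, hW, hxW, hWU⟩ := exists_isAffineOpen_mem_and_subset hxU
    have hxW' := le_of_mem (v ≫ π) W hxW
    have hxU' := le_of_mem (v ≫ π) U hxU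
    obtain ⟨v₁, hv₁, hv₁W, hone⟩ := exists_coord_one π A hy hW hWU (v ≫ π) hxW'
    have hin : ∀ {w : 𝟙_ _ ⟶ V} {O : X.left.Opens} (_ : w ≫ π = v ≫ π)
        (_ : ⊤ ≤ (v ≫ π).left ⁻¹ᵁ O), ⊤ ≤ w.left ⁻¹ᵁ (π.left ⁻¹ᵁ O) := by
      intro w O hw hO z _
      show (w ≫ π).left z ∈ O
      rw [hw]
      exact hO (x := z) trivial
    have hone' : ev v₁ _ (hin hv₁ hxU') y = 1 := by
      rw [← hone]
      exact (ev_res v₁ (π.left.preimage_mono hWU) hv₁W _ y).symm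
    let δ : G ⟶ V := cmp Φ₁ Φ₂ (𝟙 G) (toUnit G ≫ v₁)
    have hδ : ∀ g' : 𝟙_ _ ⟶ G, g' ≫ δ = cmp Φ₁ Φ₂ g' v₁ := fun g' => by
      rw [comp_cmp, Category.comp_id, ← Category.assoc, toUnit_unique (g' ≫ toUnit G) (𝟙 _), Category.id_comp]
    have hδU : ⊤ ≤ δ.left ⁻¹ᵁ (π.left ⁻¹ᵁ U) := by
      intro z _
      have : δ ≫ π = toUnit G ≫ v ≫ π := by rw [cmp_base a π Φ₁ Φ₂ h₁ h₂, Category.assoc, hv₁]
      show (δ ≫ π).left z ∈ U
      rw [this]
      exact hxU' (x := (toUnit G).left z) trivial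
    let φ := δ.left.appLE (π.left ⁻¹ᵁ U) ⊤ hδU y
    have hφ : ∀ g' : 𝟙_ _ ⟶ G, ev g' ⊤ le_top φ =
        ev (cmp Φ₁ Φ₂ g' v₁) _ (hin (by rw [cmp_base a π Φ₁ Φ₂ h₁ h₂, hv₁]) hxU') y := fun g' => by
      rw [ev_comp g' δ _ _ _ _ (hin (by rw [hδ, cmp_base a π Φ₁ Φ₂ h₁ h₂, hv₁]) hxU')]
      exact ev_congr (hδ g') _ _ _ _
    have hunit : IsUnit φ := isUnit_of_values φ fun g' => by
      obtain ⟨s, hs⟩ := cmp_scalar a π A Φ₁ Φ₂ h₁ h₂ hl₁ hl₂ g' (v ≫ π) hxU' hy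
      obtain ⟨s', hs'⟩ := cmp_scalar a π A Φ₂ Φ₁ h₂ h₁ hl₂ hl₁ g' (v ≫ π) hxU' hy
      have hb : cmp Φ₁ Φ₂ g' v₁ ≫ π = v ≫ π := by rw [cmp_base a π Φ₁ Φ₂ h₁ h₂, hv₁]
      have hbb : cmp Φ₂ Φ₁ g' (cmp Φ₁ Φ₂ g' v₁) ≫ π = v ≫ π := by rw [cmp_cmp, hv₁]
      have h3 := hs' _ hb (hin hb hxU') (hin hbb hxU')
      rw [ev_congr (cmp_cmp Φ₁ Φ₂ g' v₁) _ _ (hin hv₁ hxU'), hone', hs v₁ hv₁ (hin hv₁ hxU'), hone',
        _root_.mul_one] at h3
      rw [hφ, hs v₁ hv₁ (hin hv₁ hxU'), hone', _root_.mul_one]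
      exact IsUnit.of_mul_eq_one s' ((_root_.mul_comm s s').trans h3.symm)
    have hφ1 : ev g ⊤ le_top φ = 1 := by
      rw [show φ = hunit.unit.1 from rfl, unit_const hχ hunit.unit g, ← hone']
      show ev η[G] ⊤ le_top φ = _
      rw [hφ]
      refine ev_congr ?_ _ _ _ _
      rw [cmp, show η[G] = (1 : 𝟙_ _ ⟶ G) by rw [Hom.one_def, toUnit_unique (toUnit _) (𝟙 _), Category.id_comp], inv_one, act_one, act_one]
    obtain ⟨s, hs⟩ := cmp_scalar a π A Φ₁ Φ₂ h₁ h₂ hl₁ hl₂ g (v ≫ π) hxU' hy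
    have hs1 : s = 1 := by
      rw [← hφ1, hφ, hs v₁ hv₁ (hin hv₁ hxU'), hone', _root_.mul_one]
    have hb : cmp Φ₁ Φ₂ g v ≫ π = v ≫ π := cmp_base a π Φ₁ Φ₂ h₁ h₂ g v
    refine eq_of_coord π A hy hW hWU hb (hin hb hxW') (hin rfl hxW') ?_
    rw [ev_res _ _ _ (hin hb hxU'), ev_res _ _ _ (hin rfl hxU'), hs v rfl (hin rfl hxU'), hs1, _root_.one_mul]
  have hmain : cmp Φ₁ Φ₂ (fst G V) (snd G V) = snd G V := by
    apply Over.OverMorphism.ext
    haveI : JacobsonSpace (G ⊗ V).left := LocallyOfFiniteType.jacobsonSpace (G ⊗ V).hom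
    refine ext_of_fromSpecResidueField_eq _ _ π.left (closedPoints (G ⊗ V).left)
      (dense_iff_closure_eq.2 closure_closedPoints) (fun z hz => ?_)
      (congrArg CommaMorphism.left (cmp_base a π Φ₁ Φ₂ h₁ h₂ (fst G V) (snd G V)))
    let p : 𝟙_ _ ⟶ G ⊗ V := Over.homMk (pointOfClosedPoint (G ⊗ V).hom z hz) (pointOfClosedPoint_comp _ _ _)
    have h := congrArg CommaMorphism.left
      (show p ≫ cmp Φ₁ Φ₂ (fst G V) (snd G V) = p ≫ snd G V by rw [comp_cmp, hpts])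
    simp only [p, Over.comp_left, Over.homMk_left, pointOfClosedPoint, Category.assoc] at h
    exact (cancel_epi _).1 h
  have h := congrArg (fun t => lift (fst G V) t ≫ Φ₁.act) hmain
  dsimp only [cmp] at h
  rw [← act_mul, mul_inv_cancel, act_one, lift_fst_snd, Category.id_comp,
    Category.id_comp] at h
  exact h.symm

end Groth.Agent.S14712
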