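import Groth.Statements.S14714
import Groth.Agent.GitSSLib.Transport
import Groth.Agent.RedQuotLib.Setup

set_option autoImplicit false
set_option backward.isDefEq.respectTransparency false
set_option backward.isDefEq.respectTransparency.types false
universe u
open CategoryTheory MonoidalCategory CartesianMonoidalCategory MonObj GrpObj AlgebraicGeometry Topology
open GIT

namespace Groth.Agent.S14714

/-- Let k be a field of characteristic zero, G a connected reductive algebraic group over k (affine,
smooth, with connected reductive geometric fibre) acting by σ on a finite-type k-scheme X (not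
necessarily separated), and L a G-linearised line bundle on X, taken in total-space form (a line
bundle V → X with a linear atlas and a fibrewise-linear lifting of the action; sections of L^n are
the weight-n functions on V, invariant sections those fixed by the lifted action, X_s the locus over
which s does not vanish identically on the fibre). Let U = X^ss(L) be the open set of semi-stable
points and U' = X^s(L) ⊆ U the open set of stable points (x admitting an invariant section s of some
L^n, n ≥ 1, with s(x) ≠ 0, X_s affine and the action of G on X_s closed; no condition on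
stabilisers), each with the restricted action, and let (Y, φ) be a categorical quotient of U by G.
Then there is an open subset Ỹ of Y with φ⁻¹(Ỹ) = U' such that (Ỹ, φ restricted to U') is a uniform
geometric quotient of U' by G. (Stated for any categorical quotient of U, which is unique up to
unique isomorphism. The published statement is for any reductive G in any characteristic; this row
is the characteristic-zero case with G connected. L is taken in total-space form.) -/
theorem result (k : Type u) [Field k] [CharZero k]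
    (G X : Over (Spec (CommRingCat.of k))) [GrpObj G] (hG : Red.IsReductive G)
    [LocallyOfFiniteType X.hom] [QuasiCompact X.hom]
    (a : AlgGrp.Action G X) (B : GLinSh.LinBun G a)
    (U : X.left.Opens) (hU : (U : Set X.left) = B.ssLocus)
    (aU : AlgGrp.Action G (Over.mk (U.ι ≫ X.hom)))
    (jU : Over.mk (U.ι ≫ X.hom) ⟶ X) (hjU : jU.left = U.ι)
    (haU : aU.act ≫ jU = (G ◁ jU) ≫ a.act)
    (Y : Over (Spec (CommRingCat.of k))) (φ : Over.mk (U.ι ≫ X.hom) ⟶ Y) (hφ : GIT.IsCatQuot aU φ)
    (Us : X.left.Opens) (hUs : (Us : Set X.left) = B.sLocus) (hle : Us ≤ U)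
    (aS : AlgGrp.Action G (Over.mk (Us.ι ≫ X.hom)))
    (jS : Over.mk (Us.ι ≫ X.hom) ⟶ X) (hjS : jS.left = Us.ι)
    (haS : aS.act ≫ jS = (G ◁ jS) ≫ a.act) :
    ∃ (Yt : Y.left.Opens) (φs : Over.mk (Us.ι ≫ X.hom) ⟶ Over.mk (Yt.ι ≫ Y.hom)),
      φs.left ≫ Yt.ι = X.left.homOfLE hle ≫ φ.left ∧
      φ.left ⁻¹ᵁ Yt = U.ι ⁻¹ᵁ Us ∧
      GIT.IsUnifGeomQuot aS φs := by
  haveI := hG.1
  obtain ⟨A, _, _, e, _, _, hA⟩ := Groth.Agent.RedQuot.exists_linRed G hG
  obtain rfl : jU = Groth.Agent.GitSS.jO U := Over.OverMorphism.ext hjU
  obtain rfl : jS = Groth.Agent.GitSS.jO Us := Over.OverMorphism.ext hjS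
  obtain ⟨C⟩ := Groth.Agent.GitSS.exists_coords hA e B U hU
  obtain ⟨Y₀, φ₀, h₀, -, hs₀, -, -, -, hloc⟩ := Groth.Agent.GitSS.exists_quotient hA e C aU haU
  obtain ⟨χ, hχ⟩ := Groth.Agent.GitSS.exists_iso_of_isCatQuot aU φ₀ φ h₀.1 hφ
  obtain ⟨hu, hs⟩ := Groth.Agent.GitSS.univ_of_iso aU φ₀ φ h₀ hs₀ hφ χ hχ
  refine Groth.Agent.GitSS.exists_open_geom hA e hU aU haU φ hu hs C.one_le (fun y => ?_) Us hUs hle aS haS
  obtain ⟨V, O, f, hy, hV, hf, hO, hOa, hpre⟩ := hloc (χ.inv.left y)
  haveI : IsIso χ.inv.left := inferInstanceAs (IsIso ((Over.forget _).map χ.inv))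
  refine ⟨χ.inv.left ⁻¹ᵁ V, O, f, hy, hV.preimage χ.inv.left, hf, hO, hOa, ?_⟩
  rw [← Scheme.Hom.comp_preimage, ← Over.comp_left, show φ ≫ χ.inv = φ₀ from (Iso.comp_inv_eq χ).2 hχ.symm, hpre]

end Groth.Agent.S14714
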