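import Groth.Statements.S14718
import Groth.Agent.LinBunLib.Pull
import Groth.Agent.AmpleEmb.SectionsGe
import Groth.Agent.S11441

set_option backward.isDefEq.respectTransparency false
set_option backward.isDefEq.respectTransparency.types false
set_option linter.style.haveILetI false

set_option autoImplicit false
universe u
open CategoryTheory MonoidalCategory CartesianMonoidalCategory MonObj GrpObj AlgebraicGeometry Topology
open GIT

namespace Groth.Agent.S14718

/-- Let k be a field, G a group scheme over k acting by σ on a k-scheme X, φ : X → Y an invariant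
k-morphism (φ ∘ σ = φ ∘ p₂) which is affine, and M an ample invertible sheaf on Y. Then there is a
G-linearised line bundle L on X, taken in total-space form, with X = X^ss(L): every point x has an
invariant section s of some L^n, n ≥ 1, with s(x) ≠ 0 and X_s affine. If moreover (Y, φ) is a
geometric quotient of X by G, then X = X^s(L) for the same L (the action of G on those X_s is
closed; no condition on stabilisers). (The published statement assumes G reductive, X of finite type
and (Y, φ) a categorical quotient with Y quasi-projective; this row keeps only what the construction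
uses: φ invariant and affine, M ample. L is taken in total-space form.) -/
theorem result (k : Type u) [Field k]
    (G X Y : Over (Spec (CommRingCat.of k))) [GrpObj G]
    (a : AlgGrp.Action G X) (φ : X ⟶ Y) (hφ : GIT.IsInvariant a φ) [IsAffineHom φ.left]
    (M : Y.left.Modules) (hM : CohB1.IsAmple M) :
    ∃ B : GLinSh.LinBun G a, B.ssLocus = Set.univ ∧ (GIT.IsGeomQuot a φ → B.sLocus = Set.univ) := by
  obtain ⟨T, _, D, hD, s, -, -, -, hUa, -, -, -, -, hcov⟩ := Groth.Agent.AmpleEmb.exists_trivial_cover (𝟙 Y.left) hM hM.1
  let P := CohB1.tensorPow M D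
  have hP : PicF.IsInvertible P := Groth.Agent.AmpleLib.isInvertible_tensorPow hM.1 D
  haveI := Groth.Agent.InvExt.isQCoh_of_isInvertible hP
  let B := Groth.Agent.LinBunLib.linBun φ P a hφ hP
  have key : ∀ x : X.left, ∃ (f : Γ(B.V.left, ⊤)) (W : X.left.Opens), B.IsInvSection 1 f ∧
      (W : Set X.left) = GLinSh.nonvanishing B.π f ∧ IsAffineOpen W ∧ x ∈ W := by
    intro x
    obtain ⟨i, hi⟩ := hcov (φ.left x)
    let t := Groth.Agent.AmpleLib.sec (s i)
    have hgl : CohB1.genLocus P (Groth.Agent.DCohLib.secHom P t) = CohB1.genLocus P (s i) := by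
      rw [Groth.Agent.AmpleLib.secHom_sec]
    exact ⟨_, φ.left ⁻¹ᵁ CohB1.genLocus P (s i), Groth.Agent.LinBunLib.isInvSection_secFn φ P a hφ hP t,
      by rw [← hgl]; exact (Groth.Agent.LinBunLib.nonvanishing_secFn φ P hP t).symm,
      (hUa i).preimage φ.left, hi⟩
  refine ⟨B, Set.eq_univ_of_forall fun x => ?_, fun hq => Set.eq_univ_of_forall fun x => ?_⟩
  · obtain ⟨f, W, hf, hW, hWa, hxW⟩ := key x
    refine ⟨1, f, le_rfl, hf, ?_, W, hW, hWa⟩
    rw [← hW]; exact hxW
  · obtain ⟨f, W, hf, hW, hWa, hxW⟩ := key x
    refine ⟨1, f, le_rfl, hf, ?_, W, hW, hWa, ?_⟩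
    · rw [← hW]; exact hxW
    · intro Ω _ _ T e g _
      exact (Groth.Agent.S11441.result _ G X Y a φ hq Ω T e g).preimage continuous_subtype_val

end Groth.Agent.S14718
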