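import Groth.Statements.S1472
import Groth.Agent.S1356
import Groth.Agent.SmoothSecLib.NormalFibres
-- import your own Groth.Agent.* helpers here

set_option autoImplicit false
set_option backward.isDefEq.respectTransparency false
set_option linter.style.haveILetI false
universe u
open FlatMor

namespace Groth.Agent.S1472

open AlgebraicGeometry CategoryTheory Limits in
/-- Let h : Y → S be of finite presentation and normal (affine-locally its ring maps are flat with
geometrically normal fibres), let s be a point of S and T an open of the fibre over s which is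
geometrically irreducible over the residue field of s. Then there are an affine elementary étale
neighbourhood (S', s') of (S, s) and a quasi-compact open V of the base change of Y to S' such that
all fibres of V → S' are geometrically integral and the points of V over s' are exactly the points
of the base change over s' whose image in Y lies in T. -/
theorem result {Y S : Scheme.{u}} (h : Y ⟶ S) [LocallyOfFinitePresentation h] [QuasiCompact h] [QuasiSeparated h]
    (hn : ∀ (U : Y.Opens) (V : S.Opens) (hU : IsAffineOpen U) (hV : IsAffineOpen V) (hUV : U ≤ h ⁻¹ᵁ V),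
      letI := (h.appLE V U hUV).hom.toAlgebra
      EGA4.IsNormalHom Γ(S, V) Γ(Y, U))
    (s : S) (T : (h.fiber s).Opens) (hT : GeometricallyIrreducible (T.ι ≫ h.fiberToSpecResidueField s)) :
    ∃ (S' : Scheme.{u}) (g : S' ⟶ S) (s' : S'), IsAffine S' ∧ Hens2.IsEtaleNbhd g s' s ∧
      ∃ V : (pullback h g).Opens, IsCompact (V : Set ↑(pullback h g)) ∧ GeometricallyIntegral (V.ι ≫ pullback.snd h g) ∧
        ∀ y' : ↑(pullback h g), pullback.snd h g y' = s' → (y' ∈ V ↔ pullback.fst h g y' ∈ (h.fiberι s) '' (T : Set ↑(h.fiber s))) := by
  haveI := Groth.Agent.SmoothSecLib.flat_of_isNormalMor h hn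
  haveI := Groth.Agent.SmoothSecLib.geometricallyReduced_of_isNormalMor h hn
  have hT' : GeometricallyConnected (T.ι ≫ h.fiberToSpecResidueField s) :=
    ⟨fun K _ y Z fst snd hsq => by
      haveI := hT
      haveI : IrreducibleSpace ↥Z :=
        GeometricallyIrreducible.geometrically_irreducibleSpace (f := T.ι ≫ h.fiberToSpecResidueField s) y fst snd hsq
      infer_instance⟩
  obtain ⟨S', g, s', hS', hnb, V, hVc, hVg, hV⟩ := Groth.Agent.S1356.result h s T hT'
  refine ⟨S', g, s', hS', hnb, V, hVc, ?_, hV⟩
  haveI := hVg
  rw [GeometricallyIntegral.eq_geometrically]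
  intro K _ y Z fst snd hsq
  haveI : LocallyOfFinitePresentation (V.ι ≫ pullback.snd h g) := inferInstance
  haveI : LocallyOfFiniteType snd := MorphismProperty.of_isPullback (P := @LocallyOfFiniteType) hsq inferInstance
  haveI : IsLocallyNoetherian Z := LocallyOfFiniteType.isLocallyNoetherian snd
  haveI : ConnectedSpace ↥Z := GeometricallyConnected.geometrically_connectedSpace (f := V.ι ≫ pullback.snd h g) y fst snd hsq
  refine (Groth.Agent.FinCondEasy.isIntegral_iff' (X := Z)).2 ⟨inferInstance, fun z => ?_⟩
  let n : Z ⟶ pullback (pullback.snd h g) y :=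
    pullback.lift (fst ≫ V.ι) snd (by rw [Category.assoc]; exact hsq.w)
  have hn1 : IsPullback fst n V.ι (pullback.fst (pullback.snd h g) y) := by
    refine IsPullback.of_bot ?_ (pullback.lift_fst _ _ _).symm (IsPullback.of_hasPullback _ y)
    rw [show n ≫ pullback.snd (pullback.snd h g) y = snd from pullback.lift_snd _ _ _]
    exact hsq
  haveI : IsOpenImmersion n := MorphismProperty.of_isPullback (P := @IsOpenImmersion) hn1 inferInstance
  let n' := n ≫ (pullbackLeftPullbackSndIso h g y).hom
  haveI := Groth.Agent.SmoothSecLib.isDomain_stalk_pullback h hn K (y ≫ g) (n' z)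
  exact MulEquiv.isDomain ((pullback h (y ≫ g)).presheaf.stalk (n' z))
    (asIso (n'.stalkMap z)).symm.commRingCatIsoToRingEquiv.toMulEquiv

end Groth.Agent.S1472
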