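import Groth.Statements.S14726
import Mathlib

set_option autoImplicit false
universe u
open ValPrufer

namespace Groth.Agent.S14726

open Polynomial Finset IsLocalRing

/-- every nonzero element is a unit times an element coming from `V` -/
def UnitTimes (V S : Type*) [CommRing V] [CommRing S] [Algebra V S] : Prop :=
  ∀ x : S, x ≠ 0 → ∃ (v : V) (w : Sˣ), x = algebraMap V S v * w

theorem valuationRing_of_unitTimes (V S : Type*) [CommRing V] [IsDomain V] [ValuationRing V]
    [CommRing S] [IsDomain S] [Algebra V S] (h : UnitTimes V S) : ValuationRing S := by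
  rw [ValuationRing.iff_dvd_total]
  constructor
  intro a b
  rcases eq_or_ne a 0 with rfl | ha
  · exact Or.inr (dvd_zero b)
  rcases eq_or_ne b 0 with rfl | hb
  · exact Or.inl (dvd_zero a)
  obtain ⟨v, w, rfl⟩ := h a ha
  obtain ⟨v', w', rfl⟩ := h b hb
  rcases ValuationRing.dvd_total v v' with h' | h'
  · exact Or.inl (by simpa using map_dvd (algebraMap V S) h')
  · exact Or.inr (by simpa using map_dvd (algebraMap V S) h')

section core

variable {W K F : Type*} [CommRing W] [IsDomain W] [ValuationRing W] [Field K] [Field F]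
  [Algebra W K] [IsFractionRing W K] [Algebra K F] [Algebra W F] [IsScalarTower W K F]
  (O : ValuationSubring F)

/-- an element of `K` of value at most one lies in `W`. -/
theorem mem_range_of_val_le_one
    (hlt : ∀ w ∈ maximalIdeal W, O.valuation (algebraMap W F w) < 1)
    (k : K) (hk : O.valuation (algebraMap K F k) ≤ 1) : ∃ w : W, algebraMap W K w = k := by
  rcases ValuationRing.isInteger_or_isInteger W k with ⟨w, hw⟩ | ⟨w, hw⟩
  · exact ⟨w, hw⟩
  by_cases hu : IsUnit w
  · obtain ⟨u, rfl⟩ := hu
    exact ⟨↑u⁻¹, by rw [map_units_inv, hw, inv_inv]⟩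
  by_cases hk0 : k = 0
  · exact ⟨0, by simp [hk0]⟩
  exfalso
  have h1 := hlt w ((mem_maximalIdeal w).mpr hu)
  rw [IsScalarTower.algebraMap_apply W K F, hw, map_inv₀, map_inv₀,
    inv_lt_one₀ (zero_lt_iff.mpr (by simp [hk0]))] at h1
  exact not_lt.mpr hk h1

/-- a monic-free algebraic relation with coefficients in `W`, one of them equal to one. -/
theorem exists_rel
    (hlt : ∀ w ∈ maximalIdeal W, O.valuation (algebraMap W F w) < 1)
    (z : F) (hz : IsIntegral K z) :
    ∃ (n : ℕ) (c : ℕ → W) (j : ℕ), j < n ∧ c j = 1 ∧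
      ∑ k ∈ range n, algebraMap W F (c k) * z ^ k = 0 := by
  classical
  let P := minpoly K z
  have hP : P ≠ 0 := minpoly.ne_zero hz
  obtain ⟨j, hj, hmax⟩ := Finset.exists_max_image (range (P.natDegree + 1))
    (fun i => O.valuation (algebraMap K F (P.coeff i))) ⟨0, by simp⟩
  have hcj : P.coeff j ≠ 0 := by
    intro h0
    have := hmax P.natDegree (by simp)
    simp only [h0, map_zero] at this
    rw [le_zero_iff, Valuation.zero_iff, map_eq_zero] at this
    exact hP (Polynomial.leadingCoeff_eq_zero.mp this)
  have hint : ∀ i, ∃ w : W, algebraMap W K w = P.coeff i / P.coeff j := by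
    intro i
    apply mem_range_of_val_le_one O hlt
    by_cases hi : i < P.natDegree + 1
    · rw [map_div₀, map_div₀]
      exact div_le_one_of_le₀ (hmax i (by simpa using hi)) zero_le'
    · rw [Polynomial.coeff_eq_zero_of_natDegree_lt (by omega)]
      simp
  choose c hc using hint
  refine ⟨P.natDegree + 1, c, j, by simpa using hj, ?_, ?_⟩
  · apply IsFractionRing.injective W K
    rw [hc, div_self hcj, map_one]
  · have h1 := Polynomial.aeval_eq_sum_range (p := P) z
    rw [minpoly.aeval] at h1
    simp only [Algebra.smul_def] at h1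
    calc _ = ∑ k ∈ range (P.natDegree + 1),
          (algebraMap K F (P.coeff j))⁻¹ * (algebraMap K F (P.coeff k) * z ^ k) := by
          refine Finset.sum_congr rfl fun k _ => ?_
          rw [IsScalarTower.algebraMap_apply W K F, hc, map_div₀]
          ring
      _ = 0 := by rw [← Finset.mul_sum, ← h1, mul_zero]

theorem isIntegral_of_forall_valuationSubring (x : F)
    (h : ∀ V : ValuationSubring F, (∀ w : W, algebraMap W F w ∈ V) → x ∈ V) : IsIntegral W x := by
  by_contra hx
  have hx' : x ∉ (integralClosure W F).toSubring := fun h' => hx h'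
  have : IsIntegrallyClosedIn (integralClosure W F).toSubring F :=
    inferInstanceAs (IsIntegrallyClosedIn (integralClosure W F) F)
  obtain ⟨V, hV, hxV⟩ := Subring.exists_le_valuationSubring_of_isIntegrallyClosedIn hx'
  exact hxV (h V fun w => hV ((integralClosure W F).algebraMap_mem w))

/-- every element of `O` is a quotient of integral elements with denominator a unit of `O`. -/
theorem exists_den
    (hle : ∀ w : W, O.valuation (algebraMap W F w) ≤ 1)
    (hlt : ∀ w ∈ maximalIdeal W, O.valuation (algebraMap W F w) < 1)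
    (z : F) (hz : IsIntegral K z) (hzO : O.valuation z ≤ 1) :
    ∃ a s : F, IsIntegral W a ∧ IsIntegral W s ∧ z * s = a ∧ O.valuation s = 1 := by
  classical
  obtain ⟨n, c, j, hj, hcj, hsum⟩ := exists_rel O hlt z hz
  let b : ℕ → F := fun i => ∑ k ∈ Ico i n, algebraMap W F (c k) * z ^ (k - i)
  have hint : ∀ i, IsIntegral W (b i) ∧ IsIntegral W (z * b i) := by
    intro i
    have key : ∀ V : ValuationSubring F, (∀ w : W, algebraMap W F w ∈ V) →
        b i ∈ V ∧ z * b i ∈ V := by
      intro V hV
      rcases V.mem_or_inv_mem z with hzV | hzV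
      · have : b i ∈ V := sum_mem fun k _ => mul_mem (hV _) (pow_mem hzV _)
        exact ⟨this, mul_mem hzV this⟩
      · by_cases hz0 : z = 0
        · subst hz0
          have : b i ∈ V := sum_mem fun k _ => mul_mem (hV _) (pow_mem V.zero_mem _)
          exact ⟨this, by simp⟩
        by_cases hin : i ≤ n
        swap
        · have : b i = 0 := by
            simp only [b]; rw [Ico_eq_empty (by omega)]; simp
          simp [this]
        have e1 : z ^ i * b i = -∑ k ∈ range i, algebraMap W F (c k) * z ^ k := by
          rw [eq_neg_iff_add_eq_zero, add_comm, ← hsum, ← Finset.sum_range_add_sum_Ico _ hin]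
          congr 1
          rw [Finset.mul_sum]
          refine Finset.sum_congr rfl fun k hk => ?_
          have hk' := (Finset.mem_Ico.mp hk).1
          rw [mul_left_comm, ← pow_add, Nat.add_sub_cancel' hk']
        have e2 : b i = -∑ k ∈ range i, algebraMap W F (c k) * z⁻¹ ^ (i - k) := by
          apply mul_left_cancel₀ (pow_ne_zero i hz0)
          rw [e1, mul_neg, Finset.mul_sum, neg_inj]
          refine Finset.sum_congr rfl fun k hk => ?_
          have hk' := Finset.mem_range.mp hk
          rw [inv_pow, pow_sub₀ _ hz0 hk'.le]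
          field_simp
        have e3 : z * b i = -∑ k ∈ range i, algebraMap W F (c k) * z⁻¹ ^ (i - k - 1) := by
          rw [e2, mul_neg, Finset.mul_sum, neg_inj]
          refine Finset.sum_congr rfl fun k hk => ?_
          have hk' := Finset.mem_range.mp hk
          have e : i - k = i - k - 1 + 1 := by omega
          conv_lhs => rw [e, pow_succ]
          field_simp
        exact ⟨e2 ▸ neg_mem (sum_mem fun k _ => mul_mem (hV _) (pow_mem hzV _)),
          e3 ▸ neg_mem (sum_mem fun k _ => mul_mem (hV _) (pow_mem hzV _))⟩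
    exact ⟨isIntegral_of_forall_valuationSubring _ fun V hV => (key V hV).1,
      isIntegral_of_forall_valuationSubring _ fun V hV => (key V hV).2⟩
  have hble : ∀ i, O.valuation (b i) ≤ 1 := by
    intro i
    refine Valuation.map_sum_le _ fun k _ => ?_
    rw [map_mul, map_pow]
    exact mul_le_one₀ (hle _) zero_le' (pow_le_one₀ zero_le' hzO)
  have hrec : b j = algebraMap W F (c j) + z * b (j + 1) := by
    simp only [b]
    rw [Finset.sum_eq_sum_Ico_succ_bot hj, Finset.mul_sum]
    simp only [Nat.sub_self, pow_zero, mul_one]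
    congr 1
    refine Finset.sum_congr rfl fun k hk => ?_
    have hk' := (Finset.mem_Ico.mp hk).1
    rw [mul_left_comm, ← pow_succ']
    congr 2
    omega
  by_cases h : ∃ i, O.valuation (b i) = 1
  · obtain ⟨i, hi⟩ := h
    exact ⟨z * b i, b i, (hint i).2, (hint i).1, rfl, hi⟩
  · exfalso
    simp only [not_exists] at h
    have h1 : O.valuation (b j) < 1 := lt_of_le_of_ne (hble j) (h j)
    have h2 : O.valuation (z * b (j + 1)) < 1 := by
      rw [map_mul]
      exact lt_of_le_of_lt (mul_le_of_le_one_left zero_le' hzO)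
        (lt_of_le_of_ne (hble _) (h _))
    have h3 : (1 : F) = b j - z * b (j + 1) := by rw [hrec, hcj, map_one]; ring
    have := Valuation.map_sub_lt O.valuation h1 h2
    rw [← h3, map_one] at this
    exact lt_irrefl _ this

theorem exists_pow_val (x : F) (hx0 : x ≠ 0) (hx : IsIntegral K x) :
    ∃ (n : ℕ) (d : K), 0 < n ∧ O.valuation (x ^ n) = O.valuation (algebraMap K F d) := by
  classical
  let P := minpoly K x
  have hP : P ≠ 0 := minpoly.ne_zero hx
  let f : ℕ → F := fun k => algebraMap K F (P.coeff k) * x ^ k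
  have hsum : ∑ k ∈ P.support, f k = 0 := by
    have h1 := minpoly.aeval K x
    rw [Polynomial.aeval_def, Polynomial.eval₂_eq_sum, Polynomial.sum_def] at h1
    exact h1
  have hf : ∀ k ∈ P.support, f k ≠ 0 := fun k hk =>
    mul_ne_zero (by simpa [Polynomial.mem_support_iff] using hk) (pow_ne_zero _ hx0)
  obtain ⟨j, hj, hmax⟩ := Finset.exists_max_image P.support (fun i => O.valuation (f i))
    (Polynomial.support_nonempty.mpr hP)
  have : ∃ i ∈ P.support, i ≠ j ∧ O.valuation (f i) = O.valuation (f j) := by
    by_contra hcon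
    have h2 := Valuation.map_sum_eq_of_lt O.valuation hj (f := f) fun i hi => by
      simp only [Finset.mem_sdiff, Finset.mem_singleton] at hi
      exact lt_of_le_of_ne (hmax i hi.1) fun he => hcon ⟨i, hi.1, hi.2, he⟩
    rw [hsum, map_zero, eq_comm, Valuation.zero_iff] at h2
    exact hf j hj h2
  obtain ⟨i, hi, hij, he⟩ := this
  have key : ∀ a b : ℕ, a ∈ P.support → a < b → O.valuation (f a) = O.valuation (f b) →
      ∃ (n : ℕ) (d : K), 0 < n ∧ O.valuation (x ^ n) = O.valuation (algebraMap K F d) := by
    intro a b ha hab heq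
    refine ⟨b - a, P.coeff a / P.coeff b, by omega, ?_⟩
    have hb : O.valuation (algebraMap K F (P.coeff b)) ≠ 0 := by
      intro h0
      have hfa := hf a ha
      rw [← O.valuation.ne_zero_iff, heq] at hfa
      exact hfa (by simp only [f, map_mul, h0, zero_mul])
    have hxv : O.valuation x ≠ 0 := by simpa using hx0
    simp only [f, map_mul, map_pow] at heq
    rw [map_pow, map_div₀, map_div₀, eq_div_iff hb]
    apply mul_right_cancel₀ (pow_ne_zero a hxv)
    rw [heq, mul_right_comm, ← pow_add, Nat.sub_add_cancel hab.le, mul_comm]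
  rcases lt_or_gt_of_ne hij with h | h
  · exact key i j hi h he
  · exact key j i hj h he.symm

theorem trace_ne_one_of_pow [FiniteDimensional K F] [Algebra.IsSeparable K F]
    (z : F) (n : ℕ) (hn : 0 < n) (μ : W) (hμ : μ ∈ maximalIdeal W) (r : F) (hr : IsIntegral W r)
    (hz : z ^ n = algebraMap W F μ * r) : Algebra.trace K F z ≠ 1 := by
  classical
  intro htr
  let E := AlgebraicClosure K
  let R := integralClosure W E
  have hzint : IsIntegral W z := IsIntegral.of_pow hn (hz ▸ (isIntegral_algebraMap.mul hr))
  let J : Ideal R := Ideal.span {algebraMap W R μ}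
  have hterm : ∀ σ : F →ₐ[K] E,
      (⟨σ z, hzint.map (σ.restrictScalars W)⟩ : R) ∈ J.radical := fun σ =>
    ⟨n, Ideal.mem_span_singleton.mpr ⟨⟨σ r, hr.map (σ.restrictScalars W)⟩, by
      apply Subtype.ext
      simp only [SubmonoidClass.coe_pow, MulMemClass.coe_mul]
      rw [← map_pow, hz, map_mul, IsScalarTower.algebraMap_apply W K F, AlgHom.commutes,
        ← IsScalarTower.algebraMap_apply]
      rfl⟩⟩
  have h1 : (1 : R) ∈ J.radical := by
    have he : (1 : R) = ∑ σ : F →ₐ[K] E, (⟨σ z, hzint.map (σ.restrictScalars W)⟩ : R) := by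
      apply Subtype.ext
      rw [AddSubmonoidClass.coe_finsetSum]
      simp only [OneMemClass.coe_one]
      rw [← trace_eq_sum_embeddings, htr, map_one]
    rw [he]
    exact sum_mem fun σ _ => hterm σ
  obtain ⟨m, hm⟩ := h1
  rw [one_pow] at hm
  obtain ⟨s, hs⟩ := Ideal.mem_span_singleton.mp hm
  have hs' : (1 : E) = algebraMap W E μ * (s : E) := congrArg Subtype.val hs
  have hμ0 : μ ≠ 0 := by rintro rfl; simp at hs'
  have h2 : IsIntegral W ((algebraMap W K μ)⁻¹) := by
    refine (isIntegral_algHom_iff (IsScalarTower.toAlgHom W K E)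
      (algebraMap K E).injective).mp ?_
    have : (IsScalarTower.toAlgHom W K E) ((algebraMap W K μ)⁻¹) = (s : E) := by
      rw [IsScalarTower.coe_toAlgHom', map_inv₀, ← IsScalarTower.algebraMap_apply]
      exact inv_eq_of_mul_eq_one_right hs'.symm
    rw [this]
    exact s.2
  obtain ⟨ν, hν⟩ := IsIntegrallyClosed.isIntegral_iff.mp h2
  refine (mem_maximalIdeal μ).mp hμ (IsUnit.of_mul_eq_one ν ?_)
  apply IsFractionRing.injective W K
  rw [map_mul, hν, map_one, mul_inv_cancel₀]
  exact fun h0 => hμ0 (IsFractionRing.injective W K (h0.trans (map_zero _).symm))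

theorem core (pb : PowerBasis K F)
    (hθ : IsIntegral W pb.gen) (hθO : O.valuation pb.gen ≤ 1)
    (hle : ∀ w : W, O.valuation (algebraMap W F w) ≤ 1)
    (hlt : ∀ w ∈ maximalIdeal W, O.valuation (algebraMap W F w) < 1)
    (hd : O.valuation (aeval pb.gen (derivative (minpoly W pb.gen))) = 1) :
    (∀ x : F, x ≠ 0 → ∃ c : K, O.valuation x = O.valuation (algebraMap K F c)) ∧
    (∀ z : F, O.valuation z ≤ 1 → ∃ a s : F, a ∈ Algebra.adjoin W {pb.gen} ∧
      s ∈ Algebra.adjoin W {pb.gen} ∧ z * s = a ∧ O.valuation s = 1) := by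
  classical
  have := pb.finite
  have hmin : minpoly K pb.gen = (minpoly W pb.gen).map (algebraMap W K) :=
    minpoly.isIntegrallyClosed_eq_field_fractions' K hθ
  set θ := pb.gen with hθdef
  set dd := aeval θ (derivative (minpoly W θ)) with hdd
  have hdd' : aeval θ (derivative (minpoly K θ)) = dd := by
    rw [hmin, derivative_map, aeval_map_algebraMap]
  have hd0 : dd ≠ 0 := by intro h; rw [h, map_zero] at hd; exact zero_ne_one hd
  have : Algebra.IsSeparable K F := by
    have hsep : IsSeparable K θ := by
      rw [IsSeparable, Polynomial.separable_iff_derivative_ne_zero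
        (minpoly.irreducible (hθ.tower_top))]
      intro h
      apply hd0
      rw [← hdd', h, map_zero]
    have h1 : Algebra.IsSeparable K (IntermediateField.adjoin K {θ}) :=
      (IntermediateField.isSeparable_adjoin_simple_iff_isSeparable K F).mpr hsep
    have h2 : IntermediateField.adjoin K {θ} = ⊤ := by
      apply IntermediateField.toSubalgebra_injective
      rw [IntermediateField.adjoin_simple_toSubalgebra_of_isAlgebraic hθ.tower_top.isAlgebraic,
        pb.adjoin_gen_eq_top]
      rfl
    rw [h2] at h1
    exact Algebra.IsSeparable.of_algHom K _ IntermediateField.topEquiv.symm.toAlgHom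
  -- the dual expansion
  let β : ℕ → F := fun i => (minpolyDiv W θ).coeff i
  have hdiv : minpolyDiv K θ = minpolyDiv W θ := by
    rw [minpolyDiv, minpolyDiv, hmin, Polynomial.map_map, ← IsScalarTower.algebraMap_eq]
  have hexp : ∀ y : F, y * dd =
      ∑ i : Fin pb.dim, algebraMap K F (Algebra.trace K F (y * θ ^ (i : ℕ))) * β i := by
    intro y
    have h1 := pb.basis.traceDual.sum_repr y
    simp only [Module.Basis.traceDual_repr_apply, Module.Basis.traceDual_powerBasis_eq,
      PowerBasis.coe_basis, Algebra.traceForm_apply, hdd', ← hθdef, Algebra.smul_def, hdiv] at h1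
    conv_lhs => rw [← h1]
    rw [Finset.sum_mul]
    refine Finset.sum_congr rfl fun i _ => ?_
    rw [mul_assoc, div_mul_cancel₀ _ hd0]
  have hβ : ∀ i, β i ∈ Algebra.adjoin W {θ} := fun i => coeff_minpolyDiv_mem_adjoin θ i
  have hadj : ∀ a ∈ Algebra.adjoin W {θ}, O.valuation a ≤ 1 := by
    intro a ha
    induction ha using Algebra.adjoin_induction with
    | mem a ha => rw [Set.mem_singleton_iff.mp ha]; exact hθO
    | algebraMap r => exact hle r
    | add a b _ _ ha hb => exact le_trans (O.valuation.map_add _ _) (max_le ha hb)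
    | mul a b _ _ ha hb => rw [map_mul]; exact mul_le_one₀ ha zero_le' hb
  have halg : ∀ z : F, IsIntegral K z := fun z => IsIntegral.of_finite K z
  constructor
  · intro x hx
    obtain ⟨n, d, hn, hnd⟩ := exists_pow_val O x hx (halg x)
    have hD : algebraMap K F d ≠ 0 := by
      intro h0
      rw [h0, map_zero, Valuation.zero_iff] at hnd
      exact pow_ne_zero n hx hnd
    obtain ⟨a, s, ha, hs, has, hsv⟩ := exists_den O hle hlt (x ^ n / algebraMap K F d) (halg _)
      (by rw [map_div₀, hnd, div_self ((Valuation.ne_zero_iff _).mpr hD)])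
    let y := s * x
    have hy : y ^ n = algebraMap K F d * (s ^ (n - 1) * a) := by
      rw [← has, mul_pow, ← mul_assoc]
      obtain ⟨m, rfl⟩ := Nat.exists_eq_succ_of_ne_zero hn.ne'
      simp only [Nat.succ_sub_one, pow_succ]
      field_simp
    have hyv : O.valuation y = O.valuation x := by simp [y, hsv]
    -- each trace is no bigger than x
    have hc : ∀ i : ℕ, O.valuation (algebraMap K F (Algebra.trace K F (y * θ ^ i))) ≤
        O.valuation x := by
      intro i
      set c := Algebra.trace K F (y * θ ^ i) with hcdef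
      by_contra hcon
      rw [not_le] at hcon
      have hc0 : c ≠ 0 := by
        intro h0; rw [h0, map_zero, map_zero] at hcon; exact not_lt_zero' hcon
      have hμlt : O.valuation (algebraMap K F (d / c ^ n)) < 1 := by
        rw [map_div₀, map_pow, map_div₀, map_pow, ← hnd, map_pow, ← div_pow]
        exact pow_lt_one₀ zero_le' ((div_lt_one₀ (lt_of_le_of_lt zero_le' hcon)).mpr hcon) hn.ne'
      obtain ⟨μ, hμ⟩ := mem_range_of_val_le_one O hlt _ hμlt.le
      have hμm : μ ∈ maximalIdeal W := by
        rw [mem_maximalIdeal, mem_nonunits_iff]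
        rintro ⟨u, rfl⟩
        have h1 := hle (↑u⁻¹ : W)
        have h2 : O.valuation (algebraMap W F ↑u) * O.valuation (algebraMap W F ↑u⁻¹) = 1 := by
          rw [← map_mul, ← map_mul, Units.mul_inv, map_one, map_one]
        rw [IsScalarTower.algebraMap_apply W K F ↑u, hμ] at h2
        exact (mul_lt_one_of_lt_of_le hμlt h1).ne h2
      refine trace_ne_one_of_pow (W := W) (K := K) (algebraMap K F c⁻¹ * (y * θ ^ i)) n hn μ hμm
        (s ^ (n - 1) * a * θ ^ (i * n)) (((hs.pow _).mul ha).mul (hθ.pow _)) ?_ ?_
      · rw [IsScalarTower.algebraMap_apply W K F μ, hμ, map_div₀, map_pow, mul_pow, mul_pow, hy,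
          ← pow_mul, map_inv₀, inv_pow, div_eq_mul_inv]
        ring
      · rw [← Algebra.smul_def, map_smul, ← hcdef, smul_eq_mul, inv_mul_cancel₀ hc0]
    have h1 := hexp y
    by_contra hcon
    simp only [not_exists] at hcon
    have h2 : O.valuation (y * dd) < O.valuation x := by
      rw [h1]
      refine Valuation.map_sum_lt _ ((Valuation.ne_zero_iff _).mpr hx) fun i _ => ?_
      rw [map_mul]
      refine lt_of_le_of_lt (mul_le_of_le_one_right zero_le' (hadj _ (hβ i))) ?_
      exact lt_of_le_of_ne (hc i) fun he => hcon _ he.symm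
    rw [map_mul, hd, mul_one, hyv] at h2
    exact lt_irrefl _ h2
  · intro z hz
    obtain ⟨a, s, ha, hs, has, hsv⟩ := exists_den O hle hlt z (halg z) hz
    have hmem : ∀ t : F, IsIntegral W t → t * dd ∈ Algebra.adjoin W {θ} := by
      intro t ht
      rw [hexp t]
      refine sum_mem fun i _ => ?_
      have : IsIntegral W (Algebra.trace K F (t * θ ^ (i : ℕ))) :=
        Algebra.isIntegral_trace (ht.mul (hθ.pow _))
      obtain ⟨w, hw⟩ := IsIntegrallyClosed.isIntegral_iff.mp this
      rw [← hw, ← IsScalarTower.algebraMap_apply]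
      exact mul_mem (Subalgebra.algebraMap_mem _ w) (hβ i)
    exact ⟨a * dd, s * dd, hmem a ha, hmem s hs, by rw [← has, mul_assoc],
      by rw [map_mul, hsv, hd, one_mul]⟩

end core

section gauss

open MvPolynomial in
theorem exists_content {V : Type*} [CommRing V] [IsDomain V] [ValuationRing V] {σ : Type*}
    (q : MvPolynomial σ V) (hq : q ≠ 0) :
    ∃ (v : V) (q₀ : MvPolynomial σ V), v ≠ 0 ∧
      q₀ ∉ (maximalIdeal V).map (MvPolynomial.C : V →+* MvPolynomial σ V) ∧
      q = MvPolynomial.C v * q₀ := by
  classical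
  let I : Ideal V := Ideal.span (q.support.image q.coeff : Set V)
  have hI : I.FG := ⟨q.support.image q.coeff, rfl⟩
  haveI : IsBezout V := inferInstance
  haveI := IsBezout.isPrincipal_of_FG I hI
  set v := Submodule.IsPrincipal.generator I with hv
  have hmem : ∀ m, v ∣ q.coeff m := by
    intro m
    rw [← Ideal.mem_span_singleton, Ideal.span_singleton_generator]
    by_cases hm : m ∈ q.support
    · exact Ideal.subset_span (Finset.mem_coe.mpr (Finset.mem_image_of_mem _ hm))
    · rw [MvPolynomial.notMem_support_iff.mp hm]; exact zero_mem _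
  obtain ⟨q₀, hq₀⟩ : MvPolynomial.C v ∣ q := (MvPolynomial.C_dvd_iff_dvd_coeff _ _).mpr hmem
  have hv0 : v ≠ 0 := by
    intro h
    apply hq
    rw [hq₀, h]; simp
  refine ⟨v, q₀, hv0, ?_, hq₀⟩
  intro hq0
  rw [MvPolynomial.mem_map_C_iff] at hq0
  have hle : I ≤ Ideal.span {v} * maximalIdeal V := by
    refine Ideal.span_le.mpr ?_
    rintro _ h
    obtain ⟨m, -, rfl⟩ := Finset.mem_image.mp (Finset.mem_coe.mp h)
    rw [SetLike.mem_coe, hq₀, MvPolynomial.coeff_C_mul]
    exact Ideal.mul_mem_mul (Ideal.mem_span_singleton_self v) (hq0 m)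
  have hvI : v ∈ I := Submodule.IsPrincipal.generator_mem I
  obtain ⟨μ, hμ, he⟩ := Ideal.mem_span_singleton_mul.mp (hle hvI)
  have : μ = 1 := mul_left_cancel₀ hv0 (by rw [he, mul_one])
  exact (maximalIdeal.isMaximal V).ne_top ((Ideal.eq_top_iff_one _).mpr (this ▸ hμ))

theorem isPrime_map_C {V : Type*} [CommRing V] (I : Ideal V) [I.IsPrime] {σ : Type*} :
    (I.map (MvPolynomial.C : V →+* MvPolynomial σ V)).IsPrime := by
  rw [← Ideal.Quotient.isDomain_iff_prime]
  exact (MvPolynomial.quotientEquivQuotientMvPolynomial I).toMulEquiv.isDomain_iff.mp inferInstance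

end gauss

/-- the heart: the local ring of an étale algebra over a valuation ring, seen inside its field. -/
theorem localRing_spec {V : Type*} [CommRing V] [IsDomain V] [ValuationRing V]
    {S : Type*} [CommRing S] [IsDomain S] [IsLocalRing S] [Algebra V S]
    {W : Type*} [CommRing W] [IsDomain W] [ValuationRing W] [Algebra V W]
    [Algebra W S] [IsScalarTower V W S] [IsLocalHom (algebraMap W S)]
    [IsLocalHom (algebraMap V W)]
    (F K : Type*) [Field F] [Algebra S F] [IsFractionRing S F] [Field K] [Algebra W K]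
    [IsFractionRing W K] [Algebra W F] [IsScalarTower W S F] [Algebra K F] [IsScalarTower W K F]
    (hVW : UnitTimes V W)
    (θ : S) (f : W[X]) (hf : f.Monic) (hf0 : aeval θ f = 0)
    (hf1 : IsUnit (aeval θ (derivative f)))
    (hgen : ∀ x : S, ∃ P Q : W[X], IsUnit (aeval θ Q) ∧ x * aeval θ Q = aeval θ P) :
    UnitTimes V S := by
  classical
  obtain ⟨O, hO⟩ := (LocalSubring.range (algebraMap S F)).exists_le_valuationSubring
  have hSle : ∀ s : S, O.valuation (algebraMap S F s) ≤ 1 := fun s =>
    (O.valuation_le_one_iff _).mpr (hO.1 ⟨s, rfl⟩)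
  have hunit : ∀ s : S, IsUnit s → O.valuation (algebraMap S F s) = 1 := by
    rintro _ ⟨u, rfl⟩
    refine le_antisymm (hSle _) ?_
    have h1 := hSle (↑u⁻¹ : S)
    have h2 : O.valuation (algebraMap S F ↑u) * O.valuation (algebraMap S F ↑u⁻¹) = 1 := by
      rw [← map_mul, ← map_mul, Units.mul_inv, map_one, map_one]
    by_contra hlt
    rw [not_le] at hlt
    exact (mul_lt_one_of_lt_of_le hlt h1).ne h2
  have hdom : ∀ s : S, O.valuation (algebraMap S F s) = 1 → IsUnit s := by
    intro s hs
    obtain ⟨hle, hloc⟩ := hO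
    have h1 : IsUnit (⟨algebraMap S F s, hle ⟨s, rfl⟩⟩ : O.toLocalSubring.toSubring) := by
      exact (O.valuation_eq_one_iff ⟨algebraMap S F s, hle ⟨s, rfl⟩⟩).mpr hs
    have h2 := hloc.map_nonunit ⟨algebraMap S F s, ⟨s, rfl⟩⟩ h1
    obtain ⟨⟨_, ⟨t, rfl⟩⟩, ht⟩ := isUnit_iff_exists_inv.mp h2
    have ht' : algebraMap S F s * algebraMap S F t = 1 := congrArg Subtype.val ht
    rw [← map_mul, ← map_one (algebraMap S F)] at ht'
    exact IsUnit.of_mul_eq_one t (IsFractionRing.injective S F ht')
  set θ' : F := algebraMap S F θ with hθ'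
  have hle : ∀ w : W, O.valuation (algebraMap W F w) ≤ 1 := fun w => by
    rw [IsScalarTower.algebraMap_apply W S F]; exact hSle _
  have hlt : ∀ w ∈ maximalIdeal W, O.valuation (algebraMap W F w) < 1 := fun w hw => by
    rw [IsScalarTower.algebraMap_apply W S F]
    refine lt_of_le_of_ne (hSle _) fun he => ?_
    exact (mem_maximalIdeal w).mp hw (isUnit_of_map_unit (algebraMap W S) w (hdom _ he))
  haveI : FaithfulSMul W F := by
    rw [faithfulSMul_iff_algebraMap_injective, IsScalarTower.algebraMap_eq W K F]
    exact (algebraMap K F).injective.comp (IsFractionRing.injective W K)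
  have hint : IsIntegral W θ' :=
    ⟨f, hf, by rw [← aeval_def, hθ', aeval_algebraMap_apply, hf0, map_zero]⟩
  have hK : IsIntegral K θ' := hint.tower_top
  have hadj : Algebra.adjoin K {θ'} = ⊤ := by
    rw [← IntermediateField.adjoin_simple_toSubalgebra_of_isAlgebraic hK.isAlgebraic]
    rw [← IntermediateField.top_toSubalgebra]
    congr 1
    rw [eq_top_iff]
    have hpol : ∀ P : W[X], algebraMap S F (aeval θ P) ∈ IntermediateField.adjoin K {θ'} := by
      intro P
      rw [← aeval_algebraMap_apply, ← hθ', ← aeval_map_algebraMap K]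
      refine IntermediateField.algebra_adjoin_le_adjoin K _ ?_
      rw [Algebra.adjoin_singleton_eq_range_aeval]
      exact ⟨_, rfl⟩
    have hS : ∀ x : S, algebraMap S F x ∈ IntermediateField.adjoin K {θ'} := by
      intro x
      obtain ⟨P, Q, hQ, he⟩ := hgen x
      have hQ0 : algebraMap S F (aeval θ Q) ≠ 0 := fun h0 =>
        hQ.ne_zero (IsFractionRing.injective S F (h0.trans (map_zero _).symm))
      have : algebraMap S F x = algebraMap S F (aeval θ P) / algebraMap S F (aeval θ Q) := by
        rw [eq_div_iff hQ0, ← map_mul, he]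
      rw [this]
      exact div_mem (hpol P) (hpol Q)
    intro y _
    obtain ⟨a, b, -, rfl⟩ := IsFractionRing.div_surjective (A := S) y
    exact div_mem (hS a) (hS b)
  let pb : PowerBasis K F := PowerBasis.ofAdjoinEqTop hK hadj
  have hgenθ : pb.gen = θ' := PowerBasis.ofAdjoinEqTop_gen hK hadj
  have hd : O.valuation (aeval θ' (derivative (minpoly W θ'))) = 1 := by
    obtain ⟨f2, hf2⟩ := minpoly.isIntegrallyClosed_dvd hint (p := f)
      (by rw [hθ', aeval_algebraMap_apply, hf0, map_zero])
    have h1 : aeval θ' (derivative f) =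
        aeval θ' (derivative (minpoly W θ')) * aeval θ' f2 := by
      rw [hf2, derivative_mul, map_add, map_mul, map_mul, minpoly.aeval, zero_mul, add_zero]
    have hpol : ∀ P : W[X], O.valuation (aeval θ' P) ≤ 1 := fun P => by
      rw [hθ', aeval_algebraMap_apply]; exact hSle _
    refine le_antisymm (hpol _) ?_
    by_contra hcon
    rw [not_le] at hcon
    have h2 : O.valuation (aeval θ' (derivative f)) < 1 := by
      rw [h1, map_mul]; exact mul_lt_one_of_lt_of_le hcon (hpol f2)
    rw [hθ', aeval_algebraMap_apply, hunit _ hf1] at h2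
    exact lt_irrefl _ h2
  obtain ⟨hc, hfr⟩ := core O pb (hgenθ ▸ hint) (hgenθ ▸ hSle θ) hle hlt (hgenθ ▸ hd)
  have hrange : ∀ a ∈ Algebra.adjoin W {θ'}, ∃ t : S, algebraMap S F t = a := by
    intro a ha
    rw [Algebra.adjoin_singleton_eq_range_aeval] at ha
    obtain ⟨P, rfl⟩ := ha
    exact ⟨aeval θ P, (aeval_algebraMap_apply F θ P).symm⟩
  have hval : ∀ z : F, O.valuation z = 1 → ∃ u : Sˣ, algebraMap S F u = z := by
    intro z hz
    obtain ⟨a, s, ha, hs, has, hsv⟩ := hfr z hz.le
    rw [hgenθ] at ha hs
    obtain ⟨a', rfl⟩ := hrange a ha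
    obtain ⟨s', rfl⟩ := hrange s hs
    have hav : O.valuation (algebraMap S F a') = 1 := by rw [← has, map_mul, hz, hsv, one_mul]
    refine ⟨(hdom a' hav).unit * (hdom s' hsv).unit⁻¹, ?_⟩
    apply mul_right_cancel₀ (b := algebraMap S F s') (fun h0 => by
      rw [h0, map_zero] at hsv; exact zero_ne_one hsv)
    rw [has, ← map_mul]
    congr 1
    rw [Units.val_mul, IsUnit.unit_spec, mul_assoc, IsUnit.val_inv_mul, mul_one]
  intro x hx
  have hx' : algebraMap S F x ≠ 0 := fun h0 =>
    hx (IsFractionRing.injective S F (h0.trans (map_zero _).symm))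
  obtain ⟨c, hcv⟩ := hc _ hx'
  obtain ⟨w₁, w₂, hw₂, rfl⟩ := IsFractionRing.div_surjective (A := W) c
  have hw₂0 : w₂ ≠ 0 := nonZeroDivisors.ne_zero hw₂
  have hw₁0 : w₁ ≠ 0 := by
    rintro rfl
    simp [hx'] at hcv
  obtain ⟨v₁, u₁, rfl⟩ := hVW w₁ hw₁0
  obtain ⟨v₂, u₂, rfl⟩ := hVW w₂ hw₂0
  -- move the units into the element
  have he1 : ∀ (v : V) (u : Wˣ), O.valuation (algebraMap K F (algebraMap W K
      (algebraMap V W v * u))) = O.valuation (algebraMap S F (algebraMap V S v)) := by
    intro v u
    rw [← IsScalarTower.algebraMap_apply W K F, IsScalarTower.algebraMap_apply W S F,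
      map_mul, map_mul, map_mul, hunit _ (u.isUnit.map (algebraMap W S)), mul_one,
      ← IsScalarTower.algebraMap_apply V W S]
  rw [map_div₀, map_div₀, he1, he1] at hcv
  have hv₁ : algebraMap S F (algebraMap V S v₁) ≠ 0 := by
    intro h0
    rw [h0, map_zero, zero_div, Valuation.zero_iff] at hcv
    exact hx' hcv
  have hv₂ : algebraMap S F (algebraMap V S v₂) ≠ 0 := by
    intro h0
    rw [h0, map_zero, div_zero, Valuation.zero_iff] at hcv
    exact hx' hcv
  obtain ⟨u, hu⟩ := hval (algebraMap S F x * algebraMap S F (algebraMap V S v₂) /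
      algebraMap S F (algebraMap V S v₁)) (by
    rw [map_div₀, map_mul, hcv, div_mul_cancel₀ _ ((Valuation.ne_zero_iff _).mpr hv₂),
      div_self ((Valuation.ne_zero_iff _).mpr hv₁)])
  rw [eq_div_iff hv₁, ← map_mul, ← map_mul] at hu
  have hu' : (u : S) * algebraMap V S v₁ = x * algebraMap V S v₂ := IsFractionRing.injective S F hu
  rcases ValuationRing.dvd_total v₂ v₁ with ⟨m, rfl⟩ | ⟨m, rfl⟩
  · refine ⟨m, u, ?_⟩
    apply mul_right_cancel₀ (b := algebraMap V S v₂) (fun h0 => hv₂ (by rw [h0, map_zero]))
    rw [← hu', map_mul]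
    ring
  · -- x * m is a unit, so m is a unit
    have h3 : x * algebraMap V S m = u := by
      apply mul_right_cancel₀ (b := algebraMap V S v₁) (fun h0 => hv₁ (by rw [h0, map_zero]))
      rw [hu', map_mul]
      ring
    have hm : IsUnit (algebraMap V S m) := isUnit_of_mul_isUnit_right (h3 ▸ u.isUnit)
    have hm' : IsUnit m := by
      rw [IsScalarTower.algebraMap_apply V W S] at hm
      exact isUnit_of_map_unit (algebraMap V W) m (isUnit_of_map_unit (algebraMap W S) _ hm)
    refine ⟨↑hm'.unit⁻¹, u, ?_⟩
    apply mul_right_cancel₀ (b := algebraMap V S m) hm.ne_zero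
    rw [h3, mul_right_comm, ← map_mul, IsUnit.val_inv_mul, map_one, one_mul]

/-- `localRing_spec` for the canonical fraction fields. -/
theorem localRing_spec' {V : Type*} [CommRing V] [IsDomain V] [ValuationRing V]
    {S : Type*} [CommRing S] [IsDomain S] [IsLocalRing S] [Algebra V S]
    {W : Type*} [CommRing W] [IsDomain W] [ValuationRing W] [Algebra V W]
    [Algebra W S] [IsScalarTower V W S] [IsLocalHom (algebraMap W S)]
    [IsLocalHom (algebraMap V W)]
    (hinj : Function.Injective (algebraMap W S)) (hVW : UnitTimes V W)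
    (θ : S) (f : W[X]) (hf : f.Monic) (hf0 : aeval θ f = 0)
    (hf1 : IsUnit (aeval θ (derivative f)))
    (hgen : ∀ x : S, ∃ P Q : W[X], IsUnit (aeval θ Q) ∧ x * aeval θ Q = aeval θ P) :
    UnitTimes V S := by
  haveI : IsScalarTower W S (FractionRing S) := inferInstance
  haveI : FaithfulSMul W (FractionRing S) := by
    rw [faithfulSMul_iff_algebraMap_injective, IsScalarTower.algebraMap_eq W S (FractionRing S)]
    exact (IsFractionRing.injective S (FractionRing S)).comp hinj
  letI := FractionRing.liftAlgebra W (FractionRing S)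
  exact localRing_spec (FractionRing S) (FractionRing W) hVW θ f hf hf0 hf1 hgen

section setup

variable {V : Type*} [CommRing V] [IsDomain V] [ValuationRing V] {σ : Type*}

theorem main_aux (A : Type*) [CommRing A] [IsDomain A] [Algebra V A]
    [Algebra (MvPolynomial σ V) A] [IsScalarTower V (MvPolynomial σ V) A]
    [Algebra.IsStandardEtale (MvPolynomial σ V) A]
    (S : Type*) [CommRing S] [IsDomain S] [IsLocalRing S] [Algebra A S] [Algebra V S]
    [IsScalarTower V A S]
    (q : Ideal A) [q.IsPrime] [IsLocalization.AtPrime S q]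
    (hmq : (maximalIdeal V).map (algebraMap V A) ≤ q)
    (hmin : ∀ q' : Ideal A, q'.IsPrime → (maximalIdeal V).map (algebraMap V A) ≤ q' →
      q' ≤ q → q' = q) :
    UnitTimes V S ∧ Function.Injective (algebraMap V S) ∧ IsLocalHom (algebraMap V S) := by
  classical
  let P := MvPolynomial σ V
  let m₀ : Ideal P := (maximalIdeal V).map (MvPolynomial.C : V →+* P)
  haveI hm₀ : m₀.IsPrime := isPrime_map_C _
  haveI : Module.Flat P A := inferInstance
  have hmap : m₀.map (algebraMap P A) = (maximalIdeal V).map (algebraMap V A) := by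
    rw [Ideal.map_map, IsScalarTower.algebraMap_eq V P A]; rfl
  have hunder : q.under P = m₀ := by
    have hle : m₀ ≤ q.under P := Ideal.map_le_iff_le_comap.mp (hmap ▸ hmq)
    obtain ⟨q', hq'le, hq', hlies⟩ :=
      Ideal.exists_ideal_le_liesOver_of_le q (p := m₀) (q := q.under P) hle
    have h1 := hlies.over
    have hq'm : (maximalIdeal V).map (algebraMap V A) ≤ q' := by
      rw [← hmap, Ideal.map_le_iff_le_comap]
      exact h1.le
    obtain rfl := hmin q' hq' hq'm hq'le
    exact h1.symm
  have hinjA : Function.Injective (algebraMap P A) := by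
    obtain ⟨q', -, hq', hlies⟩ :=
      Ideal.exists_ideal_le_liesOver_of_le q (p := (⊥ : Ideal P)) (q := q.under P) bot_le
    rw [injective_iff_map_eq_zero]
    intro x hx
    have hxq : x ∈ q'.under P := by
      rw [Ideal.under_def, Ideal.mem_comap, hx]; exact zero_mem q'
    rw [← hlies.over] at hxq
    simpa using hxq
  let W := Localization.AtPrime m₀
  letI : Algebra P S := ((algebraMap A S).comp (algebraMap P A)).toAlgebra
  haveI : IsScalarTower P A S := IsScalarTower.of_algebraMap_eq' rfl
  have hunit : ∀ x : P, x ∉ m₀ → IsUnit (algebraMap P S x) := by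
    intro x hx
    rw [IsScalarTower.algebraMap_apply P A S]
    exact (IsLocalization.AtPrime.isUnit_to_map_iff S q _).mpr (by rwa [← hunder] at hx)
  letI : Algebra W S := (IsLocalization.lift (M := m₀.primeCompl) (g := algebraMap P S)
    (fun y => hunit y y.2)).toAlgebra
  haveI : IsScalarTower P W S := IsScalarTower.of_algebraMap_eq' (IsLocalization.lift_comp _).symm
  haveI : IsScalarTower V W S := IsScalarTower.of_algebraMap_eq fun v => by
    rw [IsScalarTower.algebraMap_apply V P W, ← IsScalarTower.algebraMap_apply P W S,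
      IsScalarTower.algebraMap_apply P A S, ← IsScalarTower.algebraMap_apply V P A,
      ← IsScalarTower.algebraMap_apply V A S]
  have hPS : Function.Injective (algebraMap P S) :=
    (IsLocalization.injective S q.primeCompl_le_nonZeroDivisors).comp hinjA
  have hWS : Function.Injective (algebraMap W S) := by
    refine (IsLocalization.lift_injective_iff _).mpr fun x y => ?_
    exact ⟨fun h => congrArg _ ((IsLocalization.injective W
      m₀.primeCompl_le_nonZeroDivisors) h), fun h => congrArg _ (hPS h)⟩
  haveI hlocW : IsLocalHom (algebraMap W S) := by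
    constructor
    intro w hw
    obtain ⟨x, s, rfl⟩ := IsLocalization.exists_mk'_eq m₀.primeCompl w
    have h1 : IsUnit (algebraMap P S x) := by
      have := IsLocalization.mk'_spec W x s
      rw [IsScalarTower.algebraMap_apply P W S, ← this, map_mul, ← IsScalarTower.algebraMap_apply]
      exact hw.mul (hunit s s.2)
    rw [IsLocalization.AtPrime.isUnit_mk'_iff W m₀]
    intro hx
    rw [IsScalarTower.algebraMap_apply P A S, IsLocalization.AtPrime.isUnit_to_map_iff S q] at h1
    rw [← hunder] at hx
    exact h1 hx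
  haveI hlocV : IsLocalHom (algebraMap V W) := by
    constructor
    intro v hv
    rw [IsScalarTower.algebraMap_apply V P W, IsLocalization.AtPrime.isUnit_to_map_iff W m₀] at hv
    by_contra h
    exact hv (Ideal.mem_map_of_mem _ ((mem_maximalIdeal v).mpr h))
  have hVW : UnitTimes V W := by
    intro w hw
    obtain ⟨x, s, rfl⟩ := IsLocalization.exists_mk'_eq m₀.primeCompl w
    have hx : x ≠ 0 := by rintro rfl; simp at hw
    obtain ⟨v, x₀, -, hx₀, rfl⟩ := exists_content x hx
    refine ⟨v, ((IsLocalization.AtPrime.isUnit_mk'_iff W m₀ x₀ s).mpr hx₀).unit, ?_⟩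
    rw [IsUnit.unit_spec, IsScalarTower.algebraMap_apply V P W, IsLocalization.mul_mk'_eq_mk'_of_mul]
    rfl
  haveI : ValuationRing W := valuationRing_of_unitTimes V W hVW
  obtain ⟨pr⟩ : Nonempty (StandardEtalePresentation P A) := inferInstance
  have haev : ∀ Q : P[X], aeval (algebraMap A S pr.x) (Q.map (algebraMap P W)) =
      algebraMap A S (aeval pr.x Q) := by
    intro Q
    rw [aeval_map_algebraMap, aeval_algebraMap_apply]
  have hg : IsUnit (aeval pr.x pr.g) := pr.hasMap.2
  have hmain : UnitTimes V S := by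
    refine localRing_spec' hWS hVW (algebraMap A S pr.x) (pr.f.map (algebraMap P W))
      (pr.monic_f.map _) (by rw [haev, pr.hasMap.1, map_zero]) ?_ ?_
    · rw [derivative_map, haev]
      exact pr.hasMap.isUnit_derivative_f.map _
    · intro x
      obtain ⟨a, s, rfl⟩ := IsLocalization.exists_mk'_eq q.primeCompl x
      obtain ⟨Q₁, n₁, h₁⟩ := pr.exists_mul_aeval_x_g_pow_eq_aeval_x a
      obtain ⟨Q₂, n₂, h₂⟩ := pr.exists_mul_aeval_x_g_pow_eq_aeval_x (s : A)
      refine ⟨(Q₁ * pr.g ^ n₂).map (algebraMap P W), (Q₂ * pr.g ^ n₁).map (algebraMap P W), ?_, ?_⟩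
      · rw [haev, map_mul, map_mul, map_pow, map_pow, ← h₂, map_mul, map_pow]
        exact ((IsLocalization.map_units S s).mul ((hg.map _).pow _)).mul ((hg.map _).pow _)
      · simp only [haev, map_mul, map_pow, ← h₁, ← h₂]
        rw [← IsLocalization.mk'_spec S a s]
        ring
  have hVinj : Function.Injective (algebraMap V S) := by
    have : algebraMap V S = (algebraMap P S).comp (algebraMap V P) := by
      rw [IsScalarTower.algebraMap_eq P A S, RingHom.comp_assoc, ← IsScalarTower.algebraMap_eq V P A,
        ← IsScalarTower.algebraMap_eq V A S]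
    rw [this]
    exact hPS.comp (MvPolynomial.C_injective σ V)
  refine ⟨hmain, hVinj, ?_⟩
  rw [IsScalarTower.algebraMap_eq V W S]
  exact RingHom.isLocalHom_comp _ _

end setup

/-- Let V be a valuation ring with maximal ideal m, A an integral domain that is a smooth V-algebra, and
p a prime ideal of A minimal among the primes containing mA (a generic point of the special fibre of
Spec A over V). Then A_p is a valuation ring, V → A_p is an injective local homomorphism, and every
nonzero element of A_p is a unit of A_p times the image of an element of V, so that V → A_p induces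
a bijection on value groups. (The published statement takes A faithfully flat and a semilocalisation
of a smooth V-algebra at finitely many primes; the local ring A_p is then a local ring of the smooth
algebra itself at such a prime, and faithful flatness follows from the existence of p, so this row
states the smooth case, which carries the whole content.) -/
theorem result
    (V : Type u) [CommRing V] [IsDomain V] [ValuationRing V]
    (A : Type u) [CommRing A] [IsDomain A] [Algebra V A] [Algebra.Smooth V A]
    (p : Ideal A) [p.IsPrime]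
    (hp : p ∈ ((IsLocalRing.maximalIdeal V).map (algebraMap V A)).minimalPrimes) :
    ValuationRing (Localization.AtPrime p) ∧
      Function.Injective (algebraMap V (Localization.AtPrime p)) ∧
      IsLocalHom (algebraMap V (Localization.AtPrime p)) ∧
      ∀ x : Localization.AtPrime p, x ≠ 0 →
        ∃ (v : V) (w : (Localization.AtPrime p)ˣ), x = algebraMap V (Localization.AtPrime p) v * w := by
  obtain ⟨f, hfp, n, hPalg, htower, hstd⟩ :=
    Algebra.IsSmoothAt.exists_isStandardEtale_mvPolynomial (R := V) (S := A) (p := p)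
  have hfpow : Disjoint (Submonoid.powers f : Set A) (p : Set A) :=
    (Ideal.disjoint_powers_iff_notMem_of_isPrime _).mpr hfp
  let B := Localization.Away f
  let q : Ideal B := p.map (algebraMap A B)
  haveI hq : q.IsPrime := IsLocalization.isPrime_of_isPrime_disjoint (.powers f) _ _ ‹_› hfpow
  have hqc : q.under A = p := IsLocalization.comap_map_of_isPrime_disjoint (.powers f) B ‹_› hfpow
  have hf0 : f ≠ 0 := fun h => hfp (h ▸ zero_mem p)
  haveI : IsDomain B :=
    IsLocalization.isDomain_localization (powers_le_nonZeroDivisors_of_noZeroDivisors hf0)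
  let S := Localization.AtPrime p
  letI : Algebra B S := (IsLocalization.Away.lift f (g := algebraMap A S)
    ((IsLocalization.AtPrime.isUnit_to_map_iff S p f).mpr hfp)).toAlgebra
  haveI : IsScalarTower A B S :=
    IsScalarTower.of_algebraMap_eq' (IsLocalization.Away.lift_comp _ _).symm
  haveI : IsScalarTower V B S := IsScalarTower.of_algebraMap_eq fun v => by
    rw [IsScalarTower.algebraMap_apply V A B, ← IsScalarTower.algebraMap_apply A B S,
      ← IsScalarTower.algebraMap_apply]
  haveI : IsLocalization.AtPrime S q := by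
    have hle : Submonoid.powers f ≤ p.primeCompl := by
      rintro _ ⟨k, rfl⟩
      exact fun h => hfp (‹p.IsPrime›.mem_of_pow_mem k h)
    haveI := IsLocalization.isLocalization_of_submonoid_le B S (Submonoid.powers f) p.primeCompl hle
    refine IsLocalization.isLocalization_of_is_exists_mul_mem S
      (p.primeCompl.map (algebraMap A B)) q.primeCompl ?_ ?_
    · rintro _ ⟨a, ha, rfl⟩ h
      exact ha (hqc ▸ h)
    · intro ⟨b, hb⟩
      obtain ⟨a, s, rfl⟩ := IsLocalization.exists_mk'_eq (Submonoid.powers f) b
      refine ⟨algebraMap A B s, ⟨a, fun ha => hb ?_, ?_⟩⟩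
      · rw [IsLocalization.mk'_eq_mul_mk'_one]
        exact q.mul_mem_right _ (Ideal.mem_map_of_mem _ ha)
      · rw [← IsLocalization.mk'_spec' B a s]
  have hmap : (IsLocalRing.maximalIdeal V).map (algebraMap V B) =
      ((IsLocalRing.maximalIdeal V).map (algebraMap V A)).map (algebraMap A B) := by
    rw [Ideal.map_map, ← IsScalarTower.algebraMap_eq]
  have hmq : (IsLocalRing.maximalIdeal V).map (algebraMap V B) ≤ q := by
    rw [hmap]; exact Ideal.map_mono hp.1.2
  have hmin : ∀ q' : Ideal B, q'.IsPrime → (IsLocalRing.maximalIdeal V).map (algebraMap V B) ≤ q' →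
      q' ≤ q → q' = q := by
    intro q' hq' hle hle'
    have h1 : p ≤ q'.under A := hp.2 ⟨hq'.under A, by
      rw [hmap] at hle; exact Ideal.map_le_iff_le_comap.mp hle⟩ (hqc ▸ Ideal.comap_mono hle')
    exact le_antisymm hle' (Ideal.map_le_iff_le_comap.mpr h1)
  obtain ⟨h1, h2, h3⟩ := main_aux (σ := Fin n) B S q hmq hmin
  exact ⟨valuationRing_of_unitTimes V S h1, h2, h3, h1⟩

end Groth.Agent.S14726
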