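import Groth.Statements.S14727
import Mathlib

set_option autoImplicit false
universe u
open ValPrufer

namespace Groth.Agent.S14727

theorem le_of_comap_aux {R : Type u} [CommRing R] (m : Ideal R) [m.IsPrime]
    (L : Type u) [CommRing L] [Algebra R L] [IsLocalization.AtPrime L m] (P : Ideal L) (hP : P ≠ ⊤) :
    Ideal.comap (algebraMap R L) P ≤ m := fun x hx => by
  by_contra hxm
  exact hP (Ideal.eq_top_of_isUnit_mem _ hx (IsLocalization.map_units L (⟨x, hxm⟩ : m.primeCompl)))

theorem mem_radical_map_aux {R : Type u} [CommRing R] (m : Ideal R) [hm : m.IsPrime]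
    (L : Type u) [CommRing L] [Algebra R L] [IsLocalization.AtPrime L m] (J : Ideal R)
    (hJ : ∀ q : Ideal R, q.IsPrime → J ≤ q → q.IsMaximal) (t : R) (ht : t ∈ m) :
    algebraMap R L t ∈ (J.map (algebraMap R L)).radical := by
  rw [Ideal.radical_eq_sInf]
  refine Submodule.mem_sInf.2 fun (P : Ideal L) hP => ?_
  obtain ⟨hP, hPp⟩ : J.map (algebraMap R L) ≤ P ∧ P.IsPrime := hP
  have hq : (Ideal.comap (algebraMap R L) P).IsPrime := Ideal.IsPrime.comap _
  have hmax := hJ _ hq (Ideal.map_le_iff_le_comap.1 hP)
  show t ∈ Ideal.comap (algebraMap R L) P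
  rw [hmax.eq_of_le hm.ne_top (le_of_comap_aux m L P hPp.ne_top)]
  exact ht

/-- Let R be a semilocal ring (finitely many maximal ideals) and I an ideal of R of co-height zero, i.e.
every prime ideal containing I is maximal. Then the canonical map from the I-adic completion of R to
the product, over the maximal ideals m ⊇ I, of the I-adic completions of the local rings R_m
(equivalently their IR_m-adic completions) is bijective; it is the continuous ring isomorphism of
the source, stated here as bijectivity of the canonical map of completed modules. -/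
theorem result
    (R : Type u) [CommRing R] (hR : Finite (MaximalSpectrum R)) (I : Ideal R)
    (hI : ∀ (p : Ideal R), p.IsPrime → I ≤ p → p.IsMaximal) :
    Function.Bijective (LinearMap.pi (fun m : {m : MaximalSpectrum R // I ≤ m.asIdeal} =>
      AdicCompletion.map I (Algebra.linearMap R (Localization.AtPrime m.1.asIdeal)))) := by
  classical
  let ι := {m : MaximalSpectrum R // I ≤ m.asIdeal}
  have : Fintype ι := Fintype.ofFinite ι
  let L : ι → Type u := fun m => Localization.AtPrime m.1.asIdeal
  let f : ∀ m : ι, R →ₗ[R] L m := fun m => Algebra.linearMap R (L m)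
  let C : ℕ → ι → Ideal R := fun n m => ((I ^ n).map (algebraMap R (L m))).comap (algebraMap R (L m))
  have hJC : ∀ n m, I ^ n ≤ C n m := fun n m => Ideal.le_comap_map
  have hsmul : ∀ n m (z : L m), z ∈ (I ^ n • ⊤ : Submodule R (L m)) ↔ z ∈ (I ^ n).map (algebraMap R (L m)) := fun n m z => by
    rw [Ideal.smul_top_eq_map, Submodule.restrictScalars_mem]
  have hpr : ∀ n (q : Ideal R), q.IsPrime → I ^ n ≤ q → I ≤ q := fun n q hq h => by
    rcases Nat.eq_zero_or_pos n with rfl | hn
    · exact absurd (top_le_iff.1 (by simpa using h)) hq.ne_top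
    · exact hq.le_of_pow_le h
  -- a maximal ideal containing `C n m` is `m`
  have honly : ∀ n (m : ι) (q : Ideal R), q.IsMaximal → C n m ≤ q → q = m.1.asIdeal := fun n m q hq h => by
    by_contra hne
    obtain ⟨t, htm, htq⟩ := Set.not_subset.1 (fun hle : (m.1.asIdeal : Set R) ⊆ q =>
      hne (Ideal.IsMaximal.eq_of_le m.1.isMaximal hq.ne_top hle).symm)
    have hrad : algebraMap R (L m) t ∈ ((I ^ n).map (algebraMap R (L m))).radical := by
      exact mem_radical_map_aux m.1.asIdeal (L m) (I ^ n) (fun q hq hle =>
        hI q hq (hpr n q hq hle)) t htm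
    obtain ⟨N, hN⟩ := hrad
    rw [← map_pow] at hN
    exact htq ((Ideal.IsMaximal.isPrime hq).mem_of_pow_mem N (h hN))
  have hinj : ∀ n (r : R), (∀ m : ι, r ∈ C n m) → r ∈ I ^ n := fun n r h => by
    refine Ideal.mem_of_localization_maximal fun P hP => ?_
    by_cases hIP : I ^ n ≤ P
    · exact h ⟨⟨P, hP⟩, hpr n P hP.isPrime hIP⟩
    · obtain ⟨s, hs, hsP⟩ := SetLike.not_le_iff_exists.1 hIP
      rw [Ideal.eq_top_of_isUnit_mem _ (Ideal.mem_map_of_mem _ hs)
        (IsLocalization.map_units (Localization.AtPrime P) ⟨s, show s ∈ P.primeCompl from hsP⟩)]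
      trivial
  have hsurj : ∀ n (z : ∀ m : ι, L m), ∃ r : R, ∀ m, algebraMap R (L m) r - z m ∈ (I ^ n).map (algebraMap R (L m)) := by
    intro n z
    have h1 : ∀ m, ∃ r : R, algebraMap R (L m) r - z m ∈ (I ^ n).map (algebraMap R (L m)) := fun m => by
      obtain ⟨a, s, hz⟩ : ∃ (a : R) (s : m.1.asIdeal.primeCompl), z m * algebraMap R (L m) s = algebraMap R (L m) a := by
        obtain ⟨⟨a, s⟩, h⟩ := IsLocalization.surj m.1.asIdeal.primeCompl (z m)
        exact ⟨a, s, h⟩
      have htop : Ideal.span {(s : R)} ⊔ C n m = ⊤ := by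
        by_contra hne
        obtain ⟨q, hq, hle⟩ := Ideal.exists_le_maximal _ hne
        have h1 : (s : R) ∈ q := hle (Ideal.mem_sup_left (Ideal.mem_span_singleton_self _))
        rw [honly n m q hq (le_sup_right.trans hle)] at h1
        exact s.2 h1
      obtain ⟨_, hb, c, hc, hbc⟩ := Submodule.mem_sup.1 ((Ideal.eq_top_iff_one _).1 htop)
      obtain ⟨b, rfl⟩ := Ideal.mem_span_singleton'.1 hb
      refine ⟨a * b, ?_⟩
      have : algebraMap R (L m) (a * b) - z m = -(z m * algebraMap R (L m) c) := by
        have e := congrArg (algebraMap R (L m)) hbc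
        rw [map_add, map_mul, map_one] at e
        rw [map_mul, ← hz]
        linear_combination z m * e
      rw [this]
      exact neg_mem (Ideal.mul_mem_left _ _ hc)
    choose r hr using h1
    have hco : Pairwise fun a b => IsCoprime (C n a) (C n b) := fun a b hab => by
      show IsCoprime (C n a) (C n b)
      rw [Ideal.isCoprime_iff_sup_eq]
      by_contra hne
      obtain ⟨q, hq, hle⟩ := Ideal.exists_le_maximal _ hne
      exact hab (Subtype.ext (MaximalSpectrum.ext ((honly n a q hq (le_sup_left.trans hle)).symm.trans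
        (honly n b q hq (le_sup_right.trans hle)))))
    obtain ⟨x, hx⟩ := Ideal.exists_forall_sub_mem_ideal hco r
    refine ⟨x, fun m => ?_⟩
    have h2 : algebraMap R (L m) (x - r m) ∈ (I ^ n).map (algebraMap R (L m)) := hx m
    rw [map_sub] at h2
    convert add_mem h2 (hr m) using 1
    ring
  have key : ∀ n, Function.Bijective (fun q : R ⧸ (I ^ n • ⊤ : Submodule R R) => fun m : ι =>
      (f m).reduceModIdeal (I ^ n) q) := fun n => by
    refine ⟨fun q q' h => ?_, fun z => ?_⟩
    · obtain ⟨r, rfl⟩ := Submodule.Quotient.mk_surjective _ q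
      obtain ⟨r', rfl⟩ := Submodule.Quotient.mk_surjective _ q'
      refine (Submodule.Quotient.eq _).2 ?_
      have : r - r' ∈ I ^ n := hinj n _ fun m => by
        have h1 := (Submodule.Quotient.eq _).1 (congrFun h m)
        show algebraMap R (L m) (r - r') ∈ (I ^ n).map (algebraMap R (L m))
        rw [map_sub]
        exact (hsmul n m _).1 h1
      simpa using this
    · choose w hw using fun m => Submodule.Quotient.mk_surjective _ (z m)
      obtain ⟨r, hr⟩ := hsurj n w
      refine ⟨Submodule.Quotient.mk r, funext fun m => ?_⟩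
      rw [← hw m]
      exact (Submodule.Quotient.eq _).2 ((hsmul n m _).2 (hr m))
  refine ⟨fun x y h => AdicCompletion.ext fun n => (key n).1 (funext fun m => ?_), fun y => ?_⟩
  · exact congrArg (fun z => z.val n) (congrFun h m)
  · choose q hq using fun n => (key n).2 (fun m => (y m).val n)
    have hcomp : ∀ {a b} (h : a ≤ b), AdicCompletion.transitionMap I R h (q b) = q a := fun {a b} h => by
      refine (key a).1 (funext fun m => ?_)
      have e := LinearMap.congr_fun (AdicCompletion.transitionMap_comp_reduceModIdeal I (f m) h) (q b)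
      simp only [LinearMap.comp_apply] at e
      refine e.symm.trans ?_
      exact (congrArg (AdicCompletion.transitionMap I (L m) h) (congrFun (hq b) m)).trans
        (((y m).2 h).trans (congrFun (hq a) m).symm)
    exact ⟨⟨q, fun h => hcomp h⟩, funext fun m => AdicCompletion.ext fun n => congrFun (hq n) m⟩

end Groth.Agent.S14727
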