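import Groth.Statements.S14728
import Mathlib

set_option autoImplicit false
universe u
open ValPrufer

namespace Groth.Agent.S14728

theorem valuationRing_of_local_surj {R T : Type*} [CommRing R] [CommRing T] [IsDomain T]
    (P : Type*) [CommRing P] [IsDomain P] [ValuationRing P] (f : P →+* T)
    (hf : Function.Surjective f) : ValuationRing T :=
  haveI : PreValuationRing T := Function.Surjective.preValuationRing (f : P →ₙ* T) hf
  .mk

/-- Let R be a Prüfer domain, i.e. a domain all of whose local rings at primes are valuation rings. (a)
For a multiplicative subset S, any localisation B = S⁻¹R that is a domain (S not containing 0) is a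
Prüfer domain. (b) For a prime ideal I, the quotient R/I is a Prüfer domain. -/
theorem result
    (R : Type u) [CommRing R] [IsDomain R]
    (hR : ∀ (p : Ideal R) [p.IsPrime], ValuationRing (Localization.AtPrime p))
    (S : Submonoid R) (B : Type u) [CommRing B] [IsDomain B] [Algebra R B] [IsLocalization S B]
    (I : Ideal R) [I.IsPrime] :
    (∀ (q : Ideal B) [q.IsPrime], ValuationRing (Localization.AtPrime q)) ∧
      (∀ (q : Ideal (R ⧸ I)) [q.IsPrime], ValuationRing (Localization.AtPrime q)) := by
  constructor
  · intro q hq
    let p := q.comap (algebraMap R B)
    haveI : p.IsPrime := Ideal.IsPrime.comap _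
    haveI := hR p
    haveI : IsLocalization.AtPrime (Localization.AtPrime q) p :=
      IsLocalization.isLocalization_isLocalization_atPrime_isLocalization S (Localization.AtPrime q) q
    let e := IsLocalization.algEquiv p.primeCompl (Localization.AtPrime p) (Localization.AtPrime q)
    exact valuationRing_of_local_surj (R := R) (Localization.AtPrime p) e.toRingEquiv.toRingHom
      e.surjective
  · intro q hq
    let p := q.comap (Ideal.Quotient.mk I)
    haveI : p.IsPrime := Ideal.IsPrime.comap _
    haveI := hR p
    exact valuationRing_of_local_surj (R := R) (Localization.AtPrime p)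
      (Localization.localRingHom p q (Ideal.Quotient.mk I) rfl)
      (RingHom.surjectiveOnStalks_of_surjective Ideal.Quotient.mk_surjective q hq)

end Groth.Agent.S14728
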