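import Groth.Statements.S14729
import Groth.Agent.PruferSLib.Basic

set_option autoImplicit false
universe u
open ValPrufer

namespace Groth.Agent.S14729

/-- Let R be a semilocal Prüfer domain (an integral domain with finitely many maximal ideals whose
localisations at primes are valuation rings) with fraction field L, and let K ⊆ L be a subfield.
Then R ∩ K is again a semilocal Prüfer domain and its fraction field is K, i.e. every element of K
is a quotient of two elements of R ∩ K. -/
theorem result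
    (R L : Type u) [CommRing R] [IsDomain R] [Field L] [Algebra R L] [IsFractionRing R L]
    (hR : ∀ (p : Ideal R) [p.IsPrime], ValuationRing (Localization.AtPrime p))
    (hfin : Finite (MaximalSpectrum R)) (K : Subfield L) :
    (∀ (p : Ideal ↥((algebraMap R L).range ⊓ K.toSubring)) [p.IsPrime],
        ValuationRing (Localization.AtPrime p)) ∧
      Finite (MaximalSpectrum ↥((algebraMap R L).range ⊓ K.toSubring)) ∧
      ∀ x : L, x ∈ K → ∃ a b : L, a ∈ (algebraMap R L).range ⊓ K.toSubring ∧
        b ∈ (algebraMap R L).range ⊓ K.toSubring ∧ b ≠ 0 ∧ x = a / b := by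
  haveI : ∀ m : MaximalSpectrum R, m.asIdeal.IsPrime := fun m => m.isMaximal.isPrime
  let V : MaximalSpectrum R → ValuationSubring L := fun m =>
    Groth.Agent.PruferSLib.locVS R L m.asIdeal (hR _)
  have hS : ∀ x, (∃ a, ((algebraMap R L).range ⊓ K.toSubring).subtype a = x) ↔ x ∈ K ∧ ∀ m, x ∈ V m := by
    intro x
    constructor
    · rintro ⟨⟨a, ⟨r, hr⟩, hK⟩, rfl⟩
      refine ⟨hK, fun m => (Groth.Agent.PruferSLib.mem_locVS R L _ _ _).2 ⟨r, 1, m.asIdeal.primeCompl.one_mem, ?_⟩⟩
      simp [hr]
    · rintro ⟨hK, hx⟩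
      obtain ⟨r, hr⟩ := Groth.Agent.PruferSLib.mem_range_of_forall R L hR x fun m => hx m
      exact ⟨⟨x, ⟨r, hr⟩, hK⟩, rfl⟩
  obtain ⟨h1, h2, h3⟩ := Groth.Agent.PruferSLib.prufer_of_inter V
    ((algebraMap R L).range ⊓ K.toSubring).subtype Subtype.val_injective K hS
  refine ⟨h1, h2, fun x hx => ?_⟩
  obtain ⟨a, b, hb, hab⟩ := h3 x hx
  have hb' : (b : L) ≠ 0 := fun h => hb (Subtype.ext h)
  exact ⟨a, b, a.2, b.2, hb', by rw [eq_div_iff hb']; exact hab⟩

end Groth.Agent.S14729
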