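import Groth.Statements.S14730
import Groth.Agent.PruferSLib.Basic

set_option autoImplicit false
universe u
open ValPrufer

namespace Groth.Agent.S14730

open Groth.Agent.PruferSLib

variable {R : Type u} [CommRing R] [IsDomain R] {K : Type u} [Field K] [Algebra R K] [IsFractionRing R K]

/-- The base-dependent bound on a chain of primes. -/
theorem chain_bound {B : Type} [CommRing B] [Nontrivial B] [Algebra B K] {S : Finset K}
    (halg : Algebra.IsAlgebraic (Algebra.adjoin B (S : Set K)) K)
    {m : ℕ} (W : ValuationSubring K) (p : Ideal R) [p.IsPrime]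
    (hW : ∀ x, x ∈ W ↔ ∃ a b : R, b ∉ p ∧ x * algebraMap R K b = algebraMap R K a)
    (P : Fin (m + 1) → Ideal R) (hP : ∀ i, (P i).IsPrime) (hmono : Monotone P) (hle : ∀ i, P i ≤ p)
    (t : Fin m → R) (ht : ∀ i, t i ∈ P i.succ) (ht' : ∀ i, t i ∉ P i.castSucc)
    (j : Option (Fin m))
    (hB : ∀ c : B, c ≠ 0 → ∃ k : ℕ, W.valuation (algebraMap B K c) =
      W.valuation (algebraMap R K (j.elim 1 fun i => t i ^ k))) :
    m ≤ S.card + 1 := by
  classical
  have h := algebraicIndependent_of_chain (B := B) W p hW P hP hmono hle t ht ht' {i | j ≠ some i} j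
    (fun i hi => hi) hB
  have h1 := h.lift_cardinalMk_le_trdeg
  have h2 := Algebra.IsAlgebraic.trdeg_le_cardinalMk B (S : Set K) (alg := halg)
  rw [show Cardinal.mk ↥(S : Set K) = (S.card : Cardinal) from Cardinal.mk_coe_finset] at h2
  have h3 : Fintype.card ↥({i : Fin m | j ≠ some i}) ≤ S.card := by
    have := h1.trans (Cardinal.lift_le.2 h2)
    simpa using this
  have h4 : m ≤ Fintype.card ↥({i : Fin m | j ≠ some i}) + 1 := by
    rw [← Set.toFinset_card]
    cases j with
    | none => simp
    | some l =>
      have : ({i : Fin m | some l ≠ some i} : Set (Fin m)).toFinset = Finset.univ.erase l := by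
        ext i; simp [eq_comm]
      rw [this, Finset.card_erase_of_mem (Finset.mem_univ l), Finset.card_univ, Fintype.card_fin]
      omega
  omega

theorem valuation_le_one (W : ValuationSubring K) (n : ℕ) : W.valuation (n : K) ≤ 1 :=
  (W.valuation_le_one_iff _).2 (natCast_mem W n)

theorem ringKrullDim_le (hR : ∀ (p : Ideal R) [p.IsPrime], ValuationRing (Localization.AtPrime p))
    (S : Finset K) (hS : Subfield.closure (S : Set K) = ⊤) : ringKrullDim R ≤ (S.card + 1 : ℕ) := by
  classical
  have halg : ∀ {B : Type} [CommRing B] [Algebra B K],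
      Algebra.IsAlgebraic (Algebra.adjoin B (S : Set K)) K := fun {B} _ _ => ⟨fun z => by
    obtain ⟨y, hy, w, hw, hyw⟩ := Subfield.mem_closure_iff.1 (hS ▸ Subfield.mem_top z)
    have hle : Subring.closure (S : Set K) ≤ (Algebra.adjoin B (S : Set K)).toSubring :=
      Subring.closure_le.2 Algebra.subset_adjoin
    by_cases hw0 : w = 0
    · subst hyw
      rw [hw0, div_zero]
      exact isAlgebraic_zero
    refine ⟨Polynomial.C (⟨w, hle hw⟩ : Algebra.adjoin B (S : Set K)) * Polynomial.X -
      Polynomial.C ⟨y, hle hy⟩, fun h => hw0 ?_, ?_⟩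
    · have h' := congrArg (fun q => Polynomial.coeff q 1) h
      simpa [Subtype.ext_iff] using h'
    · have : w * z = y := by rw [← hyw]; field_simp
      simp [Subalgebra.algebraMap_def, this]⟩
  refine iSup_le fun l => ?_
  refine Nat.cast_le.2 ?_
  let p := l.last.asIdeal
  let W := locVS R K p (hR p)
  let P : Fin (l.length + 1) → Ideal R := fun i => if i = 0 then ⊥ else (l i).asIdeal
  have hP : ∀ i, (P i).IsPrime := fun i => by
    simp only [P]
    split_ifs
    · exact Ideal.isPrime_bot
    · exact (l i).isPrime
  have hstrict : StrictMono P := by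
    intro a b hab
    have hb : b ≠ 0 := fun h => absurd (h ▸ hab) (Fin.not_lt_zero a)
    have hab' : (l a).asIdeal < (l b).asIdeal := l.strictMono hab
    simp only [P, if_neg hb]
    split_ifs
    · exact lt_of_le_of_lt bot_le hab'
    · exact hab'
  have hle : ∀ i, P i ≤ p := fun i => by
    simp only [P]
    split_ifs
    · exact bot_le
    · exact (l.monotone (Fin.le_last i) : l i ≤ l.last)
  choose t ht ht' using fun i : Fin l.length => SetLike.exists_of_lt (hstrict (Fin.castSucc_lt_succ (i := i)))
  have hW : ∀ x, x ∈ W ↔ ∃ a b : R, b ∉ p ∧ x * algebraMap R K b = algebraMap R K a :=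
    mem_locVS R K p (hR p)
  obtain ⟨q, hq⟩ := CharP.exists K
  rcases CharP.char_is_prime_or_zero K q with hqp | rfl
  · haveI := Fact.mk hqp
    letI := ZMod.algebra K q
    refine chain_bound (B := ZMod q) halg W p hW P hP hstrict.monotone hle t ht ht' none fun c hc => ⟨0, ?_⟩
    have h1 : W.valuation (algebraMap (ZMod q) K c) ^ (q - 1) = 1 := by
      rw [← map_pow, ← map_pow, ZMod.pow_card_sub_one_eq_one hc, map_one, map_one]
    have hq1 : q - 1 ≠ 0 := by have := hqp.two_le; omega
    simpa using (pow_eq_one_iff_of_nonneg zero_le' hq1).1 h1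
  · haveI : CharZero K := CharP.charP_to_charZero K
    by_cases hex : ∃ q : ℕ, q.Prime ∧ W.valuation (q : K) < 1
    · obtain ⟨q, hqp, hq1⟩ := hex
      have hqmem : (q : R) ∈ p := by
        by_contra hno
        have hinv : (q : K)⁻¹ ∈ W := (hW _).2 ⟨1, q, hno, by
          rw [map_natCast, map_one, inv_mul_cancel₀ (Nat.cast_ne_zero.2 hqp.ne_zero)]⟩
        rw [← W.valuation_le_one_iff, map_inv₀, inv_le_one₀] at hinv
        · exact not_lt.2 hinv hq1
        · exact zero_lt_iff.2 ((Valuation.ne_zero_iff _).2 (Nat.cast_ne_zero.2 hqp.ne_zero))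
      have hne : ∀ r : ℕ, r.Prime → r ≠ q → W.valuation (r : K) = 1 := fun r hr hrq => by
        refine le_antisymm (valuation_le_one W r) (not_lt.1 fun hr1 => ?_)
        obtain ⟨a, b, hab⟩ : ∃ a b : ℤ, a * r + b * q = 1 :=
          Int.isCoprime_iff_gcd_eq_one.2 (by simpa using (Nat.coprime_primes hr hqp).2 hrq)
        have h1 : W.valuation ((a : K) * r + b * q) < 1 := by
          refine Valuation.map_add_lt _ ?_ ?_ <;> rw [map_mul]
          · exact (mul_le_of_le_one_left zero_le' ((W.valuation_le_one_iff _).2 (intCast_mem W a))).trans_lt hr1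
          · exact (mul_le_of_le_one_left zero_le' ((W.valuation_le_one_iff _).2 (intCast_mem W b))).trans_lt hq1
        rw [show (a : K) * r + b * q = 1 by exact_mod_cast hab, map_one] at h1
        exact lt_irrefl _ h1
      -- the step of the chain where `q` appears
      have hq0 : (q : R) ≠ 0 := fun h => hqp.ne_zero (by
        have h' := congrArg (algebraMap R K) h
        rw [map_natCast, map_zero] at h'
        exact_mod_cast h')
      obtain ⟨j, hj, hj'⟩ | hlast : (∃ j : Fin l.length, (q : R) ∈ P j.succ ∧ (q : R) ∉ P j.castSucc) ∨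
          l.length = 0 := by
        refine or_iff_not_imp_right.2 fun hm => ?_
        by_contra hno
        push Not at hno
        have : ∀ i : Fin (l.length + 1), (q : R) ∉ P i := by
          intro i
          induction i using Fin.induction with
          | zero => simp [P, hq0]
          | succ i ih => exact fun h => ih (hno i h)
        refine this (Fin.last _) ?_
        simp only [P]
        rw [if_neg (fun h => hm (by simpa [Fin.ext_iff] using h))]
        exact hqmem
      · refine chain_bound (B := ℤ) halg W p hW P hP hstrict.monotone hle (Function.update t j (q : R))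
          (fun i => ?_) (fun i => ?_) (some j) fun c hc => ?_
        · rcases eq_or_ne i j with rfl | h <;> simp [*]
        · rcases eq_or_ne i j with rfl | h <;> simp [*]
        · simp only [Option.elim, Function.update_self, map_pow, map_natCast, algebraMap_int_eq, eq_intCast]
          have hval : ∀ n : ℕ, n ≠ 0 → ∃ k : ℕ, W.valuation (n : K) = W.valuation (q : K) ^ k := by
            intro n
            induction n using Nat.recOnMul with
            | zero => exact fun h => absurd rfl h
            | one => exact fun _ => ⟨0, by simp⟩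
            | prime r hr =>
              intro _
              rcases eq_or_ne r q with rfl | h
              · exact ⟨1, (pow_one _).symm⟩
              · exact ⟨0, by rw [hne r hr h, pow_zero]⟩
            | mul a b ha hb =>
              intro h
              obtain ⟨ha0, hb0⟩ := mul_ne_zero_iff.1 h
              obtain ⟨k, hk⟩ := ha ha0
              obtain ⟨k', hk'⟩ := hb hb0
              exact ⟨k + k', by rw [Nat.cast_mul, map_mul, hk, hk', pow_add]⟩
          obtain ⟨k, hk⟩ := hval c.natAbs (Int.natAbs_ne_zero.2 hc)
          refine ⟨k, ?_⟩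
          rw [← hk]
          rcases Int.natAbs_eq c with h | h <;> conv_lhs => rw [h]
          · rw [Int.cast_natCast]
          · rw [Int.cast_neg, Int.cast_natCast, Valuation.map_neg]
      · omega
    · push Not at hex
      refine chain_bound (B := ℤ) halg W p hW P hP hstrict.monotone hle t ht ht' none fun c hc => ⟨0, ?_⟩
      have hval : ∀ n : ℕ, n ≠ 0 → W.valuation (n : K) = 1 := by
        intro n
        induction n using Nat.recOnMul with
        | zero => exact fun h => absurd rfl h
        | one => exact fun _ => by simp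
        | prime r hr => exact fun _ => le_antisymm (valuation_le_one W r) (hex r hr)
        | mul a b ha hb =>
          intro h
          obtain ⟨ha0, hb0⟩ := mul_ne_zero_iff.1 h
          rw [Nat.cast_mul, map_mul, ha ha0, hb hb0, mul_one]
      simp only [Option.elim, map_one, algebraMap_int_eq, eq_intCast]
      rcases Int.natAbs_eq c with h | h <;> rw [h]
      · rw [Int.cast_natCast, hval _ (Int.natAbs_ne_zero.2 hc)]
      · rw [Int.cast_neg, Int.cast_natCast, Valuation.map_neg, hval _ (Int.natAbs_ne_zero.2 hc)]

/-- Let R be a semilocal Prüfer domain (an integral domain with finitely many maximal ideals whose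
localisations at primes are valuation rings). Then R is the increasing union of subrings that are
semilocal Prüfer domains of finite Krull dimension; equivalently, every finite subset of R is
contained in such a subring. -/
theorem result
    (R : Type u) [CommRing R] [IsDomain R]
    (hR : ∀ (p : Ideal R) [p.IsPrime], ValuationRing (Localization.AtPrime p))
    (hfin : Finite (MaximalSpectrum R)) (s : Finset R) :
    ∃ R' : Subring R, (↑s : Set R) ⊆ R' ∧
      (∀ (p : Ideal R') [p.IsPrime], ValuationRing (Localization.AtPrime p)) ∧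
      Finite (MaximalSpectrum R') ∧ ringKrullDim R' < ⊤ := by
  classical
  let L := FractionRing R
  let g : R →+* L := algebraMap R L
  have hg : Function.Injective g := IsFractionRing.injective R L
  let S₀ : Finset L := s.image g
  let F : Subfield L := Subfield.closure (S₀ : Set L)
  let R' : Subring R := F.toSubring.comap g
  refine ⟨R', fun x hx => Subfield.subset_closure (Finset.mem_coe.2 (Finset.mem_image_of_mem g hx)), ?_⟩
  haveI : ∀ m : MaximalSpectrum R, m.asIdeal.IsPrime := fun m => m.isMaximal.isPrime
  let V : MaximalSpectrum R → ValuationSubring L := fun m =>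
    Groth.Agent.PruferSLib.locVS R L m.asIdeal (hR _)
  have hS : ∀ x, (∃ a, (g.comp R'.subtype) a = x) ↔ x ∈ F ∧ ∀ m, x ∈ V m := by
    intro x
    constructor
    · rintro ⟨⟨r, hr⟩, rfl⟩
      refine ⟨hr, fun m => (Groth.Agent.PruferSLib.mem_locVS R L _ _ _).2 ⟨r, 1, m.asIdeal.primeCompl.one_mem, ?_⟩⟩
      simp [g]
    · rintro ⟨hF, hx⟩
      obtain ⟨r, hr⟩ := Groth.Agent.PruferSLib.mem_range_of_forall R L hR x fun m => hx m
      exact ⟨⟨r, show g r ∈ F from hr.symm ▸ hF⟩, hr⟩
  have hinj : Function.Injective (g.comp R'.subtype) := hg.comp Subtype.val_injective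
  obtain ⟨h1, h2, h3⟩ := Groth.Agent.PruferSLib.prufer_of_inter V (g.comp R'.subtype) hinj F hS
  refine ⟨h1, h2, ?_⟩
  let i₀ : R' →+* F := (g.comp R'.subtype).codRestrict F fun a => a.2
  letI : Algebra R' F := i₀.toAlgebra
  haveI : FaithfulSMul R' F := (faithfulSMul_iff_algebraMap_injective R' F).2 fun a b h =>
    hinj (congrArg Subtype.val h)
  haveI : IsFractionRing R' F := IsFractionRing.of_field R' F fun z => by
    obtain ⟨a, b, hb, hab⟩ := h3 z.1 z.2
    refine ⟨a, b, Subtype.ext ?_⟩
    push_cast
    exact (eq_div_iff ((map_ne_zero_iff _ hinj).2 hb)).2 hab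
  let S₁ : Finset F := S₀.subtype fun x => x ∈ F
  have hgen : Subfield.closure (S₁ : Set F) = ⊤ := by
    refine eq_top_iff.2 fun z _ => ?_
    have hle : F ≤ (Subfield.closure (S₁ : Set F)).map F.subtype := Subfield.closure_le.2 fun x hx =>
      ⟨⟨x, Subfield.subset_closure hx⟩, Subfield.subset_closure (by simpa [S₁] using hx), rfl⟩
    obtain ⟨w, hw, hwz⟩ := hle z.2
    exact (Subtype.ext hwz : w = z) ▸ hw
  exact (ringKrullDim_le (K := F) h1 S₁ hgen).trans_lt (WithBot.coe_lt_coe.2 (ENat.coe_lt_top _))

end Groth.Agent.S14730
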