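import Groth.Statements.S14731
import Mathlib
-- import your own Groth.Agent.* helpers here

set_option autoImplicit false
universe u
open ValPrufer

namespace Groth.Agent.S14731

/-- In characteristic zero, every field K generated as a field by a finite set is the fraction field of
a subring A of K of finite type and smooth over the integers. -/
theorem result
    (K : Type u) [Field K] [CharZero K] (s : Finset K)
    (hs : Subfield.closure (↑s : Set K) = ⊤) :
    ∃ A : Subring K, Algebra.FiniteType ℤ A ∧ Algebra.Smooth ℤ A ∧ IsFractionRing A K := by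
  let B : Subalgebra ℤ K := Algebra.adjoin ℤ (↑s : Set K)
  haveI hBft : Algebra.FiniteType ℤ B :=
    (Subalgebra.fg_iff_finiteType B).1 (Subalgebra.fg_adjoin_finset s)
  haveI : Algebra.FinitePresentation ℤ B := Algebra.FinitePresentation.of_finiteType.mp inferInstance
  haveI hfr : IsFractionRing B K := by
    refine IsFractionRing.of_field B K fun z => ?_
    have hz : z ∈ Subfield.closure (↑s : Set K) := hs ▸ Subfield.mem_top z
    obtain ⟨x, hx, y, hy, rfl⟩ := Subfield.mem_closure_iff.1 hz
    have hle : Subring.closure (↑s : Set K) ≤ B.toSubring :=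
      Subring.closure_le.2 Algebra.subset_adjoin
    exact ⟨⟨x, hle hx⟩, ⟨y, hle hy⟩, rfl⟩
  haveI : IsScalarTower ℤ B K := IsScalarTower.of_algebraMap_eq' (RingHom.ext_int _ _)
  haveI : Algebra.FormallySmooth ℤ ℚ := Algebra.FormallySmooth.of_isLocalization (nonZeroDivisors ℤ)
  haveI : Algebra.FormallySmooth ℤ K :=
    haveI : IsScalarTower ℤ ℚ K := IsScalarTower.of_algebraMap_eq' (RingHom.ext_int _ _)
    haveI : Algebra.EssFiniteType B K := Algebra.EssFiniteType.of_isLocalization K (nonZeroDivisors B)
    haveI : Algebra.EssFiniteType ℤ K := Algebra.EssFiniteType.comp ℤ B K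
    haveI : Algebra.EssFiniteType ℚ K := Algebra.EssFiniteType.of_comp ℤ ℚ K
    Algebra.FormallySmooth.comp ℤ ℚ K
  let p : Ideal B := ⊥
  haveI : p.IsPrime := Ideal.bot_prime
  haveI : IsLocalization.AtPrime K p := by
    have : p.primeCompl = nonZeroDivisors B := by
      ext b; simp [p, Ideal.primeCompl, mem_nonZeroDivisors_iff_ne_zero]
    unfold IsLocalization.AtPrime
    rw [this]; exact hfr
  haveI : Algebra.IsSmoothAt ℤ p := Algebra.FormallySmooth.of_equiv
    ((IsLocalization.algEquiv p.primeCompl K (Localization.AtPrime p)).restrictScalars ℤ)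
  obtain ⟨g, hg, hsm⟩ := Algebra.IsSmoothAt.exists_notMem_smooth ℤ p
  have hg0 : g ≠ 0 := hg
  have hunit : ∀ y : Submonoid.powers g, IsUnit (algebraMap B K y) := fun ⟨y, n, hn⟩ => by
    subst hn
    simp [hg0]
  let φ : Localization.Away g →ₐ[ℤ] K :=
    IsLocalization.liftAlgHom (M := Submonoid.powers g) (f := IsScalarTower.toAlgHom ℤ B K) hunit
  have hφ : ∀ b : B, φ (algebraMap B (Localization.Away g) b) = (b : K) := fun b =>
    IsLocalization.lift_eq hunit b
  have hinj : Function.Injective φ := by
    refine (IsLocalization.lift_injective_iff (M := Submonoid.powers g) (S := Localization.Away g) (P := K)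
      hunit).2 fun x y => ?_
    rw [(IsLocalization.injective (Localization.Away g)
      (powers_le_nonZeroDivisors_of_noZeroDivisors hg0)).eq_iff,
      (IsFractionRing.injective B K).eq_iff]
  let A : Subring K := φ.range.toSubring
  let e : Localization.Away g ≃ₐ[ℤ] φ.range := AlgEquiv.ofInjective φ hinj
  let e' : Localization.Away g ≃ₐ[ℤ] A := AlgEquiv.ofRingEquiv (f := e.toRingEquiv)
    (fun x => by simp [eq_intCast])
  haveI : Algebra.Smooth ℤ A := Algebra.Smooth.of_equiv e'
  refine ⟨A, inferInstance, inferInstance, IsFractionRing.of_field A K fun z => ?_⟩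
  obtain ⟨x, y, -, rfl⟩ := IsFractionRing.div_surjective (A := B) z
  exact ⟨⟨(x : K), _, hφ x⟩, ⟨(y : K), _, hφ y⟩, rfl⟩

end Groth.Agent.S14731
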