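import Groth.Statements.S14732
import Groth.Agent.FieldExtLib.Imperfection
import Groth.Agent.S4571

set_option autoImplicit false
universe u
open ValPrufer

namespace Groth.Agent.S14732

/-- A function field over a perfect field has a smooth model. -/
theorem exists_smooth_model (F K : Type u) [Field F] [Field K] [Algebra F K] [PerfectField F]
    (A₀ : Subalgebra F K) (hft : A₀.FG) (htop : IntermediateField.adjoin F (A₀ : Set K) = ⊤) :
    ∃ A : Subalgebra F K, Algebra.FiniteType F A ∧ Algebra.Smooth F A ∧ IsFractionRing A K := by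
  haveI : Algebra.FiniteType F A₀ := A₀.fg_iff_finiteType.mp hft
  haveI : Algebra.FinitePresentation F A₀ := Algebra.FinitePresentation.of_finiteType.mp inferInstance
  haveI hfr : IsFractionRing A₀ K := by
    refine IsFractionRing.of_field A₀ K fun z => ?_
    have hz : z ∈ IntermediateField.adjoin F (A₀ : Set K) := htop ▸ IntermediateField.mem_top
    rw [IntermediateField.mem_adjoin_iff_div] at hz
    obtain ⟨r, hr, s, hs, rfl⟩ := hz
    rw [Algebra.adjoin_eq] at hr hs
    exact ⟨⟨r, hr⟩, ⟨s, hs⟩, rfl⟩
  let e : Localization.AtPrime (⊥ : Ideal A₀) ≃ₐ[A₀] K :=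
    haveI : IsFractionRing A₀ (Localization.AtPrime (⊥ : Ideal A₀)) := by
      have : (⊥ : Ideal A₀).primeCompl = nonZeroDivisors A₀ := by
        ext x; simp [Ideal.primeCompl, mem_nonZeroDivisors_iff_ne_zero]
      unfold IsFractionRing
      rw [← this]
      exact Localization.isLocalization
    IsLocalization.algEquiv (nonZeroDivisors A₀) _ _
  have hsm : Algebra.IsSmoothAt F (⊥ : Ideal A₀) := by
    haveI := Groth.Agent.FieldExtLib.formallySmooth_field_of_perfectField F K
    exact Algebra.FormallySmooth.of_equiv (e.restrictScalars F).symm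
  obtain ⟨_, ⟨_, ⟨f, rfl⟩, rfl⟩, hf0, hfs⟩ :=
    PrimeSpectrum.isBasis_basic_opens.exists_subset_of_mem_open
      (show (⟨⊥, Ideal.isPrime_bot⟩ : PrimeSpectrum A₀) ∈ Algebra.smoothLocus F A₀ from hsm)
      Algebra.isOpen_smoothLocus
  have hfne : f ≠ 0 := fun h => hf0 (by simp [h])
  haveI : Algebra.Smooth F (Localization.Away f) :=
    Algebra.basicOpen_subset_smoothLocus_iff_smooth.mp hfs
  let φ : Localization.Away f →ₐ[F] K :=
    (IsLocalization.liftAlgHom (M := Submonoid.powers f) (f := IsScalarTower.toAlgHom F A₀ K)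
      (fun y => by
        obtain ⟨n, hn⟩ := y.2
        rw [isUnit_iff_ne_zero, ← hn]
        simp [hfne]))
  have hinj : Function.Injective φ := by
    rw [IsLocalization.coe_liftAlgHom]
    exact (IsLocalization.lift_injective_iff _).2 fun x y =>
      ⟨fun h => congrArg _ (IsLocalization.injective _ (powers_le_nonZeroDivisors_of_noZeroDivisors hfne) h),
        fun h => congrArg _ (IsFractionRing.injective A₀ K h)⟩
  refine ⟨φ.range, Algebra.FiniteType.equiv (inferInstance : Algebra.FiniteType F (Localization.Away f))
    (AlgEquiv.ofInjective φ hinj), Algebra.Smooth.of_equiv (AlgEquiv.ofInjective φ hinj), ?_⟩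
  refine IsFractionRing.of_field φ.range K fun z => ?_
  obtain ⟨a, b, -, rfl⟩ := IsFractionRing.div_surjective (A := A₀) z
  have h : ∀ a : A₀, (a : K) ∈ φ.range := fun a => ⟨algebraMap _ _ a, by simp [φ]⟩
  exact ⟨⟨_, h a⟩, ⟨_, h b⟩, rfl⟩

/-- In characteristic p > 0, a field K that is finitely generated over its prime subfield F (a field
with p elements) is the fraction field of an integral scheme smooth over F; concretely, there is an
F-subalgebra A of K, of finite type and smooth over F, whose fraction field is K. -/
theorem result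
    (K : Type u) [Field K] (p : ℕ) [Fact p.Prime] [CharP K p] (s : Finset K)
    (hs : Subfield.closure (↑s : Set K) = ⊤) :
    ∃ A : Subalgebra (⊥ : Subfield K) K, Algebra.FiniteType (⊥ : Subfield K) A ∧
      Algebra.Smooth (⊥ : Subfield K) A ∧ IsFractionRing A K := by
  haveI := Groth.Agent.S4571.perfectField_bot K
  refine exists_smooth_model (⊥ : Subfield K) K (Algebra.adjoin _ (s : Set K)) ⟨s, rfl⟩ ?_
  rw [eq_top_iff]
  intro z _
  have hz : z ∈ Subfield.closure (↑s : Set K) := hs ▸ trivial
  have hle : Subfield.closure (↑s : Set K) ≤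
      (IntermediateField.adjoin (⊥ : Subfield K) ((Algebra.adjoin (⊥ : Subfield K) (s : Set K)) : Set K)).toSubfield :=
    Subfield.closure_le.2 fun x hx => IntermediateField.subset_adjoin _ _ (Algebra.subset_adjoin hx)
  exact hle hz

end Groth.Agent.S14732
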