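import Groth.Statements.S14733
import Groth.Agent.S4932

set_option autoImplicit false
set_option backward.isDefEq.respectTransparency false
set_option backward.isDefEq.respectTransparency.types false
open CategoryTheory AlgebraicGeometry
universe u
open ValPrufer

namespace Groth.Agent.S14733

/-- Let R be a Prüfer domain (an integral domain whose localisations at primes are valuation rings), X
an irreducible scheme and f : X ⟶ Spec R a dominant morphism of finite type. If the fibre of f over
a point γ of Spec R is nonempty, then it has the same dimension as the fibre over the generic point. -/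
theorem result
    (R : Type u) [CommRing R] [IsDomain R]
    (hR : ∀ (p : Ideal R) [p.IsPrime], ValuationRing (Localization.AtPrime p))
    (X : Scheme.{u}) [IrreducibleSpace X] (f : X ⟶ Spec (CommRingCat.of R))
    [LocallyOfFiniteType f] [QuasiCompact f] [IsDominant f] (γ : Spec (CommRingCat.of R))
    (h0 : Nonempty ↥(f.fiber γ)) :
    topologicalKrullDim ↥(f.fiber γ) =
      topologicalKrullDim ↥(f.fiber (genericPoint (Spec (CommRingCat.of R)))) := by
  let p := γ.asIdeal
  let V := Localization.AtPrime p
  haveI : ValuationRing V := hR p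
  haveI : IsDomain V := IsLocalization.isDomain_localization p.primeCompl_le_nonZeroDivisors
  let i : Spec (CommRingCat.of V) ⟶ Spec (CommRingCat.of R) := Spec.map (CommRingCat.ofHom (algebraMap R V))
  haveI : IsPreimmersion i := IsPreimmersion.of_isLocalization p.primeCompl
  let X' := Limits.pullback f i
  let f' : X' ⟶ Spec (CommRingCat.of V) := Limits.pullback.snd f i
  let e : X' ⟶ X := Limits.pullback.fst f i
  haveI : IsPreimmersion e := MorphismProperty.pullback_fst _ _ inferInstance
  have hγ : i (IsLocalRing.closedPoint V) = γ := PrimeSpectrum.ext (Localization.AtPrime.under_maximalIdeal (I := p))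
  let η : ↥(Spec (CommRingCat.of R)) := (⟨⊥, Ideal.isPrime_bot⟩ : PrimeSpectrum R)
  let η' : ↥(Spec (CommRingCat.of V)) := (⟨⊥, Ideal.isPrime_bot⟩ : PrimeSpectrum V)
  have hgen : ∀ {A : Type u} [CommRing A] [IsDomain A],
      genericPoint (Spec (CommRingCat.of A)) = (⟨⊥, Ideal.isPrime_bot⟩ : PrimeSpectrum A) := fun {A} _ _ => by
    exact ((genericPoint_specializes _).antisymm
      ((PrimeSpectrum.le_iff_specializes _ _).1 (show (⊥ : Ideal A) ≤ _ from bot_le))).eq
  have hi : i η' = η := PrimeSpectrum.ext (Ideal.comap_bot_of_injective _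
    (IsLocalization.injective V p.primeCompl_le_nonZeroDivisors))
  have hξ : f (genericPoint X) = η := by
    rw [show η = genericPoint (Spec (CommRingCat.of R)) from (hgen (A := R)).symm]
    exact ((genericPoint_spec X).image f.continuous).eq (by
      rw [Set.image_univ, f.denseRange.closure_eq]; exact genericPoint_spec _)
  obtain ⟨ξ', hξ'e, hξ'f⟩ := Scheme.Pullback.exists_preimage_pullback (f := f) (g := i) (genericPoint X) η' (hξ.trans hi.symm)
  have hspec : ∀ z : X', ξ' ⤳ z := fun z => e.isEmbedding.specializes_iff.1 (by
    rw [show e ξ' = genericPoint X from hξ'e]; exact genericPoint_specializes _)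
  haveI : IrreducibleSpace X' := by
    have hu : IsGenericPoint ξ' (Set.univ : Set X') :=
      isGenericPoint_iff_specializes.2 fun z => iff_of_true (hspec z) trivial
    exact irreducibleSpace_def _ |>.2 hu.isIrreducible
  haveI : IsDominant f' := ⟨fun z => by
    refine closure_mono (Set.singleton_subset_iff.2 (show η' ∈ Set.range f' from ⟨ξ', hξ'f⟩)) (specializes_iff_mem_closure.1 ?_)
    exact (PrimeSpectrum.le_iff_specializes _ _).1 (show (⊥ : Ideal V) ≤ _ from bot_le)⟩
  have hfib : ∀ y, topologicalKrullDim ↥(f'.fiber y) = topologicalKrullDim ↥(f.fiber (i y)) := by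
    intro y
    haveI : IsIso (i.residueFieldMap y) := by
      refine (ConcreteCategory.isIso_iff_bijective _).2 ⟨RingHom.injective (i.residueFieldMap y).hom, ?_⟩
      intro x
      obtain ⟨a, rfl⟩ := IsLocalRing.residue_surjective x
      obtain ⟨b, rfl⟩ := i.stalkMap_surjective y a
      exact ⟨IsLocalRing.residue _ b, rfl⟩
    have h := isPullback_fiberToSpecResidueField_of_isPullback (IsPullback.of_hasPullback f i) y
    haveI := h.isIso_fst_of_isIso
    exact IsHomeomorph.topologicalKrullDim_eq _ (Scheme.homeoOfIso (asIso (Limits.pullback.map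
      f' ((Spec (CommRingCat.of V)).fromSpecResidueField y) f ((Spec (CommRingCat.of R)).fromSpecResidueField (i y))
      e (Spec.map (i.residueFieldMap y)) i (IsPullback.of_hasPullback f i).w.symm (Scheme.Hom.SpecMap_residueFieldMap_fromSpecResidueField i y).symm))).isHomeomorph
  have h1 : Nonempty ↥(f'.fiber (IsLocalRing.closedPoint V)) := by
    obtain ⟨z⟩ := h0
    obtain ⟨z', -, hz'⟩ := Scheme.Pullback.exists_preimage_pullback (f := f) (g := i) (f.fiberι γ z)
      (IsLocalRing.closedPoint V) (((f.range_fiberι γ).le ⟨z, rfl⟩).trans hγ.symm)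
    exact ⟨(f'.fiberHomeo _).symm ⟨z', hz'⟩⟩
  have h := S4932.result f' h1
  rw [hfib, hfib, hγ, hgen (A := V), hi] at h
  rw [hgen (A := R)]
  exact h

end Groth.Agent.S14733
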