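import Groth.Statements.S14737
import Groth.Agent.GlueTorsLib.Main
import Groth.Agent.GlueTorsLib.Pseudo
import Groth.Agent.MultBridge.Chart
import Groth.Agent.RegLocal.Completion
import Groth.Agent.RegLocal.Basic

set_option autoImplicit false
universe u
open CategoryTheory MonoidalCategory CartesianMonoidalCategory MonObj AlgebraicGeometry
open ValPrufer
open scoped TensorProduct

set_option linter.style.haveILetI false
set_option backward.isDefEq.respectTransparency false
set_option backward.isDefEq.respectTransparency.types false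
set_option maxHeartbeats 1000000
set_option synthInstance.maxHeartbeats 200000

noncomputable local instance braidedAlgSpec14737 (R : Type u) [CommRing R] :
    (algSpec (CommRingCat.of R)).Braided :=
  braidedAlgSpec

namespace Groth.Agent.S14737

open Groth.Agent

/-- Every morphism of affine schemes over the base comes from an algebra map. -/
theorem exists_pt {R : Type u} [CommRing R] {P T : Type u} [CommRing P] [Algebra R P] [CommRing T] [Algebra R T]
    (f : CoactBr.sp R T ⟶ CoactBr.sp R P) : ∃ φ : P →ₐ[R] T, CoactBr.pt φ = f := by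
  have h : CommRingCat.ofHom (algebraMap R P) ≫ Spec.preimage f.left = CommRingCat.ofHom (algebraMap R T) :=
    Spec.map_injective (by rw [Spec.map_comp, Spec.map_preimage]; exact Over.w f)
  refine ⟨AlgHom.mk (Spec.preimage f.left).hom fun c => congrArg (fun φ => φ.hom c) h, ?_⟩
  apply Over.OverMorphism.ext
  rw [CoactBr.pt_left]
  exact Spec.map_preimage f.left

/-- The restricted action of a torsor along an isomorphism of groups. -/
theorem isPseudoTorsor_restrict' {S : Scheme.{u}} {H G X : Over S} [GrpObj H] [GrpObj G]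
    (a : AlgGrp.Action G X) (ha : NonAbH1.IsPseudoTorsorSch a) (φ : H ⟶ G) [IsMonHom φ] [IsIso φ] :
    NonAbH1.IsPseudoTorsorSch (a.restrict φ) := by
  haveI : IsIso (lift a.act (snd G X)) := ha
  have e : lift (a.restrict φ).act (snd H X) = (φ ▷ X) ≫ lift a.act (snd G X) := by
    rw [AlgGrp.Action.restrict_act, comp_lift, whiskerRight_snd]
  show IsIso _
  rw [e]
  infer_instance

theorem awayMap_algebraMap {R B : Type u} [CommRing R] [CommRing B] [Algebra R B] (r c : R) :
    Localization.awayMap (algebraMap R B) r (algebraMap R (Localization.Away r) c) =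
      algebraMap R (Localization.Away (algebraMap R B r)) c :=
  (IsLocalization.map_eq _ c).trans (IsScalarTower.algebraMap_apply R B _ c).symm

/-- Elements of a completion are congruent to elements of the ring. -/
theorem exists_congr {R : Type u} [CommRing R] (r : R) (n : ℕ) (b : AdicCompletion (Ideal.span {r}) R) :
    ∃ (c : R) (b' : AdicCompletion (Ideal.span {r}) R),
      b = algebraMap R (AdicCompletion (Ideal.span {r}) R) c + r ^ n • b' := by
  obtain ⟨c, hc⟩ := Submodule.Quotient.mk_surjective _ (AdicCompletion.eval (Ideal.span {r}) R n b)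
  have h : b - algebraMap R (AdicCompletion (Ideal.span {r}) R) c ∈
      (Ideal.span {r}) ^ n • (⊤ : Submodule R (AdicCompletion (Ideal.span {r}) R)) := by
    rw [AdicCompletion.pow_smul_top_eq_ker_eval ⟨{r}, by simp⟩, LinearMap.mem_ker, map_sub, sub_eq_zero, ← hc]
    rfl
  rw [Ideal.span_singleton_pow, Submodule.ideal_span_singleton_smul] at h
  obtain ⟨b', -, hb'⟩ := h
  exact ⟨c, b', eq_add_of_sub_eq' hb'.symm⟩

/-- Let R be a regular local ring with fraction field K, r ∈ R, R̂ the r-adic completion of R, and G a
reductive R-group scheme. Assume the Grothendieck–Serre statement for R and G: every G-torsor for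
the fppf topology over Spec R that has a K-point has a section. Then G(R̂[1/r]) = G(R̂) · G(R[1/r]):
every point g of G over R̂[1/r] is the product, in the group of R̂[1/r]-points, of the restriction
of an R̂-point g₂ and the restriction of an R[1/r]-point g₁; the product is written through the pair
morphism h = (g₂, g₁) into G ×_R G followed by the multiplication of G. (The published statement is
the implication from the Grothendieck–Serre conjecture; only its instance for this R and this G
enters the proof, so that instance is the hypothesis here.) -/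
theorem result (R : Type u) [CommRing R] [IsRegularLocalRing R] (r : R)
    (G : Over (Spec (CommRingCat.of R))) [GrpObj G] (hG : Red.IsReductive G)
    (hGS : ∀ (X : Over (Spec (CommRingCat.of R))) (a : AlgGrp.Action G X),
      NonAbH1.IsTorsorFor Scheme.fppfPrecoverage a →
      NonAbH1.HasSectionOver X (Spec.map (CommRingCat.ofHom (algebraMap R (FractionRing R)))) →
      NonAbH1.HasSectionOver X (𝟙 (Spec (CommRingCat.of R))))
    (g : Spec (CommRingCat.of (Localization.Away
            (algebraMap R (AdicCompletion (Ideal.span {r}) R) r))) ⟶ G.left)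
    (hg : g ≫ G.hom = Spec.map (CommRingCat.ofHom (algebraMap R (Localization.Away
            (algebraMap R (AdicCompletion (Ideal.span {r}) R) r))))) :
    ∃ (g₁ : Spec (CommRingCat.of (Localization.Away r)) ⟶ G.left)
      (g₂ : Spec (CommRingCat.of (AdicCompletion (Ideal.span {r}) R)) ⟶ G.left)
      (h : Spec (CommRingCat.of (Localization.Away
            (algebraMap R (AdicCompletion (Ideal.span {r}) R) r))) ⟶ (G ⊗ G).left),
      g₁ ≫ G.hom = Spec.map (CommRingCat.ofHom (algebraMap R (Localization.Away r))) ∧
      g₂ ≫ G.hom = Spec.map (CommRingCat.ofHom (algebraMap R (AdicCompletion (Ideal.span {r}) R))) ∧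
      h ≫ (fst G G).left = Spec.map (CommRingCat.ofHom (algebraMap (AdicCompletion (Ideal.span {r}) R)
                (Localization.Away (algebraMap R (AdicCompletion (Ideal.span {r}) R) r)))) ≫ g₂ ∧
      h ≫ (snd G G).left = Spec.map (CommRingCat.ofHom (Localization.awayMap
                (algebraMap R (AdicCompletion (Ideal.span {r}) R)) r)) ≫ g₁ ∧
      g = h ≫ (μ[G]).left := by
  classical
  let B := AdicCompletion (Ideal.span {r}) R
  let A := Localization.Away r
  let C := Localization.Away (algebraMap R B r)
  letI : Algebra A C := (Localization.awayMap (algebraMap R B) r).toAlgebra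
  haveI : IsScalarTower R A C := IsScalarTower.of_algebraMap_eq fun c =>
    (awayMap_algebraMap (B := B) r c).symm
  let gC : CoactBr.sp R C ⟶ G := Over.homMk g hg
  by_cases hC : Subsingleton C
  · haveI : IsEmpty ↥(Spec (CommRingCat.of C)) := inferInstanceAs (IsEmpty (PrimeSpectrum C))
    refine ⟨(1 : CoactBr.sp R A ⟶ G).left, (1 : CoactBr.sp R B ⟶ G).left,
      (lift (1 : CoactBr.sp R C ⟶ G) (1 : CoactBr.sp R C ⟶ G)).left,
      Over.w (1 : CoactBr.sp R A ⟶ G), Over.w (1 : CoactBr.sp R B ⟶ G), ?_, ?_, ?_⟩
    all_goals exact isInitialOfIsEmpty.hom_ext _ _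
  haveI := RegLocal.isDomain (R := R)
  have hr0 : r ≠ 0 := by
    rintro rfl
    refine hC (IsLocalization.subsingleton (M := Submonoid.powers (algebraMap R B 0)) ⟨1, by simp⟩)
  have hI : Ideal.span {r} ≠ ⊤ := by
    intro hI
    haveI : Subsingleton B := by
      refine ⟨fun a b => AdicCompletion.ext fun n => ?_⟩
      haveI : Subsingleton (R ⧸ (Ideal.span {r} ^ n • ⊤ : Submodule R R)) := by
        refine Submodule.Quotient.subsingleton_iff.2 ?_
        rw [hI, Ideal.top_pow, Submodule.top_smul]
      exact Subsingleton.elim _ _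
    exact hC (IsLocalization.subsingleton (M := Submonoid.powers (algebraMap R B r))
      ⟨0, Subsingleton.elim _ _⟩)
  haveI : Module.FaithfullyFlat R B := RegLocal.faithfullyFlat_completion R _ hI
  have hreg : IsSMulRegular B r := by
    have h : IsSMulRegular B (algebraMap R B r) := IsSMulRegular.of_flat (IsRegular.of_ne_zero hr0).left.isSMulRegular
    intro x y hxy
    exact h (by simpa [Algebra.smul_def] using hxy)
  haveI : IsAffineHom G.hom := hG.1
  obtain ⟨O, _, _, ⟨e⟩⟩ := MultBridge.exists_hopf R G
  have hOsm : Algebra.Smooth R O := by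
    have h := MultBridge.prop_algebraMap e @Smooth hG.2.1
    rw [HasRingHomProperty.Spec_iff (P := @Smooth)] at h
    exact RingHom.smooth_algebraMap.1 h
  haveI : Module.Flat R O := Algebra.Smooth.flat R O
  haveI : Algebra.FinitePresentation R O := Algebra.Smooth.finitePresentation
  let φ : G ⟶ CoactBr.sp R O := e.inv.hom.hom
  let ψ : CoactBr.sp R O ⟶ G := e.hom.hom.hom
  haveI : IsMonHom φ := inferInstanceAs (IsMonHom e.inv.hom.hom)
  haveI : IsMonHom ψ := inferInstanceAs (IsMonHom e.hom.hom.hom)
  haveI : IsIso φ := inferInstanceAs (IsIso ((Grp.forget _).map e.inv))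
  have hφψ : φ ≫ ψ = 𝟙 G := congrArg (fun f => f.hom.hom) e.inv_hom_id
  obtain ⟨x, hx⟩ := exists_pt (gC ≫ φ)
  have hsec : ∀ (P : Type u) (_ : CommRing P) (_ : Algebra R P) (_ : HopfRep.Comod R O P)
      (_ : GLin.IsCoactAlg R O P), Module.Flat R P → Algebra.FinitePresentation R P →
      Function.Surjective (PrimeSpectrum.comap (algebraMap R P)) →
      Function.Bijective (Algebra.TensorProduct.lift (GLin.coactAlgHom R O P)
        (Algebra.TensorProduct.includeLeft : P →ₐ[R] P ⊗[R] O) fun _ _ => .all _ _) →
      Nonempty (P →ₐ[R] A) → Nonempty (P →ₐ[R] R) := by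
    rintro P _ _ _ _ hfl hfp hs hgal ⟨π⟩
    obtain ⟨s, hs'⟩ := hGS (CoactBr.sp R P) ((CoactBr.action R O P).restrict φ)
      ⟨isPseudoTorsor_restrict' _ (GlueTors.isPseudoTorsor_action R O P hgal) φ,
        GlueTors.isLocallyTrivial_spec R P hs⟩ (by
        have hu : IsUnit (algebraMap R (FractionRing R) r) :=
          (IsFractionRing.to_map_ne_zero_of_mem_nonZeroDivisors (mem_nonZeroDivisors_of_ne_zero hr0)).isUnit
        let L : A →ₐ[R] FractionRing R :=
          AlgHom.mk (IsLocalization.Away.lift r hu) fun c => IsLocalization.Away.lift_eq _ _ c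
        exact ⟨(CoactBr.pt (L.comp π)).left, Over.w (CoactBr.pt (L.comp π))⟩)
    let sR : CoactBr.sp R R ⟶ CoactBr.sp R P := Over.homMk s (hs'.trans (Spec.map_id _).symm)
    obtain ⟨σ, -⟩ := exists_pt sR
    exact ⟨σ⟩
  obtain ⟨xA, xB, hconv⟩ := GlueTors.exists_factor_of_sections (A := A) (C := C) r hreg (exists_congr r) x hsec
  let zA : O →ₐ[R] A := xA.comp (HopfAlgebra.antipodeAlgHom R O)
  let tA : A →ₐ[R] C := IsScalarTower.toAlgHom R A C
  let tB : B →ₐ[R] C := IsScalarTower.toAlgHom R B C
  have hprod : CoactBr.pt x = CoactBr.pt (tB.comp xB) * CoactBr.pt (tA.comp zA) := by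
    have h1 : CoactBr.pt x * CoactBr.pt (tA.comp xA) = CoactBr.pt (tB.comp xB) := by
      rw [CoactBr.pt_mul_pt]
      exact congrArg _ hconv
    rw [← h1, show CoactBr.pt (tA.comp zA) = (CoactBr.pt (tA.comp xA))⁻¹ by rw [CoactBr.pt_inv]; rfl,
      mul_inv_cancel_right]
  refine ⟨(CoactBr.pt zA ≫ ψ).left, (CoactBr.pt xB ≫ ψ).left,
    (lift (CoactBr.pt (tB.comp xB) ≫ ψ) (CoactBr.pt (tA.comp zA) ≫ ψ)).left,
    Over.w (CoactBr.pt zA ≫ ψ), Over.w (CoactBr.pt xB ≫ ψ), ?_, ?_, ?_⟩
  · rw [← Over.comp_left, lift_fst, CoactBr.pt_comp, Category.assoc, Over.comp_left]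
    rfl
  · rw [← Over.comp_left, lift_snd, CoactBr.pt_comp, Category.assoc, Over.comp_left]
    rfl
  · have h : gC = lift (CoactBr.pt (tB.comp xB) ≫ ψ) (CoactBr.pt (tA.comp zA) ≫ ψ) ≫ μ := by
      rw [← Hom.mul_def, ← MonObj.mul_comp, ← hprod, hx, Category.assoc, hφψ, Category.comp_id]
    exact congrArg Over.Hom.left h

end Groth.Agent.S14737
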