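import Groth.Statements.S14738
import Mathlib

set_option autoImplicit false
universe u
open ValPrufer

namespace Groth.Agent.S14738

/-- Let R be a semilocal Prüfer domain (an integral domain with finitely many maximal ideals whose
localisations at primes are valuation rings) of finite Krull dimension, and m a maximal ideal of R.
Then there is a ∈ R with V(a) = {m}, i.e. m is the only prime ideal containing a, and there is b ∉ m
such that R[1/b] is the localisation R_m (every element outside m becomes invertible after inverting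
b); consequently the spectra of the local rings R_m form a Zariski open covering of Spec R. (The
published remark assumes positive Krull dimension to construct a; for R a field the assertions hold
with a = 0 and b = 1. It also takes b to be the product of the elements a_n chosen in the same way
for the other maximal ideals n; that choice fails as soon as a non-maximal prime lies in another
maximal ideal but not in m, e.g. for the intersection of two independent rank-two valuation rings of
a field, so this row asserts only that some such b exists.) -/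
theorem result
    (R : Type u) [CommRing R] [IsDomain R]
    (hR : ∀ (p : Ideal R) [p.IsPrime], ValuationRing (Localization.AtPrime p))
    (hfin : Finite (MaximalSpectrum R)) (hdim : ringKrullDim R < ⊤)
    (m : Ideal R) [m.IsMaximal] :
    (∃ a : R, ∀ (p : Ideal R), p.IsPrime → (a ∈ p ↔ p = m)) ∧
      ∃ b : R, b ∉ m ∧ IsLocalization.AtPrime (Localization.Away b) m := by
  classical
  obtain ⟨d, hd⟩ : ∃ d : ℕ, ringKrullDim R ≤ (d : WithBot ℕ∞) := by
    have hb : ringKrullDim R ≠ ⊥ := fun h => by
      have := ringKrullDim_nonneg_of_nontrivial (R := R); rw [h] at this; simp at this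
    obtain ⟨x, hx⟩ := WithBot.ne_bot_iff_exists.1 hb
    rw [← hx] at hdim ⊢
    have hxt : x ≠ ⊤ := by rintro rfl; exact lt_irrefl _ hdim
    obtain ⟨n, rfl⟩ := ENat.ne_top_iff_exists.1 hxt
    exact ⟨n, le_rfl⟩
  have hhd : ∀ p : Ideal R, p.IsPrime → p.height ≤ d := by
    intro p hp
    haveI := hp
    have : (p.height : WithBot ℕ∞) ≤ (d : WithBot ℕ∞) := (Ideal.height_le_ringKrullDim_of_isPrime (I := p)).trans hd
    exact WithBot.coe_le_coe.1 this
  have hfh : ∀ p : Ideal R, p.IsPrime → p.FiniteHeight := fun p hp => ⟨Or.inr fun h => by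
    have := hhd p hp; rw [h] at this; simp at this⟩
  have hchain : ∀ M : Ideal R, M.IsMaximal → ∀ p q : Ideal R, p.IsPrime → q.IsPrime → p ≤ M → q ≤ M → p ≤ q ∨ q ≤ p := by
    intro M hM p q hp hq hpM hqM
    haveI := hM.isPrime
    haveI := hR M
    set L := Localization.AtPrime M
    have hdp : Disjoint (M.primeCompl : Set R) p := Set.disjoint_left.2 fun x hx hxp => hx (hpM hxp)
    have hdq : Disjoint (M.primeCompl : Set R) q := Set.disjoint_left.2 fun x hx hxq => hx (hqM hxq)
    have h1 := IsLocalization.comap_map_of_isPrime_disjoint M.primeCompl L hp hdp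
    have h2 := IsLocalization.comap_map_of_isPrime_disjoint M.primeCompl L hq hdq
    rcases (ValuationRing.iff_ideal_total.1 ‹ValuationRing L›).total (p.map (algebraMap R L)) (q.map (algebraMap R L)) with h | h
    · left
      have := Ideal.comap_mono (f := algebraMap R L) h
      simp only [Ideal.under] at h1 h2
      rwa [h1, h2] at this
    · right
      have := Ideal.comap_mono (f := algebraMap R L) h
      simp only [Ideal.under] at h1 h2
      rwa [h1, h2] at this
  haveI : Finite (PrimeSpectrum R) := by
    choose M hM hpM using fun p : PrimeSpectrum R => p.asIdeal.exists_le_maximal p.isPrime.ne_top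
    let F : PrimeSpectrum R → MaximalSpectrum R × Fin (d + 1) := fun p =>
      (⟨M p, hM p⟩, ⟨p.asIdeal.height.toNat, Nat.lt_succ_of_le (ENat.toNat_le_of_le_coe (hhd _ p.isPrime))⟩)
    refine Finite.of_injective F fun p q h => ?_
    simp only [F, Prod.mk.injEq, MaximalSpectrum.mk.injEq, Fin.mk.injEq] at h
    have hne : ∀ r : PrimeSpectrum R, r.asIdeal.height ≠ ⊤ := fun r h => by
      have := hhd _ r.isPrime; rw [h] at this; simp at this
    have hh : p.asIdeal.height = q.asIdeal.height := by
      rw [← ENat.coe_toNat (hne p), ← ENat.coe_toNat (hne q), h.2]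
    haveI := p.isPrime
    haveI := q.isPrime
    haveI := hfh _ p.isPrime
    haveI := hfh _ q.isPrime
    refine PrimeSpectrum.ext ?_
    rcases hchain (M p) (hM p) _ _ p.isPrime q.isPrime (hpM p) (h.1 ▸ hpM q) with hle | hle
    · by_contra hneq
      exact (Ideal.height_strict_mono_of_isPrime_of_isPrime (lt_of_le_of_ne hle hneq)).ne hh
    · by_contra hneq
      exact (Ideal.height_strict_mono_of_isPrime_of_isPrime (lt_of_le_of_ne hle (Ne.symm hneq))).ne hh.symm
  haveI := Fintype.ofFinite (PrimeSpectrum R)
  refine ⟨?_, ?_⟩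
  · by_contra hno
    push Not at hno
    have hsub : (m : Set R) ⊆ ⋃ i ∈ ((Finset.univ.filter fun P : PrimeSpectrum R => P.asIdeal ≠ m) : Set (PrimeSpectrum R)), i.asIdeal := by
      intro a ha
      obtain ⟨p, hp, hcase⟩ := hno a
      rcases hcase with ⟨hap, hne⟩ | ⟨hap, rfl⟩
      · exact Set.mem_iUnion₂_of_mem (i := (⟨p, hp⟩ : PrimeSpectrum R)) (by simp [hne]) hap
      · exact absurd ha hap
    obtain ⟨P, hP, hle⟩ := (Ideal.subset_union_prime (⟨m, inferInstance⟩ : PrimeSpectrum R) ⟨m, inferInstance⟩
      (fun i _ _ _ => i.isPrime)).1 hsub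
    simp only [Finset.mem_filter, Finset.mem_univ, true_and] at hP
    exact hP ((‹m.IsMaximal›).eq_of_le P.isPrime.ne_top hle).symm
  · have hex : ∀ P : PrimeSpectrum R, ∃ x : R, x ∉ m ∧ (¬ P.asIdeal ≤ m → x ∈ P.asIdeal) := by
      intro P
      by_cases h : P.asIdeal ≤ m
      · exact ⟨1, fun h1 => (‹m.IsMaximal›).ne_top ((Ideal.eq_top_iff_one m).2 h1), fun h' => absurd h h'⟩
      · obtain ⟨x, hx, hxm⟩ := SetLike.not_le_iff_exists.1 h
        exact ⟨x, hxm, fun _ => hx⟩
    choose x hxm hxP using hex
    set b := ∏ P, x P with hb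
    have hbm : b ∉ m := by
      rw [hb, Ideal.IsPrime.prod_mem_iff]
      rintro ⟨P, -, hP⟩
      exact hxm P hP
    refine ⟨b, hbm, ?_⟩
    refine (IsLocalization.iff_of_le_of_exists_dvd (M := Submonoid.powers b) (S := Localization.Away b) m.primeCompl ?_ ?_).1 inferInstance
    · exact Submonoid.powers_le.2 hbm
    · intro r hr
      have : b ∈ (Ideal.span {r}).radical := by
        rw [Ideal.radical_eq_sInf, Ideal.mem_sInf]
        rintro P ⟨hrP, hP⟩
        rw [hb]
        haveI := hP
        rw [Ideal.IsPrime.prod_mem_iff]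
        refine ⟨⟨P, hP⟩, Finset.mem_univ _, hxP ⟨P, hP⟩ fun hle => hr (hle (hrP (Ideal.mem_span_singleton_self r)))⟩
      obtain ⟨n, hn⟩ := this
      exact ⟨b ^ n, ⟨n, rfl⟩, Ideal.mem_span_singleton.1 hn⟩

end Groth.Agent.S14738
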