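import Groth.Statements.S14739
import Mathlib

set_option autoImplicit false
universe u
open ValPrufer

namespace Groth.Agent.S14739

open TopologicalSpace

theorem finite_spec {R : Type u} [CommRing R] [IsDomain R]
    (hR : ∀ (p : Ideal R) [p.IsPrime], ValuationRing (Localization.AtPrime p))
    (hfin : Finite (MaximalSpectrum R)) (hdim : ringKrullDim R < ⊤) : Finite (PrimeSpectrum R) := by
  have hm : ∀ p : PrimeSpectrum R, ∃ m : MaximalSpectrum R, p.asIdeal ≤ m.asIdeal := fun p => by
    obtain ⟨m, hm, hle⟩ := Ideal.exists_le_maximal p.asIdeal p.isPrime.ne_top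
    exact ⟨⟨m, hm⟩, hle⟩
  choose μ hμ using hm
  obtain ⟨d, hd⟩ : ∃ d : ℕ, ∀ p : PrimeSpectrum R, Order.height p ≤ d := by
    obtain ⟨n, hn⟩ : ∃ n : ℕ, ringKrullDim R ≤ ((n : ℕ∞) : WithBot ℕ∞) := by
      generalize ringKrullDim R = z at hdim
      induction z using WithBot.recBotCoe with
      | bot => exact ⟨0, bot_le⟩
      | coe a => exact ⟨a.toNat, le_of_eq (congrArg _ (ENat.coe_toNat (fun h => by simp [h] at hdim)).symm)⟩
    exact ⟨n, fun p => WithBot.coe_le_coe.1 ((Order.height_le_krullDim p).trans hn)⟩
  have hf : ∀ p : PrimeSpectrum R, Order.height p < ⊤ := fun p => lt_of_le_of_lt (hd p) (ENat.natCast_lt_top d)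
  refine Finite.of_injective (fun p => (μ p, (⟨(Order.height p).toNat, by
    have := ENat.toNat_le_toNat (hd p) (by simp)
    simpa using Nat.lt_succ_of_le this⟩ : Fin (d + 1)))) ?_
  intro p q h
  simp only [Prod.mk.injEq, Fin.mk.injEq] at h
  have hh : Order.height p = Order.height q := by
    rw [← ENat.coe_toNat (hf p).ne, ← ENat.coe_toNat (hf q).ne, h.2]
  haveI := (μ p).isMaximal.isPrime
  have tot : p.asIdeal ≤ q.asIdeal ∨ q.asIdeal ≤ p.asIdeal := by
    have hp := hμ p
    have hq : q.asIdeal ≤ (μ p).asIdeal := h.1 ▸ hμ q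
    haveI hv : ValuationRing (Localization.AtPrime (μ p).asIdeal) := hR _
    let o := IsLocalization.AtPrime.orderIsoOfPrime (Localization.AtPrime (μ p).asIdeal) (μ p).asIdeal
    rcases (ValuationRing.le_total_ideal (A := Localization.AtPrime (μ p).asIdeal)).total (o.symm ⟨p.asIdeal, p.isPrime, hp⟩).1 (o.symm ⟨q.asIdeal, q.isPrime, hq⟩).1 with hle | hle
    · exact Or.inl (o.symm.le_iff_le.1 hle)
    · exact Or.inr (o.symm.le_iff_le.1 hle)
  rcases tot with hle | hle
  · exact ((lt_or_eq_of_le (show p ≤ q from hle)).resolve_left fun hlt => (Order.height_strictMono hlt (hf p)).ne hh)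
  · exact ((lt_or_eq_of_le (show q ≤ p from hle)).resolve_left fun hlt => (Order.height_strictMono hlt (hf q)).ne hh.symm).symm

/-- Let R be a semilocal Prüfer domain (an integral domain with finitely many maximal ideals whose
localisations at primes are valuation rings) of finite Krull dimension and S an R-algebra of finite
type. Then Spec S is a Noetherian topological space, and so is Spec T for every localisation T of S.
(The published remark is for a scheme of finite type over R and the spectrum of any
semilocalisation; the affine case with arbitrary localisations is stated.) -/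
theorem result
    (R : Type u) [CommRing R] [IsDomain R]
    (hR : ∀ (p : Ideal R) [p.IsPrime], ValuationRing (Localization.AtPrime p))
    (hfin : Finite (MaximalSpectrum R)) (hdim : ringKrullDim R < ⊤)
    (S : Type u) [CommRing S] [Algebra R S] [Algebra.FiniteType R S]
    (M : Submonoid S) (T : Type u) [CommRing T] [Algebra S T] [IsLocalization M T] :
    TopologicalSpace.NoetherianSpace (PrimeSpectrum S) ∧
      TopologicalSpace.NoetherianSpace (PrimeSpectrum T) := by
  haveI := finite_spec hR hfin hdim
  have hS : NoetherianSpace (PrimeSpectrum S) := by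
    rw [← noetherian_univ_iff]
    have hU : (Set.univ : Set (PrimeSpectrum S)) = ⋃ p : PrimeSpectrum R, PrimeSpectrum.comap (algebraMap R S) ⁻¹' {p} := by
      ext x; simp
    rw [hU]
    have : ∀ p : PrimeSpectrum R, NoetherianSpace ↥(PrimeSpectrum.comap (algebraMap R S) ⁻¹' {p}) := by
      intro p
      haveI : IsNoetherianRing (p.asIdeal.Fiber S) := Algebra.FiniteType.isNoetherianRing p.asIdeal.ResidueField _
      exact (noetherianSpace_iff_of_homeomorph (PrimeSpectrum.preimageHomeomorphFiber R S p)).2 inferInstance
    exact NoetherianSpace.iUnion _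
  refine ⟨hS, ?_⟩
  exact (PrimeSpectrum.localization_comap_isEmbedding T M).isInducing.noetherianSpace

end Groth.Agent.S14739
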