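import Groth.Statements.S14742
import Groth.Agent.RGFlatLib.Domain
import Mathlib.RingTheory.Flat.TorsionFree

set_option autoImplicit false
universe u
open ValPrufer

namespace Groth.Agent.S14742

set_option maxHeartbeats 1000000

/-- Let R be a Prüfer domain (an integral domain whose localisations at primes are valuation rings) and
A a finitely presented R-algebra. Then A is a coherent ring: every finitely generated ideal I of A
is finitely presented as an A-module. -/
theorem result
    (R : Type u) [CommRing R] [IsDomain R]
    (hR : ∀ (p : Ideal R) [p.IsPrime], ValuationRing (Localization.AtPrime p))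
    (A : Type u) [CommRing A] [Algebra R A] [Algebra.FinitePresentation R A]
    (I : Ideal A) (hI : I.FG) : Module.FinitePresentation A I := by
  classical
  obtain ⟨n, π, hπ, hker⟩ := Algebra.FinitePresentation.out (R := R) (A := A)
  letI : Algebra (MvPolynomial (Fin n) R) A := π.toRingHom.toAlgebra
  haveI : IsScalarTower R (MvPolynomial (Fin n) R) A := IsScalarTower.of_algebraMap_eq fun r => (π.commutes r).symm
  have hsurj : Function.Surjective (algebraMap (MvPolynomial (Fin n) R) A) := hπ
  haveI : Module.FinitePresentation (MvPolynomial (Fin n) R) A :=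
    Module.finitePresentation_of_surjective (Algebra.linearMap (MvPolynomial (Fin n) R) A) hsurj (by
      exact hker)
  -- the preimage
  let J : Ideal (MvPolynomial (Fin n) R) := I.comap (algebraMap (MvPolynomial (Fin n) R) A)
  have hJ : J.FG := by
    obtain ⟨s, hs⟩ := hI
    choose f hf using hsurj
    have h : J = Ideal.span ((s.image f : Finset _) : Set (MvPolynomial (Fin n) R)) ⊔
        RingHom.ker (algebraMap (MvPolynomial (Fin n) R) A) := by
      show Ideal.comap _ I = _
      have hmap : Ideal.map (algebraMap (MvPolynomial (Fin n) R) A)
          (Ideal.span ((s.image f : Finset _) : Set (MvPolynomial (Fin n) R))) = I := by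
        rw [Ideal.map_span, Finset.coe_image, Set.image_image, ← hs]
        simp [hf]
      conv_lhs => rw [← hmap]
      rw [Ideal.comap_map_of_surjective _ (fun x => ⟨f x, hf x⟩), RingHom.ker_eq_comap_bot]
    rw [h]
    exact Submodule.FG.sup ⟨_, rfl⟩ hker
  haveI : Module.Finite (MvPolynomial (Fin n) R) J := Module.Finite.iff_fg.mpr hJ
  haveI : Module.Flat R J := by
    rw [Module.Flat.flat_iff_torsion_eq_bot_of_valuationRing_localization_isMaximal (fun P _ => hR P),
      ← Submodule.isTorsionFree_iff_torsion_eq_bot]
    infer_instance
  haveI : Module.FinitePresentation (MvPolynomial (Fin n) R) J :=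
    Groth.Agent.RGFlatLib.finitePresentation_of_flat_isDomain (R := R)
  -- I over the polynomial ring
  let q : J →ₗ[MvPolynomial (Fin n) R] I :=
    { toFun := fun x => ⟨algebraMap (MvPolynomial (Fin n) R) A x.1, x.2⟩
      map_add' := fun x y => Subtype.ext (map_add _ _ _)
      map_smul' := fun r x => Subtype.ext (by
        simp [Algebra.smul_def, map_mul]) }
  have hq : Function.Surjective q := fun y => by
    obtain ⟨x, hx⟩ := hsurj y.1
    exact ⟨⟨x, by simpa [J, Ideal.mem_comap, hx] using y.2⟩, Subtype.ext hx⟩
  have hqk : (LinearMap.ker q).FG := by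
    have : (LinearMap.ker q).map J.subtype = RingHom.ker (algebraMap (MvPolynomial (Fin n) R) A) := by
      ext x
      constructor
      · rintro ⟨y, hy, rfl⟩
        exact congrArg Subtype.val (show q y = 0 from hy)
      · intro hx
        have hxJ : x ∈ J := by
          simp [J, Ideal.mem_comap, RingHom.mem_ker.mp hx]
        exact ⟨⟨x, hxJ⟩, Subtype.ext hx, rfl⟩
    exact Submodule.fg_of_fg_map_injective _ Subtype.val_injective (this ▸ hker)
  haveI : Module.FinitePresentation (MvPolynomial (Fin n) R) I :=
    Module.finitePresentation_of_surjective q hq hqk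
  haveI : Module.Finite A I := Module.Finite.iff_fg.mpr hI
  obtain ⟨m, g, hg⟩ := Module.Finite.exists_fin' A I
  refine Module.finitePresentation_of_surjective g hg ?_
  refine Submodule.FG.of_restrictScalars (MvPolynomial (Fin n) R) ?_
  rw [← LinearMap.ker_restrictScalars]
  exact Module.FinitePresentation.fg_ker (g.restrictScalars (MvPolynomial (Fin n) R)) hg

end Groth.Agent.S14742
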