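import Groth.Statements.S14743
import Groth.Agent.GrpEasyLib.Quot
-- import your own Groth.Agent.* helpers here

set_option autoImplicit false
set_option backward.isDefEq.respectTransparency false
universe u
open CategoryTheory MonoidalCategory CartesianMonoidalCategory MonObj GrpObj AlgebraicGeometry
open AlgGrp

namespace Groth.Agent.S14743

/-- Over an algebraically closed field k let L, G, B be commutative k-group schemes, i : L → G and π : G
→ B homomorphisms with i the kernel of π, and suppose that every k-morphism B × B → L is constant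
(factors through a k-point of L). If π admits a section which is a morphism of k-schemes, then it
admits a section which is a homomorphism, so the extension splits. (The published statement is for
algebraic groups, that is, of finite type over k; finiteness plays no role and is not assumed here.) -/
theorem result (k : Type u) [Field k] [IsAlgClosed k]
    (L G B : Over (Spec (CommRingCat.of k))) [GrpObj L] [GrpObj G] [GrpObj B]
    [IsCommMonObj L] [IsCommMonObj G] [IsCommMonObj B]
    (i : L ⟶ G) [IsMonHom i] (π : G ⟶ B) [IsMonHom π] (hker : AlgGrp.IsKernel i π)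
    (hconst : ∀ f : B ⊗ B ⟶ L, ∃ l : 𝟙_ (Over (Spec (CommRingCat.of k))) ⟶ L, f = toUnit (B ⊗ B) ≫ l)
    (s : B ⟶ G) (hs : s ≫ π = 𝟙 B) :
    ∃ s' : B ⟶ G, IsMonHom s' ∧ s' ≫ π = 𝟙 B := by
  let u : B ⊗ B ⟶ G := (fst B B ≫ s) * (snd B B ≫ s) * ((fst B B * snd B B) ≫ s)⁻¹
  have hu : u ≫ π = toUnit (B ⊗ B) ≫ η[B] := by
    simp only [u, MonObj.mul_comp, GrpObj.inv_comp, Category.assoc, hs, Category.comp_id]
    rw [mul_inv_cancel, Hom.one_def]
  let d := hker.lift u (toUnit (B ⊗ B)) hu
  have hd : d ≫ i = u := hker.lift_fst _ _ _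
  obtain ⟨l, hl⟩ := hconst d
  let c : 𝟙_ _ ⟶ G := l ≫ i
  have hc : ∀ (T : Over (Spec (CommRingCat.of k))) (a b : T ⟶ B),
      (a ≫ s) * (b ≫ s) = ((a * b) ≫ s) * (toUnit T ≫ c) := by
    intro T a b
    have h := congrArg (lift a b ≫ ·) (hd.symm.trans (by rw [hl, Category.assoc]))
    simp only [u, c, MonObj.comp_mul, GrpObj.comp_inv, lift_fst_assoc, lift_snd_assoc,
      comp_toUnit_assoc] at h
    rw [← Category.assoc (lift a b) (fst B B * snd B B) s, MonObj.comp_mul, lift_fst, lift_snd] at h
    rw [← h, mul_comm ((a * b) ≫ s), inv_mul_cancel_right]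
  have hcπ : c ≫ π = η[B] := by
    simp only [c, Category.assoc]
    rw [hker.w, ← Category.assoc, toUnit_unique (l ≫ toUnit L) (𝟙 _), Category.id_comp]
  refine ⟨s * (toUnit B ≫ c)⁻¹, ?_, ?_⟩
  · have key : ∀ (T : Over (Spec (CommRingCat.of k))) (a b : T ⟶ B),
        (a * b) ≫ (s * (toUnit B ≫ c)⁻¹) = (a ≫ (s * (toUnit B ≫ c)⁻¹)) * (b ≫ (s * (toUnit B ≫ c)⁻¹)) := by
      intro T a b
      simp only [MonObj.comp_mul, GrpObj.comp_inv, comp_toUnit_assoc]
      rw [_root_.mul_mul_mul_comm, hc, _root_.mul_assoc, ← _root_.mul_assoc (toUnit T ≫ c), mul_inv_cancel,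
        _root_.one_mul]
    constructor
    · have h := key (𝟙_ _) 1 1
      rw [_root_.one_mul] at h
      have h' := right_eq_mul.1 h
      rw [Hom.one_def, toUnit_unique (toUnit (𝟙_ (Over (Spec (CommRingCat.of k))))) (𝟙 _), Category.id_comp] at h'
      rw [h', Hom.one_def, toUnit_unique (toUnit (𝟙_ (Over (Spec (CommRingCat.of k))))) (𝟙 _), Category.id_comp]
    · have h := key (B ⊗ B) (fst B B) (snd B B)
      rw [Hom.mul_def, lift_fst_snd, Category.id_comp] at h
      rw [h, Hom.mul_def]
      congr 1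
  · rw [MonObj.mul_comp, GrpObj.inv_comp, hs, Category.assoc, hcπ, ← Hom.one_def, inv_one, _root_.mul_one]

end Groth.Agent.S14743
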