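import Groth.Statements.S14746
import Groth.Agent.S8088
-- import your own Groth.Agent.* helpers here

set_option autoImplicit false
set_option backward.isDefEq.respectTransparency false
set_option linter.style.haveILetI false
set_option maxHeartbeats 1600000
universe u
open CategoryTheory MonoidalCategory CartesianMonoidalCategory MonObj GrpObj AlgebraicGeometry CategoryTheory.Limits
open AlgGrp

namespace Groth.Agent.S14746

open Limits Topology S8088

variable {k : Type u} [Field k] [IsAlgClosed k] {H : Over (Spec (CommRingCat.of k))} [GrpObj H]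
  [Smooth H.hom] [ConnectedSpace ↥H.left] [IsAffine H.left]

/-- An endomorphism of the underlying scheme with one finite fibre has a dense image. -/
theorem exists_open_subset_range (f : H ⟶ H) (r₀ : 𝟙_ (Over (Spec (CommRingCat.of k))) ⟶ H)
    (hfin : Set.Finite {r : 𝟙_ (Over (Spec (CommRingCat.of k))) ⟶ H | r ≫ f = r₀ ≫ f}) :
    ∃ U : H.left.Opens, (U : Set ↥H.left).Nonempty ∧ (U : Set ↥H.left) ⊆ Set.range f.left := by
  let pt : ↥(Spec (CommRingCat.of k)) := IsLocalRing.closedPoint k
  haveI : LocallyOfFiniteType H.hom := inferInstance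
  haveI : QuasiCompact H.hom := inferInstance
  haveI : IrreducibleSpace H.left := GrpSchLib.irreducibleSpace_of_connectedSpace
  haveI : IsReduced H.left := ASp.isReduced_of_smooth H.hom
  haveI : JacobsonSpace H.left := LocallyOfFiniteType.jacobsonSpace H.hom
  haveI : IsLocallyNoetherian H.left := LocallyOfFiniteType.isLocallyNoetherian H.hom
  haveI : CompactSpace H.left := QuasiCompact.compactSpace_of_compactSpace H.hom
  haveI : IsNoetherian H.left := {}
  obtain ⟨d, -, -, hdmax⟩ := OrbitDim.group_trd_eq (G := H)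
  have hgen : ∀ w, w ⤳ genericPoint H.left → w = genericPoint H.left :=
    fun w hw => (hw.antisymm (genericPoint_specializes w)).eq
  let ξ := genericPoint H.left
  let S : Set H.left := f.left ⁻¹' {(r₀ ≫ f).left pt}
  have hSc : IsClosed S := (isClosed_ratPt (r₀ ≫ f)).preimage f.left.continuous
  let F : Set H.left := (fun r : 𝟙_ (Over (Spec (CommRingCat.of k))) ⟶ H => r.left pt) ''
    {r : 𝟙_ (Over (Spec (CommRingCat.of k))) ⟶ H | r ≫ f = r₀ ≫ f}
  have hSF : S ⊆ F := by
    have hFc : IsClosed F := by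
      rw [← Set.biUnion_of_singleton F, Set.biUnion_image]
      exact hfin.isClosed_biUnion fun x _ => isClosed_ratPt x
    calc S = closure (S ∩ closedPoints H.left) :=
          ((JacobsonSpace.closure_inter_closedPoints_eq_closure hSc.isLocallyClosed).trans hSc.closure_eq).symm
      _ ⊆ F := closure_minimal ?_ hFc
    rintro w ⟨hw, hwc⟩
    obtain ⟨r, rfl⟩ := exists_ratPt (mem_closedPoints_iff.1 hwc)
    exact ⟨r, ratPt_ext (by rw [Over.comp_left, Scheme.Hom.comp_apply]; exact hw), rfl⟩
  have hη : f.left ξ = genericPoint H.left := by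
    by_contra hne
    let Cl : TopologicalSpace.Closeds H.left := ⟨closure (Set.range f.left), isClosed_closure⟩
    let jY := (Scheme.IdealSheafData.vanishingIdeal Cl).subschemeι
    obtain ⟨z, hz⟩ := FinGrpdLib.exists_lift_reduced f.left Cl subset_closure
    haveI : LocallyOfFiniteType ((z ≫ jY) ≫ H.hom) := by rw [hz, Over.w]; infer_instance
    haveI : LocallyOfFiniteType (z ≫ jY) := locallyOfFiniteType_of_comp _ H.hom
    haveI : LocallyOfFiniteType z := locallyOfFiniteType_of_comp z jY
    have hzd : DenseRange z := fun w => by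
      rw [jY.isEmbedding.closure_eq_preimage_closure_image]
      show jY w ∈ closure _
      rw [← Set.range_comp, ← TopCat.coe_comp, ← Scheme.Hom.comp_base, hz]
      have : jY w ∈ Set.range jY := ⟨w, rfl⟩
      rw [Scheme.IdealSheafData.range_subschemeι, Scheme.IdealSheafData.coe_support_vanishingIdeal] at this
      exact this
    haveI : IrreducibleSpace ↥(Scheme.IdealSheafData.vanishingIdeal Cl).subscheme := by
      rw [irreducibleSpace_def, Set.top_eq_univ, ← hzd.closure_range, ← Set.image_univ]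
      exact ((IrreducibleSpace.isIrreducible_univ _).image _ z.continuous.continuousOn).closure
    obtain ⟨n, hn, -, hnle⟩ := DimFormulaLib.genericFibre_dim z hzd
    have hzc : ∀ w, jY (z w) = f.left w := fun w => by rw [← Scheme.Hom.comp_apply, hz]
    have hbound : FlatMor.fibreDimAt z (r₀.left pt) ≤ ((0 : ℕ) : WithBot ℕ∞) := by
      refine OpenDim.fibreDimAt_le (f := z) fun w hw _ => ?_
      have hwS : w ∈ S := by
        show f.left w ∈ ({(r₀ ≫ f).left pt} : Set H.left)
        rw [← hzc, hw, hzc]; rfl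
      obtain ⟨r, -, hr⟩ := hSF hwS
      have h0 := OrbitDim.trd_eq_zero_of_isClosed (X := H) (isClosed_ratPt r)
      rw [show r.left (IsLocalRing.closedPoint k) = w from hr] at h0
      have := trd_comp (A := H) z (jY ≫ H.hom) (by rw [← Category.assoc, hz, Over.w]) w
      exact_mod_cast (show OpenDim.trd z w ≤ 0 by omega)
    have hn' : n ≤ 0 := by exact_mod_cast (hnle _).trans hbound
    have h0 := trd_comp (A := H) z (jY ≫ H.hom) (by rw [← Category.assoc, hz, Over.w]) ξ
    rw [OpenDim.resTrdegAt_eq_trd] at hn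
    have hn2 : OpenDim.trd z ξ = n := by exact_mod_cast hn
    rw [TransvLib.trd_immersion H.hom (jY ≫ H.hom) jY, hzc, hdmax ξ hgen] at h0
    have h1 := OpenDim.trd_lt H.hom (genericPoint_specializes (f.left ξ)) (Ne.symm hne) (subsingleton_base _ _)
    rw [hdmax (genericPoint H.left) hgen] at h1
    omega
  haveI : LocallyOfFiniteType (f.left ≫ H.hom) := by rw [Over.w]; infer_instance
  haveI : LocallyOfFiniteType f.left := locallyOfFiniteType_of_comp _ H.hom
  haveI : QuasiCompact (f.left ≫ H.hom) := by rw [Over.w]; infer_instance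
  haveI : QuasiCompact f.left := QuasiCompact.of_comp f.left H.hom
  haveI : LocallyOfFinitePresentation f.left := LocallyOfFinitePresentation.iff_locallyOfFiniteType.mpr inferInstance
  have hcon : IsLocallyConstructible (Set.range f.left) := by
    have := f.left.isLocallyConstructible_image (s := Set.univ) IsConstructible.univ.isLocallyConstructible
    rwa [Set.image_univ] at this
  obtain ⟨U, hU, hne, hsub⟩ := ConstrNoeth.exists_open_of_constructible hcon.isConstructible
    (IrreducibleSpace.isIrreducible_univ H.left) (by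
      rw [Set.inter_univ, ← genericPoint_closure H.left]
      exact closure_mono (Set.singleton_subset_iff.2 ⟨ξ, hη⟩))
  exact ⟨⟨U, hU⟩, hne.mono Set.inter_subset_left, fun x hx => hsub ⟨hx, trivial⟩⟩

/-- A rational point in the range of `f` is the image of a rational point. -/
theorem exists_ratPt_preimage (f : H ⟶ H) (z : 𝟙_ (Over (Spec (CommRingCat.of k))) ⟶ H)
    (hz : z.left (IsLocalRing.closedPoint k) ∈ Set.range f.left) :
    ∃ r : 𝟙_ (Over (Spec (CommRingCat.of k))) ⟶ H, r ≫ f = z := by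
  obtain ⟨w, hw⟩ := hz
  obtain ⟨r, hr⟩ := MonoFibre.exists_ratPt_mem (G := H) ((isClosed_ratPt z).preimage f.left.continuous) ⟨w, hw⟩
  exact ⟨r, ratPt_ext (by rw [Over.comp_left, Scheme.Hom.comp_apply]; exact hr)⟩

/-- Over an algebraically closed field k let G be a k-group scheme of finite type, i : H → G a smooth
connected affine closed subgroup scheme, and X = G/H the quotient with its G-action, base point o
and orbit map G → X. Let σ be an endomorphism of G restricting to a surjective endomorphism τ of H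
and compatible with an endomorphism φ of X under the orbit map, and suppose σ has only finitely many
fixed k-points. Then the number of fixed k-points of σ equals the number of fixed k-points of τ
times the number of fixed k-points of φ. (The published statement allows any subgroup H and any
restriction τ; for the square roots of unity inside the multiplicative group and the cube map the
count fails, and the published proof applies the surjectivity of the Lang map h ↦ h⁻¹τ(h) of H, so H
is taken smooth, connected and affine and τ surjective here.) -/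
theorem result (k : Type u) [Field k] [IsAlgClosed k]
    (G H : Over (Spec (CommRingCat.of k))) [GrpObj G] [GrpObj H] [QuasiCompact G.hom] [LocallyOfFiniteType G.hom]
    (i : H ⟶ G) [IsMonHom i] [IsClosedImmersion i.left] [Smooth H.hom] [ConnectedSpace ↥H.left] [IsAffine H.left]
    (X : Over (Spec (CommRingCat.of k))) (a : AlgGrp.Action G X) (o : 𝟙_ (Over (Spec (CommRingCat.of k))) ⟶ X)
    (hX : AGF.IsQuotient i X a o)
    (σ : G ⟶ G) [IsMonHom σ] (τ : H ⟶ H) [IsMonHom τ] (hτ : τ ≫ i = i ≫ σ) (hτs : Surjective τ.left)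
    (φ : X ⟶ X) (hφ : a.orbitMap o ≫ φ = σ ≫ a.orbitMap o)
    (hfin : Finite {g : 𝟙_ (Over (Spec (CommRingCat.of k))) ⟶ G // g ≫ σ = g}) :
    Nat.card {g : 𝟙_ (Over (Spec (CommRingCat.of k))) ⟶ G // g ≫ σ = g} =
      Nat.card {h : 𝟙_ (Over (Spec (CommRingCat.of k))) ⟶ H // h ≫ τ = h} *
        Nat.card {x : 𝟙_ (Over (Spec (CommRingCat.of k))) ⟶ X // x ≫ φ = x} := by
  obtain ⟨hlf, -, hsu, hpb⟩ := hX
  haveI := hlf
  haveI : Surjective (a.orbitMap o).left := hsu
  let pt : ↥(Spec (CommRingCat.of k)) := IsLocalRing.closedPoint k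
  let Pt := 𝟙_ (Over (Spec (CommRingCat.of k)))
  let p := a.orbitMap o
  haveI : LocallyOfFiniteType H.hom := inferInstance
  haveI : Mono i.left := inferInstance
  have hinj : ∀ {h h' : Pt ⟶ H}, h ≫ i = h' ≫ i → h = h' := fun {h h'} e =>
    Over.OverMorphism.ext ((cancel_mono i.left).1 (by rw [← Over.comp_left, e, Over.comp_left]))
  have hw0 : fst G H ≫ p = ((G ◁ i) ≫ μ[G]) ≫ p := hpb.w
  have hGi : ∀ (g : Pt ⟶ G) (h : Pt ⟶ H), lift g h ≫ (G ◁ i) ≫ μ[G] = g * (h ≫ i) := fun g h => by
    rw [← Category.assoc, lift_whiskerLeft, Hom.mul_def]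
  have hp_mul : ∀ (g : Pt ⟶ G) (h : Pt ⟶ H), (g * (h ≫ i)) ≫ p = g ≫ p := by
    intro g h
    have := congrArg (lift g h ≫ ·) hw0
    simp only [← Category.assoc, lift_fst] at this
    rw [this, Category.assoc (lift g h), hGi]
  have hker : ∀ g g' : Pt ⟶ G, g ≫ p = g' ≫ p → ∃ h : Pt ⟶ H, g * (h ≫ i) = g' := by
    intro g g' e
    obtain ⟨l, l1, l2⟩ : ∃ l, l ≫ fst G H = g ∧ l ≫ (G ◁ i) ≫ μ[G] = g' :=
      ⟨hpb.lift _ _ e, hpb.lift_fst _ _ _, hpb.lift_snd _ _ _⟩
    refine ⟨l ≫ snd G H, ?_⟩
    rw [← hGi, ← l2]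
    congr 1
    apply CartesianMonoidalCategory.hom_ext <;> simp [l1]
  have hτσ : ∀ h : Pt ⟶ H, (h ≫ i) ≫ σ = (h ≫ τ) ≫ i := fun h => by rw [Category.assoc, ← hτ, Category.assoc]
  -- the twisted orbits
  have hfib : ∀ (y : Pt ⟶ H), (∃ g : Pt ⟶ G, g ≫ σ = g * (y ≫ i)) →
      ∃ U : H.left.Opens, (U : Set ↥H.left).Nonempty ∧
        (U : Set ↥H.left) ⊆ Set.range ((𝟙 H)⁻¹ * (toUnit H ≫ y) * τ).left := by
    rintro y ⟨g, hg⟩
    haveI := hfin
    refine exists_open_subset_range _ (1 : Pt ⟶ H) ?_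
    rw [← Set.finite_coe_iff]
    refine Finite.of_injective
      (β := {g : Pt ⟶ G // g ≫ σ = g}) (fun r => ⟨g * (r.1 ≫ i) * g⁻¹, ?_⟩) ?_
    · have hr := r.2
      have eone : (1 : Pt ⟶ H) ≫ τ = 1 := MonObj.one_comp τ
      simp only [Set.mem_setOf_eq, MonObj.comp_mul, GrpObj.comp_inv, Category.comp_id, comp_toUnit_assoc, eone,
        inv_one, _root_.one_mul, _root_.mul_one, toUnit_unique (toUnit Pt) (𝟙 _), Category.id_comp] at hr
      have hr' : y * (r.1 ≫ τ) = r.1 * y := by
        rw [_root_.mul_assoc, inv_mul_eq_iff_eq_mul] at hr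
        exact hr
      have e : (y ≫ i) * ((r.1 ≫ τ) ≫ i) = (r.1 ≫ i) * (y ≫ i) := by
        rw [← MonObj.mul_comp, ← MonObj.mul_comp, hr']
      rw [MonObj.mul_comp, MonObj.mul_comp, GrpObj.inv_comp, hτσ, hg, _root_.mul_inv_rev]
      rw [_root_.mul_assoc g (y ≫ i), e]
      simp [_root_.mul_assoc]
    · intro r r' e
      exact Subtype.ext (hinj (mul_left_cancel (mul_right_cancel (congrArg Subtype.val e))))
  have hlang : ∀ y : Pt ⟶ H, (∃ g : Pt ⟶ G, g ≫ σ = g * (y ≫ i)) →
      ∃ v : Pt ⟶ H, v⁻¹ * (v ≫ τ) = y := by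
    intro y hy
    obtain ⟨U₁, hU₁, hU₁s⟩ := hfib y hy
    obtain ⟨U₂, hU₂, hU₂s⟩ := hfib 1 ⟨1, by rw [MonObj.one_comp, MonObj.one_comp, _root_.mul_one]⟩
    haveI : IrreducibleSpace H.left := GrpSchLib.irreducibleSpace_of_connectedSpace
    haveI : JacobsonSpace H.left := LocallyOfFiniteType.jacobsonSpace H.hom
    obtain ⟨z, hz, hzc⟩ := nonempty_inter_closedPoints (nonempty_preirreducible_inter U₁.2 U₂.2 hU₁ hU₂)
      (U₁.2.inter U₂.2).isLocallyClosed
    obtain ⟨c, rfl⟩ := S8088.exists_ratPt (mem_closedPoints_iff.1 hzc)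
    obtain ⟨u, hu⟩ := exists_ratPt_preimage _ c (hU₁s hz.1)
    obtain ⟨v, hv⟩ := exists_ratPt_preimage _ c (hU₂s hz.2)
    simp only [MonObj.comp_mul, GrpObj.comp_inv, Category.comp_id, comp_toUnit_assoc,
      toUnit_unique (toUnit Pt) (𝟙 _), Category.id_comp, _root_.mul_one] at hu hv
    refine ⟨v * u⁻¹, ?_⟩
    rw [MonObj.mul_comp, GrpObj.inv_comp, _root_.mul_inv_rev, _root_.inv_inv]
    have : y = u * c * (u ≫ τ)⁻¹ := by rw [← hu]; simp [_root_.mul_assoc]
    rw [this, ← hv]
    simp [_root_.mul_assoc]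
  -- points of the quotient
  let π : {g : Pt ⟶ G // g ≫ σ = g} → {x : Pt ⟶ X // x ≫ φ = x} := fun g =>
    ⟨g.1 ≫ p, by rw [Category.assoc, hφ, ← Category.assoc, g.2]⟩
  have hπ : Function.Surjective π := by
    rintro ⟨x, hx⟩
    obtain ⟨c, hc⟩ := p.left.surjective (x.left pt)
    obtain ⟨g, hg⟩ := MonoFibre.exists_ratPt_mem (G := G) ((S8088.isClosed_ratPt x).preimage p.left.continuous) ⟨c, hc⟩
    have hgp : g ≫ p = x := S8088.ratPt_ext (by rw [Over.comp_left, Scheme.Hom.comp_apply]; exact hg)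
    obtain ⟨y, hy⟩ := hker g (g ≫ σ) (by rw [Category.assoc, ← hφ, ← Category.assoc, hgp, hx])
    obtain ⟨v, hv⟩ := hlang y ⟨g, hy.symm⟩
    refine ⟨⟨g * (v⁻¹ ≫ i), ?_⟩, Subtype.ext ((hp_mul _ _).trans hgp)⟩
    rw [MonObj.mul_comp, hτσ, ← hy, _root_.mul_assoc, ← MonObj.mul_comp, GrpObj.inv_comp, ← hv]
    simp [_root_.mul_assoc]
  let s := Function.surjInv hπ
  have hs : ∀ x, (s x).1 ≫ p = x.1 := fun x => congrArg Subtype.val (Function.surjInv_eq hπ x)
  let Φ : {h : Pt ⟶ H // h ≫ τ = h} × {x : Pt ⟶ X // x ≫ φ = x} → {g : Pt ⟶ G // g ≫ σ = g} :=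
    fun q => ⟨(s q.2).1 * (q.1.1 ≫ i), by rw [MonObj.mul_comp, (s q.2).2, hτσ, q.1.2]⟩
  have hΦ : Function.Bijective Φ := by
    constructor
    · rintro ⟨h, x⟩ ⟨h', x'⟩ e
      have e' : (s x).1 * (h.1 ≫ i) = (s x').1 * (h'.1 ≫ i) := congrArg Subtype.val e
      obtain rfl : x = x' := Subtype.ext (by rw [← hs x, ← hs x', ← hp_mul _ h.1, e', hp_mul])
      exact Prod.ext (Subtype.ext (hinj (mul_left_cancel e'))) rfl
    · intro g
      obtain ⟨h, hh⟩ := hker (s (π g)).1 g.1 (hs (π g))
      refine ⟨⟨⟨h, ?_⟩, π g⟩, Subtype.ext hh⟩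
      have e : g.1 ≫ σ = g.1 := g.2
      rw [← hh, MonObj.mul_comp, (s (π g)).2, hτσ] at e
      exact hinj (mul_left_cancel e)
  rw [← Nat.card_prod]
  exact (Nat.card_congr (Equiv.ofBijective Φ hΦ)).symm

end Groth.Agent.S14746
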