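import Groth.Statements.S14751
import Groth.Agent.MonoFibre.RigidityProper
import Groth.Agent.AVLib.GeomInt
import Groth.Agent.AVLib.MaxAbel
import Groth.Agent.GrpQuotLib.KerGrp

set_option autoImplicit false
universe u
open CategoryTheory CategoryTheory.Limits MonoidalCategory CartesianMonoidalCategory MonObj GrpObj AlgebraicGeometry
open AlgGrp

namespace Groth.Agent.S14751

open CategoryTheory CategoryTheory.Limits AlgebraicGeometry

open Groth.Agent
set_option backward.isDefEq.respectTransparency false

/-- Over an algebraically closed field k let G be a group variety (smooth connected k-group scheme of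
finite type), i : N → G an affine closed subgroup scheme which is the kernel of a flat surjective
homomorphism π : G → Q, and j : A → G an abelian subvariety (a smooth connected proper closed
subgroup scheme) with A · N = G, that is, the multiplication A × N → G is surjective. Then the
multiplication A × N → G is a homomorphism and an isogeny (surjective with finite kernel), and so is
the composite A → G → Q. (In the published statement N is the largest connected affine normal
subgroup variety and Q = G/N the Albanese quotient; only the listed properties are used.) -/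
theorem result (k : Type u) [Field k] [IsAlgClosed k]
    (G N A Q : Over (Spec (CommRingCat.of k))) [GrpObj G] [GrpObj N] [GrpObj A] [GrpObj Q]
    [Smooth G.hom] [QuasiCompact G.hom] [ConnectedSpace ↥G.left]
    (i : N ⟶ G) [IsMonHom i] [IsClosedImmersion i.left] [IsAffine N.left]
    (π : G ⟶ Q) [IsMonHom π] [Flat π.left] [Surjective π.left] (hker : AlgGrp.IsKernel i π)
    (j : A ⟶ G) [IsMonHom j] [IsClosedImmersion j.left] [Smooth A.hom] [ConnectedSpace ↥A.left] [IsProper A.hom]
    (hsurj : Surjective ((j ⊗ₘ i) ≫ μ[G]).left) :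
    IsMonHom ((j ⊗ₘ i) ≫ μ[G]) ∧ SGA7.IsIsogenyOver ((j ⊗ₘ i) ≫ μ[G]) ∧ SGA7.IsIsogenyOver (j ≫ π) := by
  haveI : GeometricallyReduced A.hom := AVLib.geometricallyReduced_of_smooth A.hom
  haveI : GeometricallyReduced G.hom := AVLib.geometricallyReduced_of_smooth G.hom
  haveI : GeometricallyIntegral A.hom := AVLib.geometricallyIntegral_of_connectedSpace
  haveI : GeometricallyIntegral G.hom := AVLib.geometricallyIntegral_of_connectedSpace
  haveI : IsSeparated G.hom := GrpSchLib.isSeparated_hom
  haveI : LocallyOfFiniteType N.hom := by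
    rw [← Over.w i]; infer_instance
  have hiπ : i ≫ π = 1 := by rw [Hom.one_def]; exact hker.w
  -- A is central
  let f : A ⊗ G ⟶ G := (fst A G ≫ j) * snd A G * (fst A G ≫ j)⁻¹ * (snd A G)⁻¹
  have hf0 : lift (𝟙 A) (toUnit A ≫ η[G]) ≫ f = toUnit A ≫ η[G] := by
    simp only [f, MonObj.comp_mul, GrpObj.comp_inv, lift_fst_assoc, lift_snd, Category.id_comp, ← Hom.one_def,
      _root_.mul_one, mul_inv_cancel, inv_one]
  have hf := MonoFibre.Rigidity.eq_const_of_ratPt f η[A] η[G] η[G] hf0
  have hf1 : lift (toUnit G ≫ η[A]) (𝟙 G) ≫ f = 1 := by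
    simp only [f, MonObj.comp_mul, GrpObj.comp_inv, lift_fst_assoc, lift_snd, ← Hom.one_def, MonObj.one_comp,
      _root_.one_mul, inv_one, _root_.mul_one, mul_inv_cancel]
  rw [hf1, MonObj.comp_one] at hf
  have hcomm : ∀ {T : Over (Spec (CommRingCat.of k))} (a : T ⟶ A) (g : T ⟶ G), Commute (a ≫ j) g := by
    intro T a g
    have := congrArg (lift a g ≫ ·) hf
    simp only [f, MonObj.comp_mul, GrpObj.comp_inv, lift_fst_assoc, lift_snd, MonObj.comp_one] at this
    exact mul_inv_eq_iff_eq_mul.1 (mul_inv_eq_one.1 this)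
  -- multiplication is a homomorphism
  have hμ : (j ⊗ₘ i) ≫ μ[G] = (fst A N ≫ j) * (snd A N ≫ i) := by
    rw [Hom.mul_def]
    congr 1
  have hone : ∀ (M : Over (Spec (CommRingCat.of k))) [GrpObj M], η[M] = (1 : 𝟙_ _ ⟶ M) := fun M _ => by
    rw [Hom.one_def, toUnit_unique (toUnit _) (𝟙 _), Category.id_comp]
  have hmon : IsMonHom ((j ⊗ₘ i) ≫ μ[G]) := by
    rw [hμ]
    refine ⟨?_, ?_⟩
    · rw [hone, hone, MonObj.comp_mul, ← Category.assoc, ← Category.assoc, MonObj.one_comp, MonObj.one_comp,
        MonObj.one_comp, MonObj.one_comp, _root_.mul_one]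
    · set φ := (fst A N ≫ j) * (snd A N ≫ i)
      have e : μ[A ⊗ N] = (fst (A ⊗ N) (A ⊗ N)) * (snd (A ⊗ N) (A ⊗ N)) := by
        rw [Hom.mul_def, lift_fst_snd, Category.id_comp]
      have e3 : (φ ⊗ₘ φ) ≫ μ[G] =
          (fst (A ⊗ N) (A ⊗ N) ≫ φ) * (snd (A ⊗ N) (A ⊗ N) ≫ φ) := by
        rw [Hom.mul_def]
        congr 1
      rw [e3, e]
      simp only [φ, MonObj.comp_mul]
      rw [← Category.assoc _ (fst A N), ← Category.assoc _ (snd A N), MonObj.mul_comp _ _ (fst A N),
        MonObj.mul_comp _ _ (snd A N), MonObj.mul_comp, MonObj.mul_comp]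
      simp only [Category.assoc]
      refine Commute.mul_mul_mul_comm ?_ _ _
      have := hcomm (snd (A ⊗ N) (A ⊗ N) ≫ fst A N) (fst (A ⊗ N) (A ⊗ N) ≫ snd A N ≫ i)
      simpa only [Category.assoc] using this
  -- the kernels
  haveI := hmon
  haveI : IsMonHom (j ≫ π) := inferInstance
  have hjπ : Surjective (j ≫ π).left := by
    have e : ((j ⊗ₘ i) ≫ μ[G]) ≫ π = fst A N ≫ j ≫ π := by
      rw [hμ, MonObj.mul_comp, Category.assoc, Category.assoc, hiπ, MonObj.comp_one, _root_.mul_one]
    haveI : Surjective (((j ⊗ₘ i) ≫ μ[G]) ≫ π).left := by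
      rw [Over.comp_left]; infer_instance
    rw [e, Over.comp_left] at this
    exact Surjective.of_comp (fst A N).left _
  have hfin : ∀ (K : Over (Spec (CommRingCat.of k))) (a : K ⟶ A), AlgGrp.IsKernel a (j ≫ π) → IsFinite K.hom := by
    intro K a ha
    haveI : Mono η[Q] := SplitMono.mono ⟨toUnit Q, toUnit_unique _ _⟩
    haveI : IsSeparated Q.hom := GrpSchLib.isSeparated_hom
    haveI : IsClosedImmersion η[Q].left := by
      haveI : IsClosedImmersion (η[Q].left ≫ Q.hom) := by
        rw [Over.w η[Q]]
        exact inferInstanceAs (IsClosedImmersion (𝟙 (Spec (CommRingCat.of k))))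
      exact IsClosedImmersion.of_comp _ Q.hom
    haveI : IsClosedImmersion a.left :=
      MorphismProperty.of_isPullback ((IsPullback.map (Over.forget _) ha).flip) ‹IsClosedImmersion η[Q].left›
    haveI : IsProper K.hom := by rw [← Over.w a]; infer_instance
    obtain ⟨b, hb, -⟩ := hker.exists_lift (a ≫ j) (toUnit K) (by rw [Category.assoc]; exact ha.w)
    haveI : Mono a := by
      haveI : Mono a.left := inferInstance
      exact Over.mono_of_mono_left a
    haveI : Mono b := by
      haveI : Mono j := by
        haveI : Mono j.left := inferInstance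
        exact Over.mono_of_mono_left j
      haveI : Mono (b ≫ i) := by rw [hb]; infer_instance
      exact mono_of_mono b i
    haveI : Mono b.left := inferInstance
    haveI : IsSeparated N.hom := inferInstance
    haveI : IsProper b.left := by
      haveI : IsProper (b.left ≫ N.hom) := by rw [Over.w b]; infer_instance
      exact IsProper.of_comp b.left N.hom
    haveI : IsClosedImmersion b.left := (IsClosedImmersion.iff_isProper_and_mono _).2 ⟨inferInstance, inferInstance⟩
    haveI : IsAffineHom K.hom := by rw [← Over.w b]; infer_instance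
    exact IsFinite.iff_isProper_and_isAffineHom.2 ⟨inferInstance, inferInstance⟩
  refine ⟨hmon, ⟨hsurj, ?_⟩, hjπ, hfin⟩
  intro N' c hc
  obtain ⟨_, _⟩ := GrpQuotLib.exists_grpObj_kernel (j ≫ π)
  let K := pullback (j ≫ π) η[Q]
  let a : K ⟶ A := pullback.fst (j ≫ π) η[Q]
  have haK : AlgGrp.IsKernel a (j ≫ π) := by
    have h := IsPullback.of_hasPullback (j ≫ π) η[Q]
    rwa [toUnit_unique (pullback.snd (j ≫ π) η[Q]) (toUnit _)] at h
  haveI := hfin K a haK
  haveI : Mono η[G] := SplitMono.mono ⟨toUnit G, toUnit_unique _ _⟩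
  haveI : Mono η[Q] := SplitMono.mono ⟨toUnit Q, toUnit_unique _ _⟩
  haveI : Mono a := inferInstance
  haveI : Mono i := by
    haveI : Mono i.left := inferInstance
    exact Over.mono_of_mono_left i
  haveI : Mono c := by
    constructor
    intro W x y e
    exact hc.hom_ext e (toUnit_unique _ _)
  have hcw : ((c ≫ fst A N) ≫ j) * ((c ≫ snd A N) ≫ i) = 1 := by
    have := hc.w
    rw [hμ, MonObj.comp_mul, ← Category.assoc, ← Category.assoc] at this
    rw [this, Hom.one_def]
  obtain ⟨g, hg, -⟩ := haK.exists_lift (c ≫ fst A N) (toUnit N') (by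
    have := congrArg (· ≫ π) hcw
    simp only [MonObj.mul_comp, MonObj.one_comp, Category.assoc, hiπ, MonObj.comp_one, _root_.mul_one] at this
    rw [Category.assoc, this, Hom.one_def])
  obtain ⟨b, hb, -⟩ := hker.exists_lift (a ≫ j)⁻¹ (toUnit K) (by
    rw [GrpObj.inv_comp, Category.assoc, haK.w, ← Hom.one_def, inv_one])
  obtain ⟨g', hg', -⟩ := hc.exists_lift (lift a b) (toUnit K) (by
    rw [hμ, MonObj.comp_mul, lift_fst_assoc, lift_snd_assoc, hb, mul_inv_cancel, Hom.one_def])
  have e1 : g' ≫ g = 𝟙 K := by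
    rw [← cancel_mono a, Category.assoc, hg, ← Category.assoc, hg', lift_fst, Category.id_comp]
  have e2 : g ≫ g' = 𝟙 N' := by
    rw [← cancel_mono c, Category.assoc, hg', Category.id_comp, comp_lift, hg]
    apply CartesianMonoidalCategory.hom_ext
    · rw [lift_fst]
    · rw [lift_snd, ← cancel_mono i, Category.assoc, hb, GrpObj.comp_inv, ← Category.assoc, hg]
      exact (eq_inv_of_mul_eq_one_right hcw).symm
  haveI : IsIso g.left := by
    haveI : IsIso g := ⟨g', e2, e1⟩
    infer_instance
  rw [← Over.w g]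
  infer_instance

end Groth.Agent.S14751
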