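import Groth.Statements.S14754
import Groth.Agent.DSHomField.Main

set_option autoImplicit false
universe u
open CategoryTheory CategoryTheory.Limits MonoidalCategory CartesianMonoidalCategory MonObj GrpObj AlgebraicGeometry
open AlgGrp

namespace Groth.Agent.S14754

open MonoidalCategory CartesianMonoidalCategory MonObj

theorem flat_surjective_comp₃ {A B C D : Scheme.{u}} (a : A ⟶ B) (p : B ⟶ C) (b : C ⟶ D) [IsIso a] [IsIso b]
    [Flat p] [Surjective p] : Flat (a ≫ p ≫ b) ∧ Surjective (a ≫ p ≫ b) :=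
  ⟨inferInstance, inferInstance⟩


/-- Over an algebraically closed field k, every exact sequence of split tori splits: if K, G, Q are
split tori over k, i : K → G a closed subgroup scheme which is the kernel of a flat surjective
homomorphism π : G → Q, then π has a section which is a homomorphism. -/
theorem result (k : Type u) [Field k] [IsAlgClosed k]
    (K G Q : Over (Spec (CommRingCat.of k))) [GrpObj K] [GrpObj G] [GrpObj Q] (nK nG nQ : ℕ)
    (hK : Red.IsSplitTorusWith (Fin nK → ℤ) K) (hG : Red.IsSplitTorusWith (Fin nG → ℤ) G)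
    (hQ : Red.IsSplitTorusWith (Fin nQ → ℤ) Q)
    (i : K ⟶ G) [IsMonHom i] [IsClosedImmersion i.left]
    (π : G ⟶ Q) [IsMonHom π] [Flat π.left] [Surjective π.left] (hker : AlgGrp.IsKernel i π) :
    ∃ s : Q ⟶ G, IsMonHom s ∧ s ≫ π = 𝟙 Q := by
  obtain ⟨eK⟩ := hK
  obtain ⟨eG⟩ := hG
  obtain ⟨eQ⟩ := hQ
  haveI : IsMonHom eK.inv.hom.hom := eK.inv.hom.isMonHom_hom
  haveI : IsMonHom eG.inv.hom.hom := eG.inv.hom.isMonHom_hom
  haveI : IsMonHom eQ.inv.hom.hom := eQ.inv.hom.isMonHom_hom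
  haveI : IsMonHom eG.hom.hom.hom := eG.hom.hom.isMonHom_hom
  haveI : IsMonHom eQ.hom.hom.hom := eQ.hom.hom.isMonHom_hom
  let cK : K ≅ Red.DS (Spec (CommRingCat.of k)) (Fin nK → ℤ) := (Grp.forget _).mapIso eK
  let cG : G ≅ Red.DS (Spec (CommRingCat.of k)) (Fin nG → ℤ) := (Grp.forget _).mapIso eG
  let cQ : Q ≅ Red.DS (Spec (CommRingCat.of k)) (Fin nQ → ℤ) := (Grp.forget _).mapIso eQ
  let i' := cK.inv ≫ i ≫ cG.hom
  let π' := cG.inv ≫ π ≫ cQ.hom
  haveI : IsMonHom i' := inferInstanceAs (IsMonHom (eK.inv.hom.hom ≫ i ≫ eG.hom.hom.hom))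
  haveI : IsMonHom π' := inferInstanceAs (IsMonHom (eG.inv.hom.hom ≫ π ≫ eQ.hom.hom.hom))
  haveI : IsIso cG.inv.left := inferInstanceAs (IsIso ((Over.forget _).map cG.inv))
  haveI : IsIso cQ.hom.left := inferInstanceAs (IsIso ((Over.forget _).map cQ.hom))
  obtain ⟨hf, hs⟩ := flat_surjective_comp₃ cG.inv.left π.left cQ.hom.left
  haveI : Flat π'.left := hf
  haveI : Surjective π'.left := hs
  have hker' : AlgGrp.IsKernel i' π' := by
    refine IsPullback.of_iso hker cK cG (Iso.refl _) cQ ?_ ?_ ?_ ?_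
    · simp [i']
    · exact toUnit_unique _ _
    · simp [π']
    · rw [Iso.refl_hom, Category.id_comp]
      exact (IsMonHom.one_hom eQ.hom.hom.hom)
  obtain ⟨s, hsm, hs⟩ := DSHomField.exists_section i' π' hker'
  refine ⟨eQ.hom.hom.hom ≫ s ≫ eG.inv.hom.hom, inferInstance, ?_⟩
  have h1 : s ≫ cG.inv ≫ π = cQ.inv := by
    have h2 := congrArg (· ≫ cQ.inv) hs
    simpa [π'] using h2
  show (cQ.hom ≫ s ≫ cG.inv) ≫ π = 𝟙 Q
  rw [Category.assoc, Category.assoc, h1, Iso.hom_inv_id]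

end Groth.Agent.S14754
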