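import Groth.Statements.S5353
import Groth.Agent.SchDesc.Cover
import Groth.Agent.GrpSchLib.Separated
import Groth.Agent.FppfSrc.Scheme
import Groth.Agent.FpqcDesc.Stalk
-- import your own Groth.Agent.* helpers here

set_option autoImplicit false
universe u
open CategoryTheory CategoryTheory.Limits MonoidalCategory CartesianMonoidalCategory MonObj GrpObj AlgebraicGeometry
open SGA3

namespace Groth.Agent.S5353

open Limits

/-- A section which becomes an open immersion after an fppf base change is one. -/
theorem isOpenImmersion_of_cartesian {G Q S P : Scheme.{u}} (p : G ⟶ Q) [Surjective p] [Flat p]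
    [LocallyOfFinitePresentation p] (e : S ⟶ Q) {h : Q ⟶ S} (he : e ≫ h = 𝟙 S) {i : P ⟶ G} {t : P ⟶ S}
    (hsq : IsPullback i t p e) [IsOpenImmersion i] : IsOpenImmersion e := by
  have hr : Set.range i = p ⁻¹' Set.range e := by
    rw [← hsq.isoPullback_hom_fst, Scheme.Hom.comp_base, TopCat.coe_comp, Set.range_comp,
      Set.range_eq_univ.mpr hsq.isoPullback.hom.surjective, Set.image_univ, Scheme.Pullback.range_fst]
  have ho : IsOpen (Set.range e) := by
    rw [← Set.image_preimage_eq (Set.range e) p.surjective, ← hr]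
    exact p.isOpenMap _ i.isOpenEmbedding.isOpen_range
  let U : Q.Opens := ⟨Set.range e, ho⟩
  let e' := IsOpenImmersion.lift U.ι e (by rw [Scheme.Opens.range_ι]; exact subset_rfl)
  have he' : e' ≫ U.ι = e := IsOpenImmersion.lift_fac _ _ _
  let i' : P ⟶ (p ⁻¹ᵁ U : G.Opens) := IsOpenImmersion.lift (p ⁻¹ᵁ U).ι i
    (by rw [Scheme.Opens.range_ι]; exact hr.le)
  have hi' : i' ≫ (p ⁻¹ᵁ U).ι = i := IsOpenImmersion.lift_fac _ _ _
  haveI : IsOpenImmersion (i' ≫ (p ⁻¹ᵁ U).ι) := by rw [hi']; infer_instance
  haveI : IsOpenImmersion i' := IsOpenImmersion.of_comp i' (p ⁻¹ᵁ U).ι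
  haveI : Surjective i' := ⟨fun z => by
    obtain ⟨a, ha⟩ : (z.1 : G) ∈ Set.range i := hr.symm ▸ z.2
    refine ⟨a, (p ⁻¹ᵁ U).ι.isOpenEmbedding.injective ?_⟩
    rw [← Scheme.Hom.comp_apply, hi']
    exact ha⟩
  haveI : IsIso i' := (isIso_iff_isOpenImmersion_and_epi_base i').mpr
    ⟨inferInstance, (TopCat.epi_iff_surjective _).mpr i'.surjective⟩
  have h1 : IsPullback t i' e' (p ∣_ U) := by
    refine IsPullback.flip (IsPullback.of_right (h₁₂ := (p ⁻¹ᵁ U).ι) (v₁₃ := p) (h₂₂ := U.ι) ?_ ?_
      (isPullback_morphismRestrict p U).flip)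
    · rw [hi', he']; exact hsq
    · apply (cancel_mono U.ι).1
      rw [Category.assoc, morphismRestrict_ι, reassoc_of% hi', Category.assoc, he']
      exact hsq.w
  haveI : Flat (p ∣_ U) := IsZariskiLocalAtTarget.restrict (P := @Flat) ‹_› U
  haveI : Surjective (p ∣_ U) := IsZariskiLocalAtTarget.restrict (P := @Surjective) ‹_› U
  haveI : LocallyOfFinitePresentation (p ∣_ U) :=
    IsZariskiLocalAtTarget.restrict (P := @LocallyOfFinitePresentation) ‹_› U
  haveI := SchDesc.IsFpqc.of_locallyOfFinitePresentation (p ∣_ U)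
  haveI : IsIso e' := SchDesc.IsFpqc.isIso_of_isPullback h1
  rw [← he']
  infer_instance

/-- Let A be a local artinian ring, G an A-group scheme which is flat and locally of finite type, i : G⁰
→ G an open subgroup scheme whose image is the connected component of the unit (the neutral
component), and p : G → Q a homomorphism of A-group schemes which is surjective, flat and locally of
finite presentation with kernel G⁰ (Q is the quotient of G by G⁰). Then Q is etale over A. -/
theorem result (A : Type u) [CommRing A] [IsArtinianRing A] [IsLocalRing A] (G0 G Q : Over (Spec (CommRingCat.of A))) [GrpObj G0] [GrpObj G] [GrpObj Q]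
    [Flat G.hom] [LocallyOfFiniteType G.hom] (i : G0 ⟶ G) [IsMonHom i] [IsOpenImmersion i.left]
    (pt : ↥(𝟙_ (Over (Spec (CommRingCat.of A)))).left) (hi : Set.range i.left.base = connectedComponent (η[G].left.base pt))
    (p : G ⟶ Q) [IsMonHom p] [Surjective p.left] [Flat p.left] [LocallyOfFinitePresentation p.left]
    (hK : AlgGrp.IsKernel i p) : Etale Q.hom := by
  haveI : Flat (p.left ≫ Q.hom) := by rw [Over.w p]; infer_instance
  haveI : Flat Q.hom := Groth.Agent.FlatDescStalk.flat_of_comp p.left Q.hom
  haveI : LocallyOfFiniteType (p.left ≫ Q.hom) := by rw [Over.w p]; infer_instance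
  haveI : LocallyOfFiniteType Q.hom := FppfSrc.locallyOfFiniteType_of_precomp_fppf p.left Q.hom
  haveI : IsLocallyNoetherian (Spec (CommRingCat.of A)) := inferInstance
  haveI : LocallyOfFinitePresentation Q.hom := inferInstance
  haveI : IsOpenImmersion η[Q].left := isOpenImmersion_of_cartesian p.left η[Q].left (Over.w η[Q])
    (show IsPullback i.left (toUnit G0).left p.left η[Q].left from (hK : IsPullback _ _ _ _).map (Over.forget _))
  haveI : IsOpenImmersion (pullback.diagonal Q.hom) :=
    (GrpSchLib.diagonal_iff_unit (@IsOpenImmersion : MorphismProperty Scheme.{u})).mpr ‹_›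
  haveI : FormallyUnramified Q.hom := inferInstance
  exact Etale.of_formallyUnramified_of_flat Q.hom

end Groth.Agent.S5353
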