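import Groth.Statements.S14759
import Groth.Agent.S5353
import Groth.Agent.GrpQuotLib.FieldQuot
import Groth.Agent.MonoFibre.AffineKernel
import Groth.Agent.Neutral.Field
import Groth.Agent.Unibranch.Open
import Groth.Agent.GrpQuotLib.Descend

set_option autoImplicit false
universe u
open CategoryTheory CategoryTheory.Limits MonoidalCategory CartesianMonoidalCategory MonObj GrpObj AlgebraicGeometry
open AlgGrp

namespace Groth.Agent.S14759

set_option maxHeartbeats 1000000
set_option backward.isDefEq.respectTransparency false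
set_option backward.isDefEq.respectTransparency.types false

theorem connectedSpace_of_iso {A B : Scheme.{u}} (e : A ≅ B) [ConnectedSpace ↥A] : ConnectedSpace ↥B :=
  Function.Surjective.connectedSpace (Surjective.surj (f := e.hom)) e.hom.continuous

theorem discreteTopology_of_finite {k : Type u} [Field k] {X : Scheme.{u}} (f : X ⟶ Spec (CommRingCat.of k))
    [IsFinite f] : DiscreteTopology ↥X := by
  haveI : IsLocallyArtinian (Spec (CommRingCat.of k)) :=
    Scheme.isLocallyArtinianScheme_Spec.mpr (inferInstanceAs (IsArtinianRing k))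
  haveI : IsLocallyArtinian X := IsLocallyArtinian.of_locallyQuasiFinite f
  infer_instance

theorem lfp_left {k : Type u} [Field k] {A B : Over (Spec (CommRingCat.of k))} [LocallyOfFiniteType A.hom]
    [LocallyOfFiniteType B.hom] (q : A ⟶ B) : LocallyOfFinitePresentation q.left := by
  haveI : IsLocallyNoetherian B.left := LocallyOfFiniteType.isLocallyNoetherian B.hom
  haveI : LocallyOfFiniteType (q.left ≫ B.hom) := by rw [Over.w]; infer_instance
  haveI : LocallyOfFiniteType q.left := locallyOfFiniteType_of_comp q.left B.hom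
  infer_instance

/-- Over a field k, every isogeny φ : G → H of k-group schemes of finite type (a surjective homomorphism
with finite kernel) factors as φ = χ ∘ ψ with ψ : G → Q a purely inseparable isogeny (its kernel is
connected) followed by a separable isogeny χ : Q → H (its kernel is etale over k). (The published
definition of isogeny asks only for a finite kernel and an image of finite index in H; this row
takes φ surjective, which is the same notion when H is connected.) -/
theorem result (k : Type u) [Field k]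
    (G H : Over (Spec (CommRingCat.of k))) [GrpObj G] [GrpObj H]
    [QuasiCompact G.hom] [LocallyOfFiniteType G.hom] [QuasiCompact H.hom] [LocallyOfFiniteType H.hom]
    (φ : G ⟶ H) [IsMonHom φ] (hφ : SGA7.IsIsogenyOver φ) :
    ∃ (Q : Over (Spec (CommRingCat.of k))) (_ : GrpObj Q) (ψ : G ⟶ Q) (χ : Q ⟶ H),
      IsMonHom ψ ∧ IsMonHom χ ∧ ψ ≫ χ = φ ∧ SGA7.IsIsogenyOver ψ ∧ SGA7.IsIsogenyOver χ ∧
      (∀ (N : Over (Spec (CommRingCat.of k))) (n : N ⟶ G), AlgGrp.IsKernel n ψ → ConnectedSpace ↥N.left) ∧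
      (∀ (N : Over (Spec (CommRingCat.of k))) (n : N ⟶ Q), AlgGrp.IsKernel n χ → Etale N.hom) := by
  obtain ⟨hφs, hφk⟩ := hφ
  haveI := hφs
  haveI hηmono : Mono η[H] := SplitMono.mono ⟨toUnit H, toUnit_unique _ _⟩
  -- the kernel
  obtain ⟨gN, ha⟩ := MonoFibre.exists_grpObj_kernel φ
  let N := pullback φ η[H]
  let a : N ⟶ G := pullback.fst φ η[H]
  letI : GrpObj N := gN
  haveI : IsMonHom a := ha
  have hN : IsPullback a (toUnit N) φ η[H] := by
    rw [toUnit_unique (toUnit N) (pullback.snd φ η[H])]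
    exact IsPullback.of_hasPullback φ η[H]
  haveI : IsFinite N.hom := hφk N a hN
  haveI : Mono a := hN.mono_fst_of_mono
  haveI : DiscreteTopology ↥N.left := discreteTopology_of_finite N.hom
  -- its neutral component
  obtain ⟨N₀, gN₀, i, hi1, hi2, hi3, hi4, -, -⟩ := Neutral.exists_neutralSubgroup N
  letI : GrpObj N₀ := gN₀
  haveI : IsMonHom i := hi1
  haveI : IsClosedImmersion i.left := hi2
  haveI : Flat i.left := hi3
  have hr : Set.range ⇑i.left = {GrpSchLib.unitPt N} := by
    rw [hi4]
    exact connectedComponent_eq_singleton _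
  haveI : LocallyOfFiniteType N₀.hom := by rw [← Over.w i]; infer_instance
  haveI : LocallyOfFinitePresentation i.left := lfp_left i
  haveI : IsOpenImmersion i.left := IsOpenImmersion.of_flat_of_mono i.left
  haveI : IsFinite N₀.hom := by rw [← Over.w i]; infer_instance
  haveI : ConnectedSpace ↥N₀.left := by
    haveI : Subsingleton ↥N₀.left := ⟨fun x y => (IsClosedImmersion.isClosedEmbedding i.left).injective
      ((hr.le ⟨x, rfl⟩).trans (hr.le ⟨y, rfl⟩).symm)⟩
    haveI : Nonempty ↥N₀.left := ⟨η[N₀].left (IsLocalRing.closedPoint k)⟩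
    haveI : PreconnectedSpace ↥N₀.left := ⟨Set.subsingleton_univ.isPreconnected⟩
    exact ⟨inferInstance⟩
  haveI : IsClosedImmersion a.left := by
    haveI : IsClosedImmersion η[H].left := GrpSchLib.isClosedImmersion_unit
    exact MorphismProperty.of_isPullback (P := @IsClosedImmersion) (GrpQuotLib.isPullback_left hN).flip ‹_›
  haveI : IsClosedImmersion (i ≫ a).left := inferInstanceAs (IsClosedImmersion (i.left ≫ a.left))
  have haφ : a ≫ φ = 1 := by rw [hN.w, Hom.one_def]
  have hnorm : AlgGrp.IsNormalHom (i ≫ a) := by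
    intro T g n
    have hc : (g * (n ≫ (i ≫ a)) * g⁻¹) ≫ φ = 1 := by
      rw [MonObj.mul_comp, MonObj.mul_comp, GrpObj.inv_comp, Category.assoc, Category.assoc, haφ,
        MonObj.comp_one, MonObj.comp_one, _root_.mul_one, mul_inv_cancel]
    obtain ⟨z, hz⟩ : ∃ z : T ⟶ N, z ≫ a = g * (n ≫ (i ≫ a)) * g⁻¹ :=
      ⟨hN.lift _ (toUnit T) (by rw [hc, Hom.one_def]), hN.lift_fst _ _ _⟩
    have hsub : Set.range ⇑z.left ⊆ Set.range ⇑i.left := by
      rintro _ ⟨t, rfl⟩
      rw [hr, Set.mem_singleton_iff]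
      have ht : (n ≫ i).left t = GrpSchLib.unitPt N := hr.le ⟨n.left t, rfl⟩
      obtain ⟨T', b, t', htt, hb⟩ := GrpSchLib.exists_eq_one (n ≫ i) t ht
      have hbz : b ≫ z = 1 := by
        rw [← cancel_mono a, MonObj.one_comp, Category.assoc, hz, MonObj.comp_mul, MonObj.comp_mul,
          GrpObj.comp_inv, ← Category.assoc n, ← Category.assoc b, hb, MonObj.one_comp, _root_.mul_one,
          mul_inv_cancel]
      have h2 := congrArg (fun m : T' ⟶ N => m.left t') hbz
      rw [GrpSchLib.one_apply] at h2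
      rw [← htt]
      exact h2
    let z' : T.left ⟶ N₀.left := IsOpenImmersion.lift i.left z.left hsub
    have hz' : z' ≫ i.left = z.left := IsOpenImmersion.lift_fac _ _ _
    refine ⟨Over.homMk z' (by rw [← Over.w i, reassoc_of% hz', Over.w z]), ?_⟩
    rw [← hz, ← Category.assoc]
    congr 1
    exact Over.OverMorphism.ext hz'.symm
  -- the quotient
  obtain ⟨Q, gQ, ψ, hψ, hQs, hQl, hQq, hψs, hψf, hψp, hψk⟩ :=
    GrpQuotLib.exists_quotientGrp_field N₀ G (i ≫ a) hnorm
  letI : GrpObj Q := gQ
  haveI := hψ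
  haveI := hQl
  haveI := hQq
  haveI := hψs
  haveI := hψf
  haveI := hψp
  haveI : SchDesc.IsFpqc ψ.left := SchDesc.IsFpqc.of_locallyOfFinitePresentation _
  obtain ⟨χ, hχ⟩ := GrpQuotLib.exists_desc ψ φ fun T x y hxy => by
    have h1 : (x⁻¹ * y) ≫ ψ = 1 := by rw [MonObj.mul_comp, GrpObj.inv_comp, hxy, inv_mul_cancel]
    obtain ⟨n, hn⟩ : ∃ n : T ⟶ N₀, n ≫ (i ≫ a) = x⁻¹ * y :=
      ⟨hψk.lift _ (toUnit T) (by rw [h1, Hom.one_def]), hψk.lift_fst _ _ _⟩
    have h2 : (x⁻¹ * y) ≫ φ = 1 := by
      rw [← hn, Category.assoc, Category.assoc, haφ, MonObj.comp_one, MonObj.comp_one]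
    rw [MonObj.mul_comp, GrpObj.inv_comp, inv_mul_eq_one] at h2
    exact h2
  haveI : Epi ψ := GrpQuotLib.epi_of_isFpqc ψ
  haveI : Epi (ψ ⊗ₘ ψ) := by
    haveI := GrpQuotLib.isFpqc_whiskerRight ψ G
    haveI := GrpQuotLib.isFpqc_whiskerLeft ψ Q
    haveI := GrpQuotLib.epi_of_isFpqc (ψ ▷ G)
    haveI := GrpQuotLib.epi_of_isFpqc (Q ◁ ψ)
    rw [MonoidalCategory.tensorHom_def]
    exact epi_comp _ _
  haveI : IsMonHom χ := by
    refine ⟨?_, ?_⟩
    · rw [← IsMonHom.one_hom ψ, Category.assoc, hχ, IsMonHom.one_hom]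
    · rw [← cancel_epi (ψ ⊗ₘ ψ), ← Category.assoc, ← IsMonHom.mul_hom, Category.assoc, hχ, IsMonHom.mul_hom,
        ← Category.assoc, tensorHom_comp_tensorHom, hχ]
  haveI : Surjective χ.left := by
    haveI : Surjective (ψ.left ≫ χ.left) := by rw [← Over.comp_left, hχ]; infer_instance
    exact Surjective.of_comp ψ.left χ.left
  -- the kernel of the second map
  obtain ⟨gM, hb⟩ := MonoFibre.exists_grpObj_kernel χ
  let M := pullback χ η[H]
  let b : M ⟶ Q := pullback.fst χ η[H]
  letI : GrpObj M := gM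
  haveI : IsMonHom b := hb
  have hM : IsPullback b (toUnit M) χ η[H] := by
    rw [toUnit_unique (toUnit M) (pullback.snd χ η[H])]
    exact IsPullback.of_hasPullback χ η[H]
  haveI : Mono b := hM.mono_fst_of_mono
  obtain ⟨p, hp⟩ : ∃ p : N ⟶ M, p ≫ b = a ≫ ψ :=
    ⟨hM.lift (a ≫ ψ) (toUnit N) (by rw [Category.assoc, hχ, hN.w]), hM.lift_fst _ _ _⟩
  haveI : IsMonHom p := by
    refine ⟨?_, ?_⟩
    · rw [← cancel_mono b, Category.assoc, hp, IsMonHom.one_hom, IsMonHom.one_hom]
    · rw [← cancel_mono b, Category.assoc, Category.assoc, hp, IsMonHom.mul_hom, IsMonHom.mul_hom,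
        ← Category.assoc, tensorHom_comp_tensorHom, hp]
  have hcut : IsPullback a p ψ b := by
    refine IsPullback.of_bot ?_ hp.symm hM
    rw [toUnit_unique (p ≫ toUnit M) (toUnit N), hχ]
    exact hN
  have hcutL := (GrpQuotLib.isPullback_left hcut)
  haveI : Surjective p.left := MorphismProperty.of_isPullback (P := @Surjective) hcutL ‹_›
  haveI : Flat p.left := MorphismProperty.of_isPullback (P := @Flat) hcutL ‹_›
  haveI : LocallyOfFinitePresentation p.left :=
    MorphismProperty.of_isPullback (P := @LocallyOfFinitePresentation) hcutL ‹_›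
  have hkp : AlgGrp.IsKernel i p := by
    refine IsPullback.of_right (h₁₂ := a) (v₁₃ := ψ) (h₂₂ := b) ?_ ?_ hcut
    · rw [IsMonHom.one_hom b]
      exact hψk
    · rw [← cancel_mono b, Category.assoc, Category.assoc, hp, IsMonHom.one_hom b, ← Category.assoc]
      exact hψk.w
  haveI : Flat N.hom := by
    haveI : Subsingleton ↥(Spec (CommRingCat.of k)) := inferInstanceAs (Subsingleton (PrimeSpectrum k))
    infer_instance
  haveI hMet : Etale M.hom := S5353.result k N₀ N M i (IsLocalRing.closedPoint k) hi4 p hkp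
  haveI : IsClosedImmersion b.left := by
    haveI : IsClosedImmersion η[H].left := GrpSchLib.isClosedImmersion_unit
    exact MorphismProperty.of_isPullback (P := @IsClosedImmersion) (GrpQuotLib.isPullback_left hM).flip ‹_›
  haveI : QuasiCompact M.hom := by rw [← Over.w b]; infer_instance
  haveI : LocallyQuasiFinite M.hom := Unibranch.locallyQuasiFinite_of_etale M.hom
  haveI : IsLocallyArtinian (Spec (CommRingCat.of k)) :=
    Scheme.isLocallyArtinianScheme_Spec.mpr (inferInstanceAs (IsArtinianRing k))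
  haveI : IsFinite M.hom := IsFinite.of_locallyQuasiFinite M.hom
  refine ⟨Q, gQ, ψ, χ, hψ, inferInstance, hχ, ⟨hψs, fun N' n hn => ?_⟩, ⟨inferInstance, fun N' n hn => ?_⟩,
    fun N' n hn => ?_, fun N' n hn => ?_⟩
  · rw [← Over.w (hn.isoIsPullback _ _ hψk).hom]
    infer_instance
  · rw [← Over.w (hn.isoIsPullback _ _ hM).hom]
    infer_instance
  · haveI : ConnectedSpace ↥((Over.forget (Spec (CommRingCat.of k))).obj N₀) := ‹ConnectedSpace ↥N₀.left›
    exact connectedSpace_of_iso ((Over.forget _).mapIso (hn.isoIsPullback _ _ hψk).symm)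
  · rw [← Over.w (hn.isoIsPullback _ _ hM).hom]
    infer_instance

end Groth.Agent.S14759
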