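import Groth.Statements.S14763
import Groth.Agent.MonoFibre.RigidityProper
import Groth.Agent.MonoFibre.AntiAffinePart
import Groth.Agent.AVLib.MaxAbel
import Groth.Agent.AVLib.GeomInt
import Groth.Agent.AVLib.Isog
import Groth.Agent.AVLib.Isogeny
import Groth.Agent.GrpQuotLib.Descend
import Groth.Agent.GrpQuotLib.KerGrp
import Groth.Agent.GrpSchLib.DeligneScheme
import Groth.Agent.GrpSchLib.Smooth
import Groth.Agent.SchDenseLib.Basic
import Groth.Agent.GrpInfLib.Comm

set_option autoImplicit false
universe u
open CategoryTheory CategoryTheory.Limits MonoidalCategory CartesianMonoidalCategory MonObj GrpObj AlgebraicGeometry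
open AlgGrp

namespace Groth.Agent.S14763

open CategoryTheory CategoryTheory.Limits AlgebraicGeometry

open Groth.Agent
set_option backward.isDefEq.respectTransparency false

/-- Over an algebraically closed field k let G be a commutative group variety (smooth connected
commutative k-group scheme of finite type) written as an extension 0 → L → G → A → 0 of an abelian
variety by its largest connected affine subgroup: i : L → G a smooth connected affine closed
subgroup scheme, kernel of a flat surjective homomorphism π : G → A onto an abelian variety A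
(proper, smooth, connected). Then the following are equivalent: (a) for some d ≥ 1 there is a
homomorphism s : A → G with π ∘ s equal to multiplication by d on A (the class of the extension is
killed by d: its pullback along multiplication by d splits); (b) there is an abelian subvariety A'
of G (a smooth connected proper closed subgroup scheme) with A' · L = G, that is, the multiplication
A' × L → G is surjective. (The published statement phrases (a) as the class of G having finite order
in the group of extension classes and (b) as G being isogenous to L × A; the published proof passes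
through exactly the two conditions stated here.) -/
theorem result (k : Type u) [Field k] [IsAlgClosed k]
    (G L A : Over (Spec (CommRingCat.of k))) [GrpObj G] [GrpObj L] [GrpObj A] [IsCommMonObj G]
    [Smooth G.hom] [QuasiCompact G.hom] [ConnectedSpace ↥G.left]
    (i : L ⟶ G) [IsMonHom i] [IsClosedImmersion i.left] [IsAffine L.left] [Smooth L.hom] [ConnectedSpace ↥L.left]
    (π : G ⟶ A) [IsMonHom π] [Flat π.left] [Surjective π.left] (hker : AlgGrp.IsKernel i π)
    [IsProper A.hom] [Smooth A.hom] [ConnectedSpace ↥A.left] :
    (∃ d : ℕ, 0 < d ∧ ∃ s : A ⟶ G, IsMonHom s ∧ s ≫ π = (𝟙 A) ^ d) ↔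
      (∃ (A' : Over (Spec (CommRingCat.of k))) (_ : GrpObj A') (j : A' ⟶ G), IsMonHom j ∧ IsClosedImmersion j.left ∧
        Smooth A'.hom ∧ ConnectedSpace ↥A'.left ∧ IsProper A'.hom ∧ Surjective ((j ⊗ₘ i) ≫ μ[G]).left) := by
  haveI : IsSeparated G.hom := GrpSchLib.isSeparated_hom
  have hiπ : i ≫ π = 1 := by rw [Hom.one_def]; exact hker.w
  haveI : GeometricallyReduced A.hom := AVLib.geometricallyReduced_of_smooth A.hom
  haveI : GeometricallyIntegral A.hom := AVLib.geometricallyIntegral_of_connectedSpace
  haveI : IsCommMonObj A := isCommMonObj_of_isProper_of_geometricallyIntegral A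
  haveI : IsReduced A.left := ASp.isReduced_of_smooth A.hom
  constructor
  · rintro ⟨d, hd, s, hs, hsπ⟩
    haveI := hs
    haveI : QuasiCompact s.left := by
      haveI : QuasiCompact (s.left ≫ G.hom) := by rw [Over.w s]; infer_instance
      exact QuasiCompact.of_comp s.left G.hom
    obtain ⟨A', _, j, g, hj, hjc, hg, hgj, hdom, -, hgs⟩ := MonoFibre.AntiAffinePart.exists_schemeImage s
    haveI := hj; haveI := hjc; haveI := hdom; haveI := hgs
    haveI : IsReduced A'.left := SchDenseLib.isReduced_of_reduced_source g.left
    haveI : LocallyOfFiniteType A'.hom := by rw [← Over.w j]; infer_instance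
    haveI : IsSeparated A'.hom := by rw [← Over.w j]; infer_instance
    haveI : Smooth A'.hom := GrpSchLib.smooth_of_isReduced A'
    haveI : UniversallyClosed A'.hom := by
      haveI : UniversallyClosed (g.left ≫ A'.hom) := by rw [Over.w g]; infer_instance
      exact UniversallyClosed.of_comp_surjective g.left A'.hom
    haveI : IsProper A'.hom := {}
    refine ⟨A', inferInstance, j, inferInstance, inferInstance, inferInstance,
      g.left.surjective.connectedSpace g.left.continuous, inferInstance, ?_⟩
    haveI : Surjective (j ≫ π).left := by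
      haveI : Surjective ((𝟙 A) ^ d).left := AVLib.surjective_npow d hd
      have e : g ≫ j ≫ π = (𝟙 A) ^ d := by rw [← Category.assoc, hgj, hsπ]
      haveI : Surjective (g.left ≫ (j ≫ π).left) := by rw [← Over.comp_left, e]; infer_instance
      exact Surjective.of_comp g.left _
    refine ⟨fun x => ?_⟩
    obtain ⟨T, a, m, t, ht, he⟩ := GrpSchLib.exists_lift π (j ≫ π) x ((j ≫ π).left.surjective _)
    obtain ⟨n, hn, -⟩ := hker.exists_lift (a * (m ≫ j)⁻¹) (toUnit T) (by
      rw [MonObj.mul_comp, GrpObj.inv_comp, Category.assoc, he, mul_inv_cancel, Hom.one_def])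
    refine ⟨(lift m n).left t, ?_⟩
    rw [← Scheme.Hom.comp_apply, ← Over.comp_left, ← Category.assoc, lift_map, ← Hom.mul_def, hn,
      _root_.mul_comm a, mul_inv_cancel_left, ht]
  · rintro ⟨A', _, j, hj, hjc, hsm, hcon, hpr, hsurj⟩
    haveI := hj; haveI := hjc; haveI := hsm; haveI := hcon; haveI := hpr
    haveI : GeometricallyReduced A'.hom := AVLib.geometricallyReduced_of_smooth A'.hom
    haveI : GeometricallyIntegral A'.hom := AVLib.geometricallyIntegral_of_connectedSpace
    haveI : IsCommMonObj A' := isCommMonObj_of_isProper_of_geometricallyIntegral A'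
    haveI : LocallyOfFiniteType L.hom := inferInstance
    have hμ : (j ⊗ₘ i) ≫ μ[G] = (fst A' L ≫ j) * (snd A' L ≫ i) := by
      rw [Hom.mul_def]; congr 1
    let φ : A' ⟶ A := j ≫ π
    haveI : IsMonHom φ := inferInstanceAs (IsMonHom (j ≫ π))
    haveI : Surjective φ.left := by
      have e : ((j ⊗ₘ i) ≫ μ[G]) ≫ π = fst A' L ≫ φ := by
        rw [hμ, MonObj.mul_comp, Category.assoc, Category.assoc, hiπ, MonObj.comp_one, _root_.mul_one]
      haveI : Surjective (((j ⊗ₘ i) ≫ μ[G]) ≫ π).left := by
        rw [Over.comp_left]; infer_instance
      rw [e, Over.comp_left] at this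
      exact Surjective.of_comp (fst A' L).left _
    haveI : QuasiCompact φ.left := by
      haveI : QuasiCompact (φ.left ≫ A.hom) := by rw [Over.w φ]; infer_instance
      exact QuasiCompact.of_comp φ.left A.hom
    haveI : Flat φ.left := AVLib.flat_of_surjective φ
    haveI : SchDesc.IsFpqc φ.left := SchDesc.IsFpqc.of_quasiCompact φ.left
    haveI : Mono η[A] := SplitMono.mono ⟨toUnit A, toUnit_unique _ _⟩
    let K := pullback φ η[A]
    let a : K ⟶ A' := pullback.fst φ η[A]
    obtain ⟨_, _⟩ := GrpQuotLib.exists_grpObj_kernel φ
    have haK : AlgGrp.IsKernel a φ := by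
      have h := IsPullback.of_hasPullback φ η[A]
      rwa [toUnit_unique (pullback.snd φ η[A]) (toUnit _)] at h
    haveI : Mono a := inferInstance
    haveI : IsCommMonObj K := GrpInfLib.isCommMonObj_of_mono a
    haveI : IsFinite K.hom := by
      haveI : IsClosedImmersion η[A].left := by
        haveI : IsClosedImmersion (η[A].left ≫ A.hom) := by
          rw [Over.w η[A]]
          exact inferInstanceAs (IsClosedImmersion (𝟙 (Spec (CommRingCat.of k))))
        exact IsClosedImmersion.of_comp _ A.hom
      haveI : IsClosedImmersion a.left :=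
        MorphismProperty.of_isPullback ((IsPullback.map (Over.forget _) haK).flip) ‹IsClosedImmersion η[A].left›
      haveI : IsProper K.hom := by rw [← Over.w a]; infer_instance
      obtain ⟨b, hb, -⟩ := hker.exists_lift (a ≫ j) (toUnit K) (by rw [Category.assoc]; exact haK.w)
      haveI : Mono b := by
        haveI : Mono j := by
          haveI : Mono j.left := inferInstance
          exact Over.mono_of_mono_left j
        haveI : Mono (b ≫ i) := by rw [hb]; infer_instance
        exact mono_of_mono b i
      haveI : Mono b.left := inferInstance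
      haveI : IsProper b.left := by
        haveI : IsProper (b.left ≫ L.hom) := by rw [Over.w b]; infer_instance
        exact IsProper.of_comp b.left L.hom
      haveI : IsClosedImmersion b.left := (IsClosedImmersion.iff_isProper_and_mono _).2 ⟨inferInstance, inferInstance⟩
      haveI : IsAffineHom K.hom := by rw [← Over.w b]; infer_instance
      exact IsFinite.iff_isProper_and_isAffineHom.2 ⟨inferInstance, inferInstance⟩
    haveI : Subsingleton ↥(Spec (CommRingCat.of k)) := inferInstanceAs (Subsingleton (PrimeSpectrum k))
    haveI : Flat K.hom := inferInstance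
    haveI : LocallyOfFinitePresentation K.hom := inferInstance
    let p := (η[K]).left (IsLocalRing.closedPoint k)
    let r := Scheme.Hom.finrank K.hom (K.hom p)
    have hr : 0 < r := Scheme.Hom.one_le_finrank_map K.hom p
    have hkill : ∀ (T : Over (Spec (CommRingCat.of k))) (z : T ⟶ K), z ^ r = 1 := fun T z =>
      GrpSchLib.pow_eq_one_of_finrank K r (fun s => by rw [Subsingleton.elim s (K.hom p)]) T z
    haveI : IsMonHom a := inferInstanceAs (IsMonHom (pullback.fst φ η[A]))
    obtain ⟨g, hg⟩ := GrpQuotLib.exists_desc φ ((𝟙 A') ^ r) (fun T x y e => by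
      obtain ⟨z, hz, -⟩ := haK.exists_lift (x * y⁻¹) (toUnit T) (by
        rw [MonObj.mul_comp, GrpObj.inv_comp, e, mul_inv_cancel, Hom.one_def])
      have h1 := congrArg (· ≫ a) (hkill T z)
      simp only [MonObj.pow_comp, MonObj.one_comp, hz] at h1
      rw [mul_pow, inv_pow, mul_inv_eq_one] at h1
      rw [MonObj.comp_pow, MonObj.comp_pow, Category.comp_id, Category.comp_id, h1])
    haveI : IsMonHom g := by
      refine MonoFibre.Rigidity.isMonHom_of_proper g ?_
      rw [← IsMonHom.one_hom φ, Category.assoc, hg, MonObj.comp_pow, Category.comp_id]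
      rw [show η[A'] = (1 : 𝟙_ _ ⟶ A') by rw [Hom.one_def, toUnit_unique (toUnit _) (𝟙 _), Category.id_comp], one_pow]
    refine ⟨r, hr, g ≫ j, inferInstance, ?_⟩
    haveI := GrpQuotLib.epi_of_isFpqc φ
    rw [← cancel_epi φ, MonObj.comp_pow, Category.comp_id]
    calc φ ≫ (g ≫ j) ≫ π = (φ ≫ g) ≫ φ := by simp only [φ, Category.assoc]
      _ = φ ^ r := by rw [hg, MonObj.pow_comp, Category.id_comp]

end Groth.Agent.S14763
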