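import Groth.Statements.S14780
import Groth.Agent.NilFlatLib.Core
import Groth.Agent.NilFlatLib.Descend
-- import your own Groth.Agent.* helpers here

set_option autoImplicit false
universe u
open CategoryTheory CategoryTheory.Limits AlgebraicGeometry
open Subtr

open Groth.Agent CategoryTheory.Limits
set_option backward.isDefEq.respectTransparency false
namespace Groth.Agent.S14780

/-- Let Y be a scheme that is affine or Noetherian and f : X ⟶ Y a universally open surjective morphism
of finite presentation. Then there are a scheme Y', a proper surjective morphism q : Y' ⟶ Y of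
finite presentation, a scheme X' and a surjective closed immersion r : X' ⟶ X ×_Y Y' (a
nil-immersion) such that the composite X' ⟶ X ×_Y Y' ⟶ Y' is flat, surjective and of finite
presentation. -/
theorem result {X Y : Scheme.{u}}
    (f : X ⟶ Y) (hY : IsAffine Y ∨ IsNoetherian Y) [LocallyOfFinitePresentation f] [QuasiCompact f] [QuasiSeparated f]
    [UniversallyOpen f] [Surjective f] :
    ∃ (Y' : Scheme.{u}) (q : Y' ⟶ Y) (X' : Scheme.{u}) (r : X' ⟶ pullback f q),
      IsProper q ∧ Surjective q ∧ LocallyOfFinitePresentation q ∧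
      IsClosedImmersion r ∧ Surjective r ∧
      Flat (r ≫ pullback.snd f q) ∧ Surjective (r ≫ pullback.snd f q) ∧
      LocallyOfFinitePresentation (r ≫ pullback.snd f q) ∧ QuasiCompact (r ≫ pullback.snd f q) ∧
      QuasiSeparated (r ≫ pullback.snd f q) := by
  rcases hY with hY | hY
  swap
  · exact Groth.Agent.NilFlatLib.exists_flat_nil f
  obtain ⟨A₁, X₁, f₁, g, hfg, hpb', hl₁, hqc₁, hqs₁, ho₁⟩ :=
    Groth.Agent.NilFlatLib.exists_model_universallyOpen Γ(Y, ⊤) (f ≫ Y.isoSpec.hom)
  haveI := hl₁; haveI := hqc₁; haveI := hqs₁; haveI := ho₁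
  have hpb := Groth.Agent.SubtrRefineLib.isPullback_isoSpec hpb'
  let θ := Y.isoSpec.hom ≫ Spec.map (CommRingCat.ofHom A₁.val.toRingHom)
  haveI : Algebra.FiniteType ℤ A₁ := ⟨(Subalgebra.fg_top A₁).2 hfg⟩
  haveI : IsNoetherianRing A₁ := Algebra.FiniteType.isNoetherianRing ℤ A₁
  let V : (Spec (CommRingCat.of A₁)).Opens := ⟨Set.range f₁, f₁.isOpenMap.isOpen_range⟩
  haveI : IsLocallyNoetherian V.toScheme := LocallyOfFiniteType.isLocallyNoetherian V.ι
  haveI : CompactSpace V.toScheme := (isCompact_iff_compactSpace).1 (TopologicalSpace.NoetherianSpace.isCompact _)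
  haveI : IsNoetherian V.toScheme := ⟨⟩
  let f₂ := pullback.snd f₁ V.ι
  haveI : LocallyOfFinitePresentation f₂ := MorphismProperty.pullback_snd _ _ hl₁
  haveI : QuasiCompact f₂ := MorphismProperty.pullback_snd _ _ hqc₁
  haveI : QuasiSeparated f₂ := MorphismProperty.pullback_snd _ _ hqs₁
  haveI : UniversallyOpen f₂ := MorphismProperty.pullback_snd _ _ ho₁
  haveI : Surjective f₂ := ⟨fun v => by
    obtain ⟨x, hx⟩ := v.2
    obtain ⟨z, -, hz⟩ := Scheme.Pullback.exists_preimage_pullback (f := f₁) (g := V.ι) x v (by rw [hx]; rfl)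
    exact ⟨z, hz⟩⟩
  let θ₂ : Y ⟶ V.toScheme := IsOpenImmersion.lift V.ι θ (by
    rintro _ ⟨y, rfl⟩
    obtain ⟨x, rfl⟩ := f.surjective y
    rw [Scheme.Opens.range_ι, ← Scheme.Hom.comp_apply, ← hpb.w, Scheme.Hom.comp_apply]
    exact ⟨g x, rfl⟩)
  have hθ : θ₂ ≫ V.ι = θ := IsOpenImmersion.lift_fac _ _ _
  let g₂ : X ⟶ pullback f₁ V.ι := pullback.lift g (f ≫ θ₂) (by rw [Category.assoc, hθ]; exact hpb.w)
  have hpb₂ : IsPullback g₂ f f₂ θ₂ := IsPullback.of_right (by
    rw [pullback.lift_fst, hθ]; exact hpb) (pullback.lift_snd _ _ _) (IsPullback.of_hasPullback f₁ V.ι)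
  obtain ⟨P, q₂, T, r₂, h1, h2, h3, h4, h5, h6, h7, h8, h9, h10⟩ := Groth.Agent.NilFlatLib.exists_flat_nil f₂
  let q := pullback.snd q₂ θ₂
  have h := (IsPullback.of_hasPullback f q).paste_horiz hpb₂
  let Φ : pullback f q ⟶ pullback f₂ q₂ := pullback.lift (pullback.fst f q ≫ g₂) (pullback.snd f q ≫ pullback.fst q₂ θ₂)
    (by rw [h.w, Category.assoc, pullback.condition])
  have hΦ : IsPullback Φ (pullback.snd f q) (pullback.snd f₂ q₂) (pullback.fst q₂ θ₂) :=
    IsPullback.of_right (by
      rw [pullback.lift_fst, pullback.condition (f := q₂)]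
      exact h) (pullback.lift_snd _ _ _) (IsPullback.of_hasPullback f₂ q₂)
  have hr := (IsPullback.of_hasPullback r₂ Φ).paste_vert hΦ
  exact ⟨_, q, _, pullback.snd r₂ Φ, MorphismProperty.pullback_snd _ _ h1, MorphismProperty.pullback_snd _ _ h2,
    MorphismProperty.pullback_snd _ _ h3, MorphismProperty.pullback_snd _ _ h4, MorphismProperty.pullback_snd _ _ h5,
    MorphismProperty.of_isPullback hr h6, MorphismProperty.of_isPullback hr h7, MorphismProperty.of_isPullback hr h8,
    MorphismProperty.of_isPullback hr h9, MorphismProperty.of_isPullback hr h10⟩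

end Groth.Agent.S14780
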