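import Groth.Statements.S14782
import Groth.Agent.SubtrRefineLib.Section
-- import your own Groth.Agent.* helpers here

set_option autoImplicit false
universe u
open CategoryTheory CategoryTheory.Limits AlgebraicGeometry
open Subtr

open Groth.Agent CategoryTheory.Limits
set_option backward.isDefEq.respectTransparency false
namespace Groth.Agent.S14782

/-- Let Y be a scheme that is affine or Noetherian and f : X ⟶ Y a morphism of finite presentation every
base change of which has the lifting property for ordered pairs of points. Then there are schemes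
X', Y', a morphism h : X' ⟶ X, a quasi-compact surjective morphism p : X' ⟶ Y' that is an open
immersion on an open neighbourhood of every point of X' (a quasi-compact open covering of Y') and a
proper surjective morphism q : Y' ⟶ Y of finite presentation, with h ≫ f = p ≫ q. -/
theorem result {X Y : Scheme.{u}} (f : X ⟶ Y)
    (hY : IsAffine Y ∨ IsNoetherian Y) [LocallyOfFinitePresentation f] [QuasiCompact f] [QuasiSeparated f]
    (hf : Subtr.UnivSSubtrusive f) :
    ∃ (X' Y' : Scheme.{u}) (h : X' ⟶ X) (p : X' ⟶ Y') (q : Y' ⟶ Y), h ≫ f = p ≫ q ∧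
      Surjective p ∧ QuasiCompact p ∧ (∀ x : X', ∃ U : X'.Opens, x ∈ U ∧ IsOpenImmersion (U.ι ≫ p)) ∧
      IsProper q ∧ Surjective q ∧ LocallyOfFinitePresentation q := by
  have key : SubtrRefineLib.SectionRefinable @IsProper f ∧ QuasiSeparatedSpace Y ∧ CompactSpace Y := by
    rcases hY with h | h
    · exact ⟨SubtrRefineLib.sectionRefinable_proper_of_affine f hf, inferInstance, inferInstance⟩
    · exact ⟨SubtrRefineLib.sectionRefinable_proper_of_noetherian f hf, inferInstance, inferInstance⟩
  obtain ⟨H, hqs, hc⟩ := key
  obtain ⟨X', Y', m, p, q, e, g1, g2, g3, g4, g5, g6, g7⟩ :=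
    SubtrRefineLib.exists_refinement_of_sectionRefinable (fun {P} q hq => by
      haveI : IsProper q := hq
      exact ⟨QuasiCompact.compactSpace_of_compactSpace q, quasiSeparatedSpace_of_quasiSeparated q⟩) H
  exact ⟨X', Y', m, p, q, e, g1, g2, g4, g5, g6, g7⟩

end Groth.Agent.S14782
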