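import Groth.Statements.S14790
import Groth.Agent.FlatLocus.Scheme
import Groth.Agent.FlatLocus.ImageClosure
-- import your own Groth.Agent.* helpers here

set_option autoImplicit false
universe u
open CategoryTheory CategoryTheory.Limits AlgebraicGeometry
open Subtr

open Groth.Agent CategoryTheory.Limits
set_option backward.isDefEq.respectTransparency false
namespace Groth.Agent.S14790

/-- Take a scheme Y that is reduced, quasi-compact and quasi-separated, whose set of maximal points
(points with no proper generization) is quasi-compact, and f : X ⟶ Y a morphism of finite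
presentation. Then there is a dense quasi-compact open subset U ⊆ Y over which f is flat. -/
theorem result {X Y : Scheme.{u}} [IsReduced Y]
    [CompactSpace Y] [QuasiSeparatedSpace Y]
    (hgen : IsCompact {y : Y | ∀ y' : Y, y' ⤳ y → y' = y})
    (f : X ⟶ Y) [LocallyOfFinitePresentation f] [QuasiCompact f] [QuasiSeparated f] :
    ∃ U : Y.Opens, Dense (U : Set Y) ∧ IsCompact (U : Set Y) ∧ Flat (f ∣_ U) := by
  classical
  let M : Set Y := {y | ∀ y' : Y, y' ⤳ y → y' = y}
  have hfld : ∀ y ∈ M, IsField (Y.presheaf.stalk y) := by
    intro y hy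
    have hsub : ∀ p : PrimeSpectrum (Y.presheaf.stalk y), p = IsLocalRing.closedPoint _ := fun p => by
      have hp : Y.fromSpecStalk y p ⤳ y := by
        have := Scheme.range_fromSpecStalk (X := Y) (x := y) ▸ Set.mem_range_self (f := Y.fromSpecStalk y) p
        exact this
      apply (Y.fromSpecStalk y).isEmbedding.injective
      rw [Scheme.fromSpecStalk_closedPoint]
      exact hy _ hp
    rw [IsLocalRing.isField_iff_maximalIdeal_eq, eq_bot_iff]
    intro a ha
    have : a ∈ nilradical (Y.presheaf.stalk y) := by
      rw [nilradical_eq_sInf, Ideal.mem_sInf]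
      intro J hJ
      have := congrArg PrimeSpectrum.asIdeal (hsub ⟨J, hJ⟩)
      simp only at this
      rw [this]
      exact ha
    rw [nilradical_eq_zero] at this
    exact this
  let C : Set X := {x | (f.stalkMap x).hom.Flat}ᶜ
  have hC : IsClosed C := (FlatLocus.isOpen_flat_stalkMap f).isClosed_compl
  let V : Y.Opens := ⟨(closure (f '' C))ᶜ, isClosed_closure.isOpen_compl⟩
  have hMV : ∀ y ∈ M, y ∈ V := by
    intro y hy hyc
    obtain ⟨x, hx, hs⟩ := FlatLocus.exists_specializes_of_mem_closure_image f hC hyc
    have e := hy _ hs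
    refine hx ?_
    show (f.stalkMap x).hom.Flat
    letI := (f.stalkMap x).hom.toAlgebra
    letI : Field (Y.presheaf.stalk (f x)) := (hfld (f x) (e.symm ▸ hy)).toField
    exact Module.Flat.of_free
  choose W hW hyW hWV using fun y : M => exists_isAffineOpen_mem_and_subset (hMV y.1 y.2)
  obtain ⟨t, ht⟩ := hgen.elim_finite_subcover (fun y : M => ((W y : Y.Opens) : Set Y)) (fun y => (W y).isOpen)
    fun y hy => Set.mem_iUnion.2 ⟨⟨y, hy⟩, hyW _⟩
  let U : Y.Opens := ⨆ y ∈ t, W y
  have hU : (U : Set Y) = ⋃ y ∈ t, ((W y : Y.Opens) : Set Y) := by simp [U]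
  refine ⟨U, ?_, ?_, ?_⟩
  · intro z
    rw [mem_closure_iff]
    intro O hO hz
    obtain ⟨T, hT, hzT⟩ := exists_mem_irreducibleComponents_subset_of_isIrreducible _ (isIrreducible_singleton (x := z))
    have hTc : IsClosed T := isClosed_of_mem_irreducibleComponents _ hT
    let η := hT.1.genericPoint
    have hη : IsGenericPoint η T := by
      have := hT.1.isGenericPoint_genericPoint_closure
      rwa [hTc.closure_eq] at this
    have hηM : η ∈ M := fun y' hy' => by
      have h1 : T ⊆ closure {y'} := by
        rw [← hη.def]
        exact closure_minimal (Set.singleton_subset_iff.2 hy'.mem_closure) isClosed_closure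
      have h2 : closure {y'} ⊆ T := hT.2 isIrreducible_singleton.closure h1
      exact (hη.eq (show IsGenericPoint y' T from subset_antisymm h2 h1)).symm
    refine ⟨η, (hη.specializes (hzT rfl)).mem_open hO hz, ?_⟩
    rw [hU]
    exact ht hηM
  · rw [hU]
    exact t.isCompact_biUnion fun y _ => (hW y).isCompact
  · refine Flat.of_stalkMap _ fun x => ?_
    have hx : (f.stalkMap x.1).hom.Flat := by
      by_contra h
      have : f x.1 ∈ (U : Set Y) := x.2
      rw [hU] at this
      obtain ⟨y, hy, hxy⟩ := Set.mem_iUnion₂.1 this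
      exact hWV y hxy (subset_closure ⟨x.1, h, rfl⟩)
    exact (RingHom.Flat.respectsIso.arrow_mk_iso_iff (morphismRestrictStalkMap f U x)).2 hx

end Groth.Agent.S14790
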