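import Groth.Statements.S14791
import Groth.Agent.SubtrRefineLib.Limit
-- import your own Groth.Agent.* helpers here

set_option autoImplicit false
universe u
open CategoryTheory CategoryTheory.Limits AlgebraicGeometry
open Subtr

open Groth.Agent CategoryTheory.Limits
set_option backward.isDefEq.respectTransparency false
namespace Groth.Agent.S14791

/-- Let S = lim S_i be a cofiltered limit of schemes with affine transition morphisms, Y₀ a scheme over
a stage S_{i₀}, f₀ : X₀ ⟶ Y₀ a quasi-compact morphism, and write f_i, f for the base changes of f₀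
to the stages S_i and to S (realised as second projections of fibre products). If there is a stage
S_{i₁} such that f_i has the lifting property for ordered pairs of points for every stage S_i over
S_{i₁}, then f has it. (The published statement is about subtrusive morphisms and assumes f a
quotient map for the constructible topologies; this row keeps only the lifting property and assumes
f₀ quasi-compact, which makes the fibres quasi-compact as the filtered-intersection step of the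
argument requires.) -/
theorem result {I : Type u} [SmallCategory I] [IsCofiltered I]
    (D : I ⥤ Scheme.{u}) (c : Limits.Cone D) (hc : Limits.IsLimit c)
    [∀ (i j : I) (a : i ⟶ j), IsAffineHom (D.map a)] (i₀ : I)
    {X₀ Y₀ : Scheme.{u}} (f₀ : X₀ ⟶ Y₀) (g₀ : Y₀ ⟶ D.obj i₀) [QuasiCompact f₀]
    (h : ∃ (i₁ : I) (ψ : i₁ ⟶ i₀), ∀ (i : I) (φ : i ⟶ i₁),
      Subtr.IsSSubtrusive (pullback.snd f₀ (pullback.fst g₀ (D.map (φ ≫ ψ))))) :
    Subtr.IsSSubtrusive (pullback.snd f₀ (pullback.fst g₀ (c.π.app i₀))) := by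
  classical
  intro y y' hy
  haveI : ∀ {i j : I} (a : i ⟶ j), IsAffineHom (D.map a) := fun {i j} a => inferInstance
  haveI := isAffineHom_π_app D c hc i₀
  obtain ⟨i₁, ψ, hψ⟩ := h
  obtain ⟨V, hV, hyV, -⟩ := exists_isAffineOpen_mem_and_subset (X := Y₀)
    (x := pullback.fst g₀ (c.π.app i₀) y) (U := ⊤) trivial
  haveI : IsAffine V.toScheme := hV
  obtain ⟨t, ht⟩ := (f₀.isCompact_preimage hV.isCompact).elim_finite_subcover
    (fun W : {W : X₀.affineOpens // W.1 ≤ f₀ ⁻¹ᵁ V} => ((W.1.1 : X₀.Opens) : Set X₀)) (fun W => W.1.1.isOpen)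
    fun x hx => by
      obtain ⟨W, hW, hxW, hWV⟩ := exists_isAffineOpen_mem_and_subset (X := X₀) (x := x) (U := f₀ ⁻¹ᵁ V) hx
      exact Set.mem_iUnion.2 ⟨⟨⟨W, hW⟩, hWV⟩, hxW⟩
  let P : t → Scheme.{u} := fun W => W.1.1.1.toScheme
  haveI : ∀ W, IsAffine (P W) := fun W => W.1.1.2
  haveI : IsAffine (∐ P) := inferInstance
  let u : ∐ P ⟶ X₀ := Limits.Sigma.desc fun W : t => W.1.1.1.ι
  haveI : Flat u := IsZariskiLocalAtSource.sigmaDesc fun W => inferInstance
  let a₀ : ∐ P ⟶ V.toScheme := Limits.Sigma.desc fun W : t =>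
    (IsOpenImmersion.lift V.ι (W.1.1.1.ι ≫ f₀) (by
      rintro _ ⟨x, rfl⟩
      rw [Scheme.Opens.range_ι]
      exact W.1.2 x.2))
  have ha₀ : a₀ ≫ V.ι = u ≫ f₀ := Sigma.hom_ext _ _ fun W => by simp [a₀, u]
  let E := AffLim.baseChange D i₀ (V.ι ≫ g₀)
  let F := AffLim.baseChange D i₀ (a₀ ≫ V.ι ≫ g₀)
  let cE := AffLim.baseChangeCone D c i₀ (V.ι ≫ g₀)
  let cF := AffLim.baseChangeCone D c i₀ (a₀ ≫ V.ι ≫ g₀)
  let aP := AffLim.baseChangeMapLimit D c i₀ a₀ (V.ι ≫ g₀)
  obtain ⟨hcF⟩ := AffLim.nonempty_isLimit_baseChangeCone D c hc i₀ (a₀ ≫ V.ι ≫ g₀)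
  haveI : ∀ k, IsAffine (E.obj k) := fun k => by
    haveI : IsAffineHom (pullback.fst (V.ι ≫ g₀) (D.map k.hom)) := MorphismProperty.pullback_fst _ _ inferInstance
    exact isAffine_of_isAffineHom (pullback.fst (V.ι ≫ g₀) (D.map k.hom))
  haveI : ∀ k, IsAffine (F.obj k) := fun k => by
    haveI : IsAffineHom (pullback.fst (a₀ ≫ V.ι ≫ g₀) (D.map k.hom)) := MorphismProperty.pullback_fst _ _ inferInstance
    exact isAffine_of_isAffineHom (pullback.fst (a₀ ≫ V.ι ≫ g₀) (D.map k.hom))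
  haveI : IsAffine cE.pt := by
    haveI : IsAffineHom (pullback.fst (V.ι ≫ g₀) (c.π.app i₀)) := MorphismProperty.pullback_fst _ _ inferInstance
    exact isAffine_of_isAffineHom (pullback.fst (V.ι ≫ g₀) (c.π.app i₀))
  haveI : IsAffine cF.pt := by
    haveI : IsAffineHom (pullback.fst (a₀ ≫ V.ι ≫ g₀) (c.π.app i₀)) := MorphismProperty.pullback_fst _ _ inferInstance
    exact isAffine_of_isAffineHom (pullback.fst (a₀ ≫ V.ι ≫ g₀) (c.π.app i₀))
  have hpb : ∀ k, IsPullback (cF.π.app k) aP ((AffLim.baseChangeMap D i₀ a₀ (V.ι ≫ g₀)).app k) (cE.π.app k) :=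
    fun k => IsPullback.of_right (by
      have e1 : cF.π.app k ≫ pullback.fst (a₀ ≫ V.ι ≫ g₀) (D.map k.hom) = pullback.fst _ _ := by
        simp [cF, AffLim.baseChangeCone, pullback.map]
      have e2 : cE.π.app k ≫ pullback.fst (V.ι ≫ g₀) (D.map k.hom) = pullback.fst _ _ := by
        simp [cE, AffLim.baseChangeCone, pullback.map]
      rw [e1, e2]
      exact AffLim.isPullback_map_fst D i₀ a₀ (V.ι ≫ g₀) (c.π.app i₀))
      (AffLim.baseChangeMapLimit_w D c i₀ a₀ (V.ι ≫ g₀) k).symm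
      (AffLim.isPullback_baseChangeMap D i₀ a₀ (V.ι ≫ g₀) k)
  let j : cE.pt ⟶ pullback g₀ (c.π.app i₀) := pullback.map _ _ _ _ V.ι (𝟙 _) (𝟙 _) (by simp) (by simp)
  have hj : ∀ z, pullback.fst g₀ (c.π.app i₀) z ∈ V → z ∈ Set.range j := fun z hz => by
    show z ∈ Set.range (pullback.map _ _ _ _ _ _ _ _ _ : pullback (V.ι ≫ g₀) (c.π.app i₀) ⟶ _)
    rw [Scheme.Pullback.range_map]
    exact ⟨by show _ ∈ Set.range V.ι; rw [Scheme.Opens.range_ι]; exact hz, by simp⟩
  obtain ⟨v, rfl⟩ := hj y hyV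
  obtain ⟨v', rfl⟩ := hj y' ((hy.map (pullback.fst g₀ (c.π.app i₀)).continuous).mem_open V.isOpen hyV)
  obtain ⟨x, x', hx, e, e'⟩ := SubtrRefineLib.exists_pair_lift E F (AffLim.baseChangeMap D i₀ a₀ (V.ι ≫ g₀)) cE cF hcF
    aP hpb v v' (fun k => by
      let k₁ : Over i₀ := Over.mk ψ
      let l := IsCofiltered.min k k₁
      let jl : E.obj l ⟶ pullback g₀ (D.map l.hom) := pullback.map _ _ _ _ V.ι (𝟙 _) (𝟙 _) (by simp) (by simp)
      have hjl : cE.π.app l ≫ jl = j ≫ pullback.map g₀ (c.π.app i₀) g₀ (D.map l.hom) (𝟙 _) (c.π.app l.left) (𝟙 _)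
          (by simp) (by rw [Category.comp_id, c.w]) := by
        apply pullback.hom_ext <;> simp [jl, j, cE, AffLim.baseChangeCone, pullback.map]
      let ρ := pullback.map g₀ (c.π.app i₀) g₀ (D.map l.hom) (𝟙 _) (c.π.app l.left) (𝟙 _)
        (by simp) (by rw [Category.comp_id, c.w])
      have hS : Subtr.IsSSubtrusive (pullback.snd f₀ (pullback.fst g₀ (D.map l.hom))) := by
        have e0 : (IsCofiltered.minToRight k k₁).left ≫ ψ = l.hom := Over.w _
        have h1 := hψ l.left (IsCofiltered.minToRight k k₁).left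
        rw [e0] at h1
        exact h1
      obtain ⟨z, z', hz, ez, ez'⟩ := hS (((SubtrRefineLib.specializes_of_inducing j.isOpenEmbedding.isInducing hy).map (cE.π.app l).continuous).map jl.continuous)
      let pF := pullback.fst (a₀ ≫ V.ι ≫ g₀) (D.map l.hom)
      let θ : F.obj l ⟶ pullback f₀ (pullback.fst g₀ (D.map l.hom)) := pullback.lift (pF ≫ u)
        ((AffLim.baseChangeMap D i₀ a₀ (V.ι ≫ g₀)).app l ≫ jl) (by
          simp [pF, jl, AffLim.baseChangeMap, pullback.map, ha₀])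
      have hθ : IsPullback pF θ u (pullback.fst f₀ (pullback.fst g₀ (D.map l.hom))) := by
        refine IsPullback.of_bot ?_ (pullback.lift_fst _ _ _).symm
          ((IsPullback.of_hasPullback f₀ (pullback.fst g₀ (D.map l.hom))).paste_vert
            (IsPullback.of_hasPullback g₀ (D.map l.hom)))
        have e3 : θ ≫ pullback.snd f₀ (pullback.fst g₀ (D.map l.hom)) ≫ pullback.snd g₀ (D.map l.hom) =
            pullback.snd (a₀ ≫ V.ι ≫ g₀) (D.map l.hom) := by
          simp [θ, jl, AffLim.baseChangeMap, pullback.map]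
        rw [e3, show u ≫ f₀ ≫ g₀ = a₀ ≫ V.ι ≫ g₀ by rw [reassoc_of% ha₀]]
        exact IsPullback.of_hasPullback _ _
      haveI : Flat θ := MorphismProperty.of_isPullback hθ inferInstance
      have hzV : f₀ (pullback.fst f₀ (pullback.fst g₀ (D.map l.hom)) z) ∈ V := by
        rw [← Scheme.Hom.comp_apply, pullback.condition, Scheme.Hom.comp_apply, ez, ← Scheme.Hom.comp_apply jl,
          show jl ≫ pullback.fst g₀ (D.map l.hom) = pullback.fst (V.ι ≫ g₀) (D.map l.hom) ≫ V.ι from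
            pullback.lift_fst _ _ _, Scheme.Hom.comp_apply]
        exact (pullback.fst (V.ι ≫ g₀) (D.map l.hom) (cE.π.app l v)).2
      obtain ⟨W, hW, hzW⟩ := Set.mem_iUnion₂.1 (ht hzV)
      obtain ⟨w₀, hw₀, hw₀'⟩ := Scheme.Pullback.exists_preimage_pullback (f := u)
        (g := pullback.fst f₀ (pullback.fst g₀ (D.map l.hom))) (Sigma.ι P ⟨W, hW⟩ ⟨_, hzW⟩) z
        (by rw [← Scheme.Hom.comp_apply, Sigma.ι_desc]; rfl)
      let w := hθ.isoPullback.inv w₀
      have hw : θ w = z := by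
        refine (Scheme.Hom.comp_apply hθ.isoPullback.inv θ w₀).symm.trans ?_
        rw [hθ.isoPullback_inv_snd]
        exact hw₀'
      obtain ⟨w', hw', hθw'⟩ := Flat.generalizingMap θ (hw.symm ▸ hz)
      have key : ∀ s, (AffLim.baseChangeMap D i₀ a₀ (V.ι ≫ g₀)).app l s = cE.π.app l v →
          (AffLim.baseChangeMap D i₀ a₀ (V.ι ≫ g₀)).app k (F.map (IsCofiltered.minToLeft k k₁) s) = cE.π.app k v :=
        fun s hs => by
          rw [← Scheme.Hom.comp_apply, (AffLim.baseChangeMap D i₀ a₀ (V.ι ≫ g₀)).naturality, Scheme.Hom.comp_apply, hs,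
            ← Scheme.Hom.comp_apply, cE.w]
          rfl
      have key' : ∀ s, (AffLim.baseChangeMap D i₀ a₀ (V.ι ≫ g₀)).app l s = cE.π.app l v' →
          (AffLim.baseChangeMap D i₀ a₀ (V.ι ≫ g₀)).app k (F.map (IsCofiltered.minToLeft k k₁) s) = cE.π.app k v' :=
        fun s hs => by
          rw [← Scheme.Hom.comp_apply, (AffLim.baseChangeMap D i₀ a₀ (V.ι ≫ g₀)).naturality, Scheme.Hom.comp_apply, hs,
            ← Scheme.Hom.comp_apply, cE.w]
          rfl
      haveI : IsOpenImmersion jl := inferInstance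
      have hsnd : ∀ s, jl ((AffLim.baseChangeMap D i₀ a₀ (V.ι ≫ g₀)).app l s) =
          pullback.snd f₀ (pullback.fst g₀ (D.map l.hom)) (θ s) := fun s => by
        rw [← Scheme.Hom.comp_apply, ← Scheme.Hom.comp_apply, pullback.lift_snd]
      refine ⟨F.map (IsCofiltered.minToLeft k k₁) w, F.map (IsCofiltered.minToLeft k k₁) w',
        hw'.map (F.map _).continuous, key w (jl.isOpenEmbedding.injective ?_), key' w' (jl.isOpenEmbedding.injective ?_)⟩
      · rw [hsnd, hw, ez]
      · rw [hsnd, hθw', ez'])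
  let θi : cF.pt ⟶ pullback f₀ (pullback.fst g₀ (c.π.app i₀)) :=
    pullback.lift (pullback.fst (a₀ ≫ V.ι ≫ g₀) (c.π.app i₀) ≫ u) (aP ≫ j) (by
      simp [aP, j, AffLim.baseChangeMapLimit, pullback.map, ha₀])
  refine ⟨θi x, θi x', hx.map θi.continuous, ?_, ?_⟩
  · rw [← Scheme.Hom.comp_apply, pullback.lift_snd, Scheme.Hom.comp_apply, e]
  · rw [← Scheme.Hom.comp_apply, pullback.lift_snd, Scheme.Hom.comp_apply, e']

end Groth.Agent.S14791
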