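import Groth.Statements.S14792
import Groth.Agent.SubtrRefineLib.Section
-- import your own Groth.Agent.* helpers here

set_option autoImplicit false
universe u
open CategoryTheory CategoryTheory.Limits AlgebraicGeometry
open Subtr

open Groth.Agent CategoryTheory.Limits
set_option backward.isDefEq.respectTransparency false
namespace Groth.Agent.S14792

/-- (i) ⇔ (iii): let A be a commutative ring and f : X ⟶ Spec A a morphism of finite presentation. Then
every base change of f has the lifting property for ordered pairs of points if and only if there are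
a finitely generated subring A₀ ⊆ A, a scheme X₀ and a universally submersive morphism f₀ : X₀ ⟶
Spec A₀ of finite presentation such that f is the base change of f₀ along Spec A ⟶ Spec A₀. -/
theorem result (A : Type u) [CommRing A]
    {X : Scheme.{u}} (f : X ⟶ Spec (CommRingCat.of A))
    [LocallyOfFinitePresentation f] [QuasiCompact f] [QuasiSeparated f] :
    Subtr.UnivSSubtrusive f ↔
      ∃ (A₀ : Subalgebra ℤ A) (_ : A₀.FG) (X₀ : Scheme.{u}) (f₀ : X₀ ⟶ Spec (CommRingCat.of A₀))
        (q : X ⟶ X₀), IsPullback q f f₀ (Spec.map (CommRingCat.ofHom A₀.val.toRingHom)) ∧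
        LocallyOfFinitePresentation f₀ ∧ QuasiCompact f₀ ∧ QuasiSeparated f₀ ∧
        SGA1.UnivSubmersive f₀ := by
  constructor
  · intro hf
    obtain ⟨A₁, X₁, f₁, g, hfg, hpb, hl, hqc, hqs, H⟩ := SubtrRefineLib.exists_model_properRefinable A f hf
    exact ⟨A₁, hfg, X₁, f₁, g, hpb, hl, hqc, hqs,
      SubtrVal.univSubmersive_of_univSSubtrusive f₁ (SubtrRefineLib.univSSubtrusive_of_properRefinable H)⟩
  · rintro ⟨A₁, hfg, X₁, f₁, g, hpb, hl, hqc, hqs, hs⟩
    haveI := SubtrRefineLib.isNoetherian_subring hfg
    exact MorphismProperty.of_isPullback (P := MorphismProperty.universally _) hpb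
      ((SubtrVal.univSubmersive_iff_univSSubtrusive f₁).1 hs)

end Groth.Agent.S14792
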