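import Groth.Statements.S14793
import Groth.Agent.RGBlowLib.Target
import Groth.Agent.S14790
import Groth.Agent.S14789
set_option linter.style.haveILetI false
set_option backward.isDefEq.respectTransparency false
open Groth.Agent
-- import your own Groth.Agent.* helpers here

set_option autoImplicit false
universe u
open Subtr

namespace Groth.Agent.S14793

open AlgebraicGeometry CategoryTheory Limits in
/-- Let Y be a reduced, quasi-compact and quasi-separated scheme whose set of maximal points is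
quasi-compact (for instance Y Noetherian), and f : X ⟶ Y a morphism of finite presentation every
base change of which has the lifting property for ordered pairs of points. Then there are a dense
quasi-compact open U ⊆ Y, an ideal sheaf 𝓘 admissible for U (of finite type, cosupported off U) and
a blow-up b : Y' ⟶ Y of Y in 𝓘, with b surjective, such that the strict transform X'' of X (the
closed subscheme of X' = X ×_Y Y' whose ideal consists, on each affine open, of the functions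
annihilated by a power of the pulled-back exceptional ideal) is flat, surjective and of finite
presentation over Y'. -/
theorem result {X Y : Scheme.{u}} [IsReduced Y] [CompactSpace Y]
    [QuasiSeparatedSpace Y] (hgen : IsCompact {y : Y | ∀ y' : Y, y' ⤳ y → y' = y})
    (f : X ⟶ Y) [LocallyOfFinitePresentation f] [QuasiCompact f] [QuasiSeparated f]
    (hf : Subtr.UnivSSubtrusive f) :
    ∃ (U : Y.Opens) (𝓘 : Y.IdealSheafData) (Y' : Scheme.{u}) (b : Y' ⟶ Y),
      Dense (U : Set Y) ∧ IsCompact (U : Set Y) ∧ BlowUp.IsBlowUp b 𝓘 ∧ BlowUp.IsAdmissibleFor U 𝓘 ∧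
      Surjective b ∧
      ∀ (X' : Scheme.{u}) (p₁ : X' ⟶ X) (p₂ : X' ⟶ Y'), IsPullback p₁ p₂ f b →
      ∀ (𝒥 : X'.IdealSheafData),
        (∀ (V : X'.affineOpens) (a : Γ(X', V.1)), a ∈ 𝒥.ideal V ↔
          BlowUp.KilledByPowerNear ((𝓘.comap f).comap p₁) (Coh.structureModule X') V a) →
        Flat (𝒥.subschemeι ≫ p₂) ∧ Surjective (𝒥.subschemeι ≫ p₂) ∧
          LocallyOfFinitePresentation (𝒥.subschemeι ≫ p₂) ∧
          QuasiCompact (𝒥.subschemeι ≫ p₂) ∧ QuasiSeparated (𝒥.subschemeι ≫ p₂) := by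
  obtain ⟨U, hUd, hUc, hUfl⟩ := S14790.result hgen f
  haveI := hUfl
  haveI : LocallyOfFinitePresentation (f ∣_ U) :=
    IsZariskiLocalAtTarget.restrict (P := @LocallyOfFinitePresentation) inferInstance U
  obtain ⟨𝓘₀, h₀, hsupp⟩ := RGBlowLib.exists_exact_admissible U hUc
  obtain ⟨𝓚, Y', b, hb, hadm, H⟩ := RGBlowLib.exists_flattening_scheme_mul f U hUc 𝓘₀ h₀
  have hex : ∀ y : Y, y ∈ (𝓘₀ * 𝓚).support ↔ y ∉ U := fun y => by
    refine ⟨fun h h' => Set.disjoint_left.1 hadm.2 h h', fun h => ?_⟩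
    rw [Scheme.IdealSheafData.support_mul]
    exact Or.inl (hsupp y h)
  haveI : IsProper b := RGBlowLib.isProper_blowUp hb hadm
  have hU : (𝓘₀ * 𝓚).support.compl = U := TopologicalSpace.Opens.ext (Set.ext fun x => by
    show x ∉ (𝓘₀ * 𝓚).support ↔ x ∈ U
    rw [hex, not_not])
  haveI : IsIso (b ∣_ U) := by
    rw [← hU]
    exact BlowCompLib.isIso_restrict _ b hb
  have hbs : Surjective b := ⟨fun y => by
    refine (b.isClosedMap.isClosed_range.closure_subset_iff.2 (fun z hz => ?_)) (hUd y)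
    obtain ⟨w, hw⟩ := (b ∣_ U).surjective ⟨z, hz⟩
    refine ⟨(b ⁻¹ᵁ U).ι w, ?_⟩
    rw [← Scheme.Hom.comp_apply, ← morphismRestrict_ι, Scheme.Hom.comp_apply, hw]
    rfl⟩
  refine ⟨U, 𝓘₀ * 𝓚, Y', b, hUd, hUc, hb, hadm, hbs, fun X' p₁ p₂ hc 𝒥 hJ => ?_⟩
  obtain ⟨hfl, hfp⟩ := H X' p₁ p₂ hc 𝒥 hJ
  haveI : QuasiCompact p₂ := MorphismProperty.of_isPullback hc ‹QuasiCompact f›
  haveI : QuasiSeparated p₂ := MorphismProperty.of_isPullback hc ‹QuasiSeparated f›
  refine ⟨hfl, ⟨fun y => ?_⟩, hfp, inferInstance, inferInstance⟩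
  let W : Y'.Opens := ((𝓘₀ * 𝓚).comap b).support.compl
  obtain ⟨haff, hdom⟩ := S1571.result Y' _ hb.1
  haveI : IsAffineHom W.ι := haff
  haveI : IsSchemeTheoreticallyDominant W.ι := hdom
  have hW : ∀ z : Y', (∀ z' : Y', z' ⤳ z → z' = z) → z ∈ W := fun z hz => by
    obtain ⟨w, -, hw⟩ := FlatLocus.exists_specializes_of_mem_closure_image W.ι isClosed_univ
      (y := z) (by rw [Set.image_univ]; exact W.ι.denseRange z)
    rw [← hz _ hw]
    exact w.2
  have hcl := S14789.result p₂ (hf _ _ _ hc.flip) W hW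
  obtain ⟨x, hx, hxy⟩ := (hcl.symm ▸ Set.mem_univ y : y ∈ p₂ '' closure (p₂ ⁻¹' (W : Set Y')))
  haveI : IsIso (𝒥.subschemeι ∣_ (p₂ ⁻¹ᵁ W)) := RGBlowLib.isIso_subscheme_restrict _ 𝒥 hJ _ fun z hz h => by
    rw [← Scheme.IdealSheafData.comap_comp, hc.w, Scheme.IdealSheafData.comap_comp,
      Scheme.IdealSheafData.support_comap] at h
    exact hz h
  have hsub : p₂ ⁻¹' (W : Set Y') ⊆ Set.range 𝒥.subschemeι := fun z hz => by
    obtain ⟨w, hw⟩ := (𝒥.subschemeι ∣_ (p₂ ⁻¹ᵁ W)).surjective ⟨z, hz⟩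
    refine ⟨(𝒥.subschemeι ⁻¹ᵁ (p₂ ⁻¹ᵁ W)).ι w, ?_⟩
    rw [← Scheme.Hom.comp_apply, ← morphismRestrict_ι, Scheme.Hom.comp_apply, hw]
    rfl
  obtain ⟨v, hv⟩ := (𝒥.subschemeι.isClosedMap.isClosed_range.closure_subset_iff.2 hsub) hx
  exact ⟨v, by rw [Scheme.Hom.comp_apply, hv, hxy]⟩

end Groth.Agent.S14793
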