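import Groth.Statements.S14794
import Mathlib

set_option autoImplicit false
set_option backward.isDefEq.respectTransparency false
universe u
open CategoryTheory CategoryTheory.Limits AlgebraicGeometry
open Subtr

namespace Groth.Agent.S14794

section aux
open CategoryTheory CategoryTheory.Limits AlgebraicGeometry TopologicalSpace

variable {S X T T' : Scheme.{u}} (πX : X ⟶ S) (t : T ⟶ S) (p : T' ⟶ T)
  (hp : SGA1.UnivSubmersive p) (f' : T' ⟶ X) (hf' : f' ≫ πX = p ≫ t)
  (heq : ∀ (W : Scheme.{u}) [IsReduced W] (w : W ⟶ pullback p p),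
      w ≫ pullback.fst p p ≫ f' = w ≫ pullback.snd p p ≫ f')

include heq in
theorem apply_eq {a b : T'} (h : p a = p b) : f' a = f' b := by
  obtain ⟨ζ, h1, h2⟩ := Scheme.Pullback.exists_preimage_pullback (f := p) (g := p) a b h
  have h3 := congrArg (fun q => q (IsLocalRing.closedPoint ((pullback p p).residueField ζ)))
    (heq _ ((pullback p p).fromSpecResidueField ζ))
  simp only [Scheme.Hom.comp_apply, Scheme.fromSpecResidueField_apply] at h3
  rwa [h1, h2] at h3

include hp heq in
theorem exists_saturation (V : X.Opens) : ∃ W : T.Opens, p ⁻¹ᵁ W = f' ⁻¹ᵁ V := by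
  have hq : Topology.IsQuotientMap p := MorphismProperty.universally_le _ _ hp
  have he : p ⁻¹' (p '' (f' ⁻¹' (V : Set X))) = f' ⁻¹' (V : Set X) :=
    Set.Subset.antisymm (fun a ⟨b, hb, hab⟩ => by
      show f' a ∈ (V : Set X)
      rw [← apply_eq p f' heq hab]
      exact hb) (Set.subset_preimage_image _ _)
  refine ⟨⟨p '' (f' ⁻¹' (V : Set X)), hq.isOpen_preimage.1 ?_⟩, Opens.ext he⟩
  rw [he]
  exact (f' ⁻¹ᵁ V).isOpen

include hp hf' heq in
/-- The image of the graph is closed over each saturated affine piece. -/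
theorem isClosed_range_piece {Y : Scheme.{u}} (a : Y ⟶ T) [IsSeparated a] (b : Y ⟶ X)
    (hmono : ∀ {L : Scheme.{u}} (x y : L ⟶ Y), x ≫ a = y ≫ a → x ≫ b = y ≫ b → x = y)
    (W : T.Opens) (hY : ∀ y, a y ∈ W) (γ : (p ⁻¹ᵁ W : T'.Opens).toScheme ⟶ Y)
    (hγa : γ ≫ a = (p ⁻¹ᵁ W).ι ≫ p) (hγb : γ ≫ b = (p ⁻¹ᵁ W).ι ≫ f') :
    IsClosed (Set.range γ) := by
  let π := pullback.fst a p
  have hπ : Topology.IsQuotientMap π := hp _ _ _ (IsPullback.of_hasPullback a p).flip.flip
  let r : pullback a p ⟶ (p ⁻¹ᵁ W).toScheme := IsOpenImmersion.lift (p ⁻¹ᵁ W).ι (pullback.snd a p) (by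
    rw [Scheme.Opens.range_ι]
    rintro _ ⟨ζ, rfl⟩
    show (pullback.snd a p ≫ p) ζ ∈ W
    rw [← pullback.condition]
    exact hY _)
  have hr : r ≫ (p ⁻¹ᵁ W).ι = pullback.snd a p := IsOpenImmersion.lift_fac _ _ _
  let σ : (p ⁻¹ᵁ W).toScheme ⟶ pullback a p := pullback.lift γ (p ⁻¹ᵁ W).ι hγa
  have hσr : σ ≫ r = 𝟙 _ := by
    rw [← cancel_mono (p ⁻¹ᵁ W).ι, Category.assoc, hr, pullback.lift_snd, Category.id_comp]
  haveI : IsSeparated r := by
    haveI : IsSeparated (r ≫ (p ⁻¹ᵁ W).ι) := by rw [hr]; infer_instance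
    exact IsSeparated.of_comp r (p ⁻¹ᵁ W).ι
  haveI : IsClosedImmersion σ := by
    haveI : IsClosedImmersion (σ ≫ r) := by rw [hσr]; infer_instance
    exact IsClosedImmersion.of_comp σ r
  rw [← hπ.isClosed_preimage]
  have he : π ⁻¹' Set.range γ = Set.range σ := by
    refine Set.Subset.antisymm (fun ζ ⟨s, hs⟩ => ?_) ?_
    · obtain ⟨ω, h1, h2⟩ := Scheme.Pullback.exists_preimage_pullback (f := π) (g := γ) ζ s hs.symm
      obtain ⟨L, hL, w1, w2, l₀, hw, hw1⟩ : ∃ (L : Scheme.{u}) (_ : IsReduced L) (w1 : L ⟶ pullback a p)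
          (w2 : L ⟶ (p ⁻¹ᵁ W).toScheme) (l₀ : L), w1 ≫ π = w2 ≫ γ ∧ w1 l₀ = ζ :=
        ⟨Spec ((pullback π γ).residueField ω), inferInstance,
          (pullback π γ).fromSpecResidueField ω ≫ pullback.fst π γ, (pullback π γ).fromSpecResidueField ω ≫ pullback.snd π γ,
          IsLocalRing.closedPoint _, by simp only [Category.assoc, pullback.condition],
          by rw [Scheme.Hom.comp_apply, Scheme.fromSpecResidueField_apply, h1]⟩
      haveI := hL
      have hpp : ((w1 ≫ r) ≫ (p ⁻¹ᵁ W).ι) ≫ p = (w2 ≫ (p ⁻¹ᵁ W).ι) ≫ p := by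
        rw [Category.assoc w1, hr, Category.assoc w1, ← pullback.condition, ← Category.assoc w1, hw,
          Category.assoc, hγa, Category.assoc]
      have h3 := heq _ (pullback.lift _ _ hpp)
      rw [pullback.lift_fst_assoc, pullback.lift_snd_assoc] at h3
      have key : w1 = (w1 ≫ r) ≫ σ := by
        refine pullback.hom_ext ?_ ?_
        · rw [Category.assoc, pullback.lift_fst]
          refine hmono _ _ ?_ ?_
          · rw [Category.assoc (w1 ≫ r), hγa, ← Category.assoc (w1 ≫ r), hpp, Category.assoc w1]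
            show w1 ≫ π ≫ a = _
            rw [← Category.assoc w1, hw, Category.assoc, hγa, Category.assoc]
          · rw [show w1 ≫ pullback.fst a p = w2 ≫ γ from hw, Category.assoc, hγb, ← Category.assoc,
              Category.assoc (w1 ≫ r), hγb, ← Category.assoc (w1 ≫ r)]
            exact h3.symm
        · rw [Category.assoc (w1 ≫ r), pullback.lift_snd, Category.assoc, hr]
      refine ⟨(w1 ≫ r) l₀, ?_⟩
      rw [← Scheme.Hom.comp_apply, ← key, hw1]
    · rintro _ ⟨s, rfl⟩
      exact ⟨s, (congrArg (fun q => q s) (pullback.lift_fst γ (p ⁻¹ᵁ W).ι hγa)).symm⟩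
  rw [he]
  exact σ.isClosedEmbedding.isClosed_range

end aux

/-- Let X ⟶ S be a quasi-separated morphism of schemes, T ⟶ S an S-scheme, p : T' ⟶ T a quasi-compact,
quasi-separated and universally submersive morphism, and f' : T' ⟶ X an S-morphism whose composites
with the two projections T' ×_T T' ⟶ T' agree on every reduced scheme mapping to T' ×_T T' (that is,
they agree on the reduction of T' ×_T T'). Then there are a scheme T₁ and a factorization p = q ≫ u
with q : T' ⟶ T₁ schematically dominant (injective on sections) and u : T₁ ⟶ T a separated universal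
homeomorphism, together with an S-morphism f₁ : T₁ ⟶ X with q ≫ f₁ = f'. In particular f' descends
to T as soon as every such factorization of p has u an isomorphism (p weakly normal). (This is the
factorization produced by the proof of the descent of morphisms along weakly normal morphisms. The
published remark is for algebraic spaces X with X ⟶ S locally separated and also asserts that the
factorization can be chosen minimal; this row is the case of schemes, which are locally separated,
without the minimality.) -/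
theorem result {S X T T' : Scheme.{u}}
    (πX : X ⟶ S) [QuasiSeparated πX] (t : T ⟶ S) (p : T' ⟶ T) [QuasiCompact p] [QuasiSeparated p]
    (hp : SGA1.UnivSubmersive p) (f' : T' ⟶ X) (hf' : f' ≫ πX = p ≫ t)
    (heq : ∀ (W : Scheme.{u}) [IsReduced W] (w : W ⟶ pullback p p),
      w ≫ pullback.fst p p ≫ f' = w ≫ pullback.snd p p ≫ f') :
    ∃ (T₁ : Scheme.{u}) (q : T' ⟶ T₁) (u : T₁ ⟶ T) (f₁ : T₁ ⟶ X), q ≫ u = p ∧
      (∀ U : T₁.Opens, Function.Injective (q.app U).hom) ∧ FlatMor.IsUnivHomeo u ∧ IsSeparated u ∧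
      q ≫ f₁ = f' ∧ f₁ ≫ πX = u ≫ t := by
  classical
  choose W hW using fun V : X.affineOpens => exists_saturation p hp f' heq V.1
  let P₀ := pullback t πX
  let O : P₀.Opens := ⨆ V : X.affineOpens, pullback.fst t πX ⁻¹ᵁ W V ⊓ pullback.snd t πX ⁻¹ᵁ V.1
  let γ₀ : T' ⟶ P₀ := pullback.lift p f' hf'.symm
  have hmem : ∀ (V : X.affineOpens) (s : T'), f' s ∈ V.1 →
      γ₀ s ∈ pullback.fst t πX ⁻¹ᵁ W V ⊓ pullback.snd t πX ⁻¹ᵁ V.1 := fun V s hs => by
    refine ⟨?_, ?_⟩
    · show (γ₀ ≫ pullback.fst t πX) s ∈ W V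
      rw [pullback.lift_fst]
      exact ((hW V).symm ▸ hs : s ∈ p ⁻¹ᵁ W V)
    · show (γ₀ ≫ pullback.snd t πX) s ∈ V.1
      rw [pullback.lift_snd]
      exact hs
  let g : T' ⟶ O := IsOpenImmersion.lift O.ι γ₀ (by
    rw [Scheme.Opens.range_ι]
    rintro _ ⟨s, rfl⟩
    obtain ⟨_, ⟨V, hV, rfl⟩, hsV, -⟩ := X.isBasis_affineOpens.exists_subset_of_mem_open (Set.mem_univ (f' s)) isOpen_univ
    exact TopologicalSpace.Opens.mem_iSup.2 ⟨⟨V, hV⟩, hmem ⟨V, hV⟩ s hsV⟩)
  have hg : g ≫ O.ι = γ₀ := IsOpenImmersion.lift_fac _ _ _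
  let a : O.toScheme ⟶ T := O.ι ≫ pullback.fst t πX
  let b : O.toScheme ⟶ X := O.ι ≫ pullback.snd t πX
  have hga : g ≫ a = p := by rw [← Category.assoc, hg, pullback.lift_fst]
  have hgb : g ≫ b = f' := by rw [← Category.assoc, hg, pullback.lift_snd]
  haveI : QuasiSeparated a := inferInstanceAs (QuasiSeparated (O.ι ≫ pullback.fst t πX))
  haveI : QuasiCompact g := by
    haveI : QuasiCompact (g ≫ a) := by rw [hga]; infer_instance
    exact QuasiCompact.of_comp g a
  have hclosed : IsClosed (Set.range g) := by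
    refine isClosed_of_closure_subset fun z hz => ?_
    obtain ⟨V, hV⟩ := TopologicalSpace.Opens.mem_iSup.1 z.2
    let Y : P₀.Opens := pullback.fst t πX ⁻¹ᵁ W V ⊓ pullback.snd t πX ⁻¹ᵁ V.1
    let bV : Y.toScheme ⟶ V.1.toScheme := IsOpenImmersion.lift V.1.ι (Y.ι ≫ pullback.snd t πX) (by
      rw [Scheme.Opens.range_ι]; rintro _ ⟨y, rfl⟩; exact y.2.2)
    haveI : IsAffine V.1.toScheme := V.2
    let e : Y.toScheme ⟶ pullback t (V.1.ι ≫ πX) := pullback.lift (Y.ι ≫ pullback.fst t πX) bV (by
      rw [IsOpenImmersion.lift_fac_assoc, Category.assoc, Category.assoc, pullback.condition])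
    haveI : Mono e := ⟨fun {L} x y hxy => by
      rw [← cancel_mono Y.ι]
      refine pullback.hom_ext ?_ ?_
      · have h := congrArg (· ≫ pullback.fst t (V.1.ι ≫ πX)) hxy
        simpa only [e, Category.assoc, pullback.lift_fst] using h
      · have h := congrArg (· ≫ pullback.snd t (V.1.ι ≫ πX) ≫ V.1.ι) hxy
        simp only [e, Category.assoc, pullback.lift_snd_assoc] at h
        rw [show bV ≫ V.1.ι = Y.ι ≫ pullback.snd t πX from IsOpenImmersion.lift_fac _ _ _] at h
        simpa only [Category.assoc] using h⟩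
    haveI : IsSeparated (Y.ι ≫ pullback.fst t πX) := by
      rw [show Y.ι ≫ pullback.fst t πX = e ≫ pullback.fst t (V.1.ι ≫ πX) from (pullback.lift_fst _ _ _).symm]
      infer_instance
    let γ : (p ⁻¹ᵁ W V).toScheme ⟶ Y := IsOpenImmersion.lift Y.ι ((p ⁻¹ᵁ W V).ι ≫ γ₀) (by
      rw [Scheme.Opens.range_ι]
      rintro _ ⟨s, rfl⟩
      exact hmem V s.1 (hW V ▸ s.2 : s.1 ∈ f' ⁻¹ᵁ V.1))
    have hγ : γ ≫ Y.ι = (p ⁻¹ᵁ W V).ι ≫ γ₀ := IsOpenImmersion.lift_fac _ _ _
    have hc := isClosed_range_piece πX t p hp f' hf' heq (Y.ι ≫ pullback.fst t πX) (Y.ι ≫ pullback.snd t πX)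
      (fun x y h1 h2 => by
        rw [← cancel_mono Y.ι]
        exact pullback.hom_ext (by simpa only [Category.assoc] using h1) (by simpa only [Category.assoc] using h2))
      (W V) (fun y => y.2.1) γ (by rw [reassoc_of% hγ, pullback.lift_fst]) (by rw [reassoc_of% hγ, pullback.lift_snd])
    by_contra hzr
    have hzY : (⟨z.1, hV⟩ : Y.toScheme) ∉ Set.range γ := by
      rintro ⟨s, hs⟩
      refine hzr ⟨s.1, O.ι.injective ?_⟩
      rw [← Scheme.Hom.comp_apply, hg]
      exact ((congrArg (fun q => q s) hγ).symm.trans (congrArg Y.ι hs) : γ₀ s.1 = z.1)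
    obtain ⟨U, hU, hUe⟩ := Y.ι.isOpenEmbedding.isOpenMap _ hc.isOpen_compl |> fun h =>
      (⟨_, h, rfl⟩ : ∃ U, IsOpen U ∧ U = Y.ι '' (Set.range γ)ᶜ)
    obtain ⟨w, hwU, s, rfl⟩ := mem_closure_iff.1 hz _ (hU.preimage O.ι.continuous)
      (show O.ι z ∈ U from hUe ▸ ⟨_, hzY, rfl⟩)
    have hgs : O.ι (g s) = γ₀ s := by rw [← Scheme.Hom.comp_apply, hg]
    rw [Set.mem_preimage, hgs, hUe] at hwU
    obtain ⟨y, hy, hye⟩ := hwU
    have hsW : s ∈ p ⁻¹ᵁ W V := by
      show p s ∈ W V
      have h1 := y.2.1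
      rw [show y.1 = γ₀ s from hye] at h1
      change (γ₀ ≫ pullback.fst t πX) s ∈ W V at h1
      rwa [pullback.lift_fst] at h1
    refine hy ⟨⟨s, hsW⟩, Y.ι.injective ?_⟩
    rw [← Scheme.Hom.comp_apply, hγ, hye]
    rfl
  let q : T' ⟶ g.image := g.toImage
  haveI : Surjective q := ⟨fun z => by
    have h1 : g.imageι z ∈ closure (Set.range g) := by
      have h2 : z ∈ closure (Set.range q) := by
        rw [q.denseRange.closure_range]; trivial
      have h3 := image_closure_subset_closure_image g.imageι.continuous ⟨z, h2, rfl⟩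
      rwa [← Set.range_comp, ← TopCat.coe_comp, ← Scheme.Hom.comp_base, g.toImage_imageι] at h3
    rw [hclosed.closure_eq] at h1
    obtain ⟨s, hs⟩ := h1
    refine ⟨s, g.imageι.injective ?_⟩
    rw [← Scheme.Hom.comp_apply, g.toImage_imageι, hs]⟩
  let u : g.image ⟶ T := g.imageι ≫ a
  have hqu : q ≫ u = p := by rw [g.toImage_imageι_assoc, hga]
  haveI : UniversallyInjective u := by
    rw [UniversallyInjective.iff_diagonal]
    refine ⟨fun z => ?_⟩
    let ω := (pullback u u).fromSpecResidueField z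
    let c₁ := ω ≫ pullback.fst u u
    let c₂ := ω ≫ pullback.snd u u
    let π₁ := pullback.fst c₁ q
    let π₂ := pullback.fst c₂ q
    obtain ⟨x₁, -⟩ := π₁.surjective (IsLocalRing.closedPoint _)
    obtain ⟨x₂, -⟩ := π₂.surjective (IsLocalRing.closedPoint _)
    haveI : Subsingleton (Spec ((pullback u u).residueField z)) :=
      inferInstanceAs (Subsingleton (PrimeSpectrum ((pullback u u).residueField z)))
    obtain ⟨ξ, -⟩ := Scheme.Pullback.exists_preimage_pullback (f := π₁) (g := π₂) x₁ x₂ (Subsingleton.elim _ _)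
    let w := (pullback π₁ π₂).fromSpecResidueField ξ
    let v := w ≫ pullback.fst π₁ π₂ ≫ π₁
    let A := w ≫ pullback.fst π₁ π₂ ≫ pullback.snd c₁ q
    let B := w ≫ pullback.snd π₁ π₂ ≫ pullback.snd c₂ q
    have hA : A ≫ q = v ≫ c₁ := by
      simp only [A, v, π₁, Category.assoc]
      rw [← pullback.condition]
    have hB : B ≫ q = v ≫ c₂ := by
      simp only [B, v, Category.assoc]
      rw [← pullback.condition, pullback.condition_assoc]
    have hAB : A ≫ p = B ≫ p := by
      rw [← hqu, reassoc_of% hA, reassoc_of% hB]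
      simp only [c₁, c₂, Category.assoc, pullback.condition]
    have h3 := heq _ (pullback.lift A B hAB)
    rw [pullback.lift_fst_assoc, pullback.lift_snd_assoc] at h3
    have h4 : A ≫ q = B ≫ q := by
      rw [← cancel_mono g.imageι, ← cancel_mono O.ι]
      simp only [q, Category.assoc, g.toImage_imageι_assoc, hg]
      refine pullback.hom_ext ?_ ?_
      · simp only [γ₀, Category.assoc, pullback.lift_fst, hAB]
      · simp only [γ₀, Category.assoc, pullback.lift_snd, h3]
    refine ⟨(A ≫ q) (IsLocalRing.closedPoint _), ?_⟩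
    have h5 : (A ≫ q) ≫ pullback.diagonal u = v ≫ ω := by
      refine pullback.hom_ext ?_ ?_
      · rw [Category.assoc, pullback.diagonal_fst, Category.comp_id, hA]
        simp only [c₁, Category.assoc]
      · rw [Category.assoc, pullback.diagonal_snd, Category.comp_id, h4, hB]
        simp only [c₂, Category.assoc]
    rw [← Scheme.Hom.comp_apply, h5, Scheme.Hom.comp_apply, Scheme.fromSpecResidueField_apply]
  have huh : FlatMor.IsUnivHomeo u := by
    intro Z' T'' i₁ i₂ u' hpb
    have h1 : IsPullback (pullback.fst i₁ q) (pullback.snd i₁ q) i₁ q := IsPullback.of_hasPullback i₁ q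
    have h2 : IsPullback (pullback.fst i₁ q ≫ u') (pullback.snd i₁ q) i₂ p := hqu ▸ h1.paste_horiz hpb
    have hquot : Topology.IsQuotientMap (pullback.fst i₁ q ≫ u') := hp _ _ _ h2
    have hinj : Function.Injective u' := by
      haveI : UniversallyInjective u' := MorphismProperty.of_isPullback hpb.flip ‹UniversallyInjective u›
      exact u'.injective
    have hc : (⇑(pullback.fst i₁ q ≫ u') : _ → _) = ⇑u' ∘ ⇑(pullback.fst i₁ q) := rfl
    rw [hc] at hquot
    have hq' : Topology.IsQuotientMap u' :=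
      .of_comp (pullback.fst i₁ q).continuous u'.continuous hquot
    exact isHomeomorph_iff_isQuotientMap_injective.2 ⟨hq', hinj⟩
  refine ⟨g.image, q, u, g.imageι ≫ b, hqu, fun U => ?_, huh, ?_, ?_, ?_⟩
  · exact (TopCat.Presheaf.app_injective_iff_stalkFunctor_map_injective (F := g.image.sheaf) q.c).1
      (g.stalkFunctor_toImage_injective) U
  · haveI : Surjective (pullback.diagonal u) := (UniversallyInjective.iff_diagonal u).1 inferInstance
    refine ⟨IsClosedImmersion.of_isPreimmersion _ ?_⟩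
    rw [Set.range_eq_univ.2 (pullback.diagonal u).surjective]
    exact isClosed_univ
  · rw [g.toImage_imageι_assoc, hgb]
  · simp only [u, a, b, Category.assoc, pullback.condition]

end Groth.Agent.S14794
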