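import Groth.Statements.S14795
import Groth.Agent.UnivHomeo.Criteria
-- import your own Groth.Agent.* helpers here

set_option autoImplicit false
set_option backward.isDefEq.respectTransparency false
universe u
open CategoryTheory CategoryTheory.Limits AlgebraicGeometry
open Subtr
open scoped TensorProduct

namespace Groth.Agent.S14795

/-- Let A ⊆ B be an integral ring extension and C ⊆ B the weak subintegral closure of A in B, that is
the largest A-subalgebra C of B such that Spec C ⟶ Spec A is a universal homeomorphism (C is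
characterised here by that maximality). Then b ∈ B lies in C if and only if b ⊗ 1 − 1 ⊗ b is
nilpotent in B ⊗_A B (b ⊗ 1 = 1 ⊗ b in the reduction of B ⊗_A B). -/
theorem result {A B : Type u} [CommRing A] [CommRing B]
    [Algebra A B] (hinj : Function.Injective (algebraMap A B)) [Algebra.IsIntegral A B]
    (C : Subalgebra A B) (hC : FlatMor.IsUnivHomeo (Spec.map (CommRingCat.ofHom (algebraMap A C))))
    (hmax : ∀ D : Subalgebra A B, FlatMor.IsUnivHomeo (Spec.map (CommRingCat.ofHom (algebraMap A D))) → D ≤ C) (b : B) :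
    b ∈ C ↔ IsNilpotent (b ⊗ₜ[A] (1 : B) - (1 : B) ⊗ₜ[A] b) := by
  classical
  let l₁ : B →ₐ[A] (B ⊗[A] B) ⧸ nilradical (B ⊗[A] B) :=
    (Ideal.Quotient.mkₐ A _).comp (Algebra.TensorProduct.includeLeft)
  let l₂ : B →ₐ[A] (B ⊗[A] B) ⧸ nilradical (B ⊗[A] B) :=
    (Ideal.Quotient.mkₐ A _).comp (Algebra.TensorProduct.includeRight)
  let D : Subalgebra A B := AlgHom.equalizer l₁ l₂
  have hD : ∀ x : B, x ∈ D ↔ IsNilpotent (x ⊗ₜ[A] (1 : B) - (1 : B) ⊗ₜ[A] x) := fun x => by
    show l₁ x = l₂ x ↔ _
    simp [l₁, l₂, Ideal.Quotient.eq, mem_nilradical]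
  constructor
  · intro hb
    have hu := Groth.Agent.UnivHomeo.universallyInjective hC
    have hext : ∀ (K : Type u) [Field K] (g g' : C →+* K),
        g.comp (algebraMap A C) = g'.comp (algebraMap A C) → g = g' := fun K _ g g' hg => by
      have h := ((tfae_universallyInjective (Spec.map (CommRingCat.ofHom (algebraMap A C)))).out 0 1 :
        UniversallyInjective _ ↔ ∀ (K : Type u) [Field K], Function.Injective fun g : Spec (.of K) ⟶ _ =>
          g ≫ Spec.map (CommRingCat.ofHom (algebraMap A C))).mp hu K
          (a₁ := Spec.map (CommRingCat.ofHom g)) (a₂ := Spec.map (CommRingCat.ofHom g'))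
          (by
            show Spec.map _ ≫ _ = Spec.map _ ≫ _
            rw [← Spec.map_comp, ← Spec.map_comp]
            congr 1
            exact CommRingCat.hom_ext hg)
      exact congrArg CommRingCat.Hom.hom (Spec.map_injective h)
    rw [← mem_nilradical, nilradical_eq_sInf, Ideal.mem_sInf]
    intro P hP
    haveI : P.IsPrime := hP
    let ρ : B ⊗[A] B →ₐ[A] P.ResidueField := IsScalarTower.toAlgHom A (B ⊗[A] B) P.ResidueField
    have h := RingHom.congr_fun (hext P.ResidueField
      ((ρ.comp Algebra.TensorProduct.includeLeft).comp C.val).toRingHom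
      ((ρ.comp Algebra.TensorProduct.includeRight).comp C.val).toRingHom
      (RingHom.ext fun a => (AlgHom.commutes ((ρ.comp Algebra.TensorProduct.includeLeft).comp C.val) a).trans
        (AlgHom.commutes ((ρ.comp Algebra.TensorProduct.includeRight).comp C.val) a).symm)) ⟨b, hb⟩
    rw [← Ideal.algebraMap_residueField_eq_zero, map_sub, sub_eq_zero]
    exact h
  · intro hb
    refine hmax D ?_ ((hD b).mpr hb)
    have hinjD : Function.Injective (algebraMap A D) := fun a a' h => hinj (congrArg Subtype.val h)
    have hint : Algebra.IsIntegral A D := ⟨fun x =>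
      (isIntegral_algHom_iff D.val Subtype.val_injective).mp (Algebra.IsIntegral.isIntegral (x : B))⟩
    haveI : IsIntegralHom (Spec.map (CommRingCat.ofHom (algebraMap A D))) :=
      IsIntegralHom.SpecMap_iff.mpr (algebraMap_isIntegral_iff.mpr hint)
    haveI : Surjective (Spec.map (CommRingCat.ofHom (algebraMap A D))) :=
      ⟨(algebraMap_isIntegral_iff.mpr hint).comap_surjective hinjD⟩
    haveI : UniversallyInjective (Spec.map (CommRingCat.ofHom (algebraMap A D))) := by
      refine ((tfae_universallyInjective (Spec.map (CommRingCat.ofHom (algebraMap A D)))).out 1 0 :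
        (∀ (K : Type u) [Field K], Function.Injective fun g : Spec (.of K) ⟶ _ =>
          g ≫ Spec.map (CommRingCat.ofHom (algebraMap A D))) ↔ _).mp fun K _ g g' hg => ?_
      obtain ⟨g, rfl⟩ := Spec.map_surjective g
      obtain ⟨g', rfl⟩ := Spec.map_surjective g'
      have hg' : g.hom.comp (algebraMap A D) = g'.hom.comp (algebraMap A D) := congrArg CommRingCat.Hom.hom
        (Spec.map_injective (by simpa only [Spec.map_comp] using hg) :
          CommRingCat.ofHom (algebraMap A D) ≫ g = CommRingCat.ofHom (algebraMap A D) ≫ g')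
      refine congrArg Spec.map (CommRingCat.hom_ext ?_)
      let Ω := AlgebraicClosure K
      haveI : Algebra.IsIntegral D B := ⟨fun x => (Algebra.IsIntegral.isIntegral (R := A) x).tower_top⟩
      have hlift : ∀ χ : D →+* K, ∃ χ' : B →+* Ω, ∀ x : D, χ' x = algebraMap K Ω (χ x) := fun χ => by
        haveI : (RingHom.ker χ).IsPrime := RingHom.ker_isPrime χ
        obtain ⟨P, hP, hPc⟩ := Ideal.exists_ideal_over_prime_of_isIntegral (RingHom.ker χ) (⊥ : Ideal B) (by
          intro x hx
          have : (x : B) = 0 := hx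
          rw [show x = 0 from Subtype.ext this]
          exact Ideal.zero_mem _) |>.imp fun P hP => hP.2
        haveI := hP
        let p := RingHom.ker χ
        haveI : P.LiesOver p := ⟨hPc.symm⟩
        letI : Algebra (D ⧸ p) Ω := ((algebraMap K Ω).comp (Ideal.Quotient.lift p χ fun x hx => hx)).toAlgebra
        haveI : Algebra.IsIntegral (D ⧸ p) (B ⧸ P) := inferInstance
        have hinjp : Function.Injective (algebraMap (D ⧸ p) Ω) :=
          (algebraMap K Ω).injective.comp (RingHom.lift_injective_of_ker_le_ideal p (fun x hx => hx) le_rfl)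
        haveI : Module.IsTorsionFree (D ⧸ p) Ω := (faithfulSMul_iff_algebraMap_injective _ _).mpr hinjp |>.to_isTorsionFree _ _
        haveI : FaithfulSMul (D ⧸ p) (B ⧸ P) := (faithfulSMul_iff_algebraMap_injective _ _).mpr
          ((injective_iff_map_eq_zero _).mpr fun z hz => by
            obtain ⟨z, rfl⟩ := Ideal.Quotient.mk_surjective z
            refine Ideal.Quotient.eq_zero_iff_mem.mpr ?_
            have h0 : Ideal.Quotient.mk P (algebraMap D B z) = 0 := hz
            have h1 : z ∈ P.comap (algebraMap D B) := Ideal.mem_comap.mpr (Ideal.Quotient.eq_zero_iff_mem.mp h0)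
            rwa [hPc] at h1)
        haveI : IsDomain (D ⧸ p) := Ideal.Quotient.isDomain p
        haveI : IsDomain (B ⧸ P) := Ideal.Quotient.isDomain P
        haveI : Module.IsTorsionFree (D ⧸ p) (B ⧸ P) := FaithfulSMul.to_isTorsionFree (D ⧸ p) (B ⧸ P)
        haveI : Algebra.IsAlgebraic (D ⧸ p) (B ⧸ P) := Algebra.IsIntegral.isAlgebraic (R := D ⧸ p) (A := B ⧸ P)
        let φ : (B ⧸ P) →ₐ[D ⧸ p] Ω := IsAlgClosed.lift
        refine ⟨φ.toRingHom.comp (Ideal.Quotient.mk P), fun x => ?_⟩
        show φ (algebraMap (D ⧸ p) (B ⧸ P) (Ideal.Quotient.mk p x)) = _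
        rw [AlgHom.commutes]
        rfl
      obtain ⟨χ₁, h₁⟩ := hlift g.hom
      obtain ⟨χ₂, h₂⟩ := hlift g'.hom
      letI : Algebra A Ω := ((algebraMap K Ω).comp (g.hom.comp (algebraMap A D))).toAlgebra
      let a₁ : B →ₐ[A] Ω := { χ₁ with commutes' := fun a => h₁ (algebraMap A D a) }
      have h₂' : ∀ a : A, χ₂ (algebraMap A B a) = algebraMap A Ω a := fun a =>
        (h₂ (algebraMap A D a)).trans (congrArg (algebraMap K Ω) (RingHom.congr_fun hg' a).symm)
      let a₂ : B →ₐ[A] Ω := { χ₂ with commutes' := h₂' }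
      refine RingHom.ext fun x => (algebraMap K Ω).injective ?_
      rw [← h₁, ← h₂]
      have h := (((hD x).mp x.2).map (Algebra.TensorProduct.productMap a₁ a₂)).eq_zero
      rw [map_sub, Algebra.TensorProduct.productMap_apply_tmul, Algebra.TensorProduct.productMap_apply_tmul,
        map_one, map_one, mul_one, one_mul, sub_eq_zero] at h
      exact h
    exact Groth.Agent.UnivHomeo.of_isIntegralHom _

end Groth.Agent.S14795
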