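import Groth.Statements.S14797
import Groth.Agent.SubmEtLib.Descends
import Groth.Agent.QFinEtDesc.Points
-- import your own Groth.Agent.* helpers here

set_option autoImplicit false
universe u
open CategoryTheory CategoryTheory.Limits AlgebraicGeometry
open Subtr

open Groth.Agent CategoryTheory.Limits
set_option backward.isDefEq.respectTransparency false
namespace Groth.Agent.S14797

/-- Let g : S' ⟶ S be a quasi-compact universally submersive morphism of schemes and f : X ⟶ S an étale
morphism whose base change X ×_S S' ⟶ S' is finite. Then f is finite. (The published statement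
treats the properties universally closed, separated and quasi-compact one at a time as well; this
row is the finite case. It assumes g universally subtrusive, using it only through universal
submersiveness and, for quasi-compactness, through the constructible topology; for quasi-compact g
universal submersiveness suffices by the same proof.) -/
theorem result {X S S' : Scheme.{u}} (g : S' ⟶ S)
    [QuasiCompact g] (hg : SGA1.UnivSubmersive g) (f : X ⟶ S) [Etale f]
    [IsFinite (pullback.snd f g)] : IsFinite f := by
  have hpb := SubmEtLib.isPullback_bcMap g f (𝟙 S)
  have hsnd : SubmEtLib.bcMap g f (𝟙 S) ≫ pullback.snd (𝟙 S) g = pullback.snd (f ≫ 𝟙 S) g := by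
    simp [SubmEtLib.bcMap]
  have h0 : IsFinite (pullback.snd (f ≫ 𝟙 S) g) := by
    rw [Category.comp_id]; infer_instance
  haveI : IsFinite (SubmEtLib.bcMap g f (𝟙 S) ≫ pullback.snd (𝟙 S) g) := hsnd ▸ h0
  haveI : IsFinite (SubmEtLib.bcMap g f (𝟙 S)) := IsFinite.of_comp _ (pullback.snd (𝟙 S) g)
  haveI : UniversallyClosed f := SubmEtLib.universallyClosed_of_bcMap g f (𝟙 S) hg inferInstance
  haveI : IsSeparated f := SubmEtLib.isSeparated_of_bcMap g f (𝟙 S) hg inferInstance
  haveI : Surjective g := ⟨(MorphismProperty.universally_le (topologically fun f => Topology.IsQuotientMap f) _ hg).surjective⟩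
  haveI : QuasiCompact f := inferInstance
  haveI : IsProper f := ⟨⟩
  exact (IsFinite.iff_isProper_and_locallyQuasiFinite f).2 ⟨inferInstance, QFinEtDesc.locallyQuasiFinite_of_etale f⟩

end Groth.Agent.S14797
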