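import Mathlib
import Groth.Agent.MTree.Cycle
import Groth.Statements.S14804

set_option autoImplicit false
universe u
open Finset
open LabGraph

namespace Groth.Agent.S14804

open Groth.Agent

/-- In a connected finite multigraph G, a vertex v belongs to some cycle of G (here: v is an endpoint of
an edge of some circuit, a circuit being a minimal nonempty edge set meeting every vertex in an even
number of edge-ends, which includes loops and pairs of parallel edges) if and only if G has a
spanning tree T such that some edge outside T has v as an endpoint. (The published statement is for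
an arbitrary multigraph; when G is disconnected it has no spanning tree while a vertex may lie on a
cycle, so G is taken connected here, the case of dual graphs for which it is used.) -/
theorem result
    {V E : Type u} [Fintype V] [Fintype E] [DecidableEq V] [DecidableEq E]
    (ends : E → V × V) (hG : LabGraph.Connected ends) (v : V) :
    (∃ C : Finset E, LabGraph.IsCircuit ends C ∧ LabGraph.endCount ends C v ≠ 0) ↔
      ∃ T : Finset E, LabGraph.IsSpanningTree ends T ∧
        ∃ e : E, e ∉ T ∧ ((ends e).1 = v ∨ (ends e).2 = v) := by
  classical
  constructor
  · rintro ⟨C, hC, hv⟩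
    obtain ⟨e, he, hev⟩ := (MTree.endCount_ne_zero_iff ends C v).mp hv
    obtain ⟨T, hT, -, heT, -⟩ := MTree.exists_tree_circuit ends hG hC he
    exact ⟨T, hT, e, heT, hev⟩
  · rintro ⟨T, hT, e, heT, hev⟩
    obtain ⟨C, hC, heC, -, -⟩ := MTree.exists_fund_circuit ends hT heT
    exact ⟨C, hC, (MTree.endCount_ne_zero_iff ends C v).mpr ⟨e, heC, hev⟩⟩

end Groth.Agent.S14804
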