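import Groth.Statements.S14806
import Groth.Agent.CompLatH7Lib.Basic
-- import your own Groth.Agent.* helpers here

set_option autoImplicit false
set_option backward.isDefEq.respectTransparency false
open Finset
open CompLat

namespace Groth.Agent.S14806

/-- Let n ≥ 1, let D, D' : ℤⁿ → ℤⁿ be given by diagonal matrices with nonzero diagonal entries, A : ℤⁿ →
ℤⁿ an integer matrix of rank n - 1, S : ℤⁿ → ℤ the sum of the coordinates and Δ : ℤ → ℤⁿ the
diagonal embedding, with S D A = 0 and A D' Δ = 0; let d, d' be the greatest common divisors of the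
diagonal entries of D and of D' (dℤ = im(S D), d'ℤ = im(S D')). Then #(ker(S D)/im A) · |det D| ·
|det D'| = d d' · #(ker S/im(D A D')). -/
theorem result (n : ℕ) (hn : 0 < n) (δ δ' : Fin n → ℤ) (hδ : ∀ i, δ i ≠ 0) (hδ' : ∀ i, δ' i ≠ 0)
    (A : Matrix (Fin n) (Fin n) ℤ) (hA : A.rank = n - 1)
    (hSDA : (∑ i : Fin n, (LinearMap.proj i : (Fin n → ℤ) →ₗ[ℤ] ℤ)) ∘ₗ
        (Matrix.mulVecLin (Matrix.diagonal δ)) ∘ₗ (Matrix.mulVecLin A) = 0)
    (hADΔ : (Matrix.mulVecLin A) ∘ₗ (Matrix.mulVecLin (Matrix.diagonal δ')) ∘ₗ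
        (LinearMap.pi fun _ : Fin n => (LinearMap.id : ℤ →ₗ[ℤ] ℤ)) = 0) :
    (Nat.card (LinearMap.ker ((∑ i : Fin n, (LinearMap.proj i : (Fin n → ℤ) →ₗ[ℤ] ℤ)) ∘ₗ (Matrix.mulVecLin (Matrix.diagonal δ))) ⧸
          (LinearMap.range (Matrix.mulVecLin A)).comap (LinearMap.ker ((∑ i : Fin n, (LinearMap.proj i : (Fin n → ℤ) →ₗ[ℤ] ℤ)) ∘ₗ (Matrix.mulVecLin (Matrix.diagonal δ)))).subtype) : ℤ) * |∏ i, δ i| * |∏ i, δ' i| =
      (univ.gcd δ) * (univ.gcd δ') * Nat.card (LinearMap.ker (∑ i : Fin n, (LinearMap.proj i : (Fin n → ℤ) →ₗ[ℤ] ℤ)) ⧸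
          (LinearMap.range ((Matrix.mulVecLin (Matrix.diagonal δ)) ∘ₗ (Matrix.mulVecLin A) ∘ₗ (Matrix.mulVecLin (Matrix.diagonal δ')))).comap (LinearMap.ker (∑ i : Fin n, (LinearMap.proj i : (Fin n → ℤ) →ₗ[ℤ] ℤ))).subtype) := by
  have hf : Matrix.mulVecLin A δ' = 0 := by
    have h := LinearMap.congr_fun hADΔ 1
    have h1 : Matrix.mulVecLin (Matrix.diagonal δ')
        ((LinearMap.pi fun _ : Fin n => (LinearMap.id : ℤ →ₗ[ℤ] ℤ)) 1) = δ' := by
      funext i
      simp [Matrix.mulVec_diagonal]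
    simpa [h1] using h
  have h1 := CompLatH7.main hn δ hδ (Matrix.mulVecLin A) hSDA
  have h2 := CompLatH7.second δ' hn hδ' (Matrix.mulVecLin A) hf hA
  set f := Matrix.mulVecLin A
  have hle1 : (LinearMap.range (CompLatH7.D δ ∘ₗ f ∘ₗ CompLatH7.D δ')).toAddSubgroup ≤
      (LinearMap.range (CompLatH7.D δ ∘ₗ f)).toAddSubgroup := by
    rintro _ ⟨w, rfl⟩
    exact ⟨_, rfl⟩
  have hle2 : (LinearMap.range (CompLatH7.D δ ∘ₗ f)).toAddSubgroup ≤
      (LinearMap.ker (CompLatH7.S n)).toAddSubgroup := by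
    rintro _ ⟨w, rfl⟩
    exact LinearMap.congr_fun hSDA w
  have h3 := AddSubgroup.relIndex_mul_relIndex _ _ _ hle1 hle2
  have h4 : (LinearMap.range (CompLatH7.D δ ∘ₗ f ∘ₗ CompLatH7.D δ')).toAddSubgroup.relIndex
      (LinearMap.range (CompLatH7.D δ ∘ₗ f)).toAddSubgroup =
      (LinearMap.range (f ∘ₗ CompLatH7.D δ')).toAddSubgroup.relIndex
        (LinearMap.range f).toAddSubgroup := by
    rw [← AddSubgroup.relIndex_map_map_of_injective (LinearMap.range (f ∘ₗ CompLatH7.D δ')).toAddSubgroup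
      (LinearMap.range f).toAddSubgroup (f := (CompLatH7.D δ).toAddMonoidHom)
      (CompLatH7.D_injective δ hδ)]
    congr 1 <;>
    · ext v
      simp [LinearMap.range_comp]
  rw [h4] at h3
  have h := congrArg (fun m : ℕ => (m : ℤ)) (show _ = _ from calc
    (LinearMap.range f).toAddSubgroup.relIndex (LinearMap.ker (CompLatH7.S n ∘ₗ CompLatH7.D δ)).toAddSubgroup *
        (∏ i, (δ i).natAbs) * (∏ i, (δ' i).natAbs)
      = (univ.gcd δ).natAbs * (univ.gcd δ').natAbs *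
          (LinearMap.range (CompLatH7.D δ ∘ₗ f ∘ₗ CompLatH7.D δ')).toAddSubgroup.relIndex
            (LinearMap.ker (CompLatH7.S n)).toAddSubgroup := by
        rw [h1, ← h2, ← h3]; ring)
  simp only [Nat.cast_mul, Nat.cast_prod, Int.natCast_natAbs] at h
  rw [← Finset.abs_prod, ← Finset.abs_prod,
    abs_of_nonneg (Int.nonneg_of_normalize_eq_self (Finset.normalize_gcd (s := univ) (f := δ))),
    abs_of_nonneg (Int.nonneg_of_normalize_eq_self (Finset.normalize_gcd (s := univ) (f := δ')))] at h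
  exact h

end Groth.Agent.S14806
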