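import Mathlib
import Groth.Statements.S14807

set_option autoImplicit false
universe u
open CAlg

namespace Groth.Agent.S14807

/-- Let G be a finite abelian group, written additively, and ℓ a prime number. Every sequence (g_n)_{n ≥
0} of elements of G with ℓ^n · g_n = 0 and ℓ · g_{n+1} = g_n for all n is identically zero; in other
words the inverse limit of the subgroups of ℓ^n-torsion elements, with transition maps
multiplication by ℓ, vanishes. -/
theorem result (G : Type u) [AddCommGroup G] [Finite G]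
    (ℓ : ℕ) (hℓ : ℓ.Prime) (g : ℕ → G) (htor : ∀ n : ℕ, ℓ ^ n • g n = 0)
    (hcomp : ∀ n : ℕ, ℓ • g (n + 1) = g n) (n : ℕ) : g n = 0 := by
  have h : ∀ k n, ℓ ^ k • g (n + k) = g n := by
    intro k; induction k with
    | zero => simp
    | succ k ih => intro n; rw [pow_succ, mul_smul, ← add_assoc, hcomp, ih]
  obtain ⟨a, b, hlt, hfin⟩ : ∃ a b, a < b ∧ g (n + a) = g (n + b) := by
    obtain ⟨a, b, hab, hfin⟩ := Finite.exists_ne_map_eq_of_infinite (fun k => g (n + k))
    rcases lt_or_gt_of_ne hab with h | h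
    · exact ⟨a, b, h, hfin⟩
    · exact ⟨b, a, h, hfin.symm⟩
  obtain ⟨d, rfl⟩ := Nat.exists_eq_add_of_lt hlt
  -- g (n+a) = ℓ^(d+1) g(n+a+d+1) = ℓ^(d+1) g (n+a)
  have h2 : ℓ ^ (d+1) • g (n + a) = g (n + a) := by
    have := h (d+1) (n+a)
    rwa [show n + a + (d+1) = n + (a + d + 1) by ring, ← hfin] at this
  have h3 : ∀ j, (ℓ ^ (d+1)) ^ j • g (n + a) = g (n + a) := by
    intro j; induction j with
    | zero => simp
    | succ j ih => rw [pow_succ, mul_smul, h2, ih]
  have h4 : g (n + a) = 0 := by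
    rw [← h3 (n+a), ← pow_mul, show (d+1)*(n+a) = d*(n+a) + (n+a) by ring, pow_add, mul_smul, htor, smul_zero]
  rw [← h a n, h4, smul_zero]

end Groth.Agent.S14807
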