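import Groth.Statements.S1481
import Mathlib.AlgebraicGeometry.ValuativeCriterion
import Mathlib.AlgebraicGeometry.Fiber

set_option autoImplicit false
universe u
open FlatMor

namespace Groth.Agent.S1481

open AlgebraicGeometry CategoryTheory Limits in
/-- Let f : X → S, y a point of X with image t, Y the closure of y, s a point of S and x a point of Y
over s which is generic in an irreducible component of the fibre of Y over s (fibres as subspaces).
Then there are a valuation ring R and a morphism g : Spec R → S sending the generic point to t and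
the closed point to s, such that, writing X' for the base change with projections g' : X' → X and f'
: X' → Spec R, there is a point y' of X' over the generic point with g' y' = y which is generic in
an irreducible component of the generic fibre of g'⁻¹(Y), and a point x' in the closure of y' over
the closed point with g' x' = x which is generic in an irreducible component of the special fibre of
the closure of y'. -/
theorem result {X S : Scheme.{u}} (f : X ⟶ S) (y : X) (s : S) (x : X)
    (hx : x ∈ closure ({y} : Set ↑X)) (hxs : f x = s)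
    (hgen : ∃ C ∈ irreducibleComponents ↑(closure ({y} : Set ↑X) ∩ f ⁻¹' {s}), IsGenericPoint (⟨x, hx, hxs⟩ : ↑(closure ({y} : Set ↑X) ∩ f ⁻¹' {s})) C) :
    ∃ (R : Type u) (_ : CommRing R) (_ : IsDomain R) (_ : ValuationRing R) (g : Spec (CommRingCat.of R) ⟶ S),
      g (⊥ : PrimeSpectrum R) = f y ∧ g (IsLocalRing.closedPoint R) = s ∧
      ∃ (y' : ↑(pullback f g)) (hy't : pullback.snd f g y' = (⊥ : PrimeSpectrum R)) (hy'Y : pullback.fst f g y' ∈ closure ({y} : Set ↑X)),
        pullback.fst f g y' = y ∧
        (∃ C ∈ irreducibleComponents ↑((pullback.fst f g) ⁻¹' closure ({y} : Set ↑X) ∩ (pullback.snd f g) ⁻¹' {(⊥ : PrimeSpectrum R)}),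
          IsGenericPoint (⟨y', hy'Y, hy't⟩ : ↑((pullback.fst f g) ⁻¹' closure ({y} : Set ↑X) ∩ (pullback.snd f g) ⁻¹' {(⊥ : PrimeSpectrum R)})) C) ∧
        ∃ (x' : ↑(pullback f g)) (hx' : x' ∈ closure ({y'} : Set ↑(pullback f g))) (hx's : pullback.snd f g x' = IsLocalRing.closedPoint R),
          pullback.fst f g x' = x ∧
          ∃ C ∈ irreducibleComponents ↑(closure ({y'} : Set ↑(pullback f g)) ∩ (pullback.snd f g) ⁻¹' {IsLocalRing.closedPoint R}),
            IsGenericPoint (⟨x', hx', hx's⟩ : ↑(closure ({y'} : Set ↑(pullback f g)) ∩ (pullback.snd f g) ⁻¹' {IsLocalRing.closedPoint R})) C := by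
  classical
  subst hxs
  have h : y ⤳ x := specializes_iff_mem_closure.2 hx
  -- generic points
  have hsober : ∀ {T B : Scheme.{u}} (q : T ⟶ B) (p : B) (Zc : Set T), IsClosed Zc → QuasiSober ↑(Zc ∩ q ⁻¹' {p}) := by
    intro T B q p Zc hZ
    haveI : QuasiSober ↑(q ⁻¹' {p}) := (q.fiberHomeo p).symm.isClosedEmbedding.quasiSober
    have hc : Topology.IsClosedEmbedding (Set.inclusion (Set.inter_subset_right : Zc ∩ q ⁻¹' {p} ⊆ q ⁻¹' {p})) := by
      refine ⟨Topology.IsEmbedding.inclusion _, ?_⟩
      rw [Set.range_inclusion]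
      have : {z : ↑(q ⁻¹' {p}) | (z : T) ∈ Zc ∩ q ⁻¹' {p}} = Subtype.val ⁻¹' Zc := by
        ext z; exact ⟨fun h => h.1, fun h => ⟨h, z.2⟩⟩
      rw [this]
      exact hZ.preimage continuous_subtype_val
    exact hc.quasiSober
  have hcomp : ∀ {Z : Type u} [TopologicalSpace Z] [QuasiSober Z] (a : Z), (∀ b, b ⤳ a → a ⤳ b) →
      ∃ C ∈ irreducibleComponents Z, IsGenericPoint a C := by
    intro Z _ _ a ha
    let C := irreducibleComponent a
    obtain ⟨b, hb⟩ := QuasiSober.sober (isIrreducible_irreducibleComponent (x := a)) isClosed_irreducibleComponent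
    have hba : b ⤳ a := hb.specializes mem_irreducibleComponent
    refine ⟨_, irreducibleComponent_mem_irreducibleComponents a, ?_⟩
    rw [isGenericPoint_iff_specializes]
    exact fun z => ⟨fun hz => hb.specializes_iff_mem.1 (hba.trans hz), fun hz => (ha b hba).trans (hb.specializes hz)⟩
  -- the valuation rings
  let φ : X.presheaf.stalk x →+* X.residueField y := (X.presheaf.stalkSpecializes h ≫ X.residue y).hom
  let ψ : S.presheaf.stalk (f x) →+* S.residueField (f y) :=
    (S.presheaf.stalkSpecializes (h.map f.continuous) ≫ S.residue (f y)).hom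
  let ι : S.residueField (f y) →+* X.residueField y := (f.residueFieldMap y).hom
  obtain ⟨A, hA, hAloc⟩ := IsLocalRing.exists_factor_valuationRing φ
  let R : ValuationSubring (S.residueField (f y)) := A.comap ι
  have hsq : φ.comp (f.stalkMap x).hom = ι.comp ψ := by
    show ((f.stalkMap x) ≫ X.presheaf.stalkSpecializes h ≫ X.residue y).hom =
      ((S.presheaf.stalkSpecializes (h.map f.continuous) ≫ S.residue (f y)) ≫ f.residueFieldMap y).hom
    rw [Category.assoc, Scheme.residue_residueFieldMap, ← Category.assoc, ← Category.assoc,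
      Scheme.Hom.stalkSpecializes_stalkMap]
  have hR : ∀ a, ψ a ∈ R := fun a => by
    show ι (ψ a) ∈ A
    rw [← RingHom.comp_apply, ← hsq]
    exact hA _
  let φA : X.presheaf.stalk x →+* A := φ.codRestrict A.toSubring hA
  let ψR : S.presheaf.stalk (f x) →+* R := ψ.codRestrict R.toSubring hR
  let ιR : R →+* A := (ι.comp R.subtype).codRestrict A.toSubring fun r => r.2
  have hsq' : φA.comp (f.stalkMap x).hom = ιR.comp ψR := RingHom.ext fun a => Subtype.ext (RingHom.congr_fun hsq a)
  haveI : IsLocalHom φA := hAloc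
  haveI : IsLocalHom ιR := ⟨fun r hr => by
    obtain ⟨c, hc⟩ := hr.exists_right_inv
    have hr0 : (r : S.residueField (f y)) ≠ 0 := fun h0 => by
      have : ι (r : S.residueField (f y)) * (c : X.residueField y) = 1 := congrArg Subtype.val hc
      rw [h0, map_zero, zero_mul] at this
      exact zero_ne_one this
    refine IsUnit.of_mul_eq_one ⟨(r : S.residueField (f y))⁻¹, ?_⟩ (Subtype.ext (mul_inv_cancel₀ hr0))
    show ι (r : S.residueField (f y))⁻¹ ∈ A
    rw [map_inv₀, inv_eq_of_mul_eq_one_right (show ι (r : S.residueField (f y)) * (c : X.residueField y) = 1 from congrArg Subtype.val hc)]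
    exact c.2⟩
  haveI : IsLocalHom ψR := by
    haveI : IsLocalHom (φA.comp (f.stalkMap x).hom) := RingHom.isLocalHom_comp _ _
    haveI : IsLocalHom (ιR.comp ψR) := hsq' ▸ this
    exact isLocalHom_of_comp ψR ιR
  let g : Spec (CommRingCat.of R) ⟶ S := Spec.map (CommRingCat.ofHom ψR) ≫ S.fromSpecStalk (f x)
  have hg0 : ∀ (w : R →+* S.residueField (f y)), w = R.subtype →
      Spec.map (CommRingCat.ofHom w) ≫ g = S.fromSpecResidueField (f y) := by
    rintro w rfl
    rw [← Category.assoc, ← Spec.map_comp, Scheme.fromSpecResidueField,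
      ← Scheme.SpecMap_stalkSpecializes_fromSpecStalk (h.map f.continuous), ← Spec.map_comp_assoc]
    rfl
  let l : Spec (CommRingCat.of A) ⟶ pullback f g :=
    pullback.lift (Spec.map (CommRingCat.ofHom φA) ≫ X.fromSpecStalk x) (Spec.map (CommRingCat.ofHom ιR)) (by
      rw [Category.assoc, ← Scheme.SpecMap_stalkMap_fromSpecStalk, ← Spec.map_comp_assoc, ← Spec.map_comp_assoc]
      exact congrArg (fun m => Spec.map (CommRingCat.ofHom m) ≫ S.fromSpecStalk (f x)) hsq')
  have hlfst : ∀ p, pullback.fst f g (l p) = X.fromSpecStalk x (Spec.map (CommRingCat.ofHom φA) p) := fun p => by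
    rw [← Scheme.Hom.comp_apply, pullback.lift_fst]; rfl
  have hlsnd : ∀ p, pullback.snd f g (l p) = Spec.map (CommRingCat.ofHom ιR) p := fun p => by
    rw [← Scheme.Hom.comp_apply, pullback.lift_snd]
  have hbot : ∀ {P : Type u} {F : Type u} [CommRing P] [IsDomain P] [Field F] (w : P →+* F), Function.Injective w →
      ∀ p, Spec.map (CommRingCat.ofHom w) p = (⊥ : PrimeSpectrum P) := by
    intro P F _ _ _ w hw p
    refine PrimeSpectrum.ext ?_
    show Ideal.comap w p.asIdeal = ⊥
    rw [Subsingleton.elim p (⊥ : PrimeSpectrum F)]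
    exact (RingHom.injective_iff_ker_eq_bot w).1 hw
  let c : (Spec (CommRingCat.of (S.residueField (f y))) : Scheme.{u}) := IsLocalRing.closedPoint (S.residueField (f y))
  have hgbot : g (⊥ : PrimeSpectrum R) = f y := by
    have e2 : (Spec.map (CommRingCat.ofHom R.subtype) ≫ g) c = f y := by
      rw [hg0 _ rfl]
      exact Scheme.fromSpecResidueField_apply (X := S) (f y) c
    rw [Scheme.Hom.comp_apply] at e2
    exact (congrArg (fun p => g p) (hbot R.subtype Subtype.val_injective c).symm).trans e2
  have hgcl : g (IsLocalRing.closedPoint R) = f x := by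
    show S.fromSpecStalk (f x) (Spec.map (CommRingCat.ofHom ψR) (IsLocalRing.closedPoint R)) = _
    rw [show Spec.map (CommRingCat.ofHom ψR) (IsLocalRing.closedPoint R) = IsLocalRing.closedPoint _ from
      IsLocalRing.comap_closedPoint ψR, Scheme.fromSpecStalk_closedPoint]
  have hy₁ : pullback.fst f g (l (⊥ : PrimeSpectrum A)) = y := by
    have : Spec.map (CommRingCat.ofHom A.subtype) ≫ Spec.map (CommRingCat.ofHom φA) ≫ X.fromSpecStalk x =
        X.fromSpecResidueField y := by
      rw [Scheme.fromSpecResidueField, ← Scheme.SpecMap_stalkSpecializes_fromSpecStalk h, ← Spec.map_comp_assoc,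
        ← Spec.map_comp_assoc]
      rfl
    let c' : (Spec (CommRingCat.of (X.residueField y)) : Scheme.{u}) := IsLocalRing.closedPoint (X.residueField y)
    have e2 : (Spec.map (CommRingCat.ofHom A.subtype) ≫ Spec.map (CommRingCat.ofHom φA) ≫ X.fromSpecStalk x) c' = y := by
      rw [this]
      exact Scheme.fromSpecResidueField_apply (X := X) y c'
    rw [Scheme.Hom.comp_apply, Scheme.Hom.comp_apply] at e2
    exact (hlfst _).trans ((congrArg (fun p => X.fromSpecStalk x (Spec.map (CommRingCat.ofHom φA) p))
      (hbot A.subtype Subtype.val_injective c').symm).trans e2)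
  have hy₂ : pullback.snd f g (l (⊥ : PrimeSpectrum A)) = (⊥ : PrimeSpectrum R) :=
    (hlsnd _).trans ((congrArg (Spec.map (CommRingCat.ofHom ιR))
      (hbot A.subtype Subtype.val_injective (IsLocalRing.closedPoint _)).symm).trans
      (hbot (A.subtype.comp ιR) (fun a b e => Subtype.ext (ι.injective e)) (IsLocalRing.closedPoint _)))
  have hx₁ : pullback.fst f g (l (IsLocalRing.closedPoint A)) = x :=
    (hlfst _).trans ((congrArg (X.fromSpecStalk x) (IsLocalRing.comap_closedPoint φA)).trans
      Scheme.fromSpecStalk_closedPoint)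
  have hx₂ : pullback.snd f g (l (IsLocalRing.closedPoint A)) = IsLocalRing.closedPoint R :=
    (hlsnd _).trans (IsLocalRing.comap_closedPoint ιR)
  have hyx : l (⊥ : PrimeSpectrum A) ⤳ l (IsLocalRing.closedPoint A) :=
    (IsLocalRing.specializes_closedPoint (⊥ : PrimeSpectrum A)).map l.continuous
  have hmemY : pullback.fst f g (l (⊥ : PrimeSpectrum A)) ∈ closure ({y} : Set X) := hy₁.symm ▸ subset_closure rfl
  -- uniqueness over the generic point
  have huniq : ∀ z₁ z₂ : ↑(pullback f g), pullback.snd f g z₁ = (⊥ : PrimeSpectrum R) →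
      pullback.snd f g z₂ = (⊥ : PrimeSpectrum R) → pullback.fst f g z₁ = pullback.fst f g z₂ → z₁ = z₂ := by
    intro z₁ z₂ h₁ h₂ he
    let j : Spec (CommRingCat.of (S.residueField (f y))) ⟶ Spec (CommRingCat.of R) := Spec.map (CommRingCat.ofHom R.subtype)
    let c := IsLocalRing.closedPoint (S.residueField (f y))
    have hj : j c = (⊥ : PrimeSpectrum R) := hbot R.subtype Subtype.val_injective _
    obtain ⟨w₁, hw₁, -⟩ := Scheme.Pullback.exists_preimage_pullback (f := pullback.snd f g) (g := j) z₁ c (h₁.trans hj.symm)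
    obtain ⟨w₂, hw₂, -⟩ := Scheme.Pullback.exists_preimage_pullback (f := pullback.snd f g) (g := j) z₂ c (h₂.trans hj.symm)
    haveI : IsPreimmersion (j ≫ g) := by rw [hg0 _ rfl]; infer_instance
    have hi : Function.Injective (pullback.fst f (j ≫ g)) := (pullback.fst f (j ≫ g)).isEmbedding.injective
    have he' : (pullbackLeftPullbackSndIso f g j).hom w₁ = (pullbackLeftPullbackSndIso f g j).hom w₂ := by
      apply hi
      rw [← Scheme.Hom.comp_apply, ← Scheme.Hom.comp_apply, pullbackLeftPullbackSndIso_hom_fst, Scheme.Hom.comp_apply,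
        Scheme.Hom.comp_apply, hw₁, hw₂, he]
    rw [← hw₁, ← hw₂, (pullbackLeftPullbackSndIso f g j).hom.homeomorph.injective he']
  -- the generic point of the special fibre
  have hmem : l (IsLocalRing.closedPoint A) ∈ closure ({l (⊥ : PrimeSpectrum A)} : Set ↑(pullback f g)) ∩
      pullback.snd f g ⁻¹' {IsLocalRing.closedPoint R} := ⟨specializes_iff_mem_closure.1 hyx, hx₂⟩
  haveI := hsober (pullback.snd f g) (IsLocalRing.closedPoint R) (closure {l (⊥ : PrimeSpectrum A)}) isClosed_closure
  obtain ⟨⟨x', hx'1, hx'2⟩, hgen'⟩ := QuasiSober.sober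
    (isIrreducible_irreducibleComponent (x := (⟨_, hmem⟩ : ↑(closure ({l (⊥ : PrimeSpectrum A)} : Set ↑(pullback f g)) ∩
      pullback.snd f g ⁻¹' {IsLocalRing.closedPoint R})))) isClosed_irreducibleComponent
  have hx's : x' ⤳ l (IsLocalRing.closedPoint A) :=
    (hgen'.specializes (mem_irreducibleComponent (x := (⟨_, hmem⟩ : ↑(closure ({l (⊥ : PrimeSpectrum A)} : Set ↑(pullback f g)) ∩
      pullback.snd f g ⁻¹' {IsLocalRing.closedPoint R}))))).map continuous_subtype_val
  have hx'x : pullback.fst f g x' = x := by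
    obtain ⟨C, hC, hxC⟩ := hgen
    have h1 : pullback.fst f g x' ∈ closure ({y} : Set X) := by
      refine specializes_iff_mem_closure.1 ((specializes_of_eq hy₁.symm).trans ?_)
      exact (specializes_iff_mem_closure.2 hx'1).map (pullback.fst f g).continuous
    have h2 : f (pullback.fst f g x') = f x := by
      rw [← Scheme.Hom.comp_apply, pullback.condition, Scheme.Hom.comp_apply, hx'2, hgcl]
    have hle : pullback.fst f g x' ⤳ x := (hx's.map (pullback.fst f g).continuous).trans (specializes_of_eq hx₁)
    let z : ↑(closure ({y} : Set X) ∩ f ⁻¹' {f x}) := ⟨_, h1, h2⟩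
    have hsub : C ⊆ closure {z} := by
      rw [← hxC.def]
      exact closure_minimal (Set.singleton_subset_iff.2
        (specializes_iff_mem_closure.1 ((subtype_specializes_iff _ _).2 hle))) isClosed_closure
    have hz : z ∈ C := hC.2 isIrreducible_singleton.closure hsub (subset_closure rfl)
    exact ((hxC.specializes hz).map continuous_subtype_val).antisymm hle |>.eq.symm
  refine ⟨R, inferInstance, inferInstance, inferInstance, g, hgbot, hgcl, l (⊥ : PrimeSpectrum A), hy₂, hmemY, hy₁, ?_,
    x', hx'1, hx'2, hx'x, ⟨_, irreducibleComponent_mem_irreducibleComponents _, hgen'⟩⟩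
  haveI := hsober (pullback.snd f g) (⊥ : PrimeSpectrum R) _ (isClosed_closure.preimage (pullback.fst f g).continuous (t := closure {y}))
  refine hcomp _ fun b hb => ?_
  obtain ⟨b, hb1, hb2⟩ := b
  have h1 : pullback.fst f g b = y := by
    have hb' := ((subtype_specializes_iff _ _).1 hb).map (pullback.fst f g).continuous
    rw [hy₁] at hb'
    exact (hb'.antisymm (specializes_iff_mem_closure.2 hb1)).eq
  rw [subtype_specializes_iff]
  exact specializes_of_eq (huniq _ _ hb2 hy₂ (h1.trans hy₁.symm)).symm

end Groth.Agent.S1481
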