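import Groth.Statements.S14810
import Groth.Agent.AmpleEmb.GenFinite
import Groth.Agent.AmpleEmb.SectionsGe
import Groth.Agent.CurveLib.Deg
import Groth.Agent.CycLib.FieldSetup
import Groth.Agent.CycLib.IntPull

set_option autoImplicit false
universe u
open CategoryTheory CategoryTheory.Limits AlgebraicGeometry
open Pic13

namespace Groth.Agent.S14810

open CategoryTheory CategoryTheory.Limits AlgebraicGeometry

open Groth.Agent
set_option backward.isDefEq.respectTransparency false
set_option linter.style.haveILetI false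

/-- Between a prime not containing `f` and one containing `f` which is not an immediate successor there is
another prime not containing `f`. -/
theorem exists_prime_between {A : Type*} [CommRing A] [IsNoetherianRing A] {p m : Ideal A} [p.IsPrime] [m.IsPrime]
    {f : A} (hp : f ∉ p) {q : Ideal A} [q.IsPrime] (hpq : p < q) (hqm : q < m) :
    ∃ q' : Ideal A, q'.IsPrime ∧ p < q' ∧ q' < m ∧ f ∉ q' := by
  classical
  by_contra hne
  push Not at hne
  let π := Ideal.Quotient.mk p
  haveI : IsDomain (A ⧸ p) := Ideal.Quotient.isDomain p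
  have hπ : Function.Surjective π := Ideal.Quotient.mk_surjective
  have hker : ∀ {I : Ideal A}, p ≤ I → RingHom.ker π ≤ I := fun h => by rwa [Ideal.mk_ker]
  let Q := q.map π
  let M := m.map π
  haveI hQ : Q.IsPrime := Ideal.map_isPrime_of_surjective hπ (hker hpq.le)
  haveI hM : M.IsPrime := Ideal.map_isPrime_of_surjective hπ (hker (hpq.trans hqm).le)
  have cQ : Q.comap π = q := by rw [Ideal.comap_map_of_surjective π hπ, ← RingHom.ker_eq_comap_bot,
    sup_eq_left.2 (hker hpq.le)]
  have cM : M.comap π = m := by rw [Ideal.comap_map_of_surjective π hπ, ← RingHom.ker_eq_comap_bot,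
    sup_eq_left.2 (hker (hpq.trans hqm).le)]
  have hQM : Q < M := lt_of_le_of_ne (Ideal.map_mono hqm.le) fun h => hqm.ne (by rw [← cQ, h, cM])
  have hQ0 : Q ≠ ⊥ := fun h => hpq.ne (by rw [← cQ, h, ← RingHom.ker_eq_comap_bot, Ideal.mk_ker])
  have key : ∀ P : Ideal (A ⧸ p), P.IsPrime → P ≠ ⊥ → P < M → π f ∈ P := by
    intro P hP hP0 hPM
    haveI := hP
    refine hne (P.comap π) inferInstance ?_ ?_
    · refine lt_of_le_of_ne ?_ fun h => hP0 (Ideal.comap_injective_of_surjective π hπ ?_)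
      · have := Ideal.comap_mono (f := π) (bot_le (a := P))
        rwa [← RingHom.ker_eq_comap_bot, Ideal.mk_ker] at this
      · rw [← h, ← RingHom.ker_eq_comap_bot, Ideal.mk_ker]
    · rw [← cM]
      exact lt_of_le_of_ne (Ideal.comap_mono hPM.le) fun h => hPM.ne (Ideal.comap_injective_of_surjective π hπ h)
  have hf0 : π f ≠ 0 := fun h => hp (Ideal.Quotient.eq_zero_iff_mem.1 h)
  have hfin := Ideal.finite_minimalPrimes_of_isNoetherianRing (A ⧸ p) (Ideal.span {π f})
  obtain ⟨g, hgM, hg⟩ : ∃ g ∈ M, ∀ R ∈ (Ideal.span {π f}).minimalPrimes, R ≤ M → g ∉ R := by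
    by_contra h
    push Not at h
    have hsub : (M : Set (A ⧸ p)) ⊆ ⋃ R ∈ ((hfin.toFinset.filter (· ≤ M) : Finset (Ideal (A ⧸ p))) : Set (Ideal (A ⧸ p))), (R : Set (A ⧸ p)) := fun g hg => by
      obtain ⟨R, hR, hRM, hgR⟩ := h g hg
      exact Set.mem_iUnion₂.2 ⟨R, Finset.mem_coe.2 (Finset.mem_filter.2 ⟨hfin.mem_toFinset.2 hR, hRM⟩), hgR⟩
    obtain ⟨R, hR, hMR⟩ := (Ideal.subset_union_prime ⊥ ⊥ fun R hR _ _ =>
      (hfin.mem_toFinset.1 (Finset.mem_filter.1 hR).1).1.1).1 hsub
    have hR' := Finset.mem_filter.1 hR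
    obtain rfl : R = M := le_antisymm hR'.2 hMR
    exact hQM.not_ge ((hfin.mem_toFinset.1 hR'.1).2
      ⟨hQ, (Ideal.span_singleton_le_iff_mem Q).2 (key Q hQ hQ0 hQM)⟩ hQM.le)
  obtain ⟨P, hP, hPM⟩ := Ideal.exists_minimalPrimes_le ((Ideal.span_singleton_le_iff_mem M).2 hgM)
  haveI : P.IsPrime := hP.1.1
  haveI : (Ideal.span {g}).IsPrincipal := ⟨⟨g, rfl⟩⟩
  have hh := Ideal.height_le_one_of_isPrincipal_of_mem_minimalPrimes (Ideal.span {g}) P hP
  have hlt1 : ∀ {R S : Ideal (A ⧸ p)}, R.IsPrime → S.IsPrime → R ≠ ⊥ → R < S → (1 : ℕ∞) < S.height := by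
    intro R S hR hS hR0 hRS
    haveI := hR
    haveI := hS
    refine lt_of_le_of_lt ?_ (Ideal.height_strict_mono_of_isPrime_of_isPrime hRS)
    refine Order.one_le_iff_pos.2 (lt_of_le_of_lt bot_le (Ideal.height_strict_mono_of_isPrime_of_isPrime
      (bot_lt_iff_ne_bot.2 hR0)))
  have hgP : g ∈ P := hP.1.2 (Ideal.mem_span_singleton_self g)
  have hg0 : g ≠ 0 := fun h => by
    obtain ⟨R, hR, hRQ⟩ := Ideal.exists_minimalPrimes_le ((Ideal.span_singleton_le_iff_mem Q).2 (key Q hQ hQ0 hQM))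
    exact hg R hR (hRQ.trans hQM.le) (h ▸ R.zero_mem)
  have hPne : P ≠ M := fun h => (hlt1 hQ hM hQ0 hQM).not_ge (h ▸ hh)
  have hP0 : P ≠ ⊥ := fun h => hg0 (by rwa [h, Ideal.mem_bot] at hgP)
  obtain ⟨R, hR, hRP⟩ := Ideal.exists_minimalPrimes_le
    ((Ideal.span_singleton_le_iff_mem P).2 (key P inferInstance hP0 (lt_of_le_of_ne hPM hPne)))
  have hR0 : R ≠ ⊥ := fun h => hf0 (by
    have := hR.1.2 (Ideal.mem_span_singleton_self (π f))
    rwa [h, Ideal.mem_bot] at this)
  rcases hRP.lt_or_eq with h | h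
  · exact (hlt1 hR.1.1 inferInstance hR0 h).not_ge hh
  · exact hg R hR (hRP.trans hPM) (h ▸ hgP)

/-- Through a closed point outside a nonempty open subset of an integral scheme of finite type passes a curve
meeting the open subset. -/
theorem exists_curve_through (k : Type u) [Field k] {X : Scheme.{u}} [X.Over (Spec (CommRingCat.of k))]
    [IsProper (X ↘ Spec (CommRingCat.of k))] [IsIntegral X] {x : X} (hx : IsClosed ({x} : Set X))
    {U : X.Opens} (hU : IsAffineOpen U) (hxU : x ∈ U) (a : Γ(X, U)) (hxa : x ∉ X.basicOpen a)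
    (hη : genericPoint X ∈ X.basicOpen a) :
    ∃ w : X, w ⤳ x ∧ w ∈ X.basicOpen a ∧ topologicalKrullDim (closure ({w} : Set X)) = 1 := by
  classical
  haveI := EulerIneqLib.isNoetherian_proper (X := X) k
  haveI : IsNoetherianRing Γ(X, U) := IsLocallyNoetherian.component_noetherian ⟨U, hU⟩
  obtain ⟨δ, hδ⟩ := CycLib.exists_delta k X
  have hdim := (CycLib.isSetup_of_field k δ hδ).2.2
  have hx0 : δ x = 0 := (CycLib.delta_eq_zero_iff k δ hδ x).2 hx
  have hnn : ∀ w : X, 0 ≤ δ w := fun w => by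
    obtain ⟨t, ht, -⟩ := CycLib.delta_dim k δ hδ w
    omega
  let T : Set ℕ := {n | ∃ w : X, w ⤳ x ∧ w ∈ X.basicOpen a ∧ δ w = n}
  have hT : T.Nonempty := ⟨(δ (genericPoint X)).toNat, genericPoint X, genericPoint_specializes x, hη,
    by have := hnn (genericPoint X); omega⟩
  obtain ⟨w, hwx, hwa, hwn⟩ : ∃ w : X, w ⤳ x ∧ w ∈ X.basicOpen a ∧ δ w = (sInf T : ℕ) := Nat.sInf_mem hT
  have hwne : w ≠ x := fun h => hxa (h ▸ hwa)
  suffices hw1 : δ w = 1 from ⟨w, hwx, hwa, (CycLib.delta_eq_one_iff k δ hδ w).1 hw1⟩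
  rw [(hdim w x hwx hwne).2 fun z hwz hzx => ?_, hx0, zero_add]
  by_contra hz
  push Not at hz
  have hwU : w ∈ U := hwx.mem_open U.2 hxU
  have hzU : z ∈ U := hzx.mem_open U.2 hxU
  obtain ⟨pw, rfl⟩ : w ∈ Set.range hU.fromSpec := by rwa [hU.range_fromSpec]
  obtain ⟨pz, rfl⟩ : z ∈ Set.range hU.fromSpec := by rwa [hU.range_fromSpec]
  obtain ⟨px, rfl⟩ : x ∈ Set.range hU.fromSpec := by rwa [hU.range_fromSpec]
  have hsp : ∀ {p q : Spec Γ(X, U)}, hU.fromSpec p ⤳ hU.fromSpec q → p.asIdeal ≤ q.asIdeal := fun h =>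
    (PrimeSpectrum.le_iff_specializes _ _).2 (hU.fromSpec.isOpenEmbedding.isInducing.specializes_iff.1 h)
  have hlt : ∀ {p q : Spec Γ(X, U)}, hU.fromSpec p ⤳ hU.fromSpec q → hU.fromSpec p ≠ hU.fromSpec q →
      p.asIdeal < q.asIdeal := fun h hne => lt_of_le_of_ne (hsp h) fun e =>
    hne (congrArg _ (PrimeSpectrum.ext e))
  have hmem : ∀ p : Spec Γ(X, U), hU.fromSpec p ∈ X.basicOpen a ↔ a ∉ p.asIdeal := fun p => by
    show p ∈ hU.fromSpec ⁻¹ᵁ X.basicOpen a ↔ _
    rw [hU.fromSpec_preimage_basicOpen]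
    rfl
  haveI := pw.isPrime
  haveI := pz.isPrime
  haveI := px.isPrime
  obtain ⟨q, hq, h1, h2, h3⟩ := exists_prime_between ((hmem pw).1 hwa) (q := pz.asIdeal) (m := px.asIdeal)
    (hlt hwz (Ne.symm hz.1)) (hlt hzx hz.2)
  let v : Spec Γ(X, U) := ⟨q, hq⟩
  have hwv : hU.fromSpec pw ⤳ hU.fromSpec v :=
    Specializes.map ((PrimeSpectrum.le_iff_specializes _ _).1 h1.le) hU.fromSpec.continuous
  have hvx : hU.fromSpec v ⤳ hU.fromSpec px :=
    Specializes.map ((PrimeSpectrum.le_iff_specializes _ _).1 h2.le) hU.fromSpec.continuous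
  have hne : hU.fromSpec pw ≠ hU.fromSpec v := fun e =>
    h1.ne (congrArg PrimeSpectrum.asIdeal (hU.fromSpec.isOpenEmbedding.injective e))
  have hv := (hdim _ _ hwv hne).1
  have := hnn (hU.fromSpec v)
  have hle : sInf T ≤ (δ (hU.fromSpec v)).toNat :=
    Nat.sInf_le ⟨_, hvx, (hmem v).2 h3, by omega⟩
  omega

theorem curveDeg_eq' {k : Type u} [Field k] {X : Scheme.{u}} [X.Over (Spec (CommRingCat.of k))]
    [IsProper (X ↘ Spec (CommRingCat.of k))] (hdim : topologicalKrullDim X ≤ 1) (L : X.Modules) :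
    Pic13.curveDeg k (X ↘ Spec (CommRingCat.of k)) L = Curv2.deg k X L 1 := by
  have key : ∀ G : X.Modules, FGA.eulerCharLE k X G 1 = Curv2.euler k X G := fun G => by
    rw [CurveLib.euler_eq_sub (k := k) hdim]
    simp [FGA.eulerCharLE, Finset.sum_range_succ]
    ring
  show FGA.eulerCharLE k X L 1 - FGA.eulerCharLE k X (Coh.structureModule X) 1 = _
  rw [key, key, Curv2.deg]
  simp

/-- The sections generating at every point. -/
theorem genLocus_of_isIso {X : Scheme.{u}} {L : X.Modules} (s : Coh.structureModule X ⟶ L) [IsIso s] :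
    CohB1.genLocus L s = ⊤ := by
  have := AmpleLib.genLocus_comp_iso (𝟙 (Coh.structureModule X)) (asIso s)
  rwa [Category.id_comp, AmpleLib.genLocus_id] at this

/-- Let X be an integral scheme, proper over a field k, such that Γ(X, O_X) is a field, and let L be an
invertible O_X-module which is numerically trivial: its restriction to every closed subscheme of X
which is integral of dimension one has degree 0. If L has a nonzero global section (a nonzero
morphism O_X → L), then L is isomorphic to O_X. -/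
theorem result (k : Type u) [Field k] (X : Scheme.{u})
    [X.Over (Spec (CommRingCat.of k))] [IsProper (X ↘ Spec (CommRingCat.of k))] [IsIntegral X]
    (hfield : IsField (Γ(X, ⊤) : Type u)) (L : X.Modules) (hL : PicF.IsInvertible L)
    (hnum : Pic13.IsNumEquivZero k X L) (s : Coh.structureModule X ⟶ L) (hs : s ≠ 0) :
    Nonempty (L ≅ Coh.structureModule X) := by
  classical
  haveI := EulerIneqLib.isNoetherian_proper (X := X) k
  suffices htop : CohB1.genLocus L s = ⊤ by
    haveI := GenMorph.isIso_of_genLocus_eq_top hL htop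
    exact ⟨(asIso s).symm⟩
  have hη : genericPoint X ∈ CohB1.genLocus L s := by
    refine (AmpleLib.mem_genLocus_iff hL).2 ?_
    have hb := CurveLib.bijective_stalkLin_generic ParaFLib.isInvertible_structureModule hL hs
    have h1 : PullbackMod.stalkLin s (genericPoint X) (ParaFLib.oneG (genericPoint X)) =
        L.presheaf.germ ⊤ (genericPoint X) trivial (AmpleLib.sec s) := by
      conv_lhs => rw [show s = DCohLib.secHom L (AmpleLib.sec s) from (AmpleLib.secHom_sec s).symm]
      exact (PullbackMod.stalkLin_germ (DCohLib.secHom L (AmpleLib.sec s)) (U := ⊤) _ trivial _).trans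
        (congrArg _ (AmpleLib.sec_secHom (AmpleLib.sec s)))
    rw [← h1]
    convert hb.comp (ParaFLib.bijective_oneG (genericPoint X)) using 1
    funext r
    exact (map_smul (PullbackMod.stalkLin s (genericPoint X)) r _).symm
  by_contra hne
  haveI : JacobsonSpace X := LocallyOfFiniteType.jacobsonSpace (X ↘ Spec (CommRingCat.of k))
  obtain ⟨x, hxZ, hxc⟩ := nonempty_inter_closedPoints (X := X) (Z := (CohB1.genLocus L s : Set X)ᶜ)
    (Set.nonempty_compl.2 fun h => hne (TopologicalSpace.Opens.ext h))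
    (CohB1.genLocus L s).2.isClosed_compl.isLocallyClosed
  rw [mem_closedPoints_iff] at hxc
  obtain ⟨W, e, hxW, he⟩ := ParaFLib.exists_gen_nhd hL x
  obtain ⟨U, hU, hxU, hUW⟩ := exists_isAffineOpen_mem_and_subset (U := W) hxW
  have heU := he.res (show U ≤ W from hUW)
  obtain ⟨a, ha⟩ := (heU U le_rfl).2 (AmpleLib.resT (AmpleLib.sec s) U)
  simp only [ParaFLib.res_self] at ha
  have hGU := AmpleLib.genLocus_inf_eq_basicOpen s heU ha
  have hxa : x ∉ X.basicOpen a := fun h => hxZ (hGU.ge h).1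
  have hηa : genericPoint X ∈ X.basicOpen a := hGU.le ⟨hη, (genericPoint_specializes x).mem_open U.2 hxU⟩
  obtain ⟨w, hwx, hwa, hw1⟩ := exists_curve_through k hxc hU hxU a hxa hηa
  let D := Scheme.IdealSheafData.vanishingIdeal (⟨closure {w}, isClosed_closure⟩ : TopologicalSpace.Closeds X)
  haveI : IsIntegral D.subscheme := CurveLib.isIntegral_vanishingIdeal isClosed_closure isIrreducible_singleton.closure
  have hrange : Set.range D.subschemeι = closure {w} := by
    rw [Scheme.IdealSheafData.range_subschemeι, Scheme.IdealSheafData.coe_support_vanishingIdeal]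
    rfl
  have hdimD : topologicalKrullDim D.subscheme = 1 := by
    rw [IsHomeomorph.topologicalKrullDim_eq _ D.subschemeι.isClosedEmbedding.isEmbedding.toHomeomorph.isHomeomorph]
    show topologicalKrullDim (Set.range D.subschemeι) = 1
    rw [hrange, hw1]
  obtain ⟨w', hw'⟩ : w ∈ Set.range D.subschemeι := hrange ▸ subset_closure rfl
  obtain ⟨x', hx'⟩ : x ∈ Set.range D.subschemeι := hrange ▸ specializes_iff_mem_closure.1 hwx
  have hnum' := hnum D.subscheme D.subschemeι inferInstance hdimD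
  letI : D.subscheme.Over (Spec (CommRingCat.of k)) := ⟨D.subschemeι ≫ (X ↘ Spec (CommRingCat.of k))⟩
  haveI : IsProper (D.subscheme ↘ Spec (CommRingCat.of k)) :=
    (inferInstance : IsProper (D.subschemeι ≫ (X ↘ Spec (CommRingCat.of k))))
  have hdeg : Curv2.deg k D.subscheme ((Scheme.Modules.pullback D.subschemeι).obj L) 1 = 0 :=
    (curveDeg_eq' (k := k) hdimD.le _).symm.trans hnum'
  have hL' := AmpleLib.isInvertible_pullback D.subschemeι hL
  have hne0 : AmpleLib.pullS D.subschemeι s ≠ 0 := by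
    intro h
    have hmem : w' ∈ CohB1.genLocus _ (AmpleLib.pullS D.subschemeι s) := by
      rw [AmpleLib.genLocus_pullS _ hL]
      show D.subschemeι w' ∈ CohB1.genLocus L s
      rw [hw']
      exact (hGU.ge hwa).1
    rw [h] at hmem
    refine AmpleEmb.not_mem_genLocus_zero hL' w' ?_
    have h0 : DCohLib.secHom ((Scheme.Modules.pullback D.subschemeι).obj L) 0 = 0 :=
      (congrArg _ (by simp [AmpleLib.sec] : _ = AmpleLib.sec (0 : Coh.structureModule D.subscheme ⟶ _))).trans
        (AmpleLib.secHom_sec 0)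
    rw [h0]
    exact hmem
  obtain ⟨-, h2⟩ := CurveLib.deg_le_of_ne_zero (k := k) hdimD.le ParaFLib.isInvertible_structureModule hL' hne0
  haveI := h2 (by rw [CurveLib.deg_structureModule, hdeg])
  have hx'' : x' ∈ CohB1.genLocus _ (AmpleLib.pullS D.subschemeι s) := by
    rw [genLocus_of_isIso (AmpleLib.pullS D.subschemeι s)]
    exact trivial
  rw [AmpleLib.genLocus_pullS _ hL] at hx''
  refine hxZ ?_
  rw [← hx']
  exact hx''


end Groth.Agent.S14810
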