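import Groth.Statements.S14812
import Groth.Agent.NumBddLib.Proper
import Groth.Agent.ShStabLib.DimBound

set_option autoImplicit false
universe u
open CategoryTheory CategoryTheory.Limits AlgebraicGeometry
open Pic13

namespace Groth.Agent.S14812

open CategoryTheory CategoryTheory.Limits AlgebraicGeometry

open Groth.Agent Groth.Agent.AmpleLib
set_option backward.isDefEq.respectTransparency false
set_option linter.style.haveILetI false

/-- Take any field k, a proper k-scheme X and an invertible O_X-module L. Then L is numerically trivial
(degree 0 on every closed subscheme of X which is integral of dimension one) if and only if χ(F ⊗ L)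
= χ(F) for every coherent O_X-module F; here χ is the alternating sum of the dimensions dim_k H^i(X,
·) over 0 ≤ i ≤ d, for any natural number d bounding the dimension of X. The field k is not assumed
algebraically closed. -/
theorem result (k : Type u) [Field k] (X : Scheme.{u})
    [X.Over (Spec (CommRingCat.of k))] [IsProper (X ↘ Spec (CommRingCat.of k))] (L : X.Modules) (hL : PicF.IsInvertible L) :
    Pic13.IsNumEquivZero k X L ↔
      ∀ (F : X.Modules), Coh.IsCoh F → ∀ d : ℕ, topologicalKrullDim X ≤ d →
        FGA.eulerCharLE k X (CohB1.tensorMod F L) d = FGA.eulerCharLE k X F d := by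
  haveI := EulerIneqLib.isNoetherian_proper (X := X) k
  refine ⟨fun hn F hF d hd => ?_, fun h Y i _ hY hdim => ?_⟩
  · rw [HilbLib.eulerCharLE_eq k _ hd, HilbLib.eulerCharLE_eq k _ hd]
    exact NumBdd.euler_tensor_eq_proper k hL hn hF hd
  · haveI : IsLocallyNoetherian Y := LocallyOfFiniteType.isLocallyNoetherian i
    obtain ⟨N, hN⟩ := ShStabLib.exists_dim_bound k (X := X)
    have h1 := h _ (DevLib.isCoh_pushforward_closed i (DevLib.isCoh_structureModule Y)) N hN.le
    rw [HilbLib.eulerCharLE_eq k _ hN.le, HilbLib.eulerCharLE_eq k _ hN.le] at h1
    rw [Nakai.curveDeg_eq k hL i (hdim.trans Nat.cast_one.symm), Nakai.pairing_cl, h1, sub_self]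


end Groth.Agent.S14812
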