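import Groth.Statements.S14813
import Groth.Agent.EulerPullLib.Basic
import Groth.Agent.S7762
import Groth.Agent.S9683
import Groth.Agent.HilbLib.Multi
import Groth.Agent.AmpleLib.Pullback
import Groth.Agent.DevLib.Closed

set_option autoImplicit false
universe u
open CategoryTheory CategoryTheory.Limits AlgebraicGeometry
open FGA

namespace Groth.Agent.S14813

set_option backward.isDefEq.respectTransparency false
set_option maxHeartbeats 1000000

/-- A split cover of a scheme over a field is the base change of a finite product of copies of the field. -/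
theorem isPullback_split {k : Type u} [Field k] {P Q : Scheme.{u}} (p : P ⟶ Spec (CommRingCat.of k)) (g : Q ⟶ P)
    (ι : Type u) [Finite ι] (e : Q ≅ ∐ fun _ : ι => P) (he : ∀ i, Sigma.ι (fun _ : ι => P) i ≫ e.inv ≫ g = 𝟙 P) :
    ∃ c : Q ⟶ Spec (CommRingCat.of (ι → k)), IsPullback g c p (Spec.map (CommRingCat.ofHom (algebraMap k (ι → k)))) := by
  classical
  let R : ι → CommRingCat.{u} := fun _ => CommRingCat.of k
  have hu : ∀ i, Sigma.ι (fun i => Spec (R i)) i ≫ sigmaSpec R ≫ Spec.map (CommRingCat.ofHom (algebraMap k (ι → k))) =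
      𝟙 _ := fun i => by
    rw [ι_sigmaSpec_assoc, ← Spec.map_comp]
    exact Spec.map_id _
  have H := IsUniversalColimit.isPullback_of_isColimit_left
    (FinitaryPreExtensive.isUniversal_finiteCoproducts (coproductIsCoproduct fun i => Spec (R i)))
    (fun _ => 𝟙 (Spec (CommRingCat.of k))) (sigmaSpec R ≫ Spec.map (CommRingCat.ofHom (algebraMap k (ι → k)))) p
    (fun _ => 𝟙 P) (fun _ => p) (fun _ => IsPullback.of_id_fst) (coproductIsCoproduct fun _ : ι => P)
    (fun i => hu i)
  refine ⟨e.hom ≫ Cofan.IsColimit.desc (coproductIsCoproduct fun _ : ι => P)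
    (fun i => p ≫ Sigma.ι (fun i => Spec (R i)) i) ≫ sigmaSpec R, ?_⟩
  have hg : g = e.hom ≫ Cofan.IsColimit.desc (coproductIsCoproduct fun _ : ι => P) (fun _ => 𝟙 P) := by
    rw [← Iso.inv_comp_eq]
    refine Cofan.IsColimit.hom_ext (coproductIsCoproduct fun _ : ι => P) _ _ fun i => ?_
    rw [Cofan.IsColimit.fac]
    exact he i
  refine H.of_iso e.symm (Iso.refl _) (asIso (sigmaSpec R)) (Iso.refl _) ?_ ?_ ?_ ?_
  · simp [hg]
  · simp
  · simp
  · simp

/-- Let k be an arbitrary field and let X and X' be smooth, integral, proper k-schemes, X of dimension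
n, with an étale k-morphism φ : X' → X (it is then finite étale); suppose φ is finite locally free
of constant degree d. Then χ(O_{X'}) = d · χ(O_X), where χ denotes the alternating sum of dim_k
H^i(·, O) over 0 ≤ i ≤ n (X' has dimension n as well). -/
theorem result (k : Type u) [Field k] (X X' : Scheme.{u})
    [X.Over (Spec (CommRingCat.of k))] [X'.Over (Spec (CommRingCat.of k))]
    [IsProper (X ↘ Spec (CommRingCat.of k))] [IsProper (X' ↘ Spec (CommRingCat.of k))] [Smooth (X ↘ Spec (CommRingCat.of k))] [Smooth (X' ↘ Spec (CommRingCat.of k))]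
    [IsIntegral X] [IsIntegral X'] (φ : X' ⟶ X) [Etale φ] (hφ : φ ≫ (X ↘ Spec (CommRingCat.of k)) = X' ↘ Spec (CommRingCat.of k))
    (d : ℕ) (hd : Mor2.IsFinLocFreeOfDeg d φ) (n : ℕ) (hn : topologicalKrullDim X = n) :
    FGA.eulerCharLE k X' (Coh.structureModule X') n = d * FGA.eulerCharLE k X (Coh.structureModule X) n := by
  haveI : IsFinite φ := hd.1.1
  haveI : Flat φ := hd.1.2.1
  haveI : LocallyOfFinitePresentation φ := hd.1.2.2
  have hdeg := ((FinCovLib.isCover_iff φ d).1 ⟨⟨inferInstance, inferInstance, inferInstance⟩, hd.2⟩).2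
  obtain ⟨T, hTs, hTn, ι, hι, e, he⟩ := Groth.Agent.S7762.main (S := X) (EtTraceLib.cover φ) d hdeg
  haveI : IsFinite T.hom := T.prop.1
  haveI : AlgebraicGeometry.Etale T.hom := T.prop.2
  haveI : Flat T.hom := inferInstance
  haveI : LocallyOfFinitePresentation T.hom := inferInstance
  have hTm : ∀ x, T.hom.finrank x = d.factorial := fun x => by
    obtain ⟨U, hU, ⟨f⟩⟩ := hTn x
    exact FinCovLib.finrank_eq_of_iso T.hom f hU
  haveI : Nonempty ↥T.left := by
    obtain ⟨t, -⟩ := hTs.surj (Classical.arbitrary ↥X)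
    exact ⟨t⟩
  let π : T.left ⟶ X := T.hom
  haveI : IsFinite π := T.prop.1
  haveI : Flat π := ‹Flat T.hom›
  letI : T.left.Over (Spec (CommRingCat.of k)) := ⟨T.hom ≫ (X ↘ Spec (CommRingCat.of k))⟩
  haveI : IsProper (T.left ↘ Spec (CommRingCat.of k)) :=
    inferInstanceAs (IsProper (T.hom ≫ (X ↘ Spec (CommRingCat.of k))))
  let P' := pullback φ T.hom
  letI : P'.Over (Spec (CommRingCat.of k)) := ⟨pullback.fst φ T.hom ≫ (X' ↘ Spec (CommRingCat.of k))⟩
  obtain ⟨c, sqA⟩ := isPullback_split (T.left ↘ Spec (CommRingCat.of k)) (pullback.snd φ T.hom) ι e he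
  haveI := hι
  have hM : Coh.IsCoh (Coh.structureModule X) := by
    haveI := EulerIneqLib.isNoetherian_proper (X := X) k
    exact DevLib.isCoh_structureModule X
  have key := Groth.Agent.EulerPullLib.euler_pullback_eq k (π := π) (f := φ) hφ rfl rfl
    (IsPullback.of_hasPullback φ π) d.factorial d.factorial_pos hTm (ι → k) c sqA d hd.2 hM
  have hdim : topologicalKrullDim X ≤ n := hn.le
  have hdim' : topologicalKrullDim X' ≤ n := ((Groth.Agent.S9683.result φ).1).trans hdim
  rw [HilbLib.eulerCharLE_eq k _ hdim, HilbLib.eulerCharLE_eq k _ hdim', ← key]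
  exact CurveLib.euler_iso (AmpleLib.pullO φ).symm

end Groth.Agent.S14813
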