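import Groth.Statements.S14816
import Groth.Agent.FPModelLib.ZModel
import Groth.Agent.FPModelLib.Model2
import Groth.Agent.ZetaPts.Scheme

set_option autoImplicit false
universe u
open CategoryTheory MonoidalCategory CartesianMonoidalCategory MonObj GrpObj AlgebraicGeometry
open AbVar

namespace Groth.Agent.S14816

open CategoryTheory CategoryTheory.Limits AlgebraicGeometry Opposite
set_option backward.isDefEq.respectTransparency false
set_option maxHeartbeats 1000000

open Groth.Agent.FPModelLib in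
theorem finite_stage (p : ℕ) [Fact (Nat.Prime p)] (k : CommRingCat.{u}) (hd : IsDomain k) (hp : CharP k p)
    (halg : ∀ x : k, ∃ n : ℕ, 0 < n ∧ x ^ (p ^ n) = x) (i : ZIdx k) : Finite i.1 := by
  classical
  obtain ⟨t, ht⟩ := i.2
  choose n hn0 hn using halg
  let N : ℕ := ∏ x ∈ t, n x
  have hN : 0 < N := Finset.prod_pos fun x _ => hn0 x
  haveI : ExpChar k p := ExpChar.prime Fact.out
  let E : Subring k := (iterateFrobenius k p N).eqLocus (RingHom.id k)
  have hle : i.1 ≤ subalgebraOfSubring E := by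
    rw [← ht]
    refine Algebra.adjoin_le fun x hx => ?_
    obtain ⟨d, hd⟩ := Finset.dvd_prod_of_mem n (Finset.mem_coe.mp hx)
    show iterateFrobenius k p N x = x
    rw [iterateFrobenius_def, show N = n x * d from hd, pow_mul]
    clear hd
    induction d with
    | zero => simp
    | succ d ih => rw [pow_succ, pow_mul, ih, hn]
  have hE : (E : Set k).Finite := by
    have hq : 1 < p ^ N := Nat.one_lt_pow hN.ne' (Fact.out : p.Prime).one_lt
    refine Set.Finite.subset (Polynomial.finite_setOfPred_isRoot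
      (p := (Polynomial.X ^ (p ^ N) - Polynomial.X : Polynomial k)) ?_) ?_
    · intro h
      have := congrArg (fun f : Polynomial k => f.coeff 1) h
      simp [Polynomial.coeff_X_pow, hq.ne] at this
    · intro x hx
      have hx' : x ^ (p ^ N) = x := by
        have : iterateFrobenius k p N x = x := hx
        rwa [iterateFrobenius_def] at this
      simp [hx']
  exact Set.Finite.to_subtype (hE.subset hle)

theorem finite_ringHom_of_finiteType (B F : Type u) [CommRing B] [CommRing F] [Finite F] [Algebra.FiniteType ℤ B] :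
    Finite (B →+* F) := by
  obtain ⟨s, hs⟩ := Algebra.FiniteType.out (R := ℤ) (A := B)
  refine Finite.of_injective (fun (φ : B →+* F) (x : s) => φ x.1) fun φ ψ h => ?_
  have : φ.toIntAlgHom = ψ.toIntAlgHom :=
    AlgHom.ext_of_adjoin_eq_top hs fun x hx => congrFun h ⟨x, hx⟩
  exact RingHom.ext fun x => AlgHom.congr_fun this x

theorem finite_pts {X : Scheme.{u}} (f : X ⟶ Spec (CommRingCat.of (ULift.{u} ℤ))) [LocallyOfFiniteType f]
    [CompactSpace X] (F : Type u) [Field F] [Finite F] : Finite (Spec (CommRingCat.of F) ⟶ X) := by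
  let 𝒰 := X.affineCover.finiteSubcover
  haveI : ∀ i, IsAffine (𝒰.X i) := fun i => inferInstanceAs (IsAffine (X.affineCover.X _))
  haveI : ∀ i, Finite (Γ(𝒰.X i, ⊤) →+* F) := fun i => by
    haveI := Groth.Agent.ZetaPts.finiteType_cover f 𝒰 i
    exact finite_ringHom_of_finiteType _ _
  exact (Groth.Agent.ZetaPts.finite_and_homCount_le 𝒰 F _ fun i => ⟨inferInstance, le_rfl⟩).1

open Groth.Agent.FPModelLib in
theorem finite_sections (p : ℕ) [Fact (Nat.Prime p)] (k : CommRingCat.{u}) (hd : IsDomain k) (hp : CharP k p)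
    (halg : ∀ x : k, ∃ n : ℕ, 0 < n ∧ x ^ (p ^ n) = x) (i : (ZIdx k)ᵒᵖ) {X : Scheme.{u}}
    (f : X ⟶ (zSys k).obj i) [LocallyOfFinitePresentation f] [CompactSpace X] :
    Finite ((zSys k).obj i ⟶ X) := by
  haveI := finite_stage p k hd hp halg i.unop
  haveI : IsDomain i.unop.1 := inferInstance
  letI : Field i.unop.1 := (Finite.isField_of_domain i.unop.1).toField
  haveI : Algebra.FiniteType ℤ i.unop.1 := finiteType_zSys k i
  let φ : ULift.{u} ℤ →+* i.unop.1 := (Int.castRingHom _).comp ULift.ringEquiv.toRingHom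
  let st : (zSys k).obj i ⟶ Spec (CommRingCat.of (ULift.{u} ℤ)) := Spec.map (CommRingCat.ofHom φ)
  haveI : LocallyOfFiniteType st := by
    rw [HasRingHomProperty.Spec_iff (P := @LocallyOfFiniteType)]
    refine RingHom.FiniteType.comp ?_ (RingHom.FiniteType.of_surjective _ (RingEquiv.surjective _))
    rw [show Int.castRingHom i.unop.1 = algebraMap ℤ i.unop.1 from Subsingleton.elim _ _]
    exact RingHom.finiteType_algebraMap.mpr (finiteType_zSys k i)
  exact finite_pts (f ≫ st) i.unop.1

theorem finite_range_of_factors {W V U : Type*} [Finite U] (f : W → V) (s : W → U)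
    (h : ∀ x y, s x = s y → f x = f y) : (Set.range f).Finite := by
  classical
  rcases isEmpty_or_nonempty W with hα | hα
  · exact Set.toFinite _
  refine (Set.finite_range fun z : U => f (Function.invFun s z)).subset ?_
  rintro _ ⟨x, rfl⟩
  exact ⟨s x, h _ _ (Function.invFun_eq ⟨x, rfl⟩)⟩

open CategoryTheory.MonoidalCategory CategoryTheory.CartesianMonoidalCategory MonObj in
open Groth.Agent.FPModelLib in
theorem pow_mem_finite (p : ℕ) [Fact (Nat.Prime p)] (k : CommRingCat.{u}) (hd : IsDomain k) (hp : CharP k p)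
    (halg : ∀ x : k, ∃ n : ℕ, 0 < n ∧ x ^ (p ^ n) = x)
    (A : Over (Spec k)) [GrpObj A] [LocallyOfFinitePresentation A.hom] [CompactSpace A.left]
    [QuasiSeparatedSpace A.left]
    (a : 𝟙_ (Over (Spec k)) ⟶ A) : (Set.range fun n : ℕ => a ^ (n + 1)).Finite := by
  haveI : ∀ i, CompactSpace ((zSys k).obj i) := fun i => inferInstance
  let D := zSys k
  let c := zCone k
  have hc := isLimitZCone k
  obtain ⟨i, G, g, q, hm⟩ := Gen.exists_model D c hc (A.hom : A.left ⟶ c.pt)
  have hI : IsModel (𝟙 c.pt) (c.π.app i) (𝟙 (D.obj i)) (c.π.app i) :=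
    ⟨inferInstance, inferInstance, inferInstance, IsPullback.of_vert_isIso ⟨by simp⟩⟩
  obtain ⟨k₀, mk, hmk₁, hmk₂⟩ := Gen.exists_hom_stage D c hc hI hm (a.left : c.pt ⟶ A.left) (Over.w a)
  let u₀ : D.obj k₀.left ⟶ pullback (𝟙 (D.obj i)) (D.map k₀.hom) :=
    pullback.lift (D.map k₀.hom) (𝟙 _) (by simp)
  have hu₀ : c.π.app k₀.left ≫ u₀ = FlatStage.vMap D c i (𝟙 (D.obj i)) hI.isPullback k₀ := by
    apply pullback.hom_ext
    · rw [Category.assoc, pullback.lift_fst, FlatStage.vMap_fst, c.w]
    · rw [Category.assoc, pullback.lift_snd, FlatStage.vMap_snd]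
      exact (Category.comp_id _).trans (Category.id_comp _).symm
  have hm₁ := hm.stage D c k₀
  let G₁ := pullback g (D.map k₀.hom)
  let g₁ : G₁ ⟶ D.obj k₀.left := pullback.snd g (D.map k₀.hom)
  let q₁ : A.left ⟶ G₁ := FlatStage.vMap D c i g hm.isPullback k₀
  let s₀ : D.obj k₀.left ⟶ G₁ := u₀ ≫ mk
  have hs₀ : s₀ ≫ g₁ = 𝟙 _ := by
    show (u₀ ≫ mk) ≫ _ = _
    rw [Category.assoc]
    exact (congrArg (u₀ ≫ ·) hmk₁).trans (pullback.lift_snd _ _ _)
  have hs₀a : (a.left : c.pt ⟶ A.left) ≫ q₁ = c.π.app k₀.left ≫ s₀ := by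
    show _ = c.π.app k₀.left ≫ u₀ ≫ mk
    rw [← Category.assoc, hu₀]
    exact hmk₂.symm
  have hg₁ : IsPullback q₁ A.hom g₁ (c.π.app k₀.left) := hm₁.isPullback
  haveI := hm₁.compact
  haveI := hm₁.qs
  haveI : LocallyOfFinitePresentation g₁ := hm₁.lfp
  haveI : QuasiCompact g₁ := quasiCompact_of_compactSpace g₁
  haveI : QuasiSeparated g₁ := (quasiSeparated_iff_quasiSeparatedSpace g₁).mpr inferInstance
  -- the model of the square
  have hW : IsPullback (fst A A).left (snd A A).left A.hom A.hom := IsPullback.of_hasPullback A.hom A.hom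
  have hR₀ : IsPullback (pullback.lift ((fst A A).left ≫ q₁) ((snd A A).left ≫ q₁) (by
        simp only [Category.assoc, hg₁.w, reassoc_of% hW.w]))
      (((fst A A).left ≫ A.hom : (A ⊗ A).left ⟶ c.pt)) (pullback.fst g₁ g₁ ≫ g₁) (c.π.app k₀.left) := by
    refine IsPullback.mk' ?_ ?_ ?_
    · simp [hg₁.w]
    · intro T φ ψ h₁ h₂
      have e₁ : φ ≫ (fst A A).left = ψ ≫ (fst A A).left := by
        apply hg₁.hom_ext
        · simpa using congrArg (· ≫ pullback.fst g₁ g₁) h₁
        · simpa using h₂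
      apply hW.hom_ext e₁
      apply hg₁.hom_ext
      · simpa using congrArg (· ≫ pullback.snd g₁ g₁) h₁
      · calc (φ ≫ (snd A A).left) ≫ A.hom = φ ≫ (fst A A).left ≫ A.hom := by rw [Category.assoc, hW.w]
          _ = ψ ≫ (fst A A).left ≫ A.hom := h₂
          _ = (ψ ≫ (snd A A).left) ≫ A.hom := by rw [Category.assoc, hW.w]
    · intro T r t h
      have h' : (r ≫ pullback.snd g₁ g₁) ≫ g₁ = t ≫ c.π.app k₀.left := by
        rw [Category.assoc, ← pullback.condition]; exact h
      refine ⟨hW.lift (hg₁.lift (r ≫ pullback.fst g₁ g₁) t (by simpa using h))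
        (hg₁.lift (r ≫ pullback.snd g₁ g₁) t h') ?_, ?_, ?_⟩
      · rw [IsPullback.lift_snd, IsPullback.lift_snd]
      · apply pullback.hom_ext <;> simp
      · simp
  have hR : IsModel ((fst A A).left ≫ A.hom : (A ⊗ A).left ⟶ c.pt) (c.π.app k₀.left) (pullback.fst g₁ g₁ ≫ g₁) _ :=
    ⟨QuasiCompact.compactSpace_of_compactSpace (pullback.fst g₁ g₁ ≫ g₁),
      quasiSeparatedSpace_of_quasiSeparated (pullback.fst g₁ g₁ ≫ g₁), inferInstance, hR₀⟩
  obtain ⟨k₁, mk₁, hk₁, hk₂⟩ := Gen.exists_hom_stage D c hc hR hm₁ (μ[A]).left (by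
    rw [show ((fst A A).left ≫ A.hom : (A ⊗ A).left ⟶ c.pt) = (A ⊗ A).hom from Over.w (fst A A)]
    exact Over.w μ[A])
  have hm₂ := hm₁.stage D c k₁
  let g₂ := pullback.snd g₁ (D.map k₁.hom)
  let q₂ : A.left ⟶ pullback g₁ (D.map k₁.hom) := FlatStage.vMap D c k₀.left g₁ hg₁ k₁
  haveI := hm₂.compact
  haveI : LocallyOfFinitePresentation g₂ := hm₂.lfp
  haveI := finite_sections p k hd hp halg k₁.left g₂
  let P : (𝟙_ (Over (Spec k)) ⟶ A) → (D.obj k₁.left ⟶ pullback g₁ (D.map k₁.hom)) → Prop := fun b s =>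
    s ≫ g₂ = 𝟙 _ ∧ (b.left : c.pt ⟶ A.left) ≫ q₂ = c.π.app k₁.left ≫ s
  have ha : ∃ s, P a s := by
    refine ⟨pullback.lift (D.map k₁.hom ≫ s₀) (𝟙 _) (by rw [Category.assoc, hs₀]; simp),
      pullback.lift_snd _ _ _, ?_⟩
    apply pullback.hom_ext
    · rw [Category.assoc, Category.assoc, pullback.lift_fst, c.w_assoc]
      rw [FlatStage.vMap_fst]
      exact hs₀a
    · rw [Category.assoc, Category.assoc, pullback.lift_snd, FlatStage.vMap_snd]
      rw [← Category.assoc (a.left : c.pt ⟶ A.left) A.hom, show (a.left : c.pt ⟶ A.left) ≫ A.hom = 𝟙 _ from Over.w a,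
        Category.id_comp, Category.comp_id]
  have hmul : ∀ b d, (∃ s, P b s) → (∃ s, P d s) → ∃ s, P (b * d) s := by
    rintro b d ⟨sb, hsb, hb⟩ ⟨sd, hsd, hd⟩
    have wb : sb ≫ pullback.fst g₁ (D.map k₁.hom) ≫ g₁ = D.map k₁.hom := by
      rw [pullback.condition, reassoc_of% hsb]
    have wd : sd ≫ pullback.fst g₁ (D.map k₁.hom) ≫ g₁ = D.map k₁.hom := by
      rw [pullback.condition, reassoc_of% hsd]
    let t : D.obj k₁.left ⟶ pullback (pullback.fst g₁ g₁ ≫ g₁) (D.map k₁.hom) :=
      pullback.lift (pullback.lift (sb ≫ pullback.fst g₁ _) (sd ≫ pullback.fst g₁ _)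
        (by rw [Category.assoc, Category.assoc, wb, wd])) (𝟙 _) (by simp [wb])
    have hb' : (b.left : c.pt ⟶ A.left) ≫ q₁ = c.π.app k₁.left ≫ sb ≫ pullback.fst g₁ _ := by
      have := congrArg (· ≫ pullback.fst g₁ (D.map k₁.hom)) hb
      simpa [q₂, FlatStage.vMap_fst] using this
    have hd' : (d.left : c.pt ⟶ A.left) ≫ q₁ = c.π.app k₁.left ≫ sd ≫ pullback.fst g₁ _ := by
      have := congrArg (· ≫ pullback.fst g₁ (D.map k₁.hom)) hd
      simpa [q₂, FlatStage.vMap_fst] using this
    have l₁ : ((lift b d).left : c.pt ⟶ (A ⊗ A).left) ≫ (fst A A).left = b.left := by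
      rw [← Over.comp_left, lift_fst]
    have l₂ : ((lift b d).left : c.pt ⟶ (A ⊗ A).left) ≫ (snd A A).left = d.left := by
      rw [← Over.comp_left, lift_snd]
    have hbd : ((lift b d).left : c.pt ⟶ (A ⊗ A).left) ≫ FlatStage.vMap D c k₀.left _ hR.isPullback k₁ =
        c.π.app k₁.left ≫ t := by
      apply pullback.hom_ext
      · refine (Category.assoc _ _ _).trans ((congrArg ((lift b d).left ≫ ·) (FlatStage.vMap_fst _ _ _ _ _ _)).trans
          (Eq.symm ((Category.assoc _ _ _).trans (congrArg (c.π.app k₁.left ≫ ·) (pullback.lift_fst _ _ _)) |>.trans ?_)))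
        apply pullback.hom_ext
        · refine (Category.assoc _ _ _).trans ((congrArg (c.π.app k₁.left ≫ ·) (pullback.lift_fst _ _ _)).trans ?_)
          refine Eq.trans hb'.symm (Eq.symm ?_)
          refine (Category.assoc _ _ _).trans ((congrArg ((lift b d).left ≫ ·) (pullback.lift_fst _ _ _)).trans ?_)
          rw [← Category.assoc, l₁]
        · refine (Category.assoc _ _ _).trans ((congrArg (c.π.app k₁.left ≫ ·) (pullback.lift_snd _ _ _)).trans ?_)
          refine Eq.trans hd'.symm (Eq.symm ?_)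
          refine (Category.assoc _ _ _).trans ((congrArg ((lift b d).left ≫ ·) (pullback.lift_snd _ _ _)).trans ?_)
          rw [← Category.assoc, l₂]
      · refine (Category.assoc _ _ _).trans ((congrArg ((lift b d).left ≫ ·) (FlatStage.vMap_snd _ _ _ _ _ _)).trans
          (Eq.symm ((Category.assoc _ _ _).trans (congrArg (c.π.app k₁.left ≫ ·) (pullback.lift_snd _ _ _)) |>.trans ?_)))
        rw [Category.comp_id, Category.assoc, reassoc_of% l₁,
          ← Category.assoc (b.left : c.pt ⟶ A.left) A.hom, show (b.left : c.pt ⟶ A.left) ≫ A.hom = 𝟙 _ from Over.w b,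
          Category.id_comp]
    refine ⟨t ≫ mk₁, ?_, ?_⟩
    · exact (Category.assoc _ _ _).trans ((congrArg (t ≫ ·) hk₁).trans (pullback.lift_snd _ _ _))
    · rw [Hom.mul_def, Over.comp_left, Category.assoc]
      refine (congrArg ((lift b d).left ≫ ·) hk₂.symm).trans ?_
      rw [← Category.assoc, hbd, Category.assoc]
  have hpow : ∀ n : ℕ, ∃ s, P (a ^ (n + 1)) s := by
    intro n
    induction n with
    | zero => simpa using ha
    | succ n ih => rw [pow_succ]; exact hmul _ _ ih ha
  choose s hs using hpow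
  have key : ∀ m n, s m = s n → a ^ (m + 1) = a ^ (n + 1) := fun m n e => by
    apply Over.OverMorphism.ext
    have hp := (hm₂.isPullback)
    apply hp.hom_ext
    · exact (hs m).2.trans ((congrArg (c.π.app k₁.left ≫ ·) e).trans (hs n).2.symm)
    · exact (Over.w (a ^ (m + 1))).trans (Over.w (a ^ (n + 1))).symm
  exact finite_range_of_factors _ s key

/-- Let k be an algebraically closed field of characteristic p > 0 which is algebraic over its prime
field (every element x satisfies x^(p^n) = x for some n ≥ 1) and let A be an abelian variety over k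
(a proper, geometrically integral group scheme over k). Then every k-rational point of A has finite
order in the group A(k) of k-points. -/
theorem result
    (p : ℕ) [Fact (Nat.Prime p)] (k : Type u) [Field k] [IsAlgClosed k] [CharP k p]
    (halg : ∀ x : k, ∃ n : ℕ, 0 < n ∧ x ^ (p ^ n) = x)
    (A : Over (Spec (CommRingCat.of k))) [GrpObj A] [IsProper A.hom] [GeometricallyIntegral A.hom]
    (a : 𝟙_ (Over (Spec (CommRingCat.of k))) ⟶ A) : IsOfFinOrder a := by
  haveI : CompactSpace A.left := QuasiCompact.compactSpace_of_compactSpace A.hom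
  haveI : QuasiSeparatedSpace A.left := quasiSeparatedSpace_of_quasiSeparated A.hom
  have hf := pow_mem_finite p (CommRingCat.of k) inferInstance inferInstance halg A a
  by_contra h
  exact Set.infinite_range_of_injective
    ((injective_pow_iff_not_isOfFinOrder.mpr h).comp (add_left_injective 1)) hf

end Groth.Agent.S14816
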