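import Groth.Statements.S14818
import Groth.Agent.S19692
import Groth.Agent.S15827
import Groth.Agent.KVbLib.PullExt
import Groth.Agent.ExtPowLib.Exist
import Groth.Agent.SeesawVB.TrivFibres
import Groth.Agent.DegDevLib.Frame
import Groth.Agent.DCohLib.ProjFlf
import Groth.Agent.AmpleEmb.Inverse
-- import your own Groth.Agent.* helpers here

set_option autoImplicit false
set_option backward.isDefEq.respectTransparency false
set_option maxHeartbeats 800000
set_option synthInstance.maxHeartbeats 200000
universe u
open CategoryTheory CategoryTheory.Limits AlgebraicGeometry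
open PicF

namespace Groth.Agent.S14818

/-- Let X be a connected locally Noetherian scheme, f : X' → X a finite locally free morphism of
constant degree d (a finite flat covering of X of degree d) and L an invertible O_X-module whose
pullback f^*L is isomorphic to O_{X'}. Then L^{⊗d} ≅ O_X; in particular L has finite order in Pic(X)
dividing the degree of f. -/
theorem result (X X' : Scheme.{u})
    [IsLocallyNoetherian X] [ConnectedSpace X] (f : X' ⟶ X) (d : ℕ) (hf : Mor2.IsFinLocFreeOfDeg d f)
    (L : X.Modules) (hL : PicF.IsInvertible L)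
    (htriv : Nonempty ((Scheme.Modules.pullback f).obj L ≅ Coh.structureModule X')) :
    Nonempty (CohB1.tensorPow L d ≅ Coh.structureModule X) := by
    let P : X.Modules := (Scheme.Modules.pushforward f).obj (Coh.structureModule X')
    obtain ⟨-, hP⟩ := (Groth.Agent.S19692.result f d).1 hf
    change FlatMod.IsFinLocFreeOfRank d P at hP
    have hPf : FlatMod.IsFinLocFree P := Groth.Agent.KVb.isFinLocFree_of_rank hP
    have : Coh.IsQCoh P := (Groth.Agent.PullbackMod.isQCoh_and_isFP_of_isFinLocFree P hPf).1
    have hL1 : FlatMod.IsFinLocFreeOfRank 1 L := Groth.Agent.CurveLib.isFinLocFreeOfRank_one hL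
    have := Groth.Agent.DCohLib.isIso_projMap_of_flf f (Groth.Agent.KVb.isFinLocFree_of_rank hL1) (Coh.structureModule X')
    obtain ⟨t⟩ := htriv
    let e : CohB1.tensorMod P L ≅ P := asIso (Groth.Agent.DCohLib.projMap f (Coh.structureModule X') L) ≪≫
      (Scheme.Modules.pushforward f).mapIso (Groth.Agent.AmpleLib.unitL _ ≪≫ t)
    obtain ⟨N, -, hN⟩ := Groth.Agent.ExtPowLib.exists_isExtPow P d
    obtain ⟨a⟩ := Groth.Agent.S15827.result P L hPf hL1 d N N (Groth.Agent.KVb.isExtPow_iso e.symm (Iso.refl N) hN) hN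
    have hNinv : PicF.IsInvertible N := Groth.Agent.SeesawVB.isInvertible_of_isExtPow hN fun x => by
      obtain ⟨_, ⟨V : X.Opens, hV, rfl⟩, hxV, -⟩ :=
        X.isBasis_affineOpens.exists_subset_of_mem_open (Set.mem_univ x) isOpen_univ
      obtain ⟨U, s, hxU, -, hs⟩ := Groth.Agent.DegDevLib.exists_frame hP (Set.finite_singleton x) hV
        (Set.singleton_subset_iff.2 hxV)
      exact ⟨U, s, hxU rfl, hs⟩
    obtain ⟨N', -, ⟨i⟩⟩ := Groth.Agent.AmpleEmb.exists_isInverseOf hNinv
    open Groth.Agent.AmpleLib in
    exact ⟨(unitL _).symm ≪≫ tIso (i.symm ≪≫ comm N N') (Iso.refl _) ≪≫ assoc N' N _ ≪≫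
      tIso (Iso.refl N') a.symm ≪≫ comm N' N ≪≫ i⟩

end Groth.Agent.S14818
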