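import Groth.Statements.S14819
import Groth.Agent.PicRootLib.Main
import Groth.Agent.AmpleLib.Pullback
import Groth.Agent.PurInsepPicLib.Root
import Groth.Agent.S10492
-- import your own Groth.Agent.* helpers here

set_option autoImplicit false
set_option backward.isDefEq.respectTransparency false
set_option linter.style.haveILetI false
universe u
open CategoryTheory CategoryTheory.Limits AlgebraicGeometry
open PicF

namespace Groth.Agent.S14819

open TopologicalSpace Opposite
open Groth.Agent.ParaFLib Groth.Agent.AmpleLib Groth.Agent.PullbackMod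
open scoped AlgebraicGeometry

/-- The unit section. -/
abbrev one {Y : Scheme.{u}} (W : Y.Opens) : Γ(Coh.structureModule Y, W) := (1 : Γ(Y, W))

theorem one_res {Y : Scheme.{u}} {A B : Y.Opens} (hAB : B ≤ A) :
    (Coh.structureModule Y).presheaf.map (homOfLE hAB).op (one A) = one B :=
  map_one (Y.presheaf.map (homOfLE hAB).op).hom

theorem smul_one_inj {Y : Scheme.{u}} {W : Y.Opens} {a b : Γ(Y, W)} (h : a • one W = b • one W) : a = b := by
  refine ((gen_one (X := Y) W) W le_rfl).1 ?_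
  show a • (Coh.structureModule Y).presheaf.map (homOfLE (le_refl W)).op (one W) =
    b • (Coh.structureModule Y).presheaf.map (homOfLE (le_refl W)).op (one W)
  rw [one_res]
  exact h

theorem hres {Y' Y : Scheme.{u}} (f : Y' ⟶ Y) {A B : Y.Opens} (h : B ≤ A) (a : Γ(Y, A)) :
    f.app B (Y.presheaf.map (homOfLE h).op a) = Y'.presheaf.map (homOfLE (f.preimage_mono h)).op (f.app A a) := by
  simp only [← ConcreteCategory.comp_apply, Scheme.Hom.naturality]
  rfl

/-- A compatible system of units glues to a unit. -/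
theorem exists_glue_unit {Y : Scheme.{u}} {ι : Type u} (W : ι → Y.Opens) (hW : iSup W = ⊤) (a : ∀ i, Γ(Y, W i))
    (ha : ∀ i, IsUnit (a i)) (hc : ∀ i j, Y.presheaf.map (homOfLE (inf_le_left : W i ⊓ W j ≤ W i)).op (a i) =
      Y.presheaf.map (homOfLE (inf_le_right : W i ⊓ W j ≤ W j)).op (a j)) :
    ∃ t : Γ(Y, ⊤), IsUnit t ∧ ∀ i, Y.presheaf.map (homOfLE (le_top : W i ≤ ⊤)).op t = a i := by
  obtain ⟨t, ht, -⟩ := Y.sheaf.existsUnique_gluing' W ⊤ (fun i => homOfLE le_top) hW.ge a (fun i j => hc i j)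
  refine ⟨t, Y.toRingedSpace.isUnit_of_isUnit_germ ⊤ t fun y hy => ?_, ht⟩
  obtain ⟨i, hi⟩ := Opens.mem_iSup.1 (hW.ge hy)
  have := (ha i).map (Y.presheaf.germ (W i) y hi).hom
  rw [← ht i] at this
  erw [TopCat.Presheaf.germ_res_apply] at this
  exact this

/-- Let X be an integral Noetherian scheme which is normal (all local rings integrally closed domains)
and whose ring of global functions Γ(X, O_X) is a field of characteristic p > 0; let L be an
invertible O_X-module of exact order d in Pic(X), i.e. L^{⊗d} ≅ O_X with d ≥ 1 and L^{⊗i} not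
isomorphic to O_X for 0 < i < d, and suppose p divides d. Let X' be a connected scheme such that
every unit of Γ(X', O_{X'}) has a p-th root. Then no finite étale morphism f : X' → X (a finite
étale covering of X by X') satisfies f^*L ≅ O_{X'}. -/
theorem result (X X' : Scheme.{u})
    [IsIntegral X] [IsNoetherian X] (hnorm : Pi1.IsNormalScheme X)
    (hfield : IsField (Γ(X, ⊤) : Type u)) (p : ℕ) [Fact (Nat.Prime p)] [CharP (Γ(X, ⊤) : Type u) p]
    (L : X.Modules) (hL : PicF.IsInvertible L) (d : ℕ) (hd : 0 < d)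
    (hord : Nonempty (CohB1.tensorPow L d ≅ Coh.structureModule X))
    (hmin : ∀ i : ℕ, 0 < i → i < d → IsEmpty (CohB1.tensorPow L i ≅ Coh.structureModule X))
    (hpd : p ∣ d) [ConnectedSpace X']
    (hroot : ∀ u : (Γ(X', ⊤) : Type u), IsUnit u → ∃ v : (Γ(X', ⊤) : Type u), v ^ p = u)
    (f : X' ⟶ X) [IsFinite f] [Etale f] :
    IsEmpty ((Scheme.Modules.pullback f).obj L ≅ Coh.structureModule X') := by
  classical
  refine ⟨fun τL => ?_⟩
  obtain ⟨φd⟩ := hord
  obtain ⟨q, rfl⟩ := hpd
  have hp : p.Prime := Fact.out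
  have hq : 0 < q := Nat.pos_of_mul_pos_left hd
  have hqd : q < p * q := lt_mul_of_one_lt_left hq hp.one_lt
  refine (hmin q hq hqd).false ?_
  let M := CohB1.tensorPow L q
  have hM : PicF.IsInvertible M := isInvertible_tensorPow hL q
  let φ : CohB1.tensorPow M p ≅ Coh.structureModule X := powMul L q p ≪≫ eqToIso (by rw [mul_comm q p]) ≪≫ φd
  let τ : (Scheme.Modules.pullback f).obj M ≅ Coh.structureModule X' := pullPow f L q ≪≫ powCongr τL q ≪≫ powUnit q
  suffices Nonempty (M ≅ Coh.structureModule X) from this.some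
  have hsurj : Function.Surjective f := by
    have ho : IsOpen (Set.range f) := f.isOpenMap.isOpen_range
    have hc : IsClosed (Set.range f) := f.isClosedMap.isClosed_range
    exact Set.range_eq_univ.mp (IsClopen.eq_univ ⟨hc, ho⟩ (Set.range_nonempty _))
  -- charts
  have loc : ∀ x : X, ∃ (U : X.Opens) (e : Γ(M, U)), IsAffineOpen U ∧ x ∈ U ∧ Gen U e := by
    intro x
    obtain ⟨W, e, hxW, he⟩ := exists_gen_nhd hM x
    obtain ⟨U, hU, hxU, hle⟩ := exists_isAffineOpen_mem_and_subset hxW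
    exact ⟨U, _, hU, hxU, he.res hle⟩
  choose U e hU hxU he using loc
  have hUtop : iSup U = ⊤ := top_unique fun x _ => Opens.mem_iSup.2 ⟨x, hxU x⟩
  have hh : ∀ x : X, ∃ h : Γ(X, U x), IsUnit h ∧ h • one (U x) = φ.hom.app (U x) (powLoc (e x) p) := fun x =>
    (PicRootLib.gen_iso φ (gen_powLoc (he x) p)).exists_unit (gen_one (U x))
  choose h hhu hh using hh
  have hη : ∀ x y : X, ∃ a : Γ(X, U x ⊓ U y), IsUnit a ∧
      a • M.presheaf.map (homOfLE (inf_le_right : U x ⊓ U y ≤ U y)).op (e y) =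
        M.presheaf.map (homOfLE (inf_le_left : U x ⊓ U y ≤ U x)).op (e x) := fun x y =>
    ((he x).res inf_le_left).exists_unit ((he y).res (inf_le_right : U x ⊓ U y ≤ U y))
  choose η hηu hη using hη
  have hpow : ∀ x y : X, X.presheaf.map (homOfLE (inf_le_left : U x ⊓ U y ≤ U x)).op (h x) =
      (η x y) ^ p * X.presheaf.map (homOfLE (inf_le_right : U x ⊓ U y ≤ U y)).op (h y) := by
    intro x y
    have e1 := congrArg ((Coh.structureModule X).presheaf.map (homOfLE (inf_le_left : U x ⊓ U y ≤ U x)).op) (hh x)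
    have e2 := congrArg ((Coh.structureModule X).presheaf.map (homOfLE (inf_le_right : U x ⊓ U y ≤ U y)).op) (hh y)
    rw [(Coh.structureModule X).map_smul, one_res, ← DCohLib.app_natural, powLoc_res] at e1 e2
    rw [← hη x y, powLoc_smul] at e1
    refine smul_one_inj (e1.trans ?_)
    rw [Scheme.Modules.Hom.app_smul, ← e2]
    exact (mul_smul _ _ _).symm
  -- trivialisation upstairs
  have hw : ∀ x : X, ∃ w : Γ(X', f ⁻¹ᵁ U x), IsUnit w ∧
      w • one (f ⁻¹ᵁ U x) = τ.hom.app (f ⁻¹ᵁ U x) (pullMap f M le_rfl (e x)) := fun x =>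
    (PicRootLib.gen_iso τ (AmpleEmb.gen_pullMap f hM (he x))).exists_unit (gen_one _)
  choose w hwu hw using hw
  let W : X → X'.Opens := fun x => f ⁻¹ᵁ U x
  have hWtop : iSup W = ⊤ := top_unique fun y _ => Opens.mem_iSup.2 ⟨f y, hxU (f y)⟩
  let fη : ∀ x y, Γ(X', W x ⊓ W y) := fun x y => f.app (U x ⊓ U y) (η x y)
  have hwrel : ∀ x y : X, X'.presheaf.map (homOfLE (inf_le_left : W x ⊓ W y ≤ W x)).op (w x) =
      fη x y * X'.presheaf.map (homOfLE (inf_le_right : W x ⊓ W y ≤ W y)).op (w y) := by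
    intro x y
    have e1 := congrArg ((Coh.structureModule X').presheaf.map (homOfLE (inf_le_left : W x ⊓ W y ≤ W x)).op) (hw x)
    have e2 := congrArg ((Coh.structureModule X').presheaf.map (homOfLE (inf_le_right : W x ⊓ W y ≤ W y)).op) (hw y)
    rw [(Coh.structureModule X').map_smul, one_res, ← DCohLib.app_natural] at e1 e2
    rw [pullMap_res f M _ (inf_le_left : U x ⊓ U y ≤ U x) inf_le_left (le_rfl : W x ⊓ W y ≤ f ⁻¹ᵁ (U x ⊓ U y)),
      ← hη x y, pullMap_smul] at e1
    rw [pullMap_res f M _ (inf_le_right : U x ⊓ U y ≤ U y) inf_le_right (le_rfl : W x ⊓ W y ≤ f ⁻¹ᵁ (U x ⊓ U y))] at e2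
    refine smul_one_inj (e1.trans ?_)
    rw [Scheme.Modules.Hom.app_smul, ← e2]
    rw [show fη x y = (f.appLE (U x ⊓ U y) (W x ⊓ W y) le_rfl).hom (η x y) from by
      show (f.app (U x ⊓ U y)).hom (η x y) = _
      rw [Scheme.Hom.app_eq_appLE]
      rfl]
    exact (mul_smul _ _ _).symm
  -- the global unit
  let t : ∀ x, Γ(X', W x) := fun x => w x ^ p * ↑((hhu x).map (f.app (U x)).hom).unit⁻¹
  have ht : ∀ x y : X, X'.presheaf.map (homOfLE (inf_le_left : W x ⊓ W y ≤ W x)).op (t x) =
      X'.presheaf.map (homOfLE (inf_le_right : W x ⊓ W y ≤ W y)).op (t y) := by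
    intro x y
    let rl := (X'.presheaf.map (homOfLE (inf_le_left : W x ⊓ W y ≤ W x)).op).hom
    let rr := (X'.presheaf.map (homOfLE (inf_le_right : W x ⊓ W y ≤ W y)).op).hom
    show rl (t x) = rr (t y)
    have hx' : t x * f.app (U x) (h x) = w x ^ p := (mul_assoc _ _ _).trans
      (by rw [IsUnit.val_inv_mul, mul_one])
    have hy' : t y * f.app (U y) (h y) = w y ^ p := (mul_assoc _ _ _).trans
      (by rw [IsUnit.val_inv_mul, mul_one])
    have hrel : rl (f.app (U x) (h x)) = fη x y ^ p * rr (f.app (U y) (h y)) := by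
      have h1 := congrArg (f.app (U x ⊓ U y)) (hpow x y)
      rw [map_mul, map_pow] at h1
      refine (hres f (inf_le_left : U x ⊓ U y ≤ U x) (h x)).symm.trans (h1.trans ?_)
      exact congrArg (fη x y ^ p * ·) (hres f (inf_le_right : U x ⊓ U y ≤ U y) (h y))
    have hu1 : IsUnit (fη x y ^ p * rr (f.app (U y) (h y))) :=
      (((hηu x y).map (f.app _).hom).pow p).mul (((hhu y).map (f.app _).hom).map rr)
    refine hu1.mul_left_injective ?_
    show rl (t x) * _ = rr (t y) * _
    rw [← hrel, ← map_mul, hx', map_pow, hwrel x y, mul_pow, hrel, mul_left_comm, ← map_mul, hy', map_pow]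
  obtain ⟨T, hTu, hT⟩ := exists_glue_unit W hWtop t (fun x => ((hwu x).pow p).mul (Units.isUnit _)) ht
  obtain ⟨z, hz⟩ := hroot T hTu
  have hzu : IsUnit z := (isUnit_pow_iff hp.ne_zero).mp (hz ▸ hTu)
  -- characteristic
  haveI : Nonempty (⊤ : X.Opens).toScheme := ⟨⟨Nonempty.some inferInstance, trivial⟩⟩
  have hb : ∀ x : X, ∃ b : Γ(X, U x), b ^ p = h x := by
    intro x
    haveI : Nonempty (U x).toScheme := ⟨⟨x, hxU x⟩⟩
    haveI : IsAffine (U x).toScheme := hU x
    haveI : IsIntegrallyClosed Γ(X, U x) := by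
      haveI := S10492.isIntegrallyClosed_global (U x).toScheme fun y => by
        have e := (U x).stalkIso y
        obtain ⟨h1, h2⟩ : IsDomain (X.presheaf.stalk y.1) ∧ IsIntegrallyClosed (X.presheaf.stalk y.1) := hnorm y.1
        haveI := h1
        haveI := h2
        exact ⟨MulEquiv.isDomain _ e.commRingCatIsoToRingEquiv.toMulEquiv,
          IsIntegrallyClosed.of_equiv e.commRingCatIsoToRingEquiv.symm⟩
      exact IsIntegrallyClosed.of_equiv (U x).topIso.commRingCatIsoToRingEquiv
    haveI : CharP Γ(X, U x) p := by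
      letI := hfield.toField
      exact charP_of_injective_ringHom (RingHom.injective (X.presheaf.map (homOfLE (le_top : U x ≤ ⊤)).op).hom) p
    letI := (f.app (U x)).hom.toAlgebra
    haveI : Algebra.Etale Γ(X, U x) Γ(X', f ⁻¹ᵁ U x) := by
      have h1 := HasRingHomProperty.appLE (P := @Etale) f inferInstance ⟨U x, hU x⟩ ⟨_, (hU x).preimage f⟩ le_rfl
      rw [← Scheme.Hom.app_eq_appLE] at h1
      exact h1
    haveI : Module.Finite Γ(X, U x) Γ(X', f ⁻¹ᵁ U x) := IsFinite.finite_app f (U x) (hU x)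
    haveI : Nontrivial Γ(X', f ⁻¹ᵁ U x) := by
      obtain ⟨y, hy⟩ := hsurj x
      have hy' : y ∈ f ⁻¹ᵁ U x := show f y ∈ U x by rw [hy]; exact hxU x
      exact (X'.presheaf.germ _ y hy').hom.domain_nontrivial
    obtain ⟨zx, hzx⟩ := hzu.map (X'.presheaf.map (homOfLE (le_top : W x ≤ ⊤)).op).hom
    refine PurInsepPicLib.exists_root_of_etale p (v := w x * (↑zx⁻¹ : Γ(X', W x))) ?_
    show (w x * (↑zx⁻¹ : Γ(X', W x))) ^ p = f.app (U x) (h x)
    refine (zx.isUnit.pow p).mul_left_injective ?_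
    show _ * (↑zx : Γ(X', W x)) ^ p = f.app (U x) (h x) * (↑zx : Γ(X', W x)) ^ p
    rw [mul_pow, mul_assoc, ← mul_pow, Units.inv_mul, one_pow, mul_one, hzx, ← map_pow, hz, hT x]
    show _ = _ * (w x ^ p * _)
    rw [mul_left_comm, IsUnit.mul_val_inv, mul_one]
  choose b hb using hb
  have hbu : ∀ x, IsUnit (b x) := fun x => (isUnit_pow_iff hp.ne_zero).mp (hb x ▸ hhu x)
  have hbrel : ∀ x y : X, X.presheaf.map (homOfLE (inf_le_left : U x ⊓ U y ≤ U x)).op (b x) =
      η x y * X.presheaf.map (homOfLE (inf_le_right : U x ⊓ U y ≤ U y)).op (b y) := by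
    intro x y
    rcases isEmpty_or_nonempty (U x ⊓ U y).toScheme with hE | hE
    · haveI : Subsingleton Γ(X, U x ⊓ U y) := by
        rw [show U x ⊓ U y = ⊥ from Opens.ext (Set.eq_empty_iff_forall_notMem.mpr fun q hq => hE.false ⟨q, hq⟩)]
        infer_instance
      exact Subsingleton.elim _ _
    haveI : CharP Γ(X, U x ⊓ U y) p := by
      letI := hfield.toField
      exact charP_of_injective_ringHom
        (RingHom.injective (X.presheaf.map (homOfLE (le_top : U x ⊓ U y ≤ ⊤)).op).hom) p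
    haveI : ExpChar Γ(X, U x ⊓ U y) p := ExpChar.prime hp
    refine frobenius_inj Γ(X, U x ⊓ U y) p ?_
    rw [frobenius_def, frobenius_def, mul_pow, ← map_pow, ← map_pow, hb x, hb y, hpow]
  -- the new bases
  refine nonempty_iso_of_bases hUtop (s := fun x => (↑(hbu x).unit⁻¹ : Γ(X, U x)) • e x)
    (t := fun x => one (U x)) (fun x => (he x).smul (Units.isUnit _)) (fun x => gen_one (U x)) (fun _ _ => 1)
    (fun x y => ?_) (fun x y => by rw [one_res, one_res, one_smul])
  let rl := (X.presheaf.map (homOfLE (inf_le_left : U x ⊓ U y ≤ U x)).op).hom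
  let rr := (X.presheaf.map (homOfLE (inf_le_right : U x ⊓ U y ≤ U y)).op).hom
  rw [one_smul, M.map_smul, M.map_smul, ← hη x y, ← mul_smul]
  congr 1
  show rl _ * η x y = rr _
  refine ((hbu y).map rr).mul_left_injective ?_
  show rl _ * η x y * rr (b y) = rr _ * rr (b y)
  rw [mul_assoc, ← hbrel x y, ← map_mul, ← map_mul, IsUnit.val_inv_mul, IsUnit.val_inv_mul, map_one, map_one]

end Groth.Agent.S14819
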