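import Groth.Statements.S14821
import Groth.Agent.S2422
import Groth.Agent.NormalSch.Basic

set_option autoImplicit false
universe u
open CategoryTheory CategoryTheory.Limits AlgebraicGeometry
open CohIII

namespace Groth.Agent.S14821

section
open CategoryTheory CategoryTheory.Limits AlgebraicGeometry TopologicalSpace Polynomial

theorem forward {X Y : Scheme.{u}} [IsIntegral X] [IsIntegral Y] (hX : Pi1.IsNormalScheme X) (f : X ⟶ Y)
    (h : f.base (genericPoint X) ⤳ genericPoint Y) (hiso : ∀ U : Y.Opens, IsIso (f.app U))
    (x : X.functionField) (hx : (CohIII.stalkToFunctionField f (genericPoint Y) h).IsIntegralElem x) :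
    x ∈ (CohIII.stalkToFunctionField f (genericPoint Y) h).range := by
  obtain ⟨_, ⟨V, hV : IsAffineOpen V, rfl⟩, hηV, -⟩ :=
    Y.isBasis_affineOpens.exists_subset_of_mem_open (Set.mem_univ (genericPoint Y)) isOpen_univ
  haveI : Nonempty V := ⟨⟨_, hηV⟩⟩
  haveI : Nonempty (f ⁻¹ᵁ V : X.Opens) := ⟨⟨genericPoint X, h.mem_open V.2 hηV⟩⟩
  haveI := functionField_isFractionRing_of_isAffineOpen Y V hV
  let θ := CohIII.stalkToFunctionField f (genericPoint Y) h
  letI : Algebra Y.functionField X.functionField := θ.toAlgebra
  letI : Algebra Γ(Y, V) X.functionField := (θ.comp (algebraMap Γ(Y, V) Y.functionField)).toAlgebra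
  haveI : IsScalarTower Γ(Y, V) Y.functionField X.functionField := IsScalarTower.of_algebraMap_eq' rfl
  obtain ⟨d, hd⟩ := IsIntegral.exists_multiple_integral_of_isLocalization (nonZeroDivisors Γ(Y, V)) x
    (show IsIntegral Y.functionField x from hx)
  letI : Algebra Γ(Y, V) Γ(X, f ⁻¹ᵁ V) := (f.app V).hom.toAlgebra
  haveI : IsScalarTower Γ(Y, V) Γ(X, f ⁻¹ᵁ V) X.functionField :=
    IsScalarTower.of_algebraMap_eq fun a => Groth.Agent.S2422.germ_comm f h V a
  obtain ⟨s, hs⟩ := Groth.Agent.NormalSch.exists_section_of_isIntegral hX (f ⁻¹ᵁ V) (d • x) hd.tower_top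
  haveI := hiso V
  obtain ⟨a, rfl⟩ := (ConcreteCategory.bijective_of_isIso (f.app V)).2 s
  rw [← Groth.Agent.S2422.germ_comm f h V a] at hs
  refine ⟨IsLocalization.mk' Y.functionField a d, ?_⟩
  have hd0 : algebraMap Γ(Y, V) X.functionField (d : Γ(Y, V)) ≠ 0 := by
    rw [IsScalarTower.algebraMap_apply Γ(Y, V) Y.functionField X.functionField]
    exact (_root_.map_ne_zero _).2 (IsLocalization.to_map_ne_zero_of_mem_nonZeroDivisors _ le_rfl d.2)
  apply mul_left_cancel₀ hd0
  rw [show algebraMap Γ(Y, V) X.functionField (d : Γ(Y, V)) = θ (algebraMap Γ(Y, V) Y.functionField d) from rfl,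
    ← map_mul, IsLocalization.mk'_spec']
  refine Eq.trans hs ?_
  rw [Submonoid.smul_def, Algebra.smul_def]
  rfl

theorem integral_of_algebraic {K L : Type u} [Field K] [Field L] (θ : K →+* L) (x : L)
    (hx : ∃ p : Polynomial K, p ≠ 0 ∧ Polynomial.eval₂ θ x p = 0) : θ.IsIntegralElem x := by
  letI := θ.toAlgebra
  obtain ⟨p, hp, hpx⟩ := hx
  exact (show IsAlgebraic K x from ⟨p, hp, hpx⟩).isIntegral

end

/-- Let k be a field and f : X → Y a surjective k-morphism between integral proper k-schemes which are
both normal (all local rings integrally closed domains). Then f is a fibration, i.e. O_Y → f_*O_X is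
an isomorphism (Γ(U, O_Y) → Γ(f⁻¹U, O_X) is bijective for every open U ⊆ Y), exactly when K(Y) is
algebraically closed inside K(X): every element of the function field of X which is integral over
the function field of Y, embedded through the stalk map of f at the generic points, lies in the
image of K(Y). (The published statement assumes only Y normal; without normality of X the forward
implication fails — for a quadratic field extension k ⊂ k', the projective line over k' with one
k'-rational point pinched to a k-rational point, mapped to Spec k, has ring of global functions k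
although k is not algebraically closed in its function field k'(t) — and the published proof
resolves the indeterminacy of a rational map on the generic fibre by a graph whose projection is a
fibration, which needs X normal; so this row assumes X normal as well. The reverse implication holds
without it.) -/
theorem result (k : Type u) [Field k]
    (X Y : Scheme.{u}) [X.Over (Spec (CommRingCat.of k))] [Y.Over (Spec (CommRingCat.of k))]
    [IsProper (X ↘ Spec (CommRingCat.of k))] [IsProper (Y ↘ Spec (CommRingCat.of k))] [IsIntegral X] [IsIntegral Y]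
    (hX : Pi1.IsNormalScheme X) (hY : Pi1.IsNormalScheme Y) (f : X ⟶ Y) [Surjective f] (hf : f ≫ (Y ↘ Spec (CommRingCat.of k)) = X ↘ Spec (CommRingCat.of k))
    (h : f.base (genericPoint ↥X) ⤳ genericPoint ↥Y) :
    (∀ U : Y.Opens, IsIso (f.app U)) ↔
      ∀ x : ↑X.functionField, (CohIII.stalkToFunctionField f (genericPoint ↥Y) h).IsIntegralElem x → x ∈ (CohIII.stalkToFunctionField f (genericPoint ↥Y) h).range := by
  haveI := LocallyOfFiniteType.isLocallyNoetherian (X ↘ Spec (CommRingCat.of k))
  haveI := LocallyOfFiniteType.isLocallyNoetherian (Y ↘ Spec (CommRingCat.of k))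
  haveI : IsProper f := by
    haveI : IsProper (f ≫ (Y ↘ Spec (CommRingCat.of k))) := hf ▸ inferInstance
    exact IsProper.of_comp f (Y ↘ Spec (CommRingCat.of k))
  refine ⟨fun hiso => forward hX f h hiso, fun halg => ?_⟩
  exact Groth.Agent.S2422.result hY f h fun x hx => halg x (integral_of_algebraic _ x hx)

end Groth.Agent.S14821
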