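import Groth.Statements.S14822
import Groth.Agent.S2422
import Groth.Agent.BirQFLib.Conn
import Groth.Agent.FlatDim.Trdeg
import Groth.Agent.DimFormulaLib.Closed
import Groth.Agent.DimFormulaLib.Misc

set_option autoImplicit false
universe u
open CategoryTheory CategoryTheory.Limits AlgebraicGeometry
open CohIII

namespace Groth.Agent.S14822

section
open CategoryTheory CategoryTheory.Limits AlgebraicGeometry TopologicalSpace

theorem bijective_stalkSpecializes {Y : Scheme.{u}} {a b : Y} (e : a = b) (h : a ⤳ b) :
    Function.Bijective (Y.presheaf.stalkSpecializes h).hom := by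
  subst e
  rw [TopCat.Presheaf.stalkSpecializes_refl]
  exact Function.bijective_id

theorem birational {k : Type u} [Field k] {X Y : Scheme.{u}} [IsIntegral X] [IsIntegral Y]
    (p : X ⟶ Spec (CommRingCat.of k)) (q : Y ⟶ Spec (CommRingCat.of k)) [IsProper p] [IsProper q]
    (hdim : topologicalKrullDim X = topologicalKrullDim Y) (f : X ⟶ Y) (hf : f ≫ q = p)
    (hgen : f (genericPoint X) = genericPoint Y) (hiso : ∀ U : Y.Opens, IsIso (f.app U)) :
    IsIso (f.stalkMap (genericPoint X)) := by
  subst hf
  haveI := LocallyOfFiniteType.isLocallyNoetherian q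
  haveI : IsProper f := IsProper.of_comp f q
  obtain ⟨-, tX, -, htX, -, -⟩ := DimFormulaLib.field_dims (f ≫ q) (genericPoint X)
  obtain ⟨-, tY, -, htY, -, -⟩ := DimFormulaLib.field_dims q (genericPoint Y)
  rw [DimFormulaLib.topologicalKrullDim_eq_trdeg (f ≫ q) tX htX, DimFormulaLib.topologicalKrullDim_eq_trdeg q tY htY] at hdim
  have ht : tX = tY := by exact_mod_cast hdim
  have h0 : DimFormulaLib.resTrdegAt f (genericPoint X) = 0 := by
    rw [FlatDim.resTrdegAt_comp, hgen, htY, ht] at htX
    obtain ⟨n, hn⟩ := Cardinal.lt_aleph0.1 ((htX ▸ (le_add_self : DimFormulaLib.resTrdegAt f (genericPoint X) ≤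
      (tY : Cardinal.{u}) + DimFormulaLib.resTrdegAt f (genericPoint X))).trans_lt (Cardinal.natCast_lt_aleph0 (n := tY)))
    rw [hn] at htX ⊢
    have : tY + n = tY := by exact_mod_cast htX
    rw [show n = 0 by omega, Nat.cast_zero]
  have hy : ringKrullDim (Y.presheaf.stalk (f (genericPoint X))) ≤ 1 := by
    rw [hgen]
    show ringKrullDim Y.functionField ≤ 1
    rw [ringKrullDim_eq_zero_of_field]
    exact zero_le_one
  have hq : f.QuasiFiniteAt (genericPoint X) := by
    rw [Scheme.Hom.quasiFiniteAt_iff_isOpen_singleton_asFiber]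
    have hfin := BirQFLib.finite_fibre f hgen h0 _ hy
    haveI : Finite ↥(f.fiber (f (genericPoint X))) := by
      haveI := hfin.to_subtype
      exact Finite.of_equiv _ (f.fiberHomeo (f (genericPoint X))).toEquiv.symm
    haveI : T1Space ↥(f.fiber (f (genericPoint X))) := by
      refine ⟨fun p => ?_⟩
      rw [← closure_eq_iff_isClosed]
      refine Set.Subset.antisymm (fun w hw => ?_) subset_closure
      have h1 := (specializes_iff_mem_closure.2 hw).map (f.fiberι (f (genericPoint X))).continuous
      have hfib : ∀ w, f (f.fiberι (f (genericPoint X)) w) = f (genericPoint X) := fun w => by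
        have : f.fiberι (f (genericPoint X)) w ∈ f ⁻¹' {f (genericPoint X)} :=
          (f.range_fiberι (f (genericPoint X))).le ⟨w, rfl⟩
        exact this
      have := BirQFLib.eq_of_specializes_fibre f hgen h0 (by rw [hfib]; exact hy)
        ((hfib p).trans (hfib w).symm) h1
      exact ((f.fiberι (f (genericPoint X))).isEmbedding.injective this).symm
    exact isOpen_discrete _
  obtain ⟨V, hV, hmem⟩ := BirQFLib.exists_isIso_qfLocus f fun U _ => by
    haveI := hiso U
    exact ConcreteCategory.bijective_of_isIso _
  exact (BirQFLib.birational_of_isIso_restrict f V ⟨_, (hmem _).2 hq⟩ hV).2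

end

/-- Let k be a field and f : X → Y a surjective k-morphism between integral proper k-schemes of the same
dimension, with Y normal (all local rings integrally closed domains). Then f is a fibration (Γ(U,
O_Y) → Γ(f⁻¹U, O_X) bijective for every open U ⊆ Y) if and only if f is birational: the embedding
K(Y) → K(X) of function fields given by the stalk map at the generic points is bijective. -/
theorem result (k : Type u) [Field k]
    (X Y : Scheme.{u}) [X.Over (Spec (CommRingCat.of k))] [Y.Over (Spec (CommRingCat.of k))]
    [IsProper (X ↘ Spec (CommRingCat.of k))] [IsProper (Y ↘ Spec (CommRingCat.of k))] [IsIntegral X] [IsIntegral Y]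
    (hY : Pi1.IsNormalScheme Y) (f : X ⟶ Y) [Surjective f] (hf : f ≫ (Y ↘ Spec (CommRingCat.of k)) = X ↘ Spec (CommRingCat.of k))
    (hdim : topologicalKrullDim ↥X = topologicalKrullDim ↥Y)
    (h : f.base (genericPoint ↥X) ⤳ genericPoint ↥Y) :
    (∀ U : Y.Opens, IsIso (f.app U)) ↔ Function.Bijective (CohIII.stalkToFunctionField f (genericPoint ↥Y) h) := by
  haveI := LocallyOfFiniteType.isLocallyNoetherian (X ↘ Spec (CommRingCat.of k))
  haveI := LocallyOfFiniteType.isLocallyNoetherian (Y ↘ Spec (CommRingCat.of k))
  haveI : IsProper f := by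
    haveI : IsProper (f ≫ (Y ↘ Spec (CommRingCat.of k))) := hf ▸ inferInstance
    exact IsProper.of_comp f (Y ↘ Spec (CommRingCat.of k))
  have hgen : f (genericPoint X) = genericPoint Y := (h.antisymm (genericPoint_specializes _)).eq
  refine ⟨fun hiso => ?_, fun hbij => Groth.Agent.S2422.result hY f h fun x _ => hbij.2 x⟩
  haveI := birational (X ↘ Spec (CommRingCat.of k)) (Y ↘ Spec (CommRingCat.of k)) hdim f hf hgen hiso
  exact (ConcreteCategory.bijective_of_isIso (f.stalkMap (genericPoint X))).comp
    (bijective_stalkSpecializes hgen h)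

end Groth.Agent.S14822
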