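import Groth.Statements.S14825
import Mathlib
import Groth.Agent.CurveLib.GlobalFun

set_option autoImplicit false
universe u
open CategoryTheory MonoidalCategory CartesianMonoidalCategory MonObj GrpObj AlgebraicGeometry
open AbVar

namespace Groth.Agent.S14825

theorem surjective_toGlobal {k : Type u} [Field k] (X : Scheme.{u}) [X.Over (Spec (CommRingCat.of k))]
    (h0 : Module.finrank k (Coh.HH X (Coh.structureModule X) 0) = 1) :
    Function.Surjective (Coh.toGlobal (X ↘ Spec (CommRingCat.of k))) := by
  let φ : k →+* Γ(X, ⊤) := Coh.toGlobal (X ↘ Spec (CommRingCat.of k))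
  letI := φ.toAlgebra
  let e : Coh.HH X (Coh.structureModule X) 0 ≃ₗ[k] Γ(X, ⊤) :=
    { (CurveLib.secOf (Coh.structureModule X)) with map_smul' := fun r c => CurveLib.secOf_smul (k := k) _ r c }
  rw [e.finrank_eq] at h0
  haveI : Nontrivial Γ(X, ⊤) := Module.nontrivial_of_finrank_eq_succ h0
  intro y
  obtain ⟨c, hc⟩ := (finrank_eq_one_iff_of_nonzero' (1 : Γ(X, ⊤)) one_ne_zero).mp h0 y
  exact ⟨c, by rw [← hc, Algebra.smul_def, _root_.mul_one]; rfl⟩

theorem eq_of_range_subset {S X A : Scheme.{u}} (x₀ : S ⟶ X) (hx : Function.Injective x₀.appTop)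
    (V : A.Opens) (hV : IsAffineOpen V) (a b : X ⟶ A) (ha : Set.range a ⊆ V) (hb : Set.range b ⊆ V)
    (h : x₀ ≫ a = x₀ ≫ b) : a = b := by
  haveI : IsAffine V.toScheme := hV
  have ha' : Set.range a ⊆ Set.range V.ι := by rwa [Scheme.Opens.range_ι]
  have hb' : Set.range b ⊆ Set.range V.ι := by rwa [Scheme.Opens.range_ι]
  have key : IsOpenImmersion.lift V.ι a ha' = IsOpenImmersion.lift V.ι b hb' := by
    apply ext_of_isAffine
    ext s
    apply hx
    have h1 : x₀ ≫ IsOpenImmersion.lift V.ι a ha' = x₀ ≫ IsOpenImmersion.lift V.ι b hb' := by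
      rw [← cancel_mono V.ι, Category.assoc, Category.assoc, IsOpenImmersion.lift_fac, IsOpenImmersion.lift_fac, h]
    have h2 := congrArg (fun m : S ⟶ V.toScheme => m.appTop s) h1
    simp only [Scheme.Hom.comp_appTop] at h2
    exact h2
  rw [← IsOpenImmersion.lift_fac V.ι a ha', key, IsOpenImmersion.lift_fac]

/-- In the pointed case, let k be a field and X a proper k-scheme with H^0(X, O_X) one-dimensional and a
k-rational point x₀; let alb : X → A be the Albanese morphism (A an abelian variety over k — proper,
geometrically integral group scheme — with alb(x₀) = 0, universal among pointed k-morphisms from X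
to abelian varieties, the latter being geometrically reduced, connected, proper group schemes). Then
X has Albanese dimension zero, i.e. the image of alb is a single point of A (X is connected, so this
says the image is zero-dimensional), if and only if A is the trivial abelian variety, i.e. A → Spec
k is an isomorphism. (The published statement does not assume a rational point (it works with the
Albanese torsor); this row assumes one.) -/
theorem result (k : Type u) [Field k] (X : Scheme.{u}) [X.Over (Spec (CommRingCat.of k))]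
    [IsProper (X ↘ Spec (CommRingCat.of k))] (h0 : Module.finrank k (Coh.HH X (Coh.structureModule X) 0) = 1)
    (x₀ : 𝟙_ (Over (Spec (CommRingCat.of k))) ⟶ Over.mk (X ↘ Spec (CommRingCat.of k)))
    (A : Over (Spec (CommRingCat.of k))) [GrpObj A] [IsProper A.hom] [GeometricallyIntegral A.hom]
    (alb : Over.mk (X ↘ Spec (CommRingCat.of k)) ⟶ A) (halb : x₀ ≫ alb = η[A])
    (huniv : ∀ (B : Over (Spec (CommRingCat.of k))) [GrpObj B] [IsProper B.hom] [GeometricallyReduced B.hom] [ConnectedSpace ↥B.left]
      (g : Over.mk (X ↘ Spec (CommRingCat.of k)) ⟶ B), x₀ ≫ g = η[B] → ∃! h : A ⟶ B, IsMonHom h ∧ alb ≫ h = g) :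
    (Set.range alb.left.base).Subsingleton ↔ IsIso A.hom := by
  constructor
  · intro hs
    have hη : alb = toUnit (Over.mk (X ↘ Spec (CommRingCat.of k))) ≫ η[A] := by
      let T : X ⟶ Spec (CommRingCat.of k) := (toUnit (Over.mk (X ↘ Spec (CommRingCat.of k)))).left
      have hx₀ : x₀.left ≫ (X ↘ Spec (CommRingCat.of k)) = 𝟙 _ := by
        have h5 := Over.w x₀
        exact h5
      have hinj : Function.Injective x₀.left.appTop := by
        intro p q hpq
        obtain ⟨c, rfl⟩ := surjective_toGlobal X h0 p
        obtain ⟨d, rfl⟩ := surjective_toGlobal X h0 q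
        have h6 : ∀ c : k, x₀.left.appTop (Coh.toGlobal (X ↘ Spec (CommRingCat.of k)) c) =
            (Scheme.ΓSpecIso (CommRingCat.of k)).inv c := by
          intro c
          have h7 : (X ↘ Spec (CommRingCat.of k)).appTop ≫ x₀.left.appTop = (𝟙 (Spec (CommRingCat.of k)) : _ ⟶ _).appTop := by
            rw [← Scheme.Hom.comp_appTop]; exact congrArg Scheme.Hom.appTop hx₀
          have h8 := congrArg (fun m => m ((Scheme.ΓSpecIso (CommRingCat.of k)).inv c)) h7
          simp at h8
          exact h8
        have h9 : c = d := by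
          have h10 := (h6 c).symm.trans (hpq.trans (h6 d))
          exact (ConcreteCategory.bijective_of_isIso (Scheme.ΓSpecIso (CommRingCat.of k)).inv).1 h10
        rw [h9]
      let pt : Spec (CommRingCat.of k) := IsLocalRing.closedPoint k
      haveI : Subsingleton (Spec (CommRingCat.of k)) := inferInstanceAs (Subsingleton (PrimeSpectrum k))
      obtain ⟨_, ⟨V, hV : IsAffineOpen V, rfl⟩, hmem, -⟩ :=
        A.left.isBasis_affineOpens.exists_subset_of_mem_open (Set.mem_univ (η[A].left pt)) isOpen_univ
      ext : 1
      refine eq_of_range_subset x₀.left hinj V hV alb.left (T ≫ η[A].left) ?_ ?_ ?_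
      · intro a ha
        have h11 : alb.left (x₀.left pt) = η[A].left pt := by
          rw [← Scheme.Hom.comp_apply]
          exact congrArg (fun m : 𝟙_ _ ⟶ A => m.left pt) halb
        rw [hs ha ⟨x₀.left pt, h11⟩]
        exact hmem
      · rintro _ ⟨a, rfl⟩
        rw [Scheme.Hom.comp_apply, Subsingleton.elim (T a) pt]
        exact hmem
      · have h12 : x₀ ≫ alb = x₀ ≫ toUnit _ ≫ η[A] := by
          rw [halb, ← Category.assoc, toUnit_unique (x₀ ≫ toUnit _) (𝟙 _), Category.id_comp]
        exact congrArg CommaMorphism.left h12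
    haveI : AlgebraicGeometry.IsIntegral A.left := GeometricallyIntegral.isIntegral_of_subsingleton A.hom
    obtain ⟨h, -, hu⟩ := huniv A alb halb
    have hone : (1 : A ⟶ A) = toUnit A ≫ η[A] := rfl
    have hid : 𝟙 A = (1 : A ⟶ A) := by
      rw [hu (𝟙 A) ⟨inferInstance, Category.comp_id _⟩, hu (1 : A ⟶ A) ⟨?_, ?_⟩]
      · constructor
        · rw [MonObj.comp_one]; exact (MonObj.one_eq_one (M := A)).symm
        · rw [MonObj.comp_one, MonObj.mul_eq_mul, MonObj.comp_mul, tensorHom_fst, tensorHom_snd, MonObj.comp_one,
            MonObj.comp_one, _root_.one_mul]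
      · rw [hone, ← Category.assoc, toUnit_unique (alb ≫ toUnit A) (toUnit _), ← hη]
    refine ⟨η[A].left, ?_, ?_⟩
    · have h13 := congrArg CommaMorphism.left (hid.trans hone)
      exact h13.symm
    · exact Over.w η[A]
  · intro hi
    haveI : Subsingleton (Spec (CommRingCat.of k)) := inferInstanceAs (Subsingleton (PrimeSpectrum k))
    exact fun a _ b _ => A.hom.homeomorph.injective (Subsingleton.elim _ _)

end Groth.Agent.S14825
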