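import Groth.Statements.S14827
import Mathlib

set_option autoImplicit false
universe u
open CategoryTheory MonoidalCategory CartesianMonoidalCategory MonObj GrpObj AlgebraicGeometry
open AbVar

namespace Groth.Agent.S14827

/-- Over a field k (the published statement is over a base scheme S), let X be a proper k-scheme with
H^0(X, O_X) one-dimensional and a k-rational point x₀, and alb : X → A the Albanese morphism for the
base point x₀ (A an abelian variety — proper, geometrically integral group scheme — with alb(x₀) =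
0, universal among pointed morphisms to geometrically reduced, connected, proper group schemes). For
a second k-rational point x₁ let alb' = alb · (constant map with value alb(x₁))⁻¹, i.e. alb followed
by the translation of A by −alb(x₁). Then alb' is the Albanese morphism of X pointed by x₁: alb'(x₁)
= 0, and every k-morphism g : X → B to an abelian variety B with g(x₁) = 0 equals alb' ≫ h for a
unique homomorphism h : A → B. -/
theorem result (k : Type u) [Field k] (X : Scheme.{u}) [X.Over (Spec (CommRingCat.of k))]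
    [IsProper (X ↘ Spec (CommRingCat.of k))] (h0 : Module.finrank k (Coh.HH X (Coh.structureModule X) 0) = 1)
    (x₀ : 𝟙_ (Over (Spec (CommRingCat.of k))) ⟶ Over.mk (X ↘ Spec (CommRingCat.of k)))
    (A : Over (Spec (CommRingCat.of k))) [GrpObj A] [IsProper A.hom] [GeometricallyIntegral A.hom]
    (alb : Over.mk (X ↘ Spec (CommRingCat.of k)) ⟶ A) (halb : x₀ ≫ alb = η[A])
    (huniv : ∀ (B : Over (Spec (CommRingCat.of k))) [GrpObj B] [IsProper B.hom] [GeometricallyReduced B.hom] [ConnectedSpace ↥B.left]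
      (g : Over.mk (X ↘ Spec (CommRingCat.of k)) ⟶ B), x₀ ≫ g = η[B] → ∃! h : A ⟶ B, IsMonHom h ∧ alb ≫ h = g)
    (x₁ : 𝟙_ (Over (Spec (CommRingCat.of k))) ⟶ Over.mk (X ↘ Spec (CommRingCat.of k))) :
    x₁ ≫ (alb * (toUnit (Over.mk (X ↘ Spec (CommRingCat.of k))) ≫ x₁ ≫ alb)⁻¹) = η[A] ∧
    ∀ (B : Over (Spec (CommRingCat.of k))) [GrpObj B] [IsProper B.hom] [GeometricallyReduced B.hom] [ConnectedSpace ↥B.left]
      (g : Over.mk (X ↘ Spec (CommRingCat.of k)) ⟶ B), x₁ ≫ g = η[B] →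
        ∃! h : A ⟶ B, IsMonHom h ∧ (alb * (toUnit (Over.mk (X ↘ Spec (CommRingCat.of k))) ≫ x₁ ≫ alb)⁻¹) ≫ h = g := by
  let X' := Over.mk (X ↘ Spec (CommRingCat.of k))
  have hT : ∀ {T : Over (Spec (CommRingCat.of k))} (z : 𝟙_ (Over (Spec (CommRingCat.of k))) ⟶ T), z ≫ toUnit T = 𝟙 _ :=
    fun z => toUnit_unique _ _
  have hη : ∀ (B : Over (Spec (CommRingCat.of k))) [GrpObj B], η[B] = (1 : 𝟙_ (Over (Spec (CommRingCat.of k))) ⟶ B) := fun B _ => by
    rw [Hom.one_def, toUnit_unique (toUnit _) (𝟙 _), Category.id_comp]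
  have hc : ∀ {B : Over (Spec (CommRingCat.of k))} (z : 𝟙_ (Over (Spec (CommRingCat.of k))) ⟶ X') (b : 𝟙_ (Over (Spec (CommRingCat.of k))) ⟶ B),
      z ≫ toUnit X' ≫ b = b := fun z b => by rw [← Category.assoc, hT, Category.id_comp]
  refine ⟨by rw [MonObj.comp_mul, GrpObj.comp_inv, hc x₁ (x₁ ≫ alb), mul_inv_cancel, hη], ?_⟩
  intro B _ _ _ _ g hg
  have hg0 : x₀ ≫ (g * (toUnit X' ≫ x₀ ≫ g)⁻¹) = η[B] := by
    rw [MonObj.comp_mul, GrpObj.comp_inv, hc x₀ (x₀ ≫ g), mul_inv_cancel, hη]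
  obtain ⟨h, ⟨hm, he⟩, hu⟩ := huniv B _ hg0
  haveI := hm
  have hh1 : x₁ ≫ alb ≫ h = (x₀ ≫ g)⁻¹ := by
    rw [he, MonObj.comp_mul, GrpObj.comp_inv, hc x₁ (x₀ ≫ g), hg, hη, _root_.one_mul]
  refine ⟨h, ⟨hm, ?_⟩, fun h' ⟨hm', he'⟩ => hu h' ⟨hm', ?_⟩⟩
  · rw [MonObj.mul_comp, GrpObj.inv_comp, Category.assoc, Category.assoc, hh1, he, GrpObj.comp_inv, _root_.inv_inv,
      inv_mul_cancel_right]
  · haveI := hm'
    rw [MonObj.mul_comp, GrpObj.inv_comp, Category.assoc, Category.assoc] at he'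
    have h2 : alb ≫ h' = g * (toUnit X' ≫ x₁ ≫ alb ≫ h') := by
      rw [← he', inv_mul_cancel_right]
    have h3 : x₀ ≫ g * (x₁ ≫ alb ≫ h') = 1 := by
      have h4 := congrArg (x₀ ≫ ·) h2
      simp only [MonObj.comp_mul, hc x₀ (x₁ ≫ alb ≫ h')] at h4
      rw [← h4, ← Category.assoc, halb, IsMonHom.one_hom, hη]
    rw [h2, eq_inv_of_mul_eq_one_right h3, GrpObj.comp_inv]

end Groth.Agent.S14827
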