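import Groth.Statements.S14828
import Groth.Agent.TwistShriek.DivisorDual
import Groth.Agent.S8914
import Groth.Agent.DCohLib.SuppOpen
-- import your own Groth.Agent.* helpers here

set_option autoImplicit false
set_option backward.isDefEq.respectTransparency false
set_option maxHeartbeats 800000
set_option synthInstance.maxHeartbeats 200000
universe u
open CategoryTheory CategoryTheory.Limits AlgebraicGeometry
open Canon
open Groth.Agent Groth.Agent.TwistShriek

namespace Groth.Agent.S14828

/-- Take any field k and a proper k-scheme X that is Cohen–Macaulay and equidimensional of dimension n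
(the local ring at every closed point is Cohen–Macaulay of dimension n, and dim X = n), let (ω_X,
tr_X) be a dualizing sheaf of X in the sense that Hom(F, ω_X) → H^n(X, F)^∨, φ ↦ tr_X ∘ H^n(φ), is
bijective for every quasi-coherent F, and let i : D → X be an effective Cartier divisor, i.e. a
closed subscheme whose ideal sheaf I is an invertible O_X-module, with O_X(D) an inverse of I. Then
(i) D is Cohen–Macaulay and every closed point of D has local ring of dimension n − 1, and (ii) for
every dualizing sheaf (ω_D, tr_D) of D in degree n − 1 there is an isomorphism ω_D ≅ (O_X(D) ⊗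
ω_X)|_D (existence of an isomorphism; the canonical identification through Ext¹(O_D, ω_X) is not
constructed here). -/
theorem result (k : Type u) [Field k]
    (X : Scheme.{u}) [X.Over (Spec (CommRingCat.of k))] [IsProper (X ↘ Spec (CommRingCat.of k))] (n : ℕ) (hn : topologicalKrullDim ↥X = n)
    (hCM : ∀ x : X, LocCoh.IsCohenMacaulayLocalRing (X.presheaf.stalk x))
    (heq : ∀ x : X, IsClosed ({x} : Set ↥X) → ringKrullDim (X.presheaf.stalk x) = n)
    (ωX : X.Modules) (trX : Coh.HH X ωX n →ₗ[k] k) (hωX : Canon.IsRDualOver k X n ωX trX)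
    (D : Scheme.{u}) (i : D ⟶ X) [IsClosedImmersion i] (hI : PicF.IsInvertible (ClSub.idealMod i.ker))
    (OD : X.Modules) (hOD : ClSub.IsInverseOf OD (ClSub.idealMod i.ker)) :
    letI : D.Over (Spec (CommRingCat.of k)) := ⟨i ≫ (X ↘ Spec (CommRingCat.of k))⟩
    (∀ d : D, LocCoh.IsCohenMacaulayLocalRing (D.presheaf.stalk d) ∧
        (IsClosed ({d} : Set ↥D) → ringKrullDim (D.presheaf.stalk d) = (n - 1 : ℕ))) ∧
      ∀ (ωD : D.Modules) (trD : Coh.HH D ωD (n - 1) →ₗ[k] k), Canon.IsRDualOver k D (n - 1) ωD trD →
        Nonempty (ωD ≅ (Scheme.Modules.pullback i).obj (CohB1.tensorMod OD ωX)) := by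
    letI : D.Over (Spec (CommRingCat.of k)) := ⟨i ≫ (X ↘ Spec (CommRingCat.of k))⟩
    haveI : IsLocallyNoetherian X := LocallyOfFiniteType.isLocallyNoetherian (X ↘ Spec (CommRingCat.of k))
    have hEC : BlowUp.IsEffCartierIdeal i.ker := (Groth.Agent.S8914.result i.ker).1 hI
    refine ⟨fun d => ⟨(cm_divisor X n hCM heq i hEC d).1, fun hd => ((cm_divisor X n hCM heq i hEC d).2 hd).2⟩,
      fun ωD trD hD => ?_⟩
    obtain rfl | ⟨m, rfl⟩ : n = 0 ∨ ∃ m, n = m + 1 := by
      cases n with
      | zero => exact Or.inl rfl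
      | succ m => exact Or.inr ⟨m, rfl⟩
    · haveI : IsEmpty D := by
        by_contra hne
        rw [not_isEmpty_iff] at hne
        haveI : CompactSpace X := QuasiCompact.compactSpace_of_compactSpace (X ↘ Spec (CommRingCat.of k))
        haveI : CompactSpace D := QuasiCompact.compactSpace_of_compactSpace i
        haveI : IsLocallyNoetherian D := LocallyOfFiniteType.isLocallyNoetherian i
        obtain ⟨d, -, hd⟩ := exists_closed_specialization hne.some
        exact absurd ((cm_divisor X 0 hCM heq i hEC d).2 hd).1 (lt_irrefl 0)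
      have hz : ∀ M : D.Modules, IsZero M := fun M => DCohLib.isZero_of_stalks fun y => isEmptyElim y
      exact ⟨(hz _).iso (hz _)⟩
    · obtain ⟨e⟩ := hOD
      let π := i.toImage
      letI : i.ker.subscheme.Over (Spec (CommRingCat.of k)) := ⟨i.ker.subschemeι ≫ (X ↘ Spec (CommRingCat.of k))⟩
      haveI : IsProper (i.ker.subscheme ↘ Spec (CommRingCat.of k)) :=
        inferInstanceAs (IsProper (i.ker.subschemeι ≫ (X ↘ Spec (CommRingCat.of k))))
      haveI : IsIso π := inferInstanceAs (IsIso i.toImage)
      have hπ : π ≫ (i.ker.subscheme ↘ Spec (CommRingCat.of k)) = D ↘ Spec (CommRingCat.of k) := by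
        show π ≫ i.ker.subschemeι ≫ (X ↘ Spec (CommRingCat.of k)) = i ≫ (X ↘ Spec (CommRingCat.of k))
        exact (Category.assoc _ _ _).symm.trans (congrArg (· ≫ (X ↘ Spec (CommRingCat.of k))) i.toImage_imageι)
      obtain ⟨tr₁, h₁⟩ := exists_isRDualOver_push_iso k π hπ _ hD
      obtain ⟨tr₂, h₂⟩ := exists_isRDualOver_divisor k X m hn hCM heq i.ker hEC e hωX
      obtain ⟨u⟩ := nonempty_iso_of_isRDualOver k h₁ h₂
      haveI := DCohLib.isIso_counit_closedImmersion π ωD
      let c : ωD ≅ (Scheme.Modules.pullback π).obj ((Coh.push π).obj ωD) :=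
        (asIso ((Scheme.Modules.pullbackPushforwardAdjunction π).counit.app ωD)).symm
      exact ⟨c ≪≫ (Scheme.Modules.pullback π).mapIso u ≪≫
        (Scheme.Modules.pullbackComp π i.ker.subschemeι).app _ ≪≫
        (Scheme.Modules.pullbackCongr i.toImage_imageι).app _⟩

end Groth.Agent.S14828
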