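import Groth.Statements.S14830
import Mathlib
import Groth.Agent.MonoFibre.RigidityProper
import Groth.Agent.CubeBaseLib.Base

set_option autoImplicit false
universe u
open CategoryTheory MonoidalCategory CartesianMonoidalCategory MonObj GrpObj AlgebraicGeometry
open AbVar

namespace Groth.Agent.S14830

open scoped MonObj in
theorem lift_mul_lift {C : Type*} [Category C] [CartesianMonoidalCategory C] [BraidedCategory C] {T A B : C} [MonObj A] [MonObj B]
    (a c : T ⟶ A) (b d : T ⟶ B) : lift a b * lift c d = lift (a * c) (b * d) := by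
  ext1 <;> simp [MonObj.mul_comp]

/-- Let k be a field and X, Y proper, geometrically integral k-schemes with k-rational points x₀ and y₀.
Let albX : X → A and albY : Y → B be Albanese morphisms: A, B abelian varieties over k (proper,
geometrically integral group schemes), albX(x₀) = 0, albY(y₀) = 0, each universal among pointed
k-morphisms into abelian varieties (geometrically reduced, connected, proper group schemes). Then
the product morphism albX × albY : X ×_k Y → A ×_k B is the Albanese morphism of X ×_k Y pointed at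
(x₀, y₀): for every abelian variety C and every k-morphism g : X ×_k Y → C with g(x₀, y₀) = 0 there
is a unique homomorphism h : A ×_k B → C with (albX × albY) ≫ h = g. -/
theorem result (k : Type u) [Field k] (X Y : Scheme.{u}) [X.Over (Spec (CommRingCat.of k))] [Y.Over (Spec (CommRingCat.of k))]
    [IsProper (X ↘ Spec (CommRingCat.of k))] [IsProper (Y ↘ Spec (CommRingCat.of k))]
    [GeometricallyIntegral (X ↘ Spec (CommRingCat.of k))] [GeometricallyIntegral (Y ↘ Spec (CommRingCat.of k))]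
    (x₀ : 𝟙_ (Over (Spec (CommRingCat.of k))) ⟶ Over.mk (X ↘ Spec (CommRingCat.of k))) (y₀ : 𝟙_ (Over (Spec (CommRingCat.of k))) ⟶ Over.mk (Y ↘ Spec (CommRingCat.of k)))
    (A : Over (Spec (CommRingCat.of k))) [GrpObj A] [IsProper A.hom] [GeometricallyIntegral A.hom]
    (albX : Over.mk (X ↘ Spec (CommRingCat.of k)) ⟶ A) (halbX : x₀ ≫ albX = η[A])
    (hunivA : ∀ (C : Over (Spec (CommRingCat.of k))) [GrpObj C] [IsProper C.hom] [GeometricallyReduced C.hom] [ConnectedSpace ↥C.left]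
      (g : Over.mk (X ↘ Spec (CommRingCat.of k)) ⟶ C), x₀ ≫ g = η[C] → ∃! h : A ⟶ C, IsMonHom h ∧ albX ≫ h = g)
    (B : Over (Spec (CommRingCat.of k))) [GrpObj B] [IsProper B.hom] [GeometricallyIntegral B.hom]
    (albY : Over.mk (Y ↘ Spec (CommRingCat.of k)) ⟶ B) (halbY : y₀ ≫ albY = η[B])
    (hunivB : ∀ (C : Over (Spec (CommRingCat.of k))) [GrpObj C] [IsProper C.hom] [GeometricallyReduced C.hom] [ConnectedSpace ↥C.left]
      (g : Over.mk (Y ↘ Spec (CommRingCat.of k)) ⟶ C), y₀ ≫ g = η[C] → ∃! h : B ⟶ C, IsMonHom h ∧ albY ≫ h = g)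
    (C : Over (Spec (CommRingCat.of k))) [GrpObj C] [IsProper C.hom] [GeometricallyReduced C.hom] [ConnectedSpace ↥C.left]
    (g : Over.mk (X ↘ Spec (CommRingCat.of k)) ⊗ Over.mk (Y ↘ Spec (CommRingCat.of k)) ⟶ C) (hg : lift x₀ y₀ ≫ g = η[C]) :
    ∃! h : A ⊗ B ⟶ C, IsMonHom h ∧ (albX ⊗ₘ albY) ≫ h = g := by
  let X' := Over.mk (X ↘ Spec (CommRingCat.of k))
  let Y' := Over.mk (Y ↘ Spec (CommRingCat.of k))
  haveI : IsProper X'.hom := inferInstanceAs (IsProper (X ↘ Spec (CommRingCat.of k)))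
  haveI : IsProper Y'.hom := inferInstanceAs (IsProper (Y ↘ Spec (CommRingCat.of k)))
  haveI : GeometricallyIntegral X'.hom := inferInstanceAs (GeometricallyIntegral (X ↘ Spec (CommRingCat.of k)))
  haveI : GeometricallyIntegral Y'.hom := inferInstanceAs (GeometricallyIntegral (Y ↘ Spec (CommRingCat.of k)))
  haveI : IsSeparated C.hom := inferInstance
  have hT : ∀ {T : Over (Spec (CommRingCat.of k))} (z : 𝟙_ (Over (Spec (CommRingCat.of k))) ⟶ T), z ≫ toUnit T = 𝟙 _ :=
    fun z => toUnit_unique _ _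
  let gX : X' ⟶ C := lift (𝟙 X') (toUnit X' ≫ y₀) ≫ g
  let gY : Y' ⟶ C := lift (toUnit Y' ≫ x₀) (𝟙 Y') ≫ g
  have hgX : x₀ ≫ gX = η[C] := by
    simp only [gX, ← Category.assoc, comp_lift, Category.comp_id]
    rw [hT x₀, Category.id_comp]
    exact (congrArg (fun a => lift a y₀ ≫ g) (Category.comp_id x₀)).trans hg
  have hgY : y₀ ≫ gY = η[C] := by
    simp only [gY, ← Category.assoc, comp_lift, Category.comp_id]
    rw [hT y₀, Category.id_comp]
    exact (congrArg (fun b => lift x₀ b ≫ g) (Category.comp_id y₀)).trans hg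
  let f : X' ⊗ Y' ⟶ C := g * (fst X' Y' ≫ gX)⁻¹
  have h1 : lift (𝟙 X') (toUnit X' ≫ y₀) ≫ f = toUnit X' ≫ η[C] := by
    rw [MonObj.comp_mul, GrpObj.comp_inv, lift_fst_assoc, Category.id_comp, mul_inv_cancel]
    rfl
  have h2 := MonoFibre.Rigidity.eq_const_of_ratPt f x₀ y₀ η[C] h1
  have hx0C : (toUnit Y' ≫ x₀) ≫ gX = 1 := by rw [Category.assoc, hgX]; rfl
  have h3 : lift (toUnit Y' ≫ x₀) (𝟙 Y') ≫ f = gY := by
    rw [MonObj.comp_mul, GrpObj.comp_inv, lift_fst_assoc, hx0C, inv_one, _root_.mul_one]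
  rw [h3] at h2
  have hdec : g = (snd X' Y' ≫ gY) * (fst X' Y' ≫ gX) := by
    have h4 : f * (fst X' Y' ≫ gX) = g := inv_mul_cancel_right _ _
    rw [← h4, h2]
  obtain ⟨hA', ⟨hAm, hAe⟩, hAu⟩ := hunivA C gX hgX
  obtain ⟨hB', ⟨hBm, hBe⟩, hBu⟩ := hunivB C gY hgY
  haveI := hAm
  haveI := hBm
  haveI : GeometricallyIntegral (A ⊗ B).hom := by
    show GeometricallyIntegral (Limits.pullback.fst A.hom B.hom ≫ A.hom)
    haveI : GeometricallyIntegral (Limits.pullback.fst A.hom B.hom) := inferInstance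
    exact CubeBaseLib.geometricallyIntegral_comp _ _
  haveI : IsProper (A ⊗ B).hom := by
    show IsProper (Limits.pullback.fst A.hom B.hom ≫ A.hom); infer_instance
  let h : A ⊗ B ⟶ C := (snd A B ≫ hB') * (fst A B ≫ hA')
  have hh : IsMonHom h := MonoFibre.Rigidity.isMonHom_of_proper h (by
    rw [MonObj.comp_mul, ← Category.assoc, ← Category.assoc, IsMonHom.one_hom (snd A B), IsMonHom.one_hom (fst A B),
      IsMonHom.one_hom hB', IsMonHom.one_hom hA']
    rw [show η[C] = (1 : 𝟙_ (Over (Spec (CommRingCat.of k))) ⟶ C) from by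
      rw [Hom.one_def, toUnit_unique (toUnit _) (𝟙 _), Category.id_comp], _root_.mul_one])
  have he : (albX ⊗ₘ albY) ≫ h = g := by
    rw [MonObj.comp_mul, tensorHom_snd_assoc, tensorHom_fst_assoc, hBe, hAe]
    exact hdec.symm
  refine ⟨h, ⟨hh, he⟩, fun h' ⟨hm', he'⟩ => ?_⟩
  haveI := hm'
  let iA : A ⟶ A ⊗ B := lift (𝟙 A) (1 : A ⟶ B)
  let iB : B ⟶ A ⊗ B := lift (1 : B ⟶ A) (𝟙 B)
  haveI : IsMonHom iA := MonoFibre.Rigidity.isMonHom_of_proper iA (by
    ext1
    · simp [iA]
    · simp [iA, MonObj.comp_one, Hom.one_def])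
  haveI : IsMonHom iB := MonoFibre.Rigidity.isMonHom_of_proper iB (by
    ext1
    · simp [iB, MonObj.comp_one, Hom.one_def]
    · simp [iB])
  have eA : iA ≫ h' = hA' := hAu _ ⟨inferInstance, by
    have : albX ≫ iA = lift (𝟙 X') (toUnit X' ≫ y₀) ≫ (albX ⊗ₘ albY) := by
      ext1
      · simp [iA]
      · simp only [iA, Category.assoc, lift_snd, tensorHom_snd, lift_snd_assoc, MonObj.comp_one, halbY]
        rfl
    rw [← Category.assoc, this, Category.assoc, he']⟩
  have eB : iB ≫ h' = hB' := hBu _ ⟨inferInstance, by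
    have : albY ≫ iB = lift (toUnit Y' ≫ x₀) (𝟙 Y') ≫ (albX ⊗ₘ albY) := by
      ext1
      · simp only [iB, Category.assoc, lift_fst, tensorHom_fst, lift_fst_assoc, MonObj.comp_one, halbX]
        rfl
      · simp [iB]
    rw [← Category.assoc, this, Category.assoc, he']⟩
  have hid : 𝟙 (A ⊗ B) = (snd A B ≫ iB) * (fst A B ≫ iA) := by
    simp only [iA, iB, comp_lift, Category.comp_id, MonObj.comp_one, lift_mul_lift, _root_.one_mul, _root_.mul_one,
      lift_fst_snd]
  calc h' = 𝟙 (A ⊗ B) ≫ h' := (Category.id_comp _).symm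
    _ = h := by rw [hid, MonObj.mul_comp, Category.assoc, Category.assoc, eA, eB]

end Groth.Agent.S14830
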