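import Groth.Statements.S14831
import Groth.Agent.RootCoverLib.Conn
-- import your own Groth.Agent.* helpers here

set_option autoImplicit false
set_option backward.isDefEq.respectTransparency false
set_option backward.isDefEq.respectTransparency.types false
set_option linter.style.haveILetI false
universe u
open CategoryTheory CategoryTheory.Limits AlgebraicGeometry
open PicF

namespace Groth.Agent.S14831

/-- Let X be an integral Noetherian scheme such that Γ(X, O_X) is a field, and L an invertible
O_X-module of exact order d ≥ 1 in Pic(X) (L^{⊗d} ≅ O_X and L^{⊗i} ≇ O_X for 0 < i < d). Then there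
are a connected scheme X' and a finite locally free morphism g : X' → X of constant degree d (a
finite flat covering of degree d) with g^*L ≅ O_{X'}; if moreover d is invertible in Γ(X, O_X), such
a g exists which is in addition étale. (The published proof constructs g as the spectrum of the
O_X-algebra O_X ⊕ L^{−1} ⊕ ⋯ ⊕ L^{−(d−1)}; this row states only existence.) -/
theorem result (X : Scheme.{u}) [IsIntegral X] [IsNoetherian X]
    (hfield : IsField (Γ(X, ⊤) : Type u)) (L : X.Modules) (hL : PicF.IsInvertible L) (d : ℕ) (hd : 0 < d)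
    (hord : Nonempty (CohB1.tensorPow L d ≅ Coh.structureModule X))
    (hmin : ∀ i : ℕ, 0 < i → i < d → IsEmpty (CohB1.tensorPow L i ≅ Coh.structureModule X)) :
    (∃ (X' : Scheme.{u}) (g : X' ⟶ X), ConnectedSpace ↥X' ∧ Mor2.IsFinLocFreeOfDeg d g ∧
        Nonempty ((Scheme.Modules.pullback g).obj L ≅ Coh.structureModule X')) ∧
      (IsUnit ((d : ℕ) : (Γ(X, ⊤) : Type u)) →
        ∃ (X' : Scheme.{u}) (g : X' ⟶ X), ConnectedSpace ↥X' ∧ Mor2.IsFinLocFreeOfDeg d g ∧ Etale g ∧
          Nonempty ((Scheme.Modules.pullback g).obj L ≅ Coh.structureModule X')) := by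
  haveI := Groth.Agent.InvExt.isQCoh_of_isInvertible hL
  obtain ⟨φ⟩ := hord
  have hflf := Groth.Agent.RootCoverLib.finLocFreeOfDeg φ hd hL
  have htriv := Groth.Agent.RootCoverLib.pullback_trivial φ hd hL
  have hconn : ConnectedSpace (Groth.Agent.RootCoverLib.data φ.hom).spec := by
    obtain ⟨⟨h1, h2, h3⟩, hr⟩ := id hflf
    haveI := h1
    haveI := h2
    haveI : LocallyOfFinitePresentation (Groth.Agent.RootCoverLib.data φ.hom).π := hflf.1.2.2
    have hs : Surjective (Groth.Agent.RootCoverLib.data φ.hom).π :=
      (Scheme.Hom.one_le_finrank_iff_surjective _).mp fun y => by rw [hr y]; exact hd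
    haveI : Nonempty (Groth.Agent.RootCoverLib.data φ.hom).spec :=
      ⟨(hs.surj (Nonempty.some inferInstance)).choose⟩
    exact Groth.Agent.RootCoverLib.connectedSpace_of_idem
      (Groth.Agent.RootCoverLib.eq_zero_or_one φ hd hfield hL hmin)
  exact ⟨⟨_, _, hconn, hflf, htriv⟩,
    fun hu => ⟨_, _, hconn, hflf, Groth.Agent.RootCoverLib.etale φ hd hL hu, htriv⟩⟩

end Groth.Agent.S14831
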