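import Groth.Statements.S14834
import Mathlib

set_option autoImplicit false
universe u
open CategoryTheory MonoidalCategory CartesianMonoidalCategory MonObj GrpObj AlgebraicGeometry
open AbVar

namespace Groth.Agent.S14834

theorem cancel_of_app_iso {S X Y B : Scheme.{u}} (r : X ⟶ Y) [QuasiCompact r] (hr : ∀ U : Y.Opens, IsIso (r.app U))
    (p : B ⟶ S) [IsSeparated p] (a b : Y ⟶ B) (hp : a ≫ p = b ≫ p) (h : r ≫ a = r ≫ b) : a = b := by
  let q : Y ⟶ Limits.pullback p p := Limits.pullback.lift a b hp
  let e := Limits.pullback.fst q (Limits.pullback.diagonal p)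
  have hl : r ≫ q = (r ≫ a) ≫ Limits.pullback.diagonal p := by
    apply Limits.pullback.hom_ext
    · simp only [q, Category.assoc, Limits.pullback.lift_fst, Limits.pullback.diagonal_fst, Category.comp_id]
    · simp only [q, Category.assoc, Limits.pullback.lift_snd, Limits.pullback.diagonal_snd, Category.comp_id, h]
  let l : X ⟶ Limits.pullback q (Limits.pullback.diagonal p) := Limits.pullback.lift r (r ≫ a) hl
  have hle : l ≫ e = r := Limits.pullback.lift_fst _ _ _
  have hker : r.ker = ⊥ := by
    ext U : 2
    rw [r.ker_apply]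
    haveI := hr U.1
    simp only [Scheme.IdealSheafData.ideal_bot, Pi.bot_apply]
    exact (RingHom.injective_iff_ker_eq_bot _).mp (ConcreteCategory.bijective_of_isIso (r.app U.1)).1
  haveI : IsIso e := by
    rw [IsClosedImmersion.isIso_iff_ker_eq_bot]
    apply le_bot_iff.mp
    calc e.ker ≤ (l ≫ e).ker := Scheme.Hom.le_ker_comp l e
      _ = ⊥ := by rw [hle, hker]
  have h2 : q = (inv e ≫ Limits.pullback.snd q (Limits.pullback.diagonal p)) ≫ Limits.pullback.diagonal p := by
    rw [Category.assoc, ← Limits.pullback.condition, IsIso.inv_hom_id_assoc]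
  have ha := congrArg (· ≫ Limits.pullback.fst p p) h2
  have hb := congrArg (· ≫ Limits.pullback.snd p p) h2
  simp only [q, Category.assoc, Limits.pullback.lift_fst, Limits.pullback.lift_snd, Limits.pullback.diagonal_fst,
    Limits.pullback.diagonal_snd, Category.comp_id] at ha hb
  exact ha.trans hb.symm

/-- Let k be a field, X a proper k-scheme with H^0(X, O_X) = k (k → Γ(X, O_X) bijective) and a
k-rational point x₀, and alb : X → A the Albanese morphism (A an abelian variety — proper,
geometrically integral group scheme — with alb(x₀) = 0, universal among pointed k-morphisms from X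
to geometrically reduced, connected, proper group schemes). Let X → Y → A be a Stein factorisation
of alb: Y proper over k, r : X → Y a k-morphism with O_Y → r_*O_X an isomorphism, s : Y → A finite
with r ≫ s = alb. Then s is the Albanese morphism of Y pointed at r(x₀): for every abelian variety B
and every k-morphism g : Y → B with g(r(x₀)) = 0 there is a unique homomorphism h : A → B with s ≫ h
= g. (The published statement has no rational point and also identifies the maximal abelian
subschemes of the Picard schemes of the Albanese, of Y and of X by pullback; this row is the pointed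
statement about the Albanese of Y only.) -/
theorem result (k : Type u) [Field k] (X Y : Over (Spec (CommRingCat.of k)))
    [IsProper X.hom] [IsProper Y.hom] (h0 : Function.Bijective (X.hom.appTop).hom)
    (x₀ : 𝟙_ (Over (Spec (CommRingCat.of k))) ⟶ X)
    (A : Over (Spec (CommRingCat.of k))) [GrpObj A] [IsProper A.hom] [GeometricallyIntegral A.hom]
    (alb : X ⟶ A) (halb : x₀ ≫ alb = η[A])
    (huniv : ∀ (B : Over (Spec (CommRingCat.of k))) [GrpObj B] [IsProper B.hom] [GeometricallyReduced B.hom] [ConnectedSpace ↥B.left]
      (g : X ⟶ B), x₀ ≫ g = η[B] → ∃! h : A ⟶ B, IsMonHom h ∧ alb ≫ h = g)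
    (r : X ⟶ Y) (hr : ∀ U : Y.left.Opens, IsIso (r.left.app U)) (s : Y ⟶ A) [IsFinite s.left]
    (hrs : r ≫ s = alb)
    (B : Over (Spec (CommRingCat.of k))) [GrpObj B] [IsProper B.hom] [GeometricallyReduced B.hom] [ConnectedSpace ↥B.left]
    (g : Y ⟶ B) (hg : x₀ ≫ r ≫ g = η[B]) :
    ∃! h : A ⟶ B, IsMonHom h ∧ s ≫ h = g := by
  obtain ⟨h, ⟨hm, he⟩, huq⟩ := huniv B (r ≫ g) hg
  haveI : IsSeparated B.hom := inferInstance
  haveI : QuasiCompact r.left := by
    haveI : QuasiCompact (r.left ≫ Y.hom) := by rw [Over.w r]; infer_instance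
    exact QuasiCompact.of_comp r.left Y.hom
  refine ⟨h, ⟨hm, ?_⟩, fun h' ⟨hm', he'⟩ => huq h' ⟨hm', by rw [← hrs, Category.assoc, he']⟩⟩
  ext : 1
  refine cancel_of_app_iso r.left hr B.hom _ _ (by rw [Over.w, Over.w]) ?_
  have h3 : r ≫ (s ≫ h) = r ≫ g := by rw [← Category.assoc, hrs, he]
  exact congrArg CommaMorphism.left h3

end Groth.Agent.S14834
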