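import Groth.Statements.S14835
import Groth.Agent.CurveFF.GenusLe
import Groth.Agent.CurveFin.Norm
import Groth.Agent.FinBirLib.Genus
import Groth.Agent.GeomIrred.Scheme
import Groth.Agent.S1585

set_option autoImplicit false
universe u
open CategoryTheory CategoryTheory.Limits AlgebraicGeometry
open Curves

namespace Groth.Agent.S14835

open CategoryTheory CategoryTheory.Limits AlgebraicGeometry

set_option backward.isDefEq.respectTransparency false
set_option backward.defeqAttrib.useBackward true
set_option linter.style.haveILetI false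

open Groth.Agent


/-- Let k be an algebraically closed field, C and B proper curves over k (proper k-schemes of dimension
one) with B connected and regular (all local rings regular), φ : C → B a k-morphism, and ι : C_i → C
a closed integral one-dimensional subscheme (an integral component) such that the composite C_i → B
is finite. Then dim_k H^1(C, O_C) ≥ dim_k H^1(C_i, O_{C_i}) ≥ dim_k H^1(B, O_B). -/
theorem result (k : Type u) [Field k] [IsAlgClosed k]
    (C B Ci : Scheme.{u}) [C.Over (Spec (CommRingCat.of k))] [B.Over (Spec (CommRingCat.of k))] [Ci.Over (Spec (CommRingCat.of k))]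
    [IsProper (C ↘ Spec (CommRingCat.of k))] [IsProper (B ↘ Spec (CommRingCat.of k))]
    (hC : topologicalKrullDim ↥C = 1) (hB : topologicalKrullDim ↥B = 1) [ConnectedSpace ↥B]
    (hBreg : ∀ b : B, IsRegularLocalRing (B.presheaf.stalk b))
    (φ : C ⟶ B) (hφ : φ ≫ (B ↘ Spec (CommRingCat.of k)) = C ↘ Spec (CommRingCat.of k))
    (ι : Ci ⟶ C) [IsClosedImmersion ι] [IsIntegral Ci] (hCi : topologicalKrullDim ↥Ci = 1)
    (hι : ι ≫ (C ↘ Spec (CommRingCat.of k)) = Ci ↘ Spec (CommRingCat.of k)) [IsFinite (ι ≫ φ)] :
    Module.finrank k (Coh.HH Ci (Coh.structureModule Ci) 1) ≤ Module.finrank k (Coh.HH C (Coh.structureModule C) 1) ∧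
      Module.finrank k (Coh.HH B (Coh.structureModule B) 1) ≤ Module.finrank k (Coh.HH Ci (Coh.structureModule Ci) 1) := by
  refine ⟨FinBirLib.genus_le k hC.le ι hι ⊤ dense_univ inferInstance, ?_⟩
  show Curv2.genus k B ≤ Curv2.genus k Ci
  haveI : IsProper (Ci ↘ Spec (CommRingCat.of k)) := hι ▸ inferInstance
  haveI := EulerIneqLib.isNoetherian_proper (X := Ci) k
  let g := Ci.fromSpecStalk (genericPoint Ci)
  haveI : QuasiCompact (g ≫ (Ci ↘ Spec (CommRingCat.of k))) :=
    (HasAffineProperty.iff_of_isAffine (P := @QuasiCompact)).2 inferInstance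
  haveI : QuasiCompact g := QuasiCompact.of_comp g (Ci ↘ Spec (CommRingCat.of k))
  haveI : QuasiSeparated g := inferInstance
  obtain ⟨hfin, -, ⟨V, hV, hi⟩, hint, -⟩ := S1585.result k Ci
  haveI := hfin
  haveI := hint
  letI : (Curv2.normalization Ci).Over (Spec (CommRingCat.of k)) :=
    ⟨Curv2.normalizationι Ci ≫ (Ci ↘ Spec (CommRingCat.of k))⟩
  haveI : IsProper (Curv2.normalization Ci ↘ Spec (CommRingCat.of k)) :=
    inferInstanceAs (IsProper (Curv2.normalizationι Ci ≫ (Ci ↘ Spec (CommRingCat.of k))))
  have hgen : ¬ IsClosed ({genericPoint Ci} : Set Ci) := fun hc => by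
    have hu : ({genericPoint Ci} : Set Ci) = Set.univ := by
      rw [← hc.closure_eq, genericPoint_spec Ci]
    haveI : Subsingleton Ci := ⟨fun a b => (hu.symm ▸ Set.mem_univ a : a ∈ ({genericPoint Ci} : Set Ci)).trans
      (hu.symm ▸ Set.mem_univ b : b ∈ ({genericPoint Ci} : Set Ci)).symm⟩
    haveI : DiscreteTopology Ci := Subsingleton.discreteTopology
    have h0 := topologicalKrullDim_zero_of_discreteTopology Ci
    rw [hCi] at h0
    exact absurd h0 (by norm_num)
  have hg : g = Spec.map (CommRingCat.ofHom (RingHom.id Ci.functionField)) ≫ g := by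
    rw [show CommRingCat.ofHom (RingHom.id Ci.functionField) = 𝟙 _ from rfl, Spec.map_id, Category.id_comp]
  obtain ⟨-, hsm, hdN⟩ := CurveFin.normal_smooth (Z := Ci) (RingHom.id Ci.functionField) g hg k
    (Ci ↘ Spec (CommRingCat.of k)) (RingHom.Finite.id _) hCi.le hgen
  haveI : Smooth (Curv2.normalization Ci ↘ Spec (CommRingCat.of k)) := hsm
  haveI : Smooth (B ↘ Spec (CommRingCat.of k)) := FinBirLib.smooth_of_regular_algClosed _ fun b _ => hBreg b
  haveI : GeometricallyConnected (B ↘ Spec (CommRingCat.of k)) := GeomIrred.geometricallyConnected_of_connectedSpace _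
  haveI : GeometricallyConnected (Curv2.normalization Ci ↘ Spec (CommRingCat.of k)) :=
    GeomIrred.geometricallyConnected_of_connectedSpace _
  haveI : IsFinite (Curv2.normalizationι Ci ≫ ι ≫ φ) := inferInstance
  refine (CurveFF.genus_le_of_finite (X := Curv2.normalization Ci) hdN hB (Curv2.normalizationι Ci ≫ ι ≫ φ) ?_).trans ?_
  · rw [Category.assoc, Category.assoc, hφ, hι]; rfl
  · exact FinBirLib.genus_le k hCi.le (Curv2.normalizationι Ci) rfl V (V.2.dense hV) inferInstance

end Groth.Agent.S14835
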