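import Groth.Statements.S14837
import Groth.Agent.GenBCLib.PushEdge
import Groth.Agent.ProperFin.Main
import Groth.Agent.DevLib.Closed
import Groth.Prelude.Def_ClSub2

set_option autoImplicit false
universe u
open CategoryTheory CategoryTheory.Limits AlgebraicGeometry
open Coh

namespace Groth.Agent.S14837
set_option backward.isDefEq.respectTransparency false
set_option backward.isDefEq.respectTransparency.types false
set_option maxHeartbeats 1000000
open Groth.Agent.CohBase TopologicalSpace CategoryTheory.Limits AlgebraicGeometry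

/-- The first edge map is injective. -/
theorem injective_edgeH_one {X Y : TopCat.{u}} (g : X ⟶ Y) (G : CohTop.Ab X) :
    Function.Injective (GenBCLib.edgeH g G 1) := by
  haveI : PreservesFiniteLimits (CohTop.push g) :=
    haveI : PreservesLimitsOfSize.{0, 0} (CohTop.push g) :=
      (TopCat.Sheaf.pullbackPushforwardAdjunction AddCommGrpCat.{u} g).rightAdjoint_preservesLimits
    inferInstance
  let S := injSeq G
  have hS : S.ShortExact := injSeq_shortExact G
  haveI := hS.mono_f
  let F := CohTop.push g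
  have hex : (S.map F).Exact := ShortComplex.exact_of_f_is_kernel _ (isLimitForkMapOfIsLimit' F S.zero hS.fIsKernel)
  haveI : Mono (S.map F).f := inferInstanceAs (Mono (F.map S.f))
  let S' : ShortComplex (CohTop.Ab Y) := ShortComplex.mk (F.map S.f) (cokernel.π (F.map S.f)) (cokernel.condition _)
  have hS' : S'.ShortExact := ShortComplex.ShortExact.mk' (ShortComplex.exact_cokernel _) inferInstance inferInstance
  let m : S'.X₃ ⟶ F.obj S.X₃ := cokernel.desc (F.map S.f) (F.map S.g) (S.map F).zero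
  haveI : Mono m := hex.mono_cokernelDesc
  have key : ∀ w : Sheaf.H S'.X₃ 0,
      GenBCLib.edgeH g S.X₁ 1 (w.comp hS'.extClass rfl) = (GenBCLib.pullH g m 0 w).comp hS.extClass rfl :=
    fun w => GenBCLib.pullH_delta g hS' hS (𝟙 _) (𝟙 _) m ((Category.id_comp _).trans (Category.comp_id _).symm)
      ((Category.id_comp _).trans (cokernel.π_desc _ _ _).symm) 0 w
  refine (injective_iff_map_eq_zero _).2 fun x hx => ?_
  haveI : Subsingleton (Sheaf.H (F.obj S.X₂) 1) :=
    haveI := push_injective_acyclic g S.X₂ ⊤ 0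
    (HEquiv (X := Y) ((pushS g).obj S.X₂) 1).injective.subsingleton
  obtain ⟨w, rfl⟩ : ∃ w : Sheaf.H S'.X₃ 0, w.comp hS'.extClass rfl = x :=
    Abelian.Ext.covariant_sequence_exact₁ _ hS' x (@Subsingleton.elim (Sheaf.H (F.obj S.X₂) 1) _ _ _) rfl
  obtain ⟨z, hz⟩ := Abelian.Ext.covariant_sequence_exact₃ _ hS (GenBCLib.pullH g m 0 w) rfl ((key w).symm.trans hx)
  obtain ⟨z', rfl⟩ := (GenBCLib.bijective_edgeH_zero g S.X₂).2 z
  have e : ∀ v : Sheaf.H S'.X₃ 0, GenBCLib.pullH g m 0 v = GenBCLib.edgeH g S.X₃ 0 (Sheaf.H.map m 0 v) := fun v => by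
    rw [GenBCLib.edgeH, GenBCLib.map_pullH, Category.comp_id]
  have hw : Sheaf.H.map (F.map S.g) 0 z' = Sheaf.H.map m 0 w := (GenBCLib.bijective_edgeH_zero g S.X₃).1 (by
    rw [GenBCLib.edgeH_map, ← e]
    exact hz)
  have hinj : Function.Injective (Sheaf.H.map m 0) := fun v v' h => by
    have h1 := congrArg Abelian.Ext.addEquiv₀ h
    rw [Sheaf.H.addEquiv₀_map, Sheaf.H.addEquiv₀_map, cancel_mono] at h1
    exact Abelian.Ext.addEquiv₀.injective h1
  have hw' : Sheaf.H.map S'.g 0 z' = w := hinj (by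
    rw [← hw, ← Sheaf.H.map_comp_apply]
    exact congrArg (fun k => Sheaf.H.map k 0 z') (cokernel.π_desc _ _ _))
  rw [← hw']
  exact Abelian.Ext.comp_assoc_of_second_deg_zero _ _ _ _ |>.trans
    ((congrArg (fun t => Abelian.Ext.comp z' t (by omega)) hS'.comp_extClass).trans (Abelian.Ext.comp_zero ..))

theorem smulAb_comp_push' {X Y : Scheme.{u}} (g : X ⟶ Y) (M : X.Modules) {G : Y.Modules}
    (φ : G ⟶ (Scheme.Modules.pushforward g).obj M) (c : Coh.Γtop Y) :
    Coh.smulAb G c ≫ (SheafOfModules.toSheaf Y.ringCatSheaf).map φ =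
      (SheafOfModules.toSheaf Y.ringCatSheaf).map φ ≫ (pushS g.base).map (Coh.smulAb M (Groth.Agent.ProperFin.gTop g c)) := by
  refine Eq.trans ?_ (congrArg ((SheafOfModules.toSheaf Y.ringCatSheaf).map φ ≫ ·) (Groth.Agent.ProperFin.smulAb_push g M c))
  ext U m
  exact Scheme.Modules.Hom.app_smul φ (U := U.unop) (Coh.resTop Y U c) m


/-- Let k be a field and f : X → Y a k-morphism between proper k-schemes which is a fibration (Γ(V, O_Y)
→ Γ(f⁻¹V, O_X) bijective for every open V ⊆ Y). Then H^1(Y, O_Y) injects naturally into H^1(X, O_X)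
(edge map of the Leray spectral sequence); stated here as the inequality dim_k H^1(Y, O_Y) ≤ dim_k
H^1(X, O_X) of finite dimensions. -/
theorem result (k : Type u) [Field k] (X Y : Scheme.{u})
    [X.Over (Spec (CommRingCat.of k))] [Y.Over (Spec (CommRingCat.of k))] [IsProper (X ↘ Spec (CommRingCat.of k))] [IsProper (Y ↘ Spec (CommRingCat.of k))]
    (f : X ⟶ Y) (hf : f ≫ (Y ↘ Spec (CommRingCat.of k)) = X ↘ Spec (CommRingCat.of k)) (hfib : ∀ V : Y.Opens, IsIso (f.app V)) :
    Module.finrank k (Coh.HH Y (Coh.structureModule Y) 1) ≤ Module.finrank k (Coh.HH X (Coh.structureModule X) 1) := by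
  let φ := ClSub.unitToPush f
  haveI : IsIso φ := Scheme.Modules.Hom.isIso_iff_isIso_app.2 fun O =>
    (ConcreteCategory.isIso_iff_bijective _).2 (by haveI := hfib O; exact ConcreteCategory.bijective_of_isIso (f.app O))
  let φa : Coh.toAb (Coh.structureModule Y) ⟶ (CohTop.push f.base).obj (Coh.toAb (Coh.structureModule X)) :=
    (SheafOfModules.toSheaf Y.ringCatSheaf).map φ
  have hiso : IsIso φa := Functor.map_isIso (SheafOfModules.toSheaf Y.ringCatSheaf) φ
  haveI := hiso
  let T : Coh.HH Y (Coh.structureModule Y) 1 →+ Coh.HH X (Coh.structureModule X) 1 :=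
    (Groth.Agent.GenBCLib.edgeH f.base (Coh.toAb (Coh.structureModule X)) 1).comp (Sheaf.H.map φa 1)
  have hc : ∀ a : k, Coh.toGlobal (X ↘ Spec (CommRingCat.of k)) a =
      Groth.Agent.ProperFin.gTop f (Coh.toGlobal (Y ↘ Spec (CommRingCat.of k)) a) := fun a => by
    rw [← hf]
    rfl
  have hT : ∀ (c : Coh.Γtop Y) x, T (c • x) = (Groth.Agent.ProperFin.gTop f c) • T x := fun c x => by
    change Groth.Agent.GenBCLib.edgeH f.base _ 1 (Sheaf.H.map φa 1 (Sheaf.H.map (Coh.smulAb _ c) 1 x)) =
      Sheaf.H.map (Coh.smulAb _ (Groth.Agent.ProperFin.gTop f c)) 1 (Groth.Agent.GenBCLib.edgeH f.base _ 1 (Sheaf.H.map φa 1 x))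
    have hcomm : Coh.smulAb (Coh.structureModule Y) c ≫ φa =
        φa ≫ (CohTop.push f.base).map (Coh.smulAb (Coh.structureModule X) (Groth.Agent.ProperFin.gTop f c)) :=
      smulAb_comp_push' f (Coh.structureModule X) φ c
    rw [← Sheaf.H.map_comp_apply, hcomm, Sheaf.H.map_comp_apply]
    exact Groth.Agent.GenBCLib.edgeH_map f.base _ 1 _
  let L : Coh.HH Y (Coh.structureModule Y) 1 →ₗ[k] Coh.HH X (Coh.structureModule X) 1 :=
    { T with
      map_smul' := fun a x => by
        show T (Coh.toGlobal (Y ↘ Spec (CommRingCat.of k)) a • x) = Coh.toGlobal (X ↘ Spec (CommRingCat.of k)) a • T x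
        rw [hT, hc] }
  haveI : Module.Finite k (Coh.HH X (Coh.structureModule X) 1) :=
    haveI : IsLocallyNoetherian X := LocallyOfFiniteType.isLocallyNoetherian (X ↘ Spec (CommRingCat.of k))
    haveI : CompactSpace X := QuasiCompact.compactSpace_of_compactSpace (X ↘ Spec (CommRingCat.of k))
    haveI : IsNoetherian X := ⟨⟩
    Groth.Agent.ProperFin.allFin_of_isCoh (A := k) (X ↘ Spec (CommRingCat.of k)) (Coh.structureModule X) (Groth.Agent.DevLib.isCoh_structureModule X) 1
  have hinj : Function.Injective (Sheaf.H.map φa 1) :=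
    (((Sheaf.functorH _ 1).mapIso (asIso φa)).addCommGroupIsoToAddEquiv).injective
  exact LinearMap.finrank_le_finrank_of_injective (f := L)
    ((injective_edgeH_one f.base _).comp hinj)

end Groth.Agent.S14837
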