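import Groth.Statements.S14839
import Groth.Agent.Comodule.Extra

set_option autoImplicit false
universe u v
open HopfRep

namespace Groth.Agent.S14839

open Groth.Agent.Comodule

open TensorProduct in
/-- Over a field K, every simple coalgebra is finite-dimensional. Here a subcoalgebra of C is a subspace
B whose comultiplication lands in the image of B ⊗ B in C ⊗ C, and C is simple when it is nonzero
and its only subcoalgebras are 0 and C. -/
theorem result {K : Type u} {C : Type v} [Field K] [AddCommGroup C]
    [Module K C] [Coalgebra K C] [Nontrivial C]
    (hsimple : ∀ B : Submodule K C,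
      (∀ b ∈ B, CoalgebraStruct.comul (R := K) b ∈ LinearMap.range (TensorProduct.map B.subtype B.subtype)) →
        B = ⊥ ∨ B = ⊤) :
    Module.Finite K C := by
  have h : IsSimpleSubcoalg (⊤ : Submodule K C) := ⟨top_ne_bot,
    isSubcoalg_restrictScalars_iff (N := (⊤ : Submodule (WithConv (C →ₗ[K] K)) C)).mpr (fun f => le_top),
    fun B _ hB => hsimple B hB⟩
  haveI := h.finite
  exact Module.Finite.equiv Submodule.topEquiv

end Groth.Agent.S14839
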