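import Groth.Statements.S1484
import Mathlib


set_option autoImplicit false
universe u
open FlatMor

namespace Groth.Agent.S1484

/-- Let R be a ring, p_1, …, p_r primes of R none of which is contained in another, k_i ⊆ κ(p_i)
subfields over which κ(p_i) is not algebraic, and J an ideal of R contained in none of the p_i. Then
some x ∈ J has image in κ(p_i) transcendental over k_i for every i. -/
theorem result {R : Type u} [CommRing R] {r : ℕ} (p : Fin r → Ideal R) [∀ i, (p i).IsPrime]
    (hp : ∀ i j, i ≠ j → ¬ p i ≤ p j) (k : ∀ i, Subfield (p i).ResidueField)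
    (hk : ∀ i, ¬ Algebra.IsAlgebraic ↥(k i) (p i).ResidueField) (J : Ideal R) (hJ : ∀ i, ¬ J ≤ p i) :
    ∃ x ∈ J, ∀ i, Transcendental ↥(k i) (algebraMap R (p i).ResidueField x) := by
  classical
  have hx : ∀ i, ∃ x ∈ J, (∀ j, j ≠ i → x ∈ p j) ∧ Transcendental ↥(k i) (algebraMap R (p i).ResidueField x) := by
    intro i
    let I : Ideal R := J ⊓ (Finset.univ.erase i).inf p
    have hI : ¬ I ≤ p i := by
      intro h
      rcases (Ideal.IsPrime.inf_le' (s := Finset.univ.erase i) (f := p) inferInstance).mp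
        ((Ideal.IsPrime.inf_le (inferInstanceAs (p i).IsPrime)).mp h |>.resolve_left (hJ i)) with ⟨j, hj, hle⟩
      exact hp j i (Finset.ne_of_mem_erase hj) hle
    obtain ⟨a, haI, hai⟩ := SetLike.not_le_iff_exists.mp hI
    by_contra hne
    push Not at hne
    have halg : ∀ y ∈ I, IsAlgebraic ↥(k i) (algebraMap R (p i).ResidueField y) := by
      intro y hy
      exact not_not.mp (hne y hy.1 fun j hj =>
        (Finset.inf_le (Finset.mem_erase.mpr ⟨hj, Finset.mem_univ j⟩) : _ ≤ p j) hy.2)
    have ha0 : algebraMap R (p i).ResidueField a ≠ 0 :=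
      fun h => hai (Ideal.algebraMap_residueField_eq_zero.mp h)
    refine hk i ⟨fun t => ?_⟩
    obtain ⟨u, v, hv, rfl⟩ := IsFractionRing.div_surjective (R ⧸ p i) t
    obtain ⟨u, rfl⟩ := Ideal.Quotient.mk_surjective u
    obtain ⟨v, rfl⟩ := Ideal.Quotient.mk_surjective v
    have h1 := halg (u * a) (I.mul_mem_left u haI)
    have h2 := halg (v * a) (I.mul_mem_left v haI)
    have : IsAlgebraic _ _ := IsAlgebraic.mul h1 (IsAlgebraic.inv h2)
    rw [map_mul, map_mul, ← div_eq_mul_inv, mul_div_mul_right _ _ ha0] at this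
    exact this
  choose x hxJ hxp hxt using hx
  refine ⟨∑ i, x i, sum_mem fun i _ => hxJ i, fun i => ?_⟩
  rw [map_sum, Finset.sum_eq_single i (fun j _ hj => Ideal.algebraMap_residueField_eq_zero.mpr (hxp j i hj.symm))
    (fun h => absurd (Finset.mem_univ i) h)]
  exact hxt i

end Groth.Agent.S1484
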