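import Groth.Statements.S14842
import Groth.Agent.Comodule.Extra

set_option autoImplicit false
universe u v
open HopfRep

namespace Groth.Agent.S14842

open Groth.Agent.Comodule

open TensorProduct in
/-- Over a field K, every simple subcoalgebra D of a coalgebra C is the coefficient space of a simple
comodule. Precisely: there is a subspace E of C contained in D which is a simple subcomodule of the
regular right comodule C (E is nonzero, stable under the coaction, and its only subcomodules are 0
and E) and such that D is the least subspace D' of C with comul(E) inside the image of E ⊗ D'. Here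
a subcoalgebra of C is a subspace B whose comultiplication lands in the image of B ⊗ B, and a simple
subcoalgebra is a nonzero subcoalgebra D whose only subcoalgebras contained in D are 0 and D.
(Stated for right comodules; the published statement is for left comodules.) -/
theorem result {K : Type u} {C : Type v} [Field K]
    [AddCommGroup C] [Module K C] [Coalgebra K C]
    (D : Submodule K C) (hD0 : D ≠ ⊥) (hD : (∀ b ∈ D, CoalgebraStruct.comul (R := K) b ∈ LinearMap.range (TensorProduct.map D.subtype D.subtype)))
    (hDs : ∀ B : Submodule K C, B ≤ D → (∀ b ∈ B, CoalgebraStruct.comul (R := K) b ∈ LinearMap.range (TensorProduct.map B.subtype B.subtype)) → B = ⊥ ∨ B = D) :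
    ∃ E : Submodule K C, E ≤ D ∧ E ≠ ⊥ ∧ HopfRep.IsSubcomod (k := K) (A := C) E ∧
      (∀ E' : Submodule K C, E' ≤ E → HopfRep.IsSubcomod (k := K) (A := C) E' → E' = ⊥ ∨ E' = E) ∧
      IsLeast {D' : Submodule K C |
        ∀ e ∈ E, CoalgebraStruct.comul (R := K) e ∈ LinearMap.range (TensorProduct.map E.subtype D'.subtype)} D := by
  have h : IsSimpleSubcoalg D := ⟨hD0, hD, hDs⟩
  obtain ⟨E, hE, hle, hEs, he⟩ := h.exists_simple
  refine ⟨E, hle, fun h0 => ?_, hE, fun E' hE' hsub => ?_, ?_⟩
  · haveI := IsSimpleModule.nontrivial (WithConv (C →ₗ[K] K)) (toDual E hE)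
    obtain ⟨x, hx⟩ := exists_ne (0 : toDual E hE)
    exact hx (Subtype.ext ((Submodule.mem_bot K).mp (h0 ▸ x.2)))
  · haveI := hEs
    rcases (isSimpleModule_iff_isAtom.mp hEs).le_iff.mp (show toDual E' hsub ≤ toDual E hE from hE') with h1 | h1
    · left; rw [← restrictScalars_toDual hsub, h1, Submodule.restrictScalars_bot]
    · right; rw [← restrictScalars_toDual hsub, h1, restrictScalars_toDual]
  · letI := subComod E hE
    have key : ∀ D' : Submodule K C,
        (∀ e ∈ E, CoalgebraStruct.comul (R := K) e ∈ LinearMap.range (TensorProduct.map E.subtype D'.subtype)) ↔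
        (coef K C E).restrictScalars K ≤ D' := by
      intro D'
      rw [coef_le_iff]
      constructor
      · intro h1 x
        obtain ⟨y, hy⟩ := h1 x.1 x.2
        refine ⟨y, Module.Flat.rTensor_preserves_injective_linearMap (M := C) _ E.injective_subtype ?_⟩
        rw [← LinearMap.comp_apply, LinearMap.rTensor_comp_lTensor, hy]
        exact (rTensor_subCoact E hE x).symm
      · intro h1 e he'
        obtain ⟨y, hy⟩ := h1 ⟨e, he'⟩
        refine ⟨y, ?_⟩
        rw [← LinearMap.rTensor_comp_lTensor, LinearMap.comp_apply, hy]
        exact rTensor_subCoact E hE ⟨e, he'⟩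
    exact ⟨(key D).mpr he.le, fun D' h1 => he ▸ (key D').mp h1⟩

end Groth.Agent.S14842
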