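import Groth.Statements.S14844
import Mathlib
-- import your own Groth.Agent.* helpers here

set_option autoImplicit false
universe u v w w'
open HopfRep

namespace Groth.Agent.S14844

open TensorProduct in
/-- Let R be a commutative ring and C an R-coalgebra, flat over R, which is the internal direct sum of
subcoalgebras D_i (submodules whose comultiplication lands in the image of D_i ⊗ D_i, independent
and with supremum C). Then every right C-comodule V is the internal direct sum of the subcomodules
V_i, where V_i is the preimage under the coaction of the image of V ⊗ D_i in V ⊗ C, and the coaction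
maps V_i into the image of V_i ⊗ D_i, so that the comodule structure of V_i reduces to a
D_i-comodule structure. (The published statement is for a flat sheaf of coalgebras over a base
scheme and left comodules on a scheme over it; this row is the case of an affine base with modules
of global sections, for right comodules.) -/
theorem result {R : Type u} {C : Type v} [CommRing R]
    [AddCommGroup C] [Module R C] [Coalgebra R C] [Module.Flat R C]
    {ι : Type w} (D : ι → Submodule R C)
    (hD : ∀ i, ∀ d ∈ D i, CoalgebraStruct.comul (R := R) d ∈
      LinearMap.range (TensorProduct.map (D i).subtype (D i).subtype))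
    (hind : iSupIndep D) (htop : iSup D = ⊤)
    {V : Type w'} [AddCommGroup V] [Module R V] [HopfRep.Comod R C V] :
    (∀ i, HopfRep.IsSubcomod (k := R) (A := C) ((LinearMap.range (LinearMap.lTensor V (D i).subtype)).comap
        (HopfRep.Comod.coact (k := R) (A := C) (V := V)))) ∧
    iSupIndep (fun i => ((LinearMap.range (LinearMap.lTensor V (D i).subtype)).comap
        (HopfRep.Comod.coact (k := R) (A := C) (V := V)))) ∧
    (⨆ i, ((LinearMap.range (LinearMap.lTensor V (D i).subtype)).comap
        (HopfRep.Comod.coact (k := R) (A := C) (V := V)))) = ⊤ ∧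
    ∀ i, ∀ v ∈ ((LinearMap.range (LinearMap.lTensor V (D i).subtype)).comap
        (HopfRep.Comod.coact (k := R) (A := C) (V := V))),
      HopfRep.Comod.coact (k := R) (A := C) v ∈
        LinearMap.range (TensorProduct.map ((LinearMap.range (LinearMap.lTensor V (D i).subtype)).comap
        (HopfRep.Comod.coact (k := R) (A := C) (V := V))).subtype (D i).subtype) := by
  classical
  have hint : DirectSum.IsInternal D := DirectSum.isInternal_submodule_of_iSupIndep_of_iSup_eq_top hind htop
  let e := LinearEquiv.ofBijective (DirectSum.coeLinearMap D) hint
  let p' : ∀ i, C →ₗ[R] D i := fun i => (DirectSum.component R ι (fun j => D j) i) ∘ₗ e.symm.toLinearMap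
  let p : ι → C →ₗ[R] C := fun i => (D i).subtype ∘ₗ p' i
  have hp : ∀ j (x : D j) i, p i (x : C) = if j = i then (x : C) else 0 := by
    intro j x i
    have h : e.symm (x : C) = DirectSum.lof R ι (fun j => D j) j x :=
      e.symm_apply_eq.mpr (DirectSum.coeLinearMap_of D j x).symm
    simp only [p, p', LinearMap.comp_apply, LinearEquiv.coe_coe, h]
    by_cases hij : j = i
    · subst hij; simp
    · rw [if_neg hij, DirectSum.component.of, dif_neg hij]
      simp
  let ε := Coalgebra.counit (R := R) (A := C)
  let ρ := HopfRep.Comod.coact (k := R) (A := C) (V := V)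
  let cl : ι → TensorProduct R C C →ₗ[R] C := fun i =>
    (TensorProduct.lid R C).toLinearMap ∘ₗ (ε ∘ₗ p i).rTensor C
  have hcl : ∀ i c, cl i (Coalgebra.comul (R := R) c) = p i c := by
    intro i c
    have hc : c ∈ iSup D := by rw [htop]; trivial
    induction hc using Submodule.iSup_induction' with
    | mem j x hx =>
      obtain ⟨z, hz⟩ := hD j x hx
      rw [hp j ⟨x, hx⟩ i, ← hz]
      by_cases hij : j = i
      · subst hij
        rw [if_pos rfl]
        have h1 : ∀ z : TensorProduct R (D j) (D j), cl j (TensorProduct.map (D j).subtype (D j).subtype z) =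
            TensorProduct.lid R C (ε.rTensor C (TensorProduct.map (D j).subtype (D j).subtype z)) := by
          intro z
          induction z with
          | zero => simp
          | add a b ha hb => simp only [map_add, ha, hb]
          | tmul a b => simp [cl, hp j a j]
        rw [h1, hz, Coalgebra.rTensor_counit_comul, TensorProduct.lid_tmul, one_smul]
      · rw [if_neg hij]
        clear hz
        induction z with
        | zero => simp
        | add a b ha hb => rw [map_add, map_add, ha, hb, add_zero]
        | tmul a b => simp [cl, hp j a i, hij]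
    | zero => simp
    | add a b _ _ ha hb => simp only [map_add, ha, hb]
  let q : ι → V →ₗ[R] V := fun i => (TensorProduct.rid R V).toLinearMap ∘ₗ (ε ∘ₗ p i).lTensor V ∘ₗ ρ
  have hqr : ∀ i v, (q i).rTensor C (ρ v) = (p i).lTensor V (ρ v) := by
    intro i v
    have hc := LinearMap.congr_fun (HopfRep.Comod.coassoc (k := R) (A := C) (V := V)) v
    simp only [LinearMap.comp_apply, LinearEquiv.coe_coe] at hc
    have e1 : ∀ w : TensorProduct R V C, (q i).rTensor C w =
        (cl i).lTensor V (TensorProduct.assoc R V C C (ρ.rTensor C w)) := by
      intro w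
      induction w with
      | zero => simp
      | add a b ha hb => simp only [map_add, ha, hb]
      | tmul a b =>
        simp only [q, LinearMap.rTensor_tmul, LinearMap.comp_apply]
        generalize ρ a = z
        induction z with
        | zero => simp
        | add c d hc hd => simp only [map_add, TensorProduct.add_tmul, hc, hd]
        | tmul c d => simp [cl, TensorProduct.smul_tmul]
    rw [e1, show TensorProduct.assoc R V C C (ρ.rTensor C (ρ v)) = (Coalgebra.comul (R := R)).lTensor V (ρ v) from hc,
      ← LinearMap.lTensor_comp_apply, show cl i ∘ₗ Coalgebra.comul (R := R) = p i from LinearMap.ext (hcl i)]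
  have hρq : ∀ i v, ρ (q i v) = (p i).lTensor V (ρ v) := by
    intro i v
    have hc := LinearMap.congr_fun (HopfRep.Comod.coassoc (k := R) (A := C) (V := V)) v
    simp only [LinearMap.comp_apply, LinearEquiv.coe_coe] at hc
    let cr : TensorProduct R C C →ₗ[R] C := (TensorProduct.rid R C).toLinearMap ∘ₗ (ε ∘ₗ p i).lTensor C
    have e1 : ∀ w : TensorProduct R V C, ρ (TensorProduct.rid R V ((ε ∘ₗ p i).lTensor V w)) =
        cr.lTensor V (TensorProduct.assoc R V C C (ρ.rTensor C w)) := by
      intro w
      induction w with
      | zero => simp
      | add a b ha hb => simp only [map_add, ha, hb]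
      | tmul a b =>
        simp only [LinearMap.lTensor_tmul, TensorProduct.rid_tmul, map_smul, LinearMap.rTensor_tmul]
        generalize ρ a = z
        induction z with
        | zero => simp
        | add c d hc hd => simp only [smul_add, TensorProduct.add_tmul, map_add, hc, hd]
        | tmul c d => simp [cr, TensorProduct.tmul_smul]
    have hcr : ∀ c, cr (Coalgebra.comul (R := R) c) = p i c := by
      intro c
      have hc : c ∈ iSup D := by rw [htop]; trivial
      induction hc using Submodule.iSup_induction' with
      | mem j x hx =>
        obtain ⟨z, hz⟩ := hD j x hx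
        rw [hp j ⟨x, hx⟩ i, ← hz]
        by_cases hij : j = i
        · subst hij
          rw [if_pos rfl]
          have h1 : ∀ z : TensorProduct R (D j) (D j), cr (TensorProduct.map (D j).subtype (D j).subtype z) =
              TensorProduct.rid R C (ε.lTensor C (TensorProduct.map (D j).subtype (D j).subtype z)) := by
            intro z
            induction z with
            | zero => simp
            | add a b ha hb => simp only [map_add, ha, hb]
            | tmul a b => simp [cr, hp j b j]
          rw [h1, hz, Coalgebra.lTensor_counit_comul, TensorProduct.rid_tmul, one_smul]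
        · rw [if_neg hij]
          clear hz
          induction z with
          | zero => simp
          | add a b ha hb => rw [map_add, map_add, ha, hb, add_zero]
          | tmul a b => simp [cr, hp j b i, hij]
      | zero => simp
      | add a b _ _ ha hb => simp only [map_add, ha, hb]
    refine (e1 (ρ v)).trans ?_
    rw [show TensorProduct.assoc R V C C (ρ.rTensor C (ρ v)) = (Coalgebra.comul (R := R)).lTensor V (ρ v) from hc,
      ← LinearMap.lTensor_comp_apply, show cr ∘ₗ Coalgebra.comul (R := R) = p i from LinearMap.ext hcr]
  have hcounit : ∀ v, TensorProduct.rid R V (ε.lTensor V (ρ v)) = v := by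
    intro v
    have h := LinearMap.congr_fun (HopfRep.Comod.counit_comp (k := R) (A := C) (V := V)) v
    simp only [LinearMap.comp_apply] at h
    rw [h]
    simp
  have hq' : ∀ i v, q i v = TensorProduct.rid R V (ε.lTensor V ((p i).lTensor V (ρ v))) := fun i v => by
    simp [q, ← LinearMap.lTensor_comp_apply]
  set Vi := fun i => (LinearMap.range (LinearMap.lTensor V (D i).subtype)).comap ρ
  have hfix : ∀ i (z : TensorProduct R V (D i)) j, (p j).lTensor V ((D i).subtype.lTensor V z) =
      if i = j then (D i).subtype.lTensor V z else 0 := by
    intro i z j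
    induction z with
    | zero => simp
    | add a b ha hb => simp only [map_add, ha, hb]; split_ifs <;> simp
    | tmul a b => simp [hp i b j]; split_ifs <;> simp
  have hVi : ∀ i v, v ∈ Vi i → ∀ j, q j v = if i = j then v else 0 := by
    intro i v hv j
    obtain ⟨z, hz⟩ := hv
    rw [hq', ← hz, hfix]
    split_ifs
    · rw [hz, hcounit]
    · simp
  have hqmem : ∀ i v, q i v ∈ Vi i := by
    intro i v
    refine ⟨(p' i).lTensor V (ρ v), ?_⟩
    rw [hρq, ← LinearMap.lTensor_comp_apply]
  have hlast : ∀ i, ∀ v ∈ Vi i, ρ v ∈ LinearMap.range (TensorProduct.map (Vi i).subtype (D i).subtype) := by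
    intro i v hv
    refine ⟨TensorProduct.map ((q i).codRestrict _ (hqmem i)) (p' i) (ρ v), ?_⟩
    rw [TensorProduct.map_map]
    have h1 : ρ v = (p i).lTensor V (ρ v) := by
      have h := hρq i v
      rwa [hVi i v hv i, if_pos rfl] at h
    show TensorProduct.map (q i) (p i) (ρ v) = ρ v
    rw [← LinearMap.rTensor_comp_lTensor, LinearMap.comp_apply, ← h1, hqr, ← h1]
  refine ⟨fun i v hv => ?_, ?_, ?_, hlast⟩
  · obtain ⟨z, hz⟩ := hlast i v hv
    refine ⟨(D i).subtype.lTensor _ z, ?_⟩
    rw [← LinearMap.comp_apply, LinearMap.rTensor_comp_lTensor]
    exact hz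
  · rw [iSupIndep_def]
    intro i
    rw [disjoint_iff, eq_bot_iff]
    rintro v ⟨hv, hv'⟩
    have h0 : ∀ w ∈ ⨆ (j) (_ : j ≠ i), Vi j, q i w = 0 := by
      intro w hw
      refine (iSup₂_le fun j hj => ?_ : (⨆ (j) (_ : j ≠ i), Vi j) ≤ LinearMap.ker (q i)) hw
      intro x hx
      rw [LinearMap.mem_ker, hVi j x hx i, if_neg hj]
    have h := hVi i v hv i
    rw [if_pos rfl, h0 v hv'] at h
    simp [← h]
  · refine eq_top_iff.mpr fun v _ => ?_
    have key : ∀ w : TensorProduct R V C, TensorProduct.rid R V (ε.lTensor V w) ∈
        Submodule.span R (Set.range fun i => TensorProduct.rid R V (ε.lTensor V ((p i).lTensor V w))) := by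
      intro w
      obtain ⟨s, hs⟩ : ∃ s : Finset ι, w = ∑ i ∈ s, (p i).lTensor V w := by
        have hs' : ∃ s : Finset ι, ∀ t, s ⊆ t → w = ∑ i ∈ t, (p i).lTensor V w := by
          induction w with
          | zero => exact ⟨∅, fun t _ => by simp⟩
          | add a b ha hb =>
            obtain ⟨s, hs⟩ := ha
            obtain ⟨s', hs'⟩ := hb
            refine ⟨s ∪ s', fun t ht => ?_⟩
            simp only [map_add, Finset.sum_add_distrib]
            rw [← hs t (Finset.union_subset_left ht), ← hs' t (Finset.union_subset_right ht)]
          | tmul a c =>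
            refine ⟨(e.symm c).support, fun t ht => ?_⟩
            simp only [LinearMap.lTensor_tmul, ← TensorProduct.tmul_sum]
            congr 1
            conv_lhs => rw [← e.apply_symm_apply c, ← DirectSum.sum_support_of (e.symm c), map_sum]
            refine Finset.sum_subset_zero_on_sdiff ht (fun i hi => ?_) (fun i _ => ?_)
            · simp only [Finset.mem_sdiff, DFinsupp.mem_support_toFun, not_not] at hi
              exact congrArg Subtype.val hi.2
            · exact DirectSum.coeLinearMap_of D i _
        exact ⟨hs'.choose, hs'.choose_spec _ subset_rfl⟩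
      have h2 := congrArg (fun x => TensorProduct.rid R V (ε.lTensor V x)) hs
      simp only [map_sum] at h2
      rw [h2]
      exact Submodule.sum_mem _ fun i _ => Submodule.subset_span ⟨i, rfl⟩
    have h := key (ρ v)
    rw [hcounit] at h
    refine Submodule.span_le.mpr ?_ h
    rintro _ ⟨i, rfl⟩
    show TensorProduct.rid R V (ε.lTensor V ((p i).lTensor V (ρ v))) ∈ _
    rw [← hq']
    exact Submodule.mem_iSup_of_mem i (hqmem i v)

end Groth.Agent.S14844
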