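import Groth.Statements.S14845
import Mathlib

set_option autoImplicit false
open CategoryTheory CategoryTheory.Limits AlgebraicGeometry
universe u
open HilbD

namespace Groth.Agent.S14845
open CategoryTheory.Limits in
theorem pull_secGraph {X S : Scheme.{u}} (f : X ⟶ S) [IsSeparated f] {T T' : Over S} (g : T' ⟶ T)
    (x : T.left ⟶ X) (hx : x ≫ f = T.hom) :
    HilbD.pull f g (HilbD.secGraph f T x hx) =
      HilbD.secGraph f T' (g.left ≫ x) (by rw [Category.assoc, hx, Over.w]) := by
  let γ : T.left ⟶ PicF.XT f T := pullback.lift x (𝟙 _) (by simpa using hx)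
  let γ' : T'.left ⟶ PicF.XT f T' := pullback.lift (g.left ≫ x) (𝟙 _)
    (by rw [Category.id_comp, Category.assoc, hx, Over.w])
  haveI : IsClosedImmersion γ :=
    haveI : IsClosedImmersion (γ ≫ pullback.snd f T.hom) := by
      rw [pullback.lift_snd]; infer_instance
    IsClosedImmersion.of_comp γ (pullback.snd f T.hom)
  have m1 : PicF.XTmap f g ≫ pullback.fst f T.hom = pullback.fst f T'.hom :=
    (pullback.lift_fst _ _ _).trans (Category.comp_id _)
  have m2 : PicF.XTmap f g ≫ pullback.snd f T.hom = pullback.snd f T'.hom ≫ g.left :=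
    pullback.lift_snd _ _ _
  have hu : g.left ≫ γ = γ' ≫ PicF.XTmap f g := by
    apply pullback.hom_ext
    · rw [Category.assoc, Category.assoc, m1, pullback.lift_fst, pullback.lift_fst]
    · rw [Category.assoc, Category.assoc, m2, pullback.lift_snd, pullback.lift_snd_assoc, Category.comp_id, Category.id_comp]
  have hι : γ.toImage ≫ γ.imageι = γ := γ.toImage_imageι
  haveI : IsIso γ.toImage := inferInstance
  let m : T'.left ⟶ pullback γ.imageι (PicF.XTmap f g) :=
    pullback.lift (g.left ≫ γ.toImage) γ' (by rw [Category.assoc, hι, hu])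
  haveI : IsIso m := by
    refine ⟨pullback.snd γ.imageι _ ≫ pullback.snd f T'.hom, ?_, ?_⟩
    · rw [pullback.lift_snd_assoc, pullback.lift_snd]
    · apply pullback.hom_ext
      · rw [Category.assoc, pullback.lift_fst, Category.id_comp, ← cancel_mono γ.imageι]
        simp only [Category.assoc, hι]
        rw [hu]
        have hc := pullback.condition (f := γ.imageι) (g := PicF.XTmap f g)
        have hk : γ.imageι ≫ pullback.snd f T.hom ≫ γ = γ.imageι := by
          rw [← cancel_epi γ.toImage, ← Category.assoc γ.toImage, hι, pullback.lift_snd_assoc,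
            Category.id_comp]
        have h2 := m2
        rw [← hu, ← Category.assoc (pullback.snd f T'.hom), ← h2, Category.assoc,
          ← Category.assoc (pullback.snd γ.imageι (PicF.XTmap f g)), ← hc, Category.assoc, hk]
      · rw [Category.assoc, pullback.lift_snd, Category.id_comp]
        have hc := pullback.condition (f := γ.imageι) (g := PicF.XTmap f g)
        have hk : γ.imageι ≫ pullback.snd f T.hom ≫ x = γ.imageι ≫ pullback.fst f T.hom := by
          rw [← cancel_epi γ.toImage, ← Category.assoc γ.toImage, ← Category.assoc γ.toImage, hι,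
            pullback.lift_snd_assoc, Category.id_comp, pullback.lift_fst]
        apply pullback.hom_ext
        · have h2 := m2
          have h3 := m1
          simp only [γ', Category.assoc, pullback.lift_fst]
          rw [← Category.assoc (pullback.snd f T'.hom), ← h2, Category.assoc, ← h3,
            ← Category.assoc (pullback.snd γ.imageι (PicF.XTmap f g)), ← hc, Category.assoc, hk,
            ← Category.assoc (pullback.snd γ.imageι (PicF.XTmap f g)), ← hc, Category.assoc]
        · simp only [γ', Category.assoc, pullback.lift_snd, Category.comp_id]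
  show (pullback.snd γ.imageι (PicF.XTmap f g)).ker = γ'.ker
  rw [← Scheme.Hom.ker_comp_of_isIso m, pullback.lift_snd]

open CategoryTheory.Limits in
theorem secGraph_deg_one {X S : Scheme.{u}} (f : X ⟶ S) [IsSeparated f] (T : Over S)
    (x : T.left ⟶ X) (hx : x ≫ f = T.hom) :
    Mor2.IsFinLocFreeOfDeg 1 ((HilbD.secGraph f T x hx).subschemeι ≫ PicF.XTproj f T) := by
  let γ : T.left ⟶ PicF.XT f T := pullback.lift x (𝟙 _) (by simpa using hx)
  haveI : IsClosedImmersion γ :=
    haveI : IsClosedImmersion (γ ≫ pullback.snd f T.hom) := by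
      rw [pullback.lift_snd]; infer_instance
    IsClosedImmersion.of_comp γ (pullback.snd f T.hom)
  haveI : IsIso (γ.imageι ≫ pullback.snd f T.hom) := by
    have h : γ.toImage ≫ γ.imageι ≫ pullback.snd f T.hom = 𝟙 _ := by
      rw [γ.toImage_imageι_assoc, pullback.lift_snd]
    haveI : IsIso (γ.toImage ≫ γ.imageι ≫ pullback.snd f T.hom) := by rw [h]; infer_instance
    exact IsIso.of_isIso_comp_left γ.toImage _
  show Mor2.IsFinLocFreeOfDeg 1 (γ.imageι ≫ pullback.snd f T.hom)
  exact ⟨⟨inferInstance, inferInstance, inferInstance⟩, fun y => by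
    rw [Scheme.Hom.finrank_eq_one_of_isIso]; rfl⟩


/-- For a separated morphism f : X → S, the Hilbert functor of one point of X over S is represented by X
with the diagonal as universal family: the diagonal of X ×_S X (the graph of the identity section of
X over itself) is a closed subscheme finite locally free of degree 1 over X, and every closed
subscheme of X ×_S T which is finite locally free of degree 1 over T is its base change along a
unique S-morphism T → X. (The published statement takes S Noetherian, f locally of finite type and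
the Hilbert functor on locally Noetherian S-schemes with flat proper families of Hilbert polynomial
1; this row uses the functor of families finite locally free of degree 1 on all S-schemes, for which
the same argument applies without Noetherian hypotheses.) -/
theorem result {X S : Scheme.{u}} (f : X ⟶ S) [IsSeparated f] :
    ∃ Δ : HilbD.Obj f 1 (Over.mk f),
      Δ.1 = HilbD.secGraph f (Over.mk f) (𝟙 X) (Category.id_comp f) ∧
      HilbD.IsUniversal f 1 (Over.mk f) Δ := by
  refine ⟨⟨HilbD.secGraph f (Over.mk f) (𝟙 X) (Category.id_comp f), secGraph_deg_one f _ _ _⟩, rfl, ?_⟩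
  intro T Z'
  obtain ⟨⟨hfin, hflat, hlfp⟩, hrank⟩ := Z'.2
  haveI : IsIso (Z'.1.subschemeι ≫ PicF.XTproj f T) :=
    (Scheme.Hom.isIso_iff_finrank_eq (f := Z'.1.subschemeι ≫ PicF.XTproj f T)).mpr (funext hrank)
  let γ : T.left ⟶ PicF.XT f T := inv (Z'.1.subschemeι ≫ PicF.XTproj f T) ≫ Z'.1.subschemeι
  have hγ : γ ≫ Limits.pullback.snd f T.hom = 𝟙 _ := by
    rw [Category.assoc]; exact IsIso.inv_hom_id _
  have hx : (γ ≫ Limits.pullback.fst f T.hom) ≫ f = T.hom := by
    rw [Category.assoc, Limits.pullback.condition, reassoc_of% hγ]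
  have key : ∀ g : T ⟶ Over.mk f, HilbD.pull f g (HilbD.secGraph f (Over.mk f) (𝟙 X) (Category.id_comp f)) =
      (Limits.pullback.lift g.left (𝟙 T.left) (by rw [Category.id_comp]; exact Over.w g) :
        T.left ⟶ PicF.XT f T).ker := by
    intro g
    rw [pull_secGraph]
    show Scheme.Hom.ker _ = Scheme.Hom.ker _
    congr 1
  refine ⟨Over.homMk (γ ≫ Limits.pullback.fst f T.hom) hx, ?_, ?_⟩
  · show HilbD.pull f _ _ = Z'.1
    rw [key]
    conv_rhs => rw [← Scheme.IdealSheafData.ker_subschemeι Z'.1]
    rw [← Scheme.Hom.ker_comp_of_isIso (inv (Z'.1.subschemeι ≫ PicF.XTproj f T)) Z'.1.subschemeι]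
    congr 1
    apply Limits.pullback.hom_ext
    · rw [Limits.pullback.lift_fst]; rfl
    · rw [Limits.pullback.lift_snd]; exact hγ.symm
  · intro g hg
    have hg' : HilbD.pull f g (HilbD.secGraph f (Over.mk f) (𝟙 X) (Category.id_comp f)) = Z'.1 := hg
    rw [key] at hg'
    let δ : T.left ⟶ PicF.XT f T :=
      Limits.pullback.lift g.left (𝟙 T.left) (by rw [Category.id_comp]; exact Over.w g)
    let l : T.left ⟶ Z'.1.subscheme :=
      IsClosedImmersion.lift Z'.1.subschemeι δ (by rw [Scheme.IdealSheafData.ker_subschemeι]; exact hg'.ge)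
    have hl : l ≫ Z'.1.subschemeι = δ := IsClosedImmersion.lift_fac _ _ _
    have hli : l = inv (Z'.1.subschemeι ≫ PicF.XTproj f T) := by
      apply IsIso.eq_inv_of_inv_hom_id
      rw [← Category.assoc, hl]
      exact Limits.pullback.lift_snd _ _ _
    apply Over.OverMorphism.ext
    show g.left = γ ≫ Limits.pullback.fst f T.hom
    rw [show γ = δ by rw [← hl, hli]]
    exact (Limits.pullback.lift_fst _ _ _).symm

end Groth.Agent.S14845
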