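import Groth.Statements.S14846
import Groth.Agent.CSADescent.SimpleCenter
import Groth.Agent.CSADescent.SepClosed

set_option autoImplicit false
universe u v w
open Brauer

namespace Groth.Agent.S14846

open TensorProduct in
/-- Let L/K be a Galois extension with group Γ = Aut_K(L), and A a K-algebra which is a simple ring. If
L ⊗_K A is semisimple, then Γ, acting on L ⊗_K A through the first tensor factor, permutes its
simple components, i.e. its minimal nonzero two-sided ideals, transitively: any minimal two-sided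
ideal is carried onto any other by some γ ⊗ id. -/
theorem result
    {K : Type u} {L : Type v} [Field K] [Field L] [Algebra K L] [IsGalois K L]
    {A : Type w} [Ring A] [Algebra K A] [IsSimpleRing A]
    [IsSemisimpleRing (L ⊗[K] A)]
    (I J : TwoSidedIdeal (L ⊗[K] A)) (hI : IsAtom I) (hJ : IsAtom J) :
    ∃ γ : L ≃ₐ[K] L, (J : Set (L ⊗[K] A)) =
      Algebra.TensorProduct.map (γ : L →ₐ[K] L) (AlgHom.id K A) '' (I : Set (L ⊗[K] A)) := by
  classical
  let g : (L ≃ₐ[K] L) → (L ⊗[K] A →ₐ[K] L ⊗[K] A) := fun γ => Algebra.TensorProduct.map (γ : L →ₐ[K] L) (AlgHom.id K A)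
  have hg : ∀ γ δ x, g γ (g δ x) = g (γ * δ) x := fun γ δ x => by
    induction x using TensorProduct.induction_on with
    | zero => simp
    | tmul l a => rfl
    | add p q hp hq => simp only [map_add, hp, hq]
  have hg1 : ∀ x, g 1 x = x := fun x => by
    induction x using TensorProduct.induction_on with
    | zero => simp
    | tmul l a => rfl
    | add p q hp hq => simp only [map_add, hp, hq]
  have hgi : ∀ γ x, g γ (g γ⁻¹ x) = x := fun γ x => by rw [hg, mul_inv_cancel, hg1]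
  -- the image of a two-sided ideal
  let img : (L ≃ₐ[K] L) → TwoSidedIdeal (L ⊗[K] A) → TwoSidedIdeal (L ⊗[K] A) := fun γ P =>
    TwoSidedIdeal.mk' (g γ '' (P : Set (L ⊗[K] A))) ⟨0, P.zero_mem, map_zero _⟩
      (fun {x y} ⟨a, ha, ha'⟩ ⟨b, hb, hb'⟩ => ⟨a + b, P.add_mem ha hb, by rw [map_add, ha', hb']⟩)
      (fun {x} ⟨a, ha, ha'⟩ => ⟨-a, P.neg_mem ha, by rw [map_neg, ha']⟩)
      (fun {x y} ⟨b, hb, hb'⟩ => ⟨g γ⁻¹ x * b, P.mul_mem_left _ _ hb, by rw [map_mul, hgi, hb']⟩)
      (fun {x y} ⟨a, ha, ha'⟩ => ⟨a * g γ⁻¹ y, P.mul_mem_right _ _ ha, by rw [map_mul, hgi, ha']⟩)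
  have himg : ∀ γ P x, x ∈ img γ P ↔ x ∈ g γ '' (P : Set (L ⊗[K] A)) := fun γ P x => TwoSidedIdeal.mem_mk' ..
  -- `T` annihilates all conjugates of `I`
  let T : TwoSidedIdeal (L ⊗[K] A) := TwoSidedIdeal.mk' {x | ∀ γ, ∀ y ∈ I, x * g γ y = 0}
    (fun γ y _ => zero_mul _) (fun {x x'} h h' γ y hy => by rw [add_mul, h γ y hy, h' γ y hy, add_zero])
    (fun {x} h γ y hy => by rw [neg_mul, h γ y hy, neg_zero])
    (fun {x x'} h γ y hy => by rw [mul_assoc, h γ y hy, mul_zero])
    (fun {x x'} h γ y hy => by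
      have e : x' * g γ y = g γ (g γ⁻¹ x' * y) := by rw [map_mul, hgi]
      rw [mul_assoc, e, h γ _ (I.mul_mem_left _ _ hy)])
  have hT : ∀ x, x ∈ T ↔ ∀ γ, ∀ y ∈ I, x * g γ y = 0 := fun x => TwoSidedIdeal.mem_mk' ..
  have hTg : ∀ δ x, x ∈ T → g δ x ∈ T := fun δ x hx => (hT _).2 fun γ y hy => by
    rw [← hgi δ (g γ y), ← map_mul, hg, (hT x).1 hx _ y hy, map_zero]
  obtain ⟨f, hfT, hright, hcomm⟩ := Groth.Agent.CSADescent.exists_central_idempotent T
  have hfix : ∀ δ, g δ f = f := fun δ => by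
    have h1 : g δ f * f = g δ f := hright _ (hTg δ f hfT)
    have h2 : f * g δ f = f := by
      have := congrArg (g δ) (hright _ (hTg δ⁻¹ f hfT))
      rwa [map_mul, hgi] at this
    rw [← h1, ← hcomm, h2]
  -- descent
  let bA := Module.Free.chooseBasis K A
  let E := TensorProduct.equivFinsuppOfBasisRight (M := L) bA
  have hE : ∀ (δ : L ≃ₐ[K] L) x i, E (g δ x) i = δ (E x i) := fun δ x i => by
    induction x using TensorProduct.induction_on with
    | zero => simp
    | tmul l a => simp [E, g]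
    | add p q hp hq => simp [hp, hq]
  have hrange : ∀ i, ∃ r : K, algebraMap K L r = E f i := fun i =>
    (InfiniteGalois.mem_range_algebraMap_iff_fixed (E f i)).2 fun δ => by rw [← hE, hfix]
  choose r hr using hrange
  have hf : f = (1 : L) ⊗ₜ[K] (∑ i ∈ (E f).support, r i • bA i) := by
    conv_lhs => rw [← E.symm_apply_apply f, TensorProduct.equivFinsuppOfBasisRight_symm_apply]
    rw [TensorProduct.tmul_sum]
    refine Finset.sum_congr rfl fun i _ => ?_
    rw [← hr, Algebra.algebraMap_eq_smul_one]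
    show (r i • (1 : L)) ⊗ₜ[K] bA i = _
    rw [TensorProduct.smul_tmul]
  set a := ∑ i ∈ (E f).support, r i • bA i
  have hinj : Function.Injective (Algebra.TensorProduct.includeRight : A →ₐ[K] L ⊗[K] A) :=
    Algebra.TensorProduct.includeRight_injective (algebraMap K L).injective
  have hac : a ∈ Subalgebra.center K A := Subalgebra.mem_center_iff.2 fun b => hinj (by
    rw [map_mul, map_mul, Algebra.TensorProduct.includeRight_apply, Algebra.TensorProduct.includeRight_apply, ← hf,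
      hcomm])
  have haa : a * a = a := hinj (by
    rw [map_mul, Algebra.TensorProduct.includeRight_apply, ← hf, hright f hfT])
  have hI0 : ∃ y ∈ I, y ≠ 0 := by
    by_contra hcon
    push Not at hcon
    refine hI.1 (SetLike.ext fun y => ?_)
    rw [TwoSidedIdeal.mem_bot]
    exact ⟨hcon y, fun e => e ▸ I.zero_mem⟩
  have hf0 : f = 0 := by
    by_cases ha : a = 0
    · rw [hf, ha, TensorProduct.tmul_zero]
    · obtain ⟨d, -, hd, -⟩ := Groth.Agent.CSADescent.exists_inv_of_mem_center hac ha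
      have ha1 : a = 1 := by
        rw [← hd]
        nth_rw 2 [← haa]
        rw [mul_assoc, hd, mul_one]
      obtain ⟨y, hy, hy0⟩ := hI0
      refine absurd ?_ hy0
      have := (hT f).1 hfT 1 y hy
      rwa [hg1, hf, ha1, ← Algebra.TensorProduct.one_def, one_mul] at this
  obtain ⟨x, hxJ, hx0⟩ : ∃ x ∈ J, x ≠ 0 := by
    by_contra hcon
    push Not at hcon
    refine hJ.1 (SetLike.ext fun y => ?_)
    rw [TwoSidedIdeal.mem_bot]
    exact ⟨hcon y, fun e => e ▸ J.zero_mem⟩
  have hxT : x ∉ T := fun h => hx0 (by rw [← hright x h, hf0, mul_zero])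
  rw [hT] at hxT
  push Not at hxT
  obtain ⟨γ, y, hy, hxy⟩ := hxT
  refine ⟨γ, ?_⟩
  -- `g γ⁻¹ J` meets `I`
  have hmem : g γ⁻¹ (x * g γ y) ∈ img γ⁻¹ J ⊓ I := by
    refine (TwoSidedIdeal.mem_inf _).2 ⟨(himg _ _ _).2 ⟨_, J.mul_mem_right _ _ hxJ, rfl⟩, ?_⟩
    rw [map_mul, hg, inv_mul_cancel, hg1]
    exact I.mul_mem_left _ _ hy
  have hIle : I ≤ img γ⁻¹ J := by
    refine (le_of_eq ?_).trans (inf_le_left : img γ⁻¹ J ⊓ I ≤ _)
    rcases hI.le_iff.1 (inf_le_right : img γ⁻¹ J ⊓ I ≤ I) with h | h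
    · rw [h, TwoSidedIdeal.mem_bot] at hmem
      refine absurd ?_ hxy
      rw [← hgi γ (x * g γ y), hmem, map_zero]
    · exact h.symm
  have hle : img γ I ≤ J := fun z hz => by
    obtain ⟨w, hw, rfl⟩ := (himg _ _ _).1 hz
    obtain ⟨v, hv, rfl⟩ := (himg _ _ _).1 (hIle hw)
    rwa [hgi]
  have heq : img γ I = J := (hJ.le_iff.1 hle).resolve_left fun h => by
    obtain ⟨w, hw, hw0⟩ := hI0
    have : g γ w ∈ img γ I := (himg _ _ _).2 ⟨w, hw, rfl⟩
    rw [h, TwoSidedIdeal.mem_bot] at this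
    have h2 := congrArg (g γ⁻¹) this
    rw [hg, inv_mul_cancel, hg1, map_zero] at h2
    exact hw0 h2
  ext z
  rw [SetLike.mem_coe, ← heq]
  exact himg γ I z

end Groth.Agent.S14846
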