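import Groth.Statements.S1485
import Groth.Agent.FibreVanishQC.BaseChange
import Groth.Agent.BCLib.Local
import Mathlib

set_option autoImplicit false
set_option backward.isDefEq.respectTransparency false
universe u
open FlatMor

namespace Groth.Agent.S1485

open AlgebraicGeometry CategoryTheory Limits in
/-- Let f : X → Y be proper and y a point with fibre of dimension ≤ 1. Suppose there is a morphism g :
Y' → Y whose image contains y such that, for the base change f' : X' → Y', H^1 of the structure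
sheaf vanishes over the preimage of every affine open of Y' (that is, R^1 f'_* O = 0; taking g the
identity covers the case R^1 f_* O_X = 0). Then H^1(X_y, O_{X_y}) = 0. -/
theorem result {X Y Y' : Scheme.{u}} (f : X ⟶ Y) [IsProper f] (y : Y) (hdim : topologicalKrullDim ↑(f.fiber y) ≤ 1)
    (g : Y' ⟶ Y) (hy : y ∈ Set.range ⇑g)
    (hR1 : ∀ U : Y'.Opens, IsAffineOpen U → Subsingleton (Coh.HHon (pullback f g) (Coh.structureModule (pullback f g)) (pullback.snd f g ⁻¹ᵁ U) 1)) :
    Subsingleton (Coh.HH (f.fiber y) (Coh.structureModule (f.fiber y)) 1) := by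
  obtain ⟨y', rfl⟩ := hy
  let f' := pullback.snd f g
  have hsq : IsPullback (pullback.fst f g) f' f g := IsPullback.of_hasPullback f g
  haveI : IsProper f' := inferInstanceAs (IsProper (pullback.snd f g))
  let E : Y'.Opens := ⟨{z | topologicalKrullDim ↥(f'.fiber z) ≤ (1 : ℕ)}, Groth.Agent.S0403.result f' _⟩
  have hyE : y' ∈ E := by
    show topologicalKrullDim ↥(f'.fiber y') ≤ ((1 : ℕ) : WithBot ℕ∞)
    rw [Groth.Agent.S9777.result f g f' _ hsq y']
    simpa using hdim
  obtain ⟨_, ⟨U, hU, rfl⟩, hyU, hle⟩ := Y'.isBasis_affineOpens.exists_subset_of_mem_open hyE E.2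
  change Y'.Opens at U
  haveI : IsAffine U.toScheme := hU
  let u : U.toScheme := ⟨y', hyU⟩
  haveI : IsProper (f' ∣_ U) := MorphismProperty.of_isPullback (isPullback_morphismRestrict f' U).flip ‹_›
  have hdU : ∀ s, topologicalKrullDim ↥((f' ∣_ U).fiber s) ≤ (1 : ℕ) := fun s =>
    (Groth.Agent.S9777.result f' U.ι (f' ∣_ U) (f' ⁻¹ᵁ U).ι (isPullback_morphismRestrict f' U).flip s).trans_le
      (hle s.2)
  have h0 : Subsingleton (Coh.HH (f' ⁻¹ᵁ U).toScheme (Coh.structureModule (f' ⁻¹ᵁ U).toScheme) 1) :=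
    Groth.Agent.CurveLib.subsingleton_HH_iso (Scheme.Modules.restrictUnitIso _) 1 (hR1 U hU)
  have h1 : Subsingleton (Coh.HH ((f' ∣_ U).fiber u) (Coh.structureModule _) 1) :=
    Groth.Agent.FibreVanishQC.subsingleton_HH_baseChange
      (IsPullback.of_hasPullback (f' ∣_ U) (U.toScheme.fromSpecResidueField u)) 1 hdU h0
  have hsqU : IsPullback ((f' ⁻¹ᵁ U).ι ≫ pullback.fst f g) (f' ∣_ U) f (U.ι ≫ g) :=
    (isPullback_morphismRestrict f' U).flip.paste_horiz hsq
  have hc := isPullback_fiberToSpecResidueField_of_isPullback hsqU u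
  show Subsingleton (Coh.HH (f.fiber ((U.ι ≫ g) u)) (Coh.structureModule (f.fiber ((U.ι ≫ g) u))) 1)
  letI : (f.fiber ((U.ι ≫ g) u)).Over (Spec (CommRingCat.of (Y.residueField ((U.ι ≫ g) u)))) := ⟨f.fiberToSpecResidueField ((U.ι ≫ g) u)⟩
  letI : ((f' ∣_ U).fiber u).Over (Spec (CommRingCat.of (U.toScheme.residueField u))) :=
    ⟨(f' ∣_ U).fiberToSpecResidueField u⟩
  haveI : IsProper (f.fiberToSpecResidueField ((U.ι ≫ g) u)) :=
    inferInstanceAs (IsProper (pullback.snd f (Y.fromSpecResidueField ((U.ι ≫ g) u))))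
  haveI : IsSeparated (f.fiber ((U.ι ≫ g) u) ↘ Spec (CommRingCat.of (Y.residueField ((U.ι ≫ g) u)))) :=
    inferInstanceAs (IsSeparated (f.fiberToSpecResidueField ((U.ι ≫ g) u)))
  haveI : QuasiCompact (f.fiber ((U.ι ≫ g) u) ↘ Spec (CommRingCat.of (Y.residueField ((U.ι ≫ g) u)))) :=
    inferInstanceAs (QuasiCompact (f.fiberToSpecResidueField ((U.ι ≫ g) u)))
  haveI : Coh.IsQCoh (Coh.structureModule (f.fiber ((U.ι ≫ g) u))) := inferInstance
  have hrk := Groth.Agent.BCLib.finrank_HH_fieldExt (k := Y.residueField ((U.ι ≫ g) u))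
    (k' := U.toScheme.residueField u) (X' := (f' ∣_ U).fiber u) (φ := (U.ι ≫ g).residueFieldMap u) hc (Coh.structureModule (f.fiber ((U.ι ≫ g) u))) 1
    (G' := Coh.structureModule ((f' ∣_ U).fiber u)) (Groth.Agent.AmpleLib.pullO _)
  rw [Module.finrank_zero_of_subsingleton] at hrk
  haveI : IsLocallyNoetherian (f.fiber ((U.ι ≫ g) u)) :=
    LocallyOfFiniteType.isLocallyNoetherian (f.fiberToSpecResidueField ((U.ι ≫ g) u))
  haveI : CompactSpace (f.fiber ((U.ι ≫ g) u)) := QuasiCompact.compactSpace_of_compactSpace (f.fiberToSpecResidueField ((U.ι ≫ g) u))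
  haveI : IsNoetherian (f.fiber ((U.ι ≫ g) u)) := { }
  haveI : Module.Finite (Y.residueField ((U.ι ≫ g) u)) (Coh.HH (f.fiber ((U.ι ≫ g) u)) (Coh.structureModule (f.fiber ((U.ι ≫ g) u))) 1) :=
    Groth.Agent.ProperFin.allFin_of_isCoh (A := Y.residueField ((U.ι ≫ g) u)) (f.fiberToSpecResidueField ((U.ι ≫ g) u)) _
      (Groth.Agent.DevLib.isCoh_structureModule _) 1
  exact Module.finrank_zero_iff.1 hrk.symm

end Groth.Agent.S1485
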