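import Groth.Statements.S14851
import Groth.Agent.Comodule.Extra

set_option autoImplicit false
universe u v w w'
open HopfRep

namespace Groth.Agent.S14851

open Groth.Agent.Comodule

open TensorProduct in
/-- The map E ↦ C(E) from isomorphism classes of simple comodules to simple subcoalgebras is injective,
that is: over a field K, two simple right comodules E, E' over a coalgebra C with the same
coefficient space D (the least subspace D' of C such that the coaction lands in E ⊗ D', resp. E' ⊗
D') are isomorphic as comodules. (The published statement is made for a cosemisimple coalgebra and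
for left comodules; the printed argument for this part uses neither restriction.) -/
theorem result {K : Type u} {C : Type v} [Field K]
    [AddCommGroup C] [Module K C] [Coalgebra K C]
    {E : Type w} [AddCommGroup E] [Module K E] [HopfRep.Comod K C E]
    {E' : Type w'} [AddCommGroup E'] [Module K E'] [HopfRep.Comod K C E']
    (hE : HopfRep.IsSimpleComod K C E) (hE' : HopfRep.IsSimpleComod K C E') (D : Submodule K C)
    (hD : IsLeast {D' : Submodule K C |
      ∀ e : E, HopfRep.Comod.coact (k := K) (A := C) e ∈ LinearMap.range (LinearMap.lTensor E D'.subtype)} D)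
    (hD' : IsLeast {D' : Submodule K C |
      ∀ e : E', HopfRep.Comod.coact (k := K) (A := C) e ∈ LinearMap.range (LinearMap.lTensor E' D'.subtype)} D) :
    ∃ e : E ≃ₗ[K] E', Hoch.IsComodHom C e.toLinearMap := by
  haveI := isSimpleComod_iff.mp hE
  haveI := isSimpleComod_iff.mp hE'
  haveI := IsSimpleModule.nontrivial (WithConv (C →ₗ[K] K)) E'
  have h : coef K C E = coef K C E' := Submodule.restrictScalars_injective K _ _
    ((hD.unique isLeast_coef).symm.trans (hD'.unique isLeast_coef))
  obtain ⟨v, hv⟩ := exists_ne (0 : E')
  obtain ⟨φ, hφ⟩ : ∃ φ : E' →ₗ[K] K, coefMap (C := C) φ v ≠ 0 := by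
    by_contra hc
    exact hv (eq_zero_of_coefMap (k := K) (C := C) fun φ => not_not.mp fun hn => hc ⟨φ, hn⟩)
  have hinj := (coefMap_injective_or_eq_zero (C := C) φ).resolve_right fun h0 => hφ (by rw [h0]; rfl)
  haveI : IsSimpleModule (WithConv (C →ₗ[K] K)) (LinearMap.range (coefMap (C := C) φ)) := by
    refine IsSimpleModule.congr (R := WithConv (C →ₗ[K] K)) (N := E') ?_
    exact (LinearEquiv.ofInjective _ hinj).symm
  obtain ⟨e⟩ := equiv_of_le_coef (k := K) (V := E) (S := LinearMap.range (coefMap (C := C) φ))
    (h ▸ le_iSup (fun φ => LinearMap.range (coefMap (C := C) φ)) φ)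
  exact ⟨(e.symm.trans (LinearEquiv.ofInjective _ hinj).symm).restrictScalars K,
    isComodHom_restrictScalars_equiv _⟩

end Groth.Agent.S14851
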