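import Groth.Statements.S14854
import Groth.Agent.HilbProjLib.Closed
import Groth.Agent.HilbRepLib.Cover

set_option autoImplicit false
open CategoryTheory CategoryTheory.Limits AlgebraicGeometry
universe u
open HilbD

namespace Groth.Agent.S14854

open Groth.Agent.GrassShLib Groth.Agent.HilbProjLib Groth.Agent.FlagLib

/-- For a finite morphism f : X → S and d ≥ 0, the Hilbert functor of d points of X over S is
representable by a projective S-scheme: there are an S-scheme H, projective over S in the sense of
being a Proj of a quasi-coherent graded algebra generated in degree one with degree-one part of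
finite type, and a universal family of closed subschemes of X ×_S T finite locally free of degree d
over T. -/
theorem result {X S : Scheme.{u}} (f : X ⟶ S) [IsFinite f] (d : ℕ) :
    ∃ (H : Over S) (Z : HilbD.Obj f d H), HilbD.IsUniversal f d H Z ∧ RelProj.IsProjective H.hom := by
  haveI := isQCoh_ringE f
  obtain ⟨H, Z, hZ⟩ := HilbRepLib.representable_of_points f d (fun s x hx => by
    obtain ⟨_, ⟨V : S.Opens, hV : IsAffineOpen V, rfl⟩, hsV, -⟩ :=
      S.isBasis_affineOpens.exists_subset_of_mem_open (Set.mem_univ s) isOpen_univ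
    exact ⟨f ⁻¹ᵁ V, hV.preimage f, fun k => show f.base (x k) ∈ V by rw [hx k]; exact hsV⟩)
  refine ⟨H, Z, hZ, ?_⟩
  obtain ⟨G, π, Q, q, hG⟩ := exists_isGrass (ringE f) ⟨isQCoh_ringE f, isFT_ringE f⟩ d
  obtain ⟨c, hc, hcπ⟩ := exists_closedImmersion f Z hZ hG
  haveI := hc
  obtain ⟨L, hq, hft, hL⟩ := exists_isExtPow_isFT (ringE f) (isFT_ringE f) d
  haveI := hq
  obtain ⟨P, p, O1, qP, hP, -, hproj⟩ := exists_isGrass_one_proper L hft
  haveI := isClosedImmersion_plMap hG (isFT_ringE f) hL hP
  exact hproj H.hom (c ≫ plMap hG (isFT_ringE f) hL hP)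
    (by rw [Category.assoc, plMap_comp hG (isFT_ringE f) hL hP, hcπ])

end Groth.Agent.S14854
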