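import Mathlib
import Groth.Statements.S14856

set_option autoImplicit false
universe u
open CAlg

namespace Groth.Agent.S14856

/-- Let p be a prime and S a commutative ring in which p is a non-zero-divisor. For a p-typical Witt
vector x over S, a natural number m and an integer s ≥ 1, the power p^s divides each of the Witt
components x_0, …, x_m if and only if p^(n+s) divides the n-th ghost component w_n(x) = x_0^(p^n) +
p x_1^(p^(n-1)) + ⋯ + p^n x_n for every n ≤ m. -/
theorem result (p : ℕ) [Fact p.Prime] (S : Type u) [CommRing S]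
    (hS : ∀ y : S, (p : S) * y = 0 → y = 0) (x : WittVector p S) (m s : ℕ) (hs : 1 ≤ s) :
    (∀ i ≤ m, (p : S) ^ s ∣ x.coeff i) ↔
      (∀ n ≤ m, (p : S) ^ (n + s) ∣ WittVector.ghostComponent n x) := by
  classical
  have hp := (Fact.out : p.Prime)
  have hexp : ∀ n, WittVector.ghostComponent n x =
      ∑ j ∈ Finset.range (n + 1), (p : S) ^ j * x.coeff j ^ p ^ (n - j) := fun n => by
    rw [WittVector.ghostComponent_apply, wittPolynomial_eq_sum_C_mul_X_pow, map_sum]
    simp
  have hterm : ∀ n j, j < n → (p : S) ^ s ∣ x.coeff j → (p : S) ^ (n + s) ∣ (p : S) ^ j * x.coeff j ^ p ^ (n - j) := by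
    intro n j hj hd
    have h1 : n + s ≤ j + s * p ^ (n - j) := by
      obtain ⟨d, rfl⟩ : ∃ d, n = j + d := ⟨n - j, by omega⟩
      rw [Nat.add_sub_cancel_left]
      have h2 : d + 1 ≤ p ^ d := Nat.lt_pow_self hp.one_lt
      nlinarith
    refine (pow_dvd_pow _ h1).trans ?_
    rw [pow_add, pow_mul]
    exact mul_dvd_mul_left _ (pow_dvd_pow_of_dvd hd _)
  constructor
  · intro h n hn
    rw [hexp]
    refine Finset.dvd_sum fun j hj => ?_
    rcases lt_or_eq_of_le (Nat.le_of_lt_succ (Finset.mem_range.1 hj)) with hj' | rfl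
    · exact hterm n j hj' (h j (by omega))
    · rw [Nat.sub_self, pow_zero, pow_one, pow_add]
      exact mul_dvd_mul_left _ (h j hn)
  · intro h i hi
    induction i using Nat.strong_induction_on with
    | _ i ih =>
      have h1 := h i hi
      rw [hexp, Finset.sum_range_succ, Nat.sub_self, pow_zero, pow_one] at h1
      have h2 := (dvd_add_right (Finset.dvd_sum fun j hj => hterm i j (Finset.mem_range.1 hj)
        (ih j (Finset.mem_range.1 hj) (by have := Finset.mem_range.1 hj; omega)))).1 h1
      obtain ⟨c, hc⟩ := h2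
      refine ⟨c, ?_⟩
      have hcan : ∀ (k : ℕ) (y : S), (p : S) ^ k * y = 0 → y = 0 := by
        intro k
        induction k with
        | zero => simp
        | succ k ihk => intro y hy; rw [pow_succ, mul_assoc] at hy; exact hS y (ihk _ hy)
      refine sub_eq_zero.1 (hcan i _ ?_)
      rw [mul_sub, hc, pow_add]
      ring

end Groth.Agent.S14856
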