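import Groth.Statements.S14857
import Mathlib

set_option autoImplicit false
open CAlg

namespace Groth.Agent.S14857

/-- For a prime p, the Teichmüller representative [p^p] of the element p^p of the p-adic integers is
divisible by p in the ring of p-typical Witt vectors W(ℤ_p). -/
theorem result (p : ℕ) [Fact p.Prime] :
    (p : WittVector p ℤ_[p]) ∣ WittVector.teichmuller p ((p : ℤ_[p]) ^ p) := by
  set T := WittVector.teichmuller p ((p : ℤ_[p]))
  set z := T - (p : WittVector p ℤ_[p])
  have hz : z.coeff 0 = 0 := by
    show WittVector.constantCoeff z = 0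
    rw [map_sub, map_natCast]
    exact sub_eq_zero.mpr (WittVector.teichmuller_coeff_zero p _)
  have hV : z = WittVector.verschiebung (z.shift 1) := by
    rw [WittVector.verschiebung_shift z 0 (fun i hi => (show i = 0 by omega) ▸ hz)]
    ext i; simp [WittVector.shift]
  have hsq : (p : WittVector p ℤ_[p]) ∣ z * z := by
    refine ⟨WittVector.verschiebung (z.shift 1 * z.shift 1), ?_⟩
    conv_lhs => rw [hV]
    rw [← WittVector.verschiebung_mul_frobenius, WittVector.frobenius_verschiebung, ← mul_assoc, ← nsmul_eq_mul, mul_comm _ (p : WittVector p ℤ_[p]), ← nsmul_eq_mul, map_nsmul]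
  rw [map_pow]
  have h1 : (p : WittVector p ℤ_[p]) ∣ T ^ p - z ^ p := by
    refine dvd_trans ⟨1, ?_⟩ (sub_dvd_pow_sub_pow T z p)
    simp [z]
  have h2 : (p : WittVector p ℤ_[p]) ∣ z ^ p := by
    obtain ⟨k, hk⟩ := Nat.exists_eq_add_of_le (Fact.out : p.Prime).two_le
    have : z ^ p = z * z * z ^ k := by rw [← pow_two, ← pow_add, ← hk]
    rw [this]
    exact hsq.mul_right _
  simpa using dvd_add h1 h2

end Groth.Agent.S14857
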