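import Groth.Statements.S14859
import Mathlib
set_option backward.isDefEq.respectTransparency false
set_option backward.isDefEq.respectTransparency.types false

set_option autoImplicit false
universe u v w
open Disp

namespace Groth.Agent.S14859

/-- Let p be a prime, R a commutative ring with p-typical Witt vectors W = W(R), and (P, Q, F, V⁻¹) a
3n-display over R with a normal decomposition P = L ⊕ T, Q = L + I_R·T. Then V⁻¹ ⊕ F : L ⊕ T → P is
a Frobenius-linear isomorphism; stated here in the case where L and T are free with bases (l_i) and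
(t_j): the family consisting of the V⁻¹(l_i) and the F(t_j) is a basis of the W-module P, i.e. it is
linearly independent over W and spans P. -/
theorem result (p : ℕ) [Fact p.Prime] (R : Type u) [CommRing R]
    (P : Type v) [AddCommGroup P] [Module (WittVector p R) P] (D : W4c1extbt610.Display3n p R P)
    (L T : Submodule (WittVector p R) P) (hLT : IsCompl L T)
    (hQ : D.Q = L ⊔ W4c1extbt610.IV p R • T) (hLQ : L ≤ D.Q)
    (ιL ιT : Type w) (bL : Module.Basis ιL (WittVector p R) L) (bT : Module.Basis ιT (WittVector p R) T) :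
    LinearIndependent (WittVector p R)
        (Sum.elim (fun i : ιL => D.Vinv ⟨(bL i : P), hLQ (bL i).2⟩) (fun j : ιT => D.F (bT j : P))) ∧
      Submodule.span (WittVector p R)
        (Set.range (Sum.elim (fun i : ιL => D.Vinv ⟨(bL i : P), hLQ (bL i).2⟩) (fun j : ιT => D.F (bT j : P)))) = ⊤ := by
  classical
  let W := WittVector p R
  let g : ιL ⊕ ιT → P := Sum.elim (fun i : ιL => D.Vinv ⟨(bL i : P), hLQ (bL i).2⟩) (fun j : ιT => D.F (bT j : P))
  let b : Module.Basis (ιL ⊕ ιT) W P := (bL.prod bT).map (Submodule.prodEquivOfIsCompl L T hLT)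
  let f : P →ₗ[W] P := b.constr W g
  have hfg : ∀ k, f (b k) = g k := fun k => b.constr_basis W g k
  have hrange : LinearMap.range f = Submodule.span W (Set.range g) := b.constr_range W
  have hl : ∀ (x : L) (h : (x : P) ∈ D.Q), D.Vinv ⟨(x : P), h⟩ ∈ Submodule.span W (Set.range g) := by
    intro x
    induction bL.mem_span x using Submodule.span_induction with
    | mem z hz =>
      obtain ⟨i, rfl⟩ := hz
      intro h
      exact Submodule.subset_span ⟨Sum.inl i, rfl⟩
    | zero =>
      intro h
      rw [show (⟨((0 : L) : P), h⟩ : D.Q) = 0 from rfl, map_zero]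
      exact zero_mem _
    | add z z' _ _ hz hz' =>
      intro h
      rw [show (⟨((z + z' : L) : P), h⟩ : D.Q) = ⟨(z : P), hLQ z.2⟩ + ⟨(z' : P), hLQ z'.2⟩ from rfl, map_add]
      exact add_mem (hz _) (hz' _)
    | smul c z _ hz =>
      intro h
      rw [show (⟨((c • z : L) : P), h⟩ : D.Q) = c • ⟨(z : P), hLQ z.2⟩ from rfl, LinearMap.map_smulₛₗ]
      exact Submodule.smul_mem _ _ (hz _)
  have hF : ∀ x : T, D.F (x : P) ∈ Submodule.span W (Set.range g) := by
    intro x
    induction bT.mem_span x using Submodule.span_induction with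
    | mem z hz =>
      obtain ⟨i, rfl⟩ := hz
      exact Submodule.subset_span ⟨Sum.inr i, rfl⟩
    | zero => rw [Submodule.coe_zero, map_zero]; exact zero_mem _
    | add z z' _ _ hz hz' => rw [Submodule.coe_add, map_add]; exact add_mem hz hz'
    | smul c z _ hz => rw [Submodule.coe_smul, LinearMap.map_smulₛₗ]; exact Submodule.smul_mem _ _ hz
  have hIQ : ∀ c ∈ W4c1extbt610.IV p R, ∀ x : P, c • x ∈ D.Q := fun c hc x =>
    D.IV_smul_le (Submodule.smul_mem_smul hc Submodule.mem_top)
  have hIT : ∀ z ∈ W4c1extbt610.IV p R • T, ∀ h : z ∈ D.Q, D.Vinv ⟨z, h⟩ ∈ Submodule.span W (Set.range g) := by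
    intro z hz
    induction hz using Submodule.smul_induction_on' with
    | smul c hc x hx =>
      induction hc using Submodule.span_induction with
      | mem a ha =>
        obtain ⟨w, rfl⟩ := ha
        intro h
        rw [D.Vinv_verschiebung_smul w x]
        exact Submodule.smul_mem _ _ (hF ⟨x, hx⟩)
      | zero =>
        intro h
        rw [show (⟨(0 : W) • x, h⟩ : D.Q) = 0 from Subtype.ext (zero_smul _ _), map_zero]
        exact zero_mem _
      | add a a' ha ha' iha iha' =>
        intro h
        rw [show (⟨(a + a') • x, h⟩ : D.Q) = ⟨_, hIQ a ha x⟩ + ⟨_, hIQ a' ha' x⟩ from Subtype.ext (add_smul _ _ _),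
          map_add]
        exact add_mem (iha _) (iha' _)
      | smul a a' ha' iha' =>
        intro h
        rw [show (⟨(a • a') • x, h⟩ : D.Q) = a • ⟨_, hIQ a' ha' x⟩ from Subtype.ext (smul_assoc _ _ _),
          LinearMap.map_smulₛₗ]
        exact Submodule.smul_mem _ _ (iha' _)
    | add a ha a' ha' iha iha' =>
      intro h
      have hq : ∀ z ∈ W4c1extbt610.IV p R • T, z ∈ D.Q := fun z hz => hQ ▸ Submodule.mem_sup_right hz
      rw [show (⟨a + a', h⟩ : D.Q) = ⟨a, hq a ha⟩ + ⟨a', hq a' ha'⟩ from rfl, map_add]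
      exact add_mem (iha _) (iha' _)
  have hspan : Submodule.span W (Set.range g) = ⊤ := by
    rw [eq_top_iff, ← D.span_range_Vinv, Submodule.span_le]
    rintro _ ⟨⟨q, hq⟩, rfl⟩
    obtain ⟨l, hl', t, ht, rfl⟩ := Submodule.mem_sup.mp (hQ ▸ hq : q ∈ L ⊔ W4c1extbt610.IV p R • T)
    have htQ : t ∈ D.Q := hQ ▸ Submodule.mem_sup_right ht
    rw [show (⟨l + t, hq⟩ : D.Q) = ⟨l, hLQ hl'⟩ + ⟨t, htQ⟩ from rfl, map_add]
    exact add_mem (hl ⟨l, hl'⟩ _) (hIT t ht htQ)
  haveI := D.finite
  have hinj : Function.Injective f := OrzechProperty.injective_of_surjective_endomorphism f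
    (LinearMap.range_eq_top.mp (hrange.trans hspan))
  refine ⟨?_, hspan⟩
  have := b.linearIndependent.map' f (LinearMap.ker_eq_bot.mpr hinj)
  rwa [show f ∘ b = g from funext hfg] at this

end Groth.Agent.S14859
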