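import Groth.Statements.S16222
import Groth.Agent.DispLib.LevelOne
-- import your own Groth.Agent.* helpers here

set_option autoImplicit false
set_option backward.isDefEq.respectTransparency false
universe u v
open Disp

namespace Groth.Agent.S16222

/-- Let p be a prime and k a perfect ring of characteristic p, so that the Frobenius σ of W = W(k) is
bijective and W has no p-torsion. Let M be a projective Dieudonné module over k: a finitely
generated projective W-module with a σ-semilinear F : M → M and a σ⁻¹-semilinear V : M → M such that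
FV = VF = p. Then the reduction M/pM satisfies the level-one conditions: the preimage of pM under F
is VM + pM, the preimage of pM under V is FM + pM (so Ker F = Im V and Ker V = Im F on M/pM), and
M/VM, that is M/pM divided by the image of V, is a projective module over W/pW, which the first Witt
component identifies with k. -/
theorem result (p : ℕ) [Fact p.Prime] (k : Type u) [CommRing k]
    [CharP k p] [PerfectRing k p]
    (M : Type v) [AddCommGroup M] [Module (WittVector p k) M] [Module.Finite (WittVector p k) M] [Module.Projective (WittVector p k) M]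
    (F : M →ₛₗ[(WittVector.frobenius : WittVector p k →+* WittVector p k)] M)
    (V : M →ₛₗ[((WittVector.frobeniusEquiv p k).symm : WittVector p k →+* WittVector p k)] M)
    (hFV : ∀ m : M, F (V m) = (p : WittVector p k) • m) (hVF : ∀ m : M, V (F m) = (p : WittVector p k) • m) :
    ((Ideal.span {(p : WittVector p k)} • (⊤ : Submodule (WittVector p k) M)).comap F =
        Submodule.span (WittVector p k) (Set.range V) ⊔ Ideal.span {(p : WittVector p k)} • (⊤ : Submodule (WittVector p k) M) ∧
      (Ideal.span {(p : WittVector p k)} • (⊤ : Submodule (WittVector p k) M)).comap V =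
        Submodule.span (WittVector p k) (Set.range F) ⊔ Ideal.span {(p : WittVector p k)} • (⊤ : Submodule (WittVector p k) M)) ∧
    Module.Projective (WittVector p k ⧸ Ideal.span {(p : WittVector p k)})
      ((M ⧸ (Ideal.span {(p : WittVector p k)} • (⊤ : Submodule (WittVector p k) M))) ⧸
        Submodule.span (WittVector p k ⧸ Ideal.span {(p : WittVector p k)})
          (Set.range fun m : M => (Ideal.span {(p : WittVector p k)} • (⊤ : Submodule (WittVector p k) M)).mkQ (V m))) := by
  classical
  obtain ⟨N, π, hπ⟩ := Module.Finite.exists_fin' (WittVector p k) M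
  obtain ⟨i, hi⟩ := Module.projective_lifting_property π LinearMap.id hπ
  have hrec : ∀ x : M, x = ∑ j, i x j • π (Pi.single j 1) := fun x => by
    conv_lhs => rw [← LinearMap.id_apply (R := WittVector p k) x, ← hi, LinearMap.comp_apply,
      pi_eq_sum_univ' (i x), map_sum]
    simp only [map_smul]
  have hcan : ∀ x : M, (p : WittVector p k) • x = 0 → x = 0 := by
    intro x hx
    have h0 : ∀ j, i x j = 0 := fun j => by
      have h1 := congr_fun (congrArg i hx) j
      rw [map_smul, map_zero, Pi.smul_apply, smul_eq_mul, mul_comm] at h1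
      ext n
      have h2 := congrArg (fun z => WittVector.coeff z (n + 1)) h1
      simp only [WittVector.mul_charP_coeff_succ, Pi.zero_apply, WittVector.zero_coeff] at h2
      rw [WittVector.zero_coeff]
      exact (bijective_frobenius k p).1 (by rw [map_zero, frobenius_def, h2])
    rw [hrec x]
    simp [h0]
  have hpmem : ∀ x : M, (p : WittVector p k) • x ∈ Ideal.span {(p : WittVector p k)} • (⊤ : Submodule (WittVector p k) M) :=
    fun x => Submodule.smul_mem_smul (Ideal.mem_span_singleton_self _) Submodule.mem_top
  refine ⟨⟨le_antisymm (fun m hm => ?_) (sup_le ?_ ?_), le_antisymm (fun m hm => ?_) (sup_le ?_ ?_)⟩, ?_⟩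
  · obtain ⟨n, -, hn⟩ := (Submodule.mem_smul_pointwise_iff_exists _ _ _).1
      (Submodule.ideal_span_singleton_smul (p : WittVector p k) (⊤ : Submodule (WittVector p k) M) ▸ hm)
    have h1 : m = V n := by
      rw [← sub_eq_zero]
      apply hcan
      have h2 := congrArg V hn
      rw [map_smulₛₗ, hVF, map_natCast] at h2
      rw [smul_sub, h2, sub_self]
    exact Submodule.mem_sup_left (h1 ▸ Submodule.subset_span ⟨n, rfl⟩)
  · rw [Submodule.span_le]
    rintro _ ⟨n, rfl⟩
    rw [SetLike.mem_coe, Submodule.mem_comap, hFV]
    exact hpmem n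
  · rw [Submodule.smul_le]
    intro r hr x _
    obtain ⟨c, rfl⟩ := Ideal.mem_span_singleton'.1 hr
    rw [Submodule.mem_comap, map_smulₛₗ, map_mul, map_natCast, mul_comm, mul_smul]
    exact hpmem _
  · obtain ⟨n, -, hn⟩ := (Submodule.mem_smul_pointwise_iff_exists _ _ _).1
      (Submodule.ideal_span_singleton_smul (p : WittVector p k) (⊤ : Submodule (WittVector p k) M) ▸ hm)
    have h1 : m = F n := by
      rw [← sub_eq_zero]
      apply hcan
      have h2 := congrArg F hn
      rw [map_smulₛₗ, hFV, map_natCast] at h2
      rw [smul_sub, h2, sub_self]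
    exact Submodule.mem_sup_left (h1 ▸ Submodule.subset_span ⟨n, rfl⟩)
  · rw [Submodule.span_le]
    rintro _ ⟨n, rfl⟩
    rw [SetLike.mem_coe, Submodule.mem_comap, hVF]
    exact hpmem n
  · rw [Submodule.smul_le]
    intro r hr x _
    obtain ⟨c, rfl⟩ := Ideal.mem_span_singleton'.1 hr
    rw [Submodule.mem_comap, map_smulₛₗ, map_mul, map_natCast, mul_comm, mul_smul]
    exact hpmem _
  haveI := Groth.Agent.DispLib.projective_mod_smul_top (Ideal.span {(p : WittVector p k)})
    ((Algebra.linearMap (WittVector p k) (WittVector p k ⧸ Ideal.span {(p : WittVector p k)})).compLeft (Fin N) ∘ₗ i)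
    (fun j => π (Pi.single j 1)) (fun x c hc => by
      have : x - ∑ j, c j • π (Pi.single j 1) = ∑ j, (i x j - c j) • π (Pi.single j 1) := by
        simp only [sub_smul, Finset.sum_sub_distrib, ← hrec x]
      rw [this]
      exact Submodule.sum_mem _ fun j _ =>
        Submodule.smul_mem_smul (Ideal.Quotient.eq.1 (hc j).symm) Submodule.mem_top)
  refine Groth.Agent.DispLib.projective_mod_V F V hFV hVF fun Q hQ hpQ I hIQ hIp x hx => ?_
  have hc : ∀ y ∈ I • (⊤ : Submodule (WittVector p k) M), ∀ j, i y j ∈ I := fun y hy j => by
    refine Submodule.smul_induction_on hy (fun r hr v _ => ?_) (fun a b ha hb => ?_)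
    · rw [map_smul, Pi.smul_apply, smul_eq_mul]
      exact I.mul_mem_right _ hr
    · rw [map_add, Pi.add_apply]
      exact I.add_mem ha hb
  rw [hrec x]
  refine Submodule.sum_mem _ fun j _ => Submodule.smul_mem_smul (hIQ (hIp _ ?_)) Submodule.mem_top
  have h1 := hc _ hx j
  rwa [map_smul, Pi.smul_apply, smul_eq_mul] at h1

end Groth.Agent.S16222
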