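import Groth.Statements.S14863
import Groth.Agent.DispLib.Normal
import Groth.Agent.S16222
-- import your own Groth.Agent.* helpers here

set_option autoImplicit false
set_option backward.isDefEq.respectTransparency false
universe u v
open Disp

namespace Groth.Agent.S14863

/-- Let p be a prime and k a perfect commutative ring of characteristic p, so that the Frobenius σ of W
= W(k) is an automorphism. Let M be a Dieudonné module over k, that is, a projective W-module of
finite type with a σ-semilinear operator F and a σ⁻¹-semilinear operator V such that FV = VF = p.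
Then (M, VM, F, V⁻¹) is a 3n-display over k: there exists a 3n-display structure on the W-module M
whose distinguished submodule is exactly the image of V, whose Frobenius operator is F, and whose
operator V⁻¹ sends V m to m for every m. (The published statement is the equivalence of the category
of 3n-displays over k with that of Dieudonné modules, displays corresponding to topologically
nilpotent V; this row is the passage from a Dieudonné module to a 3n-display.) -/
theorem result (p : ℕ) [Fact p.Prime] (k : Type u) [CommRing k]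
    [CharP k p] [PerfectRing k p]
    (M : Type v) [AddCommGroup M] [Module (WittVector p k) M]
    [Module.Finite (WittVector p k) M] [Module.Projective (WittVector p k) M]
    (F : M →ₛₗ[(WittVector.frobenius : WittVector p k →+* WittVector p k)] M)
    (V : M →ₛₗ[((WittVector.frobeniusEquiv p k).symm : WittVector p k →+* WittVector p k)] M)
    (hFV : ∀ m : M, F (V m) = (p : WittVector p k) • m) (hVF : ∀ m : M, V (F m) = (p : WittVector p k) • m) :
    ∃ D : W4c1extbt610.Display3n p k M,
      D.F = F ∧ (∀ x : M, x ∈ D.Q ↔ x ∈ Set.range V) ∧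
        ∀ (m : M) (h : V m ∈ D.Q), D.Vinv ⟨V m, h⟩ = m := by
  classical
  have hp0 : IsNilpotent (p : k) := ⟨1, by simp⟩
  haveI := Groth.Agent.DispLib.isAdicComplete_of_isNilpotent hp0
  haveI := Groth.Agent.DispLib.isAdicComplete_IV (p := p) (R := k)
  have hV1 : ∀ y : WittVector p k, WittVector.verschiebung (WittVector.frobenius y) = y * (p : WittVector p k) :=
    fun y => WittVector.verschiebung_frobenius y
  have hIV : W4c1extbt610.IV p k = Ideal.span {(p : WittVector p k)} := by
    refine le_antisymm (fun x hx => ?_) ?_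
    · rw [Groth.Agent.DispLib.IV_eq_ker] at hx
      obtain ⟨y, rfl⟩ := Groth.Agent.DispLib.exists_eq_mul_p_of_coeff_zero x hx
      exact Ideal.mul_mem_right _ _ (Ideal.mem_span_singleton_self _)
    · rw [Ideal.span_le, Set.singleton_subset_iff, SetLike.mem_coe, Groth.Agent.DispLib.IV_eq_ker,
        RingHom.mem_ker, map_natCast]
      exact CharP.cast_eq_zero k p
  obtain ⟨N, π, hπ⟩ := Module.Finite.exists_fin' (WittVector p k) M
  obtain ⟨i, hi⟩ := Module.projective_lifting_property π LinearMap.id hπ
  have hcan : ∀ x : M, (p : WittVector p k) • x = 0 → x = 0 := by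
    intro x hx
    have h0 : ∀ j, i x j = 0 := fun j => by
      have h1 := congr_fun (congrArg i hx) j
      rw [map_smul, map_zero, Pi.smul_apply, smul_eq_mul, mul_comm] at h1
      ext n
      have h2 := congrArg (fun z => WittVector.coeff z (n + 1)) h1
      simp only [WittVector.mul_charP_coeff_succ, Pi.zero_apply, WittVector.zero_coeff] at h2
      rw [WittVector.zero_coeff]
      exact (bijective_frobenius k p).1 (by rw [map_zero, frobenius_def, h2])
    rw [← LinearMap.id_apply (R := WittVector p k) x, ← hi, LinearMap.comp_apply,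
      show i x = 0 from funext h0, map_zero]
  have hinj : Function.Injective V := fun a b hab => by
    rw [← sub_eq_zero]
    refine hcan _ ?_
    rw [← hFV, map_sub, hab, sub_self, map_zero]
  have hVs : ∀ (w : WittVector p k) (m : M), V (WittVector.frobenius w • m) = w • V m := fun w m => by
    rw [map_smulₛₗ]
    congr 1
    exact (WittVector.frobeniusEquiv p k).symm_apply_apply w
  let Q : Submodule (WittVector p k) M :=
    { carrier := Set.range V
      zero_mem' := ⟨0, map_zero V⟩
      add_mem' := by rintro _ _ ⟨a, rfl⟩ ⟨b, rfl⟩; exact ⟨a + b, map_add V a b⟩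
      smul_mem' := by rintro w _ ⟨a, rfl⟩; exact ⟨WittVector.frobenius w • a, hVs w a⟩ }
  have hpQ : W4c1extbt610.IV p k • (⊤ : Submodule (WittVector p k) M) ≤ Q := by
    rw [hIV, Submodule.smul_le]
    rintro r hr m -
    obtain ⟨c, rfl⟩ := Ideal.mem_span_singleton'.1 hr
    rw [mul_smul, ← hVF]
    exact Q.smul_mem c ⟨F m, rfl⟩
  have hex : ∀ q : Q, ∃ m, V m = q := fun q => q.2
  choose g hg using hex
  let Vi : Q →ₛₗ[(WittVector.frobenius : WittVector p k →+* WittVector p k)] M :=
    { toFun := g
      map_add' := fun a b => hinj (by rw [map_add, hg, hg, hg, Submodule.coe_add])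
      map_smul' := fun w a => hinj (by rw [hVs, hg, hg, Submodule.coe_smul]) }
  have hVi : ∀ (m : M) (h : V m ∈ Q), Vi ⟨V m, h⟩ = m := fun m h => hinj (hg _)
  have hnormal : ∃ L T : Submodule (WittVector p k) M, IsCompl L T ∧
      Q = L ⊔ W4c1extbt610.IV p k • T := by
    obtain ⟨-, hproj⟩ := Groth.Agent.S16222.result p k M F V hFV hVF
    haveI := hproj
    set Nm := Ideal.span {(p : WittVector p k)} • (⊤ : Submodule (WittVector p k) M) with hNm
    set Vb := Submodule.span (WittVector p k ⧸ Ideal.span {(p : WittVector p k)})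
      (Set.range fun m : M => Nm.mkQ (V m)) with hVb
    obtain ⟨s, hs⟩ := Module.projective_lifting_property Vb.mkQ LinearMap.id Vb.mkQ_surjective
    have hsQ : ∀ z, Vb.mkQ (s z) = z := fun z => LinearMap.congr_fun hs z
    let C : Submodule (WittVector p k) M :=
      { carrier := {m | Nm.mkQ m ∈ LinearMap.range s}
        zero_mem' := ⟨0, by rw [map_zero, map_zero]⟩
        add_mem' := fun {a b} ha hb => by
          show Nm.mkQ (a + b) ∈ LinearMap.range s
          rw [map_add]; exact Submodule.add_mem _ ha hb
        smul_mem' := fun w a ha => by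
          show Nm.mkQ (w • a) ∈ LinearMap.range s
          exact (LinearMap.range s).smul_mem (Ideal.Quotient.mk _ w) ha }
    have hNQ : Nm ≤ Q := by rw [hNm, ← hIV]; exact hpQ
    have hVbQ : ∀ z ∈ Vb, ∀ m, Nm.mkQ m = z → m ∈ Q := fun z hz => by
      refine Submodule.span_induction (p := fun z _ => ∀ m, Nm.mkQ m = z → m ∈ Q) ?_ ?_ ?_ ?_ hz
      · rintro _ ⟨a, rfl⟩ m hm
        change Nm.mkQ m = Nm.mkQ (V a) at hm
        rw [Submodule.mkQ_apply, Submodule.mkQ_apply, Submodule.Quotient.eq] at hm
        simpa using Q.add_mem (hNQ hm) ⟨a, rfl⟩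
      · intro m hm
        exact hNQ ((Submodule.Quotient.mk_eq_zero _).1 hm)
      · intro x y _ _ hx hy m hm
        obtain ⟨a, rfl⟩ := Nm.mkQ_surjective x
        obtain ⟨b, rfl⟩ := Nm.mkQ_surjective y
        rw [← map_add, Submodule.mkQ_apply, Submodule.mkQ_apply, Submodule.Quotient.eq] at hm
        simpa using Q.add_mem (hNQ hm) (Q.add_mem (hx a rfl) (hy b rfl))
      · intro r x _ hx m hm
        obtain ⟨a, rfl⟩ := Nm.mkQ_surjective x
        obtain ⟨w, rfl⟩ := Ideal.Quotient.mk_surjective r
        have hm' : Nm.mkQ m = Nm.mkQ (w • a) := hm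
        rw [Submodule.mkQ_apply, Submodule.mkQ_apply, Submodule.Quotient.eq] at hm'
        simpa using Q.add_mem (hNQ hm') (Q.smul_mem w (hx a rfl))
    refine Groth.Agent.DispLib.exists_decomposition _ Q C ?_ (le_antisymm ?_ (le_inf hpQ ?_))
    · rw [eq_top_iff]
      rintro m -
      obtain ⟨c, hc⟩ := Nm.mkQ_surjective (s (Vb.mkQ (Nm.mkQ m)))
      refine Submodule.mem_sup.2 ⟨m - c, ?_, c, ⟨_, hc.symm⟩, sub_add_cancel _ _⟩
      refine hVbQ _ ?_ _ rfl
      rw [← Submodule.Quotient.mk_eq_zero, ← Submodule.mkQ_apply, map_sub Nm.mkQ, hc, map_sub Vb.mkQ,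
        hsQ, sub_self]
    · rintro m ⟨⟨a, ha⟩, z, hz⟩
      rw [hIV]
      rw [← Submodule.Quotient.mk_eq_zero, ← Submodule.mkQ_apply, ← hz]
      have h1 : z = 0 := by
        rw [← hsQ z, hz, Submodule.mkQ_apply, Submodule.Quotient.mk_eq_zero, ← ha]
        exact Submodule.subset_span ⟨a, rfl⟩
      rw [h1, map_zero]
    · intro m hm
      rw [hIV] at hm
      show Nm.mkQ m ∈ LinearMap.range s
      rw [Submodule.mkQ_apply, (Submodule.Quotient.mk_eq_zero _).2 hm]
      exact Submodule.zero_mem _
  refine ⟨⟨Q, F, Vi, inferInstance, inferInstance, hpQ, hnormal, ?_, fun w x => hinj ?_⟩, rfl,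
    fun x => Iff.rfl, hVi⟩
  · rw [eq_top_iff]
    rintro m -
    exact Submodule.subset_span ⟨⟨V m, ⟨m, rfl⟩⟩, hVi m _⟩
  · show V (g _) = _
    rw [hg]
    show WittVector.verschiebung w • x = _
    obtain ⟨u, rfl⟩ := (WittVector.frobenius_bijective p k).2 w
    rw [hVs, hVF, hV1, mul_smul]

end Groth.Agent.S14863
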