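import Groth.Statements.S14864
import Groth.Agent.S14855
-- import your own Groth.Agent.* helpers here

set_option autoImplicit false
set_option backward.isDefEq.respectTransparency false
universe u
open CAlg

namespace Groth.Agent.S14864

/-- Let p be a prime and R a commutative ring in which p is nilpotent; write W = W(R) for the p-typical
Witt vectors, I ⊆ W for the kernel of the projection onto the zeroth component, and I_n ⊆ W for the
kernel of the truncation W → W_n(R). The p-adic topology on W equals its I-adic topology — every
power of the ideal pW contains some power of I and every power of I contains some power of pW — and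
this common topology is finer than the V-adic one: every I_n contains some power of pW. -/
theorem result (p : ℕ) [Fact p.Prime] (R : Type u) [CommRing R]
    (hp : IsNilpotent (p : R)) :
    (∀ n : ℕ, ∃ m : ℕ, (RingHom.ker (WittVector.constantCoeff : WittVector p R →+* R)) ^ m ≤ Ideal.span {(p : WittVector p R)} ^ n) ∧
      (∀ n : ℕ, ∃ m : ℕ, Ideal.span {(p : WittVector p R)} ^ m ≤ (RingHom.ker (WittVector.constantCoeff : WittVector p R →+* R)) ^ n) ∧
        ∀ n : ℕ, ∃ m : ℕ, Ideal.span {(p : WittVector p R)} ^ m ≤ RingHom.ker (WittVector.truncate (p := p) (R := R) n) := by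
  obtain ⟨c, hc⟩ := hp
  have hk : (Ideal.span {(p : WittVector p R)}) ^ c ≤
      RingHom.ker (WittVector.constantCoeff : WittVector p R →+* R) := by
    rw [Ideal.span_singleton_pow, Ideal.span_singleton_le_iff_mem, RingHom.mem_ker, map_pow, map_natCast, hc]
  refine ⟨fun n => ⟨n + 1, ?_⟩, fun n => ⟨c * n, ?_⟩, fun n => ⟨c * n, ?_⟩⟩
  · rw [Groth.Agent.S14855.ker_pow]
    exact Ideal.mul_le_left
  · rw [pow_mul]
    exact Ideal.pow_right_mono hk n
  · rw [Ideal.span_singleton_pow, Ideal.span_singleton_le_iff_mem]
    exact Groth.Agent.S14855.mem_ker_truncate_of_pow c hc n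

end Groth.Agent.S14864
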