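import Groth.Statements.S14865
import Groth.Agent.DispLib.Rigid
-- import your own Groth.Agent.* helpers here

set_option autoImplicit false
set_option backward.isDefEq.respectTransparency false
universe u v w z
open Disp

namespace Groth.Agent.S14865

/-- Let p be a prime and S → R a surjective homomorphism of commutative rings with kernel 𝔞, with p
nilpotent in S and with one exponent N such that a^N = 0 for every a ∈ 𝔞; let J = W(𝔞) denote the
kernel of the induced map W(S) → W(R) on p-typical Witt vectors. Let P_1 and P_2 be free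
W(S)-modules of finite rank, each with a Frobenius-semilinear endomorphism F_i which is an F-linear
isomorphism, i.e. carries a basis of P_i to a basis of P_i. A homomorphism of the reductions (W(R) ⊗
P_1, F̄_1) → (W(R) ⊗ P_2, F̄_2) is the class modulo J·P_2 of a W(S)-linear map α_0 : P_1 → P_2 with
F_2 α_0 ≡ α_0 F_1 modulo J·P_2; the assertion is that every such α_0 is congruent modulo J·P_2 to
exactly one W(S)-linear α : P_1 → P_2 satisfying F_2 α = α F_1. (The published statement has P_1,
P_2 finitely generated projective; this row takes them free with given finite bases.) -/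
theorem result (p : ℕ) [Fact p.Prime] (S R : Type u)
    [CommRing S] [CommRing R] (φ : S →+* R) (hφ : Function.Surjective φ) (hp : IsNilpotent (p : S))
    (N : ℕ) (hN : ∀ a : S, φ a = 0 → a ^ N = 0)
    (P₁ : Type v) [AddCommGroup P₁] [Module (WittVector p S) P₁]
    (P₂ : Type w) [AddCommGroup P₂] [Module (WittVector p S) P₂]
    (ι₁ ι₂ : Type z) [Finite ι₁] [Finite ι₂]
    (b₁ : Module.Basis ι₁ (WittVector p S) P₁) (b₂ : Module.Basis ι₂ (WittVector p S) P₂)
    (F₁ : P₁ →ₛₗ[(WittVector.frobenius : WittVector p S →+* WittVector p S)] P₁)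
    (F₂ : P₂ →ₛₗ[(WittVector.frobenius : WittVector p S →+* WittVector p S)] P₂)
    (hF₁ : LinearIndependent (WittVector p S) (fun i => F₁ (b₁ i)) ∧
      Submodule.span (WittVector p S) (Set.range fun i => F₁ (b₁ i)) = ⊤)
    (hF₂ : LinearIndependent (WittVector p S) (fun i => F₂ (b₂ i)) ∧
      Submodule.span (WittVector p S) (Set.range fun i => F₂ (b₂ i)) = ⊤)
    (α₀ : P₁ →ₗ[WittVector p S] P₂)
    (hα₀ : ∀ x : P₁, F₂ (α₀ x) - α₀ (F₁ x) ∈
      RingHom.ker (WittVector.map (p := p) φ) • (⊤ : Submodule (WittVector p S) P₂)) :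
    ∃! α : P₁ →ₗ[WittVector p S] P₂,
      (∀ x : P₁, α x - α₀ x ∈ RingHom.ker (WittVector.map (p := p) φ) • (⊤ : Submodule (WittVector p S) P₂)) ∧
        ∀ x : P₁, F₂ (α x) = α (F₁ x) := by
  obtain ⟨M, hM⟩ := Groth.Agent.DispLib.exists_iterate_frobenius_eq_zero φ hp N hN
  have hc : ∀ a ∈ RingHom.ker (WittVector.map (p := p) φ),
      WittVector.frobenius a ∈ RingHom.ker (WittVector.map (p := p) φ) := by
    intro a ha
    rw [RingHom.mem_ker] at ha ⊢
    ext n
    rw [WittVector.map_coeff, Groth.Agent.DispLib.coeff_frobenius_eq, WittVector.zero_coeff, map_add,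
      map_pow, ← WittVector.map_coeff, ha, WittVector.zero_coeff, zero_pow (Fact.out (p := p.Prime)).ne_zero,
      zero_add, map_mul]
    have : φ (MvPolynomial.aeval a.coeff (WittVector.frobeniusPolyAux p n)) = 0 :=
      Groth.Agent.DispLib.aeval_mem_of_constantCoeff (I := RingHom.ker φ) _
        (Groth.Agent.DispLib.constantCoeff_frobeniusPolyAux n) _ (fun i => by
          rw [RingHom.mem_ker, ← WittVector.map_coeff, ha, WittVector.zero_coeff])
    rw [this, mul_zero]
  have hbb : ∀ i, Module.Basis.mk hF₁.1 hF₁.2.ge i = F₁ (b₁ i) := fun i => Module.Basis.mk_apply _ _ i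
  obtain ⟨α, hα, hα'⟩ := Groth.Agent.DispLib.exists_lift WittVector.frobenius b₁ _ F₁ F₂ hbb hc hM α₀ hα₀
  refine ⟨α, ⟨hα, hα'⟩, fun β hβ => ?_⟩
  refine Groth.Agent.DispLib.lift_unique WittVector.frobenius b₁ _ F₁ F₂ hbb hM β α (fun x => ?_) hβ.2 hα'
  rw [← sub_sub_sub_cancel_right _ _ (α₀ x)]
  exact Submodule.sub_mem _ (hβ.1 x) (hα x)

end Groth.Agent.S14865
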