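import Groth.Statements.S14867
import Mathlib
import Groth.Agent.WittLiftLib.Basic

set_option autoImplicit false
universe u
open CAlg

namespace Groth.Agent.S14867

/-- Let p be a prime and S → R a surjective homomorphism of commutative rings such that every element of
its kernel 𝔞 is nilpotent and p is nilpotent in S; write J = W(𝔞) for the kernel of the induced
surjection W(S) → W(R) of rings of p-typical Witt vectors. Then finitely generated projective
modules lift along W(S) → W(R), uniquely up to isomorphism: for every finitely generated projective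
W(R)-module P there is a finitely generated projective W(S)-module P̃ together with a surjection P̃
→ P, semilinear over W(S) → W(R), whose kernel is J·P̃ (that is, an isomorphism W(R) ⊗_{W(S)} P̃ ≅
P); and for any two such pairs (P̃_1, π_1), (P̃_2, π_2) there is a W(S)-linear isomorphism P̃_1 ≅
P̃_2 compatible with π_1 and π_2. -/
theorem result (p : ℕ) [Fact p.Prime] (S R : Type u)
    [CommRing S] [CommRing R] (φ : S →+* R) (hφ : Function.Surjective φ)
    (hnil : ∀ a : S, φ a = 0 → IsNilpotent a) (hp : IsNilpotent (p : S))
    (P : Type u) [AddCommGroup P] [Module (WittVector p R) P]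
    [Module.Finite (WittVector p R) P] [Module.Projective (WittVector p R) P] :
    (∃ (P' : Type u) (_ : AddCommGroup P') (_ : Module (WittVector p S) P'),
        Module.Finite (WittVector p S) P' ∧ Module.Projective (WittVector p S) P' ∧
          ∃ π : P' →ₛₗ[WittVector.map (p := p) φ] P, Function.Surjective π ∧
            LinearMap.ker π = RingHom.ker (WittVector.map (p := p) φ) • (⊤ : Submodule (WittVector p S) P')) ∧
      ∀ (P₁ : Type u) [AddCommGroup P₁] [Module (WittVector p S) P₁]
        [Module.Finite (WittVector p S) P₁] [Module.Projective (WittVector p S) P₁]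
        (P₂ : Type u) [AddCommGroup P₂] [Module (WittVector p S) P₂]
        [Module.Finite (WittVector p S) P₂] [Module.Projective (WittVector p S) P₂]
        (π₁ : P₁ →ₛₗ[WittVector.map (p := p) φ] P) (π₂ : P₂ →ₛₗ[WittVector.map (p := p) φ] P),
        Function.Surjective π₁ →
          LinearMap.ker π₁ = RingHom.ker (WittVector.map (p := p) φ) • (⊤ : Submodule (WittVector p S) P₁) →
        Function.Surjective π₂ →
          LinearMap.ker π₂ = RingHom.ker (WittVector.map (p := p) φ) • (⊤ : Submodule (WittVector p S) P₂) →
        ∃ e : P₁ ≃ₗ[WittVector p S] P₂, ∀ x : P₁, π₂ (e x) = π₁ x := by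
  classical
  let Φ := WittVector.map (p := p) φ
  have hΦ : Function.Surjective Φ := WittVector.map_surjective φ hφ
  have hJ : RingHom.ker Φ ≤ Ideal.jacobson (⊥ : Ideal (WittVector p S)) := fun x hx => by
    refine Ideal.mem_jacobson_bot.2 fun y => Groth.Agent.WittLiftLib.isUnit_of_coeff_zero hp ?_
    change IsUnit (WittVector.constantCoeff (x * y + 1))
    rw [map_add, map_mul, map_one]
    refine IsNilpotent.isUnit_add_one ((Commute.all _ _).isNilpotent_mul_right ?_)
    refine hnil _ ?_
    change φ (x.coeff 0) = 0
    rw [← WittVector.map_coeff, RingHom.mem_ker.1 hx, WittVector.zero_coeff]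
  refine ⟨?_, ?_⟩
  · obtain ⟨m, f, g, hf, -, hfg⟩ := Module.Finite.exists_comp_eq_id_of_projective (WittVector p R) P
    let E := LinearMap.toMatrix' (g ∘ₗ f)
    have hE : E * E = E := by
      have h1 : (g ∘ₗ f) ∘ₗ (g ∘ₗ f) = g ∘ₗ f := by
        rw [LinearMap.comp_assoc, ← LinearMap.comp_assoc f g f, hfg, LinearMap.id_comp]
      rw [← LinearMap.toMatrix'_comp, h1]
    obtain ⟨F, hF, hFE⟩ := Groth.Agent.WittLiftLib.exists_idempotent_lift φ hφ hnil hp E hE
    let e : (Fin m → WittVector p S) →ₗ[WittVector p S] Fin m → WittVector p S := Matrix.toLin' F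
    have hee : ∀ v, e (e v) = e v := fun v => by
      rw [← LinearMap.comp_apply, ← Matrix.toLin'_mul, hF]
    let N := LinearMap.range e
    let r : (Fin m → WittVector p S) →ₗ[WittVector p S] N := e.rangeRestrict
    have hr : r ∘ₗ N.subtype = LinearMap.id := LinearMap.ext fun x => Subtype.ext (by
      obtain ⟨v, hv⟩ := x.2
      change e x.1 = x.1
      rw [← hv, hee])
    haveI : Module.Finite (WittVector p S) N := Module.Finite.of_surjective r e.surjective_rangeRestrict
    haveI : Module.Projective (WittVector p S) N := Module.Projective.of_split N.subtype r hr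
    have hmap : ∀ v : Fin m → WittVector p S, (fun i => Φ (e v i)) = g (f fun i => Φ (v i)) := fun v => by
      have h := congrArg (fun M => Matrix.toLin' M (fun i => Φ (v i))) hFE
      simp only [E, Matrix.toLin'_toMatrix', LinearMap.comp_apply] at h
      rw [← h]
      funext i
      simp only [e, Matrix.toLin'_apply]
      exact RingHom.map_mulVec Φ F v i
    let π : N →ₛₗ[Φ] P :=
      { toFun := fun x => f fun i => Φ (x.1 i)
        map_add' := fun x y => by
          rw [← map_add]; congr 1; funext i; simp
        map_smul' := fun c x => by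
          rw [← map_smul]; congr 1; funext i; simp }
    refine ⟨N, inferInstance, inferInstance, inferInstance, inferInstance, π, ?_, ?_⟩
    · intro q
      choose v hv using fun i => hΦ (g q i)
      refine ⟨r v, ?_⟩
      change f (fun i => Φ (e v i)) = q
      have hfg' : ∀ z, f (g z) = z := fun z => LinearMap.congr_fun hfg z
      rw [hmap, funext hv, hfg', hfg']
    · refine le_antisymm (fun x hx => ?_) (Submodule.smul_le.2 fun c hc x _ => ?_)
      · have hx' : f (fun i => Φ (x.1 i)) = 0 := hx
        have hfix : e x.1 = x.1 := congrArg Subtype.val (LinearMap.congr_fun hr x)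
        have hc : ∀ i, x.1 i ∈ RingHom.ker Φ := fun i => by
          have h := congrFun (hmap x.1) i
          rw [hfix, hx', map_zero] at h
          exact h
        have : x = ∑ i, x.1 i • r (Pi.single i 1) := by
          conv_lhs => rw [← LinearMap.id_apply (R := WittVector p S) x, ← hr, LinearMap.comp_apply, Submodule.subtype_apply,
            pi_eq_sum_univ' x.1, map_sum]
          simp only [map_smul]
        rw [this]
        exact Submodule.sum_mem _ fun i _ => Submodule.smul_mem_smul (hc i) trivial
      · rw [LinearMap.mem_ker, π.map_smulₛₗ, RingHom.mem_ker.1 hc, zero_smul]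
  · intro P₁ _ _ _ _ P₂ _ _ _ _ π₁ π₂ h₁ k₁ h₂ k₂
    have lift : ∀ (Q₁ : Type u) [AddCommGroup Q₁] [Module (WittVector p S) Q₁] [Module.Projective (WittVector p S) Q₁]
        (Q₂ : Type u) [AddCommGroup Q₂] [Module (WittVector p S) Q₂] [Module.Finite (WittVector p S) Q₂]
        (a : Q₁ →ₛₗ[Φ] P) (b : Q₂ →ₛₗ[Φ] P), Function.Surjective a → Function.Surjective b →
        LinearMap.ker b = RingHom.ker Φ • (⊤ : Submodule (WittVector p S) Q₂) →
        ∃ h : Q₁ →ₗ[WittVector p S] Q₂, (∀ x, b (h x) = a x) ∧ Function.Surjective h := by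
      intro Q₁ _ _ _ Q₂ _ _ _ a b ha hb kb
      letI : Module (WittVector p S) P := Module.compHom P Φ
      let a' : Q₁ →ₗ[WittVector p S] P := { toFun := a, map_add' := a.map_add, map_smul' := fun c x => a.map_smulₛₗ c x }
      let b' : Q₂ →ₗ[WittVector p S] P := { toFun := b, map_add' := b.map_add, map_smul' := fun c x => b.map_smulₛₗ c x }
      obtain ⟨h, hh⟩ := Module.projective_lifting_property b' a' hb
      have hh' : ∀ x, b (h x) = a x := fun x => LinearMap.congr_fun hh x
      refine ⟨h, hh', LinearMap.range_eq_top.1 (top_le_iff.1 ?_)⟩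
      refine Submodule.le_of_le_smul_of_le_jacobson_bot Module.Finite.fg_top hJ fun y _ => ?_
      obtain ⟨x, hx⟩ := ha (b y)
      refine Submodule.mem_sup.2 ⟨h x, ⟨x, rfl⟩, y - h x, ?_, by abel⟩
      rw [← kb, LinearMap.mem_ker, map_sub, hh', hx, sub_self]
    obtain ⟨h, hh, hs⟩ := lift P₁ P₂ π₁ π₂ h₁ h₂ k₂
    obtain ⟨h', -, hs'⟩ := lift P₂ P₁ π₂ π₁ h₂ h₁ k₁
    have hi : Function.Injective (h' ∘ₗ h) :=
      OrzechProperty.injective_of_surjective_endomorphism _ (hs'.comp hs)
    exact ⟨LinearEquiv.ofBijective h ⟨Function.Injective.of_comp (f := h') hi, hs⟩, hh⟩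


end Groth.Agent.S14867
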