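import Groth.Statements.S14869
import Mathlib

set_option autoImplicit false
universe u v w
open CAlg

namespace Groth.Agent.S14869

open TensorProduct in
/-- Let S → R be a surjective homomorphism of commutative rings, let π : P_1 → P_2 be a surjective
homomorphism of S-modules with P_2 projective, and let π̄ : R ⊗_S P_1 → R ⊗_S P_2 be its base
change. Then every R-linear section σ̄ of π̄ lifts to a section of π: there is an S-linear map σ :
P_2 → P_1 with π ∘ σ = id whose base change R ⊗_S σ is σ̄. -/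
theorem result (S R : Type u) [CommRing S] [CommRing R] [Algebra S R]
    (hSR : Function.Surjective (algebraMap S R))
    (P₁ : Type v) [AddCommGroup P₁] [Module S P₁]
    (P₂ : Type w) [AddCommGroup P₂] [Module S P₂] [Module.Projective S P₂]
    (π : P₁ →ₗ[S] P₂) (hπ : Function.Surjective π)
    (σ' : R ⊗[S] P₂ →ₗ[R] R ⊗[S] P₁) (hσ' : (π.baseChange R).comp σ' = LinearMap.id) :
    ∃ σ : P₂ →ₗ[S] P₁, π.comp σ = LinearMap.id ∧ σ.baseChange R = σ' := by
  let q₁ := TensorProduct.mk S R P₁ 1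
  let q₂ := TensorProduct.mk S R P₂ 1
  have hq₁ : Function.Surjective q₁ := TensorProduct.mk_surjective S P₁ R hSR
  obtain ⟨σ₀, hσ₀⟩ := Module.projective_lifting_property q₁ ((σ'.restrictScalars S).comp q₂) hq₁
  have hσ₀' : ∀ x, (1 : R) ⊗ₜ[S] σ₀ x = σ' (1 ⊗ₜ x) := fun x => LinearMap.congr_fun hσ₀ x
  let δ : P₂ →ₗ[S] LinearMap.ker q₂ := LinearMap.codRestrict _ (π.comp σ₀ - LinearMap.id) (fun x => by
    show (1 : R) ⊗ₜ[S] (π (σ₀ x) - x) = 0
    rw [TensorProduct.tmul_sub, ← LinearMap.baseChange_tmul, hσ₀', ← LinearMap.comp_apply, hσ', LinearMap.id_apply, sub_self])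
  have hk : ∀ y ∈ LinearMap.ker q₁, π y ∈ LinearMap.ker q₂ := fun y hy => by
    show (1 : R) ⊗ₜ[S] π y = 0
    rw [← LinearMap.baseChange_tmul, show (1 : R) ⊗ₜ[S] y = 0 from hy, map_zero]
  have hsurj : Function.Surjective (π.restrict hk) := by
    rintro ⟨x, hx⟩
    obtain ⟨y, rfl⟩ := hπ x
    have hy : π.lTensor R ((1 : R) ⊗ₜ[S] y) = 0 := hx
    obtain ⟨z, hz⟩ := ((lTensor_exact R (LinearMap.exact_subtype_ker_map π) hπ) _).mp hy
    obtain ⟨z, rfl⟩ := TensorProduct.mk_surjective S (LinearMap.ker π) R hSR z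
    refine ⟨⟨y - z, ?_⟩, Subtype.ext ?_⟩
    · show (1 : R) ⊗ₜ[S] (y - (z : P₁)) = 0
      rw [TensorProduct.tmul_sub, ← hz]; simp
    · show π (y - z) = π y
      rw [map_sub, show π z = 0 from z.2, sub_zero]
  obtain ⟨τ, hτ⟩ := Module.projective_lifting_property (π.restrict hk) δ hsurj
  refine ⟨σ₀ - (LinearMap.ker q₁).subtype.comp τ, LinearMap.ext fun x => ?_, ?_⟩
  · have : π (τ x : P₁) = π (σ₀ x) - x := congrArg Subtype.val (LinearMap.congr_fun hτ x)
    simp [this]
  · apply TensorProduct.AlgebraTensorModule.curry_injective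
    refine LinearMap.ext_ring (LinearMap.ext fun x => ?_)
    show (1 : R) ⊗ₜ[S] (σ₀ x - (τ x : P₁)) = σ' (1 ⊗ₜ x)
    rw [TensorProduct.tmul_sub, show (1 : R) ⊗ₜ[S] (τ x : P₁) = 0 from (τ x).2, sub_zero, hσ₀']

end Groth.Agent.S14869
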