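import Groth.Statements.S14871
import Groth.Agent.PLieLib.Basic

set_option autoImplicit false
universe u v
open PLie

namespace Groth.Agent.S14871

/-- Let `L` be a finite-dimensional Lie algebra over a field of characteristic `p` equipped with a
`p`-mapping `φ`. Then the solvable radical of `L` is stable under `φ` (it is a `p`-subalgebra). -/
theorem result
    (k : Type u) [Field k] (p : ℕ) [Fact p.Prime] [CharP k p]
    (L : Type v) [LieRing L] [LieAlgebra k L] [Module.Finite k L]
    (φ : PLie.PMap k p L) (x : L) (hx : x ∈ LieAlgebra.radical k L) :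
    φ x ∈ LieAlgebra.radical k L := by
  set r := LieAlgebra.radical k L with hr
  let C : LieIdeal k L :=
    { carrier := {a | ∀ y : L, ⁅y, a⁆ ∈ r}
      add_mem' := fun {a b} ha hb y => by rw [lie_add]; exact add_mem (ha y) (hb y)
      zero_mem' := fun y => by rw [lie_zero]; exact zero_mem _
      smul_mem' := fun c a ha y => by rw [lie_smul]; exact r.smul_mem c (ha y)
      lie_mem := fun {z a} ha y => lie_mem_right k L r y _ (ha z) }
  have hsol : LieAlgebra.IsSolvable C := by
    obtain ⟨n, hn⟩ := LieAlgebra.IsSolvable.solvable (R := k) (L := r)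
    rw [LieIdeal.derivedSeries_eq_bot_iff] at hn
    refine LieAlgebra.IsSolvable.mk (R := k) (k := n + 1) ?_
    rw [LieIdeal.derivedSeries_eq_bot_iff, LieAlgebra.derivedSeriesOfIdeal_add, eq_bot_iff, ← hn]
    apply LieAlgebra.derivedSeriesOfIdeal_mono
    rw [LieAlgebra.derivedSeriesOfIdeal_succ, LieAlgebra.derivedSeriesOfIdeal_zero, LieSubmodule.lieIdeal_oper_eq_span, LieSubmodule.lieSpan_le]
    rintro z ⟨⟨a, ha⟩, ⟨b, hb⟩, rfl⟩
    exact hb a
  have hC : C ≤ r := (LieAlgebra.LieIdeal.solvable_iff_le_radical k L C).1 hsol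
  apply hC
  intro y
  rw [← lie_skew, Groth.Agent.PLieLib.pmap_bracket, ← Nat.succ_pred_eq_of_pos (Fact.out : p.Prime).pos, pow_succ', Module.End.mul_apply]
  exact neg_mem (lie_mem_left k L r x _ hx)

end Groth.Agent.S14871
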