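import Groth.Statements.S14872
import Mathlib
-- import your own Groth.Agent.* helpers here

set_option autoImplicit false
universe u v
open PLie

namespace Groth.Agent.S14872

/-- Let `L` be a finite-dimensional Lie algebra over a field of characteristic `p` equipped with a
`p`-mapping `φ`, and let `N` be its nilradical, i.e. the ideal of `L` that is nilpotent as a Lie
ring and contains every ideal of `L` nilpotent as a Lie ring. Then `N` is stable under `φ` (it is a
`p`-subalgebra). (The nilradical is given here through its characterising property; it is not the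
largest submodule on which `L` acts nilpotently.) -/
theorem result
    (k : Type u) [Field k] (p : ℕ) [Fact p.Prime] [CharP k p]
    (L : Type v) [LieRing L] [LieAlgebra k L] [Module.Finite k L]
    (φ : PLie.PMap k p L) (N : LieIdeal k L) (hN : LieRing.IsNilpotent N)
    (hmax : ∀ I : LieIdeal k L, LieRing.IsNilpotent I → I ≤ N)
    (x : L) (hx : x ∈ N) : φ x ∈ N := by
  classical
  obtain ⟨m, hm⟩ : ∃ m, p = m + 1 := Nat.exists_eq_succ_of_ne_zero (Fact.out : p.Prime).ne_zero
  have had : ∀ y, ⁅φ x, y⁆ = (LieAlgebra.ad k L x ^ p) y := fun y => by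
    have h := LinearMap.congr_fun (φ.ad_map x) y
    rwa [LieAlgebra.ad_apply] at h
  have hadN : ∀ y, ⁅φ x, y⁆ ∈ N := fun y => by
    rw [had, hm, pow_succ', Module.End.mul_apply, LieAlgebra.ad_apply]
    exact lie_mem_left k L N x _ hx
  let I : LieIdeal k L :=
    { toSubmodule := N.toSubmodule ⊔ Submodule.span k {φ x}
      lie_mem := by
        intro z y hy
        obtain ⟨a, ha, b, hb, rfl⟩ := Submodule.mem_sup.mp hy
        obtain ⟨c, rfl⟩ := Submodule.mem_span_singleton.mp hb
        refine Submodule.mem_sup_left (show ⁅z, a + c • φ x⁆ ∈ N from ?_)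
        rw [lie_add, lie_smul, ← lie_skew z (φ x)]
        exact add_mem (N.lie_mem ha) (SMulMemClass.smul_mem c (neg_mem (hadN z))) }
  have hφI : φ x ∈ I :=
    show φ x ∈ N.toSubmodule ⊔ Submodule.span k {φ x} from
      Submodule.mem_sup_right (Submodule.mem_span_singleton_self _)
  let C : ℕ → LieSubmodule k N N := fun j => LieModule.lowerCentralSeries k N N j
  have hstep : ∀ (j : ℕ) (z : N), z ∈ C j → ∀ (a : N), ⁅a, z⁆ ∈ C (j + 1) := fun j z hz a => by
    show _ ∈ LieModule.lowerCentralSeries k N N (j + 1)
    rw [LieModule.lowerCentralSeries_succ]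
    exact LieSubmodule.lie_mem_lie (LieSubmodule.mem_top a) hz
  have key : ∀ (j : ℕ) (z : I), z ∈ LieModule.lowerCentralSeries k I I (j + 1) →
      ∃ w ∈ C j, (w : L) = (z : L) := by
    intro j
    induction j with
    | zero =>
      intro z hz
      refine ⟨⟨(z : L), ?_⟩, LieSubmodule.mem_top _, rfl⟩
      rw [LieModule.lowerCentralSeries_succ, ← LieSubmodule.mem_toSubmodule,
        LieSubmodule.lieIdeal_oper_eq_linear_span'] at hz
      induction hz using Submodule.span_induction with
      | mem z hz =>
        obtain ⟨a, -, b, -, rfl⟩ := hz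
        show ⁅(a : L), (b : L)⁆ ∈ N
        obtain ⟨a1, ha1, a2, ha2, e⟩ := Submodule.mem_sup.mp a.2
        obtain ⟨c, rfl⟩ := Submodule.mem_span_singleton.mp ha2
        rw [← e, add_lie, smul_lie]
        exact add_mem (lie_mem_left k L N a1 _ ha1) (SMulMemClass.smul_mem c (hadN _))
      | zero => exact zero_mem N
      | add a b _ _ ha hb => exact add_mem ha hb
      | smul c a _ ha => exact SMulMemClass.smul_mem c ha
    | succ j ih =>
      intro z hz
      rw [LieModule.lowerCentralSeries_succ, ← LieSubmodule.mem_toSubmodule,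
        LieSubmodule.lieIdeal_oper_eq_linear_span'] at hz
      induction hz using Submodule.span_induction with
      | mem z hz =>
        obtain ⟨a, -, b, hb, rfl⟩ := hz
        obtain ⟨w, hw, hwb⟩ := ih b hb
        obtain ⟨a1, ha1, a2, ha2, e⟩ := Submodule.mem_sup.mp a.2
        obtain ⟨c, rfl⟩ := Submodule.mem_span_singleton.mp ha2
        let X : N := ⟨x, hx⟩
        let w' : N := ((LieModule.toEnd k N N X) ^ m) w
        have hw' : w' ∈ C j := by
          have : ∀ i : ℕ, ((LieModule.toEnd k N N X) ^ i) w ∈ C j := fun i => by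
            induction i with
            | zero => simpa using hw
            | succ i ih =>
              rw [pow_succ', Module.End.mul_apply]
              exact (C j).lie_mem ih
          exact this m
        have hw'v : ((w' : N) : L) = ((LieAlgebra.ad k L x) ^ m) (b : L) := by
          have : ∀ i : ℕ, ((((LieModule.toEnd k N N X) ^ i) w : N) : L) = ((LieAlgebra.ad k L x) ^ i) (b : L) := fun i => by
            induction i with
            | zero => simpa using hwb
            | succ i ih =>
              rw [pow_succ', Module.End.mul_apply, pow_succ', Module.End.mul_apply, ← ih]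
              rfl
          exact this m
        refine ⟨⁅(⟨a1, ha1⟩ : N), w⁆ + c • ⁅X, w'⁆,
          add_mem (hstep j w hw _) (SMulMemClass.smul_mem c (hstep j w' hw' _)), ?_⟩
        show ⁅a1, (w : L)⁆ + c • ⁅x, (w' : L)⁆ = ⁅(a : L), (b : L)⁆
        rw [hwb, hw'v, ← e, add_lie, smul_lie, had (b : L), hm, pow_succ', Module.End.mul_apply,
          LieAlgebra.ad_apply]
      | zero => exact ⟨0, zero_mem _, rfl⟩
      | add a b _ _ ha hb =>
        obtain ⟨u, hu, hua⟩ := ha
        obtain ⟨v, hv, hvb⟩ := hb
        exact ⟨u + v, add_mem hu hv, by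
          show (u : L) + (v : L) = (a : L) + (b : L)
          rw [hua, hvb]⟩
      | smul c a _ ha =>
        obtain ⟨u, hu, hua⟩ := ha
        exact ⟨c • u, SMulMemClass.smul_mem c hu, by
          show c • (u : L) = c • (a : L)
          rw [hua]⟩
  obtain ⟨l, hl⟩ := (LieModule.isNilpotent_iff k N N).mp hN
  have hI : LieRing.IsNilpotent I := by
    show LieModule.IsNilpotent I I
    refine (LieModule.isNilpotent_iff k I I).mpr ⟨l + 1, ?_⟩
    rw [eq_bot_iff]
    intro z hz
    obtain ⟨w, hw, hwz⟩ := key l z hz
    rw [show C l = ⊥ from hl, LieSubmodule.mem_bot] at hw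
    rw [LieSubmodule.mem_bot]
    apply Subtype.ext
    rw [← hwz, hw]
    rfl
  exact hmax I hI hφI

end Groth.Agent.S14872
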