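import Groth.Statements.S14874
import Groth.Agent.S14872
import Mathlib
-- import your own Groth.Agent.* helpers here

set_option autoImplicit false
universe u v
open PLie

namespace Groth.Agent.S14874

/-- Let `L` be a finite-dimensional Lie algebra over a field of characteristic `p` equipped with a
`p`-mapping `φ`. Let `N` be the nilradical of `L` (the ideal nilpotent as a Lie ring that contains
every such ideal) and `P` its `p`-radical (the largest ideal stable under `φ` all of whose elements
are `p`-nilpotent). Then `N = P` if and only if the centre of `L` is contained in `P`. -/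
theorem result
    (k : Type u) [Field k] (p : ℕ) [Fact p.Prime] [CharP k p]
    (L : Type v) [LieRing L] [LieAlgebra k L] [Module.Finite k L]
    (φ : PLie.PMap k p L)
    (N : LieIdeal k L) (hN : LieRing.IsNilpotent N)
    (hNmax : ∀ I : LieIdeal k L, LieRing.IsNilpotent I → I ≤ N)
    (P : LieIdeal k L) (hPsub : ∀ x ∈ P, φ x ∈ P) (hPnil : ∀ x ∈ P, PLie.IsPNilpotent φ x)
    (hPmax : ∀ J : LieIdeal k L, (∀ x ∈ J, φ x ∈ J) → (∀ x ∈ J, PLie.IsPNilpotent φ x) → J ≤ P) :
    N = P ↔ LieAlgebra.center k L ≤ P := by
  classical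
  have hC : LieRing.IsNilpotent (LieAlgebra.center k L) := by
    haveI : IsLieAbelian (LieAlgebra.center k L) := inferInstance
    infer_instance
  refine ⟨fun h => h ▸ hNmax _ hC, fun hcP => le_antisymm ?_ (hNmax P ?_)⟩
  · refine hPmax N (fun x hx => Groth.Agent.S14872.result k p L φ N hN hNmax x hx) fun x hx => ?_
    haveI : LieModule.IsNilpotent N N := hN
    obtain ⟨c, hc⟩ := LieModule.exists_forall_pow_toEnd_eq_zero k N N
    have hcomp : ∀ (i : ℕ) (y : N), ((((LieModule.toEnd k N N ⟨x, hx⟩) ^ i) y : N) : L) = ((LieAlgebra.ad k L x) ^ i) (y : L) := by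
      intro i y
      induction i with
      | zero => rfl
      | succ i ih =>
        rw [pow_succ', Module.End.mul_apply, pow_succ', Module.End.mul_apply, ← ih]
        rfl
    have h0 : LieAlgebra.ad k L x ^ (c + 1) = 0 := by
      apply LinearMap.ext
      intro z
      have hz : ⁅x, z⁆ ∈ N := lie_mem_left k L N x z hx
      rw [pow_succ, Module.End.mul_apply, LieAlgebra.ad_apply, show ⁅x, z⁆ = ((⟨⁅x, z⁆, hz⟩ : N) : L) from rfl,
        ← hcomp, hc]
      rfl
    have hit : ∀ n : ℕ, LieAlgebra.ad k L (φ.toFun^[n] x) = LieAlgebra.ad k L x ^ p ^ n := by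
      intro n
      induction n with
      | zero => simp
      | succ n ih => rw [Function.iterate_succ_apply', φ.ad_map, ih, ← pow_mul, ← pow_succ]
    have hz : φ.toFun^[c + 1] x ∈ LieAlgebra.center k L := by
      rw [LieModule.mem_maxTrivSubmodule]
      intro y
      rw [← lie_skew, neg_eq_zero]
      have h1 := LinearMap.congr_fun (hit (c + 1)) y
      rw [LieAlgebra.ad_apply, pow_eq_zero_of_le (Nat.lt_pow_self (Fact.out : p.Prime).one_lt).le h0] at h1
      exact h1
    obtain ⟨m, hm⟩ := hPnil _ (hcP hz)
    exact ⟨m + (c + 1), by rw [Function.iterate_add_apply, hm]⟩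
  · show LieRing.IsNilpotent P
    refine (LieAlgebra.isNilpotent_iff_forall (R := k)).mpr fun x => ?_
    obtain ⟨n, hn⟩ := hPnil x x.2
    have hit : ∀ n : ℕ, LieAlgebra.ad k L (φ.toFun^[n] (x : L)) = LieAlgebra.ad k L (x : L) ^ p ^ n := by
      intro n
      induction n with
      | zero => simp
      | succ n ih => rw [Function.iterate_succ_apply', φ.ad_map, ih, ← pow_mul, ← pow_succ]
    have h0 := hit n
    rw [hn, map_zero] at h0
    refine ⟨p ^ n, ?_⟩
    have hcomp : ∀ (i : ℕ) (y : P), ((((LieAlgebra.ad k P x) ^ i) y : P) : L) = ((LieAlgebra.ad k L (x : L)) ^ i) (y : L) := by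
      intro i y
      induction i with
      | zero => rfl
      | succ i ih =>
        rw [pow_succ', Module.End.mul_apply, pow_succ', Module.End.mul_apply, ← ih]
        rfl
    apply LinearMap.ext
    intro y
    apply Subtype.ext
    rw [hcomp, ← h0]
    rfl

end Groth.Agent.S14874
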