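import Groth.Statements.S14875
import Mathlib

set_option autoImplicit false
universe u v
open PLie

namespace Groth.Agent.S14875

/-- Let `L` be a finite-dimensional Lie algebra over a field of characteristic `p` equipped with a
`p`-mapping `φ`, whose Killing form is non-degenerate. Let `U` and `H` be Lie subalgebras of `L`
such that `H` is the normaliser of `U`, `U` is the set of elements of `H` that lie in the solvable
radical of `H` and are `p`-nilpotent, and the orthogonal of `U` for the Killing form is closed under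
the bracket. Then `U` is the orthogonal of `H` for the Killing form. (The published statement is for
the Lie algebra of a reductive group over a field of characteristic `p` with its canonical
`p`-structure; this row states it for any finite-dimensional Lie algebra with a `p`-mapping.) -/
theorem result
    (k : Type u) [Field k] (p : ℕ) [Fact p.Prime] [CharP k p]
    (L : Type v) [LieRing L] [LieAlgebra k L] [Module.Finite k L]
    (φ : PLie.PMap k p L) (hκ : (killingForm k L).Nondegenerate)
    (U H : LieSubalgebra k L) (hH : H = U.normalizer)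
    (hU : ∀ x : L, x ∈ U ↔ ∃ hx : x ∈ H, (⟨x, hx⟩ : ↥H) ∈ LieAlgebra.radical k ↥H ∧ PLie.IsPNilpotent φ x)
    (hperp : ∀ a b : L, (∀ y ∈ U, killingForm k L a y = 0) → (∀ y ∈ U, killingForm k L b y = 0) →
      ∀ y ∈ U, killingForm k L ⁅a, b⁆ y = 0) :
    ∀ x : L, x ∈ U ↔ ∀ h ∈ H, killingForm k L h x = 0 := by
  classical
  -- every element of U acts nilpotently
  have hadn : ∀ x : L, PLie.IsPNilpotent φ x → IsNilpotent (LieAlgebra.ad k L x) := by
    rintro x ⟨n, hn⟩
    have : ∀ m, LieAlgebra.ad k L (φ.toFun^[m] x) = LieAlgebra.ad k L x ^ (p ^ m) := by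
      intro m
      induction m with
      | zero => simp
      | succ m ih => rw [Function.iterate_succ_apply', φ.ad_map, ih, ← pow_mul, ← pow_succ]
    exact ⟨p ^ n, by rw [← this, hn, map_zero]⟩
  haveI : LieModule.IsNilpotent U L := by
    refine (LieModule.isNilpotent_iff_forall (R := k)).2 fun x => ?_
    obtain ⟨_, _, hx⟩ := (hU x).1 x.2
    exact hadn x hx
  obtain ⟨N, hN⟩ := LieModule.IsNilpotent.nilpotent k U L
  let V : ℕ → Submodule k L := fun i => Nat.rec ⊤
    (fun _ W => Submodule.span k {z | ∃ u ∈ U, ∃ m ∈ W, ⁅u, m⁆ = z}) i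
  have hVW : ∀ i, V i ≤ (LieModule.lowerCentralSeries k U L i : LieSubmodule k U L).toSubmodule := by
    intro i
    induction i with
    | zero => intro z _; rw [LieModule.lowerCentralSeries_zero]; exact trivial
    | succ i ih =>
      refine Submodule.span_le.2 ?_
      rintro _ ⟨u, hu, m, hm, rfl⟩
      rw [LieModule.lowerCentralSeries_succ]
      exact LieSubmodule.lie_mem_lie (LieSubmodule.mem_top (⟨u, hu⟩ : U)) (ih hm)
  have hVh : ∀ h ∈ H, ∀ i, ∀ z ∈ V i, ⁅h, z⁆ ∈ V i := by
    intro h hh i
    induction i with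
    | zero => exact fun _ _ => trivial
    | succ i ih =>
      intro z hz
      refine Submodule.span_induction (p := fun z _ => ⁅h, z⁆ ∈ V (i + 1)) ?_ ?_ ?_ ?_ hz
      · rintro _ ⟨u, hu, m, hm, rfl⟩
        rw [leibniz_lie]
        rw [hH, LieSubalgebra.mem_normalizer_iff] at hh
        exact add_mem (Submodule.subset_span ⟨_, hh u hu, m, hm, rfl⟩)
          (Submodule.subset_span ⟨u, hu, _, ih m hm, rfl⟩)
      · rw [lie_zero]; exact zero_mem _
      · intro a b _ _ ha hb; rw [lie_add]; exact add_mem ha hb
      · intro c a _ ha; rw [lie_smul]; exact Submodule.smul_mem _ _ ha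
  have hκ0 : ∀ u ∈ U, ∀ h ∈ H, killingForm k L h u = 0 := by
    intro u hu h hh
    let T : Module.End k L := LieAlgebra.ad k L h ∘ₗ LieAlgebra.ad k L u
    have hT : ∀ i z, (T ^ i) z ∈ V i := by
      intro i
      induction i with
      | zero => exact fun _ => trivial
      | succ i ih =>
        intro z
        rw [pow_succ']
        exact hVh h hh (i + 1) _ (Submodule.subset_span ⟨u, hu, _, ih z, rfl⟩)
    have hnil : IsNilpotent T := ⟨N, LinearMap.ext fun z => by
      have := hVW N (hT N z)
      rw [hN] at this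
      simpa using this⟩
    rw [killingForm, LieModule.traceForm_apply_apply]
    exact (LinearMap.isNilpotent_trace_of_isNilpotent hnil).eq_zero
  have hrefl : (killingForm k L).IsRefl := (LieModule.traceForm_isSymm k L L).isRefl
  let Q : Submodule k L := (killingForm k L).orthogonal U.toSubmodule
  have hQ : ∀ a, a ∈ Q ↔ ∀ y ∈ U, killingForm k L a y = 0 := fun a =>
    ⟨fun h y hy => hrefl _ _ (h y hy), fun h y hy => hrefl _ _ (h y hy)⟩
  have hQQ : (killingForm k L).orthogonal Q = U.toSubmodule :=
    LinearMap.BilinForm.orthogonal_orthogonal hκ hrefl _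
  have hQH : ∀ q, q ∈ Q ↔ q ∈ H := by
    intro q
    refine ⟨fun hq => ?_, fun hq => (hQ q).2 fun y hy => hκ0 y hy q hq⟩
    rw [hH, LieSubalgebra.mem_normalizer_iff]
    intro u hu
    rw [← LieSubalgebra.mem_toSubmodule, ← hQQ]
    intro a ha
    show killingForm k L a ⁅q, u⁆ = 0
    rw [← LieModule.traceForm_apply_lie_apply]
    exact hperp a q ((hQ a).1 ha) ((hQ q).1 hq) u hu
  intro x
  rw [← LieSubalgebra.mem_toSubmodule, ← hQQ]
  exact ⟨fun hx h hh => hx h ((hQH h).2 hh), fun hx h hh => hx h ((hQH h).1 hh)⟩

end Groth.Agent.S14875
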