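import Groth.Statements.S14877
import Groth.Agent.AssocBundleLib.Torsor

set_option autoImplicit false
set_option backward.isDefEq.respectTransparency false
set_option backward.isDefEq.respectTransparency.types false
universe u
open CategoryTheory MonoidalCategory CartesianMonoidalCategory MonObj GrpObj AlgebraicGeometry CategoryTheory.Limits
open AlgGrp

namespace Groth.Agent.S14877

/-- Over an algebraically closed field k of characteristic zero, let G be an algebraic group (a smooth
k-group scheme of finite type) acting on a variety P (reduced, separated, of finite type over k),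
and let π : P → X be a geometric quotient by this action onto a variety X: π is invariant,
surjective and open, the map (g, p) ↦ (g·p, p) from G × P to P ×_X P is surjective on points, and
for every open U of X the sections of O_X over U are exactly the invariant sections of O_P over
π⁻¹U. Suppose the bundle is locally isotrivial: every point of X has an open neighbourhood U with a
finite étale surjective morphism U' → U and a morphism s : U' → P lifting U' → U → X such that (u,
g) ↦ g·s(u) exhibits U' × G as the fibre product U' ×_X P. Then the bundle is principal: (g, p) ↦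
(g·p, p) is an isomorphism of G × P onto P ×_X P, and π is flat. (The published definition of an
étale covering asks only for a finite étale morphism; this row also requires it to be surjective,
since an empty cover would make every bundle isotrivial.) -/
theorem result (k : Type u) [Field k] [IsAlgClosed k] [CharZero k]
    (G P X : Over (Spec (CommRingCat.of k))) [GrpObj G] [Smooth G.hom] [QuasiCompact G.hom]
    [LocallyOfFiniteType P.hom] [QuasiCompact P.hom] [IsSeparated P.hom] [IsReduced P.left]
    [LocallyOfFiniteType X.hom] [QuasiCompact X.hom] [IsSeparated X.hom] [IsReduced X.left]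
    (a : AlgGrp.Action G P) (π : P ⟶ X) (hinv : GIT.IsInvariant a π)
    (hq : Function.Surjective π.left.base ∧ IsOpenMap π.left.base ∧
      Function.Surjective (GIT.PsiY a π hinv).base ∧
      ∀ U : X.left.Opens, Function.Injective (π.left.app U) ∧
        Set.range (π.left.app U) = {f | GIT.IsInvSection a π U f})
    (hli : ∀ x : ↥X.left, ∃ (U : X.left.Opens) (_ : x ∈ U) (U' : Scheme.{u}) (φ : U' ⟶ ↑U)
      (_ : IsFinite φ) (_ : Etale φ) (_ : Surjective φ) (s : Over.mk (φ ≫ U.ι ≫ X.hom) ⟶ P),
      s.left ≫ π.left = φ ≫ U.ι ∧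
      IsPullback (fst (Over.mk (φ ≫ U.ι ≫ X.hom)) G).left (lift (snd (Over.mk (φ ≫ U.ι ≫ X.hom)) G) (fst (Over.mk (φ ≫ U.ι ≫ X.hom)) G ≫ s) ≫ a.act).left
        (φ ≫ U.ι) π.left) :
    IsIso (GIT.PsiY a π hinv) ∧ Flat π.left := by
  haveI : LocallyOfFiniteType G.hom := inferInstance
  haveI : Surjective π.left := ⟨hq.1⟩
  haveI : QuasiCompact (π.left ≫ X.hom) := by rw [Over.w π]; infer_instance
  haveI : QuasiCompact π.left := QuasiCompact.of_comp π.left X.hom
  choose U hU U' φ hf he hs' s hs hsq using hli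
  have hsup : iSup U = ⊤ := top_le_iff.mp fun x _ => TopologicalSpace.Opens.mem_iSup.mpr ⟨x, hU x⟩
  haveI : ∀ x, Flat (φ x) := fun x => haveI := he x; inferInstance
  have hcov : ∀ x, Groth.Agent.SchDesc.IsFpqc (φ x) := fun x => by
    haveI := hf x; haveI := hs' x
    exact Groth.Agent.SchDesc.IsFpqc.of_quasiCompact (φ x)
  have hflat : Flat π.left := by
    refine (IsZariskiLocalAtTarget.iff_of_iSup_eq_top (P := @Flat) U hsup).mpr fun x => ?_
    haveI := hcov x
    refine Groth.Agent.TorsorDesc.prop_of_isFpqc @Flat inferInstance (π.left ∣_ U x) (φ x) ?_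
    let T := Over.mk (φ x ≫ (U x).ι ≫ X.hom)
    let R := CategoryTheory.Limits.pullback (π.left ∣_ U x) (φ x)
    have h1 : IsPullback (CategoryTheory.Limits.pullback.fst (π.left ∣_ U x) (φ x) ≫ (π.left ⁻¹ᵁ U x).ι)
        (CategoryTheory.Limits.pullback.snd (π.left ∣_ U x) (φ x)) π.left (φ x ≫ (U x).ι) :=
      (IsPullback.of_hasPullback (π.left ∣_ U x) (φ x)).paste_horiz (isPullback_morphismRestrict π.left (U x)).flip
    rw [← h1.flip.isoIsPullback_hom_fst _ _ (hsq x)]
    haveI : Flat (fst T G).left := MorphismProperty.pullback_fst (P := @Flat) T.hom G.hom inferInstance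
    infer_instance
  haveI := hflat
  refine ⟨?_, hflat⟩
  let Ψ := GIT.PsiY a π hinv
  let PP := CategoryTheory.Limits.pullback π.left π.left
  let d : PP ⟶ X.left := CategoryTheory.Limits.pullback.fst π.left π.left ≫ π.left
  have key : ∀ (x : ↥X.left) {T : Over (Spec (CommRingCat.of k))} (v : T ⟶ Over.mk (φ x ≫ (U x).ι ≫ X.hom))
      (p : T ⟶ P), v.left ≫ φ x ≫ (U x).ι = p.left ≫ π.left →
      ∃ g : T ⟶ G, lift g (v ≫ s x) ≫ a.act = p ∧ ∀ g', lift g' (v ≫ s x) ≫ a.act = p → g' = g := by
    intro x T v p h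
    have hL := IsPullback.of_map_of_faithful (Over.forget (Spec (CommRingCat.of k)))
      (f := fst (Over.mk (φ x ≫ (U x).ι ≫ X.hom)) G)
      (g := lift (snd (Over.mk (φ x ≫ (U x).ι ≫ X.hom)) G) (fst (Over.mk (φ x ≫ (U x).ι ≫ X.hom)) G ≫ s x) ≫ a.act)
      (h := (Over.homMk (φ x ≫ (U x).ι) (Category.assoc _ _ _) : Over.mk (φ x ≫ (U x).ι ≫ X.hom) ⟶ X))
      (i := π) (hsq x)
    obtain ⟨w, hw1, hw2⟩ := hL.exists_lift v p (Over.OverMorphism.ext h)
    refine ⟨w ≫ snd _ G, ?_, fun g' hg' => ?_⟩
    · rw [← hw1, Category.assoc w, ← comp_lift_assoc, hw2]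
    · have e : lift v g' = w := hL.hom_ext (by rw [lift_fst, hw1]) (by
        rw [comp_lift_assoc, lift_snd, lift_fst_assoc, hw2, hg'])
      rw [← e, lift_snd]
  have hfib : ∀ (x : ↥X.left) (W' : Scheme.{u}) (jW : W' ⟶ PP) (vW : W' ⟶ U' x),
      vW ≫ φ x ≫ (U x).ι = jW ≫ d → IsIso (CategoryTheory.Limits.pullback.snd Ψ jW) := by
    intro x W' jW vW hv
    let T : Over (Spec (CommRingCat.of k)) := Over.mk (jW ≫ CategoryTheory.Limits.pullback.fst π.left π.left ≫ P.hom)
    have hcond : (jW ≫ CategoryTheory.Limits.pullback.fst π.left π.left) ≫ π.left =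
        (jW ≫ CategoryTheory.Limits.pullback.snd π.left π.left) ≫ π.left := by
      rw [Category.assoc, Category.assoc, CategoryTheory.Limits.pullback.condition]
    let p₁ : T ⟶ P := Over.homMk (jW ≫ CategoryTheory.Limits.pullback.fst π.left π.left) (Category.assoc _ _ _)
    let p₂ : T ⟶ P := Over.homMk (jW ≫ CategoryTheory.Limits.pullback.snd π.left π.left) (by
      show _ = jW ≫ CategoryTheory.Limits.pullback.fst π.left π.left ≫ P.hom
      rw [← Over.w π, ← Category.assoc, ← hcond]
      simp only [Category.assoc])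
    let v : T ⟶ Over.mk (φ x ≫ (U x).ι ≫ X.hom) := Over.homMk vW (by
      show vW ≫ φ x ≫ (U x).ι ≫ X.hom = jW ≫ CategoryTheory.Limits.pullback.fst π.left π.left ≫ P.hom
      rw [reassoc_of% hv, ← Over.w π]
      simp [d])
    obtain ⟨g₁, hg₁, -⟩ := key x v p₁ (by simpa [d, p₁, v] using hv)
    obtain ⟨g₂, hg₂, hu₂⟩ := key x v p₂ (by
      show vW ≫ φ x ≫ (U x).ι = (jW ≫ _) ≫ π.left
      rw [← hcond, hv, Category.assoc])
    let m : T ⟶ G ⊗ P := lift (g₁ * g₂⁻¹) p₂
    have hm : m ≫ a.act = p₁ := by
      simp only [m]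
      rw [← hg₂, ← AlgGrp.Action.lift_mul_act, inv_mul_cancel_right, hg₁]
    have hmΨ : m.left ≫ Ψ = jW := by
      apply CategoryTheory.Limits.pullback.hom_ext
      · rw [Category.assoc, show Ψ ≫ CategoryTheory.Limits.pullback.fst π.left π.left = a.act.left from
          CategoryTheory.Limits.pullback.lift_fst _ _ _, ← Over.comp_left, hm]
        rfl
      · rw [Category.assoc, show Ψ ≫ CategoryTheory.Limits.pullback.snd π.left π.left = (snd G P).left from
          CategoryTheory.Limits.pullback.lift_snd _ _ _, ← Over.comp_left, lift_snd]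
        rfl
    refine ⟨CategoryTheory.Limits.pullback.lift m.left (𝟙 _) (by rw [Category.id_comp]; exact hmΨ), ?_,
      CategoryTheory.Limits.pullback.lift_snd _ _ _⟩
    apply CategoryTheory.Limits.pullback.hom_ext
    · rw [Category.assoc, CategoryTheory.Limits.pullback.lift_fst, Category.id_comp]
      let q := CategoryTheory.Limits.pullback.snd Ψ jW
      let z := CategoryTheory.Limits.pullback.fst Ψ jW
      have hz : z ≫ Ψ = q ≫ jW := CategoryTheory.Limits.pullback.condition
      have hz1 : z ≫ a.act.left = q ≫ p₁.left := by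
        rw [show a.act.left = Ψ ≫ CategoryTheory.Limits.pullback.fst π.left π.left from
          (CategoryTheory.Limits.pullback.lift_fst _ _ _).symm, reassoc_of% hz]
        rfl
      have hz2 : z ≫ (snd G P).left = q ≫ p₂.left := by
        rw [show (snd G P).left = Ψ ≫ CategoryTheory.Limits.pullback.snd π.left π.left from
          (CategoryTheory.Limits.pullback.lift_snd _ _ _).symm, reassoc_of% hz]
        rfl
      have hzw : z ≫ (G ⊗ P).hom = q ≫ T.hom := by
        rw [← Over.w a.act, reassoc_of% hz1, Over.w p₁]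
      let Z : Over (Spec (CommRingCat.of k)) := Over.mk (q ≫ T.hom)
      let zO : Z ⟶ G ⊗ P := Over.homMk z hzw
      let qO : Z ⟶ T := Over.homMk q rfl
      have h1 : zO ≫ a.act = qO ≫ p₁ := Over.OverMorphism.ext hz1
      have h2 : zO ≫ snd G P = qO ≫ p₂ := Over.OverMorphism.ext hz2
      obtain ⟨g₃, hg₃, hu₃⟩ := key x (qO ≫ v) (qO ≫ p₁) (by
        show (q ≫ vW) ≫ φ x ≫ (U x).ι = (q ≫ jW ≫ _) ≫ π.left
        rw [Category.assoc, hv]
        simp [d])
      have ha := hu₃ ((zO ≫ fst G P) * (qO ≫ g₂)) (by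
        rw [AlgGrp.Action.lift_mul_act, Category.assoc, ← comp_lift_assoc, hg₂, ← h2, ← comp_lift_assoc,
          lift_fst_snd, Category.id_comp, h1])
      have hb := hu₃ (qO ≫ g₁) (by rw [Category.assoc, ← comp_lift_assoc, hg₁])
      have hfin : qO ≫ m = zO := by
        apply CartesianMonoidalCategory.hom_ext
        · rw [Category.assoc, lift_fst, MonObj.comp_mul, GrpObj.comp_inv, mul_inv_eq_iff_eq_mul, hb, ha]
        · rw [Category.assoc, lift_snd, h2]
      exact congrArg (fun m => m.left) hfin
    · rw [Category.assoc, CategoryTheory.Limits.pullback.lift_snd, Category.id_comp, Category.comp_id]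
  have hsupW : iSup (fun x => d ⁻¹ᵁ U x) = ⊤ := top_le_iff.mp fun z _ =>
    TopologicalSpace.Opens.mem_iSup.mpr ⟨d z, hU (d z)⟩
  refine (IsZariskiLocalAtTarget.iff_of_iSup_eq_top (P := MorphismProperty.isomorphisms Scheme.{u}) (fun x => d ⁻¹ᵁ U x) hsupW).mpr fun x => ?_
  haveI := hcov x
  let W := d ⁻¹ᵁ U x
  let l := CategoryTheory.Limits.pullback.fst (d ∣_ U x) (φ x)
  haveI : Groth.Agent.SchDesc.IsFpqc l := Groth.Agent.SchDesc.IsFpqc.of_isPullback
    (IsPullback.of_hasPullback (d ∣_ U x) (φ x)).flip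
  refine Groth.Agent.TorsorDesc.prop_of_isFpqc (MorphismProperty.isomorphisms Scheme.{u}) inferInstance (Ψ ∣_ W) l ?_
  haveI := hfib x _ (l ≫ W.ι) (CategoryTheory.Limits.pullback.snd (d ∣_ U x) (φ x)) (by
    rw [← reassoc_of% (CategoryTheory.Limits.pullback.condition (f := d ∣_ U x) (g := φ x)), morphismRestrict_ι]
    simp [l, W])
  have hbig : IsPullback (CategoryTheory.Limits.pullback.fst (Ψ ∣_ W) l ≫ (Ψ ⁻¹ᵁ W).ι)
      (CategoryTheory.Limits.pullback.snd (Ψ ∣_ W) l) Ψ (l ≫ W.ι) :=
    (IsPullback.of_hasPullback (Ψ ∣_ W) l).paste_horiz (isPullback_morphismRestrict Ψ W).flip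
  show IsIso (CategoryTheory.Limits.pullback.snd (Ψ ∣_ W) l)
  rw [← hbig.isoPullback_hom_snd]
  infer_instance

end Groth.Agent.S14877
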