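import Groth.Statements.S14878
import Groth.Agent.AssocBundleLib.QuotScheme
import Groth.Agent.GitQuot.Torsor
import Groth.Agent.FinGrpdLib.Perfect
import Groth.Agent.FpqcDesc.Basic
import Groth.Agent.FpqcDesc.Stalk
import Groth.Agent.ASp.PropDescend

set_option autoImplicit false
set_option backward.isDefEq.respectTransparency false
set_option backward.isDefEq.respectTransparency.types false
universe u
open CategoryTheory MonoidalCategory CartesianMonoidalCategory MonObj GrpObj AlgebraicGeometry CategoryTheory.Limits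
open AlgGrp

namespace Groth.Agent.S14878

/-- Over an algebraically closed field k of characteristic zero, let G be a connected algebraic group (a
smooth connected k-group scheme of finite type), let H be an algebraic subgroup of G (a smooth
closed subgroup scheme, j : H → G), and let H act on a variety X (reduced, separated, of finite type
over k) in which every finite set of points is contained in an affine open subset. Let H act on G ×
X by h·(g, x) = (g·h⁻¹, h·x). Then this action has a geometric quotient q : G × X → Q with Q a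
variety: q is invariant, surjective and open, the map (h, y) ↦ (h·y, y) from H × (G × X) to (G × X)
×_Q (G × X) is surjective on points, and over every open U of Q the sections of O_Q are exactly the
invariant sections over q⁻¹U. Moreover the H-bundle G × X → Q is principal, that is (h, y) ↦ (h·y,
y) is an isomorphism onto (G × X) ×_Q (G × X) and q is flat, and it is locally isotrivial: every
point of Q has an open neighbourhood U with a finite étale surjective U' → U and a morphism s : U' →
G × X lifting U' → U → Q such that (u, h) ↦ h·s(u) exhibits U' × H as the fibre product U' ×_Q (G ×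
X). -/
theorem result (k : Type u) [Field k] [IsAlgClosed k] [CharZero k]
    (G H X : Over (Spec (CommRingCat.of k))) [GrpObj G] [Smooth G.hom] [QuasiCompact G.hom]
    [ConnectedSpace ↥G.left] [GrpObj H] (j : H ⟶ G) [IsMonHom j] [IsClosedImmersion j.left] [Smooth H.hom]
    [LocallyOfFiniteType X.hom] [QuasiCompact X.hom] [IsSeparated X.hom] [IsReduced X.left]
    (hF : ∀ F : Finset ↥X.left, ∃ U : X.left.Opens, IsAffineOpen U ∧ (↑F : Set ↥X.left) ⊆ (U : Set ↥X.left))
    (aX : AlgGrp.Action H X) (b : AlgGrp.Action H (G ⊗ X))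
    (hb : ∀ (T : Over (Spec (CommRingCat.of k))) (h : T ⟶ H) (g : T ⟶ G) (x : T ⟶ X),
      lift h (lift g x) ≫ b.act = lift (g * (h ≫ j)⁻¹) (lift h x ≫ aX.act)) :
    ∃ (Q : Over (Spec (CommRingCat.of k))) (q : G ⊗ X ⟶ Q) (hinv : GIT.IsInvariant b q),
      (LocallyOfFiniteType Q.hom ∧ QuasiCompact Q.hom ∧ IsSeparated Q.hom ∧ IsReduced Q.left) ∧
      (Function.Surjective q.left.base ∧ IsOpenMap q.left.base ∧
        Function.Surjective (GIT.PsiY b q hinv).base ∧
        ∀ U : Q.left.Opens, Function.Injective (q.left.app U) ∧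
          Set.range (q.left.app U) = {f | GIT.IsInvSection b q U f}) ∧
      (IsIso (GIT.PsiY b q hinv) ∧ Flat q.left) ∧
      ∀ y : ↥Q.left, ∃ (U : Q.left.Opens) (_ : y ∈ U) (U' : Scheme.{u}) (φ : U' ⟶ ↑U)
        (_ : IsFinite φ) (_ : Etale φ) (_ : Surjective φ) (s : Over.mk (φ ≫ U.ι ≫ Q.hom) ⟶ G ⊗ X),
        s.left ≫ q.left = φ ≫ U.ι ∧
        IsPullback (fst (Over.mk (φ ≫ U.ι ≫ Q.hom)) H).left (lift (snd (Over.mk (φ ≫ U.ι ≫ Q.hom)) H) (fst (Over.mk (φ ≫ U.ι ≫ Q.hom)) H ≫ s) ≫ b.act).left
          (φ ≫ U.ι) q.left := by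
  haveI : LocallyOfFiniteType G.hom := inferInstance
  obtain ⟨B, π, hBs, hBl, hBq, hπf, hπp, hπ⟩ := Groth.Agent.AssocBundle.exists_coset_quotient j
  haveI := hBs; haveI := hBl; haveI := hBq; haveI := hπf; haveI := hπp
  haveI : QuasiCompact (π.left ≫ B.hom) := by rw [Over.w π]; infer_instance
  haveI : QuasiCompact π.left := QuasiCompact.of_comp π.left B.hom
  have hms := fun y : B.left => Groth.Agent.AssocBundle.exists_multisection j hπ y
  have hbeq := Groth.Agent.AssocBundle.equivariant_fst (Groth.Agent.AssocBundle.cosetAction j)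
    (fun T h g => Groth.Agent.AssocBundle.lift_cosetAction j h g) aX b hb
  obtain ⟨Qd⟩ := Groth.Agent.AssocBundle.nonempty_quot hπ b hbeq hms hF
  obtain ⟨Q, q, r, hqr, hsq, hqf, hq⟩ :=
    Groth.Agent.AssocBundle.exists_quotient_of_quot hπ (fst G X) b hbeq Qd
  haveI := hqf
  have e : CategoryTheory.Limits.pullback.snd r.left π.left =
      (CategoryTheory.Limits.pullbackSymmetry r.left π.left).hom ≫ hsq.isoPullback.inv ≫ (fst G X).left := by
    rw [hsq.isoPullback_inv_fst, CategoryTheory.Limits.pullbackSymmetry_hom_comp_fst]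
  haveI : LocallyOfFiniteType (fst G X).left :=
    MorphismProperty.pullback_fst (P := @LocallyOfFiniteType) G.hom X.hom ‹_›
  haveI : QuasiCompact (fst G X).left :=
    MorphismProperty.pullback_fst (P := @QuasiCompact) G.hom X.hom ‹_›
  haveI : IsSeparated (fst G X).left :=
    MorphismProperty.pullback_fst (P := @IsSeparated) G.hom X.hom ‹_›
  haveI : LocallyOfFiniteType r.left := Groth.Agent.TorsorDesc.prop_of_isFpqc @LocallyOfFiniteType
    inferInstance r.left π.left (by rw [e]; infer_instance)
  haveI : QuasiCompact r.left := Groth.Agent.TorsorDesc.prop_of_isFpqc @QuasiCompact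
    Groth.Agent.FpqcDesc.quasiCompact_descends r.left π.left (by rw [e]; infer_instance)
  haveI : IsSeparated r.left := Groth.Agent.TorsorDesc.prop_of_isFpqc @IsSeparated
    Groth.Agent.FpqcDesc.isSeparated_descends r.left π.left (by rw [e]; infer_instance)
  haveI : QuasiCompact q.left := MorphismProperty.of_isPullback hsq ‹QuasiCompact π.left›
  haveI : LocallyOfFinitePresentation q.left := MorphismProperty.of_isPullback hsq ‹LocallyOfFinitePresentation π.left›
  haveI : IsReduced G.left := Groth.Agent.ASp.isReduced_of_smooth G.hom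
  haveI : IsReduced (G ⊗ X).left := Groth.Agent.FinGrpdLib.isReduced_pullback (Iso.refl _) G.hom X.hom
  haveI : IsReduced Q.left := Groth.Agent.FlatDescStalk.isReduced_of_flat_surjective q.left
  have hl : IsPullback b.act.left (snd H (G ⊗ X)).left q.left q.left := hq.map (Over.forget _)
  haveI hiso : IsIso (GIT.PsiY b q hq.w) := by
    rw [show GIT.PsiY b q hq.w = hl.isoPullback.hom from
      CategoryTheory.Limits.pullback.hom_ext (by simp [GIT.PsiY]) (by simp [GIT.PsiY])]
    infer_instance
  have hgq := Groth.Agent.GitTorsor.isGeomQuot_of_principal b q hq.w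
  refine ⟨Q, q, hq.w, ⟨?_, ?_, ?_, inferInstance⟩, ⟨hgq.surj, q.left.isOpenMap, hgq.orbit, hgq.sections⟩,
    ⟨hiso, inferInstance⟩, fun y => ?_⟩
  · rw [← Over.w r]; infer_instance
  · rw [← Over.w r]; infer_instance
  · rw [← Over.w r]; infer_instance
  obtain ⟨UB, hy, -, U', φ, s, hφf, hφe, hφs, hs⟩ := hms (r.left y)
  haveI := hφf; haveI := hφe; haveI := hφs
  let φ' := CategoryTheory.Limits.pullback.snd φ (r.left ∣_ UB)
  have hcond : (CategoryTheory.Limits.pullback.fst φ (r.left ∣_ UB) ≫ s) ≫ π.left =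
      (φ' ≫ (r.left ⁻¹ᵁ UB).ι) ≫ r.left := by
    rw [Category.assoc, hs, ← Category.assoc, CategoryTheory.Limits.pullback.condition, Category.assoc,
      Category.assoc, morphismRestrict_ι]
  let s' := hsq.lift (CategoryTheory.Limits.pullback.fst φ (r.left ∣_ UB) ≫ s) (φ' ≫ (r.left ⁻¹ᵁ UB).ι) hcond
  have hs'q : s' ≫ q.left = φ' ≫ (r.left ⁻¹ᵁ UB).ι := hsq.lift_snd _ _ _
  have hs'w : s' ≫ (G ⊗ X).hom = φ' ≫ (r.left ⁻¹ᵁ UB).ι ≫ Q.hom := by
    rw [← Over.w q, reassoc_of% hs'q]
  let so : Over.mk (φ' ≫ (r.left ⁻¹ᵁ UB).ι ≫ Q.hom) ⟶ G ⊗ X := Over.homMk s' hs'w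
  refine ⟨r.left ⁻¹ᵁ UB, hy, _, φ', inferInstance, inferInstance, inferInstance, so, hs'q, ?_⟩
  have h := (Groth.Agent.AssocBundle.isPullback_trivial hq so).map (Over.forget _)
  have e' : ((Over.forget (Spec (CommRingCat.of k))).map (so ≫ q)) = φ' ≫ (r.left ⁻¹ᵁ UB).ι := hs'q
  rw [e'] at h
  exact h

end Groth.Agent.S14878
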