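import Groth.Statements.S14879
-- import your own Groth.Agent.* helpers here

set_option autoImplicit false
universe u
open Finset
open AlgGrp

namespace Groth.Agent.S14879

section Pairing

open Equiv

variable {k : Type u} [CommRing k]

theorem sum_minor_mul_minor {p r : ℕ} (M : Matrix (Fin (p + r)) (Fin (p + r)) k)
    (a : Fin p → Fin (p + r)) (b : Fin r → Fin (p + r)) :
    ∑ σ : Perm (Fin (p + r)), (((Perm.sign σ : ℤˣ) : ℤ) : k) *
      (M.submatrix a (σ ∘ Fin.castAdd r)).det * (M.submatrix b (σ ∘ Fin.natAdd p)).det =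
    ((p.factorial * r.factorial : ℕ) : k) * (M.submatrix (Fin.append a b) id).det := by
  set N := M.submatrix (Fin.append a b) id with hN
  let γ : Perm (Fin p) → Perm (Fin r) → Perm (Fin (p + r)) :=
    fun α β => finSumFinEquiv.permCongr (sumCongr α β)
  have hγ : ∀ (α : Perm (Fin p)) (β : Perm (Fin r)),
      Perm.sign (γ α β) = Perm.sign α * Perm.sign β := fun α β => by
    simp [γ, Perm.sign_permCongr, Perm.sign_sumCongr]
  have key : ∀ (α : Perm (Fin p)) (β : Perm (Fin r)),
      ∑ σ : Perm (Fin (p + r)), (((Perm.sign σ : ℤˣ) : ℤ) : k) *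
        ((((Perm.sign α : ℤˣ) : ℤ) : k) * ∏ i, M (a (α i)) (σ (Fin.castAdd r i))) *
        ((((Perm.sign β : ℤˣ) : ℤ) : k) * ∏ i, M (b (β i)) (σ (Fin.natAdd p i))) = N.det := by
    intro α β
    rw [← Matrix.det_transpose N, Matrix.det_apply']
    refine Fintype.sum_equiv (Equiv.mulRight (γ α β)⁻¹) _ _ fun σ => ?_
    simp only [Equiv.coe_mulRight, Perm.sign_mul, Perm.sign_inv, hγ]
    have hprod : ∏ j, N.transpose ((σ * (γ α β)⁻¹) j) j =
        (∏ i, M (a (α i)) (σ (Fin.castAdd r i))) * ∏ i, M (b (β i)) (σ (Fin.natAdd p i)) := by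
      have h1 : ∀ x, γ α β (Fin.castAdd r x) = Fin.castAdd r (α x) := fun x => by
        simp [γ, Equiv.permCongr_apply]
      have h2 : ∀ x, γ α β (Fin.natAdd p x) = Fin.natAdd p (β x) := fun x => by
        simp [γ, Equiv.permCongr_apply]
      rw [← Equiv.prod_comp (γ α β) fun j => N.transpose ((σ * (γ α β)⁻¹) j) j, Fin.prod_univ_add]
      have h3 : ∀ z, (σ * (γ α β)⁻¹) (γ α β z) = σ z := fun z =>
        congrArg σ ((γ α β).symm_apply_apply z)
      simp only [h3]
      simp [hN, h1, h2]
    rw [hprod]
    push_cast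
    ring
  calc _ = ∑ σ : Perm (Fin (p + r)), ∑ α : Perm (Fin p), ∑ β : Perm (Fin r),
        (((Perm.sign σ : ℤˣ) : ℤ) : k) *
        ((((Perm.sign α : ℤˣ) : ℤ) : k) * ∏ i, M (a (α i)) (σ (Fin.castAdd r i))) *
        ((((Perm.sign β : ℤˣ) : ℤ) : k) * ∏ i, M (b (β i)) (σ (Fin.natAdd p i))) := by
        refine Finset.sum_congr rfl fun σ _ => ?_
        simp only [Matrix.det_apply', Matrix.submatrix_apply, Function.comp_apply, Finset.mul_sum,
          Finset.sum_mul]
        rw [Finset.sum_comm]
    _ = ∑ α : Perm (Fin p), ∑ β : Perm (Fin r), N.det := by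
        rw [Finset.sum_comm]
        refine Finset.sum_congr rfl fun α _ => ?_
        rw [Finset.sum_comm]
        exact Finset.sum_congr rfl fun β _ => key α β
    _ = _ := by
        simp [Fintype.card_perm, Finset.sum_const]
        ring

/-- The sign of the shuffle listing `A` before its complement. -/
theorem sign_shuffle {p r : ℕ} (A : Finset (Fin (p + r))) (hA : A.card = p) (hB : Aᶜ.card = r)
    (ρ : Perm (Fin (p + r))) (h₁ : ∀ i, ρ (Fin.castAdd r i) = A.orderEmbOfFin hA i)
    (h₂ : ∀ i, ρ (Fin.natAdd p i) = Aᶜ.orderEmbOfFin hB i) :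
    ((Perm.sign ρ : ℤˣ) : ℤ) = (-1) ^ ((A ×ˢ Aᶜ).filter fun ab => ab.2 < ab.1).card := by
  rw [Perm.sign_eq_prod_prod_Iio, Units.coe_prod]
  simp only [Units.coe_prod, apply_ite ((↑) : ℤˣ → ℤ), Units.val_one, Units.val_neg]
  rw [Finset.prod_sigma', Finset.prod_ite, Finset.prod_const_one, one_mul, Finset.prod_const]
  congr 1
  refine Finset.card_bij (fun x _ => (ρ x.2, ρ x.1)) ?_ ?_ ?_
  · rintro ⟨j, i⟩ hji
    simp only [Finset.mem_filter, Finset.mem_sigma, Finset.mem_univ, Finset.mem_Iio, true_and] at hji
    obtain ⟨hij, hlt⟩ := hji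
    have hlt' : ρ j < ρ i := lt_of_le_of_ne (not_lt.1 hlt) fun h => hij.ne' (ρ.injective h)
    simp only [Finset.mem_filter, Finset.mem_product]
    induction i using Fin.addCases with
    | left i =>
      induction j using Fin.addCases with
      | left j =>
        rw [h₁, h₁] at hlt'
        exact absurd ((A.orderEmbOfFin hA).lt_iff_lt.1 hlt') (not_lt.2 (le_of_lt hij))
      | right j =>
        rw [h₁, h₂] at hlt' ⊢
        exact ⟨⟨A.orderEmbOfFin_mem hA i, Aᶜ.orderEmbOfFin_mem hB j⟩, hlt'⟩
    | right i =>
      induction j using Fin.addCases with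
      | left j =>
        exact absurd hij (not_lt.2 (le_of_lt (Fin.lt_def.2 (by simp; omega))))
      | right j =>
        rw [h₂, h₂] at hlt'
        exact absurd ((Aᶜ.orderEmbOfFin hB).lt_iff_lt.1 hlt')
          (not_lt.2 (le_of_lt ((Fin.natAdd_lt_natAdd_iff p).1 hij)))
  · rintro ⟨j, i⟩ _ ⟨j', i'⟩ _ h
    obtain ⟨h1, h2⟩ := Prod.mk.inj h
    obtain rfl : i = i' := ρ.injective h1
    obtain rfl : j = j' := ρ.injective h2
    rfl
  · rintro ⟨x, y⟩ hxy
    simp only [Finset.mem_filter, Finset.mem_product] at hxy
    obtain ⟨⟨hx, hy⟩, hlt⟩ := hxy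
    obtain ⟨i, hi⟩ : x ∈ Set.range (A.orderEmbOfFin hA) := by
      rw [Finset.range_orderEmbOfFin]; exact hx
    obtain ⟨j, hj⟩ : y ∈ Set.range (Aᶜ.orderEmbOfFin hB) := by
      rw [Finset.range_orderEmbOfFin]; exact hy
    have hij : Fin.castAdd r i < Fin.natAdd p j := Fin.lt_def.2 (by simp; omega)
    refine ⟨⟨Fin.natAdd p j, Fin.castAdd r i⟩, ?_, ?_⟩
    · simp only [Finset.mem_filter, Finset.mem_sigma, Finset.mem_univ, Finset.mem_Iio, true_and]
      refine ⟨hij, ?_⟩
      rw [h₁, h₂, hi, hj]
      exact not_lt.2 hlt.le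
    · simp only [h₁, h₂, hi, hj]

end Pairing


/-- Let k be a field of characteristic zero, n = p + r with p, r ≥ 1, M an n × n matrix over k, A a set
of p row indices and B a set of r row indices, both listed increasingly. For a permutation π of the
indices, with permutation matrix P_π, let Y_A(M·P_π) be the minor of M·P_π on the rows A and the
first p columns, and Z_B(M·P_π) the minor on the rows B and the last r columns. Then the sum over
all π of sign(π)·Y_A(M·P_π)·Z_B(M·P_π) equals p!·r!·(−1)^N·det M when B is the complement of A,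
where N is the number of pairs (a, b) with a in A, b outside A and b < a, and equals 0 otherwise.
Taking det M = 1 this says that the pairing (f, h) ↦ Σ_π sign(π) f(π) h(π) between the spans of the
left p-minors and of the right r-minors is invariant under left translation by matrices of
determinant one and pairs Y_A with the signed complementary minor to p!·r!. (The published statement
asserts that the two families of minors are dual bases for this pairing, that is, the value 1 in
place of p!·r!; the p!·r! permutations preserving the two column blocks each contribute the same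
signed term, so this row carries that factor, which is 1 only for n = 2.) -/
theorem result (k : Type u) [Field k] [CharZero k]
    (p r : ℕ) (hp : 1 ≤ p) (hr : 1 ≤ r) (M : Matrix (Fin (p + r)) (Fin (p + r)) k)
    (A : Finset (Fin (p + r))) (hA : A.card = p) (B : Finset (Fin (p + r))) (hB : B.card = r) :
    ∑ π : Equiv.Perm (Fin (p + r)), (((Equiv.Perm.sign π : ℤˣ) : ℤ) : k) *
      ((M * π.permMatrix k).submatrix (A.orderEmbOfFin hA) (Fin.castAdd r)).det *
      ((M * π.permMatrix k).submatrix (B.orderEmbOfFin hB) (Fin.natAdd p)).det =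
    if B = Aᶜ then ((p.factorial * r.factorial : ℕ) : k) *
      (-1 : k) ^ ((A ×ˢ Aᶜ).filter (fun ab => ab.2 < ab.1)).card * M.det else 0 := by
  classical
  set a := A.orderEmbOfFin hA
  set b := B.orderEmbOfFin hB
  have hsum : ∑ π : Equiv.Perm (Fin (p + r)), (((Equiv.Perm.sign π : ℤˣ) : ℤ) : k) *
      ((M * π.permMatrix k).submatrix a (Fin.castAdd r)).det *
      ((M * π.permMatrix k).submatrix b (Fin.natAdd p)).det =
      ((p.factorial * r.factorial : ℕ) : k) * (M.submatrix (Fin.append a b) id).det := by
    rw [← sum_minor_mul_minor M a b]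
    refine Fintype.sum_equiv (Equiv.inv _) _ _ fun π => ?_
    simp only [Equiv.inv_apply, Equiv.Perm.sign_inv]
    rw [show M * π.permMatrix k = M.submatrix id π.symm from PEquiv.mul_toMatrix_toPEquiv M π]
    simp only [Matrix.submatrix_submatrix, Function.id_comp]
    rfl
  rw [hsum]
  split_ifs with hBA
  · subst hBA
    have hinj : Function.Injective (Fin.append a b) := by
      intro i j h
      induction i using Fin.addCases with
      | left i =>
        induction j using Fin.addCases with
        | left j => simp only [Fin.append_left] at h; rw [a.injective h]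
        | right j =>
          simp only [Fin.append_left, Fin.append_right] at h
          exact absurd (h ▸ A.orderEmbOfFin_mem hA i) (Finset.mem_compl.1 (Aᶜ.orderEmbOfFin_mem hB j))
      | right i =>
        induction j using Fin.addCases with
        | left j =>
          simp only [Fin.append_left, Fin.append_right] at h
          exact absurd (h.symm ▸ A.orderEmbOfFin_mem hA j) (Finset.mem_compl.1 (Aᶜ.orderEmbOfFin_mem hB i))
        | right j => simp only [Fin.append_right] at h; rw [b.injective h]
    let ρ : Equiv.Perm (Fin (p + r)) := Equiv.ofBijective _ (Finite.injective_iff_bijective.1 hinj)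
    have hs := sign_shuffle A hA hB ρ (fun i => Fin.append_left _ _ i) (fun i => Fin.append_right _ _ i)
    rw [show Fin.append a b = ρ from rfl, Matrix.det_permute, hs]
    push_cast
    ring
  · obtain ⟨x, hxA, hxB⟩ : ∃ x, x ∈ A ∧ x ∈ B := by
      by_contra h
      push_neg at h
      refine hBA (Finset.eq_of_subset_of_card_le (fun x hx => Finset.mem_compl.2 fun hxA => h x hxA hx) ?_)
      rw [Finset.card_compl, Fintype.card_fin, hA, hB]; omega
    obtain ⟨i, hi⟩ : x ∈ Set.range a := by rw [Finset.range_orderEmbOfFin]; exact hxA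
    obtain ⟨j, hj⟩ : x ∈ Set.range b := by rw [Finset.range_orderEmbOfFin]; exact hxB
    rw [Matrix.det_zero_of_row_eq (i := Fin.castAdd r i) (j := Fin.natAdd p j)
      (Fin.ne_of_lt (Fin.lt_def.2 (by simp; omega))), mul_zero]
    funext c
    simp only [Matrix.submatrix_apply, Fin.append_left, Fin.append_right, hi, hj]

end Groth.Agent.S14879
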