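import Groth.Statements.S14885
-- import your own Groth.Agent.* helpers here

set_option autoImplicit false
set_option backward.isDefEq.respectTransparency false
universe u v
open CategoryTheory TopologicalSpace Opposite AlgebraicGeometry Topology
open AlgGrp

namespace Groth.Agent.S14885

/-- Let a group Γ act on a ringed space X (a topological space with a sheaf of rings) by automorphisms
τ_g, and let π : X → Y be a Γ-invariant morphism of ringed spaces which exhibits Y as the quotient
ringed space X/Γ: the underlying continuous map of π is a topological quotient map whose fibres are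
exactly the Γ-orbits, and for every open subset V of Y the ring map O_Y(V) → O_X(π⁻¹V) is injective
with image the sections s satisfying τ_g^♯(s) = s for all g. Then (Y, π) is a categorical quotient
for the action in the category of ringed spaces: every morphism of ringed spaces f : X → Z with f ∘
τ_g = f for all g (as morphisms of ringed spaces) factors uniquely as f = f̄ ∘ π. -/
theorem result (X Y : SheafedSpace CommRingCat.{u}) (Γ : Type v) [Group Γ]
    (τ : Γ →* Aut X) (π : X ⟶ Y) (hτ : ∀ g : Γ, (τ g).hom ≫ π = π)
    (h1 : IsQuotientMap π.hom.base)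
    (h2 : ∀ x x' : X, π.hom.base x = π.hom.base x' ↔ ∃ g : Γ, (τ g).hom.hom.base x = x')
    (h3 : ∀ V : Opens Y, Function.Injective (π.hom.c.app (op V)) ∧
      Set.range (π.hom.c.app (op V)) =
        {s | ∀ g : Γ, (τ g).hom.hom.c.app (op ((Opens.map π.hom.base).obj V)) s =
          X.presheaf.map (eqToHom (congrArg (fun f : X ⟶ Y => op ((Opens.map f.hom.base).obj V)) (hτ g).symm)) s})
    (Z : SheafedSpace CommRingCat.{u}) (f : X ⟶ Z) (hf : ∀ g : Γ, (τ g).hom ≫ f = f) :
    ∃! fbar : Y ⟶ Z, π ≫ fbar = f := by
  have hconst : Function.FactorsThrough f.hom.base π.hom.base := by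
    intro x x' hxx
    obtain ⟨g, rfl⟩ := (h2 x x').1 hxx
    exact (congrArg (fun m : X ⟶ Z => m.hom.base x) (hf g)).symm
  let β : Y.toPresheafedSpace.carrier ⟶ Z.toPresheafedSpace.carrier :=
    TopCat.ofHom (h1.lift f.hom.base.hom hconst)
  have hβ : π.hom.base ≫ β = f.hom.base := by
    ext x
    exact DFunLike.congr_fun (h1.lift_comp f.hom.base.hom hconst) x
  have hU : ∀ V : Opens Z, (Opens.map f.hom.base).obj V = (Opens.map π.hom.base).obj ((Opens.map β).obj V) :=
    fun V => by rw [← hβ]; rfl
  let fV : ∀ V : Opens Z, Z.presheaf.obj (op V) ⟶ X.presheaf.obj (op ((Opens.map π.hom.base).obj ((Opens.map β).obj V))) :=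
    fun V => f.hom.c.app (op V) ≫ X.presheaf.map (eqToHom (congrArg op (hU V)))
  have hinv : ∀ (V : Opens Z) (r : Z.presheaf.obj (op V)),
      fV V r ∈ Set.range (π.hom.c.app (op ((Opens.map β).obj V))) := by
    intro V r
    rw [(h3 _).2]
    intro g
    have hg := PresheafedSpace.congr_app (congrArg InducedCategory.Hom.hom (hf g)) (op V)
    change f.hom.c.app (op V) ≫ (τ g).hom.hom.c.app (op ((Opens.map f.hom.base).obj V)) =
      f.hom.c.app (op V) ≫ X.presheaf.map _ at hg
    refine congrArg (fun m => m.hom r) (?_ : fV V ≫ (τ g).hom.hom.c.app _ = fV V ≫ X.presheaf.map _)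
    refine (Category.assoc _ _ _).trans ((congrArg (f.hom.c.app (op V) ≫ ·)
      ((τ g).hom.hom.c.naturality (eqToHom (congrArg op (hU V))))).trans ?_)
    refine (Category.assoc _ _ _).symm.trans ((congrArg (· ≫ _) hg).trans ?_)
    refine (Category.assoc _ _ _).trans (Eq.trans ?_ (Category.assoc _ _ _).symm)
    exact congrArg (f.hom.c.app (op V) ≫ ·) ((X.presheaf.map_comp _ _).symm.trans
      ((congrArg X.presheaf.map (Subsingleton.elim _ _)).trans (X.presheaf.map_comp _ _)))
  choose c hc using hinv
  let cH : ∀ V : Opens Z, Z.presheaf.obj (op V) ⟶ Y.presheaf.obj (op ((Opens.map β).obj V)) := fun V =>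
    CommRingCat.ofHom
      { toFun := c V
        map_one' := (h3 _).1 (by rw [hc, map_one, map_one])
        map_mul' := fun a b => (h3 _).1 (by rw [map_mul, hc, hc, hc, map_mul])
        map_zero' := (h3 _).1 (by rw [hc, map_zero, map_zero])
        map_add' := fun a b => (h3 _).1 (by rw [map_add, hc, hc, hc, map_add]) }
  have hcH : ∀ V, cH V ≫ π.hom.c.app (op ((Opens.map β).obj V)) = fV V := fun V =>
    CommRingCat.hom_ext (RingHom.ext (hc V))
  have cancel : ∀ {A : CommRingCat.{u}} (W : Opens Y) (a b : A ⟶ Y.presheaf.obj (op W)),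
      a ≫ π.hom.c.app (op W) = b ≫ π.hom.c.app (op W) → a = b := fun W a b h =>
    CommRingCat.hom_ext (RingHom.ext fun r => (h3 W).1 (congrArg (fun m => m.hom r) h))
  let nat : Z.presheaf ⟶ β _* Y.presheaf :=
    { app := fun V => cH V.unop
      naturality := fun V V' g => cancel _ _ _ (by
        refine (Category.assoc _ _ _).trans ((congrArg (Z.presheaf.map g ≫ ·) (hcH V'.unop)).trans ?_)
        refine Eq.trans ?_ ((Category.assoc _ _ _).trans
          (congrArg (cH V.unop ≫ ·) (π.hom.c.naturality ((Opens.map β).map g.unop).op))).symm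
        refine Eq.trans ?_ ((congrArg (· ≫ (π.hom.base _* X.presheaf).map _) (hcH V.unop)).symm.trans
          (Category.assoc _ _ _))
        refine ((Category.assoc _ _ _).symm.trans (congrArg (· ≫ _) (f.hom.c.naturality g))).trans ?_
        refine (Category.assoc _ _ _).trans (Eq.trans ?_ (Category.assoc _ _ _).symm)
        exact congrArg (f.hom.c.app V ≫ ·) ((X.presheaf.map_comp _ _).symm.trans
          ((congrArg X.presheaf.map (Subsingleton.elim _ _)).trans (X.presheaf.map_comp _ _)))) }
  refine ⟨InducedCategory.homMk ⟨β, nat⟩, ?_, ?_⟩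
  · refine InducedCategory.hom_ext (PresheafedSpace.ext _ _ hβ ?_)
    refine NatTrans.ext (funext fun V => ?_)
    refine Eq.trans (congrArg (· ≫ X.presheaf.map _) (hcH V.unop)) ?_
    refine (Category.assoc _ _ _).trans ((congrArg (f.hom.c.app V ≫ ·) ((X.presheaf.map_comp _ _).symm.trans
      ((congrArg X.presheaf.map (Subsingleton.elim _ (𝟙 _))).trans (X.presheaf.map_id _)))).trans
      (Category.comp_id _))
  · intro m hm
    obtain ⟨⟨βm, cm⟩⟩ := m
    have hβm : βm = β := by
      ext y
      obtain ⟨x, rfl⟩ := h1.surjective y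
      exact (congrArg (fun q : X ⟶ Z => q.hom.base x) hm).trans
        (congrArg (fun q : X.toPresheafedSpace.carrier ⟶ Z.toPresheafedSpace.carrier => q x) hβ).symm
    subst hβm
    refine InducedCategory.hom_ext (PresheafedSpace.ext _ _ rfl ?_)
    refine NatTrans.ext (funext fun V => ?_)
    refine Eq.trans ((congrArg (cm.app V ≫ ·) (Y.presheaf.map_id _)).trans (Category.comp_id _)) ?_
    refine cancel _ _ _ ?_
    refine Eq.trans ?_ (hcH V.unop).symm
    exact (PresheafedSpace.congr_app (congrArg InducedCategory.Hom.hom hm) V)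

end Groth.Agent.S14885
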