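import Groth.Statements.S14888
import Mathlib

set_option autoImplicit false
universe u
open CategoryTheory AlgebraicGeometry
open CAlg

namespace Groth.Agent.S14888

/-- Let R be a valuation ring whose spectrum is finite (finite height) and let f : X → Spec R be locally
of finite type with locally quasi-finite fibres. For every x ∈ X the canonical morphism Spec O_{X,x}
→ X is an open immersion, and the composite Spec O_{X,x} → Spec R is locally of finite type; in
particular O_{X,x} is finitely generated as an R-algebra. (The published statement takes X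
quasi-finite over Spec R; the assertions are local at x, so this row assumes only that X is locally
of finite type with discrete fibres.) -/
theorem result
    (R : Type u) [CommRing R] [IsDomain R] [ValuationRing R] [Finite (PrimeSpectrum R)]
    {X : Scheme.{u}} (f : X ⟶ Spec (CommRingCat.of R)) [LocallyOfFiniteType f] [LocallyQuasiFinite f]
    (x : X) :
    IsOpenImmersion (X.fromSpecStalk x) ∧ LocallyOfFiniteType (X.fromSpecStalk x ≫ f) := by
  classical
  obtain ⟨U, hU, hxU, -⟩ := exists_isAffineOpen_mem_and_subset (X := X) (x := x) (U := ⊤) trivial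
  haveI : QuasiCompact (U.ι ≫ f) := by
    haveI : CompactSpace (U : Scheme.{u}) := isCompact_iff_compactSpace.mp hU.isCompact
    infer_instance
  haveI hfinU : Finite ↥(U : Scheme.{u}) := by
    haveI : Finite ↥(Spec (CommRingCat.of R)) := ‹Finite (PrimeSpectrum R)›
    have h := (U.ι ≫ f).finite_preimage (Set.finite_univ (α := ↥(Spec (CommRingCat.of R))))
    rw [Set.preimage_univ] at h
    exact Set.finite_univ_iff.mp h
  haveI : Finite (PrimeSpectrum Γ(X, U)) := by
    have hmem : ∀ y : PrimeSpectrum Γ(X, U), hU.fromSpec y ∈ (U : Set X) := fun y => by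
      rw [← hU.range_fromSpec]; exact Set.mem_range_self y
    exact Finite.of_injective (β := ↥(U : Scheme.{u})) (fun y => (⟨hU.fromSpec y, hmem y⟩ : (U : Set X)))
      fun y z hyz => hU.fromSpec.isOpenEmbedding.injective (congrArg Subtype.val hyz)
  let p := hU.primeIdealOf ⟨x, hxU⟩
  let A := Γ(X, U)
  letI := TopCat.Presheaf.algebra_section_stalk X.presheaf ⟨x, hxU⟩
  haveI hloc : IsLocalization.AtPrime (X.presheaf.stalk x) p.asIdeal := hU.isLocalization_stalk ⟨x, hxU⟩
  haveI := Fintype.ofFinite (PrimeSpectrum A)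
  let bad := Finset.univ.filter fun q : PrimeSpectrum A => ¬ q.asIdeal ≤ p.asIdeal
  have hex : ∀ q : PrimeSpectrum A, ¬ q.asIdeal ≤ p.asIdeal → ∃ a, a ∈ q.asIdeal ∧ a ∉ p.asIdeal :=
    fun q hq => Set.not_subset.mp hq
  choose! a ha using hex
  let g : A := ∏ q ∈ bad, a q
  have hg : g ∉ p.asIdeal := fun h => by
    obtain ⟨q, hq, hq'⟩ := (Ideal.IsPrime.prod_mem_iff (p := p.asIdeal)).1 h
    exact (ha q (Finset.mem_filter.1 hq).2).2 hq'
  have hdvd : ∀ n ∈ p.asIdeal.primeCompl, ∃ m ∈ Submonoid.powers g, n ∣ m := by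
    intro n hn
    suffices h : g ∈ (Ideal.span {n}).radical by
      obtain ⟨l, hl⟩ := h
      exact ⟨g ^ l, ⟨l, rfl⟩, Ideal.mem_span_singleton.1 hl⟩
    rw [Ideal.radical_eq_sInf]
    refine Ideal.mem_sInf.2 ?_
    rintro q ⟨hnq, hq⟩
    have hbad : ¬ q ≤ p.asIdeal := fun h => hn (h (hnq (Ideal.mem_span_singleton_self n)))
    exact Ideal.mem_of_dvd q (Finset.dvd_prod_of_mem a (Finset.mem_filter.2 ⟨Finset.mem_univ ⟨q, hq⟩, hbad⟩))
      (ha ⟨q, hq⟩ hbad).1
  haveI hL : IsLocalization p.asIdeal.primeCompl (Localization.Away g) :=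
    IsLocalization.of_le_of_exists_dvd (Submonoid.powers g) p.asIdeal.primeCompl (Submonoid.powers_le.2 hg) hdvd
  haveI : IsLocalization.Away g (X.presheaf.stalk x) :=
    IsLocalization.isLocalization_of_algEquiv (Submonoid.powers g)
      (IsLocalization.algEquiv p.asIdeal.primeCompl (Localization.Away g) (X.presheaf.stalk x))
  have h0 := IsOpenImmersion.of_isLocalization (R := ↑Γ(X, U)) (S := ↑(X.presheaf.stalk x)) g
  have he : CommRingCat.ofHom (algebraMap ↑Γ(X, U) ↑(X.presheaf.stalk x)) = X.presheaf.germ U x hxU := by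
    ext z
    simp only [CommRingCat.hom_ofHom]
    rfl
  rw [he] at h0
  haveI h1 : IsOpenImmersion (Spec.map (X.presheaf.germ U x hxU)) := h0
  have h2 : IsOpenImmersion (X.fromSpecStalk x) := by
    rw [← hU.fromSpecStalk_eq_fromSpecStalk hxU]
    unfold IsAffineOpen.fromSpecStalk
    infer_instance
  exact ⟨h2, inferInstance⟩

end Groth.Agent.S14888
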