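import Groth.Statements.S14889
import Groth.Agent.EtaModLib.Descent
import Groth.Agent.NormalSch.Basic

set_option autoImplicit false
universe u
open CategoryTheory CategoryTheory.Limits AlgebraicGeometry
open FlatMor

namespace Groth.Agent.S14889

open CategoryTheory CategoryTheory.Limits AlgebraicGeometry

set_option backward.isDefEq.respectTransparency false
set_option backward.defeqAttrib.useBackward true
set_option linter.style.haveILetI false

set_option maxHeartbeats 1000000
set_option linter.unusedSectionVars false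

/-- The chart of a geometrically reduced morphism is geometrically reduced. -/
theorem geometricallyReduced_chart {X S : Scheme.{u}} (φ : X ⟶ S)
    (hred : ∀ (K : Type u) [Field K] (k : Spec (CommRingCat.of K) ⟶ S), IsReduced (pullback φ k))
    {V : S.Opens} (hV : IsAffineOpen V) {W : X.Opens} (hW : IsAffineOpen W) (e : W ≤ φ ⁻¹ᵁ V) :
    GeometricallyReduced (Spec.map (φ.appLE V W e)) := by
  refine ⟨fun L _ y Z a b H => ?_⟩
  have hw := hV.SpecMap_appLE_fromSpec φ hW e
  have houter : IsPullback a b (hW.fromSpec ≫ φ) (y ≫ hV.fromSpec) := by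
    rw [← hw]
    refine ⟨⟨by rw [reassoc_of% H.w]⟩, ⟨PullbackCone.IsLimit.mk _
      (fun s => H.lift s.fst s.snd ((cancel_mono hV.fromSpec).1 (by simpa using s.condition)))
      (fun s => H.lift_fst _ _ _) (fun s => H.lift_snd _ _ _)
      (fun s m h1 h2 => H.hom_ext (by rw [H.lift_fst]; exact h1) (by rw [H.lift_snd]; exact h2))⟩⟩
  let l : Z ⟶ pullback φ (y ≫ hV.fromSpec) :=
    pullback.lift (a ≫ hW.fromSpec) b (by rw [Category.assoc]; exact houter.w)
  have hl : IsPullback a l hW.fromSpec (pullback.fst φ (y ≫ hV.fromSpec)) :=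
    (IsPullback.of_right (h₁₁ := l) (h₁₂ := pullback.snd φ (y ≫ hV.fromSpec)) (v₁₁ := a)
      (v₁₂ := pullback.fst φ (y ≫ hV.fromSpec)) (v₁₃ := y ≫ hV.fromSpec) (h₂₁ := hW.fromSpec) (h₂₂ := φ)
      (by rw [pullback.lift_snd]; exact houter.flip) (pullback.lift_fst _ _ _)
      (IsPullback.of_hasPullback φ (y ≫ hV.fromSpec)).flip).flip
  haveI : IsOpenImmersion l := MorphismProperty.of_isPullback hl inferInstance
  haveI := hred L (y ≫ hV.fromSpec)
  exact isReduced_of_isOpenImmersion l

/-- Let S be integral, normal (all local rings integrally closed domains), quasi-compact and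
quasi-separated, with generic point η, and let φ : X → S be flat, locally of finite presentation,
quasi-compact and quasi-separated, with geometrically reduced fibres (every base change of φ to the
spectrum of a field is reduced). Let f : X' → X be a finite morphism which restricts to an
isomorphism over an open U ⊆ X that is schematically dense in X and whose preimage is schematically
dense in X', and whose base change to the generic fibre X_η = X ×_S Spec O_{S,η} is an isomorphism.
Then f is an isomorphism: X admits no non-trivial finite η-modification. -/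
theorem result
    {S X X' : Scheme.{u}} [IsIntegral S] [CompactSpace S] [QuasiSeparatedSpace S]
    (hS : Pi1.IsNormalScheme S) (φ : X ⟶ S) [Flat φ] [LocallyOfFinitePresentation φ]
    [QuasiCompact φ] [QuasiSeparated φ]
    (hred : ∀ (K : Type u) [Field K] (k : Spec (CommRingCat.of K) ⟶ S), IsReduced (pullback φ k))
    (f : X' ⟶ X) [IsFinite f] (U : X.Opens) (hU : IsSchemeTheoreticallyDominant U.ι)
    (hU' : IsSchemeTheoreticallyDominant (f ⁻¹ᵁ U).ι) (hfU : IsIso (f ∣_ U))
    (hη : IsIso (pullback.snd f (pullback.fst φ (S.fromSpecStalk (genericPoint S))))) :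
    IsIso f := by
  haveI := hU
  haveI := hU'
  haveI := hfU
  let v := S.fromSpecStalk (genericPoint S)
  let h : pullback φ v ⟶ X := pullback.fst φ v
  haveI : IsIso (pullback.snd f h) := hη
  haveI : IsDominant v := ⟨by
    show Dense (Set.range v)
    refine Dense.mono ?_ (dense_iff_closure_eq.2 (genericPoint_spec S))
    rintro x rfl
    exact ⟨IsLocalRing.closedPoint _, Scheme.fromSpecStalk_closedPoint⟩⟩
  haveI : IsSchemeTheoreticallyDominant v := IsSchemeTheoreticallyDominant.of_isDominant v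
  haveI : QuasiCompact v := quasiCompact_of_compactSpace v
  haveI : IsSchemeTheoreticallyDominant h := inferInstanceAs (IsSchemeTheoreticallyDominant (pullback.fst φ v))
  haveI : QuasiCompact h := MorphismProperty.pullback_fst _ _ inferInstance
  let g : pullback φ v ⟶ X' := inv (pullback.snd f h) ≫ pullback.fst f h
  have hgf : g ≫ f = h := by
    rw [Category.assoc, pullback.condition, IsIso.inv_hom_id_assoc]
  haveI : QuasiCompact g := by
    haveI : QuasiCompact (pullback.fst f h) := MorphismProperty.pullback_fst _ _ inferInstance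
    infer_instance
  haveI : IsSchemeTheoreticallyDominant g := by
    haveI : IsSchemeTheoreticallyDominant (h ∣_ U) :=
      IsSchemeTheoreticallyDominant.of_isPullback (isPullback_morphismRestrict h U).flip
    let j : (h ⁻¹ᵁ U).toScheme ⟶ X' := (h ∣_ U) ≫ inv (f ∣_ U) ≫ (f ⁻¹ᵁ U).ι
    have hj : j ≫ f = (h ⁻¹ᵁ U).ι ≫ h := by
      rw [Category.assoc, Category.assoc, ← morphismRestrict_ι f U, IsIso.inv_hom_id_assoc, morphismRestrict_ι]
    let l := pullback.lift (f := f) (g := h) j (h ⁻¹ᵁ U).ι hj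
    have hl : (h ⁻¹ᵁ U).ι ≫ g = j := by
      show _ ≫ inv (pullback.snd f h) ≫ pullback.fst f h = j
      rw [← pullback.lift_snd (f := f) (g := h) j (h ⁻¹ᵁ U).ι hj, Category.assoc, IsIso.hom_inv_id_assoc,
        pullback.lift_fst]
    refine ⟨le_antisymm ?_ bot_le⟩
    calc g.ker ≤ ((h ⁻¹ᵁ U).ι ≫ g).ker := Scheme.Hom.le_ker_comp _ _
      _ = ⊥ := by
          rw [hl]
          exact IsSchemeTheoreticallyDominant.ker_eq_bot j
  haveI : IsSchemeTheoreticallyDominant f := by
    refine ⟨le_antisymm ?_ bot_le⟩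
    calc f.ker ≤ (g ≫ f).ker := Scheme.Hom.le_ker_comp _ _
      _ = ⊥ := by
          rw [hgf]
          exact h.ker_eq_bot
  -- charts
  have hex : ∀ x : X, ∃ (V : S.Opens) (W : X.Opens), IsAffineOpen V ∧ IsAffineOpen W ∧ W ≤ φ ⁻¹ᵁ V ∧ x ∈ W := by
    intro x
    obtain ⟨V, hV, hxV, -⟩ := exists_isAffineOpen_mem_and_subset (TopologicalSpace.Opens.mem_top (φ x))
    obtain ⟨W, hW, hxW, hWV⟩ := exists_isAffineOpen_mem_and_subset (show x ∈ φ ⁻¹ᵁ V from hxV)
    exact ⟨V, W, hV, hW, hWV, hxW⟩
  choose V W hV hW e hx using hex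
  refine (IsZariskiLocalAtTarget.iff_of_iSup_eq_top (P := MorphismProperty.isomorphisms Scheme.{u}) W
    (top_unique fun x _ => TopologicalSpace.Opens.mem_iSup.2 ⟨x, hx x⟩)).2 fun x => ?_
  show IsIso (f ∣_ W x)
  rw [isIso_morphismRestrict_iff_isIso_app f (hW x), ConcreteCategory.isIso_iff_bijective]
  refine ⟨f.app_injective _, fun s => ?_⟩
  haveI : Nonempty (V x) := ⟨⟨φ x, e x (hx x)⟩⟩
  let α := φ.appLE (V x) (W x) (e x)
  letI : Algebra Γ(S, V x) Γ(X, W x) := α.hom.toAlgebra
  haveI : Module.Flat Γ(S, V x) Γ(X, W x) := φ.flat_appLE (hV x) (hW x) (e x)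
  haveI : Algebra.FinitePresentation Γ(S, V x) Γ(X, W x) :=
    LocallyOfFinitePresentation.finitePresentation_appLE (f := φ) (hV x) (hW x) (e x)
  haveI : GeometricallyReduced (Spec.map (CommRingCat.ofHom (algebraMap Γ(S, V x) Γ(X, W x)))) :=
    geometricallyReduced_chart φ hred (hV x) (hW x) (e x)
  haveI : IsIntegrallyClosed Γ(S, V x) := NormalSch.isIntegrallyClosed_section hS (V x)
  have hηV : genericPoint S ∈ V x :=
    ((genericPoint_spec S).mem_open_set_iff (V x).isOpen).mpr (by simpa using (inferInstance : Nonempty (V x)))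
  have hvV : ⊤ ≤ v ⁻¹ᵁ V x := fun p _ => by
    have hp : v p ⤳ genericPoint S := by
      have : v p ∈ Set.range v := ⟨p, rfl⟩
      rw [Scheme.range_fromSpecStalk] at this
      exact this
    exact hp.mem_open (V x).isOpen hηV
  have hUY : h ⁻¹ᵁ W x = pullback.fst φ v ⁻¹ᵁ W x ⊓ pullback.snd φ v ⁻¹ᵁ ⊤ := by simp [h]
  have hpo := (isIso_pushoutSection_iff (IsPullback.of_hasPullback φ v) hvV (e x) hUY).1
    (isIso_pushoutSection_of_isAffineOpen (IsPullback.of_hasPullback φ v) hvV (e x) hUY (hV x)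
      (isAffineOpen_top _) (hW x))
  let vA := v.appLE (V x) ⊤ hvV
  let σ := (pullback.snd φ v).appLE ⊤ (h ⁻¹ᵁ W x) le_top
  let hB := h.appLE (W x) (h ⁻¹ᵁ W x) le_rfl
  have hsq : ∀ a, hB (α a) = σ (vA a) := fun a => congrArg (fun q => q.hom a) hpo.w
  have hva : vA = S.presheaf.germ (V x) _ hηV ≫ (Scheme.ΓSpecIso (S.presheaf.stalk (genericPoint S))).inv := by
    show v.appLE (V x) ⊤ hvV = _
    rw [Scheme.Hom.appLE, Scheme.fromSpecStalk_app hηV]
    simp only [Category.assoc, ← Functor.map_comp]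
    congr 1
  haveI : IsFractionRing Γ(S, V x) S.functionField := functionField_isFractionRing_of_isAffineOpen S (V x) (hV x)
  have hunit : ∀ a : Γ(S, V x), a ≠ 0 → IsUnit (hB (α a)) := by
    intro a ha
    rw [hsq, hva]
    refine IsUnit.map σ.hom (IsUnit.map (Scheme.ΓSpecIso _).inv.hom ?_)
    exact isUnit_iff_ne_zero.2 ((map_ne_zero_iff _ (S.germToFunctionField_injective (V x))).2 ha)
  -- all sections on the generic fibre have a denominator from the base
  let R' : Subring Γ(pullback φ v, h ⁻¹ᵁ W x) :=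
    { carrier := {z | ∃ a : Γ(S, V x), a ≠ 0 ∧ ∃ b, hB (α a) * z = hB b}
      mul_mem' := by
        rintro z w ⟨a, ha, b, hb⟩ ⟨c, hc, d, hd⟩
        exact ⟨a * c, mul_ne_zero ha hc, b * d, by rw [map_mul, map_mul, map_mul, mul_mul_mul_comm, hb, hd]⟩
      one_mem' := ⟨1, one_ne_zero, 1, by simp⟩
      add_mem' := by
        rintro z w ⟨a, ha, b, hb⟩ ⟨c, hc, d, hd⟩
        refine ⟨a * c, mul_ne_zero ha hc, α c * b + α a * d, ?_⟩
        simp only [map_mul, map_add, ← hb, ← hd]
        ring
      zero_mem' := ⟨1, one_ne_zero, 0, by simp⟩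
      neg_mem' := by
        rintro z ⟨a, ha, b, hb⟩
        exact ⟨a, ha, -b, by rw [map_neg, mul_neg, hb]⟩ }
  have hR₁ : ∀ b, hB b ∈ R' := fun b => ⟨1, one_ne_zero, b, by simp⟩
  have hR₂ : ∀ t, σ t ∈ R' := by
    intro t
    obtain ⟨⟨b, a⟩, hab⟩ := IsLocalization.surj (M := nonZeroDivisors Γ(S, V x))
      (S := S.functionField) ((Scheme.ΓSpecIso (S.presheaf.stalk (genericPoint S))).hom t)
    refine ⟨a, nonZeroDivisors.ne_zero a.2, α b, ?_⟩
    rw [hsq, hsq, ← map_mul]
    congr 1
    rw [hva]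
    have := congrArg (Scheme.ΓSpecIso (S.presheaf.stalk (genericPoint S))).inv hab
    rw [map_mul, Iso.hom_inv_id_apply] at this
    rw [mul_comm]
    exact this
  have hR : ∀ z, z ∈ R' := by
    intro z
    let k₁ : Γ(X, W x) ⟶ CommRingCat.of R' := CommRingCat.ofHom (hB.hom.codRestrict R' hR₁)
    let k₂ : Γ(Spec (S.presheaf.stalk (genericPoint S)), ⊤) ⟶ CommRingCat.of R' :=
      CommRingCat.ofHom (σ.hom.codRestrict R' hR₂)
    let r := hpo.desc k₁ k₂ (by
      refine CommRingCat.hom_ext (RingHom.ext fun a => Subtype.ext ?_)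
      exact hsq a)
    have hr : r ≫ CommRingCat.ofHom R'.subtype = 𝟙 _ := by
      apply hpo.hom_ext
      · rw [hpo.inl_desc_assoc, Category.comp_id]; rfl
      · rw [hpo.inr_desc_assoc, Category.comp_id]; rfl
    have h2 : ((r z : R') : Γ(pullback φ v, h ⁻¹ᵁ W x)) = z := congrArg (fun q => q.hom z) hr
    rw [← h2]
    exact (r z).2
  -- the section is integral with a denominator
  have hgW : h ⁻¹ᵁ W x = g ⁻¹ᵁ (f ⁻¹ᵁ W x) := by rw [← Scheme.Hom.comp_preimage, hgf]
  let gB := g.appLE (f ⁻¹ᵁ W x) (h ⁻¹ᵁ W x) hgW.le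
  have hgB : ∀ b, gB (f.app (W x) b) = hB b := by
    intro b
    have : f.appLE (W x) (f ⁻¹ᵁ W x) le_rfl ≫ gB = hB := by
      rw [Scheme.Hom.appLE_comp_appLE]
      simp only [hgf, hB]
    rw [← this, Scheme.Hom.app_eq_appLE]
    rfl
  have hgBinj : Function.Injective gB := by
    haveI : IsIso ((pullback φ v).presheaf.map (homOfLE hgW.le).op) := by
      rw [show homOfLE hgW.le = eqToHom hgW from Subsingleton.elim _ _]
      infer_instance
    show Function.Injective (g.app (f ⁻¹ᵁ W x) ≫ (pullback φ v).presheaf.map (homOfLE hgW.le).op)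
    exact (ConcreteCategory.bijective_of_isIso ((pullback φ v).presheaf.map (homOfLE hgW.le).op)).1.comp
      (g.app_injective _)
  obtain ⟨a, ha, b, hab⟩ := hR (gB s)
  have h1 : f.app (W x) (α a) * s = f.app (W x) b := hgBinj (by rw [map_mul, hgB, hgB]; exact hab)
  obtain ⟨p, hp, hps⟩ := (f.finite_app (W x) (hW x)).to_isIntegral s
  have h2 : (p.scaleRoots (α a)).eval b = 0 := by
    apply f.app_injective (W x)
    rw [map_zero, ← Polynomial.eval₂_at_apply, ← h1, Polynomial.scaleRoots_eval₂_mul, hps, mul_zero]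
  obtain ⟨c, hc⟩ := Ideal.mem_span_singleton.1
    (EtaModLib.mem_span_of_scaleRoots_fp Γ(S, V x) Γ(X, W x) a ha b p hp h2)
  refine ⟨c, hgBinj ?_⟩
  rw [hgB]
  refine (hunit a ha).mul_left_cancel ?_
  rw [hab, hc, map_mul]
  rfl

end Groth.Agent.S14889
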