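import Mathlib
import Groth.Statements.S14891
-- import your own Groth.Agent.* helpers here

set_option autoImplicit false
universe u
open CAlg

namespace Groth.Agent.S14891


open MvPolynomial in
theorem algebraicIndependent_sum {K L Γ₀ Γ₁ : Type u} [Field K] [Field L] [Algebra K L]
    [LinearOrderedCommGroupWithZero Γ₀] [LinearOrderedCommGroupWithZero Γ₁]
    (vK : Valuation K Γ₀) (vL : Valuation L Γ₁) [vK.HasExtension vL]
    {ι κ : Type u} (x : ι → Lˣ)
    (hx : ∀ a b : ι →₀ ℕ, ∀ c : K, c ≠ 0 →
      vL (a.prod fun i n => ((x i : Lˣ) : L) ^ n) =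
        vL (algebraMap K L c) * vL (b.prod fun i n => ((x i : Lˣ) : L) ^ n) → a = b)
    (y : κ → vL.valuationSubring)
    (hy : AlgebraicIndependent (IsLocalRing.ResidueField vK.valuationSubring)
      (fun k => IsLocalRing.residue vL.valuationSubring (y k))) :
    AlgebraicIndependent K (Sum.elim (fun i => (x i : L)) (fun k => (y k : L))) := by
  classical
  -- Gauss: a polynomial in the `y` takes a value in `|K|`
  have hgauss : ∀ P : MvPolynomial κ K, P ≠ 0 →
      ∃ c : K, c ≠ 0 ∧ vL (aeval (fun k => (y k : L)) P) = vL (algebraMap K L c) := by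
    intro P hP
    obtain ⟨m, hm, hmax⟩ := P.support.exists_max_image (fun m => vK (P.coeff m))
      (MvPolynomial.support_nonempty.mpr hP)
    have hc : P.coeff m ≠ 0 := mem_support_iff.mp hm
    refine ⟨P.coeff m, hc, ?_⟩
    have hmem : ∀ n, P.coeff n / P.coeff m ∈ vK.valuationSubring := by
      intro n
      rw [Valuation.mem_valuationSubring_iff, map_div₀,
        div_le_one₀ (zero_lt_iff.mpr ((map_ne_zero vK).mpr hc))]
      by_cases hn : n ∈ P.support
      · exact hmax n hn
      · rw [notMem_support_iff.mp hn, map_zero]; exact zero_le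
    let Q : MvPolynomial κ vK.valuationSubring := ∑ n ∈ P.support, monomial n ⟨_, hmem n⟩
    have hQ : Q.map vK.valuationSubring.subtype = C (P.coeff m)⁻¹ * P := by
      ext n : 1
      rw [coeff_map, coeff_C_mul, coeff_sum, map_sum]
      simp only [coeff_monomial, apply_ite vK.valuationSubring.subtype, map_zero, Finset.sum_ite_eq']
      by_cases hn : n ∈ P.support
      · rw [if_pos hn, inv_mul_eq_div]; rfl
      · rw [if_neg hn, notMem_support_iff.mp hn, mul_zero]
    have hQne : Q.map (IsLocalRing.residue vK.valuationSubring) ≠ 0 := by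
      intro h0
      have hQm : Q.coeff m = 1 := by
        apply Subtype.ext
        have := congrArg (coeff m) hQ
        rw [coeff_map, coeff_C_mul, inv_mul_cancel₀ hc] at this
        exact this
      have := congrArg (coeff m) h0
      rw [coeff_map, hQm, map_one, coeff_zero] at this
      exact one_ne_zero this
    set z : vL.valuationSubring := aeval y Q with hz
    have hres : IsLocalRing.residue vL.valuationSubring z =
        aeval (fun k => IsLocalRing.residue vL.valuationSubring (y k))
          (Q.map (IsLocalRing.residue vK.valuationSubring)) := by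
      rw [hz]
      clear hz hQne hQ
      induction Q using MvPolynomial.induction_on with
      | C a =>
        simp only [aeval_C, map_C]
        exact (Valuation.HasExtension.algebraMap_residue_eq_residue_algebraMap vK vL a).symm
      | add p q hp hq => simp [hp, hq]
      | mul_X p i hp => simp [hp]
    have hzu : vL (z : L) = 1 := by
      have hne : IsLocalRing.residue vL.valuationSubring z ≠ 0 := by
        rw [hres]
        exact fun h0 => hQne (hy.eq_zero_of_aeval_eq_zero _ h0)
      rw [IsLocalRing.residue_ne_zero_iff_isUnit] at hne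
      exact (Valuation.integer.integers (v := vL)).one_of_isUnit hne
    have hzeq : (z : L) = algebraMap K L (P.coeff m)⁻¹ * aeval (fun k => (y k : L)) P := by
      rw [← aeval_C (R := K) (fun k => (y k : L)), ← map_mul, ← hQ]
      rw [hz]
      clear hz hzu hres hQne hQ
      induction Q using MvPolynomial.induction_on with
      | C a => simp only [aeval_C, map_C]; rfl
      | add p q hp hq => simp [hp, hq]
      | mul_X p i hp => simp [hp]
    have : vL (aeval (fun k => (y k : L)) P) =
        vL (algebraMap K L (P.coeff m)) * vL (z : L) := by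
      rw [← map_mul vL, hzeq, ← mul_assoc, ← map_mul (algebraMap K L), mul_inv_cancel₀ hc, map_one,
        one_mul]
    rw [this, hzu, mul_one]
  rw [algebraicIndependent_iff]
  intro p hp
  by_contra hne
  let e := sumAlgEquiv K ι κ
  set q := e p with hqdef
  have hq0 : q ≠ 0 := by simpa [q] using hne
  have hev : aeval (Sum.elim (fun i => (x i : L)) (fun k => (y k : L))) p =
      ∑ a ∈ q.support, aeval (fun k => (y k : L)) (q.coeff a) * a.prod fun i n => (x i : L) ^ n := by
    have h1 : (eval₂Hom (aeval (fun k => (y k : L))).toRingHom (fun i => (x i : L))).comp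
        e.toRingEquiv.toRingHom = (aeval (Sum.elim (fun i => (x i : L)) (fun k => (y k : L)))).toRingHom := by
      refine MvPolynomial.ringHom_ext (fun r => ?_) (fun s => ?_)
      · simp [e]
      · rcases s with i | k <;> simp [e]
    have h2 := RingHom.congr_fun h1 p
    refine h2.symm.trans ?_
    change eval₂ _ _ q = _
    rw [eval₂_eq]
    rfl
  choose c hc hcv using fun a : q.support => hgauss _ (mem_support_iff.mp a.2)
  let T : (ι →₀ ℕ) → L := fun a => aeval (fun k => (y k : L)) (q.coeff a) * a.prod fun i n => (x i : L) ^ n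
  have hTne : ∀ a ∈ q.support, vL (T a) ≠ 0 := by
    intro a ha
    simp only [T, map_mul, hcv ⟨a, ha⟩]
    refine mul_ne_zero ((map_ne_zero vL).mpr ((map_ne_zero _).mpr (hc ⟨a, ha⟩))) ((map_ne_zero vL).mpr ?_)
    exact Finset.prod_ne_zero_iff.mpr fun i _ => pow_ne_zero _ (x i).ne_zero
  have hTinj : ∀ a ∈ q.support, ∀ b ∈ q.support, vL (T a) = vL (T b) → a = b := by
    intro a ha b hb hab
    simp only [T, map_mul, hcv ⟨a, ha⟩, hcv ⟨b, hb⟩] at hab
    refine hx a b (c ⟨b, hb⟩ / c ⟨a, ha⟩) (div_ne_zero (hc _) (hc _)) ?_
    rw [map_div₀, map_div₀, div_mul_eq_mul_div, eq_div_iff ((map_ne_zero vL).mpr ((map_ne_zero _).mpr (hc _))),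
      mul_comm]
    exact hab
  obtain ⟨j, hj, hjmax⟩ := q.support.exists_max_image (fun a => vL (T a))
    (MvPolynomial.support_nonempty.mpr hq0)
  have := vL.map_sum_eq_of_lt hj (f := T) (fun a ha => by
    rw [Finset.mem_sdiff, Finset.mem_singleton] at ha
    exact lt_of_le_of_ne (hjmax a ha.1) (fun h => ha.2 (hTinj a ha.1 j hj h)))
  rw [show ∑ a ∈ q.support, T a = 0 from hev.symm.trans hp, map_zero] at this
  exact hTne j hj this.symm


/-- Let L/K be an extension of valued fields, i.e. v_L is a valuation on L whose restriction to K is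
equivalent to v_K. Write E for the rational rank of the quotient of value groups |L^×|/|K^×| — here
the rank of the abelian group L^× modulo the subgroup generated by the units of the valuation ring
of v_L and the image of K^× — and F for the transcendence degree of the residue field of v_L over
that of v_K. Then E + F ≤ tr.deg(L/K) (an inequality of cardinals). -/
theorem result
    {K L Γ₀ Γ₁ : Type u} [Field K] [Field L] [Algebra K L]
    [LinearOrderedCommGroupWithZero Γ₀] [LinearOrderedCommGroupWithZero Γ₁]
    (vK : Valuation K Γ₀) (vL : Valuation L Γ₁) [vK.HasExtension vL] :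
    Module.rank ℤ (Additive Lˣ ⧸ Subgroup.toAddSubgroup
        (vL.valuationSubring.unitGroup ⊔ (Units.map (algebraMap K L).toMonoidHom).range)) +
      Algebra.trdeg (IsLocalRing.ResidueField vK.valuationSubring)
        (IsLocalRing.ResidueField vL.valuationSubring) ≤ Algebra.trdeg K L := by
  classical
  set H := vL.valuationSubring.unitGroup ⊔ (Units.map (algebraMap K L).toMonoidHom).range with hH
  obtain ⟨S, hScard, hSli⟩ := exists_set_linearIndependent_of_isDomain ℤ (Additive Lˣ ⧸ Subgroup.toAddSubgroup H)
  obtain ⟨T, hT⟩ := exists_isTranscendenceBasis (IsLocalRing.ResidueField vK.valuationSubring)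
    (IsLocalRing.ResidueField vL.valuationSubring)
  rw [← hScard, ← hT.cardinalMk_eq_trdeg, Cardinal.add_def]
  choose x hx using fun s : S => QuotientAddGroup.mk_surjective (s : Additive Lˣ ⧸ Subgroup.toAddSubgroup H)
  choose y hy using fun t : T => IsLocalRing.residue_surjective (t : IsLocalRing.ResidueField vL.valuationSubring)
  refine (algebraicIndependent_sum vK vL (fun s => Additive.toMul (x s)) ?_ y ?_).cardinalMk_le_trdeg
  · intro a b c hc h
    let A : (S →₀ ℕ) → Lˣ := fun a => a.prod fun i n => Additive.toMul (x i) ^ n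
    have hA : ∀ a, ((A a : Lˣ) : L) = a.prod fun i n => ((Additive.toMul (x i) : Lˣ) : L) ^ n := fun a => by
      simp [A, Finsupp.prod, Units.coe_prod]
    rw [← hA, ← hA] at h
    have hmem : A a * (A b)⁻¹ ∈ H := by
      let u : Lˣ := Units.map (algebraMap K L).toMonoidHom (Units.mk0 c hc)
      have h1 : A a * (A b)⁻¹ * u⁻¹ ∈ vL.valuationSubring.unitGroup := by
        rw [Valuation.mem_unitGroup_iff, Units.val_mul, Units.val_mul, Units.val_inv_eq_inv_val,
          Units.val_inv_eq_inv_val, map_mul, map_mul, map_inv₀, map_inv₀, h]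
        have hb : vL (A b : L) ≠ 0 := (map_ne_zero vL).mpr (A b).ne_zero
        have hc' : vL (algebraMap K L c) ≠ 0 := (map_ne_zero vL).mpr ((map_ne_zero _).mpr hc)
        rw [show (u : L) = algebraMap K L c from rfl]
        field_simp
      have := Subgroup.mul_mem H (Subgroup.mem_sup_left h1) (Subgroup.mem_sup_right ⟨Units.mk0 c hc, rfl⟩ : u ∈ H)
      rwa [inv_mul_cancel_right] at this
    have hπ : QuotientAddGroup.mk' (Subgroup.toAddSubgroup H) (Additive.ofMul (A a)) =
        QuotientAddGroup.mk' (Subgroup.toAddSubgroup H) (Additive.ofMul (A b)) := by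
      apply eq_of_sub_eq_zero
      rw [← map_sub, QuotientAddGroup.mk'_apply, QuotientAddGroup.eq_zero_iff]
      show A a / A b ∈ H
      rwa [div_eq_mul_inv]
    have hlc : ∀ a : S →₀ ℕ, QuotientAddGroup.mk' (Subgroup.toAddSubgroup H) (Additive.ofMul (A a)) =
        Finsupp.linearCombination ℤ (fun s : S => (s : Additive Lˣ ⧸ Subgroup.toAddSubgroup H))
          (a.mapRange (fun n : ℕ => (n : ℤ)) rfl) := by
      intro a
      rw [Finsupp.linearCombination_apply, Finsupp.sum_mapRange_index (by simp)]
      simp only [A, Finsupp.prod, ofMul_prod, map_sum, Finsupp.sum, natCast_zsmul, ← hx, ofMul_pow,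
        ofMul_toMul, map_nsmul, QuotientAddGroup.mk'_apply]
    rw [hlc, hlc] at hπ
    exact Finsupp.mapRange_injective _ rfl Nat.cast_injective (hSli hπ)
  · simpa only [hy] using hT.1

end Groth.Agent.S14891
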