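import Mathlib
import Groth.Statements.S14892

set_option autoImplicit false
universe u
open CAlg

namespace Groth.Agent.S14892

section
variable {K : Type u} [Field K] {A : ValuationSubring K} {n : ℕ}

/-- monomials in the elements `a i` -/
noncomputable def mon (a : Fin n → A) (e : Fin n → ℕ) : A := ∏ i, a i ^ e i

theorem mon_add (a : Fin n → A) (e f : Fin n → ℕ) : mon a (e + f) = mon a e * mon a f := by
  simp [mon, pow_add, Finset.prod_mul_distrib]

theorem mon_ne_zero {a : Fin n → A} (ha : ∀ i, a i ≠ 0) (e : Fin n → ℕ) : mon a e ≠ 0 :=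
  Finset.prod_ne_zero_iff.2 fun i _ => pow_ne_zero _ (ha i)

theorem mon_not_lt {a : Fin n → A} (P : Fin n → Ideal A) (hP : ∀ i, (P i).IsPrime) (hmem : ∀ i, a i ∈ P i)
    (hnot : ∀ i j, i < j → a j ∉ P i) (ha : ∀ i, a i ≠ 0) {e f : Fin n → ℕ} {i : Fin n}
    (hlt : f i < e i) (heq : ∀ j < i, e j = f j) (u : Aˣ) : (u : A) * mon a f ≠ mon a e := by
  intro h
  let g : Fin n → ℕ := fun j => min (e j) (f j)
  have he : e = g + (e - g) := funext fun j => by simp [g]
  have hf : f = g + (f - g) := funext fun j => by simp [g]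
  rw [hf, he, mon_add, mon_add, mul_left_comm] at h
  have h' := mul_left_cancel₀ (mon_ne_zero ha g) h
  haveI := hP i
  have h1 : mon a (e - g) ∈ P i := by
    refine Ideal.mem_of_dvd _ (Finset.dvd_prod_of_mem _ (Finset.mem_univ i)) ?_
    exact Ideal.pow_mem_of_mem _ (hmem i) _ (by simp [g]; omega)
  have h2 : mon a (f - g) ∉ P i := fun h2 => by
    obtain ⟨j, -, hj⟩ := Ideal.IsPrime.prod_mem_iff.1 h2
    rcases lt_or_ge i j with hij | hij
    · exact hnot i j hij ((hP i).mem_of_pow_mem _ hj)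
    · have : (f - g) j = 0 := by
        rcases hij.lt_or_eq with hji | rfl
        · simp [g, heq j hji]
        · simp [g]; omega
      rw [this, pow_zero] at hj
      exact (hP i).ne_top ((Ideal.eq_top_iff_one _).2 hj)
  rw [← h'] at h1
  exact h2 ((Ideal.unit_mul_mem_iff_mem _ u.isUnit).1 h1)

theorem mon_valuation_injective {a : Fin n → A} (P : Fin n → Ideal A) (hP : ∀ i, (P i).IsPrime)
    (hmem : ∀ i, a i ∈ P i) (hnot : ∀ i j, i < j → a j ∉ P i) (ha : ∀ i, a i ≠ 0) {e f : Fin n → ℕ}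
    (h : A.valuation (mon a e : K) = A.valuation (mon a f : K)) : e = f := by
  classical
  by_contra hne
  obtain ⟨j, hj⟩ := Function.ne_iff.1 hne
  have hs : (Finset.univ.filter fun j => e j ≠ f j).Nonempty := ⟨j, by simpa using hj⟩
  have hi : e ((Finset.univ.filter fun j => e j ≠ f j).min' hs) ≠ f ((Finset.univ.filter fun j => e j ≠ f j).min' hs) :=
    (Finset.mem_filter.1 (Finset.min'_mem _ hs)).2
  have heq : ∀ j < (Finset.univ.filter fun j => e j ≠ f j).min' hs, e j = f j := by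
    intro j hj
    by_contra hne
    exact not_le.2 hj (Finset.min'_le _ j (by simpa using hne))
  obtain ⟨u, hu⟩ := (A.valuation_eq_iff _ _).1 h
  have hu' : (u : A) * mon a f = mon a e := Subtype.ext hu
  rcases hi.lt_or_gt with hlt | hlt
  · exact mon_not_lt P hP hmem hnot ha hlt (fun j hj => (heq j hj).symm) u⁻¹ (by rw [← hu', Units.inv_mul_cancel_left])
  · exact mon_not_lt P hP hmem hnot ha hlt heq u hu'

theorem card_le {a : Fin n → A} (P : Fin n → Ideal A) (hP : ∀ i, (P i).IsPrime) (hmem : ∀ i, a i ∈ P i)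
    (hnot : ∀ i j, i < j → a j ∉ P i) (ha : ∀ i, a i ≠ 0) (S : Finset (Fin n))
    (hc : ∀ c ∈ (⊥ : Subfield K), c ≠ 0 → ∃ g h : Fin n → ℕ, (∀ i ∈ S, g i = 0 ∧ h i = 0) ∧
      A.valuation c * A.valuation (mon a g : K) = A.valuation (mon a h : K))
    (d : ℕ) (hd : Algebra.trdeg (⊥ : Subfield K) K = d) : S.card ≤ d := by
  classical
  suffices h : AlgebraicIndependent (⊥ : Subfield K) (fun i : S => ((a i : A) : K)) by
    have := h.lift_cardinalMk_le_trdeg
    rw [hd, Cardinal.mk_coe_finset, Cardinal.lift_natCast, Cardinal.lift_natCast] at this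
    exact_mod_cast this
  rw [algebraicIndependent_iff]
  intro p hp
  by_contra hne
  let ext (e : S →₀ ℕ) : Fin n → ℕ := fun i => if h : i ∈ S then e ⟨i, h⟩ else 0
  let T (e : S →₀ ℕ) : K := algebraMap (⊥ : Subfield K) K (p.coeff e) * ∏ i : S, ((a i : A) : K) ^ e i
  have hmon : ∀ e : S →₀ ℕ, ∏ i : S, ((a i : A) : K) ^ e i = (mon a (ext e) : K) := by
    intro e
    have h1 : mon a (ext e) = ∏ i ∈ S, a i ^ ext e i := by
      rw [mon]
      exact (Finset.prod_subset (Finset.subset_univ S) fun x _ hx => by simp [ext, hx]).symm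
    rw [h1, ← Finset.prod_coe_sort S]
    push_cast
    exact Finset.prod_congr rfl fun i _ => by simp [ext, i.2]
  have hinj : Set.InjOn (fun e => A.valuation (T e)) p.support := by
    intro e he f hf hef
    obtain ⟨g, h, hgh, hv⟩ := hc _ (p.coeff e).2 (by simpa using MvPolynomial.mem_support_iff.1 he)
    obtain ⟨g', h', hgh', hv'⟩ := hc _ (p.coeff f).2 (by simpa using MvPolynomial.mem_support_iff.1 hf)
    simp only [T, map_mul, hmon, Algebra.algebraMap_ofSubsemiring_apply] at hef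
    have hh : A.valuation (mon a (h + g' + ext e) : K) = A.valuation (mon a (h' + g + ext f) : K) := by
      simp only [mon_add, MulMemClass.coe_mul, map_mul, ← hv, ← hv']
      calc _ = (A.valuation ((p.coeff e : (⊥ : Subfield K)) : K) * A.valuation (mon a (ext e) : K)) *
            (A.valuation (mon a g : K) * A.valuation (mon a g' : K)) := by ac_rfl
        _ = (A.valuation ((p.coeff f : (⊥ : Subfield K)) : K) * A.valuation (mon a (ext f) : K)) *
            (A.valuation (mon a g : K) * A.valuation (mon a g' : K)) := by rw [hef]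
        _ = _ := by ac_rfl
    have := mon_valuation_injective P hP hmem hnot ha hh
    ext i
    have hi := congrFun this i
    simp [ext, i.2, (hgh i i.2).1, (hgh i i.2).2, (hgh' i i.2).1, (hgh' i i.2).2] at hi
    exact hi
  have hsupp : p.support.Nonempty := MvPolynomial.support_nonempty.2 hne
  obtain ⟨e, he, hmax⟩ := Finset.exists_max_image p.support (fun e => A.valuation (T e)) hsupp
  have hsum : A.valuation (∑ f ∈ p.support, T f) = A.valuation (T e) := by
    refine Valuation.map_sum_eq_of_lt _ he fun f hf => ?_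
    rw [Finset.mem_sdiff, Finset.mem_singleton] at hf
    exact (hmax f hf.1).lt_of_ne fun h => hf.2 (hinj hf.1 he h)
  have h0 : ∑ f ∈ p.support, T f = 0 := by rw [← hp, MvPolynomial.aeval_def, MvPolynomial.eval₂_eq']
  rw [h0, map_zero, eq_comm, Valuation.zero_iff] at hsum
  refine mul_ne_zero ?_ ?_ hsum
  · simpa using MvPolynomial.mem_support_iff.1 he
  · rw [hmon]
    exact fun h => mon_ne_zero ha _ (Subtype.ext h)

theorem exists_int_div {c : K} (hc : c ∈ (⊥ : Subfield K)) : ∃ y z : ℤ, (y : K) / z = c := by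
  rw [← Subfield.closure_empty, Subfield.mem_closure_iff, Subring.closure_empty] at hc
  obtain ⟨_, hy, _, hz, rfl⟩ := hc
  obtain ⟨y, rfl⟩ := Subring.mem_bot.1 hy
  obtain ⟨z, rfl⟩ := Subring.mem_bot.1 hz
  exact ⟨y, z, rfl⟩

theorem valuation_int (m : ℤ) : A.valuation (m : K) = A.valuation (m.natAbs : K) := by
  rcases Int.natAbs_eq m with h | h <;> conv_lhs => rw [h]
  · simp
  · simp [Valuation.map_neg]

theorem natAbs_cast_ne {m : ℤ} (hm : (m : K) ≠ 0) : (m.natAbs : K) ≠ 0 := by
  intro h'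
  apply hm
  rcases Int.natAbs_eq m with h | h
  · rw [show (m : K) = ((m.natAbs : ℤ) : K) from congrArg _ h, Int.cast_natCast, h']
  · rw [show (m : K) = ((-(m.natAbs : ℤ) : ℤ) : K) from congrArg _ h, Int.cast_neg, Int.cast_natCast, h', neg_zero]

theorem valuation_nat_le_one (m : ℕ) : A.valuation (m : K) ≤ 1 :=
  (A.valuation_le_one_iff _).2 (natCast_mem A m)

theorem exists_prime_lt_one : ∀ N : ℕ, (N : K) ≠ 0 → A.valuation (N : K) < 1 →
    ∃ q : ℕ, q.Prime ∧ (q : K) ≠ 0 ∧ A.valuation (q : K) < 1 := by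
  intro N
  induction N using Nat.recOnMul with
  | zero => simp
  | one => simp
  | prime q hq => exact fun h1 h2 => ⟨q, hq, h1, h2⟩
  | mul a b iha ihb =>
    intro h1 h2
    rw [Nat.cast_mul] at h1 h2
    rw [map_mul] at h2
    rcases (valuation_nat_le_one (A := A) a).lt_or_eq with h | h
    · exact iha (left_ne_zero_of_mul h1) h
    · exact ihb (right_ne_zero_of_mul h1) (by rwa [h, one_mul] at h2)

theorem valuation_nat_eq_pow {q : ℕ} (hq : q.Prime) (hlt : A.valuation (q : K) < 1) (N : ℕ) (hN : (N : K) ≠ 0) :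
    ∃ s : ℕ, A.valuation (N : K) = A.valuation (q : K) ^ s := by
  obtain ⟨s, N', hN', rfl⟩ := Nat.exists_eq_pow_mul_and_not_dvd (n := N) (fun h => hN (by simp [h])) q hq.ne_one
  refine ⟨s, ?_⟩
  rw [Nat.cast_mul, map_mul, Nat.cast_pow, map_pow]
  rw [show A.valuation (N' : K) = 1 from (valuation_nat_le_one N').eq_of_not_lt fun h => ?_, mul_one]
  obtain ⟨x, y, hxy⟩ : IsCoprime (q : ℤ) (N' : ℤ) :=
      Nat.Coprime.isCoprime (hq.coprime_iff_not_dvd.2 hN')
  have := congrArg (fun z : ℤ => A.valuation (z : K)) hxy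
  push_cast at this
  rw [map_one] at this
  refine this.not_lt (Valuation.map_add_lt _ ?_ ?_)
  · rw [map_mul]
    exact lt_of_le_of_lt (mul_le_of_le_one_left' (by rw [valuation_int]; exact valuation_nat_le_one _)) hlt
  · rw [map_mul]
    exact lt_of_le_of_lt (mul_le_of_le_one_left' (by rw [valuation_int]; exact valuation_nat_le_one _)) h

end

/-- If the field K has finite transcendence degree d over its prime subfield, then every valuation
subring of K has height (Krull dimension) at most d + 1. -/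
theorem result
    (K : Type u) [Field K] (A : ValuationSubring K) (d : ℕ)
    (hd : Algebra.trdeg (⊥ : Subfield K) K = d) :
    ringKrullDim A ≤ ((d + 1 : ℕ) : WithBot ℕ∞) := by
  classical
  rw [ringKrullDim, Order.krullDim]
  refine iSup_le fun l => ?_
  obtain ⟨l₁, hl₁, h0⟩ : ∃ l₁ : LTSeries (PrimeSpectrum A), l.length ≤ l₁.length ∧ l₁.head.asIdeal = ⊥ := by
    by_cases h : l.head.asIdeal = ⊥
    · exact ⟨l, le_rfl, h⟩
    · exact ⟨l.cons ⟨⊥, Ideal.isPrime_bot⟩ (bot_lt_iff_ne_bot.2 h), by simp, by simp⟩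
  obtain ⟨l₂, hl₂, h0', hlast⟩ : ∃ l₂ : LTSeries (PrimeSpectrum A), l₁.length ≤ l₂.length ∧
      l₂.head.asIdeal = ⊥ ∧ l₂.last.asIdeal = IsLocalRing.maximalIdeal A := by
    by_cases h : l₁.last.asIdeal = IsLocalRing.maximalIdeal A
    · exact ⟨l₁, le_rfl, h0, h⟩
    · refine ⟨l₁.snoc (IsLocalRing.closedPoint A) ((IsLocalRing.le_maximalIdeal l₁.last.2.ne_top).lt_of_ne h), by simp,
        by simpa using h0, by simp [IsLocalRing.closedPoint]⟩
  suffices h : l₂.length ≤ d + 1 by exact_mod_cast (hl₁.trans hl₂).trans h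
  set n := l₂.length
  have hstep : ∀ i : Fin n, ∃ x, x ∈ (l₂ i.succ).asIdeal ∧ x ∉ (l₂ i.castSucc).asIdeal := fun i =>
    SetLike.exists_of_lt (l₂.step i)
  choose a₀ ha₀ ha₀' using hstep
  let P : Fin n → Ideal A := fun i => (l₂ i.succ).asIdeal
  have hP : ∀ i, (P i).IsPrime := fun i => (l₂ i.succ).2
  have hne0 : ∀ a : Fin n → A, (∀ i, a i ∉ (l₂ i.castSucc).asIdeal) → ∀ i, a i ≠ 0 :=
    fun a h i hi => h i (hi ▸ Submodule.zero_mem _)
  have hnot : ∀ a : Fin n → A, (∀ i, a i ∉ (l₂ i.castSucc).asIdeal) → ∀ i j, i < j → a j ∉ P i :=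
    fun a h i j hij hm => h j ((LTSeries.monotone l₂ (Fin.succ_le_castSucc_iff.2 hij) : l₂ i.succ ≤ l₂ j.castSucc) hm)
  by_cases hN : ∃ N : ℕ, (N : K) ≠ 0 ∧ A.valuation (N : K) < 1
  · obtain ⟨N, hN0, hN1⟩ := hN
    obtain ⟨q, hq, hq0, hq1⟩ := exists_prime_lt_one N hN0 hN1
    have hqmem : (q : A) ∈ IsLocalRing.maximalIdeal A := (A.valuation_lt_one_iff _).2 (by simpa using hq1)
    obtain ⟨m, hm, hmin⟩ : ∃ m, (q : A) ∈ (l₂ m).asIdeal ∧ ∀ j < m, (q : A) ∉ (l₂ j).asIdeal := by
      have hex : (Finset.univ.filter fun m => (q : A) ∈ (l₂ m).asIdeal).Nonempty :=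
        ⟨Fin.last _, Finset.mem_filter.2 ⟨Finset.mem_univ _, by
          have : l₂ (Fin.last _) = l₂.last := rfl
          rw [this, hlast]; exact hqmem⟩⟩
      exact ⟨_, (Finset.mem_filter.1 (Finset.min'_mem _ hex)).2,
        fun j hj hj' => not_le.2 hj (Finset.min'_le _ j (Finset.mem_filter.2 ⟨Finset.mem_univ _, hj'⟩))⟩
    have hm0 : m ≠ 0 := by
      rintro rfl
      have : l₂ 0 = l₂.head := rfl
      rw [this, h0', Submodule.mem_bot] at hm
      exact hq0 (by simpa using congrArg (fun x : A => (x : K)) hm)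
    obtain ⟨k, rfl⟩ := Fin.exists_succ_eq.2 hm0
    let a := Function.update a₀ k (q : A)
    have ha : ∀ i, a i ∈ P i ∧ a i ∉ (l₂ i.castSucc).asIdeal := by
      intro i
      rcases eq_or_ne i k with rfl | hik
      · simpa [a, P] using And.intro hm (hmin _ (Fin.castSucc_lt_succ (i := i)))
      · simpa [a, P, hik] using And.intro (ha₀ i) (ha₀' i)
    have hle := card_le P hP (fun i => (ha i).1) (hnot a fun i => (ha i).2) (hne0 a fun i => (ha i).2)
      (Finset.univ.erase k) ?_ d hd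
    · rw [Finset.card_erase_of_mem (Finset.mem_univ k), Finset.card_univ, Fintype.card_fin] at hle
      omega
    intro c hc hc0
    obtain ⟨y, z, rfl⟩ := exists_int_div hc
    obtain ⟨hy, hz⟩ := div_ne_zero_iff.1 hc0
    obtain ⟨s, hs⟩ := valuation_nat_eq_pow hq hq1 y.natAbs (natAbs_cast_ne hy)
    obtain ⟨t, ht⟩ := valuation_nat_eq_pow hq hq1 z.natAbs (natAbs_cast_ne hz)
    have hmon : ∀ r, A.valuation (mon a (Pi.single k r) : K) = A.valuation (q : K) ^ r := by
      intro r
      rw [mon, Finset.prod_eq_single k (fun i _ hi => by simp [hi]) (fun h => absurd (Finset.mem_univ k) h)]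
      simp [a]
    refine ⟨Pi.single k t, Pi.single k s, fun i hi => ?_, ?_⟩
    · simp [(Finset.ne_of_mem_erase hi)]
    · rw [hmon, hmon, ← hs, ← ht, ← valuation_int, ← valuation_int, ← map_mul, div_mul_cancel₀ _ hz]
  · push_neg at hN
    have hle := card_le P hP ha₀ (hnot a₀ ha₀') (hne0 a₀ ha₀') Finset.univ ?_ d hd
    · rw [Finset.card_univ, Fintype.card_fin] at hle
      omega
    intro c hc hc0
    obtain ⟨y, z, rfl⟩ := exists_int_div hc
    obtain ⟨hy, hz⟩ := div_ne_zero_iff.1 hc0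
    have h1 : ∀ w : ℤ, (w : K) ≠ 0 → A.valuation (w : K) = 1 := fun w hw => by
      rw [valuation_int]
      exact le_antisymm (valuation_nat_le_one _) (hN _ (natAbs_cast_ne hw))
    exact ⟨0, 0, fun i _ => ⟨rfl, rfl⟩, by rw [map_div₀, h1 y hy, h1 z hz, div_one, one_mul]⟩

end Groth.Agent.S14892
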