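import Groth.Statements.S14893
import Groth.Agent.ValRingFinSpec.Basic

set_option autoImplicit false
universe u
open CAlg

namespace Groth.Agent.S14893

/-- Every valuation ring R is a filtered union of subrings which are valuation rings with finite
spectrum (finite height): there is a nonempty directed index type and a monotone family of such
subrings of R whose supremum is R. -/
theorem result
    (R : Type u) [CommRing R] [IsDomain R] [ValuationRing R] :
    ∃ (ι : Type u) (_ : Preorder ι) (_ : IsDirected ι (fun a b ↦ a ≤ b)) (_ : Nonempty ι)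
      (F : ι → Subring R), Monotone F ∧ (⨆ i, F i) = ⊤ ∧
        ∀ i, ValuationRing (F i) ∧ Finite (PrimeSpectrum (F i)) := by
  classical
  let K := FractionRing R
  let F : Finset K → Subring R := fun s => (Subfield.closure (s : Set K)).toSubring.comap (algebraMap R K)
  have hmono : Monotone F := fun s t hst =>
    fun r hr => (Subfield.closure_mono (Finset.coe_subset.2 hst) : Subfield.closure (s : Set K) ≤ _) hr
  refine ⟨Finset K, inferInstance, inferInstance, inferInstance, F, hmono, ?_, fun s => ?_⟩
  · refine eq_top_iff.2 fun r _ => le_iSup F {algebraMap R K r} ?_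
    exact Subfield.subset_closure (by simp)
  have hdiv : ∀ (a b : F s) (c : R), (a : R) ≠ 0 → (a : R) * c = b → c ∈ F s := by
    intro a b c ha h
    show algebraMap R K c ∈ Subfield.closure (s : Set K)
    have hc : algebraMap R K c = algebraMap R K b / algebraMap R K a := by
      rw [eq_div_iff ((map_ne_zero_iff _ (IsFractionRing.injective R K)).2 ha), ← h, map_mul, mul_comm]
    rw [hc]
    exact Subfield.div_mem _ b.2 a.2
  haveI hV : ValuationRing (F s) := by
    refine { cond' := fun a b => ?_ }
    by_cases ha : (a : R) = 0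
    · exact ⟨0, Or.inr (Subtype.ext (by simp [ha]))⟩
    by_cases hb : (b : R) = 0
    · exact ⟨0, Or.inl (Subtype.ext (by simp [hb]))⟩
    obtain ⟨c, h | h⟩ := ValuationRing.cond (a : R) (b : R)
    · exact ⟨⟨c, hdiv a b c ha h⟩, Or.inl (Subtype.ext h)⟩
    · exact ⟨⟨c, hdiv b a c hb h⟩, Or.inr (Subtype.ext h)⟩
  refine ⟨hV, ?_⟩
  by_contra hinf
  rw [not_finite_iff_infinite] at hinf
  letI : DecidableLE (Ideal (F s)) := Classical.decRel _
  obtain ⟨T, hT⟩ := hinf.exists_subset_card_eq (α := PrimeSpectrum (F s)) (s.card + 3)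
  let T' : Finset (Ideal (F s)) := T.map ⟨PrimeSpectrum.asIdeal, fun _ _ h => PrimeSpectrum.ext h⟩
  let P := T'.orderEmbOfFin (show T'.card = (s.card + 2) + 1 by rw [Finset.card_map, hT])
  have hP : ∀ i, (P i).IsPrime := fun i => by
    obtain ⟨p, -, hp⟩ := Finset.mem_map.1 (Finset.orderEmbOfFin_mem T' _ i)
    exact hp ▸ p.isPrime
  choose y hy hy' using fun i : Fin (s.card + 2) =>
    SetLike.exists_of_lt (P.strictMono (Fin.castSucc_lt_succ (i := i)))
  let v := ValuationRing.valuation R K
  let x : Fin (s.card + 2) → K := fun i => algebraMap R K (y i)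
  have hx0 : ∀ i, x i ≠ 0 := fun i => (map_ne_zero_iff _ (IsFractionRing.injective R K)).2 fun h => hy' i (by
    rw [show y i = 0 from Subtype.ext h]; exact zero_mem _)
  have hx1 : ∀ i, v (x i) ≤ 1 := fun i => (ValuationRing.mem_integer_iff R K _).2 ⟨_, rfl⟩
  have hsep : ∀ i (M : ℕ), v (x i) < (∏ j ∈ Finset.univ.filter (i < ·), v (x j)) ^ M := by
    intro i M
    let z : F s := (∏ j ∈ Finset.univ.filter (i < ·), y j) ^ M
    have hz : z ∉ P i.succ := by
      intro hz
      haveI := hP i.succ
      obtain ⟨j, hj, hjm⟩ := (Ideal.IsPrime.prod_mem_iff (hp := hP i.succ)).1 ((hP i.succ).mem_of_pow_mem M hz)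
      exact hy' j (P.monotone (show i.succ ≤ j.castSucc from
        Fin.succ_le_castSucc_iff.2 (Finset.mem_filter.1 hj).2) hjm)
    have hzv : v (algebraMap R K (z : R)) = (∏ j ∈ Finset.univ.filter (i < ·), v (x j)) ^ M := by
      simp [z, x, map_pow, map_prod]
    rw [← hzv]
    refine lt_of_not_ge fun hle => ?_
    have hle' : v (algebraMap R K (z : R) / x i) ≤ 1 := by
      rw [map_div₀]
      exact div_le_one_of_le₀ hle zero_le
    obtain ⟨c, hc⟩ := (ValuationRing.mem_integer_iff R K _).1 hle'
    have hc' : (y i : R) * c = z := IsFractionRing.injective R K (by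
      rw [map_mul, hc]; exact mul_div_cancel₀ _ (hx0 i))
    have hcF := hdiv (y i) z c (fun h => hy' i (by rw [show y i = 0 from Subtype.ext h]; exact zero_mem _)) hc'
    refine hz ?_
    rw [show z = y i * ⟨c, hcF⟩ from Subtype.ext hc'.symm]
    exact Ideal.mul_mem_right _ _ (hy i)
  obtain ⟨S, hS, hind⟩ := Groth.Agent.ValRingFinSpec.exists_algebraicIndependent v hx0
    (Groth.Agent.ValRingFinSpec.eq_zero_of_prod_eq_one v hx0 hx1 hsep)
  have hcard := Groth.Agent.ValRingFinSpec.card_le_of_algebraicIndependent (k₀ := (⊥ : Subfield K)) s _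
    (fun i : S => (Subfield.closure_le.2 (fun a ha => IntermediateField.subset_adjoin _ _ ha) :
      Subfield.closure (s : Set K) ≤ (IntermediateField.adjoin (⊥ : Subfield K) (s : Set K)).toSubfield)
      (y i.1).2) hind
  rw [Fintype.card_coe] at hcard
  omega

end Groth.Agent.S14893
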