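import Groth.Statements.S14894
import Groth.Agent.EtaModLib.Iso
import Groth.Agent.S7382
import Groth.Agent.ModPairLib.Cartier
import Groth.Agent.NormalSch.Normalization
import Groth.Agent.AffLim.Points
import Groth.Agent.S0429
import Groth.Agent.ASp.EtLocal

set_option autoImplicit false
universe u
open CategoryTheory CategoryTheory.Limits AlgebraicGeometry
open FlatMor

namespace Groth.Agent.S14894

open CategoryTheory CategoryTheory.Limits AlgebraicGeometry

set_option backward.isDefEq.respectTransparency false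
set_option backward.defeqAttrib.useBackward true
set_option linter.style.haveILetI false

set_option maxHeartbeats 1000000
set_option linter.unusedSectionVars false
open TopologicalSpace Opposite

/-- The map onto the scheme-theoretic image is schematically dominant. -/
theorem std_toImage {X Y : Scheme.{u}} (f : X ⟶ Y) : IsSchemeTheoreticallyDominant f.toImage := by
  let j := f.toImage.imageι
  have hle : (j ≫ f.imageι).ker ≤ f.imageι.ker := by
    have h1 : (j ≫ f.imageι).ker ≤ (f.toImage.toImage ≫ j ≫ f.imageι).ker :=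
      Scheme.Hom.le_ker_comp _ _
    have h2 : f.toImage.toImage ≫ j ≫ f.imageι = f := by simp [j]
    rw [h2] at h1
    simpa [Scheme.Hom.imageι] using h1
  let s := IsClosedImmersion.lift (j ≫ f.imageι) f.imageι hle
  have hs : s ≫ j = 𝟙 _ := by
    rw [← cancel_mono f.imageι, Category.assoc, IsClosedImmersion.lift_fac, Category.id_comp]
  haveI : IsSplitEpi j := IsSplitEpi.mk' ⟨s, hs⟩
  haveI : IsIso j := isIso_of_mono_of_isSplitEpi j
  refine ⟨?_⟩
  have h3 : j.ker = ⊥ := Scheme.Hom.ker_eq_bot j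
  exact (Scheme.IdealSheafData.ker_subschemeι _).symm.trans h3

/-- A dominant morphism of irreducible schemes maps the generic point to the generic point. -/
theorem map_genericPoint {A B : Scheme.{u}} [IrreducibleSpace A] [IrreducibleSpace B] (f : A ⟶ B) [IsDominant f] :
    f (genericPoint A) = genericPoint B := by
  refine (IsGenericPoint.eq ?_ (genericPoint_spec B))
  have h := (genericPoint_spec A).image f.continuous
  rwa [Set.image_univ, f.denseRange.closure_range] at h

/-- Two lifts to a modification which is an isomorphism on the generic fibre agree. -/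
theorem lift_unique {T X X' Q : Scheme.{u}} (f : X' ⟶ X) (h : Q ⟶ X) [IsIso (pullback.snd f h)]
    (m : T ⟶ Q) (a : T ⟶ X') (ha : a ≫ f = m ≫ h) :
    a = m ≫ inv (pullback.snd f h) ≫ pullback.fst f h := by
  conv_lhs => rw [← pullback.lift_fst (f := f) (g := h) a m ha]
  have : m = pullback.lift a m ha ≫ pullback.snd f h := (pullback.lift_snd _ _ _).symm
  conv_rhs => rw [this, Category.assoc, IsIso.hom_inv_id_assoc]

/-- Over a normal base, a finite modification dominates every flat one with reduced fibres. -/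
theorem exists_hom_normal {S X X₁ X₂ : Scheme.{u}} [IsIntegral S] [CompactSpace S] [QuasiSeparatedSpace S]
    (hS : Pi1.IsNormalScheme S) (φ : X ⟶ S) (f₁ : X₁ ⟶ X) (f₂ : X₂ ⟶ X) [IsFinite f₁] [IsFinite f₂]
    [Flat (f₁ ≫ φ)] [LocallyOfFinitePresentation (f₁ ≫ φ)]
    (hred : ∀ (K : Type u) [Field K] (k : Spec (CommRingCat.of K) ⟶ S), IsReduced (pullback (f₁ ≫ φ) k))
    (hη : IsIso (pullback.snd f₂ (pullback.fst φ (S.fromSpecStalk (genericPoint S))))) :
    ∃ e : X₁ ⟶ X₂, e ≫ f₂ = f₁ := by
  let v := S.fromSpecStalk (genericPoint S)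
  let h := pullback.fst φ v
  haveI : IsIso (pullback.snd f₂ h) := hη
  haveI : QuasiCompact v := quasiCompact_of_compactSpace v
  let h₁ := pullback.fst (f₁ ≫ φ) v
  haveI : QuasiCompact h₁ := MorphismProperty.pullback_fst _ _ inferInstance
  let m : pullback (f₁ ≫ φ) v ⟶ pullback φ v :=
    pullback.lift (h₁ ≫ f₁) (pullback.snd (f₁ ≫ φ) v) (by rw [Category.assoc]; exact pullback.condition)
  have hm : m ≫ h = h₁ ≫ f₁ := pullback.lift_fst _ _ _
  let g₂ := inv (pullback.snd f₂ h) ≫ pullback.fst f₂ h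
  have hg₂ : g₂ ≫ f₂ = h := by rw [Category.assoc, pullback.condition, IsIso.inv_hom_id_assoc]
  let z : pullback (f₁ ≫ φ) v ⟶ pullback f₁ f₂ :=
    pullback.lift h₁ (m ≫ g₂) (by rw [Category.assoc, hg₂, hm])
  haveI : QuasiCompact z := by
    haveI : QuasiCompact (z ≫ pullback.fst f₁ f₂) := by rw [pullback.lift_fst]; infer_instance
    exact .of_comp z (pullback.fst f₁ f₂)
  haveI := std_toImage z
  haveI : IsFinite (pullback.fst f₁ f₂) := MorphismProperty.pullback_fst _ _ inferInstance
  let π : z.image ⟶ X₁ := z.imageι ≫ pullback.fst f₁ f₂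
  haveI : IsFinite π := inferInstance
  haveI : IsIso π := EtaModLib.isIso_of_generic hS (f₁ ≫ φ) hred π z.toImage
    (by rw [← Category.assoc, z.toImage_imageι]; exact pullback.lift_fst _ _ _)
  refine ⟨inv π ≫ z.imageι ≫ pullback.snd f₁ f₂, ?_⟩
  simp only [Category.assoc]
  rw [IsIso.inv_comp_eq, ← pullback.condition]
  exact (Category.assoc _ _ _).symm

/-- Transport of an isomorphism on the generic fibre to a base change. -/
theorem isIso_snd_snd {X X' Y T Q : Scheme.{u}} (f : X' ⟶ X) (q : Y ⟶ X) (h : T ⟶ Y) (h₀ : Q ⟶ X)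
    [IsIso (pullback.snd f h₀)] (m : T ⟶ Q) (hm : m ≫ h₀ = h ≫ q) :
    IsIso (pullback.snd (pullback.snd f q) h) := by
  have h1 := ((IsPullback.of_hasPullback (pullback.snd f q) h).paste_horiz (IsPullback.of_hasPullback f q).flip.flip).flip
  let l := pullback.lift (f := f) (g := h₀) (pullback.fst (pullback.snd f q) h ≫ pullback.fst f q)
    (pullback.snd (pullback.snd f q) h ≫ m) (by
      rw [Category.assoc, pullback.condition, Category.assoc, hm, ← Category.assoc, pullback.condition, Category.assoc])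
  have h2 : IsPullback (pullback.snd (pullback.snd f q) h) l m (pullback.snd f h₀) := by
    refine IsPullback.of_bot ?_ (pullback.lift_snd _ _ _).symm (IsPullback.of_hasPullback f h₀).flip |>.flip.flip
    rw [pullback.lift_fst, hm]
    exact h1
  exact MorphismProperty.of_isPullback (P := MorphismProperty.isomorphisms Scheme.{u}) h2.flip ‹_›

/-- A finite birational morphism of integral schemes is an isomorphism over a nonempty open. -/
theorem exists_open_isIso {S' S : Scheme.{u}} [IsIntegral S'] [IsIntegral S] (g : S' ⟶ S) [IsFinite g]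
    [IsSchemeTheoreticallyDominant g]
    (hs : Function.Surjective (g.stalkMap (genericPoint S'))) :
    ∃ V : S.Opens, (V : Set S).Nonempty ∧ IsIso (g ∣_ V) := by
  classical
  let η' := genericPoint S'
  obtain ⟨V₀, hV₀, hx, -⟩ := exists_isAffineOpen_mem_and_subset (TopologicalSpace.Opens.mem_top (g η'))
  haveI : Nonempty V₀ := ⟨⟨_, hx⟩⟩
  letI := S.presheaf.algebra_section_stalk (⟨g η', hx⟩ : V₀)
  haveI := hV₀.isLocalization_stalk ⟨g η', hx⟩
  have h1 : ∀ b : Γ(S', g ⁻¹ᵁ V₀), ∃ c : Γ(S, V₀), c ≠ 0 ∧ ∃ a, g.app V₀ c * b = g.app V₀ a := by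
    intro b
    obtain ⟨x, hxb⟩ := hs (S'.presheaf.germ (g ⁻¹ᵁ V₀) η' hx b)
    obtain ⟨⟨a, c⟩, hac⟩ := IsLocalization.surj (hV₀.primeIdealOf ⟨g η', hx⟩).asIdeal.primeCompl x
    refine ⟨c, fun h => c.2 (by rw [h]; exact Ideal.zero_mem _), a, ?_⟩
    haveI : Nonempty (g ⁻¹ᵁ V₀) := ⟨⟨η', hx⟩⟩
    apply germ_injective_of_isIntegral S' η' hx
    rw [map_mul, ← Scheme.Hom.germ_stalkMap_apply, ← Scheme.Hom.germ_stalkMap_apply, ← hxb, ← map_mul]
    refine congrArg (g.stalkMap η') ?_
    rw [mul_comm]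
    exact hac
  letI : Algebra Γ(S, V₀) Γ(S', g ⁻¹ᵁ V₀) := (g.app V₀).hom.toAlgebra
  haveI : Module.Finite Γ(S, V₀) Γ(S', g ⁻¹ᵁ V₀) := g.finite_app V₀ hV₀
  obtain ⟨s, hspan⟩ := (Module.Finite.fg_top : (⊤ : Submodule Γ(S, V₀) Γ(S', g ⁻¹ᵁ V₀)).FG)
  choose c hc a ha using h1
  let C := ∏ b ∈ s, c b
  have hC : C ≠ 0 := Finset.prod_ne_zero_iff.2 fun b _ => hc b
  have h2 : ∀ b : Γ(S', g ⁻¹ᵁ V₀), ∃ a, g.app V₀ C * b = g.app V₀ a := by
    intro b
    have hb : b ∈ Submodule.span Γ(S, V₀) (s : Set Γ(S', g ⁻¹ᵁ V₀)) := hspan ▸ Submodule.mem_top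
    induction hb using Submodule.span_induction with
    | mem x hx =>
      refine ⟨(∏ b ∈ s.erase x, c b) * a x, ?_⟩
      rw [map_mul, ← ha, ← mul_assoc, ← map_mul, Finset.prod_erase_mul _ _ (Finset.mem_coe.1 hx)]
    | zero => exact ⟨0, by simp⟩
    | add x y _ _ hx hy =>
      obtain ⟨a, ha⟩ := hx
      obtain ⟨a', ha'⟩ := hy
      exact ⟨a + a', by rw [mul_add, ha, ha', map_add]⟩
    | smul r x _ hx =>
      obtain ⟨a, ha⟩ := hx
      exact ⟨r * a, by rw [Algebra.smul_def, map_mul, ← ha, RingHom.algebraMap_toAlgebra]; ring⟩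
  let V := S.basicOpen C
  have hVle : V ≤ V₀ := S.basicOpen_le C
  have hVne : (V : Set S).Nonempty := by
    rw [Set.nonempty_iff_ne_empty]
    intro h
    exact hC ((basicOpen_eq_bot_iff C).1 (TopologicalSpace.Opens.coe_eq_empty.1 h))
  refine ⟨V, hVne, ?_⟩
  rw [isIso_morphismRestrict_iff_isIso_app g (hV₀.basicOpen C), ConcreteCategory.isIso_iff_bijective]
  refine ⟨g.app_injective _, fun z => ?_⟩
  have hW : IsAffineOpen (g ⁻¹ᵁ V₀) := hV₀.preimage g
  have hpre : g ⁻¹ᵁ V = S'.basicOpen (g.app V₀ C) := Scheme.preimage_basicOpen g C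
  let r : Γ(S', g ⁻¹ᵁ V₀) ⟶ Γ(S', g ⁻¹ᵁ V) := S'.presheaf.map (homOfLE ((Opens.map g.base).monotone hVle)).op
  letI : Algebra Γ(S', g ⁻¹ᵁ V₀) Γ(S', g ⁻¹ᵁ V) := r.hom.toAlgebra
  haveI : IsLocalization.Away (g.app V₀ C) Γ(S', g ⁻¹ᵁ V) :=
    hW.isLocalization_of_eq_basicOpen _ _ hpre
  obtain ⟨n, b, hb⟩ := IsLocalization.Away.surj (g.app V₀ C) z
  obtain ⟨a, hab⟩ := h2 b
  let ρ : Γ(S, V₀) ⟶ Γ(S, V) := S.presheaf.map (homOfLE hVle).op
  have hu : IsUnit (ρ C) := RingedSpace.isUnit_res_basicOpen _ C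
  have hnat : ∀ x, g.app V (ρ x) = r (g.app V₀ x) := fun x => by
    rw [← CommRingCat.comp_apply, ← CommRingCat.comp_apply]
    exact congrArg (fun q => q.hom x) (g.naturality (homOfLE hVle).op)
  refine ⟨((hu.pow (n + 1)).unit⁻¹ : (Γ(S, V))ˣ) * ρ a, ?_⟩
  refine ((hu.pow (n + 1)).map (g.app V).hom).mul_left_cancel ?_
  rw [← map_mul, ← mul_assoc, IsUnit.mul_val_inv, one_mul, map_pow, hnat, hnat, ← hab, map_mul]
  rw [RingHom.algebraMap_toAlgebra] at hb
  rw [← hb]
  ring


/-- Let S be integral, quasi-compact and quasi-separated with generic point η, φ : X → S flat, locally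
of finite presentation, quasi-compact and quasi-separated, and f₁ : X₁ → X, f₂ : X₂ → X finite
morphisms, each restricting to an isomorphism over a schematically dense open of X whose preimage is
schematically dense, and each an isomorphism after base change to the generic fibre X ×_S Spec
O_{S,η}. Suppose X₁ and X₂ are flat over S with geometrically reduced fibres. Then there are a
finite morphism g : S' → S, restricting to an isomorphism over a nonempty open V of S with g⁻¹(V)
schematically dense in S', and an isomorphism X₁ ×_S S' ≅ X₂ ×_S S' over X ×_S S'; moreover such an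
isomorphism is unique. (Base changes are written as pullbacks along the projection X ×_S S' → X.) -/
theorem result
    {S X X₁ X₂ : Scheme.{u}} [IsIntegral S] [CompactSpace S] [QuasiSeparatedSpace S]
    (φ : X ⟶ S) [Flat φ] [LocallyOfFinitePresentation φ] [QuasiCompact φ] [QuasiSeparated φ]
    (f₁ : X₁ ⟶ X) (f₂ : X₂ ⟶ X) [IsFinite f₁] [IsFinite f₂]
    (U₁ : X.Opens) (hU₁ : IsSchemeTheoreticallyDominant U₁.ι)
    (hU₁' : IsSchemeTheoreticallyDominant (f₁ ⁻¹ᵁ U₁).ι) (hf₁ : IsIso (f₁ ∣_ U₁))
    (U₂ : X.Opens) (hU₂ : IsSchemeTheoreticallyDominant U₂.ι)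
    (hU₂' : IsSchemeTheoreticallyDominant (f₂ ⁻¹ᵁ U₂).ι) (hf₂ : IsIso (f₂ ∣_ U₂))
    (hη₁ : IsIso (pullback.snd f₁ (pullback.fst φ (S.fromSpecStalk (genericPoint S)))))
    (hη₂ : IsIso (pullback.snd f₂ (pullback.fst φ (S.fromSpecStalk (genericPoint S)))))
    [Flat (f₁ ≫ φ)] [Flat (f₂ ≫ φ)]
    (hred₁ : ∀ (K : Type u) [Field K] (k : Spec (CommRingCat.of K) ⟶ S), IsReduced (pullback (f₁ ≫ φ) k))
    (hred₂ : ∀ (K : Type u) [Field K] (k : Spec (CommRingCat.of K) ⟶ S), IsReduced (pullback (f₂ ≫ φ) k)) :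
    ∃ (S' : Scheme.{u}) (g : S' ⟶ S) (V : S.Opens), IsFinite g ∧ (V : Set S).Nonempty ∧
      IsIso (g ∣_ V) ∧ IsSchemeTheoreticallyDominant (g ⁻¹ᵁ V).ι ∧
      ∃ e : pullback f₁ (pullback.fst φ g) ⟶ pullback f₂ (pullback.fst φ g), IsIso e ∧
        e ≫ pullback.snd f₂ (pullback.fst φ g) = pullback.snd f₁ (pullback.fst φ g) ∧
        ∀ e' : pullback f₁ (pullback.fst φ g) ⟶ pullback f₂ (pullback.fst φ g), IsIso e' →
          e' ≫ pullback.snd f₂ (pullback.fst φ g) = pullback.snd f₁ (pullback.fst φ g) → e' = e := by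
  classical
  let v := S.fromSpecStalk (genericPoint S)
  -- the normalisation
  let v₀ : Spec (CommRingCat.of S.functionField) ⟶ S :=
    Spec.map (CommRingCat.ofHom (RingHom.id S.functionField)) ≫ S.fromSpecStalk (genericPoint S)
  have hv₀ : v₀ = v := by simp [v₀, v]
  haveI : IsAffineHom (Spec.map (CommRingCat.ofHom (RingHom.id S.functionField))) := inferInstance
  haveI : QuasiCompact v₀ := quasiCompact_of_compactSpace v₀
  haveI : QuasiSeparated v₀ := inferInstance
  let Sn := v₀.normalization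
  let ν : Sn ⟶ S := v₀.fromNormalization
  haveI : IsIntegralHom ν := inferInstanceAs (IsIntegralHom v₀.fromNormalization)
  haveI : IsIntegral Sn := inferInstanceAs (IsIntegral v₀.normalization)
  have hSn : Pi1.IsNormalScheme Sn := NormalSch.isNormalScheme_normalization (RingHom.id _) v₀ rfl
  have hνη : ν (genericPoint Sn) = genericPoint S := NormalSch.fromNormalization_generic (RingHom.id _) v₀ rfl
  haveI : CompactSpace Sn := QuasiCompact.compactSpace_of_compactSpace ν
  haveI : QuasiSeparatedSpace Sn := quasiSeparatedSpace_of_quasiSeparated ν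
  let σ : Spec (Sn.presheaf.stalk (genericPoint Sn)) ⟶ Spec (S.presheaf.stalk (genericPoint S)) :=
    Spec.map (ν.stalkMap (genericPoint Sn)) ≫
      Spec.map (S.presheaf.stalkSpecializes (Inseparable.of_eq hνη).specializes)
  have hσ : σ ≫ v = Sn.fromSpecStalk (genericPoint Sn) ≫ ν := by
    rw [Category.assoc, Scheme.SpecMap_stalkSpecializes_fromSpecStalk, Scheme.SpecMap_stalkMap_fromSpecStalk]
  -- the limit
  obtain ⟨I, _, _, _, D, c, hc, hD, ⟨ε⟩⟩ := S7382.result ν
  haveI : Nonempty Iᵒᵖ := ⟨op (Classical.arbitrary I)⟩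
  let D' := D ⋙ Over.forget S
  let c' := (Over.forget S).mapCone c
  have hc' : IsLimit c' := isLimitOfPreserves (Over.forget S) hc
  haveI : ∀ {i j} (a : i ⟶ j), IsAffineHom (D'.map a) := fun {i j} a => by
    haveI := (hD i).1
    haveI := (hD j).1
    haveI : IsAffineHom ((D.map a).left ≫ (D.obj j).hom) := by rw [Over.w]; infer_instance
    exact IsAffineHom.of_comp (D.map a).left (D.obj j).hom
  -- one direction at a stage
  have dir : ∀ (A B : Scheme.{u}) (fA : A ⟶ X) (fB : B ⟶ X) [IsFinite fA] [IsFinite fB]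
      [Flat (fA ≫ φ)] [LocallyOfFinitePresentation (fA ≫ φ)] [LocallyOfFinitePresentation (fB ≫ φ)],
      (∀ (K : Type u) [Field K] (k : Spec (CommRingCat.of K) ⟶ S), IsReduced (pullback (fA ≫ φ) k)) →
      IsIso (pullback.snd fB (pullback.fst φ v)) →
      ∃ j : Iᵒᵖ, ∀ (l : Iᵒᵖ) (_ : l ⟶ j) (S' : Scheme.{u}) (g' : S' ⟶ S) (u : S' ⟶ (D.obj l).left),
        u ≫ (D.obj l).hom = g' →
        ∃ e : pullback fA (pullback.fst φ g') ⟶ pullback fB (pullback.fst φ g'),
          e ≫ pullback.snd fB (pullback.fst φ g') = pullback.snd fA (pullback.fst φ g') := by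
    intro A B fA fB _ _ _ _ _ hrA hηB
    haveI : LocallyOfFinitePresentation fB :=
      ASp.locallyOfFinitePresentation_of_comp fB φ inferInstance inferInstance
    let qA := pullback.snd fA (pullback.fst φ ν)
    let qB := pullback.snd fB (pullback.fst φ ν)
    let φn := pullback.snd φ ν
    haveI : IsFinite qA := MorphismProperty.pullback_snd _ _ inferInstance
    haveI : IsFinite qB := MorphismProperty.pullback_snd _ _ inferInstance
    have sqA : IsPullback (pullback.fst fA (pullback.fst φ ν)) (qA ≫ φn) (fA ≫ φ) ν :=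
      (IsPullback.of_hasPullback fA (pullback.fst φ ν)).paste_vert (IsPullback.of_hasPullback φ ν)
    haveI : Flat (qA ≫ φn) := MorphismProperty.of_isPullback sqA inferInstance
    haveI : LocallyOfFinitePresentation (qA ≫ φn) := MorphismProperty.of_isPullback sqA inferInstance
    have hr : ∀ (K : Type u) [Field K] (k : Spec (CommRingCat.of K) ⟶ Sn), IsReduced (pullback (qA ≫ φn) k) := by
      intro K _ k
      haveI := hrA K (k ≫ ν)
      exact isReduced_of_isOpenImmersion ((IsPullback.of_hasPullback (qA ≫ φn) k).paste_horiz sqA).isoPullback.hom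
    have hηn : IsIso (pullback.snd qB (pullback.fst φn (Sn.fromSpecStalk (genericPoint Sn)))) := by
      haveI := hηB
      refine isIso_snd_snd fB (pullback.fst φ ν) (pullback.fst φn (Sn.fromSpecStalk (genericPoint Sn))) (pullback.fst φ v)
        (pullback.lift (pullback.fst φn (Sn.fromSpecStalk (genericPoint Sn)) ≫ pullback.fst φ ν)
          (pullback.snd φn (Sn.fromSpecStalk (genericPoint Sn)) ≫ σ) ?_) (pullback.lift_fst _ _ _)
      rw [Category.assoc, Category.assoc, pullback.condition, hσ, ← Category.assoc, pullback.condition,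
        Category.assoc]
    obtain ⟨e, he⟩ := exists_hom_normal hSn φn qA qB hr hηn
    let j₀ : Iᵒᵖ := Classical.arbitrary _
    haveI := (hD j₀).1
    let gG := pullback.snd (fA ≫ φ) (D.obj j₀).hom
    haveI : CompactSpace ↥(pullback (fA ≫ φ) (D.obj j₀).hom) := by
      haveI : CompactSpace A := QuasiCompact.compactSpace_of_compactSpace (fA ≫ φ)
      haveI : QuasiCompact (pullback.fst (fA ≫ φ) (D.obj j₀).hom) := MorphismProperty.pullback_fst _ _ inferInstance
      exact QuasiCompact.compactSpace_of_compactSpace (pullback.fst (fA ≫ φ) (D.obj j₀).hom)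
    haveI : QuasiSeparatedSpace ↥(pullback (fA ≫ φ) (D.obj j₀).hom) := by
      haveI : QuasiSeparatedSpace A := quasiSeparatedSpace_of_quasiSeparated (fA ≫ φ)
      haveI : IsFinite (pullback.fst (fA ≫ φ) (D.obj j₀).hom) := MorphismProperty.pullback_fst _ _ inferInstance
      exact quasiSeparatedSpace_of_quasiSeparated (pullback.fst (fA ≫ φ) (D.obj j₀).hom)
    let E := AffLim.baseChange D' j₀ gG
    let cE := AffLim.baseChangeCone D' c' j₀ gG
    obtain ⟨hcE⟩ := AffLim.nonempty_isLimit_baseChangeCone D' c' hc' j₀ gG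
    let t : E ⟶ (Functor.const _).obj X :=
      { app := fun k => pullback.fst gG (D'.map k.hom) ≫ pullback.fst (fA ≫ φ) (D.obj j₀).hom ≫ fA
        naturality := fun k k' a => by simp [E, pullback.map] }
    let α : cE.pt ⟶ pullback fA (pullback.fst φ ν) :=
      pullback.lift (pullback.fst gG (c'.π.app j₀) ≫ pullback.fst (fA ≫ φ) (D.obj j₀).hom)
        (pullback.lift (pullback.fst gG (c'.π.app j₀) ≫ pullback.fst (fA ≫ φ) (D.obj j₀).hom ≫ fA)
          (pullback.snd gG (c'.π.app j₀) ≫ ε.hom.left) (by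
            have hw : ε.hom.left ≫ ν = c.pt.hom := Over.w ε.hom
            have hj : c'.π.app j₀ ≫ (D.obj j₀).hom = c.pt.hom := Over.w (c.π.app j₀)
            rw [Category.assoc, Category.assoc, Category.assoc, pullback.condition, ← Category.assoc, pullback.condition,
              Category.assoc, hj, hw]))
        (by rw [pullback.lift_fst, Category.assoc])
    haveI : ∀ k, CompactSpace (E.obj k) := fun k => AffLim.compactSpace_baseChange D' j₀ gG k
    haveI : ∀ k, QuasiSeparatedSpace (E.obj k) := fun k => by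
      haveI : IsAffineHom (pullback.fst gG (D'.map k.hom)) :=
        MorphismProperty.pullback_fst (P := @IsAffineHom) gG (D'.map k.hom) inferInstance
      exact quasiSeparatedSpace_of_quasiSeparated (pullback.fst gG (D'.map k.hom))
    obtain ⟨k, ak, -, hak⟩ := Scheme.exists_π_app_comp_eq_of_locallyOfFinitePresentation E t fB cE hcE
      (α ≫ e ≫ pullback.fst fB (pullback.fst φ ν)) (by
        refine NatTrans.ext (funext fun k => ?_)
        show cE.π.app k ≫ pullback.fst gG (D'.map k.hom) ≫ pullback.fst (fA ≫ φ) (D.obj j₀).hom ≫ fA = _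
        show _ = (α ≫ e ≫ pullback.fst fB (pullback.fst φ ν)) ≫ fB
        rw [Category.assoc, Category.assoc, pullback.condition, reassoc_of% he, ← pullback.condition, ← Category.assoc α,
          pullback.lift_fst]
        simp [cE, pullback.map])
    refine ⟨k.left, fun l hl S' g' u hu => ?_⟩
    let w₀ : pullback fA (pullback.fst φ g') ⟶ S' := pullback.snd fA (pullback.fst φ g') ≫ pullback.snd φ g'
    have hcond : pullback.fst fA (pullback.fst φ g') ≫ fA ≫ φ =
        (w₀ ≫ u ≫ D'.map (hl ≫ k.hom)) ≫ (D.obj j₀).hom := by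
      have hw : D'.map (hl ≫ k.hom) ≫ (D.obj j₀).hom = (D.obj l).hom := Over.w (D.map (hl ≫ k.hom))
      simp only [w₀, Category.assoc]
      rw [hw, hu, pullback.condition_assoc, pullback.condition]
    let β : pullback fA (pullback.fst φ g') ⟶ E.obj k :=
      pullback.lift (pullback.lift (pullback.fst fA (pullback.fst φ g')) (w₀ ≫ u ≫ D'.map (hl ≫ k.hom)) hcond)
        (w₀ ≫ u ≫ D'.map hl) (by
          rw [pullback.lift_snd]
          simp [w₀, Functor.map_comp])
    refine ⟨pullback.lift (β ≫ ak) (pullback.snd fA (pullback.fst φ g')) ?_, pullback.lift_snd _ _ _⟩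
    rw [Category.assoc, hak]
    show β ≫ pullback.fst gG (D'.map k.hom) ≫ pullback.fst (fA ≫ φ) (D.obj j₀).hom ≫ fA = _
    rw [pullback.lift_fst_assoc, pullback.lift_fst_assoc, pullback.condition]
  haveI : LocallyOfFinitePresentation (f₁ ≫ φ) := S0429.result _
  haveI : LocallyOfFinitePresentation (f₂ ≫ φ) := S0429.result _
  obtain ⟨j₁, hj₁⟩ := dir X₁ X₂ f₁ f₂ hred₁ hη₂
  obtain ⟨j₂, hj₂⟩ := dir X₂ X₁ f₂ f₁ hred₂ hη₁
  let l := IsCofiltered.min j₁ j₂
  haveI := (hD l).1
  let u₀ : Sn ⟶ (D.obj l).left := ε.inv.left ≫ (c.π.app l).left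
  have hu₀ : u₀ ≫ (D.obj l).hom = ν := Over.w (ε.inv ≫ c.π.app l)
  haveI : QuasiCompact u₀ := by
    haveI : QuasiCompact (u₀ ≫ (D.obj l).hom) := by rw [hu₀]; infer_instance
    exact .of_comp u₀ (D.obj l).hom
  let S' := u₀.image
  let u : S' ⟶ (D.obj l).left := u₀.imageι
  let g' : S' ⟶ S := u ≫ (D.obj l).hom
  haveI : IsFinite g' := inferInstanceAs (IsFinite (u₀.imageι ≫ (D.obj l).hom))
  have hg' : u₀.toImage ≫ g' = ν := by
    show u₀.toImage ≫ u₀.imageι ≫ (D.obj l).hom = ν
    rw [← Category.assoc, u₀.toImage_imageι, hu₀]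
  haveI : IsSchemeTheoreticallyDominant u₀.toImage := std_toImage u₀
  haveI : IsReduced S' := IsSchemeTheoreticallyDominant.isReduced u₀.toImage
  haveI : IrreducibleSpace S' := by
    haveI : Nonempty S' := ⟨u₀.toImage (genericPoint Sn)⟩
    haveI : PreirreducibleSpace S' := ⟨by
      have h1 := ((IrreducibleSpace.isIrreducible_univ Sn).2.image _ u₀.toImage.continuous.continuousOn).closure
      rwa [Set.image_univ, u₀.toImage.denseRange.closure_range] at h1⟩
    exact ⟨inferInstance⟩
  haveI : IsIntegral S' := isIntegral_of_irreducibleSpace_of_isReduced S'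
  haveI : IsDominant g' := ⟨by
    refine Dense.mono ?_ (dense_iff_closure_eq.2 (genericPoint_spec S))
    rintro x rfl
    exact ⟨u₀.toImage (genericPoint Sn), by rw [← Scheme.Hom.comp_apply, hg', hνη]⟩⟩
  haveI : IsSchemeTheoreticallyDominant g' := .of_isDominant g'
  let t' : Spec (CommRingCat.of S.functionField) ⟶ S' := v₀.toNormalization ≫ u₀.toImage
  have ht' : t' ≫ g' = v := by
    show (v₀.toNormalization ≫ u₀.toImage) ≫ g' = v
    rw [Category.assoc, hg', Scheme.Hom.toNormalization_fromNormalization, hv₀]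
  haveI : IsDominant t' := inferInstanceAs (IsDominant (v₀.toNormalization ≫ u₀.toImage))
  haveI : IsSchemeTheoreticallyDominant t' := .of_isDominant t'
  haveI : QuasiCompact t' := by
    haveI : QuasiCompact (t' ≫ g') := by rw [ht']; exact quasiCompact_of_compactSpace v
    exact .of_comp t' g'
  let η₀ := genericPoint (Spec (CommRingCat.of S.functionField))
  have hη₀ : t' η₀ = genericPoint S' := map_genericPoint t'
  have hs₀ : Function.Surjective (g'.stalkMap (t' η₀)) := by
    haveI : IsPreimmersion (t' ≫ g') := by rw [ht']; infer_instance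
    have hf : IsField (S'.presheaf.stalk (t' η₀)) := by
      rw [hη₀]; exact Field.toIsField S'.functionField
    letI := hf.toField
    intro y
    obtain ⟨x, hx⟩ := (t' ≫ g').stalkMap_surjective η₀ (t'.stalkMap η₀ y)
    refine ⟨x, RingHom.injective (t'.stalkMap η₀).hom ?_⟩
    rw [Scheme.Hom.stalkMap_comp] at hx
    exact hx
  have hs : Function.Surjective (g'.stalkMap (genericPoint S')) := hη₀ ▸ hs₀
  obtain ⟨V, hV, hVg⟩ := exists_open_isIso g' hs
  have hVd : IsSchemeTheoreticallyDominant (g' ⁻¹ᵁ V).ι := by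
    haveI : IsDominant (g' ⁻¹ᵁ V).ι := ⟨by
      show Dense (Set.range (g' ⁻¹ᵁ V).ι)
      rw [Scheme.Opens.range_ι]
      refine (g' ⁻¹ᵁ V).isOpen.dense ⟨genericPoint S', ?_⟩
      show g' (genericPoint S') ∈ V
      rw [map_genericPoint g']
      exact ((genericPoint_spec S).mem_open_set_iff V.isOpen).mpr (by simpa using hV)⟩
    exact .of_isDominant _
  have uniq : ∀ (A B : Scheme.{u}) (fA : A ⟶ X) (fB : B ⟶ X) [IsFinite fB] [Flat (fA ≫ φ)],
      IsIso (pullback.snd fB (pullback.fst φ v)) →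
      ∀ a b : pullback fA (pullback.fst φ g') ⟶ pullback fB (pullback.fst φ g'),
        a ≫ pullback.snd fB (pullback.fst φ g') = pullback.snd fA (pullback.fst φ g') →
        b ≫ pullback.snd fB (pullback.fst φ g') = pullback.snd fA (pullback.fst φ g') → a = b := by
    intro A B fA fB _ _ hB a b ha hb
    haveI := hB
    let q : pullback fA (pullback.fst φ g') ⟶ S' := pullback.snd fA (pullback.fst φ g') ≫ pullback.snd φ g'
    have sq : IsPullback (pullback.fst fA (pullback.fst φ g')) q (fA ≫ φ) g' :=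
      (IsPullback.of_hasPullback fA (pullback.fst φ g')).paste_vert (IsPullback.of_hasPullback φ g')
    haveI : Flat q := MorphismProperty.of_isPullback sq inferInstance
    let r := pullback.fst q t'
    haveI : IsSeparated (pullback.snd fB (pullback.fst φ g')) := MorphismProperty.pullback_snd _ _ inferInstance
    refine ModPairLib.hom_ext_dominant r (pullback.snd fB (pullback.fst φ g')) (ha.trans hb.symm) ?_
    let m : pullback q t' ⟶ pullback φ v :=
      pullback.lift (r ≫ pullback.snd fA (pullback.fst φ g') ≫ pullback.fst φ g') (pullback.snd q t') (by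
        rw [Category.assoc, Category.assoc, pullback.condition, ← Category.assoc (pullback.snd fA _),
          ← ht', ← Category.assoc (pullback.snd q t')]
        exact (Category.assoc _ _ _).symm.trans (congrArg (· ≫ g') pullback.condition))
    refine pullback.hom_ext ?_ ?_
    · refine (lift_unique fB (pullback.fst φ v) m _ ?_).trans (lift_unique fB (pullback.fst φ v) m _ ?_).symm <;>
        simp only [Category.assoc, pullback.condition, reassoc_of% ha, reassoc_of% hb, m, pullback.lift_fst]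
    · simp only [Category.assoc, ha, hb]
  obtain ⟨e₁, he₁⟩ := hj₁ l (IsCofiltered.minToLeft j₁ j₂) S' g' u rfl
  obtain ⟨e₂, he₂⟩ := hj₂ l (IsCofiltered.minToRight j₁ j₂) S' g' u rfl
  refine ⟨S', g', V, inferInstance, hV, hVg, hVd, e₁, ⟨e₂, ?_, ?_⟩, he₁, fun e' _ he' => ?_⟩
  · exact uniq X₁ X₁ f₁ f₁ hη₁ _ _ (by rw [Category.assoc, he₂, he₁]) (Category.id_comp _)
  · exact uniq X₂ X₂ f₂ f₂ hη₂ _ _ (by rw [Category.assoc, he₁, he₂]) (Category.id_comp _)
  · exact uniq X₁ X₂ f₁ f₂ hη₂ _ _ he' he₁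

end Groth.Agent.S14894
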