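import Groth.Statements.S14896
import Mathlib
-- import your own Groth.Agent.* helpers here

set_option autoImplicit false
universe u
open CAlg

namespace Groth.Agent.S14896

/-- Let L/K be a finite extension of valued fields, v_L extending v_K, with K° = the valuation ring of
v_K having finite spectrum (finite height), and L° the valuation ring of v_L. If L° is local-étale
over K°, i.e. L° is the localization at a prime ideal of some étale K°-algebra B compatibly with the
K°-algebra structures, then L° is étale over K°. (For valued fields of finite height 'unramified' in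
the local-étale sense is thus the same as K° → L° étale; the published lemma phrases the hypothesis
as 'L/K unramified'.) -/
theorem result
    {K L Γ₀ Γ₁ : Type u} [Field K] [Field L] [Algebra K L] [FiniteDimensional K L]
    [LinearOrderedCommGroupWithZero Γ₀] [LinearOrderedCommGroupWithZero Γ₁]
    (vK : Valuation K Γ₀) (vL : Valuation L Γ₁) [vK.HasExtension vL]
    [Finite (PrimeSpectrum vK.valuationSubring)]
    (B : Type u) [CommRing B] [Algebra vK.valuationSubring B] [Algebra.Etale vK.valuationSubring B]
    [Algebra B vL.valuationSubring] [IsScalarTower vK.valuationSubring B vL.valuationSubring]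
    (P : Ideal B) [P.IsPrime] [IsLocalization.AtPrime vL.valuationSubring P] :
    Algebra.Etale vK.valuationSubring vL.valuationSubring := by
  classical
  haveI : Algebra.QuasiFinite vK.valuationSubring B := inferInstance
  haveI : Finite (PrimeSpectrum B) := by
    refine Set.finite_univ_iff.mp ?_
    exact (Algebra.QuasiFinite.finite_comap_preimage (R := vK.valuationSubring) (S := B) Set.finite_univ)
  haveI : Fintype (PrimeSpectrum B) := Fintype.ofFinite _
  have hex : ∀ Q : PrimeSpectrum B, ¬ Q.asIdeal ≤ P → ∃ g ∈ Q.asIdeal, g ∉ P := fun Q h => SetLike.not_le_iff_exists.mp h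
  choose g hgQ hgP using hex
  let s := ∏ Q ∈ Finset.univ.filter (fun Q : PrimeSpectrum B => ¬ Q.asIdeal ≤ P),
    (if h : Q.asIdeal ≤ P then (1 : B) else g Q h)
  have hs : s ∉ P := by
    intro h
    obtain ⟨Q, hQ, hQP⟩ := (Ideal.IsPrime.prod_mem_iff).mp h
    rw [dif_neg (Finset.mem_filter.mp hQ).2] at hQP
    exact hgP _ _ hQP
  have hunit : ∀ (C : Type u) [CommRing C] [Algebra B C] [IsLocalization.Away s C] (t : B), t ∉ P →
      IsUnit (algebraMap B C t) := by
    intro C _ _ _ t ht
    by_contra hu
    obtain ⟨M, hM, htM⟩ := exists_max_ideal_of_mem_nonunits hu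
    haveI := hM
    let Q : PrimeSpectrum B := ⟨M.comap (algebraMap B C), inferInstance⟩
    have hQ : ¬ Q.asIdeal ≤ P := fun hle => ht (hle (show algebraMap B C t ∈ M from htM))
    have hsQ : s ∈ Q.asIdeal := Ideal.mem_of_dvd _ (Finset.dvd_prod_of_mem _
      (Finset.mem_filter.mpr ⟨Finset.mem_univ Q, hQ⟩)) (by rw [dif_neg hQ]; exact hgQ Q hQ)
    exact hM.ne_top (M.eq_top_of_isUnit_mem hsQ (IsLocalization.Away.algebraMap_isUnit s))
  let C := Localization.Away s
  haveI : IsLocalization.AtPrime C P := by
    refine IsLocalization.of_le (M := Submonoid.powers s) (S := C) P.primeCompl ?_ fun t ht => hunit C t ht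
    rintro _ ⟨n, rfl⟩
    exact fun h => hs (Ideal.IsPrime.mem_of_pow_mem ‹_› n h)
  haveI : Algebra.Etale B C := Algebra.Etale.of_isLocalizationAway s
  haveI : Algebra.Etale vK.valuationSubring C := Algebra.Etale.comp vK.valuationSubring B C
  exact Algebra.Etale.of_equiv ((IsLocalization.algEquiv P.primeCompl C vL.valuationSubring).restrictScalars vK.valuationSubring)

end Groth.Agent.S14896
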