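import Groth.Statements.S14898
import Groth.Agent.RGBlowLib.Nagata

set_option autoImplicit false
set_option linter.style.haveILetI false
set_option backward.isDefEq.respectTransparency false
set_option maxHeartbeats 800000
universe u
open CategoryTheory CategoryTheory.Limits AlgebraicGeometry
open FlatMor

namespace Groth.Agent.S14898

/-- Let S be integral, quasi-compact and quasi-separated and η̄ : Spec K̄ → S dominant, K̄ a field.
Suppose given finitely many K̄-quasi-modifications of S: schematically dominant t_i : Spec K̄ → T_i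
followed by separated, quasi-compact, locally finite type p_i : T_i → S with t_i ≫ p_i = η̄. Then
there is a K̄-modification of S — a schematically dominant s : Spec K̄ → S' followed by a proper q :
S' → S with s ≫ q = η̄ — and opens V_i ⊆ S' through which s factors, together with proper
S-morphisms r_i : V_i → T_i sending the K̄-point to t_i; that is, each V_i is a K̄-modification of
T_i sitting inside S' as an open subscheme over S. -/
theorem result
    {S : Scheme.{u}} [IsIntegral S] [CompactSpace S] [QuasiSeparatedSpace S]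
    (Kb : Type u) [Field Kb] (ηb : Spec (CommRingCat.of Kb) ⟶ S) [IsDominant ηb]
    {ι : Type u} [Finite ι] (T : ι → Scheme.{u}) (t : ∀ i, Spec (CommRingCat.of Kb) ⟶ T i)
    (p : ∀ i, T i ⟶ S) [∀ i, IsSchemeTheoreticallyDominant (t i)] [∀ i, IsSeparated (p i)]
    [∀ i, LocallyOfFiniteType (p i)] [∀ i, QuasiCompact (p i)] (hp : ∀ i, t i ≫ p i = ηb) :
    ∃ (S' : Scheme.{u}) (s : Spec (CommRingCat.of Kb) ⟶ S') (q : S' ⟶ S),
      IsSchemeTheoreticallyDominant s ∧ IsProper q ∧ s ≫ q = ηb ∧
      ∀ i, ∃ (V : S'.Opens) (v : Spec (CommRingCat.of Kb) ⟶ (V : Scheme.{u}))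
        (r : (V : Scheme.{u}) ⟶ T i),
        v ≫ V.ι = s ∧ IsProper r ∧ v ≫ r = t i ∧ r ≫ p i = V.ι ≫ q := by
  classical
  haveI : Fintype ι := Fintype.ofFinite ι
  choose Y j g hj hjc hg hjg using fun i => RGBlowLib.compactifiable (p i)
  have key : ∀ F : Finset ι, ∃ (P : Scheme.{u}) (σ : Spec (CommRingCat.of Kb) ⟶ P) (π : P ⟶ S),
      IsProper π ∧ σ ≫ π = ηb ∧ ∀ i ∈ F, ∃ m : P ⟶ Y i, m ≫ g i = π ∧ σ ≫ m = t i ≫ j i := by
    intro F
    induction F using Finset.induction_on with
    | empty => exact ⟨S, ηb, 𝟙 S, inferInstance, Category.comp_id _, fun i hi => absurd hi (Finset.notMem_empty i)⟩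
    | insert a F _ ih =>
      obtain ⟨P, σ, π, hπ, hσ, h⟩ := ih
      haveI := hπ
      haveI := hg a
      haveI : IsProper (pullback.fst π (g a)) := MorphismProperty.pullback_fst (P := @IsProper) _ _ inferInstance
      refine ⟨pullback π (g a), pullback.lift σ (t a ≫ j a) (by rw [hσ, Category.assoc, hjg a, hp a]),
        pullback.fst π (g a) ≫ π, inferInstance, by rw [pullback.lift_fst_assoc, hσ], fun i hi => ?_⟩
      rcases Finset.mem_insert.1 hi with rfl | hi
      · exact ⟨pullback.snd _ _, pullback.condition.symm, pullback.lift_snd _ _ _⟩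
      · obtain ⟨m, hm, hm'⟩ := h i hi
        exact ⟨pullback.fst π (g a) ≫ m, by rw [Category.assoc, hm], by rw [pullback.lift_fst_assoc, hm']⟩
  obtain ⟨P, σ, π, hπ, hσ, h⟩ := key Finset.univ
  haveI := hπ
  haveI : QuasiSeparatedSpace P := quasiSeparatedSpace_of_quasiSeparated π
  haveI : QuasiCompact σ := quasiCompact_of_compactSpace σ
  refine ⟨σ.image, σ.toImage, σ.imageι ≫ π, inferInstance, inferInstance,
    by rw [Scheme.Hom.toImage_imageι_assoc, hσ], fun i => ?_⟩
  obtain ⟨m, hm, hm'⟩ := h i (Finset.mem_univ i)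
  haveI := hj i
  haveI := hg i
  let c : σ.image ⟶ Y i := σ.imageι ≫ m
  let V : σ.image.Opens := c ⁻¹ᵁ (j i).opensRange
  have hr : Set.range (V.ι ≫ c) ⊆ Set.range (j i) := by
    rintro _ ⟨w, rfl⟩
    exact w.2
  let r : (V : Scheme.{u}) ⟶ T i := IsOpenImmersion.lift (j i) (V.ι ≫ c) hr
  have hrj : r ≫ j i = V.ι ≫ c := IsOpenImmersion.lift_fac _ _ _
  have hσV : Set.range σ.toImage ⊆ Set.range V.ι := by
    rintro _ ⟨x, rfl⟩
    rw [Scheme.Opens.range_ι]
    show c (σ.toImage x) ∈ (j i).opensRange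
    rw [← Scheme.Hom.comp_apply, Scheme.Hom.toImage_imageι_assoc, hm']
    exact ⟨t i x, rfl⟩
  let v : Spec (CommRingCat.of Kb) ⟶ (V : Scheme.{u}) := IsOpenImmersion.lift V.ι σ.toImage hσV
  have hv : v ≫ V.ι = σ.toImage := IsOpenImmersion.lift_fac _ _ _
  haveI : IsProper (c ≫ g i) := by
    show IsProper ((σ.imageι ≫ m) ≫ g i)
    rw [Category.assoc, hm]; infer_instance
  haveI : IsProper c := IsProper.of_comp c (g i)
  refine ⟨V, v, r, hv, ?_, ?_, ?_⟩
  · refine MorphismProperty.of_isPullback (P := @IsProper)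
      (IsOpenImmersion.isPullback r V.ι (j i) c hrj.symm ?_).flip inferInstance
    ext x
    simp [V]
  · rw [← cancel_mono (j i), Category.assoc, hrj, reassoc_of% hv, Scheme.Hom.toImage_imageι_assoc, hm']
  · rw [← hjg i, reassoc_of% hrj, Category.assoc, hm]

end Groth.Agent.S14898
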