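import Groth.Statements.S14901
import Groth.Agent.OpenDim.Dims

set_option autoImplicit false
universe u
open MovLem

namespace Groth.Agent.S14901

open AlgebraicGeometry CategoryTheory Topology Groth.Agent.OpenDim

/-- a constructible set agrees, near each point, with its complement or itself on the closure of the point. -/
theorem constr_near {T : Type*} [TopologicalSpace T] {s : Set T} (hs : IsConstructible s) (z : T) :
    ∃ U : Set T, IsOpen U ∧ z ∈ U ∧ ∀ x ∈ U, z ⤳ x → (x ∈ s ↔ z ∈ s) := by
  induction hs using IsConstructible.empty_union_induction with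
  | open_retrocompact U hUo _ =>
    by_cases hz : z ∈ U
    · exact ⟨U, hUo, hz, fun x hx _ => iff_of_true hx hz⟩
    · exact ⟨Set.univ, isOpen_univ, trivial, fun x _ hzx =>
        iff_of_false (fun hx => hz (hzx.mem_open hUo hx)) hz⟩
  | union s hs t ht ihs iht =>
    obtain ⟨U, hU, hzU, hUs⟩ := ihs
    obtain ⟨V, hV, hzV, hVt⟩ := iht
    exact ⟨U ∩ V, hU.inter hV, ⟨hzU, hzV⟩, fun x hx hzx => by
      simp only [Set.mem_union]; rw [hUs x hx.1 hzx, hVt x hx.2 hzx]⟩
  | compl s hs ihs =>
    obtain ⟨U, hU, hzU, hUs⟩ := ihs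
    exact ⟨U, hU, hzU, fun x hx hzx => by simp only [Set.mem_compl_iff]; rw [hUs x hx hzx]⟩

/-- the dimension of the stalk at a point below `s` is at most the height of its prime. -/
theorem stalk_dim_le (S : Scheme.{u}) (s : S) (P : Spec (S.presheaf.stalk s)) :
    ringKrullDim (S.presheaf.stalk (S.fromSpecStalk s P)) ≤ (Order.height (α := PrimeSpectrum (S.presheaf.stalk s)) P : WithBot ℕ∞) := by
  rw [ringKrullDim_stalk_eq_coheight, WithBot.coe_le_coe, Order.coheight_le_iff]
  intro p hp
  have hemb : IsInducing (S.fromSpecStalk s) := (S.fromSpecStalk s).isEmbedding.isInducing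
  have hmem : ∀ i, p i ∈ Set.range (S.fromSpecStalk s) := by
    intro i
    rw [Scheme.range_fromSpecStalk]
    have h1 : S.fromSpecStalk s P ≤ p i := hp.trans (p.head_le i)
    have h2 : S.fromSpecStalk s P ⤳ s := by
      have : S.fromSpecStalk s P ∈ Set.range (S.fromSpecStalk s) := ⟨P, rfl⟩
      rw [Scheme.range_fromSpecStalk] at this
      exact this
    exact (Scheme.le_iff_specializes.mp h1).trans h2
  choose q hq using hmem
  let Q : Fin (p.length + 1) → PrimeSpectrum (S.presheaf.stalk s) := fun i => q i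
  have hle : ∀ i j, p i ≤ p j → Q j ≤ Q i := fun i j h => by
    apply (PrimeSpectrum.le_iff_specializes _ _).mpr
    exact hemb.specializes_iff.mp (by rw [hq, hq]; exact Scheme.le_iff_specializes.mp h)
  let L : LTSeries (PrimeSpectrum (S.presheaf.stalk s)) :=
    { length := p.length
      toFun := fun i => Q i.rev
      step := fun i => by
        have hlt : p i.rev.castSucc < p i.rev.succ := p.step i.rev
        rw [← Fin.rev_succ, ← Fin.rev_castSucc] at hlt
        refine lt_of_le_of_ne (hle _ _ hlt.le) fun he => hlt.ne ?_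
        rw [← hq, ← hq]
        exact congrArg _ he.symm }
  refine le_trans (le_of_eq rfl) (Order.length_le_height (p := L) ?_)
  show Q (Fin.last _).rev ≤ (P : PrimeSpectrum (S.presheaf.stalk s))
  rw [Fin.rev_last]
  apply (PrimeSpectrum.le_iff_specializes _ _).mpr
  exact hemb.specializes_iff.mp (by rw [hq]; exact Scheme.le_iff_specializes.mp hp)

/-- a prime minimal over the extended maximal ideal has height at most the dimension downstairs. -/
theorem height_le_dim {R S : Type*} [CommRing R] [IsLocalRing R] [IsNoetherianRing R] [CommRing S]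
    [IsNoetherianRing S] [Algebra R S] (P : Ideal S) [P.IsPrime]
    (hP : P ∈ ((IsLocalRing.maximalIdeal R).map (algebraMap R S)).minimalPrimes) :
    (P.height : WithBot ℕ∞) ≤ ringKrullDim R := by
  have hover : P.LiesOver (IsLocalRing.maximalIdeal R) := by
    constructor
    refine IsLocalRing.maximalIdeal.isMaximal R |>.eq_of_le ?_ (Ideal.map_le_iff_le_comap.mp hP.1.2)
    exact Ideal.IsPrime.ne_top inferInstance
  have h := Ideal.height_le_height_add_of_liesOver (IsLocalRing.maximalIdeal R) P
  have h0 : (P.map (Ideal.Quotient.mk ((IsLocalRing.maximalIdeal R).map (algebraMap R S)))).height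
      = 0 := by
    haveI : (P.map (Ideal.Quotient.mk ((IsLocalRing.maximalIdeal R).map (algebraMap R S)))).IsPrime :=
      Ideal.map_isPrime_of_surjective Ideal.Quotient.mk_surjective (by rw [Ideal.mk_ker]; exact hP.1.2)
    rw [Ideal.height_eq_zero_iff, minimalPrimes]
    refine ⟨⟨inferInstance, bot_le⟩, fun Q hQ hle => ?_⟩
    haveI := hQ.1
    have hc : P ≤ Q.comap (Ideal.Quotient.mk _) := by
      refine hP.2 ⟨Ideal.IsPrime.comap _, fun x hx => ?_⟩ ?_
      · rw [Ideal.mem_comap, Ideal.Quotient.eq_zero_iff_mem.mpr hx]; exact zero_mem Q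
      · refine le_trans (Ideal.comap_mono hle) ?_
        rw [Ideal.comap_map_of_surjective _ Ideal.Quotient.mk_surjective, ← RingHom.ker_eq_comap_bot,
          Ideal.mk_ker, sup_le_iff]
        exact ⟨le_rfl, hP.1.2⟩
    exact Ideal.map_le_iff_le_comap.mpr hc
  rw [h0, add_zero] at h
  rw [← IsLocalRing.maximalIdeal_height_eq_ringKrullDim]
  exact WithBot.coe_le_coe.mpr h

/-- chains of primes above the kernel of a stalk map are bounded by the degrees of image points. -/
theorem quotient_dim_le {k : Type u} [Field k] (S X : Scheme.{u}) (pX : X ⟶ Spec (CommRingCat.of k))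
    [LocallyOfFiniteType pX] (f : S ⟶ X) (s : S) (d : WithBot ℕ∞)
    (hd : ∀ η : S, (trd pX (f η) : WithBot ℕ∞) ≤ d) :
    ringKrullDim (X.presheaf.stalk (f s) ⧸ RingHom.ker (f.stalkMap s).hom) ≤ d := by
  let φ := (f.stalkMap s).hom
  refine iSup_le fun p => ?_
  let q : Fin (p.length + 1) → PrimeSpectrum (X.presheaf.stalk (f s)) := fun i =>
    PrimeSpectrum.comap (Ideal.Quotient.mk _) (p i)
  have hker : RingHom.ker φ ≤ (q 0).asIdeal := fun x hx => by
    show Ideal.Quotient.mk _ x ∈ (p 0).asIdeal
    rw [Ideal.Quotient.eq_zero_iff_mem.mpr hx]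
    exact zero_mem _
  obtain ⟨m, hm, hmq⟩ := Ideal.exists_minimalPrimes_le hker
  obtain ⟨η, hη, -, hηm⟩ := Ideal.exists_comap_eq_of_mem_minimalPrimes φ (I := ⊥) m
    (by rwa [← RingHom.ker_eq_comap_bot])
  let η' : Spec (S.presheaf.stalk s) := (⟨η, hη⟩ : PrimeSpectrum _)
  let z : Fin (p.length + 1) → X := fun i => X.fromSpecStalk (f s) (q i : Spec (X.presheaf.stalk (f s)))
  have hz0 : f (S.fromSpecStalk s η') ⤳ z 0 := by
    have e : f (S.fromSpecStalk s η') = X.fromSpecStalk (f s) (Spec.map (f.stalkMap s) η') := by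
      rw [← Scheme.Hom.comp_apply, ← Scheme.Hom.comp_apply, Scheme.SpecMap_stalkMap_fromSpecStalk]
    rw [e]
    refine Specializes.map ?_ (X.fromSpecStalk (f s)).continuous
    refine (PrimeSpectrum.le_iff_specializes _ _).mp ?_
    show η.comap φ ≤ (q 0).asIdeal
    rw [hηm]
    exact hmq
  have hsame : ∀ a b : X, pX a = pX b := fun a b => Subsingleton.elim _ _
  have key : ∀ i : Fin (p.length + 1), (i : ℕ) + trd pX (z i) ≤ trd pX (z 0) := by
    intro i
    induction i using Fin.induction with
    | zero => simp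
    | succ i ih =>
      have hlt : p i.castSucc < p i.succ := p.step i
      have hsp : z i.castSucc ⤳ z i.succ := by
        refine (X.fromSpecStalk (f s)).continuous.specialization_monotone ?_
        exact (PrimeSpectrum.le_iff_specializes (q i.castSucc) (q i.succ)).mp (Ideal.comap_mono hlt.le)
      have hne : z i.castSucc ≠ z i.succ := fun e => hlt.ne
        (PrimeSpectrum.comap_injective_of_surjective (Ideal.Quotient.mk _)
          Ideal.Quotient.mk_surjective ((X.fromSpecStalk (f s)).isEmbedding.injective e))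
      have := trd_lt pX hsp hne (hsame _ _)
      rw [Fin.val_succ]
      rw [Fin.val_castSucc] at ih
      omega
  have h1 := key (Fin.last _)
  have h2 := trd_le pX hz0 (hsame _ _)
  refine le_trans ?_ (hd (S.fromSpecStalk s η'))
  rw [Fin.val_last] at h1
  exact_mod_cast (by omega : p.length ≤ trd pX (f (S.fromSpecStalk s η')))

open AlgebraicGeometry CategoryTheory in
/-- Let k be a field, let S and X be separated k-schemes of finite type that are locally equidimensional
(all irreducible components passing through a given point have the same dimension), let f : S → X be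
a k-morphism and Z ⊆ X a closed subset. Let d be the dimension of the image f(S), as a subspace of
X. If every point s of S with f(s) ∈ Z satisfies dim O_{S,s} ≥ d + 1 (equivalently: the closed
subset f⁻¹(Z) of S has local codimension at least d + 1 at each of its points), then f⁻¹(Z) is
empty. -/
theorem result (k : Type u) [Field k] (S X : Scheme.{u})
    (pS : S ⟶ Spec (CommRingCat.of k)) (pX : X ⟶ Spec (CommRingCat.of k))
    [IsSeparated pS] [LocallyOfFiniteType pS] [QuasiCompact pS]
    [IsSeparated pX] [LocallyOfFiniteType pX] [QuasiCompact pX]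
    (hS : ∀ (s : S) (A B : Set S), A ∈ irreducibleComponents (S : Type u) → B ∈ irreducibleComponents (S : Type u) →
      s ∈ A → s ∈ B → topologicalKrullDim A = topologicalKrullDim B)
    (hX : ∀ (x : X) (A B : Set X), A ∈ irreducibleComponents (X : Type u) → B ∈ irreducibleComponents (X : Type u) →
      x ∈ A → x ∈ B → topologicalKrullDim A = topologicalKrullDim B)
    (f : S ⟶ X) (hf : f ≫ pX = pS) (Z : Set X) (hZ : IsClosed Z)
    (h : ∀ s : S, f.base s ∈ Z →
      topologicalKrullDim (Set.range f.base) + 1 ≤ ringKrullDim (S.presheaf.stalk s)) :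
    f.base ⁻¹' Z = ∅ := by
  haveI : LocallyOfFiniteType (f ≫ pX) := hf ▸ inferInstance
  haveI : QuasiCompact (f ≫ pX) := hf ▸ inferInstance
  haveI : IsSeparated (f ≫ pX) := hf ▸ inferInstance
  haveI : LocallyOfFiniteType f := locallyOfFiniteType_of_comp f pX
  haveI : IsLocallyNoetherian X := LocallyOfFiniteType.isLocallyNoetherian pX
  haveI : IsLocallyNoetherian S := LocallyOfFiniteType.isLocallyNoetherian pS
  haveI : LocallyOfFinitePresentation f := inferInstance
  haveI : CompactSpace X := QuasiCompact.compactSpace_of_compactSpace pX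
  haveI : CompactSpace S := QuasiCompact.compactSpace_of_compactSpace pS
  haveI : QuasiSeparatedSpace X := quasiSeparatedSpace_of_quasiSeparated pX
  haveI : QuasiCompact f := QuasiCompact.of_comp f pX
  have hd : ∀ η : S, (trd pX (f η) : WithBot ℕ∞) ≤ topologicalKrullDim (Set.range f.base) := by
    intro η
    have hc : IsConstructible (Set.range f.base) := by
      rw [← Set.image_univ]; exact f.isConstructible_image IsConstructible.univ
    obtain ⟨U, hU, hzU, hUc⟩ := constr_near hc (f η)
    refine trd_le_topologicalKrullDim pX (T := Set.range f.base) (φ := Subtype.val)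
      Topology.IsEmbedding.subtypeVal ⟨U, hU⟩ hzU fun x hx hzx _ => ?_
    rw [Subtype.range_coe]
    exact (hUc x hx hzx).mpr ⟨η, rfl⟩
  rw [Set.eq_empty_iff_forall_notMem]
  intro s hs
  let φ := (f.stalkMap s).hom
  let R := X.presheaf.stalk (f s) ⧸ RingHom.ker φ
  haveI : Nontrivial R := Ideal.Quotient.nontrivial_iff.mpr (RingHom.ker_ne_top φ)
  haveI : IsLocalRing R := IsLocalRing.of_surjective' _ Ideal.Quotient.mk_surjective
  letI : Algebra R (S.presheaf.stalk s) := (RingHom.kerLift φ).toAlgebra
  have hne : (IsLocalRing.maximalIdeal R).map (algebraMap R (S.presheaf.stalk s)) ≠ ⊤ := by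
    refine ne_top_of_le_ne_top (IsLocalRing.maximalIdeal.isMaximal _).ne_top
      (Ideal.map_le_iff_le_comap.mpr fun r hr => ?_)
    obtain ⟨r, rfl⟩ := Ideal.Quotient.mk_surjective r
    rw [Ideal.mem_comap, IsLocalRing.mem_maximalIdeal]
    intro hu
    exact (IsLocalRing.mem_maximalIdeal _).mp hr ((isUnit_of_map_unit φ r hu).map _)
  obtain ⟨P, hP, hPle⟩ := Ideal.exists_minimalPrimes_le
    (IsLocalRing.le_maximalIdeal hne)
  haveI := hP.1.1
  let P' : Spec (S.presheaf.stalk s) := (⟨P, hP.1.1⟩ : PrimeSpectrum _)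
  have hPm : P.comap φ = IsLocalRing.maximalIdeal (X.presheaf.stalk (f s)) := by
    refine ((IsLocalRing.maximalIdeal.isMaximal _).eq_of_le (Ideal.IsPrime.comap φ).ne_top ?_).symm
    intro r hr
    refine hP.1.2 (Ideal.mem_map_of_mem (algebraMap R (S.presheaf.stalk s))
      (x := Ideal.Quotient.mk _ r) ?_)
    rw [IsLocalRing.mem_maximalIdeal]
    intro hu
    exact (IsLocalRing.mem_maximalIdeal r).mp hr
      (isUnit_of_map_unit φ r (hu.map (algebraMap R (S.presheaf.stalk s))))
  have hξ : f (S.fromSpecStalk s P') = f s := by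
    rw [← Scheme.Hom.comp_apply, ← Scheme.SpecMap_stalkMap_fromSpecStalk, Scheme.Hom.comp_apply]
    have : Spec.map (f.stalkMap s) P' = IsLocalRing.closedPoint (X.presheaf.stalk (f s)) :=
      PrimeSpectrum.ext hPm
    rw [this, Scheme.fromSpecStalk_closedPoint]
  have h1 := h (S.fromSpecStalk s P') (by rw [show f.base (S.fromSpecStalk s P') = f s from hξ]; exact hs)
  have h2 := h1.trans (stalk_dim_le S s P')
  have h3 : (Order.height (α := PrimeSpectrum (S.presheaf.stalk s)) P' : WithBot ℕ∞) ≤ ringKrullDim R := by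
    have := height_le_dim (R := R) P hP
    rwa [← PrimeSpectrum.height_eq_orderHeight]
  have h4 := h2.trans (h3.trans (quotient_dim_le S X pX f s _ hd))
  have hne' : topologicalKrullDim (Set.range f.base) ≠ ⊥ := by
    haveI : Nonempty (Set.range f.base) := ⟨⟨_, s, rfl⟩⟩
    intro he
    have := hd s
    rw [he, le_bot_iff] at this
    exact WithBot.coe_ne_bot this
  obtain ⟨D, hD⟩ := WithBot.ne_bot_iff_exists.mp hne'
  rw [← hD] at h4
  have hDt : D ≠ ⊤ := by
    intro hDt
    rw [← hD, hDt] at h1
    have := lt_of_le_of_lt h1 (ringKrullDim_lt_top (R := S.presheaf.stalk (S.fromSpecStalk s P')))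
    have h6 : (((⊤ : ℕ∞) + 1 : ℕ∞) : WithBot ℕ∞) < ((⊤ : ℕ∞) : WithBot ℕ∞) := by
      rw [WithBot.coe_add, WithBot.coe_one]; exact this
    exact absurd (WithBot.coe_lt_coe.mp h6) (by simp)
  have h5 : D + 1 ≤ D := by exact_mod_cast h4
  exact absurd h5 (not_le.mpr (ENat.lt_add_one_iff hDt |>.mpr le_rfl))

end Groth.Agent.S14901
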