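import Groth.Statements.S14909
import Mathlib

set_option autoImplicit false
universe u
open Neron

namespace Groth.Agent.S14909

section helpers

open MvPowerSeries

lemma pow_span_pair_le {A : Type*} [CommRing A] (x y : A) (h : x ^ 2 ∈ Ideal.span {y ^ 2}) (n : ℕ) :
    Ideal.span {x, y} ^ (n + 1) ≤ Ideal.span {y ^ (n + 1), x * y ^ n} := by
  induction n with
  | zero =>
    rw [zero_add, pow_one, pow_one, pow_zero, mul_one, Set.pair_comm]
  | succ n ih =>
    rw [pow_succ]
    refine (Ideal.mul_mono_left ih).trans ?_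
    rw [Ideal.span_mul_span']
    refine Ideal.span_le.mpr fun p hp => ?_
    obtain ⟨r, hr, q, hq, rfl⟩ := Set.mem_mul.mp hp
    obtain ⟨c, hc⟩ := Ideal.mem_span_singleton'.mp h
    rw [SetLike.mem_coe, Ideal.mem_span_pair]
    rcases hr with rfl | rfl <;> rcases hq with rfl | rfl
    · exact ⟨0, 1, by ring⟩
    · exact ⟨1, 0, by ring⟩
    · refine ⟨c, 0, ?_⟩
      calc c * y ^ (n + 1 + 1) + 0 * (q * y ^ (n + 1)) = (c * y ^ 2) * y ^ n := by ring
        _ = q ^ 2 * y ^ n := by rw [hc]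
        _ = _ := by ring
    · exact ⟨0, 1, by ring⟩

/-- Exponent `(i, j)`. -/
noncomputable def ex (i j : ℕ) : Fin 2 →₀ ℕ := Finsupp.single 0 i + Finsupp.single 1 j

variable {R : Type u} [CommRing R]

set_option maxHeartbeats 400000 in
lemma coeff_XY_mul (a b i j : ℕ) (g : MvPowerSeries (Fin 2) R) :
    MvPowerSeries.coeff (ex i j) (X 0 ^ a * X 1 ^ b * g) = if a ≤ i ∧ b ≤ j then coeff (ex (i - a) (j - b)) g else 0 := by
  classical
  have hm : (X 0 ^ a * X 1 ^ b : MvPowerSeries (Fin 2) R) = monomial (ex a b) 1 := by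
    rw [X_pow_eq, X_pow_eq, monomial_mul_monomial, mul_one]; rfl
  have hle : ex a b ≤ ex i j ↔ a ≤ i ∧ b ≤ j := by
    refine ⟨fun h => ⟨by simpa [ex] using h 0, by simpa [ex] using h 1⟩, fun h t => ?_⟩
    fin_cases t <;> simp [ex, h.1, h.2]
  rw [hm, coeff_monomial_mul]
  simp only [hle, one_mul]
  split_ifs with h
  · rw [show ex i j - ex a b = ex (i - a) (j - b) from Finsupp.ext fun s => by fin_cases s <;> simp [ex]]
  · rfl

/-- The two coordinate functionals vanish. -/
def Tested (t : R) (v : ℕ) (p : R) (F : MvPowerSeries (Fin 2) R) : Prop :=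
  p ^ (v + 1) ∣ ∑ l ∈ Finset.range (v + 1), coeff (ex 0 (2 * l)) F * t ^ l ∧
    p ^ v ∣ ∑ l ∈ Finset.range v, coeff (ex 1 (2 * l + 1)) F * t ^ l

/-- The test ideal. -/
def testIdeal (t : R) (v : ℕ) (p : R) : Ideal (MvPowerSeries (Fin 2) R) where
  carrier := {F | ∀ g, Tested t v p (g * F)}
  add_mem' := fun {F G} hF hG g => by
    obtain ⟨h1, h2⟩ := hF g
    obtain ⟨h3, h4⟩ := hG g
    constructor <;> simp only [mul_add, map_add, add_mul, Finset.sum_add_distrib]
    · exact dvd_add h1 h3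
    · exact dvd_add h2 h4
  zero_mem' := fun g => by simp [Tested]
  smul_mem' := fun c F hF g => by
    rw [smul_eq_mul, ← mul_assoc]
    exact hF (g * c)

lemma mem_testIdeal_of {t : R} {v : ℕ} {p : R} (hp : p ∣ t) {F : MvPowerSeries (Fin 2) R}
    (hF : F = X 0 ^ 2 * X 1 ^ 0 ∨ F = X 0 ^ 1 * X 1 ^ (2 * v) ∨ F = X 0 ^ 0 * X 1 ^ (2 * v + 1) ∨
      F = X 0 ^ 0 * X 1 ^ 2 - C t) : F ∈ testIdeal t v p := by
  intro g
  rw [mul_comm g F]
  rcases hF with rfl | rfl | rfl | rfl
  · constructor <;>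
    · refine Finset.dvd_sum fun l hl => ?_
      rw [coeff_XY_mul, if_neg (by omega), zero_mul]
      exact dvd_zero _
  · constructor <;>
    · refine Finset.dvd_sum fun l hl => ?_
      rw [coeff_XY_mul, if_neg (by have := Finset.mem_range.mp hl; omega), zero_mul]
      exact dvd_zero _
  · constructor <;>
    · refine Finset.dvd_sum fun l hl => ?_
      rw [coeff_XY_mul, if_neg (by have := Finset.mem_range.mp hl; omega), zero_mul]
      exact dvd_zero _
  · have key : ∀ (i e : ℕ), e < 2 → ∀ L : ℕ,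
        ∑ l ∈ Finset.range (L + 1), coeff (ex i (2 * l + e)) ((X 0 ^ 0 * X 1 ^ 2 - C t) * g) * t ^ l =
          -(coeff (ex i (2 * L + e)) g * t ^ (L + 1)) := by
      intro i e he L
      induction L with
      | zero =>
        rw [Finset.sum_range_one, sub_mul, map_sub, coeff_XY_mul, if_neg (by omega), coeff_C_mul]
        ring
      | succ L ih =>
        rw [Finset.sum_range_succ, ih, sub_mul, map_sub, coeff_XY_mul, if_pos ⟨Nat.zero_le _, by omega⟩, coeff_C_mul,
          Nat.sub_zero, show 2 * (L + 1) + e - 2 = 2 * L + e by omega]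
        ring
    constructor
    · have := key 0 0 (by omega) v
      simp only [add_zero] at this
      rw [this]
      exact dvd_neg.mpr ((pow_dvd_pow_of_dvd hp _).mul_left _)
    · rcases v with _ | L
      · simp
      · rw [key 1 1 (by omega) L]
        exact dvd_neg.mpr ((pow_dvd_pow_of_dvd hp _).mul_left _)

end helpers

/-- Let R be a discrete valuation ring with uniformizer ϖ, let a₁, a₆ ∈ R with a₁ of valuation v ≥ 1, a₆
of valuation 1, and 2 of valuation at least v (so the residue characteristic is 2; 2 = 0 is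
allowed). In the power series ring S = R[[x, y]] let M = (ϖ, x, y) be the maximal ideal and I the
ideal generated by y² + a₁xy − x³ − a₆, 2y + a₁x and 3x² − a₁y, so that S/I is a local ring with
maximal ideal m = M/I. Then the classes of y^(2v) and x·y^(2v−1) form a basis of the vector space
m^(2v)/m^(2v+1) over the residue field: M^(2v) + I = (y^(2v), x·y^(2v−1)) + I, and whenever a·y^(2v)
+ b·x·y^(2v−1) ∈ M^(2v+1) + I with a, b ∈ R, both a and b lie in the maximal ideal of R. (Generation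
holds with any exponent i ≥ 1 in place of 2v: M^i + I = (y^i, x·y^(i−1)) + I.) -/
theorem result (R : Type u) [CommRing R] [IsDomain R] [IsDiscreteValuationRing R]
    (ϖ a₁ a₆ : R) (hϖ : Irreducible ϖ) (v : ℕ) (hv : 1 ≤ v) (u₁ u₆ : Rˣ) (ha₁ : a₁ = u₁ * ϖ ^ v) (ha₆ : a₆ = u₆ * ϖ)
    (h2 : (2 : R) ∈ IsLocalRing.maximalIdeal R ^ v)
    (x y : MvPowerSeries (Fin 2) R) (hx : x = MvPowerSeries.X 0) (hy : y = MvPowerSeries.X 1)
    (I M : Ideal (MvPowerSeries (Fin 2) R))
    (hI : I = Ideal.span {y ^ 2 + a₁ • (x * y) - x ^ 3 - algebraMap R (MvPowerSeries (Fin 2) R) a₆,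
      2 * y + a₁ • x, 3 * x ^ 2 - a₁ • y})
    (hM : M = Ideal.span {algebraMap R (MvPowerSeries (Fin 2) R) ϖ, x, y}) :
    M ^ (2 * v) ⊔ I = Ideal.span {y ^ (2 * v), x * y ^ (2 * v - 1)} ⊔ I ∧
      ∀ a b : R, a • y ^ (2 * v) + b • (x * y ^ (2 * v - 1)) ∈ M ^ (2 * v + 1) ⊔ I →
        a ∈ IsLocalRing.maximalIdeal R ∧ b ∈ IsLocalRing.maximalIdeal R := by
  classical
  let S := MvPowerSeries (Fin 2) R
  let al := algebraMap R S
  have hal : ∀ r : R, al r = MvPowerSeries.C r := fun r => by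
    rfl
  have hm : IsLocalRing.maximalIdeal R = Ideal.span {ϖ} := hϖ.maximalIdeal_eq
  obtain ⟨r₂, hr₂⟩ : ∃ r, r * ϖ ^ v = 2 := by
    rw [hm, Ideal.span_singleton_pow, Ideal.mem_span_singleton'] at h2
    exact h2
  have h2m : (2 : R) ∈ IsLocalRing.maximalIdeal R := Ideal.pow_le_self (by omega) h2
  obtain ⟨u₃, hu₃⟩ : IsUnit (3 : R) := by
    by_contra h
    have h3 : (3 : R) ∈ IsLocalRing.maximalIdeal R := h
    have := sub_mem h3 h2m
    norm_num at this
  subst hx hy hI hM
  simp only [Algebra.smul_def]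
  constructor
  · -- generation
    let I : Ideal S := Ideal.span {MvPowerSeries.X 1 ^ 2 + al a₁ * (MvPowerSeries.X 0 * MvPowerSeries.X 1) - MvPowerSeries.X 0 ^ 3 - al a₆,
      2 * MvPowerSeries.X 1 + al a₁ * MvPowerSeries.X 0, 3 * MvPowerSeries.X 0 ^ 2 - al a₁ * MvPowerSeries.X 1}
    let q := Ideal.Quotient.mk I
    let x : S ⧸ I := q (MvPowerSeries.X 0)
    let y : S ⧸ I := q (MvPowerSeries.X 1)
    let pi : S ⧸ I := q (al ϖ)
    let c : S ⧸ I := q (al ((↑u₃⁻¹ : R) * u₁))
    have hU : IsUnit (q (al u₆ + (MvPowerSeries.X 0 * MvPowerSeries.X 1) * (al ((↑u₃⁻¹ : R) * u₁ * ϖ ^ (v - 1)) - al (u₁ * ϖ ^ (v - 1))))) := by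
      refine IsUnit.map q (MvPowerSeries.isUnit_iff_constantCoeff.mpr ?_)
      simp [hal, map_mul]
    have e0 : y ^ 2 + q (al a₁) * (x * y) - x ^ 3 - q (al a₆) = 0 := by
      simp only [x, y, ← map_pow, ← map_mul, ← map_add, ← map_sub]
      exact Ideal.Quotient.eq_zero_iff_mem.mpr (Ideal.subset_span (by simp))
    have e2 : q (al (u₃ : R)) * x ^ 2 = q (al a₁) * y := by
      rw [← sub_eq_zero]
      simp only [x, y, ← map_pow, ← map_mul, ← map_sub]
      refine Ideal.Quotient.eq_zero_iff_mem.mpr (Ideal.subset_span ?_)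
      simp [hu₃, map_ofNat, al]
    have hx2 : x ^ 2 = c * pi ^ v * y := by
      calc x ^ 2 = q (al (↑u₃⁻¹ : R)) * (q (al (u₃ : R)) * x ^ 2) := by
            rw [← mul_assoc, ← map_mul, ← map_mul, Units.inv_mul, map_one, map_one, one_mul]
        _ = _ := by
            rw [e2, ha₁]
            simp only [c, pi, map_mul, map_pow]
            ring
    have hpiU : y ^ 2 = pi * q (al u₆ + (MvPowerSeries.X 0 * MvPowerSeries.X 1) * (al ((↑u₃⁻¹ : R) * u₁ * ϖ ^ (v - 1)) - al (u₁ * ϖ ^ (v - 1)))) := by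
      obtain ⟨w, rfl⟩ : ∃ w, v = w + 1 := ⟨v - 1, by omega⟩
      have e3 : x ^ 3 = c * pi ^ (w + 1) * y * x := by rw [pow_succ x 2, hx2]
      rw [e3, ha₁, ha₆] at e0
      simp only [Nat.add_sub_cancel, c, pi, x, y, map_mul, map_pow, map_add, map_sub] at e0 ⊢
      linear_combination e0
    obtain ⟨w, hw⟩ := hU.exists_right_inv
    have hpi : pi = y ^ 2 * w := by rw [hpiU, mul_assoc, hw, mul_one]
    have hxy : x ^ 2 ∈ Ideal.span {y ^ 2} := Ideal.mem_span_singleton'.mpr ⟨c * y * pi ^ (v - 1) * w, by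
      rw [hx2]
      calc c * y * pi ^ (v - 1) * w * y ^ 2 = c * y * (pi ^ (v - 1) * (y ^ 2 * w)) := by ring
        _ = _ := by rw [← hpi, ← pow_succ, Nat.sub_add_cancel hv]; ring⟩
    have hMq : (Ideal.span {al ϖ, MvPowerSeries.X 0, MvPowerSeries.X 1}).map q ≤ Ideal.span {x, y} := by
      rw [Ideal.map_span, Ideal.span_le]
      rintro - ⟨t, rfl | rfl | rfl, rfl⟩
      · exact Ideal.mem_span_pair.mpr ⟨0, y * w, by
          calc 0 * x + y * w * y = y ^ 2 * w := by ring
            _ = _ := hpi.symm⟩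
      · exact Ideal.subset_span (Set.mem_insert _ _)
      · exact Ideal.subset_span (Set.mem_insert_of_mem _ rfl)
    have h := pow_span_pair_le x y hxy (2 * v - 1)
    rw [show 2 * v - 1 + 1 = 2 * v by omega] at h
    refine le_antisymm (sup_le ?_ le_sup_right) (sup_le_sup_right ?_ _)
    · have : (Ideal.span {al ϖ, MvPowerSeries.X 0, MvPowerSeries.X 1} ^ (2 * v)).map q ≤
          (Ideal.span {MvPowerSeries.X 1 ^ (2 * v), MvPowerSeries.X 0 * MvPowerSeries.X 1 ^ (2 * v - 1)}).map q := by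
        rw [Ideal.map_pow, Ideal.map_span q {_, _}, Set.image_pair, map_mul, map_pow, map_pow]
        exact (Ideal.pow_right_mono hMq _).trans h
      rw [Ideal.map_le_iff_le_comap, Ideal.comap_map_of_surjective' q Ideal.Quotient.mk_surjective, Ideal.mk_ker] at this
      exact this
    · rw [Ideal.span_le]
      rintro t (rfl | rfl)
      · exact Ideal.pow_mem_pow (Ideal.subset_span (by simp)) _
      · rw [SetLike.mem_coe, show 2 * v = (2 * v - 1) + 1 by omega, Nat.add_sub_cancel, pow_succ']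
        exact Ideal.mul_mem_mul (Ideal.subset_span (by simp)) (Ideal.pow_mem_pow (Ideal.subset_span (by simp)) _)
  · -- independence
    intro a b hab
    let J : Ideal S := Ideal.span {MvPowerSeries.X 0 ^ 2 * MvPowerSeries.X 1 ^ 0,
      MvPowerSeries.X 0 ^ 1 * MvPowerSeries.X 1 ^ (2 * v), MvPowerSeries.X 0 ^ 0 * MvPowerSeries.X 1 ^ (2 * v + 1),
      MvPowerSeries.X 0 ^ 0 * MvPowerSeries.X 1 ^ 2 - MvPowerSeries.C a₆}
    have hJT : J ≤ testIdeal a₆ v ϖ := Ideal.span_le.mpr fun F hF =>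
      mem_testIdeal_of ⟨(u₆ : R), by rw [ha₆, mul_comm]⟩ (by simpa only [Set.mem_insert_iff, Set.mem_singleton_iff] using hF)
    let q := Ideal.Quotient.mk J
    let x : S ⧸ J := q (MvPowerSeries.X 0)
    let y : S ⧸ J := q (MvPowerSeries.X 1)
    let pi : S ⧸ J := q (al ϖ)
    have hgen : ∀ F ∈ ({MvPowerSeries.X 0 ^ 2 * MvPowerSeries.X 1 ^ 0,
      MvPowerSeries.X 0 ^ 1 * MvPowerSeries.X 1 ^ (2 * v), MvPowerSeries.X 0 ^ 0 * MvPowerSeries.X 1 ^ (2 * v + 1),
      MvPowerSeries.X 0 ^ 0 * MvPowerSeries.X 1 ^ 2 - MvPowerSeries.C a₆} : Set S), q F = 0 :=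
      fun F hF => Ideal.Quotient.eq_zero_iff_mem.mpr (Ideal.subset_span hF)
    have hx2 : x ^ 2 = 0 := by simpa [x, map_mul, map_pow] using hgen _ (Set.mem_insert _ _)
    have hxy : x * y ^ (2 * v) = 0 := by
      simpa [x, y, map_mul, map_pow] using hgen _ (Set.mem_insert_of_mem _ (Set.mem_insert _ _))
    have hy : y ^ (2 * v + 1) = 0 := by
      simpa [y, map_mul, map_pow] using hgen _ (Set.mem_insert_of_mem _ (Set.mem_insert_of_mem _ (Set.mem_insert _ _)))
    have hya : y ^ 2 - q (al u₆) * pi = 0 := by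
      simpa [y, pi, hal, ha₆, map_mul, map_pow] using
        hgen _ (Set.mem_insert_of_mem _ (Set.mem_insert_of_mem _ (Set.mem_insert_of_mem _ rfl)))
    have hpi : pi = q (al (↑u₆⁻¹ : R)) * y ^ 2 := by
      have h1 : q (al (↑u₆⁻¹ : R)) * q (al (u₆ : R)) = 1 := by
        rw [← map_mul, ← map_mul, Units.inv_mul, map_one, map_one]
      rw [sub_eq_zero.mp hya, ← mul_assoc, h1, one_mul]
    have hxpi : x * pi ^ v = 0 := by
      rw [hpi, mul_pow, ← pow_mul, mul_left_comm, hxy, mul_zero]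
    have hypi : y * pi ^ v = 0 := by
      rw [hpi, mul_pow, ← pow_mul, mul_left_comm, ← pow_succ', hy, mul_zero]
    have hMq : (Ideal.span {al ϖ, MvPowerSeries.X 0, MvPowerSeries.X 1}).map q ≤ Ideal.span {x, y} := by
      rw [Ideal.map_span, Ideal.span_le]
      rintro - ⟨t, rfl | rfl | rfl, rfl⟩
      · exact Ideal.mem_span_pair.mpr ⟨0, q (al (↑u₆⁻¹ : R)) * y, by
          calc 0 * x + q (al (↑u₆⁻¹ : R)) * y * y = q (al (↑u₆⁻¹ : R)) * y ^ 2 := by ring
            _ = _ := hpi.symm⟩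
      · exact Ideal.subset_span (Set.mem_insert _ _)
      · exact Ideal.subset_span (Set.mem_insert_of_mem _ rfl)
    have hpow : (Ideal.span {al ϖ, MvPowerSeries.X 0, MvPowerSeries.X 1} ^ (2 * v + 1)).map q ≤ ⊥ := by
      rw [Ideal.map_pow]
      refine (Ideal.pow_right_mono hMq _).trans ((pow_span_pair_le x y (by rw [hx2]; exact zero_mem _) (2 * v)).trans ?_)
      rw [Ideal.span_le]
      rintro t (rfl | rfl)
      · exact hy
      · exact hxy
    have hle : Ideal.span {al ϖ, MvPowerSeries.X 0, MvPowerSeries.X 1} ^ (2 * v + 1) ⊔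
        Ideal.span {MvPowerSeries.X 1 ^ 2 + al a₁ * (MvPowerSeries.X 0 * MvPowerSeries.X 1) - MvPowerSeries.X 0 ^ 3 - al a₆,
          2 * MvPowerSeries.X 1 + al a₁ * MvPowerSeries.X 0, 3 * MvPowerSeries.X 0 ^ 2 - al a₁ * MvPowerSeries.X 1} ≤ J := by
      refine sup_le ?_ (Ideal.span_le.mpr ?_)
      · rw [Ideal.map_le_iff_le_comap, ← RingHom.ker_eq_comap_bot, Ideal.mk_ker] at hpow
        exact hpow
      have ha1x : q (al a₁) * x = 0 := by
        rw [ha₁, map_mul, map_mul, map_pow, map_pow, mul_assoc, mul_comm _ x, hxpi, mul_zero]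
      have ha1y : q (al a₁) * y = 0 := by
        rw [ha₁, map_mul, map_mul, map_pow, map_pow, mul_assoc, mul_comm _ y, hypi, mul_zero]
      have h2y : (2 : S ⧸ J) * y = 0 := by
        have := congrArg (fun r => q (al r)) hr₂
        simp only [map_mul, map_pow, map_ofNat] at this
        rw [← this, mul_assoc, mul_comm _ y, hypi, mul_zero]
      have h6 : y ^ 2 - q (al a₆) = 0 := by rw [ha₆, map_mul, map_mul]; exact hya
      rintro t (rfl | rfl | rfl) <;>
        refine Ideal.Quotient.eq_zero_iff_mem.mp ?_ <;>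
        simp only [map_add, map_sub, map_mul, map_pow, map_ofNat]
      · calc y ^ 2 + q (al a₁) * (x * y) - x ^ 3 - q (al a₆)
            = (y ^ 2 - q (al a₆)) + (q (al a₁) * x) * y - x ^ 2 * x := by ring
          _ = 0 := by rw [h6, ha1x, hx2]; ring
      · change 2 * y + q (al a₁) * x = 0
        rw [h2y, ha1x, add_zero]
      · change 3 * x ^ 2 - q (al a₁) * y = 0
        rw [hx2, ha1y, mul_zero, sub_zero]
    obtain ⟨h1, h2'⟩ := hJT (hle hab) 1
    rw [one_mul] at h1 h2'
    have hA : ∀ i j : ℕ, MvPowerSeries.coeff (ex i j)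
        (al a * MvPowerSeries.X 1 ^ (2 * v) + al b * (MvPowerSeries.X 0 * MvPowerSeries.X 1 ^ (2 * v - 1))) =
        (if i = 0 ∧ j = 2 * v then a else 0) + (if i = 1 ∧ j = 2 * v - 1 then b else 0) := by
      intro i j
      have key : ∀ (a' b' : ℕ) (r : R), MvPowerSeries.coeff (ex i j) (al r * (MvPowerSeries.X 0 ^ a' * MvPowerSeries.X 1 ^ b')) =
          if i = a' ∧ j = b' then r else 0 := fun a' b' r => by
        rw [mul_comm, coeff_XY_mul, hal]
        have h0 : ∀ p q : ℕ, MvPowerSeries.coeff (ex p q) (MvPowerSeries.C r : S) = if p = 0 ∧ q = 0 then r else 0 := fun p q => by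
          rw [MvPowerSeries.coeff_C]
          refine if_congr ⟨fun h => ⟨by simpa [ex] using congrArg (fun e => e 0) h, by simpa [ex] using congrArg (fun e => e 1) h⟩,
            fun h => ?_⟩ rfl rfl
          rw [h.1, h.2]; simp [ex]
        rw [h0]
        split_ifs <;> first | rfl | omega
      rw [map_add]
      congr 1
      · rw [← key 0 (2 * v) a, pow_zero, one_mul]
      · rw [← key 1 (2 * v - 1) b, pow_one]
    have h1a : ϖ ^ (v + 1) ∣ ∑ l ∈ Finset.range (v + 1), ((if 0 = 0 ∧ 2 * l = 2 * v then a else 0) +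
        (if 0 = 1 ∧ 2 * l = 2 * v - 1 then b else 0)) * a₆ ^ l :=
      h1.trans (dvd_of_eq (Finset.sum_congr rfl fun l _ => congrArg (· * a₆ ^ l) (hA 0 (2 * l))))
    have h2a : ϖ ^ v ∣ ∑ l ∈ Finset.range v, ((if 1 = 0 ∧ 2 * l + 1 = 2 * v then a else 0) +
        (if 1 = 1 ∧ 2 * l + 1 = 2 * v - 1 then b else 0)) * a₆ ^ l :=
      h2'.trans (dvd_of_eq (Finset.sum_congr rfl fun l _ => congrArg (· * a₆ ^ l) (hA 1 (2 * l + 1))))
    clear h1 h2'
    rename' h1a => h1, h2a => h2'
    have hu : ∀ (r : R) (L : ℕ), ϖ ^ (L + 1) ∣ r * a₆ ^ L → r ∈ IsLocalRing.maximalIdeal R := fun r L h => by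
      rw [hm, Ideal.mem_span_singleton]
      rw [ha₆, mul_pow, ← mul_assoc, pow_succ', mul_dvd_mul_iff_right (pow_ne_zero L hϖ.ne_zero), ← Units.val_pow_eq_pow_val,
        Units.dvd_mul_right] at h
      exact h
    constructor
    · refine hu a v ?_
      rw [Finset.sum_eq_single v] at h1
      · simpa using h1
      · intro l hl hne
        simp [hne]
      · simp
    · obtain ⟨L, rfl⟩ : ∃ L, v = L + 1 := ⟨v - 1, by omega⟩
      refine hu b L ?_
      rw [Finset.sum_eq_single L] at h2'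
      · simpa [show 2 * L + 1 = 2 * (L + 1) - 1 by omega] using h2'
      · intro l hl hne
        simp [show ¬ 2 * l + 1 = 2 * (L + 1) - 1 by omega]
      · simp

end Groth.Agent.S14909
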