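import Groth.Statements.S14911
import Groth.Agent.GrpSchLib.TorsionLift
import Groth.Agent.GrpInfLib.Component
-- import your own Groth.Agent.* helpers here

set_option autoImplicit false
universe u
open CategoryTheory MonoidalCategory CartesianMonoidalCategory MonObj GrpObj AlgebraicGeometry
open Neron

namespace Groth.Agent.S14911

section helper
set_option backward.isDefEq.respectTransparency false
open Groth.Agent.GrpSchLib CategoryTheory.Limits
variable {K : Type u} [Field K] [IsAlgClosed K] {G G0 : Over (Spec (CommRingCat.of K))} [GrpObj G] [GrpObj G0]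
  [IsCommMonObj G] [LocallyOfFiniteType G.hom]

theorem exists_ppow (i : G0 ⟶ G) [IsMonHom i] [IsOpenImmersion i.left]
    (hi : Set.range i.left = connectedComponent (unitPt G))
    (g : 𝟙_ (Over (Spec (CommRingCat.of K))) ⟶ G) (n : ℕ)
    (u : 𝟙_ (Over (Spec (CommRingCat.of K))) ⟶ G0) (hu : u ≫ i = g ^ n) :
    ∃ (v : 𝟙_ (Over (Spec (CommRingCat.of K))) ⟶ G0) (N : ℕ), (g * (v ≫ i)⁻¹) ^ n ^ N = 1 := by
  letI : CommGroup (𝟙_ (Over (Spec (CommRingCat.of K))) ⟶ G) := Hom.commGroup
  haveI : LocallyOfFiniteType G0.hom := by rw [← Over.w i]; infer_instance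
  haveI := LocallyOfFiniteType.jacobsonSpace G0.hom
  haveI : IsLocallyNoetherian G0.left := LocallyOfFiniteType.isLocallyNoetherian G0.hom
  haveI : ConnectedSpace G0.left := by
    haveI : Nonempty G0.left := ⟨unitPt G0⟩
    refine { isPreconnected_univ := ?_, toNonempty := inferInstance }
    rw [← i.left.isOpenEmbedding.isInducing.isPreconnected_image, Set.image_univ, hi]
    exact isPreconnected_connectedComponent
  haveI := irreducibleSpace_of_connectedSpace (G := G0)
  haveI := compactSpace_of_irreducibleSpace (G := G0)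
  haveI : IsNoetherian G0.left := ⟨⟩
  let P : ℕ → (G0 ⟶ G) := fun j => i ^ (n ^ j)
  haveI hP : ∀ j, IsMonHom (P j) := fun j => isMonHom_pow i _
  let Z : ℕ → TopologicalSpace.Closeds G0.left := fun j =>
    ⟨i.left ⁻¹' closure (Set.range (P j).left), isClosed_closure.preimage i.left.continuous⟩
  have hanti : ∀ j, Z (j + 1) ≤ Z j := by
    intro j x hx
    refine (closure_mono ?_ : closure (Set.range (P (j + 1)).left) ⊆ closure (Set.range (P j).left)) hx
    have e : P (j + 1) = ((𝟙 G0) ^ n) ≫ P j := by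
      have h := MonObj.comp_pow i (n ^ j) ((𝟙 G0) ^ n)
      rw [show P j = i ^ n ^ j from rfl, h]
      rw [show ((𝟙 G0) ^ n) ≫ i = i ^ n by
        rw [MonObj.pow_comp, Category.id_comp]]
      rw [← pow_mul]
      show i ^ n ^ (j + 1) = _
      rw [pow_succ, Nat.mul_comm]
    rintro _ ⟨y, rfl⟩
    exact ⟨((𝟙 G0) ^ n).left y, by rw [e]; rfl⟩
  obtain ⟨j, hj⟩ := WellFoundedLT.antitone_chain_condition (α := TopologicalSpace.Closeds G0.left)
    (f := Z) (antitone_nat_of_succ_le hanti)
  have hz : ((u ≫ P j) : 𝟙_ _ ⟶ G).left (IsLocalRing.closedPoint K) ∈ closure (Set.range (P (j + 1)).left) := by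
    have e : u ≫ P j = (u ^ n ^ j) ≫ i := by
      rw [MonObj.pow_comp, show P j = i ^ n ^ j from rfl, MonObj.comp_pow]
    have h1 : (u ^ n ^ j).left (IsLocalRing.closedPoint K) ∈ (Z j : Set G0.left) := by
      show i.left _ ∈ closure _
      refine subset_closure ⟨u.left (IsLocalRing.closedPoint K), ?_⟩
      exact congrArg (fun m : 𝟙_ (Over (Spec (CommRingCat.of K))) ⟶ G => m.left (IsLocalRing.closedPoint K)) e
    rw [show Z j = Z (j + 1) from hj (j + 1) (Nat.le_succ j)] at h1
    rw [e]
    exact h1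
  obtain ⟨w, hw⟩ := mem_range_of_mem_closure (P (j + 1)) _ hz
  have hcl : IsClosed ((P (j + 1)).left ⁻¹' {(u ≫ P j).left (IsLocalRing.closedPoint K)}) :=
    ((pointEquivClosedPoint G.hom) ⟨(u ≫ P j).left, Over.w (u ≫ P j)⟩).2.preimage (P (j + 1)).left.continuous
  obtain ⟨v₀, hv₀, hv₀c⟩ := nonempty_inter_closedPoints ⟨w, hw⟩ hcl.isLocallyClosed
  let v : 𝟙_ (Over (Spec (CommRingCat.of K))) ⟶ G0 :=
    Over.homMk _ ((pointEquivClosedPoint G0.hom).symm ⟨v₀, hv₀c⟩).2
  have hv : v.left (IsLocalRing.closedPoint K) = v₀ :=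
    congrArg Subtype.val ((pointEquivClosedPoint G0.hom).apply_symm_apply ⟨v₀, hv₀c⟩)
  have hvz : v ≫ P (j + 1) = u ≫ P j := Over.OverMorphism.ext
    (ext_of_apply_closedPoint_eq G.hom (Over.w (v ≫ P (j + 1))) (Over.w (u ≫ P j))
      ((congrArg (P (j + 1)).left hv).trans hv₀))
  refine ⟨v, j + 1, ?_⟩
  rw [MonObj.comp_pow, MonObj.comp_pow, hu, ← pow_mul, ← pow_succ'] at hvz
  rw [mul_pow, inv_pow, hvz, mul_inv_cancel]


end helper

/-- Let R be a complete discrete valuation ring with fraction field K and algebraically closed residue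
field k of characteristic p > 0, and N an R-group scheme which is a Néron model of its generic fibre
N_K, an abelian variety (proper and geometrically integral over K). Then the p-primary part of
N_k(k) maps onto the p-primary part of the component group of the special fibre N_k: if x is a
k-point of N_k such that some x^(p^r) lies in the connected component of the identity, then the
connected component of x contains a k-point y with y^(p^s) = 1 for some s. (The published statement
covers semi-abelian varieties with their Néron lft-models; this row is the case of an abelian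
variety, where the Néron model is of finite type.) -/
theorem result (R : Type u) [CommRing R] [IsDomain R]
    [IsDiscreteValuationRing R] [IsAdicComplete (IsLocalRing.maximalIdeal R) R] (K : Type u) [Field K] [Algebra R K]
    [IsFractionRing R K] [IsAlgClosed (IsLocalRing.ResidueField R)] (p : ℕ) [Fact p.Prime] [CharP (IsLocalRing.ResidueField R) p]
    (N : Over (Spec (CommRingCat.of R))) [GrpObj N] [IsCommMonObj N] (hN : SGA7.IsNeron R K N)
    [IsProper ((SGA7.genFib R K).obj N).hom] [GeometricallyIntegral ((SGA7.genFib R K).obj N).hom]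
    (x : 𝟙_ (Over (Spec (CommRingCat.of (IsLocalRing.ResidueField R)))) ⟶ Red.bc (Spec.map (CommRingCat.ofHom (IsLocalRing.residue R))) N)
    (r : ℕ) (hx : (x ^ (p ^ r)).left.base (IsLocalRing.closedPoint (IsLocalRing.ResidueField R)) ∈
      connectedComponent ((η[Red.bc (Spec.map (CommRingCat.ofHom (IsLocalRing.residue R))) N]).left.base
        (IsLocalRing.closedPoint (IsLocalRing.ResidueField R)))) :
    ∃ y : 𝟙_ (Over (Spec (CommRingCat.of (IsLocalRing.ResidueField R)))) ⟶ Red.bc (Spec.map (CommRingCat.ofHom (IsLocalRing.residue R))) N,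
      y.left.base (IsLocalRing.closedPoint (IsLocalRing.ResidueField R)) ∈
          connectedComponent (x.left.base (IsLocalRing.closedPoint (IsLocalRing.ResidueField R))) ∧
        ∃ s : ℕ, y ^ (p ^ s) = 1 := by
  haveI : Smooth N.hom := hN.1
  let k := IsLocalRing.ResidueField R
  let g := Spec.map (CommRingCat.ofHom (IsLocalRing.residue R))
  let F := Red.bc g N
  haveI : Smooth F.hom := inferInstanceAs (Smooth (CategoryTheory.Limits.pullback.snd N.hom g))
  haveI : IsLocallyNoetherian F.left := LocallyOfFiniteType.isLocallyNoetherian F.hom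
  obtain ⟨F₀, str, i, hi, _, _, hr, hgi, -⟩ := Neutral.exists_neutralSubgroup F
  haveI : IsOpenImmersion i.left := IsOpenImmersion.of_flat_of_mono i.left
  obtain ⟨u₀, hu₀⟩ : (x ^ p ^ r).left (IsLocalRing.closedPoint k) ∈ Set.range i.left := hr.symm ▸ hx
  have hl : Set.range (x ^ p ^ r).left ⊆ Set.range i.left := by
    rintro _ ⟨t, rfl⟩
    rw [Subsingleton.elim (α := PrimeSpectrum k) t (IsLocalRing.closedPoint k), ← hu₀]
    exact Set.mem_range_self _
  let u : 𝟙_ _ ⟶ F₀ := Over.homMk (IsOpenImmersion.lift i.left (x ^ p ^ r).left hl) (by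
    rw [← Over.w i, ← Category.assoc, IsOpenImmersion.lift_fac]; exact Over.w _)
  have hu : u ≫ i = x ^ p ^ r := Over.OverMorphism.ext (IsOpenImmersion.lift_fac _ _ _)
  obtain ⟨v, M, hv⟩ := exists_ppow i hr x (p ^ r) u hu
  refine ⟨x * (v ≫ i)⁻¹, ?_, r * M, by rwa [pow_mul]⟩
  have hc : ConnectedSpace F₀.left := by
    haveI : Nonempty F₀.left := ⟨η[F₀].left (IsLocalRing.closedPoint k)⟩
    refine { isPreconnected_univ := ?_, toNonempty := inferInstance }
    rw [← i.left.isOpenEmbedding.isInducing.isPreconnected_image, Set.image_univ, hr]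
    exact isPreconnected_connectedComponent
  let φ : F₀ ⟶ F := (toUnit F₀ ≫ x) * i⁻¹
  have hφ : ∀ w : 𝟙_ _ ⟶ F₀, w ≫ φ = x * (w ≫ i)⁻¹ := fun w => by
    rw [MonObj.comp_mul, GrpObj.comp_inv, ← Category.assoc, toUnit_unique (w ≫ toUnit F₀) (𝟙 _), Category.id_comp]
  have h1 : η[F₀] ≫ φ = x := by
    rw [hφ, IsMonHom.one_hom, ← GrpInfLib.one_eq_eta]; simp
  refine (isPreconnected_range φ.left.continuous).subset_connectedComponent
    ⟨η[F₀].left (IsLocalRing.closedPoint k), ?_⟩ ⟨v.left (IsLocalRing.closedPoint k), ?_⟩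
  · exact congrArg (fun m : 𝟙_ _ ⟶ F => m.left (IsLocalRing.closedPoint k)) h1
  · exact congrArg (fun m : 𝟙_ _ ⟶ F => m.left (IsLocalRing.closedPoint k)) (hφ v)

end Groth.Agent.S14911
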