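import Groth.Statements.S14912
import Groth.Agent.GrpInfLib.Component
import Groth.Agent.GrpSchLib.HomImage

set_option autoImplicit false
universe u
open CategoryTheory MonoidalCategory CartesianMonoidalCategory MonObj GrpObj AlgebraicGeometry
open Neron

namespace Groth.Agent.S14912

set_option maxHeartbeats 1000000
set_option backward.isDefEq.respectTransparency false
open CategoryTheory.Limits IsLocalRing

/-- Splitting a finite order lift out of the `p`-part. -/
theorem exists_order_lift {A : Type*} [CommGroup A] (H : Subgroup A) (p : ℕ) (hp : p.Prime)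
    (hdiv : ∀ n : ℕ, ¬ p ∣ n → ∀ u ∈ H, ∃ v ∈ H, v ^ n = u)
    (hpart : ∀ x : A, (∃ r : ℕ, x ^ (p ^ r) ∈ H) → ∃ y, y⁻¹ * x ∈ H ∧ ∀ n : ℕ, y ^ n = 1 ↔ x ^ n ∈ H)
    (x : A) : ∃ y, y⁻¹ * x ∈ H ∧ ∀ n : ℕ, y ^ n = 1 ↔ x ^ n ∈ H := by
  by_cases h0 : ∀ n : ℕ, x ^ n ∈ H → n = 0
  · refine ⟨x, by rw [inv_mul_cancel]; exact H.one_mem, fun n => ⟨fun h => by rw [h]; exact H.one_mem, fun h => ?_⟩⟩
    rw [h0 n h, pow_zero]
  push_neg at h0
  obtain ⟨n₀, hn₀, hn₀'⟩ := h0
  let e : A ⧸ H := x
  have hmem : ∀ n : ℕ, x ^ n ∈ H ↔ orderOf e ∣ n := fun n => by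
    rw [orderOf_dvd_iff_pow_eq_one, ← QuotientGroup.mk_pow, QuotientGroup.eq_one_iff]
  have hm : orderOf e ≠ 0 := fun h => hn₀' (Nat.eq_zero_of_zero_dvd (h ▸ (hmem n₀).1 hn₀))
  obtain ⟨r, m', hm', he⟩ := Nat.exists_eq_pow_mul_and_not_dvd hm p hp.ne_one
  obtain ⟨a, b, hab⟩ : IsCoprime (m' : ℤ) ((p ^ r : ℕ) : ℤ) :=
    Nat.isCoprime_iff_coprime.2 (((hp.coprime_iff_not_dvd.2 hm').pow_left r).symm)
  have hH : ∀ c : ℤ, x ^ (c * ((orderOf e : ℕ) : ℤ)) ∈ H := fun c => by
    rw [mul_comm, zpow_mul, zpow_natCast]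
    exact H.zpow_mem ((hmem _).2 dvd_rfl) c
  have hx1 : (x ^ (a * (m' : ℤ))) ^ (p ^ r) ∈ H := by
    rw [← zpow_natCast, ← zpow_mul, show a * (m' : ℤ) * ((p ^ r : ℕ) : ℤ) = a * ((orderOf e : ℕ) : ℤ) by
      rw [he]; push_cast; ring]
    exact hH a
  obtain ⟨y₁, hy₁, hy₁n⟩ := hpart _ ⟨r, hx1⟩
  have hx2 : (x ^ (b * ((p ^ r : ℕ) : ℤ))) ^ m' ∈ H := by
    rw [← zpow_natCast, ← zpow_mul, show b * ((p ^ r : ℕ) : ℤ) * (m' : ℤ) = b * ((orderOf e : ℕ) : ℤ) by
      rw [he]; push_cast; ring]
    exact hH b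
  obtain ⟨v, hv, hvm⟩ := hdiv m' hm' _ hx2
  let y₂ := x ^ (b * ((p ^ r : ℕ) : ℤ)) * v⁻¹
  have hy₂ : y₂ ^ m' = 1 := by rw [mul_pow, inv_pow, hvm, mul_inv_cancel]
  have hx : x = x ^ (a * (m' : ℤ)) * x ^ (b * ((p ^ r : ℕ) : ℤ)) := by
    rw [← zpow_add, hab, zpow_one]
  have hyx : (y₁ * y₂)⁻¹ * x ∈ H := by
    have : (y₁ * y₂)⁻¹ * x = y₁⁻¹ * x ^ (a * (m' : ℤ)) * v := by
      conv_lhs => rw [hx]
      simp only [y₂, _root_.mul_inv_rev, _root_.inv_inv]
      generalize x ^ (a * (m' : ℤ)) = s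
      generalize x ^ (b * ((p ^ r : ℕ) : ℤ)) = t
      calc v * t⁻¹ * y₁⁻¹ * (s * t) = y₁⁻¹ * s * v * (t⁻¹ * t) := by ac_rfl
        _ = _ := by rw [inv_mul_cancel, _root_.mul_one]
    rw [this]
    exact H.mul_mem hy₁ hv
  refine ⟨y₁ * y₂, hyx, fun n => ⟨fun h => ?_, fun h => ?_⟩⟩
  · have := H.pow_mem hyx n
    rwa [mul_pow, inv_pow, h, inv_one, _root_.one_mul] at this
  · obtain ⟨c, hc⟩ := (hmem n).1 h
    have h1 : y₁ ^ n = 1 := (hy₁n n).2 (by
      rw [← zpow_natCast, ← zpow_mul, mul_comm (a * (m' : ℤ)), zpow_mul, zpow_natCast]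
      exact H.zpow_mem h _)
    have h2 : y₂ ^ n = 1 := by
      rw [hc, he, show p ^ r * m' * c = m' * (p ^ r * c) by ring, pow_mul, hy₂, one_pow]
    rw [mul_pow, h1, h2, _root_.one_mul]

section pts
variable {k : Type u} [Field k] [IsAlgClosed k] (F : Over (Spec (CommRingCat.of k))) [GrpObj F]

/-- The rational points lying in the component of the unit, given by the neutral component. -/
noncomputable def compPts (F₀ : Over (Spec (CommRingCat.of k))) [GrpObj F₀] (i : F₀ ⟶ F) [IsMonHom i] :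
    Subgroup (𝟙_ (Over (Spec (CommRingCat.of k))) ⟶ F) :=
  (MonoidHom.mk' (fun w : 𝟙_ (Over (Spec (CommRingCat.of k))) ⟶ F₀ => w ≫ i) fun a b => MonObj.mul_comp a b i).range

theorem mem_compPts (F₀ : Over (Spec (CommRingCat.of k))) [GrpObj F₀] (i : F₀ ⟶ F) [IsMonHom i] [IsOpenImmersion i.left]
    (hr : Set.range i.left = connectedComponent (η[F].left (closedPoint k)))
    (x : 𝟙_ (Over (Spec (CommRingCat.of k))) ⟶ F) :
    x ∈ compPts F F₀ i ↔ x.left (closedPoint k) ∈ connectedComponent (η[F].left (closedPoint k)) := by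
  constructor
  · rintro ⟨w, rfl⟩
    exact hr ▸ Set.mem_range_self (w.left (closedPoint k))
  · intro hx
    have hl : Set.range x.left ⊆ Set.range i.left := by
      rintro _ ⟨t, rfl⟩
      rw [Subsingleton.elim (α := PrimeSpectrum k) t (closedPoint k), hr]
      exact hx
    exact ⟨Over.homMk (IsOpenImmersion.lift i.left x.left hl) (by
      rw [← Over.w i, ← Category.assoc, IsOpenImmersion.lift_fac]; exact Over.w _),
      Over.OverMorphism.ext (IsOpenImmersion.lift_fac _ _ _)⟩

theorem mem_component_iff (F₀ : Over (Spec (CommRingCat.of k))) [GrpObj F₀] (i : F₀ ⟶ F) [IsMonHom i] [IsOpenImmersion i.left]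
    (hr : Set.range i.left = connectedComponent (η[F].left (closedPoint k)))
    (x y : 𝟙_ (Over (Spec (CommRingCat.of k))) ⟶ F) :
    y.left (closedPoint k) ∈ connectedComponent (x.left (closedPoint k)) ↔ y⁻¹ * x ∈ compPts F F₀ i := by
  constructor
  · intro hy
    rw [mem_compPts F F₀ i hr]
    let τ : F ⟶ F := (toUnit F ≫ y⁻¹) * 𝟙 F
    have hτ : ∀ w : 𝟙_ (Over (Spec (CommRingCat.of k))) ⟶ F, w ≫ τ = y⁻¹ * w := fun w => by
      rw [MonObj.comp_mul, Category.comp_id, ← Category.assoc, toUnit_unique (w ≫ toUnit F) (𝟙 _), Category.id_comp]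
    have h2 := (isPreconnected_connectedComponent.image τ.left τ.left.continuous.continuousOn).subset_connectedComponent
      ⟨y.left (closedPoint k), hy, rfl⟩ ⟨x.left (closedPoint k), mem_connectedComponent, rfl⟩
    have ey : τ.left (y.left (closedPoint k)) = η[F].left (closedPoint k) := by
      have := congrArg (fun m : 𝟙_ _ ⟶ F => m.left (closedPoint k)) (hτ y)
      simp only [inv_mul_cancel] at this
      rw [GrpInfLib.one_eq_eta] at this
      exact this
    rw [ey] at h2
    have ex := congrArg (fun m : 𝟙_ _ ⟶ F => m.left (closedPoint k)) (hτ x)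
    exact ex ▸ h2
  · rintro ⟨w, hw⟩
    have hw' : w ≫ i = y⁻¹ * x := hw
    have hc : ConnectedSpace F₀.left := by
      haveI : Nonempty F₀.left := ⟨η[F₀].left (closedPoint k)⟩
      refine { isPreconnected_univ := ?_, toNonempty := inferInstance }
      rw [← i.left.isOpenEmbedding.isInducing.isPreconnected_image, Set.image_univ, hr]
      exact isPreconnected_connectedComponent
    let φ : F₀ ⟶ F := (toUnit F₀ ≫ y) * i
    have hφ : ∀ w : 𝟙_ _ ⟶ F₀, w ≫ φ = y * (w ≫ i) := fun w => by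
      rw [MonObj.comp_mul, ← Category.assoc, toUnit_unique (w ≫ toUnit F₀) (𝟙 _), Category.id_comp]
    have h1 : η[F₀] ≫ φ = y := by
      rw [hφ, IsMonHom.one_hom, ← GrpInfLib.one_eq_eta]; simp
    have h2 : w ≫ φ = x := by rw [hφ, hw', mul_inv_cancel_left]
    exact (isPreconnected_range φ.left.continuous).subset_connectedComponent
      ⟨w.left (closedPoint k), congrArg (fun m : 𝟙_ _ ⟶ F => m.left (closedPoint k)) h2⟩
      ⟨η[F₀].left (closedPoint k), congrArg (fun m : 𝟙_ _ ⟶ F => m.left (closedPoint k)) h1⟩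

theorem exists_root_compPts [IsCommMonObj F] [Smooth F.hom] (F₀ : Over (Spec (CommRingCat.of k))) [GrpObj F₀] (i : F₀ ⟶ F)
    [IsMonHom i] [IsOpenImmersion i.left] (hr : Set.range i.left = connectedComponent (η[F].left (closedPoint k)))
    (n : ℕ) (hn : (n : k) ≠ 0) (u : 𝟙_ (Over (Spec (CommRingCat.of k))) ⟶ F) (hu : u ∈ compPts F F₀ i) :
    ∃ v ∈ compPts F F₀ i, v ^ n = u := by
  haveI := LocallyOfFiniteType.jacobsonSpace F.hom
  obtain ⟨q, hq, hqu⟩ := GrpInfLib.exists_pow_eq_of_mem_component F n hn _ ((mem_compPts F F₀ i hr u).1 hu)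
  let P : F ⟶ F := 𝟙 F ^ n
  have hcl' : IsClosed (P.left ⁻¹' {u.left (closedPoint k)}) :=
    have hw : u.left ≫ F.hom = 𝟙 _ := Over.w u
    haveI : LocallyOfFiniteType F.hom := inferInstance
    let e := pointEquivClosedPoint (K := k) F.hom
    have hc := (e ⟨u.left, hw⟩).2
    hc.preimage P.left.continuous
  have hcl : IsClosed (P.left ⁻¹' {u.left (closedPoint k)} ∩ connectedComponent (η[F].left (closedPoint k))) :=
    hcl'.inter isClosed_connectedComponent
  obtain ⟨v₀, hv₀, hv₀c⟩ := nonempty_inter_closedPoints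
    (show (P.left ⁻¹' {u.left (closedPoint k)} ∩ connectedComponent (η[F].left (closedPoint k))).Nonempty from
      ⟨q, hqu, hq⟩) hcl.isLocallyClosed
  let v : 𝟙_ (Over (Spec (CommRingCat.of k))) ⟶ F :=
    Over.homMk _ ((pointEquivClosedPoint F.hom).symm ⟨v₀, hv₀c⟩).2
  have hv : v.left (closedPoint k) = v₀ :=
    congrArg Subtype.val ((pointEquivClosedPoint F.hom).apply_symm_apply ⟨v₀, hv₀c⟩)
  refine ⟨v, (mem_compPts F F₀ i hr v).2 (hv.symm ▸ hv₀.2), ?_⟩
  have hvu : v ≫ P = u := Over.OverMorphism.ext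
    (ext_of_apply_closedPoint_eq F.hom (Over.w (v ≫ P)) (Over.w u) ((congrArg P.left hv).trans hv₀.1))
  rwa [MonObj.comp_pow, Category.comp_id] at hvu

end pts

/-- Let R be a complete discrete valuation ring with fraction field K and algebraically closed residue
field k of characteristic p > 0, and N an R-group scheme which is a Néron model of its generic fibre
N_K, an abelian variety (proper and geometrically integral over K). Then N_K has split reduction —
for every k-point x of the special fibre N_k there is a k-point y in the connected component of x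
such that for all n, y^n = 1 if and only if x^n lies in the connected component of the identity — if
and only if this holds for every k-point x such that some x^(p^r) lies in the connected component of
the identity (the p-primary part of the component sequence splits). (The published statement covers
semi-abelian varieties with their Néron lft-models; this row is the case of an abelian variety.) -/
theorem result (R : Type u) [CommRing R] [IsDomain R]
    [IsDiscreteValuationRing R] [IsAdicComplete (IsLocalRing.maximalIdeal R) R] (K : Type u) [Field K] [Algebra R K]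
    [IsFractionRing R K] [IsAlgClosed (IsLocalRing.ResidueField R)] (p : ℕ) [Fact p.Prime] [CharP (IsLocalRing.ResidueField R) p]
    (N : Over (Spec (CommRingCat.of R))) [GrpObj N] [IsCommMonObj N] (hN : SGA7.IsNeron R K N)
    [IsProper ((SGA7.genFib R K).obj N).hom] [GeometricallyIntegral ((SGA7.genFib R K).obj N).hom] :
    (∀ x : 𝟙_ (Over (Spec (CommRingCat.of (IsLocalRing.ResidueField R)))) ⟶ Red.bc (Spec.map (CommRingCat.ofHom (IsLocalRing.residue R))) N,
        ∃ y : 𝟙_ (Over (Spec (CommRingCat.of (IsLocalRing.ResidueField R)))) ⟶ Red.bc (Spec.map (CommRingCat.ofHom (IsLocalRing.residue R))) N,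
          y.left.base (IsLocalRing.closedPoint (IsLocalRing.ResidueField R)) ∈ connectedComponent (x.left.base (IsLocalRing.closedPoint (IsLocalRing.ResidueField R))) ∧
            ∀ n : ℕ, y ^ n = 1 ↔ (x ^ n).left.base (IsLocalRing.closedPoint (IsLocalRing.ResidueField R)) ∈ connectedComponent ((η[Red.bc (Spec.map (CommRingCat.ofHom (IsLocalRing.residue R))) N]).left.base (IsLocalRing.closedPoint (IsLocalRing.ResidueField R)))) ↔
      ∀ x : 𝟙_ (Over (Spec (CommRingCat.of (IsLocalRing.ResidueField R)))) ⟶ Red.bc (Spec.map (CommRingCat.ofHom (IsLocalRing.residue R))) N,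
        (∃ r : ℕ, (x ^ (p ^ r)).left.base (IsLocalRing.closedPoint (IsLocalRing.ResidueField R)) ∈ connectedComponent ((η[Red.bc (Spec.map (CommRingCat.ofHom (IsLocalRing.residue R))) N]).left.base (IsLocalRing.closedPoint (IsLocalRing.ResidueField R)))) →
          ∃ y : 𝟙_ (Over (Spec (CommRingCat.of (IsLocalRing.ResidueField R)))) ⟶ Red.bc (Spec.map (CommRingCat.ofHom (IsLocalRing.residue R))) N,
          y.left.base (IsLocalRing.closedPoint (IsLocalRing.ResidueField R)) ∈ connectedComponent (x.left.base (IsLocalRing.closedPoint (IsLocalRing.ResidueField R))) ∧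
            ∀ n : ℕ, y ^ n = 1 ↔ (x ^ n).left.base (IsLocalRing.closedPoint (IsLocalRing.ResidueField R)) ∈ connectedComponent ((η[Red.bc (Spec.map (CommRingCat.ofHom (IsLocalRing.residue R))) N]).left.base (IsLocalRing.closedPoint (IsLocalRing.ResidueField R))) := by
  let k := IsLocalRing.ResidueField R
  let g := Spec.map (CommRingCat.ofHom (IsLocalRing.residue R))
  let F := Red.bc g N
  haveI : Smooth N.hom := hN.1
  haveI : Smooth F.hom := inferInstanceAs (Smooth (CategoryTheory.Limits.pullback.snd N.hom g))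
  haveI : IsLocallyNoetherian F.left := LocallyOfFiniteType.isLocallyNoetherian F.hom
  refine ⟨fun h x _ => h x, fun h => ?_⟩
  obtain ⟨F₀, str, i, hi, _, _, hr, hgi, -⟩ := Neutral.exists_neutralSubgroup F
  haveI : IsOpenImmersion i.left := IsOpenImmersion.of_flat_of_mono i.left
  letI : CommGroup (𝟙_ (Over (Spec (CommRingCat.of k))) ⟶ F) := Hom.commGroup
  intro x
  have hp : p.Prime := Fact.out
  obtain ⟨y, hy, hyn⟩ := exists_order_lift (compPts F F₀ i) p hp
    (fun n hn u hu => exists_root_compPts F F₀ i hr n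
      (fun h0 => hn ((CharP.cast_eq_zero_iff k p n).1 h0)) u hu)
    (fun z hz => by
      obtain ⟨r, hr'⟩ := hz
      obtain ⟨y, hy, hyn⟩ := h z ⟨r, (mem_compPts F F₀ i hr _).1 hr'⟩
      exact ⟨y, (mem_component_iff F F₀ i hr z y).1 hy,
        fun n => (hyn n).trans (mem_compPts F F₀ i hr (z ^ n)).symm⟩) x
  exact ⟨y, (mem_component_iff F F₀ i hr x y).2 hy, fun n => (hyn n).trans (mem_compPts F F₀ i hr (x ^ n))⟩

end Groth.Agent.S14912
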