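import Groth.Statements.S14932
import Groth.Agent.FrobSchLib.Syn
import Groth.Agent.CurveFF.GenEtale
import Groth.Agent.TransvLib.RelDim
import Groth.Agent.OmegaSepLib.GeomRed
import Groth.Agent.FieldExtLib.Separable

set_option autoImplicit false
universe u
open CategoryTheory CategoryTheory.Limits AlgebraicGeometry
open Variety

namespace Groth.Agent.S14932

open CategoryTheory CategoryTheory.Limits AlgebraicGeometry

set_option backward.isDefEq.respectTransparency false
set_option backward.defeqAttrib.useBackward true
set_option linter.style.haveILetI false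

set_option maxHeartbeats 1000000
set_option backward.isDefEq.respectTransparency.types false

attribute [local instance] Curv2.resAlgebra

open TopologicalSpace Opposite

theorem genericPoint_mem_smoothLocus (k : Type u) [Field k] (X : Scheme.{u}) [X.Over (Spec (CommRingCat.of k))]
    [IsIntegral X] [LocallyOfFinitePresentation (X ↘ Spec (CommRingCat.of k))]
    (h : Algebra.FormallySmooth k (X.residueField (genericPoint X))) :
    genericPoint X ∈ (X ↘ Spec (CommRingCat.of k)).smoothLocus := by
  let f := X ↘ Spec (CommRingCat.of k)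
  let g := genericPoint X
  rw [Scheme.Hom.mem_smoothLocus]
  let e : k ≃ₐ[k] (Spec.structureSheaf k).presheaf.stalk (f g) :=
    IsLocalization.atUnits _ (f g).asIdeal.primeCompl (fun x hx ↦ by aesop (add simp IsUnit.mem_submonoid_iff))
  have hr : Function.Bijective (X.residue g).hom :=
    ⟨(X.residue g).hom.injective, Scheme.residue_surjective X g⟩
  let e₂ : X.presheaf.stalk g ≃+* X.residueField g := RingEquiv.ofBijective (X.residue g).hom hr
  have hc : algebraMap k (X.residueField g) = (e₂.toRingHom.comp (f.stalkMap g).hom).comp e.toRingEquiv.toRingHom := by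
    ext r
    show X.residue g (X.presheaf.germ ⊤ g trivial (Coh.toGlobal f r)) =
      X.residue g (f.stalkMap g ((Spec (CommRingCat.of k)).presheaf.germ ⊤ (f g) trivial
        ((Scheme.ΓSpecIso (CommRingCat.of k)).inv r)))
    rw [Scheme.Hom.germ_stalkMap_apply]
    rfl
  have h' : (algebraMap k (X.residueField g)).FormallySmooth := RingHom.formallySmooth_algebraMap.2 h
  rw [hc] at h'
  have h₁ := RingHom.FormallySmooth.respectsIso.2 _ e.toRingEquiv.symm h'
  have h₂ := RingHom.FormallySmooth.respectsIso.1 _ e₂.symm h₁
  convert! h₂ using 1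
  ext x
  exact ((e₂.symm_apply_apply _).trans (congrArg (f.stalkMap g).hom (e.toRingEquiv.apply_symm_apply x))).symm

theorem isGeometricallyReduced_residueField (k : Type u) [Field k] {X : Scheme.{u}} [X.Over (Spec (CommRingCat.of k))]
    [IsIntegral X] [GeometricallyReduced (X ↘ Spec (CommRingCat.of k))] :
    Algebra.IsGeometricallyReduced k (X.residueField (genericPoint X)) := by
  haveI : IsReduced (pullback (X ↘ Spec (CommRingCat.of k))
      (Spec.map (CommRingCat.ofHom (algebraMap k (AlgebraicClosure k))))) :=
    GeometricallyReduced.geometrically_isReduced _ _ _ (IsPullback.of_hasPullback _ _)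
  haveI := OmegaSepLib.flat_fromSpecResidueField_generic X
  refine OmegaSepLib.isGeometricallyReduced_of_reduced_bc (k := k) (L := X.residueField (genericPoint X))
    (X ↘ Spec (CommRingCat.of k)) (X.fromSpecResidueField (genericPoint X)) ?_ inferInstance
  unfold Scheme.fromSpecResidueField
  rw [Category.assoc, GeomRedPtLib.fromSpecStalk_over, ← Spec.map_comp]
  rfl

/-- Let k be a field of characteristic p > 0 and X a variety over k (an integral scheme, separated and
of finite type over k) which is geometrically reduced over k, of dimension d. Then the Frobenius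
twist X^(p) = X ×_{Spec k, F_k} Spec k, the base change of X along the absolute Frobenius of Spec k,
is an integral scheme, and the relative Frobenius F_{X/k} : X → X^(p) has degree p^d: the residue
field of the generic point of X is an extension of degree p^d of the residue field of its image in
X^(p). (The published item also says that X^(p) is separated and of finite type over k and that
F_{X/k} is finite and dominant; these hold for every base change of a separated morphism of finite
type, respectively for the relative Frobenius of every scheme locally of finite type over a base of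
characteristic p, and are not restated. It also states the equivalence of: X^(p) reduced, X
geometrically reduced, X has a nonempty open smooth over k; that equivalence is not part of this
row.) -/
theorem result (k : Type u) [Field k]
    (p : ℕ) [Fact p.Prime] [CharP k p] (X : Scheme.{u}) [X.Over (Spec (CommRingCat.of k))] [IsIntegral X]
    [IsSeparated (X ↘ (Spec (CommRingCat.of k)))] [LocallyOfFiniteType (X ↘ (Spec (CommRingCat.of k)))] [QuasiCompact (X ↘ (Spec (CommRingCat.of k)))]
    [GeometricallyReduced (X ↘ (Spec (CommRingCat.of k)))] (d : ℕ) (hd : topologicalKrullDim X = d) :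
    IsIntegral (FrobSch.frobTwist (X ↘ (Spec (CommRingCat.of k))) p) ∧
      (FrobSch.relFrob (X ↘ (Spec (CommRingCat.of k))) p).residueDegree (genericPoint X) = p ^ d := by
  let f := X ↘ Spec (CommRingCat.of k)
  haveI : FrobSch.IsCharP X p := FrobSch.IsCharP.of_hom f p
  let F := FrobSch.relFrob f p
  haveI hFs : Surjective F := FrobSchLib.surjective_relFrob p f
  haveI hFf : IsFinite F := FrobSchLib.isFinite_relFrob p f
  haveI : IsReduced (FrobSch.frobTwist f p) :=
    GeometricallyReduced.geometrically_isReduced (f := f) (FrobSch.frob (Spec (CommRingCat.of k)) p) _ _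
      (IsPullback.of_hasPullback _ _)
  haveI : IrreducibleSpace (FrobSch.frobTwist f p) := by
    have h : IsIrreducible (Set.univ : Set (FrobSch.frobTwist f p)) := by
      rw [← Set.range_eq_univ.2 F.surjective, ← Set.image_univ]
      exact IsIrreducible.image (IrreducibleSpace.isIrreducible_univ X) _ F.continuous.continuousOn
    exact { isPreirreducible_univ := h.2, toNonempty := ⟨h.1.choose⟩ }
  haveI : IsIntegral (FrobSch.frobTwist f p) := isIntegral_of_irreducibleSpace_of_isReduced _
  refine ⟨inferInstance, ?_⟩
  -- a standard smooth chart at the generic point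
  haveI : LocallyOfFinitePresentation f := LocallyOfFinitePresentation.iff_locallyOfFiniteType.2 inferInstance
  let U₀ := f.smoothLocus
  have hg : genericPoint X ∈ U₀ := genericPoint_mem_smoothLocus k X
    (FieldExtLib.formallySmooth_of_isGeometricallyReduced (isGeometricallyReduced_residueField k))
  haveI : Smooth (U₀.ι ≫ f) := by
    rw [← Scheme.Hom.smoothLocus_eq_top_iff, ← Scheme.Hom.preimage_smoothLocus_eq, Scheme.Opens.ι_preimage_self]
  haveI : Nonempty ↥U₀.toScheme := ⟨⟨_, hg⟩⟩
  haveI : IsIntegral U₀.toScheme := inferInstance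
  haveI : SmoothOfRelativeDimension d (U₀.ι ≫ f) :=
    TransvLib.exists_relDim_eq (U₀.ι ≫ f) d ((DimFormulaLib.topologicalKrullDim_opens f U₀ ⟨_, hg⟩).trans hd)
  obtain ⟨V, hV, U', hU', hx, e', hstd⟩ :=
    SmoothOfRelativeDimension.exists_isStandardSmoothOfRelativeDimension (n := d) (f := U₀.ι ≫ f) ⟨_, hg⟩
  let U : X.Opens := U₀.ι ''ᵁ U'
  have hU : IsAffineOpen U := hU'.image_of_isOpenImmersion U₀.ι
  have hgU : genericPoint X ∈ U := ⟨⟨_, hg⟩, hx, rfl⟩
  have e : U ≤ f ⁻¹ᵁ V := by
    rintro _ ⟨y, hy, rfl⟩
    exact e' hy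
  have hstd' : (f.appLE V U e).hom.IsStandardSmoothOfRelativeDimension d := by
    have h1 : f.appLE V U e ≫ (U₀.ι.appIso U').hom = (U₀.ι ≫ f).appLE V U' e' := by
      rw [Scheme.Hom.appIso_hom', Scheme.Hom.appLE_comp_appLE]
    rw [← h1] at hstd
    exact (RingHom.isStandardSmoothOfRelativeDimension_respectsIso.cancel_right_isIso _ _).1 hstd
  -- the chart of the twist
  let S := Spec (CommRingCat.of k)
  let pr₁ := pullback.fst f (FrobSch.frob S p)
  let pr₂ := pullback.snd f (FrobSch.frob S p)
  let P : (FrobSch.frobTwist f p).Opens := pr₁ ⁻¹ᵁ U ⊓ pr₂ ⁻¹ᵁ V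
  have H := IsPullback.of_hasPullback f (FrobSch.frob S p)
  have hP : IsAffineOpen P := by
    haveI : IsAffine U.toScheme := hU
    haveI : IsAffine V.toScheme := hV
    exact .of_isIso (Scheme.Hom.isPullback_resLE H (US := V) (UT := V) (UX := U) le_rfl e rfl).isoPullback.hom
  have eU : U ≤ F ⁻¹ᵁ P := fun y hy =>
    ⟨show pr₁ (F y) ∈ U by
      rw [← Scheme.Hom.comp_apply, FrobSch.relFrob_fst, FrobSch.frob_apply]; exact hy,
     show pr₂ (F y) ∈ V by
      rw [← Scheme.Hom.comp_apply, FrobSch.relFrob_snd]; exact e hy⟩
  have sq := (isIso_pushoutSection_iff H (US := V) (UT := V) (UX := U) le_rfl e rfl).1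
    (isIso_pushoutSection_of_isAffineOpen H le_rfl e rfl hV hV hU)
  haveI : Nonempty V := ⟨⟨f (genericPoint X), e hgU⟩⟩
  haveI : Nonempty U := ⟨⟨_, hgU⟩⟩
  haveI : Nonempty P := ⟨⟨_, eU hgU⟩⟩
  haveI : CharP Γ(S, V) p := (CharP.charP_iff_prime_eq_zero Fact.out).2 (FrobSch.natCast_eq_zero_app S p V)
  haveI : CharP Γ(X, U) p := (CharP.charP_iff_prime_eq_zero Fact.out).2 (FrobSch.natCast_eq_zero_app X p U)
  letI : Algebra Γ(S, V) Γ(X, U) := (f.appLE V U e).hom.toAlgebra
  obtain ⟨g, hgC, hget⟩ := RingHom.IsStandardSmoothOfRelativeDimension.exists_etale_mvPolynomial hstd'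
  letI : Algebra (MvPolynomial (Fin d) Γ(S, V)) Γ(X, U) := g.toAlgebra
  haveI : IsScalarTower Γ(S, V) (MvPolynomial (Fin d) Γ(S, V)) Γ(X, U) := IsScalarTower.of_algebraMap_eq' hgC.symm
  haveI : Algebra.Etale (MvPolynomial (Fin d) Γ(S, V)) Γ(X, U) := hget
  have hfrobS : (FrobSch.frob S p).appLE V V le_rfl = FrobAlgLib.frobC p Γ(S, V) := by
    ext a
    change S.presheaf.map (homOfLE (le_refl V)).op (a ^ p) = a ^ p
    simp
  have hf : f.appLE V U e = FrobAlgLib.alg Γ(S, V) Γ(X, U) := rfl
  simp only [hfrobS, hf] at sq
  obtain ⟨y, t, -, b, -⟩ := FrobAlgLib.exists_monomialBasis_of_isPushout p d sq (F.appLE P U eU) (by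
    rw [Scheme.Hom.appLE_comp_appLE]
    have key : ∀ (h : X ⟶ X) (_ : h = FrobSch.frob X p) (e' : U ≤ h ⁻¹ᵁ U),
        h.appLE U U e' = FrobAlgLib.frobC p Γ(X, U) := by
      rintro h rfl e'
      ext a
      change X.presheaf.map (homOfLE (le_refl U)).op (a ^ p) = a ^ p
      simp
    exact key _ (FrobSch.relFrob_fst f p) _) (by
    rw [Scheme.Hom.appLE_comp_appLE]
    have key : ∀ (h : X ⟶ S) (_ : h = f) (e' : U ≤ h ⁻¹ᵁ V), h.appLE V U e' = f.appLE V U e := by
      rintro h rfl e'
      rfl
    exact key _ (FrobSch.relFrob_snd f p) _)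
  letI : Algebra Γ(FrobSch.frobTwist f p, P) Γ(X, U) := (F.appLE P U eU).hom.toAlgebra
  haveI := Module.Free.of_basis b
  haveI := Module.Finite.of_basis b
  letI := NormHomLib.ffAlg F
  rw [CurveFF.GenEtale.residueDegree_eq_finrank F]
  haveI := functionField_isFractionRing_of_isAffineOpen (FrobSch.frobTwist f p) P hP
  haveI := functionField_isFractionRing_of_isAffineOpen X U hU
  letI : Algebra Γ(FrobSch.frobTwist f p, P) X.functionField :=
    ((algebraMap Γ(X, U) X.functionField).comp (algebraMap Γ(FrobSch.frobTwist f p, P) Γ(X, U))).toAlgebra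
  haveI : IsScalarTower Γ(FrobSch.frobTwist f p, P) Γ(X, U) X.functionField := .of_algebraMap_eq fun _ => rfl
  have hgP : genericPoint (FrobSch.frobTwist f p) ∈ P := NormHomLib.map_genericPoint F ▸ eU hgU
  haveI : IsScalarTower Γ(FrobSch.frobTwist f p, P) (FrobSch.frobTwist f p).functionField X.functionField :=
    .of_algebraMap_eq fun w => by
      show X.presheaf.germ U (genericPoint X) hgU (F.appLE P U eU w) =
        NormHomLib.ffMap F ((FrobSch.frobTwist f p).presheaf.germ P _ hgP w)
      rw [NormHomLib.ffMap_germ, Scheme.Hom.appLE, CommRingCat.comp_apply, TopCat.Presheaf.germ_res_apply]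
  rw [IsFractionRing.finrank_eq Γ(FrobSch.frobTwist f p, P) (FrobSch.frobTwist f p).functionField Γ(X, U) X.functionField,
    Module.finrank_eq_card_basis b, Fintype.card_fun, Fintype.card_fin, Fintype.card_fin]

end Groth.Agent.S14932
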