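import Groth.Statements.S14934
import Groth.Agent.AVHomLib.Main

set_option autoImplicit false
universe u
open CategoryTheory MonoidalCategory CartesianMonoidalCategory MonObj GrpObj AlgebraicGeometry
open AbVar

namespace Groth.Agent.S14934

open CategoryTheory CategoryTheory.Limits AlgebraicGeometry

open Groth.Agent
set_option backward.isDefEq.respectTransparency false

/-- Let k be a finite field with algebraic closure Ω, l a prime number invertible in k, and A, B abelian
varieties over k (proper, geometrically integral commutative group schemes over k). If homomorphisms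
e_1, …, e_n : A → B are linearly independent over ℤ in the additive group of k-morphisms A → B
(pointwise product in B), then the induced ℤ_l-linear maps between the l-adic Tate modules of
Ω-points T_l A → T_l B are linearly independent over ℤ_l. Equivalently, ℤ_l ⊗ Hom_k(A, B) → Hom(T_l
A, T_l B) is injective. -/
theorem result (k Ω : Type u) [Field k] [Finite k] [Field Ω] [Algebra k Ω] [IsAlgClosure k Ω]
    (l : ℕ) [Fact l.Prime] (hl : (l : k) ≠ 0) (A B : Over (Spec (CommRingCat.of k)))
    [GrpObj A] [IsCommMonObj A] [IsProper A.hom] [GeometricallyIntegral A.hom]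
    [GrpObj B] [IsCommMonObj B] [IsProper B.hom] [GeometricallyIntegral B.hom]
    (n : ℕ) (e : Fin n → (A ⟶ B)) [∀ i, IsMonHom (e i)]
    (he : LinearIndependent ℤ (fun i => Additive.ofMul (e i))) :
    LinearIndependent ℤ_[l] (fun i => AbDual.tateMapₗ (l := l) (T := SGA7.pt Ω) (e i)) := by
  have hind : LinearIndependent ℤ (fun i => EndAV.Hom.of (e i)) := by
    let F : EndAV.Hom A B →+ Additive (A ⟶ B) :=
      { toFun := fun φ => Additive.ofMul φ.toHom, map_zero' := rfl, map_add' := fun _ _ => rfl }
    exact LinearIndependent.of_comp F.toIntLinearMap he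
  haveI : IsAlgClosed Ω := IsAlgClosure.isAlgClosed k
  have h := AVHomLib.linearIndependent_tateMap (k := k) (A := A) (B := B) Ω l hl (fun i => EndAV.Hom.of (e i)) hind
  have hfun : (fun i => AbDual.tateMapₗ (l := l) (T := AVPtsLib.bcPt (k := k) Ω) (e i)) =
      fun i => EndAV.Hom.tateMap l (AVPtsLib.bcPt (k := k) Ω) (EndAV.Hom.of (e i)) := funext fun i => rfl
  rw [← hfun] at h
  exact h

end Groth.Agent.S14934
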