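import Groth.Statements.S14942
import Groth.Agent.DegPolyLib.Simple

set_option autoImplicit false
universe u
open CategoryTheory MonoidalCategory CartesianMonoidalCategory MonObj GrpObj AlgebraicGeometry
open AbVar

namespace Groth.Agent.S14942

open CategoryTheory CategoryTheory.Limits AlgebraicGeometry

open Groth.Agent
set_option backward.isDefEq.respectTransparency false
set_option linter.style.haveILetI false
set_option synthInstance.maxHeartbeats 400000
set_option maxHeartbeats 1000000

/-- Part 1: let A be a simple abelian variety over a finite field k with q elements — a proper,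
geometrically integral commutative group scheme over k whose only abelian subvarieties over k
(geometrically integral closed subgroup schemes) are the trivial subgroup and A itself — with
q-Frobenius endomorphism π_A (the identity on points, the q-th power map on sections; a
homomorphism). Let Ω be an algebraic closure of k, l a prime invertible in k, and assume (as is the
case) that the l-adic Tate module of Ω-points T_l A is free of finite rank over ℤ_l. Then the
characteristic polynomial of T_l(π_A), which has rational coefficients, is a power of the minimal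
polynomial of π_A over ℚ: viewed over ℚ_l it equals h^n for some polynomial h with rational
coefficients irreducible over ℚ and some n. -/
theorem result (k Ω : Type u) [Field k] [Finite k] [Field Ω] [Algebra k Ω] [IsAlgClosure k Ω]
    (l : ℕ) [Fact l.Prime] (hl : (l : k) ≠ 0) (A : Over (Spec (CommRingCat.of k)))
    [GrpObj A] [IsCommMonObj A] [IsProper A.hom] [GeometricallyIntegral A.hom]
    (hsimple : ∀ (B : Over (Spec (CommRingCat.of k))) [GrpObj B] [GeometricallyIntegral B.hom] (i : B ⟶ A) [IsMonHom i]
      [IsClosedImmersion i.left], Subsingleton B.left ∨ IsIso i)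
    (πA : A ⟶ A) [IsMonHom πA] (hπAb : πA.left.base = 𝟙 _)
    (hπAle : ∀ U : A.left.Opens, U ≤ πA.left ⁻¹ᵁ U)
    (hπAapp : ∀ (U : A.left.Opens) (s : Γ(A.left, U)), (πA.left.appLE U U (hπAle U)).hom s = s ^ Nat.card k)
    [Module.Free ℤ_[l] (AbDual.TateMod A l (SGA7.pt Ω))] [Module.Finite ℤ_[l] (AbDual.TateMod A l (SGA7.pt Ω))] :
    ∃ (h : Polynomial ℚ) (n : ℕ), Irreducible h ∧
      ((AbDual.tateMapₗ (l := l) (T := SGA7.pt Ω) πA).charpoly).map (algebraMap ℤ_[l] ℚ_[l]) =
        (h.map (algebraMap ℚ ℚ_[l])) ^ n := by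
  haveI : IsAlgClosed Ω := IsAlgClosure.isAlgClosed k
  obtain ⟨g, hg⟩ := AVLib.exists_dim (A := A)
  haveI : Module.Free ℤ_[l] (AbDual.TateMod A l (AVPtsLib.bcPt Ω)) := ‹_›
  haveI : Module.Finite ℤ_[l] (AbDual.TateMod A l (AVPtsLib.bcPt Ω)) := ‹_›
  let x : EndAV.End A := EndAV.End.of πA
  have hc : ∀ P : Polynomial ℤ,
      (∀ n : ℤ, P.eval n = (DegPolyLib.degE (x - ((n : ℤ) : EndAV.End A)) : ℤ)) →
      ((AbDual.tateMapₗ (l := l) (T := SGA7.pt Ω) πA).charpoly).map (algebraMap ℤ_[l] ℚ_[l]) =
        (P.map (Int.castRingHom ℚ)).map (algebraMap ℚ ℚ_[l]) := by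
    intro P hP
    have h1 : (AbDual.tateMapₗ (l := l) (T := SGA7.pt Ω) πA).charpoly = P.map (Int.castRingHom ℤ_[l]) :=
      DegPolyLib.charpoly_any Ω hg l hl x P hP
    rw [h1, Polynomial.map_map, Polynomial.map_map]
    exact congrArg (fun f => P.map f) (RingHom.ext_int _ _)
  rcases subsingleton_or_nontrivial (EndAV.End0 A) with hs | hn
  · obtain ⟨P, -, -, hP⟩ := DegPolyLib.exists_charPZ hg x
    refine ⟨Polynomial.X, 0, Polynomial.irreducible_X, ?_⟩
    rw [hc P hP, DegPolyLib.eq_one_of_subsingleton hg x P hP, Polynomial.map_one, Polynomial.map_one, pow_zero]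
  · haveI : NoZeroDivisors (EndAV.End0 A) := ⟨fun {a b} hab => by
      by_cases ha : a = 0
      · exact Or.inl ha
      · obtain ⟨u, hu⟩ := AVHomLib.isUnit_of_noZeroDivisors (DegPolyLib.noZeroDivisors_of_simple hsimple) a ha
        rw [← hu] at hab
        exact Or.inr (u.mul_right_eq_zero.1 hab)⟩
    haveI : IsDomain (EndAV.End0 A) := NoZeroDivisors.to_isDomain _
    haveI := AVHomLib.finite_end0 A
    have hirr : Irreducible (minpoly ℚ (EndAV.toEnd0 x)) := minpoly.irreducible (IsIntegral.of_finite ℚ _)
    obtain ⟨P, hP, hPq⟩ := DegPolyLib.charPZ_eq_pow hg x hirr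
    exact ⟨_, _, hirr, by rw [hc P hP, hPq, Polynomial.map_pow]⟩

end Groth.Agent.S14942
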