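import Groth.Statements.S14943
import Groth.Agent.PoincareLib.Semisimple
import Groth.Agent.CogenLib.Frob
import Groth.Prelude.Def_EndTate
import Mathlib.LinearAlgebra.Semisimple
import Mathlib.RingTheory.Radical.Basic
import Mathlib.RingTheory.Localization.Integral

set_option autoImplicit false
universe u
open CategoryTheory MonoidalCategory CartesianMonoidalCategory MonObj GrpObj AlgebraicGeometry
open AbVar

namespace Groth.Agent.S14943

open CategoryTheory CategoryTheory.Limits AlgebraicGeometry

open Groth.Agent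
set_option backward.isDefEq.respectTransparency false
set_option maxHeartbeats 1000000

/-- Let A be an abelian variety over a finite field k with q elements (a proper, geometrically integral
commutative group scheme over k), π_A its q-Frobenius endomorphism (the identity on points and the
q-th power map on sections; a homomorphism), Ω an algebraic closure of k and l a prime invertible in
k. Then the Frobenius endomorphism acts semisimply on V_l(A) = ℚ_l ⊗_{ℤ_l} T_l(A), T_l(A) the l-adic
Tate module of Ω-points: the ℚ_l-linear endomorphism ℚ_l ⊗ T_l(π_A) is semisimple. (The published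
statement is that ℚ[π_A] ⊆ ℚ ⊗ End_k(A) is a semisimple algebra, hence acts semisimply in every
representation over a field of characteristic zero; this row states that action on V_l(A).) -/
theorem result (k Ω : Type u) [Field k] [Finite k] [Field Ω] [Algebra k Ω] [IsAlgClosure k Ω]
    (l : ℕ) [Fact l.Prime] (hl : (l : k) ≠ 0) (A : Over (Spec (CommRingCat.of k)))
    [GrpObj A] [IsCommMonObj A] [IsProper A.hom] [GeometricallyIntegral A.hom]
    (πA : A ⟶ A) [IsMonHom πA] (hπAb : πA.left.base = 𝟙 _)
    (hπAle : ∀ U : A.left.Opens, U ≤ πA.left ⁻¹ᵁ U)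
    (hπAapp : ∀ (U : A.left.Opens) (s : Γ(A.left, U)), (πA.left.appLE U U (hπAle U)).hom s = s ^ Nat.card k) :
    Module.End.IsSemisimple ((AbDual.tateMapₗ (l := l) (T := SGA7.pt Ω) πA).baseChange ℚ_[l]) := by
  classical
  haveI : IsAlgClosed Ω := IsAlgClosure.isAlgClosed k
  obtain ⟨g, hg⟩ := AVLib.exists_dim (A := A)
  haveI : Module.Finite ℤ_[l] (AbDual.TateMod A l (SGA7.pt Ω)) :=
    (AVHomLib.free_tateMod (A := A) Ω l hl hg).2.1
  let π : EndAV.End A := EndAV.End.of πA
  let x : EndAV.End0 A := EndAV.toEnd0 π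
  have hfr : CogenLib.IsQFrob (Nat.card k) πA.left := ⟨hπAb, hπAle, hπAapp⟩
  have hcen : ∀ z, x * z = z * x := by
    intro z
    obtain ⟨n, φ, hn, hz⟩ := AVHomLib.exists_den z
    have h0 : π * φ = φ * π := EndAV.End.ext (by
      rw [EndAV.End.toHom_mul, EndAV.End.toHom_mul]
      exact (CogenLib.comm_over hfr hfr φ.toHom).symm)
    have h1 : (n : ℚ) • (x * z) = (n : ℚ) • (z * x) := by
      rw [← mul_smul_comm, hz, ← smul_mul_assoc, hz, ← map_mul, ← map_mul, h0]
    exact smul_right_injective _ (by exact_mod_cast hn.ne') h1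
  haveI := AVHomLib.finite_end0 A
  have hint : IsIntegral ℚ x := IsIntegral.of_finite ℚ x
  have hP0 : minpoly ℚ x ≠ 0 := minpoly.ne_zero hint
  let R := UniqueFactorizationMonoid.radical (minpoly ℚ x)
  have hR : Squarefree R := UniqueFactorizationMonoid.squarefree_radical
  obtain ⟨n, c, hc⟩ : ∃ n, minpoly ℚ x ∣ R ^ n :=
    (UniqueFactorizationMonoid.exists_dvd_pow_iff_radical_dvd hP0).2 dvd_rfl
  have hRx : Polynomial.aeval x R = 0 := by
    refine PoincareLib.eq_zero_of_central_nilpotent A (fun z => ?_) ⟨n, by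
      rw [← map_pow, hc, map_mul, minpoly.aeval, zero_mul]⟩
    exact Subalgebra.mem_centralizer_iff (R := ℚ) |>.1
      (show z ∈ Subalgebra.centralizer ℚ {Polynomial.aeval x R} from by
        rw [Subalgebra.mem_centralizer_iff]
        rintro _ rfl
        induction R using Polynomial.induction_on' with
        | add p q hp hq => rw [map_add, add_mul, mul_add, hp, hq]
        | monomial m a =>
          rw [Polynomial.aeval_monomial, _root_.mul_assoc, ((Commute.pow_left (hcen z) m)).eq, ← _root_.mul_assoc,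
            Algebra.commutes a z, _root_.mul_assoc]) _ rfl
  obtain ⟨⟨b, hbm⟩, hb⟩ := IsLocalization.integerNormalization_map_to_map (nonZeroDivisors ℤ) R
  have hb0 : (b : ℤ) ≠ 0 := nonZeroDivisors.ne_zero hbm
  let P₀ := IsLocalization.integerNormalization (nonZeroDivisors ℤ) R
  have hπ0 : Polynomial.eval₂ (Int.castRingHom (EndAV.End A)) π P₀ = 0 := by
    refine AVHomLib.toEnd0_injective (A := A) ?_
    rw [map_zero]
    show (EndAV.toEnd0 (A := A)).toRingHom _ = 0
    rw [Polynomial.hom_eval₂, RingHom.eq_intCast' ((EndAV.toEnd0 (A := A)).toRingHom.comp (Int.castRingHom _))]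
    have h1 : Polynomial.aeval x (P₀.map (algebraMap ℤ ℚ)) = 0 := by rw [hb, map_zsmul, hRx, smul_zero]
    rw [Polynomial.aeval_def, Polynomial.eval₂_map, RingHom.eq_intCast' ((algebraMap ℚ (EndAV.End0 A)).comp (algebraMap ℤ ℚ))] at h1
    exact h1
  let ρ : EndAV.End A →+* Module.End ℚ_[l] (TensorProduct ℤ_[l] ℚ_[l] (AbDual.TateMod A l (SGA7.pt Ω))) :=
    (Module.End.baseChangeHom ℤ_[l] ℚ_[l] _).toRingHom.comp (EndAV.End.tateRep l (SGA7.pt Ω))
  have hρ : ρ π = (AbDual.tateMapₗ (l := l) (T := SGA7.pt Ω) πA).baseChange ℚ_[l] := rfl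
  rw [← hρ]
  refine Module.End.isSemisimple_of_squarefree_aeval_eq_zero
    (p := R.map (algebraMap ℚ ℚ_[l])) (Polynomial.Separable.squarefree
      (Polynomial.Separable.map (PerfectField.separable_iff_squarefree.2 hR))) ?_
  have h2 := congrArg ρ hπ0
  rw [map_zero, Polynomial.hom_eval₂, RingHom.eq_intCast' (ρ.comp (Int.castRingHom _))] at h2
  have e : ((algebraMap ℚ_[l] (Module.End ℚ_[l] (TensorProduct ℤ_[l] ℚ_[l] (AbDual.TateMod A l (SGA7.pt Ω))))).comp
      (algebraMap ℚ ℚ_[l])).comp (algebraMap ℤ ℚ) = Int.castRingHom _ := RingHom.ext_int _ _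
  have h3 : Polynomial.aeval (ρ π) ((P₀.map (algebraMap ℤ ℚ)).map (algebraMap ℚ ℚ_[l])) = 0 := by
    rw [Polynomial.aeval_def, Polynomial.eval₂_map, Polynomial.eval₂_map, e]
    exact h2
  have hQb : (b : ℤ) • R = Polynomial.C ((b : ℤ) : ℚ) * R := by rw [zsmul_eq_mul, Polynomial.C_eq_intCast]
  rw [hb, hQb, Polynomial.map_mul, Polynomial.map_C, map_mul, Polynomial.aeval_C, ← Algebra.smul_def,
    smul_eq_zero] at h3
  exact h3.resolve_left (by rw [map_intCast]; exact_mod_cast hb0)

end Groth.Agent.S14943
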