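import Groth.Statements.S14956
import Groth.Agent.MilnorLib.Basic
import Groth.Agent.AzumayaAlg.Fibre
import Groth.Agent.AzumayaAlg.Basic
import Mathlib.Algebra.Azumaya.Basic

set_option autoImplicit false
universe u
open TensorProduct
open Brauer

namespace Groth.Agent.S14956

open Groth.Agent

set_option backward.isDefEq.respectTransparency false

lemma isAzumaya_of_point {B' S D' : Type u} [CommRing B'] [CommRing S] [Algebra B' S] [Ring D'] [Algebra B' D']
    [IsAzumaya S (S ⊗[B'] D')] {K : Type u} [CommRing K] [Algebra B' K] (f : S →+* K)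
    (hf : f.comp (algebraMap B' S) = algebraMap B' K) : IsAzumaya K (K ⊗[B'] D') := by
  letI := f.toAlgebra
  haveI : IsScalarTower B' S K := IsScalarTower.of_algebraMap_eq' hf.symm
  haveI := AzumayaAlg.isAzumaya_baseChange (R := S) K (S ⊗[B'] D')
  exact IsAzumaya.of_AlgEquiv K _ _ ((Algebra.TensorProduct.assoc B' S K K S D').symm.trans
    (Algebra.TensorProduct.congr (Algebra.TensorProduct.rid S K K) AlgEquiv.refl))

/-- Every residue field of a fibre product receives a compatible map from one of the two factors. -/
lemma exists_point {B' B A' A : Type u} [CommRing B'] [CommRing B] [CommRing A'] [CommRing A]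
    [Algebra B' B] [Algebra B' A'] [Algebra B A] [Algebra A' A] [Algebra B' A]
    [IsScalarTower B' B A] [IsScalarTower B' A' A] (hsq : EtMil.IsFibreSquare B' B A' A)
    (m : Ideal B') [m.IsMaximal] :
    (∃ f : B →+* m.ResidueField, f.comp (algebraMap B' B) = algebraMap B' m.ResidueField) ∨
      ∃ f : A' →+* m.ResidueField, f.comp (algebraMap B' A') = algebraMap B' m.ResidueField := by
  by_cases hJ : RingHom.ker (algebraMap B' B) ≤ m
  · left
    refine ⟨RingHom.liftOfSurjective (algebraMap B' B) (MilnorLib.surjective_fst hsq) ⟨algebraMap B' m.ResidueField,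
      fun x hx => RingHom.mem_ker.2 (Ideal.algebraMap_residueField_eq_zero.2 (hJ hx))⟩, ?_⟩
    exact RingHom.liftOfRightInverse_comp _ _ _ _
  · right
    obtain ⟨j, hj, hjm⟩ := Set.not_subset.1 hJ
    have hj0 : algebraMap B' B j = 0 := hj
    have hk : ∀ a : A', ∃ b' : B', algebraMap B' B b' = 0 ∧ algebraMap B' A' b' = a * algebraMap B' A' j :=
      fun a => MilnorLib.exists_lift_ker hsq (by
        rw [map_mul, ← IsScalarTower.algebraMap_apply, IsScalarTower.algebraMap_apply B' B A, hj0, map_zero, mul_zero])
    choose k hk1 hk2 using hk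
    set π := algebraMap B' m.ResidueField
    have hπj : π j ≠ 0 := fun h => hjm (Ideal.algebraMap_residueField_eq_zero.1 h)
    have hone : ∀ c : B', k (algebraMap B' A' c) = c * j := fun c => MilnorLib.eq_of_maps_eq hsq
      (by simp [hk1, hj0]) (by simp [hk2])
    have hmul : ∀ a b, k (a * b) * j = k a * k b := fun a b => MilnorLib.eq_of_maps_eq hsq
      (by simp [hk1]) (by simp [hk2]; ring)
    have hadd : ∀ a b, k (a + b) = k a + k b := fun a b => MilnorLib.eq_of_maps_eq hsq
      (by simp [hk1]) (by simp [hk2, add_mul])
    refine ⟨{ toFun := fun a => π (k a) * (π j)⁻¹, map_one' := ?_, map_mul' := ?_, map_zero' := ?_, map_add' := ?_ }, ?_⟩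
    · rw [← map_one (algebraMap B' A'), hone, one_mul, mul_inv_cancel₀ hπj]
    · intro a b
      have := congrArg π (hmul a b)
      rw [map_mul, map_mul] at this
      field_simp
      linear_combination this
    · rw [← map_zero (algebraMap B' A'), hone, zero_mul, map_zero, zero_mul]
    · intro a b
      rw [hadd, map_add, add_mul]
    · ext c
      simp [hone, π, mul_assoc, mul_inv_cancel₀ hπj]

/-- Let B' = B ×_A A' be a fibre product of commutative rings with A' → A surjective and D' a B'-algebra
(associative, unital, not necessarily commutative). Then D' is an Azumaya algebra over B' if and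
only if B ⊗_{B'} D' is an Azumaya algebra over B and A' ⊗_{B'} D' is an Azumaya algebra over A'.
(The published statement is for a quasi-coherent algebra on the pushout scheme Y of a closed
immersion and an affine morphism; this row is the case of an affine Y. Azumaya is taken in the
finite-projective-faithful sense.) -/
theorem result (B' B A' A : Type u) [CommRing B'] [CommRing B] [CommRing A'] [CommRing A]
    [Algebra B' B] [Algebra B' A'] [Algebra B A] [Algebra A' A] [Algebra B' A] [IsScalarTower B' B A] [IsScalarTower B' A' A]
    (hsq : EtMil.IsFibreSquare B' B A' A)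
    (D' : Type u) [Ring D'] [Algebra B' D'] :
    IsAzumaya B' D' ↔ IsAzumaya B (B ⊗[B'] D') ∧ IsAzumaya A' (A' ⊗[B'] D') := by
  constructor
  · intro _
    exact ⟨AzumayaAlg.isAzumaya_baseChange (R := B') B D', AzumayaAlg.isAzumaya_baseChange (R := B') A' D'⟩
  · rintro ⟨hB, hA⟩
    haveI := Module.finitePresentation_of_projective B (B ⊗[B'] D')
    haveI := Module.finitePresentation_of_projective A' (A' ⊗[B'] D')
    haveI := MilnorLib.finitePresentation hsq D'
    haveI := MilnorLib.flat D' hsq
    haveI : Module.Projective B' D' := Module.Flat.projective_of_finitePresentation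
    refine AzumayaAlg.isAzumaya_of_fibres D' fun m _ => ?_
    haveI : IsAzumaya m.ResidueField (m.ResidueField ⊗[B'] D') := by
      rcases exists_point hsq m with ⟨f, hf⟩ | ⟨f, hf⟩
      · exact isAzumaya_of_point f hf
      · exact isAzumaya_of_point f hf
    exact AzumayaAlg.isCentral_isSimple_of_isAzumaya _

end Groth.Agent.S14956
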