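import Groth.Statements.S14958
import Groth.Agent.TorLib.ShiftNat
open scoped CategoryTheory.MonoidalCategory
-- import your own Groth.Agent.* helpers here

set_option autoImplicit false
universe u
open TensorProduct CategoryTheory CategoryTheory.Limits
open EtAlg

namespace Groth.Agent.S14958

/-- Let B' = B ×_A A' be a fibre product of commutative rings with A' → A surjective and L' a B'-module.
Then L' is a fixed point of the glueing adjunction, i.e. the canonical map from L' to the compatible
pairs in (B ⊗_{B'} L') × (A' ⊗_{B'} L') is injective (it is always surjective), if and only if the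
map Tor_1(L', B) ⊕ Tor_1(L', A') → Tor_1(L', A) over B' induced by B → A and A' → A is surjective.
Here Tor_1(L', –) is the first left derived functor of L' ⊗_{B'} – on B'-modules. -/
theorem result (B' B A' A : Type u) [CommRing B'] [CommRing B] [CommRing A'] [CommRing A]
    [Algebra B' B] [Algebra B' A'] [Algebra B A] [Algebra A' A] [Algebra B' A] [IsScalarTower B' B A] [IsScalarTower B' A' A]
    (hsq : EtMil.IsFibreSquare B' B A' A)
    (L' : Type u) [AddCommGroup L'] [Module B' L'] :
    (∀ l : L', ((1 : B) ⊗ₜ[B'] l : B ⊗[B'] L') = 0 → ((1 : A') ⊗ₜ[B'] l : A' ⊗[B'] L') = 0 → l = 0) ↔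
    Epi (biprod.desc
      (((Tor (ModuleCat.{u} B') 1).obj (ModuleCat.of B' L')).map
        (ModuleCat.ofHom (IsScalarTower.toAlgHom B' B A).toLinearMap))
      (((Tor (ModuleCat.{u} B') 1).obj (ModuleCat.of B' L')).map
        (ModuleCat.ofHom (IsScalarTower.toAlgHom B' A' A).toLinearMap))) := by
  obtain ⟨hsurjA, hpair⟩ := hsq
  let gB : B →ₗ[B'] A := (IsScalarTower.toAlgHom B' B A).toLinearMap
  let gA : A' →ₗ[B'] A := (IsScalarTower.toAlgHom B' A' A).toLinearMap
  let iB : B' →ₗ[B'] B := Algebra.linearMap B' B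
  let iA : B' →ₗ[B'] A' := Algebra.linearMap B' A'
  let u : B' →ₗ[B'] B × A' := iB.prod iA
  let v : B × A' →ₗ[B'] A := gB.coprod (-gA)
  have hu : Function.Injective u := by
    intro x y hxy
    have h1 : algebraMap B' B x = algebraMap B' B y := congrArg Prod.fst hxy
    have h2 : algebraMap B' A' x = algebraMap B' A' y := congrArg Prod.snd hxy
    exact (hpair (algebraMap B' B y) (algebraMap B' A' y)
      (by rw [← IsScalarTower.algebraMap_apply, ← IsScalarTower.algebraMap_apply])).unique ⟨h1, h2⟩ ⟨rfl, rfl⟩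
  have hv : Function.Surjective v := fun a => by
    obtain ⟨a', rfl⟩ := hsurjA a
    exact ⟨(0, -a'), by simp [v, gA]⟩
  have huv : Function.Exact u v := by
    rintro ⟨b, a'⟩
    refine ⟨fun h => ?_, ?_⟩
    · have h' : algebraMap B A b = algebraMap A' A a' := by simpa [v, gA, gB, sub_eq_zero, ← sub_eq_add_neg] using h
      obtain ⟨x, ⟨h1, h2⟩, -⟩ := hpair b a' h'
      exact ⟨x, Prod.ext h1 h2⟩
    · rintro ⟨x, hx⟩
      rw [← hx]
      simp [v, u, iA, iB, gA, gB, ← IsScalarTower.algebraMap_apply]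
  obtain ⟨F, iF1, iF2, hFflat, g, hg⟩ : ∃ (F : Type u) (_ : AddCommGroup F) (_ : Module B' F)
      (_ : Module.Flat B' F) (g : F →ₗ[B'] L'), Function.Surjective g :=
    ⟨L' →₀ B', inferInstance, inferInstance, inferInstance, Finsupp.linearCombination B' id,
      Finsupp.linearCombination_id_surjective B' L'⟩
  obtain ⟨K, iK1, iK2, f, hf, hfg⟩ : ∃ (K : Type u) (_ : AddCommGroup K) (_ : Module B' K)
      (f : K →ₗ[B'] F), Function.Injective f ∧ Function.Exact f g :=
    ⟨LinearMap.ker g, inferInstance, inferInstance, (LinearMap.ker g).subtype, Submodule.subtype_injective _,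
      by rw [LinearMap.exact_iff, Submodule.range_subtype]⟩
  have hS := TorLib.shortExact_mk f g hf hg hfg
  haveI : Module.Flat B' (ModuleCat.of B' F) := inferInstanceAs (Module.Flat B' F)
  let φ : ∀ (N : ModuleCat.{u} B'), (((Tor (ModuleCat.{u} B') 1).obj (ModuleCat.of B' L')).obj N) →ₗ[B'] K ⊗[B'] N :=
    fun N => ((TorLib.torIso (projectiveResolution N) (ModuleCat.of B' L') 1).hom ≫
      TorLib.oneHom (P := projectiveResolution N) hS).hom
  have hφ : ∀ N, Function.Injective (φ N) ∧ ∀ z, (∃ x, φ N x = z) ↔ f.rTensor N z = 0 := by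
    intro N
    let E := (TorLib.torIso (projectiveResolution N) (ModuleCat.of B' L') 1 ≪≫
      TorLib.oneIso (projectiveResolution N) hS).toLinearEquiv
    have hE : ∀ x, φ N x = ((E x : LinearMap.ker (f.rTensor N)) : K ⊗[B'] N) := fun x => by
      have := ConcreteCategory.congr_hom (TorLib.oneIso_hom (P := projectiveResolution N) hS)
        ((TorLib.torIso (projectiveResolution N) (ModuleCat.of B' L') 1).hom x)
      exact this.symm
    refine ⟨fun x y h => E.injective (Subtype.ext (by rw [← hE, ← hE, h])), fun z => ⟨?_, fun hz => ?_⟩⟩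
    · rintro ⟨x, rfl⟩
      rw [hE]
      exact (E x).2
    · exact ⟨E.symm ⟨z, hz⟩, by rw [hE, E.apply_symm_apply]⟩
  have hnat : ∀ (N N' : ModuleCat.{u} B') (h : N ⟶ N') (x),
      φ N' (((Tor (ModuleCat.{u} B') 1).obj (ModuleCat.of B' L')).map h x) = h.hom.lTensor K (φ N x) := by
    intro N N' h x
    have h1 := TorLib.torIso_nat_left (P := projectiveResolution N) (Q := projectiveResolution N') (ModuleCat.of B' L') h
      (TorLib.liftMap h) (TorLib.liftMap_comm h) 1
    have h2 := TorLib.oneHom_nat_left hS h (TorLib.liftMap h) (TorLib.liftMap_comm h)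
    have h3 : ((Tor (ModuleCat.{u} B') 1).obj (ModuleCat.of B' L')).map h ≫
        (TorLib.torIso (projectiveResolution N') (ModuleCat.of B' L') 1).hom ≫ TorLib.oneHom hS =
        ((TorLib.torIso (projectiveResolution N) (ModuleCat.of B' L') 1).hom ≫ TorLib.oneHom hS) ≫
          (ModuleCat.of B' K ◁ h) := by
      rw [reassoc_of% h1, Category.assoc]
      exact congrArg _ h2
    exact ConcreteCategory.congr_hom h3 x
  have hunit : ∀ (M : Type u) [AddCommGroup M] [Module B' M] (z : M ⊗[B'] B'), ∃ m : M, z = m ⊗ₜ 1 := fun M _ _ z =>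
    ⟨TensorProduct.rid B' M z, ((TensorProduct.rid B' M).symm_apply_apply z).symm⟩
  rw [ModuleCat.epi_iff_surjective]
  constructor
  · intro hL z
    have hz := ((hφ _).2 (φ (ModuleCat.of B' A) z)).1 ⟨z, rfl⟩
    obtain ⟨e, he⟩ := LinearMap.lTensor_surjective K hv (φ (ModuleCat.of B' A) z)
    have hz' : v.lTensor F (f.rTensor (B × A') e) = 0 := by
      rw [← LinearMap.comp_apply, LinearMap.lTensor_comp_rTensor, ← LinearMap.rTensor_comp_lTensor,
        LinearMap.comp_apply, he]
      exact hz
    obtain ⟨w', hw'⟩ := ((lTensor_exact F huv hv) _).1 hz'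
    obtain ⟨w, rfl⟩ := hunit F w'
    have hB : g.rTensor B (w ⊗ₜ[B'] (1 : B)) = 0 := by
      have := congrArg ((LinearMap.fst B' B A').lTensor F) hw'
      rw [← LinearMap.comp_apply, ← LinearMap.comp_apply, ← LinearMap.lTensor_comp, LinearMap.lTensor_comp_rTensor,
        ← LinearMap.rTensor_comp_lTensor, LinearMap.comp_apply, LinearMap.lTensor_tmul] at this
      have e1 : (LinearMap.fst B' B A' ∘ₗ u) 1 = (1 : B) := map_one (algebraMap B' B)
      rw [e1] at this
      rw [this, ← LinearMap.comp_apply, ← LinearMap.rTensor_comp, hfg.linearMap_comp_eq_zero]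
      simp
    have hA : g.rTensor A' (w ⊗ₜ[B'] (1 : A')) = 0 := by
      have := congrArg ((LinearMap.snd B' B A').lTensor F) hw'
      rw [← LinearMap.comp_apply, ← LinearMap.comp_apply, ← LinearMap.lTensor_comp, LinearMap.lTensor_comp_rTensor,
        ← LinearMap.rTensor_comp_lTensor, LinearMap.comp_apply, LinearMap.lTensor_tmul] at this
      have e1 : (LinearMap.snd B' B A' ∘ₗ u) 1 = (1 : A') := map_one (algebraMap B' A')
      rw [e1] at this
      rw [this, ← LinearMap.comp_apply, ← LinearMap.rTensor_comp, hfg.linearMap_comp_eq_zero]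
      simp
    rw [LinearMap.rTensor_tmul] at hB hA
    have hl : g w = 0 := hL _ ((TensorProduct.comm B' B L').injective (by rw [TensorProduct.comm_tmul, hB, map_zero]))
      ((TensorProduct.comm B' A' L').injective (by rw [TensorProduct.comm_tmul, hA, map_zero]))
    obtain ⟨k, hk⟩ := (hfg w).1 hl
    let e' := e - u.lTensor K (k ⊗ₜ[B'] (1 : B'))
    have he' : v.lTensor K e' = φ (ModuleCat.of B' A) z := by
      simp only [e', map_sub, ← LinearMap.comp_apply, ← LinearMap.lTensor_comp, huv.linearMap_comp_eq_zero]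
      simp [he]
    have hf' : f.rTensor (B × A') e' = 0 := by
      rw [map_sub, ← hw', sub_eq_zero, ← LinearMap.comp_apply (g := u.lTensor K),
        LinearMap.rTensor_comp_lTensor, ← LinearMap.lTensor_comp_rTensor, LinearMap.comp_apply,
        LinearMap.rTensor_tmul, hk]
    obtain ⟨x, hx⟩ := ((hφ (ModuleCat.of B' B)).2 ((LinearMap.fst B' B A').lTensor K e')).2 (by
      rw [← LinearMap.comp_apply, LinearMap.rTensor_comp_lTensor, ← LinearMap.lTensor_comp_rTensor,
        LinearMap.comp_apply, hf', map_zero])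
    obtain ⟨y, hy⟩ := ((hφ (ModuleCat.of B' A')).2 (-(LinearMap.snd B' B A').lTensor K e')).2 (by
      rw [map_neg, ← LinearMap.comp_apply, LinearMap.rTensor_comp_lTensor, ← LinearMap.lTensor_comp_rTensor,
        LinearMap.comp_apply, hf', map_zero, neg_zero])
    refine ⟨(biprod.inl : _ ⟶ _ ⊞ ((Tor (ModuleCat.{u} B') 1).obj (ModuleCat.of B' L')).obj (ModuleCat.of B' A')) x +
      (biprod.inr : _ ⟶ ((Tor (ModuleCat.{u} B') 1).obj (ModuleCat.of B' L')).obj (ModuleCat.of B' B) ⊞ _) y, ?_⟩
    rw [map_add, ← ConcreteCategory.comp_apply, biprod.inl_desc, ← ConcreteCategory.comp_apply, biprod.inr_desc]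
    refine (hφ _).1 ?_
    rw [map_add, hnat, hnat, hx, hy, ← he', map_neg, ← LinearMap.comp_apply, ← LinearMap.comp_apply,
      ← LinearMap.lTensor_comp, ← LinearMap.lTensor_comp, ← LinearMap.neg_apply, ← LinearMap.add_apply,
      ← LinearMap.lTensor_neg, ← LinearMap.lTensor_add]
    congr 2
  · intro hepi l hlB hlA
    obtain ⟨w, rfl⟩ := hg l
    have hlB' : g.rTensor B (w ⊗ₜ[B'] (1 : B)) = 0 := by
      rw [LinearMap.rTensor_tmul, ← TensorProduct.comm_tmul, hlB, map_zero]
    have hlA' : g.rTensor A' (w ⊗ₜ[B'] (1 : A')) = 0 := by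
      rw [LinearMap.rTensor_tmul, ← TensorProduct.comm_tmul, hlA, map_zero]
    obtain ⟨b, hb⟩ := ((rTensor_exact B hfg hg) _).1 hlB'
    obtain ⟨a, ha⟩ := ((rTensor_exact A' hfg hg) _).1 hlA'
    obtain ⟨z, hz⟩ := ((hφ (ModuleCat.of B' A)).2 (gB.lTensor K b - gA.lTensor K a)).2 (by
      rw [map_sub, ← LinearMap.comp_apply, ← LinearMap.comp_apply, LinearMap.rTensor_comp_lTensor,
        LinearMap.rTensor_comp_lTensor, ← LinearMap.lTensor_comp_rTensor, ← LinearMap.lTensor_comp_rTensor,
        LinearMap.comp_apply, LinearMap.comp_apply, hb, ha, LinearMap.lTensor_tmul, LinearMap.lTensor_tmul]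
      simp [gA, gB])
    obtain ⟨xy, hxy⟩ := hepi z
    let x := (biprod.fst : ((Tor (ModuleCat.{u} B') 1).obj (ModuleCat.of B' L')).obj (ModuleCat.of B' B) ⊞
      ((Tor (ModuleCat.{u} B') 1).obj (ModuleCat.of B' L')).obj (ModuleCat.of B' A') ⟶ _) xy
    let y := (biprod.snd : ((Tor (ModuleCat.{u} B') 1).obj (ModuleCat.of B' L')).obj (ModuleCat.of B' B) ⊞
      ((Tor (ModuleCat.{u} B') 1).obj (ModuleCat.of B' L')).obj (ModuleCat.of B' A') ⟶ _) xy
    let b' := b - φ (ModuleCat.of B' B) x
    let a' := a + φ (ModuleCat.of B' A') y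
    have hxy' : z = ((Tor (ModuleCat.{u} B') 1).obj (ModuleCat.of B' L')).map (ModuleCat.ofHom gB) x +
        ((Tor (ModuleCat.{u} B') 1).obj (ModuleCat.of B' L')).map (ModuleCat.ofHom gA) y := by
      rw [← hxy, biprod.desc_eq]
      rfl
    let e : K ⊗[B'] (B × A') := (LinearMap.inl B' B A').lTensor K b' + (LinearMap.inr B' B A').lTensor K a'
    have hve : v.lTensor K e = 0 := by
      have e1 : v ∘ₗ LinearMap.inl B' B A' = gB := LinearMap.ext fun p => by simp [v]
      have e2 : v ∘ₗ LinearMap.inr B' B A' = -gA := LinearMap.ext fun p => by simp [v]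
      simp only [e, map_add, ← LinearMap.comp_apply, ← LinearMap.lTensor_comp, e1, e2, LinearMap.lTensor_neg]
      have h3 : gB.lTensor K b - gA.lTensor K a =
          gB.lTensor K (φ (ModuleCat.of B' B) x) + gA.lTensor K (φ (ModuleCat.of B' A') y) := by
        rw [← hz, hxy', map_add, hnat, hnat]
        rfl
      simp only [b', a', map_sub, map_add, LinearMap.neg_apply]
      linear_combination (norm := module) h3
    obtain ⟨k', hk'⟩ := ((lTensor_exact K huv hv) e).1 hve
    obtain ⟨k, rfl⟩ := hunit K k'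
    have h0 : u.lTensor F ((f k) ⊗ₜ[B'] (1 : B')) = u.lTensor F (w ⊗ₜ[B'] (1 : B')) := by
      rw [← LinearMap.rTensor_tmul, ← LinearMap.comp_apply, LinearMap.lTensor_comp_rTensor,
        ← LinearMap.rTensor_comp_lTensor, LinearMap.comp_apply, hk']
      have hb0 : f.rTensor B (φ (ModuleCat.of B' B) x) = 0 := ((hφ _).2 _).1 ⟨x, rfl⟩
      have ha0 : f.rTensor A' (φ (ModuleCat.of B' A') y) = 0 := ((hφ _).2 _).1 ⟨y, rfl⟩
      simp only [e, map_add, ← LinearMap.comp_apply, LinearMap.rTensor_comp_lTensor]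
      simp only [← LinearMap.lTensor_comp_rTensor, LinearMap.comp_apply, b', a', map_sub, map_add, hb, ha, hb0, ha0,
        sub_zero, add_zero, LinearMap.lTensor_tmul, ← TensorProduct.tmul_add]
      simp only [u, iA, iB, LinearMap.inl_apply, LinearMap.inr_apply, LinearMap.prod_apply, Algebra.linearMap_apply, map_one,
        map_zero, sub_zero, add_zero, Function.prod, ← TensorProduct.tmul_add, Prod.mk_add_mk, add_zero, zero_add]
    have h1 := congrArg (TensorProduct.rid B' F) (Module.Flat.lTensor_preserves_injective_linearMap (M := F) u hu h0)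
    rw [TensorProduct.rid_tmul, TensorProduct.rid_tmul, one_smul, one_smul] at h1
    rw [← h1]
    exact hfg.apply_apply_eq_zero k

end Groth.Agent.S14958
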