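import Groth.Statements.S1496
import Groth.Agent.AmpleEmb.Compose
-- import your own Groth.Agent.* helpers here

set_option autoImplicit false
universe u
attribute [local instance] HasDerivedCategory.standard
open FlatMor

namespace Groth.Agent.S1496

open AlgebraicGeometry CategoryTheory Limits in
/-- Let S be a scheme carrying an ample invertible sheaf and f : X → S a morphism. Then f is a closed
immersion into some projective space over S (f factors as a closed immersion X → Pⁿ_S followed by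
the projection Pⁿ_S → S, for some n) if and only if f is proper and X carries an ample invertible
sheaf; and the latter holds if and only if f is proper and some O_X-module is ample relative to f. -/
theorem result {X S : Scheme.{u}} (hS : ∃ N : S.Modules, CohB1.IsAmple N) (f : X ⟶ S) :
    ((∃ (n : ℕ) (i : X ⟶ CohB1.ProjSpaceOver n S), IsClosedImmersion i ∧ i ≫ pullback.snd (CohB1.ProjSpace.toSpec n (ULift.{u} ℤ)) (specULiftZIsTerminal.from S) = f) ↔
      (IsProper f ∧ ∃ L : X.Modules, CohB1.IsAmple L)) ∧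
    ((IsProper f ∧ ∃ L : X.Modules, CohB1.IsAmple L) ↔ (IsProper f ∧ ∃ L : X.Modules, RelAmple.IsRelAmple f L)) := by
  obtain ⟨N, hN⟩ := hS
  have hrel : IsProper f → (∃ L : X.Modules, CohB1.IsAmple L) → ∃ L : X.Modules, RelAmple.IsRelAmple f L := by
    rintro hf ⟨L, hL⟩
    obtain ⟨m, hm⟩ := Groth.Agent.AmpleEmb.eventually_isRelVeryAmplePn f hL
    exact ⟨_, Groth.Agent.AmpleEmb.isRelAmple_of_isRelVeryAmplePn f (hm m le_rfl)⟩
  have hamp : IsProper f → (∃ L : X.Modules, RelAmple.IsRelAmple f L) → ∃ L : X.Modules, CohB1.IsAmple L :=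
    fun _ ⟨L, hL⟩ => Groth.Agent.AmpleEmb.exists_isAmple_of_isRelAmple f hL hN
  refine ⟨⟨?_, ?_⟩, ⟨fun h => ⟨h.1, hrel h.1 h.2⟩, fun h => ⟨h.1, hamp h.1 h.2⟩⟩⟩
  · rintro ⟨n, i, hi, hf⟩
    change i ≫ CohB1.ProjSpaceOver.toBase n S = f at hf
    haveI : IsProper f := hf ▸ inferInstance
    exact ⟨inferInstance, hamp inferInstance ⟨_, Groth.Agent.AmpleEmb.isRelAmple_of_isRelVeryAmplePn f
      (Groth.Agent.AmpleEmb.isRelVeryAmplePn_of_immersion f i hf)⟩⟩
  · rintro ⟨hp, L, hL⟩
    obtain ⟨n, i, hi, hf⟩ := Groth.Agent.AmpleEmb.exists_immersion_of_isAmple f hL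
    haveI : IsProper (i ≫ CohB1.ProjSpaceOver.toBase n S) := hf ▸ hp
    haveI := IsProper.of_comp i (CohB1.ProjSpaceOver.toBase n S)
    exact ⟨n, i, (IsClosedImmersion.iff_isProper_and_mono _).2 ⟨inferInstance, inferInstance⟩, hf⟩

end Groth.Agent.S1496
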