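import Groth.Statements.S14965
import Groth.Agent.MilnorLib.Glue
import Groth.Agent.S14956
import Mathlib.Algebra.Azumaya.Basic

set_option autoImplicit false
universe u
open TensorProduct
open Brauer

namespace Groth.Agent.S14965

open Groth.Agent

set_option backward.isDefEq.respectTransparency false

/-- A map which becomes a known bijection along an isomorphism of the source is bijective. -/
lemma isAzumaya_of_bijective {B' B D' X N : Type u} [CommRing B'] [CommRing B] [Algebra B' B] [Ring D'] [Algebra B' D']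
    [Ring N] [Algebra B N] [Algebra B' N] [IsScalarTower B' B N] [IsAzumaya B N] [AddCommGroup X] [Module B' X]
    (π : D' →ₐ[B'] N) (ψ : D' ≃ₗ[B'] X) (g : X →ₗ[B'] N) (hg : ∀ d, g (ψ d) = π d)
    (hb : Function.Bijective (LinearMap.liftBaseChange B g)) : IsAzumaya B (B ⊗[B'] D') := by
  let F : B ⊗[B'] D' →ₐ[B] N := Algebra.TensorProduct.lift (Algebra.ofId B N) π fun b d => Algebra.commutes b _
  have hF : ∀ z, F z = LinearMap.liftBaseChange B g (LinearEquiv.lTensor B ψ z) := fun z => by
    induction z using TensorProduct.induction_on with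
    | zero => simp
    | add x y hx hy => simp only [map_add, hx, hy]
    | tmul b d => simp [F, hg, Algebra.ofId_apply, Algebra.smul_def]
  have hF' : Function.Bijective F := by
    rw [show (F : B ⊗[B'] D' → N) = LinearMap.liftBaseChange B g ∘ LinearEquiv.lTensor B ψ from funext hF]
    exact hb.comp (LinearEquiv.lTensor B ψ).bijective
  exact IsAzumaya.of_AlgEquiv B _ _ (AlgEquiv.ofBijective F hF').symm

/-- Let B' = B ×_A A' be a fibre product of commutative rings with A' → A surjective, N an Azumaya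
B-algebra, M' an Azumaya A'-algebra and φ : A ⊗_B N ≅ A ⊗_{A'} M' an isomorphism of A-algebras. If a
B'-algebra D' with B'-algebra homomorphisms π₁ : D' → N and π₂ : D' → M' is the glued algebra N ×_φ
M', in the sense that (π₁, π₂) is injective with image the pairs (n, m') satisfying φ(1 ⊗ n) = 1 ⊗
m', then D' is an Azumaya B'-algebra. (The published statement is for Azumaya algebras on the
pushout scheme of a closed immersion and an affine morphism, glued as u_*B' ×_{h_*} f_*A; this row
is the case of an affine pushout.) -/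
theorem result (B' B A' A : Type u) [CommRing B'] [CommRing B] [CommRing A'] [CommRing A]
    [Algebra B' B] [Algebra B' A'] [Algebra B A] [Algebra A' A] [Algebra B' A] [IsScalarTower B' B A] [IsScalarTower B' A' A]
    (hsq : EtMil.IsFibreSquare B' B A' A)
    (N : Type u) [Ring N] [Algebra B N] [Algebra B' N] [IsScalarTower B' B N] [IsAzumaya B N]
    (M' : Type u) [Ring M'] [Algebra A' M'] [Algebra B' M'] [IsScalarTower B' A' M'] [IsAzumaya A' M']
    (φ : A ⊗[B] N ≃ₐ[A] A ⊗[A'] M')
    (D' : Type u) [Ring D'] [Algebra B' D'] (π₁ : D' →ₐ[B'] N) (π₂ : D' →ₐ[B'] M')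
    (hinj : ∀ d : D', π₁ d = 0 → π₂ d = 0 → d = 0)
    (himg : ∀ (n : N) (m' : M'), φ ((1 : A) ⊗ₜ[B] n) = (1 : A) ⊗ₜ[A'] m' ↔ ∃ d : D', π₁ d = n ∧ π₂ d = m') :
    IsAzumaya B' D' := by
  set L := EtMil.glue B' φ.toLinearEquiv
  let ψ₀ : D' →ₗ[B'] L := LinearMap.codRestrict L (LinearMap.prod π₁.toLinearMap π₂.toLinearMap)
    fun d => (himg _ _).2 ⟨d, rfl, rfl⟩
  have hψ : Function.Bijective ψ₀ := by
    refine ⟨(injective_iff_map_eq_zero ψ₀).2 fun d hd => ?_, fun x => ?_⟩
    · have h := congrArg Subtype.val hd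
      exact hinj d (congrArg Prod.fst h) (congrArg Prod.snd h)
    · obtain ⟨d, h1, h2⟩ := (himg x.1.1 x.1.2).1 x.2
      exact ⟨d, Subtype.ext (Prod.ext h1 h2)⟩
  have hlift : ∀ a' : A', algebraMap A' A a' = 0 → ∃ b' : B', algebraMap B' B b' = 0 ∧ algebraMap B' A' b' = a' :=
    fun a' ha => MilnorLib.exists_lift_ker hsq ha
  have h1 := MilnorLib.liftBaseChange_glueFst_bijective (B' := B') φ.toLinearEquiv hsq.1 hlift
    (MilnorLib.surjective_fst hsq)
  have h2 := MilnorLib.liftBaseChange_glueSnd_bijective (B' := B') φ.toLinearEquiv hsq.1 hlift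
    (MilnorLib.surjective_fst hsq)
  exact (S14956.result B' B A' A hsq D').2
    ⟨isAzumaya_of_bijective π₁ (LinearEquiv.ofBijective ψ₀ hψ) (EtMil.glueFst B' φ.toLinearEquiv) (fun d => rfl) h1,
      isAzumaya_of_bijective π₂ (LinearEquiv.ofBijective ψ₀ hψ) (EtMil.glueSnd B' φ.toLinearEquiv) (fun d => rfl) h2⟩

end Groth.Agent.S14965
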