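import Groth.Statements.S14966
import Groth.Agent.MilnorLib.Glue
import Mathlib
-- import your own Groth.Agent.* helpers here

set_option autoImplicit false
universe u
open EtAlg

namespace Groth.Agent.S14966

/-- Let A → A' be an injective homomorphism of commutative rings and let I ⊆ A be the conductor, i.e.
the annihilator of the A-module A'/A. Then the conductor square formed by A → A/I, A → A', A/I →
A'/IA' and A' → A'/IA' is a fibre product square of rings with A' → A'/IA' surjective: A = A/I
×_{A'/IA'} A'. (The published Lemma is for the conductor square of a finite modification of schemes;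
this row is the underlying statement for one injective ring map, which needs no finiteness.) -/
theorem result (A A' : Type u) [CommRing A] [CommRing A'] [Algebra A A']
    (hinj : Function.Injective (algebraMap A A')) :
    EtMil.IsFibreSquare A (A ⧸ Module.annihilator A (A' ⧸ LinearMap.range (Algebra.linearMap A A'))) A'
      (A' ⧸ Ideal.map (algebraMap A A') (Module.annihilator A (A' ⧸ LinearMap.range (Algebra.linearMap A A')))) := by
  refine ⟨Ideal.Quotient.mk_surjective, fun b a' h => ?_⟩
  obtain ⟨a, rfl⟩ := Ideal.Quotient.mk_surjective b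
  have h' : algebraMap A A' a - a' ∈ Ideal.map (algebraMap A A')
      (Module.annihilator A (A' ⧸ LinearMap.range (Algebra.linearMap A A'))) := Ideal.Quotient.eq.1 h
  have hcl : ∀ c ∈ Ideal.map (algebraMap A A') (Module.annihilator A (A' ⧸ LinearMap.range (Algebra.linearMap A A'))),
      ∃ i ∈ Module.annihilator A (A' ⧸ LinearMap.range (Algebra.linearMap A A')), algebraMap A A' i = c := by
    intro c hc
    induction hc using Submodule.span_induction with
    | mem x hx => obtain ⟨i, hi, rfl⟩ := hx; exact ⟨i, hi, rfl⟩
    | zero => exact ⟨0, zero_mem _, map_zero _⟩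
    | add u v _ _ hu hv =>
      obtain ⟨p, hp, rfl⟩ := hu
      obtain ⟨q, hq, rfl⟩ := hv
      exact ⟨p + q, add_mem hp hq, map_add _ _ _⟩
    | smul r u _ hu =>
      obtain ⟨i, hi, rfl⟩ := hu
      rw [Module.mem_annihilator] at hi
      have := hi (Submodule.Quotient.mk r)
      rw [← Submodule.Quotient.mk_smul, Submodule.Quotient.mk_eq_zero] at this
      obtain ⟨k, hk⟩ := this
      rw [Algebra.linearMap_apply] at hk
      refine ⟨k, ?_, by rw [hk, Algebra.smul_def, smul_eq_mul, mul_comm]⟩
      rw [Module.mem_annihilator]
      intro q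
      obtain ⟨q, rfl⟩ := Submodule.Quotient.mk_surjective _ q
      have := hi (Submodule.Quotient.mk (r * q))
      rw [← Submodule.Quotient.mk_smul] at this ⊢
      rwa [Algebra.smul_def k q, hk, smul_mul_assoc, ← mul_smul_comm, mul_smul_comm]
  obtain ⟨i, hi, hi'⟩ := hcl _ h'
  refine ⟨a - i, ⟨?_, ?_⟩, fun y hy => hinj ?_⟩
  · rw [Ideal.Quotient.algebraMap_eq, map_sub, (Ideal.Quotient.eq_zero_iff_mem).2 hi, sub_zero]
  · rw [map_sub, hi', sub_sub_cancel]
  · rw [map_sub, hi', sub_sub_cancel, hy.2]

end Groth.Agent.S14966
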