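import Groth.Statements.S1497
import Groth.Agent.AmpleEmb.Compose
-- import your own Groth.Agent.* helpers here

set_option autoImplicit false
universe u
attribute [local instance] HasDerivedCategory.standard
open FlatMor

namespace Groth.Agent.S1497

open AlgebraicGeometry CategoryTheory Limits in
/-- Let S be a scheme with an ample invertible sheaf and f : X → S a morphism. Then f is a quasi-compact
immersion into some projective space P^n_S over S if and only if f is of finite type and X has an
ample invertible sheaf. -/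
theorem result {X S : Scheme.{u}} (hS : ∃ N : S.Modules, CohB1.IsAmple N) (f : X ⟶ S) :
    (∃ (n : ℕ) (i : X ⟶ CohB1.ProjSpaceOver n S), IsImmersion i ∧ QuasiCompact i ∧ i ≫ pullback.snd (CohB1.ProjSpace.toSpec n (ULift.{u} ℤ)) (specULiftZIsTerminal.from S) = f) ↔
      (LocallyOfFiniteType f ∧ QuasiCompact f ∧ ∃ L : X.Modules, CohB1.IsAmple L) := by
  obtain ⟨N, hN⟩ := hS
  constructor
  · rintro ⟨n, i, hi, hqc, hf⟩
    change i ≫ CohB1.ProjSpaceOver.toBase n S = f at hf
    haveI : LocallyOfFiniteType f := hf ▸ inferInstance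
    haveI : QuasiCompact f := hf ▸ inferInstance
    exact ⟨inferInstance, inferInstance, Groth.Agent.AmpleEmb.exists_isAmple_of_isRelAmple f
      (Groth.Agent.AmpleEmb.isRelAmple_of_isRelVeryAmplePn f (Groth.Agent.AmpleEmb.isRelVeryAmplePn_of_immersion f i hf)) hN⟩
  · rintro ⟨hft, hqc, L, hL⟩
    obtain ⟨n, i, hi, hf⟩ := Groth.Agent.AmpleEmb.exists_immersion_of_isAmple f hL
    haveI : QuasiCompact (i ≫ CohB1.ProjSpaceOver.toBase n S) := hf ▸ hqc
    exact ⟨n, i, hi, QuasiCompact.of_comp i (CohB1.ProjSpaceOver.toBase n S), hf⟩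

end Groth.Agent.S1497
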