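import Groth.Statements.S14974
import Groth.Agent.GrothBddLib.W4Main
-- import your own Groth.Agent.* helpers here

set_option autoImplicit false
set_option backward.isDefEq.respectTransparency false
set_option maxHeartbeats 800000
set_option synthInstance.maxHeartbeats 200000
open CategoryTheory CategoryTheory.Limits AlgebraicGeometry
open Coherent

namespace Groth.Agent.S14974

open Groth.Agent CategoryTheory
set_option backward.isDefEq.respectTransparency false

/-- For plain coherent sheaves and the two Hilbert-polynomial notions of stability. Over the complex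
numbers, let S be a separated scheme of finite type, X a closed subscheme of projective n-space over
S, d a natural number, and E a coherent sheaf on X, flat over S, whose restriction E_t to the fibre
of X over every complex point t of S is pure of dimension d (the support of E_t and of each of its
nonzero coherent subsheaves has dimension d). Hilbert polynomials on a fibre are computed with the
twisting sheaves pulled back from projective space over S, and r(ψ) denotes d! times the degree-d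
coefficient of ψ. Then there is an open subset U of S such that, for every complex point t of S, E_t
is p-semistable (for every nonzero coherent subsheaf G of E_t, with Hilbert polynomials φ of E_t and
ψ of G, ψ(m)/r(ψ) ≤ φ(m)/r(φ) for all large integers m) if and only if t lies in U; and there is an
open subset U' of S such that E_t is p-stable (strict inequality for every nonzero proper coherent
subsheaf) if and only if t lies in U'. (The published statement is for modules over a sheaf of rings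
of differential operators, also covers slope stability, and tests all geometric points; this row is
the case of the structure sheaf, tested at complex points, and assumes the fibres pure of dimension
d.) -/
theorem result
    (S : Scheme.{0}) (sS : S ⟶ Spec (CommRingCat.of ℂ)) [LocallyOfFiniteType sS] [QuasiCompact sS] [IsSeparated sS]
    (n : ℕ) (X : Scheme.{0}) (i : X ⟶ CohB1.ProjSpaceOver n S) [IsClosedImmersion i] (d : ℕ)
    (E : X.Modules) (hE : Coh.IsCoh E) (hflat : FlatMod.IsFlatOver (i ≫ (CohB1.ProjSpaceOver n S ↘ S)) E)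
    (hpure : ∀ (t : Spec (CommRingCat.of ℂ) ⟶ S), t ≫ sS = 𝟙 (Spec (CommRingCat.of ℂ)) →
      topologicalKrullDim ↥(CohB1.support ((Scheme.Modules.pullback (pullback.fst (i ≫ (CohB1.ProjSpaceOver n S ↘ S)) t)).obj E)) = (d : WithBot ℕ∞) ∧
      ∀ (G : (pullback (i ≫ (CohB1.ProjSpaceOver n S ↘ S)) t).Modules) (ι : G ⟶ ((Scheme.Modules.pullback (pullback.fst (i ≫ (CohB1.ProjSpaceOver n S ↘ S)) t)).obj E)), Mono ι → Coh.IsCoh G → ¬ IsZero G → topologicalKrullDim ↥(CohB1.support G) = (d : WithBot ℕ∞)) :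
    (∃ U : S.Opens, ∀ (t : Spec (CommRingCat.of ℂ) ⟶ S), t ≫ sS = 𝟙 (Spec (CommRingCat.of ℂ)) →
      ((∀ (G : (pullback (i ≫ (CohB1.ProjSpaceOver n S ↘ S)) t).Modules) (ι : G ⟶ ((Scheme.Modules.pullback (pullback.fst (i ≫ (CohB1.ProjSpaceOver n S ↘ S)) t)).obj E)), Mono ι → Coh.IsCoh G → ¬ IsZero G →
          ∀ φ ψ : Polynomial ℚ, (∀ m : ℤ, (@Curv2.euler ℂ _ (pullback (i ≫ (CohB1.ProjSpaceOver n S ↘ S)) t) ⟨pullback.snd (i ≫ (CohB1.ProjSpaceOver n S ↘ S)) t⟩ (CohB1.tensorMod ((Scheme.Modules.pullback (pullback.fst (i ≫ (CohB1.ProjSpaceOver n S ↘ S)) t)).obj E) ((Scheme.Modules.pullback (pullback.fst (i ≫ (CohB1.ProjSpaceOver n S ↘ S)) t ≫ i)).obj (Twist.twistOver n S m))) : ℚ) = φ.eval (m : ℚ)) →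
            (∀ m : ℤ, (@Curv2.euler ℂ _ (pullback (i ≫ (CohB1.ProjSpaceOver n S ↘ S)) t) ⟨pullback.snd (i ≫ (CohB1.ProjSpaceOver n S ↘ S)) t⟩ (CohB1.tensorMod G ((Scheme.Modules.pullback (pullback.fst (i ≫ (CohB1.ProjSpaceOver n S ↘ S)) t ≫ i)).obj (Twist.twistOver n S m))) : ℚ) = ψ.eval (m : ℚ)) →
            W4c2simpsonmod1.RedLE d ψ φ) ↔ Set.range t.base ⊆ (U : Set S))) ∧
    (∃ U' : S.Opens, ∀ (t : Spec (CommRingCat.of ℂ) ⟶ S), t ≫ sS = 𝟙 (Spec (CommRingCat.of ℂ)) →
      ((∀ (G : (pullback (i ≫ (CohB1.ProjSpaceOver n S ↘ S)) t).Modules) (ι : G ⟶ ((Scheme.Modules.pullback (pullback.fst (i ≫ (CohB1.ProjSpaceOver n S ↘ S)) t)).obj E)), Mono ι → Coh.IsCoh G → ¬ IsZero G → ¬ IsIso ι →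
          ∀ φ ψ : Polynomial ℚ, (∀ m : ℤ, (@Curv2.euler ℂ _ (pullback (i ≫ (CohB1.ProjSpaceOver n S ↘ S)) t) ⟨pullback.snd (i ≫ (CohB1.ProjSpaceOver n S ↘ S)) t⟩ (CohB1.tensorMod ((Scheme.Modules.pullback (pullback.fst (i ≫ (CohB1.ProjSpaceOver n S ↘ S)) t)).obj E) ((Scheme.Modules.pullback (pullback.fst (i ≫ (CohB1.ProjSpaceOver n S ↘ S)) t ≫ i)).obj (Twist.twistOver n S m))) : ℚ) = φ.eval (m : ℚ)) →
            (∀ m : ℤ, (@Curv2.euler ℂ _ (pullback (i ≫ (CohB1.ProjSpaceOver n S ↘ S)) t) ⟨pullback.snd (i ≫ (CohB1.ProjSpaceOver n S ↘ S)) t⟩ (CohB1.tensorMod G ((Scheme.Modules.pullback (pullback.fst (i ≫ (CohB1.ProjSpaceOver n S ↘ S)) t ≫ i)).obj (Twist.twistOver n S m))) : ℚ) = ψ.eval (m : ℚ)) →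
            W4c2simpsonmod1.RedLT d ψ φ) ↔ Set.range t.base ⊆ (U' : Set S))) := by
    let f := QuotRep.stF i
    haveI := GrothBddLib.isNoetherian_base sS
    obtain ⟨U, hU⟩ := GrothBddLib.exists_open_good i sS hE hflat d (fun P => GrothBddLib.BadSS d P)
      (fun P hPd hα => GrothBddLib.isBad_ss hPd hα)
    obtain ⟨U', hU'⟩ := GrothBddLib.exists_open_good i sS hE hflat d (fun P => GrothBddLib.BadSt d P)
      (fun P hPd hα => GrothBddLib.isBad_st hPd hα)
    refine ⟨⟨U, fun t ht => ?_⟩, ⟨U', fun t ht => ?_⟩⟩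
    · letI : (PicF.XT f (Over.mk t)).Over (Spec (CommRingCat.of ℂ)) := ⟨PicF.XTproj f (Over.mk t)⟩
      obtain ⟨hdim, hp⟩ := hpure t ht
      obtain ⟨hprop, hamp, hEt, h0, P, hP, hPd, hα⟩ := GrothBddLib.pt_data i hE t hdim hp
      haveI : IsProper (PicF.XT f (Over.mk t) ↘ Spec (CommRingCat.of ℂ)) := hprop
      refine (GrothBddLib.w4_ss_iff ℂ (GrothBddLib.twPt i t) hamp hEt hp h0 hP (GrothBddLib.euler_twPt i t)).trans ?_
      rw [hU t ht P hP hPd hα, ← GrothBddLib.not_isSemistable_iff ℂ hamp hEt h0 (ShStabLib.dimLE_of_isPure hEt hp) hP hα, not_not]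
    · letI : (PicF.XT f (Over.mk t)).Over (Spec (CommRingCat.of ℂ)) := ⟨PicF.XTproj f (Over.mk t)⟩
      obtain ⟨hdim, hp⟩ := hpure t ht
      obtain ⟨hprop, hamp, hEt, h0, P, hP, hPd, hα⟩ := GrothBddLib.pt_data i hE t hdim hp
      haveI : IsProper (PicF.XT f (Over.mk t) ↘ Spec (CommRingCat.of ℂ)) := hprop
      refine (GrothBddLib.w4_st_iff ℂ (GrothBddLib.twPt i t) hamp hEt hp h0 hP (GrothBddLib.euler_twPt i t)).trans ?_
      rw [hU' t ht P hP hPd hα, ← GrothBddLib.not_isStable_iff ℂ hamp hEt h0 (ShStabLib.dimLE_of_isPure hEt hp) hP hα, not_not]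

end Groth.Agent.S14974
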