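import Groth.Statements.S1498
import Groth.Agent.UnifFibLib.Global
import Groth.Agent.RpushLib.Main
import Groth.Agent.TildePerf.RelPerf
import Groth.Agent.OpenRestrH.Scheme
-- import your own Groth.Agent.* helpers here

set_option autoImplicit false
universe u
attribute [local instance] HasDerivedCategory.standard
open FlatMor

namespace Groth.Agent.S1498

open Groth.Agent
set_option backward.isDefEq.respectTransparency false
set_option linter.style.haveILetI false

open AlgebraicGeometry CategoryTheory Limits in
/-- Parts (1) and (2) (the source moreover reconstructs X' as the relative Proj of the resulting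
algebra, which is not stated here): let f : X → S be proper, flat and of finite presentation with S
quasi-compact, and let L be an O_X-module ample relative to f. Then there is d₀ ≥ 0 such that for
every thickening i : S → S', every proper flat morphism of finite presentation f' : X' → S' with a
cartesian square over i, and every invertible O_{X'}-module L' pulling back to L, for all d ≥ d₀ the
cohomology H^p, p > 0, of L'^{⊗d} vanishes over the preimage of every affine open of S' and f'_*
L'^{⊗d} is a finite locally free O_{S'}-module. -/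
theorem result {X S : Scheme.{u}} (f : X ⟶ S) [IsProper f] [Flat f] [LocallyOfFinitePresentation f] [CompactSpace ↑S]
    (L : X.Modules) (hL : RelAmple.IsRelAmple f L) :
    ∃ d₀ : ℕ, ∀ (X' S' : Scheme.{u}) (i : S ⟶ S') (i' : X ⟶ X') (f' : X' ⟶ S') (hi : MoreMor.IsThickening i) (hc : IsPullback i' f f' i)
      (hf'₁ : IsProper f') (hf'₂ : Flat f') (hf'₃ : LocallyOfFinitePresentation f') (L' : X'.Modules) (hL' : PicF.IsInvertible L')
      (e : Nonempty ((Scheme.Modules.pullback i').obj L' ≅ L)) (d : ℕ), d₀ ≤ d →
        (∀ (U : S'.Opens) (p : ℕ), IsAffineOpen U → 0 < p → Subsingleton (Coh.HHon X' (CohB1.tensorPow L' d) (f' ⁻¹ᵁ U) p)) ∧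
        FlatMod.IsFinLocFree ((Scheme.Modules.pushforward f').obj (CohB1.tensorPow L' d)) := by
  obtain ⟨N, hN⟩ := UnifFibLib.exists_uniform_of_relAmple f hL
    (PullbackMod.isQCoh_and_isFP_of_isFinLocFree _ (BCLib.isFinLocFree_structureModule X)).2
    (BCLib.isFlatOver_structureModule f)
  refine ⟨N, fun X' S' i i' f' hi hc hf'₁ hf'₂ hf'₃ L' hL' e d hd => ?_⟩
  obtain ⟨e⟩ := e
  haveI : HasInjectiveResolutions X'.Modules := inferInstance
  have hflf := CurveLib.isFinLocFree_of_isInvertible (AmpleLib.isInvertible_tensorPow hL' d)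
  obtain ⟨hq, hFP⟩ := PullbackMod.isQCoh_and_isFP_of_isFinLocFree _ hflf
  haveI := hq
  have hv : ∀ p, 0 < p → ∀ s : S', Subsingleton (CohIII.fiberH f' (CohB1.tensorPow L' d) s p) := fun p hp s => by
    obtain ⟨s, rfl⟩ := hi.2.surj s
    refine UnifFibLib.subsingleton_fiberH_of_rank f' hFP ?_
    refine (BCLib.fiberRank_baseChange hc (CohB1.tensorPow L' d) p s).symm.trans ?_
    rw [BCLib.fiberRank_congr f (AmpleLib.pullPow i' L' d ≪≫ AmpleLib.powCongr e d ≪≫
      (AmpleLib.unitL (CohB1.tensorPow L d)).symm) p]
    exact FlatStrat.fiberRank_eq_zero_of_subsingleton (hN d hd p hp s)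
  obtain ⟨hz, hp'⟩ := UnifFibLib.rpush_zero_and_push_flf f' hFP
    (TildePerf.isFlatOver_of_isFinLocFree f' hflf) hv
  refine ⟨fun U p hU hp => ?_, hp'⟩
  obtain ⟨q, rfl⟩ : ∃ q, p = q + 1 := ⟨p - 1, by omega⟩
  obtain ⟨θ⟩ := RpushLib.nonempty_sections (M := CohB1.tensorPow L' d) f' q hU
  haveI : Subsingleton Γ((Coh.Rpush f' (q + 1)).obj (CohB1.tensorPow L' d), U) :=
    AddCommGrpCat.subsingleton_of_isZero (((Scheme.Modules.toPresheaf S').map_isZero (hz _ hp)).obj (Opposite.op U))
  exact OpenRestrH.subsingleton_HHon X' _ _ _ θ.symm.toEquiv.subsingleton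

end Groth.Agent.S1498
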