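import Groth.Statements.S14982
import Groth.Agent.CoactPtsLib.Bridge

set_option autoImplicit false
universe u
open CategoryTheory MonoidalCategory CartesianMonoidalCategory MonObj AlgebraicGeometry
open CoactBr

namespace Groth.Agent.S14982

/-- Let `R` be a commutative ring, `A` a commutative Hopf algebra over `R` which is finite locally free
as an `R`-module (`G = Spec A` a finite flat group scheme over `S = Spec R`), `B` a commutative
`R`-algebra with a coaction of `A` that is an algebra map (an action of `G` on `X = Spec B`), `C =
B^A` the ring of invariants and `π : X → Y = Spec C` the quotient map. Let `K` be a field over `R`,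
`x : B → K` an `R`-algebra map (a point of `X`) and `y` the image in `Y` of the point underlying
`x`. Then the inertia group scheme at `x` is trivial (for every scheme `T` over `Spec K`, every
`T`-point of `G` fixing the point of `X` induced by `x` is the unit) if and only if there is a flat
morphism locally of finite presentation `Y' → Y` whose image contains `y` and over which the action
becomes free: for every scheme `T` over `S` and every `T`-point `ζ` of `X` whose composite with `π`
lifts to `Y'`, every `T`-point of `G` fixing `ζ` is the unit (this is freeness of the base-changed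
action of `G ×_S Y'` on `X ×_Y Y'`, written through points of `G` and `X`). (`G` finite flat is read
as finite locally free. The published result also says that `X ×_Y Y'` is then a torsor under
`G_{Y'}` and gives a third equivalent condition, that after a further fppf base change the action is
induced from an action of the trivial group; neither is stated here.) -/
theorem result
    (R A B K : Type u) [CommRing R] [CommRing A] [HopfAlgebra R A]
    [Module.Flat R A] [Module.Finite R A] [Module.Projective R A]
    [CommRing B] [Algebra R B] [HopfRep.Comod R A B] [GLin.IsCoactAlg R A B]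
    [Field K] [Algebra R K] (x : B →ₐ[R] K) :
    (∀ (T : Over (Spec (CommRingCat.of R))) (h : T ⟶ CoactBr.sp R K) (g : T ⟶ CoactBr.sp R A),
        lift g (h ≫ CoactBr.pt x) ≫ (CoactBr.action R A B).act = h ≫ CoactBr.pt x → g = 1) ↔
      ∃ (Y' : Scheme.{u}) (c : Y' ⟶ Spec (CommRingCat.of (GLin.invariants R A B))),
        Flat c ∧ LocallyOfFinitePresentation c ∧
        (∃ y' : Y', c.base y' =
          (Spec.map (CommRingCat.ofHom (x.toRingHom.comp (GLin.invariants R A B).val.toRingHom))).base
            (IsLocalRing.closedPoint K)) ∧
        ∀ (T : Over (Spec (CommRingCat.of R))) (ζ : T ⟶ CoactBr.sp R B),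
          (∃ t : T.left ⟶ Y', t ≫ c = ζ.left ≫ Spec.map (CommRingCat.ofHom (GLin.invariants R A B).val.toRingHom)) →
          ∀ g : T ⟶ CoactBr.sp R A, lift g ζ ≫ (CoactBr.action R A B).act = ζ → g = 1 := by
  constructor
  · intro hx
    obtain ⟨f, hf, hxf, hfree⟩ := CoactPtsLib.exists_free_nhd x ((CoactPtsLib.triv_iff x).2 hx)
    let f' : GLin.invariants R A B := ⟨f, hf⟩
    let c := Spec.map (CommRingCat.ofHom (algebraMap (GLin.invariants R A B) (Localization.Away f')))
    haveI : IsOpenImmersion c := IsOpenImmersion.of_isLocalization f'
    refine ⟨_, c, inferInstance, inferInstance, ?_, fun T ζ hζ g hg => ?_⟩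
    · change ∃ y' : PrimeSpectrum (Localization.Away f'),
        PrimeSpectrum.comap (algebraMap (GLin.invariants R A B) (Localization.Away f')) y' =
          PrimeSpectrum.comap (x.toRingHom.comp (GLin.invariants R A B).val.toRingHom) (IsLocalRing.closedPoint K)
      rw [← Set.mem_range, PrimeSpectrum.localization_away_comap_range (Localization.Away f') f']
      intro hmem
      have h1 : x f ∈ (IsLocalRing.closedPoint K).asIdeal := hmem
      exact hxf (by simpa [IsLocalRing.closedPoint, IsLocalRing.maximalIdeal_eq_bot] using h1)
    · obtain ⟨t, ht⟩ := hζ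
      refine CoactPtsLib.free_of_forall (fun C _ _ z => IsUnit (z f))
        (fun C _ _ z gam hu h => hfree C _ _ z gam hu h) T ζ (fun C _ _ j z hz => ?_) g hg
      obtain ⟨ψ, hψ⟩ := Spec.map_surjective (j.left ≫ t)
      have h1 : CommRingCat.ofHom (algebraMap (GLin.invariants R A B) (Localization.Away f')) ≫ ψ =
          CommRingCat.ofHom (GLin.invariants R A B).val.toRingHom ≫ CommRingCat.ofHom z.toRingHom := by
        apply Spec.map_injective
        have hz' : j.left ≫ ζ.left = Spec.map (CommRingCat.ofHom z.toRingHom) := by
          rw [← Over.comp_left, hz, CoactBr.pt_left]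
        rw [Spec.map_comp, Spec.map_comp, hψ, Category.assoc, ht]
        exact (Category.assoc _ _ _).symm.trans (congrArg (· ≫ _) hz')
      have h2 := congr($(h1).hom f')
      exact h2 ▸ (IsLocalization.Away.algebraMap_isUnit f').map ψ.hom
  · rintro ⟨Y', c, -, -, ⟨y', hy'⟩, hfree⟩
    obtain ⟨z, -, -⟩ := Scheme.Pullback.exists_preimage_pullback (IsLocalRing.closedPoint K) y'
      (f := Spec.map (CommRingCat.ofHom (x.toRingHom.comp (GLin.invariants R A B).val.toRingHom)))
      (g := c) hy'.symm
    set a := Spec.map (CommRingCat.ofHom (x.toRingHom.comp (GLin.invariants R A B).val.toRingHom)) with ha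
    obtain ⟨ψ, hψ⟩ := Spec.map_surjective ((Limits.pullback a c).fromSpecResidueField z ≫ Limits.pullback.fst a c)
    letI : Algebra R ((Limits.pullback a c).residueField z) := (ψ.hom.comp (algebraMap R K)).toAlgebra
    let i : K →ₐ[R] ((Limits.pullback a c).residueField z) := { ψ.hom with commutes' := fun r => rfl }
    refine (CoactPtsLib.triv_iff x).1 (CoactPtsLib.triv_of_comp i ((CoactPtsLib.triv_iff (i.comp x)).2
      fun T h g hg => hfree T (h ≫ CoactBr.pt (i.comp x))
        ⟨h.left ≫ (Limits.pullback a c).fromSpecResidueField z ≫ Limits.pullback.snd a c, ?_⟩ g hg))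
    have hi : Spec.map (CommRingCat.ofHom i.toRingHom) =
        (Limits.pullback a c).fromSpecResidueField z ≫ Limits.pullback.fst a c := hψ
    rw [Category.assoc, Category.assoc, ← Limits.pullback.condition, Over.comp_left, CoactBr.pt_left]
    refine Eq.trans ?_ (Category.assoc _ _ _).symm
    refine congrArg (h.left ≫ ·) ((Category.assoc _ _ _).symm.trans ((congrArg (· ≫ a) hi.symm).trans ?_))
    exact (Spec.map_comp (CommRingCat.ofHom (x.toRingHom.comp (GLin.invariants R A B).val.toRingHom))
        (CommRingCat.ofHom i.toRingHom)).symm.trans
      (Spec.map_comp (CommRingCat.ofHom (GLin.invariants R A B).val.toRingHom) (CommRingCat.ofHom (i.comp x).toRingHom))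

end Groth.Agent.S14982
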