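import Groth.Statements.S14984
import Mathlib
-- import your own Groth.Agent.* helpers here

set_option autoImplicit false
universe u v w
open HopfRep

namespace Groth.Agent.S14984

/-- Let `R` be a commutative ring, `A` a commutative Hopf algebra over `R`, flat as an `R`-module, `B` a
commutative `R`-algebra with a coaction of `A` that is an algebra map (an action of `G = Spec A` on
`X = Spec B`), and `C = B^A` the ring of invariants. If the action base-changed along `R → C` — the
`C`-Hopf algebra `C ⊗ A` coacting on `C ⊗ B` — is tame, i.e. there is a `C`-linear comodule map `β :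
C ⊗ A → C ⊗ B` (regular coaction on the source, base-changed coaction on the target) with `β 1 = 1`,
then the original action is tame: there is an `R`-linear comodule map `α : A → B` with `α 1 = 1`.
(The converse is the case `S = C` of stability of tameness under base change. The published lemma
also lists, as a third equivalent condition, tameness of the action of `C ⊗ A` on `B` itself over
`C`; that condition is not stated here.) -/
theorem result
    (R : Type u) (A : Type v) (B : Type w)
    [CommRing R] [CommRing A] [HopfAlgebra R A] [Module.Flat R A]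
    [CommRing B] [Algebra R B] [HopfRep.Comod R A B] [GLin.IsCoactAlg R A B]
    (h : ∃ β : TensorProduct R ↥(GLin.invariants R A B) A →ₗ[↥(GLin.invariants R A B)]
        TensorProduct R ↥(GLin.invariants R A B) B,
      @Hoch.IsComodHom ↥(GLin.invariants R A B) _ (TensorProduct R ↥(GLin.invariants R A B) A) _ _ _
        (TensorProduct R ↥(GLin.invariants R A B) A) _ _
        (HopfRep.Comod.regular ↥(GLin.invariants R A B) (TensorProduct R ↥(GLin.invariants R A B) A))
        (TensorProduct R ↥(GLin.invariants R A B) B) _ _
        (CoactBr.Comod.baseChange R ↥(GLin.invariants R A B) A B) β ∧ β 1 = 1) :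
    ∃ α : A →ₗ[R] B, Hoch.IsComodHom A α ∧ α 1 = 1 := by
  obtain ⟨β, hβ, h1⟩ := h
  let C := ↥(GLin.invariants R A B)
  let j1 : TensorProduct R C B →ₐ[C] TensorProduct R B A := Algebra.TensorProduct.lift (Algebra.ofId C _)
    (Algebra.TensorProduct.includeLeft : B →ₐ[R] TensorProduct R B A) fun _ _ => Commute.all _ _
  let j2 : TensorProduct R C A →ₐ[C] TensorProduct R B A := Algebra.TensorProduct.lift (Algebra.ofId C _)
    (Algebra.TensorProduct.includeRight : A →ₐ[R] TensorProduct R B A) fun _ _ => Commute.all _ _
  let ν := (Algebra.TensorProduct.lift j1 j2 fun _ _ => Commute.all _ _ :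
    TensorProduct C (TensorProduct R C B) (TensorProduct R C A) →ₐ[C] TensorProduct R B A)
  let μ : TensorProduct R C B →ₗ[R] B :=
    (Algebra.TensorProduct.lift (GLin.invariants R A B).val (AlgHom.id R B) fun _ _ => Commute.all _ _).toLinearMap
  let inc : A →ₗ[R] TensorProduct R C A := TensorProduct.mk R C A 1
  let α : A →ₗ[R] B := μ ∘ₗ β.restrictScalars R ∘ₗ inc
  have halg : ∀ c : C, algebraMap C (TensorProduct R B A) c = (c : B) ⊗ₜ[R] (1 : A) := fun c => rfl
  have hμ : ∀ z : TensorProduct R C B, ν ((CoactBr.Comod.baseChange R C A B).coact z) =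
      HopfRep.Comod.coact (k := R) (A := A) (μ z) := by
    intro z
    induction z with
    | zero => simp
    | add p q hp hq => simp only [map_add, hp, hq]
    | tmul c b =>
      have hc : HopfRep.Comod.coact (k := R) (A := A) ((c : B) * b) =
          ((c : B) ⊗ₜ[R] (1 : A)) * HopfRep.Comod.coact (k := R) (A := A) b := by
        rw [GLin.IsCoactAlg.coact_mul, (GLin.mem_invariants_iff _ _ _ _).mp c.2]
      rw [CoactBr.baseChange_coact_tmul, show μ (c ⊗ₜ[R] b) = (c : B) * b by simp [μ], hc]
      generalize HopfRep.Comod.coact (k := R) (A := A) b = y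
      induction y with
      | zero => simp
      | add p q hp hq => simp only [map_add, TensorProduct.tmul_add, mul_add, hp, hq]
      | tmul x a =>
        simp only [ν, j1, j2, TensorProduct.AlgebraTensorModule.tensorTensorTensorComm_tmul,
          Algebra.TensorProduct.lift_tmul, map_one, one_mul, Algebra.TensorProduct.includeLeft_apply,
          Algebra.TensorProduct.includeRight_apply, Algebra.ofId_apply, Algebra.TensorProduct.algebraMap_apply]
        simp [Algebra.TensorProduct.tmul_mul_tmul, mul_comm]
        erw [halg]
        simp [Algebra.TensorProduct.tmul_mul_tmul]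
  refine ⟨α, LinearMap.ext fun a => ?_, ?_⟩
  · simp only [LinearMap.comp_apply]
    refine (hμ (β (inc a))).symm.trans ?_
    rw [show (CoactBr.Comod.baseChange R C A B).coact (β (inc a)) =
      β.rTensor _ (Coalgebra.comul (R := C) (inc a)) from LinearMap.congr_fun hβ (inc a)]
    change _ = α.rTensor A (Coalgebra.comul (R := R) a)
    rw [show Coalgebra.comul (R := C) (inc a) =
      TensorProduct.AlgebraTensorModule.tensorTensorTensorComm R C R C C C A A
        (((1 : C) ⊗ₜ[C] (1 : C)) ⊗ₜ[R] Coalgebra.comul (R := R) a) by
      show Coalgebra.comul (R := C) ((1 : C) ⊗ₜ[R] a) = _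
      rw [TensorProduct.comul_tmul, CoactBr.comul_self_apply]]
    generalize Coalgebra.comul (R := R) a = y
    induction y with
    | zero => simp
    | add p q hp hq => simp only [map_add, TensorProduct.tmul_add, hp, hq]
    | tmul x b =>
      rw [TensorProduct.AlgebraTensorModule.tensorTensorTensorComm_tmul, LinearMap.rTensor_tmul,
        LinearMap.rTensor_tmul]
      have e : ∀ w : TensorProduct R C B, j1 w = μ w ⊗ₜ[R] (1 : A) := by
        intro w
        induction w with
        | zero => simp
        | add p q hp hq => simp only [map_add, TensorProduct.add_tmul, hp, hq]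
        | tmul c d =>
          simp [j1, μ, Algebra.ofId_apply, halg, Algebra.TensorProduct.tmul_mul_tmul]
      have e2 : j2 ((1 : C) ⊗ₜ[R] b) = (1 : B) ⊗ₜ[R] b := by simp [j2]
      have e3 : ν (β ((1 : C) ⊗ₜ[R] x) ⊗ₜ[C] ((1 : C) ⊗ₜ[R] b)) = j1 (β ((1 : C) ⊗ₜ[R] x)) * j2 ((1 : C) ⊗ₜ[R] b) :=
        Algebra.TensorProduct.lift_tmul _ _ _ _ _
      refine e3.trans ?_
      rw [e, e2, Algebra.TensorProduct.tmul_mul_tmul, mul_one, one_mul]
      rfl
  · show μ (β (1 ⊗ₜ[R] (1 : A))) = 1
    rw [← Algebra.TensorProduct.one_def, h1]
    simp [μ]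

end Groth.Agent.S14984
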