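import Groth.Statements.S14987
import Groth.Agent.S10374
import Groth.Agent.ASp.ClosedPoint
import Groth.Agent.ASp.CutOut
import Groth.Agent.ASp.DecentQS
import Groth.Agent.ASp.DecentPt
import Groth.Agent.ASp.NoethFibre
import Groth.Agent.ASp.Morph
import Groth.Agent.TopInv.Basic
import Groth.Agent.IntImage.Spread
import Groth.Agent.ASp.ValSep

set_option autoImplicit false
set_option backward.isDefEq.respectTransparency false
set_option backward.isDefEq.respectTransparency.types false
universe u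
open CategoryTheory CategoryTheory.Limits AlgebraicGeometry Topology TopologicalSpace
open AlgSp

namespace Groth.Agent.S14987

open Groth.Agent Groth.Agent.ASp

variable {S : Scheme.{u}}

theorem exists_factor_residue {K : Type u} [Field K] {U : Over S} {u : ↥U.left} {T : Over S}
    (e : T.left = Spec (CommRingCat.of K)) (x : T ⟶ U) (h : ∀ t, x.left t = u) :
    ∃ m : T ⟶ Over.mk (U.left.fromSpecResidueField u ≫ U.hom),
      m ≫ Over.homMk (U.left.fromSpecResidueField u) rfl = x := by
  let x₀ : Spec (CommRingCat.of K) ⟶ U.left := eqToHom e.symm ≫ x.left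
  have key : ∀ z, z = u → ∀ m : Spec (CommRingCat.of K) ⟶ Spec (U.left.residueField z),
      ∃ m' : Spec (CommRingCat.of K) ⟶ Spec (U.left.residueField u),
        m' ≫ U.left.fromSpecResidueField u = m ≫ U.left.fromSpecResidueField z := by
    rintro _ rfl m
    exact ⟨m, rfl⟩
  obtain ⟨m, hm⟩ := key (x₀ (IsLocalRing.closedPoint K)) (by
    simp only [x₀, Scheme.Hom.comp_apply]; exact h _)
    (Spec.map (U.left.descResidueField (Scheme.stalkClosedPointTo x₀)))
  rw [Scheme.descResidueField_stalkClosedPointTo_fromSpecResidueField] at hm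
  have hm' : (eqToHom e ≫ m) ≫ U.left.fromSpecResidueField u = x.left := by
    rw [Category.assoc, hm]
    simp [x₀]
  exact ⟨Over.homMk (eqToHom e ≫ m) (by
    show _ ≫ U.left.fromSpecResidueField u ≫ U.hom = T.hom
    rw [← Category.assoc, hm', Over.w]), Over.OverMorphism.ext hm'⟩

/-- An elementary etale neighbourhood with a single point over `x` restricts isomorphically to every
closed subspace supported at `x`, through the local ring. -/
theorem isPullback_local {X Z : Sp S} (hX : IsAlgSpace X) {U : Over S} [IsAffine U.left]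
    {a : (yon S).obj U ⟶ X} {u : ↥U.left} {x : Points X} (ha : IsElemEtaleNbhd a u x)
    (hpre : Points.ofPt a ⁻¹' {x} = {u}) {iZ : Z ⟶ X} (hi : RepWith @IsClosedImmersion iZ)
    (hrange : Set.range (Points.map iZ) = {x}) {P : Sp S}
    (fst : P ⟶ (yon S).obj (Over.mk (U.left.fromSpecStalk u ≫ U.hom))) (snd : P ⟶ Z)
    (sq : IsPullback fst snd
      ((yon S).map (Over.homMk (U.left.fromSpecStalk u) rfl : Over.mk (U.left.fromSpecStalk u ≫ U.hom) ⟶ U) ≫ a)
      iZ) :
    IsIso snd := by
  let Q : Over S := hi.1.pullback a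
  let qU : Q ⟶ U := hi.1.snd a
  have sqQ : IsPullback (hi.1.fst a) ((yon S).map qU) iZ a := hi.1.isPullback a
  haveI : IsClosedImmersion qU.left := hi.2 _ _ _ sqQ
  let π : (yon S).obj Q ⟶ Z := hi.1.fst a
  have hπe : RepWith @Etale π := repWith_of_isPullback (IsPullback.flip sqQ) ha.etale
  have hqu : ∀ z : ↥Q.left, qU.left z = u := fun z => by
    have h1 : Points.ofPt a (qU.left z) ∈ Set.range (Points.map iZ) := ⟨Points.ofPt π z, by
      rw [Points.map_ofPt, sqQ.w, ofPt_yon_map_comp]⟩
    rw [hrange] at h1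
    have h2 : qU.left z ∈ Points.ofPt a ⁻¹' {x} := h1
    rw [hpre] at h2
    exact h2
  -- the projection to `Z` is an isomorphism
  haveI hπiso : IsIso π := by
    refine isIso_of_repWith ⟨hπe.1, fun T T' g fst' snd' sqT => ?_⟩
    haveI : Etale snd'.left := hπe.2 g fst' snd' sqT
    haveI : Surjective snd'.left := ⟨fun t => by
      have h1 : Points.ofPt a u = Points.map iZ (Points.ofPt g t) := by
        have h2 : Points.map iZ (Points.ofPt g t) ∈ Set.range (Points.map iZ) := ⟨_, rfl⟩
        rw [hrange] at h2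
        rw [ha.ofPt_eq]; exact h2.symm
      obtain ⟨q, hq1, -⟩ := points_exists_of_isPullback sqQ (Points.ofPt g t) (Points.ofScheme U u)
        (by rw [← Points.ofPt_eq_map_ofScheme]; exact h1.symm)
      obtain ⟨v, hv, hv2⟩ := points_exists_of_isPullback sqT q (Points.ofScheme T t)
        (by rw [← Points.ofPt_eq_map_ofScheme]; exact hq1)
      obtain ⟨w, rfl⟩ := (Points.schemeHomeo _).surjective v
      rw [Points.map_yon_map_apply] at hv2
      exact ⟨w, (Points.schemeHomeo T).injective hv2⟩⟩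
    haveI : UniversallyInjective snd'.left := by
      refine ((tfae_universallyInjective snd'.left).out 0 1).mpr ?_
      intro K hK g₁ g₂ hg
      have hg' : g₁ ≫ snd'.left = g₂ ≫ snd'.left := hg
      let TK : Over S := Over.mk (g₁ ≫ T'.hom)
      let G₁ : TK ⟶ T' := Over.homMk g₁ rfl
      let G₂ : TK ⟶ T' := Over.homMk g₂ (by
        show g₂ ≫ T'.hom = g₁ ≫ T'.hom
        rw [← Over.w snd', reassoc_of% hg'])
      have hG : G₁ ≫ snd' = G₂ ≫ snd' := Over.OverMorphism.ext hg'
      obtain ⟨f, hf⟩ := (yon S).map_surjective fst'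
      have hy : ∀ G : TK ⟶ T', ∀ t, (G ≫ f ≫ qU).left t = u := fun G t => hqu _
      obtain ⟨m₁, hm₁⟩ := exists_factor_residue (K := K) rfl (G₁ ≫ f ≫ qU) (hy G₁)
      obtain ⟨m₂, hm₂⟩ := exists_factor_residue (K := K) rfl (G₂ ≫ f ≫ qU) (hy G₂)
      have hZ : (yon S).map (G₁ ≫ f) ≫ π = (yon S).map (G₂ ≫ f) ≫ π := by
        rw [Functor.map_comp, Functor.map_comp, hf, Category.assoc, Category.assoc, sqT.w,
          ← Functor.map_comp_assoc, ← Functor.map_comp_assoc, hG]
      have hX' : (yon S).map (G₁ ≫ f ≫ qU) ≫ a = (yon S).map (G₂ ≫ f ≫ qU) ≫ a := by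
        rw [← Category.assoc G₁, ← Category.assoc G₂, Functor.map_comp _ (G₁ ≫ f) qU,
          Functor.map_comp _ (G₂ ≫ f) qU, Category.assoc, Category.assoc, ← sqQ.w, reassoc_of% hZ]
      haveI := ha.mono
      have hm : m₁ = m₂ := (yon S).map_injective ((cancel_mono (FieldPt.ofPt a u).toHom).1 (by
        rw [FieldPt.toHom_ofPt, ← Functor.map_comp_assoc, ← Functor.map_comp_assoc]
        exact (congrArg (fun k => (yon S).map k ≫ a) hm₁).trans (hX'.trans
          (congrArg (fun k => (yon S).map k ≫ a) hm₂).symm)))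
      have hU : G₁ ≫ f ≫ qU = G₂ ≫ f ≫ qU := by rw [← hm₁, ← hm₂, hm]
      have hQ : (yon S).map (G₁ ≫ f) = (yon S).map (G₂ ≫ f) := sqQ.hom_ext hZ
        (by rw [← Functor.map_comp, ← Functor.map_comp, Category.assoc, hU, Category.assoc])
      have hT : G₁ = G₂ := (yon S).map_injective (sqT.hom_ext
        (by rw [← hf, ← Functor.map_comp, ← Functor.map_comp]; exact hQ)
        (by rw [← Functor.map_comp, ← Functor.map_comp, hG]))
      exact congrArg (·.left) hT
    exact TopInv.isIso_of_etale snd'.left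
  -- the fibre factors through the local ring
  haveI : IsAffine Q.left := isAffine_of_isAffineHom qU.left
  have hzu : Points.ofPt a u ∈ Set.range (Points.map iZ) := by rw [hrange, ha.ofPt_eq]; rfl
  obtain ⟨z₀, hz₀⟩ := hzu
  obtain ⟨q₀, -, -⟩ := points_exists_of_isPullback sqQ z₀ (Points.ofScheme U u)
    (by rw [← Points.ofPt_eq_map_ofScheme]; exact hz₀)
  obtain ⟨y₀, -⟩ := (Points.schemeHomeo Q).surjective q₀
  haveI : Subsingleton ↥Q.left := ⟨fun y y' => qU.left.injective ((hqu y).trans (hqu y').symm)⟩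
  haveI : Subsingleton (PrimeSpectrum Γ(Q.left, ⊤)) :=
    ⟨fun y y' => Q.left.isoSpec.inv.homeomorph.injective (Subsingleton.elim (α := ↥Q.left) _ _)⟩
  haveI : Nontrivial Γ(Q.left, ⊤) := PrimeSpectrum.nonempty_iff_nontrivial.1 ⟨Q.left.isoSpec.hom y₀⟩
  haveI : Subsingleton (MaximalSpectrum Γ(Q.left, ⊤)) :=
    ⟨fun y y' => MaximalSpectrum.toPrimeSpectrum_injective (Subsingleton.elim (α := PrimeSpectrum Γ(Q.left, ⊤)) _ _)⟩
  haveI : IsLocalRing Γ(Q.left, ⊤) := IsLocalRing.of_singleton_maximalSpectrum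
  let f₀ : Spec Γ(Q.left, ⊤) ⟶ U.left := Q.left.isoSpec.inv ≫ qU.left
  have key : ∀ z, z = u → ∀ m : Spec Γ(Q.left, ⊤) ⟶ Spec (U.left.presheaf.stalk z),
      ∃ m' : Spec Γ(Q.left, ⊤) ⟶ Spec (U.left.presheaf.stalk u),
        m' ≫ U.left.fromSpecStalk u = m ≫ U.left.fromSpecStalk z := by
    rintro _ rfl m
    exact ⟨m, rfl⟩
  obtain ⟨m, hm⟩ := key (f₀ (IsLocalRing.closedPoint Γ(Q.left, ⊤))) (by
    simp only [f₀, Scheme.Hom.comp_apply]; exact hqu _) (Spec.map (Scheme.stalkClosedPointTo f₀))
  rw [Scheme.Spec_stalkClosedPointTo_fromSpecStalk] at hm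
  let V : Over S := Over.mk (U.left.fromSpecStalk u ≫ U.hom)
  let j : V ⟶ U := Over.homMk (U.left.fromSpecStalk u) rfl
  have hl : (Q.left.isoSpec.hom ≫ m) ≫ U.left.fromSpecStalk u = qU.left := by
    rw [Category.assoc, hm]; exact Iso.hom_inv_id_assoc _ _
  let l : Q ⟶ V := Over.homMk (Q.left.isoSpec.hom ≫ m) (by
    show _ ≫ U.left.fromSpecStalk u ≫ U.hom = Q.hom
    rw [← Category.assoc, hl, Over.w])
  have hlj : l ≫ j = qU := Over.OverMorphism.ext hl
  haveI : Mono j := (Over.forget S).mono_of_mono_map (inferInstanceAs (Mono (U.left.fromSpecStalk u)))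
  haveI : Mono ((yon S).map j) := inferInstance
  have sq' : IsPullback ((yon S).map l) π ((yon S).map j ≫ a) iZ := by
    refine ⟨⟨by rw [← Functor.map_comp_assoc, hlj, sqQ.w]⟩, ⟨PullbackCone.IsLimit.mk _
      (fun c => sqQ.lift c.snd (c.fst ≫ (yon S).map j) (by rw [← c.condition, Category.assoc]))
      (fun c => ?_) (fun c => sqQ.lift_fst _ _ _) (fun c m h1 h2 => ?_)⟩⟩
    · rw [← cancel_mono ((yon S).map j), Category.assoc, ← Functor.map_comp, hlj, sqQ.lift_snd]
    · refine sqQ.hom_ext ?_ ?_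
      · rw [sqQ.lift_fst]; exact h2
      · rw [sqQ.lift_snd, ← h1, Category.assoc, ← Functor.map_comp, hlj]
  have e := sq.isoIsPullback_hom_snd _ _ sq'
  rw [← e]
  infer_instance

/-- Let X be a Noetherian algebraic space (quasi-compact, quasi-separated, locally Noetherian) over a
scheme S and z a closed point of X. Then there are a Noetherian local ring R over S and a
representable flat morphism φ : h_{Spec R} ⟶ X sending the closed point to z which is a flat
neighbourhood of z: z is represented by a closed immersion Spec k ⟶ X whose base change along φ is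
an isomorphism onto Spec k, and for every n ≥ 1 and every closed subspace Z_n of X cut out by the
n-th power of the ideal sheaf of that closed immersion, the projection Spec R ×_X Z_n ⟶ Z_n is an
isomorphism; moreover dim R equals the dimension of the local ring of X at z. -/
theorem result {S : Scheme.{u}} (X : AlgSp.Space S)
    (hqc : AlgSp.IsQuasiCompactSp X.obj) (hqs : AlgSp.IsQuasiSeparatedSp X.obj)
    (hN : AlgSp.IsLocNoethSp X.obj)
    (z : AlgSp.Points X.obj) (hz : IsClosed ({z} : Set (AlgSp.Points X.obj))) :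
    ∃ (R : CommRingCat.{u}) (hR : IsLocalRing ↥R) (str : Spec R ⟶ S)
      (φ : (AlgSp.yon S).obj (Over.mk str) ⟶ X.obj) (p : AlgSp.FieldPt X.obj) (t : p.pt ⟶ Over.mk str),
      IsNoetherianRing ↥R ∧ AlgSp.RepWith @Flat φ ∧
      AlgSp.Points.ofPt φ (@IsLocalRing.closedPoint ↥R _ hR) = z ∧
      AlgSp.Points.mk p = z ∧ AlgSp.RepWith @IsClosedImmersion p.toHom ∧
      IsPullback ((AlgSp.yon S).map t) (𝟙 ((AlgSp.yon S).obj p.pt)) φ p.toHom ∧
      (∀ (I : AlgSp.IdealEt X.obj), AlgSp.IsCutOutBy I p.toHom → ∀ n : ℕ, 1 ≤ n →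
        ∀ (Zn : AlgSp.Sp S) (iZ : Zn ⟶ X.obj), AlgSp.IsCutOutBy (I ^ n) iZ →
          ∀ (P : AlgSp.Sp S) (fst : P ⟶ (AlgSp.yon S).obj (Over.mk str)) (snd : P ⟶ Zn),
            IsPullback fst snd φ iZ → IsIso snd) ∧
      AlgSp.HasAt (fun U u => ringKrullDim ↥(U.presheaf.stalk u) = ringKrullDim ↥R) X.obj z := by
  have hd : IsDecent X.obj := isDecent_of_qs X.property _ (isQuasiSeparatedMor_toBase hqs (isTerminalYonBase.from X.obj))
  obtain ⟨p, hp, hpc⟩ := exists_closedImmersion_of_isClosed X.property hd z hz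
  obtain ⟨U, a, u, hUa, ha, hpre⟩ := Groth.Agent.S10374.result X hd z
  haveI := hUa
  haveI : IsLocallyNoetherian U.left := isLocallyNoetherian_of_chart hN ha.etale
  let str : Spec (U.left.presheaf.stalk u) ⟶ S := U.left.fromSpecStalk u ≫ U.hom
  let φ : (yon S).obj (Over.mk str) ⟶ X.obj :=
    (yon S).map (Over.homMk (U.left.fromSpecStalk u) rfl : Over.mk str ⟶ U) ≫ a
  haveI : Subsingleton ↥p.pt.left := inferInstanceAs (Subsingleton ↥(Spec (CommRingCat.of p.K)))
  have hrp : Set.range (Points.map p.toHom) = {z} := by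
    ext y
    constructor
    · rintro ⟨w, rfl⟩
      obtain ⟨t₀, rfl⟩ := (Points.schemeHomeo _).surjective w
      show Points.map p.toHom (Points.ofScheme p.pt t₀) = z
      rw [← Points.ofPt_eq_map_ofScheme, Points.ofPt_toHom, hp]
    · rintro rfl
      exact ⟨Points.ofScheme p.pt (IsLocalRing.closedPoint p.K), by
        rw [← Points.ofPt_eq_map_ofScheme, Points.ofPt_toHom, hp]⟩
  have sqφ := IsPullback.of_hasPullback φ p.toHom
  haveI := isPullback_local X.property ha hpre hpc hrp _ _ sqφ
  obtain ⟨t, ht⟩ := (yon S).map_surjective (inv (pullback.snd φ p.toHom) ≫ pullback.fst φ p.toHom)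
  refine ⟨U.left.presheaf.stalk u, inferInstance, str, φ, p, t, inferInstance, ?_, ?_, hp, hpc, ?_, ?_,
    ⟨U, a, u, ha.etale, ha.ofPt_eq, rfl⟩⟩
  · exact repWith_comp (repWith_yon_map (P := @Flat) (IntImage.flat_fromSpecStalk u))
      (repWith_mono (fun _ _ h (hh : Etale h) => inferInstanceAs (Flat h)) ha.etale)
  · rw [ofPt_yon_map_comp, ← ha.ofPt_eq]
    exact congrArg _ Scheme.fromSpecStalk_closedPoint
  · rw [ht]
    exact IsPullback.of_iso sqφ (asIso (pullback.snd φ p.toHom)) (Iso.refl _) (Iso.refl _) (Iso.refl _)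
      (by simp) (by simp) (by simp) (by simp)
  · intro I hI n hn Zn iZ hIn P fst snd sq
    refine isPullback_local X.property ha hpre hIn.choose ?_ fst snd sq
    refine Set.Subset.antisymm ?_ ?_
    · rintro _ ⟨y, rfl⟩
      obtain ⟨V, v, b, hVa, hb, hbv⟩ : ∃ (V : Over S) (v : ↥V.left) (b : (yon S).obj V ⟶ X.obj),
          IsAffine V.left ∧ RepWith @Etale b ∧ Points.ofPt b v = Points.map iZ y := by
        obtain ⟨U₀, a₀, hae, has⟩ := X.property.atlas
        obtain ⟨u₀, hu₀⟩ := surjective_ofPt has (Points.map iZ y)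
        obtain ⟨W, hW, huW, -⟩ := exists_isAffineOpen_mem_and_subset (x := u₀) (U := (⊤ : U₀.left.Opens)) (by simp)
        refine ⟨openOver W, ⟨u₀, huW⟩, _, hW, (openEt hae W).property, ?_⟩
        exact (ofPt_yon_map_comp (openInc W) a₀ ⟨u₀, huW⟩).trans hu₀
      let E : EtOver X.obj := EtOver.mk b hb
      haveI : IsAffine E.obj.left.left := hVa
      have sqZ := hIn.choose.1.isPullback E.obj.hom
      obtain ⟨q, -, hq⟩ := points_exists_of_isPullback sqZ y (Points.ofScheme V v)
        (hbv.symm.trans (Points.ofPt_eq_map_ofScheme b v))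
      obtain ⟨w, rfl⟩ := (Points.schemeHomeo _).surjective q
      rw [Points.map_yon_map_apply] at hq
      have hvw := (Points.schemeHomeo _).injective hq
      let bZ := (EtOver.bcπ hIn.choose.1 E).left
      let bP := (EtOver.bcπ hI.choose.1 E).left
      haveI : IsClosedImmersion bP := hI.choose.2 _ _ _ (hI.choose.1.isPullback E.obj.hom)
      have e1 : bZ.ker.ideal ⟨⊤, isAffineOpen_top _⟩ = (bP.ker.ideal ⟨⊤, isAffineOpen_top _⟩) ^ n := by
        rw [← ideal_idealOfRep hIn.choose.1 E hVa, ← ideal_idealOfRep hI.choose.1 E hVa, hIn.choose_spec,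
          hI.choose_spec, IdealEt.pow_ideal]
      have h1 : (v : ↥E.obj.left.left) ∈ bZ.ker.support := by
        rw [← hvw]; exact bZ.range_subset_ker_support ⟨w, rfl⟩
      have h2 : (v : ↥E.obj.left.left) ∈ (bP.ker ^ n).support := by
        rw [Scheme.IdealSheafData.mem_support_iff_of_mem (U := ⟨⊤, isAffineOpen_top _⟩) (Set.mem_univ _)] at h1 ⊢
        rw [e1] at h1
        simpa using h1
      rw [Scheme.IdealSheafData.support_pow _ _ (by omega)] at h2
      have h3 : (v : ↥E.obj.left.left) ∈ Set.range bP := by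
        have : (v : ↥E.obj.left.left) ∈ closure (Set.range bP) := by
          rw [← Scheme.Hom.support_ker bP]; exact h2
        rwa [(bP.isClosedEmbedding.isClosed_range).closure_eq] at this
      obtain ⟨w', hw'⟩ := h3
      rw [← hrp]
      refine ⟨Points.ofPt (hI.choose.1.fst E.obj.hom) w', ?_⟩
      rw [← hbv]
      show _ = Points.ofPt E.obj.hom v
      rw [Points.map_ofPt, (hI.choose.1.isPullback E.obj.hom).w, ofPt_yon_map_comp]
      exact congrArg _ hw'
    · have hle : I ^ n ≤ I := fun E hE => by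
        rw [IdealEt.pow_ideal]; exact Ideal.pow_le_self (by omega)
      obtain ⟨k, hk⟩ := (exists_hom_iff_ideal_le X.property hIn hI).2 hle
      rw [← hrp, ← hk]
      rintro _ ⟨y, rfl⟩
      exact ⟨Points.map k y, (Points.map_comp _ _ y).symm⟩

end Groth.Agent.S14987
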