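import Groth.Statements.S14988
import Groth.Agent.BCLib.TensorFun
import Groth.Agent.DCohLib.Symm
import Groth.Agent.DCohLib.TensorPerf
import Groth.Agent.PullbackMod.LocFree

set_option autoImplicit false
set_option linter.style.haveILetI false
set_option backward.isDefEq.respectTransparency false
universe u
open CategoryTheory CategoryTheory.Limits AlgebraicGeometry
open ResProp

namespace Groth.Agent.S14988

/-- In the case of schemes, let f : X ⟶ Y be a morphism of quasi-compact quasi-separated schemes. If
every quasi-coherent module on Y is a quotient of a direct sum of finite locally free modules (Y has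
the resolution property) and some family (W_i) of finite locally free modules on X is f-generating,
i.e. every quasi-coherent module on X is a quotient of a direct sum of modules W_i ⊗ f^*N with N
quasi-coherent on Y, then every quasi-coherent module on X is a quotient of a direct sum of finite
locally free modules (X has the resolution property). (The published statement is for quasi-compact
quasi-separated morphisms of algebraic stacks and assumes the family universally f-generating; this
row is the case of schemes and assumes the family only f-generating, which is what the argument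
uses.) -/
theorem result {X Y : Scheme.{u}}
    [CompactSpace X] [QuasiSeparatedSpace X] [CompactSpace Y] [QuasiSeparatedSpace Y] (f : X ⟶ Y)
    (hY : ∀ N : Y.Modules, Coh.IsQCoh N →
      ∃ (κ : Type u) (V : κ → Y.Modules) (π : (∐ V) ⟶ N), (∀ k, FlatMod.IsFinLocFree (V k)) ∧ Epi π)
    {ι : Type u} (W : ι → X.Modules) (hW : ∀ i, FlatMod.IsFinLocFree (W i))
    (hf : ∀ M : X.Modules, Coh.IsQCoh M →
      ∃ (κ : Type u) (j : κ → ι) (N : κ → Y.Modules)
        (π : (∐ fun k => CohB1.tensorMod (W (j k)) ((Scheme.Modules.pullback f).obj (N k))) ⟶ M),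
        (∀ k, Coh.IsQCoh (N k)) ∧ Epi π) :
    ∀ M : X.Modules, Coh.IsQCoh M →
      ∃ (κ : Type u) (E : κ → X.Modules) (π : (∐ E) ⟶ M), (∀ k, FlatMod.IsFinLocFree (E k)) ∧ Epi π := by
  intro M hM
  obtain ⟨κ, j, N, π, hN, hπ⟩ := hf M hM
  choose κ' V ρ hV hρ using fun k => hY (N k) (hN k)
  let F : ∀ k : κ, Y.Modules ⥤ X.Modules := fun k =>
    Scheme.Modules.pullback f ⋙ DCoh.tensorRightMod (W (j k))
  let e : ∀ k, (F k).obj (N k) ≅
      CohB1.tensorMod (W (j k)) ((Scheme.Modules.pullback f).obj (N k)) := fun k =>
    ((DCohLib.symmIso (O := X.sheaf)).app ((Scheme.Modules.pullback f).obj (N k))).app (W (j k))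
  have hpres : ∀ k, PreservesColimitsOfSize.{u, u} (F k) := fun k => by
    haveI : PreservesColimitsOfSize.{u, u} (Scheme.Modules.pullback f) :=
      (Scheme.Modules.pullbackPushforwardAdjunction f).leftAdjoint_preservesColimits
    exact comp_preservesColimits _ _
  let g : ∀ p : Σ k, κ' k, (F p.1).obj (V p.1 p.2) ⟶
      ∐ fun k => CohB1.tensorMod (W (j k)) ((Scheme.Modules.pullback f).obj (N k)) := fun p =>
    (F p.1).map (Sigma.ι (V p.1) p.2 ≫ ρ p.1) ≫ (e p.1).hom ≫
      Sigma.ι (fun k => CohB1.tensorMod (W (j k)) ((Scheme.Modules.pullback f).obj (N k))) p.1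
  haveI hg : Epi (Sigma.desc g) := ⟨fun {Z} a b hab => by
    refine Sigma.hom_ext _ _ fun k => ?_
    haveI := hpres k
    haveI := hρ k
    haveI : PreservesColimitsOfSize.{0, 0} (F k) := preservesColimitsOfSize_shrink _
    haveI : Epi ((F k).map (ρ k)) := inferInstance
    rw [← cancel_epi (e k).hom, ← cancel_epi ((F k).map (ρ k))]
    refine (isColimitOfPreserves (F k) (colimit.isColimit (Discrete.functor (V k)))).hom_ext fun l => ?_
    obtain ⟨l⟩ := l
    have := congrArg (Sigma.ι (fun p : Σ k, κ' k => (F p.1).obj (V p.1 p.2)) ⟨k, l⟩ ≫ ·) hab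
    simpa only [Sigma.ι_desc_assoc, g, Functor.map_comp, Category.assoc, Functor.mapCocone_ι_app,
      colimit.cocone_ι] using this⟩
  refine ⟨_, fun p : Σ k, κ' k => (F p.1).obj (V p.1 p.2), Sigma.desc g ≫ π, fun p => ?_, epi_comp _ _⟩
  exact DCohLib.isFinLocFree_tensor (PullbackMod.isFinLocFree_pullback f _ (hV p.1 p.2)) (hW _)

end Groth.Agent.S14988
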