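import Groth.Statements.S14989
import Groth.Agent.FlatCoverLib.Basic
import Groth.Agent.FibreVanishQC.CohUnion
import Groth.Agent.ResPropLib.Affine
import Groth.Agent.QCohLib.Coherent
import Mathlib.RingTheory.Flat.TorsionFree

set_option autoImplicit false
set_option linter.style.haveILetI false
set_option backward.isDefEq.respectTransparency false
universe u
open CategoryTheory CategoryTheory.Limits AlgebraicGeometry
open ResProp

namespace Groth.Agent.S14989

/-- In the case of schemes, on a Noetherian integral scheme Y with affine diagonal (any two affine opens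
meet in an affine open) every coherent module is a quotient of a torsion-free coherent module,
torsion-freeness meaning that each stalk is a torsion-free module over the local ring. (The
published statement is for Noetherian integral algebraic stacks with affine diagonal; this row is
the case of schemes.) -/
theorem result (Y : Scheme.{u}) [IsNoetherian Y] [IsIntegral Y]
    (hd : ∀ V W : Y.Opens, IsAffineOpen V → IsAffineOpen W → IsAffineOpen (V ⊓ W))
    (F : Y.Modules) (hF : Coh.IsCoh F) :
    ∃ (F' : Y.Modules) (π : F' ⟶ F), Coh.IsCoh F' ∧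
      (∀ y : Y, NoZeroSMulDivisors ↥(Y.presheaf.stalk y) ↥(F'.presheaf.stalk y)) ∧ Epi π := by
  classical
  haveI := hF.1
  obtain ⟨s, hs, hcov⟩ :=
    (isCompact_and_isOpen_iff_finite_and_eq_biUnion_affineOpens (X := Y)).1 ⟨isCompact_univ, isOpen_univ⟩
  obtain ⟨n, ⟨e⟩⟩ := @Finite.exists_equiv_fin _ hs.to_subtype
  let U : Fin n → Y.Opens := fun i => (e.symm i).1.1
  have hU : ∀ i, IsAffineOpen (U i) := fun i => (e.symm i).1.2
  have hmem : ∀ x : Y, ∃ i, x ∈ U i := fun x => by
    have hx : x ∈ (Set.univ : Set Y) := trivial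
    rw [hcov] at hx
    simp only [Set.mem_iUnion, exists_prop] at hx
    obtain ⟨V, hV, hxV⟩ := hx
    exact ⟨e ⟨V, hV⟩, by simpa [U] using hxV⟩
  have ha : ∀ i, IsAffineHom (U i).ι := fun i => ⟨fun W hW => by
    rw [← (U i).ι.isAffineOpen_iff_of_isOpenImmersion, (U i).ι.image_preimage_eq_opensRange_inf,
      Scheme.Opens.opensRange_ι]
    exact hd _ _ (hU i) hW⟩
  obtain ⟨P, π, hP, hπ, hfl⟩ := FlatCoverLib.exists_flat_cover n U hU ha F
  haveI := hP
  have hfg : ∀ i, ∃ t : Finset Γ(F, U i), Submodule.span Γ(Y, U i) (t : Set Γ(F, U i)) = ⊤ := fun i =>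
    (QCohLib.finite_sections_of_isCoh hF (hU i)).fg_top
  choose t ht using hfg
  have hl : ∀ p : Σ i, {q // q ∈ t i}, ∃ r : Γ(P, U p.1), π.app (U p.1) r = p.2.1 := fun p =>
    ProjBundleLib.surjective_app_of_epi hP hF.1 π (hU p.1) p.2.1
  choose r hr using hl
  obtain ⟨N, hN⟩ := FibreVanishQC.exists_forall_mem P (fun p : Σ i, {q // q ∈ t i} => U p.1)
    (fun p => hU p.1) r
  let ι' := SubLib.subι N.1
  refine ⟨SubLib.subMod N.1, ι' ≫ π, FibreVanishQC.isCoh_subMod P N, fun y => ?_, ?_⟩
  · obtain ⟨i, hi⟩ := hmem y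
    haveI : Module.Flat (Y.presheaf.stalk y) (P.presheaf.stalk y) := hfl i y hi
    refine ⟨fun {a m} h => or_iff_not_imp_left.2 fun ha0 => ?_⟩
    have hinj := (PullbackMod.mono_iff_stalk ι').1 inferInstance y
    refine hinj ?_
    rw [map_zero]
    refine Module.Flat.isSMulRegular_of_nonZeroDivisors (mem_nonZeroDivisors_of_ne_zero ha0) ?_
    show a • _ = a • (0 : P.presheaf.stalk y)
    rw [← map_smul, h, map_zero, smul_zero]
  · refine (PullbackMod.epi_iff_stalk _).2 fun y => ?_
    obtain ⟨i, hi⟩ := hmem y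
    rw [← LinearMap.range_eq_top, eq_top_iff, ← ResPropLib.span_germ_eq_top F (hU i) hi _ (ht i),
      Submodule.span_le]
    rintro _ ⟨q, hq, rfl⟩
    refine ⟨(SubLib.subMod N.1).presheaf.germ (U i) y hi (⟨r ⟨i, q, hq⟩, hN ⟨i, q, hq⟩⟩ :
      SubLib.sec N.1 (U i)), ?_⟩
    rw [PullbackMod.stalkLin_germ]
    exact congrArg _ (hr ⟨i, q, hq⟩)

end Groth.Agent.S14989
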