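import Groth.Statements.S14991
import Groth.Agent.RefOne.Extend
import Groth.Agent.S1689
import Groth.Agent.S1691
import Groth.Agent.DCohLib.SPerf
import Groth.Agent.DCohLib.PerfCoh
import Groth.Agent.BoundaryConn.Main
import Groth.Agent.PurityLib.OpenPurity
import Groth.Agent.PullbackMod.Hom
-- import your own Groth.Agent.* helpers here

set_option autoImplicit false
universe u
open CategoryTheory CategoryTheory.Limits AlgebraicGeometry
open ResProp

namespace Groth.Agent.S14991

section Helpers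
open CategoryTheory CategoryTheory.Limits AlgebraicGeometry
open Groth.Agent.RefOne Groth.Agent.PullbackMod

variable {X : Scheme.{u}}

theorem surjective_stalk_of_epi_restrict (U : X.Opens) {M N : X.Modules} (φ : M ⟶ N)
    (h : Epi ((Scheme.Modules.restrictFunctor U.ι).map φ)) (x : X) (hx : x ∈ U) :
    Function.Surjective (stalkLin φ x) := by
  obtain ⟨y, rfl⟩ : ∃ y, U.ι y = x := ⟨⟨x, hx⟩, rfl⟩
  intro n
  let eN := ((Scheme.Modules.restrictStalkNatIso U.ι y).app N).addCommGroupIsoToAddEquiv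
  let eM := ((Scheme.Modules.restrictStalkNatIso U.ι y).app M).addCommGroupIsoToAddEquiv
  obtain ⟨m, hm⟩ := (epi_iff_stalk _).1 h y (eN.symm n)
  refine ⟨eM m, ?_⟩
  refine (ConcreteCategory.congr_hom ((Scheme.Modules.restrictStalkNatIso U.ι y).hom.naturality φ) m).symm.trans ?_
  exact (congrArg eN hm).trans (eN.apply_symm_apply n)

theorem isFinLocFree_of_iso {M N : X.Modules} (e : M ≅ N) (h : FlatMod.IsFinLocFree M) : FlatMod.IsFinLocFree N := fun x => by
  obtain ⟨U, n, hx, ⟨e'⟩⟩ := h x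
  exact ⟨U, n, hx, ⟨((Scheme.Modules.restrictFunctor U.ι).mapIso e).symm ≪≫ e'⟩⟩

theorem isReflexiveAt_of_locFree [IsLocallyNoetherian X] {F : X.Modules} (W : X.Opens) (hW : FlatMod.IsFinLocFree (F.restrict W.ι)) (x : X) (hx : x ∈ W) :
    RefHull.IsReflexiveAt F x := by
  refine (isReflexiveAt_restrict_iff W.ι F ⟨x, hx⟩).1 ?_
  obtain ⟨hq, hfp, hflat⟩ := (isFinLocFree_iff _).1 hW
  haveI := hq
  haveI := FlatLocus.finite_stalk _ hfp (⟨x, hx⟩ : (W : Scheme.{u}))
  haveI : Module.Flat ((W : Scheme.{u}).presheaf.stalk ⟨x, hx⟩) ((F.restrict W.ι).presheaf.stalk ⟨x, hx⟩) := hflat _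
  haveI : Module.Free ((W : Scheme.{u}).presheaf.stalk ⟨x, hx⟩) ((F.restrict W.ι).presheaf.stalk ⟨x, hx⟩) :=
    Module.free_of_flat_of_isLocalRing
  exact (inferInstance : Module.IsReflexive ((W : Scheme.{u}).presheaf.stalk ⟨x, hx⟩) ((F.restrict W.ι).presheaf.stalk ⟨x, hx⟩))

variable [IsIntegral X] [IsLocallyNoetherian X]

/-- A quotient presentation off a closed regular point of dimension two extends over it. -/
theorem exists_extension {F : X.Modules} (hF : Coh.IsCoh F) (p : X) (U : X.Opens) (hU : ∀ x, x ∉ U → x = p)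
    [IsRegularLocalRing (X.presheaf.stalk p)] (hdim : ringKrullDim (X.presheaf.stalk p) = 2)
    (hr : RefHull.IsReflexiveAt F p) {E : (U : Scheme.{u}).Modules} (π : E ⟶ F.restrict U.ι)
    (hE : FlatMod.IsFinLocFree E) (hπ : Epi π) :
    ∃ (G : X.Modules) (φ : G ⟶ F), FlatMod.IsFinLocFree G ∧
      Epi ((Scheme.Modules.restrictFunctor U.ι).map φ) := by
  have hdepth : ∀ x, x ∉ U → (2 : ℕ∞) ≤ LocCoh.depth (X.presheaf.stalk x) (X.presheaf.stalk x) := fun x hx => by
    rw [hU x hx]
    exact PurityLib.two_le_depth_of_regular _ hdim.ge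
  haveI := hF.1
  let R := Scheme.Modules.restrictFunctor U.ι
  let adj := Scheme.Modules.restrictAdjunction U.ι
  haveI : IsIso (adj.unit.app F) := by
    haveI : Coh.IsQCoh (R.obj F) := inferInstance
    haveI : Coh.IsQCoh ((𝟭 X.Modules).obj F) := hF.1
    haveI : Coh.IsQCoh ((Scheme.Modules.pushforward U.ι).obj (R.obj F)) := QCohLib.isQCoh_pushforward _ U.ι
    haveI : Coh.IsQCoh ((R ⋙ Scheme.Modules.pushforward U.ι).obj F) := by assumption
    refine AssLib.isIso_of_depth _ hF fun x => ?_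
    by_cases hx : x ∈ U
    · exact Or.inl (S1575.unit_stalk_bijective U.ι F (by rw [Scheme.Opens.opensRange_ι]; exact hx))
    · refine Or.inr ⟨?_, fun hass => hx ?_⟩
      · haveI : Module.IsReflexive (X.presheaf.stalk x) (F.presheaf.stalk x) := by rw [hU x hx]; exact hr
        haveI := PullbackMod.finite_stalk_of_isFT hF.2 x
        have h1 := CAlgBasics.two_le_depth_linearMap (R := X.presheaf.stalk x)
          (M := Module.Dual (X.presheaf.stalk x) (F.presheaf.stalk x)) (N := X.presheaf.stalk x) (hdepth x hx)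
        show (2 : ℕ∞) ≤ LocCoh.depth (X.presheaf.stalk x) (F.presheaf.stalk x)
        rwa [CAlgBasics.depth_congr (M := F.presheaf.stalk x)
          (N := Module.Dual (X.presheaf.stalk x) (Module.Dual (X.presheaf.stalk x) (F.presheaf.stalk x)))
          (Module.evalEquiv (X.presheaf.stalk x) (F.presheaf.stalk x))]
      · obtain ⟨y, rfl, -⟩ := AssLib.exists_isWeakAssPoint_of_push U.ι (R.obj F)
          ((AssLib.isWeakAssPoint_iff_isAssPoint _ x).mpr hass)
        exact y.2
  let G := (Scheme.Modules.pushforward U.ι).obj E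
  have hEc : Coh.IsCoh E := DCohLib.isCoh_of_isFinLocFree hE
  obtain ⟨hGc, hGr⟩ := (S1691.result X U hdepth).2 E hEc fun x => by
    obtain ⟨h1, h2⟩ := S1689.free_of_isFinLocFree hE x
    haveI := h1
    haveI := h2
    infer_instance
  have hG : FlatMod.IsFinLocFree G := by
    refine S1689.isFinLocFree_of_free hGc fun x => ?_
    by_cases hx : x ∈ U
    · obtain ⟨h1, h2⟩ := S1689.free_of_isFinLocFree
        (isFinLocFree_of_iso (asIso (adj.counit.app E)).symm hE) (⟨x, hx⟩ : (U : Scheme.{u}))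
      exact ((DCohLib.free_finite_stalk_restrict_iff U.ι G ⟨x, hx⟩).1 ⟨h1, h2⟩).1
    · obtain rfl := hU x hx
      haveI := hGc.1
      haveI := hGr x
      haveI := PullbackMod.finite_stalk_of_isFT hGc.2 x
      haveI := RegLocLib.isRegularRing_of_isRegularLocalRing (X.presheaf.stalk x)
      haveI := RegDual.projective_dual hdim.le (Module.Dual (X.presheaf.stalk x) (G.presheaf.stalk x))
      haveI : Module.Projective (X.presheaf.stalk x) (G.presheaf.stalk x) :=
        Module.Projective.of_equiv (Module.evalEquiv (X.presheaf.stalk x) (G.presheaf.stalk x)).symm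
      exact Module.free_of_flat_of_isLocalRing
  refine ⟨G, (Scheme.Modules.pushforward U.ι).map π ≫ inv (adj.unit.app F), hG, ?_⟩
  haveI := hπ
  rw [Functor.map_comp, Functor.map_inv]
  have h : R.map ((Scheme.Modules.pushforward U.ι).map π) =
      adj.counit.app E ≫ π ≫ inv (adj.counit.app (F.restrict U.ι)) := by
    rw [← Category.assoc, IsIso.eq_comp_inv]
    exact adj.counit.naturality π
  rw [h]
  infer_instance

end Helpers

/-- In the case of schemes, let X be an integral scheme of dimension 2, separated and of finite type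
over a field k and regular in codimension 1, F a coherent module on X, and p ≠ q regular closed
points of X near each of which F is finite locally free. If F restricted to X minus q and F
restricted to X minus p are both quotients of finite locally free modules, then F is a quotient of a
finite locally free module on X. (The published statement is for algebraic spaces and also assumes F
locally free off a closed subset of codimension 2, an assumption the argument does not use; this row
is the case of schemes without it.) -/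
theorem result {k : Type u} [Field k] (X : Scheme.{u})
    [X.Over (Spec (CommRingCat.of k))] [IsIntegral X] [IsSeparated (X ↘ Spec (CommRingCat.of k))]
    [LocallyOfFiniteType (X ↘ Spec (CommRingCat.of k))] [QuasiCompact (X ↘ Spec (CommRingCat.of k))]
    (hdim : topologicalKrullDim ↥X = 2)
    (hR1 : ∀ x : X, ringKrullDim ↥(X.presheaf.stalk x) ≤ 1 → IsRegularLocalRing ↥(X.presheaf.stalk x))
    (F : X.Modules) (hF : Coh.IsCoh F) (p q : X) (hpq : p ≠ q)
    (hp : IsClosed ({p} : Set X)) (hq : IsClosed ({q} : Set X))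
    (hpreg : IsRegularLocalRing ↥(X.presheaf.stalk p)) (hqreg : IsRegularLocalRing ↥(X.presheaf.stalk q))
    (hFp : ∃ W : X.Opens, p ∈ W ∧ FlatMod.IsFinLocFree (F.restrict W.ι))
    (hFq : ∃ W : X.Opens, q ∈ W ∧ FlatMod.IsFinLocFree (F.restrict W.ι))
    (Up Uq : X.Opens) (hUp : (Up : Set X) = {p}ᶜ) (hUq : (Uq : Set X) = {q}ᶜ)
    (hp' : ∃ (E : (↑Up : Scheme.{u}).Modules) (π : E ⟶ F.restrict Up.ι), FlatMod.IsFinLocFree E ∧ Epi π)
    (hq' : ∃ (E : (↑Uq : Scheme.{u}).Modules) (π : E ⟶ F.restrict Uq.ι), FlatMod.IsFinLocFree E ∧ Epi π) :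
    ∃ (E : X.Modules) (π : E ⟶ F), FlatMod.IsFinLocFree E ∧ Epi π := by
  let f := X ↘ Spec (CommRingCat.of k)
  haveI : IsLocallyNoetherian X := LocallyOfFiniteType.isLocallyNoetherian f
  obtain ⟨E₁, π₁, hE₁, he₁⟩ := hp'
  obtain ⟨E₂, π₂, hE₂, he₂⟩ := hq'
  obtain ⟨W₁, hW₁, hf₁⟩ := hFp
  obtain ⟨W₂, hW₂, hf₂⟩ := hFq
  haveI := hpreg
  haveI := hqreg
  have hmem : ∀ {a : X} {U : X.Opens}, (U : Set X) = {a}ᶜ → ∀ x, x ∉ U → x = a := fun {a U} h x hx => by
    by_contra hne
    exact hx (h.symm ▸ hne : x ∈ (U : Set X))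
  obtain ⟨G₁, φ₁, hG₁, h₁⟩ := exists_extension hF p Up (hmem hUp)
    ((BoundaryConn.ringKrullDim_stalk_closed f p hp).trans hdim) (isReflexiveAt_of_locFree W₁ hf₁ p hW₁) π₁ hE₁ he₁
  obtain ⟨G₂, φ₂, hG₂, h₂⟩ := exists_extension hF q Uq (hmem hUq)
    ((BoundaryConn.ringKrullDim_stalk_closed f q hq).trans hdim) (isReflexiveAt_of_locFree W₂ hf₂ q hW₂) π₂ hE₂ he₂
  refine ⟨G₁ ⊞ G₂, biprod.desc φ₁ φ₂, DCohLib.isFinLocFree_biprod hG₁ hG₂, (PullbackMod.epi_iff_stalk _).2 fun x n => ?_⟩
  by_cases hx : x ∈ Up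
  · obtain ⟨m, hm⟩ := surjective_stalk_of_epi_restrict Up φ₁ h₁ x hx n
    refine ⟨PullbackMod.stalkLin (biprod.inl : G₁ ⟶ G₁ ⊞ G₂) x m, ?_⟩
    rw [← hm, ← LinearMap.comp_apply, ← PullbackMod.stalkLin_comp, biprod.inl_desc]
  · have hx' : x ∈ Uq := by
      have hxp : x = p := hmem hUp x hx
      show x ∈ (Uq : Set X)
      rw [hUq, hxp]
      exact hpq
    obtain ⟨m, hm⟩ := surjective_stalk_of_epi_restrict Uq φ₂ h₂ x hx' n
    refine ⟨PullbackMod.stalkLin (biprod.inr : G₂ ⟶ G₁ ⊞ G₂) x m, ?_⟩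
    rw [← hm, ← LinearMap.comp_apply, ← PullbackMod.stalkLin_comp, biprod.inr_desc]

end Groth.Agent.S14991
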