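import Groth.Statements.S14994
import Mathlib

set_option autoImplicit false
universe u
open CAlg

namespace Groth.Agent.S14994

/-- Let A be a Noetherian integrally closed domain, M a finitely generated torsion-free A-module, N a
submodule of M and ι : M → M** the canonical map to the double dual. Write N** → M** for the double
dual of the inclusion N → M. Then every m ∈ M whose image ι(m) lies in the image of N** is a torsion
element modulo N: some nonzero a ∈ A satisfies a·m ∈ N. In other words the preimage of N** under ι
is contained in the saturation of N in M (the preimage of the torsion submodule of M/N), and the two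
coincide when M/N is torsion-free. (The published statement asserts equality of the preimage with
the saturation for every N; for N = xA inside M = A = k[x] the saturation is all of M while N** has
image xA = N under the identification M** = M, so only the inclusion stated here holds, and it is
the inclusion later used, for saturated N, where the two sides agree.) -/
theorem result (A : Type u) [CommRing A] [IsDomain A]
    [IsNoetherianRing A] [IsIntegrallyClosed A]
    (M : Type u) [AddCommGroup M] [Module A M] [Module.Finite A M] [NoZeroSMulDivisors A M]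
    (N : Submodule A M) :
    (LinearMap.range N.subtype.dualMap.dualMap).comap (Module.Dual.eval A M) ≤
      (Submodule.torsion A (M ⧸ N)).comap N.mkQ := by
  intro m hm
  obtain ⟨ξ, hξ⟩ := hm
  by_contra hcon
  let Q := M ⧸ N
  let K := FractionRing A
  let mk := LocalizedModule.mkLinearMap (nonZeroDivisors A) Q
  have hne : mk (N.mkQ m) ≠ 0 := fun h0 => hcon (by
    obtain ⟨⟨a, ha⟩, h⟩ := (IsLocalizedModule.eq_zero_iff (nonZeroDivisors A) mk).mp h0
    exact (Submodule.mem_torsion_iff _).mpr ⟨⟨a, ha⟩, h⟩)
  obtain ⟨ψ, hψ⟩ : ∃ ψ : Module.Dual K (LocalizedModule (nonZeroDivisors A) Q), ψ (mk (N.mkQ m)) ≠ 0 := by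
    by_contra! hall
    exact hne ((Module.forall_dual_apply_eq_zero_iff K _).mp hall)
  have : Module.FinitePresentation A Q := Module.finitePresentation_of_finite A Q
  obtain ⟨χ, ⟨s, hs⟩, hχ⟩ := Module.FinitePresentation.exists_lift_of_isLocalizedModule (nonZeroDivisors A) (Algebra.linearMap A K) ((ψ.restrictScalars A).comp mk)
  have h1 : algebraMap A K (χ (N.mkQ m)) = s • ψ (mk (N.mkQ m)) := LinearMap.congr_fun hχ (N.mkQ m)
  have hne2 : χ (N.mkQ m) ≠ 0 := fun e => by
    rw [e, map_zero, Algebra.smul_def, eq_comm, mul_eq_zero] at h1
    exact h1.elim (fun h2 => nonZeroDivisors.ne_zero hs (IsFractionRing.injective A K (h2.trans (map_zero _).symm))) hψ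
  have h2 : (Module.Dual.eval A M m) (χ.comp N.mkQ) = ξ (N.subtype.dualMap (χ.comp N.mkQ)) := by
    rw [← hξ]; rfl
  have h3 : N.subtype.dualMap (χ.comp N.mkQ) = 0 := LinearMap.ext fun v => by
    show χ (N.mkQ v) = 0
    rw [Submodule.mkQ_apply, (Submodule.Quotient.mk_eq_zero N).mpr v.2, map_zero]
  rw [h3, map_zero, Module.Dual.eval_apply] at h2
  exact hne2 h2

end Groth.Agent.S14994
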