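import Groth.Statements.S14997
import Mathlib
-- import your own Groth.Agent.* helpers here

set_option autoImplicit false
open HilbPol

namespace Groth.Agent.S14997

open Polynomial in
/-- Let d and ℓ be natural numbers with ℓ + 1 ≤ d, let a be a nonzero rational number and let P, Q be
polynomials with rational coefficients, both of degree exactly d. For a polynomial R of degree e
write R(m) = Σ_i α_i(R) m^i / i! (so α_i(R) = i! · coeff_i(R)) and let r_ℓ(R) ∈ ℚ^ℓ be the vector
(α_{e−1}(R)/α_e(R), …, α_{e−ℓ}(R)/α_e(R)) of the ℓ coefficients after the leading one of the reduced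
polynomial R/α_e(R), ordered lexicographically. The polynomials P(m) − P(m − a) and Q(m) − Q(m − a)
have degree d − 1, and r_ℓ(P) ≤ r_ℓ(Q) lexicographically if and only if r_ℓ(P(m) − P(m − a)) ≤
r_ℓ(Q(m) − Q(m − a)) lexicographically (hence the same with strict inequalities, by exchanging P and
Q). When P and Q are the Hilbert polynomials of pure d-dimensional coherent sheaves E → F on a
polarized projective scheme and D is a hypersurface section of degree a containing no associated
point of E or F, the Hilbert polynomials of E|_D and F|_D are P(m) − P(m − a) and Q(m) − Q(m − a),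
and the two sides are the comparisons of the ℓ-truncated reduced Hilbert polynomials p_ℓ(E) ≥ p_ℓ(F)
and p_ℓ(E|_D) ≥ p_ℓ(F|_D). (The published statement is phrased for the sheaves; this row is the
statement about their Hilbert polynomials that the displayed coefficient formula yields.) -/
theorem result (d ℓ : ℕ) (hℓ : ℓ + 1 ≤ d) (a : ℚ) (ha : a ≠ 0)
    (P Q : ℚ[X]) (hP : P.natDegree = d) (hQ : Q.natDegree = d) (hP0 : P ≠ 0) (hQ0 : Q ≠ 0) :
    toLex (fun j : Fin ℓ => ((P).coeff (d - 1 - (j : ℕ)) * (Nat.factorial (d - 1 - (j : ℕ)) : ℚ)) / ((P).coeff (d) * (Nat.factorial (d) : ℚ))) ≤ toLex (fun j : Fin ℓ => ((Q).coeff (d - 1 - (j : ℕ)) * (Nat.factorial (d - 1 - (j : ℕ)) : ℚ)) / ((Q).coeff (d) * (Nat.factorial (d) : ℚ))) ↔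
      toLex (fun j : Fin ℓ => ((P - P.comp (X - C a)).coeff ((d - 1) - 1 - (j : ℕ)) * (Nat.factorial ((d - 1) - 1 - (j : ℕ)) : ℚ)) / ((P - P.comp (X - C a)).coeff ((d - 1)) * (Nat.factorial ((d - 1)) : ℚ))) ≤
        toLex (fun j : Fin ℓ => ((Q - Q.comp (X - C a)).coeff ((d - 1) - 1 - (j : ℕ)) * (Nat.factorial ((d - 1) - 1 - (j : ℕ)) : ℚ)) / ((Q - Q.comp (X - C a)).coeff ((d - 1)) * (Nat.factorial ((d - 1)) : ℚ))) := by
  classical
  have lex : ∀ {n : ℕ} (x y x' y' : Fin n → ℚ),
      (∀ j, (∀ i < j, x i = y i) → x' j - y' j = x j - y j) →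
        (toLex x ≤ toLex y ↔ toLex x' ≤ toLex y') := by
    intro n x y x' y' hxy
    have hag : ∀ m : ℕ, (∀ i : Fin n, (i : ℕ) < m → x i = y i) ↔ (∀ i : Fin n, (i : ℕ) < m → x' i = y' i) := by
      intro m
      induction m with
      | zero => simp
      | succ m ih =>
        constructor
        · intro h i hi
          have h1 := hxy i fun k hk => h k (lt_trans hk hi)
          rw [h i hi, sub_self, sub_eq_zero] at h1
          exact h1
        · intro h i hi
          rcases Nat.lt_succ_iff_lt_or_eq.mp hi with hi' | hi'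
          · exact ih.mpr (fun k hk => h k (hk.trans (Nat.lt_succ_self m))) i hi'
          · have h1 := hxy i fun k hk => ih.mpr (fun l hl => h l (hl.trans (Nat.lt_succ_self m))) k (hi' ▸ hk)
            rw [h i hi, sub_self, eq_comm, sub_eq_zero] at h1
            exact h1
    have hagj : ∀ j : Fin n, (∀ i < j, x i = y i) ↔ ∀ i < j, x' i = y' i := fun j => hag j
    have heq : x = y ↔ x' = y' := by
      simpa [funext_iff] using hag n
    rw [le_iff_lt_or_eq, le_iff_lt_or_eq, toLex.injective.eq_iff, toLex.injective.eq_iff, heq]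
    refine or_congr ?_ Iff.rfl
    constructor
    · rintro ⟨i, h1, h2⟩
      refine ⟨i, (hagj i).mp h1, ?_⟩
      have := hxy i h1
      show x' i < y' i
      have h2' : x i < y i := h2
      linarith
    · rintro ⟨i, h1, h2⟩
      refine ⟨i, (hagj i).mpr h1, ?_⟩
      have := hxy i ((hagj i).mpr h1)
      show x i < y i
      have h2' : x' i < y' i := h2
      linarith
  have hc : ∀ R : ℚ[X], R.natDegree = d → ∀ i, (R - R.comp (X - C a)).coeff i =
      R.coeff i - ∑ m ∈ Finset.range (d + 1), (m.choose i : ℚ) * R.coeff m * (-a) ^ (m - i) := by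
    intro R hR i
    rw [Polynomial.coeff_sub]
    congr 1
    rw [sub_eq_add_neg X, ← Polynomial.C_neg, ← Polynomial.taylor_apply, Polynomial.taylor_coeff,
      Polynomial.hasseDeriv_apply, Polynomial.eval_sum]
    simp only [Polynomial.eval_monomial]
    rw [Polynomial.sum_over_range' _ (fun m => by simp) (d + 1) (by omega)]
  have htop : ∀ R : ℚ[X], R.natDegree = d → (R - R.comp (X - C a)).coeff (d - 1) = a * d * R.coeff d := by
    intro R hR
    rw [hc R hR, Finset.sum_eq_add (d - 1) d (by omega)]
    · rw [Nat.choose_self, Nat.sub_self, show d - (d - 1) = 1 by omega,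
        Nat.choose_symm_of_eq_add (show d = d - 1 + 1 by omega), Nat.choose_one_right]
      push_cast; ring
    · intro m hm hne
      rw [Finset.mem_range] at hm
      rw [Nat.choose_eq_zero_of_lt (by omega : m < d - 1)]; simp
    · simp
    · simp
  have hfac : (d.factorial : ℚ) = d * ((d - 1).factorial : ℚ) := by
    rw [← Nat.cast_mul, Nat.mul_factorial_pred (by omega)]
  have hlP : P.coeff d ≠ 0 := by rw [← hP]; exact Polynomial.leadingCoeff_ne_zero.mpr hP0
  have hlQ : Q.coeff d ≠ 0 := by rw [← hQ]; exact Polynomial.leadingCoeff_ne_zero.mpr hQ0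
  refine lex _ _ _ _ fun j hj => ?_
  beta_reduce at hj ⊢
  have hjl := j.2
  let i := d - 1 - 1 - (j : ℕ)
  have hi1 : d - 1 - (j : ℕ) = i + 1 := by omega
  have hsame : ∀ m, i + 1 < m → m ≤ d → P.coeff m / P.coeff d = Q.coeff m / Q.coeff d := by
    intro m h1 h2
    rcases eq_or_lt_of_le h2 with rfl | h2
    · rw [div_self hlP, div_self hlQ]
    · have := hj ⟨d - 1 - m, by omega⟩ (show d - 1 - m < (j : ℕ) by omega)
      simp only [show d - 1 - (d - 1 - m) = m by omega] at this
      have hm : (m.factorial : ℚ) ≠ 0 := Nat.cast_ne_zero.mpr m.factorial_ne_zero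
      have hd' : (d.factorial : ℚ) ≠ 0 := Nat.cast_ne_zero.mpr d.factorial_ne_zero
      field_simp at this ⊢
      linear_combination this
  have key : (P - P.comp (X - C a)).coeff i / P.coeff d - (Q - Q.comp (X - C a)).coeff i / Q.coeff d =
      a * (i + 1) * (P.coeff (i + 1) / P.coeff d - Q.coeff (i + 1) / Q.coeff d) := by
    rw [hc P hP, hc Q hQ, sub_div, sub_div, Finset.sum_div, Finset.sum_div]
    rw [sub_sub_sub_comm, ← Finset.sum_sub_distrib, Finset.sum_eq_add i (i + 1) (by omega)]
    · rw [Nat.choose_self, Nat.sub_self, Nat.add_sub_cancel_left, Nat.choose_succ_self_right]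
      push_cast; ring
    · intro m hm hne
      rw [Finset.mem_range] at hm
      rcases lt_or_ge m i with hmi | hmi
      · rw [Nat.choose_eq_zero_of_lt hmi]; simp
      · have := hsame m (by omega) (by omega)
        linear_combination (m.choose i : ℚ) * (-a) ^ (m - i) * this
    · simp; omega
    · simp; omega
  show (P - P.comp (X - C a)).coeff i * (i.factorial : ℚ) / ((P - P.comp (X - C a)).coeff (d - 1) * ((d - 1).factorial : ℚ)) -
    (Q - Q.comp (X - C a)).coeff i * (i.factorial : ℚ) / ((Q - Q.comp (X - C a)).coeff (d - 1) * ((d - 1).factorial : ℚ)) = _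
  rw [htop P hP, htop Q hQ, hi1, hfac, Nat.factorial_succ, Nat.cast_mul, Nat.cast_add, Nat.cast_one]
  have hd0 : (d : ℚ) ≠ 0 := Nat.cast_ne_zero.mpr (by omega)
  have hd1 : ((d - 1).factorial : ℚ) ≠ 0 := Nat.cast_ne_zero.mpr (d - 1).factorial_ne_zero
  generalize (P - P.comp (X - C a)).coeff i = u at key ⊢
  generalize (Q - Q.comp (X - C a)).coeff i = w at key ⊢
  field_simp at key ⊢
  linear_combination key

end Groth.Agent.S14997
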