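import Groth.Statements.S14998
import Groth.Agent.DVRCrit.Scheme
import Groth.Agent.S9495

set_option autoImplicit false
universe u
open CategoryTheory CategoryTheory.Limits AlgebraicGeometry
open AlgGrp

namespace Groth.Agent.S14998

set_option maxHeartbeats 1000000
set_option backward.isDefEq.respectTransparency false
set_option backward.isDefEq.respectTransparency.types false

open IsLocalRing

/-- A morphism from a reduced scheme into a closed subset factors through the closed subscheme. -/
theorem exists_factor_reduced {A X Z : Scheme.{u}} (g : A ⟶ X) (ι' : Z ⟶ X) [IsClosedImmersion ι'] [IsReduced A]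
    (h : Set.range g ⊆ Set.range ι') : ∃ m, m ≫ ι' = g := by
  haveI : Surjective (pullback.fst g ι') := ⟨fun a => by
    have : a ∈ Set.range (pullback.fst g ι') := by
      rw [Scheme.Pullback.range_fst]
      exact h ⟨a, rfl⟩
    exact this⟩
  haveI := isIso_of_isClosedImmersion_of_surjective (pullback.fst g ι')
  exact ⟨inv (pullback.fst g ι') ≫ pullback.snd g ι', by
    rw [Category.assoc, ← pullback.condition, IsIso.inv_hom_id_assoc]⟩

/-- Existence of lifts of squares through a covering gives universal closedness. -/
theorem universallyClosed_of_lifts {R Z T : Scheme.{u}} [IsLocallyNoetherian T] (e : R ⟶ Z) (π : Z ⟶ T)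
    [LocallyOfFiniteType e] [Surjective e] [LocallyOfFiniteType π] [QuasiCompact π]
    (hEx : ∀ (A : Type u) [CommRing A] [IsDomain A] [IsDiscreteValuationRing A]
      (σ : Spec (CommRingCat.of (FractionRing A)) ⟶ R) (y : Spec (CommRingCat.of A) ⟶ T),
      σ ≫ e ≫ π = Spec.map (CommRingCat.ofHom (algebraMap A (FractionRing A))) ≫ y →
        ∃ l : Spec (CommRingCat.of A) ⟶ Z, l ≫ π = y ∧
          Spec.map (CommRingCat.ofHom (algebraMap A (FractionRing A))) ≫ l = σ ≫ e) :
    UniversallyClosed π := by
  refine (AffTest.universallyClosed_iff_snd π).mpr fun n => ?_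
  let g := 𝔸(ULift.{u} (Fin n); T) ↘ T
  have : IsLocallyNoetherian 𝔸(ULift.{u} (Fin n); T) := LocallyOfFiniteType.isLocallyNoetherian g
  refine (isClosedMap_iff_specializingMap (pullback.snd π g)).mpr ?_
  intro z y' hsp
  rcases eq_or_ne y' (pullback.snd π g z) with rfl | hne
  · exact ⟨z, specializes_rfl, rfl⟩
  let e' : pullback (e ≫ π) g ⟶ pullback π g :=
    pullback.lift (pullback.fst (e ≫ π) g ≫ e) (pullback.snd (e ≫ π) g) (by rw [Category.assoc, pullback.condition])
  haveI : Surjective e' := by
    have h : (pullbackRightPullbackFstIso π g e).hom ≫ e' = pullback.snd e (pullback.fst π g) := by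
      apply pullback.hom_ext <;> simp [e', pullback.condition]
    have h2 : e' = (pullbackRightPullbackFstIso π g e).inv ≫ pullback.snd e (pullback.fst π g) := by
      rw [← h, Iso.inv_hom_id_assoc]
    rw [h2]
    infer_instance
  obtain ⟨r, hr⟩ := e'.surjective z
  have hrz : pullback.snd (e ≫ π) g r = pullback.snd π g z := by
    rw [← hr, ← Scheme.Hom.comp_apply, pullback.lift_snd]
  obtain ⟨A, _, _, _, σ, h, hh, w, hσ⟩ :=
    DVRCrit.exists_dvr_square (pullback.snd (e ≫ π) g) r y' (by rw [hrz]; exact hsp) (by rw [hrz]; exact hne)
  obtain ⟨l, hl, hl'⟩ := hEx A (σ ≫ pullback.fst (e ≫ π) g) (h ≫ g)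
    (by rw [Category.assoc, pullback.condition, reassoc_of% w])
  let L : Spec (CommRingCat.of A) ⟶ pullback π g := pullback.lift l h hl
  have hL : Spec.map (CommRingCat.ofHom (algebraMap A (FractionRing A))) ≫ L = σ ≫ e' := by
    apply pullback.hom_ext
    · simp [L, e', hl']
    · simp [L, e', w]
  refine ⟨L (closedPoint A), ?_, ?_⟩
  · show z ⤳ L (closedPoint A)
    rw [← hr, ← hσ (closedPoint (FractionRing A)), ← Scheme.Hom.comp_apply, ← hL, Scheme.Hom.comp_apply]
    exact (specializes_closedPoint _).map L.continuous
  · rw [← Scheme.Hom.comp_apply, pullback.lift_snd, hh]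

/-- Let k be a field and G a group scheme over k (a group object of schemes over Spec k) acting on a
k-scheme R of finite type. Let f : R → S and q : S → T be morphisms of k-schemes of finite type such
that q is separated, f is invariant under the action, and the composite p = q ∘ f is G-universally
closed: p is invariant and for every discrete valuation ring A over k with fraction field K, every
K-point of R and A-point of T over k forming a commutative square with p admit an A-point of R over
T restricting on Spec K to a translate of the given K-point by a K-point of G. Then the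
set-theoretic image f(R) is closed in S, and the reduced closed subscheme of S with underlying set
f(R) is proper over T. (The published statement fixes a connected algebraic group over the complex
numbers; this row allows any group scheme over any field, which is what the printed argument uses.) -/
theorem result (k : Type u) [Field k]
    (G R S T : Over (Spec (CommRingCat.of k))) [GrpObj G]
    [LocallyOfFiniteType R.hom] [CompactSpace ↥R.left] [LocallyOfFiniteType S.hom] [CompactSpace ↥S.left]
    [LocallyOfFiniteType T.hom] [CompactSpace ↥T.left]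
    (a : AlgGrp.Action G R) (f : R ⟶ S) (q : S ⟶ T) [IsSeparated q.left]
    (hf : W4c2lssmoduli.IsInvariantMor a f) (hp : W4c2lssmoduli.IsGUnivClosed a (f ≫ q)) :
    IsClosed (Set.range f.left.base) ∧
      IsProper ((Scheme.IdealSheafData.vanishingIdeal
          (⟨closure (Set.range f.left.base), isClosed_closure⟩ : TopologicalSpace.Closeds ↥S.left)).subschemeι ≫ q.left) := by
  classical
  haveI : IsLocallyNoetherian T.left := LocallyOfFiniteType.isLocallyNoetherian T.hom
  haveI : IsLocallyNoetherian S.left := LocallyOfFiniteType.isLocallyNoetherian S.hom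
  haveI : LocallyOfFiniteType f.left := by
    haveI : LocallyOfFiniteType (f.left ≫ S.hom) := by rw [Over.w]; infer_instance
    exact locallyOfFiniteType_of_comp f.left S.hom
  haveI : LocallyOfFiniteType q.left := by
    haveI : LocallyOfFiniteType (q.left ≫ T.hom) := by rw [Over.w]; infer_instance
    exact locallyOfFiniteType_of_comp q.left T.hom
  haveI : IsNoetherian S.left := {}
  haveI : IsNoetherian T.left := {}
  haveI : QuasiCompact f.left := by
    haveI : IsLocallyNoetherian R.left := LocallyOfFiniteType.isLocallyNoetherian R.hom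
    haveI : IsNoetherian R.left := {}
    infer_instance
  have H : ∀ (A : Type u) [CommRing A] [IsDomain A] [IsDiscreteValuationRing A]
      (σ : Spec (CommRingCat.of (FractionRing A)) ⟶ R.left) (y : Spec (CommRingCat.of A) ⟶ T.left),
      σ ≫ f.left ≫ q.left = Spec.map (CommRingCat.ofHom (algebraMap A (FractionRing A))) ≫ y →
        ∃ l : Spec (CommRingCat.of A) ⟶ R.left, l ≫ f.left ≫ q.left = y ∧
          Spec.map (CommRingCat.ofHom (algebraMap A (FractionRing A))) ≫ l ≫ f.left = σ ≫ f.left := by
    intro A _ _ _ σ y hy
    let sA := y ≫ T.hom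
    let j : Over.mk (Spec.map (CommRingCat.ofHom (algebraMap A (FractionRing A))) ≫ sA) ⟶ Over.mk sA :=
      Over.homMk (Spec.map (CommRingCat.ofHom (algebraMap A (FractionRing A)))) rfl
    let g : Over.mk (Spec.map (CommRingCat.ofHom (algebraMap A (FractionRing A))) ≫ sA) ⟶ R :=
      Over.homMk σ (by
        show σ ≫ R.hom = _ ≫ y ≫ T.hom
        rw [← Over.w f, ← Over.w q, ← reassoc_of% hy])
    let h : Over.mk sA ⟶ T := Over.homMk y rfl
    obtain ⟨i, γ, hi, hγ⟩ := hp.2 A (FractionRing A) sA g h (Over.OverMorphism.ext hy)
    have e1 := congrArg CommaMorphism.left hi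
    have e2 : j ≫ i ≫ f = g ≫ f := by
      rw [reassoc_of% hγ, hf, CartesianMonoidalCategory.lift_snd_assoc]
    exact ⟨i.left, e1, congrArg CommaMorphism.left e2⟩
  have hclosed : IsClosed (Set.range f.left) := by
    rw [S9495.result f.left]
    rintro a y' hay ⟨x, rfl⟩
    rcases eq_or_ne y' (f.left x) with rfl | hne
    · exact ⟨x, rfl⟩
    obtain ⟨A, _, _, _, σ, h, hh, w, hσ⟩ := DVRCrit.exists_dvr_square f.left x y' hay hne
    obtain ⟨l, hl, hl'⟩ := H A σ (h ≫ q.left) (by rw [reassoc_of% w])
    have hlh : l ≫ f.left = h := DVRCrit.ext_of_isSeparated q.left (by rw [Category.assoc, hl]) (by rw [hl', w])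
    exact ⟨l (IsLocalRing.closedPoint A), by rw [← Scheme.Hom.comp_apply, hlh, hh]⟩
  refine ⟨hclosed, ?_⟩
  let I := Scheme.IdealSheafData.vanishingIdeal
    (⟨closure (Set.range f.left.base), isClosed_closure⟩ : TopologicalSpace.Closeds ↥S.left)
  show IsProper (I.subschemeι ≫ q.left)
  have hr : Set.range I.subschemeι = Set.range f.left := by
    rw [Scheme.IdealSheafData.range_subschemeι]
    show closure (Set.range f.left.base) = _
    exact hclosed.closure_eq
  haveI : Surjective (pullback.snd f.left I.subschemeι) := ⟨fun z => by
    have : z ∈ Set.range (pullback.snd f.left I.subschemeι) := by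
      rw [Scheme.Pullback.range_snd]
      exact hr.le ⟨z, rfl⟩
    exact this⟩
  haveI : QuasiCompact q.left := inferInstance
  haveI : UniversallyClosed (I.subschemeι ≫ q.left) := by
    refine universallyClosed_of_lifts (pullback.snd f.left I.subschemeι) _ fun A _ _ _ σ y hy => ?_
    obtain ⟨l, hl, hl'⟩ := H A (σ ≫ pullback.fst f.left I.subschemeι) y (by
      rw [Category.assoc, pullback.condition_assoc]; exact hy)
    haveI : IsReduced (Spec (CommRingCat.of A)) := inferInstance
    obtain ⟨m, hm⟩ := exists_factor_reduced (l ≫ f.left) I.subschemeι (by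
      rintro _ ⟨a, rfl⟩
      exact hr.ge ⟨l a, rfl⟩)
    refine ⟨m, by rw [reassoc_of% hm, hl], ?_⟩
    rw [← cancel_mono I.subschemeι, Category.assoc, hm, hl', Category.assoc, pullback.condition, Category.assoc]
  exact { }

end Groth.Agent.S14998
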