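import Groth.Statements.S14999
import Groth.Agent.S6333
import Groth.Agent.S10862
import Groth.Agent.DVRCrit.Centre
-- import your own Groth.Agent.* helpers here

set_option autoImplicit false
universe u
open CategoryTheory CategoryTheory.Limits AlgebraicGeometry
open AlgGrp

namespace Groth.Agent.S14999

open CategoryTheory CategoryTheory.Limits MonoidalCategory CartesianMonoidalCategory AlgebraicGeometry

/-- The integral closure of a finite type algebra in a finitely generated field over it is finite. -/
theorem finite_integralClosure_field (k A K : Type u) [Field k] [CommRing A] [Algebra k A]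
    [Algebra.FiniteType k A] [Field K] [Algebra A K] [Algebra.EssFiniteType A K] :
    Module.Finite A (integralClosure A K) := by
  haveI : IsNoetherianRing A := Algebra.FiniteType.isNoetherianRing k A
  let I := RingHom.ker (algebraMap A K)
  haveI : I.IsPrime := RingHom.ker_isPrime _
  let B := A ⧸ I
  letI : Algebra B K := (RingHom.kerLift (algebraMap A K)).toAlgebra
  haveI : IsScalarTower A B K := IsScalarTower.of_algebraMap_eq fun a => rfl
  haveI : FaithfulSMul B K :=
    (faithfulSMul_iff_algebraMap_injective B K).2 (RingHom.kerLift_injective (algebraMap A K))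
  let F := FractionRing B
  letI : Algebra F K := FractionRing.liftAlgebra B K
  haveI : IsScalarTower B F K := FractionRing.isScalarTower_liftAlgebra B K
  haveI : Algebra.EssFiniteType B K := Algebra.EssFiniteType.of_comp A B K
  haveI : Algebra.EssFiniteType F K := Algebra.EssFiniteType.of_comp B F K
  let L := algebraicClosure F K
  haveI : FiniteDimensional F L := Groth.Agent.S6333.result (IntermediateField.fg_top F K)
  haveI : Algebra.FiniteType k B := Algebra.FiniteType.trans (S := A) inferInstance inferInstance
  haveI : Module.Finite B (integralClosure B L) :=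
    Groth.Agent.S10862.result k B F L
  letI : Algebra A L := ((algebraMap B L).comp (algebraMap A B)).toAlgebra
  haveI : IsScalarTower A B L := IsScalarTower.of_algebraMap_eq fun a => rfl
  haveI : Module.Finite A (integralClosure B L) := Module.Finite.trans B _
  have hmem : ∀ x : integralClosure A K, ∃ y : integralClosure B L, ((y : L) : K) = x := fun x => by
    have hx : IsIntegral B (x : K) := x.2.tower_top
    have hL : (x : K) ∈ L := mem_algebraicClosure_iff.2 (hx.tower_top : IsIntegral F (x : K)).isAlgebraic
    exact ⟨⟨⟨x, hL⟩, (isIntegral_algHom_iff ((L.val).restrictScalars B) Subtype.val_injective).1 hx⟩, rfl⟩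
  choose σ hσ using hmem
  have hinj : Function.Injective (fun y : integralClosure B L => ((y : L) : K)) :=
    Subtype.val_injective.comp Subtype.val_injective
  let ι : integralClosure A K →ₗ[A] integralClosure B L :=
    { toFun := σ
      map_add' := fun x y => hinj (by simp [hσ])
      map_smul' := fun c x => hinj (by
        simp [hσ, Algebra.smul_def, IsScalarTower.algebraMap_apply A B K]
        exact Or.inl rfl) }
  exact Module.Finite.of_injective ι fun x y h => Subtype.ext (by
    rw [← hσ x, ← hσ y]; exact congrArg (fun z : integralClosure B L => ((z : L) : K)) h)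


/-- Let k be a field, A a finitely generated k-algebra and G a group scheme over k acting on an integral
k-scheme Y of finite type; let p : Y → Spec A be a morphism over k which is G-universally closed
(invariant under the action, and for every discrete valuation ring over k with fraction field K
every commutative square of a K-point of Y and a point of Spec A with values in that ring lifts, up
to translation of the K-point by a K-point of G, to a point of Y with values in the ring). Call a
global function s on Y invariant when its pullbacks along the action morphism and along the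
projection G ×_k Y → Y agree. Then the invariant global functions form a finite A-module: there are
finitely many invariant functions such that every invariant function is a linear combination of them
with coefficients from A (acting on Γ(Y, O_Y) through p). (The published statement is for an
integral G-stable closed subscheme Y of a G-universally closed scheme over Spec A, with k the
complex numbers and G a connected algebraic group; such a Y is itself G-universally closed over Spec
A, and the printed argument uses only a field k and a group scheme G.) -/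
theorem result (k : Type u) [Field k]
    (G Y : Over (Spec (CommRingCat.of k))) [GrpObj G]
    [LocallyOfFiniteType Y.hom] [CompactSpace ↥Y.left] [IsIntegral Y.left]
    (A : Type u) [CommRing A] [Algebra k A] [Algebra.FiniteType k A]
    (a : AlgGrp.Action G Y)
    (p : Y ⟶ Over.mk (Spec.map (CommRingCat.ofHom (algebraMap k A))))
    (hp : W4c2lssmoduli.IsGUnivClosed a p) :
    ∃ t : Finset ↑Γ(Y.left, ⊤),
      (∀ s ∈ t, a.act.left.appTop s = (CartesianMonoidalCategory.snd G Y).left.appTop s) ∧
      ∀ s : ↑Γ(Y.left, ⊤), a.act.left.appTop s = (CartesianMonoidalCategory.snd G Y).left.appTop s →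
        ∃ c : ↑Γ(Y.left, ⊤) → A,
          s = ∑ x ∈ t, ((Scheme.ΓSpecIso (CommRingCat.of A)).inv ≫ p.left.appTop) (c x) * x := by
  classical
  haveI : IsNoetherianRing A := Algebra.FiniteType.isNoetherianRing k A
  let X := Y.left
  let φ : A →+* Γ(X, ⊤) := ((Scheme.ΓSpecIso (CommRingCat.of A)).inv ≫ p.left.appTop).hom
  let ρ : Γ(X, ⊤) →+* X.functionField := (X.presheaf.germ ⊤ (genericPoint X) trivial).hom
  have hρ : Function.Injective ρ := by
    haveI : Nonempty (⊤ : X.Opens) := ⟨⟨genericPoint X, trivial⟩⟩
    exact X.germToFunctionField_injective ⊤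
  haveI : LocallyOfFiniteType p.left := by
    haveI : LocallyOfFiniteType (p.left ≫ (Over.mk (Spec.map (CommRingCat.ofHom (algebraMap k A)))).hom) := by
      rw [Over.w]; infer_instance
    exact locallyOfFiniteType_of_comp p.left
      (Over.mk (Spec.map (CommRingCat.ofHom (algebraMap k A)))).hom
  let pL : X ⟶ Spec (CommRingCat.of A) := p.left
  haveI : LocallyOfFiniteType pL := ‹LocallyOfFiniteType p.left›
  let ψ : A →+* X.functionField := ρ.comp φ
  letI : Algebra A X.functionField := ψ.toAlgebra
  haveI : Algebra.EssFiniteType A X.functionField := by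
    have h : ψ = (Groth.Agent.DVRCrit.toFF pL ⊤ trivial).comp (Scheme.ΓSpecIso (CommRingCat.of A)).inv.hom := by
      ext c
      simp only [ψ, RingHom.comp_apply]
      rw [Groth.Agent.DVRCrit.toFF_eq pL (V := ⊤) trivial (U := ⊤) le_top trivial]
      simp [φ, ρ, pL, Scheme.Hom.appLE]
    have h2 : ψ.EssFiniteType := by
      rw [h]
      exact RingHom.EssFiniteType.comp
        (RingHom.FiniteType.essFiniteType (RingHom.FiniteType.of_surjective _
          (Scheme.ΓSpecIso (CommRingCat.of A)).commRingCatIsoToRingEquiv.symm.surjective))
        (Groth.Agent.DVRCrit.toFF_essFiniteType pL (isAffineOpen_top _) trivial)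
    exact h2
  letI : Algebra A Γ(X, ⊤) := φ.toAlgebra
  let aa : Γ(X, ⊤) →+* Γ((G ⊗ Y).left, ⊤) := a.act.left.appTop.hom
  let ss : Γ(X, ⊤) →+* Γ((G ⊗ Y).left, ⊤) := (CartesianMonoidalCategory.snd G Y).left.appTop.hom
  have hφinv : ∀ c, aa (φ c) = ss (φ c) := fun c => by
    have h := congrArg CommaMorphism.left hp.1
    simp only [Over.comp_left] at h
    have h2 := congrArg (fun m : (G ⊗ Y).left ⟶ Spec (CommRingCat.of A) =>
      m.appTop ((Scheme.ΓSpecIso (CommRingCat.of A)).inv c)) h
    simpa [aa, ss, φ, Scheme.Hom.comp_appTop] using h2
  let M : Submodule A Γ(X, ⊤) :=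
    { carrier := {s | aa s = ss s}
      zero_mem' := by simp
      add_mem' := fun {x y} hx hy => by
        simp only [Set.mem_setOf_eq, map_add] at hx hy ⊢; rw [hx, hy]
      smul_mem' := fun c x hx => by
        show aa (φ c * x) = ss (φ c * x)
        rw [map_mul, map_mul, hφinv, show aa x = ss x from hx] }
  -- invariant functions are integral over `A`
  have hint : ∀ s : M, IsIntegral A (ρ s.1) := by
    intro s
    by_contra hni
    obtain ⟨W, hW, hsW⟩ : ∃ W : ValuationSubring X.functionField,
        (∀ c, ψ c ∈ W) ∧ ρ s.1 ∉ W := by
      have hs' : ρ s.1 ∉ (integralClosure A X.functionField).toSubring := hni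
      haveI : IsIntegrallyClosedIn (integralClosure A X.functionField).toSubring X.functionField :=
        inferInstanceAs (IsIntegrallyClosedIn (integralClosure A X.functionField) X.functionField)
      obtain ⟨W, hle, hsW⟩ := Subring.exists_le_valuationSubring_of_isIntegrallyClosedIn hs'
      exact ⟨W, fun c => hle ((integralClosure A X.functionField).algebraMap_mem c), hsW⟩
    obtain ⟨R, hR, hψR, hsR⟩ := Groth.Agent.DVRCrit.exists_dvr_not_mem ψ ‹Algebra.EssFiniteType A X.functionField›
      W hW {ρ s.1} (by simpa using hsW) (Finset.singleton_nonempty _)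
    haveI := hR
    let h₀ : Spec (CommRingCat.of R) ⟶ Spec (CommRingCat.of A) :=
      Spec.map (CommRingCat.ofHom (ψ.codRestrict R.toSubring hψR))
    let sA : Spec (CommRingCat.of R) ⟶ Spec (CommRingCat.of k) :=
      h₀ ≫ Spec.map (CommRingCat.ofHom (algebraMap k A))
    let j := Spec.map (CommRingCat.ofHom (algebraMap R X.functionField))
    have hgp : X.fromSpecStalk (genericPoint X) ≫ pL = j ≫ h₀ := by
      refine ext_of_isAffine ?_
      rw [Scheme.Hom.comp_appTop, Scheme.Hom.comp_appTop, Scheme.fromSpecStalk_appTop]
      rw [← cancel_epi (Scheme.ΓSpecIso (CommRingCat.of A)).inv,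
        ← Category.assoc (Scheme.ΓSpecIso (CommRingCat.of A)).inv (h₀.appTop),
        show (Scheme.ΓSpecIso (CommRingCat.of A)).inv ≫ h₀.appTop = _ from
          (Scheme.ΓSpecIso_inv_naturality _).symm,
        Category.assoc (CommRingCat.ofHom (ψ.codRestrict R.toSubring hψR)),
        show (Scheme.ΓSpecIso (CommRingCat.of R)).inv ≫ j.appTop = _ from
          (Scheme.ΓSpecIso_inv_naturality _).symm]
      ext c
      rfl
    let g : Over.mk (j ≫ sA) ⟶ Y := Over.homMk (X.fromSpecStalk (genericPoint X)) (by
      show X.fromSpecStalk (genericPoint X) ≫ Y.hom = j ≫ h₀ ≫ Spec.map (CommRingCat.ofHom (algebraMap k A))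
      rw [← reassoc_of% hgp, ← Over.w p]
      rfl)
    obtain ⟨i, γ, -, hγ⟩ := hp.2 R X.functionField sA g (Over.homMk h₀ rfl) (Over.OverMorphism.ext hgp)
    have e := congrArg (fun m : Over.mk (j ≫ sA) ⟶ Y => m.left.appTop s.1) hγ
    simp only [Over.comp_left, Scheme.Hom.comp_appTop, CommRingCat.comp_apply, Over.homMk_left] at e
    have hs : aa s.1 = ss s.1 := s.2
    have e2 : (CartesianMonoidalCategory.lift γ g).left.appTop (ss s.1) = g.left.appTop s.1 := by
      have := congrArg (fun m : Over.mk (j ≫ sA) ⟶ Y => m.left.appTop s.1)
        (CartesianMonoidalCategory.lift_snd γ g)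
      simp only [Over.comp_left, Scheme.Hom.comp_appTop, CommRingCat.comp_apply] at this
      exact this
    have e3 : j.appTop (i.left.appTop s.1) = (X.fromSpecStalk (genericPoint X)).appTop s.1 := by
      refine e.trans ?_
      show (CartesianMonoidalCategory.lift γ g).left.appTop (aa s.1) = _
      rw [hs]
      exact e2
    refine hsR _ (Finset.mem_singleton_self _) ?_
    have e4 : (j.appTop ≫ (Scheme.ΓSpecIso (X.presheaf.stalk (genericPoint X))).hom) (i.left.appTop s.1) =
        ((X.fromSpecStalk (genericPoint X)).appTop ≫ (Scheme.ΓSpecIso (X.presheaf.stalk (genericPoint X))).hom) s.1 :=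
      congrArg (Scheme.ΓSpecIso (X.presheaf.stalk (genericPoint X))).hom e3
    rw [Scheme.fromSpecStalk_appTop] at e4
    simp only [Category.assoc, homOfLE_refl, op_id, CategoryTheory.Functor.map_id, Category.id_comp,
      Iso.inv_hom_id, Category.comp_id] at e4
    rw [show j.appTop ≫ (Scheme.ΓSpecIso (X.presheaf.stalk (genericPoint X))).hom =
      (Scheme.ΓSpecIso (CommRingCat.of R)).hom ≫ CommRingCat.ofHom (algebraMap R X.functionField) from
        Scheme.ΓSpecIso_naturality _] at e4
    rw [show ρ s.1 = X.presheaf.germ ⊤ (genericPoint X) trivial s.1 from rfl, ← e4]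
    exact Subtype.mem _
  haveI := finite_integralClosure_field k A X.functionField
  let ι : M →ₗ[A] integralClosure A X.functionField :=
    { toFun := fun s => ⟨ρ s.1, hint s⟩
      map_add' := fun x y => Subtype.ext (map_add ρ _ _)
      map_smul' := fun c x => Subtype.ext (map_mul ρ _ _) }
  haveI : Module.Finite A M :=
    Module.Finite.of_injective ι fun x y h => Subtype.ext (hρ (congrArg Subtype.val h))
  obtain ⟨t, ht⟩ := Module.Finite.iff_fg.1 ‹Module.Finite A M›
  refine ⟨t, fun s hs => (ht ▸ Submodule.subset_span hs : s ∈ M), fun s hs => ?_⟩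
  have hs' : s ∈ Submodule.span A (t : Set Γ(X, ⊤)) := ht.symm ▸ (hs : s ∈ M)
  obtain ⟨c, -, hc⟩ := Submodule.mem_span_finset.1 hs'
  exact ⟨c, hc.symm⟩

end Groth.Agent.S14999
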