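import Groth.Statements.S15004
import Mathlib
-- import your own Groth.Agent.* helpers here

set_option autoImplicit false
universe u v
open Harb

namespace Groth.Agent.S15004

/-- Let C be a finite family of d curves, recorded as an incidence relation between a type of points and
a finite index type, such that any two distinct curves of the family meet in exactly h points; for a
point p write r_p for the number of curves of the family through p. Then for every curve C_i of the
family, Σ_{p ∈ C_i} (r_p − 1) = h (d − 1), the sum being finitely supported. (The published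
statement is for a transversal arrangement of curves on a geometrically ruled surface with invariant
e, all numerically equivalent to a C₀ + b f, where any two of the curves meet transversally in h =
2ab − a²e points; only this common pairwise intersection count enters the proof, and this row states
the identity for an abstract incidence relation.) -/
theorem result (P : Type u) (ι : Type v) [Fintype ι]
    (inc : P → ι → Prop) (h : ℕ)
    (hfin : ∀ i j : ι, i ≠ j → {p : P | inc p i ∧ inc p j}.Finite)
    (hcount : ∀ i j : ι, i ≠ j → {p : P | inc p i ∧ inc p j}.ncard = h) (i : ι) :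
    ∑ᶠ p ∈ {p : P | inc p i}, (Nat.card {j : ι // inc p j} - 1) = h * (Fintype.card ι - 1) := by
  classical
  have hfinB : ({p : P | inc p i ∧ ∃ j, j ≠ i ∧ inc p j}).Finite := by
    refine Set.Finite.subset (Set.finite_iUnion (fun j : {j // j ≠ i} => hfin i j (Ne.symm j.2))) ?_
    rintro p ⟨hp, j, hj, hpj⟩
    exact Set.mem_iUnion.mpr ⟨⟨j, hj⟩, hp, hpj⟩
  set B := hfinB.toFinset with hB
  have hcard : ∀ p, inc p i → Nat.card {j : ι // inc p j} - 1
      = ((Finset.univ.erase i).filter fun j => inc p j).card := by
    intro p hp
    rw [Nat.card_eq_fintype_card, Fintype.card_subtype, Finset.filter_erase,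
      Finset.card_erase_of_mem (by simp [hp])]
  rw [finsum_mem_eq_sum_of_inter_support_eq _ (t := B) ?_]
  · rw [Finset.sum_congr rfl fun p hp => hcard p (hfinB.mem_toFinset.mp hp).1]
    simp only [Finset.card_filter]
    rw [Finset.sum_comm]
    simp only [← Finset.card_filter]
    rw [Finset.sum_congr rfl (g := fun _ => h) fun j hj => ?_, Finset.sum_const,
      Finset.card_erase_of_mem (Finset.mem_univ i), Finset.card_univ, smul_eq_mul, mul_comm]
    have hji := Finset.ne_of_mem_erase hj
    rw [← hcount i j (Ne.symm hji), ← Set.ncard_coe_finset]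
    congr 1
    ext p
    simp only [Finset.coe_filter, hB, Set.Finite.mem_toFinset, Set.mem_setOf_eq]
    exact ⟨fun hp => ⟨hp.1.1, hp.2⟩, fun hp => ⟨⟨hp.1, j, hji, hp.2⟩, hp.2⟩⟩
  · ext p
    simp only [Set.mem_inter_iff, Set.mem_setOf_eq, Function.mem_support, hB, Set.Finite.coe_toFinset]
    refine ⟨fun ⟨hp, hne⟩ => ⟨⟨hp, ?_⟩, hne⟩, fun hp => ⟨hp.1.1, hp.2⟩⟩
    rw [hcard p hp] at hne
    obtain ⟨j, hj⟩ := Finset.card_ne_zero.mp hne
    obtain ⟨hj1, hj2⟩ := Finset.mem_filter.mp hj
    exact ⟨j, Finset.ne_of_mem_erase hj1, hj2⟩

end Groth.Agent.S15004
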