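import Groth.Statements.S15005
import Groth.Agent.S15004
import Mathlib
-- import your own Groth.Agent.* helpers here

set_option autoImplicit false
universe u v
open Harb

namespace Groth.Agent.S15005

/-- Let C be a finite family of d curves, recorded as an incidence relation between a type of points and
a finite index type, such that any two distinct curves of the family meet in exactly h points; let
t_k be the number of k-fold points (points lying on exactly k curves of the family). Then f₂ − f₁ =
Σ_{k ≥ 2} k(k − 1) t_k equals h d(d − 1), where f_i = Σ_{k ≥ 2} k^i t_k. (The published statement is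
for a transversal arrangement of curves on a geometrically ruled surface with invariant e, all
numerically equivalent to a C₀ + b f, where any two of the curves meet transversally in h = 2ab −
a²e points; only this common pairwise intersection count enters the proof, and this row states the
identity for an abstract incidence relation.) -/
theorem result (P : Type u) (ι : Type v) [Fintype ι]
    (inc : P → ι → Prop) (h : ℕ)
    (hfin : ∀ i j : ι, i ≠ j → {p : P | inc p i ∧ inc p j}.Finite)
    (hcount : ∀ i j : ι, i ≠ j → {p : P | inc p i ∧ inc p j}.ncard = h) :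
    ∑ k ∈ Finset.Icc 2 (Fintype.card ι), k * (k - 1) * Nat.card {p : P // Nat.card {j : ι // inc p j} = k} =
      h * (Fintype.card ι * (Fintype.card ι - 1)) := by
  classical
  let r : P → ℕ := fun p => Nat.card {j : ι // inc p j}
  have hr : ∀ p, r p = (Finset.univ.filter fun j => inc p j).card := fun p => by
    simp only [r, Nat.card_eq_fintype_card, Fintype.card_subtype]
  have hfinS : ({p : P | 2 ≤ r p}).Finite := by
    refine Set.Finite.subset (Set.finite_iUnion (fun ij : {ij : ι × ι // ij.1 ≠ ij.2} =>
      hfin _ _ ij.2)) ?_
    intro p hp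
    rw [Set.mem_setOf_eq, hr] at hp
    obtain ⟨a, b, hab, hne⟩ := Finset.one_lt_card_iff.mp hp |> fun ⟨a, b, ha, hb, hne⟩ =>
      (⟨a, b, And.intro ha hb, hne⟩ : ∃ a b, (a ∈ Finset.univ.filter (fun j => inc p j) ∧
        b ∈ Finset.univ.filter (fun j => inc p j)) ∧ a ≠ b)
    exact Set.mem_iUnion.mpr ⟨⟨(a, b), hne⟩, (Finset.mem_filter.mp hab.1).2, (Finset.mem_filter.mp hab.2).2⟩
  set S := hfinS.toFinset with hS
  have h1 : ∑ p ∈ S, r p * (r p - 1) = h * (Fintype.card ι * (Fintype.card ι - 1)) := by
    calc ∑ p ∈ S, r p * (r p - 1) = ∑ p ∈ S, ∑ i : ι, (if inc p i then r p - 1 else 0) := by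
          refine Finset.sum_congr rfl fun p _ => ?_
          rw [← Finset.sum_filter, Finset.sum_const, smul_eq_mul, ← hr]
      _ = ∑ i : ι, ∑ p ∈ S.filter (fun p => inc p i), (r p - 1) := by
          rw [Finset.sum_comm]
          simp only [← Finset.sum_filter]
      _ = ∑ _i : ι, h * (Fintype.card ι - 1) := by
          refine Finset.sum_congr rfl fun i _ => ?_
          rw [← Groth.Agent.S15004.result P ι inc h hfin hcount i]
          symm
          refine finsum_mem_eq_sum_of_inter_support_eq _ ?_
          ext p
          simp only [Set.mem_inter_iff, Set.mem_setOf_eq, Function.mem_support, Finset.coe_filter, hS,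
            Set.Finite.mem_toFinset]
          exact ⟨fun hp => ⟨⟨by show 2 ≤ r p; have := hp.2; simp only [r] at *; omega, hp.1⟩, hp.2⟩,
            fun hp => ⟨hp.1.2, hp.2⟩⟩
      _ = _ := by rw [Finset.sum_const, Finset.card_univ, smul_eq_mul, mul_left_comm]
  rw [← h1, ← Finset.sum_fiberwise_of_maps_to (g := r) (t := Finset.Icc 2 (Fintype.card ι)) fun p hp =>
    Finset.mem_Icc.mpr ⟨hfinS.mem_toFinset.mp hp, (hr p).le.trans ((Finset.card_le_univ _))⟩]
  refine Finset.sum_congr rfl fun k hk => ?_
  rw [Finset.sum_congr rfl fun p hp => by rw [(Finset.mem_filter.mp hp).2], Finset.sum_const, smul_eq_mul,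
    mul_comm (k * (k - 1))]
  congr 1
  rw [← Nat.card_eq_finsetCard]
  refine Nat.card_congr (Equiv.subtypeEquivRight fun p => ?_)
  simp only [hS, Finset.mem_filter, Set.Finite.mem_toFinset, Set.mem_setOf_eq]
  exact ⟨fun hp => ⟨le_of_le_of_eq (Finset.mem_Icc.mp hk).1 hp.symm, hp⟩, fun hp => hp.2⟩

end Groth.Agent.S15005
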