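import Groth.Statements.S15006
import Groth.Agent.HarbPairLib
import Mathlib
-- import your own Groth.Agent.* helpers here

set_option autoImplicit false
universe u v
open Harb

namespace Groth.Agent.S15006

/-- Let C be a finite family of d ≥ 2 curves, recorded as an incidence relation between a type of points
and a finite index type, such that any two distinct curves of the family meet in exactly h ≥ 1
points and no point lies on every curve of the family. Then f₀ ≥ d: the number of multiple points
(points lying on at least two of the curves) is at least the number of curves. (The published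
statement is for a transversal arrangement of d ≥ 4 curves on a geometrically ruled surface with
invariant e ≥ 4, all numerically equivalent to a C₀ + b f with a ≥ 1 and b ≥ ae and with no point
common to all of them, satisfying in addition either a ≥ 2, or a = 1 with some four of the curves
having no point in common, where any two of the curves meet transversally in h = 2ab − a²e ≥ 1
points; only d ≥ 2, h ≥ 1 and the absence of a common point enter the proof, and this row states the
bound for an abstract incidence relation.) -/
theorem result (P : Type u) (ι : Type v) [Fintype ι]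
    (inc : P → ι → Prop) (h : ℕ) (hh : 0 < h) (hd : 2 ≤ Fintype.card ι)
    (hfin : ∀ i j : ι, i ≠ j → {p : P | inc p i ∧ inc p j}.Finite)
    (hcount : ∀ i j : ι, i ≠ j → {p : P | inc p i ∧ inc p j}.ncard = h)
    (hnone : ∀ p : P, ∃ i : ι, ¬ inc p i) :
    Fintype.card ι ≤ Nat.card {p : P // 2 ≤ Nat.card {j : ι // inc p j}} := by
  classical
  let T := {p : P | 2 ≤ Nat.card {j : ι // inc p j}}
  have hT : T.Finite := HarbPairLib.finite_mult inc hfin
  haveI : Fintype T := hT.fintype
  show Fintype.card ι ≤ Nat.card T
  rw [Nat.card_eq_fintype_card]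
  let v : ι → T → ℚ := fun i p => if inc p.1 i then 1 else 0
  let r : ι → ι → ℕ := fun i j => (Finset.univ.filter fun p : T => inc p.1 i ∧ inc p.1 j).card
  have hr : ∀ i j, i ≠ j → r i j = h := by
    intro i j hij
    rw [← hcount i j hij]
    have e : (Subtype.val '' (↑(Finset.univ.filter fun p : T => inc p.1 i ∧ inc p.1 j) : Set T)) =
        {p : P | inc p i ∧ inc p j} := by
      ext p
      simp only [Set.mem_image, Finset.coe_filter, Finset.mem_univ, true_and, Set.mem_ofPred_eq]
      exact ⟨fun ⟨q, hq, e⟩ => e ▸ hq, fun hp => ⟨⟨p, HarbPairLib.mem_mult inc hij hp.1 hp.2⟩, hp, rfl⟩⟩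
    rw [← e, Set.ncard_image_of_injective _ Subtype.val_injective, Set.ncard_coe_finset]
  have hbig : ∀ i, h < r i i := by
    intro i
    obtain ⟨j, hji⟩ := Fintype.exists_ne_of_one_lt_card (lt_of_lt_of_le one_lt_two hd) i
    have hij : i ≠ j := hji.symm
    obtain ⟨p, hpi, hpj⟩ := Set.nonempty_of_ncard_ne_zero (s := {p : P | inc p i ∧ inc p j})
      (by rw [hcount i j hij]; omega)
    obtain ⟨k, hk⟩ := hnone p
    have hik : i ≠ k := fun e => hk (e ▸ hpi)
    obtain ⟨q, hqi, hqk, hqj⟩ := HarbPairLib.extra inc h hfin hcount hij hik hpi hpj hk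
    rw [← hr i j hij]
    refine Finset.card_lt_card ⟨fun x hx => ?_, fun hsub => ?_⟩
    · simp only [Finset.mem_filter, Finset.mem_univ, true_and] at hx ⊢
      exact ⟨hx.1, hx.1⟩
    · have := hsub (show (⟨q, HarbPairLib.mem_mult inc hik hqi hqk⟩ : T) ∈
        Finset.univ.filter (fun p : T => inc p.1 i ∧ inc p.1 i) by simp [hqi])
      simp only [Finset.mem_filter] at this
      exact hqj this.2.2
  have hli : LinearIndependent ℚ v := by
    rw [Fintype.linearIndependent_iff]
    intro c hc i0
    have h0 : ∀ i, ∑ j, c i * c j * (r i j : ℚ) = c i * ∑ p : T, v i p * (∑ j, c j • v j) p := by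
      intro i
      simp only [Finset.sum_apply, Pi.smul_apply, smul_eq_mul, Finset.mul_sum]
      rw [Finset.sum_comm]
      refine Finset.sum_congr rfl fun j _ => ?_
      simp only [r, Finset.card_filter, Nat.cast_sum, Finset.mul_sum]
      refine Finset.sum_congr rfl fun p _ => ?_
      simp only [v]
      by_cases a : inc p.1 i <;> by_cases b : inc p.1 j <;> simp [a, b]
    have h1 : ∑ i, ∑ j, c i * c j * (r i j : ℚ) = 0 := by
      simp only [h0, hc, Pi.zero_apply, mul_zero, Finset.sum_const_zero]
    have h2 : ∑ i, ∑ j, c i * c j * (r i j : ℚ) =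
        (h : ℚ) * (∑ i, c i) ^ 2 + ∑ i, ((r i i : ℚ) - h) * c i ^ 2 := by
      rw [sq (∑ i, c i), Finset.sum_mul_sum, Finset.mul_sum, ← Finset.sum_add_distrib]
      refine Finset.sum_congr rfl fun i _ => ?_
      rw [Finset.mul_sum, ← Finset.add_sum_erase _ _ (Finset.mem_univ i),
        ← Finset.add_sum_erase _ (fun j => (h : ℚ) * (c i * c j)) (Finset.mem_univ i)]
      rw [Finset.sum_congr rfl fun j hj => show c i * c j * (r i j : ℚ) = (h : ℚ) * (c i * c j) by
        rw [hr i j (Ne.symm (Finset.ne_of_mem_erase hj))]; ring]
      ring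
    have hpos : ∀ i, 0 ≤ ((r i i : ℚ) - h) * c i ^ 2 := fun i =>
      mul_nonneg (sub_nonneg.mpr (by exact_mod_cast (hbig i).le)) (sq_nonneg _)
    have h3 : ∑ i, ((r i i : ℚ) - h) * c i ^ 2 = 0 := by
      have := Finset.sum_nonneg fun i (_ : i ∈ Finset.univ) => hpos i
      nlinarith [sq_nonneg (∑ i, c i), (Nat.cast_nonneg h : (0:ℚ) ≤ h)]
    have h4 := (Finset.sum_eq_zero_iff_of_nonneg fun i _ => hpos i).mp h3 i0 (Finset.mem_univ _)
    rcases mul_eq_zero.mp h4 with h5 | h5
    · have := hbig i0
      have : (h : ℚ) < (r i0 i0 : ℚ) := by exact_mod_cast this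
      linarith
    · exact pow_eq_zero_iff two_ne_zero |>.mp h5
  simpa [Module.finrank_fintype_fun_eq_card] using hli.fintype_card_le_finrank

end Groth.Agent.S15006
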