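import Groth.Statements.S15007
import Groth.Agent.HarbPairLib
import Mathlib
-- import your own Groth.Agent.* helpers here

set_option autoImplicit false
universe u v
open Harb

namespace Groth.Agent.S15007

/-- Let C be a finite family of d ≥ 2 curves, recorded as an incidence relation between a type of points
and a finite index type, such that any two distinct curves of the family meet in exactly h ≥ 1
points and no point lies on every curve of the family. Then f₀ ≥ h + 2: the number of multiple
points (points lying on at least two of the curves) is at least h + 2. (The published claim reads f₀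
≥ 2ab − a²e + 2 for a transversal arrangement of d ≥ 4 curves on a geometrically ruled surface with
invariant e ≥ 4, all numerically equivalent to a C₀ + b f with a ≥ 1 and b ≥ ae and with no point
common to all of them, satisfying in addition either a ≥ 2, or a = 1 with some four of the curves
having no point in common, where any two of the curves meet transversally in h = 2ab − a²e ≥ 1
points; only d ≥ 2, h ≥ 1 and the absence of a common point enter the proof, and this row states the
bound for an abstract incidence relation.) -/
theorem result (P : Type u) (ι : Type v) [Fintype ι]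
    (inc : P → ι → Prop) (h : ℕ) (hh : 0 < h) (hd : 2 ≤ Fintype.card ι)
    (hfin : ∀ i j : ι, i ≠ j → {p : P | inc p i ∧ inc p j}.Finite)
    (hcount : ∀ i j : ι, i ≠ j → {p : P | inc p i ∧ inc p j}.ncard = h)
    (hnone : ∀ p : P, ∃ i : ι, ¬ inc p i) :
    h + 2 ≤ Nat.card {p : P // 2 ≤ Nat.card {j : ι // inc p j}} := by
  classical
  let T := {p : P | 2 ≤ Nat.card {j : ι // inc p j}}
  have hT : T.Finite := HarbPairLib.finite_mult inc hfin
  show h + 2 ≤ Nat.card T
  rw [Nat.card_coe_set_eq]
  obtain ⟨i, j, hij⟩ := Fintype.exists_pair_of_one_lt_card (α := ι) (lt_of_lt_of_le one_lt_two hd)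
  obtain ⟨p, hpi, hpj⟩ := Set.nonempty_of_ncard_ne_zero (s := {p : P | inc p i ∧ inc p j})
    (by rw [hcount i j hij]; omega)
  obtain ⟨k, hk⟩ := hnone p
  have hik : i ≠ k := fun e => hk (e ▸ hpi)
  have hjk : j ≠ k := fun e => hk (e ▸ hpj)
  obtain ⟨q, hqi, hqk, hqj⟩ := HarbPairLib.extra inc h hfin hcount hij hik hpi hpj hk
  obtain ⟨r, hrj, hrk, hri⟩ := HarbPairLib.extra inc h hfin hcount hij.symm hjk hpj hpi hk
  have hsub : insert q (insert r {p : P | inc p i ∧ inc p j}) ⊆ T := by
    rintro x (rfl | rfl | hx)
    · exact HarbPairLib.mem_mult inc hik hqi hqk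
    · exact HarbPairLib.mem_mult inc hjk hrj hrk
    · exact HarbPairLib.mem_mult inc hij hx.1 hx.2
  refine le_trans (le_of_eq ?_) (Set.ncard_le_ncard hsub hT)
  rw [Set.ncard_insert_of_notMem _ ((hfin i j hij).insert r), Set.ncard_insert_of_notMem _ (hfin i j hij),
    hcount i j hij]
  · exact fun hr => hri hr.1
  · rintro (rfl | hq)
    · exact hri hqi
    · exact hqj hq.2

end Groth.Agent.S15007
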