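import Groth.Statements.S15008
import Mathlib
import Groth.Agent.TFCanonLib.Basic
import Groth.Agent.TFCurvNormLib.Basic

set_option autoImplicit false
universe u
open CategoryTheory
open TFCurv

namespace Groth.Agent.S15008

/-- Let O be a one-dimensional Noetherian local domain with algebraically closed residue field whose
integral closure O~ in its fraction field K is a finite O-module, and suppose O is not Gorenstein.
If w is an O-submodule of K with O ⊆ w ⊆ O~ whose injective dimension as an O-module is at most one
(a canonical ideal placed between O and O~), then length(w/O) + length(O~/C) = 2 · length(O~/O),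
where C is the conductor of O in O~. -/
theorem result (O : Type u) [CommRing O] [IsDomain O] [IsNoetherianRing O] [IsLocalRing O] (hdim : ringKrullDim O = 1) [IsAlgClosed (IsLocalRing.ResidueField O)] (K : Type u) [Field K] [Algebra O K] [IsFractionRing O K] (hfin : Module.Finite O ↥(integralClosure O K)) (hG : ¬ LocCoh.IsGorensteinLocalRing O) (ω : Submodule O K) (hω1 : (1 : Submodule O K) ≤ ω) (hω2 : ω ≤ (Subalgebra.toSubmodule (integralClosure O K))) (hωinj : HasInjectiveDimensionLT (ModuleCat.of O ↥ω) 2) : Module.length O (↥ω ⧸ Submodule.comap ω.subtype (1 : Submodule O K)) + Module.length O (↥(integralClosure O K) ⧸ ((1 : Submodule O K).colon (Subalgebra.toSubmodule (integralClosure O K))) • (⊤ : Submodule O ↥(integralClosure O K))) = 2 * Module.length O (↥(integralClosure O K) ⧸ Submodule.comap (Subalgebra.toSubmodule (integralClosure O K)).subtype (1 : Submodule O K)) := by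
  haveI := hfin
  haveI : Ring.DimensionLEOne O := TFCurvNormLib.dimensionLEOne hdim
  have hfld : IsLocalRing.maximalIdeal O ≠ ⊥ := fun h => by
    have h1 := IsLocalRing.maximalIdeal_height_eq_ringKrullDim (R := O)
    rw [h, hdim, Ideal.height_bot] at h1
    exact zero_ne_one (α := WithBot ℕ∞) h1
  set N : Submodule O K := Subalgebra.toSubmodule (integralClosure O K) with hN
  have hNfg : N.FG := Module.Finite.iff_fg.mp hfin
  have hωfg : ω.FG := by
    haveI : Module.Finite O ↥N := hfin
    simpa [Submodule.map_comap_eq, Submodule.range_subtype, inf_of_le_right hω2] using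
      (IsNoetherian.noetherian (ω.comap N.subtype)).map N.subtype
  have h1 : (1 : Submodule O K) ≤ N := hω1.trans hω2
  have hone : (1 : K) ∈ ω := hω1 (Submodule.one_le.mp le_rfl)
  have hω0 : ω ≠ ⊥ := fun h => one_ne_zero (α := K) ((Submodule.mem_bot O).mp (h ▸ hone))
  have hdiv1 : ω / 1 = ω := le_antisymm
    (fun c hc => by simpa using Submodule.mem_div_iff_forall_mul_mem.mp hc 1 (Submodule.one_le.mp le_rfl))
    (Submodule.le_div_iff.mpr fun c hc z hz => by
      obtain ⟨a, rfl⟩ := Submodule.mem_one.mp hz
      rw [mul_comm, ← Algebra.smul_def]; exact ω.smul_mem a hc)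
  have h1fg : (1 : Submodule O K).FG := by rw [Submodule.one_eq_span]; exact Submodule.fg_span_singleton _
  have hend : ω / ω = 1 := by
    have := TFCanonLib.div_div hfld ω hω0 hωfg 1 h1fg
    rwa [hdiv1] at this
  have hC : ω / N = 1 / N := le_antisymm (Submodule.le_div_iff.mpr fun c hc y hy => hend ▸
      Submodule.mem_div_iff_forall_mul_mem.mpr fun w hw => by
        rw [mul_assoc]
        exact Submodule.mem_div_iff_forall_mul_mem.mp hc _ ((integralClosure O K).mul_mem hy (hω2 hw)))
    (Submodule.le_div_iff.mpr fun c hc y hy => hω1 (Submodule.mem_div_iff_forall_mul_mem.mp hc y hy))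
  have hC1 : (1 : Submodule O K) / N ≤ 1 := fun c hc => by
    simpa using Submodule.mem_div_iff_forall_mul_mem.mp hc 1 (h1 (Submodule.one_le.mp le_rfl))
  have hq : ((1 : Submodule O K).colon N) • (⊤ : Submodule O ↥(integralClosure O K)) =
      ((1 : Submodule O K) / N).comap N.subtype := by
    apply le_antisymm
    · refine Submodule.smul_le.mpr fun a ha x _ => Submodule.mem_div_iff_forall_mul_mem.mpr fun y hy => ?_
      show (a • (x : K)) * y ∈ _
      rw [smul_mul_assoc]
      exact Submodule.mem_colon.mp ha _ ((integralClosure O K).mul_mem x.2 hy)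
    · intro x hx
      obtain ⟨a, ha⟩ := Submodule.mem_one.mp (hC1 hx)
      have hx' : x = a • (1 : ↥(integralClosure O K)) := Subtype.ext (by
        show (x : K) = a • (1 : K)
        rw [Algebra.smul_def, mul_one]; exact ha.symm)
      rw [hx']
      refine Submodule.smul_mem_smul (Submodule.mem_colon.mpr fun y hy => ?_) trivial
      rw [Algebra.smul_def, ha]
      exact Submodule.mem_div_iff_forall_mul_mem.mp hx y hy
  have hδ := TFCanonLib.length_div hfld ω hω0 hωfg 1 N h1 hNfg
    (fun h => one_ne_zero (α := K) ((Submodule.mem_bot O).mp (h ▸ Submodule.one_le.mp le_rfl)))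
  rw [hdiv1, hC] at hδ
  have t1 := TFCanonLib.length_trans ((1 : Submodule O K) / N) 1 ω hC1 hω1
  have t2 := TFCanonLib.length_trans ((1 : Submodule O K) / N) 1 N hC1 h1
  rw [hq]
  have key : Module.length O (↥ω ⧸ (1 : Submodule O K).comap ω.subtype) +
      Module.length O (↥N ⧸ ((1 : Submodule O K) / N).comap N.subtype) =
      2 * Module.length O (↥N ⧸ (1 : Submodule O K).comap N.subtype) := by
    rw [t2, two_mul]
    conv_rhs => arg 1; rw [← hδ, t1]
    ac_rfl
  exact key

end Groth.Agent.S15008
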