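import Groth.Statements.S15009
import Groth.Agent.TFCurvNormLib.Basic

set_option autoImplicit false
universe u
open TFCurv

namespace Groth.Agent.S15009

/-- Let O be a one-dimensional Noetherian local domain with algebraically closed residue field whose
integral closure O~ in its fraction field K is a finite O-module. A finitely generated torsion-free
O-module M of rank n (that is, K ⊗ M has K-dimension n) is isomorphic to an O-submodule M' of K^n
with O^n ⊆ M' ⊆ O~^n. -/
theorem result (O : Type u) [CommRing O] [IsDomain O] [IsNoetherianRing O] [IsLocalRing O] (hdim : ringKrullDim O = 1) [IsAlgClosed (IsLocalRing.ResidueField O)] (K : Type u) [Field K] [Algebra O K] [IsFractionRing O K] (hfin : Module.Finite O ↥(integralClosure O K)) (M : Type u) [AddCommGroup M] [Module O M] [Module.Finite O M] [NoZeroSMulDivisors O M] (n : ℕ) (hn : Module.finrank K (TensorProduct O K M) = n) : ∃ M' : Submodule O (Fin n → K), Submodule.pi Set.univ (fun _ : Fin n => (1 : Submodule O K)) ≤ M' ∧ M' ≤ Submodule.pi Set.univ (fun _ : Fin n => (Subalgebra.toSubmodule (integralClosure O K))) ∧ Nonempty (M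 ≃ₗ[O] ↥M') := by
  classical
  haveI := Groth.Agent.TFCurvNormLib.isFractionRing_normalization (O := O) (K := K)
  haveI := hfin
  let b : Module.Basis (Fin n) K (TensorProduct O K M) := Module.finBasisOfFinrankEq K _ hn
  let c : M →ₗ[O] (Fin n → K) := (b.equivFun.toLinearMap.restrictScalars O).comp (TensorProduct.mk O K M 1)
  haveI : IsLocalizedModule (nonZeroDivisors O) (TensorProduct.mk O K M 1) :=
    (isLocalizedModule_iff_isBaseChange (nonZeroDivisors O) K _).mpr (TensorProduct.isBaseChange O M K)
  have hc : Function.Injective c := (injective_iff_map_eq_zero c).mpr fun m hm => by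
    have h3 : (1 : K) ⊗ₜ[O] m = 0 := b.equivFun.injective (hm.trans (map_zero _).symm)
    obtain ⟨⟨a, ha⟩, ham⟩ := (IsLocalizedModule.eq_zero_iff (nonZeroDivisors O) (TensorProduct.mk O K M 1)).mp h3
    exact (smul_eq_zero.mp ham).resolve_left (nonZeroDivisors.ne_zero ha)
  have hcspan : Submodule.span K (Set.range c) = ⊤ := by
    rw [show Set.range c = b.equivFun '' Set.range (TensorProduct.mk O K M 1) from
        Set.range_comp b.equivFun (TensorProduct.mk O K M 1),
      show (b.equivFun : TensorProduct O K M → (Fin n → K)) = ⇑(b.equivFun.toLinearMap) from rfl,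
      ← Submodule.map_span]
    have htop : Submodule.span K (Set.range (TensorProduct.mk O K M 1)) = ⊤ := by
      refine eq_top_iff.mpr fun t ht => ?_
      clear ht
      induction t using TensorProduct.induction_on with
      | zero => exact zero_mem _
      | tmul a m =>
        have : a ⊗ₜ[O] m = a • ((1 : K) ⊗ₜ[O] m) := by rw [TensorProduct.smul_tmul', smul_eq_mul, mul_one]
        exact this ▸ Submodule.smul_mem _ _ (Submodule.subset_span ⟨m, rfl⟩)
      | add x y hx hy => exact add_mem hx hy
    rw [htop, Submodule.map_top, LinearEquiv.range]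
  obtain ⟨v, hv⟩ := Groth.Agent.TFCurvNormLib.exists_generators hdim n (LinearMap.range c)
    (Module.Finite.iff_fg.mp inferInstance)
  let w : Fin n → (Fin n → K) := fun i => (v i : Fin n → K)
  have hwspan : Submodule.span K (Set.range w) = ⊤ := by
    have h1 : Submodule.span K (Set.range w) =
        Submodule.span K ((Submodule.span (↥(integralClosure O K)) (Set.range w) : Set (Fin n → K))) :=
      (Submodule.span_span_of_tower (↥(integralClosure O K)) K (Set.range w)).symm
    rw [h1, show Submodule.span (↥(integralClosure O K)) (Set.range w) = _ from hv,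
      Submodule.span_span_of_tower, LinearMap.coe_range, hcspan]
  have hwli : LinearIndependent K w :=
    linearIndependent_of_top_le_span_of_card_eq_finrank hwspan.ge (by simp)
  let B : Module.Basis (Fin n) K (Fin n → K) := Module.Basis.mk hwli hwspan.ge
  let e : (Fin n → K) ≃ₗ[O] (Fin n → K) := B.equivFun.restrictScalars O
  have he : ∀ i, e (w i) = Pi.single i 1 := fun i => by
    show B.equivFun (w i) = _
    rw [← Module.Basis.mk_apply hwli hwspan.ge i, Module.Basis.equivFun_apply, Module.Basis.repr_self,
      Finsupp.single_eq_pi_single]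
  refine ⟨Submodule.map e.toLinearMap (LinearMap.range c), ?_, ?_,
    ⟨(LinearEquiv.ofInjective c hc).trans (e.submoduleMap _)⟩⟩
  · intro x hx
    have hx' : ∀ i, x i ∈ (1 : Submodule O K) := fun i => hx i trivial
    have hsum : x = ∑ i, x i • (Pi.single i 1 : Fin n → K) := by
      funext j
      simp [Finset.sum_apply, Pi.single_apply]
    rw [hsum]
    refine sum_mem fun i _ => ?_
    obtain ⟨a, ha⟩ := Submodule.mem_one.mp (hx' i)
    rw [← ha, algebraMap_smul]
    exact Submodule.smul_mem _ a ⟨w i, (v i).2, he i⟩
  · rintro _ ⟨y, hy, rfl⟩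
    have hy' : y ∈ Submodule.span (↥(integralClosure O K)) (Set.range w) :=
      hv ▸ Submodule.subset_span hy
    intro j _
    obtain ⟨a, ha⟩ := (Submodule.mem_span_range_iff_exists_fun _).mp hy'
    show B.equivFun y j ∈ Subalgebra.toSubmodule (integralClosure O K)
    have : B.equivFun y j = algebraMap (↥(integralClosure O K)) K (a j) := by
      rw [← ha]
      simp only [map_sum, ← IsScalarTower.algebraMap_smul K (a _) (w _), map_smul]
      have he' : ∀ i, B.equivFun (w i) = Pi.single i 1 := he
      simp [he', Finset.sum_apply, Pi.single_apply]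
    rw [this]
    exact (a j).2


end Groth.Agent.S15009
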