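import Groth.Statements.S15010
import Mathlib

set_option autoImplicit false
universe u
open TFCurv

namespace Groth.Agent.S15010

open CategoryTheory CategoryTheory.Limits AlgebraicGeometry


open Matrix

variable {O : Type u} [CommRing O] {K : Type u} [Field K] [Algebra O K] [IsFractionRing O K] {n : ℕ}

lemma single_mem {M : Submodule O (Fin n → K)}
    (hM : Submodule.pi Set.univ (fun _ : Fin n => (1 : Submodule O K)) ≤ M) (i : Fin n) :
    (Pi.single i (1 : K) : Fin n → K) ∈ M := hM fun j _ => by
  rcases eq_or_ne j i with rfl | h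
  · rw [Pi.single_eq_same]
    exact Submodule.one_le.mp le_rfl
  · rw [Pi.single_eq_of_ne h]
    exact zero_mem _

/-- The matrix of a linear map between lattices. -/
noncomputable def mat {M N : Submodule O (Fin n → K)}
    (hM1 : Submodule.pi Set.univ (fun _ : Fin n => (1 : Submodule O K)) ≤ M)
    (hN2 : N ≤ Submodule.pi Set.univ (fun _ : Fin n => (Subalgebra.toSubmodule (integralClosure O K))))
    (φ : M →ₗ[O] N) : Matrix (Fin n) (Fin n) (integralClosure O K) :=
  Matrix.of fun i j => ⟨(φ ⟨Pi.single j 1, single_mem hM1 j⟩ : Fin n → K) i,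
    hN2 (φ ⟨Pi.single j 1, single_mem hM1 j⟩).2 i trivial⟩

lemma mat_spec [IsDomain O] {M N : Submodule O (Fin n → K)}
    (hM1 : Submodule.pi Set.univ (fun _ : Fin n => (1 : Submodule O K)) ≤ M)
    (hN2 : N ≤ Submodule.pi Set.univ (fun _ : Fin n => (Subalgebra.toSubmodule (integralClosure O K))))
    (φ : M →ₗ[O] N) (x : M) :
    (φ x : Fin n → K) =
      ((mat hM1 hN2 φ).map (algebraMap (integralClosure O K) K)).mulVec (x : Fin n → K) := by
  classical
  obtain ⟨⟨c, hc⟩, hcx⟩ := IsLocalization.exist_integer_multiples_of_finite (nonZeroDivisors O)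
    (x : Fin n → K)
  choose a ha using hcx
  have hc0 : algebraMap O K c ≠ 0 :=
    IsFractionRing.to_map_ne_zero_of_mem_nonZeroDivisors hc
  have hsum : c • x = ∑ j, a j • (⟨Pi.single j 1, single_mem hM1 j⟩ : M) := by
    apply Subtype.ext
    funext i
    simp only [SetLike.val_smul, AddSubmonoidClass.coe_finsetSum, Finset.sum_apply, Pi.smul_apply]
    rw [Finset.sum_eq_single i (fun j _ h => by rw [Pi.single_eq_of_ne h.symm, smul_zero])
      (by simp), Pi.single_eq_same]
    simpa [Algebra.smul_def] using (ha i).symm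
  funext i
  apply mul_left_cancel₀ hc0
  have h1 := congrArg (fun y : N => (y : Fin n → K) i) (congrArg φ hsum)
  simp only [map_smul, map_sum, SetLike.val_smul, AddSubmonoidClass.coe_finsetSum, Finset.sum_apply,
    Pi.smul_apply] at h1
  rw [← Algebra.smul_def, h1, Matrix.mulVec, dotProduct, Finset.mul_sum]
  refine Finset.sum_congr rfl fun j _ => ?_
  rw [Algebra.smul_def]
  change algebraMap O K (a j) * _ = algebraMap O K c * (_ * (x : Fin n → K) j)
  rw [ha j, Algebra.smul_def]
  simp only [mat, Matrix.map_apply, Matrix.of_apply]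
  change algebraMap O K c * (x : Fin n → K) j * _ = algebraMap O K c * (_ * (x : Fin n → K) j)
  rw [mul_assoc, mul_comm ((x : Fin n → K) j)]
  rfl

lemma mat_mul [IsDomain O] {M N : Submodule O (Fin n → K)}
    (hM1 : Submodule.pi Set.univ (fun _ : Fin n => (1 : Submodule O K)) ≤ M)
    (hN1 : Submodule.pi Set.univ (fun _ : Fin n => (1 : Submodule O K)) ≤ N)
    (hM2 : M ≤ Submodule.pi Set.univ (fun _ : Fin n => (Subalgebra.toSubmodule (integralClosure O K))))
    (hN2 : N ≤ Submodule.pi Set.univ (fun _ : Fin n => (Subalgebra.toSubmodule (integralClosure O K))))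
    (φ : M →ₗ[O] N) (ψ : N →ₗ[O] M) (h : ∀ y, φ (ψ y) = y) :
    mat hM1 hN2 φ * mat hN1 hM2 ψ = 1 := by
  apply Matrix.map_injective (Subtype.val_injective : Function.Injective (algebraMap (integralClosure O K) K))
  show (mat hM1 hN2 φ * mat hN1 hM2 ψ).map (algebraMap (integralClosure O K) K) =
    (1 : Matrix (Fin n) (Fin n) (integralClosure O K)).map (algebraMap (integralClosure O K) K)
  rw [Matrix.map_mul, Matrix.map_one _ (map_zero _) (map_one _)]
  refine Matrix.ext_of_mulVec_single fun j => ?_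
  rw [← Matrix.mulVec_mulVec, Matrix.one_mulVec]
  have h1 := mat_spec hN1 hM2 ψ ⟨Pi.single j 1, single_mem hN1 j⟩
  rw [← h1, ← mat_spec hM1 hN2 φ, h]

/-- Let O be a one-dimensional Noetherian local domain with algebraically closed residue field whose
integral closure O~ in its fraction field K is a finite O-module. If M and N are O-submodules of K^n
with O^n ⊆ M ⊆ O~^n and O^n ⊆ N ⊆ O~^n, then every O-linear isomorphism M → N is the restriction of
x ↦ A·x for an invertible n × n matrix A with entries in O~. -/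
theorem result (O : Type u) [CommRing O] [IsDomain O] [IsNoetherianRing O] [IsLocalRing O] (hdim : ringKrullDim O = 1) [IsAlgClosed (IsLocalRing.ResidueField O)] (K : Type u) [Field K] [Algebra O K] [IsFractionRing O K] (hfin : Module.Finite O ↥(integralClosure O K)) (n : ℕ) (M N : Submodule O (Fin n → K)) (hM1 : Submodule.pi Set.univ (fun _ : Fin n => (1 : Submodule O K)) ≤ M) (hM2 : M ≤ Submodule.pi Set.univ (fun _ : Fin n => (Subalgebra.toSubmodule (integralClosure O K)))) (hN1 : Submodule.pi Set.univ (fun _ : Fin n => (1 : Submodule O K)) ≤ N) (hN2 : N ≤ Submodule.pi Set.univ (fun _ : Fin n => (Subalgebra.toSubmodule (integralClosure O K)))) (φ : ↥M ≃ₗ[O] ↥N) : ∃ A : Matrix (Fin n) (Fin n) ↥(integralClosure O K), IsUnit A ∧ ∀ x : ↥M, ((φ x : ↥N) : Fin n → K) = (A.map (algebraMap ↥(integralClosure O K) K)).mulVec (x : Fin n → K) := by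
  refine ⟨mat hM1 hN2 φ.toLinearMap, ?_, fun x => mat_spec hM1 hN2 φ.toLinearMap x⟩
  exact ⟨⟨_, mat hN1 hM2 φ.symm.toLinearMap, mat_mul hM1 hN1 hM2 hN2 _ _ φ.apply_symm_apply,
    mat_mul hN1 hM1 hN2 hM2 _ _ φ.symm_apply_apply⟩, rfl⟩


end Groth.Agent.S15010
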