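import Groth.Statements.S15011
import Mathlib
import Groth.Agent.TFLib.Mult
import Groth.Agent.DomDVR.KrullAkizuki

set_option autoImplicit false
universe u
open TFCurv

namespace Groth.Agent.S15011

/-- Let O be a one-dimensional Noetherian local domain with maximal ideal m and algebraically closed
residue field, whose integral closure O~ in its fraction field K is a finite O-module; put e =
length(O~/m O~), the multiplicity of O. Then a finitely generated torsion-free O-module of rank n
can be generated by at most n·e elements. -/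
theorem result (O : Type u) [CommRing O] [IsDomain O] [IsNoetherianRing O] [IsLocalRing O] (hdim : ringKrullDim O = 1) [IsAlgClosed (IsLocalRing.ResidueField O)] (K : Type u) [Field K] [Algebra O K] [IsFractionRing O K] (hfin : Module.Finite O ↥(integralClosure O K)) (M : Type u) [AddCommGroup M] [Module O M] [Module.Finite O M] [NoZeroSMulDivisors O M] (n : ℕ) (hn : Module.finrank K (TensorProduct O K M) = n) : ((⊤ : Submodule O M).spanFinrank : ℕ∞) ≤ (n : ℕ∞) * Module.length O (↥(integralClosure O K) ⧸ (IsLocalRing.maximalIdeal O) • (⊤ : Submodule O ↥(integralClosure O K))) := by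
  classical
  open IsLocalRing Pointwise in
  haveI : Ring.KrullDimLE 1 O := (Ring.krullDimLE_iff (n := 1) (R := O)).mpr hdim.le
  let S := integralClosure O K
  haveI : IsDedekindDomain S := Groth.Agent.DomDVR.isDedekindDomain_integralClosure
  let m := IsLocalRing.maximalIdeal O
  haveI : Algebra.IsIntegral O S := inferInstanceAs (Algebra.IsIntegral O (integralClosure O K))
  have hm0 : m ≠ ⊥ := by
    intro h
    have hf : IsField O := IsLocalRing.isField_iff_maximalIdeal_eq.mpr h
    rw [ringKrullDim_eq_zero_of_isField hf] at hdim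
    exact zero_ne_one hdim
  have hinj : Function.Injective (algebraMap O S) := fun x y h =>
    IsFractionRing.injective O K (congrArg Subtype.val h)
  obtain ⟨a₀, ha₀, ha₀0⟩ := Submodule.exists_mem_ne_zero_of_ne_bot hm0
  have hPm : ∀ P : Ideal S, P.IsMaximal → ∀ z ∈ m, algebraMap O S z ∈ P := fun P hP z hz => by
    have h := Ideal.isMaximal_comap_of_isIntegral_of_isMaximal (R := O) P
    have h2 : P.comap (algebraMap O S) = m := IsLocalRing.eq_maximalIdeal h
    rw [← h2] at hz
    exact hz
  have hfinP : {P : Ideal S | P.IsMaximal}.Finite := by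
    refine (Ideal.finite_minimalPrimes_of_isNoetherianRing S (Ideal.span {algebraMap O S a₀})).subset
      fun P hP => ?_
    refine ⟨⟨(hP : P.IsMaximal).isPrime, by rw [Ideal.span_singleton_le_iff_mem]; exact hPm P hP a₀ ha₀⟩, ?_⟩
    rintro Q ⟨hQ, hQa⟩ hQP
    have hQ0 : Q ≠ ⊥ := fun h => ha₀0 (hinj (by
      rw [map_zero]; rw [h, Ideal.span_singleton_le_iff_mem] at hQa; exact hQa))
    rw [(Ring.DimensionLEOne.maximalOfPrime hQ0 hQ).eq_of_le (hP : P.IsMaximal).ne_top hQP]
  haveI := IsPrincipalIdealRing.of_finite_maximals hfinP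
  obtain ⟨γ, hγ⟩ := (IsPrincipalIdealRing.principal (m.map (algebraMap O S))).principal
  have hγ0 : γ ≠ 0 := by
    intro h
    have : algebraMap O S a₀ ∈ m.map (algebraMap O S) := Ideal.mem_map_of_mem _ ha₀
    rw [hγ, h, Submodule.span_zero_singleton, Submodule.mem_bot] at this
    exact ha₀0 (hinj (by rw [this, map_zero]))
  have hγm : γ ∈ m.map (algebraMap O S) := by rw [hγ]; exact Submodule.mem_span_singleton_self γ
  let ι := {P : Ideal S // P.IsMaximal}
  haveI : Finite ι := hfinP.to_subtype
  let Nsub : ι → Submodule O m := fun P =>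
    Submodule.comap ((Algebra.linearMap O S).comp m.subtype) ((Ideal.span {γ} * P.1).restrictScalars O)
  let κ := IsLocalRing.ResidueField O
  let V := IsLocalRing.CotangentSpace O
  have hsq : ∀ (P : ι) (z : m), (z : O) ∈ m ^ 2 → z ∈ Nsub P := fun P z hz => by
    show algebraMap O S z ∈ Ideal.span {γ} * P.1
    have h1 : algebraMap O S z ∈ (m.map (algebraMap O S)) * (m.map (algebraMap O S)) := by
      rw [← Ideal.map_mul, ← pow_two]; exact Ideal.mem_map_of_mem _ hz
    rw [hγ] at h1
    refine Ideal.mul_mono_right ?_ h1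
    show Ideal.span {γ} ≤ P.1
    rw [← Ideal.submodule_span_eq, ← hγ, Ideal.map_le_iff_le_comap]
    exact fun w hw => hPm P.1 P.2 w hw
  let p : ι → Submodule κ V := fun P =>
    { toAddSubmonoid := ((Nsub P).map (Ideal.toCotangent m)).toAddSubmonoid
      smul_mem' := fun c v hv => by
        obtain ⟨c, rfl⟩ := IsLocalRing.residue_surjective c
        exact ((Nsub P).map (Ideal.toCotangent m)).smul_mem c hv }
  have hp : ∀ P, p P ≠ ⊤ := fun P h => by
    have hall : ∀ z : m, z ∈ Nsub P := fun z => by
      have hz : Ideal.toCotangent m z ∈ p P := h ▸ Submodule.mem_top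
      obtain ⟨w, hw, hwz⟩ := hz
      have := add_mem hw (hsq P (z - w) ((Ideal.toCotangent_eq (I := m)).mp hwz.symm))
      rwa [add_sub_cancel] at this
    have hle : m.map (algebraMap O S) ≤ Ideal.span {γ} * P.1 :=
      Ideal.map_le_iff_le_comap.mpr fun z hz => hall ⟨z, hz⟩
    have := hle hγm
    obtain ⟨c, hc, hcγ⟩ := Ideal.mem_span_singleton_mul.mp this
    have : c = 1 := mul_left_cancel₀ hγ0 (by rw [hcγ, mul_one])
    exact P.2.ne_top ((Ideal.eq_top_iff_one _).mpr (this ▸ hc))
  obtain ⟨v, hv⟩ := Submodule.exists_forall_notMem_of_forall_ne_top p hp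
  obtain ⟨⟨x, hx⟩, rfl⟩ := Ideal.toCotangent_surjective m v
  obtain ⟨c, hc⟩ : ∃ c, algebraMap O S x = γ * c := by
    have : algebraMap O S x ∈ m.map (algebraMap O S) := Ideal.mem_map_of_mem _ hx
    rw [hγ, Ideal.mem_span_singleton'] at this
    obtain ⟨c, hc⟩ := this
    exact ⟨c, by rw [← hc, mul_comm]⟩
  have hcu : IsUnit c := by
    by_contra hcu
    obtain ⟨P, hP, hcP⟩ := exists_max_ideal_of_mem_nonunits (a := c) hcu
    exact hv ⟨P, hP⟩ ⟨⟨x, hx⟩, (by
      show algebraMap O S x ∈ Ideal.span {γ} * P
      rw [hc]; exact Ideal.mul_mem_mul (Ideal.mem_span_singleton_self γ) hcP), rfl⟩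
  have hxS : m.map (algebraMap O S) = Ideal.span {algebraMap O S x} := by
    rw [hγ, hc, Ideal.span_singleton_mul_right_unit hcu]
  have hx0 : x ≠ 0 := fun h => by
    rw [h, map_zero] at hc
    exact mul_ne_zero hγ0 hcu.ne_zero hc.symm
  haveI : NoZeroSMulDivisors O S := ⟨fun {r s} h => by
    rw [Algebra.smul_def, mul_eq_zero] at h
    exact h.imp_left fun h => hinj (by rw [h, map_zero])⟩
  have hsub : (m • ⊤ : Submodule O S) = x • ⊤ := by
    rw [Ideal.smul_top_eq_map, hxS]
    ext z
    rw [Submodule.restrictScalars_mem, Ideal.mem_span_singleton', Submodule.mem_smul_pointwise_iff_exists]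
    constructor
    · rintro ⟨w, hw⟩; exact ⟨w, trivial, by rw [Algebra.smul_def, mul_comm]; exact hw⟩
    · rintro ⟨w, -, hw⟩; exact ⟨w, by rw [mul_comm, ← Algebra.smul_def]; exact hw⟩
  have hrankS : Module.finrank K (TensorProduct O K S) = 1 := by
    haveI : IsLocalizedModule (nonZeroDivisors O) (S.val.toLinearMap) :=
      ⟨fun s => (Module.End.isUnit_iff _).mpr ⟨fun a b h => by
            simp only [Module.algebraMap_end_apply, Algebra.smul_def] at h
            exact mul_left_cancel₀ (IsFractionRing.to_map_ne_zero_of_mem_nonZeroDivisors s.2) h,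
          fun y => ⟨(algebraMap O K (s : O))⁻¹ * y, by
            simp only [Module.algebraMap_end_apply, Algebra.smul_def]
            exact mul_inv_cancel_left₀ (IsFractionRing.to_map_ne_zero_of_mem_nonZeroDivisors s.2) y⟩⟩,
        fun y => by
          obtain ⟨⟨r, s⟩, hrs⟩ := IsLocalization.surj (nonZeroDivisors O) y
          exact ⟨(algebraMap O S r, s), by
            show (s : O) • y = algebraMap O K r
            rw [Algebra.smul_def, mul_comm]; exact hrs⟩,
        fun {a b} h => ⟨1, by rw [show a = b from Subtype.ext h]⟩⟩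
    let e := ((isLocalizedModule_iff_isBaseChange (nonZeroDivisors O) K S.val.toLinearMap).mp inferInstance).equiv
    rw [e.finrank_eq, Module.finrank_self]
  have h1 := Groth.Agent.TFLib.length_quot_smul_le_finrank_mul hn hx0
  have h2 := Groth.Agent.TFLib.length_quot_smul_le_finrank_mul hrankS hx0
  rw [Nat.cast_one, one_mul, ← hsub] at h2
  rw [h2, ← h1]
  have hgen : ((⊤ : Submodule O M).spanFinrank : ℕ∞) = Module.length O (M ⧸ (m • ⊤ : Submodule O M)) := by
    rw [IsLocalRing.spanFinrank_eq_finrank_quotient _ Module.Finite.fg_top]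
    letI := Ideal.Quotient.field m
    letI : Module (O ⧸ m) (↥(⊤ : Submodule O M) ⧸ (m • ⊤ : Submodule O ↥(⊤ : Submodule O M))) := inferInstance
    rw [← (Submodule.Quotient.equiv _ _ (Submodule.topEquiv : (⊤ : Submodule O M) ≃ₗ[O] M) (by
        rw [Submodule.map_smul'', Submodule.map_top, LinearEquiv.range])).length_eq,
      Module.length_eq_of_surjective (M := ↥(⊤ : Submodule O M) ⧸ (m • ⊤ : Submodule O ↥(⊤ : Submodule O M)))
        (Ideal.Quotient.mk_surjective : Function.Surjective (algebraMap O (O ⧸ m))), Module.length_eq_finrank]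
  rw [hgen]
  exact Module.length_le_of_surjective (Submodule.factor (fun y hy => by
    obtain ⟨w, -, rfl⟩ := (Submodule.mem_smul_pointwise_iff_exists y x ⊤).mp hy
    exact Submodule.smul_mem_smul hx trivial)) (Submodule.factor_surjective _)

end Groth.Agent.S15011
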