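import Groth.Statements.S15013
import Mathlib

set_option autoImplicit false
universe u
open CategoryTheory
open TFCurv

namespace Groth.Agent.S15013

open CategoryTheory CategoryTheory.Limits AlgebraicGeometry


open Abelian

lemma exists_embedding_free (O : Type u) [CommRing O] [IsDomain O] (K : Type u) [Field K] [Algebra O K]
    [IsFractionRing O K] (M : Type u) [AddCommGroup M] [Module O M] [Module.Finite O M]
    [NoZeroSMulDivisors O M] : ∃ (n : ℕ) (f : M →ₗ[O] (Fin n → O)), Function.Injective f := by
  classical
  let L := LocalizedModule (nonZeroDivisors O) M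
  let ι := LocalizedModule.mkLinearMap (nonZeroDivisors O) M
  obtain ⟨s, hs⟩ := (Module.Finite.fg_top : (⊤ : Submodule O M).FG)
  haveI : Module.Finite K (TensorProduct O K M) := inferInstance
  let b := Module.finBasis K (TensorProduct O K M)
  let c : M →ₗ[O] (Fin (Module.finrank K (TensorProduct O K M)) → K) :=
    (b.equivFun.toLinearMap.restrictScalars O).comp (TensorProduct.mk O K M 1)
  obtain ⟨⟨d, hd⟩, hdint⟩ := IsLocalization.exist_integer_multiples (nonZeroDivisors O)
    (s ×ˢ (Finset.univ : Finset (Fin (Module.finrank K (TensorProduct O K M))))) (fun p => c p.1 p.2)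
  let j : (Fin (Module.finrank K (TensorProduct O K M)) → O) →ₗ[O]
      (Fin (Module.finrank K (TensorProduct O K M)) → K) :=
    LinearMap.pi fun i => (Algebra.linearMap O K).comp (LinearMap.proj i)
  have hj : Function.Injective j := fun x y h => funext fun i =>
    IsFractionRing.injective O K (congrFun h i)
  have hrange : ∀ m, d • c m ∈ LinearMap.range j := by
    intro m
    have hm : m ∈ Submodule.span O (s : Set M) := hs ▸ trivial
    induction hm using Submodule.span_induction with
    | mem m hm =>
      choose a ha using fun i => hdint (m, i) (Finset.mem_product.mpr ⟨hm, Finset.mem_univ i⟩)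
      exact ⟨a, funext fun i => ha i⟩
    | zero => simp
    | add x y _ _ hx hy => rw [map_add, smul_add]; exact add_mem hx hy
    | smul r x _ hx => rw [map_smul, smul_comm]; exact Submodule.smul_mem _ r hx
  let g : M →ₗ[O] (Fin (Module.finrank K (TensorProduct O K M)) → O) :=
    (LinearEquiv.ofInjective j hj).symm.toLinearMap.comp ((d • c).codRestrict _ hrange)
  refine ⟨_, g, (injective_iff_map_eq_zero g).mpr fun m hm => ?_⟩
  have h1 : d • c m = 0 := by
    have h2 := congrArg (fun z => (LinearEquiv.ofInjective j hj z : Fin (Module.finrank K (TensorProduct O K M)) → K)) hm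
    simpa [g] using h2
  have h3 : (1 : K) ⊗ₜ[O] m = 0 := by
    apply b.equivFun.injective
    rw [map_zero]
    exact (smul_eq_zero.mp h1).resolve_left (nonZeroDivisors.ne_zero hd)
  haveI : IsLocalizedModule (nonZeroDivisors O) (TensorProduct.mk O K M 1) :=
    (isLocalizedModule_iff_isBaseChange (nonZeroDivisors O) K _).mpr (TensorProduct.isBaseChange O M K)
  obtain ⟨⟨a, ha⟩, ham⟩ := (IsLocalizedModule.eq_zero_iff (nonZeroDivisors O) (TensorProduct.mk O K M 1)).mp h3
  exact (smul_eq_zero.mp ham).resolve_left (nonZeroDivisors.ne_zero ha)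

/-- Let O be a one-dimensional Noetherian local domain with algebraically closed residue field whose
integral closure O~ in its fraction field K is a finite O-module, and let w be a canonical ideal of
O, taken here as a nonzero finitely generated O-submodule of K whose injective dimension as an
O-module is at most one. Then Ext^i_O(M, w) vanishes for all i ≥ 1 and every finitely generated
torsion-free O-module M. -/
theorem result (O : Type u) [CommRing O] [IsDomain O] [IsNoetherianRing O] [IsLocalRing O] (hdim : ringKrullDim O = 1) [IsAlgClosed (IsLocalRing.ResidueField O)] (K : Type u) [Field K] [Algebra O K] [IsFractionRing O K] (hfin : Module.Finite O ↥(integralClosure O K)) (ω : Submodule O K) (hω0 : ω ≠ ⊥) (hωfg : ω.FG) (hωinj : HasInjectiveDimensionLT (ModuleCat.of O ↥ω) 2) (M : Type u) [AddCommGroup M] [Module O M] [Module.Finite O M] [NoZeroSMulDivisors O M] (i : ℕ) (hi : 1 ≤ i) : Subsingleton (Abelian.Ext (ModuleCat.of O M) (ModuleCat.of O ↥ω) i) := by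
  refine subsingleton_of_forall_eq 0 fun e => ?_
  obtain ⟨i, rfl⟩ : ∃ j, i = j + 1 := ⟨i - 1, by omega⟩
  cases i with
  | succ i =>
    haveI : HasInjectiveDimensionLT (ModuleCat.of O ↥ω) 2 := hωinj
    exact (Abelian.Ext.eq_zero_of_hasInjectiveDimensionLT e 2 (by omega))
  | zero =>
    obtain ⟨n, g, hg⟩ := exists_embedding_free O K M
    have hS : (ShortComplex.mk (X₁ := ModuleCat.of O M) (X₂ := ModuleCat.of O (Fin n → O))
        (X₃ := ModuleCat.of O ((Fin n → O) ⧸ LinearMap.range g)) (ModuleCat.ofHom g)
        (ModuleCat.ofHom (LinearMap.range g).mkQ)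
        (ModuleCat.hom_ext (LinearMap.range_mkQ_comp g))).ShortExact :=
      { exact := (ShortComplex.ShortExact.moduleCat_exact_iff_function_exact _).mpr (LinearMap.exact_map_mkQ_range g)
        mono_f := (ModuleCat.mono_iff_injective _).mpr hg
        epi_g := (ModuleCat.epi_iff_surjective _).mpr (Submodule.mkQ_surjective _) }
    haveI : HasInjectiveDimensionLT (ModuleCat.of O ↥ω) 2 := hωinj
    obtain ⟨y, hy⟩ := Abelian.Ext.contravariant_sequence_exact₁ hS _ e (show 1 + (0 + 1) = 2 from rfl)
      (Abelian.Ext.eq_zero_of_hasInjectiveDimensionLT _ 2 le_rfl)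
    have hy0 : y = 0 := y.eq_zero_of_projective
    rw [← hy, hy0]
    simp


end Groth.Agent.S15013
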