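import Groth.Statements.S15035
import Groth.Agent.TFCurvNormLib.Dual
import Groth.Agent.S15013
import Groth.Agent.S15009
import Groth.Agent.GorLib.LocInjDim

set_option autoImplicit false
universe u
open TFCurv

namespace Groth.Agent.S15035

open CategoryTheory CategoryTheory.Limits AlgebraicGeometry


open Module

lemma surjective_dualMap (O : Type u) [CommRing O] [IsDomain O] [LocCoh.IsGorensteinLocalRing O]
    (hdim : ringKrullDim O = 1) (K : Type u) [Field K] [Algebra O K] [IsFractionRing O K]
    {X Y : Type u} [AddCommGroup X] [Module O X] [AddCommGroup Y] [Module O Y] (f : X →ₗ[O] Y)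
    (hf : Function.Injective f) [Module.Finite O (Y ⧸ LinearMap.range f)]
    [NoZeroSMulDivisors O (Y ⧸ LinearMap.range f)] : Function.Surjective f.dualMap := by
  intro φ
  obtain ⟨m, g, hg⟩ := S15013.exists_embedding_free O K (Y ⧸ LinearMap.range f)
  haveI : CategoryTheory.HasInjectiveDimensionLT (ModuleCat.of O O) 2 :=
    (GorLib.injectiveDimension_local 1 O inferInstance hdim.le).1
  have hT : (ShortComplex.mk (X₁ := ModuleCat.of O (Y ⧸ LinearMap.range f))
      (X₂ := ModuleCat.of O (Fin m → O))
      (X₃ := ModuleCat.of O ((Fin m → O) ⧸ LinearMap.range g)) (ModuleCat.ofHom g)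
      (ModuleCat.ofHom (LinearMap.range g).mkQ)
      (ModuleCat.hom_ext (LinearMap.range_mkQ_comp g))).ShortExact :=
    { exact := (ShortComplex.ShortExact.moduleCat_exact_iff_function_exact _).mpr (LinearMap.exact_map_mkQ_range g)
      mono_f := (ModuleCat.mono_iff_injective _).mpr hg
      epi_g := (ModuleCat.epi_iff_surjective _).mpr (Submodule.mkQ_surjective _) }
  have hext : ∀ e : Abelian.Ext.{u} (ModuleCat.of O (Y ⧸ LinearMap.range f)) (ModuleCat.of O O) 1, e = 0 := by
    intro e
    obtain ⟨y, hy⟩ := Abelian.Ext.contravariant_sequence_exact₁ hT _ e (show 1 + 1 = 2 from rfl)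
      (Abelian.Ext.eq_zero_of_hasInjectiveDimensionLT _ 2 le_rfl)
    rw [← hy, (y.eq_zero_of_projective : y = 0)]
    simp
  have hS : (ShortComplex.mk (X₁ := ModuleCat.of O X) (X₂ := ModuleCat.of O Y)
      (X₃ := ModuleCat.of O (Y ⧸ LinearMap.range f)) (ModuleCat.ofHom f)
      (ModuleCat.ofHom (LinearMap.range f).mkQ)
      (ModuleCat.hom_ext (LinearMap.range_mkQ_comp f))).ShortExact :=
    { exact := (ShortComplex.ShortExact.moduleCat_exact_iff_function_exact _).mpr (LinearMap.exact_map_mkQ_range f)
      mono_f := (ModuleCat.mono_iff_injective _).mpr hf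
      epi_g := (ModuleCat.epi_iff_surjective _).mpr (Submodule.mkQ_surjective _) }
  obtain ⟨y, hy⟩ := Abelian.Ext.contravariant_sequence_exact₁ hS (ModuleCat.of O O)
    (Abelian.Ext.mk₀ (ModuleCat.ofHom φ)) (add_zero 1) (hext _)
  obtain ⟨ψ, rfl⟩ := Abelian.Ext.addEquiv₀.symm.surjective y
  rw [Abelian.Ext.addEquiv₀_symm_apply, Abelian.Ext.mk₀_comp_mk₀] at hy
  have := (Abelian.Ext.mk₀_bijective _ _).1 hy
  exact ⟨ψ.hom, congrArg ModuleCat.Hom.hom this⟩

lemma reflexive (O : Type u) [CommRing O] [IsDomain O] [LocCoh.IsGorensteinLocalRing O]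
    (hdim : ringKrullDim O = 1) (K : Type u) [Field K] [Algebra O K] [IsFractionRing O K]
    (M : Type u) [AddCommGroup M] [Module O M] [Module.Finite O M] [NoZeroSMulDivisors O M] :
    Function.Bijective (Dual.eval O M) := by
  classical
  obtain ⟨m, g, hg⟩ := S15013.exists_embedding_free O K M
  refine ⟨(injective_iff_map_eq_zero _).mpr fun x hx => hg ?_, ?_⟩
  · rw [map_zero]
    funext i
    exact LinearMap.congr_fun hx ((LinearMap.proj i).comp g)
  · obtain ⟨r, π, hπ⟩ := Module.Finite.exists_fin' O M
    let κ := π.dualMap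
    have hκ : Function.Injective κ := LinearMap.dualMap_injective_of_surjective hπ
    let Q := Dual O (Fin r → O) ⧸ LinearMap.range κ
    haveI : NoZeroSMulDivisors O Q := ⟨fun {c q} hcq => by
      obtain ⟨φ, rfl⟩ := Submodule.Quotient.mk_surjective _ q
      refine or_iff_not_imp_left.mpr fun hc => (Submodule.Quotient.mk_eq_zero _).mpr ?_
      obtain ⟨ψ, hψ⟩ := (Submodule.Quotient.mk_eq_zero _).mp
        ((Submodule.Quotient.mk_smul _ c φ).trans hcq : Submodule.Quotient.mk (c • φ) = (0 : Q))
      have hker : LinearMap.ker π ≤ LinearMap.ker φ := fun v hv => by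
        have h1 := LinearMap.congr_fun hψ v
        rw [LinearMap.dualMap_apply, LinearMap.mem_ker.mp hv, map_zero, LinearMap.smul_apply] at h1
        exact (smul_eq_zero.mp h1.symm).resolve_left hc
      refine ⟨(LinearMap.ker π).liftQ φ hker ∘ₗ (π.quotKerEquivOfSurjective hπ).symm.toLinearMap,
        LinearMap.ext fun v => ?_⟩
      show (LinearMap.ker π).liftQ φ hker ((π.quotKerEquivOfSurjective hπ).symm (π v)) = φ v
      rw [show (π.quotKerEquivOfSurjective hπ).symm (π v) = Submodule.Quotient.mk v from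
        (LinearEquiv.symm_apply_eq _).mpr rfl]
      rfl⟩
    intro ξ
    obtain ⟨η, rfl⟩ := surjective_dualMap O hdim K κ hκ ξ
    obtain ⟨v, rfl⟩ := (Module.bijective_dual_eval O (Fin r → O)).2 η
    exact ⟨π v, LinearMap.ext fun φ => rfl⟩

/-- Let O be a one-dimensional Gorenstein local domain with algebraically closed residue field whose
integral closure O~ in its fraction field K is a finite O-module, and C ⊆ O the conductor of O in
O~. Then every finitely generated torsion-free O-module of rank n is isomorphic to an O-submodule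
M'' of K^n with C^n ⊆ M'' ⊆ O^n. (For a general O the published statement places M'' between (O~*)^n
and ω^n for the canonical ideal ω; only the Gorenstein case ω = O, O~* = C is stated.) -/
theorem result (O : Type u) [CommRing O] [IsDomain O] [LocCoh.IsGorensteinLocalRing O] (hdim : ringKrullDim O = 1) [IsAlgClosed (IsLocalRing.ResidueField O)] (K : Type u) [Field K] [Algebra O K] [IsFractionRing O K] (hfin : Module.Finite O ↥(integralClosure O K)) (M : Type u) [AddCommGroup M] [Module O M] [Module.Finite O M] [NoZeroSMulDivisors O M] (n : ℕ) (hn : Module.finrank K (TensorProduct O K M) = n) : ∃ M'' : Submodule O (Fin n → K), Submodule.pi Set.univ (fun _ : Fin n => (((1 : Submodule O K).colon (Subalgebra.toSubmodule (integralClosure O K))) • (1 : Submodule O K))) ≤ M'' ∧ M'' ≤ Submodule.pi Set.univ (fun _ : Fin n => (1 : Submodule O K)) ∧ Nonempty (M ≃ₗ[O] ↥M'') := by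
  classical
  haveI := hfin
  obtain ⟨L0, h01, h02, ⟨e0⟩⟩ := S15009.result O hdim K hfin M n hn
  obtain ⟨d, hd, hdC⟩ := Groth.Agent.TFCurvNormLib.exists_conductor_ne_zero (integralClosure O K)
  have hdmem : ∀ i, d • (Pi.single i (1 : K) : Fin n → K) ∈ Groth.Agent.TFCurvNormLib.dualLat L0 := fun i =>
    Groth.Agent.TFCurvNormLib.colon_le_dualLat h02 fun j _ => by
      rcases eq_or_ne j i with rfl | hne
      · rw [Pi.smul_apply, Pi.single_eq_same]
        exact Submodule.smul_mem_smul hdC (Submodule.one_le.mp le_rfl)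
      · rw [Pi.smul_apply, Pi.single_eq_of_ne hne, smul_zero]
        exact zero_mem _
  let E0 : Groth.Agent.TFCurvNormLib.dualLat L0 ≃ₗ[O] Dual O M :=
    (Groth.Agent.TFCurvNormLib.dualEquiv h01).trans e0.dualMap
  haveI : Module.Finite O (Groth.Agent.TFCurvNormLib.dualLat L0) := Module.Finite.equiv E0.symm
  haveI : NoZeroSMulDivisors O (Groth.Agent.TFCurvNormLib.dualLat L0) := ⟨fun {c x} hcx => by
    refine or_iff_not_imp_left.mpr fun hc => Subtype.ext (funext fun i => ?_)
    have h1 := congrFun (congrArg Subtype.val hcx) i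
    exact (smul_eq_zero.mp h1).resolve_left hc⟩
  obtain ⟨L1, h11, h12, ⟨e1⟩⟩ := S15009.result O hdim K hfin (Groth.Agent.TFCurvNormLib.dualLat L0) n
    (Groth.Agent.TFCurvNormLib.finrank_eq (Groth.Agent.TFCurvNormLib.dualLat_le h01) hd hdmem)
  refine ⟨Groth.Agent.TFCurvNormLib.dualLat L1, Groth.Agent.TFCurvNormLib.colon_le_dualLat h12,
    Groth.Agent.TFCurvNormLib.dualLat_le h11, ⟨?_⟩⟩
  exact (LinearEquiv.ofBijective (Dual.eval O M) (reflexive O hdim K M)).trans
    ((E0.symm.trans e1).symm.dualMap.trans (Groth.Agent.TFCurvNormLib.dualEquiv h11).symm)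


end Groth.Agent.S15035
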