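import Groth.Statements.S15012
import Groth.Agent.TFCurvInterpLib.Interp
import Groth.Agent.TFCurvNormLib.Dual
import Groth.Agent.S15009
import Groth.Agent.S15035

set_option autoImplicit false
universe u
open TFCurv

namespace Groth.Agent.S15012

/-- Let O be a one-dimensional Gorenstein local domain with algebraically closed residue field whose
integral closure O~ in its fraction field K is a finite O-module, and let C ⊆ O be the conductor of
O in O~. Every finitely generated torsion-free O-module of rank n is isomorphic to an O-submodule M'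
of K^n with C^n ⊆ M' ⊆ O~^n and length(M'/C^n) = n · length(O/C); that is, every isomorphism class
of rank-n torsion-free modules is represented by a submodule of (O~/C)^n of the same length as
(O/C)^n. -/
theorem result (O : Type u) [CommRing O] [IsDomain O] [LocCoh.IsGorensteinLocalRing O] (hdim : ringKrullDim O = 1) [IsAlgClosed (IsLocalRing.ResidueField O)] (K : Type u) [Field K] [Algebra O K] [IsFractionRing O K] (hfin : Module.Finite O ↥(integralClosure O K)) (M : Type u) [AddCommGroup M] [Module O M] [Module.Finite O M] [NoZeroSMulDivisors O M] (n : ℕ) (hn : Module.finrank K (TensorProduct O K M) = n) : ∃ M' : Submodule O (Fin n → K), Submodule.pi Set.univ (fun _ : Fin n => (((1 : Submodule O K).colon (Subalgebra.toSubmodule (integralClosure O K))) • (1 : Submodule O K))) ≤ M' ∧ M' ≤ Submodule.pi Set.univ (fun _ : Fin n => (Subalgebra.toSubmodule (integralClosure O K))) ∧ Nonempty (M ≃ₗ[O] ↥M') ∧ Module.length O (↥M' ⧸ Submodule.comap M'.subtype (Submodule.pi Set.univ (fun _ : Fin n => (((1 : Submodule O K).colon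 (Subalgebra.toSubmodule (integralClosure O K))) • (1 : Submodule O K))))) = (n : ℕ∞) * Module.length O (O ⧸ ((1 : Submodule O K).colon (Subalgebra.toSubmodule (integralClosure O K)))) := by
  classical
  haveI : IsNoetherianRing O := inferInstance
  haveI : IsLocalRing O := inferInstance
  haveI := hfin
  obtain ⟨L0, h01, h02, ⟨e0⟩⟩ := S15009.result O hdim K hfin M n hn
  obtain ⟨M2, h21, h22, ⟨e2⟩⟩ := S15035.result O hdim K hfin M n hn
  obtain ⟨d, hd0, hd⟩ := Groth.Agent.TFCurvNormLib.exists_conductor_ne_zero (integralClosure O K)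
  let C := Groth.Agent.TFCurvInterpLib.condLat O K n
  let On : Submodule O (Fin n → K) := Submodule.pi Set.univ (fun _ => (1 : Submodule O K))
  have hCO : C ≤ On := fun x hx i hi => Submodule.smul_le_right (hx i hi)
  have hOT : On ≤ Groth.Agent.TFCurvInterpLib.topLat O K n := h01.trans h02
  have hsingle : ∀ i, (Pi.single i (1 : K) : Fin n → K) ∈ L0 := fun i =>
    Groth.Agent.TFCurvNormLib.single_mem_of_pi_le h01 i
  let e : L0 ≃ₗ[O] M2 := e0.symm.trans e2
  let g0 : (Fin n → K) →ₗ[K] (Fin n → K) :=
    (Pi.basisFun K (Fin n)).constr K fun i => (e ⟨_, hsingle i⟩ : Fin n → K)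
  have hden : ∀ x : Fin n → K, ∃ a : O, a ≠ 0 ∧ ∃ c : Fin n → O,
      a • x = ∑ i, c i • (Pi.single i (1 : K) : Fin n → K) := by
    intro x
    obtain ⟨⟨a, ha⟩, hax⟩ := IsLocalization.exist_integer_multiples_of_finite (nonZeroDivisors O) x
    choose c hc using hax
    refine ⟨a, nonZeroDivisors.ne_zero ha, c, funext fun j => ?_⟩
    simp [Finset.sum_apply, Pi.single_apply, Algebra.smul_def, hc j]
  have hg0 : ∀ x : L0, g0 x = e x := by
    intro x
    obtain ⟨a, ha, c, hc⟩ := hden (x : Fin n → K)
    have h1 : a • x = ∑ i, c i • (⟨_, hsingle i⟩ : L0) := Subtype.ext (by simp [hc])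
    have h2 : a • (e x : Fin n → K) = a • g0 x := by
      rw [← g0.map_smul_of_tower a, hc, map_sum, ← Submodule.coe_smul, ← map_smul, h1, map_sum,
        Submodule.coe_sum]
      refine Finset.sum_congr rfl fun i _ => ?_
      rw [g0.map_smul_of_tower, map_smul, Submodule.coe_smul]
      congr 1
      exact ((Pi.basisFun K (Fin n)).constr_basis K _ i).symm.trans (congrArg g0 (Pi.basisFun_apply K (Fin n) i))
    rw [← algebraMap_smul K a, ← algebraMap_smul K a (g0 x)] at h2
    exact (smul_right_injective _ (IsFractionRing.to_map_ne_zero_of_mem_nonZeroDivisors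
      (mem_nonZeroDivisors_of_ne_zero ha)) h2).symm
  have hinj : Function.Injective g0 := (injective_iff_map_eq_zero g0).mpr fun x hx => by
    obtain ⟨a, ha, c, hc⟩ := hden x
    have hax : a • x ∈ L0 := hc ▸ Submodule.sum_mem _ fun i _ => L0.smul_mem _ (hsingle i)
    have h1 : e ⟨a • x, hax⟩ = 0 := Subtype.ext (by
      rw [← hg0, Submodule.coe_mk, g0.map_smul_of_tower, hx, smul_zero]; rfl)
    have h2 : a • x = 0 := congrArg Subtype.val (e.map_eq_zero_iff.mp h1)
    rw [← algebraMap_smul K a] at h2
    exact (smul_eq_zero.mp h2).resolve_left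
      (IsFractionRing.to_map_ne_zero_of_mem_nonZeroDivisors (mem_nonZeroDivisors_of_ne_zero ha))
  let g : (Fin n → K) ≃ₗ[K] (Fin n → K) :=
    LinearEquiv.ofBijective g0 ⟨hinj, (LinearMap.injective_iff_surjective.mp hinj)⟩
  have hgL : L0.map (g.restrictScalars O).toLinearMap = M2 := by
    refine le_antisymm ?_ fun y hy => ⟨_, (e.symm ⟨y, hy⟩).2, ?_⟩
    · rintro _ ⟨x, hx, rfl⟩
      show g0 x ∈ M2
      rw [hg0 ⟨x, hx⟩]
      exact (e _).2
    · show g0 _ = y
      rw [hg0, e.apply_symm_apply]
  have hgT : (Groth.Agent.TFCurvInterpLib.topLat O K n).map (g.restrictScalars O).toLinearMap ≤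
      Groth.Agent.TFCurvInterpLib.topLat O K n := by
    rintro _ ⟨x, hx, rfl⟩
    show g0 x ∈ _
    rw [← (Pi.basisFun K (Fin n)).sum_repr x, map_sum]
    refine Submodule.sum_mem _ fun i _ => ?_
    rw [map_smul, Pi.basisFun_repr, Module.Basis.constr_basis]
    exact Groth.Agent.TFCurvInterpLib.smul_mem_topLat ⟨x i, hx i trivial⟩ (hOT (h22 (e _).2))
  have hfin' : Groth.Agent.TFCurvInterpLib.qlen C (Groth.Agent.TFCurvInterpLib.topLat O K n) ≠ ⊤ := by
    haveI := Groth.Agent.TFCurvNormLib.dimensionLEOne (O := O) hdim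
    let T := Groth.Agent.TFCurvInterpLib.topLat O K n
    let φ : T →ₗ[O] (Fin n → integralClosure O K) :=
      { toFun := fun x i => ⟨x.1 i, x.2 i trivial⟩
        map_add' := fun _ _ => rfl
        map_smul' := fun _ _ => rfl }
    haveI : Module.Finite O T := Module.Finite.of_injective φ fun x y h =>
      Subtype.ext (funext fun i => congrArg Subtype.val (congrFun h i))
    let Q := ↥T ⧸ Submodule.comap T.subtype C
    have hkill : Module.IsTorsionBySet O Q (Ideal.span {d} : Ideal O) := by
      rw [Module.isTorsionBySet_span_singleton_iff]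
      intro q
      obtain ⟨x, rfl⟩ := Submodule.Quotient.mk_surjective _ q
      rw [← Submodule.Quotient.mk_smul, Submodule.Quotient.mk_eq_zero]
      intro i hi
      obtain ⟨a, ha⟩ := Submodule.mem_one.mp (Submodule.mem_colon.mp hd _ (x.2 i hi))
      refine Groth.Agent.TFCurvInterpLib.mem_cond_smul_one.mpr ⟨a, Submodule.mem_colon.mpr fun p hp => ?_, ha⟩
      have h2 := Submodule.mem_colon.mp hd _ ((integralClosure O K).mul_mem (x.2 i hi) hp)
      rwa [Algebra.smul_def, ha, Algebra.smul_def, mul_assoc, ← Algebra.smul_def]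
    letI := hkill.module
    haveI : IsScalarTower O (O ⧸ (Ideal.span {d} : Ideal O)) Q := hkill.isScalarTower
    haveI : IsArtinianRing (O ⧸ (Ideal.span {d} : Ideal O)) := by
      haveI : Ring.KrullDimLE 0 (O ⧸ (Ideal.span {d} : Ideal O)) := Ring.krullDimLE_zero_iff.mpr fun I hI => by
        haveI := hI
        haveI hI' : (I.comap (Ideal.Quotient.mk (Ideal.span {d} : Ideal O))).IsPrime := Ideal.IsPrime.comap _
        have hne : I.comap (Ideal.Quotient.mk (Ideal.span {d} : Ideal O)) ≠ ⊥ := fun hb => hd0 (Ideal.mem_bot.mp (hb ▸ (by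
          rw [Ideal.mem_comap, Ideal.Quotient.eq_zero_iff_mem.mpr (Ideal.mem_span_singleton_self d)]
          exact zero_mem _)))
        haveI := hI'.isMaximal hne
        rw [← Ideal.map_comap_of_surjective _ Ideal.Quotient.mk_surjective I]
        exact (Ideal.map_eq_top_or_isMaximal_of_surjective _ Ideal.Quotient.mk_surjective ‹_›).resolve_left
          fun h => hI.ne_top ((Ideal.map_comap_of_surjective _ Ideal.Quotient.mk_surjective I).symm.trans h)
      exact isArtinianRing_iff_krullDimLE_zero.mpr ‹_›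
    haveI : Module.Finite (O ⧸ (Ideal.span {d} : Ideal O)) Q := Module.Finite.of_restrictScalars_finite O _ _
    haveI : IsArtinian O Q := by
      haveI : IsArtinian (O ⧸ (Ideal.span {d} : Ideal O)) Q := inferInstance
      exact isArtinian_of_surjective_algebraMap (S := O) (R := O ⧸ (Ideal.span {d} : Ideal O)) Ideal.Quotient.mk_surjective
    exact Module.length_ne_top_iff.mpr (isFiniteLength_iff_isNoetherian_isArtinian.mpr ⟨inferInstance, inferInstance⟩)
  have hOC : Groth.Agent.TFCurvInterpLib.qlen C On =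
      (n : ℕ∞) * Module.length O (O ⧸ Groth.Agent.TFCurvInterpLib.cond O K) := by
    have hmem : ∀ (c : Fin n → O), (fun i => algebraMap O K (c i)) ∈ On := fun c i _ =>
      Submodule.mem_one.mpr ⟨c i, rfl⟩
    let ψ : (Fin n → O) →ₗ[O] ↥On ⧸ Submodule.comap On.subtype C := (Submodule.mkQ _).comp
      (LinearMap.codRestrict On (LinearMap.pi fun i => (Algebra.linearMap O K).comp (LinearMap.proj i)) hmem)
    have hψs : Function.Surjective ψ := by
      intro q
      obtain ⟨x, rfl⟩ := Submodule.Quotient.mk_surjective _ q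
      choose c hc using fun i => Submodule.mem_one.mp (x.2 i trivial)
      exact ⟨c, congrArg (Submodule.Quotient.mk (p := Submodule.comap On.subtype C)) (Subtype.ext (funext hc))⟩
    have hker : LinearMap.ker ψ = Submodule.pi Set.univ fun _ => Groth.Agent.TFCurvInterpLib.cond O K := by
      ext c
      simp only [LinearMap.mem_ker, ψ, LinearMap.comp_apply, Submodule.mkQ_apply, Submodule.Quotient.mk_eq_zero]
      constructor
      · intro h i hi
        obtain ⟨a, ha, hac⟩ := Groth.Agent.TFCurvInterpLib.mem_cond_smul_one.mp (h i hi)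
        exact (IsFractionRing.injective O K hac : a = c i) ▸ ha
      · intro h i hi
        exact Groth.Agent.TFCurvInterpLib.mem_cond_smul_one.mpr ⟨c i, h i hi, rfl⟩
    rw [Groth.Agent.TFCurvInterpLib.qlen, ← (ψ.quotKerEquivOfSurjective hψs).length_eq, hker,
      (Submodule.quotientPi fun _ : Fin n => Groth.Agent.TFCurvInterpLib.cond O K).length_eq, Module.length_pi_of_fintype]
    simp
  obtain ⟨L', hL1, hL2, ⟨eL⟩, hL3⟩ := Groth.Agent.TFCurvInterpLib.exists_qlen_eq hdim n hfin' ⟨d, hd0, hd⟩
    ((n : ℕ∞) * Module.length O (O ⧸ Groth.Agent.TFCurvInterpLib.cond O K)) g L0 hgT (hCO.trans h01) h02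
    (hgL.symm ▸ h21) (by
      rw [hgL, ← hOC]
      exact le_self_add.trans (Groth.Agent.TFCurvInterpLib.qlen_add (show C ≤ M2 from h21) (show M2 ≤ On from h22)).ge) (by
      rw [← hOC]
      exact le_self_add.trans (Groth.Agent.TFCurvInterpLib.qlen_add hCO (show On ≤ L0 from h01)).ge)
  exact ⟨L', hL1, hL2, ⟨e0.trans eL⟩, hL3⟩

end Groth.Agent.S15012
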