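import Groth.Statements.S15014
import Mathlib
import Groth.Agent.TFCanonLib.Ext
import Groth.Agent.TFCurvNormLib.Basic

set_option autoImplicit false
universe u
open CategoryTheory
open TFCurv

namespace Groth.Agent.S15014

/-- Let O be a one-dimensional Noetherian local domain with algebraically closed residue field whose
integral closure O~ in its fraction field K is a finite O-module, and w a canonical ideal (a nonzero
finitely generated O-submodule of K of injective dimension at most one). For a finitely generated
torsion-free O-module M with dual M* = Hom_O(M, w), the groups Ext^i_O(M, M) and Ext^i_O(M*, M*) are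
isomorphic for every i ≥ 0 (existence of an additive isomorphism only). -/
theorem result (O : Type u) [CommRing O] [IsDomain O] [IsNoetherianRing O] [IsLocalRing O] (hdim : ringKrullDim O = 1) [IsAlgClosed (IsLocalRing.ResidueField O)] (K : Type u) [Field K] [Algebra O K] [IsFractionRing O K] (hfin : Module.Finite O ↥(integralClosure O K)) (ω : Submodule O K) (hω0 : ω ≠ ⊥) (hωfg : ω.FG) (hωinj : HasInjectiveDimensionLT (ModuleCat.of O ↥ω) 2) (M : Type u) [AddCommGroup M] [Module O M] [Module.Finite O M] [NoZeroSMulDivisors O M] (i : ℕ) : Nonempty (Abelian.Ext (ModuleCat.of O M) (ModuleCat.of O M) i ≃+ Abelian.Ext (ModuleCat.of O (M →ₗ[O] ↥ω)) (ModuleCat.of O (M →ₗ[O] ↥ω)) i) := by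
  haveI : Ring.DimensionLEOne O := TFCurvNormLib.dimensionLEOne hdim
  have hfld : IsLocalRing.maximalIdeal O ≠ ⊥ := fun h => by
    have h1 := IsLocalRing.maximalIdeal_height_eq_ringKrullDim (R := O)
    rw [h, hdim, Ideal.height_bot] at h1
    exact zero_ne_one (α := WithBot ℕ∞) h1
  cases i with
  | succ i => exact TFCanonLib.nonempty_ext_equiv ω hfld hω0 hωfg i M M
  | zero =>
    haveI := TFCanonLib.finite_dual ω hωfg M
    let e : (M →ₗ[O] M) ≃+ ((M →ₗ[O] ↥ω) →ₗ[O] (M →ₗ[O] ↥ω)) :=
      { Equiv.ofBijective (fun f : M →ₗ[O] M => LinearMap.lcomp O ↥ω f)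
          (TFCanonLib.dualMap_bijective ω hfld hω0 hωfg M M) with
        map_add' := fun f g => LinearMap.ext fun φ => LinearMap.ext fun x => map_add φ (f x) (g x) }
    exact ⟨((Abelian.Ext.addEquiv₀.trans ModuleCat.homAddEquiv).trans e).trans
      (Abelian.Ext.addEquiv₀.trans ModuleCat.homAddEquiv).symm⟩

end Groth.Agent.S15014
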