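import Groth.Statements.S15015
import Mathlib

set_option autoImplicit false
universe u
open TFCurv

namespace Groth.Agent.S15015

/-- Let k be an algebraically closed field and A ≠ k[[t]] a k-subalgebra of k[[t]] that is closed in the
t-adic topology, over which k[[t]] is a finite module, and such that every power series is carried
into A by multiplication with some nonzero element of A (so k[[t]] lies in the fraction field of A
and is its normalisation, as for the complete local ring of a unibranch curve singularity), and let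
Γ ⊆ ℕ be the set of t-orders of the nonzero elements of A (its value semigroup). Then ℕ ∖ Γ is
finite and the k-dimension of k[[t]]/A equals the number of gaps of Γ. -/
theorem result (k : Type u) [Field k] [IsAlgClosed k] (A : Subalgebra k (PowerSeries k)) (hA : Module.Finite ↥A (PowerSeries k)) (hcl : ∀ f : PowerSeries k, (∀ n : ℕ, ∃ g ∈ A, (n : ℕ∞) ≤ PowerSeries.order (f - g)) → f ∈ A) (hsing : A ≠ ⊤) (hbir : ∀ f : PowerSeries k, ∃ a ∈ A, a ≠ 0 ∧ a * f ∈ A) (Γ : Set ℕ) (hΓ : ∀ n : ℕ, n ∈ Γ ↔ ∃ f ∈ A, PowerSeries.order f = n) : Γᶜ.Finite ∧ Module.finrank k (PowerSeries k ⧸ Subalgebra.toSubmodule A) = Γᶜ.ncard := by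
  classical
  have hbc : ∀ s : Finset (PowerSeries k), ∃ c ∈ A, c ≠ 0 ∧ ∀ f ∈ s, c * f ∈ A := by
    intro s
    induction s using Finset.induction_on with
    | empty => exact ⟨1, A.one_mem, one_ne_zero, by simp⟩
    | insert f s _ ih =>
      obtain ⟨c, hc, hc0, hcs⟩ := ih
      obtain ⟨a, ha, ha0, haf⟩ := hbir f
      refine ⟨c * a, A.mul_mem hc ha, mul_ne_zero hc0 ha0, fun g hg => ?_⟩
      rcases Finset.mem_insert.mp hg with rfl | hg
      · rw [mul_assoc]; exact A.mul_mem hc haf
      · rw [mul_right_comm]; exact A.mul_mem (hcs g hg) ha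
  obtain ⟨s, hs⟩ := hA.fg_top
  obtain ⟨c, hc, hc0, hcs⟩ := hbc s
  have hcR : ∀ g : PowerSeries k, c * g ∈ A := fun g => by
    have hg : g ∈ Submodule.span A (s : Set (PowerSeries k)) := hs ▸ Submodule.mem_top
    induction hg using Submodule.span_induction with
    | mem x hx => exact hcs x hx
    | zero => simp
    | add x y _ _ hx hy => rw [mul_add]; exact A.add_mem hx hy
    | smul r x _ hx => rw [Algebra.smul_def, ← mul_assoc, mul_comm c, mul_assoc]; exact A.mul_mem r.2 hx
  have hord : ∀ f : PowerSeries k, f ≠ 0 → ∃ (e : ℕ) (u : PowerSeries k),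
      IsUnit u ∧ f = PowerSeries.X ^ e * u ∧ f.order = e := fun f hf => by
    obtain ⟨e, he⟩ := ENat.ne_top_iff_exists.mp (PowerSeries.order_eq_top.not.mpr hf)
    obtain ⟨u, hu⟩ := (PowerSeries.X_pow_dvd_iff (n := e) (φ := f)).mpr fun i hi =>
      PowerSeries.coeff_of_lt_order i (by rw [← he]; exact_mod_cast hi)
    refine ⟨e, u, ?_, hu, he.symm⟩
    rw [PowerSeries.isUnit_iff_constantCoeff, isUnit_iff_ne_zero]
    intro h
    have h' := ((PowerSeries.order_eq_nat (φ := f) (n := e)).mp he.symm).1
    rw [hu, PowerSeries.coeff_X_pow_mul', if_pos le_rfl, Nat.sub_self, PowerSeries.coeff_zero_eq_constantCoeff] at h'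
    exact h' h
  obtain ⟨N, u, hu, hcu, -⟩ := hord c hc0
  obtain ⟨u, rfl⟩ := hu
  have hbig : ∀ f : PowerSeries k, PowerSeries.X ^ N ∣ f → f ∈ A := by
    rintro f ⟨g, rfl⟩
    have := hcR ((↑u⁻¹ : PowerSeries k) * g)
    rwa [hcu, mul_assoc, ← mul_assoc (↑u : PowerSeries k), Units.mul_inv, one_mul] at this
  have hlt : ∀ g ∈ Γᶜ, g < N := fun g hg => by
    by_contra h
    exact hg ((hΓ g).mpr ⟨PowerSeries.X ^ g, hbig _ (pow_dvd_pow _ (not_lt.mp h)), PowerSeries.order_X_pow g⟩)
  have hfin : Γᶜ.Finite := (Set.finite_Iio N).subset hlt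
  refine ⟨hfin, ?_⟩
  let S := Subalgebra.toSubmodule A
  let v : ↥Γᶜ → PowerSeries k ⧸ S := fun g => S.mkQ (PowerSeries.X ^ (g : ℕ))
  haveI := hfin.fintype
  have hli : LinearIndependent k v := by
    rw [Fintype.linearIndependent_iff]
    intro a ha i
    by_contra hai
    let F : PowerSeries k := ∑ g : ↥Γᶜ, a g • (PowerSeries.X : PowerSeries k) ^ (g : ℕ)
    have hFA : F ∈ A := by
      have h1 : S.mkQ F = 0 := by rw [map_sum]; simpa [v, map_smul] using ha
      exact (Submodule.Quotient.mk_eq_zero S).mp h1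
    have hcoef : ∀ g : ↥Γᶜ, PowerSeries.coeff (g : ℕ) F = a g := fun g => by
      simp only [F, map_sum, PowerSeries.coeff_smul, PowerSeries.coeff_X_pow, smul_eq_mul]
      rw [Finset.sum_eq_single g (fun b _ hb => by rw [if_neg (fun h => hb (Subtype.ext h.symm)), mul_zero])
        (fun h => absurd (Finset.mem_univ g) h), if_pos rfl, mul_one]
    have hF0 : F ≠ 0 := fun h => hai (by rw [← hcoef, h, map_zero])
    obtain ⟨e, -, -, -, he⟩ := hord F hF0
    have heΓ : e ∈ Γ := (hΓ e).mpr ⟨F, hFA, he⟩
    refine ((PowerSeries.order_eq_nat (φ := F) (n := e)).mp he).1 ?_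
    simp only [F, map_sum, PowerSeries.coeff_smul, PowerSeries.coeff_X_pow, smul_eq_mul]
    exact Finset.sum_eq_zero fun g _ => by rw [if_neg (fun h : e = (g : ℕ) => g.2 (h ▸ heΓ)), mul_zero]
  have hspan : ⊤ ≤ Submodule.span k (Set.range v) := by
    have key : ∀ j m : ℕ, N ≤ m + j → ∀ f : PowerSeries k, PowerSeries.X ^ m ∣ f →
        S.mkQ f ∈ Submodule.span k (Set.range v) := by
      intro j
      induction j with
      | zero =>
        intro m hm f hf
        rw [show S.mkQ f = 0 from (Submodule.Quotient.mk_eq_zero S).mpr (hbig f ((pow_dvd_pow _ (by omega)).trans hf))]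
        exact zero_mem _
      | succ j ih =>
        intro m hm f hf
        have hstep : ∀ p : PowerSeries k, PowerSeries.X ^ m ∣ p → PowerSeries.coeff m p ≠ 0 →
            PowerSeries.X ^ (m + 1) ∣ f - (PowerSeries.coeff m f / PowerSeries.coeff m p) • p := by
          intro p hp hp0
          rw [PowerSeries.X_pow_dvd_iff]
          intro i hi
          rcases Nat.lt_succ_iff_lt_or_eq.mp hi with h | rfl
          · simp [PowerSeries.X_pow_dvd_iff.mp hp i h, PowerSeries.X_pow_dvd_iff.mp hf i h]
          · simp [div_mul_cancel₀ _ hp0]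
        by_cases hm' : m ∈ Γ
        · obtain ⟨p, hp, hpo⟩ := (hΓ m).mp hm'
          obtain ⟨hp1, hp2⟩ := (PowerSeries.order_eq_nat (φ := p) (n := m)).mp hpo
          have h := ih (m + 1) (by omega) _ (hstep p (PowerSeries.X_pow_dvd_iff.mpr hp2) hp1)
          rw [map_sub, map_smul, show S.mkQ p = 0 from (Submodule.Quotient.mk_eq_zero S).mpr hp, smul_zero,
            sub_zero] at h
          exact h
        · have h := ih (m + 1) (by omega) _ (hstep (PowerSeries.X ^ m) dvd_rfl (by simp))
          rw [map_sub, map_smul] at h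
          have h2 := Submodule.smul_mem (Submodule.span k (Set.range v))
            (PowerSeries.coeff m f / PowerSeries.coeff m (PowerSeries.X ^ m))
            (Submodule.subset_span (Set.mem_range_self (f := v) ⟨m, hm'⟩))
          simpa [v] using add_mem h h2
    intro x _
    obtain ⟨f, rfl⟩ := S.mkQ_surjective x
    exact key N 0 (by omega) f (by rw [pow_zero]; exact one_dvd f)
  rw [Module.finrank_eq_card_basis (Module.Basis.mk hli hspan), Set.ncard_eq_toFinset_card' Γᶜ, Set.toFinset_card]

end Groth.Agent.S15015
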