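import Groth.Statements.S15016
import Mathlib

set_option autoImplicit false
universe u
open TFCurv

namespace Groth.Agent.S15016

/-- Let k be an algebraically closed field and A ≠ k[[t]] a k-subalgebra of k[[t]] that is closed in the
t-adic topology and over which k[[t]] is a finite module (as for the complete local ring of a
unibranch curve singularity inside its normalisation), and let Γ ⊆ ℕ be the set of t-orders of the
nonzero elements of A (its value semigroup); let c be the conductor of Γ, so that every n ≥ c lies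
in Γ and c − 1 does not. Then for a power series f, f · k[[t]] ⊆ A holds exactly when the order of f
is at least c: the conductor of A in k[[t]] is t^c · k[[t]], of codimension c. -/
theorem result (k : Type u) [Field k] [IsAlgClosed k] (A : Subalgebra k (PowerSeries k)) (hA : Module.Finite ↥A (PowerSeries k)) (hcl : ∀ f : PowerSeries k, (∀ n : ℕ, ∃ g ∈ A, (n : ℕ∞) ≤ PowerSeries.order (f - g)) → f ∈ A) (hsing : A ≠ ⊤) (Γ : Set ℕ) (hΓ : ∀ n : ℕ, n ∈ Γ ↔ ∃ f ∈ A, PowerSeries.order f = n) (c : ℕ) (hc : ∀ n : ℕ, c ≤ n → n ∈ Γ) (hc0 : c ≠ 0) (hc1 : c - 1 ∉ Γ) (f : PowerSeries k) : (∀ g : PowerSeries k, g * f ∈ A) ↔ (c : ℕ∞) ≤ PowerSeries.order f := by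
  classical
  constructor
  · intro h
    by_contra hlt
    push Not at hlt
    obtain ⟨m, hm⟩ := ENat.ne_top_iff_exists.mp (ne_top_of_lt hlt)
    rw [← hm, Nat.cast_lt] at hlt
    refine hc1 ((hΓ _).mpr ⟨_, h (PowerSeries.X ^ (c - 1 - m)), ?_⟩)
    rw [PowerSeries.order_mul, PowerSeries.order_X_pow, ← hm, ← Nat.cast_add]
    congr 1
    omega
  intro hf g
  have key : ∀ p : PowerSeries k, (∀ i < c, PowerSeries.coeff i p = 0) →
      ∀ j : ℕ, ∃ a ∈ A, ∀ i < c + j, PowerSeries.coeff i (p - a) = 0 := by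
    intro p hp j
    induction j with
    | zero => exact ⟨0, A.zero_mem, fun i hi => by simpa using hp i hi⟩
    | succ j ih =>
      obtain ⟨a, ha, hai⟩ := ih
      obtain ⟨b, hb, hbo⟩ := (hΓ (c + j)).mp (hc _ (Nat.le_add_right c j))
      obtain ⟨hb1, hb2⟩ := PowerSeries.order_eq_nat.mp hbo
      refine ⟨a + (PowerSeries.coeff (c + j) (p - a) / PowerSeries.coeff (c + j) b) • b,
        A.add_mem ha (A.smul_mem hb _), fun i hi => ?_⟩
      rw [← sub_sub, map_sub, PowerSeries.coeff_smul, smul_eq_mul]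
      rcases Nat.lt_succ_iff_lt_or_eq.mp hi with h | rfl
      · rw [hai i h, hb2 i h, mul_zero, sub_zero]
      · simp only [Nat.add_eq]; rw [div_mul_cancel₀ _ hb1, sub_self]
  refine hcl _ fun n => ?_
  obtain ⟨a, ha, hai⟩ := key (g * f) (fun i hi => PowerSeries.coeff_of_lt_order i (lt_of_lt_of_le
    (lt_of_lt_of_le (by exact_mod_cast hi : (i : ℕ∞) < c) hf)
    (by rw [PowerSeries.order_mul]; exact le_add_self))) n
  exact ⟨a, ha, (by exact_mod_cast Nat.le_add_left n c : (n : ℕ∞) ≤ ((c + n : ℕ) : ℕ∞)).trans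
    (PowerSeries.nat_le_order _ _ hai)⟩

end Groth.Agent.S15016
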