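import Groth.Statements.S15022
import Mathlib
import Groth.Agent.S19528

set_option autoImplicit false
universe u
open CategoryTheory
open TFCurv

namespace Groth.Agent.S15022

/-- Let k be an algebraically closed field and A ≠ k[[t]] a k-subalgebra of k[[t]] that is closed in the
t-adic topology and over which k[[t]] is a finite module (as for the complete local ring of a
unibranch curve singularity inside its normalisation), and let Γ ⊆ ℕ be the set of t-orders of the
nonzero elements of A (its value semigroup); let c be the conductor of Γ (every n ≥ c lies in Γ, c −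
1 does not) and suppose A is not Gorenstein. If w is an A-submodule of k[[t]] with 1 ∈ w whose
injective dimension as an A-module is at most one (a canonical ideal of A placed between A and
k[[t]]), then the value set of w is the dual of Γ: a natural number n is the t-order of some element
of w exactly when n ≥ c or c − 1 − n is a gap of Γ. (The published statement does not exclude the
Gorenstein case; this row assumes that A is not Gorenstein.) -/
theorem result (k : Type u) [Field k] [IsAlgClosed k] (A : Subalgebra k (PowerSeries k)) (hA : Module.Finite ↥A (PowerSeries k)) (hcl : ∀ f : PowerSeries k, (∀ n : ℕ, ∃ g ∈ A, (n : ℕ∞) ≤ PowerSeries.order (f - g)) → f ∈ A) (hsing : A ≠ ⊤) (Γ : Set ℕ) (hΓ : ∀ n : ℕ, n ∈ Γ ↔ ∃ f ∈ A, PowerSeries.order f = n) (c : ℕ) (hc : ∀ n : ℕ, c ≤ n → n ∈ Γ) (hc0 : c ≠ 0) (hc1 : c - 1 ∉ Γ) (hG : ¬ LocCoh.IsGorensteinLocalRing ↥A) (ω : Submodule ↥A (PowerSeries k)) (hω1 : (1 : PowerSeries k) ∈ ω) (hωfg : ω.FG) (hωinj : HasInjectiveDimensionLT (ModuleCat.of ↥A ↥ω) 2)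 (n : ℕ) : (∃ f ∈ ω, PowerSeries.order f = n) ↔ (c ≤ n ∨ c - 1 - n ∉ Γ) := by
  have h1 : (1 : PowerSeries k) ∈ Submodule.span ↥A {(1 : PowerSeries k)} := Submodule.mem_span_singleton_self _
  have := Groth.Agent.S19528.result k A hA hcl hsing Γ hΓ c hc hc0 hc1 hG ω hω1 hωfg hωinj
    (Submodule.span ↥A {(1 : PowerSeries k)}) (Submodule.fg_span_singleton _) h1 n
  have hspan : ∀ f : PowerSeries k, f ∈ Submodule.span ↥A {(1 : PowerSeries k)} ↔ f ∈ A := fun f => by
    rw [Submodule.mem_span_singleton]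
    exact ⟨fun ⟨a, ha⟩ => ha ▸ by rw [Subalgebra.smul_def, smul_eq_mul, mul_one]; exact a.2,
      fun hf => ⟨⟨f, hf⟩, by rw [Subalgebra.smul_def, smul_eq_mul, mul_one]⟩⟩
  simp only [hspan, hΓ] at this ⊢
  rw [← this]
  refine ⟨fun ⟨u, hu, ho⟩ => ⟨u, ho, fun m hm => ?_⟩, fun ⟨u, ho, hu⟩ => ⟨u, by simpa using hu 1 A.one_mem, ho⟩⟩
  rw [mul_comm]
  simpa [Subalgebra.smul_def] using ω.smul_mem ⟨m, hm⟩ hu

end Groth.Agent.S15022
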