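import Groth.Statements.S15023
import Mathlib
import Groth.Agent.S15015
import Groth.Agent.TFLib.Orders
import Groth.Agent.TFLib.RankOne

set_option autoImplicit false
universe u
open TFCurv

namespace Groth.Agent.S15023

/-- Let k be an algebraically closed field and A ≠ k[[t]] a k-subalgebra of k[[t]] that is closed in the
t-adic topology, over which k[[t]] is a finite module, and such that every power series is carried
into A by multiplication with some nonzero element of A (so k[[t]] lies in the fraction field of A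
and is its normalisation, as for the complete local ring of a unibranch curve singularity), and let
Γ ⊆ ℕ be the set of t-orders of the nonzero elements of A (its value semigroup); assume moreover
that A is the monomial ring of Γ (a power series lies in A exactly when all its exponents lie in Γ),
and let δ be the number of gaps of Γ. Then every finitely generated torsion-free A-module of rank
one is isomorphic to an A-submodule M' of k[[t]] with t^{2δ} k[[t]] ⊆ M' and dim_k(k[[t]]/M') = δ,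
equivalently dim_k(M'/t^{2δ}k[[t]]) = δ: every isomorphism class of rank-one torsion-free modules is
represented by a δ-dimensional A-stable subspace of k[[t]]/t^{2δ}k[[t]]. -/
theorem result (k : Type u) [Field k] [IsAlgClosed k] (A : Subalgebra k (PowerSeries k)) (hA : Module.Finite ↥A (PowerSeries k)) (hcl : ∀ f : PowerSeries k, (∀ n : ℕ, ∃ g ∈ A, (n : ℕ∞) ≤ PowerSeries.order (f - g)) → f ∈ A) (hsing : A ≠ ⊤) (hbir : ∀ f : PowerSeries k, ∃ a ∈ A, a ≠ 0 ∧ a * f ∈ A) (Γ : Set ℕ) (hΓ : ∀ n : ℕ, n ∈ Γ ↔ ∃ f ∈ A, PowerSeries.order f = n) (hmono : ∀ f : PowerSeries k, f ∈ A ↔ ∀ n : ℕ, PowerSeries.coeff n f ≠ 0 → n ∈ Γ) (M : Type u) [AddCommGroup M] [Module ↥A M] [Module.Finite ↥A M] [NoZeroSMulDivisors ↥A M] (hrk : Module.finrank (FractionRing ↥A) (TensorProduct ↥A (FractionRing ↥A) M) = 1) : ∃ M' : Submodule ↥A (PowerSeries k), (Ideal.span {(PowerSeries.X : PowerSeries k) ^ (2 * Γᶜ.ncard)}).restrictScalars ↥A ≤ M' ∧ Nonempty (M ≃ₗ[↥A] ↥M')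 ∧ Module.finrank k (PowerSeries k ⧸ M'.restrictScalars k) = Γᶜ.ncard := by
  classical
  open PowerSeries Groth.Agent.TFLib in
  obtain ⟨hΓf, -⟩ := Groth.Agent.S15015.result k A hA hcl hsing hbir Γ hΓ
  obtain ⟨N₀, hN₀⟩ := hΓf.bddAbove
  have hAmem : ∀ f : PowerSeries k, PowerSeries.X ^ (N₀ + 1) ∣ f → f ∈ A := fun f hf => by
    rw [hmono]
    intro i hi
    by_contra hiΓ
    have := hN₀ hiΓ
    exact hi (PowerSeries.X_pow_dvd_iff.mp hf i (by omega))
  have h0Γ : 0 ∈ Γ := (hΓ 0).mpr ⟨1, A.one_mem, by simp⟩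
  -- embed `M` into `k[[t]]`
  obtain ⟨ψ₀, hψ₀, hne₀⟩ := Groth.Agent.TFLib.exists_injective_of_rankOne ↥A M hrk
  let ψ : M →ₗ[↥A] PowerSeries k := (Algebra.linearMap ↥A (PowerSeries k)) ∘ₗ ψ₀
  have hψ : Function.Injective ψ := fun x y hxy => hψ₀ (Subtype.ext hxy)
  have hne : ∃ x, ψ x ≠ 0 := by
    obtain ⟨x, hx⟩ := hne₀
    exact ⟨x, fun h => hx (Subtype.ext h)⟩
  -- normalise the minimal order to `0`
  have hex : ∃ m : ℕ, ∃ x, (ψ x).order = m := by
    obtain ⟨x, hx⟩ := hne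
    obtain ⟨m, hm⟩ := ENat.ne_top_iff_exists.mp (PowerSeries.order_eq_top.not.mpr hx)
    exact ⟨m, x, hm.symm⟩
  let m := Nat.find hex
  let L : PowerSeries k →ₗ[↥A] PowerSeries k := LinearMap.mulLeft ↥A (PowerSeries.X ^ m)
  have hL : Function.Injective L := fun p q h => mul_left_cancel₀ (pow_ne_zero m PowerSeries.X_ne_zero) h
  let N' : Submodule ↥A (PowerSeries k) := (LinearMap.range ψ).comap L
  have hdvd : ∀ y ∈ LinearMap.range ψ, ∃ z, L z = y := by
    rintro _ ⟨x, rfl⟩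
    obtain ⟨z, hz⟩ : PowerSeries.X ^ m ∣ ψ x := PowerSeries.X_pow_dvd_iff.mpr fun i hi =>
      PowerSeries.coeff_of_lt_order i (lt_of_lt_of_le (by exact_mod_cast hi : (i : ℕ∞) < m) (by
        by_contra hlt
        push Not at hlt
        obtain ⟨m', hm'⟩ := ENat.ne_top_iff_exists.mp (ne_top_of_lt hlt)
        rw [← hm', Nat.cast_lt] at hlt
        exact Nat.find_min hex hlt ⟨x, hm'.symm⟩))
    exact ⟨z, hz.symm⟩
  have hN'map : N'.map L = LinearMap.range ψ :=
    Submodule.map_comap_eq_self fun y hy => hdvd y hy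
  let S' : Submodule k (PowerSeries k) := N'.restrictScalars k
  let Δ := Groth.Agent.TFLib.ords S'
  obtain ⟨u, hu, huo⟩ : ∃ u ∈ N', u.order = (0 : ℕ) := by
    obtain ⟨x, hx⟩ := Nat.find_spec hex
    obtain ⟨z, hz⟩ := hdvd _ ⟨x, rfl⟩
    refine ⟨z, Submodule.mem_comap.mpr (hz.symm ▸ ⟨x, rfl⟩), ?_⟩
    rw [← hz] at hx
    have h1 : ((PowerSeries.X : PowerSeries k) ^ m * z).order = ((m : ℕ) : ℕ∞) := hx
    rw [PowerSeries.order_mul, PowerSeries.order_X_pow] at h1
    simpa using ENat.add_right_injective_of_ne_top (n := (m : ℕ∞)) (ENat.natCast_ne_top m) (h1.trans (add_zero _).symm)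
  have huu : IsUnit u := by
    rw [PowerSeries.isUnit_iff_constantCoeff, isUnit_iff_ne_zero, ← PowerSeries.coeff_zero_eq_constantCoeff_apply]
    exact (PowerSeries.order_eq_nat.mp huo).1
  obtain ⟨uu, rfl⟩ := huu
  have hNmem : ∀ f : PowerSeries k, PowerSeries.X ^ (N₀ + 1) ∣ f → f ∈ S' := fun f hf => by
    show f ∈ N'
    have h1 := N'.smul_mem (⟨f * ↑uu⁻¹, hAmem _ (Dvd.dvd.mul_right hf _)⟩ : ↥A) hu
    rwa [Algebra.smul_def, show algebraMap ↥A (PowerSeries k) ⟨f * ↑uu⁻¹, hAmem _ (Dvd.dvd.mul_right hf _)⟩ =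
      f * ↑uu⁻¹ from rfl, mul_assoc, Units.inv_mul, mul_one] at h1
  have hadd : ∀ x ∈ Γ, ∀ y ∈ Δ, x + y ∈ Δ := by
    intro x hx y hy
    obtain ⟨p, hp, hpo⟩ := (hΓ x).mp hx
    obtain ⟨q, hq, hqo⟩ := hy
    exact ⟨p * q, N'.smul_mem (⟨p, hp⟩ : ↥A) hq, by rw [PowerSeries.order_mul, hpo, hqo, Nat.cast_add]⟩
  have h0Δ : 0 ∈ Δ := ⟨_, hu, huo⟩
  have hsub : Δᶜ ⊆ Γᶜ := fun x hx hxΓ => hx (by simpa using hadd x hxΓ 0 h0Δ)
  have hΔf : Δᶜ.Finite := hΓf.subset hsub
  obtain ⟨c, hc, hcle⟩ := Groth.Agent.TFLib.le_add_of_semimodule hΓf hΔf hadd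
  have hec : Δᶜ.ncard ≤ Γᶜ.ncard := Set.ncard_le_ncard hsub hΓf
  obtain ⟨j, hj⟩ := Nat.exists_eq_add_of_le hec
  let L' : PowerSeries k →ₗ[↥A] PowerSeries k := LinearMap.mulLeft ↥A (PowerSeries.X ^ j)
  have hL' : Function.Injective L' := fun p q h => mul_left_cancel₀ (pow_ne_zero j PowerSeries.X_ne_zero) h
  refine ⟨N'.map L', ?_, ⟨?_⟩, ?_⟩
  · intro f hf
    obtain ⟨g, rfl⟩ := Ideal.mem_span_singleton.mp (show f ∈ Ideal.span _ from hf)
    refine ⟨PowerSeries.X ^ (2 * Γᶜ.ncard - j) * g, ?_, ?_⟩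
    · exact Groth.Agent.TFLib.mem_of_dvd S' hNmem (N₀ + 1) c (by omega) hc _
        ((pow_dvd_pow _ (by omega)).trans (dvd_mul_right _ _))
    · show PowerSeries.X ^ j * (PowerSeries.X ^ (2 * Γᶜ.ncard - j) * g) = _
      rw [← mul_assoc, ← pow_add, Nat.add_sub_cancel' (by omega)]
  · exact ((LinearEquiv.ofInjective ψ hψ).trans ((LinearEquiv.ofEq _ _ hN'map.symm).trans
      (Submodule.equivMapOfInjective L hL N').symm)).trans (Submodule.equivMapOfInjective L' hL' N')
  · have hmem : ∀ f : PowerSeries k, PowerSeries.X ^ (N₀ + 1 + j) ∣ f → f ∈ (N'.map L').restrictScalars k := by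
      rintro f ⟨g, rfl⟩
      exact ⟨PowerSeries.X ^ (N₀ + 1) * g, hNmem _ (dvd_mul_right _ _), by
        show PowerSeries.X ^ j * (PowerSeries.X ^ (N₀ + 1) * g) = _
        rw [← mul_assoc, ← pow_add, add_comm]⟩
    have hords : Groth.Agent.TFLib.ords ((N'.map L').restrictScalars k) = (fun n => n + j) '' Δ := by
      ext n
      constructor
      · rintro ⟨_, ⟨g, hg, rfl⟩, hgo⟩
        have hg0 : g ≠ 0 := fun h => by simp [h] at hgo
        obtain ⟨e, he⟩ := ENat.ne_top_iff_exists.mp (PowerSeries.order_eq_top.not.mpr hg0)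
        refine ⟨e, ⟨g, hg, he.symm⟩, ?_⟩
        have h1 : ((PowerSeries.X : PowerSeries k) ^ j * g).order = n := hgo
        rw [PowerSeries.order_mul, PowerSeries.order_X_pow, ← he, ← Nat.cast_add, Nat.cast_inj] at h1
        show e + j = n
        omega
      · rintro ⟨e, ⟨g, hg, he⟩, rfl⟩
        refine ⟨L' g, ⟨g, hg, rfl⟩, ?_⟩
        show ((PowerSeries.X : PowerSeries k) ^ j * g).order = ((e + j : ℕ) : ℕ∞)
        rw [PowerSeries.order_mul, PowerSeries.order_X_pow, he, ← Nat.cast_add, add_comm]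
    rw [(Groth.Agent.TFLib.finrank_quotient_eq_ncard _ hmem).2, hords,
      Groth.Agent.TFLib.ncard_compl_add_image hΔf, ← hj]

end Groth.Agent.S15023
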