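import Groth.Statements.S15024
import Groth.Agent.TFCurvTorLib.Basic

set_option autoImplicit false
universe u
open CategoryTheory
open TFCurv

namespace Groth.Agent.S15024

/-- Let O be a one-dimensional Noetherian local domain with algebraically closed residue field whose
integral closure O~ in its fraction field K is a finite O-module, M a finitely generated
torsion-free O-module and f : O^n → M an injective O-linear map whose cokernel T has finite length.
Then Tor_1^O(O~, M) and Tor_1^O(O~, T) are isomorphic (existence of an isomorphism only), and O~ ⊗_O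
f : O~ ⊗ O^n → O~ ⊗ M is injective, so that 0 → O~^n → O~ ⊗ M → O~ ⊗ T → 0 is exact. -/
theorem result (O : Type u) [CommRing O] [IsDomain O] [IsNoetherianRing O] [IsLocalRing O] (hdim : ringKrullDim O = 1) [IsAlgClosed (IsLocalRing.ResidueField O)] (K : Type u) [Field K] [Algebra O K] [IsFractionRing O K] (hfin : Module.Finite O ↥(integralClosure O K)) (M : Type u) [AddCommGroup M] [Module O M] [Module.Finite O M] [NoZeroSMulDivisors O M] (n : ℕ) (f : (Fin n → O) →ₗ[O] M) (hf : Function.Injective f) (hT : IsFiniteLength O (M ⧸ LinearMap.range f)) : Nonempty (((Tor (ModuleCat.{u} O) 1).obj (ModuleCat.of O ↥(integralClosure O K))).obj (ModuleCat.of O M) ≅ ((Tor (ModuleCat.{u} O) 1).obj (ModuleCat.of O ↥(integralClosure O K))).obj (ModuleCat.of O (M ⧸ LinearMap.range f))) ∧ Function.Injective (LinearMap.lTensor ↥(integralClosure O K) f) := by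
  have hnf : IsLocalRing.maximalIdeal O ≠ ⊥ := fun h => by
    have hF : IsField O := IsLocalRing.isField_iff_maximalIdeal_eq.mpr h
    rw [ringKrullDim_eq_zero_of_isField hF] at hdim
    exact zero_ne_one hdim
  obtain ⟨c, hc, h, -, hhf⟩ := Groth.Agent.TFCurvTorLib.exists_scalar hnf f hf hT
  have hinj : Function.Injective (LinearMap.lTensor ↥(integralClosure O K) f) := by
    refine (injective_iff_map_eq_zero _).mpr fun z hz => ?_
    have h1 : c • z = 0 := by
      have h2 := congrArg (h.lTensor ↥(integralClosure O K)) hz
      rw [map_zero, ← LinearMap.comp_apply, ← LinearMap.lTensor_comp, hhf, LinearMap.lTensor_smul,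
        LinearMap.lTensor_id] at h2
      exact h2
    let e := TensorProduct.piScalarRight O O ↥(integralClosure O K) (Fin n)
    refine e.injective ((funext fun i => ?_).trans (map_zero e).symm)
    have h3 : c • e z i = 0 := by rw [← Pi.smul_apply, ← map_smul, h1, map_zero]; rfl
    exact (smul_eq_zero.mp h3).resolve_left hc
  obtain ⟨e⟩ := Groth.Agent.TFCurvTorLib.nonempty_tor_equiv_tor_of_injective ↥(integralClosure O K) f
    (LinearMap.range f).mkQ hf (Submodule.mkQ_surjective _) (LinearMap.exact_map_mkQ_range f) hinj
  exact ⟨⟨e.toModuleIso⟩, hinj⟩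


end Groth.Agent.S15024
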