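import Groth.Statements.S15025
import Groth.Agent.TFCurvTorLib.Basic

set_option autoImplicit false
universe u
open CategoryTheory
open TFCurv

namespace Groth.Agent.S15025

/-- Let O be a one-dimensional Noetherian local domain with algebraically closed residue field whose
integral closure O~ in its fraction field K is a finite O-module, M a finitely generated
torsion-free O-module and g : M → O^n an injective O-linear map whose cokernel T' has finite length.
Then the torsion submodule of O~ ⊗_O M is O-linearly isomorphic to Tor_1^O(O~, T') (existence of an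
isomorphism only). -/
theorem result (O : Type u) [CommRing O] [IsDomain O] [IsNoetherianRing O] [IsLocalRing O] (hdim : ringKrullDim O = 1) [IsAlgClosed (IsLocalRing.ResidueField O)] (K : Type u) [Field K] [Algebra O K] [IsFractionRing O K] (hfin : Module.Finite O ↥(integralClosure O K)) (M : Type u) [AddCommGroup M] [Module O M] [Module.Finite O M] [NoZeroSMulDivisors O M] (n : ℕ) (g : M →ₗ[O] (Fin n → O)) (hg : Function.Injective g) (hT : IsFiniteLength O ((Fin n → O) ⧸ LinearMap.range g)) : Nonempty (↥(Submodule.torsion O (TensorProduct O ↥(integralClosure O K) M)) ≃ₗ[O] ↑(((Tor (ModuleCat.{u} O) 1).obj (ModuleCat.of O ↥(integralClosure O K))).obj (ModuleCat.of O ((Fin n → O) ⧸ LinearMap.range g)))) := by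
  have hnf : IsLocalRing.maximalIdeal O ≠ ⊥ := fun h => by
    have hF : IsField O := IsLocalRing.isField_iff_maximalIdeal_eq.mpr h
    rw [ringKrullDim_eq_zero_of_isField hF] at hdim
    exact zero_ne_one hdim
  obtain ⟨c, hc, h, -, hhg⟩ := Groth.Agent.TFCurvTorLib.exists_scalar hnf g hg hT
  let e := TensorProduct.piScalarRight O O ↥(integralClosure O K) (Fin n)
  have hker : Submodule.torsion O (TensorProduct O ↥(integralClosure O K) M) =
      LinearMap.ker (g.lTensor ↥(integralClosure O K)) := by
    ext z
    constructor
    · rintro ⟨⟨a, ha⟩, haz⟩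
      refine LinearMap.mem_ker.mpr (e.injective ((funext fun i => ?_).trans (map_zero e).symm))
      have h3 : a • e (g.lTensor ↥(integralClosure O K) z) i = 0 := by
        rw [← Pi.smul_apply, ← map_smul, ← map_smul, show a • z = 0 from haz, map_zero, map_zero]; rfl
      exact (smul_eq_zero.mp h3).resolve_left (nonZeroDivisors.ne_zero ha)
    · intro hz
      refine ⟨⟨c, mem_nonZeroDivisors_of_ne_zero hc⟩, ?_⟩
      have h2 := congrArg (h.lTensor ↥(integralClosure O K)) (LinearMap.mem_ker.mp hz)
      rw [map_zero, ← LinearMap.comp_apply, ← LinearMap.lTensor_comp, hhg, LinearMap.lTensor_smul,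
        LinearMap.lTensor_id] at h2
      exact h2
  obtain ⟨t⟩ := Groth.Agent.TFCurvTorLib.nonempty_tor_equiv_ker_lTensor ↥(integralClosure O K) g
    (LinearMap.range g).mkQ hg (Submodule.mkQ_surjective _) (LinearMap.exact_map_mkQ_range g)
  exact ⟨LinearEquiv.ofEq _ _ hker ≪≫ₗ t.symm⟩


end Groth.Agent.S15025
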