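import Groth.Statements.S15026
import Groth.Agent.TFCurvSSLib.PicNorm
import Groth.Agent.FinBirLib.Genus
import Groth.Agent.CurveFin.Const
-- import your own Groth.Agent.* helpers here

set_option autoImplicit false
set_option backward.isDefEq.respectTransparency false
set_option maxHeartbeats 800000
set_option synthInstance.maxHeartbeats 200000
universe u
open CategoryTheory CategoryTheory.Limits AlgebraicGeometry
open TFCurv

namespace Groth.Agent.S15026

open Groth.Agent CategoryTheory

/-- Let X be an integral proper curve (integral, proper, of dimension one) over an algebraically closed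
field k, with normalisation ν : X~ → X. Then every invertible module N on X~ is isomorphic to ν^*L
for some invertible module L on X: the pullback map Pic(X) → Pic(X~) is surjective. (The published
statement is the short exact sequence 0 → ⊕_x O~_x^×/O_x^× → Pic(X) → Pic(X~) → 0; only its
surjectivity is stated here.) -/
theorem result (k : Type u) [Field k] [IsAlgClosed k] (X : Scheme.{u}) [X.Over (Spec (CommRingCat.of k))] [IsIntegral X] [IsProper (X ↘ Spec (CommRingCat.of k))] (hdim : topologicalKrullDim X = 1) [QuasiCompact (X.fromSpecStalk (genericPoint X))] [QuasiSeparated (X.fromSpecStalk (genericPoint X))] (N : (Curv2.normalization X).Modules) (hN : PicF.IsInvertible N) : ∃ L : X.Modules, PicF.IsInvertible L ∧ Nonempty ((Scheme.Modules.pullback (Curv2.normalizationι X)).obj L ≅ N) := by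
    obtain ⟨hfin, hdom, ⟨V, hV, hiso⟩, hint, -⟩ := S1585.result k X
    haveI := hfin
    haveI := hiso
    haveI := EulerIneqLib.isNoetherian_proper (X := X) k
    exact TFCurvSSLib.exists_invertible_pullback_iso (Curv2.normalizationι X) (V := V)
      (CurveFin.finite_compl_open hdim.le V hV)
      (fun x hx => by
        refine isClosed_of_closure_subset fun y hy => ?_
        exact (FinBirLib.eq_of_specializes_compl hdim.le V (V.2.dense hV) hx
          (specializes_iff_mem_closure.2 hy)).symm) hN

end Groth.Agent.S15026
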