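import Groth.Statements.S15028
import Groth.Agent.CurveLib.Deg
import Groth.Agent.CurveFF.Sect

set_option autoImplicit false
universe u
open CategoryTheory CategoryTheory.Limits AlgebraicGeometry
open TFCurv

namespace Groth.Agent.S15028

/-- Let X be an integral proper curve (integral, proper, of dimension one) over an algebraically closed
field k, and let f : E → F be a monomorphism of coherent torsion-free O_X-modules which is
generically an isomorphism (the stalk of its cokernel at the generic point vanishes), with E of rank
n at the generic point. Then deg E ≤ deg F, degrees being taken as modules of rank n (Euler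
characteristic minus n times that of O_X), and equality holds if and only if f is an isomorphism.
(The published statement covers in the same words bundles with parabolic structure and a weight α <
1; only the case without parabolic structure is stated here.) -/
theorem result (k : Type u) [Field k] [IsAlgClosed k] (X : Scheme.{u}) [X.Over (Spec (CommRingCat.of k))] [IsIntegral X] [IsProper (X ↘ Spec (CommRingCat.of k))] (hdim : topologicalKrullDim X = 1) (E F : X.Modules) (hEc : Coh.IsCoh E) (hFc : Coh.IsCoh F) (hEt : TorSh.IsTorsionFree E) (hFt : TorSh.IsTorsionFree F) (n : ℕ) (hn : Module.finrank (X.presheaf.stalk (genericPoint X)) (E.presheaf.stalk (genericPoint X)) = n) (f : E ⟶ F) [Mono f] (hgen : Subsingleton ((cokernel f).presheaf.stalk (genericPoint X))) : Curv2.deg k X E n ≤ Curv2.deg k X F n ∧ (Curv2.deg k X E n = Curv2.deg k X F n ↔ IsIso f) := by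
  haveI := Groth.Agent.EulerIneqLib.isNoetherian_proper (X := X) k
  have hQ := (Groth.Agent.QCohLib.isCoh_kernel_cokernel f hEc hFc).2
  have hC := Groth.Agent.PullbackMod.isClosed_support_of_isFT hQ.2
  have hd := Groth.Agent.CurveLib.dim_le_zero_of_notMem hdim.le hC (genericPoint_spec X)
    (fun h => h hgen)
  have h := Groth.Agent.CurveLib.euler_shortExact (K := k) (Groth.Agent.DevLib.cokerSeq_shortExact f) hEc hFc hQ
  change Curv2.euler k X F = Curv2.euler k X E + Curv2.euler k X (cokernel f) at h
  rw [Groth.Agent.CurveLib.euler_of_dim_le_zero hC subset_rfl hd] at h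
  refine ⟨by unfold Curv2.deg; omega, fun heq => ?_, fun hiso => ?_⟩
  · unfold Curv2.deg at heq
    haveI := Groth.Agent.EulerIneqLib.finite_HH (k := k) hQ 0
    haveI : Subsingleton (Coh.HH X (cokernel f) 0) :=
      (Module.finrank_eq_zero_iff_of_free k (Coh.HH X (cokernel f) 0)).1 (by omega)
    refine (Groth.Agent.PullbackMod.isIso_iff_stalk f).2 fun x => ⟨(Groth.Agent.PullbackMod.mono_iff_stalk f).1 inferInstance x, fun z => ?_⟩
    haveI := Groth.Agent.CurveLib.subsingleton_stalk_of_H0 hC hd (cokernel f) subset_rfl x
    exact (Groth.Agent.DevLib.coker_exact f x z).1 (Subsingleton.elim _ _)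
  · haveI := hiso
    exact Groth.Agent.CurveLib.deg_iso (k := k) (CategoryTheory.asIso f) n

end Groth.Agent.S15028
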