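import Groth.Statements.S15030
import Mathlib
import Groth.Agent.TFMonoLib.Supported

set_option autoImplicit false
universe u
open CategoryTheory
open TFCurv

namespace Groth.Agent.S15030

section helpers

open PowerSeries CategoryTheory

lemma mem_closure_two_odd (d m : ℕ) : m ∈ AddSubmonoid.closure ({2, 2 * d + 1} : Set ℕ) ↔ Even m ∨ 2 * d + 1 ≤ m := by
  constructor
  · intro h
    induction h using AddSubmonoid.closure_induction with
    | mem x hx =>
      rcases hx with rfl | rfl
      · exact Or.inl ⟨1, rfl⟩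
      · exact Or.inr le_rfl
    | zero => exact Or.inl ⟨0, rfl⟩
    | add x y _ _ hx hy =>
      rcases hx with hx | hx
      · rcases hy with hy | hy
        · exact Or.inl (hx.add hy)
        · exact Or.inr (by omega)
      · exact Or.inr (by omega)
  · intro h
    have h2 : ∀ l, 2 * l ∈ AddSubmonoid.closure ({2, 2 * d + 1} : Set ℕ) := by
      intro l
      induction l with
      | zero => exact zero_mem _
      | succ l ih => exact add_mem ih (AddSubmonoid.subset_closure (Set.mem_insert _ _))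
    rcases Nat.even_or_odd m with ⟨l, hl⟩ | ⟨l, hl⟩
    · rw [hl, ← two_mul]
      exact h2 l
    · have : 2 * d + 1 ≤ m := h.resolve_left (fun ⟨r, hr⟩ => by omega)
      have e : m = 2 * (l - d) + (2 * d + 1) := by omega
      rw [e]
      exact add_mem (h2 _) (AddSubmonoid.subset_closure (Set.mem_insert_of_mem _ rfl))

variable {k : Type u} [Field k] (δ : ℕ) (A : Subalgebra k (PowerSeries k))

/-- The exponents of the module `M_a`. -/
def expA (a : ℕ) : Set ℕ := {m | Even m ∨ 2 * (δ - a) + 1 ≤ m}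

/-- The exponents of the monomial ring. -/
def gA : Set ℕ := {m | Even m ∨ 2 * δ + 1 ≤ m}

/-- The exponents of multipliers from `M_i` to `M_j`. -/
def expC (i j : ℕ) : Set ℕ := {m | m ∈ expA δ j ∧ m + (2 * δ + 1 - 2 * i) ∈ expA δ j}

/-- The exponents of the coboundaries. -/
def expW (i j : ℕ) : Set ℕ :=
  {m | (2 * δ + 1 ≤ m ∧ m - (2 * δ + 1) ∈ expA δ j) ∨ (2 * i ≤ m ∧ m - 2 * i ∈ expA δ j)}

lemma expA_stable (a : ℕ) : ∀ g ∈ gA δ, ∀ s ∈ expA δ a, g + s ∈ expA δ a := fun g hg s hs => by
  rcases hg with hg | hg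
  · rcases hs with hs | hs
    · exact Or.inl (hg.add hs)
    · exact Or.inr (by omega)
  · exact Or.inr (by omega)

lemma expC_stable (i j : ℕ) : ∀ g ∈ gA δ, ∀ s ∈ expC δ i j, g + s ∈ expC δ i j := fun g hg s hs =>
  ⟨expA_stable δ j g hg s hs.1, by rw [add_assoc]; exact expA_stable δ j g hg _ hs.2⟩

lemma expW_stable (i j : ℕ) : ∀ g ∈ gA δ, ∀ s ∈ expW δ i j, g + s ∈ expW δ i j := fun g hg s hs => by
  rcases hs with ⟨h1, h2⟩ | ⟨h1, h2⟩
  · exact Or.inl ⟨by omega, by rw [Nat.add_sub_assoc h1]; exact expA_stable δ j g hg _ h2⟩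
  · exact Or.inr ⟨by omega, by rw [Nat.add_sub_assoc h1]; exact expA_stable δ j g hg _ h2⟩

lemma mem_span_pair_iff (hA : ∀ f : PowerSeries k, f ∈ A ↔ ∀ m, coeff m f ≠ 0 → m ∈ gA δ) (a : ℕ) (ha : a ≤ δ)
    (f : PowerSeries k) : f ∈ Submodule.span ↥A ({1, X ^ (2 * δ + 1 - 2 * a)} : Set (PowerSeries k)) ↔
      ∀ m, coeff m f ≠ 0 → m ∈ expA δ a := by
  classical
  constructor
  · intro hf
    have hle : Submodule.span ↥A ({1, X ^ (2 * δ + 1 - 2 * a)} : Set (PowerSeries k)) ≤
        TFMonoLib.Sup A (fun f hf => (hA f).mp hf) (expA δ a) (expA_stable δ a) := by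
      rw [Submodule.span_le]
      rintro g (rfl | rfl) m hm
      · rw [coeff_one] at hm
        exact Or.inl (by rw [show m = 0 from by_contra fun h => hm (if_neg h)]; exact ⟨0, rfl⟩)
      · rw [coeff_X_pow] at hm
        exact Or.inr (by rw [show m = 2 * δ + 1 - 2 * a from by_contra fun h => hm (if_neg h)]; omega)
    exact hle hf
  · intro hf
    let g : PowerSeries k := mk fun m => if m ∈ gA δ then coeff m f else 0
    let h : PowerSeries k := mk fun r => if r + (2 * δ + 1 - 2 * a) ∈ gA δ then 0 else coeff (r + (2 * δ + 1 - 2 * a)) f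
    have hg : g ∈ A := (hA g).mpr fun m hm => by_contra fun h' => hm (by simp [g, h'])
    have hh : h ∈ A := (hA h).mpr fun m hm => by
      by_contra h'
      refine hm ?_
      simp only [h, coeff_mk]
      split_ifs with h1
      · rfl
      · by_contra hne
        rcases hf _ hne with h2 | h2
        · exact h1 (Or.inl h2)
        · exact h' (by
            rcases Nat.even_or_odd m with he | ⟨r, hr⟩
            · exact Or.inl he
            · exact absurd (Or.inl ⟨r + (δ - a) + 1, by omega⟩) h1)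
    have e : f = (⟨g, hg⟩ : ↥A) • (1 : PowerSeries k) + (⟨h, hh⟩ : ↥A) • X ^ (2 * δ + 1 - 2 * a) := by
      ext m
      simp only [Subalgebra.smul_def, smul_eq_mul, mul_one, map_add, coeff_mul_X_pow', g, h, coeff_mk]
      by_cases hm : m ∈ gA δ
      · rw [if_pos hm]
        split_ifs with h1 h2
        · rw [add_zero]
        · exact absurd (by rw [Nat.sub_add_cancel h1]; exact hm) h2
        · rw [add_zero]
      · rw [if_neg hm, zero_add]
        split_ifs with h1 h2
        · exact absurd (by rwa [Nat.sub_add_cancel h1] at h2) hm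
        · rw [Nat.sub_add_cancel h1]
        · by_contra hne
          rcases hf m hne with h2 | h2
          · exact hm (Or.inl h2)
          · exact h1 (by omega)
    rw [e]
    exact add_mem (Submodule.smul_mem _ _ (Submodule.subset_span (Set.mem_insert _ _)))
      (Submodule.smul_mem _ _ (Submodule.subset_span (Set.mem_insert_of_mem _ rfl)))

lemma coeff_X_pow_mul_ne (c : ℕ) (f : PowerSeries k) (m : ℕ) (hm : coeff m (X ^ c * f) ≠ 0) :
    c ≤ m ∧ coeff (m - c) f ≠ 0 := by
  rw [coeff_X_pow_mul'] at hm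
  by_cases h : c ≤ m
  · exact ⟨h, by rwa [if_pos h] at hm⟩
  · exact absurd (if_neg h) hm

/-- Evens below `2a` and odds below `2b`. -/
def gaps (a b : ℕ) : Finset ℕ := (Finset.range a).image (2 * ·) ∪ (Finset.range b).image (2 * · + 1)

lemma card_gaps (a b : ℕ) : (gaps a b).card = a + b := by
  rw [gaps, Finset.card_union_of_disjoint, Finset.card_image_of_injective, Finset.card_image_of_injective,
    Finset.card_range, Finset.card_range]
  · intro x y h
    have : 2 * x + 1 = 2 * y + 1 := h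
    omega
  · intro x y h
    have : 2 * x = 2 * y := h
    omega
  · rw [Finset.disjoint_left]
    intro x hx hy
    simp only [Finset.mem_image] at hx hy
    obtain ⟨p, -, rfl⟩ := hx
    obtain ⟨q, -, hq⟩ := hy
    omega

lemma mem_gaps (a b m : ℕ) : m ∈ gaps a b ↔ (m % 2 = 0 ∧ m < 2 * a) ∨ (m % 2 = 1 ∧ m < 2 * b) := by
  simp only [gaps, Finset.mem_union, Finset.mem_image, Finset.mem_range]
  constructor
  · rintro (⟨l, hl, rfl⟩ | ⟨l, hl, rfl⟩) <;> omega
  · rintro (⟨h1, h2⟩ | ⟨h1, h2⟩)
    · exact Or.inl ⟨m / 2, by omega, by omega⟩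
    · exact Or.inr ⟨m / 2, by omega, by omega⟩

end helpers

set_option maxHeartbeats 4000000
set_option synthInstance.maxHeartbeats 400000

/-- Let k be an algebraically closed field of characteristic zero, δ ≥ 1, and A ⊂ k[[t]] the complete
local ring of the A_{2δ} singularity, i.e. the k-subalgebra of power series all of whose exponents
lie in the semigroup generated by 2 and 2δ + 1 (so A = k[[t², t^{2δ+1}]]). For 0 ≤ i ≤ δ let M_i ⊂
k[[t]] be the A-submodule generated by 1 and t^{2δ+1−2i} (these represent all rank-one torsion-free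
A-modules). Then for 0 ≤ i, j ≤ δ the A-module Ext¹_A(M_i, M_j) has length 2·min(i, j) (length over
A equals k-dimension here). (The published statement also covers the two-branch case n = 2δ − 1 with
the same value; only the one-branch case is stated.) -/
theorem result (k : Type u) [Field k] [IsAlgClosed k] [CharZero k] (δ : ℕ) (hδ : 1 ≤ δ) (A : Subalgebra k (PowerSeries k)) (hmono : ∀ f : PowerSeries k, f ∈ A ↔ ∀ n : ℕ, PowerSeries.coeff n f ≠ 0 → n ∈ AddSubmonoid.closure ({2, 2 * δ + 1} : Set ℕ)) (i j : ℕ) (hi : i ≤ δ) (hj : j ≤ δ) : Module.length ↥A (Abelian.Ext (ModuleCat.of ↥A ↥(Submodule.span ↥A ({1, (PowerSeries.X : PowerSeries k) ^ (2 * δ + 1 - 2 * i)} : Set (PowerSeries k)))) (ModuleCat.of ↥A ↥(Submodule.span ↥A ({1, (PowerSeries.X : PowerSeries k) ^ (2 * δ + 1 - 2 * j)} : Set (PowerSeries k)))) 1) = ((2 * min i j : ℕ) : ℕ∞) := by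
  classical
  have hA : ∀ f : PowerSeries k, f ∈ A ↔ ∀ m, PowerSeries.coeff m f ≠ 0 → m ∈ gA δ := fun f =>
    (hmono f).trans (forall_congr' fun m => imp_congr_right fun _ => mem_closure_two_odd δ m)
  set M := Submodule.span ↥A ({1, (PowerSeries.X : PowerSeries k) ^ (2 * δ + 1 - 2 * i)} : Set (PowerSeries k)) with hMdef
  set N := Submodule.span ↥A ({1, (PowerSeries.X : PowerSeries k) ^ (2 * δ + 1 - 2 * j)} : Set (PowerSeries k)) with hNdef
  let s := 2 * δ + 1 - 2 * i
  have hM : ∀ f, f ∈ M ↔ ∀ m, PowerSeries.coeff m f ≠ 0 → m ∈ expA δ i := mem_span_pair_iff δ A hA i hi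
  have hN : ∀ f, f ∈ N ↔ ∀ m, PowerSeries.coeff m f ≠ 0 → m ∈ expA δ j := mem_span_pair_iff δ A hA j hj
  let one : ↥M := ⟨1, Submodule.subset_span (Set.mem_insert _ _)⟩
  let ts : ↥M := ⟨PowerSeries.X ^ s, Submodule.subset_span (Set.mem_insert_of_mem _ rfl)⟩
  have hA1 : ∀ m : ↥M, (PowerSeries.X : PowerSeries k) ^ (2 * δ + 1) * (m : PowerSeries k) ∈ A := fun m =>
    (hA _).mpr fun r hr => Or.inr (coeff_X_pow_mul_ne _ _ r hr).1
  have hA2 : ∀ m : ↥M, (PowerSeries.X : PowerSeries k) ^ (2 * i) * (m : PowerSeries k) ∈ A := fun m =>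
    (hA _).mpr fun r hr => by
      obtain ⟨h1, h2⟩ := coeff_X_pow_mul_ne _ _ r hr
      rcases (hM _).mp m.2 _ h2 with ⟨l, hl⟩ | h
      · exact Or.inl ⟨l + i, by omega⟩
      · exact Or.inr (by omega)
  let ι : ↥M →ₗ[↥A] ↥A × ↥A :=
    { toFun := fun m => (-⟨_, hA1 m⟩, ⟨_, hA2 m⟩)
      map_add' := fun m m' => Prod.ext (Subtype.ext (show -(_ * ((m : PowerSeries k) + m')) = -(_ * (m : PowerSeries k)) + -(_ * (m' : PowerSeries k)) by rw [mul_add, neg_add])) (Subtype.ext (show _ * ((m : PowerSeries k) + m') = _ + _ from mul_add _ _ _))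
      map_smul' := fun a m => Prod.ext (Subtype.ext (by simp [Subalgebra.smul_def]; ring))
        (Subtype.ext (by simp [Subalgebra.smul_def]; ring)) }
  let q : ↥A × ↥A →ₗ[↥A] ↥M :=
    (LinearMap.toSpanSingleton ↥A ↥M one).coprod (LinearMap.toSpanSingleton ↥A ↥M ts)
  have hqv : ∀ p, (q p : PowerSeries k) = (p.1 : PowerSeries k) + (p.2 : PowerSeries k) * PowerSeries.X ^ s := fun p => by
    simp [q, one, ts, Subalgebra.smul_def]
  have hιi : Function.Injective ι := fun m m' h => Subtype.ext (mul_left_cancel₀ (pow_ne_zero _ PowerSeries.X_ne_zero)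
    (congrArg (fun p : ↥A × ↥A => (p.2 : PowerSeries k)) h))
  have hqs : Function.Surjective q := fun m => by
    obtain ⟨a, b, hab⟩ := Submodule.mem_span_pair.mp (hMdef ▸ m.2 : (m : PowerSeries k) ∈ Submodule.span ↥A
      ({1, (PowerSeries.X : PowerSeries k) ^ s} : Set (PowerSeries k)))
    refine ⟨(a, b), Subtype.ext ?_⟩
    rw [hqv, ← hab]
    simp [Subalgebra.smul_def, s]
  have hex : Function.Exact ι q := by
    intro p
    constructor
    · intro hp
      have h0 : (p.1 : PowerSeries k) + (p.2 : PowerSeries k) * PowerSeries.X ^ s = 0 := by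
        rw [← hqv, hp]; rfl
      have hsupp : ∀ r, PowerSeries.coeff r (p.2 : PowerSeries k) ≠ 0 → 2 * i ≤ r ∧ r - 2 * i ∈ expA δ i := by
        intro r hr
        have h1 : r + s ∈ gA δ := (hA _).mp p.1.2 _ (by
          rw [eq_neg_of_add_eq_zero_left h0, map_neg, neg_ne_zero, PowerSeries.coeff_mul_X_pow]
          exact hr)
        rcases (hA _).mp p.2.2 r hr with ⟨l, hl⟩ | h2
        · rcases h1 with ⟨l', hl'⟩ | h1
          · omega
          · exact ⟨by omega, Or.inl ⟨l - i, by omega⟩⟩
        · exact ⟨by omega, Or.inr (by omega)⟩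
      let m₀ : PowerSeries k := PowerSeries.mk fun r => PowerSeries.coeff (r + 2 * i) (p.2 : PowerSeries k)
      have hm₀ : PowerSeries.X ^ (2 * i) * m₀ = (p.2 : PowerSeries k) := by
        ext r
        rw [PowerSeries.coeff_X_pow_mul']
        split_ifs with h
        · simp [m₀, Nat.sub_add_cancel h]
        · by_contra hne
          exact h (hsupp r (Ne.symm hne)).1
      have hm₀M : m₀ ∈ M := (hM _).mpr fun r hr => by
        simp only [m₀, PowerSeries.coeff_mk] at hr
        have := (hsupp _ hr).2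
        rwa [Nat.add_sub_cancel] at this
      refine ⟨⟨m₀, hm₀M⟩, Prod.ext (Subtype.ext ?_) (Subtype.ext hm₀)⟩
      show -(PowerSeries.X ^ (2 * δ + 1) * m₀) = (p.1 : PowerSeries k)
      rw [eq_neg_of_add_eq_zero_left h0, ← hm₀, show 2 * δ + 1 = 2 * i + s by omega, pow_add]
      ring
    · rintro ⟨m, rfl⟩
      refine Subtype.ext ?_
      rw [hqv]
      show -(PowerSeries.X ^ (2 * δ + 1) * (m : PowerSeries k)) + PowerSeries.X ^ (2 * i) * (m : PowerSeries k) * PowerSeries.X ^ s = 0
      rw [show 2 * δ + 1 = 2 * i + s by omega, pow_add]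
      ring
  have hG : ∀ f : PowerSeries k, f ∈ A → ∀ m, PowerSeries.coeff m f ≠ 0 → m ∈ gA δ := fun f hf => (hA f).mp hf
  let SC := Groth.Agent.TFMonoLib.Sup A hG (expC δ i j) (expC_stable δ i j)
  let SW := Groth.Agent.TFMonoLib.Sup A hG (expW δ i j) (expW_stable δ i j)
  let ψ : (↥M →ₗ[↥A] ↥N) → PowerSeries k := fun φ => (φ one : PowerSeries k)
  have hφ : ∀ (φ : ↥M →ₗ[↥A] ↥N) (m : ↥M), (φ m : PowerSeries k) = (m : PowerSeries k) * ψ φ := by
    intro φ m
    have hts : (φ ts : PowerSeries k) = PowerSeries.X ^ s * ψ φ := by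
      have e : (⟨_, hA2 one⟩ : ↥A) • ts = (⟨_, hA1 one⟩ : ↥A) • one := Subtype.ext (by
        simp [Subalgebra.smul_def, one, ts]
        rw [← pow_add]
        congr 1
        omega)
      have := congrArg (fun x => (φ x : PowerSeries k)) e
      simp only [map_smul, Submodule.coe_smul, Subalgebra.smul_def, smul_eq_mul, one, mul_one] at this
      refine mul_left_cancel₀ (pow_ne_zero (2 * i) PowerSeries.X_ne_zero) (this.trans ?_)
      rw [← mul_assoc, ← pow_add, show 2 * i + s = 2 * δ + 1 by omega]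
    obtain ⟨p, rfl⟩ := hqs m
    rw [hqv]
    have : (φ (q p) : PowerSeries k) = (p.1 : PowerSeries k) * ψ φ + (p.2 : PowerSeries k) * (φ ts : PowerSeries k) := by
      simp [q, Subalgebra.smul_def, ψ]
    rw [this, hts]
    ring
  have hC : ∀ c, c ∈ SC ↔ ∃ φ : ↥M →ₗ[↥A] ↥N, N.subtype (φ one) = c := by
    intro c
    symm
    constructor
    · rintro ⟨φ, rfl⟩ m hm
      change PowerSeries.coeff m (ψ φ) ≠ 0 at hm
      refine ⟨(hN _).mp (φ one).2 m hm, (hN _).mp (φ ts).2 _ ?_⟩
      rw [hφ, show ((ts : ↥M) : PowerSeries k) = PowerSeries.X ^ s from rfl, PowerSeries.coeff_X_pow_mul]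
      exact hm
    · intro hc
      have hmem : ∀ m : ↥M, (m : PowerSeries k) * c ∈ N := by
        intro m
        obtain ⟨p, rfl⟩ := hqs m
        rw [hqv, add_mul, mul_assoc]
        refine add_mem (N.smul_mem p.1 ((hN _).mpr fun r hr => (hc r hr).1))
          (N.smul_mem p.2 ((hN _).mpr fun r hr => ?_))
        obtain ⟨h1, h2⟩ := coeff_X_pow_mul_ne _ _ r hr
        have := (hc _ h2).2
        rwa [Nat.sub_add_cancel h1] at this
      refine ⟨{ toFun := fun m => ⟨_, hmem m⟩
                map_add' := fun m m' => Subtype.ext (add_mul _ _ _)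
                map_smul' := fun a m => Subtype.ext (mul_assoc _ _ _) }, ?_⟩
      exact one_mul c
  have hW : ∀ φ : ↥M →ₗ[↥A] ↥N, (∃ η : ↥A × ↥A →ₗ[↥A] ↥N, η.comp ι = φ) ↔ ψ φ ∈ SW := by
    intro φ
    constructor
    · rintro ⟨η, rfl⟩
      have hv : ψ (η.comp ι) = -(PowerSeries.X ^ (2 * δ + 1) * (η (1, 0) : PowerSeries k)) +
          PowerSeries.X ^ (2 * i) * (η (0, 1) : PowerSeries k) := by
        have e : ι one = (-⟨_, hA1 one⟩ : ↥A) • ((1, 0) : ↥A × ↥A) + (⟨_, hA2 one⟩ : ↥A) • (0, 1) := by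
          simp [ι]
        show (η (ι one) : PowerSeries k) = _
        rw [e, map_add, map_smul, map_smul]
        simp [Subalgebra.smul_def, one]
      rw [hv]
      refine add_mem (neg_mem fun m hm => ?_) (fun m hm => ?_)
      · obtain ⟨h1, h2⟩ := coeff_X_pow_mul_ne _ _ m hm
        exact Or.inl ⟨h1, (hN _).mp (η (1, 0)).2 _ h2⟩
      · obtain ⟨h1, h2⟩ := coeff_X_pow_mul_ne _ _ m hm
        exact Or.inr ⟨h1, (hN _).mp (η (0, 1)).2 _ h2⟩
    · intro hW
      let n₂ : PowerSeries k := PowerSeries.mk fun r => if r ∈ expA δ j then PowerSeries.coeff (r + 2 * i) (ψ φ) else 0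
      let n₁ : PowerSeries k := PowerSeries.mk fun r =>
        if (2 * i ≤ r + (2 * δ + 1) ∧ r + (2 * δ + 1) - 2 * i ∈ expA δ j) then 0
        else -(PowerSeries.coeff (r + (2 * δ + 1)) (ψ φ))
      have hn₂ : n₂ ∈ N := (hN _).mpr fun r hr => by_contra fun h => hr (by simp [n₂, h])
      have hn₁ : n₁ ∈ N := (hN _).mpr fun r hr => by
        simp only [n₁, PowerSeries.coeff_mk] at hr
        split_ifs at hr with h
        · exact absurd rfl hr
        · rcases hW _ (neg_ne_zero.mp hr) with ⟨-, h2⟩ | h2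
          · rwa [Nat.add_sub_cancel] at h2
          · exact absurd h2 h
      refine ⟨(LinearMap.toSpanSingleton ↥A ↥N ⟨n₁, hn₁⟩).coprod (LinearMap.toSpanSingleton ↥A ↥N ⟨n₂, hn₂⟩), ?_⟩
      refine LinearMap.ext fun m => Subtype.ext ?_
      rw [hφ φ m]
      have e : ψ φ = -(PowerSeries.X ^ (2 * δ + 1) * n₁) + PowerSeries.X ^ (2 * i) * n₂ := by
        ext r
        simp only [map_add, map_neg, PowerSeries.coeff_X_pow_mul', n₁, n₂, PowerSeries.coeff_mk]
        by_cases h2 : 2 * i ≤ r ∧ r - 2 * i ∈ expA δ j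
        · rw [if_pos h2.1, if_pos h2.2, Nat.sub_add_cancel h2.1]
          split_ifs with h1 h3
          · rw [neg_zero, zero_add]
          · exact absurd (by rw [Nat.sub_add_cancel h1]; exact h2) h3
          · rw [neg_zero, zero_add]
        · have h2' : (if 2 * i ≤ r then if r - 2 * i ∈ expA δ j then PowerSeries.coeff (r - 2 * i + 2 * i) (ψ φ) else 0 else 0) = 0 := by
            split_ifs with h1 h3 <;> first | rfl | exact absurd ⟨h1, h3⟩ h2
          rw [h2', add_zero]
          split_ifs with h1 h3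
          · rw [Nat.sub_add_cancel h1] at h3
            exact absurd h3 h2
          · rw [Nat.sub_add_cancel h1, neg_neg]
          · rw [neg_zero]
            by_contra hne
            rcases hW r hne with ⟨h4, -⟩ | h4
            · exact h1 h4
            · exact h2 h4
      rw [e]
      simp [ι, Subalgebra.smul_def]
      ring
  have hlen := Groth.Agent.TFMonoLib.length_ext_eq (O := ↥A) (M := ↥M) (N := ↥N) (F := ↥A × ↥A) (K := ↥M)
    ι q hιi hqs hex N.subtype one SW SC hC hW
  have hdiff := Groth.Agent.TFMonoLib.length_range_add A hG (gaps i (δ - (j - i))) (gaps (i - j) (δ - j))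
    (expW δ i j) (expC δ i j) (expW_stable δ i j) (expC_stable δ i j)
    (fun m => by
      simp only [mem_gaps, expW, expA, Set.mem_setOf_eq, Nat.even_iff]
      omega)
    (fun m => by
      simp only [mem_gaps, expC, expA, Set.mem_setOf_eq, Nat.even_iff]
      omega)
    (fun m hm => by
      simp only [expW, expC, expA, Set.mem_setOf_eq, Nat.even_iff] at hm ⊢
      omega)
  rw [← hlen, card_gaps, card_gaps] at hdiff
  rw [show i + (δ - (j - i)) = 2 * min i j + (i - j + (δ - j)) by omega, Nat.cast_add] at hdiff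
  exact (WithTop.add_right_inj (ENat.natCast_ne_top _)).mp hdiff

end Groth.Agent.S15030
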