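import Groth.Statements.S15031
import Mathlib
import Groth.Agent.TFCanonLib.Monomial

set_option autoImplicit false
universe u
open CategoryTheory
open TFCurv

namespace Groth.Agent.S15031

/-- Let k be an algebraically closed field, n ≥ 2, and A = R_n ⊂ k[[t]] the monomial ring of the cubical
semigroup ⟨n, n+1, …, 2n−1⟩, i.e. the k-subalgebra of power series with no terms of degree 1, …,
n−1. For 0 ≤ i ≤ n − 2 let M_i ⊂ k[[t]] be the A-submodule generated by 1, t, …, t^i (the monomial
module whose value set is Γ_n together with 1, …, i). Then the A-module Ext¹_A(M_i, M_i) has length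
i·(n − 2 − i); as the A-endomorphisms of M_i are the scalars, this number is the invariant χ₁(M_i) =
dim Ext¹(M_i, M_i) − dim(End(M_i)/A). (The published statement asserts the value for every module
with this value set; only the monomial module is stated here.) -/
theorem result (k : Type u) [Field k] [IsAlgClosed k] (n : ℕ) (hn : 2 ≤ n) (A : Subalgebra k (PowerSeries k)) (hmono : ∀ f : PowerSeries k, f ∈ A ↔ ∀ m : ℕ, PowerSeries.coeff m f ≠ 0 → (m = 0 ∨ n ≤ m)) (i : ℕ) (hi : i + 2 ≤ n) : Module.length ↥A (Abelian.Ext (ModuleCat.of ↥A ↥(Submodule.span ↥A ((fun a : ℕ => (PowerSeries.X : PowerSeries k) ^ a) '' Set.Iic i))) (ModuleCat.of ↥A ↥(Submodule.span ↥A ((fun a : ℕ => (PowerSeries.X : PowerSeries k) ^ a) '' Set.Iic i))) 1) = ((i * (n - 2 - i) : ℕ) : ℕ∞) := by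
  haveI hfinA : Module.Finite ↥A (PowerSeries k) := TFCanonLib.finite_cubical A (by omega) hmono
  letI := TFCanonLib.augAlgebra A
  classical
  set M := Submodule.span ↥A ((fun a : ℕ => (PowerSeries.X : PowerSeries k) ^ a) '' Set.Iic i) with hMdef
  have hU : Set.Iic i = {0} ∪ ↑(Finset.Icc 1 i) := by ext x; simp; omega
  have hM := TFCanonLib.mem_span_monomials A hmono (Finset.Icc 1 i) _ hU
  obtain ⟨γ, hγ⟩ := TFCanonLib.exists_gamma A hmono M (Finset.Icc 1 i) (Finset.Ico (n + i + 1) (2 * n))
    (fun b hb => (Finset.mem_Ico.mp hb).2)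
  have hmain := TFCanonLib.length_ext_one_monomial A (by omega) hmono M (Finset.Icc 1 i)
    (fun a ha => by simp only [Finset.mem_Icc] at ha; omega) hM n le_rfl (fun m hm => Or.inr (Or.inl hm))
    (Or.inr (by simp only [TFCanonLib.expo, Set.mem_setOf_eq, Finset.mem_Icc]; omega))
    (Finset.Ico (n + i + 1) (2 * n))
    (fun b => by simp only [TFCanonLib.expo, Set.mem_setOf_eq, Finset.mem_Icc, Finset.mem_Ico]; omega) γ hγ
  have hXM : ∀ a ∈ Finset.Icc 1 i, (PowerSeries.X : PowerSeries k) ^ a ∈ M := fun a ha =>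
    Submodule.subset_span ⟨a, (Finset.mem_Icc.mp ha).2, rfl⟩
  rw [TFCanonLib.length_quotient_coeff A hmono M (Finset.Icc 1 i)
    (fun a ha => by simp only [Finset.mem_Icc] at ha; omega) hXM γ ?_] at hmain
  · have hc : (Finset.Icc 1 i).card * (Finset.Ico (n + i + 1) (2 * n)).card = i * (n - 2 - i) + i := by
      simp only [Nat.card_Icc, Nat.card_Ico]
      rw [show i + 1 - 1 = i by omega, show 2 * n - (n + i + 1) = (n - 2 - i) + 1 by omega, Nat.mul_succ]
    rw [hc, Nat.card_Icc, Nat.add_sub_cancel, Nat.cast_add] at hmain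
    exact (WithTop.add_right_inj (ENat.natCast_ne_top i)).mp hmain
  intro x
  constructor
  · intro hx j hj
    rw [Finset.mem_Icc] at hj
    have := congrFun (congrFun hx ⟨i + 1 - j, Finset.mem_Icc.mpr (by omega)⟩)
      ⟨n + i + 1, Finset.mem_Ico.mpr (by omega)⟩
    rw [hγ, Pi.zero_apply, Pi.zero_apply, PowerSeries.coeff_mul_X_pow', if_pos (by simp only; omega)] at this
    simpa [show n + i + 1 - (i + 1 - j + n) = j by omega] using this
  · intro h
    funext a b
    obtain ⟨a, ha⟩ := a; obtain ⟨b, hb⟩ := b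
    rw [Finset.mem_Icc] at ha; rw [Finset.mem_Ico] at hb
    rw [hγ, Pi.zero_apply, Pi.zero_apply, PowerSeries.coeff_mul_X_pow', if_pos (by simp only; omega)]
    by_contra hne
    rcases (hM x).mp x.2 _ hne with h' | h' | h'
    · simp only at h'; omega
    · simp only at h'; omega
    · exact hne (h _ h')

end Groth.Agent.S15031
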