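import Groth.Statements.S15032
import Mathlib
import Groth.Agent.TFCanonLib.Monomial

set_option autoImplicit false
universe u
open CategoryTheory
open TFCurv

namespace Groth.Agent.S15032




open Abelian in
/-- Self-`Ext` is invariant under isomorphism. -/
lemma ext_conj {R : Type u} [CommRing R] {X Y : ModuleCat.{u} R} (e : X ≅ Y) (n : ℕ) :
    Nonempty (Ext X X n ≃ₗ[R] Ext Y Y n) :=
  ⟨{ toFun := fun x => ((Ext.mk₀ e.inv).comp x (zero_add n)).comp (Ext.mk₀ e.hom) (add_zero n)
     invFun := fun y => ((Ext.mk₀ e.hom).comp y (zero_add n)).comp (Ext.mk₀ e.inv) (add_zero n)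
     left_inv := fun x => by simp
     right_inv := fun y => by simp
     map_add' := fun x y => by simp
     map_smul' := fun r x => by simp }⟩


/-- Let k be an algebraically closed field, n ≥ 2, and A = R_n ⊂ k[[t]] the monomial ring of the cubical
semigroup ⟨n, n+1, …, 2n−1⟩, i.e. the k-subalgebra of power series with no terms of degree 1, …,
n−1. For the normalisation R~ = k[[t]] viewed as an A-module, χ₁(R~) = (n − 1)², where χ₁(M) = dim_k
Ext¹_A(M, M) − dim_k(End_A(M)/A): the length of the A-module Ext¹_A(k[[t]], k[[t]]) equals (n − 1)²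
plus the length of the A-linear endomorphisms of k[[t]] modulo multiplications by elements of A. -/
theorem result (k : Type u) [Field k] [IsAlgClosed k] (n : ℕ) (hn : 2 ≤ n) (A : Subalgebra k (PowerSeries k)) (hmono : ∀ f : PowerSeries k, f ∈ A ↔ ∀ m : ℕ, PowerSeries.coeff m f ≠ 0 → (m = 0 ∨ n ≤ m)) : Module.length ↥A (Abelian.Ext (ModuleCat.of ↥A (PowerSeries k)) (ModuleCat.of ↥A (PowerSeries k)) 1) = (((n - 1) ^ 2 : ℕ) : ℕ∞) + Module.length ↥A ((PowerSeries k →ₗ[↥A] PowerSeries k) ⧸ LinearMap.range (Algebra.lsmul ↥A ↥A (PowerSeries k) : ↥A →ₐ[↥A] Module.End ↥A (PowerSeries k)).toLinearMap) := by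
  haveI hfinA : Module.Finite ↥A (PowerSeries k) := TFCanonLib.finite_cubical A (by omega) hmono
  letI := TFCanonLib.augAlgebra A
  classical
  have hM : ∀ f : PowerSeries k, f ∈ (⊤ : Submodule ↥A (PowerSeries k)) ↔
      ∀ m : ℕ, PowerSeries.coeff m f ≠ 0 → m ∈ TFCanonLib.expo n (Finset.Icc 1 (n - 1)) := fun f =>
    iff_of_true trivial fun m _ => by simp only [TFCanonLib.expo, Set.mem_setOf_eq, Finset.mem_Icc]; omega
  obtain ⟨γ, hγ⟩ := TFCanonLib.exists_gamma A hmono (⊤ : Submodule ↥A (PowerSeries k)) (Finset.Icc 1 (n - 1))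
    (Finset.range n) (fun b hb => by have := Finset.mem_range.mp hb; omega)
  have hmain := TFCanonLib.length_ext_one_monomial A (by omega) hmono (⊤ : Submodule ↥A (PowerSeries k))
    (Finset.Icc 1 (n - 1)) (fun a ha => by simp only [Finset.mem_Icc] at ha; omega) hM 0 (Nat.zero_le _)
    (fun m _ => by simp only [TFCanonLib.expo, Set.mem_setOf_eq, Finset.mem_Icc]; omega) (Or.inl rfl)
    (Finset.range n)
    (fun b => by simp only [TFCanonLib.expo, Set.mem_setOf_eq, Finset.mem_Icc, Finset.mem_range]; omega) γ hγ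
  have hzero : γ = 0 := by
    refine LinearMap.ext fun x => funext fun a => funext fun b => ?_
    rw [hγ, PowerSeries.coeff_mul_X_pow', if_neg (by have := Finset.mem_range.mp b.2; omega)]
    rfl
  rw [hzero, LinearMap.range_zero, Module.length_bot, add_zero, Finset.card_range, Nat.card_Icc,
    Nat.add_sub_cancel] at hmain
  obtain ⟨e⟩ := ext_conj (X := ModuleCat.of ↥A ↥(⊤ : Submodule ↥A (PowerSeries k)))
    (Y := ModuleCat.of ↥A (PowerSeries k)) Submodule.topEquiv.toModuleIso 1
  rw [← e.length_eq, hmain]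
  -- `End(R) / A` has length `n - 1`
  let Φ : ↥(⊤ : Submodule ↥A (PowerSeries k)) →ₗ[↥A] (PowerSeries k →ₗ[↥A] PowerSeries k) ⧸
      LinearMap.range (Algebra.lsmul ↥A ↥A (PowerSeries k) : ↥A →ₐ[↥A] Module.End ↥A (PowerSeries k)).toLinearMap :=
    (Submodule.mkQ _).comp ((LinearMap.mul ↥A (PowerSeries k)).comp (⊤ : Submodule ↥A (PowerSeries k)).subtype)
  have hsurj : Function.Surjective Φ := fun y => by
    obtain ⟨φ, rfl⟩ := Submodule.mkQ_surjective _ y
    refine ⟨⟨φ 1, trivial⟩, congrArg (Submodule.mkQ _) ?_⟩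
    refine LinearMap.ext fun r => ?_
    -- both are multiplications: compare through a nonzero element of `A`
    have hXA : ∀ g : PowerSeries k, PowerSeries.X ^ n * g ∈ A := fun g => (hmono _).mpr fun m hm => Or.inr (by
      by_contra h; rw [PowerSeries.coeff_X_pow_mul', if_neg h] at hm; exact hm rfl)
    have h1 : (⟨_, hXA r⟩ : ↥A) • φ 1 = (⟨_, (mul_one (PowerSeries.X ^ n : PowerSeries k)) ▸ hXA 1⟩ : ↥A) • φ r := by
      rw [← map_smul, ← map_smul]
      congr 1
      exact mul_one _
    refine mul_left_cancel₀ (pow_ne_zero n PowerSeries.X_ne_zero) ?_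
    show PowerSeries.X ^ n * (φ 1 * r) = PowerSeries.X ^ n * φ r
    rw [show PowerSeries.X ^ n * (φ 1 * r) = (PowerSeries.X ^ n * r) * φ 1 by ring]
    exact h1
  have hlen := TFCanonLib.length_quotient_coeff A hmono (⊤ : Submodule ↥A (PowerSeries k)) (Finset.Icc 1 (n - 1))
    (fun a ha => by simp only [Finset.mem_Icc] at ha; omega) (fun _ _ => trivial) Φ (fun x => by
      show Submodule.mkQ _ _ = 0 ↔ _
      rw [Submodule.mkQ_apply, Submodule.Quotient.mk_eq_zero]
      constructor
      · rintro ⟨g, hg⟩ a ha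
        have hx : (g : PowerSeries k) * 1 = (x : PowerSeries k) * 1 := LinearMap.congr_fun hg 1
        rw [mul_one, mul_one] at hx
        rw [← hx]
        by_contra h
        simp only [Finset.mem_Icc] at ha
        rcases (hmono _).mp g.2 a h with h' | h' <;> omega
      · intro h
        refine ⟨⟨(x : PowerSeries k), (hmono _).mpr fun m hm => ?_⟩, LinearMap.ext fun r => rfl⟩
        by_contra hcon
        push Not at hcon
        exact hm (h m (Finset.mem_Icc.mpr (by omega))))
  rw [LinearMap.range_eq_top.mpr hsurj, Module.length_top, Nat.card_Icc, Nat.add_sub_cancel] at hlen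
  rw [hlen, ← Nat.cast_add]
  congr 1
  obtain ⟨p, rfl⟩ : ∃ p, n = p + 1 := ⟨n - 1, by omega⟩
  simp only [Nat.add_sub_cancel]
  ring

end Groth.Agent.S15032
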