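import Groth.Statements.S15033
import Mathlib
import Groth.Agent.TFCanonLib.Monomial

set_option autoImplicit false
universe u
open CategoryTheory
open TFCurv

namespace Groth.Agent.S15033

/-- Let k be an algebraically closed field, n ≥ 2, and A = R_n ⊂ k[[t]] the monomial ring of the cubical
semigroup ⟨n, n+1, …, 2n−1⟩, i.e. the k-subalgebra of power series with no terms of degree 1, …,
n−1. For 0 ≤ i < n − 1 let R_{n−i} ⊂ k[[t]] be the A-submodule generated by 1, t^{n−i}, t^{n−i+1},
…, t^{n−1}, i.e. the overring of A consisting of the power series with no terms of degree 1, …, n −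
i − 1. Then the A-module Ext¹_A(R_{n−i}, R_{n−i}) has length i·(n − 1). Since the A-endomorphisms of
R_{n−i} are the multiplications by elements of R_{n−i}, of colength i over A, this is the published
value χ₁(R_{n−i}) = i·(n − 2) of χ₁(M) = dim Ext¹(M, M) − dim(End(M)/A). -/
theorem result (k : Type u) [Field k] [IsAlgClosed k] (n : ℕ) (hn : 2 ≤ n) (A : Subalgebra k (PowerSeries k)) (hmono : ∀ f : PowerSeries k, f ∈ A ↔ ∀ m : ℕ, PowerSeries.coeff m f ≠ 0 → (m = 0 ∨ n ≤ m)) (i : ℕ) (hi : i + 2 ≤ n) : Module.length ↥A (Abelian.Ext (ModuleCat.of ↥A ↥(Submodule.span ↥A ((fun a : ℕ => (PowerSeries.X : PowerSeries k) ^ a) '' ({0} ∪ Set.Icc (n - i) (n - 1))))) (ModuleCat.of ↥A ↥(Submodule.span ↥A ((fun a : ℕ => (PowerSeries.X : PowerSeries k) ^ a) '' ({0} ∪ Set.Icc (n - i) (n - 1))))) 1) = ((i * (n - 1) : ℕ) : ℕ∞) := by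
  haveI hfinA : Module.Finite ↥A (PowerSeries k) := TFCanonLib.finite_cubical A (by omega) hmono
  letI := TFCanonLib.augAlgebra A
  classical
  set M := Submodule.span ↥A ((fun a : ℕ => (PowerSeries.X : PowerSeries k) ^ a) '' ({0} ∪ Set.Icc (n - i) (n - 1))) with hMdef
  have hU : ({0} ∪ Set.Icc (n - i) (n - 1) : Set ℕ) = {0} ∪ ↑(Finset.Icc (n - i) (n - 1)) := by
    rw [Finset.coe_Icc]
  have hM := TFCanonLib.mem_span_monomials A hmono (Finset.Icc (n - i) (n - 1)) _ hU
  obtain ⟨γ, hγ⟩ := TFCanonLib.exists_gamma A hmono M (Finset.Icc (n - i) (n - 1))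
    (Finset.Ico (n - i) n ∪ Finset.Ico (n + 1) (2 * n - i))
    (fun b hb => by simp only [Finset.mem_union, Finset.mem_Ico] at hb; omega)
  have hmain := TFCanonLib.length_ext_one_monomial A (by omega) hmono M (Finset.Icc (n - i) (n - 1))
    (fun a ha => by simp only [Finset.mem_Icc] at ha; omega) hM (n - i) (Nat.sub_le _ _)
    (fun m hm => by simp only [TFCanonLib.expo, Set.mem_setOf_eq, Finset.mem_Icc]; omega)
    (Or.inr (by simp only [TFCanonLib.expo, Set.mem_setOf_eq, Finset.mem_Icc]; omega))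
    (Finset.Ico (n - i) n ∪ Finset.Ico (n + 1) (2 * n - i))
    (fun b => by simp only [TFCanonLib.expo, Set.mem_setOf_eq, Finset.mem_Icc, Finset.mem_union, Finset.mem_Ico]; omega) γ hγ
  have hzero : γ = 0 := by
    refine LinearMap.ext fun x => funext fun a => funext fun b => ?_
    obtain ⟨a, ha⟩ := a; obtain ⟨b, hb⟩ := b
    rw [Finset.mem_Icc] at ha; simp only [Finset.mem_union, Finset.mem_Ico] at hb
    rw [hγ, PowerSeries.coeff_mul_X_pow']
    split_ifs with h
    · by_contra hne
      have := (hM x).mp x.2 _ hne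
      simp only [TFCanonLib.expo, Set.mem_setOf_eq, Finset.mem_Icc] at this h
      omega
    · rfl
  rw [Finset.card_union_of_disjoint (by rw [Finset.disjoint_left]; intro z; simp only [Finset.mem_Ico]; omega),
    Nat.card_Ico, Nat.card_Ico, Nat.card_Icc, hzero, LinearMap.range_zero, Module.length_bot, add_zero] at hmain
  rw [hmain]
  congr 2 <;> omega

end Groth.Agent.S15033
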