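import Groth.Statements.S15034
import Mathlib
import Groth.Agent.TFCanonLib.PowerSeries

set_option autoImplicit false
universe u
open TFCurv

namespace Groth.Agent.S15034

/-- Let k be an algebraically closed field and A ≠ k[[t]] a k-subalgebra of k[[t]] that is closed in the
t-adic topology and over which k[[t]] is a finite module (as for the complete local ring of a
unibranch curve singularity inside its normalisation), and let Γ ⊆ ℕ be the set of t-orders of the
nonzero elements of A (its value semigroup). Let M, N be finitely generated A-submodules of k[[t]]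
containing 1 (rank-one torsion-free modules in normal form), with value sets Γ(M), Γ(N) (orders of
their nonzero elements); the A-linear maps M → N are the multiplications by power series u with uM ⊆
N. Then the order of every such nonzero u satisfies n + Γ(M) ⊆ Γ(N), and although the set of these
orders can be smaller than S = {n | n + Γ(M) ⊆ Γ(N)}, the two sets have the same conductor: for
every c', all integers n ≥ c' are orders of multipliers exactly when all n ≥ c' lie in S. -/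
theorem result (k : Type u) [Field k] [IsAlgClosed k] (A : Subalgebra k (PowerSeries k)) (hA : Module.Finite ↥A (PowerSeries k)) (hcl : ∀ f : PowerSeries k, (∀ n : ℕ, ∃ g ∈ A, (n : ℕ∞) ≤ PowerSeries.order (f - g)) → f ∈ A) (hsing : A ≠ ⊤) (Γ : Set ℕ) (hΓ : ∀ n : ℕ, n ∈ Γ ↔ ∃ f ∈ A, PowerSeries.order f = n) (M N : Submodule ↥A (PowerSeries k)) (hMfg : M.FG) (hNfg : N.FG) (hM1 : (1 : PowerSeries k) ∈ M) (hN1 : (1 : PowerSeries k) ∈ N) (ΓM ΓN : Set ℕ) (hΓM : ∀ n : ℕ, n ∈ ΓM ↔ ∃ f ∈ M, PowerSeries.order f = n) (hΓN : ∀ n : ℕ, n ∈ ΓN ↔ ∃ f ∈ N, PowerSeries.order f = n) : (∀ n : ℕ, (∃ u : PowerSeries k, PowerSeries.order u = n ∧ ∀ m ∈ M, u * m ∈ N) → ∀ a ∈ ΓM, n + a ∈ ΓN) ∧ ∀ c' : ℕ, (∀ n : ℕ, c' ≤ n → ∃ u : PowerSeries k, PowerSeries.order u = n ∧ ∀ m ∈ M, u * m ∈ N) ↔ (∀ n : ℕ, c' ≤ n → ∀ a ∈ ΓM, n + a ∈ ΓN) := by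
  haveI := hA
  haveI := TFCanonLib.isLocalRing_subalgebra A
  have hdir : ∀ n : ℕ, (∃ u : PowerSeries k, PowerSeries.order u = n ∧ ∀ m ∈ M, u * m ∈ N) → ∀ a ∈ ΓM, n + a ∈ ΓN := by
    rintro n ⟨u, hu, huM⟩ a ha
    obtain ⟨m, hm, hmo⟩ := (hΓM a).mp ha
    exact (hΓN _).mpr ⟨u * m, huM m hm, by rw [PowerSeries.order_mul, hu, hmo, Nat.cast_add]⟩
  refine ⟨hdir, fun c' => ⟨fun h n hn => hdir n (h n hn), fun h n hn => ?_⟩⟩
  -- an element of positive order in `A`
  obtain ⟨a, ha, ha0⟩ : ∃ a ∈ IsLocalRing.maximalIdeal ↥A, a ≠ 0 := by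
    by_contra hcon
    push Not at hcon
    have hfld : IsField ↥A := IsLocalRing.isField_iff_maximalIdeal_eq.mpr ((Submodule.eq_bot_iff _).mpr hcon)
    have := isField_of_isIntegral_of_isField' (S := PowerSeries k) hfld
    obtain ⟨y, hy⟩ := this.mul_inv_cancel (PowerSeries.X_ne_zero (R := k))
    have := congrArg PowerSeries.constantCoeff hy
    simp at this
  obtain ⟨e, he⟩ := ENat.ne_top_iff_exists.mp (PowerSeries.order_eq_top.not.mpr fun h => ha0 (Subtype.ext h))
  have he0 : e ≠ 0 := fun h => by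
    subst h
    refine (IsLocalRing.mem_maximalIdeal a).mp ha (IsUnit.of_map (algebraMap ↥A (PowerSeries k)) a ?_)
    rw [PowerSeries.isUnit_iff_constantCoeff, isUnit_iff_ne_zero, ← PowerSeries.coeff_zero_eq_constantCoeff_apply]
    exact (PowerSeries.order_eq_nat.mp he.symm).1
  let Q : Submodule ↥A (PowerSeries k) := (Ideal.span {(PowerSeries.X : PowerSeries k) ^ c'}).restrictScalars ↥A
  have hQ : ∀ f, f ∈ Q ↔ PowerSeries.X ^ c' ∣ f := fun f => Ideal.mem_span_singleton
  have hQfg : Q.FG := by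
    have h1 := (Module.Finite.fg_top : (⊤ : Submodule ↥A (PowerSeries k)).FG).map
      (LinearMap.mulLeft ↥A ((PowerSeries.X : PowerSeries k) ^ c'))
    have heq : Q = Submodule.map (LinearMap.mulLeft ↥A ((PowerSeries.X : PowerSeries k) ^ c')) ⊤ := by
      refine SetLike.ext fun f => ?_
      rw [hQ]
      exact ⟨fun ⟨g, hg⟩ => ⟨g, trivial, hg.symm⟩, fun ⟨g, _, hg⟩ => ⟨g, hg.symm⟩⟩
    rw [heq]; exact h1
  have hQN : Q ≤ N := by
    refine Submodule.le_of_le_smul_of_le_jacobson_bot hQfg (IsLocalRing.maximalIdeal_le_jacobson _) ?_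
    intro q hq
    have key : ∀ j : ℕ, ∃ x ∈ N, PowerSeries.X ^ (c' + j) ∣ q - x := by
      intro j
      induction j with
      | zero => exact ⟨0, N.zero_mem, by simpa using (hQ q).mp hq⟩
      | succ j ih =>
        obtain ⟨x, hx, hdvd⟩ := ih
        have hmem := h (c' + j) (Nat.le_add_right _ _) 0 ((hΓM 0).mpr ⟨1, hM1, by simp⟩)
        rw [add_zero] at hmem
        obtain ⟨p, hp, hpo⟩ := (hΓN _).mp hmem
        obtain ⟨hp1, hp2⟩ := PowerSeries.order_eq_nat.mp hpo
        refine ⟨x + (⟨PowerSeries.C (PowerSeries.coeff (c' + j) (q - x) / PowerSeries.coeff (c' + j) p),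
          A.algebraMap_mem _⟩ : ↥A) • p, add_mem hx (N.smul_mem _ hp), PowerSeries.X_pow_dvd_iff.mpr fun i hi => ?_⟩
        simp only [Subalgebra.smul_def, smul_eq_mul, ← sub_sub, map_sub (PowerSeries.coeff i) _ (_ * p),
          PowerSeries.coeff_C_mul]
        rcases Nat.lt_succ_iff_lt_or_eq.mp hi with h' | rfl
        · rw [PowerSeries.X_pow_dvd_iff.mp hdvd i h', hp2 i h', mul_zero, sub_zero]
        · rw [Nat.add_eq, div_mul_cancel₀ _ hp1, sub_self]
    obtain ⟨x, hx, r, hr⟩ := key e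
    obtain ⟨g, hg⟩ : PowerSeries.X ^ e ∣ (a : PowerSeries k) :=
      PowerSeries.X_pow_dvd_iff.mpr fun i hi => PowerSeries.coeff_of_lt_order i (by rw [← he]; exact_mod_cast hi)
    have hu : IsUnit g := by
      rw [PowerSeries.isUnit_iff_constantCoeff, isUnit_iff_ne_zero, ← PowerSeries.coeff_zero_eq_constantCoeff_apply]
      intro h0
      refine (PowerSeries.order_eq_nat.mp he.symm).1 ?_
      rw [hg]; simpa [PowerSeries.coeff_X_pow_mul'] using h0
    obtain ⟨g', hg'⟩ := hu.exists_right_inv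
    refine Submodule.mem_sup.mpr ⟨x, hx, q - x, ?_, add_sub_cancel _ _⟩
    rw [hr, show PowerSeries.X ^ (c' + e) * r = a • (PowerSeries.X ^ c' * (g' * r)) by
      rw [Subalgebra.smul_def, smul_eq_mul, hg, pow_add]
      calc _ = PowerSeries.X ^ c' * PowerSeries.X ^ e * ((g * g') * r) := by rw [hg', one_mul]
        _ = _ := by ring]
    exact Submodule.smul_mem_smul ha ((hQ _).mpr (dvd_mul_right _ _))
  exact ⟨PowerSeries.X ^ n, PowerSeries.order_X_pow n, fun m _ =>
    hQN ((hQ _).mpr ((pow_dvd_pow _ hn).mul_right m))⟩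

end Groth.Agent.S15034
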