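import Groth.Statements.S15039
import Groth.Agent.TFCurvSSLib.NormMod
import Groth.Agent.TFCurvSSLib.Push
-- import your own Groth.Agent.* helpers here

set_option autoImplicit false
set_option backward.isDefEq.respectTransparency false
set_option maxHeartbeats 800000
set_option synthInstance.maxHeartbeats 200000
universe u
open CategoryTheory CategoryTheory.Limits AlgebraicGeometry
open TFCurv

namespace Groth.Agent.S15039

open Groth.Agent CategoryTheory
set_option backward.isDefEq.respectTransparency false
set_option maxHeartbeats 800000

/-- Let X be an integral proper curve (integral, proper, of dimension one) over an algebraically closed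
field k, with normalisation ν : X~ → X, and write Õ_x for the integral closure of the local ring
O_{X,x} in the function field of X. Then ν_* induces a bijection from isomorphism classes of locally
free modules of rank n on X~ to isomorphism classes of coherent O_X-modules all of whose stalks F_x
are isomorphic to Õ_x^n as O_{X,x}-modules: every such module is isomorphic to ν_*E for some locally
free E of rank n on X~, and two locally free modules of rank n on X~ with isomorphic direct images
are isomorphic. -/
theorem result (k : Type u) [Field k] [IsAlgClosed k] (X : Scheme.{u}) [X.Over (Spec (CommRingCat.of k))] [IsIntegral X] [IsProper (X ↘ Spec (CommRingCat.of k))] (hdim : topologicalKrullDim X = 1) [QuasiCompact (X.fromSpecStalk (genericPoint X))] [QuasiSeparated (X.fromSpecStalk (genericPoint X))] (n : ℕ) : (∀ F : X.Modules, Coh.IsCoh F → (∀ x : X, Nonempty (↑(F.presheaf.stalk x) ≃ₗ[↑(X.presheaf.stalk x)] (Fin n → ↥(integralClosure ↑(X.presheaf.stalk x) X.functionField)))) → ∃ E : (Curv2.normalization X).Modules, FlatMod.IsFinLocFreeOfRank n E ∧ Nonempty ((Coh.push (Curv2.normalizationι X)).obj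 E ≅ F)) ∧ (∀ E E' : (Curv2.normalization X).Modules, FlatMod.IsFinLocFreeOfRank n E → FlatMod.IsFinLocFreeOfRank n E' → Nonempty ((Coh.push (Curv2.normalizationι X)).obj E ≅ (Coh.push (Curv2.normalizationι X)).obj E') → Nonempty (E ≅ E')) := by
    letI : (Curv2.normalization X).Over (Spec (CommRingCat.of k)) :=
      ⟨Curv2.normalizationι X ≫ X ↘ Spec (CommRingCat.of k)⟩
    obtain ⟨hfin, hdom, -, hint, hnor⟩ := S1585.result k X
    haveI := hfin
    haveI := hdom
    haveI := hint
    haveI : IsProper ((Curv2.normalization X) ↘ Spec (CommRingCat.of k)) :=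
      inferInstanceAs (IsProper (Curv2.normalizationι X ≫ (X ↘ Spec (CommRingCat.of k))))
    haveI := EulerIneqLib.isNoetherian_proper (X := X) k
    haveI := EulerIneqLib.isNoetherian_proper (X := Curv2.normalization X) k
    obtain ⟨_, -, hpre, hiso⟩ := NormUPLib.generic_facts (X := X)
    have hdY := (TFCurvSSLib.dim_eq k (Curv2.normalizationι X) rfl hpre hiso).trans hdim
    have hreg : ∀ y : Curv2.normalization X, IsRegularLocalRing ((Curv2.normalization X).presheaf.stalk y) :=
      fun y => by
        haveI := (hnor y).1
        haveI := (hnor y).2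
        haveI : Ring.KrullDimLE 1 ((Curv2.normalization X).presheaf.stalk y) := by
          rw [Ring.krullDimLE_iff, ringKrullDim_stalk_eq_coheight]
          refine le_trans (Order.coheight_le_krullDim _) ?_
          rw [← DimLiftLib.topologicalKrullDim_eq, hdY]
          rfl
        exact FinBirLib.isRegularLocalRing_of_normal_dimLE_one _
    refine ⟨fun F hF hst => TFCurvSSLib.exists_push_iso _ hpre hiso k hdim hdY.le hreg hF hst,
      fun E E' hE hE' ⟨α⟩ => ?_⟩
    haveI := (CurveLib.isCoh_of_isFinLocFree (M := E) (fun x => let ⟨U, h⟩ := hE x; ⟨U, n, h⟩)).1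
    haveI := (CurveLib.isCoh_of_isFinLocFree (M := E') (fun x => let ⟨U, h⟩ := hE' x; ⟨U, n, h⟩)).1
    exact TFCurvSSLib.nonempty_iso_of_push_iso _ hiso (TFCurvSSLib.isTorsionFree_flf hE)
      (TFCurvSSLib.isTorsionFree_flf hE') α

end Groth.Agent.S15039
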