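import Groth.Statements.S15040
import Mathlib
import Groth.Agent.TFCanonLib.Ext
import Groth.Agent.TFCurvNormLib.Basic
import Groth.Agent.GorLib.LocInjDim

set_option autoImplicit false
universe u
open CategoryTheory
open TFCurv

namespace Groth.Agent.S15040




open Abelian in
/-- Self-`Ext` is invariant under isomorphism. -/
lemma ext_conj {R : Type u} [CommRing R] {X Y : ModuleCat.{u} R} (e : X ≅ Y) (n : ℕ) :
    Nonempty (Ext X X n ≃+ Ext Y Y n) :=
  ⟨{ toFun := fun x => ((Ext.mk₀ e.inv).comp x (zero_add n)).comp (Ext.mk₀ e.hom) (add_zero n)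
     invFun := fun y => ((Ext.mk₀ e.hom).comp y (zero_add n)).comp (Ext.mk₀ e.inv) (add_zero n)
     left_inv := fun x => by simp
     right_inv := fun y => by simp
     map_add' := fun x y => by simp }⟩


/-- Let O be a one-dimensional Gorenstein local domain with algebraically closed residue field whose
integral closure O~ in its fraction field K is a finite O-module, and let M be an intermediate ring
O ⊆ M ⊆ O~ (an overring of O), viewed as an O-module. Put M⁻¹ = {x ∈ K | x·M ⊆ O}, which lies in O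
and is identified with an ideal of O. Then Ext¹_O(M, M) and Hom_O(M⁻¹, O/M⁻¹) are isomorphic abelian
groups (existence of an additive isomorphism only). -/
theorem result (O : Type u) [CommRing O] [IsDomain O] [LocCoh.IsGorensteinLocalRing O] (hdim : ringKrullDim O = 1) [IsAlgClosed (IsLocalRing.ResidueField O)] (K : Type u) [Field K] [Algebra O K] [IsFractionRing O K] (hfin : Module.Finite O ↥(integralClosure O K)) (M : Subalgebra O K) (hM : M ≤ integralClosure O K) : Nonempty (Abelian.Ext (ModuleCat.of O ↥M) (ModuleCat.of O ↥M) 1 ≃+ (↥((1 : Submodule O K) / Subalgebra.toSubmodule M) →ₗ[O] (O ⧸ Submodule.comap (Algebra.linearMap O K) ((1 : Submodule O K) / Subalgebra.toSubmodule M)))) := by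
  haveI := hfin
  haveI : Ring.DimensionLEOne O := TFCurvNormLib.dimensionLEOne hdim
  have hfld : IsLocalRing.maximalIdeal O ≠ ⊥ := fun h => by
    have h1 := IsLocalRing.maximalIdeal_height_eq_ringKrullDim (R := O)
    rw [h, hdim, Ideal.height_bot] at h1
    exact zero_ne_one (α := WithBot ℕ∞) h1
  haveI hO : HasInjectiveDimensionLT (ModuleCat.of O O) 2 :=
    (GorLib.injectiveDimension_local 1 O inferInstance (by rw [hdim]; exact le_rfl)).1
  have halg : Function.Injective (Algebra.linearMap O K) := IsFractionRing.injective O K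
  let e1 : O ≃ₗ[O] ↥(1 : Submodule O K) :=
    (LinearEquiv.ofInjective _ halg).trans (LinearEquiv.ofEq _ _ Submodule.one_eq_range.symm)
  haveI : HasInjectiveDimensionLT (ModuleCat.of O ↥(1 : Submodule O K)) 2 :=
    hasInjectiveDimensionLT_of_iso e1.toModuleIso 2
  set L : Submodule O K := Subalgebra.toSubmodule M with hL
  have h1L : (1 : K) ∈ L := M.one_mem
  have hLfg : L.FG := by
    haveI : Module.Finite O ↥(Subalgebra.toSubmodule (integralClosure O K)) := hfin
    have := (IsNoetherian.noetherian (L.comap (Subalgebra.toSubmodule (integralClosure O K)).subtype)).map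
      (Subalgebra.toSubmodule (integralClosure O K)).subtype
    rwa [Submodule.map_comap_eq, Submodule.range_subtype, inf_of_le_right] at this
    exact fun x hx => hM hx
  haveI : Module.Finite O ↥L := Module.Finite.iff_fg.mpr hLfg
  haveI : NoZeroSMulDivisors O ↥L := TFCanonLib.noZeroSMulDivisors_sub L
  have h10 : (1 : Submodule O K) ≠ ⊥ := fun h =>
    one_ne_zero (α := K) ((Submodule.mem_bot O).mp (h ▸ Submodule.one_le.mp le_rfl))
  have h1fg : (1 : Submodule O K).FG := by rw [Submodule.one_eq_span]; exact Submodule.fg_span_singleton _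
  set I : Submodule O K := 1 / L with hI
  have hI1 : I ≤ 1 := fun c hc => by simpa using Submodule.mem_div_iff_forall_mul_mem.mp hc 1 h1L
  have hIfg : I.FG := TFCanonLib.fg_div 1 h1fg L fun h => one_ne_zero (α := K) ((Submodule.mem_bot O).mp (h ▸ h1L))
  haveI : Module.Finite O ↥I := Module.Finite.iff_fg.mpr hIfg
  haveI : NoZeroSMulDivisors O ↥I := TFCanonLib.noZeroSMulDivisors_sub I
  -- the dual of `M` is `I`
  let ψ : (↥L →ₗ[O] ↥(1 : Submodule O K)) →ₗ[O] K :=
    { toFun := fun φ => (φ ⟨1, h1L⟩ : K), map_add' := fun _ _ => rfl, map_smul' := fun _ _ => rfl }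
  have hψ : ∀ φ (w : ↥L), (φ w : K) = ψ φ * w := fun φ w => by
    obtain ⟨c, hc⟩ := TFCanonLib.exists_eq_mul L ((1 : Submodule O K).subtype.comp φ)
    have hc1 : (φ ⟨1, h1L⟩ : K) = c * 1 := hc ⟨1, h1L⟩
    have hcw : (φ w : K) = c * w := hc w
    show _ = (φ ⟨1, h1L⟩ : K) * _
    rw [hcw, hc1, mul_one]
  let dual : (↥L →ₗ[O] ↥(1 : Submodule O K)) ≃ₗ[O] ↥I :=
    LinearEquiv.ofBijective (ψ.codRestrict I fun φ => Submodule.mem_div_iff_forall_mul_mem.mpr fun w hw =>
        hψ φ ⟨w, hw⟩ ▸ (φ ⟨w, hw⟩).2)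
      ⟨fun φ φ' h => LinearMap.ext fun w => Subtype.ext (by
        rw [hψ, hψ]; exact congrArg (fun z : ↥I => (z : K) * (w : K)) h),
      fun c => ⟨((LinearMap.mulLeft O (c : K)).comp L.subtype).codRestrict 1 fun w =>
        Submodule.mem_div_iff_forall_mul_mem.mp c.2 _ w.2, Subtype.ext (mul_one _)⟩⟩
  obtain ⟨E⟩ := TFCanonLib.nonempty_ext_equiv (1 : Submodule O K) hfld h10 h1fg 0 ↥L ↥L
  obtain ⟨E'⟩ := ext_conj (X := ModuleCat.of O (↥L →ₗ[O] ↥(1 : Submodule O K))) (Y := ModuleCat.of O ↥I)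
    dual.toModuleIso 1
  -- `Ext¹(I, I) = Hom(I, O/I)`
  let i : ↥I →ₗ[O] O := e1.symm.toLinearMap.comp (Submodule.inclusion hI1)
  have hi : ∀ x : ↥I, algebraMap O K (i x) = x := fun x =>
    congrArg Subtype.val (e1.apply_symm_apply (Submodule.inclusion hI1 x))
  let J : Submodule O O := I.comap (Algebra.linearMap O K)
  have hiq : (J.mkQ).comp i = 0 := LinearMap.ext fun x => (Submodule.Quotient.mk_eq_zero J).mpr
    (show algebraMap O K (i x) ∈ I by rw [hi]; exact x.2)
  have hS : (ShortComplex.mk (X₁ := ModuleCat.of O ↥I) (X₂ := ModuleCat.of O O) (X₃ := ModuleCat.of O (O ⧸ J))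
      (ModuleCat.ofHom i) (ModuleCat.ofHom J.mkQ) (ModuleCat.hom_ext hiq)).ShortExact :=
    { exact := (ShortComplex.ShortExact.moduleCat_exact_iff_function_exact _).mpr fun a => by
        constructor
        · intro h
          refine ⟨⟨_, (Submodule.Quotient.mk_eq_zero J).mp h⟩, IsFractionRing.injective O K ?_⟩
          exact hi _
        · rintro ⟨x, rfl⟩; exact LinearMap.congr_fun hiq x
      mono_f := (ModuleCat.mono_iff_injective _).mpr fun x y h => Subtype.ext (by
        rw [← hi x, ← hi y]; exact congrArg _ h)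
      epi_g := (ModuleCat.epi_iff_surjective _).mpr J.mkQ_surjective }
  let θ : (ModuleCat.of O ↥I ⟶ ModuleCat.of O (O ⧸ J)) →+ Abelian.Ext (ModuleCat.of O ↥I) (ModuleCat.of O ↥I) 1 :=
    AddMonoidHom.mk' (fun f => (Abelian.Ext.mk₀ f).comp hS.extClass rfl) fun f g => by
      show _ = _; rw [← Abelian.Ext.add_comp, ← Abelian.Ext.mk₀_add]
  have hθ : Function.Bijective θ := by
    refine ⟨(injective_iff_map_eq_zero θ).mpr fun f hf => ?_, fun y => ?_⟩
    · obtain ⟨x, hx⟩ := Abelian.Ext.covariant_sequence_exact₃ _ hS _ (rfl : 0 + 1 = 1) hf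
      obtain ⟨g, rfl⟩ : ∃ g : ModuleCat.of O ↥I ⟶ ModuleCat.of O O, Abelian.Ext.mk₀ g = x :=
        (Abelian.Ext.mk₀_bijective _ _).2 x
      rw [Abelian.Ext.mk₀_comp_mk₀] at hx
      rw [← (Abelian.Ext.mk₀_bijective _ _).1 hx]
      obtain ⟨c, hc⟩ := TFCanonLib.exists_eq_mul I ((Algebra.linearMap O K).comp g.hom)
      have hcM : c ∈ L := by
        rw [← TFCanonLib.div_div hfld 1 h10 h1fg L hLfg]
        exact Submodule.mem_div_iff_forall_mul_mem.mpr fun x hx =>
          hc ⟨x, hx⟩ ▸ Submodule.mem_one.mpr ⟨_, rfl⟩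
      refine ModuleCat.hom_ext (LinearMap.ext fun x => (Submodule.Quotient.mk_eq_zero J).mpr ?_)
      show algebraMap O K (g.hom x) ∈ I
      rw [show algebraMap O K (g.hom x) = c * x from hc x]
      refine Submodule.mem_div_iff_forall_mul_mem.mpr fun m hm => ?_
      rw [mul_assoc, mul_left_comm]
      exact Submodule.mem_div_iff_forall_mul_mem.mp x.2 _ (M.mul_mem hcM hm)
    · obtain ⟨x, hx⟩ := Abelian.Ext.covariant_sequence_exact₁ _ hS y (TFCanonLib.ext_eq_zero O K ↥I 0 _) rfl
      obtain ⟨f, rfl⟩ := (Abelian.Ext.mk₀_bijective _ _).2 x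
      exact ⟨f, hx⟩
  exact ⟨(E.trans E').trans ((AddEquiv.ofBijective θ hθ).symm.trans ModuleCat.homAddEquiv)⟩

end Groth.Agent.S15040
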