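import Groth.Statements.S15041
import Mathlib
import Groth.Agent.TFMonoLib.TwoGen

set_option autoImplicit false
universe u
open CategoryTheory
open TFCurv

namespace Groth.Agent.S15041

section helpers

open PowerSeries CategoryTheory Groth.Agent.TFMonoLib

set_option maxHeartbeats 4000000
set_option synthInstance.maxHeartbeats 400000

lemma mem_closure_three_four (m : ℕ) : m ∈ AddSubmonoid.closure ({3, 4} : Set ℕ) ↔ m ≠ 1 ∧ m ≠ 2 ∧ m ≠ 5 := by
  constructor
  · intro h
    induction h using AddSubmonoid.closure_induction with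
    | mem x hx => rcases hx with rfl | rfl <;> omega
    | zero => omega
    | add x y _ _ hx hy => omega
  · induction m using Nat.strong_induction_on with
    | _ m ih =>
      intro h
      rcases Nat.eq_zero_or_pos m with rfl | hpos
      · exact zero_mem _
      by_cases h4 : m = 4
      · exact AddSubmonoid.subset_closure (by rw [h4]; exact Or.inr rfl)
      by_cases h8 : m = 8
      · rw [h8, show (8 : ℕ) = 4 + 4 from rfl]
        exact add_mem (AddSubmonoid.subset_closure (Or.inr rfl)) (AddSubmonoid.subset_closure (Or.inr rfl))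
      rw [show m = (m - 3) + 3 by omega]
      exact add_mem (ih (m - 3) (by omega) (by omega)) (AddSubmonoid.subset_closure (Or.inl rfl))

variable {k : Type u} [Field k] (A : Subalgebra k (PowerSeries k))

/-- The exponents of `k[[t³, t⁴]]`. -/
def gE : Set ℕ := {m | m ≠ 1 ∧ m ≠ 2 ∧ m ≠ 5}

lemma two_gen_case (hA : ∀ f : PowerSeries k, f ∈ A ↔ ∀ m, coeff m f ≠ 0 → m ∈ gE) (s e l : ℕ) (S' SN : Set ℕ)
    (hJ : ∀ m, m ∈ gE ∧ m + s ∈ gE ↔ e ≤ m ∧ m - e ∈ S') (h0 : 0 ∈ S')
    (hS' : ∀ g ∈ gE, ∀ t ∈ S', g + t ∈ S') (hSN : ∀ g ∈ gE, ∀ t ∈ SN, g + t ∈ SN)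
    (hspan : ∀ m, m ∈ SN ↔ m ∈ gE ∨ (s ≤ m ∧ m - s ∈ gE))
    (DW DC : Finset ℕ) (hDW : ∀ m, ((e + s ≤ m ∧ m - (e + s) ∈ SN) ∨ (e ≤ m ∧ m - e ∈ SN)) ↔ m ∉ DW)
    (hDC : ∀ c, (∀ t ∈ S', t + c ∈ SN) ↔ c ∉ DC) (hl : DW.card = l + DC.card) :
    Module.length ↥A (Abelian.Ext
      (ModuleCat.of ↥A ↥(Submodule.span ↥A ({1, X ^ s} : Set (PowerSeries k))))
      (ModuleCat.of ↥A ↥(Submodule.span ↥A ({1, X ^ s} : Set (PowerSeries k)))) 1) = (l : ℕ∞) := by
  have hN : ∀ f, f ∈ Submodule.span ↥A ({1, X ^ s} : Set (PowerSeries k)) ↔ ∀ m, coeff m f ≠ 0 → m ∈ SN := fun f => by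
    rw [show ({1, X ^ s} : Set (PowerSeries k)) = (fun t : ℕ => (X : PowerSeries k) ^ t) '' ↑({0, s} : Finset ℕ) by
      rw [Finset.coe_insert, Finset.coe_singleton, Set.image_pair, pow_zero], mem_span_iff A hA]
    refine forall_congr' fun m => imp_congr_right fun _ => ?_
    rw [hspan]
    simp [spanExp]
  have h := length_ext_two_gen A hA s e S' hJ h0 hS' SN hSN _ hN DW DC hDW hDC
  rw [hl, Nat.cast_add] at h
  exact (WithTop.add_right_inj (ENat.natCast_ne_top _)).mp h

theorem length_ext_normalization (hA : ∀ f : PowerSeries k, f ∈ A ↔ ∀ m, coeff m f ≠ 0 → m ∈ gE) :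
    Module.length ↥A (Abelian.Ext
      (ModuleCat.of ↥A ↥(Submodule.span ↥A ({1, X, X ^ 2} : Set (PowerSeries k))))
      (ModuleCat.of ↥A ↥(Submodule.span ↥A ({1, X, X ^ 2} : Set (PowerSeries k)))) 1) = ((6 : ℕ) : ℕ∞) := by
  classical
  set M := Submodule.span ↥A ({1, X, X ^ 2} : Set (PowerSeries k)) with hMdef
  have htop : ∀ f : PowerSeries k, f ∈ M := fun f => by
    rw [hMdef, show ({1, X, X ^ 2} : Set (PowerSeries k)) = (fun t : ℕ => (X : PowerSeries k) ^ t) '' ↑({0, 1, 2} : Finset ℕ) by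
      simp [Set.image_insert_eq], mem_span_iff A hA]
    intro m _
    simp only [spanExp, Finset.mem_insert, Finset.mem_singleton, Set.mem_setOf_eq]
    by_cases h1 : m = 1
    · exact ⟨1, by omega, by omega, by simp [gE, h1]⟩
    by_cases h2 : m = 2 ∨ m = 5
    · exact ⟨2, by omega, by omega, by simp only [gE, Set.mem_setOf_eq]; omega⟩
    exact ⟨0, by omega, by omega, by simp only [gE, Set.mem_setOf_eq]; omega⟩
  have hXA : ∀ r : ℕ, r ∈ gE → (X : PowerSeries k) ^ r ∈ A := fun r hr => (hA _).mpr fun m hm => by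
    rw [coeff_X_pow] at hm
    rwa [show m = r from by_contra fun h => hm (if_neg h)]
  let L : Submodule ↥A (↥A × ↥A) :=
    { carrier := {p | (p.1 : PowerSeries k) * X + (p.2 : PowerSeries k) * X ^ 2 ∈ A}
      add_mem' := fun {p p'} hp hp' => by
        show ((p.1 : PowerSeries k) + (p'.1 : PowerSeries k)) * X + ((p.2 : PowerSeries k) + (p'.2 : PowerSeries k)) * X ^ 2 ∈ A
        rw [add_mul, add_mul, add_add_add_comm]
        exact add_mem hp hp'
      zero_mem' := by simp
      smul_mem' := fun a p hp => by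
        show ((a : PowerSeries k) * (p.1 : PowerSeries k)) * X + ((a : PowerSeries k) * (p.2 : PowerSeries k)) * X ^ 2 ∈ A
        rw [mul_assoc, mul_assoc, ← mul_add]
        exact mul_mem a.2 hp }
  let i : ↥L →ₗ[↥A] ↥A × (↥A × ↥A) :=
    { toFun := fun p => (-⟨_, p.2⟩, p.1)
      map_add' := fun p p' => Prod.ext (Subtype.ext (show -(((p.1.1 : PowerSeries k) + (p'.1.1 : PowerSeries k)) * X + ((p.1.2 : PowerSeries k) + (p'.1.2 : PowerSeries k)) * X ^ 2) = -((p.1.1 : PowerSeries k) * X + (p.1.2 : PowerSeries k) * X ^ 2) + -((p'.1.1 : PowerSeries k) * X + (p'.1.2 : PowerSeries k) * X ^ 2) by ring)) rfl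
      map_smul' := fun a p => Prod.ext (Subtype.ext (show -(((a : PowerSeries k) * (p.1.1 : PowerSeries k)) * X + ((a : PowerSeries k) * (p.1.2 : PowerSeries k)) * X ^ 2) = (a : PowerSeries k) * -((p.1.1 : PowerSeries k) * X + (p.1.2 : PowerSeries k) * X ^ 2) by ring)) rfl }
  let g0 : ↥M := ⟨1, htop _⟩
  let g1 : ↥M := ⟨X, htop _⟩
  let g2 : ↥M := ⟨X ^ 2, htop _⟩
  let q : ↥A × (↥A × ↥A) →ₗ[↥A] ↥M :=
    (LinearMap.toSpanSingleton ↥A ↥M g0).coprod
      ((LinearMap.toSpanSingleton ↥A ↥M g1).coprod (LinearMap.toSpanSingleton ↥A ↥M g2))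
  have hqv : ∀ p, (q p : PowerSeries k) =
      (p.1 : PowerSeries k) + ((p.2.1 : PowerSeries k) * X + (p.2.2 : PowerSeries k) * X ^ 2) := fun p => by
    simp [q, g0, g1, g2, Subalgebra.smul_def]
  have hi : Function.Injective i := fun p p' h => Subtype.ext (congrArg Prod.snd h)
  have hq : Function.Surjective q := fun m => by
    obtain ⟨a, z, hz, hm⟩ := Submodule.mem_span_insert.mp m.2
    obtain ⟨b, c, hbc⟩ := Submodule.mem_span_pair.mp hz
    refine ⟨(a, b, c), Subtype.ext ?_⟩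
    rw [hqv, hm, ← hbc]
    simp [Subalgebra.smul_def]
  have hex : Function.Exact i q := by
    intro p
    constructor
    · intro hp
      have h0 : (p.1 : PowerSeries k) = -((p.2.1 : PowerSeries k) * X + (p.2.2 : PowerSeries k) * X ^ 2) := by
        refine eq_neg_of_add_eq_zero_left ?_
        rw [← hqv, hp]; rfl
      have hmem : p.2 ∈ L := by
        show (p.2.1 : PowerSeries k) * X + (p.2.2 : PowerSeries k) * X ^ 2 ∈ A
        have := neg_mem p.1.2
        rwa [h0, neg_neg] at this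
      exact ⟨⟨p.2, hmem⟩, Prod.ext (Subtype.ext h0.symm) rfl⟩
    · rintro ⟨m, rfl⟩
      refine Subtype.ext ?_
      rw [hqv]
      exact neg_add_cancel _
  have h3 : (3 : ℕ) ∈ gE := by simp [gE]
  have h4 : (4 : ℕ) ∈ gE := by simp [gE]
  let u1 : ↥L := ⟨(⟨_, hXA 3 h3⟩, 0), by
    show (X : PowerSeries k) ^ 3 * X + 0 * X ^ 2 ∈ A
    rw [zero_mul, add_zero, ← pow_succ]
    exact hXA 4 h4⟩
  let u2 : ↥L := ⟨(⟨_, hXA 4 h4⟩, -⟨_, hXA 3 h3⟩), by
    show (X : PowerSeries k) ^ 4 * X + -(X ^ 3) * X ^ 2 ∈ A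
    rw [show (X : PowerSeries k) ^ 4 * X + -(X ^ 3) * X ^ 2 = 0 by ring]
    exact zero_mem _⟩
  have hdiv : ∀ p : ↥L, X ^ 3 ∣ (p.1.1 : PowerSeries k) ∧ X ^ 3 ∣ (p.1.2 : PowerSeries k) := by
    intro p
    have h1 : ∀ m : ℕ, m = 1 ∨ m = 2 → ∀ f : ↥A, coeff m (f : PowerSeries k) = 0 := fun m hm f => by
      by_contra h
      have := (hA _).mp f.2 m h
      simp only [gE, Set.mem_setOf_eq] at this
      omega
    have e1 : coeff 1 ((p.1.1 : PowerSeries k) * X + (p.1.2 : PowerSeries k) * X ^ 2) = coeff 0 (p.1.1 : PowerSeries k) := by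
      rw [map_add, coeff_mul_X_pow', if_neg (by omega), add_zero]
      exact coeff_succ_mul_X 0 _
    have hb0 : coeff 0 (p.1.1 : PowerSeries k) = 0 := e1 ▸ h1 1 (Or.inl rfl) ⟨_, p.2⟩
    have e2 : coeff 2 ((p.1.1 : PowerSeries k) * X + (p.1.2 : PowerSeries k) * X ^ 2) =
        coeff 1 (p.1.1 : PowerSeries k) + coeff 0 (p.1.2 : PowerSeries k) := by
      rw [map_add, coeff_mul_X_pow', if_pos le_rfl]
      exact congrArg (· + _) (coeff_succ_mul_X 1 _)
    have hc0 : coeff 0 (p.1.2 : PowerSeries k) = 0 := by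
      have := h1 2 (Or.inr rfl) ⟨_, p.2⟩
      rwa [show ((⟨_, p.2⟩ : ↥A) : PowerSeries k) = (p.1.1 : PowerSeries k) * X + (p.1.2 : PowerSeries k) * X ^ 2 from rfl,
        e2, h1 1 (Or.inl rfl) p.1.1, zero_add] at this
    constructor <;> rw [X_pow_dvd_iff] <;> intro m hm <;> interval_cases m
    · exact hb0
    · exact h1 1 (Or.inl rfl) _
    · exact h1 2 (Or.inr rfl) _
    · exact hc0
    · exact h1 1 (Or.inl rfl) _
    · exact h1 2 (Or.inr rfl) _
  have hGA : ∀ f : PowerSeries k, f ∈ A → ∀ m, coeff m f ≠ 0 → m ∈ gE := fun f hf => (hA f).mp hf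
  let W := Sup A hGA {m | 3 ≤ m} (fun g _ t ht => le_trans ht (Nat.le_add_left _ _))
  have hWdvd : ∀ f, f ∈ W ↔ X ^ 3 ∣ f := fun f => by
    rw [X_pow_dvd_iff]
    exact ⟨fun h m hm => by_contra fun hne => absurd (h m hne) (by simp only [Set.mem_setOf_eq]; omega),
      fun h m hm => le_of_not_gt fun hlt => hm (h m hlt)⟩
  have hC : ∀ c : Fin 2 → PowerSeries k, ∃ φ : ↥L →ₗ[↥A] ↥M, ∀ a, M.subtype (φ (![u1, u2] a)) = c a := by
    intro c
    have hg : ∀ p : ↥L, ∃ g : PowerSeries k,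
        X ^ 3 * g = (p.1.1 : PowerSeries k) * c 0 + (p.1.2 : PowerSeries k) * (X * c 0 - c 1) := fun p => by
      obtain ⟨g, hg⟩ := dvd_add ((hdiv p).1.mul_right (c 0)) ((hdiv p).2.mul_right (X * c 0 - c 1))
      exact ⟨g, hg.symm⟩
    choose g hg using hg
    have hX3 : (X : PowerSeries k) ^ 3 ≠ 0 := pow_ne_zero _ X_ne_zero
    refine ⟨{ toFun := fun p => ⟨g p, htop _⟩
              map_add' := fun p p' => Subtype.ext (mul_left_cancel₀ hX3 (by
                show X ^ 3 * g (p + p') = X ^ 3 * (g p + g p')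
                rw [mul_add, hg, hg, hg]
                simp [add_mul]
                ring))
              map_smul' := fun a p => Subtype.ext (mul_left_cancel₀ hX3 (by
                show X ^ 3 * g (a • p) = X ^ 3 * ((a : PowerSeries k) * g p)
                rw [mul_left_comm, hg, hg]
                simp [Subalgebra.smul_def]
                ring)) }, fun a => ?_⟩
    refine mul_left_cancel₀ hX3 ?_
    show X ^ 3 * g (![u1, u2] a) = X ^ 3 * c a
    rw [hg]
    fin_cases a <;> simp [u1, u2] <;> ring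
  have hW : ∀ φ : ↥L →ₗ[↥A] ↥M, (∃ η : ↥A × (↥A × ↥A) →ₗ[↥A] ↥M, η.comp i = φ) ↔
      ∀ a, M.subtype (φ (![u1, u2] a)) ∈ W := by
    intro φ
    simp only [hWdvd]
    constructor
    · rintro ⟨η, rfl⟩
      have hη : ∀ p : ↥L, (η (i p) : PowerSeries k) =
          -((p.1.1 : PowerSeries k) * X + (p.1.2 : PowerSeries k) * X ^ 2) * (η (1, 0, 0) : PowerSeries k) +
            ((p.1.1 : PowerSeries k) * (η (0, 1, 0) : PowerSeries k) + (p.1.2 : PowerSeries k) * (η (0, 0, 1) : PowerSeries k)) := by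
        intro p
        have h : i p = (i p).1 • ((1, 0, 0) : ↥A × (↥A × ↥A)) + (p.1.1 • (0, 1, 0) + p.1.2 • (0, 0, 1)) := by simp [i]
        conv_lhs => rw [h, map_add, map_add, map_smul, map_smul, map_smul]
        simp [Subalgebra.smul_def, i]
        ring
      intro a
      show X ^ 3 ∣ (η (i (![u1, u2] a)) : PowerSeries k)
      rw [hη]
      refine dvd_add (Dvd.dvd.mul_right (dvd_neg.mpr ?_) _) (dvd_add ((hdiv _).1.mul_right _) ((hdiv _).2.mul_right _))
      exact dvd_add ((hdiv _).1.mul_right _) ((hdiv _).2.mul_right _)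
    · intro hφ
      obtain ⟨β, hβ⟩ := hφ 0
      obtain ⟨δ', hδ'⟩ := hφ 1
      change (φ u1 : PowerSeries k) = X ^ 3 * β at hβ
      change (φ u2 : PowerSeries k) = X ^ 3 * δ' at hδ'
      refine ⟨(0 : ↥A →ₗ[↥A] ↥M).coprod ((LinearMap.toSpanSingleton ↥A ↥M ⟨β, htop _⟩).coprod
        (LinearMap.toSpanSingleton ↥A ↥M ⟨X * β - δ', htop _⟩)), LinearMap.ext fun p => Subtype.ext ?_⟩
      have h9 : (9 : ℕ) ∈ gE := by simp [gE]
      have h6 : (6 : ℕ) ∈ gE := by simp [gE]
      have h7 : (7 : ℕ) ∈ gE := by simp [gE]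
      have hlin : (⟨_, hXA 9 h9⟩ : ↥A) • p =
          (p.1.1 * ⟨_, hXA 6 h6⟩ + p.1.2 * ⟨_, hXA 7 h7⟩) • u1 + (-(p.1.2 * ⟨_, hXA 6 h6⟩)) • u2 := by
        refine Subtype.ext (Prod.ext (Subtype.ext ?_) (Subtype.ext ?_)) <;>
          simp [u1, u2, Subalgebra.smul_def] <;> ring
      have h := congrArg (fun y => (φ y : PowerSeries k)) hlin
      simp only [map_add, map_smul, Submodule.coe_add, Submodule.coe_smul, Subalgebra.smul_def, smul_eq_mul,
        hβ, hδ', Subalgebra.coe_mul, Subalgebra.coe_add, Subalgebra.coe_neg] at h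
      refine mul_left_cancel₀ (pow_ne_zero 9 X_ne_zero) (Eq.trans ?_ h.symm)
      simp [i, Subalgebra.smul_def]
      ring
  have hlen := length_ext_eq_pi (O := ↥A) (M := ↥M) (N := ↥M) (F := ↥A × (↥A × ↥A)) (K := ↥L) i q hi hq hex
    M.subtype ![u1, u2] W hC hW
  rw [hlen, length_quotient_sup A hGA {0, 1, 2} {m | 3 ≤ m} _ (fun m => by simp; omega)]
  rfl

end helpers

set_option maxHeartbeats 4000000

/-- Let k be an algebraically closed field of characteristic zero and A ⊂ k[[t]] the complete local ring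
of the E_6 singularity, i.e. the k-subalgebra of power series all of whose exponents lie in the
semigroup generated by 3 and 4 (A = k[[t³, t⁴]]). Its rank-one torsion-free modules are A, M₁ = A +
A·t⁵, its dual M₁* = A + A·t, M₂ = A + A·t² and M₃ = A + A·t + A·t² = k[[t]], of index 0, 1, 1, 2,
3. Then Ext¹_A(M, M) has length 2·index(M): length 2 for M₁ and for M₁*, 4 for M₂ and 6 for M₃
(length over A equals k-dimension). As End_A(M₁) = End_A(M₁*) = M₁, End_A(M₂) = M₂, End_A(M₃) = M₃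
have colength 1, 1, 2, 3 over A, this is the identity χ₁(M) = dim Ext¹(M, M) − dim(End(M)/A) =
index(M). -/
theorem result (k : Type u) [Field k] [IsAlgClosed k] [CharZero k] (A : Subalgebra k (PowerSeries k)) (hmono : ∀ f : PowerSeries k, f ∈ A ↔ ∀ n : ℕ, PowerSeries.coeff n f ≠ 0 → n ∈ AddSubmonoid.closure ({3, 4} : Set ℕ)) : Module.length ↥A (Abelian.Ext (ModuleCat.of ↥A ↥(Submodule.span ↥A ({1, (PowerSeries.X : PowerSeries k) ^ 5} : Set (PowerSeries k)))) (ModuleCat.of ↥A ↥(Submodule.span ↥A ({1, (PowerSeries.X : PowerSeries k) ^ 5} : Set (PowerSeries k)))) 1) = 2 ∧ Module.length ↥A (Abelian.Ext (ModuleCat.of ↥A ↥(Submodule.span ↥A ({1, (PowerSeries.X : PowerSeries k)} : Set (PowerSeries k)))) (ModuleCat.of ↥A ↥(Submodule.span ↥A ({1, (PowerSeries.X : PowerSeries k)} : Set (PowerSeries k)))) 1) = 2 ∧ Module.length ↥A (Abelian.Ext (ModuleCat.of ↥A ↥(Submodule.span ↥A ({1, (PowerSeries.X : PowerSeries k) ^ 2} : Set (PowerSeries k)))) (ModuleCat.of ↥A ↥(Submodule.span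 ↥A ({1, (PowerSeries.X : PowerSeries k) ^ 2} : Set (PowerSeries k)))) 1) = 4 ∧ Module.length ↥A (Abelian.Ext (ModuleCat.of ↥A ↥(Submodule.span ↥A ({1, (PowerSeries.X : PowerSeries k), (PowerSeries.X : PowerSeries k) ^ 2} : Set (PowerSeries k)))) (ModuleCat.of ↥A ↥(Submodule.span ↥A ({1, (PowerSeries.X : PowerSeries k), (PowerSeries.X : PowerSeries k) ^ 2} : Set (PowerSeries k)))) 1) = 6 := by
  have hA : ∀ f : PowerSeries k, f ∈ A ↔ ∀ m, PowerSeries.coeff m f ≠ 0 → m ∈ gE := fun f =>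
    (hmono f).trans (forall_congr' fun m => imp_congr_right fun _ => mem_closure_three_four m)
  refine ⟨?_, ?_, ?_, ?_⟩
  · exact two_gen_case A hA 5 3 2 {m | m ≠ 2} {m | m ≠ 1 ∧ m ≠ 2}
      (fun m => by simp only [gE, Set.mem_setOf_eq]; omega) (by simp)
      (fun g hg t ht => by simp only [gE, Set.mem_setOf_eq] at *; omega)
      (fun g hg t ht => by simp only [gE, Set.mem_setOf_eq] at *; omega)
      (fun m => by simp only [gE, Set.mem_setOf_eq]; omega)
      {0, 1, 2, 4, 5} {0, 1, 2}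
      (fun m => by simp only [Set.mem_setOf_eq, Finset.mem_insert, Finset.mem_singleton]; omega)
      (fun c => ⟨fun h => by
          have h0 := h 0 (by simp)
          have h1 := h 1 (by simp)
          simp only [Set.mem_setOf_eq, Finset.mem_insert, Finset.mem_singleton] at *
          omega, fun h t ht => by
          simp only [Set.mem_setOf_eq, Finset.mem_insert, Finset.mem_singleton] at *
          omega⟩) rfl
  · have h := two_gen_case A hA 1 3 2 {m | m ≠ 1 ∧ m ≠ 2} {m | m ≠ 2}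
      (fun m => by simp only [gE, Set.mem_setOf_eq]; omega) (by simp)
      (fun g hg t ht => by simp only [gE, Set.mem_setOf_eq] at *; omega)
      (fun g hg t ht => by simp only [gE, Set.mem_setOf_eq] at *; omega)
      (fun m => by simp only [gE, Set.mem_setOf_eq]; omega)
      {0, 1, 2} {2}
      (fun m => by simp only [Set.mem_setOf_eq, Finset.mem_insert, Finset.mem_singleton]; omega)
      (fun c => ⟨fun h => by
          have h0 := h 0 (by simp)
          simp only [Set.mem_setOf_eq, Finset.mem_insert, Finset.mem_singleton] at *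
          omega, fun h t ht => by
          simp only [Set.mem_setOf_eq, Finset.mem_insert, Finset.mem_singleton] at *
          omega⟩) rfl
    rw [pow_one] at h
    exact h
  · exact two_gen_case A hA 2 4 4 {m | m ≠ 1} {m | m ≠ 1}
      (fun m => by simp only [gE, Set.mem_setOf_eq]; omega) (by simp)
      (fun g hg t ht => by simp only [gE, Set.mem_setOf_eq] at *; omega)
      (fun g hg t ht => by simp only [gE, Set.mem_setOf_eq] at *; omega)
      (fun m => by simp only [gE, Set.mem_setOf_eq]; omega)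
      {0, 1, 2, 3, 5} {1}
      (fun m => by simp only [Set.mem_setOf_eq, Finset.mem_insert, Finset.mem_singleton]; omega)
      (fun c => ⟨fun h => by
          have h0 := h 0 (by simp)
          simp only [Set.mem_setOf_eq, Finset.mem_insert, Finset.mem_singleton] at *
          omega, fun h t ht => by
          simp only [Set.mem_setOf_eq, Finset.mem_insert, Finset.mem_singleton] at *
          omega⟩) rfl
  · exact length_ext_normalization A hA

end Groth.Agent.S15041
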