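import Groth.Statements.S15044
import Groth.Agent.CILib.LCIMor
import Groth.Agent.CILib.KoszulScheme
import Groth.Agent.CILib.RelGCISyntomic
-- import your own Groth.Agent.* helpers here

set_option backward.isDefEq.respectTransparency false
set_option linter.style.haveILetI false

set_option autoImplicit false
open CategoryTheory AlgebraicGeometry
universe u
open Quiet

namespace Groth.Agent.S15044

open Polynomial in
theorem isSyntomic_rootRing (p : ℕ) (hp : p ≠ 0) (A : Type u) [CommRing A] (a : A) :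
    Synt.IsSyntomic A (Quiet.RootRing p A a) := by
  let f : A[X] := X ^ p - C a
  have hmonic : f.Monic := monic_X_pow_sub_C a hp
  let e := MvPolynomial.uniqueAlgEquiv A (Fin 1)
  let F : Fin 1 → MvPolynomial (Fin 1) A := fun _ => e.symm f
  have hspan : Ideal.span (Set.range fun _ : Fin 1 => f) = Ideal.span {f} := by rw [Set.range_const]
  let e' : Synt.RelGCIRing A 1 1 F ≃ₐ[A] AdjoinRoot f :=
    Ideal.quotientEquivAlg _ _ e (by
      rw [Ideal.map_span, ← Set.range_comp]
      refine (Eq.trans ?_ hspan).symm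
      congr 2
      funext i
      exact e.apply_symm_apply f)
  haveI : Module.Finite A (AdjoinRoot f) := hmonic.finite_adjoinRoot
  haveI : Module.Finite A (Synt.RelGCIRing A 1 1 F) := Module.Finite.equiv e'.symm.toLinearEquiv
  have hF : Synt.IsRelGCI A 1 1 F := fun P hP => by
    refine ⟨le_rfl, ?_⟩
    haveI : IsArtinianRing (P.asIdeal.Fiber (Synt.RelGCIRing A 1 1 F)) :=
      IsArtinianRing.of_finite P.asIdeal.ResidueField (P.asIdeal.Fiber (Synt.RelGCIRing A 1 1 F))
    exact le_antisymm ((Ring.krullDimLE_iff (n := 0)).1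
      ((isArtinianRing_iff_isNoetherianRing_krullDimLE_zero (R := P.asIdeal.Fiber (Synt.RelGCIRing A 1 1 F))).1 inferInstance).2) ringKrullDim_nonneg_of_nontrivial
  exact Groth.Agent.CILib.isSyntomic_congr e' (Groth.Agent.CILib.isSyntomic_of_isRelGCI F hF)

theorem isSyntomic_trans (A B C : Type u) [CommRing A] [CommRing B] [CommRing C] [Algebra A B] [Algebra B C]
    [Algebra A C] [IsScalarTower A B C] (h1 : Synt.IsSyntomic A B) (h2 : Synt.IsSyntomic B C) :
    Synt.IsSyntomic A C := by
  obtain ⟨hf1, hl1⟩ := Groth.Agent.CILib.isSyntomic_iff_flat_and_isLCI.1 h1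
  obtain ⟨hf2, hl2⟩ := Groth.Agent.CILib.isSyntomic_iff_flat_and_isLCI.1 h2
  haveI := hf1
  haveI := hf2
  exact Groth.Agent.CILib.isSyntomic_iff_flat_and_isLCI.2
    ⟨Module.Flat.trans A B C, Groth.Agent.CILib.isLCI_trans hl1 hl2⟩

theorem isSyntomic_of_isRootTower (p : ℕ) (hp : p ≠ 0) : ∀ (n : ℕ) (A B : Type u) [CommRing A] [CommRing B]
    [Algebra A B], Quiet.IsRootTower p n A B → Synt.IsSyntomic A B
  | 0, A, B, _, _, _, ⟨e⟩ => by
    refine Groth.Agent.CILib.isSyntomic_congr e.symm ?_
    exact Groth.Agent.CILib.isSyntomic_iff_flat_and_isLCI.2 ⟨inferInstance,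
      Groth.Agent.CILib.isLCIHom_algebraMap.1 (Groth.Agent.CILib.isLCIHom_of_bijective _ Function.bijective_id)⟩
  | n + 1, A, B, _, _, _, h => by
    obtain ⟨a, _, _, hT⟩ := h
    exact isSyntomic_trans A (Quiet.RootRing p A a) B (isSyntomic_rootRing p hp A a)
      (isSyntomic_of_isRootTower p hp n _ B hT)

theorem isSyntomicMor_of_isPthRoot (p : ℕ) (hp : p ≠ 0) {Y X : Scheme.{u}} (r : Y ⟶ X) (hr : Quiet.IsPthRoot p r) :
    Synt.IsSyntomicMor r := by
  intro y
  obtain ⟨U, hU, haff, n, hT⟩ := hr (r.base y)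
  refine ⟨⟨r ⁻¹ᵁ U.1, haff⟩, U, le_rfl, hU, ?_⟩
  show Groth.Agent.CILib.IsSyntomicHom (r.appLE U.1 (r ⁻¹ᵁ U.1) le_rfl).hom
  rw [← Scheme.Hom.app_eq_appLE]
  letI := (r.app U.1).hom.toAlgebra
  exact isSyntomic_of_isRootTower p hp n _ _ hT

theorem isSyntomicMor_comp' {U P S : Scheme.{u}} (r : U ⟶ P) (e : P ⟶ S) (hr : Synt.IsSyntomicMor r)
    (he : Synt.IsSyntomicMor e) : Synt.IsSyntomicMor (r ≫ e) := by
  haveI := Groth.Agent.CILib.flat_of_isSyntomicMor r hr
  haveI := Groth.Agent.CILib.flat_of_isSyntomicMor e he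
  exact (Groth.Agent.CILib.flat_and_koszul_iff_isSyntomicMor _).1 ⟨inferInstance,
    (Groth.Agent.CILib.forall_isKoszulAt_iff _).2 (MorphismProperty.comp_mem _ r e
      ((Groth.Agent.CILib.forall_isKoszulAt_iff _).1 ((Groth.Agent.CILib.flat_and_koszul_iff_isSyntomicMor r).2 hr).2)
      ((Groth.Agent.CILib.forall_isKoszulAt_iff _).1 ((Groth.Agent.CILib.flat_and_koszul_iff_isSyntomicMor e).2 he).2))⟩

/-- Over a scheme `X` of prime characteristic `p`, a quasi-etale morphism `f : Y ⟶ X` (locally on the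
source an extraction of `p`-th roots followed by an etale morphism) is syntomic: every point of `Y`
has an affine open neighbourhood mapping into an affine open of `X` such that the induced ring map
is flat, finitely presented and has local complete intersection fibres. -/
theorem result (p : ℕ) [Fact p.Prime] {X Y : Scheme.{u}} [FrobSch.IsCharP X p]
    (f : Y ⟶ X) (hf : Quiet.IsQuiet p f) : Synt.IsSyntomicMor f := by
  choose V Y' r e hy hr he hfac using hf
  rw [← Groth.Agent.CILib.syntMor_iff]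
  refine IsZariskiLocalAtSource.of_iSup_eq_top V (TopologicalSpace.Opens.ext ?_) fun y => ?_
  · ext y
    simp only [TopologicalSpace.Opens.coe_iSup, Set.mem_iUnion, TopologicalSpace.Opens.coe_top, Set.mem_univ, iff_true]
    exact ⟨y, hy y⟩
  · haveI := he y
    rw [← hfac y, Groth.Agent.CILib.syntMor_iff]
    exact isSyntomicMor_comp' _ _ (isSyntomicMor_of_isPthRoot p (Fact.out : p.Prime).ne_zero _ (hr y))
      (Groth.Agent.CILib.isSyntomicMor_of_smooth _)

end Groth.Agent.S15044
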