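import Groth.Statements.S15049
import Groth.Agent.LTLemma2
-- import your own Groth.Agent.* helpers here

set_option autoImplicit false
universe u
open LubinTate

namespace Groth.Agent.S15049

/-- Let O be a discrete valuation ring with finite residue field of cardinality q, π a uniformizer of O,
and f = πT + T^q ∈ O[[T]]. Then there is a one-dimensional commutative formal group law F(X,Y) over
O for which f is an endomorphism, f(F(X,Y)) = F(f(X), f(Y)); and F is the unique power series in
O[[X,Y]] with zero constant term and linear part X + Y satisfying this identity. (The published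
statement is for the ring of integers of a finite extension of ℚ_p or of 𝔽_q((X)); completeness is
not used and any discrete valuation ring with finite residue field is allowed here.) -/
theorem result (O : Type u) [CommRing O] [IsDomain O] [IsDiscreteValuationRing O]
    [Finite (IsLocalRing.ResidueField O)] (π : O) (hπ : Irreducible π) (f : PowerSeries O)
    (hf : f = π • PowerSeries.X + PowerSeries.X ^ Nat.card (IsLocalRing.ResidueField O)) :
    ∃ F : FormalGroup O, F.IsComm ∧
      PowerSeries.subst F.toPowerSeries f =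
        MvPowerSeries.subst (fun i : Fin 2 => PowerSeries.subst (MvPowerSeries.X i : MvPowerSeries (Fin 2) O) f) F.toPowerSeries ∧
      ∀ G : MvPowerSeries (Fin 2) O, G.constantCoeff = 0 → G.coeff (Finsupp.single 0 1) = 1 →
        G.coeff (Finsupp.single 1 1) = 1 →
        PowerSeries.subst G f =
        MvPowerSeries.subst (fun i : Fin 2 => PowerSeries.subst (MvPowerSeries.X i : MvPowerSeries (Fin 2) O) f) G →
        G = F.toPowerSeries := by
  have hq := Groth.Agent.LTLemma.two_le_card (O := O)
  obtain ⟨F, hF0, hF1, hF⟩ := Groth.Agent.LTLemma.Ev_exists (σ := Fin 2) hπ (fun _ => 1)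
  have hX : ∀ i : Fin 3, MvPowerSeries.constantCoeff (MvPowerSeries.X i : MvPowerSeries (Fin 3) O) = 0 :=
    MvPowerSeries.constantCoeff_X
  have h2 : ∀ {a b : MvPowerSeries (Fin 3) O}, MvPowerSeries.constantCoeff a = 0 →
      MvPowerSeries.constantCoeff b = 0 → ∀ i : Fin 2, MvPowerSeries.constantCoeff (![a, b] i) = 0 :=
    fun ha hb i => by fin_cases i <;> simp [ha, hb]
  have hc : ∀ {a b : MvPowerSeries (Fin 3) O}, MvPowerSeries.constantCoeff a = 0 →
      MvPowerSeries.constantCoeff b = 0 → MvPowerSeries.constantCoeff (MvPowerSeries.subst ![a, b] F) = 0 :=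
    fun ha hb => MvPowerSeries.constantCoeff_subst_eq_zero
      (MvPowerSeries.hasSubst_of_constantCoeff_zero (h2 ha hb)) (h2 ha hb) hF0
  have hE : ∀ {a b : MvPowerSeries (Fin 3) O}, MvPowerSeries.constantCoeff a = 0 →
      MvPowerSeries.constantCoeff b = 0 → Groth.Agent.LTLemma.Ev π (Nat.card (IsLocalRing.ResidueField O)) a = 0 → Groth.Agent.LTLemma.Ev π (Nat.card (IsLocalRing.ResidueField O)) b = 0 →
      Groth.Agent.LTLemma.Ev π (Nat.card (IsLocalRing.ResidueField O)) (MvPowerSeries.subst ![a, b] F) = 0 :=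
    fun ha hb hEa hEb => Groth.Agent.LTLemma.Ev_subst π hq (h2 ha hb) hF
      (fun i => by fin_cases i <;> first | exact hEa | exact hEb)
  have hEX := fun i : Fin 3 => Groth.Agent.LTLemma.Ev_X (R := O) π hq i
  let G : FormalGroup O :=
    { toPowerSeries := F
      zero_constantCoeff := hF0
      lin_coeff_X := hF1 0
      lin_coeff_Y := hF1 1
      assoc := by
        refine Groth.Agent.LTLemma.Ev_ext (Fin 3) hπ (hc (hc (hX 0) (hX 1)) (hX 2))
          (hc (hX 0) (hc (hX 1) (hX 2))) (fun j => ?_)
          (hE (hc (hX 0) (hX 1)) (hX 2) (hE (hX 0) (hX 1) (hEX 0) (hEX 1)) (hEX 2))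
          (hE (hX 0) (hc (hX 1) (hX 2)) (hEX 0) (hE (hX 1) (hX 2) (hEX 1) (hEX 2)))
        rw [Groth.Agent.LTLemma.coeff_single_subst_two (hc (hX 0) (hX 1)) (hX 2),
          Groth.Agent.LTLemma.coeff_single_subst_two (hX 0) (hc (hX 1) (hX 2)),
          Groth.Agent.LTLemma.coeff_single_subst_two (hX 0) (hX 1),
          Groth.Agent.LTLemma.coeff_single_subst_two (hX 1) (hX 2), hF1 0, hF1 1]
        ring }
  have hX2 : ∀ i : Fin 2, MvPowerSeries.constantCoeff
      (![MvPowerSeries.X 1, MvPowerSeries.X 0] i : MvPowerSeries (Fin 2) O) = 0 := fun i => by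
    fin_cases i <;> simp
  refine ⟨G, ⟨?_⟩, (Groth.Agent.LTLemma.Ev_iff hf hF0).1 hF, fun H hH0 hH1 hH2 hH => ?_⟩
  · change F = MvPowerSeries.subst ![MvPowerSeries.X 1, MvPowerSeries.X 0] F
    classical
    refine Groth.Agent.LTLemma.Ev_ext (Fin 2) hπ hF0
      (MvPowerSeries.constantCoeff_subst_eq_zero (MvPowerSeries.hasSubst_of_constantCoeff_zero hX2) hX2 hF0)
      (fun j => ?_) hF
      (Groth.Agent.LTLemma.Ev_subst π hq hX2 hF (fun i => by
        fin_cases i <;> first | exact Groth.Agent.LTLemma.Ev_X π hq 1 | exact Groth.Agent.LTLemma.Ev_X π hq 0))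
    rw [Groth.Agent.LTLemma.coeff_single_subst_two (MvPowerSeries.constantCoeff_X 1)
      (MvPowerSeries.constantCoeff_X 0), hF1, hF1, hF1]
    fin_cases j <;> simp [MvPowerSeries.coeff_index_single_X]
  · refine Groth.Agent.LTLemma.Ev_ext (Fin 2) hπ hH0 hF0 (fun i => ?_) ((Groth.Agent.LTLemma.Ev_iff hf hH0).2 hH) hF
    fin_cases i
    · exact hH1.trans (hF1 0).symm
    · exact hH2.trans (hF1 1).symm

end Groth.Agent.S15049
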