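import Groth.Statements.S15051
import Groth.Agent.LTLemma2
-- import your own Groth.Agent.* helpers here

set_option autoImplicit false
universe u
open LubinTate

namespace Groth.Agent.S15051

/-- Let O be a discrete valuation ring with finite residue field of cardinality q, π a uniformizer of O,
and f = πT + T^q ∈ O[[T]]; let F be a one-dimensional formal group law over O for which f is an
endomorphism, f(F(X,Y)) = F(f(X), f(Y)), and g ∈ O[[T]] a power series with zero constant term which
commutes with f, g(f(T)) = f(g(T)). Then g is an endomorphism of F, that is g(F(X,Y)) = F(g(X),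
g(Y)); so α ↦ [α] maps O into the endomorphisms of the Lubin–Tate formal group. (The published
statement is for the ring of integers of a finite extension of ℚ_p or of 𝔽_q((X)); completeness is
not used and any discrete valuation ring with finite residue field is allowed here.) -/
theorem result (O : Type u) [CommRing O] [IsDomain O] [IsDiscreteValuationRing O]
    [Finite (IsLocalRing.ResidueField O)] (π : O) (hπ : Irreducible π) (f : PowerSeries O)
    (hf : f = π • PowerSeries.X + PowerSeries.X ^ Nat.card (IsLocalRing.ResidueField O))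
    (F : FormalGroup O)
    (hF : PowerSeries.subst F.toPowerSeries f =
        MvPowerSeries.subst (fun i : Fin 2 => PowerSeries.subst (MvPowerSeries.X i : MvPowerSeries (Fin 2) O) f) F.toPowerSeries)
    (g : PowerSeries O) (hg0 : g.constantCoeff = 0)
    (hgf : PowerSeries.subst g f = PowerSeries.subst f g) :
    PowerSeries.subst F.toPowerSeries g =
      MvPowerSeries.subst (fun i : Fin 2 => PowerSeries.subst (MvPowerSeries.X i : MvPowerSeries (Fin 2) O) g)
        F.toPowerSeries := by
  open Groth.Agent.LTLemma in
  have hq := two_le_card (O := O)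
  have hF0 := F.zero_constantCoeff
  have hEF := (Groth.Agent.LTLemma.Ev_iff hf hF0).2 hF
  have hEg := (Groth.Agent.LTLemma.Ev_iff_unit hf hg0).2 hgf
  have hgX : ∀ i : Fin 2, MvPowerSeries.constantCoeff
      (PowerSeries.subst (MvPowerSeries.X i : MvPowerSeries (Fin 2) O) g) = 0 := fun i =>
    MvPowerSeries.constantCoeff_subst_eq_zero (PowerSeries.HasSubst.const
      (PowerSeries.HasSubst.of_constantCoeff_zero (MvPowerSeries.constantCoeff_X i)))
      (fun _ => MvPowerSeries.constantCoeff_X i) hg0
  have hEgX : ∀ i : Fin 2, Groth.Agent.LTLemma.Ev π _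
      (PowerSeries.subst (MvPowerSeries.X i : MvPowerSeries (Fin 2) O) g) = 0 := fun i =>
    Groth.Agent.LTLemma.Ev_subst (σ := Unit) π hq (a := fun _ => MvPowerSeries.X i)
      (fun _ => MvPowerSeries.constantCoeff_X i) hEg (fun _ => Groth.Agent.LTLemma.Ev_X π hq i)
  refine Groth.Agent.LTLemma.Ev_ext (Fin 2) hπ ?_ ?_ (fun j => ?_) ?_ ?_
  · exact MvPowerSeries.constantCoeff_subst_eq_zero (PowerSeries.HasSubst.const
      (PowerSeries.HasSubst.of_constantCoeff_zero hF0)) (fun _ => hF0) hg0
  · exact MvPowerSeries.constantCoeff_subst_eq_zero (MvPowerSeries.hasSubst_of_constantCoeff_zero hgX) hgX hF0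
  · rw [Groth.Agent.LTLemma.coeff_single_subst_unit hF0, Groth.Agent.LTLemma.coeff_single_subst hgX]
    simp only [Groth.Agent.LTLemma.coeff_single_subst_unit (MvPowerSeries.constantCoeff_X _)]
    classical
    rw [Fin.sum_univ_two, F.lin_coeff_X, F.lin_coeff_Y]
    fin_cases j <;> simp [MvPowerSeries.coeff_index_single_X, F.lin_coeff_X, F.lin_coeff_Y]
  · exact Groth.Agent.LTLemma.Ev_subst (σ := Unit) π hq (a := fun _ => F.toPowerSeries) (fun _ => hF0) hEg
      (fun _ => hEF)
  · exact Groth.Agent.LTLemma.Ev_subst π hq hgX hEF hEgX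

end Groth.Agent.S15051
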