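import Groth.Statements.S15052
import Groth.Agent.LTLog
-- import your own Groth.Agent.* helpers here

set_option autoImplicit false
universe u
open LubinTate

namespace Groth.Agent.S15052

/-- Let O be a discrete valuation ring with finite residue field of cardinality q, π a uniformizer of O,
and f = πT + T^q ∈ O[[T]]; let K be the fraction field of O and F a one-dimensional formal group law
over O for which f is an endomorphism, f(F(X,Y)) = F(f(X), f(Y)). Then there is a unique power
series ℓ ∈ K[[T]] with zero constant term and linear coefficient 1 such that ℓ(f(T)) = π·ℓ(T); this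
logarithm is a homomorphism to the additive formal group, ℓ(F(T,S)) = ℓ(T) + ℓ(S), and it is
O-linear in the sense that ℓ(g(T)) = α·ℓ(T) for every α ∈ O and every series g ∈ O[[T]] with zero
constant term and linear coefficient α commuting with f. (The published statement is for the ring of
integers of a finite extension of ℚ_p; completeness is not used and any discrete valuation ring with
finite residue field is allowed here.) -/
theorem result (O : Type u) [CommRing O] [IsDomain O] [IsDiscreteValuationRing O]
    [Finite (IsLocalRing.ResidueField O)] (K : Type u) [Field K] [Algebra O K] [IsFractionRing O K]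
    (π : O) (hπ : Irreducible π) (f : PowerSeries O)
    (hf : f = π • PowerSeries.X + PowerSeries.X ^ Nat.card (IsLocalRing.ResidueField O))
    (F : FormalGroup O)
    (hF : PowerSeries.subst F.toPowerSeries f =
        MvPowerSeries.subst (fun i : Fin 2 => PowerSeries.subst (MvPowerSeries.X i : MvPowerSeries (Fin 2) O) f) F.toPowerSeries) :
    ∃ ℓ : PowerSeries K, (ℓ.constantCoeff = 0 ∧ ℓ.coeff 1 = 1 ∧
      PowerSeries.subst (PowerSeries.map (algebraMap O K) f) ℓ = algebraMap O K π • ℓ) ∧
      (∀ ℓ' : PowerSeries K, ℓ'.constantCoeff = 0 → ℓ'.coeff 1 = 1 →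
        PowerSeries.subst (PowerSeries.map (algebraMap O K) f) ℓ' = algebraMap O K π • ℓ' → ℓ' = ℓ) ∧
      PowerSeries.subst ((F.toPowerSeries).map (algebraMap O K)) ℓ =
        PowerSeries.subst (MvPowerSeries.X (0 : Fin 2) : MvPowerSeries (Fin 2) K) ℓ +
          PowerSeries.subst (MvPowerSeries.X (1 : Fin 2) : MvPowerSeries (Fin 2) K) ℓ ∧
      (∀ (α : O) (g : PowerSeries O), g.constantCoeff = 0 → g.coeff 1 = α →
        PowerSeries.subst g f = PowerSeries.subst f g →
        PowerSeries.subst (PowerSeries.map (algebraMap O K) g) ℓ = algebraMap O K α • ℓ) := by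
  have hq := Groth.Agent.LTLemma.two_le_card (O := O)
  set q := Nat.card (IsLocalRing.ResidueField O) with hqdef
  set r := algebraMap O K with hr
  have hinj : Function.Injective r := IsFractionRing.injective O K
  have hπK : ∀ d, 2 ≤ d → r π - r π ^ d ≠ 0 := fun d hd h => by
    rw [← map_pow, ← map_sub, map_eq_zero_iff r hinj] at h
    exact one_ne_zero (Groth.Agent.LTLemma.regular_pi_sub_pow hπ d hd 1 (by rw [h, zero_mul]))
  set fK := PowerSeries.map r f with hfKdef
  have hfK : fK = r π • PowerSeries.X + PowerSeries.X ^ q := by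
    rw [hfKdef, hf, map_add, map_pow, PowerSeries.map_X, PowerSeries.smul_eq_C_mul, map_mul, PowerSeries.map_C,
      PowerSeries.map_X, PowerSeries.smul_eq_C_mul]
  have hfK0 : PowerSeries.constantCoeff fK = 0 := by
    rw [hfK]
    simp [PowerSeries.smul_eq_C_mul, zero_pow (show q ≠ 0 by omega)]
  have hsf : PowerSeries.HasSubst fK := PowerSeries.HasSubst.of_constantCoeff_zero' hfK0
  have hiff : ∀ l : PowerSeries K, Groth.Agent.LTLemma.Lv (σ := Unit) (r π) q l = 0 ↔
      PowerSeries.subst fK l = r π • l := fun l => by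
    rw [Groth.Agent.LTLemma.Lv, sub_eq_zero, ← Groth.Agent.LTLemma.f_eq_fX hfK, eq_comm]
    rfl
  obtain ⟨l, hl0, hl1, hl⟩ := Groth.Agent.LTLemma.Lv_exists (σ := Unit) hq hπK (fun _ => 1)
  have hls : PowerSeries.subst fK l = r π • l := (hiff l).1 hl
  refine ⟨l, ⟨hl0, hl1 (), hls⟩, fun l' h0 h1 h2 => ?_, ?_, fun α g hg0 hg1 hgf => ?_⟩
  · exact Groth.Agent.LTLemma.Lv_ext hq hπK h0 hl0 (fun _ => h1.trans (hl1 ()).symm) ((hiff l').2 h2) hl
  · -- additivity
    classical
    have hs := Groth.Agent.LTLemma.hasSubst_fX (σ := Fin 2) (r π) hq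
    set FK := MvPowerSeries.map r F.toPowerSeries with hFK
    have hFK0 : MvPowerSeries.constantCoeff FK = 0 := by
      rw [hFK, MvPowerSeries.constantCoeff_map, F.zero_constantCoeff, map_zero]
    have hXsub : ∀ i : Fin 2, PowerSeries.HasSubst (MvPowerSeries.X i : MvPowerSeries (Fin 2) K) := fun i =>
      PowerSeries.HasSubst.of_constantCoeff_zero (MvPowerSeries.constantCoeff_X i)
    have hfun : ∀ a : MvPowerSeries (Fin 2) K, PowerSeries.HasSubst a →
        MvPowerSeries.subst (Groth.Agent.LTLemma.fX (r π) q) (PowerSeries.subst a l) =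
          PowerSeries.subst (MvPowerSeries.subst (Groth.Agent.LTLemma.fX (r π) q) a) l := fun a ha =>
      MvPowerSeries.subst_comp_subst_apply ha.const hs l
    have hlc : ∀ a : MvPowerSeries (Fin 2) K, PowerSeries.HasSubst a →
        PowerSeries.subst (PowerSeries.subst a fK) l = r π • PowerSeries.subst a l := fun a ha => by
      rw [← PowerSeries.subst_comp_subst_apply hsf ha, hls, PowerSeries.subst_smul ha]
    have hc0 : ∀ a : MvPowerSeries (Fin 2) K, MvPowerSeries.constantCoeff a = 0 →
        MvPowerSeries.constantCoeff (PowerSeries.subst a l) = 0 := fun a ha =>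
      MvPowerSeries.constantCoeff_subst_eq_zero (PowerSeries.HasSubst.of_constantCoeff_zero ha).const
        (fun _ => ha) hl0
    refine Groth.Agent.LTLemma.Lv_ext hq hπK (hc0 _ hFK0) ?_ (fun j => ?_) ?_ ?_
    · rw [map_add, hc0 _ (MvPowerSeries.constantCoeff_X 0), hc0 _ (MvPowerSeries.constantCoeff_X 1), add_zero]
    · rw [map_add, Groth.Agent.LTLemma.coeff_single_subst_unit hFK0,
        Groth.Agent.LTLemma.coeff_single_subst_unit (MvPowerSeries.constantCoeff_X _),
        Groth.Agent.LTLemma.coeff_single_subst_unit (MvPowerSeries.constantCoeff_X _), hFK, MvPowerSeries.coeff_map]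
      fin_cases j <;> simp [MvPowerSeries.coeff_index_single_X, F.lin_coeff_X, F.lin_coeff_Y]
    · have hFf : PowerSeries.subst FK fK = MvPowerSeries.subst (Groth.Agent.LTLemma.fX (r π) q) FK := by
        have e := congrArg (MvPowerSeries.map r) hF
        rw [Groth.Agent.LTLemma.subst_X_f hf,
          PowerSeries.map_subst (PowerSeries.HasSubst.of_constantCoeff_zero F.zero_constantCoeff),
          MvPowerSeries.map_subst (Groth.Agent.LTLemma.hasSubst_fX π hq)] at e
        refine e.trans (congrArg (fun a => MvPowerSeries.subst a FK) (funext fun i => ?_))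
        simp [Groth.Agent.LTLemma.fX, MvPowerSeries.smul_eq_C_mul]
      rw [Groth.Agent.LTLemma.Lv, sub_eq_zero, hfun _ (PowerSeries.HasSubst.of_constantCoeff_zero hFK0), ← hFf,
        hlc _ (PowerSeries.HasSubst.of_constantCoeff_zero hFK0)]
    · rw [Groth.Agent.LTLemma.Lv, sub_eq_zero, MvPowerSeries.subst_add hs, smul_add, hfun _ (hXsub 0),
        hfun _ (hXsub 1), MvPowerSeries.subst_X hs, MvPowerSeries.subst_X hs,
        ← congrFun (Groth.Agent.LTLemma.subst_X_f hfK) 0, ← congrFun (Groth.Agent.LTLemma.subst_X_f hfK) 1,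
        hlc _ (hXsub 0), hlc _ (hXsub 1)]
  · set gK := PowerSeries.map r g with hgK
    have hgK0 : PowerSeries.constantCoeff gK = 0 := by
      rw [hgK, ← PowerSeries.coeff_zero_eq_constantCoeff_apply, PowerSeries.coeff_map,
        PowerSeries.coeff_zero_eq_constantCoeff_apply, hg0, map_zero]
    have hsg : PowerSeries.HasSubst gK := PowerSeries.HasSubst.of_constantCoeff_zero' hgK0
    have hf0 : PowerSeries.constantCoeff f = 0 := by
      rw [hf]
      simp [PowerSeries.smul_eq_C_mul, zero_pow (show q ≠ 0 by omega)]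
    have e := congrArg (MvPowerSeries.map r) hgf
    rw [PowerSeries.map_subst (PowerSeries.HasSubst.of_constantCoeff_zero' hg0),
      PowerSeries.map_subst (PowerSeries.HasSubst.of_constantCoeff_zero' hf0)] at e
    replace e : PowerSeries.subst gK fK = PowerSeries.subst fK gK := e
    refine Groth.Agent.LTLemma.Lv_ext (σ := Unit) hq hπK ?_ ?_ (fun j => ?_) ((hiff _).2 ?_) ((hiff _).2 ?_)
    · exact MvPowerSeries.constantCoeff_subst_eq_zero hsg.const (fun _ => hgK0) hl0
    · rw [MvPowerSeries.smul_eq_C_mul, map_mul]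
      exact mul_eq_zero_of_right _ hl0
    · rw [Groth.Agent.LTLemma.coeff_single_subst_unit (a := gK) hgK0, MvPowerSeries.coeff_smul]
      refine (congrArg₂ (· * ·) (hl1 ()) ?_).trans ((mul_comm _ _).trans (congrArg (r α * ·) (hl1 ()).symm))
      rw [← hg1]
      exact PowerSeries.coeff_map r 1 g
    · rw [PowerSeries.subst_comp_subst_apply hsg hsf, ← e, ← PowerSeries.subst_comp_subst_apply hsf hsg, hls,
        PowerSeries.subst_smul hsg]
    · rw [PowerSeries.subst_smul hsf, hls, smul_comm]

end Groth.Agent.S15052
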