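import Groth.Statements.S15054
import Mathlib
-- import your own Groth.Agent.* helpers here

set_option autoImplicit false
universe u
open CategoryTheory CategoryTheory.Limits MonoidalCategory CartesianMonoidalCategory MonObj GrpObj AlgebraicGeometry
open BTGrp

namespace Groth.Agent.S15054

/-- Let ℓ be a prime and G = (G_ν)_ν an ℓ-divisible (Barsotti–Tate) group of height h over a scheme S,
given as the system of its finite locally free layers G_ν of order ℓ^{νh} with inclusions G_ν →
G_{ν+1} exhibiting G_ν as the ℓ^ν-torsion of G_{ν+1} and projections G_{ν+1} → G_ν (multiplication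
by ℓ). Let i_t : G_1 → G_{t+1} denote the iterated inclusions, pinned by i_0 = id and i_{t+1} = i_t
followed by G_{t+1} → G_{t+2}. Then for every t, i_t identifies G_1 with the kernel of
multiplication by ℓ on G_{t+1}: the ℓ-torsion of every layer is the first layer. (The published
statement identifies G_v with the ℓ^v-torsion of G_{v+t} for all v; this row is its case v = 1. The
published base is the spectrum of a Noetherian ring; the argument is formal and any base scheme is
allowed here.) -/
theorem result {S : Scheme.{u}} (ℓ h : ℕ) [Fact ℓ.Prime] (G : BTGrp.ProBT ℓ S h)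
    (i : (t : ℕ) → (G.G 1 ⟶ G.G (t + 1))) (hi0 : i 0 = 𝟙 (G.G 1))
    (hi : ∀ t : ℕ, i (t + 1) = i t ≫ G.incl (t + 1)) (t : ℕ) :
    AlgGrp.IsKernel (i t) ((𝟙 (G.G (t + 1))) ^ ℓ) := by
  have hmono : ∀ ν, Mono (G.incl ν) := fun ν => ⟨fun {T} a b hab =>
    (G.isKernel ν).hom_ext hab (toUnit_unique _ _)⟩
  have hkill : ∀ ν (T : Over S) (y : T ⟶ G.G ν), y ^ (ℓ ^ ν) = 1 := fun ν T y => by
    haveI := hmono ν
    rw [← cancel_mono (G.incl ν), MonObj.pow_comp, MonObj.one_comp]
    have e := congrArg (fun q => y ≫ q) (G.isKernel ν).w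
    simpa [MonObj.comp_pow, Hom.one_def] using e
  induction t with
  | zero =>
    rw [hi0]
    refine ⟨⟨?_⟩, ⟨PullbackCone.IsLimit.mk _ (fun s => s.fst) (fun s => by simp)
      (fun s => toUnit_unique _ _) (fun s m h1 _ => by simpa using h1)⟩⟩
    rw [Category.id_comp]
    have := hkill 1 _ (𝟙 (G.G 1))
    rw [pow_one] at this
    rw [this, Hom.one_def]
  | succ t ih =>
    rw [hi t]
    have hw : (i t ≫ G.incl (t + 1)) ≫ (𝟙 (G.G (t + 1 + 1))) ^ ℓ = toUnit _ ≫ η[G.G (t + 1 + 1)] := by
      rw [MonObj.comp_pow, Category.comp_id, ← MonObj.pow_comp, ← Hom.one_def,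
        ← MonObj.one_comp (X := G.G 1) (G.incl (t + 1))]
      congr 1
      have e := ih.w
      rw [MonObj.comp_pow, Category.comp_id, ← Hom.one_def] at e
      exact e
    have hlift : ∀ {T : Over S} (x : T ⟶ G.G (t + 1 + 1)), x ^ ℓ = 1 →
        ∃ z : T ⟶ G.G 1, z ≫ i t ≫ G.incl (t + 1) = x := by
      intro T x hx
      have hx' : x ^ (ℓ ^ (t + 1)) = 1 := by rw [pow_succ', pow_mul, hx, one_pow]
      obtain ⟨y, hy, -⟩ := (G.isKernel (t + 1)).exists_lift x (toUnit T)
        (by rw [MonObj.comp_pow, Category.comp_id, hx', Hom.one_def])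
      haveI := hmono (t + 1)
      have hy' : y ^ ℓ = 1 := by
        rw [← cancel_mono (G.incl (t + 1)), MonObj.pow_comp, hy, hx, MonObj.one_comp]
      obtain ⟨z, hz, -⟩ := ih.exists_lift y (toUnit T)
        (by rw [MonObj.comp_pow, Category.comp_id, hy', Hom.one_def])
      exact ⟨z, by rw [← Category.assoc, hz, hy]⟩
    have hm : Mono (i t) := ⟨fun a b hab => ih.hom_ext hab (toUnit_unique _ _)⟩
    haveI := hm
    haveI := hmono (t + 1)
    have hl : ∀ s : PullbackCone ((𝟙 (G.G (t + 1 + 1))) ^ ℓ) η[G.G (t + 1 + 1)],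
        ∃ z : s.pt ⟶ G.G 1, z ≫ i t ≫ G.incl (t + 1) = s.fst := fun s => hlift s.fst (by
      have e := s.condition
      rw [MonObj.comp_pow, Category.comp_id, toUnit_unique s.snd (toUnit _), ← Hom.one_def] at e
      exact e)
    exact ⟨⟨hw⟩, ⟨PullbackCone.IsLimit.mk _ (fun s => (hl s).choose) (fun s => (hl s).choose_spec)
      (fun s => toUnit_unique _ _) (fun s m h1 _ => by
        rw [← cancel_mono (i t ≫ G.incl (t + 1)), h1, (hl s).choose_spec])⟩⟩

end Groth.Agent.S15054
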