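import Groth.Statements.S15055
import Groth.Agent.S15054
import Groth.Agent.GrpQuotLib.Kernel
import Groth.Agent.MonoFibre.AffineTarget
import Groth.Agent.WeilAVLib.MatEndo
import Groth.Agent.FppfSrc.Retract
import Groth.Agent.BTDegLib.Closed
-- import your own Groth.Agent.* helpers here

set_option autoImplicit false
universe u
open CategoryTheory CategoryTheory.Limits MonoidalCategory CartesianMonoidalCategory MonObj GrpObj AlgebraicGeometry
open BTGrp

namespace Groth.Agent.S15055


theorem isKernel_of_comp_mono {S : Scheme.{u}} {N A B C : Over S} [GrpObj B] [GrpObj C] (a : N ⟶ A) (b : A ⟶ B)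
    (c : B ⟶ C) [IsMonHom c] [Mono c] (h : AlgGrp.IsKernel a (b ≫ c)) : AlgGrp.IsKernel a b := by
  have hη : η[B] ≫ c = η[C] := IsMonHom.one_hom c
  have w : a ≫ b = toUnit N ≫ η[B] := by
    rw [← cancel_mono c, Category.assoc, Category.assoc, hη]; exact h.w
  have key : ∀ s : PullbackCone b η[B], s.fst ≫ b ≫ c = s.snd ≫ η[C] := fun s => by
    rw [← Category.assoc, s.condition, Category.assoc, hη]
  exact ⟨⟨w⟩, ⟨PullbackCone.IsLimit.mk w (fun s => h.lift s.fst s.snd (key s)) (fun s => h.lift_fst _ _ _)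
    (fun s => h.lift_snd _ _ _)
    (fun s m h1 h2 => h.hom_ext (h1.trans (h.lift_fst _ _ _).symm) (h2.trans (h.lift_snd _ _ _).symm))⟩⟩

theorem finrank_of_isKernel {S : Scheme.{u}} {N A Q : Over S} [GrpObj A] [GrpObj Q] (a : N ⟶ A) (p : A ⟶ Q)
    [IsMonHom p] (h : AlgGrp.IsKernel a p) [IsFinite p.left] [Flat p.left] [Surjective p.left] [IsFinite N.hom] [Flat N.hom]
    {n : ℕ} (hn : ∀ s, N.hom.finrank s = n) (q : Q.left) : p.left.finrank q = n := by
  obtain ⟨x, rfl⟩ := p.left.surjective q
  have P : IsPullback (fst A N * snd A N ≫ a).left (fst A N).left p.left p.left :=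
    (Groth.Agent.MonoFibre.isPullback_kernel_translate a p h).map (Over.forget S)
  have h1 := Scheme.Hom.finrank_of_isPullback _ _ _ _ P x
  have h2 := Scheme.Hom.finrank_of_isPullback _ _ _ _ (Groth.Agent.GrpSchLib.isPullback_fst_snd (T := A) (G := N)).flip x
  exact h1.symm.trans (h2.trans (hn _))

/-- Let R be a Noetherian ring, ℓ a prime and G = (G_ν)_ν an ℓ-divisible (Barsotti–Tate) group of height
h over Spec R, given as the system of its finite locally free layers G_ν of order ℓ^{νh} with
inclusions exhibiting G_ν as the ℓ^ν-torsion of G_{ν+1} and projections j_t : G_{t+1} → G_t through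
which multiplication by ℓ on G_{t+1} factors. Let i_t : G_1 → G_{t+1} be the iterated inclusions
(i_0 = id, i_{t+1} = i_t followed by G_{t+1} → G_{t+2}). Then for every t the sequence 1 → G_1 →
G_{t+1} → G_t → 1 is exact: i_t is the kernel of j_t, and j_t is finite locally free of degree ℓ^h
and surjective; in particular multiplication by ℓ is an epimorphism of fppf sheaves on the
ℓ-divisible group, with kernel of order ℓ^h. (The published statement treats the sequence 0 → G_v →
G_{v+t} → G_t → 0 for every v; this row is its case v = 1, combined with the consequence, stated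
separately in the text, that multiplication by ℓ on the ℓ-divisible group is finite locally free of
degree ℓ^h and surjective.) -/
theorem result (R : Type u) [CommRing R] [IsNoetherianRing R] (ℓ h : ℕ)
    [Fact ℓ.Prime] (G : BTGrp.ProBT ℓ (Spec (CommRingCat.of R)) h)
    (i : (t : ℕ) → (G.G 1 ⟶ G.G (t + 1))) (hi0 : i 0 = 𝟙 (G.G 1))
    (hi : ∀ t : ℕ, i (t + 1) = i t ≫ G.incl (t + 1)) (t : ℕ) :
    AlgGrp.IsKernel (i t) (G.proj t) ∧ Mor2.IsFinLocFreeOfDeg (ℓ ^ h) (G.proj t).left ∧
      Surjective (G.proj t).left := by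
  set u := G.proj t with hu
  have hmono : ∀ ν, Mono (G.incl ν) := fun ν => ⟨fun {T} a b hab =>
    (G.isKernel ν).hom_ext hab (toUnit_unique _ _)⟩
  haveI := hmono t
  have hker : AlgGrp.IsKernel (i t) u := isKernel_of_comp_mono (i t) u (G.incl t)
    ((G.proj_incl t).symm ▸ Groth.Agent.S15054.result ℓ h G i hi0 hi t)
  obtain ⟨⟨hfin1, hflat1, hlfp1⟩, hdeg1⟩ := G.finLocFree 1
  obtain ⟨⟨hfinT, hflatT, hlfpT⟩, hdegT⟩ := G.finLocFree (t + 1)
  obtain ⟨⟨hfint, hflatt, hlfpt⟩, hdegt⟩ := G.finLocFree t
  have hK : Flat (pullback u η[G.G t]).hom := by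
    let e : pullback u η[G.G t] ≅ G.G 1 := hker.isoPullback.symm
    rw [← Over.w e.hom]
    exact MorphismProperty.comp_mem _ e.hom.left (G.G 1).hom
      (inferInstanceAs (Flat ((Over.forget _).map e.hom))) hflat1
  obtain ⟨Q, hQ, p, j, hp, hj, hpj, hps, hpf, hplfp, hjm, hQlfp, -⟩ :=
    Groth.Agent.GrpQuotLib.exists_quotient_by_flat_kernel (G.G (t + 1)) (G.G t) u hK
  haveI : Mono j.left := Over.mono_left_of_mono j
  haveI : IsSeparated Q.hom := by rw [← Over.w j]; infer_instance
  haveI : IsFinite (p.left ≫ Q.hom) := by rw [Over.w p]; infer_instance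
  haveI : IsFinite p.left := IsFinite.of_comp p.left Q.hom
  haveI : Flat (p.left ≫ Q.hom) := by rw [Over.w p]; infer_instance
  haveI : Flat Q.hom := Groth.Agent.FppfSrc.flat_of_factor_scheme p.left p.left (𝟙 _) Q.hom (Category.id_comp _)
  haveI : UniversallyClosed (p.left ≫ Q.hom) := inferInstance
  haveI : UniversallyClosed Q.hom := UniversallyClosed.of_comp_surjective p.left Q.hom
  haveI : IsProper Q.hom := {}
  haveI : IsProper (j.left ≫ (G.G t).hom) := by rw [Over.w j]; infer_instance
  haveI : IsProper j.left := IsProper.of_comp j.left (G.G t).hom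
  haveI : IsClosedImmersion j.left := (IsClosedImmersion.iff_isProper_and_mono _).2 ⟨inferInstance, inferInstance⟩
  haveI : IsFinite Q.hom := by rw [← Over.w j]; infer_instance
  have hpker : AlgGrp.IsKernel (i t) p := isKernel_of_comp_mono (i t) p j (hpj.symm ▸ hker)
  have hp' : ∀ q, p.left.finrank q = ℓ ^ h := fun q =>
    finrank_of_isKernel (i t) p hpker (fun s => by rw [hdeg1, _root_.one_mul]) q
  have hℓ : 0 < ℓ ^ h := pow_pos (Fact.out : ℓ.Prime).pos h
  have hQdeg : ∀ s, Q.hom.finrank s = ℓ ^ (t * h) := fun s => by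
    refine Nat.eq_of_mul_eq_mul_left hℓ ?_
    rw [← Groth.Agent.WeilAVLib.MatEndo.finrank_comp p.left Q.hom hp' s, ← pow_add]
    calc (p.left ≫ Q.hom).finrank s = (G.G (t + 1)).hom.finrank s := by simp only [Over.w p]
      _ = ℓ ^ (h + t * h) := by rw [hdegT]; ring_nf
  haveI : IsIso j.left := Groth.Agent.BTDegLib.isIso_of_isClosedImmersion (G.G t).hom Q.hom j.left (Over.w j)
    (fun s => by rw [hdegt, hQdeg])
  have hul : u.left = p.left ≫ j.left := by rw [← hpj]; rfl
  have hsurj : Surjective u.left := by rw [hul]; infer_instance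
  haveI : IsFinite u.left := by rw [hul]; infer_instance
  haveI : Flat u.left := by rw [hul]; infer_instance
  haveI : LocallyOfFinitePresentation u.left := by rw [hul]; infer_instance
  refine ⟨hker, ⟨⟨inferInstance, inferInstance, inferInstance⟩, fun y => ?_⟩, hsurj⟩
  obtain ⟨q, rfl⟩ := j.left.surjective y
  have P : IsPullback (𝟙 (G.G (t + 1)).left) p.left u.left j.left :=
    IsPullback.of_horiz_isIso ⟨by rw [Category.id_comp, hul]⟩
  exact (Scheme.Hom.finrank_of_isPullback _ _ _ _ P q).symm.trans (hp' q)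

end Groth.Agent.S15055
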