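import Groth.Statements.S15056
import Mathlib

set_option autoImplicit false
universe u
open scoped TensorProduct
open FrobAlg

namespace Groth.Agent.S15056

open TensorProduct

variable {R : Type u} [CommRing R]

theorem nilp_of_fibres {A : Type u} [CommRing A] [HopfAlgebra R A] [Module.Finite R A]
    (h : ∀ (K : Type u) [Field K] [IsAlgClosed K] [Algebra R K], IsLocalRing (K ⊗[R] A))
    {a : A} (ha : Bialgebra.counitAlgHom R A a = 0) : IsNilpotent a := by
  rw [← mem_nilradical, nilradical_eq_sInf, Submodule.mem_sInf]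
  intro (Q : Ideal A) hQ
  haveI : Q.IsPrime := hQ
  let F := FractionRing (A ⧸ Q)
  let K := AlgebraicClosure F
  haveI := h K
  let e : A →ₐ[R] K := IsScalarTower.toAlgHom R A K
  let Ψ : K ⊗[R] A →ₐ[K] K := Algebra.TensorProduct.lift (Algebra.ofId K K) e (fun _ _ => Commute.all _ _)
  let ε : K ⊗[R] A →ₐ[K] K := Algebra.TensorProduct.lift (Algebra.ofId K K) ((Algebra.ofId R K).comp (Bialgebra.counitAlgHom R A)) (fun _ _ => Commute.all _ _)
  have h1 : Ψ (1 ⊗ₜ a) = e a := by simp [Ψ]
  have h2 : ε (1 ⊗ₜ a) = 0 := by simp [ε, ha]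
  haveI : (RingHom.ker ε).IsMaximal := RingHom.ker_isMaximal_of_surjective _ fun x => ⟨x ⊗ₜ 1, by simp [ε]⟩
  haveI : (RingHom.ker Ψ).IsMaximal := RingHom.ker_isMaximal_of_surjective _ fun x => ⟨x ⊗ₜ 1, by simp [Ψ]⟩
  have heq : RingHom.ker ε = RingHom.ker Ψ :=
    (IsLocalRing.eq_maximalIdeal ‹(RingHom.ker ε).IsMaximal›).trans (IsLocalRing.eq_maximalIdeal ‹(RingHom.ker Ψ).IsMaximal›).symm
  have h3 : e a = 0 := by
    rw [← h1]
    exact (SetLike.ext_iff.1 heq _).1 h2
  have h4 : algebraMap (A ⧸ Q) F (Ideal.Quotient.mk Q a) = 0 := (algebraMap F K).injective (by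
    rw [map_zero, ← h3]
    show _ = algebraMap A K a
    rw [IsScalarTower.algebraMap_apply A F K, IsScalarTower.algebraMap_apply A (A ⧸ Q) F]; rfl)
  rw [IsFractionRing.to_map_eq_zero_iff] at h4
  exact Ideal.Quotient.eq_zero_iff_mem.1 h4

theorem finite_of_nilp {A : Type u} [CommRing A] [HopfAlgebra R A] [Algebra.FiniteType R A]
    (h : ∀ a : A, Bialgebra.counitAlgHom R A a = 0 → IsNilpotent a) : Module.Finite R A := by
  haveI : Algebra.IsIntegral R A := ⟨fun a => by
    set c := Bialgebra.counitAlgHom R A a
    obtain ⟨m, hm⟩ := h (a - algebraMap R A c) (by rw [map_sub, AlgHom.commutes]; simp [c])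
    exact ⟨(Polynomial.X - Polynomial.C c) ^ m, (Polynomial.monic_X_sub_C c).pow m, by
      rw [← Polynomial.aeval_def]; simpa using hm⟩⟩
  exact Algebra.IsIntegral.finite

/-- Let p be a prime number, R a Noetherian ring of characteristic p and A a finitely generated
commutative Hopf algebra over R (an affine algebraic R-group G = Spec A). The n-fold relative
Frobenius of G is the trivial homomorphism exactly when a^(p^n) = 0 for every a in the augmentation
ideal; G has finite Frobenius height when this holds for some n. Then G has finite Frobenius height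
if and only if A is a finite R-module and, for every algebraically closed field K and every ring
homomorphism R → K, the base change K ⊗_R A is a local ring (G is finite over R with connected
geometric fibres). -/
theorem result (p : ℕ) [Fact p.Prime] (R : Type u) [CommRing R] [CharP R p]
    [IsNoetherianRing R] (A : Type u) [CommRing A] [HopfAlgebra R A] [Algebra.FiniteType R A] :
    (∃ n : ℕ, ∀ a : A, Bialgebra.counitAlgHom R A a = 0 → a ^ p ^ n = 0) ↔
      (Module.Finite R A ∧ ∀ (K : Type u) [Field K] [IsAlgClosed K] [Algebra R K], IsLocalRing (K ⊗[R] A)) := by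
  constructor
  · rintro ⟨n, hn⟩
    refine ⟨finite_of_nilp fun a ha => ⟨p ^ n, hn a ha⟩, fun K _ _ _ => ?_⟩
    let ε : K ⊗[R] A →ₐ[K] K := Algebra.TensorProduct.lift (Algebra.ofId K K) ((Algebra.ofId R K).comp (Bialgebra.counitAlgHom R A)) (fun _ _ => Commute.all _ _)
    have hnil : ∀ z, IsNilpotent (z - algebraMap K (K ⊗[R] A) (ε z)) := fun z => by
      induction z using TensorProduct.induction_on with
      | zero => simp
      | tmul x a =>
        have hm := hn (a - algebraMap R A (Bialgebra.counitAlgHom R A a)) (by rw [map_sub, AlgHom.commutes]; simp)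
        have : x ⊗ₜ[R] a - algebraMap K (K ⊗[R] A) (ε (x ⊗ₜ a)) = x ⊗ₜ[R] (a - algebraMap R A (Bialgebra.counitAlgHom R A a)) := by
          rw [TensorProduct.tmul_sub]
          congr 1
          rw [show ε (x ⊗ₜ[R] a) = (Bialgebra.counitAlgHom R A a) • x by simp [ε, Algebra.smul_def, mul_comm],
            Algebra.TensorProduct.algebraMap_apply, Algebra.algebraMap_self, RingHom.id_apply,
            Algebra.algebraMap_eq_smul_one, TensorProduct.tmul_smul, TensorProduct.smul_tmul']
        rw [this]
        exact ⟨p ^ n, by rw [Algebra.TensorProduct.tmul_pow, hm, TensorProduct.tmul_zero]⟩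
      | add x y hx hy =>
        rw [map_add, map_add, add_sub_add_comm]
        exact (Commute.all _ _).isNilpotent_add hx hy
    haveI : Nontrivial (K ⊗[R] A) := ε.toRingHom.domain_nontrivial
    refine IsLocalRing.of_nonunits_add fun x y hx hy hxy => ?_
    have key : ∀ z, IsUnit z ↔ ε z ≠ 0 := fun z => by
      refine ⟨fun h => (h.map ε).ne_zero, fun h => ?_⟩
      rw [show z = algebraMap K _ (ε z) + (z - algebraMap K (K ⊗[R] A) (ε z)) by ring]
      exact (hnil z).isUnit_add_left_of_commute ((isUnit_iff_ne_zero.2 h).map _) (Commute.all _ _)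
    rw [key, map_add] at hxy
    rw [mem_nonunits_iff, key, not_not] at hx hy
    exact hxy (by rw [hx, hy, add_zero])
  · rintro ⟨hfin, hloc⟩
    haveI := hfin
    haveI : IsNoetherianRing A := Algebra.FiniteType.isNoetherianRing R A
    obtain ⟨N, hN⟩ := IsNoetherianRing.isNilpotent_nilradical A
    refine ⟨N, fun a ha => ?_⟩
    have ha' : a ∈ nilradical A := mem_nilradical.2 (nilp_of_fibres hloc ha)
    have hle : N ≤ p ^ N := (Nat.lt_pow_self (Fact.out : p.Prime).one_lt).le
    have : a ^ N = 0 := by
      have h := Ideal.pow_mem_pow ha' N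
      rwa [hN, Ideal.zero_eq_bot, Ideal.mem_bot] at h
    rw [show p ^ N = N + (p ^ N - N) by omega, pow_add, this, zero_mul]

end Groth.Agent.S15056
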