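import Groth.Statements.S15057
import Mathlib

set_option autoImplicit false
universe u
open CategoryTheory CategoryTheory.Limits
open Desc

namespace Groth.Agent.S15057

section
open Simplicial Opposite AlgebraicTopology
open scoped TensorProduct

variable (R A : Type u) [CommRing R] [CommRing A] [Algebra R A]

abbrev arr : Arrow CommRingCat.{u} := Arrow.mk (CommRingCat.ofHom (algebraMap R A))

noncomputable abbrev Cn (m : ℕ) : CommRingCat.{u} := (arr R A).cechConerve.obj ⦋m⦌

noncomputable def hd (m : ℕ) : CommRingCat.of R ⟶ Cn R A m := WidePushout.head _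

noncomputable instance (m : ℕ) : Algebra R (Cn R A m) := (hd R A m).hom.toAlgebra

noncomputable def iC (m : ℕ) (j : Fin (m + 1)) : CommRingCat.of A ⟶ Cn R A m :=
  WidePushout.ι (fun _ : Fin (m + 1) => (arr R A).hom) j

lemma arr_iC (m : ℕ) (j : Fin (m + 1)) :
    CommRingCat.ofHom (algebraMap R A) ≫ iC R A m j = hd R A m :=
  WidePushout.arrow_ι (arrows := fun _ : Fin (m + 1) => (arr R A).hom) j

lemma Cn_ext {m : ℕ} {T : CommRingCat.{u}} (f g : Cn R A m ⟶ T)
    (h0 : hd R A m ≫ f = hd R A m ≫ g) (h : ∀ j, iC R A m j ≫ f = iC R A m j ≫ g) : f = g :=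
  WidePushout.hom_ext _ _ _ h h0

noncomputable def dC (m : ℕ) (i : Fin (m + 2)) : Cn R A m ⟶ Cn R A (m + 1) :=
  (arr R A).cechConerve.δ i

lemma hd_dC (m : ℕ) (i : Fin (m + 2)) : hd R A m ≫ dC R A m i = hd R A (m + 1) :=
  WidePushout.head_desc _ _ _ _

lemma iC_dC (m : ℕ) (i : Fin (m + 2)) (j : Fin (m + 1)) :
    iC R A m j ≫ dC R A m i = iC R A (m + 1) (i.succAbove j) :=
  WidePushout.ι_desc _ _ _ _ _

noncomputable def dAlg (m : ℕ) (i : Fin (m + 2)) : Cn R A m →ₐ[R] Cn R A (m + 1) :=
  { (dC R A m i).hom with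
    commutes' := fun r => RingHom.congr_fun (congrArg CommRingCat.Hom.hom (hd_dC R A m i)) r }

noncomputable def dl (m : ℕ) : Cn R A m →ₗ[R] Cn R A (m + 1) :=
  ∑ i : Fin (m + 2), (-1 : ℤ) ^ (i : ℕ) • (dAlg R A m i).toLinearMap

noncomputable def tR (m : ℕ) : Cn R A m ⟶ CommRingCat.of (A ⊗[R] Cn R A m) :=
  CommRingCat.ofHom (Algebra.TensorProduct.includeRight : Cn R A m →ₐ[R] A ⊗[R] Cn R A m).toRingHom

noncomputable def sig (m : ℕ) : Cn R A (m + 1) ⟶ CommRingCat.of (A ⊗[R] Cn R A m) :=
  WidePushout.desc (CommRingCat.ofHom (algebraMap R (A ⊗[R] Cn R A m)))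
    (Fin.cases (CommRingCat.ofHom Algebra.TensorProduct.includeLeftRingHom)
      (fun k => iC R A m k ≫ tR R A m))
    (by
      intro j
      induction j using Fin.cases with
      | zero => ext r; rfl
      | succ k =>
        simp only [Fin.cases_succ]
        show CommRingCat.ofHom (algebraMap R A) ≫ iC R A m k ≫ tR R A m = _
        rw [← Category.assoc, arr_iC]
        ext r
        exact (Algebra.TensorProduct.includeRight : Cn R A m →ₐ[R] A ⊗[R] Cn R A m).commutes r)

lemma hd_sig (m : ℕ) : hd R A (m + 1) ≫ sig R A m = CommRingCat.ofHom (algebraMap R (A ⊗[R] Cn R A m)) :=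
  WidePushout.head_desc _ _ _ _

lemma iC_sig_zero (m : ℕ) :
    iC R A (m + 1) 0 ≫ sig R A m = CommRingCat.ofHom Algebra.TensorProduct.includeLeftRingHom :=
  WidePushout.ι_desc _ _ _ _ _

lemma iC_sig_succ (m : ℕ) (k : Fin (m + 1)) :
    iC R A (m + 1) k.succ ≫ sig R A m = iC R A m k ≫ tR R A m :=
  (WidePushout.ι_desc _ _ _ _ _).trans (Fin.cases_succ _)

lemma dC_zero_sig (m : ℕ) : dC R A m 0 ≫ sig R A m = tR R A m := by
  refine Cn_ext R A _ _ ?_ (fun j => ?_)
  · rw [← Category.assoc, hd_dC, hd_sig]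
    ext r
    exact ((Algebra.TensorProduct.includeRight : Cn R A m →ₐ[R] A ⊗[R] Cn R A m).commutes r).symm
  · rw [← Category.assoc, iC_dC, Fin.succAbove_zero, iC_sig_succ]

noncomputable def mp (m : ℕ) (i : Fin (m + 2)) :
    CommRingCat.of (A ⊗[R] Cn R A m) ⟶ CommRingCat.of (A ⊗[R] Cn R A (m + 1)) :=
  CommRingCat.ofHom (Algebra.TensorProduct.map (AlgHom.id R A) (dAlg R A m i)).toRingHom

lemma dC_succ_sig (m : ℕ) (i : Fin (m + 2)) :
    dC R A (m + 1) i.succ ≫ sig R A (m + 1) = sig R A m ≫ mp R A m i := by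
  refine Cn_ext R A _ _ ?_ (fun j => ?_)
  · rw [← Category.assoc, hd_dC, hd_sig, ← Category.assoc, hd_sig]
    ext r
    exact ((Algebra.TensorProduct.map (AlgHom.id R A) (dAlg R A m i)).commutes r).symm
  · rw [← Category.assoc, iC_dC, ← Category.assoc]
    induction j using Fin.cases with
    | zero =>
      rw [Fin.succ_succAbove_zero, iC_sig_zero, iC_sig_zero]
      ext a
      simp [mp]
    | succ k =>
      rw [Fin.succ_succAbove_succ, iC_sig_succ, iC_sig_succ, ← iC_dC R A m i k, Category.assoc, Category.assoc]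
      congr 1

lemma key (m : ℕ) (x : Cn R A (m + 1)) (hx : dl R A (m + 1) x = 0) :
    (1 : A) ⊗ₜ[R] x = (dl R A m).lTensor A ((sig R A m).hom x) := by
  have h := congrArg (sig R A (m + 1)).hom hx
  rw [map_zero] at h
  simp only [dl, LinearMap.sum_apply, LinearMap.smul_apply, map_sum, map_zsmul] at h
  rw [Fin.sum_univ_succ] at h
  have e0 : (sig R A (m + 1)).hom ((dAlg R A (m + 1) 0).toLinearMap x) = (1 : A) ⊗ₜ[R] x :=
    RingHom.congr_fun (congrArg CommRingCat.Hom.hom (dC_zero_sig R A (m + 1))) x
  have e1 : ∀ i : Fin (m + 2), (sig R A (m + 1)).hom ((dAlg R A (m + 1) i.succ).toLinearMap x) =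
      (dAlg R A m i).toLinearMap.lTensor A ((sig R A m).hom x) := fun i =>
    RingHom.congr_fun (congrArg CommRingCat.Hom.hom (dC_succ_sig R A m i)) x
  simp only [e0, e1, Fin.val_zero, pow_zero, one_smul, Fin.val_succ, pow_succ, mul_neg, mul_one,
    neg_smul, Finset.sum_neg_distrib] at h
  rw [add_neg_eq_zero] at h
  rw [h, dl]
  change _ = LinearMap.lTensorHom A (∑ i : Fin (m + 2), _) _
  rw [map_sum, LinearMap.sum_apply]
  refine Finset.sum_congr rfl fun i _ => ?_
  rw [map_zsmul, LinearMap.smul_apply]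
  rfl

lemma exact_step [Module.FaithfullyFlat R A] (m : ℕ) (x : Cn R A (m + 1))
    (hx : dl R A (m + 1) x = 0) : ∃ y, dl R A m y = x := by
  have h0 : (1 : A) ⊗ₜ[R] ((LinearMap.range (dl R A m)).mkQ x) = 0 := by
    have := congrArg ((LinearMap.range (dl R A m)).mkQ.lTensor A) (key R A m x hx)
    rw [LinearMap.lTensor_tmul, ← LinearMap.lTensor_comp_apply, LinearMap.range_mkQ_comp,
      LinearMap.lTensor_zero, LinearMap.zero_apply] at this
    exact this
  have := Module.FaithfullyFlat.tensorProduct_mk_injective (A := R) (B := A)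
    (Cn R A (m + 1) ⧸ LinearMap.range (dl R A m)) (a₁ := (LinearMap.range (dl R A m)).mkQ x) (a₂ := 0)
    (by simpa using h0)
  exact (Submodule.Quotient.mk_eq_zero _).mp this

end

/-- Let R → A be a faithfully flat homomorphism of commutative rings. The Amitsur complex A → A ⊗_R A →
A ⊗_R A ⊗_R A → ⋯, whose differential is the alternating sum of the maps inserting a unit in each
tensor slot, is realised here as the alternating coface complex (of underlying abelian groups) of
the Čech conerve of R → A in the category of commutative rings, whose degree-n term is the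
(n+1)-fold coproduct of A under R, i.e. the (n+1)-fold tensor power over R. Then this complex is
exact in every degree n ≥ 1. (Exactness at the start, namely that R → A is injective with image the
equaliser of the two maps A → A ⊗_R A, is the degree-0 statement and is not part of this row.) -/
theorem result (R A : Type u) [CommRing R] [CommRing A] [Algebra R A] [Module.FaithfullyFlat R A]
    (n : ℕ) (hn : 0 < n) :
    (AlgebraicTopology.AlternatingCofaceMapComplex.obj
      ((Arrow.mk (CommRingCat.ofHom (algebraMap R A))).cechConerve ⋙ forget₂ CommRingCat RingCat ⋙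
        forget₂ RingCat AddCommGrpCat)).ExactAt n := by
  obtain ⟨m, rfl⟩ : ∃ m, n = m + 1 := ⟨n - 1, by omega⟩
  rw [HomologicalComplex.exactAt_iff' _ m (m + 1) (m + 2) (by simp) (by simp)]
  rw [ShortComplex.ab_exact_iff]
  intro x hx
  have hD : ∀ (k : ℕ) (z : Cn R A k),
      ((AlgebraicTopology.AlternatingCofaceMapComplex.obj
      ((Arrow.mk (CommRingCat.ofHom (algebraMap R A))).cechConerve ⋙ forget₂ CommRingCat RingCat ⋙
        forget₂ RingCat AddCommGrpCat)).d k (k + 1)).hom z = dl R A k z := by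
    intro k z
    have hgen : ∀ (X : CosimplicialObject AddCommGrpCat.{u}),
        (AlgebraicTopology.AlternatingCofaceMapComplex.obj X).d k (k + 1) =
          AlgebraicTopology.AlternatingCofaceMapComplex.objD X k := fun X => by
      delta AlgebraicTopology.AlternatingCofaceMapComplex.obj
      exact CochainComplex.of_d (fun n => X.obj (SimplexCategory.mk n)) (AlgebraicTopology.AlternatingCofaceMapComplex.objD X) k
    erw [hgen]
    simp only [AlgebraicTopology.AlternatingCofaceMapComplex.objD, dl, LinearMap.sum_apply,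
      LinearMap.smul_apply]
    have hs : ∀ {M N : AddCommGrpCat.{u}} {ι : Type} (s : Finset ι) (f : ι → (M ⟶ N)) (z : M),
        (∑ i ∈ s, f i).hom z = ∑ i ∈ s, (f i).hom z := fun s f z => by
      classical
      induction s using Finset.induction_on with
      | empty => simp
      | insert a s ha ih => simp [Finset.sum_insert ha, ih]
    erw [hs]
    refine Finset.sum_congr rfl fun i _ => ?_
    rfl
  obtain ⟨y, hy⟩ := exact_step R A m x ((hD (m + 1) x).symm.trans hx)
  exact ⟨y, (hD m y).trans hy⟩

end Groth.Agent.S15057
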