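import Mathlib
import Groth.Statements.S15058

set_option autoImplicit false
universe u
open FmlGrp

namespace Groth.Agent.S15058

section

open MvPowerSeries (HasSubst)

variable {R : Type u} [CommRing R]

/-- `(X, g)` or `(g, X)`. -/
noncomputable def vec (i : Fin 2) (g : PowerSeries R) : Fin 2 → PowerSeries R :=
  Function.update (fun _ => PowerSeries.X) i g

theorem vec_const (i : Fin 2) {g : PowerSeries R} (hg : PowerSeries.constantCoeff g = 0) (s : Fin 2) :
    PowerSeries.constantCoeff (vec i g s) = 0 := by
  by_cases hs : s = i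
  · subst hs; simpa [vec] using hg
  · simp [vec, hs]

theorem hasSubst_vec (i : Fin 2) {g : PowerSeries R} (hg : PowerSeries.constantCoeff g = 0) :
    HasSubst (vec i g) :=
  MvPowerSeries.hasSubst_of_constantCoeff_zero fun s => vec_const i hg s

/-- The composite. -/
noncomputable def comp (F : MvPowerSeries (Fin 2) R) (i : Fin 2) (g : PowerSeries R) : PowerSeries R :=
  MvPowerSeries.subst (vec i g) F

theorem monomial_diff (i : Fin 2) (g g' : PowerSeries R) (n a b : ℕ)
    (hg : PowerSeries.X ∣ g) (hg' : PowerSeries.X ∣ g') (h : PowerSeries.X ^ n ∣ g - g')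
    (hab : 2 ≤ a + b ∨ b = 0) :
    PowerSeries.X ^ (n + 1) ∣ PowerSeries.X ^ a * g ^ b - PowerSeries.X ^ a * g' ^ b := by
  rcases Nat.eq_zero_or_pos b with rfl | hb
  · simp
  rw [← mul_sub]
  rcases Nat.eq_zero_or_pos a with rfl | ha
  · have h2 : 2 ≤ b := by lia
    rw [pow_zero, one_mul, ← geom_sum₂_mul, pow_succ' (PowerSeries.X : PowerSeries R) n]
    refine mul_dvd_mul (Finset.dvd_sum fun j hj => ?_) h
    rcases Nat.eq_zero_or_pos j with rfl | hj'
    · exact dvd_mul_of_dvd_right (dvd_pow hg' (by lia)) _
    · exact dvd_mul_of_dvd_left (dvd_pow hg (by lia)) _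
  · rw [pow_succ' (PowerSeries.X : PowerSeries R) n]
    exact mul_dvd_mul (dvd_pow_self _ (by lia)) (h.trans (sub_dvd_pow_sub_pow g g' b))

theorem comp_sub (F : FormalGroup R) (i : Fin 2) {g g' : PowerSeries R} (n : ℕ)
    (hg : PowerSeries.constantCoeff g = 0) (hg' : PowerSeries.constantCoeff g' = 0)
    (h : PowerSeries.X ^ n ∣ g - g') :
    PowerSeries.X ^ (n + 1) ∣ comp F.toPowerSeries i g - comp F.toPowerSeries i g' - (g - g') := by
  rw [PowerSeries.X_pow_dvd_iff]
  intro m hm
  rw [map_sub, map_sub]
  simp only [comp, PowerSeries.coeff]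
  rw [MvPowerSeries.coeff_subst (hasSubst_vec i hg), MvPowerSeries.coeff_subst (hasSubst_vec i hg'),
    ← finsum_sub_distrib (MvPowerSeries.coeff_subst_finite (hasSubst_vec i hg) _ _)
      (MvPowerSeries.coeff_subst_finite (hasSubst_vec i hg') _ _)]
  rw [finsum_eq_single _ (Finsupp.single i 1)]
  · have hlin : MvPowerSeries.coeff (Finsupp.single i 1) F.toPowerSeries = 1 := by
      fin_cases i
      · exact F.lin_coeff_X
      · exact F.lin_coeff_Y
    rw [Finsupp.prod_single_index (by simp), Finsupp.prod_single_index (by simp), hlin]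
    simp [vec]
  · intro d hd
    rw [← smul_sub, ← map_sub, Finsupp.prod_fintype _ _ (by simp), Finsupp.prod_fintype _ _ (by simp)]
    have key : PowerSeries.X ^ (n + 1) ∣
        ∏ s, (vec i g s) ^ d s - ∏ s, (vec i g' s) ^ d s := by
      have hX : ∀ {h : PowerSeries R}, PowerSeries.constantCoeff h = 0 → PowerSeries.X ∣ h :=
        fun hh => PowerSeries.X_dvd_iff.mpr hh
      fin_cases i
      · have hab : 2 ≤ d 1 + d 0 ∨ d 0 = 0 := by
          by_contra hc
          push Not at hc
          apply hd
          ext s
          fin_cases s <;> simp <;> lia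
        simpa [Fin.prod_univ_two, vec, mul_comm] using
          monomial_diff 0 g g' n (d 1) (d 0) (hX hg) (hX hg') h hab
      · have hab : 2 ≤ d 0 + d 1 ∨ d 1 = 0 := by
          by_contra hc
          push Not at hc
          apply hd
          ext s
          fin_cases s <;> simp <;> lia
        simpa [Fin.prod_univ_two, vec] using
          monomial_diff 1 g g' n (d 0) (d 1) (hX hg) (hX hg') h hab
    have h0 := (PowerSeries.X_pow_dvd_iff.mp key) m hm
    simp only [PowerSeries.coeff] at h0
    rw [h0, smul_zero]

theorem comp_const (F : FormalGroup R) (i : Fin 2) {g : PowerSeries R}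
    (hg : PowerSeries.constantCoeff g = 0) :
    PowerSeries.constantCoeff (comp F.toPowerSeries i g) = 0 :=
  MvPowerSeries.constantCoeff_subst_eq_zero (hasSubst_vec i hg) (fun s => vec_const i hg s)
    F.zero_constantCoeff

theorem unique (F : FormalGroup R) (i : Fin 2) {g g' : PowerSeries R}
    (hg : PowerSeries.constantCoeff g = 0) (hg' : PowerSeries.constantCoeff g' = 0)
    (h : comp F.toPowerSeries i g = comp F.toPowerSeries i g') : g = g' := by
  have key : ∀ n, PowerSeries.X ^ n ∣ g - g' := fun n => by
    induction n with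
    | zero => simp
    | succ n ih =>
      have := comp_sub F i n hg hg' ih
      rwa [h, sub_self, zero_sub, dvd_neg] at this
  refine sub_eq_zero.mp (PowerSeries.ext fun m => ?_)
  rw [PowerSeries.X_pow_dvd_iff.mp (key (m + 1)) m (Nat.lt_succ_self m), map_zero]

/-- The approximations of the inverse. -/
noncomputable def approx (F : MvPowerSeries (Fin 2) R) (i : Fin 2) : ℕ → PowerSeries R
  | 0 => 0
  | n + 1 => approx F i n - comp F i (approx F i n)

theorem approx_spec (F : FormalGroup R) (i : Fin 2) (n : ℕ) :
    PowerSeries.constantCoeff (approx F.toPowerSeries i n) = 0 ∧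
      PowerSeries.X ^ n ∣ comp F.toPowerSeries i (approx F.toPowerSeries i n) := by
  induction n with
  | zero => simp [approx]
  | succ n ih =>
    have hc : PowerSeries.constantCoeff (approx F.toPowerSeries i (n + 1)) = 0 := by
      rw [approx, map_sub, ih.1, comp_const F i ih.1, sub_zero]
    refine ⟨hc, ?_⟩
    have := comp_sub F i n hc ih.1 (by rw [approx, sub_sub_cancel_left, dvd_neg]; exact ih.2)
    simpa [approx] using this

theorem exists_root (F : FormalGroup R) (i : Fin 2) :
    ∃ g : PowerSeries R, PowerSeries.constantCoeff g = 0 ∧ comp F.toPowerSeries i g = 0 := by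
  let A := approx F.toPowerSeries i
  let g : PowerSeries R := PowerSeries.mk fun m => PowerSeries.coeff m (A (m + 1))
  have hstep : ∀ n p, PowerSeries.X ^ n ∣ A (n + p) - A n := fun n p => by
    induction p with
    | zero => simp
    | succ p ih =>
      have h2 : PowerSeries.X ^ n ∣ A (n + p + 1) - A (n + p) := by
        simp only [A, approx, sub_sub_cancel_left, dvd_neg]
        exact (pow_dvd_pow _ (Nat.le_add_right n p)).trans (approx_spec F i (n + p)).2
      have h3 := dvd_add h2 ih
      rwa [sub_add_sub_cancel] at h3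
  have hg : ∀ n, PowerSeries.X ^ n ∣ g - A n := fun n => by
    rw [PowerSeries.X_pow_dvd_iff]
    intro m hm
    obtain ⟨p, hp⟩ : ∃ p, n = m + 1 + p := ⟨n - (m + 1), by lia⟩
    have := PowerSeries.X_pow_dvd_iff.mp (hstep (m + 1) p) m (Nat.lt_succ_self m)
    rw [map_sub, sub_eq_zero] at this
    rw [map_sub, PowerSeries.coeff_mk, hp, this, sub_self]
  have hg0 : PowerSeries.constantCoeff g = 0 := by
    rw [← PowerSeries.coeff_zero_eq_constantCoeff_apply, PowerSeries.coeff_mk,
      PowerSeries.coeff_zero_eq_constantCoeff_apply]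
    exact (approx_spec F i 1).1
  refine ⟨g, hg0, PowerSeries.ext fun m => ?_⟩
  rw [map_zero]
  have hs := (approx_spec F i (m + 1))
  have h1 := (pow_dvd_pow (PowerSeries.X : PowerSeries R) (Nat.le_succ (m + 1))).trans
    (comp_sub F i (m + 1) hg0 hs.1 (hg (m + 1)))
  have h2 := dvd_add (dvd_add h1 hs.2) (hg (m + 1))
  rw [sub_right_comm, sub_add_eq_add_sub] at h2
  refine PowerSeries.X_pow_dvd_iff.mp (?_ : PowerSeries.X ^ (m + 1) ∣ _) m (Nat.lt_succ_self m)
  convert h2 using 1
  simp only [A]
  abel

theorem vec_one (g : PowerSeries R) : vec 1 g = ![PowerSeries.X, g] := by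
  ext s : 1; fin_cases s <;> simp [vec]

theorem vec_zero (g : PowerSeries R) : vec 0 g = ![g, PowerSeries.X] := by
  ext s : 1; fin_cases s <;> simp [vec]

theorem main (F : FormalGroup R) :
    ∃ g : PowerSeries R, PowerSeries.constantCoeff g = 0 ∧
      MvPowerSeries.subst ![PowerSeries.X, g] F.toPowerSeries = (0 : PowerSeries R) ∧
      MvPowerSeries.subst ![g, PowerSeries.X] F.toPowerSeries = (0 : PowerSeries R) ∧
      ∀ k : PowerSeries R, PowerSeries.constantCoeff k = 0 →
        (MvPowerSeries.subst ![PowerSeries.X, k] F.toPowerSeries = (0 : PowerSeries R) ∨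
          MvPowerSeries.subst ![k, PowerSeries.X] F.toPowerSeries = (0 : PowerSeries R)) → k = g := by
  obtain ⟨g, hg, h1⟩ := exists_root F 1
  obtain ⟨g', hg', h0⟩ := exists_root F 0
  rw [comp, vec_one] at h1
  rw [comp, vec_zero] at h0
  let x : F.Point Unit := ⟨PowerSeries.X, PowerSeries.HasSubst.X'⟩
  let p : F.Point Unit := ⟨g, PowerSeries.HasSubst.of_constantCoeff_zero' hg⟩
  let p' : F.Point Unit := ⟨g', PowerSeries.HasSubst.of_constantCoeff_zero' hg'⟩
  have e1 : x + p = 0 := Subtype.ext h1
  have e0 : p' + x = 0 := Subtype.ext h0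
  have hpp : p' = p := left_neg_eq_right_neg e0 e1
  have hgg : g' = g := congrArg Subtype.val hpp
  subst hgg
  refine ⟨g', hg, h1, h0, fun k hk h => ?_⟩
  rcases h with h | h
  · exact unique F 1 hk hg (by simp only [comp, vec_one]; exact h.trans h1.symm)
  · exact unique F 0 hk hg (by simp only [comp, vec_zero]; exact h.trans h0.symm)

end


/-- Let R be a commutative ring and F(X,Y) ∈ R[[X,Y]] a one-dimensional formal group law (zero constant
term, linear part X + Y, associative). Then there is a power series g(X) ∈ R[[X]] with zero constant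
term which is a two-sided inverse for F, F(X, g(X)) = 0 = F(g(X), X), and it is unique: every power
series with zero constant term which is a right inverse or a left inverse equals g. (The published
text proves this for formal group laws of any finite dimension with coefficients in a complete
Noetherian local ring; the argument is a formal degree-by-degree construction, and this row states
the one-dimensional case over an arbitrary commutative ring.) -/
theorem result (R : Type u) [CommRing R] (F : FormalGroup R) :
    ∃ g : PowerSeries R, g.constantCoeff = 0 ∧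
      F.toPowerSeries.subst ![PowerSeries.X, g] = (0 : PowerSeries R) ∧
      F.toPowerSeries.subst ![g, PowerSeries.X] = (0 : PowerSeries R) ∧
      ∀ k : PowerSeries R, k.constantCoeff = 0 →
        (F.toPowerSeries.subst ![PowerSeries.X, k] = (0 : PowerSeries R) ∨
          F.toPowerSeries.subst ![k, PowerSeries.X] = (0 : PowerSeries R)) → k = g := by
  exact main F

end Groth.Agent.S15058
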