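import Groth.Statements.S15059
import Groth.Agent.HopfGalois.Quotient
import Mathlib
-- import your own Groth.Agent.* helpers here

set_option autoImplicit false
universe u v
open scoped TensorProduct
open Hopf

namespace Groth.Agent.S15059

set_option maxHeartbeats 800000 in
/-- Let R be a Noetherian ring, A a commutative Hopf algebra over R which is finitely generated and
projective as an R-module (a finite flat R-group G = Spec A) and I a Hopf ideal of A such that A/I
is projective over R (a finite flat closed subgroup G' = Spec (A/I) of G). Let B ⊆ A be the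
R-subalgebra of functions invariant under right translation by G', namely the equaliser of the two
algebra maps A → A ⊗_R (A/I) given by a ↦ (id ⊗ π)(Δ a) and a ↦ a ⊗ 1, so that the quotient G/G' is
Spec B and its rank is the index (G : G'). Then for every prime q of R the rank of A at q is the
rank of A/I at q times the rank of B at q: the order of G is the order of G' times the index. -/
theorem result (R : Type u) [CommRing R] [IsNoetherianRing R] (A : Type v) [CommRing A]
    [HopfAlgebra R A] [Module.Finite R A] [Module.Projective R A] (I : Ideal A) [I.IsHopfIdeal R]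
    [Module.Projective R (A ⧸ I)] (q : PrimeSpectrum R) :
    Module.rankAtStalk A q =
      Module.rankAtStalk (A ⧸ I) q *
        Module.rankAtStalk
          (↥(AlgHom.equalizer
            ((Algebra.TensorProduct.map (AlgHom.id R A) (Ideal.Quotient.mkₐ R I)).comp (Bialgebra.comulAlgHom R A))
            (Algebra.TensorProduct.includeLeft : A →ₐ[R] A ⊗[R] (A ⧸ I)))) q := by
  letI := HopfGalois.quotComod (R := R) I
  haveI := HopfGalois.quot_isCoactAlg (R := R) I
  haveI : Module.Finite R (A ⧸ I) := Module.Finite.quotient R I
  rw [← HopfGalois.quot_invariants_eq (R := R) I]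
  have hs := HopfGalois.quot_canR_surjective (R := R) I
  obtain ⟨hfin, hproj⟩ := HopfGalois.finite_projective hs
  let B := GLin.invariants R (A ⧸ I) A
  haveI : Module.Finite R B := Module.Finite.of_injective B.val.toLinearMap Subtype.val_injective
  haveI : Module.FaithfullyFlat B A :=
    Module.FaithfullyFlat.of_comap_surjective (HopfGalois.comap_surjective hs)
  haveI : Module.Flat R B := by
    rw [Module.Flat.iff_lTensor_preserves_injective_linearMap]
    intro M N _ _ _ _ i hi
    change Function.Injective (TensorProduct.AlgebraTensorModule.lTensor B B i)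
    rw [← Module.FaithfullyFlat.lTensor_injective_iff_injective B A]
    intro x y hxy
    apply (TensorProduct.AlgebraTensorModule.cancelBaseChange R B B A M).injective
    apply Module.Flat.lTensor_preserves_injective_linearMap (M := A) i hi
    have e : (TensorProduct.AlgebraTensorModule.cancelBaseChange R B B A N).toLinearMap ∘ₗ
        (TensorProduct.AlgebraTensorModule.lTensor B B i).lTensor A =
        (TensorProduct.AlgebraTensorModule.lTensor B A i) ∘ₗ
          (TensorProduct.AlgebraTensorModule.cancelBaseChange R B B A M).toLinearMap :=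
      TensorProduct.ext (LinearMap.ext fun c => TensorProduct.AlgebraTensorModule.ext fun b m => by simp)
    exact ((LinearMap.congr_fun e x).symm.trans
      (congrArg (TensorProduct.AlgebraTensorModule.cancelBaseChange R B B A N) hxy)).trans (LinearMap.congr_fun e y)
  let L := q.asIdeal.ResidueField
  let BL := L ⊗[R] B
  have hq : PrimeSpectrum.comap (algebraMap R L) ⊥ = q := PrimeSpectrum.ext (by simp [← RingHom.ker_eq_comap_bot, L])
  conv_lhs => rw [← hq, ← Module.rankAtStalk_baseChange, Module.rankAtStalk_eq_finrank_of_free]
  conv_rhs => arg 2; rw [← hq, ← Module.rankAtStalk_baseChange, Module.rankAtStalk_eq_finrank_of_free]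
  simp only [Pi.natCast_apply, Nat.cast_id]
  letI : Algebra B BL := Algebra.TensorProduct.rightAlgebra
  haveI : IsArtinianRing BL := IsArtinianRing.of_finite L BL
  haveI : IsScalarTower R B BL := IsScalarTower.of_algebraMap_eq fun c => by
    show _ = (1 : L) ⊗ₜ[R] algebraMap R B c
    rw [Algebra.algebraMap_eq_smul_one, Algebra.algebraMap_eq_smul_one, TensorProduct.tmul_smul]
    rfl
  have e := Algebra.IsPushout.cancelBaseChange R L B BL A
  rw [← LinearEquiv.finrank_eq e]
  have hrk : ∀ P : PrimeSpectrum BL, Module.rankAtStalk (BL ⊗[B] A) P = Module.rankAtStalk (A ⧸ I) q := by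
    intro P
    rw [Module.rankAtStalk_baseChange, HopfGalois.rankAtStalk_eq hs]
    refine congrFun rfl _ |>.trans (Module.rankAtStalk_eq_of_le_of_finite_of_flat _ ?_)
    intro x (hx : algebraMap B BL (algebraMap R B x) ∈ P.asIdeal)
    by_contra hxq
    refine P.2.ne_top (Ideal.eq_top_of_isUnit_mem _ hx ?_)
    rw [show algebraMap B BL (algebraMap R B x) = algebraMap L BL (algebraMap R L x) by
      show (1 : L) ⊗ₜ[R] algebraMap R B x = algebraMap R L x ⊗ₜ[R] (1 : B)
      rw [Algebra.algebraMap_eq_smul_one, Algebra.algebraMap_eq_smul_one, TensorProduct.smul_tmul]]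
    exact (IsUnit.mk0 _ fun h0 => hxq (Ideal.algebraMap_residueField_eq_zero.mp h0)).map _
  haveI : Module.Free BL (BL ⊗[B] A) :=
    Module.free_of_flat_of_finrank_eq BL (BL ⊗[B] A) (Module.rankAtStalk (A ⧸ I) q) fun P => by
      letI := Ideal.Quotient.field P.1
      rw [← hrk ⟨P.1, P.2.isPrime⟩, ← show PrimeSpectrum.comap (algebraMap BL (BL ⧸ P.1)) ⊥ = ⟨P.1, P.2.isPrime⟩ from
        PrimeSpectrum.ext (by simp [← RingHom.ker_eq_comap_bot]), ← Module.rankAtStalk_baseChange,
        Module.rankAtStalk_eq_finrank_of_free]
      rfl
  rcases subsingleton_or_nontrivial BL with hsub | hnt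
  · have : Subsingleton (BL ⊗[B] A) := Module.subsingleton BL _
    have : Subsingleton (L ⊗[R] B) := hsub
    simp [Module.finrank_zero_of_subsingleton]
  obtain ⟨P⟩ : Nonempty (PrimeSpectrum BL) := inferInstance
  rw [← hrk P, Module.rankAtStalk_eq_finrank_of_free]
  show _ = Module.finrank BL (BL ⊗[B] A) * Module.finrank L BL
  rw [mul_comm, Module.finrank_mul_finrank L BL (BL ⊗[B] A)]

end Groth.Agent.S15059
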