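import Groth.Statements.S15060
import Groth.Agent.LTLemma2
-- import your own Groth.Agent.* helpers here

set_option autoImplicit false
universe u
open LubinTate

namespace Groth.Agent.S15060

/-- Let O be a discrete valuation ring with finite residue field of cardinality q, π a uniformizer of O,
f = πT + T^q ∈ O[[T]], and F a one-dimensional formal group law over O for which f is an
endomorphism, f(F(X,Y)) = F(f(X), f(Y)). For α ∈ O write [α] for a power series with zero constant
term and linear coefficient α commuting with f (it is unique). Then for all α, β ∈ O and all such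
series [α], [β], [αβ], [α+β] one has [α]([β](T)) = [αβ](T) and F([α](T), [β](T)) = [α+β](T): the map
α ↦ [α] is a ring homomorphism from O to the endomorphisms of F with their formal-group addition and
composition. (The published statement is for the ring of integers of a finite extension of ℚ_p or of
𝔽_q((X)); completeness is not used and any discrete valuation ring with finite residue field is
allowed here.) -/
theorem result (O : Type u) [CommRing O] [IsDomain O] [IsDiscreteValuationRing O]
    [Finite (IsLocalRing.ResidueField O)] (π : O) (hπ : Irreducible π) (f : PowerSeries O)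
    (hf : f = π • PowerSeries.X + PowerSeries.X ^ Nat.card (IsLocalRing.ResidueField O))
    (F : FormalGroup O)
    (hF : PowerSeries.subst F.toPowerSeries f =
        MvPowerSeries.subst (fun i : Fin 2 => PowerSeries.subst (MvPowerSeries.X i : MvPowerSeries (Fin 2) O) f)
          F.toPowerSeries)
    (α β : O) (gα gβ gαβ gs : PowerSeries O)
    (hα0 : gα.constantCoeff = 0) (hα1 : gα.coeff 1 = α) (hαf : PowerSeries.subst gα f = PowerSeries.subst f gα)
    (hβ0 : gβ.constantCoeff = 0) (hβ1 : gβ.coeff 1 = β) (hβf : PowerSeries.subst gβ f = PowerSeries.subst f gβ)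
    (hαβ0 : gαβ.constantCoeff = 0) (hαβ1 : gαβ.coeff 1 = α * β)
    (hαβf : PowerSeries.subst gαβ f = PowerSeries.subst f gαβ)
    (hs0 : gs.constantCoeff = 0) (hs1 : gs.coeff 1 = α + β) (hsf : PowerSeries.subst gs f = PowerSeries.subst f gs) :
    PowerSeries.subst gβ gα = gαβ ∧ F.toPowerSeries.subst ![gα, gβ] = gs := by
  open Groth.Agent.LTLemma in
  have hq := two_le_card (O := O)
  have hF0 := F.zero_constantCoeff
  have hEF := (Groth.Agent.LTLemma.Ev_iff hf hF0).2 hF
  have hEα := (Groth.Agent.LTLemma.Ev_iff_unit hf hα0).2 hαf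
  have hEβ := (Groth.Agent.LTLemma.Ev_iff_unit hf hβ0).2 hβf
  have h2 : ∀ i : Fin 2, MvPowerSeries.constantCoeff (![gα, gβ] i : MvPowerSeries Unit O) = 0 := fun i => by
    fin_cases i
    · exact hα0
    · exact hβ0
  constructor
  · refine Groth.Agent.LTLemma.Ev_ext Unit hπ ?_ hαβ0 (fun j => ?_) ?_
      ((Groth.Agent.LTLemma.Ev_iff_unit hf hαβ0).2 hαβf)
    · exact MvPowerSeries.constantCoeff_subst_eq_zero (PowerSeries.HasSubst.const
        (PowerSeries.HasSubst.of_constantCoeff_zero' hβ0)) (fun _ => hβ0) hα0
    · rw [Groth.Agent.LTLemma.coeff_single_subst_unit (a := gβ) hβ0, hα1]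
      exact (congrArg (α * ·) hβ1).trans hαβ1.symm
    · exact Groth.Agent.LTLemma.Ev_subst (σ := Unit) π hq (a := fun _ => gβ) (fun _ => hβ0) hEα (fun _ => hEβ)
  · refine Groth.Agent.LTLemma.Ev_ext Unit hπ ?_ hs0 (fun j => ?_) ?_
      ((Groth.Agent.LTLemma.Ev_iff_unit hf hs0).2 hsf)
    · exact MvPowerSeries.constantCoeff_subst_eq_zero (MvPowerSeries.hasSubst_of_constantCoeff_zero h2) h2 hF0
    · rw [Groth.Agent.LTLemma.coeff_single_subst_two (a := gα) (b := gβ) hα0 hβ0, F.lin_coeff_X, F.lin_coeff_Y,
        one_mul, one_mul]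
      exact (congrArg₂ (· + ·) hα1 hβ1).trans hs1.symm
    · exact Groth.Agent.LTLemma.Ev_subst π hq h2 hEF (fun i => by
        fin_cases i
        · exact hEα
        · exact hEβ)

end Groth.Agent.S15060
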