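import Groth.Statements.S15065
import Groth.Agent.SmallGrp.EtalePoints
import Groth.Agent.S7974
-- import your own Groth.Agent.* helpers here

set_option autoImplicit false
universe u
open Hopf

namespace Groth.Agent.S15065

/-- Let k be an algebraically closed field and A a finite-dimensional commutative and cocommutative Hopf
algebra over k which is reduced (a finite étale commutative k-group G = Spec A), with dim_k A > 1,
and assume G is simple: every Hopf ideal of A is either zero or the augmentation ideal (no closed
subgroup schemes other than G and 1). Then the order dim_k A is a prime number ℓ, so that G is the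
constant group ℤ/ℓℤ. (The published statement lists the simple finite commutative groups over an
algebraically closed field of characteristic p > 0; the étale case does not use the characteristic
and is stated here for any algebraically closed field.) -/
theorem result (k : Type u) [Field k] [IsAlgClosed k] (A : Type u) [CommRing A] [HopfAlgebra k A]
    [Coalgebra.IsCocomm k A] [FiniteDimensional k A] [IsReduced A] (hA : 1 < Module.finrank k A)
    (hsimple : ∀ I : Ideal A, I.IsHopfIdeal k → I = ⊥ ∨ I = RingHom.ker (Bialgebra.counitAlgHom k A)) :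
    (Module.finrank k A).Prime := by
  classical
  haveI := SmallGrp.finite_pts (k := k) (E := A)
  haveI : Finite (WithConv (A →ₐ[k] k)) := Finite.of_equiv _ (WithConv.equiv _).symm
  rw [SmallGrp.finrank_eq_card k A, ← Nat.card_congr (WithConv.equiv (A →ₐ[k] k))]
  rw [SmallGrp.finrank_eq_card k A, ← Nat.card_congr (WithConv.equiv (A →ₐ[k] k))] at hA
  haveI : Nontrivial (WithConv (A →ₐ[k] k)) := Finite.one_lt_card_iff_nontrivial.mp hA
  haveI : IsMulCommutative (WithConv (A →ₐ[k] k)) := ⟨⟨mul_comm⟩⟩
  haveI : IsSimpleGroup (WithConv (A →ₐ[k] k)) := ⟨fun H _ => by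
    cases nonempty_fintype H
    have hJ := S7974.result k A H
    have key : ∀ g, (⨅ h ∈ H, RingHom.ker (WithConv.ofConv h : A →ₐ[k] k)) ≤
        RingHom.ker (WithConv.ofConv g : A →ₐ[k] k) → g ∈ H := by
      intro g hg
      haveI : (RingHom.ker (WithConv.ofConv g : A →ₐ[k] k)).IsPrime := RingHom.ker_isPrime _
      have hg' : (Finset.univ : Finset H).inf (fun h : H => RingHom.ker (WithConv.ofConv h.1 : A →ₐ[k] k)) ≤
          RingHom.ker (WithConv.ofConv g : A →ₐ[k] k) := by
        refine le_trans ?_ hg
        simp only [le_iInf_iff]
        exact fun h hh => Finset.inf_le (Finset.mem_univ (⟨h, hh⟩ : H))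
      obtain ⟨h, -, hle⟩ := (Ideal.IsPrime.inf_le' inferInstance).mp hg'
      have heq : FinHopf.ptIdeal k A h.1.ofConv = FinHopf.ptIdeal k A g.ofConv :=
        (FinHopf.ptIdeal_isMaximal k A h.1.ofConv).eq_of_le (RingHom.ker_ne_top _) hle
      have : h.1 = g := WithConv.ofConv_injective (FinHopf.ptIdeal_injective k A heq)
      exact this ▸ h.2
    rcases hsimple _ hJ with h0 | h1
    · exact Or.inr (eq_top_iff.mpr fun g _ => key g (by rw [h0]; exact bot_le))
    · refine Or.inl (eq_bot_iff.mpr fun g hg => Subgroup.mem_bot.mpr ?_)
      refine WithConv.ofConv_injective (FinHopf.ptIdeal_injective k A ?_)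
      have hle : (⨅ h ∈ H, RingHom.ker (WithConv.ofConv h : A →ₐ[k] k)) ≤
          RingHom.ker (WithConv.ofConv g : A →ₐ[k] k) := iInf₂_le g hg
      rw [h1] at hle
      have h := (RingHom.ker_isMaximal_of_surjective (Bialgebra.counitAlgHom k A)
        fun c => ⟨algebraMap k A c, by simp⟩).eq_of_le (RingHom.ker_ne_top _) hle
      refine h.symm.trans ?_
      ext x
      simp [FinHopf.ptIdeal, AlgHom.convOne_apply]⟩
  exact Group.is_simple_iff_prime_card.mp inferInstance

end Groth.Agent.S15065
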