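import Groth.Statements.S15066
import Mathlib
import Groth.Agent.FinHopf.Simple
-- import your own Groth.Agent.* helpers here

set_option autoImplicit false
universe u
open Hopf

namespace Groth.Agent.S15066

/-- Let k be an algebraically closed field of characteristic p > 0 and A a finite-dimensional
commutative and cocommutative Hopf algebra over k (a finite commutative k-group G = Spec A) which is
a local ring (G connected) and whose dual algebra Hom_k(A, k) with the convolution product is
reduced (the Cartier dual of G is étale, i.e. G is multiplicative), with dim_k A > 1, and assume G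
is simple: every Hopf ideal of A is either zero or the augmentation ideal (no closed subgroup
schemes other than G and 1). Then G is isomorphic to μ_p: A has a group-like element g (Δ(g) = g ⊗
g, ε(g) = 1) with g^p = 1 whose powers 1, g, …, g^(p−1) are linearly independent over k, and dim_k A
= p (so A = k[g]/(g^p − 1)). -/
theorem result (k : Type u) [Field k] [IsAlgClosed k] (p : ℕ) [Fact p.Prime]
    [CharP k p] (A : Type u) [CommRing A] [HopfAlgebra k A] [Coalgebra.IsCocomm k A] [FiniteDimensional k A]
    [IsLocalRing A] (hdual : IsReduced (WithConv (A →ₗ[k] k))) (hA : 1 < Module.finrank k A)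
    (hsimple : ∀ I : Ideal A, I.IsHopfIdeal k → I = ⊥ ∨ I = RingHom.ker (Bialgebra.counitAlgHom k A)) :
    ∃ g : A, IsGroupLikeElem k g ∧ g ^ p = 1 ∧ LinearIndependent k (fun i : Fin p => g ^ (i : ℕ)) ∧
      Module.finrank k A = p := by
  haveI := hdual
  haveI : Module.Finite k (WithConv (A →ₗ[k] k)) := Module.Finite.equiv (WithConv.linearEquiv k _).symm
  let D := WithConv (A →ₗ[k] k)
  haveI : IsArtinianRing D := .of_finite k D
  have hD : 1 < Module.finrank k D := by
    rw [LinearEquiv.finrank_eq (WithConv.linearEquiv k _ : D ≃ₗ[k] (A →ₗ[k] k)), Module.finrank_linearMap,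
      Module.finrank_self, mul_one]
    exact hA
  obtain ⟨φ, hφ⟩ : ∃ φ : D →ₐ[k] k, φ ≠ Comodule.evalOne k A := by
    by_contra h
    push Not at h
    have hle : ∀ m : Ideal D, m.IsMaximal → m = RingHom.ker (Comodule.evalOne k A) := fun m hm => by
      letI := Ideal.Quotient.field m
      have hbij : Function.Bijective (algebraMap k (D ⧸ m)) :=
        IsAlgClosed.algebraMap_bijective_of_isIntegral
      let ψ : D →ₐ[k] k := (AlgEquiv.ofBijective (Algebra.ofId k (D ⧸ m)) hbij).symm.toAlgHom.comp
        (Ideal.Quotient.mkₐ k m)
      rw [← h ψ]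
      refine (hm.eq_of_le (RingHom.ker_ne_top _) fun x hx => ?_)
      rw [RingHom.mem_ker]
      have : Ideal.Quotient.mkₐ k m x = 0 := Ideal.Quotient.eq_zero_iff_mem.mpr hx
      simp [ψ]
      exact this
    have hbot : RingHom.ker (Comodule.evalOne k A) = ⊥ := by
      refine le_bot_iff.mp ?_
      intro x hx
      have hjac : x ∈ Ideal.jacobson (⊥ : Ideal D) := Ideal.mem_sInf.mpr fun {m} hm => by
        rw [hle m hm.2]; exact hx
      rw [IsArtinianRing.jacobson_eq_radical] at hjac
      exact Ideal.mem_bot.mpr (IsReduced.eq_zero x hjac)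
    have h1 := LinearMap.finrank_le_finrank_of_injective
      (f := (Comodule.evalOne k A).toLinearMap) ((RingHom.injective_iff_ker_eq_bot (Comodule.evalOne k A).toRingHom).mpr hbot)
    rw [Module.finrank_self] at h1
    exact absurd h1 (not_le.mpr hD)
  obtain ⟨g, hg, hval⟩ := FinHopf.exists_groupLike_of_dual φ
  have hg1 : g ≠ 1 := fun h => hφ (AlgHom.ext fun f => by rw [hval, h]; rfl)
  exact ⟨g, hg, FinHopf.mu_of_groupLike hsimple p hg1 hg⟩

end Groth.Agent.S15066
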