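import Groth.Statements.S15069
import Groth.Agent.SiteBase.ExtZeroPre
import Mathlib

set_option autoImplicit false
universe u
open CategoryTheory TopologicalSpace
open OrdSurf

namespace Groth.Agent.S15069

open CategoryTheory Limits Opposite Groth.Agent.SiteBase.ExtZeroPre

set_option backward.isDefEq.respectTransparency false
set_option maxHeartbeats 800000

section
variable {C : Type u} [SmallCategory C] {J : GrothendieckTopology C} (R : Sheaf J RingCat.{u}) (U : C)

noncomputable abbrev jShR : SheafOfModules.{u} (R.over U) ⥤ SheafOfModules.{u} R :=
  SheafOfModules.forget (R.over U) ⋙ jFun R.obj U ⋙
    PresheafOfModules.sheafification.{u} (𝟙 R.obj)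

noncomputable def jShRAdj : jShR R U ⊣ SheafOfModules.overFunctor R U :=
  ((jAdj R.obj U).comp
    (PresheafOfModules.sheafificationAdjunction (𝟙 R.obj))).restrictFullyFaithful
    (iC := SheafOfModules.forget (R.over U)) (iD := 𝟭 _)
    (SheafOfModules.fullyFaithfulForget _) (Functor.FullyFaithful.id _) (Iso.refl _)
    (NatIso.ofComponents (fun _ => PresheafOfModules.isoMk (fun _ => Iso.refl _) (fun _ _ _ => rfl))
      (fun _ => rfl))

instance preservesMonomorphisms_jShR : (jShR R U).PreservesMonomorphisms where
  preserves f _ := by
    haveI : PreservesFiniteLimits (PresheafOfModules.sheafification.{u} (𝟙 R.obj)) := inferInstance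
    have hm : Mono ((SheafOfModules.forget (R.over U)).map f) := inferInstance
    haveI : Mono ((jFun R.obj U).map ((SheafOfModules.forget (R.over U)).map f)) :=
      @Functor.PreservesMonomorphisms.preserves _ _ _ _ (jFun R.obj U)
        preservesMonomorphisms_jFun _ _ ((SheafOfModules.forget (R.over U)).map f) hm
    exact inferInstanceAs (Mono ((PresheafOfModules.sheafification.{u} (𝟙 R.obj)).map
      ((jFun R.obj U).map ((SheafOfModules.forget (R.over U)).map f))))

theorem injective_over (I : SheafOfModules.{u} R) [Injective I] : Injective (I.over U) :=
  Injective.injective_of_adjoint (jShRAdj R U) I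

end

/-- Let X be a topological space, A a sheaf of rings on X (not necessarily commutative), I a sheaf of
A-modules which is an injective object of the category of sheaves of A-modules, and U an open subset
of X. Then the restriction of I to the site of opens contained in U is an injective object of the
category of sheaves of modules over the restriction of A. (The published statement is for an order
on a smooth projective surface; this row is stated for any sheaf of rings on any topological space.) -/
theorem result (X : TopCat.{u})
    (A : Sheaf (Opens.grothendieckTopology X) RingCat.{u}) (I : SheafOfModules.{u} A)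
    [Injective I] (U : Opens X) : Injective (I.over U) := by
  exact injective_over A U I

end Groth.Agent.S15069
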