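import Groth.Statements.S15070
import Groth.Agent.S1689
import Groth.Agent.SyzLib.Sheaf
import Groth.Agent.CAlgBasics.TorsionFree
import Groth.Agent.ASp.GeomRedEt

set_option autoImplicit false
universe u
open CategoryTheory CategoryTheory.Limits AlgebraicGeometry
open OrdSurf

namespace Groth.Agent.S15070

open CategoryTheory CategoryTheory.Limits AlgebraicGeometry

open Groth.Agent
set_option backward.isDefEq.respectTransparency false

/-- Let k be an algebraically closed field of characteristic zero and X a smooth projective surface over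
k (an integral k-scheme, smooth over k, of dimension two, admitting a closed immersion over k into
some projective space P^n_k). Let N be a coherent O_X-module all of whose stalks are torsion-free
modules over the local rings, M a finite locally free O_X-module and φ : M → N an epimorphism of
O_X-modules. Then the kernel of φ is a finite locally free O_X-module. -/
theorem result (k : Type u) [Field k] [IsAlgClosed k] [CharZero k]
    (X : Scheme.{u}) [X.Over (Spec (CommRingCat.of k))] [IsIntegral X]
    [Smooth (X ↘ Spec (CommRingCat.of k))] (hdim : topologicalKrullDim X = 2)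
    (hproj : ∃ (n : ℕ) (ι : X ⟶ CohB1.ProjSpace n k), IsClosedImmersion ι ∧
      ι ≫ CohB1.ProjSpace.toSpec n k = X ↘ Spec (CommRingCat.of k))
    (N : X.Modules) (hN : Coh.IsCoh N) (hNtf : TorSh.IsTorsionFree N)
    (M : X.Modules) (hM : FlatMod.IsFinLocFree M) (φ : M ⟶ N) [Epi φ] :
    FlatMod.IsFinLocFree (kernel φ) := by
  haveI : IsLocallyNoetherian X := LocallyOfFiniteType.isLocallyNoetherian (X ↘ Spec (CommRingCat.of k))
  have hMc : Coh.IsCoh M := DCohLib.isCoh_of_isFinLocFree hM
  refine S1689.isFinLocFree_of_free (QCohLib.isCoh_kernel_cokernel φ hMc hN).1 fun x => ?_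
  let R := X.presheaf.stalk x
  haveI : IsRegularLocalRing R := ASp.isRegularLocalRing_stalk_of_smooth_field (X ↘ Spec (CommRingCat.of k)) x
  haveI := RegLocLib.isRegularRing_of_isRegularLocalRing R
  obtain ⟨hMf, hMfin⟩ := S1689.free_of_isFinLocFree hM x
  haveI := hMf
  haveI := hMfin
  haveI := hN.1
  haveI : Module.Finite R (N.presheaf.stalk x) := PullbackMod.finite_stalk_of_isFT hN.2 x
  haveI := hNtf x
  obtain ⟨n, j, hj⟩ := CAlgBasics.exists_injective_pi_of_isTorsionFree R (N.presheaf.stalk x)
  let g := PullbackMod.stalkLin φ x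
  let ι' := PullbackMod.stalkLin (kernel.ι φ) x
  have hexact : Function.Exact ι' g :=
    SyzLib.exact_stalkLin' (ShortComplex.mk (kernel.ι φ) φ (kernel.condition φ))
      (ShortComplex.exact_of_f_is_kernel _ (kernelIsKernel φ)) x
  have hinj : Function.Injective ι' := (PullbackMod.mono_iff_stalk (kernel.ι φ)).1 inferInstance x
  have hproj : Module.Projective R (LinearMap.ker (j ∘ₗ g)) :=
    RegDual.projective_ker ((S1689.dim_le x).trans hdim.le) (j ∘ₗ g)
  have e : LinearMap.range ι' = LinearMap.ker (j ∘ₗ g) := by
    rw [LinearMap.ker_comp_of_ker_eq_bot _ (LinearMap.ker_eq_bot.2 hj), LinearMap.exact_iff.1 hexact]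
  haveI : Module.Projective R ((kernel φ).presheaf.stalk x) :=
    Module.Projective.of_equiv ((LinearEquiv.ofInjective ι' hinj).trans (LinearEquiv.ofEq _ _ e)).symm
  haveI : Module.Finite R ((kernel φ).presheaf.stalk x) := by
    haveI := (QCohLib.isCoh_kernel_cokernel φ hMc hN).1.1
    exact PullbackMod.finite_stalk_of_isFT (QCohLib.isCoh_kernel_cokernel φ hMc hN).1.2 x
  exact Module.free_of_flat_of_isLocalRing


end Groth.Agent.S15070
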