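import Groth.Statements.S15071
import Groth.Agent.ParaFLib.Depth
import Groth.Agent.ParaFLib.Free
import Groth.Agent.PullbackMod.OpenLocus
import Groth.Agent.PullbackMod.LocFree
import Groth.Agent.CurveLib.GlobalFun
import Groth.Agent.PurityLib.OpenPurity
import Groth.Agent.DCohLib.Pullback
import Groth.Agent.DCohLib.PerfCoh

-- import your own Groth.Agent.* helpers here

set_option autoImplicit false
universe u
open CategoryTheory CategoryTheory.Limits AlgebraicGeometry
open OrdSurf

set_option backward.isDefEq.respectTransparency false
set_option backward.isDefEq.respectTransparency.types false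
set_option linter.style.haveILetI false

namespace Groth.Agent.S15071

/-- Let k be an algebraically closed field of characteristic zero and X a smooth projective surface over
k (an integral k-scheme, smooth over k, of dimension two, admitting a closed immersion over k into
some projective space P^n_k). Let φ : M → N be a monomorphism between finite locally free
O_X-modules. Then either φ is an isomorphism, or the support of the cokernel of φ contains a point
of X whose local ring has Krull dimension at most one, i.e. the support has codimension at most one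
in X. (The published statement phrases the first alternative as M and N being isomorphic; the
argument shows that the given monomorphism is an isomorphism, which is the form stated here.) -/
theorem result (k : Type u) [Field k] [IsAlgClosed k] [CharZero k]
    (X : Scheme.{u}) [X.Over (Spec (CommRingCat.of k))] [IsIntegral X]
    [Smooth (X ↘ Spec (CommRingCat.of k))] (hdim : topologicalKrullDim X = 2)
    (hproj : ∃ (n : ℕ) (ι : X ⟶ CohB1.ProjSpace n k), IsClosedImmersion ι ∧
      ι ≫ CohB1.ProjSpace.toSpec n k = X ↘ Spec (CommRingCat.of k))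
    (M N : X.Modules) (hM : FlatMod.IsFinLocFree M) (hN : FlatMod.IsFinLocFree N)
    (φ : M ⟶ N) [Mono φ] :
    IsIso φ ∨ ∃ x : X, x ∈ CohB1.support (cokernel φ) ∧ ringKrullDim (X.presheaf.stalk x) ≤ 1 := by
  haveI : IsLocallyNoetherian X := LocallyOfFiniteType.isLocallyNoetherian (X ↘ Spec (CommRingCat.of k))
  by_cases hsup : ∃ x : X, x ∈ CohB1.support (cokernel φ) ∧ ringKrullDim (X.presheaf.stalk x) ≤ 1
  · exact .inr hsup
  refine .inl ?_
  haveI := (PullbackMod.isQCoh_and_isFP_of_isFinLocFree M hM).1
  haveI := (PullbackMod.isQCoh_and_isFP_of_isFinLocFree N hN).1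
  have hNp := (PullbackMod.isQCoh_and_isFP_of_isFinLocFree N hN).2
  have hMt : CohB1.IsFT M := (DCohLib.isCoh_of_isFinLocFree hM).2
  let U : X.Opens := ⟨_, PullbackMod.isOpen_stalk_bijective φ hMt hNp⟩
  have hU : ∀ x : X, x ∉ U → (2 : ℕ∞) ≤ LocCoh.depth (X.presheaf.stalk x) (X.presheaf.stalk x) := by
    intro x hxU
    haveI := CurveLib.isRegularLocalRing_stalk_of_smooth (k := k) (X := X) x
    refine PurityLib.two_le_depth_of_regular _ ?_
    by_contra hd
    refine hsup ⟨x, fun hs => hxU ?_, ?_⟩
    · refine ⟨(PullbackMod.mono_iff_stalk φ).1 inferInstance x, fun z => ?_⟩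
      exact ((DCohLib.exact_stalkLin (ShortComplex.mk φ (cokernel.π φ) (cokernel.condition φ))
        (ShortComplex.exact_of_g_is_cokernel _ (cokernelIsCokernel φ)) x) z).1
          (@Subsingleton.elim _ hs _ _)
    · have h1 : ringKrullDim (X.presheaf.stalk x) < 2 := lt_of_not_ge hd
      revert h1
      induction ringKrullDim (X.presheaf.stalk x) with
      | bot => exact fun _ => bot_le
      | coe a =>
        intro h1
        have h2 : a < ((2 : ℕ) : ℕ∞) := WithBot.coe_lt_coe.1 h1
        obtain ⟨m, rfl⟩ := ENat.ne_top_iff_exists.1 (ne_top_of_lt h2)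
        have h3 : m < 2 := by exact_mod_cast h2
        exact_mod_cast (show m ≤ 1 by omega)
  have hO := ParaFLib.isClosed'_of_depth U hU ParaFLib.isInvertible_structureModule
  haveI : IsIso ((Scheme.Modules.restrictAdjunction U.ι).unit.app M) := ParaFLib.isClosed'_of_isFinLocFree U.ι hO hM
  haveI : IsIso ((Scheme.Modules.restrictAdjunction U.ι).unit.app N) := ParaFLib.isClosed'_of_isFinLocFree U.ι hO hN
  haveI : IsIso ((Scheme.Modules.restrictFunctor U.ι).map φ) := by
    refine (PullbackMod.isIso_iff_stalk _).2 fun y => ?_
    have hb : Function.Bijective (PullbackMod.stalkLin φ (U.ι y)) := y.2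
    let eM := ((Scheme.Modules.restrictStalkNatIso U.ι y).app M).addCommGroupIsoToAddEquiv
    let eN := ((Scheme.Modules.restrictStalkNatIso U.ι y).app N).addCommGroupIsoToAddEquiv
    have hnat : ∀ a, eN (PullbackMod.stalkLin ((Scheme.Modules.restrictFunctor U.ι).map φ) y a) =
        PullbackMod.stalkLin φ (U.ι y) (eM a) := fun a =>
      ConcreteCategory.congr_hom ((Scheme.Modules.restrictStalkNatIso U.ι y).hom.naturality φ) a
    have he : (PullbackMod.stalkLin ((Scheme.Modules.restrictFunctor U.ι).map φ) y : _ → _) =
        eN.symm ∘ PullbackMod.stalkLin φ (U.ι y) ∘ eM := funext fun a => eN.injective (by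
      rw [hnat]; exact (eN.apply_symm_apply _).symm)
    rw [he]
    exact eN.symm.bijective.comp (hb.comp eM.bijective)
  haveI : IsIso (φ ≫ (Scheme.Modules.restrictAdjunction U.ι).unit.app N) := by
    have h := (Scheme.Modules.restrictAdjunction U.ι).unit.naturality φ
    rw [Functor.id_map, Functor.comp_map] at h
    rw [h]
    infer_instance
  exact IsIso.of_isIso_comp_right φ ((Scheme.Modules.restrictAdjunction U.ι).unit.app N)


end Groth.Agent.S15071
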