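import Groth.Statements.S15073
import Groth.Agent.AlgTensorLib.Flat
import Groth.Agent.S11164

set_option backward.isDefEq.respectTransparency false
set_option backward.isDefEq.respectTransparency.types false

set_option autoImplicit false
universe u
open CategoryTheory AlgebraicGeometry TopologicalSpace Opposite
open OrdSurf

namespace Groth.Agent.S15073

/-- Let X be a scheme, A a sheaf of rings on X (not necessarily commutative) and φ : O_X → A a morphism
of sheaves of rings with central image, such that A regarded as an O_X-module through φ is flat (all
stalks flat over the local rings). Then for every sheaf of A-modules M there exist a sheaf of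
A-modules F, flat as an O_X-module through φ, and an epimorphism of A-modules F → M. (The published
statement is for a maximal order on a smooth projective surface, which is locally free over O_X; the
argument uses only that A is flat over O_X, and the row is stated for any scheme and any such sheaf
of algebras.) -/
theorem result (X : Scheme.{u})
    (A : Sheaf (Opens.grothendieckTopology X) RingCat.{u}) (φ : X.ringCatSheaf ⟶ A)
    (hcen : ∀ (U : (Opens X)ᵒᵖ) (s : X.ringCatSheaf.obj.obj U) (a : A.obj.obj U),
      φ.hom.app U s * a = a * φ.hom.app U s)
    (hA : FlatMod.IsFlat (X := X) ((SheafOfModules.restrictScalars φ).obj (SheafOfModules.unit A)))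
    (M : SheafOfModules.{u} A) :
    ∃ (F : SheafOfModules.{u} A) (π : F ⟶ M), Epi π ∧
      FlatMod.IsFlat (X := X) ((SheafOfModules.restrictScalars φ).obj F) := by
  haveI : Groth.Agent.AlgTensorLib.IsCentral A φ := ⟨hcen⟩
  obtain ⟨ι, U, p, hp, hflat⟩ := Groth.Agent.S11164.result (X := X) ((SheafOfModules.restrictScalars φ).obj M)
  let adj := Groth.Agent.AlgTensorLib.extendAdj A φ
  refine ⟨(Groth.Agent.AlgTensorLib.extend A φ).obj _, (adj.homEquiv _ _).symm p, ⟨fun {W} g h hgh => ?_⟩,
    Groth.Agent.AlgTensorLib.flat_extend A φ hA hflat⟩
  have h1 := congrArg (adj.homEquiv _ _) hgh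
  rw [adj.homEquiv_naturality_right, adj.homEquiv_naturality_right, Equiv.apply_symm_apply] at h1
  haveI := hp
  have h2 : (SheafOfModules.restrictScalars φ).map g = (SheafOfModules.restrictScalars φ).map h := (cancel_epi p).1 h1
  apply SheafOfModules.hom_ext
  refine PresheafOfModules.hom_ext fun V => ModuleCat.hom_ext (LinearMap.ext fun m => ?_)
  have h3 : ((SheafOfModules.restrictScalars φ).map g).val.app V = ((SheafOfModules.restrictScalars φ).map h).val.app V := by
    rw [h2]
  exact LinearMap.congr_fun (congrArg ModuleCat.Hom.hom h3) m

end Groth.Agent.S15073
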