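import Groth.Statements.S15075
import Groth.Agent.CycLib.StalkMod
import Groth.Agent.RefOne.Stalk

set_option autoImplicit false
universe u
open CategoryTheory CategoryTheory.Limits AlgebraicGeometry TopologicalSpace Opposite
open OrdSurf

namespace Groth.Agent.S15075

open CategoryTheory CategoryTheory.Limits AlgebraicGeometry

open Groth.Agent
set_option backward.isDefEq.respectTransparency false

/-- Let k be an algebraically closed field of characteristic zero and X a smooth projective surface over
k (an integral k-scheme, smooth over k, of dimension two, admitting a closed immersion over k into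
some projective space P^n_k), with generic point η. Let A be a sheaf of rings on X with a morphism φ
: O_X → A of sheaves of rings with central image (a sheaf of O_X-algebras) whose generic stalk A_η
is a division ring, i.e. simple as a left module over itself. Let M and N be sheaves of A-modules
whose underlying O_X-modules (through φ) are coherent with torsion-free stalks, and whose generic
stalks M_η and N_η are simple A_η-modules (one-dimensional over the division ring A_η). Then every
nonzero morphism of sheaves of A-modules M → N is a monomorphism. (The published statement takes A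
to be an order on X — coherent and torsion-free over O_X with A_η a central division algebra over
k(X) — and M, N torsion-free A-modules of rank one; of these hypotheses only the ones listed are
assumed here, the others playing no role in the argument.) -/
theorem result (k : Type u) [Field k] [IsAlgClosed k] [CharZero k]
    (X : Scheme.{u}) [X.Over (Spec (CommRingCat.of k))] [IsIntegral X]
    [Smooth (X ↘ Spec (CommRingCat.of k))] (hdim : topologicalKrullDim X = 2)
    (hproj : ∃ (n : ℕ) (ι : X ⟶ CohB1.ProjSpace n k), IsClosedImmersion ι ∧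
      ι ≫ CohB1.ProjSpace.toSpec n k = X ↘ Spec (CommRingCat.of k))
    (A : Sheaf (Opens.grothendieckTopology X) RingCat.{u}) (φ : X.ringCatSheaf ⟶ A)
    (hcen : ∀ (U : (Opens X)ᵒᵖ) (s : X.ringCatSheaf.obj.obj U) (a : A.obj.obj U),
      φ.hom.app U s * a = a * φ.hom.app U s)
    (hAη : IsSimpleModule (↑(TopCat.Presheaf.stalk (C := RingCat.{u}) (X := X.carrier) A.obj (genericPoint X))) (↑(TopCat.Presheaf.stalk (C := RingCat.{u}) (X := X.carrier) A.obj (genericPoint X))))
    (M N : SheafOfModules.{u} A)
    (hMc : Coh.IsCoh (X := X) ((SheafOfModules.restrictScalars φ).obj M))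
    (hNc : Coh.IsCoh (X := X) ((SheafOfModules.restrictScalars φ).obj N))
    (hMt : TorSh.IsTorsionFree (X := X) ((SheafOfModules.restrictScalars φ).obj M))
    (hNt : TorSh.IsTorsionFree (X := X) ((SheafOfModules.restrictScalars φ).obj N))
    (hMη : IsSimpleModule (↑(TopCat.Presheaf.stalk (C := RingCat.{u}) (X := X.carrier) A.obj (genericPoint X))) (↑(TopCat.Presheaf.stalk (C := Ab.{u}) (X := X.carrier) M.val.presheaf (genericPoint X))))
    (hNη : IsSimpleModule (↑(TopCat.Presheaf.stalk (C := RingCat.{u}) (X := X.carrier) A.obj (genericPoint X))) (↑(TopCat.Presheaf.stalk (C := Ab.{u}) (X := X.carrier) N.val.presheaf (genericPoint X))))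
    (ψ : M ⟶ N) (hψ : ψ ≠ 0) : Mono ψ := by
  -- stalks inject into the generic stalk
  have inj : ∀ (F : X.Modules), Coh.IsCoh F → TorSh.IsTorsionFree F → ∀ x : X,
      Function.Injective (F.presheaf.stalkSpecializes ((genericPoint_spec X).specializes trivial : genericPoint X ⤳ x)) := by
    intro F hF ht x
    haveI := hF.1
    have h : genericPoint X ⤳ x := (genericPoint_spec X).specializes trivial
    obtain ⟨W, hW, hxW, -⟩ := exists_isAffineOpen_mem_and_subset (x := x) (U := (⊤ : X.Opens)) trivial
    have hη : genericPoint X ∈ W := h.mem_open W.2 hxW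
    letI : Algebra Γ(X, W) (X.presheaf.stalk x) := TopCat.Presheaf.algebra_section_stalk X.presheaf ⟨x, hxW⟩
    letI : Algebra Γ(X, W) (X.presheaf.stalk (genericPoint X)) :=
      TopCat.Presheaf.algebra_section_stalk X.presheaf ⟨genericPoint X, hη⟩
    haveI := hW.isLocalization_stalk ⟨x, hxW⟩
    haveI := hW.isLocalization_stalk ⟨genericPoint X, hη⟩
    letI := Module.compHom (F.presheaf.stalk x) (X.presheaf.germ W x hxW).hom
    letI := Module.compHom (F.presheaf.stalk (genericPoint X)) (X.presheaf.germ W (genericPoint X) hη).hom
    haveI := FlatLocus.isLocalizedModule_germL F hW x hxW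
    haveI := FlatLocus.isLocalizedModule_germL F hW (genericPoint X) hη
    haveI := ht x
    rw [injective_iff_map_eq_zero]
    intro a ha
    obtain ⟨⟨s, c⟩, hc⟩ := IsLocalizedModule.surj (hW.primeIdealOf ⟨x, hxW⟩).asIdeal.primeCompl
      (FlatLocus.germL F W x hxW) a
    have hcu : IsUnit (X.presheaf.germ W x hxW (c : Γ(X, W))) :=
      IsLocalization.map_units (X.presheaf.stalk x) c
    have hc' : X.presheaf.germ W x hxW (c : Γ(X, W)) • a = F.presheaf.germ W x hxW s := hc
    have hs : F.presheaf.germ W (genericPoint X) hη s = 0 := by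
      have := congrArg (F.presheaf.stalkSpecializes h) hc'
      rw [RefOne.stalkSpecializes_smul, ha, smul_zero, TopCat.Presheaf.germ_stalkSpecializes_apply] at this
      exact this.symm
    obtain ⟨d, hd⟩ := (IsLocalizedModule.eq_zero_iff (hW.primeIdealOf ⟨genericPoint X, hη⟩).asIdeal.primeCompl
      (FlatLocus.germL F W (genericPoint X) hη)).1 hs
    have hd0 : X.presheaf.germ W x hxW (d : Γ(X, W)) ≠ 0 := by
      intro e
      have hu : IsUnit (X.presheaf.germ W (genericPoint X) hη (d : Γ(X, W))) :=
        IsLocalization.map_units (X.presheaf.stalk (genericPoint X)) d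
      rw [← TopCat.Presheaf.germ_stalkSpecializes_apply X.presheaf hxW h, e, map_zero] at hu
      exact not_isUnit_zero hu
    have hsx : F.presheaf.germ W x hxW s = 0 := by
      have h1 : X.presheaf.germ W x hxW (d : Γ(X, W)) • F.presheaf.germ W x hxW s = 0 := by
        have := congrArg (FlatLocus.germL F W x hxW) hd
        rw [Submonoid.smul_def, map_smul, map_zero] at this
        exact this
      exact (smul_eq_zero.1 h1).resolve_left hd0
    rw [hsx] at hc'
    exact (hcu.smul_eq_zero).1 hc'
  let η := genericPoint X
  have hsp : ∀ x : X, η ⤳ x := fun x => (genericPoint_spec X).specializes trivial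
  let M' : TopCat.Presheaf Ab.{u} X.carrier := M.val.presheaf
  let N' : TopCat.Presheaf Ab.{u} X.carrier := N.val.presheaf
  let f : M' ⟶ N' := (PresheafOfModules.toPresheaf A.obj).map ψ.val
  let st : ∀ x : X, TopCat.Presheaf.stalk (C := Ab.{u}) (X := X.carrier) M.val.presheaf x ⟶
      TopCat.Presheaf.stalk (C := Ab.{u}) (X := X.carrier) N.val.presheaf x :=
    fun x => (TopCat.Presheaf.stalkFunctor Ab.{u} x).map f
  have hnat : ∀ x m, st η (TopCat.Presheaf.stalkSpecializes (X := X.carrier) M.val.presheaf (hsp x) m) =
      TopCat.Presheaf.stalkSpecializes (X := X.carrier) N.val.presheaf (hsp x) (st x m) := fun x m => by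
    obtain ⟨U, hU, t, rfl⟩ := TopCat.Presheaf.exists_germ_eq (X := X.carrier) M.val.presheaf m
    have e1 := TopCat.Presheaf.stalkFunctor_map_germ_apply U x hU f t
    have e2 := TopCat.Presheaf.stalkFunctor_map_germ_apply U η ((hsp x).mem_open U.2 hU) f t
    refine (congrArg (st η) (TopCat.Presheaf.germ_stalkSpecializes_apply (X := X.carrier) M.val.presheaf hU (hsp x) t)).trans ?_
    refine e2.trans ?_
    refine ((congrArg _ e1).trans ?_).symm
    exact TopCat.Presheaf.germ_stalkSpecializes_apply N' hU (hsp x) _
  have iM := inj ((SheafOfModules.restrictScalars φ).obj M) hMc hMt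
  have iN := inj ((SheafOfModules.restrictScalars φ).obj N) hNc hNt
  -- the generic stalk map is linear
  let L : TopCat.Presheaf.stalk (C := Ab.{u}) (X := X.carrier) M.val.presheaf η
      →ₗ[TopCat.Presheaf.stalk (C := RingCat.{u}) (X := X.carrier) A.obj η]
      TopCat.Presheaf.stalk (C := Ab.{u}) (X := X.carrier) N.val.presheaf η :=
    { toFun := st η
      map_add' := map_add _
      map_smul' := fun r m => by
        obtain ⟨U, hU, a, rfl⟩ := TopCat.Presheaf.exists_germ_eq (X := X.carrier) A.obj r
        obtain ⟨V, hV, t, rfl⟩ := TopCat.Presheaf.exists_germ_eq (X := X.carrier) M.val.presheaf m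
        rw [RingHom.id_apply,
          ← TopCat.Presheaf.germ_res_apply (X := X.carrier) A.obj (homOfLE (inf_le_left : U ⊓ V ≤ U)) η ⟨hU, hV⟩,
          ← TopCat.Presheaf.germ_res_apply (X := X.carrier) M.val.presheaf (homOfLE (inf_le_right : U ⊓ V ≤ V)) η ⟨hU, hV⟩]
        erw [← PresheafOfModules.germ_ringCat_smul, TopCat.Presheaf.stalkFunctor_map_germ_apply,
          TopCat.Presheaf.stalkFunctor_map_germ_apply, ← PresheafOfModules.germ_ringCat_smul]
        exact congrArg _ ((ψ.val.app _).hom.map_smul _ _) }
  have hL : Function.Injective L := by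
    rcases eq_bot_or_eq_top (LinearMap.ker L) with h | h
    · exact LinearMap.ker_eq_bot.1 h
    · exfalso
      apply hψ
      have h0 : ∀ (x : X) m, st x m = 0 := fun x m => by
        apply iN x
        refine (hnat x m).symm.trans ?_
        rw [map_zero]
        exact LinearMap.congr_fun (LinearMap.ker_eq_top.1 h) _
      apply SheafOfModules.hom_ext
      apply PresheafOfModules.hom_ext
      intro U
      apply ModuleCat.hom_ext
      ext t
      let G : TopCat.Sheaf Ab.{u} X.carrier := ⟨N.val.presheaf, N.isSheaf⟩
      refine TopCat.Presheaf.section_ext G U.unop _ _ fun x hx => ?_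
      refine ((TopCat.Presheaf.stalkFunctor_map_germ_apply U.unop x hx f t).symm.trans (h0 x _)).trans ?_
      exact (map_zero (TopCat.Presheaf.germ (X := X.carrier) N' U.unop x hx).hom).symm
  have hst : ∀ x, Function.Injective (st x) := fun x a b hab => by
    apply iM x
    apply hL
    show st η _ = st η _
    exact (hnat x a).trans ((congrArg _ hab).trans (hnat x b).symm)
  let G1 : TopCat.Sheaf Ab.{u} X.carrier := ⟨M.val.presheaf, M.isSheaf⟩
  let G2 : TopCat.Sheaf Ab.{u} X.carrier := ⟨N.val.presheaf, N.isSheaf⟩
  have happ : ∀ U : Opens X, Function.Injective (f.app (op U)) :=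
    (TopCat.Presheaf.app_injective_iff_stalkFunctor_map_injective (F := G1) (G := G2.obj) f).1 hst
  constructor
  intro Z g g' hgg
  apply SheafOfModules.hom_ext
  apply PresheafOfModules.hom_ext
  intro U
  apply ModuleCat.hom_ext
  ext t
  apply happ U.unop
  exact congrArg (fun q => (q.val.app U).hom t) hgg

end Groth.Agent.S15075
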