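import Groth.Statements.S15076
import Groth.Agent.S1689
import Groth.Agent.RefOne.Stalk

set_option autoImplicit false
universe u
open CategoryTheory CategoryTheory.Limits AlgebraicGeometry TopologicalSpace Opposite
open OrdSurf

namespace Groth.Agent.S15076

open CategoryTheory CategoryTheory.Limits AlgebraicGeometry

open Groth.Agent
set_option backward.isDefEq.respectTransparency false
set_option maxHeartbeats 800000

/-- Let k be an algebraically closed field of characteristic zero and X a smooth projective surface over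
k (an integral k-scheme, smooth over k, of dimension two, admitting a closed immersion over k into
some projective space P^n_k). Let A be a sheaf of rings on X with a morphism φ : O_X → A of sheaves
of rings with central image (a sheaf of O_X-algebras) such that A is finite locally free as an
O_X-module through φ. Let M be a sheaf of A-modules whose underlying O_X-module is coherent and
which is locally projective over A in the sense that every stalk M_x is a projective module over the
stalk A_x. Then the underlying O_X-module of M is finite locally free. (The published statement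
takes A to be a maximal order on X, which is locally free of finite rank; only that consequence is
assumed here, together with the stalkwise reading of local projectivity.) -/
theorem result (k : Type u) [Field k] [IsAlgClosed k] [CharZero k]
    (X : Scheme.{u}) [X.Over (Spec (CommRingCat.of k))] [IsIntegral X]
    [Smooth (X ↘ Spec (CommRingCat.of k))] (hdim : topologicalKrullDim X = 2)
    (hproj : ∃ (n : ℕ) (ι : X ⟶ CohB1.ProjSpace n k), IsClosedImmersion ι ∧
      ι ≫ CohB1.ProjSpace.toSpec n k = X ↘ Spec (CommRingCat.of k))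
    (A : Sheaf (Opens.grothendieckTopology X) RingCat.{u}) (φ : X.ringCatSheaf ⟶ A)
    (hcen : ∀ (U : (Opens X)ᵒᵖ) (s : X.ringCatSheaf.obj.obj U) (a : A.obj.obj U),
      φ.hom.app U s * a = a * φ.hom.app U s)
    (hA : FlatMod.IsFinLocFree (X := X) ((SheafOfModules.restrictScalars φ).obj (SheafOfModules.unit A)))
    (M : SheafOfModules.{u} A)
    (hMc : Coh.IsCoh (X := X) ((SheafOfModules.restrictScalars φ).obj M))
    (hMp : ∀ x : X, Module.Projective ↑(TopCat.Presheaf.stalk (C := RingCat.{u}) (X := X.carrier) A.obj x)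
      ↑(TopCat.Presheaf.stalk (C := Ab.{u}) (X := X.carrier) M.val.presheaf x)) :
    FlatMod.IsFinLocFree (X := X) ((SheafOfModules.restrictScalars φ).obj M) := by
  haveI : IsLocallyNoetherian X := LocallyOfFiniteType.isLocallyNoetherian (X ↘ Spec (CommRingCat.of k))
  refine S1689.isFinLocFree_of_free hMc fun x => ?_
  let R := X.presheaf.stalk x
  let Ax := TopCat.Presheaf.stalk (C := RingCat.{u}) (X := X.carrier) A.obj x
  let MA : X.Modules := (SheafOfModules.restrictScalars φ).obj (SheafOfModules.unit A)
  let MM : X.Modules := (SheafOfModules.restrictScalars φ).obj M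
  let Mx := TopCat.Presheaf.stalk (C := Ab.{u}) (X := X.carrier) M.val.presheaf x
  obtain ⟨hAfree, hAfin⟩ := S1689.free_of_isFinLocFree hA x
  -- the structure map on stalks, with its description on germs
  let gA : ∀ (U : X.Opens) (hU : x ∈ U), A.obj.obj (op U) →+* Ax := fun U hU =>
    (TopCat.Presheaf.germ (C := RingCat.{u}) (X := X.carrier) A.obj U x hU).hom
  -- identification of the additive stalk of `A` with the underlying group of the ring stalk
  let P1 : TopCat.Presheaf Ab.{u} X.carrier := MA.presheaf
  let c : Cocone ((TopologicalSpace.OpenNhds.inclusion x).op ⋙ P1) :=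
    { pt := AddCommGrpCat.of Ax
      ι :=
        { app := fun U => AddCommGrpCat.ofHom (gA U.unop.1 U.unop.2).toAddMonoidHom
          naturality := fun U V i => by
            ext a
            exact TopCat.Presheaf.germ_res_apply (C := RingCat.{u}) (X := X.carrier) A.obj
              ((TopologicalSpace.OpenNhds.inclusion x).map i.unop) x V.unop.2 a } }
  let e₀ : MA.presheaf.stalk x →+ Ax := (colimit.desc _ c).hom
  have he₀ : ∀ (U : X.Opens) (hU : x ∈ U) (a : A.obj.obj (op U)), e₀ (MA.presheaf.germ U x hU a) = gA U hU a := by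
    intro U hU a
    exact DFunLike.congr_fun (congrArg AddCommGrpCat.Hom.hom (colimit.ι_desc c (op ⟨U, hU⟩))) a
  have he₀s : Function.Surjective e₀ := fun a => by
    obtain ⟨U, hU, a, rfl⟩ := TopCat.Presheaf.exists_germ_eq (X := X.carrier) A.obj a
    exact ⟨MA.presheaf.germ U x hU a, he₀ U hU a⟩
  have he₀i : Function.Injective e₀ := by
    rw [injective_iff_map_eq_zero]
    intro a ha
    obtain ⟨U, hU, a, rfl⟩ := TopCat.Presheaf.exists_germ_eq MA.presheaf a
    rw [he₀] at ha
    obtain ⟨W, hW, i₁, i₂, hh⟩ := TopCat.Presheaf.germ_eq (X := X.carrier) A.obj x hU hU a 0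
      (ha.trans (map_zero _).symm)
    rw [map_zero] at hh
    rw [← TopCat.Presheaf.germ_res_apply MA.presheaf i₁ x hW a]
    exact (congrArg _ hh).trans (map_zero _)
  let e₁ : MA.presheaf.stalk x ≃+ Ax := AddEquiv.ofBijective e₀ ⟨he₀i, he₀s⟩
  let one' : MA.presheaf.stalk x := e₁.symm 1
  have key : ∀ (U : X.Opens) (hU : x ∈ U) (r : Γ(X, U)) (a : A.obj.obj (op U)),
      e₁ (X.presheaf.germ U x hU r • MA.presheaf.germ U x hU a) = gA U hU (φ.hom.app (op U) r * a) := by
    intro U hU r a
    rw [← Mero.germ_smul]
    exact he₀ U hU _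
  have hone : ∀ (U : X.Opens) (hU : x ∈ U), one' = MA.presheaf.germ U x hU (1 : A.obj.obj (op U)) := fun U hU => by
    apply e₁.injective
    rw [AddEquiv.apply_symm_apply]
    exact ((he₀ U hU 1).trans (map_one _)).symm
  have hψ : ∀ (U : X.Opens) (hU : x ∈ U) (r : Γ(X, U)),
      e₁ (X.presheaf.germ U x hU r • one') = gA U hU (φ.hom.app (op U) r) := fun U hU r => by
    rw [hone U hU, key, _root_.mul_one]
  let ψ : R →+* Ax :=
    { toFun := fun r => e₁ (r • one')
      map_one' := by rw [one_smul, AddEquiv.apply_symm_apply]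
      map_mul' := fun r s => by
        obtain ⟨U, hU, r, rfl⟩ := TopCat.Presheaf.exists_germ_eq X.presheaf r
        obtain ⟨V, hV, s, rfl⟩ := TopCat.Presheaf.exists_germ_eq X.presheaf s
        rw [← TopCat.Presheaf.germ_res_apply X.presheaf (homOfLE (inf_le_left : U ⊓ V ≤ U)) x ⟨hU, hV⟩,
          ← TopCat.Presheaf.germ_res_apply X.presheaf (homOfLE (inf_le_right : U ⊓ V ≤ V)) x ⟨hU, hV⟩,
          ← map_mul, hψ, hψ, hψ, ← map_mul]
        exact congrArg _ (map_mul _ _ _)
      map_zero' := by rw [zero_smul, map_zero]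
      map_add' := fun r s => by rw [add_smul, map_add] }
  letI : Module R Ax := Module.compHom Ax ψ
  haveI : IsScalarTower R Ax Ax := ⟨fun r a b => show (ψ r * a) * b = ψ r * (a * b) from _root_.mul_assoc _ _ _⟩
  have hlin : ∀ (r : R) (a : MA.presheaf.stalk x), e₁ (r • a) = r • e₁ a := by
    intro r a
    obtain ⟨U, hU, r, rfl⟩ := TopCat.Presheaf.exists_germ_eq X.presheaf r
    obtain ⟨V, hV, a, rfl⟩ := TopCat.Presheaf.exists_germ_eq MA.presheaf a
    rw [← TopCat.Presheaf.germ_res_apply X.presheaf (homOfLE (inf_le_left : U ⊓ V ≤ U)) x ⟨hU, hV⟩,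
      ← TopCat.Presheaf.germ_res_apply MA.presheaf (homOfLE (inf_le_right : U ⊓ V ≤ V)) x ⟨hU, hV⟩, key, map_mul]
    show _ = ψ _ * e₀ _
    rw [he₀]
    exact congrArg (· * _) (hψ _ _ _).symm
  haveI := hAfree
  haveI : Module.Free R Ax := Module.Free.of_equiv
    ({ e₁ with map_smul' := hlin } : MA.presheaf.stalk x ≃ₗ[R] Ax)
  -- the module stalk
  have htower : ∀ (r : R) (m : MM.presheaf.stalk x),
      HSMul.hSMul (α := Ax) (β := Mx) (ψ r) (m : Mx) = (r • m : MM.presheaf.stalk x) := by
    intro r m
    obtain ⟨U, hU, r, rfl⟩ := TopCat.Presheaf.exists_germ_eq X.presheaf r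
    obtain ⟨V, hV, m, rfl⟩ := TopCat.Presheaf.exists_germ_eq MM.presheaf m
    rw [← TopCat.Presheaf.germ_res_apply X.presheaf (homOfLE (inf_le_left : U ⊓ V ≤ U)) x ⟨hU, hV⟩,
      ← TopCat.Presheaf.germ_res_apply MM.presheaf (homOfLE (inf_le_right : U ⊓ V ≤ V)) x ⟨hU, hV⟩,
      ← Mero.germ_smul]
    show HSMul.hSMul (α := Ax) (β := Mx) (e₁ (X.presheaf.germ (U ⊓ V) x _ _ • one')) _ = _
    rw [hψ]
    exact (PresheafOfModules.germ_ringCat_smul M.val x (U ⊓ V) ⟨hU, hV⟩ _ _).symm
  haveI := hMp x
  letI : Module R Mx := Module.compHom Mx ψ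
  haveI : IsScalarTower R Ax Mx := ⟨fun r a m => by
    show (ψ r * a) • m = ψ r • a • m
    rw [mul_smul]⟩
  obtain ⟨s, hs⟩ := Module.projective_def'.1 (hMp x)
  haveI : Module.Projective R Mx :=
    Module.Projective.of_split (s.restrictScalars R) ((Finsupp.linearCombination Ax id).restrictScalars R)
      (LinearMap.ext fun m => LinearMap.congr_fun hs m)
  let e₂ : Mx ≃ₗ[R] MM.presheaf.stalk x :=
    { toFun := fun m => m
      invFun := fun m => m
      left_inv := fun _ => rfl
      right_inv := fun _ => rfl
      map_add' := fun _ _ => rfl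
      map_smul' := fun r m => htower r m }
  haveI : Module.Projective R (MM.presheaf.stalk x) := Module.Projective.of_equiv e₂
  haveI := hMc.1
  haveI : Module.Finite R (MM.presheaf.stalk x) := PullbackMod.finite_stalk_of_isFT hMc.2 x
  exact Module.free_of_flat_of_isLocalRing

end Groth.Agent.S15076
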