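import Groth.Statements.S15078
import Mathlib

set_option autoImplicit false
universe u v
open MovLem

namespace Groth.Agent.S15078

open Polynomial in
theorem subst_bound {k : Type*} [CommRing k] {K : Type*} [Field K] [Algebra k K] {σ : Type*} (g : σ → K) (N : ℕ)
    (hN : 1 ≤ N) (q : MvPolynomial σ k) : ∀ D, q.totalDegree ≤ D →
    (MvPolynomial.aeval (R := k) (fun i : σ => C (MvPolynomial.X i) + C (MvPolynomial.C (g i)) * X ^ N :
      σ → Polynomial (MvPolynomial σ K)) q).natDegree ≤ D * N ∧
    (MvPolynomial.aeval (R := k) (fun i : σ => C (MvPolynomial.X i) + C (MvPolynomial.C (g i)) * X ^ N :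
      σ → Polynomial (MvPolynomial σ K)) q).coeff (D * N) =
        MvPolynomial.C (MvPolynomial.aeval g (MvPolynomial.homogeneousComponent D q)) := by
  classical
  set φ := MvPolynomial.aeval (R := k) (fun i : σ => C (MvPolynomial.X i) + C (MvPolynomial.C (g i)) * X ^ N :
      σ → Polynomial (MvPolynomial σ K)) with hφ
  have hmon : ∀ (e : σ →₀ ℕ) (c : k), (φ (MvPolynomial.monomial e c)).natDegree ≤ e.degree * N ∧
      (φ (MvPolynomial.monomial e c)).coeff (e.degree * N) =
        MvPolynomial.C (MvPolynomial.aeval g (MvPolynomial.monomial e c)) := by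
    intro e
    induction e using Finsupp.induction₂ with
    | zero =>
      intro c
      have e1 : φ (MvPolynomial.monomial 0 c) = C (MvPolynomial.C (algebraMap k K c)) := by
        rw [MvPolynomial.monomial_zero', hφ, MvPolynomial.aeval_C]
        rfl
      rw [e1, map_zero, zero_mul]
      refine ⟨(natDegree_C _).le, ?_⟩
      rw [coeff_C_zero, MvPolynomial.monomial_zero', MvPolynomial.aeval_C]
    | add_single i m f hif hm ih =>
      intro c
      have hg : ∀ n : ℕ, ((C (MvPolynomial.X i) + C (MvPolynomial.C (g i)) * X ^ N : Polynomial (MvPolynomial σ K)) ^ n).natDegree ≤ n * N ∧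
          ((C (MvPolynomial.X i) + C (MvPolynomial.C (g i)) * X ^ N : Polynomial (MvPolynomial σ K)) ^ n).coeff (n * N) = MvPolynomial.C (g i ^ n) := by
        intro n
        have h1 : (C (MvPolynomial.X i) + C (MvPolynomial.C (g i)) * X ^ N : Polynomial (MvPolynomial σ K)).natDegree ≤ N :=
          natDegree_add_le_of_degree_le ((natDegree_C _).trans_le (Nat.zero_le N)) ((natDegree_C_mul_X_pow_le _ _))
        induction n with
        | zero => simp
        | succ n ih =>
          rw [pow_succ, Nat.succ_mul]
          refine ⟨natDegree_mul_le_of_le ih.1 h1, ?_⟩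
          rw [coeff_mul_add_eq_of_natDegree_le ih.1 h1, ih.2, coeff_add, coeff_C, coeff_C_mul_X_pow,
            if_neg (by omega : N ≠ 0), if_pos rfl, zero_add, ← map_mul, pow_succ]
      have hsplit : MvPolynomial.monomial (f + Finsupp.single i m) c =
          MvPolynomial.monomial f c * MvPolynomial.X i ^ m := MvPolynomial.monomial_add_single
      have e1 : φ (MvPolynomial.monomial (f + Finsupp.single i m) c) =
          φ (MvPolynomial.monomial f c) * (C (MvPolynomial.X i) + C (MvPolynomial.C (g i)) * X ^ N) ^ m := by
        rw [hsplit, map_mul, map_pow, hφ, MvPolynomial.aeval_X]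
      rw [e1, map_add, Finsupp.degree_single, add_mul]
      refine ⟨natDegree_mul_le_of_le (ih c).1 (hg m).1, ?_⟩
      rw [coeff_mul_add_eq_of_natDegree_le (ih c).1 (hg m).1, (ih c).2, (hg m).2, hsplit]
      simp
  intro D hD
  have hdeg : ∀ e ∈ q.support, e.degree ≤ D := fun e he =>
    le_trans (MvPolynomial.le_totalDegree he) hD
  conv_lhs => rw [q.as_sum]
  rw [map_sum]
  refine ⟨natDegree_sum_le_of_forall_le _ _ fun e he =>
    (hmon e _).1.trans (Nat.mul_le_mul_right N (hdeg e he)), ?_⟩
  conv_lhs => rw [q.as_sum, map_sum]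
  rw [finsetSum_coeff, MvPolynomial.homogeneousComponent_apply, map_sum, map_sum, Finset.sum_filter]
  refine Finset.sum_congr rfl fun e he => ?_
  split_ifs with hed
  · rw [← hed]; exact (hmon e _).2
  · refine coeff_eq_zero_of_natDegree_lt ((hmon e _).1.trans_lt ?_)
    exact Nat.mul_lt_mul_of_pos_right (lt_of_le_of_ne (hdeg e he) hed) (by omega)

/-- Let k be an infinite perfect field, r, m ≥ 1, and let f be a nonzero polynomial in the variable t
with coefficients in the polynomial ring k[x_1, …, x_r]. Then there are a nonzero polynomial h in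
k[x_1, …, x_r] and an integer s₀ such that for every s ≥ s₀, every field K over k and every point g
of K^r with h(g) ≠ 0, the polynomial obtained from f by the substitution x_i ↦ x_i + t^{s(m+1)} g_i,
t ↦ t has as leading coefficient in t a nonzero constant of K; in particular, after dividing by that
constant it is monic in t over K[x_1, …, x_r]. (The published statement asks for a nonempty open
subset of affine r-space over k, independent of s, such that this holds at each of its points g with
residue field K = k(g); the locus h ≠ 0 used here is such an open subset, and every nonempty open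
subset contains one of this form.) -/
theorem result
    {k : Type u} [Field k] [Infinite k] [PerfectField k] (r m : ℕ) (hr : 1 ≤ r) (hm : 1 ≤ m)
    (f : Polynomial (MvPolynomial (Fin r) k)) (hf : f ≠ 0) :
    ∃ h : MvPolynomial (Fin r) k, h ≠ 0 ∧ ∃ s₀ : ℕ, ∀ s : ℕ, s₀ ≤ s →
      ∀ (K : Type v) [Field K] [Algebra k K] (g : Fin r → K), MvPolynomial.aeval g h ≠ 0 →
        ∃ c : K, c ≠ 0 ∧
          (Polynomial.eval₂ (MvPolynomial.aeval (fun i : Fin r => Polynomial.C (MvPolynomial.X i) + Polynomial.C (MvPolynomial.C (g i)) * Polynomial.X ^ (s * (m + 1))) : MvPolynomial (Fin r) k →ₐ[k] Polynomial (MvPolynomial (Fin r) K)).toRingHom Polynomial.X f).leadingCoeff = MvPolynomial.C c := by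
  classical
  set D := f.support.sup (fun j => (f.coeff j).totalDegree) with hD
  set T := f.support.filter (fun j => MvPolynomial.homogeneousComponent D (f.coeff j) ≠ 0) with hT
  have hTne : T.Nonempty := by
    have hs : f.support.Nonempty := Polynomial.support_nonempty.2 hf
    obtain ⟨j, hj, hjD⟩ := Finset.exists_mem_eq_sup f.support hs (fun j => (f.coeff j).totalDegree)
    refine ⟨j, Finset.mem_filter.2 ⟨hj, ?_⟩⟩
    have hjne : f.coeff j ≠ 0 := Polynomial.mem_support_iff.1 hj
    obtain ⟨e, he, hed⟩ := Finset.exists_mem_eq_sup (f.coeff j).support (MvPolynomial.support_nonempty.2 hjne) (fun e => e.degree)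
    intro h0
    have h1 := congrArg (MvPolynomial.coeff e) h0
    rw [MvPolynomial.coeff_homogeneousComponent, MvPolynomial.coeff_zero, if_pos ?_] at h1
    · exact MvPolynomial.mem_support_iff.1 he h1
    · rw [← hed, hD, hjD]
      rfl
  set j0 := T.max' hTne with hj0
  refine ⟨MvPolynomial.homogeneousComponent D (f.coeff j0), (Finset.mem_filter.1 (T.max'_mem hTne)).2,
    f.natDegree + 1, fun s hs K _ _ g hg => ?_⟩
  set N := s * (m + 1) with hN
  have hNbig : f.natDegree < N := by
    have : s * 1 ≤ s * (m + 1) := Nat.mul_le_mul_left s (by omega)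
    omega
  refine ⟨MvPolynomial.aeval g (MvPolynomial.homogeneousComponent D (f.coeff j0)), hg, ?_⟩
  set φ := MvPolynomial.aeval (R := k) (fun i : Fin r => Polynomial.C (MvPolynomial.X i) + Polynomial.C (MvPolynomial.C (g i)) * Polynomial.X ^ N :
      Fin r → Polynomial (MvPolynomial (Fin r) K)) with hφ
  show (Polynomial.eval₂ φ.toRingHom Polynomial.X f).leadingCoeff = _
  set P := Polynomial.eval₂ φ.toRingHom Polynomial.X f with hP
  have hb : ∀ j ∈ f.support, (φ (f.coeff j)).natDegree ≤ D * N ∧
      (φ (f.coeff j)).coeff (D * N) = MvPolynomial.C (MvPolynomial.aeval g (MvPolynomial.homogeneousComponent D (f.coeff j))) :=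
    fun j hj => subst_bound g N (by omega) (f.coeff j) D (Finset.le_sup (f := fun j => (f.coeff j).totalDegree) hj)
  have hb2 : ∀ j ∈ f.support, j ∉ T → (φ (f.coeff j)).natDegree + j < D * N := by
    intro j hj hjT
    have hd : (f.coeff j).totalDegree < D ∨ ¬ (f.coeff j).totalDegree < D := em _
    have hjz : MvPolynomial.homogeneousComponent D (f.coeff j) = 0 := by
      by_contra h; exact hjT (Finset.mem_filter.2 ⟨hj, h⟩)
    have hlt : (f.coeff j).totalDegree < D := by
      by_contra h
      have hjne : f.coeff j ≠ 0 := Polynomial.mem_support_iff.1 hj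
      obtain ⟨e, he, hed⟩ := Finset.exists_mem_eq_sup (f.coeff j).support (MvPolynomial.support_nonempty.2 hjne) (fun e => e.degree)
      have h1 := congrArg (MvPolynomial.coeff e) hjz
      rw [MvPolynomial.coeff_homogeneousComponent, MvPolynomial.coeff_zero, if_pos ?_] at h1
      · exact MvPolynomial.mem_support_iff.1 he h1
      · rw [← hed]
        exact le_antisymm (Finset.le_sup (f := fun j => (f.coeff j).totalDegree) hj) (not_lt.1 h)
    have h2 := (subst_bound g N (by omega) (f.coeff j) (D - 1) (by omega)).1
    have hjle : j ≤ f.natDegree := Polynomial.le_natDegree_of_mem_supp j hj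
    have h3 : (D - 1) * N + N = D * N := by
      rw [← Nat.succ_mul]; congr 1; omega
    rw [← hφ] at h2
    omega
  have hsum : P = ∑ j ∈ f.support, φ (f.coeff j) * Polynomial.X ^ j := by
    rw [hP, Polynomial.eval₂_eq_sum, Polynomial.sum_def]
    rfl
  have hj0T := Finset.mem_filter.1 (T.max'_mem hTne)
  have hcoef : P.coeff (D * N + j0) = MvPolynomial.C (MvPolynomial.aeval g (MvPolynomial.homogeneousComponent D (f.coeff j0))) := by
    rw [hsum, Polynomial.finsetSum_coeff, Finset.sum_eq_single j0]
    · rw [Polynomial.coeff_mul_X_pow]; exact (hb j0 hj0T.1).2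
    · intro j hj hne
      refine Polynomial.coeff_eq_zero_of_natDegree_lt ((Polynomial.natDegree_mul_le_of_le le_rfl (Polynomial.natDegree_X_pow_le j)).trans_lt ?_)
      by_cases hjT : j ∈ T
      · have h1 : j ≤ j0 := T.le_max' j hjT
        have h2 := (hb j hj).1
        omega
      · have := hb2 j hj hjT
        omega
    · intro h; exact absurd hj0T.1 h
  have hdeg : P.natDegree ≤ D * N + j0 := by
    rw [hsum]
    refine Polynomial.natDegree_sum_le_of_forall_le _ _ fun j hj => ?_
    refine (Polynomial.natDegree_mul_le_of_le le_rfl (Polynomial.natDegree_X_pow_le j)).trans ?_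
    by_cases hjT : j ∈ T
    · have h1 : j ≤ j0 := T.le_max' j hjT
      have h2 := (hb j hj).1
      omega
    · have := hb2 j hj hjT
      omega
  have hne : P.coeff (D * N + j0) ≠ 0 := by
    rw [hcoef, Ne, MvPolynomial.C_eq_zero]
    exact hg
  have heq : P.natDegree = D * N + j0 := le_antisymm hdeg (Polynomial.le_natDegree_of_ne_zero hne)
  rw [Polynomial.leadingCoeff, heq, hcoef]

end Groth.Agent.S15078
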