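import Groth.Statements.S15079
import Mathlib

set_option autoImplicit false
universe u v
open MovLem

namespace Groth.Agent.S15079

open Polynomial in
theorem prod_coeff {R : Type*} [CommRing R] {ι : Type*} (q : ι → R[X]) (n : ι → ℕ) (S : Finset ι)
    (h : ∀ i ∈ S, (q i).natDegree ≤ n i) :
    (∏ i ∈ S, q i).natDegree ≤ ∑ i ∈ S, n i ∧ (∏ i ∈ S, q i).coeff (∑ i ∈ S, n i) = ∏ i ∈ S, (q i).coeff (n i) := by
  classical
  induction S using Finset.induction_on with
  | empty => simp
  | insert a S ha ih =>
    obtain ⟨h1, h2⟩ := ih fun i hi => h i (Finset.mem_insert_of_mem hi)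
    have h3 := h a (Finset.mem_insert_self _ _)
    rw [Finset.prod_insert ha, Finset.sum_insert ha, Finset.prod_insert ha]
    exact ⟨natDegree_mul_le.trans (add_le_add h3 h1), by rw [coeff_mul_add_eq_of_natDegree_le h3 h1, h2]⟩

variable {k : Type u} [Field k] {K : Type v} [Field K] [Algebra k K] {r : ℕ}

noncomputable abbrev tr (N : ℕ) (g : Fin r → K) : MvPolynomial (Fin r) k →ₐ[k] Polynomial (MvPolynomial (Fin r) K) :=
  MvPolynomial.aeval (fun i : Fin r => Polynomial.C (MvPolynomial.X i) + Polynomial.C (MvPolynomial.C (g i)) * Polynomial.X ^ N)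

open Polynomial in
theorem tr_spec (N : ℕ) (hN : 0 < N) (g : Fin r → K) (p : MvPolynomial (Fin r) k) (D : ℕ) (hp : p.totalDegree ≤ D) :
    (tr N g p).natDegree ≤ N * D ∧
      (tr N g p).coeff (N * D) = MvPolynomial.C (MvPolynomial.aeval g (MvPolynomial.homogeneousComponent D p)) := by
  have hd : ∀ d ∈ p.support, d.degree ≤ D := fun d hd => le_trans (by
    rw [Finsupp.degree_apply]; exact MvPolynomial.le_totalDegree hd) hp
  have key : ∀ d ∈ p.support, (tr N g (MvPolynomial.monomial d (p.coeff d))).natDegree ≤ N * D ∧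
      (tr N g (MvPolynomial.monomial d (p.coeff d))).coeff (N * D) =
        MvPolynomial.C (MvPolynomial.aeval g (if d.degree = D then MvPolynomial.monomial d (p.coeff d) else 0)) := by
    intro d hd'
    set q : Fin r → (MvPolynomial (Fin r) K)[X] := fun i =>
      (C (MvPolynomial.X i) + C (MvPolynomial.C (g i)) * X ^ N) ^ d i
    have e : tr N g (MvPolynomial.monomial d (p.coeff d)) = C (MvPolynomial.C (algebraMap k K (p.coeff d))) * ∏ i, q i := by
      rw [MvPolynomial.aeval_monomial, Finsupp.prod_fintype _ _ (fun _ => pow_zero _)]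
      rfl
    have hb : ∀ i, (C (MvPolynomial.X i) + C (MvPolynomial.C (g i)) * X ^ N : (MvPolynomial (Fin r) K)[X]).natDegree ≤ N :=
      fun i => natDegree_add_le_of_degree_le (by simp) (natDegree_C_mul_X_pow_le _ _)
    obtain ⟨h1, h2⟩ := prod_coeff q (fun i => d i * N) Finset.univ (fun i _ => natDegree_pow_le.trans (Nat.mul_le_mul_left _ (hb i)))
    have hsum : ∑ i, d i * N = N * d.degree := by
      rw [← Finset.sum_mul, mul_comm, Finsupp.degree_eq_sum]
    rw [hsum] at h1 h2
    have hle : (tr N g (MvPolynomial.monomial d (p.coeff d))).natDegree ≤ N * d.degree := by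
      rw [e]; exact natDegree_C_mul_le _ _ |>.trans h1
    refine ⟨hle.trans (Nat.mul_le_mul_left _ (hd d hd')), ?_⟩
    split_ifs with hD
    · subst hD
      rw [e, coeff_C_mul, h2, MvPolynomial.aeval_monomial, Finsupp.prod_fintype _ _ (fun _ => pow_zero _), map_mul, map_prod]
      congr 1
      refine Finset.prod_congr rfl fun i _ => ?_
      rw [coeff_pow_of_natDegree_le (hb i), map_pow]
      congr 1
      simp [coeff_C, hN.ne']
    · rw [map_zero, map_zero]
      exact coeff_eq_zero_of_natDegree_lt (hle.trans_lt (by gcongr; exact lt_of_le_of_ne (hd d hd') hD))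
  have e0 : tr N g p = ∑ d ∈ p.support, tr N g (MvPolynomial.monomial d (p.coeff d)) := by
    conv_lhs => rw [p.as_sum]
    rw [map_sum]
  rw [e0]
  refine ⟨natDegree_sum_le_of_forall_le _ _ fun d hd => (key d hd).1, ?_⟩
  rw [finset_sum_coeff, MvPolynomial.homogeneousComponent_apply, Finset.sum_filter, map_sum, map_sum]
  exact Finset.sum_congr rfl fun d hd => (key d hd).2

/-- Let k be an infinite perfect field, r, m ≥ 1, and let f be an irreducible polynomial in t over
k[x_1, …, x_r] whose constant term in t is a unit of k[x_1, …, x_r], so that the hypersurface Z : f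
= 0 in affine (r+1)-space with coordinates x_1, …, x_r, t is integral and does not meet the divisor
t = 0 (the modulus condition in cubical degree one). Then there are a nonzero polynomial h in k[x_1,
…, x_r] and an integer s₀ such that for every s ≥ s₀, every field K over k and every point g of K^r
with h(g) ≠ 0, the translate of Z_K by the automorphism x_i ↦ x_i + t^{s(m+1)} g_i, t ↦ t is finite
and surjective over affine r-space over K: the quotient of K[x_1, …, x_r][t] by the translated
equation is a finitely generated K[x_1, …, x_r]-module and K[x_1, …, x_r] maps injectively into it.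
(The published statement allows every nonzero point g of affine r-space; for r = 2 and f = x_1 t − 1
the point g = (0, 1) translates Z to itself, which is not finite over the affine plane, so the
conclusion is stated here for g in a nonempty open subset h ≠ 0, which is what the published proof
establishes.) -/
theorem result
    {k : Type u} [Field k] [Infinite k] [PerfectField k] (r m : ℕ) (hr : 1 ≤ r) (hm : 1 ≤ m)
    (f : Polynomial (MvPolynomial (Fin r) k)) (hirr : Irreducible f) (h0 : IsUnit (f.coeff 0)) :
    ∃ h : MvPolynomial (Fin r) k, h ≠ 0 ∧ ∃ s₀ : ℕ, ∀ s : ℕ, s₀ ≤ s →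
      ∀ (K : Type v) [Field K] [Algebra k K] (g : Fin r → K), MvPolynomial.aeval g h ≠ 0 →
        ∀ F : Polynomial (MvPolynomial (Fin r) K),
          F = Polynomial.eval₂ (MvPolynomial.aeval (fun i : Fin r => Polynomial.C (MvPolynomial.X i) + Polynomial.C (MvPolynomial.C (g i)) * Polynomial.X ^ (s * (m + 1))) : MvPolynomial (Fin r) k →ₐ[k] Polynomial (MvPolynomial (Fin r) K)).toRingHom Polynomial.X f →
          Module.Finite (MvPolynomial (Fin r) K) (Polynomial (MvPolynomial (Fin r) K) ⧸ Ideal.span {F}) ∧
          Function.Injective ((Ideal.Quotient.mk (Ideal.span {F})).comp (algebraMap (MvPolynomial (Fin r) K) (Polynomial (MvPolynomial (Fin r) K)))) := by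
  classical
  have hf0 : f ≠ 0 := hirr.ne_zero
  obtain ⟨D, hD⟩ : ∃ D, D = f.support.sup fun j => (f.coeff j).totalDegree := ⟨_, rfl⟩
  have hSne : (f.support.filter fun j => (f.coeff j).totalDegree = D).Nonempty := by
    obtain ⟨j, hj, hj'⟩ := Finset.exists_mem_eq_sup _ (Polynomial.support_nonempty.2 hf0) (fun j => (f.coeff j).totalDegree)
    exact ⟨j, Finset.mem_filter.2 ⟨hj, by rw [hD, hj']⟩⟩
  obtain ⟨j₀, hj₀, hmax⟩ : ∃ j₀, j₀ ∈ (f.support.filter fun j => (f.coeff j).totalDegree = D) ∧
      ∀ j ∈ (f.support.filter fun j => (f.coeff j).totalDegree = D), j ≤ j₀ :=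
    ⟨_, Finset.max'_mem _ hSne, fun j hj => Finset.le_max' _ j hj⟩
  rw [Finset.mem_filter] at hj₀
  have hle : ∀ j ∈ f.support, (f.coeff j).totalDegree ≤ D := fun j hj => hD ▸ Finset.le_sup (f := fun j => (f.coeff j).totalDegree) hj
  have hdeg0 : 0 < D ∨ 0 < j₀ := by
    by_contra hc
    simp only [not_or, not_lt, Nat.le_zero] at hc
    obtain ⟨hD0, hj0⟩ := hc
    have : f.natDegree = 0 := by
      have hm := Polynomial.natDegree_mem_support_of_nonzero hf0
      have := hmax _ (Finset.mem_filter.2 ⟨hm, by have := hle _ hm; omega⟩)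
      omega
    refine hirr.not_isUnit ?_
    rw [Polynomial.eq_C_of_natDegree_eq_zero this]
    exact Polynomial.isUnit_C.2 h0
  refine ⟨MvPolynomial.homogeneousComponent D (f.coeff j₀), ?_, f.natDegree + 1, fun s hs K _ _ g hg F hF => ?_⟩
  · intro h
    have hne := Polynomial.mem_support_iff.1 hj₀.1
    obtain ⟨d, hd, hd'⟩ := Finset.exists_mem_eq_sup _ (MvPolynomial.support_nonempty.2 hne) fun d => d.sum fun _ e => e
    have h2 := congrArg (MvPolynomial.coeff d) h
    rw [MvPolynomial.coeff_homogeneousComponent, if_pos, MvPolynomial.coeff_zero] at h2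
    · exact MvPolynomial.mem_support_iff.1 hd h2
    · rw [Finsupp.degree_apply]; exact hd'.symm.trans hj₀.2
  set N := s * (m + 1) with hN'
  have hsN : s ≤ N := Nat.le_mul_of_pos_right _ (Nat.succ_pos _)
  have hN : 0 < N := by omega
  have hF' : F = ∑ j ∈ f.support, tr N g (f.coeff j) * Polynomial.X ^ j := by
    rw [hF, Polynomial.eval₂_eq_sum, Polynomial.sum_def]; rfl
  set c := MvPolynomial.aeval g (MvPolynomial.homogeneousComponent D (f.coeff j₀)) with hc
  have hterm : ∀ j ∈ f.support, j ≠ j₀ → (tr N g (f.coeff j) * Polynomial.X ^ j).natDegree < N * D + j₀ := by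
    intro j hj hne
    have hjd := Polynomial.le_natDegree_of_mem_supp _ hj
    refine lt_of_le_of_lt Polynomial.natDegree_mul_le ?_
    rw [Polynomial.natDegree_X_pow]
    rcases (hle j hj).lt_or_eq with hlt | heq
    · have := (tr_spec N hN g (f.coeff j) (D - 1) (by omega)).1
      have : N * D = N * (D - 1) + N := by
        obtain ⟨D', rfl⟩ : ∃ D', D = D' + 1 := ⟨D - 1, by omega⟩
        simp [Nat.mul_succ]
      omega
    · have := hmax j (Finset.mem_filter.2 ⟨hj, heq⟩)
      have := (tr_spec N hN g (f.coeff j) D heq.le).1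
      omega
  obtain ⟨hdle, hcoef⟩ := tr_spec N hN g (f.coeff j₀) D hj₀.2.le
  have hcoeF : F.coeff (N * D + j₀) = MvPolynomial.C c := by
    rw [hF', Polynomial.finset_sum_coeff, Finset.sum_eq_single_of_mem j₀ hj₀.1]
    · rw [Polynomial.coeff_mul_X_pow, hcoef]
    · exact fun j hj hne => Polynomial.coeff_eq_zero_of_natDegree_lt (hterm j hj hne)
  have hdF : F.natDegree ≤ N * D + j₀ := by
    rw [hF']
    refine Polynomial.natDegree_sum_le_of_forall_le _ _ fun j hj => ?_
    rcases eq_or_ne j j₀ with rfl | hne
    · exact Polynomial.natDegree_mul_le.trans (by rw [Polynomial.natDegree_X_pow]; omega)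
    · exact (hterm j hj hne).le
  set G := Polynomial.C (MvPolynomial.C c⁻¹) * F with hG
  have hu : IsUnit (Polynomial.C (MvPolynomial.C c⁻¹ : MvPolynomial (Fin r) K)) :=
    Polynomial.isUnit_C.2 ((isUnit_iff_ne_zero.2 (inv_ne_zero hg)).map MvPolynomial.C)
  have hGc : G.coeff (N * D + j₀) = 1 := by
    rw [hG, Polynomial.coeff_C_mul, hcoeF, ← map_mul, inv_mul_cancel₀ hg, map_one]
  have hGd : G.natDegree ≤ N * D + j₀ := (Polynomial.natDegree_C_mul_le _ _).trans hdF
  have hGm : G.Monic := Polynomial.monic_of_natDegree_le_of_coeff_eq_one _ hGd hGc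
  have hGdeg : G.natDegree = N * D + j₀ := le_antisymm hGd (Polynomial.le_natDegree_of_ne_zero (by rw [hGc]; exact one_ne_zero))
  have hspan : Ideal.span {F} = Ideal.span {G} := (Ideal.span_singleton_mul_left_unit hu F).symm
  rw [hspan]
  refine ⟨hGm.finite_adjoinRoot, ?_⟩
  rw [injective_iff_map_eq_zero]
  intro p hp
  rw [RingHom.comp_apply, Ideal.Quotient.eq_zero_iff_mem, Ideal.mem_span_singleton] at hp
  by_contra hp0
  have h1 := Polynomial.natDegree_le_of_dvd hp (by simpa using hp0)
  have : 0 < G.natDegree := by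
    rw [hGdeg]
    rcases hdeg0 with h | h
    · exact Nat.add_pos_left (Nat.mul_pos hN h) _
    · omega
  simp only [Polynomial.algebraMap_eq, Polynomial.natDegree_C] at h1
  omega

end Groth.Agent.S15079
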