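import Groth.Statements.S15080
import Groth.Agent.ShuffleLib.Basic

set_option autoImplicit false
open W4c2movlemaddchow

namespace Groth.Agent.S15080

open Equiv W4c2movlemaddchow

lemma extRight_left (a t : ℕ) (σ : Perm (Fin a)) (i : Fin a) :
    extRight a t σ (Fin.castAdd t i) = Fin.castAdd t (σ i) := by
  simp [extRight, Equiv.permCongr_apply]

lemma extRight_right (a t : ℕ) (σ : Perm (Fin a)) (l : Fin t) :
    extRight a t σ (Fin.natAdd a l) = Fin.natAdd a l := by
  simp [extRight, Equiv.permCongr_apply]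

/-- Let r, s, t ≥ 1. For an (r+s, t)-shuffle τ of r+s+t letters and an (r, s)-shuffle σ of the first r+s
letters, the composite τ ∘ (σ × id), where σ × id acts as σ on the first r+s letters and fixes the
last t, is an (r, s, t)-shuffle, and (τ, σ) ↦ τ ∘ (σ × id) is a bijection from such pairs onto the
set of all (r, s, t)-shuffles. (A (p₁, …, p_s)-shuffle is a permutation that is monotone on each of
the consecutive blocks of sizes p₁, …, p_s; composites apply the right-hand factor first.) -/
theorem result (r s t : ℕ) (hr : 1 ≤ r) (hs : 1 ≤ s) (ht : 1 ≤ t) :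
    Set.BijOn
      (fun p : Equiv.Perm (Fin (r + s + t)) × Equiv.Perm (Fin (r + s)) =>
        p.1 * W4c2movlemaddchow.extRight (r + s) t p.2)
      ({τ | W4c2movlemaddchow.IsShuffle₂ (r + s) t τ} ×ˢ {σ | W4c2movlemaddchow.IsShuffle₂ r s σ})
      {ν | W4c2movlemaddchow.IsShuffle₃ r s t ν} := by
  refine Groth.Agent.ShuffleLib.bijOn_block (Fin.castAddEmb t) (extRight (r + s) t) (fun σ i => ?_) (fun σ x hx => ?_)
    _ _ _ (fun τ hτ => hτ.1.strictMono_of_injective (τ.injective.comp (Fin.castAdd_injective _ _))) fun τ σ hm => ?_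
  · exact extRight_left _ _ σ i
  · obtain ⟨l, rfl⟩ : ∃ l, Fin.natAdd (r + s) l = x := by
      induction x using Fin.addCases with
      | left i => exact absurd ⟨i, rfl⟩ hx
      | right l => exact ⟨l, rfl⟩
    exact extRight_right _ _ σ l
  · have hm' : StrictMono fun i => τ (Fin.castAdd t i) := hm
    simp only [IsShuffle₃, IsShuffle₂, Monotone, Perm.mul_apply, extRight_left, extRight_right]
    constructor
    · rintro ⟨h1, h2, h3⟩
      exact ⟨⟨fun i j h => hm'.monotone h, h3⟩, fun i j h => hm'.le_iff_le.1 (h1 h), fun i j h => hm'.le_iff_le.1 (h2 h)⟩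
    · rintro ⟨⟨h1, h3⟩, h4, h5⟩
      exact ⟨fun i j h => h1 (h4 h), fun i j h => h1 (h5 h), h3⟩

end Groth.Agent.S15080
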