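import Groth.Statements.S15081
import Groth.Agent.ShuffleLib.Basic

set_option autoImplicit false
open W4c2movlemaddchow

namespace Groth.Agent.S15081

open Equiv W4c2movlemaddchow

def back (r s t : ℕ) : Fin (r + (s + t)) → Fin (r + s + t) := (finCongr (Nat.add_assoc r s t)).symm

lemma extLeft_left (r s t : ℕ) (σ : Perm (Fin (s + t))) (i : Fin r) :
    extLeft r s t σ (back r s t (Fin.castAdd (s + t) i)) = back r s t (Fin.castAdd (s + t) i) := by
  simp [extLeft, back, Equiv.permCongr_apply]

lemma extLeft_right (r s t : ℕ) (σ : Perm (Fin (s + t))) (j : Fin (s + t)) :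
    extLeft r s t σ (back r s t (Fin.natAdd r j)) = back r s t (Fin.natAdd r (σ j)) := by
  simp [extLeft, back, Equiv.permCongr_apply]

/-- Let r, s, t ≥ 1. For an (r, s+t)-shuffle τ' of r+s+t letters and an (s, t)-shuffle σ' of the last
s+t letters, the composite τ' ∘ (id × σ'), where id × σ' fixes the first r letters and acts as σ' on
the last s+t, is an (r, s, t)-shuffle, and (τ', σ') ↦ τ' ∘ (id × σ') is a bijection from such pairs
onto the set of all (r, s, t)-shuffles. (Shuffles are permutations monotone on each consecutive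
block; composites apply the right-hand factor first.) -/
theorem result (r s t : ℕ) (hr : 1 ≤ r) (hs : 1 ≤ s) (ht : 1 ≤ t) :
    Set.BijOn
      (fun p : Equiv.Perm (Fin (r + s + t)) × Equiv.Perm (Fin (s + t)) =>
        p.1 * W4c2movlemaddchow.extLeft r s t p.2)
      ({τ | W4c2movlemaddchow.IsShuffle₂ r (s + t) ((finCongr (Nat.add_assoc r s t)).permCongr τ)} ×ˢ
        {σ | W4c2movlemaddchow.IsShuffle₂ s t σ})
      {ν | W4c2movlemaddchow.IsShuffle₃ r s t ν} := by
  have i1 : ∀ i : Fin r, Fin.castAdd t (Fin.castAdd s i) = back r s t (Fin.castAdd (s + t) i) := fun i => Fin.ext rfl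
  have i2 : ∀ j : Fin s, Fin.castAdd t (Fin.natAdd r j) = back r s t (Fin.natAdd r (Fin.castAdd t j)) := fun j => Fin.ext rfl
  have i3 : ∀ l : Fin t, Fin.natAdd (r + s) l = back r s t (Fin.natAdd r (Fin.natAdd s l)) := fun l =>
    Fin.ext (by simp [back, Nat.add_assoc])
  refine Groth.Agent.ShuffleLib.bijOn_block
    ((Fin.natAddEmb r).trans (finCongr (Nat.add_assoc r s t)).symm.toEmbedding) (extLeft r s t)
    (fun σ i => ?_) (fun σ x hx => ?_) _ _ _ (fun τ hτ => ?_) fun τ σ hm => ?_
  · exact extLeft_right r s t σ i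
  · obtain ⟨y, rfl⟩ : ∃ y, back r s t y = x := ⟨finCongr (Nat.add_assoc r s t) x, by simp [back]⟩
    induction y using Fin.addCases with
    | left i => exact extLeft_left r s t σ i
    | right j => exact absurd ⟨j, rfl⟩ hx
  · have h : Monotone fun j => τ (back r s t (Fin.natAdd r j)) := fun a b hab => hτ.2 hab
    exact h.strictMono_of_injective (τ.injective.comp ((Equiv.injective _).comp (Fin.natAdd_injective _ _)))
  · have hm' : StrictMono fun j => τ (back r s t (Fin.natAdd r j)) := hm
    simp only [IsShuffle₃, Monotone, Perm.mul_apply, i1, i2, i3, extLeft_left, extLeft_right]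
    constructor
    · rintro ⟨h1, h2, h3⟩
      exact ⟨⟨fun a b h => h1 h, fun a b h => hm'.monotone h⟩, fun a b h => hm'.le_iff_le.1 (h2 h),
        fun a b h => hm'.le_iff_le.1 (h3 h)⟩
    · rintro ⟨⟨h1, h2⟩, h4, h5⟩
      exact ⟨fun a b h => h1 h, fun a b h => h2 (h4 h), fun a b h => h2 (h5 h)⟩

end Groth.Agent.S15081
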