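import Groth.Statements.S15082
import Mathlib

set_option autoImplicit false
open W4c2movlemaddchow

namespace Groth.Agent.S15082

open Equiv

theorem sum_split {n a : ℕ} (f : Fin a → Fin n) (hf : Function.Injective f)
    (E : Perm (Fin a) → Perm (Fin n)) (hE1 : ∀ σ i, E σ (f i) = f (σ i))
    (hE2 : ∀ σ x, x ∉ Set.range f → E σ x = x) (hsgn : ∀ σ, Perm.sign (E σ) = Perm.sign σ)
    (P3 P2 : Perm (Fin n) → Prop) (Pσ : Perm (Fin a) → Prop)
    [DecidablePred P3] [DecidablePred P2] [DecidablePred Pσ]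
    (hP2 : ∀ τ, P2 τ → Monotone (fun i => τ (f i)))
    (hP : ∀ τ σ, Monotone (fun i => τ (f i)) → (P3 (τ * E σ) ↔ P2 τ ∧ Pσ σ)) :
    (∑ ν ∈ Finset.univ.filter P3,
        MonoidAlgebra.single ν (((Perm.sign ν : ℤˣ) : ℤ)) : MonoidAlgebra ℤ (Perm (Fin n))) =
      ∑ τ ∈ Finset.univ.filter P2, ∑ σ ∈ Finset.univ.filter Pσ,
        MonoidAlgebra.single (τ * E σ) (((Perm.sign τ : ℤˣ) : ℤ) * ((Perm.sign σ : ℤˣ) : ℤ)) := by
  have hinv : ∀ π : Perm (Fin a), E π * E π⁻¹ = 1 := fun π => Equiv.ext fun x => by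
    by_cases hx : x ∈ Set.range f
    · obtain ⟨i, rfl⟩ := hx; simp [Perm.mul_apply, hE1]
    · simp [Perm.mul_apply, hE2 _ _ hx]
  rw [← Finset.sum_product']
  symm
  refine Finset.sum_bij (fun p _ => p.1 * E p.2) ?_ ?_ ?_ ?_
  · intro p hp
    simp only [Finset.mem_product, Finset.mem_filter, Finset.mem_univ, true_and] at hp ⊢
    exact (hP _ _ (hP2 _ hp.1)).2 hp
  · rintro ⟨τ, σ⟩ hp ⟨τ', σ'⟩ hp' h
    simp only [Finset.mem_product, Finset.mem_filter, Finset.mem_univ, true_and] at hp hp'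
    have hs := (hP2 _ hp.1).strictMono_of_injective (τ.injective.comp hf)
    have hs' := (hP2 _ hp'.1).strictMono_of_injective (τ'.injective.comp hf)
    have h' : ∀ x, τ (E σ x) = τ' (E σ' x) := fun x => DFunLike.congr_fun h x
    have key : (fun i => τ (f i)) = fun i => τ' (f i) := by
      refine (hs.range_inj hs').1 ?_
      ext y
      constructor
      · rintro ⟨i, rfl⟩
        exact ⟨σ' (σ⁻¹ i), by show τ' (f (σ' (σ⁻¹ i))) = τ (f i); rw [← hE1, ← h', hE1]; simp⟩
      · rintro ⟨i, rfl⟩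
        exact ⟨σ (σ'⁻¹ i), by show τ (f (σ (σ'⁻¹ i))) = τ' (f i); rw [← hE1, h', hE1]; simp⟩
    obtain rfl : τ = τ' := Equiv.ext fun x => by
      by_cases hx : x ∈ Set.range f
      · obtain ⟨i, rfl⟩ := hx; exact congrFun key i
      · simpa [hE2 _ _ hx] using h' x
    refine Prod.ext rfl (Equiv.ext fun i => hf (τ.injective ?_))
    simpa [hE1] using h' (f i)
  · intro ν hν
    simp only [Finset.mem_filter, Finset.mem_univ, true_and] at hν
    set π := Tuple.sort (fun i => ν (f i))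
    have hm : Monotone (fun i => (ν * E π) (f i)) := by
      simpa [Perm.mul_apply, hE1, Function.comp_def] using Tuple.monotone_sort (fun i => ν (f i))
    have he : ν * E π * E π⁻¹ = ν := by rw [mul_assoc, hinv, mul_one]
    refine ⟨(ν * E π, π⁻¹), ?_, he⟩
    simp only [Finset.mem_product, Finset.mem_filter, Finset.mem_univ, true_and]
    exact (hP _ _ hm).1 (by rwa [he])
  · intro p hp
    simp [Perm.sign_mul, hsgn]

theorem mono_comp_iff {α β γ : Type} [Preorder α] [LinearOrder β] [LinearOrder γ] {g : β → γ} (hg : StrictMono g)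
    (h : α → β) : Monotone (fun i => g (h i)) ↔ Monotone h :=
  ⟨fun H i j hij => hg.le_iff_le.1 (H hij), fun H i j hij => hg.monotone (H hij)⟩

/-- Let r, s, t ≥ 1. In the group ring ℤ[S_{r+s+t}] the element Σ_ν sgn(ν) ν, summed over all (r, s,
t)-shuffles ν, equals Σ_τ Σ_σ sgn(τ) sgn(σ) τ ∘ (σ × id), summed over (r+s, t)-shuffles τ and (r,
s)-shuffles σ of the first r+s letters, and also equals Σ_{τ'} Σ_{σ'} sgn(τ') sgn(σ') τ' ∘ (id ×
σ'), summed over (r, s+t)-shuffles τ' and (s, t)-shuffles σ' of the last s+t letters. (Shuffles are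
permutations monotone on each consecutive block; composites apply the right-hand factor first.) -/
theorem result (r s t : ℕ) (hr : 1 ≤ r) (hs : 1 ≤ s) (ht : 1 ≤ t) :
    ((∑ ν ∈ Finset.univ.filter (W4c2movlemaddchow.IsShuffle₃ r s t),
        MonoidAlgebra.single ν (((Equiv.Perm.sign ν : ℤˣ) : ℤ)) :
          MonoidAlgebra ℤ (Equiv.Perm (Fin (r + s + t)))) =
      ∑ τ ∈ Finset.univ.filter (W4c2movlemaddchow.IsShuffle₂ (r + s) t),
        ∑ σ ∈ Finset.univ.filter (W4c2movlemaddchow.IsShuffle₂ r s),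
          MonoidAlgebra.single (τ * W4c2movlemaddchow.extRight (r + s) t σ)
            (((Equiv.Perm.sign τ : ℤˣ) : ℤ) * ((Equiv.Perm.sign σ : ℤˣ) : ℤ))) ∧
    ((∑ ν ∈ Finset.univ.filter (W4c2movlemaddchow.IsShuffle₃ r s t),
        MonoidAlgebra.single ν (((Equiv.Perm.sign ν : ℤˣ) : ℤ)) :
          MonoidAlgebra ℤ (Equiv.Perm (Fin (r + s + t)))) =
      ∑ τ ∈ Finset.univ.filter (fun τ : Equiv.Perm (Fin (r + s + t)) =>
          W4c2movlemaddchow.IsShuffle₂ r (s + t) ((finCongr (Nat.add_assoc r s t)).permCongr τ)),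
        ∑ σ ∈ Finset.univ.filter (W4c2movlemaddchow.IsShuffle₂ s t),
          MonoidAlgebra.single (τ * W4c2movlemaddchow.extLeft r s t σ)
            (((Equiv.Perm.sign τ : ℤˣ) : ℤ) * ((Equiv.Perm.sign σ : ℤˣ) : ℤ))) := by
  constructor
  · have E1 : ∀ (σ : Equiv.Perm (Fin (r + s))) i,
        W4c2movlemaddchow.extRight (r + s) t σ (Fin.castAdd t i) = Fin.castAdd t (σ i) := fun σ i => by
      simp [W4c2movlemaddchow.extRight, Equiv.permCongr_apply]
    have E2 : ∀ (σ : Equiv.Perm (Fin (r + s))) l,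
        W4c2movlemaddchow.extRight (r + s) t σ (Fin.natAdd (r + s) l) = Fin.natAdd (r + s) l := fun σ l => by
      simp [W4c2movlemaddchow.extRight, Equiv.permCongr_apply]
    refine sum_split (Fin.castAdd t) (Fin.castAdd_injective _ _) _ E1 ?_ ?_ _ _ _ (fun τ h => h.1) ?_
    · intro σ x hx
      induction x using Fin.addCases with
      | left i => exact absurd ⟨i, rfl⟩ hx
      | right l => exact E2 σ l
    · intro σ; simp [W4c2movlemaddchow.extRight, Equiv.Perm.sign_sumCongr]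
    · intro τ σ hm
      have hs := hm.strictMono_of_injective (τ.injective.comp (Fin.castAdd_injective _ _))
      simp only [IsShuffle₃, IsShuffle₂, Equiv.Perm.mul_apply, E1, E2]
      rw [mono_comp_iff hs (fun i => σ (Fin.castAdd s i)), mono_comp_iff hs (fun j => σ (Fin.natAdd r j))]
      exact ⟨fun ⟨a, b, c⟩ => ⟨⟨hm, c⟩, a, b⟩, fun ⟨⟨_, c⟩, a, b⟩ => ⟨a, b, c⟩⟩
  · let c := finCongr (Nat.add_assoc r s t)
    let f : Fin (s + t) → Fin (r + s + t) := fun j => c.symm (Fin.natAdd r j)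
    have hf : Function.Injective f := c.symm.injective.comp (Fin.natAdd_injective _ _)
    have E1 : ∀ (σ : Equiv.Perm (Fin (s + t))) j, W4c2movlemaddchow.extLeft r s t σ (f j) = f (σ j) := fun σ j => by
      apply Fin.ext
      simp [W4c2movlemaddchow.extLeft, Equiv.permCongr_apply, f, c]
    have E2 : ∀ (σ : Equiv.Perm (Fin (s + t))) i, W4c2movlemaddchow.extLeft r s t σ (c.symm (Fin.castAdd (s + t) i)) = c.symm (Fin.castAdd (s + t) i) := fun σ i => by
      apply Fin.ext
      simp [W4c2movlemaddchow.extLeft, Equiv.permCongr_apply, c]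
    refine sum_split f hf _ E1 ?_ ?_ _ _ _ ?_ ?_
    · intro σ x hx
      obtain ⟨y, rfl⟩ := c.symm.surjective x
      induction y using Fin.addCases with
      | left i => exact E2 σ i
      | right l => exact absurd ⟨l, rfl⟩ hx
    · intro σ; simp [W4c2movlemaddchow.extLeft, Equiv.Perm.sign_sumCongr]
    · intro τ h a b hab
      have := h.2 hab
      exact this
    · intro τ σ hm
      have hs := hm.strictMono_of_injective (τ.injective.comp hf)
      have q1 : ∀ i : Fin r, (Fin.castAdd t (Fin.castAdd s i) : Fin (r + s + t)) = c.symm (Fin.castAdd (s + t) i) := fun i => Fin.ext (by simp [c])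
      have q2 : ∀ j : Fin s, (Fin.castAdd t (Fin.natAdd r j) : Fin (r + s + t)) = f (Fin.castAdd t j) := fun i => Fin.ext (by simp [c, f])
      have q3 : ∀ l : Fin t, (Fin.natAdd (r + s) l : Fin (r + s + t)) = f (Fin.natAdd s l) := fun i => Fin.ext (by simp [c, f]; omega)
      simp only [IsShuffle₃, IsShuffle₂, Equiv.Perm.mul_apply, q1, q2, q3, E1, E2]
      rw [mono_comp_iff hs (fun j => σ (Fin.castAdd t j)), mono_comp_iff hs (fun j => σ (Fin.natAdd s j))]
      exact ⟨fun ⟨a, b, d⟩ => ⟨⟨a, hm⟩, b, d⟩, fun ⟨⟨a, _⟩, b, d⟩ => ⟨a, b, d⟩⟩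

end Groth.Agent.S15082
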