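import Groth.Statements.S15083
import Mathlib

set_option autoImplicit false
universe u
open MovLem

namespace Groth.Agent.S15083

open Matrix in
theorem sl_pair {n : Type*} [Fintype n] [DecidableEq n] {K : Type*} [Field K] {i j : n}
    (hij : i ≠ j) (t : K) (ht : t ≠ 0) :
    transvection i j t * (transvection j i (-t⁻¹) * (transvection i j t *
      (transvection i j (-1) * (transvection j i 1 * (transvection i j (-1) * 1))))) =
      diagonal (fun a => if a = i then t else if a = j then t⁻¹ else 1) := by
  refine Matrix.ext fun a b => ?_
  by_cases hai : a = i
  · subst hai
    simp only [transvection_mul_apply_same, transvection_mul_apply_of_ne a j j b hij.symm,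
      transvection_mul_apply_of_ne j a a b hij, one_apply, diagonal_apply, if_true]
    by_cases hb : a = b
    · subst hb; simp only [if_true, if_neg hij.symm]; field_simp; ring
    · by_cases hb' : j = b
      · subst hb'; simp only [if_true, if_neg hij]; field_simp; ring
      · simp only [if_neg hb, if_neg hb']; ring
  · by_cases haj : a = j
    · subst haj
      simp only [transvection_mul_apply_same, transvection_mul_apply_of_ne i a a b hai,
        transvection_mul_apply_of_ne a i i b (Ne.symm hai), one_apply, diagonal_apply, if_true,
        if_neg hai]
      by_cases hb : a = b
      · subst hb; simp only [if_true, if_neg hij]; field_simp; ring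
      · by_cases hb' : i = b
        · subst hb'; simp only [if_true, if_neg hai]; field_simp; ring
        · simp only [if_neg hb, if_neg hb']; ring
    · simp only [transvection_mul_apply_of_ne i j a b hai, transvection_mul_apply_of_ne j i a b haj,
        one_apply, diagonal_apply, if_neg hai, if_neg haj]

open Matrix Polynomial in
theorem sl_path {n : Type*} [Fintype n] [DecidableEq n] {K : Type*} [Field K] (M : Matrix n n K)
    (hM : M.det = 1) : ∃ N : Matrix n n K[X], N.det = 1 ∧
      N.map (Polynomial.eval 0) = 1 ∧ N.map (Polynomial.eval 1) = M := by
  classical
  let P : Matrix n n K → Prop := fun M => ∃ N : Matrix n n K[X], N.det = 1 ∧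
      (evalRingHom (0:K)).mapMatrix N = 1 ∧ (evalRingHom (1:K)).mapMatrix N = M
  have hmul : ∀ A B, P A → P B → P (A * B) := by
    rintro A B ⟨N, a, b, c⟩ ⟨N', a', b', c'⟩
    exact ⟨N * N', by simp [a, a'], by rw [map_mul, b, b', mul_one], by rw [map_mul, c, c']⟩
  have htr : ∀ (i j : n), i ≠ j → ∀ c : K, P (transvection i j c) := by
    intro i j hij c
    refine ⟨transvection i j (C c * X), det_transvection_of_ne i j hij _, ?_, ?_⟩
    · refine Matrix.ext fun a b => ?_
      simp [transvection, Matrix.single, Matrix.one_apply]
      split_ifs <;> simp
    · refine Matrix.ext fun a b => ?_
      simp [transvection, Matrix.single, Matrix.one_apply]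
      split_ifs <;> simp
  have hone : P 1 := ⟨1, by simp, map_one _, map_one _⟩
  have hdiag : ∀ k, ∀ D : n → K, (∏ i, D i) = 1 →
      (Finset.univ.filter fun i => D i ≠ 1).card ≤ k → P (diagonal D) := by
    classical
    intro k
    induction k with
    | zero =>
      intro D _ hD
      have h : D = 1 := by
        funext i
        by_contra h
        simp only [nonpos_iff_eq_zero, Finset.card_eq_zero] at hD
        have : i ∈ Finset.univ.filter fun i => D i ≠ 1 := by simpa using h
        simp [hD] at this
      simpa [h] using hone
    | succ k ih =>
      intro D hprod hD
      by_cases hall : ∀ i, D i = 1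
      · rw [show D = 1 from funext hall]; simpa using hone
      push Not at hall
      obtain ⟨i, hi⟩ := hall
      obtain ⟨j, hji, hj⟩ : ∃ j, j ≠ i ∧ D j ≠ 1 := by
        by_contra h
        push Not at h
        apply hi
        rw [← hprod, Finset.prod_eq_single i (fun j _ hj => h j hj) (by simp)]
      have hne : D i ≠ 0 := by
        intro h0
        rw [Finset.prod_eq_zero (Finset.mem_univ i) h0] at hprod
        exact zero_ne_one hprod
      set t := D i
      set D' : n → K := Function.update (Function.update D i 1) j (D j * t) with hD'
      set T : n → K := Function.update (Function.update 1 i t) j t⁻¹ with hT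
      have hTD : D = T * D' := by
        funext a
        by_cases ha : a = j
        · subst ha; simp [hT, hD', mul_comm (D a) t, hne]
        · by_cases ha' : a = i
          · subst ha'; simp [hT, hD', ha, t]
          · simp [hT, hD', ha, ha']
      have hTprod : ∏ a, T a = 1 := by
        rw [← Finset.mul_prod_erase Finset.univ T (Finset.mem_univ i),
          ← Finset.mul_prod_erase (Finset.univ.erase i) T
            (Finset.mem_erase.2 ⟨hji, Finset.mem_univ j⟩),
          Finset.prod_eq_one fun a ha => ?_]
        · simp [hT, hji.symm, hne]
        · simp only [Finset.mem_erase] at ha
          simp [hT, ha.1, ha.2.1]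
      have hcard : (Finset.univ.filter fun a => D' a ≠ 1).card ≤ k := by
        have : (Finset.univ.filter fun a => D' a ≠ 1) ⊆
            (Finset.univ.filter fun a => D a ≠ 1).erase i := by
          intro a
          simp only [Finset.mem_filter, Finset.mem_erase, Finset.mem_univ, true_and]
          intro ha
          refine ⟨fun h => ha (by subst h; simp [hD', hji.symm]), ?_⟩
          by_cases haj : a = j
          · subst haj; exact hj
          · by_cases hai : a = i
            · subst hai; exact hi
            · simpa [hD', haj, hai] using ha
        have h2 := Finset.card_le_card this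
        rw [Finset.card_erase_of_mem (by simpa using hi)] at h2
        omega
      have hD'prod : ∏ a, D' a = 1 := by
        rw [hTD] at hprod
        simpa [Finset.prod_mul_distrib, hTprod] using hprod
      have hTP : P (diagonal T) := by
        have e : diagonal T = transvection i j t * (transvection j i (-t⁻¹) * (transvection i j t *
            (transvection i j (-1) * (transvection j i 1 * (transvection i j (-1) * 1))))) := by
          rw [sl_pair hji.symm t hne]
          congr 1
          funext a
          rw [hT]
          by_cases ha : a = j
          · subst ha; simp [hji]
          · by_cases ha' : a = i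
            · subst ha'; simp [ha]
            · simp [ha, ha']
        rw [e]
        exact hmul _ _ (htr i j hji.symm _) (hmul _ _ (htr j i hji _) (hmul _ _ (htr i j hji.symm _)
          (hmul _ _ (htr i j hji.symm _) (hmul _ _ (htr j i hji _)
            (hmul _ _ (htr i j hji.symm _) hone)))))
      rw [hTD, show diagonal (T * D') = diagonal T * diagonal D' from
        (diagonal_mul_diagonal T D').symm]
      exact hmul _ _ hTP (ih D' hD'prod hcard)
  exact Matrix.diagonal_transvection_induction P M
    (fun D hD => hdiag _ D (by rw [det_diagonal] at hD; rw [hD, hM]) le_rfl)
    (fun t => htr t.i t.j t.hij t.c) hmul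

/-- Let K be a field and r ≥ 1. For every element A of the special linear group SL_{r+1}(K) there is an
algebraic path in SL_{r+1} from the identity to A defined over K: a matrix M of determinant 1 with
entries in the polynomial ring K[y] such that M(0) is the identity matrix and M(1) = A. (The
published statement takes K to be the function field of SL_{r+1} over the ground field, A its
generic point viewed as a K-rational point, and the parameter space to be the projective line minus
the point 1, with endpoints 0 and ∞; this row gives the path for an arbitrary K-point A on the
affine line with endpoints 0 and 1, which is what the published construction provides before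
composing with the coordinate change y ↦ y/(y − 1).) -/
theorem result
    (K : Type u) [Field K] (r : ℕ) (hr : 1 ≤ r)
    (A : Matrix.SpecialLinearGroup (Fin (r + 1)) K) :
    ∃ M : Matrix.SpecialLinearGroup (Fin (r + 1)) (Polynomial K),
      Matrix.SpecialLinearGroup.map (Polynomial.evalRingHom (0 : K)) M = 1 ∧
      Matrix.SpecialLinearGroup.map (Polynomial.evalRingHom (1 : K)) M = A := by
  obtain ⟨N, hd, h0, h1⟩ := sl_path A.1 A.2
  exact ⟨⟨N, hd⟩, Subtype.ext (Matrix.ext fun a b => congrFun (congrFun h0 a) b),
    Subtype.ext (Matrix.ext fun a b => congrFun (congrFun h1 a) b)⟩

end Groth.Agent.S15083
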