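import Groth.Statements.S15084
import Mathlib

set_option autoImplicit false
universe u
open MovLem

namespace Groth.Agent.S15084

/-- denominators of `z` -/
def denom (A : Type*) {K : Type*} [CommRing A] [Field K] [Algebra A K] (z : K) : Ideal A where
  carrier := {x | algebraMap A K x * z ∈ (algebraMap A K).range}
  add_mem' {x y} hx hy := by
    simp only [Set.mem_setOf_eq, map_add, add_mul] at *
    exact add_mem hx hy
  zero_mem' := ⟨0, by simp⟩
  smul_mem' r x hx := by
    simp only [Set.mem_setOf_eq, smul_eq_mul, map_mul, mul_assoc] at *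
    exact mul_mem ⟨r, rfl⟩ hx

/-- Let A be a Noetherian integrally closed domain with fraction field K, let B be a domain with
fraction field L, and let A → B be an injective ring homomorphism, with K → L the induced map of
fraction fields, such that Spec B → Spec A is surjective (every prime ideal of A is the contraction
of a prime ideal of B). If a ∈ K is such that its image in L lies in B, then a ∈ A. (The published
statement: for a surjective morphism f : Y → X of normal integral separated schemes of finite type
over a perfect field and a Cartier divisor D on X, if f^*D is effective then D is effective; a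
Cartier divisor is locally the divisor of a nonzero rational function a, effectivity of div(a) on a
normal scheme means that a is a regular function, and this row is that local statement, which is
what the published proof establishes.) -/
theorem result
    (A B K L : Type u) [CommRing A] [IsDomain A] [IsNoetherianRing A] [IsIntegrallyClosed A]
    [CommRing B] [IsDomain B] [Field K] [Field L]
    [Algebra A B] [Algebra A K] [IsFractionRing A K] [Algebra B L] [IsFractionRing B L]
    [Algebra K L] [Algebra A L] [IsScalarTower A K L] [IsScalarTower A B L]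
    (hinj : Function.Injective (algebraMap A B))
    (hsurj : ∀ p : Ideal A, p.IsPrime → ∃ q : Ideal B, q.IsPrime ∧ q.comap (algebraMap A B) = p)
    (a : K) (ha : algebraMap K L a ∈ (algebraMap B L).range) :
    a ∈ (algebraMap A K).range := by
  by_contra hne
  let P : K → Prop := fun z => z ∉ (algebraMap A K).range ∧ algebraMap K L z ∈ (algebraMap B L).range
  obtain ⟨p, ⟨z, ⟨hz, ⟨β, hβ⟩⟩, rfl⟩, hmax⟩ := set_has_maximal_iff_noetherian.2 inferInstance
    {I : Ideal A | ∃ z, P z ∧ denom A z = I} ⟨_, a, ⟨hne, ha⟩, rfl⟩
  have hp : (denom A z).IsPrime := by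
    refine ⟨fun htop => hz ?_, fun {x y} hxy => ?_⟩
    · simpa [denom] using (htop ▸ Submodule.mem_top : (1 : A) ∈ denom A z)
    · by_contra hc
      push Not at hc
      have hP : P (algebraMap A K y * z) := by
        refine ⟨hc.2, ⟨algebraMap A B y * β, ?_⟩⟩
        rw [map_mul, map_mul, hβ, ← IsScalarTower.algebraMap_apply A B L, ← IsScalarTower.algebraMap_apply A K L]
      have hle : denom A z ≤ denom A (algebraMap A K y * z) := fun w hw => by
        obtain ⟨v, hv⟩ := hw
        exact ⟨y * v, by rw [map_mul, hv]; ring⟩
      refine hmax _ ⟨_, hP, rfl⟩ (lt_of_le_of_ne hle fun he => hc.1 ?_)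
      rw [he]
      obtain ⟨v, hv⟩ := hxy
      exact ⟨v, by rw [hv, map_mul]; ring⟩
  obtain ⟨q, hq, hqp⟩ := hsurj _ hp
  have hstab : ∀ x ∈ denom A z, ∃ v ∈ denom A z, algebraMap A K v = algebraMap A K x * z := by
    rintro x ⟨v, hv⟩
    refine ⟨v, ?_, hv⟩
    have hvB : algebraMap A B v = algebraMap A B x * β := by
      refine IsFractionRing.injective B L ?_
      rw [map_mul, hβ, ← IsScalarTower.algebraMap_apply, ← IsScalarTower.algebraMap_apply,
        IsScalarTower.algebraMap_apply A K L, IsScalarTower.algebraMap_apply A K L, hv, map_mul]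
    rw [← hqp, Ideal.mem_comap, hvB]
    exact Ideal.mul_mem_right _ _ (Ideal.mem_comap.1 (hqp.symm ▸ (⟨v, hv⟩ : x ∈ denom A z)))
  refine hz (IsIntegrallyClosed.isIntegral_iff.1 ?_)
  refine isIntegral_of_smul_mem_submodule (Submodule.map (Algebra.linearMap A K) (denom A z)) ?_
    ((IsNoetherian.noetherian _).map _) z ?_
  · obtain ⟨⟨n, d⟩, hnd⟩ := IsLocalization.surj (nonZeroDivisors A) z
    intro h0
    have hd : algebraMap A K d ∈ Submodule.map (Algebra.linearMap A K) (denom A z) :=
      ⟨d, ⟨n, by rw [← hnd, mul_comm]⟩, rfl⟩
    rw [h0, Submodule.mem_bot] at hd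
    exact nonZeroDivisors.ne_zero d.2 (IsFractionRing.injective A K (hd.trans (map_zero _).symm))
  · rintro _ ⟨x, hx, rfl⟩
    obtain ⟨v, hv, hv'⟩ := hstab x hx
    exact ⟨v, hv, by rw [Algebra.linearMap_apply, hv', smul_eq_mul, Algebra.linearMap_apply, mul_comm]⟩

end Groth.Agent.S15084
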