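import Groth.Statements.S15085
import Groth.Agent.DimLiftLib.Basic
import Groth.Agent.DualCxLib.GorFibres
import Groth.Agent.S10830

set_option autoImplicit false
universe u
open CategoryTheory CategoryTheory.Limits AlgebraicGeometry
open MovLem

namespace Groth.Agent.S15085

open CategoryTheory CategoryTheory.Limits AlgebraicGeometry

open Groth.Agent
set_option backward.isDefEq.respectTransparency false

/-- Let k be a field, X an affine scheme of finite type over k which is equidimensional (all irreducible
components have the same dimension), B̂ a proper smooth geometrically integral k-scheme and B ⊆ B̂ a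
nonempty affine open subscheme. Let Z be an integral closed subscheme of X ×_k B of dimension dim X
(that is, of codimension dim B, the product X ×_k B being equidimensional of dimension dim X + dim
B). Then the projection Z → X is finite and maps Z onto an irreducible component of X if and only if
Z is closed in X ×_k B̂. (The published statement allows X to be essentially of finite type, i.e.
also a localization of such a scheme at finitely many points, takes B̂ projective of positive
dimension, and phrases the dimension condition as codimension dim B; this row is the finite-type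
case with properness in place of projectivity.) -/
theorem result
    {k : Type u} [Field k] {X Bhat Z : Scheme.{u}}
    (sX : X ⟶ Spec (CommRingCat.of k)) (sB : Bhat ⟶ Spec (CommRingCat.of k))
    [IsAffine X] [LocallyOfFiniteType sX]
    (hXeq : ∀ T ∈ irreducibleComponents (X : Type u), topologicalKrullDim T = topologicalKrullDim X)
    [IsProper sB] [Smooth sB] [GeometricallyIntegral sB]
    (B : Bhat.Opens) (hB : IsAffineOpen B) (hBne : (B : Set Bhat).Nonempty)
    [IsIntegral Z] (ι : Z ⟶ ((pullback.snd sX sB) ⁻¹ᵁ B).toScheme) [IsClosedImmersion ι]
    (hZ : topologicalKrullDim Z = topologicalKrullDim X)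
    (j : Z ⟶ pullback sX sB) (hj : j = ι ≫ ((pullback.snd sX sB) ⁻¹ᵁ B).ι) :
    (IsFinite (j ≫ pullback.fst sX sB) ∧
        Set.range (j ≫ pullback.fst sX sB).base ∈ irreducibleComponents (X : Type u)) ↔
      IsClosed (Set.range j.base) := by
  subst hj
  haveI : IsSeparated (pullback.fst sX sB) := inferInstance
  set j := ι ≫ ((pullback.snd sX sB) ⁻¹ᵁ B).ι with hjdef
  set f := j ≫ pullback.fst sX sB with hfdef
  constructor
  · rintro ⟨hfin, -⟩
    haveI : IsFinite (j ≫ pullback.fst sX sB) := hfin
    haveI : IsProper j := IsProper.of_comp j (pullback.fst sX sB)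
    exact j.isClosedMap.isClosed_range
  · intro hcl
    haveI : IsClosedImmersion j := IsClosedImmersion.of_isPreimmersion j hcl
    haveI : IsProper f := by rw [hfdef]; infer_instance
    haveI : IsAffine B.toScheme := hB
    haveI : IsAffine ((pullback.snd sX sB) ⁻¹ᵁ B).toScheme :=
      IsAffine.of_isIso ((pullbackRestrictIsoRestrict (pullback.snd sX sB) B).inv ≫
        (pullbackLeftPullbackSndIso sX sB B.ι).hom)
    haveI : IsAffine Z := isAffine_of_isAffineHom ι
    haveI : IsAffineHom f := isAffineHom_of_isAffine f
    haveI hfin : IsFinite f := IsFinite.iff_isProper_and_isAffineHom.2 ⟨inferInstance, inferInstance⟩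
    refine ⟨hfin, ?_⟩
    -- the image is closed, irreducible, of full dimension
    set T := Set.range f.base
    have hTc : IsClosed T := f.isClosedMap.isClosed_range
    have hTi : IsIrreducible T := by
      rw [show T = f.base '' Set.univ from Set.image_univ.symm]
      exact (IrreducibleSpace.isIrreducible_univ ↥Z).image _ f.continuous.continuousOn
    obtain ⟨C, hC, hTC⟩ := exists_mem_irreducibleComponents_subset_of_isIrreducible T hTi
    suffices T = C by rwa [this]
    haveI : IsIntegralHom f.toImage := MorphismProperty.of_postcomp (W := @IsIntegralHom) (W' := @IsSeparated)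
      f.toImage f.imageι inferInstance (by rw [Scheme.Hom.toImage_imageι]; infer_instance)
    have hsurj : Function.Surjective f.toImage.base := by
      rw [← Set.range_eq_univ, ← f.toImage.isClosedMap.isClosed_range.closure_eq]
      exact f.toImage.denseRange.closure_eq
    have hrange : Set.range f.imageι.base = T := by
      show _ = Set.range f.base
      conv_rhs => rw [← Scheme.Hom.toImage_imageι f, Scheme.Hom.comp_base, TopCat.coe_comp, hsurj.range_comp]
    have hdim1 : topologicalKrullDim Z ≤ topologicalKrullDim T := by
      refine (DimLiftLib.le_of_isIntegralHom f.toImage).trans_eq ?_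
      rw [IsHomeomorph.topologicalKrullDim_eq _
        ((f.imageι.isEmbedding.toHomeomorph).trans (Homeomorph.setCongr hrange)).isHomeomorph]
    by_contra hne
    haveI : IrreducibleSpace C := Subtype.irreducibleSpace hC.1
    have hfinite : topologicalKrullDim X ≠ ⊤ := by
      letI : Algebra k Γ(X, ⊤) := ((Scheme.ΓSpecIso (CommRingCat.of k)).inv ≫ sX.appTop).hom.toAlgebra
      haveI : Algebra.FiniteType k Γ(X, ⊤) := by
        show RingHom.FiniteType ((Scheme.ΓSpecIso (CommRingCat.of k)).inv ≫ sX.appTop).hom
        rw [CommRingCat.hom_comp]
        exact (show sX.appTop.hom.FiniteType from (HasRingHomProperty.iff_of_isAffine (P := @LocallyOfFiniteType)).1 inferInstance).comp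
          (RingHom.FiniteType.of_surjective _ (Scheme.ΓSpecIso (CommRingCat.of k)).commRingCatIsoToRingEquiv.symm.surjective)
      obtain ⟨N, hN⟩ := DualCxLib.exists_ringKrullDim_le_of_finiteType k Γ(X, ⊤)
      rw [IsHomeomorph.topologicalKrullDim_eq _ X.isoSpec.hom.homeomorph.isHomeomorph]
      show topologicalKrullDim (PrimeSpectrum Γ(X, ⊤)) ≠ ⊤
      rw [PrimeSpectrum.topologicalKrullDim_eq_ringKrullDim]
      intro e
      rw [e] at hN
      simp at hN
      exact absurd hN (WithBot.coe_inj.not.2 (ENat.natCast_ne_top N))
    have hcpre : IsClosed (Subtype.val ⁻¹' T : Set C) := hTc.preimage continuous_subtype_val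
    have hlt := S10830.result C (by rw [hXeq C hC]; exact hfinite) _ hcpre (fun e => hne (hTC.antisymm fun c hc => by
      have : (⟨c, hc⟩ : C) ∈ (Subtype.val ⁻¹' T : Set C) := by rw [e]; trivial
      exact this))
    have heq : topologicalKrullDim (Subtype.val ⁻¹' T : Set C) = topologicalKrullDim T := by
      refine IsHomeomorph.topologicalKrullDim_eq (fun x => (⟨x.1.1, x.2⟩ : T)) ?_
      refine (isHomeomorph_iff_exists_homeomorph).2 ⟨
        { toFun := fun x => ⟨x.1.1, x.2⟩
          invFun := fun y => ⟨⟨y.1, hTC y.2⟩, y.2⟩
          left_inv := fun _ => rfl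
          right_inv := fun _ => rfl
          continuous_toFun := by fun_prop
          continuous_invFun := by fun_prop }, rfl⟩
    rw [heq, hXeq C hC, ← hZ] at hlt
    exact absurd hdim1 (not_le.2 hlt)


end Groth.Agent.S15085
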