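import Groth.Statements.S15086
import Groth.Agent.FinPointCount.Basic

set_option autoImplicit false
universe u
open CategoryTheory CategoryTheory.Limits AlgebraicGeometry
open MovLem
open scoped TensorProduct

namespace Groth.Agent.S15086

/-- Let k be an infinite perfect field with algebraic closure k̄, let φ : X → Y be a finite morphism of
k-schemes locally of finite type, let x be a closed point of X and y = φ(x). Let π_X : X_{k̄} → X
and π_Y : Y_{k̄} → Y be the base-change projections and φ_{k̄} : X_{k̄} → Y_{k̄} the induced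
morphism. Then the number of points of π_Y⁻¹(y) is at most the number of points of π_X⁻¹(x);
equality holds if and only if the residue field extension k(y) → k(x) is an isomorphism; and
equality holds whenever φ_{k̄} is injective on π_X⁻¹(x). (Cardinalities are taken in ℕ ∪ {∞}; both
fibres are in fact finite.) -/
theorem result
    {k : Type u} [Field k] [Infinite k] [PerfectField k] {X Y : Scheme.{u}}
    (sX : X ⟶ Spec (CommRingCat.of k)) (sY : Y ⟶ Spec (CommRingCat.of k))
    [LocallyOfFiniteType sX] [LocallyOfFiniteType sY]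
    (φ : X ⟶ Y) (hφ : φ ≫ sY = sX) [IsFinite φ]
    (i : Spec (CommRingCat.of (AlgebraicClosure k)) ⟶ Spec (CommRingCat.of k))
    (hi : i = Spec.map (CommRingCat.ofHom (algebraMap k (AlgebraicClosure k))))
    (φbar : pullback sX i ⟶ pullback sY i)
    (h1 : φbar ≫ pullback.fst sY i = pullback.fst sX i ≫ φ)
    (h2 : φbar ≫ pullback.snd sY i = pullback.snd sX i)
    (x : X) (hx : IsClosed ({x} : Set X)) :
    ((pullback.fst sY i).base ⁻¹' {φ.base x}).encard ≤ ((pullback.fst sX i).base ⁻¹' {x}).encard ∧
      (((pullback.fst sY i).base ⁻¹' {φ.base x}).encard = ((pullback.fst sX i).base ⁻¹' {x}).encard ↔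
          Function.Bijective (φ.residueFieldMap x).hom) ∧
      (Set.InjOn φbar.base ((pullback.fst sX i).base ⁻¹' {x}) →
        ((pullback.fst sY i).base ⁻¹' {φ.base x}).encard = ((pullback.fst sX i).base ⁻¹' {x}).encard) := by
  classical
  subst hi
  let Ω := AlgebraicClosure k
  let i := Spec.map (CommRingCat.ofHom (algebraMap k Ω))
  have key : ∀ {Z : Scheme.{u}} (sZ : Z ⟶ Spec (CommRingCat.of k)) [LocallyOfFiniteType sZ] (z : Z)
      (hz : IsClosed ({z} : Set Z)) (ψ : CommRingCat.of k ⟶ Z.residueField z),
      Spec.map ψ = Z.fromSpecResidueField z ≫ sZ →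
      (letI := ψ.hom.toAlgebra; Module.Finite k (Z.residueField z)) ∧
      ((pullback.fst sZ i) ⁻¹' {z}).encard =
        ((letI := ψ.hom.toAlgebra; Module.finrank k (Z.residueField z) : ℕ) : ℕ∞) := by
    intro Z sZ _ z hz ψ hψ
    letI := ψ.hom.toAlgebra
    haveI : IsClosedImmersion (Z.fromSpecResidueField z) := isClosed_singleton_iff_isClosedImmersion.mp hz
    haveI : LocallyOfFiniteType (Spec.map ψ) := by rw [hψ]; infer_instance
    haveI : Algebra.FiniteType k (Z.residueField z) :=
      (HasRingHomProperty.Spec_iff (P := @LocallyOfFiniteType)).mp ‹LocallyOfFiniteType (Spec.map ψ)›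
    haveI : Module.Finite k (Z.residueField z) := finite_of_finite_type_of_isJacobsonRing k _
    refine ⟨inferInstance, ?_⟩
    haveI : Algebra.IsAlgebraic k (Z.residueField z) := Algebra.IsAlgebraic.of_finite k _
    haveI : Algebra.IsSeparable k (Z.residueField z) := inferInstance
    rw [← Field.finSepDegree_eq_finrank_of_isSeparable k (Z.residueField z),
      Field.finSepDegree_eq_of_isAlgClosed k (Z.residueField z) Ω,
      ← Groth.Agent.FinPointCount.card_primeSpectrum_tensor k (Z.residueField z) Ω]
    let ι := Z.fromSpecResidueField z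
    let q := pullback.snd ι (pullback.fst sZ i)
    have hr : Set.range q = (pullback.fst sZ i) ⁻¹' {z} := by
      rw [Scheme.Pullback.range_snd, Scheme.range_fromSpecResidueField]
    rw [← hr, ← Set.image_univ, q.isEmbedding.injective.encard_image, Set.encard_univ]
    let e : pullback ι (pullback.fst sZ i) ≅ Spec (CommRingCat.of (Z.residueField z ⊗[k] Ω)) :=
      pullbackRightPullbackFstIso sZ i ι ≪≫
        pullback.congrHom (show ι ≫ sZ = Spec.map (CommRingCat.ofHom (algebraMap k (Z.residueField z))) from hψ.symm) rfl ≪≫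
        pullbackSpecIso k (Z.residueField z) Ω
    haveI : Module.Finite Ω (Ω ⊗[k] Z.residueField z) := inferInstance
    haveI : IsArtinianRing (Ω ⊗[k] Z.residueField z) := IsArtinianRing.of_finite Ω _
    haveI : Finite (PrimeSpectrum (Ω ⊗[k] Z.residueField z)) := inferInstance
    rw [ENat.card_congr (e.hom.homeomorph.toEquiv.trans
      (PrimeSpectrum.comapEquiv (Algebra.TensorProduct.comm k (Z.residueField z) Ω).toRingEquiv).toEquiv)]
    exact ENat.card_eq_coe_natCard _
  let y := φ x
  have hy : IsClosed ({y} : Set Y) := by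
    have := φ.isClosedMap _ hx
    rwa [Set.image_singleton] at this
  let ψY : CommRingCat.of k ⟶ Y.residueField y := Spec.preimage (Y.fromSpecResidueField y ≫ sY)
  have hψY : Spec.map ψY = Y.fromSpecResidueField y ≫ sY := Spec.map_preimage _
  let ψX : CommRingCat.of k ⟶ X.residueField x := ψY ≫ φ.residueFieldMap x
  have hψX : Spec.map ψX = X.fromSpecResidueField x ≫ sX := by
    rw [Spec.map_comp, hψY, ← hφ, Scheme.Hom.SpecMap_residueFieldMap_fromSpecResidueField_assoc]
  obtain ⟨hfy, hcy⟩ := key sY y hy ψY hψY
  obtain ⟨hfx, hcx⟩ := key sX x hx ψX hψX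
  letI := ψY.hom.toAlgebra
  letI := ψX.hom.toAlgebra
  let l : Y.residueField y →ₐ[k] X.residueField x :=
    { (φ.residueFieldMap x).hom with commutes' := fun _ => rfl }
  have hle : Module.finrank k (Y.residueField y) ≤ Module.finrank k (X.residueField x) :=
    LinearMap.finrank_le_finrank_of_injective (f := l.toLinearMap) l.toRingHom.injective
  have hiff : Module.finrank k (Y.residueField y) = Module.finrank k (X.residueField x) ↔
      Function.Bijective (φ.residueFieldMap x).hom := by
    refine ⟨fun h => ⟨l.toRingHom.injective, ?_⟩, fun h => ?_⟩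
    · exact (LinearMap.injective_iff_surjective_of_finrank_eq_finrank h (f := l.toLinearMap)).mp l.toRingHom.injective
    · exact (LinearEquiv.ofBijective l.toLinearMap h).finrank_eq
  have h0 : ((pullback.fst sY i) ⁻¹' {y}).encard ≤ ((pullback.fst sX i) ⁻¹' {x}).encard := by
    rw [hcx, hcy]; exact_mod_cast hle
  refine ⟨h0, ?_, fun hinj => le_antisymm h0 ?_⟩
  · show ((pullback.fst sY i) ⁻¹' {y}).encard = ((pullback.fst sX i) ⁻¹' {x}).encard ↔ _
    rw [hcx, hcy, Nat.cast_inj, hiff]
  · rw [← hinj.encard_image]
    refine Set.encard_le_encard ?_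
    rintro _ ⟨w, hw, rfl⟩
    show pullback.fst sY i (φbar w) = φ x
    rw [← Scheme.Hom.comp_apply, h1, Scheme.Hom.comp_apply]
    exact congrArg φ hw

end Groth.Agent.S15086
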