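import Groth.Statements.S15087
import Groth.Agent.MovTransLib.Basic

set_option autoImplicit false
universe u v w
open MovLem
open scoped TensorProduct

namespace Groth.Agent.S15087

/-- Let k be an infinite perfect field, r, m, s ≥ 1 and d ≥ 0, and put N = s(m+1). In affine space with
coordinates x_1, …, x_r, t, y_1, …, y_d (the cube of dimension d taken as affine d-space with faces
given by setting some coordinates equal to 0 or 1), let Z = V(I) be an integral closed subscheme of
dimension r which does not meet the hyperplane t = 0 and which meets every face {y_i = ε_i for i ∈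
S} (S nonempty, ε_i ∈ {0, 1}) in dimension at most r − |S|. Let Σ be a finite set of closed points
of affine r-space over k. Then there is a nonzero polynomial h in k[g_1, …, g_r] such that for every
field K over k and every g ∈ K^r with h(g) ≠ 0, the translate of Z_K by x ↦ x + t^N g meets no set
{x ∈ Σ} × A^1 × F with F a proper face: for every field L over K, every point ξ of affine r-space
over L lying on a point of Σ, every t ∈ L and every y ∈ L^d lying on a proper face, the point (ξ +
t^N g, t, y) is not a zero of I. (The published statement assumes that Z is an irreducible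
admissible additive cycle meeting the faces through Σ properly; the two consequences of
admissibility that its proof uses — Z misses t = 0, and Z meets all faces properly — are the
hypotheses here, and the dense open subset of affine r-space is given as the locus h ≠ 0.) -/
theorem result
    {k : Type u} [Field k] [Infinite k] [PerfectField k] (r m s d : ℕ) (hr : 1 ≤ r) (hm : 1 ≤ m) (hs : 1 ≤ s)
    (I : Ideal (MvPolynomial (Fin r ⊕ (Unit ⊕ Fin d)) k)) (hI : I.IsPrime)
    (hdim : ringKrullDim (MvPolynomial (Fin r ⊕ (Unit ⊕ Fin d)) k ⧸ I) = r)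
    (ht0 : I ⊔ Ideal.span {MvPolynomial.X (Sum.inr (Sum.inl ()))} = ⊤)
    (hface : ∀ (S : Finset (Fin d)), S.Nonempty → ∀ (ε : Fin d → k), (∀ i, ε i = 0 ∨ ε i = 1) →
      ringKrullDim (MvPolynomial (Fin r ⊕ (Unit ⊕ Fin d)) k ⧸
        (I ⊔ Ideal.span ((fun i => MvPolynomial.X (Sum.inr (Sum.inr i)) - MvPolynomial.C (ε i)) '' (S : Set (Fin d))))) ≤ (r - S.card : ℕ))
    (Sigma : Finset (Ideal (MvPolynomial (Fin r) k))) (hSigma : ∀ P ∈ Sigma, P.IsMaximal) :
    ∃ h : MvPolynomial (Fin r) k, h ≠ 0 ∧
      ∀ (K : Type v) [Field K] [Algebra k K] (g : Fin r → K), MvPolynomial.aeval g h ≠ 0 →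
        ∀ (L : Type w) [Field L] [Algebra k L] [Algebra K L] [IsScalarTower k K L]
          (ξ : Fin r → L) (t : L) (y : Fin d → L),
          ∀ P ∈ Sigma, (∀ p ∈ P, MvPolynomial.aeval ξ p = 0) →
            ∀ (S : Finset (Fin d)), S.Nonempty → ∀ (ε : Fin d → k), (∀ i, ε i = 0 ∨ ε i = 1) →
              (∀ i ∈ S, y i = algebraMap k L (ε i)) →
                ¬ (∀ q ∈ I, MvPolynomial.aeval
                    (Sum.elim (fun i => ξ i + t ^ (s * (m + 1)) * algebraMap K L (g i))
                      (Sum.elim (fun _ : Unit => t) y)) q = 0) := by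
  classical
  let σ := Fin r ⊕ (Unit ⊕ Fin d)
  let tt : MvPolynomial σ k := MvPolynomial.X (Sum.inr (Sum.inl ()))
  let N := s * (m + 1)
  let εf : (Fin d → Bool) → (Fin d → k) := fun b i => if b i then 1 else 0
  let J : Finset (Fin d) → (Fin d → Bool) → Ideal (MvPolynomial σ k) := fun S b =>
    I ⊔ Ideal.span ((fun i => MvPolynomial.X (Sum.inr (Sum.inr i)) - MvPolynomial.C (εf b i)) '' (S : Set (Fin d)))
  have key : ∀ (P : Ideal (MvPolynomial (Fin r) k)) (S : Finset (Fin d)) (b : Fin d → Bool),
      ∃ h : MvPolynomial (Fin r) k, h ≠ 0 ∧ (P ∈ Sigma → S.Nonempty →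
        ∀ (L : Type w) [Field L] [Algebra k L] (ξ : Fin r → L) (t : L) (y : Fin d → L) (gL : Fin r → L),
          (∀ p ∈ P, MvPolynomial.aeval ξ p = 0) →
          (∀ q ∈ J S b, MvPolynomial.aeval
            (Sum.elim (fun i => ξ i + t ^ N * gL i) (Sum.elim (fun _ : Unit => t) y)) q = 0) →
          MvPolynomial.aeval gL h = 0) := by
    intro P S b
    by_cases hPS : P ∈ Sigma ∧ S.Nonempty
    swap
    · exact ⟨1, one_ne_zero, fun h1 h2 => absurd ⟨h1, h2⟩ hPS⟩
    obtain ⟨hP, hS⟩ := hPS
    haveI := hSigma P hP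
    letI := Ideal.Quotient.field P
    haveI : Module.Finite k (MvPolynomial (Fin r) k ⧸ P) := finite_of_finite_type_of_isJacobsonRing k _
    let Q := MvPolynomial σ k ⧸ J S b
    obtain ⟨u, hu⟩ : ∃ u : Q, u * Ideal.Quotient.mk (J S b) tt = 1 := by
      have h1 : (1 : MvPolynomial σ k) ∈ I ⊔ Ideal.span {tt} := ht0 ▸ Submodule.mem_top
      obtain ⟨a, ha, c, hc, hac⟩ := Submodule.mem_sup.mp h1
      obtain ⟨e, rfl⟩ := Ideal.mem_span_singleton'.mp hc
      refine ⟨Ideal.Quotient.mk _ e, ?_⟩
      rw [← map_mul, ← map_one (Ideal.Quotient.mk (J S b)), Ideal.Quotient.eq, ← hac, sub_add_cancel_right]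
      exact neg_mem (Ideal.mem_sup_left ha)
    have hQ : ringKrullDim Q < (r : WithBot ℕ∞) := by
      refine lt_of_le_of_lt (hface S hS (εf b) fun i => ?_) ?_
      · dsimp only [εf]; split_ifs
        · exact Or.inr rfl
        · exact Or.inl rfl
      · have := hS.card_pos
        exact_mod_cast (by omega : r - S.card < r)
    obtain ⟨h, hne, hh⟩ := Groth.Agent.MovTransLib.exists_avoid.{u, w} (k := k) r hQ
      (fun i => Ideal.Quotient.mk (J S b) (MvPolynomial.X (Sum.inl i))) (fun i => Ideal.Quotient.mk P (MvPolynomial.X i))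
      (u ^ N) (Ideal.Quotient.mk (J S b) tt ^ N) (by rw [← mul_pow, hu, one_pow])
    refine ⟨h, hne, fun _ _ L _ _ ξ t y gL hξ hq => ?_⟩
    refine hh L (Ideal.Quotient.liftₐ _ (MvPolynomial.aeval
      (Sum.elim (fun i => ξ i + t ^ N * gL i) (Sum.elim (fun _ : Unit => t) y))) hq)
      (Ideal.Quotient.liftₐ _ (MvPolynomial.aeval ξ) hξ) gL fun i => ?_
    rw [map_pow]
    show MvPolynomial.aeval (Sum.elim (fun i => ξ i + t ^ N * gL i) (Sum.elim (fun _ : Unit => t) y)) (MvPolynomial.X (Sum.inl i)) = MvPolynomial.aeval ξ (MvPolynomial.X i) + MvPolynomial.aeval (Sum.elim (fun i => ξ i + t ^ N * gL i) (Sum.elim (fun _ : Unit => t) y)) tt ^ N * gL i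
    simp [tt]
  choose F hF0 hF using key
  let Idx := Sigma ×ˢ (Finset.univ : Finset (Finset (Fin d) × (Fin d → Bool)))
  refine ⟨∏ x ∈ Idx, F x.1 x.2.1 x.2.2, Finset.prod_ne_zero_iff.mpr fun x _ => hF0 _ _ _, ?_⟩
  intro K _ _ g hg L _ _ _ _ ξ t y P hP hξ S hS ε hε hy hall
  let b : Fin d → Bool := fun i => decide (ε i = 1)
  have hb : εf b = ε := funext fun i => by
    rcases hε i with h | h <;> simp [εf, b, h]
  have h0 := hF P S b hP hS L ξ t y (fun i => algebraMap K L (g i)) hξ (fun q hq => by
    have hle : J S b ≤ RingHom.ker (MvPolynomial.aeval (R := k)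
        (Sum.elim (fun i => ξ i + t ^ N * algebraMap K L (g i)) (Sum.elim (fun _ : Unit => t) y))).toRingHom := by
      refine sup_le (fun q hq => hall q hq) (Ideal.span_le.mpr ?_)
      rintro _ ⟨i, hi, rfl⟩
      simp [hb, hy i hi]
    exact hle hq)
  apply hg
  have h1 : MvPolynomial.aeval g (F P S b) = 0 := by
    apply (algebraMap K L).injective
    rw [map_zero, ← MvPolynomial.aeval_algebraMap_apply]
    exact h0
  rw [map_prod]
  exact Finset.prod_eq_zero (i := (P, S, b)) (Finset.mem_product.mpr ⟨hP, Finset.mem_univ _⟩) h1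

end Groth.Agent.S15087
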