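import Groth.Statements.S15088
import Groth.Agent.MovTransLib.Basic

set_option autoImplicit false
universe u v
open MovLem
open scoped TensorProduct

namespace Groth.Agent.S15088

/-- Let k be an infinite perfect field, r, m, s ≥ 1 and d ≥ 0, and put N = s(m+1). In affine space with
coordinates x_1, …, x_r, t, y_1, …, y_d let Z = V(I) be an integral closed subscheme of dimension r
which does not meet t = 0 and such that neither the projection of Z to the x-coordinates nor its
projection to the t-line is dominant (I contains a nonzero polynomial in the x's alone and a nonzero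
polynomial in t alone). Let Σ be a finite set of closed points of affine r-space over k. Then there
is a nonzero polynomial h in k[g_1, …, g_r] such that for every field K over k and every g ∈ K^r
with h(g) ≠ 0 the translate Z_g = {(x, t, y) : (x + t^N g, t, y) ∈ Z_K} of Z_K is empty over an open
neighbourhood of the points of affine r-space over K lying over Σ: the closure of the image of Z_g
in affine r-space over K (the zero set of the contraction to K[x_1, …, x_r] of the ideal of Z_g)
contains no point lying over a point of Σ. (The published statement assumes that Z is an irreducible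
admissible additive cycle meeting the faces through Σ properly; of this its proof uses only that Z
misses t = 0, which is a hypothesis here, and the dense open subset of affine r-space is given as
the locus h ≠ 0.) -/
theorem result
    {k : Type u} [Field k] [Infinite k] [PerfectField k] (r m s d : ℕ) (hr : 1 ≤ r) (hm : 1 ≤ m) (hs : 1 ≤ s)
    (I : Ideal (MvPolynomial (Fin r ⊕ (Unit ⊕ Fin d)) k)) (hI : I.IsPrime)
    (hdim : ringKrullDim (MvPolynomial (Fin r ⊕ (Unit ⊕ Fin d)) k ⧸ I) = r)
    (ht0 : I ⊔ Ideal.span {MvPolynomial.X (Sum.inr (Sum.inl ()))} = ⊤)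
    (hx : Ideal.comap (MvPolynomial.rename (Sum.inl : Fin r → Fin r ⊕ (Unit ⊕ Fin d)) :
        MvPolynomial (Fin r) k →ₐ[k] MvPolynomial (Fin r ⊕ (Unit ⊕ Fin d)) k) I ≠ ⊥)
    (ht : Ideal.comap (MvPolynomial.rename (fun _ : Unit => (Sum.inr (Sum.inl ()) : Fin r ⊕ (Unit ⊕ Fin d))) :
        MvPolynomial Unit k →ₐ[k] MvPolynomial (Fin r ⊕ (Unit ⊕ Fin d)) k) I ≠ ⊥)
    (Sigma : Finset (Ideal (MvPolynomial (Fin r) k))) (hSigma : ∀ P ∈ Sigma, P.IsMaximal) :
    ∃ h : MvPolynomial (Fin r) k, h ≠ 0 ∧
      ∀ (K : Type v) [Field K] [Algebra k K] (g : Fin r → K), MvPolynomial.aeval g h ≠ 0 →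
        ∀ P ∈ Sigma,
          Ideal.comap (MvPolynomial.rename (Sum.inl : Fin r → Fin r ⊕ (Unit ⊕ Fin d)) :
              MvPolynomial (Fin r) K →ₐ[K] MvPolynomial (Fin r ⊕ (Unit ⊕ Fin d)) K)
            (Ideal.map (MvPolynomial.aeval
                (Sum.elim (fun i : Fin r => MvPolynomial.X (Sum.inl i) +
                    MvPolynomial.X (Sum.inr (Sum.inl ())) ^ (s * (m + 1)) * MvPolynomial.C (g i))
                  (fun j : Unit ⊕ Fin d => MvPolynomial.X (Sum.inr j))) :
                MvPolynomial (Fin r ⊕ (Unit ⊕ Fin d)) k →ₐ[k] MvPolynomial (Fin r ⊕ (Unit ⊕ Fin d)) K) I) ⊔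
            Ideal.map (MvPolynomial.map (algebraMap k K) : MvPolynomial (Fin r) k →+* MvPolynomial (Fin r) K) P = ⊤ := by
  classical
  let σ := Fin r ⊕ (Unit ⊕ Fin d)
  let tv : σ := Sum.inr (Sum.inl ())
  let N := s * (m + 1)
  obtain ⟨a, haI, ha⟩ := Submodule.exists_mem_ne_zero_of_ne_bot hx
  obtain ⟨b₀, hb₀I, hb₀⟩ := Submodule.exists_mem_ne_zero_of_ne_bot ht
  have htI : (MvPolynomial.X tv : MvPolynomial σ k) ∉ I := fun h => hI.ne_top (by
    rw [← ht0, sup_eq_left.mpr ((Ideal.span_singleton_le_iff_mem _).mpr h)])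
  obtain ⟨b, hb0, hbI⟩ : ∃ b : Polynomial k, b.coeff 0 ≠ 0 ∧ Polynomial.aeval (MvPolynomial.X tv : MvPolynomial σ k) b ∈ I := by
    let eb : Polynomial k := MvPolynomial.aeval (fun _ : Unit => (Polynomial.X : Polynomial k)) b₀
    have hcomp : ∀ q : MvPolynomial Unit k, Polynomial.aeval (MvPolynomial.X tv : MvPolynomial σ k)
        (MvPolynomial.aeval (fun _ : Unit => (Polynomial.X : Polynomial k)) q) =
        MvPolynomial.rename (fun _ : Unit => tv) q := fun q => by
      rw [MvPolynomial.comp_aeval_apply]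
      simp [MvPolynomial.rename_eq_aeval, Function.comp_def]
    have hne : eb ≠ 0 := fun h => by
      have := congrArg (Polynomial.aeval (MvPolynomial.X () : MvPolynomial Unit k)) h
      rw [map_zero, MvPolynomial.comp_aeval_apply] at this
      simp only [Polynomial.aeval_X] at this
      exact hb₀ (by rwa [MvPolynomial.aeval_X_left_apply] at this)
    have hmem : Polynomial.aeval (MvPolynomial.X tv : MvPolynomial σ k) eb ∈ I := by
      rw [hcomp]; exact hb₀I
    revert hne hmem
    generalize eb = f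
    induction hn : f.natDegree using Nat.strong_induction_on generalizing f with
    | _ n ih =>
      intro hne hmem
      by_cases hc : f.coeff 0 = 0
      · obtain ⟨f', rfl⟩ := Polynomial.X_dvd_iff.mpr hc
        have hf' : f' ≠ 0 := fun h => hne (by rw [h, mul_zero])
        rw [map_mul, Polynomial.aeval_X] at hmem
        refine ih f'.natDegree ?_ f' rfl hf' ((hI.mem_or_mem hmem).resolve_left htI)
        rw [← hn, Polynomial.natDegree_X_mul hf']
        exact Nat.lt_succ_self _
      · exact ⟨f, hc, hmem⟩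
  have hb : b ≠ 0 := fun h => hb0 (by simp [h])
  obtain ⟨bm, hbm, hbm0, hbmI⟩ : ∃ bm : Polynomial k, bm.Monic ∧ bm.coeff 0 ≠ 0 ∧
      Polynomial.aeval (MvPolynomial.X tv : MvPolynomial σ k) bm ∈ I := by
    refine ⟨b * Polynomial.C b.leadingCoeff⁻¹, Polynomial.monic_mul_leadingCoeff_inv hb, ?_, ?_⟩
    · simp [hb0, hb]
    · rw [map_mul]; exact I.mul_mem_right _ hbI
  have key : ∀ P : Ideal (MvPolynomial (Fin r) k), ∃ h : MvPolynomial (Fin r) k, h ≠ 0 ∧ (P ∈ Sigma →
      ∀ (C : Type v) [CommRing C] [Algebra k C] (xC : Fin r → C) (tC : C) (c : Fin r → C),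
        (∀ p ∈ P, MvPolynomial.aeval xC p = 0) → Polynomial.aeval tC bm = 0 →
        MvPolynomial.aeval (fun i => xC i + tC ^ N * c i) a ∣ MvPolynomial.aeval c h) := by
    intro P
    by_cases hP : P ∈ Sigma
    swap
    · exact ⟨1, one_ne_zero, fun h => absurd h hP⟩
    haveI := hSigma P hP
    letI := Ideal.Quotient.field P
    haveI : Module.Finite k (MvPolynomial (Fin r) k ⧸ P) := finite_of_finite_type_of_isJacobsonRing k _
    haveI : Module.Finite k (AdjoinRoot bm) := hbm.finite_adjoinRoot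
    let A := (MvPolynomial (Fin r) k ⧸ P) ⊗[k] AdjoinRoot bm
    obtain ⟨w, hw⟩ : ∃ w : AdjoinRoot bm, w * AdjoinRoot.root bm = 1 := by
      refine ⟨- (algebraMap k (AdjoinRoot bm) (bm.coeff 0)⁻¹ * AdjoinRoot.mk bm bm.divX), ?_⟩
      have h := congrArg (AdjoinRoot.mk bm) (Polynomial.X_mul_divX_add bm)
      rw [AdjoinRoot.mk_self, map_add, map_mul, AdjoinRoot.mk_X, AdjoinRoot.mk_C] at h
      rw [neg_mul, mul_assoc, mul_comm (AdjoinRoot.mk bm bm.divX), eq_neg_of_add_eq_zero_left h, mul_neg, neg_neg,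
        AdjoinRoot.algebraMap_eq, ← map_mul, inv_mul_cancel₀ hbm0, map_one]
    obtain ⟨h, hne, hh⟩ := Groth.Agent.MovTransLib.exists_translate_dvd.{u, v} (k := k) (A := A) r
      (fun i => Ideal.Quotient.mk P (MvPolynomial.X i) ⊗ₜ[k] 1) (((1 : MvPolynomial (Fin r) k ⧸ P) ⊗ₜ[k] AdjoinRoot.root bm) ^ N)
      (((1 : MvPolynomial (Fin r) k ⧸ P) ⊗ₜ[k] w) ^ N)
      (by rw [← mul_pow, Algebra.TensorProduct.tmul_mul_tmul, one_mul, hw, ← Algebra.TensorProduct.one_def, one_pow]) a ha
    refine ⟨h, hne, fun _ C _ _ xC tC c hxP htb => ?_⟩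
    let βx : MvPolynomial (Fin r) k ⧸ P →ₐ[k] C := Ideal.Quotient.liftₐ P (MvPolynomial.aeval xC) hxP
    let βt : AdjoinRoot bm →ₐ[k] C := AdjoinRoot.liftAlgHom bm (Algebra.ofId k C) tC htb
    have h2 := hh C (Algebra.TensorProduct.lift βx βt fun _ _ => Commute.all _ _) c
    have hβx : ∀ i, βx (Ideal.Quotient.mk P (MvPolynomial.X i)) = xC i := fun i => by
      show MvPolynomial.aeval xC (MvPolynomial.X i) = xC i
      simp
    have hβt : βt (AdjoinRoot.root bm) = tC := AdjoinRoot.liftAlgHom_root (i := Algebra.ofId k C) (h := htb)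
    have e1 : ∀ x, Algebra.TensorProduct.lift βx βt (fun _ _ => Commute.all _ _) (x ⊗ₜ[k] 1) = βx x := fun x => by
      rw [Algebra.TensorProduct.lift_tmul, map_one, mul_one]
    have e2 : ∀ x, Algebra.TensorProduct.lift βx βt (fun _ _ => Commute.all _ _) (1 ⊗ₜ[k] x) = βt x := fun x => by
      rw [Algebra.TensorProduct.lift_tmul, map_one, one_mul]
    simp only [map_pow, e1, e2, hβx, hβt] at h2
    exact h2
  choose F hF0 hF using key
  refine ⟨∏ P ∈ Sigma, F P, Finset.prod_ne_zero_iff.mpr fun P _ => hF0 P, ?_⟩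
  intro K _ _ g hg P hP
  have hgP : MvPolynomial.aeval g (F P) ≠ 0 := fun h => hg (by rw [map_prod]; exact Finset.prod_eq_zero hP h)
  by_contra htop
  obtain ⟨M, hM, hle⟩ := Ideal.exists_le_maximal _ htop
  obtain ⟨hJM, hPM⟩ := sup_le_iff.mp hle
  let θ : MvPolynomial σ k →ₐ[k] MvPolynomial σ K := MvPolynomial.aeval
    (Sum.elim (fun i : Fin r => MvPolynomial.X (Sum.inl i) +
        MvPolynomial.X tv ^ N * MvPolynomial.C (g i))
      (fun j : Unit ⊕ Fin d => MvPolynomial.X (Sum.inr j)))
  let J := I.map θ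
  let R := MvPolynomial (Fin r) K
  let D := MvPolynomial σ K ⧸ J
  letI : Algebra R D := ((Ideal.Quotient.mk J).comp
    (MvPolynomial.rename (Sum.inl : Fin r → σ) : R →ₐ[K] MvPolynomial σ K).toRingHom).toAlgebra
  let td : D := Ideal.Quotient.mk J (MvPolynomial.X tv)
  let ι : k →+* R := (MvPolynomial.C).comp (algebraMap k K)
  have hιD : (algebraMap R D).comp ι = (Ideal.Quotient.mk J).comp (algebraMap k (MvPolynomial σ K)) := by
    ext c
    show Ideal.Quotient.mk J (MvPolynomial.rename Sum.inl (MvPolynomial.C (algebraMap k K c))) = _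
    rw [MvPolynomial.rename_C]; rfl
  have hbd : Polynomial.eval₂ ((algebraMap R D).comp ι) td bm = 0 := by
    rw [hιD, ← Polynomial.hom_eval₂, Ideal.Quotient.eq_zero_iff_mem]
    have := Ideal.mem_map_of_mem θ hbmI
    rwa [← Polynomial.aeval_algHom_apply, show θ (MvPolynomial.X tv) = MvPolynomial.X tv by simp [θ, tv]] at this
  let E := Algebra.adjoin R ({td} : Set D)
  haveI : Algebra.IsIntegral R E := Algebra.IsIntegral.adjoin fun x hx => by
    obtain rfl := Set.mem_singleton_iff.mp hx
    exact ⟨bm.map ι, hbm.map ι, by rw [Polynomial.eval₂_map]; exact hbd⟩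
  have hker : RingHom.ker (algebraMap R E) ≤ M := fun x hx => hJM (by
    have h1 : algebraMap R D x = 0 := congrArg Subtype.val (RingHom.mem_ker.mp hx)
    show MvPolynomial.rename (Sum.inl : Fin r → σ) x ∈ J
    exact Ideal.Quotient.eq_zero_iff_mem.mp h1)
  obtain ⟨Q, hQ, hQM⟩ := Ideal.exists_ideal_over_maximal_of_isIntegral (S := E) M hker
  let te : E := ⟨td, Algebra.subset_adjoin rfl⟩
  haveI := hQ
  obtain ⟨C, _, toC, tC, hnt, hPz, htC, hzero⟩ : ∃ (C : Type v) (_ : CommRing C) (φ : R →+* C) (tC : C), Nontrivial C ∧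
      (∀ p ∈ P, φ (MvPolynomial.map (algebraMap k K) p) = 0) ∧ Polynomial.eval₂ (φ.comp ι) tC bm = 0 ∧
      MvPolynomial.eval₂ (φ.comp ι) (fun i => φ (MvPolynomial.X i) + tC ^ N * φ (MvPolynomial.C (g i))) a = 0 := by
    refine ⟨E ⧸ Q, inferInstance, (Ideal.Quotient.mk Q).comp (algebraMap R E), Ideal.Quotient.mk Q te,
      Ideal.Quotient.nontrivial_iff.mpr hQ.ne_top, fun p hp => ?_, ?_, ?_⟩
    · have h1 : MvPolynomial.map (algebraMap k K) p ∈ M := hPM (Ideal.mem_map_of_mem _ hp)
      rw [← hQM, Ideal.mem_comap] at h1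
      exact Ideal.Quotient.eq_zero_iff_mem.mpr h1
    · rw [RingHom.comp_assoc, ← Polynomial.hom_eval₂]
      refine (congrArg (Ideal.Quotient.mk Q) (Subtype.ext ?_)).trans (map_zero _)
      exact (Polynomial.hom_eval₂ bm ((algebraMap R E).comp ι) E.val.toRingHom te).trans hbd
    · let ve : Fin r → E := fun i => algebraMap R E (MvPolynomial.X i) + te ^ N * algebraMap R E (MvPolynomial.C (g i))
      have hv : (fun i => ((Ideal.Quotient.mk Q).comp (algebraMap R E)) (MvPolynomial.X i) + Ideal.Quotient.mk Q te ^ N *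
          ((Ideal.Quotient.mk Q).comp (algebraMap R E)) (MvPolynomial.C (g i))) = (Ideal.Quotient.mk Q) ∘ ve := by
        funext i
        simp only [ve, RingHom.comp_apply, Function.comp_apply, map_add, map_mul, map_pow]
      rw [hv, RingHom.comp_assoc, ← MvPolynomial.eval₂_comp_left]
      refine (congrArg (Ideal.Quotient.mk Q) (Subtype.ext ?_)).trans (map_zero _)
      refine (MvPolynomial.eval₂_comp_left E.val.toRingHom ((algebraMap R E).comp ι) ve a).trans ?_
      rw [show (E.val.toRingHom.comp ((algebraMap R E).comp ι)) = (algebraMap R D).comp ι from rfl]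
      have h2 : MvPolynomial.eval₂ ((algebraMap R D).comp ι) (fun i => Ideal.Quotient.mk J (θ (MvPolynomial.X (Sum.inl i)))) a =
          Ideal.Quotient.mk J (θ (MvPolynomial.rename (Sum.inl : Fin r → σ) a)) := by
        rw [MvPolynomial.aeval_rename, MvPolynomial.aeval_def, MvPolynomial.eval₂_comp_left, hιD]
        simp [Function.comp_def, θ]
      refine Eq.trans ?_ (h2.trans (Ideal.Quotient.eq_zero_iff_mem.mpr (Ideal.mem_map_of_mem θ haI)))
      congr 1
      funext i
      show algebraMap R D (MvPolynomial.X i) + td ^ N * algebraMap R D (MvPolynomial.C (g i)) = _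
      simp [RingHom.algebraMap_toAlgebra, td, θ, tv]
      erw [MvPolynomial.rename_X, MvPolynomial.rename_C]
  letI : Algebra k C := (toC.comp ι).toAlgebra
  have haev : ∀ (c : Fin r → C) (q : MvPolynomial (Fin r) k), MvPolynomial.aeval c q = MvPolynomial.eval₂ (toC.comp ι) c q :=
    fun c q => MvPolynomial.aeval_def _ _
  have hmapP : ∀ p ∈ P, MvPolynomial.aeval (fun i => toC (MvPolynomial.X i)) p = 0 := fun p hp => by
    rw [haev, ← hPz p hp]
    show _ = toC (MvPolynomial.map (algebraMap k K) p)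
    clear hp
    induction p using MvPolynomial.induction_on with
    | C c => rw [MvPolynomial.map_C, MvPolynomial.eval₂_C]; rfl
    | add p q hp hq => rw [map_add, map_add, MvPolynomial.eval₂_add, hp, hq]
    | mul_X p i hp => rw [map_mul, map_mul, MvPolynomial.map_X, MvPolynomial.eval₂_mul, MvPolynomial.eval₂_X, hp]
  have hdvd := hF P hP C (fun i => toC (MvPolynomial.X i)) tC
    (fun i => toC (MvPolynomial.C (g i))) hmapP htC
  rw [← haev] at hzero
  rw [hzero, zero_dvd_iff] at hdvd
  have h3 : MvPolynomial.aeval (fun i => toC (MvPolynomial.C (g i))) (F P) = toC (MvPolynomial.C (MvPolynomial.aeval g (F P))) := by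
    rw [MvPolynomial.aeval_def, MvPolynomial.aeval_def]
    exact (MvPolynomial.eval₂_comp_left (toC.comp MvPolynomial.C) (algebraMap k K) g (F P)).symm
  rw [h3] at hdvd
  exact hgP ((toC.comp MvPolynomial.C).injective ((show (toC.comp MvPolynomial.C) _ = 0 from hdvd).trans (map_zero _).symm))

end Groth.Agent.S15088
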