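import Groth.Statements.S15092
import Groth.Agent.S16976
import Groth.Agent.TwistShriek.SurfCan
import Groth.Agent.CastLib.EulerFlat
import Groth.Agent.GenBCLib.Betti
import Groth.Agent.BCLib.SteinFlat
import Groth.Agent.JacLib.Field
import Groth.Agent.GenCutLib.NefSpec

set_option autoImplicit false
universe u
open CategoryTheory CategoryTheory.Limits AlgebraicGeometry TopologicalSpace
open Surf

namespace Groth.Agent.S15092

set_option backward.isDefEq.respectTransparency false
set_option linter.style.haveILetI false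
set_option maxHeartbeats 1000000
set_option synthInstance.maxHeartbeats 200000
open TopologicalSpace IsLocalRing Groth.Agent Groth.Agent.TwistShriek Groth.Agent.CastLib

variable (k : Type u) [Field k] [IsAlgClosed k] {X : Scheme.{u}} [X.Over (Spec (CommRingCat.of k))]
    [IsProper (X ↘ (Spec (CommRingCat.of k)))] {C : Scheme.{u}} [C.Over (Spec (CommRingCat.of k))]
    [IsProper (C ↘ (Spec (CommRingCat.of k)))] (f : X ⟶ C) [f.IsOver (Spec (CommRingCat.of k))] [IsProper f]

include k in
omit [f.IsOver (Spec (CommRingCat.of k))] [IsProper f] [IsProper (X ↘ (Spec (CommRingCat.of k)))] [X.Over (Spec (CommRingCat.of k))] in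
/-- The ideal of a closed fibre. -/
theorem ker_fiberι (c : C) (hc : IsClosed ({c} : Set C)) :
    (f.fiberι c).ker = (Scheme.IdealSheafData.vanishingIdeal ⟨{c}, hc⟩).comap f := by
  let g := pointOfClosedPoint (C ↘ Spec (CommRingCat.of k)) c hc
  haveI : IsClosedImmersion (g ≫ (C ↘ Spec (CommRingCat.of k))) := by
    rw [show g ≫ (C ↘ Spec (CommRingCat.of k)) = 𝟙 _ from pointOfClosedPoint_comp _ _ _]; infer_instance
  haveI : IsClosedImmersion g := IsClosedImmersion.of_comp g (C ↘ Spec (CommRingCat.of k))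
  have hgdef : C.fromSpecResidueField c =
      Spec.map (residueFieldIsoBase (C ↘ Spec (CommRingCat.of k)) c hc).inv ≫ g := by
    show _ = _ ≫ Spec.map _ ≫ _
    rw [← Category.assoc, ← Spec.map_comp, Iso.hom_inv_id, Spec.map_id, Category.id_comp]
  haveI : IsClosedImmersion (C.fromSpecResidueField c) := by rw [hgdef]; infer_instance
  show (pullback.fst f (C.fromSpecResidueField c)).ker = _
  rw [Scheme.IdealSheafData.ker_fst_of_isClosedImmersion, hgdef, Scheme.Hom.ker_comp_of_isIso,
    JacLib.ker_section g c hc (pointOfClosedPoint_apply _ _ _ _)]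

/-- The Euler characteristic of a closed fibre computed on the surface. -/
theorem euler_fibre (c : C) (hc : IsClosed ({c} : Set C)) :
    Curv2.euler k X (ClSub.quotMod (f.fiberι c).ker) = PerfAux.eulerChar f (Coh.structureModule X) c := by
  haveI := EulerIneqLib.isNoetherian_proper (X := X) k
  let g := pointOfClosedPoint (C ↘ Spec (CommRingCat.of k)) c hc
  let φ := C.fromSpecResidueField c ≫ (C ↘ Spec (CommRingCat.of k))
  have hφ : φ = Spec.map (residueFieldIsoBase (C ↘ Spec (CommRingCat.of k)) c hc).inv :=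
    (SpecMap_residueFieldIsoBase_inv _ _ _).symm
  haveI : IsIso φ := by rw [hφ]; infer_instance
  have hgdef : C.fromSpecResidueField c = φ ≫ g := by
    rw [hφ]
    show _ = _ ≫ Spec.map _ ≫ _
    rw [← Category.assoc, ← Spec.map_comp, Iso.hom_inv_id, Spec.map_id, Category.id_comp]
  have hbot : IsPullback (C.fromSpecResidueField c) φ (𝟙 C) g :=
    IsPullback.of_vert_isIso ⟨by rw [Category.comp_id]; exact hgdef⟩
  have hsq := (IsPullback.of_hasPullback f (C.fromSpecResidueField c)).paste_vert hbot
  rw [Category.comp_id] at hsq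
  have hs : pullback.snd f (C.fromSpecResidueField c) ≫ φ = f.fiberι c ≫ (X ↘ Spec (CommRingCat.of k)) := by
    show _ ≫ _ ≫ _ = pullback.fst f (C.fromSpecResidueField c) ≫ _
    rw [← Category.assoc, ← pullback.condition, Category.assoc, comp_over f (Spec (CommRingCat.of k))]
  rw [hs] at hsq
  haveI : IsClosedImmersion (f.fiberι c) := by
    haveI : IsClosedImmersion (C.fromSpecResidueField c) := by
      rw [hgdef]
      haveI : IsClosedImmersion (g ≫ (C ↘ Spec (CommRingCat.of k))) := by
        rw [show g ≫ (C ↘ Spec (CommRingCat.of k)) = 𝟙 _ from pointOfClosedPoint_comp _ _ _]; infer_instance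
      haveI : IsClosedImmersion g := IsClosedImmersion.of_comp g (C ↘ Spec (CommRingCat.of k))
      infer_instance
    exact (inferInstance : IsClosedImmersion (pullback.fst f (C.fromSpecResidueField c)))
  rw [euler_quotMod_ker k (f.fiberι c)]
  haveI : IsProper (f.fiberι c ≫ (X ↘ Spec (CommRingCat.of k))) := inferInstance
  haveI : IsLocallyNoetherian X := inferInstance
  refine (CastLib.eulerChar_point f hsq default).symm.trans ?_
  rw [pointOfClosedPoint_apply]

variable [Smooth (X ↘ (Spec (CommRingCat.of k)))] [IsIntegral X] [Smooth (C ↘ (Spec (CommRingCat.of k)))]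
    [IsIntegral C] [Surjective f]

/-- A vertical curve has negative square or carries the whole fibre. -/
theorem self_neg_or_fibre (hdim : topologicalKrullDim X = 2) (hdimC : topologicalKrullDim C = 1)
    (hconn : IsIso (ClSub.unitToPush f)) (D : X.IdealSheafData) (hD : IsIntegral D.subscheme)
    (hD1 : topologicalKrullDim (D.support : Set X) = 1) (c : C) (hc : IsClosed ({c} : Set C))
    (hDc : ∀ x, x ∈ D.support → f x = c) :
    FGA.intNum k X 2 ![ClSub.idealMod D, ClSub.idealMod D] (Coh.structureModule X) < 0 ∨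
      (FGA.intNum k X 2 ![ClSub.idealMod D, ClSub.idealMod D] (Coh.structureModule X) = 0 ∧
        ∃ a : ℕ, 0 < a ∧ (Scheme.IdealSheafData.vanishingIdeal ⟨{c}, hc⟩).comap f = D ^ a) := by
  classical
  haveI := EulerIneqLib.isNoetherian_proper (X := X) k
  haveI := EulerIneqLib.isNoetherian_proper (X := C) k
  haveI : JacobsonSpace X := LocallyOfFiniteType.jacobsonSpace (X ↘ Spec (CommRingCat.of k))
  haveI := VBLib.isRegCurve_of_smooth k (X := C) hdimC.le
  have hreg := fun x => ASp.isRegularLocalRing_stalk_of_smooth_field (X ↘ Spec (CommRingCat.of k)) x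
  set P := Scheme.IdealSheafData.vanishingIdeal (⟨{c}, hc⟩ : Closeds C) with hPdef
  have hPc : BlowUp.IsEffCartierIdeal P := (S8914.result P).1 (CurveFF.isDiv_pointIdeal k hdimC hc).1
  set F := P.comap f with hFdef
  have hFs : ∀ x, x ∈ F.support ↔ f x = c := fun x => by
    rw [← SetLike.mem_coe, hFdef, Scheme.IdealSheafData.support_comap, Closeds.coe_preimage, hPdef,
      Scheme.IdealSheafData.coe_support_vanishingIdeal]
    rfl
  have hgen : f (genericPoint X) = genericPoint C := ((genericPoint_spec X).image f.continuous).eq (by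
    rw [Set.image_univ, f.surjective.range_eq, closure_univ]
    exact genericPoint_spec C)
  have hne : genericPoint C ≠ c := fun h => by
    have h1 := genericPoint_closure (α := C)
    rw [h, hc.closure_eq] at h1
    have h0 := topologicalKrullDim_zero_of_discreteTopology ({c} : Set C)
    rw [h1, (Homeomorph.Set.univ C).isHomeomorph.topologicalKrullDim_eq, hdimC] at h0
    exact absurd h0 (by norm_num)
  have hFc : BlowUp.IsEffCartierIdeal F := CastLib.isEffCartier_comap_integral f hPc fun h => by
    rw [hgen, ← SetLike.mem_coe, hPdef, Scheme.IdealSheafData.coe_support_vanishingIdeal] at h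
    exact hne h
  obtain ⟨n, ξ, hξ, hinj, hξF, hξall⟩ := S16976.exists_components hFc
  obtain ⟨a, ha⟩ := S16976.exists_exponents hreg ξ hξ hinj hFc hξall
  let Cu : Fin n → X.IdealSheafData := fun i => cl (ξ i)
  haveI hCi : ∀ i, IsIntegral (Cu i).subscheme := fun i =>
    CurveLib.isIntegral_vanishingIdeal isClosed_closure isIrreducible_singleton.closure
  have hCc : ∀ i, BlowUp.IsEffCartierIdeal (Cu i) := fun i => SurfPtBlow.isEffCartier_closure hreg _ (hξ i)
  have hCI : ∀ i, PicF.IsInvertible (ClSub.idealMod (Cu i)) := fun i => CastLib.isInvertible_idealMod (hCc i)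
  have hCs : ∀ i, ((Cu i).support : Set X) = closure {ξ i} := fun i => Scheme.IdealSheafData.coe_support_vanishingIdeal _
  have hCd : ∀ i, topologicalKrullDim ((Cu i).support : Set X) = 1 := fun i => by
    rw [hCs]; exact S16976.dim_closure k hdim (hξ i)
  have hCp : ∀ i x, x ∈ (Cu i).support → f x = c := fun i x hx =>
    (hFs x).1 ((CastLib.mem_support_cl.1 hx).mem_closed F.support.isClosed (hξF i))
  have hcov : ∀ x, x ∈ F.support → ∃ i, 0 < a i ∧ x ∈ (Cu i).support := fun x hx => by
    by_contra hno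
    push_neg at hno
    have htop : IntMult.stalkIdeal F x = ⊤ := by
      rw [ha, CastLib.stalkIdeal_prod', ← Ideal.one_eq_top]
      refine Finset.prod_eq_one fun i _ => ?_
      rcases Nat.eq_zero_or_pos (a i) with h0 | h0
      · rw [h0, pow_zero]
      · rw [IdealMulLib.stalkIdeal_eq_top _ (hno i h0), ← Ideal.one_eq_top, one_pow]
    exact (maximalIdeal.isMaximal (X.presheaf.stalk x)).ne_top
      (top_le_iff.1 (htop ▸ IdealStalkLib.stalkIdeal_le_maximal F hx))
  have hapos : ∀ i, 0 < a i := fun i => by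
    obtain ⟨j, hj, hjx⟩ := hcov _ (hξF i)
    have hji : j = i := hinj (by
      by_contra hne'
      have h3 := S8909.succ_le (CastLib.mem_support_cl.1 hjx) hne'
      rw [hξ i, hξ j] at h3
      exact absurd h3 (by decide))
    exact hji ▸ hj
  have hd : topologicalKrullDim X ≤ ((2 : ℕ) : WithBot ℕ∞) := by exact_mod_cast hdim.le
  have hd2 : topologicalKrullDim X = ((2 : ℕ) : WithBot ℕ∞) := by exact_mod_cast hdim
  let Φ : X.IdealSheafData → X.IdealSheafData → ℤ := fun G H =>
    FGA.intNum k X 2 ![ClSub.idealMod G, ClSub.idealMod H] (Coh.structureModule X)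
  have hΦ : ∀ {G H : X.IdealSheafData} (hG : BlowUp.IsEffCartierIdeal G) (hH : BlowUp.IsEffCartierIdeal H),
      Φ G H = Nakai.form k (Nakai.cl (CastLib.isInvertible_idealMod hH)) (Nakai.cl (CastLib.isInvertible_idealMod hG)) :=
    fun hG hH => (intNum_eq_form k hd _ _).trans (Nakai.form_comm k _ _)
  have hmul : ∀ {G A A' : X.IdealSheafData}, BlowUp.IsEffCartierIdeal G → BlowUp.IsEffCartierIdeal A →
      BlowUp.IsEffCartierIdeal A' → Φ G (A * A') = Φ G A + Φ G A' := fun {G A A'} hG hA hA' => by
    obtain ⟨e⟩ := IntLib.mk_eq_mk.1 ((CastLib.mk_idealMod_mul hA hA').trans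
      (IntLib.mk_tensor (ClSub.idealMod A) (ClSub.idealMod A')).symm)
    rw [hΦ hG (BlowCompLib.isEffCartier_mul hA hA'), hΦ hG hA, hΦ hG hA',
      Nakai.cl_congr _ (AmpleLib.isInvertible_tensor (CastLib.isInvertible_idealMod hA) (CastLib.isInvertible_idealMod hA')) e,
      Nakai.cl_tensor (CastLib.isInvertible_idealMod hA) (CastLib.isInvertible_idealMod hA'), ← Nakai.form_add_left]
    refine Nakai.form_congr k hd2 ?_ (Nakai.cl_mem _)
    rw [add_sub_cancel_left, pow_two]
    exact Ideal.mul_mem_mul (Nakai.cl_mem _) (Nakai.cl_mem _)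
  have htop : ∀ {G : X.IdealSheafData}, BlowUp.IsEffCartierIdeal G → Φ G 1 = 0 := fun {G} hG => by
    have hT : BlowUp.IsEffCartierIdeal (1 : X.IdealSheafData) := BlowCompLib.isEffCartier_top
    have h := hmul hG hT hT
    rw [one_mul] at h
    linarith
  have hprod : ∀ {G : X.IdealSheafData}, BlowUp.IsEffCartierIdeal G → ∀ (t : Finset (Fin n)),
      Φ G (∏ j ∈ t, Cu j ^ a j) = ∑ j ∈ t, (a j : ℤ) * Φ G (Cu j) := fun {G} hG t => by
    have hpow : ∀ j (q : ℕ), Φ G (Cu j ^ q) = (q : ℤ) * Φ G (Cu j) := fun j q => by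
      induction q with
      | zero => rw [pow_zero, htop hG, Nat.cast_zero, zero_mul]
      | succ q ih =>
        rw [pow_succ, hmul hG (CastLib.StrictPoint.isEffCartier_pow (hCc j) q) (hCc j), ih]
        push_cast; ring
    induction t using Finset.induction_on with
    | empty => rw [Finset.prod_empty, Finset.sum_empty, htop hG]
    | insert j t hj ih =>
      rw [Finset.prod_insert hj, hmul hG (CastLib.StrictPoint.isEffCartier_pow (hCc j) (a j))
        (CastLib.mk_idealMod_prod Cu hCc a t).1, hpow, ih, Finset.sum_insert hj]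
  have hfin : ∀ i j, i ≠ j → (((Cu i).support : Set X) ∩ (Cu j).support).Finite := fun i j hij =>
    S18460.finite_inter_curve (Cu i) (hCd i) (Cu j).support.isClosed fun hsub => hij (hinj (by
      have h1 : ξ j ⤳ ξ i := CastLib.mem_support_cl.1 (hsub (by rw [hCs]; exact subset_closure rfl))
      by_contra hne'
      have h3 := S8909.succ_le h1 (Ne.symm hne')
      rw [hξ i, hξ j] at h3
      exact absurd h3 (by decide)))
  -- the curve is a component
  haveI := hD
  have hDcart : BlowUp.IsEffCartierIdeal D := (S8914.result _).1 (invertible_curve k hdim D hD hD1)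
  obtain ⟨i₀, hi₀⟩ := hξall (DivisorialLib.genPt D) ((hFs _).2 (hDc _ (DivisorialLib.genPt_mem D)))
    (S8909.coheight_genPt hDcart)
  have hDC : D = Cu i₀ := le_antisymm
    (S14520.le_of_support_subset fun x hx => by
      refine (CastLib.mem_support_cl.1 hx).mem_closed D.support.isClosed ?_
      rw [hi₀]; exact DivisorialLib.genPt_mem D)
    (S14520.le_of_support_subset fun x hx => by
      show x ∈ (Cu i₀).support
      refine CastLib.mem_support_cl.2 ?_
      rw [hi₀]; exact DivisorialLib.specializes_genPt D hx)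
  have hzero : Φ (Cu i₀) F = 0 := by
    obtain ⟨L, ⟨eL⟩⟩ := CastLib.exists_inverse_idealMod hFc
    have hL : PicF.IsInvertible L := AmpleLib.isInvertible_of_tensor_iso eL
    let ι := (Cu i₀).subschemeι
    have h := intNum_ideal_inv_eq k hd ι (by rw [Scheme.IdealSheafData.ker_subschemeι]; exact hCI i₀) hL eL
    rw [Scheme.IdealSheafData.ker_subschemeι] at h
    refine h.trans ?_
    obtain ⟨e1⟩ := S14703.nonempty_pullback_trivial (ι ≫ f) c
      (fun q => hCp i₀ _ ((Cu i₀).range_subschemeι.le ⟨q, rfl⟩)) ((S8914.result P).2 hPc)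
    obtain ⟨e2⟩ := JacLib.nonempty_iso_pullback_idealMod f P hPc hFc
    have eA : (Scheme.Modules.pullback ι).obj (ClSub.idealMod F) ≅ Coh.structureModule _ :=
      (Scheme.Modules.pullback ι).mapIso e2.symm ≪≫ (Scheme.Modules.pullbackComp ι f).app _ ≪≫ e1
    have hmk : IntLib.mk ((Scheme.Modules.pullback ι).obj L) = 1 := by
      have h1 := congrArg (IntLib.pullCls ι) ((IntLib.mk_tensor L (ClSub.idealMod F)).symm.trans
        ((IntLib.mk_congr eL).trans IntLib.mk_structureModule))
      rwa [map_mul, map_one, IntLib.pullCls_mk, IntLib.pullCls_mk, IntLib.mk_congr eA, IntLib.mk_structureModule,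
        mul_one] at h1
    obtain ⟨e4⟩ := IntLib.mk_eq_mk.1 (hmk.trans IntLib.mk_structureModule.symm)
    letI : (Cu i₀).subscheme.Over (Spec (CommRingCat.of k)) := ⟨ι ≫ (X ↘ Spec (CommRingCat.of k))⟩
    haveI : IsProper ((Cu i₀).subscheme ↘ Spec (CommRingCat.of k)) :=
      inferInstanceAs (IsProper (ι ≫ (X ↘ Spec (CommRingCat.of k))))
    exact sub_eq_zero.2 (CurveLib.euler_iso (K := k) e4)
  rw [ha, hprod (hCc i₀), ← Finset.add_sum_erase _ _ (Finset.mem_univ i₀)] at hzero
  have hnn : ∀ j ∈ Finset.univ.erase i₀, 0 ≤ (a j : ℤ) * Φ (Cu i₀) (Cu j) := fun j hj =>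
    mul_nonneg (Int.natCast_nonneg _) (S18460.inter_nonneg_pos k hdim _ _ (hCc i₀) (hCc j)
      (hfin i₀ j (Finset.ne_of_mem_erase hj).symm)).1
  rcases (Finset.univ.erase i₀).eq_empty_or_nonempty with hemp | ⟨j₀, hj₀⟩
  · right
    rw [hemp, Finset.sum_empty, add_zero] at hzero
    refine ⟨?_, a i₀, hapos i₀, ?_⟩
    · rw [hDC]
      exact (mul_eq_zero.1 hzero).resolve_left (by exact_mod_cast (hapos i₀).ne')
    · rw [ha, hDC, ← Finset.mul_prod_erase _ _ (Finset.mem_univ i₀), hemp, Finset.prod_empty, mul_one]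
  · left
    -- some component meets the curve
    have hbij : RigidLib.BijApp f := fun U => by
      haveI := hconn
      exact ConcreteCategory.bijective_of_isIso ((ClSub.unitToPush f).app U)
    have hpre : _root_.IsPreconnected (F.support : Set X) := by
      haveI := SteinConn.connectedSpace_fiber f hbij c
      have he : (F.support : Set X) = Set.range (f.fiberι c) := by
        rw [f.range_fiberι]; exact Set.ext fun x => hFs x
      rw [he]
      exact isPreconnected_range (f.fiberι c).continuous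
    let U₂ : Set X := ⋃ i ∈ Finset.univ.erase i₀, ((Cu i).support : Set X)
    obtain ⟨q, -, hq₁, hq₂⟩ := isPreconnected_closed_iff.1 hpre ((Cu i₀).support : Set X) U₂
      (Cu i₀).support.isClosed
      ((Finset.univ.erase i₀).finite_toSet.isClosed_biUnion fun i _ => (Cu i).support.isClosed)
      (fun x hx => by
        obtain ⟨i, -, hi⟩ := hcov x hx
        by_cases h : i = i₀
        · exact Or.inl (h ▸ hi)
        · exact Or.inr (Set.mem_biUnion (Finset.mem_erase.2 ⟨h, Finset.mem_univ _⟩) hi))
      ⟨ξ i₀, hξF i₀, by rw [hCs]; exact subset_closure rfl⟩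
      ⟨ξ j₀, hξF j₀, Set.mem_biUnion hj₀ (by rw [hCs]; exact subset_closure rfl)⟩
    simp only [U₂, Set.mem_iUnion, exists_prop] at hq₂
    obtain ⟨j, hj, hqj⟩ := hq₂
    have hpos : 0 < ∑ j ∈ Finset.univ.erase i₀, (a j : ℤ) * Φ (Cu i₀) (Cu j) :=
      lt_of_lt_of_le (mul_pos (by exact_mod_cast hapos j) ((S18460.inter_nonneg_pos k hdim _ _ (hCc i₀) (hCc j)
        (hfin i₀ j (Finset.ne_of_mem_erase hj).symm)).2 ⟨q, hq₁, hqj⟩)) (Finset.single_le_sum hnn hj)
    rw [hDC]
    change Φ (Cu i₀) (Cu i₀) < 0
    by_contra hge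
    have : 0 ≤ (a i₀ : ℤ) * Φ (Cu i₀) (Cu i₀) := mul_nonneg (Int.natCast_nonneg _) (not_lt.1 hge)
    omega

/-- Let k be an algebraically closed field, X a smooth projective surface over k (integral, proper and
smooth, of dimension 2), C a smooth projective curve over k (integral, proper and smooth, of
dimension 1) and f : X → C a semi-stable fibration: a surjective k-morphism with O_C → f_*O_X an
isomorphism which is an at-worst-nodal family (flat, of finite presentation, all fibres
one-dimensional with at worst nodal singularities), whose fibre over some closed point q₀ is smooth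
with χ(O) = 1 − g for some g ≥ 2 (computed on X through the direct image of the structure sheaf of
the fibre), and with no exceptional curve of the first kind in a fibre (no integral vertical curve E
with χ(O_E) = 1 and E² = −1). Let ω_{X/C} = ω_X ⊗ (f^*Ω_{C/k})^{-1} be the relative dualizing
module, ω_X a second exterior power of Ω_{X/k} and (f^*Ω_{C/k})^{-1} a tensor inverse of f^*Ω_{C/k}.
Let D ⊆ X be an integral curve (integral closed subscheme of dimension 1) lying in a fibre of f, and
O_X(D) a tensor inverse of its ideal sheaf. Then (ω_{X/C}·O_X(D)) ≥ 0; and if (ω_{X/C}·O_X(D)) = 0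
then χ(O_D) = 1 and (D·D) = −2, that is, D is a smooth rational curve of self-intersection −2. Here
(L·L') = χ(O_X) − χ(L) − χ(L') + χ(L ⊗ L') for invertible L, L'. -/
theorem result (k : Type u) [Field k] [IsAlgClosed k]
    (X : Scheme.{u}) [X.Over (Spec (CommRingCat.of k))] [IsProper (X ↘ (Spec (CommRingCat.of k)))]
    [Smooth (X ↘ (Spec (CommRingCat.of k)))] [IsIntegral X] (hdim : topologicalKrullDim X = 2)
    (C : Scheme.{u}) [C.Over (Spec (CommRingCat.of k))] [IsProper (C ↘ (Spec (CommRingCat.of k)))]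
    [Smooth (C ↘ (Spec (CommRingCat.of k)))] [IsIntegral C] (hdimC : topologicalKrullDim C = 1)
    (f : X ⟶ C) [f.IsOver (Spec (CommRingCat.of k))] [Surjective f] (hconn : IsIso (ClSub.unitToPush f))
    (hss : Curv2.IsNodalFamily f)
    (q₀ : C) (hq₀ : IsClosed ({q₀} : Set C)) (hsm : Smooth (f.fiberToSpecResidueField q₀))
    (g : ℕ) (hg2 : 2 ≤ g) (hg : Curv2.euler k X (ClSub.quotMod (f.fiberι q₀).ker) = 1 - (g : ℤ))
    (hmin : ∀ E : X.IdealSheafData, IsIntegral E.subscheme → topologicalKrullDim (E.support : Set X) = 1 →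
      (∃ c : C, ∀ x : X, x ∈ E.support → f.base x = c) → Curv2.euler k X (ClSub.quotMod E) = 1 →
      FGA.intNum k X 2 ![ClSub.idealMod E, ClSub.idealMod E] (Coh.structureModule X) ≠ -1)
    (WX : X.Modules) (hWX : ExtPow.IsExtPow 2 (Omega.sheaf (X ↘ (Spec (CommRingCat.of k)))) WX)
    (M : X.Modules) (hM : ClSub.IsInverseOf M ((Scheme.Modules.pullback f).obj (Omega.sheaf (C ↘ (Spec (CommRingCat.of k))))))
    (D : X.IdealSheafData) (hD : IsIntegral D.subscheme) (hD1 : topologicalKrullDim (D.support : Set X) = 1)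
    (hDv : ∃ c : C, ∀ x : X, x ∈ D.support → f.base x = c)
    (LD : X.Modules) (hLD : ClSub.IsInverseOf LD (ClSub.idealMod D)) :
    0 ≤ FGA.intNum k X 2 ![(CohB1.tensorMod WX M), LD] (Coh.structureModule X) ∧
      (FGA.intNum k X 2 ![(CohB1.tensorMod WX M), LD] (Coh.structureModule X) = 0 →
        Curv2.euler k X (ClSub.quotMod D) = 1 ∧ FGA.intNum k X 2 ![LD, LD] (Coh.structureModule X) = -2) := by
  haveI := EulerIneqLib.isNoetherian_proper (X := X) k
  haveI := EulerIneqLib.isNoetherian_proper (X := C) k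
  haveI : IsProper f := by
    haveI : IsProper (f ≫ (C ↘ Spec (CommRingCat.of k))) := by
      rw [comp_over f (Spec (CommRingCat.of k))]; infer_instance
    exact IsProper.of_comp f (C ↘ Spec (CommRingCat.of k))
  haveI : Flat f := hss.1
  haveI := hss.2.1
  haveI := hD
  obtain ⟨c, hDc⟩ := hDv
  have hc : IsClosed ({c} : Set C) := by
    have h := f.isClosedMap _ D.support.isClosed
    have he : (fun x => f x) '' (D.support : Set X) = {c} := by
      refine Set.Subset.antisymm (Set.image_subset_iff.2 fun x hx => hDc x hx) ?_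
      rintro _ rfl
      exact ⟨_, DivisorialLib.genPt_mem D, hDc _ (DivisorialLib.genPt_mem D)⟩
    rwa [he] at h
  have hd : topologicalKrullDim X ≤ ((2 : ℕ) : WithBot ℕ∞) := by exact_mod_cast hdim.le
  have hd2 : topologicalKrullDim X = ((2 : ℕ) : WithBot ℕ∞) := by exact_mod_cast hdim
  have hI : PicF.IsInvertible (ClSub.idealMod D) := invertible_curve k hdim D hD hD1
  have hW : PicF.IsInvertible WX := (canonical_data_proper k hdim hWX).1
  obtain ⟨eM⟩ := hM
  have hMi : PicF.IsInvertible M := AmpleLib.isInvertible_of_tensor_iso eM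
  have hWt := AmpleLib.isInvertible_tensor hW hMi
  obtain ⟨eD⟩ := hLD
  have hLi : PicF.IsInvertible LD := AmpleLib.isInvertible_of_tensor_iso eD
  have hneg : ∀ {v : IntLib.PicRing X}, v ∈ Nakai.Aug X →
      Nakai.form k (Nakai.cl hLi) v = - Nakai.form k (Nakai.cl hI) v := fun {v} hv => by
    have hm : Nakai.cl hI - IntLib.dif hLi ∈ Nakai.Aug X ^ 2 :=
      Nakai.cl_mul_inverse_mem hI hLi (AmpleLib.comm _ _ ≪≫ eD)
    rw [Nakai.form_congr k hd2 hm hv, Nakai.cl_eq_neg_dif hLi, Nakai.form, Nakai.form, neg_mul, map_neg]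
  have hM0 : Nakai.form k (Nakai.cl hI) (Nakai.cl hMi) = 0 := by
    rw [← intNum_eq_form k hd hI hMi]
    have hOm : PicF.IsInvertible ((Scheme.Modules.pullback f).obj (Omega.sheaf (C ↘ Spec (CommRingCat.of k)))) :=
      AmpleLib.isInvertible_of_tensor_iso (AmpleLib.comm _ _ ≪≫ eM)
    let ι := D.subschemeι
    have h := intNum_ideal_inv_eq k hd ι (by rw [Scheme.IdealSheafData.ker_subschemeι]; exact hI) hOm
      (AmpleLib.comm _ _ ≪≫ eM)
    rw [Scheme.IdealSheafData.ker_subschemeι] at h
    refine h.trans ?_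
    have hΩ : PicF.IsInvertible (Omega.sheaf (C ↘ Spec (CommRingCat.of k))) := by
      haveI := VBLib.isRegCurve_of_smooth k (X := C) hdimC.le
      exact CurveFF.omega_invertible k hdimC
    obtain ⟨e1⟩ := S14703.nonempty_pullback_trivial (ι ≫ f) c
      (fun q => hDc _ (D.range_subschemeι.le ⟨q, rfl⟩)) hΩ
    letI : D.subscheme.Over (Spec (CommRingCat.of k)) := ⟨ι ≫ (X ↘ Spec (CommRingCat.of k))⟩
    haveI : IsProper (D.subscheme ↘ Spec (CommRingCat.of k)) :=
      inferInstanceAs (IsProper (ι ≫ (X ↘ Spec (CommRingCat.of k))))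
    exact sub_eq_zero.2 (CurveLib.euler_iso (K := k) ((Scheme.Modules.pullbackComp ι f).app _ ≪≫ e1))
  have hval : FGA.intNum k X 2 ![(CohB1.tensorMod WX M), LD] (Coh.structureModule X) =
      - Nakai.form k (Nakai.cl hI) (Nakai.cl hW) := by
    rw [intNum_eq_form k hd hWt hLi, Nakai.form_comm k, hneg (Nakai.cl_mem _), Nakai.form_comm k (Nakai.cl hI),
      Nakai.cl_tensor hW hMi, Nakai.form_congr k hd2 (w := Nakai.cl hW + Nakai.cl hMi) ?_ (Nakai.cl_mem _),
      Nakai.form_add_left, Nakai.form_comm k (Nakai.cl hMi), hM0, add_zero, Nakai.form_comm k (Nakai.cl hW)]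
    rw [add_sub_cancel_left, pow_two]
    exact Ideal.mul_mem_mul (Nakai.cl_mem _) (Nakai.cl_mem _)
  have hsq : FGA.intNum k X 2 ![LD, LD] (Coh.structureModule X) = Nakai.form k (Nakai.cl hI) (Nakai.cl hI) := by
    rw [intNum_eq_form k hd hLi hLi, hneg (Nakai.cl_mem _), Nakai.form_comm k, hneg (Nakai.cl_mem _), neg_neg]
  have hDD : FGA.intNum k X 2 ![ClSub.idealMod D, ClSub.idealMod D] (Coh.structureModule X) =
      Nakai.form k (Nakai.cl hI) (Nakai.cl hI) := intNum_eq_form k hd hI hI
  have hadj := form_adjunction k hdim hWX hW hI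
  have hχ := (euler_curve_eq k hD hD1).1
  rw [hval, hsq]
  rcases self_neg_or_fibre k f hdim hdimC hconn D hD hD1 c hc hDc with hlt | ⟨h0, a, ha, hF⟩
  · rw [hDD] at hlt
    have hm1 : ¬ (Curv2.euler k X (ClSub.quotMod D) = 1 ∧ Nakai.form k (Nakai.cl hI) (Nakai.cl hI) = -1) := fun h =>
      hmin D hD hD1 ⟨c, hDc⟩ h.1 (hDD.trans h.2)
    constructor
    · by_contra hn
      exact hm1 ⟨by omega, by omega⟩
    · intro h
      constructor <;> omega
  · rw [hDD] at h0
    have hDcart : BlowUp.IsEffCartierIdeal D := (S8914.result _).1 hI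
    have hlin : ∀ (q : ℕ) (hq : PicF.IsInvertible (ClSub.idealMod (D ^ q))) (v : IntLib.PicRing X), v ∈ Nakai.Aug X →
        Nakai.form k (Nakai.cl hq) v = q * Nakai.form k (Nakai.cl hI) v := fun q hq v hv => by
      obtain ⟨e⟩ := IntLib.mk_eq_mk.1 (show IntLib.mk (ClSub.idealMod (D ^ q)) =
          IntLib.mk (CohB1.tensorPow (ClSub.idealMod D) q) by
        rw [IntLib.mk_tensorPow]
        have h := (CastLib.mk_idealMod_prod (fun _ : Unit => D) (fun _ => hDcart) (fun _ => q) Finset.univ).2
        simpa using h)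
      rw [Nakai.cl_congr hq (AmpleLib.isInvertible_tensorPow hI q) e,
        Nakai.form_congr k hd2 (w := (q : ℤ) • Nakai.cl hI) ?_ hv, Nakai.form_smul_left]
      rw [zsmul_eq_mul, Int.cast_natCast]
      exact Nakai.cl_tensorPow_sub_mem hI q
    have hFI : PicF.IsInvertible (ClSub.idealMod (D ^ a)) :=
      CastLib.isInvertible_idealMod (CastLib.StrictPoint.isEffCartier_pow hDcart a)
    have hadjF := form_adjunction k hdim hWX hW hFI
    rw [hlin a hFI _ (Nakai.cl_mem _), hlin a hFI _ (Nakai.cl_mem _), Nakai.form_comm k (Nakai.cl hI) (Nakai.cl hFI),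
      hlin a hFI _ (Nakai.cl_mem _), h0, mul_zero, mul_zero] at hadjF
    have hχF : Curv2.euler k X (ClSub.quotMod (D ^ a)) = 1 - (g : ℤ) := by
      rw [← hF, ← ker_fiberι k f c hc, euler_fibre k f c hc]
      rw [euler_fibre k f q₀ hq₀] at hg
      have hlc := GenBCLib.isLocallyConstant_euler (f := f)
        (QCohLib.isFP_of_isCoh _ (DevLib.isCoh_structureModule X)) (BCLib.isFlatOver_structureModule f)
      exact (hlc.apply_eq_of_preconnectedSpace c q₀).trans hg
    rw [hχF] at hadjF
    have hpos : 0 < - Nakai.form k (Nakai.cl hI) (Nakai.cl hW) := by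
      by_contra hn
      have : 0 ≤ (a : ℤ) * Nakai.form k (Nakai.cl hI) (Nakai.cl hW) :=
        mul_nonneg (Int.natCast_nonneg a) (by omega)
      omega
    exact ⟨hpos.le, fun h => absurd h hpos.ne'⟩

end Groth.Agent.S15092
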