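import Groth.Statements.S15094
import Groth.Agent.KodVLib.Main
import Groth.Agent.ProjCoh.PSData
import Groth.Agent.AmpleLib.Pullback
import Groth.Agent.BlowExcLib.Smooth
-- import your own Groth.Agent.* helpers here

set_option autoImplicit false
set_option backward.isDefEq.respectTransparency false
set_option maxHeartbeats 800000
set_option synthInstance.maxHeartbeats 200000
universe u
open CategoryTheory CategoryTheory.Limits AlgebraicGeometry TopologicalSpace
open KodV

namespace Groth.Agent.S15094

open Groth.Agent CategoryTheory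
set_option backward.isDefEq.respectTransparency false
set_option maxHeartbeats 800000

/-- Let k be an algebraically closed field of characteristic p > 0, X a smooth proper integral scheme
over k, and L an invertible O_X-module with tensor inverse L⁻¹. If H⁰(X, (L⁻¹)^{⊗p^n} ⊗ Ω¹_{X/k}) =
0 for every n ≥ 1 and H¹(X, (L⁻¹)^{⊗p^{n₀}}) = 0 for some n₀, then H¹(X, L⁻¹) = 0. (The published
statement says smooth projective variety over a field of characteristic p; smooth, proper and
integral over an algebraically closed field is assumed here, the setting of the proposition it is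
deduced from.) -/
theorem result (k : Type u) [Field k] [IsAlgClosed k] (p : ℕ) [Fact p.Prime] [CharP k p]
    (X : Scheme.{u}) [X.Over (Spec (CommRingCat.of k))] [IsProper (X ↘ (Spec (CommRingCat.of k)))] [Smooth (X ↘ (Spec (CommRingCat.of k)))] [IsIntegral X]
    (L Linv : X.Modules) (hL : PicF.IsInvertible L) (hLinv : ClSub.IsInverseOf Linv L)
    (h0 : ∀ n : ℕ, 1 ≤ n → Subsingleton (Coh.HH X (CohB1.tensorMod (CohB1.tensorPow Linv (p ^ n)) (Omega.sheaf (X ↘ (Spec (CommRingCat.of k))))) 0))
    (h1 : ∃ n₀ : ℕ, Subsingleton (Coh.HH X (CohB1.tensorPow Linv (p ^ n₀)) 1)) :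
    Subsingleton (Coh.HH X Linv 1) := by
  have hXn : Pi1.IsNormalScheme X := BlowExcLib.isNormalScheme_of_smooth (k := k)
  have hLi : PicF.IsInvertible Linv := AmpleLib.isInvertible_of_tensor_iso hLinv.some
  obtain ⟨n₀, hn₀⟩ := h1
  have hstep : ∀ m : ℕ, Subsingleton (Coh.HH X (CohB1.tensorPow Linv (p ^ (m + 1))) 1) →
      Subsingleton (Coh.HH X (CohB1.tensorPow Linv (p ^ m)) 1) := fun m hm => by
    have e : CohB1.tensorPow (CohB1.tensorPow Linv (p ^ m)) p ≅ CohB1.tensorPow Linv (p ^ (m + 1)) :=
      AmpleLib.powMul Linv (p ^ m) p ≪≫ eqToIso (by rw [← pow_succ])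
    haveI := h0 (m + 1) (Nat.succ_pos m)
    refine KodVLib.subsingleton_H1 k p (X ↘ Spec (CommRingCat.of k)) hXn (AmpleLib.isInvertible_tensorPow hLi _) ?_ ?_
    · exact (ProjCoh.hhLinearEquiv (AmpleLib.comm _ _ ≪≫ AmpleLib.tIso e (Iso.refl _)) 0).toEquiv.subsingleton
    · exact (ProjCoh.hhLinearEquiv e 1).toEquiv.subsingleton
  have h : ∀ n, Subsingleton (Coh.HH X (CohB1.tensorPow Linv (p ^ n)) 1) →
      Subsingleton (Coh.HH X (CohB1.tensorPow Linv (p ^ 0)) 1) := by
    intro n
    induction n with
    | zero => exact id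
    | succ n ih => exact fun h => ih (hstep n h)
  haveI := h n₀ hn₀
  exact (ProjCoh.hhLinearEquiv (eqToIso (congrArg (CohB1.tensorPow Linv) (pow_zero p)) ≪≫ AmpleLib.powOne Linv) 1).toEquiv.symm.subsingleton

end Groth.Agent.S15094
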