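import Groth.Statements.S15098
import Groth.Agent.TwistShriek.SurfEff
-- import your own Groth.Agent.* helpers here

set_option autoImplicit false
set_option backward.isDefEq.respectTransparency false
set_option maxHeartbeats 800000
set_option synthInstance.maxHeartbeats 200000
universe u
open CategoryTheory CategoryTheory.Limits AlgebraicGeometry TopologicalSpace
open Surf
open Groth.Agent Groth.Agent.TwistShriek

namespace Groth.Agent.S15098

private lemma num_aux₁ (a b c : ℤ) (ha : 0 ≤ a + b) (hc : 0 ≤ b + c) (hb : b ≤ 0) :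
    0 ≤ (a + b + (b + c)) * ((a + b + (b + c)) * a - (a + b) * (a + b)) := by
  refine mul_nonneg (by linarith) ?_
  nlinarith [mul_le_mul (show -b ≤ a by linarith) (show -b ≤ c by linarith) (show 0 ≤ -b by linarith) (show 0 ≤ a by linarith)]

private lemma num_aux₂ (a b c d x y : ℤ) (hd : d = a + b + (b + c)) (hpos : 0 < d) (ha : 0 ≤ a + b) (hc : 0 ≤ b + c)
    (hb : b ≤ 0) (hx : x < 0) (hy : y < 0) (h0 : d * x + -(a + b) * (x + y) = 0)
    (h1 : (a + b + (b + c)) * ((a + b + (b + c)) * a - ((a + b) * (a + b))) = 0) : False := by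
  have h2 : a * c - b * b = 0 := by
    rcases mul_eq_zero.1 h1 with h | h
    · omega
    · linarith
  subst hd
  rcases ha.eq_or_lt with hab | hab
  · have h3 : (b + c) * x = 0 := by rw [← hab] at h0; linarith
    rcases mul_eq_zero.1 h3 with h | h <;> omega
  rcases hc.eq_or_lt with hbc | hbc
  · rw [← hbc] at h0
    nlinarith [mul_neg_of_pos_of_neg hab hy]
  nlinarith [mul_pos (show 0 < a + b from hab) (show 0 < b + c from hbc), mul_nonneg (show 0 ≤ -b by linarith) hab.le]


/-- Let k be an algebraically closed field, X a smooth projective surface over k (integral, proper and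
smooth, of dimension 2) and D an effective Cartier divisor on X, given by its ideal sheaf I_D, which
is numerically positive: (D·D) > 0 and (D·Γ) ≥ 0 for every integral curve Γ ⊆ X, that is χ(O_Γ ⊗
I_D) − χ(O_Γ) ≤ 0. Then D is numerically connected: whenever D = D₁ + D₂ with D₁, D₂ non-zero
effective Cartier divisors (I_D = I_{D₁}·I_{D₂} with both ideal sheaves different from O_X), (D₁·D₂)
> 0. Intersection numbers of divisors are computed on their ideal sheaves: (D₁·D₂) = χ(O_X) −
χ(I_{D₁}) − χ(I_{D₂}) + χ(I_{D₁} ⊗ I_{D₂}). (The published lemma sits in a positive-characteristic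
setting; its argument does not use the characteristic, so none is assumed here.) -/
theorem result (k : Type u) [Field k] [IsAlgClosed k]
    (X : Scheme.{u}) [X.Over (Spec (CommRingCat.of k))] [IsProper (X ↘ (Spec (CommRingCat.of k)))]
    [Smooth (X ↘ (Spec (CommRingCat.of k)))] [IsIntegral X] (hdim : topologicalKrullDim X = 2)
    (D : X.IdealSheafData) (hD : FGA.IsEffCartier D)
    (hpos : 0 < FGA.intNum k X 2 ![(ClSub.idealMod D), (ClSub.idealMod D)] (Coh.structureModule X))
    (hnef : ∀ Γ : X.IdealSheafData, IsIntegral Γ.subscheme → topologicalKrullDim (Γ.support : Set X) = 1 →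
      Curv2.euler k X (CohB1.tensorMod (ClSub.quotMod Γ) (ClSub.idealMod D)) - Curv2.euler k X (ClSub.quotMod Γ) ≤ 0)
    (D₁ D₂ : X.IdealSheafData) (hD₁ : FGA.IsEffCartier D₁) (hD₂ : FGA.IsEffCartier D₂)
    (hne₁ : D₁ ≠ ⊤) (hne₂ : D₂ ≠ ⊤) (hsum : D = D₁ * D₂) :
    0 < FGA.intNum k X 2 ![(ClSub.idealMod D₁), (ClSub.idealMod D₂)] (Coh.structureModule X) := by
    haveI := EulerIneqLib.isNoetherian_proper (X := X) k
    have hI : PicF.IsInvertible (ClSub.idealMod D) := (S8914.result _).2 hD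
    have h1I : PicF.IsInvertible (ClSub.idealMod D₁) := (S8914.result _).2 hD₁
    have h2I : PicF.IsInvertible (ClSub.idealMod D₂) := (S8914.result _).2 hD₂
    subst hsum
    obtain ⟨H, hH⟩ := exists_ample_of_smooth (k := k) (X := X) hdim
    have hge : ∀ (E : X.IdealSheafData), FGA.IsEffCartier E → ∀ hE : PicF.IsInvertible (ClSub.idealMod E),
        0 ≤ Nakai.form k (Nakai.cl hE) (Nakai.cl hI) := fun E hEe hE => by
      obtain ⟨s, hs1, hs2⟩ := exists_curves_of_divisor k hdim hEe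
      rw [← neg_nonpos, ← pairing_quotMod_cl k hE, hs2 _ (Nakai.cl_mem hI)]
      refine (Multiset.sum_le_card_nsmul _ (0 : ℤ) fun z hz => ?_).trans (nsmul_zero _).le
      obtain ⟨J, hJ, rfl⟩ := Multiset.mem_map.1 hz
      rw [Nakai.pairing_cl]
      exact hnef J (hs1 J hJ).1 (hs1 J hJ).2
    have ha := hge D₁ hD₁ h1I
    have hc := hge D₂ hD₂ h2I
    rw [intNum_eq_form k hdim.le hI hI] at hpos
    rw [intNum_eq_form k hdim.le h1I h2I]
    have hsplit := fun z (hz : z ∈ Nakai.Aug X) => form_ideal_mul k hdim h1I h2I hI hz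
    obtain ⟨h1H, h2H⟩ : Nakai.form k (Nakai.cl h1I) (Nakai.cl hH.1) < 0 ∧ Nakai.form k (Nakai.cl h2I) (Nakai.cl hH.1) < 0 :=
      ⟨form_ideal_neg k hdim.le hH h1I (dim_divisor k hdim hD₁ hne₁), form_ideal_neg k hdim.le hH h2I (dim_divisor k hdim hD₂ hne₂)⟩
    have hDH : Nakai.form k (Nakai.cl hI) (Nakai.cl hH.1) < 0 := by
      rw [hsplit _ (Nakai.cl_mem _)]; linarith
    by_contra hb
    push Not at hb
    have e1 := hsplit _ (Nakai.cl_mem h1I)
    have e2 := hsplit _ (Nakai.cl_mem h2I)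
    have e0 := hsplit _ (Nakai.cl_mem hI)
    rw [Nakai.form_comm k (Nakai.cl h2I) (Nakai.cl h1I)] at e1
    rw [Nakai.form_comm k (Nakai.cl hI) (Nakai.cl h1I)] at e1
    rw [Nakai.form_comm k (Nakai.cl hI) (Nakai.cl h2I)] at e2
    obtain ⟨a, hadef⟩ : ∃ a, a = Nakai.form k (Nakai.cl h1I) (Nakai.cl h1I) := ⟨_, rfl⟩
    obtain ⟨b, hbdef⟩ : ∃ b, b = Nakai.form k (Nakai.cl h1I) (Nakai.cl h2I) := ⟨_, rfl⟩
    obtain ⟨c, hcdef⟩ : ∃ c, c = Nakai.form k (Nakai.cl h2I) (Nakai.cl h2I) := ⟨_, rfl⟩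
    rw [← hadef, ← hbdef] at e1
    rw [← hbdef, ← hcdef] at e2
    rw [← hbdef] at hb
    obtain ⟨d, hddef⟩ : ∃ d, d = Nakai.form k (Nakai.cl hI) (Nakai.cl hI) := ⟨_, rfl⟩
    rw [← hddef] at hpos
    rw [← hddef, e1, e2] at e0
    rw [e1] at ha
    rw [e2] at hc
    obtain ⟨u, hu⟩ : ∃ u, u = d • Nakai.cl h1I + (-(a + b)) • Nakai.cl hI := ⟨_, rfl⟩
    have hum : u ∈ Nakai.Aug X := hu ▸ add_mem (zsmul_mem (Nakai.cl_mem _) _) (zsmul_mem (Nakai.cl_mem _) _)
    have huD : Nakai.form k u (Nakai.cl hI) = 0 := by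
      rw [hu, Nakai.form_add_left, Nakai.form_smul_left, Nakai.form_smul_left, e1, ← hddef]; ring
    have huh : Nakai.form k u (Nakai.cl h1I) = d * a - (a + b) * (a + b) := by
      rw [hu, Nakai.form_add_left, Nakai.form_smul_left, Nakai.form_smul_left, ← hadef,
        Nakai.form_comm k (Nakai.cl hI) (Nakai.cl h1I), e1]
      ring
    have huu : Nakai.form k u u = d * (d * a - (a + b) * (a + b)) := by
      nth_rewrite 2 [hu]
      rw [Nakai.form_add_right, Nakai.form_smul_right, Nakai.form_smul_right, huD, huh, mul_zero, add_zero]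
    have hnn : 0 ≤ Nakai.form k u u := by
      rw [huu, e0]; exact num_aux₁ a b c ha hc hb
    have h0 := Nakai.form_hodge k hdim hH hum (Nakai.cl_mem hI) (Nakai.cl_mem hH.1) (hddef ▸ hpos) huD hnn
    have h0' := Nakai.form_hodge k hdim hH hum (Nakai.cl_mem hI) hum (hddef ▸ hpos) huD hnn
    rw [hu, Nakai.form_add_left, Nakai.form_smul_left, Nakai.form_smul_left, hsplit _ (Nakai.cl_mem _)] at h0
    rw [huu, e0] at h0'
    exact num_aux₂ a b c d _ _ e0 hpos ha hc hb h1H h2H h0 h0'

end Groth.Agent.S15098
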