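import Groth.Statements.S15099
import Groth.Agent.TwistShriek.SurfNC
-- import your own Groth.Agent.* helpers here

set_option autoImplicit false
set_option backward.isDefEq.respectTransparency false
set_option maxHeartbeats 800000
set_option synthInstance.maxHeartbeats 200000
universe u
open CategoryTheory CategoryTheory.Limits AlgebraicGeometry TopologicalSpace
open Surf
open Groth.Agent Groth.Agent.TwistShriek

namespace Groth.Agent.S15099

/-- Let k be an algebraically closed field, X a smooth projective surface over k (integral, proper and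
smooth, of dimension 2) and D a non-zero effective Cartier divisor on X (ideal sheaf I_D ≠ O_X)
which is numerically connected: whenever D = D₁ + D₂ with D₁, D₂ non-zero effective Cartier divisors
(I_D = I_{D₁}·I_{D₂}, both different from O_X), (D₁·D₂) = χ(O_X) − χ(I_{D₁}) − χ(I_{D₂}) + χ(I_{D₁}
⊗ I_{D₂}) > 0. Then H⁰(D, O_D) = k, i.e. it is one-dimensional over k (computed on X through the
direct image of O_D). (The published lemma sits in a positive-characteristic setting; the printed
argument does not use the characteristic, so none is assumed here.) -/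
theorem result (k : Type u) [Field k] [IsAlgClosed k]
    (X : Scheme.{u}) [X.Over (Spec (CommRingCat.of k))] [IsProper (X ↘ (Spec (CommRingCat.of k)))]
    [Smooth (X ↘ (Spec (CommRingCat.of k)))] [IsIntegral X] (hdim : topologicalKrullDim X = 2)
    (D : X.IdealSheafData) (hD : FGA.IsEffCartier D) (hD0 : D ≠ ⊤)
    (hnc : ∀ D₁ D₂ : X.IdealSheafData, FGA.IsEffCartier D₁ → FGA.IsEffCartier D₂ → D₁ ≠ ⊤ → D₂ ≠ ⊤ →
      D = D₁ * D₂ → 0 < FGA.intNum k X 2 ![(ClSub.idealMod D₁), (ClSub.idealMod D₂)] (Coh.structureModule X)) :
    Module.finrank k (Coh.HH X (ClSub.quotMod D) 0) = 1 := by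
    haveI := EulerIneqLib.isNoetherian_proper (X := X) k
    have hL := ParaFLib.isInvertible_structureModule (X := X)
    let e := AmpleLib.unitR (ClSub.quotMod D)
    obtain ⟨h, -⟩ := numConn_twist k hdim hD hD0 hnc hL fun C hC hCd _ => by
      rw [CurveLib.euler_iso (K := k) (AmpleLib.unitR (ClSub.quotMod C)), sub_self]
    rw [ShBCLib.finrank_HH_iso (K := k) e 0] at h
    have hpos : 0 < Module.finrank k (Coh.HH X (ClSub.quotMod D) 0) :=
      finrank_pos_of_hom k (IntLib.isCoh_quotMod D) (σ := ClSub.toSubscheme D) fun hz => hD0 <| by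
        refine (Scheme.IdealSheafData.support_eq_bot_iff D).1
          (SetLike.coe_injective (Set.eq_empty_iff_forall_notMem.2 fun x hx => ?_))
        have h1 : H1ZeroLib.qv D x 1 = 0 := by
          rw [H1ZeroLib.qv, hz, DevLib.stalkLin_zero, LinearMap.zero_apply]
        exact (IsLocalRing.maximalIdeal.isMaximal (X.presheaf.stalk x)).ne_top
          ((Ideal.eq_top_iff_one _).2 (H1ZeroLib.stalkIdeal_le_maximal hx ((H1ZeroLib.qv_eq_zero_iff D x 1).1 h1)))
    omega

end Groth.Agent.S15099
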