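import Mathlib
import Groth.Statements.S15100
-- import your own Groth.Agent.* helpers here

set_option autoImplicit false
universe u
open TensorProduct
open CAlg

namespace Groth.Agent.S15100

theorem not_free_localized {A : Type u} [CommRing A] [IsDomain A] {M N : Type u}
    [AddCommGroup M] [Module A M] [Module.Free A M] [Module.Finite A M]
    [AddCommGroup N] [Module A N] (π : M →ₗ[A] N) (hπ : Function.Surjective π) (v : M) (hv : v ≠ 0)
    (hker : ∀ x, π x = 0 ↔ x ∈ Submodule.span A {v}) (P : Ideal A) [P.IsPrime]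
    (hP : ∀ ℓ : M →ₗ[A] A, ℓ v ∈ P) :
    ¬ Module.Free (Localization.AtPrime P) (LocalizedModule P.primeCompl N) := by
  classical
  intro hfree
  let mM := LocalizedModule.mkLinearMap P.primeCompl M
  let mN := LocalizedModule.mkLinearMap P.primeCompl N
  let πP : LocalizedModule P.primeCompl M →ₗ[Localization.AtPrime P] LocalizedModule P.primeCompl N :=
    LocalizedModule.map P.primeCompl π
  have hπP : ∀ x, πP (mM x) = mN (π x) := fun x => by
    simp [πP, mM, mN, LocalizedModule.mkLinearMap_apply, LocalizedModule.map_mk]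
  have hsurj : Function.Surjective πP := LocalizedModule.map_surjective P.primeCompl π hπ
  obtain ⟨s, hs⟩ := Module.projective_lifting_property πP LinearMap.id hsurj
  let ρ : M →ₗ[A] LocalizedModule P.primeCompl M :=
    mM - (s.restrictScalars A).comp (mN.comp π)
  have hρv : ρ v = mM v := by
    have : π v = 0 := (hker v).mpr (Submodule.mem_span_singleton_self v)
    simp [ρ, this]
  have hρ0 : ∀ x, πP (ρ x) = 0 := fun x => by
    have := congrArg (fun g => g (mN (π x))) hs
    simp only [LinearMap.comp_apply, LinearMap.id_apply] at this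
    simp [ρ, map_sub, hπP, this]
  have hker' : ∀ x, ∃ t : P.primeCompl, ∃ c : A, (t : A) • ρ x = c • mM v := by
    intro x
    obtain ⟨⟨z, t⟩, hzt⟩ := IsLocalizedModule.surj P.primeCompl mM (ρ x)
    have h0 : mN (π z) = 0 := by
      rw [← hπP, ← hzt]
      show πP ((t : A) • ρ x) = 0
      rw [LinearMap.map_smul_of_tower, hρ0, smul_zero]
    obtain ⟨q, hq⟩ := (IsLocalizedModule.eq_zero_iff P.primeCompl mN).mp h0
    have : π ((q : A) • z) = 0 := by rw [map_smul]; exact hq
    obtain ⟨c, hc⟩ := Submodule.mem_span_singleton.mp ((hker _).mp this)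
    refine ⟨q * t, c, ?_⟩
    rw [Submonoid.coe_mul, mul_smul, show (t : A) • ρ x = mM z from hzt, ← map_smul, ← hc,
      map_smul]
  let b := Module.Free.chooseBasis A M
  choose t c htc using fun i => hker' (b i)
  let T : A := ∏ i, (t i : A)
  have hTv : ∀ i, T • ρ (b i) = ((∏ j ∈ Finset.univ.erase i, (t j : A)) * c i) • mM v := by
    intro i
    rw [mul_smul, ← htc, smul_smul, Finset.prod_erase_mul _ _ (Finset.mem_univ i)]
  let d : A := T - ∑ i, b.repr v i * ((∏ j ∈ Finset.univ.erase i, (t j : A)) * c i)
  have hd : d ∈ P.primeCompl := by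
    intro hd
    have hsum : ∑ i, b.repr v i * ((∏ j ∈ Finset.univ.erase i, (t j : A)) * c i) ∈ P :=
      P.sum_mem fun i _ => P.mul_mem_right _ (hP (b.coord i))
    have : T ∈ P := by simpa [d] using P.add_mem hd hsum
    obtain ⟨i, _, hi⟩ := (‹P.IsPrime›.prod_mem_iff).mp this
    exact (t i).2 hi
  have hdv : d • mM v = 0 := by
    rw [sub_smul, sub_eq_zero, Finset.sum_smul]
    calc T • mM v = T • ρ (∑ i, b.repr v i • b i) := by rw [b.sum_repr, hρv]
      _ = _ := by
        rw [map_sum, Finset.smul_sum]
        refine Finset.sum_congr rfl fun i _ => ?_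
        rw [map_smul, smul_comm, hTv, smul_smul]
  rw [← map_smul] at hdv
  obtain ⟨q, hq⟩ := (IsLocalizedModule.eq_zero_iff P.primeCompl mM).mp hdv
  change (q : A) • d • v = 0 at hq
  have hcoe := congrArg (fun w => b.repr w) hq
  apply hv
  apply b.repr.injective
  ext i
  have hi := congrArg (fun w => w i) hcoe
  simp only [map_smul, map_zero, Finsupp.smul_apply, smul_eq_mul, Finsupp.zero_apply,
    mul_eq_zero] at hi
  rcases hi with h | h | h
  · exact absurd h (fun h => q.2 (h ▸ P.zero_mem))
  · exact absurd h (fun h => hd (h ▸ P.zero_mem))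
  · simpa using h

/-- Let V be a discrete valuation ring with uniformizer u and V → R → A commutative V-algebras with A an
R-algebra compatibly; assume A is a Noetherian local domain of Krull dimension 3 with u in its
maximal ideal, that Ω_{A/V} is a free A-module of rank 2 and that A ⊗_R Ω_{R/V} is a free A-module
of rank 1. Suppose that on the special fibre Ω_{A/R} is locally free exactly away from the closed
point: for every prime P of A containing u other than the maximal ideal the localization (Ω_{A/R})_P
is free over A_P, while Ω_{A/R} is not free over A. Then Ω_{A/R} is not locally free on the generic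
fibre: there is a prime Q of A not containing u with (Ω_{A/R})_Q not free over A_Q. (In the
published statement R is a regular local ring of dimension 2 and A a local ring of dimension 3, both
smooth over V, which yields the two freeness hypotheses used here, and the hypothesis is phrased as
local freeness of Ω of the special fibre of A over that of R away from the closed point.) -/
theorem result
    (V R A : Type u) [CommRing V] [IsDomain V] [IsDiscreteValuationRing V] [CommRing R] [CommRing A]
    [IsDomain A] [IsNoetherianRing A] [IsLocalRing A]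
    [Algebra V R] [Algebra V A] [Algebra R A] [IsScalarTower V R A]
    (u : V) (hu : Irreducible u) (huA : algebraMap V A u ∈ IsLocalRing.maximalIdeal A)
    (hdimA : ringKrullDim A = 3)
    (hΩA : Module.Free A (Ω[A⁄V])) (hrkA : Module.finrank A (Ω[A⁄V]) = 2)
    (hΩR : Module.Free A (A ⊗[R] Ω[R⁄V])) (hrkR : Module.finrank A (A ⊗[R] Ω[R⁄V]) = 1)
    (h0 : ∀ P : PrimeSpectrum A, algebraMap V A u ∈ P.asIdeal → P.asIdeal ≠ IsLocalRing.maximalIdeal A →
      Module.Free (Localization.AtPrime P.asIdeal) (LocalizedModule P.asIdeal.primeCompl (Ω[A⁄R])))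
    (hm : ¬ Module.Free A (Ω[A⁄R])) :
    ∃ Q : PrimeSpectrum A, algebraMap V A u ∉ Q.asIdeal ∧
      ¬ Module.Free (Localization.AtPrime Q.asIdeal) (LocalizedModule Q.asIdeal.primeCompl (Ω[A⁄R])) := by
  classical
  haveI := hΩA
  haveI := hΩR
  haveI : Module.Finite A (Ω[A⁄V]) := Module.finite_of_finrank_pos (by omega)
  haveI : Module.Finite A (A ⊗[R] Ω[R⁄V]) := Module.finite_of_finrank_pos (by omega)
  let eR := Module.finBasisOfFinrankEq A (A ⊗[R] Ω[R⁄V]) hrkR
  let π : Ω[A⁄V] →ₗ[A] Ω[A⁄R] := KaehlerDifferential.map V R A A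
  have hπ : Function.Surjective π := KaehlerDifferential.map_surjective V R A
  set v := KaehlerDifferential.mapBaseChange V R A (eR 0) with hvdef
  have hker : ∀ x, π x = 0 ↔ x ∈ Submodule.span A {v} := by
    intro x
    rw [Submodule.mem_span_singleton, (KaehlerDifferential.exact_mapBaseChange_map V R A) x]
    constructor
    · rintro ⟨w, rfl⟩
      refine ⟨eR.repr w 0, ?_⟩
      conv_rhs => rw [← eR.sum_repr w, Fin.sum_univ_one, map_smul]
    · rintro ⟨c, rfl⟩
      exact ⟨c • eR 0, map_smul _ _ _⟩
  let bA := Module.finBasisOfFinrankEq A (Ω[A⁄V]) hrkA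
  have hkerπ : LinearMap.ker π = Submodule.span A {v} := by ext x; exact hker x
  have hv : v ≠ 0 := by
    intro h0
    apply hm
    have : Function.Injective π := LinearMap.ker_eq_bot.mp (by rw [hkerπ, h0]; simp)
    exact Module.Free.of_equiv (LinearEquiv.ofBijective π ⟨this, hπ⟩)
  let J : Ideal A := Ideal.span {bA.repr v 0, bA.repr v 1}
  have hJtop : J ≠ ⊤ := by
    intro htop
    obtain ⟨p, q, hpq⟩ := Ideal.mem_span_pair.mp (htop ▸ Submodule.mem_top : (1 : A) ∈ J)
    let ℓ : Ω[A⁄V] →ₗ[A] A := p • bA.coord 0 + q • bA.coord 1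
    have hℓ : ℓ v = 1 := by simpa [ℓ] using hpq
    apply hm
    let g : Ω[A⁄V] →ₗ[A] Ω[A⁄V] := LinearMap.id - ℓ.smulRight v
    have hg : LinearMap.ker π ≤ LinearMap.ker g := by
      intro x hx
      obtain ⟨c, rfl⟩ := Submodule.mem_span_singleton.mp (hkerπ ▸ hx)
      simp [g, hℓ]
    let s := (Submodule.liftQ _ g hg).comp (π.quotKerEquivOfSurjective hπ).symm.toLinearMap
    have hs : π.comp s = LinearMap.id := by
      apply LinearMap.ext
      intro y
      obtain ⟨x, rfl⟩ := hπ y
      have : (π.quotKerEquivOfSurjective hπ).symm (π x) = Submodule.Quotient.mk x := by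
        rw [LinearEquiv.symm_apply_eq]; rfl
      simp [s, this, g, (hker v).mpr (Submodule.mem_span_singleton_self v)]
    haveI : Module.Projective A (Ω[A⁄R]) := Module.Projective.of_split s π hs
    haveI : Module.Finite A (Ω[A⁄R]) := Module.Finite.of_surjective π hπ
    exact Module.free_of_flat_of_isLocalRing
  obtain ⟨P, hP⟩ := (Ideal.nonempty_minimalPrimes hJtop)
  haveI := hP.1.1
  have hPm : P ≠ IsLocalRing.maximalIdeal A := by
    intro h
    have h1 : P.height ≤ J.spanRank.toENat :=
      Ideal.height_le_spanRank_toENat_of_mem_minimalPrimes J P hP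
    have h2 : J.spanRank.toENat ≤ 2 := by
      have : J.spanRank ≤ 2 := (Submodule.spanRank_span_le_card _).trans (by
        refine Cardinal.mk_insert_le.trans ?_
        rw [Cardinal.mk_singleton]; norm_num)
      simpa using Cardinal.toENat_le_ofNat.mpr this
    have h3 : ((P.height : ℕ∞) : WithBot ℕ∞) = 3 := by
      rw [h, IsLocalRing.maximalIdeal_height_eq_ringKrullDim, hdimA]
    have h4 : P.height = 3 := WithBot.coe_inj.mp h3
    rw [h4] at h1
    exact absurd (h1.trans h2) (by decide)
  have hnf : ¬ Module.Free (Localization.AtPrime P) (LocalizedModule P.primeCompl (Ω[A⁄R])) := by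
    refine not_free_localized π hπ v hv hker P fun ℓ => ?_
    rw [← bA.sum_repr v, map_sum, Fin.sum_univ_two, map_smul, map_smul, smul_eq_mul, smul_eq_mul]
    exact P.add_mem (P.mul_mem_right _ (hP.1.2 (Ideal.subset_span (by simp))))
      (P.mul_mem_right _ (hP.1.2 (Ideal.subset_span (by simp))))
  exact ⟨⟨P, inferInstance⟩, fun hu' => hnf (h0 ⟨P, inferInstance⟩ hu' hPm), hnf⟩

end Groth.Agent.S15100
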