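import Groth.Statements.S15104
import Groth.Agent.S16555
import Groth.Agent.S3345
import Groth.Agent.S4932
import Groth.Agent.CastLib.EulerFlat
import Groth.Agent.CastLib.RedFibre
import Groth.Agent.CastLib.FieldConst
import Groth.Agent.TwistShriek.SurfConn
import Groth.Agent.TwistShriek.CurveConn
import Groth.Agent.ProperMeetLib.Main

set_option autoImplicit false
universe u
open CategoryTheory CategoryTheory.Limits AlgebraicGeometry
open Models

namespace Groth.Agent.S15104

set_option backward.isDefEq.respectTransparency false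
set_option linter.style.haveILetI false
set_option maxHeartbeats 1000000
set_option synthInstance.maxHeartbeats 200000
open TopologicalSpace IsLocalRing Groth.Agent

/-- Lengths of the cohomology of a closed subscheme of the closed fibre are dimensions over the residue field. -/
theorem lengthH_eq_finrank {R : Type u} [CommRing R] [IsDomain R] [IsDiscreteValuationRing R] {Y : Scheme.{u}}
    (p : Y ⟶ Spec (CommRingCat.of R)) [IsProper p] (I : Y.IdealSheafData)
    (z : I.subscheme ⟶ Spec (CommRingCat.of (ResidueField R)))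
    (hz : I.subschemeι ≫ p = z ≫ Spec.map (CommRingCat.ofHom (IsLocalRing.residue R))) [IsProper z] (n : ℕ) :
    letI : I.subscheme.Over (Spec (CommRingCat.of (ResidueField R))) := ⟨z⟩
    Models.lengthH R (Over.mk p) (ClSub.quotMod I) n =
      Module.finrank (ResidueField R) (Coh.HH I.subscheme (Coh.structureModule I.subscheme) n) := by
  letI : I.subscheme.Over (Spec (CommRingCat.of (ResidueField R))) := ⟨z⟩
  haveI : IsProper (I.subscheme ↘ Spec (CommRingCat.of (ResidueField R))) := ‹IsProper z›
  haveI := EulerIneqLib.isNoetherian_proper (X := I.subscheme) (ResidueField R)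
  haveI : Coh.IsQCoh (Coh.structureModule I.subscheme) := (DevLib.isCoh_structureModule I.subscheme).1
  letI : Y.Over (Spec (CommRingCat.of R)) := ⟨p⟩
  obtain ⟨e, he⟩ := ProperFin.exists_pushEquiv I.subschemeι (M := Coh.structureModule I.subscheme)
    (fun _ hV m => CohBase.affine_vanishing _ (hV.preimage I.subschemeι) m) n
  letI : Module R (Coh.HH I.subscheme (Coh.structureModule I.subscheme) n) := Module.compHom _ (IsLocalRing.residue R)
  haveI : IsScalarTower R (ResidueField R) (Coh.HH I.subscheme (Coh.structureModule I.subscheme) n) :=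
    IsScalarTower.of_algebraMap_smul fun r m => rfl
  let L : Coh.HH I.subscheme (Coh.structureModule I.subscheme) n ≃ₗ[R]
      Coh.HH Y ((Scheme.Modules.pushforward I.subschemeι).obj (Coh.structureModule I.subscheme)) n :=
    { e with
      map_smul' := fun a x => by
        show e (Coh.toGlobal z (IsLocalRing.residue R a) • x) = Coh.toGlobal p a • e x
        rw [← CastLib.toGlobal_w hz a]
        exact he _ x }
  haveI := EulerIneqLib.finite_HH (k := ResidueField R) (DevLib.isCoh_structureModule I.subscheme) n
  have h1 : Module.length R (Coh.HH Y ((Scheme.Modules.pushforward I.subschemeι).obj (Coh.structureModule I.subscheme)) n) =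
      (Module.finrank (ResidueField R) (Coh.HH I.subscheme (Coh.structureModule I.subscheme) n) : ℕ∞) := by
    rw [← L.length_eq, Module.length_eq_of_surjective (R := ResidueField R) IsLocalRing.residue_surjective,
      Module.length_eq_finrank]
  show ENat.toNat _ = _
  erw [h1, ENat.toNat_natCast]

/-- Let R be a discrete valuation ring with algebraically closed residue field k and fraction field K, C
a smooth proper curve over K with H⁰(C, O_C) = K and dim_K H¹(C, O_C) = g ≥ 2, and X → Spec R a
minimal regular model of C: a regular proper model none of whose vertical prime divisors is an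
exceptional curve of the first kind. Let Γ₁, …, Γ_n enumerate the irreducible components of the
closed fibre, with multiplicities r_i having gcd 1, and suppose the closed fibre is not reduced
(some r_i ≥ 2). Then dim_k H¹((X_k)_red, O) < g, the left side computed as the R-length of H¹(X, O_X
/ I) for I the ideal sheaf of the reduced closed fibre. (The published lemma states this for any
regular model with gcd(r_i) = 1; its proof uses, in the last step, that the component added last is
not an exceptional curve, the standing hypothesis of the result it serves, and the inequality fails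
after blowing up a node of a reduced semi-stable fibre, so minimality is assumed here.) -/
theorem result
    (R : Type u) [CommRing R] [IsDomain R] [IsDiscreteValuationRing R]
    (hk : IsAlgClosed (IsLocalRing.ResidueField R))
    (C : Scheme.{u}) (fC : C ⟶ (Spec (CommRingCat.of (FractionRing R)))) [IsProper fC] [Smooth fC]
    (hC0 : Models.hRank (FractionRing R) C fC (Coh.structureModule C) 0 = 1)
    (g : ℕ) (hg2 : 2 ≤ g) (hg : Models.curveGenus (FractionRing R) C fC = g)
    (X : Scheme.{u}) (p : X ⟶ (Spec (CommRingCat.of R))) (hX : Models.IsMinimalModel R X p C fC)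
    {n : ℕ} (Γ : Fin n → ArSurf.VertComp R (Over.mk p)) (hΓ : Models.IsComponentList R (Over.mk p) Γ)
    (hgcd : Models.multGcd R (Over.mk p) Γ = 1) (hnr : ∃ i, 2 ≤ Models.mult R (Over.mk p) (Γ i)) :
    Models.lengthH R (Over.mk p) (ClSub.quotMod (Models.redFibreIdeal R (Over.mk p))) 1 < g := by
  classical
  haveI := hk
  obtain ⟨hmod, hp, hreg⟩ := id hX.1
  haveI := hp
  haveI : Flat p := hmod.1
  obtain ⟨gC, hgC⟩ := hmod.2.2.2
  obtain ⟨i₁, hi₁⟩ := hnr
  -- the generic fibre is integral
  letI : C.Over (Spec (CommRingCat.of (FractionRing R))) := ⟨fC⟩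
  haveI : IsProper (C ↘ Spec (CommRingCat.of (FractionRing R))) := ‹IsProper fC›
  haveI : Smooth (C ↘ Spec (CommRingCat.of (FractionRing R))) := ‹Smooth fC›
  haveI : Nonempty C := by
    by_contra hne
    rw [not_nonempty_iff] at hne
    haveI : Subsingleton Γ(C, ⊤) := by
      rw [show (⊤ : C.Opens) = ⊥ from Opens.ext (Set.eq_empty_of_isEmpty _ |>.trans (Set.eq_empty_of_isEmpty _).symm)]
      infer_instance
    haveI : Subsingleton Γ(Coh.structureModule C, ⊤) := ‹Subsingleton Γ(C, ⊤)›
    haveI : Subsingleton (Coh.HH C (Coh.structureModule C) 0) :=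
      (CurveLib.secOf (Coh.structureModule C)).toEquiv.subsingleton
    have : Models.hRank (FractionRing R) C fC (Coh.structureModule C) 0 = 0 := Module.finrank_zero_of_subsingleton
    omega
  haveI : ConnectedSpace C := TwistShriek.connectedSpace_of_h0 (FractionRing R) hC0
  haveI : IsIntegral C := CurveLib.isIntegral_of_smooth (X := C) (FractionRing R)
  haveI : IsIntegral X := SurfPtBlow.isIntegral_model hgC hreg
  haveI : IsLocallyNoetherian X := LocallyOfFiniteType.isLocallyNoetherian p
  -- the dimension of the generic fibre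
  let η := genericPoint (Spec (CommRingCat.of R))
  let s := Spec.map (CommRingCat.ofHom (algebraMap R (FractionRing R)))
  have hs : Set.range s = {η} := by
    refine Set.eq_singleton_iff_unique_mem.2 ⟨?_, ?_⟩
    · refine ⟨default, PrimeSpectrum.ext ?_⟩
      show Ideal.comap (algebraMap R (FractionRing R)) _ = η.asIdeal
      rw [(Ideal.eq_bot_or_top (default : Spec (CommRingCat.of (FractionRing R))).asIdeal).resolve_right
          (default : Spec (CommRingCat.of (FractionRing R))).2.ne_top,
        show η.asIdeal = ⊥ by rw [show η = ⟨⊥, Ideal.isPrime_bot⟩ from genericPoint_eq_bot_of_affine (CommRingCat.of R)],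
        ← RingHom.ker_eq_comap_bot]
      exact (RingHom.injective_iff_ker_eq_bot _).1 (IsFractionRing.injective R (FractionRing R))
    · rintro _ ⟨t, rfl⟩
      refine PrimeSpectrum.ext ?_
      show Ideal.comap (algebraMap R (FractionRing R)) t.asIdeal = η.asIdeal
      rw [(Ideal.eq_bot_or_top t.asIdeal).resolve_right t.2.ne_top,
        show η.asIdeal = ⊥ by rw [show η = ⟨⊥, Ideal.isPrime_bot⟩ from genericPoint_eq_bot_of_affine (CommRingCat.of R)],
        ← RingHom.ker_eq_comap_bot]
      exact (RingHom.injective_iff_ker_eq_bot _).1 (IsFractionRing.injective R (FractionRing R))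
  haveI : IsPreimmersion s := IsPreimmersion.of_isLocalization (nonZeroDivisors R)
  haveI : IsPreimmersion gC := MorphismProperty.of_isPullback (P := @IsPreimmersion) hgC.flip inferInstance
  have hgr : Set.range gC = p ⁻¹' {η} := by
    rw [← hs, ← IsPullback.isoPullback_hom_fst hgC]
    simp only [Scheme.Hom.comp_base, TopCat.coe_comp]
    erw [Function.Surjective.range_comp (f := ⇑hgC.isoPullback.hom) hgC.isoPullback.hom.surjective]
    exact Scheme.Pullback.range_fst p s
  haveI : IsDominant p := ⟨by
    have h1 : η ∈ Set.range p := by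
      obtain ⟨c⟩ := (inferInstance : Nonempty C)
      exact ⟨gC c, hgr.le ⟨c, rfl⟩⟩
    exact Dense.mono (Set.singleton_subset_iff.2 h1) (dense_iff_closure_eq.2 (genericPoint_spec (Spec (CommRingCat.of R))))⟩
  have hn : Nonempty (Fin n) := ⟨i₁⟩
  obtain ⟨c₁⟩ : Nonempty (Γ i₁).curve.left := inferInstance
  have hΓs : (Γ i₁).ι c₁ ∈ p ⁻¹' {closedPoint R} := CastLib.vertComp_vertical (Γ i₁) c₁
  have hs0 : Nonempty ↥(p.fiber (closedPoint R)) := ⟨(p.fiberHomeo (closedPoint R)).symm ⟨_, hΓs⟩⟩
  have hcompdim : topologicalKrullDim (p ⁻¹' {closedPoint R} : Set X) = 1 := by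
    have hc : IsClosed (p ⁻¹' {closedPoint R} : Set X) :=
      (IsLocalRing.isClosed_singleton_closedPoint R).preimage p.continuous
    refine le_antisymm (ProperMeetLib.topologicalKrullDim_le_of_forall_irreducible _ fun A hA => ?_) ?_
    · have hA' : IsIrreducible (Subtype.val '' A : Set X) := hA.image _ continuous_subtype_val.continuousOn
      obtain ⟨Z, hZ, hZi, hZmax⟩ : ∃ Z : Set X, Subtype.val '' A ⊆ Z ∧ IsIrreducible Z ∧
          Maximal (fun S : Set X => IsIrreducible S ∧ S ⊆ p ⁻¹' {closedPoint R}) Z := by
        obtain ⟨Z, hAZ, hZ⟩ := zorn_subset_nonempty {S : Set X | IsIrreducible S ∧ S ⊆ p ⁻¹' {closedPoint R}}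
          (fun c hc hch hne => ⟨⋃₀ c, ⟨⟨by
              obtain ⟨S, hS⟩ := hne
              exact (hc hS).1.nonempty.mono (Set.subset_sUnion_of_mem hS),
            by
              rintro U V hU hV ⟨a, ⟨S, hS, haS⟩, haU⟩ ⟨b, ⟨T, hT, hbT⟩, hbV⟩
              rcases hch.total hS hT with h | h
              · obtain ⟨w, hw, hw'⟩ := (hc hT).1.2 U V hU hV ⟨a, h haS, haU⟩ ⟨b, hbT, hbV⟩
                exact ⟨w, Set.mem_sUnion_of_mem hw hT, hw'⟩
              · obtain ⟨w, hw, hw'⟩ := (hc hS).1.2 U V hU hV ⟨a, haS, haU⟩ ⟨b, h hbT, hbV⟩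
                exact ⟨w, Set.mem_sUnion_of_mem hw hS, hw'⟩⟩,
            Set.sUnion_subset fun S hS => (hc hS).2⟩, fun S hS => Set.subset_sUnion_of_mem hS⟩)
          (Subtype.val '' A) ⟨hA', by rintro _ ⟨a, -, rfl⟩; exact a.2⟩
        exact ⟨Z, hAZ, hZ.prop.1, hZ⟩
      obtain ⟨j, hj⟩ := hΓ.2.ge (show Z ∈ Models.fibreComponents R (Over.mk p) from hZmax)
      refine ⟨Subtype.val ⁻¹' Set.range (Γ j).ι, fun a ha => hj.symm.le (hZ (Set.mem_image_of_mem _ ha)), ?_⟩
      refine le_trans (Topology.IsInducing.topologicalKrullDim_le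
        (f := fun y : ↥((Subtype.val : (p ⁻¹' {closedPoint R} : Set X) → X) ⁻¹' Set.range (Γ j).ι) =>
          (⟨y.1.1, y.2⟩ : ↥(Set.range (Γ j).ι)))
        ((Topology.IsInducing.subtypeVal.comp Topology.IsInducing.subtypeVal).codRestrict fun y => y.2)) ?_
      exact (((Γ j).ι.isEmbedding.toHomeomorph).isHomeomorph.topologicalKrullDim_eq.symm.trans (Γ j).dim_eq).le
    · let m : (Γ i₁).curve.left → (p ⁻¹' {closedPoint R} : Set X) :=
        fun c => ⟨(Γ i₁).ι c, CastLib.vertComp_vertical (Γ i₁) c⟩
      have hm : Topology.IsInducing m :=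
        Topology.IsInducing.of_comp ((Γ i₁).ι.continuous.subtype_mk _) continuous_subtype_val (Γ i₁).ι.isEmbedding.isInducing
      exact (Γ i₁).dim_eq.ge.trans hm.topologicalKrullDim_le
  have hdimC : topologicalKrullDim C = 1 := by
    have h := Groth.Agent.S4932.result p hs0
    rw [IsHomeomorph.topologicalKrullDim_eq _ (p.fiberHomeo _).isHomeomorph,
      IsHomeomorph.topologicalKrullDim_eq _ (p.fiberHomeo _).isHomeomorph, hcompdim] at h
    rw [(gC.isEmbedding.toHomeomorph).isHomeomorph.topologicalKrullDim_eq, hgr]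
    exact h.symm
  have hC : Curve.IsSmoothProperCurve (FractionRing R) C fC := ⟨inferInstance, inferInstance, inferInstance, hdimC⟩
  have hH0 : IsIso fC.appTop := by
    let φ : FractionRing R →+* Γ(C, ⊤) := Coh.toGlobal (C ↘ Spec (CommRingCat.of (FractionRing R)))
    have hbij : Function.Bijective φ := by
      haveI : Nonempty (⊤ : C.Opens).toScheme := ⟨⟨Classical.arbitrary C, trivial⟩⟩
      haveI : Nonempty ↥(⊤ : C.Opens) := ⟨⟨Classical.arbitrary C, trivial⟩⟩
      letI := φ.toAlgebra
      let e : Coh.HH C (Coh.structureModule C) 0 ≃ₗ[FractionRing R] Γ(C, ⊤) :=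
        { (CurveLib.secOf (Coh.structureModule C)) with
          map_smul' := fun r c => CurveLib.secOf_smul (k := FractionRing R) _ r c }
      refine ⟨RingHom.injective _, fun y => ?_⟩
      have h1 : Module.finrank (FractionRing R) Γ(C, ⊤) = 1 := e.finrank_eq.symm.trans hC0
      obtain ⟨c, hc⟩ := exists_smul_eq_of_finrank_eq_one h1 (one_ne_zero (α := Γ(C, ⊤))) y
      exact ⟨c, by rw [← hc, Algebra.smul_def, mul_one]; rfl⟩
    refine (ConcreteCategory.isIso_iff_bijective _).2 ((Function.Bijective.of_comp_iff _
      (ConcreteCategory.bijective_of_isIso (Scheme.ΓSpecIso (CommRingCat.of (FractionRing R))).inv)).1 ?_)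
    exact hbij
  have hV := CastLib.VSurf.of_model hC hX.1
  have hconn : _root_.IsPreconnected (Models.specialFibreSet R (Over.mk p)) :=
    SteinConn.isPreconnected_closedFibre p (SurfPtBlow.toGlobal_surjective hgC hH0)
  -- the reduced fibre
  let sκ := Spec.map (CommRingCat.ofHom (IsLocalRing.residue R))
  haveI : IsClosedImmersion sκ := IsClosedImmersion.spec_of_surjective _ IsLocalRing.residue_surjective
  obtain ⟨zF, hzF⟩ := CastLib.exists_fibre_structure (Over.mk p)
  haveI : IsProper zF := MorphismProperty.of_isPullback (P := @IsProper) hzF (inferInstanceAs (IsProper p))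
  let J : X.IdealSheafData := Models.redFibreIdeal R (Over.mk p)
  have hJr : Set.range (J.subschemeι ≫ p) ⊆ Set.range sκ := by
    rintro _ ⟨t, rfl⟩
    refine ⟨closedPoint (ResidueField R), ?_⟩
    have h1 : J.subschemeι t ∈ Models.specialFibreSet R (Over.mk p) := by
      have h2 := J.range_subschemeι.le ⟨t, rfl⟩
      rwa [show (J.support : Set X) = Models.specialFibreSet R (Over.mk p) from
        Scheme.IdealSheafData.coe_support_vanishingIdeal _] at h2
    rw [Scheme.Hom.comp_apply]
    exact (IsLocalRing.comap_closedPoint (IsLocalRing.residue R)).trans (h1 : p (J.subschemeι t) = closedPoint R).symm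
  haveI : IsReduced J.subscheme := DVRCrit.isReduced_vanishingIdeal _
  obtain ⟨zJ, hzJ⟩ := S16555.exists_lift_of_range (J.subschemeι ≫ p) sκ hJr
  haveI : IsProper (zJ ≫ sκ) := hzJ.symm ▸ inferInstanceAs (IsProper (J.subschemeι ≫ p))
  haveI : IsProper zJ := IsProper.of_comp zJ sκ
  have hH0red : Models.lengthH R (Over.mk p) (ClSub.quotMod J) 0 = 1 := by
    rw [lengthH_eq_finrank p J zJ hzJ.symm 0]
    letI : J.subscheme.Over (Spec (CommRingCat.of (ResidueField R))) := ⟨zJ⟩
    haveI : IsProper (J.subscheme ↘ Spec (CommRingCat.of (ResidueField R))) := ‹IsProper zJ›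
    haveI : ConnectedSpace J.subscheme := by
      refine connectedSpace_iff_univ.2 ?_
      have h : _root_.IsConnected (J.support : Set X) := by
        rw [show (J.support : Set X) = Models.specialFibreSet R (Over.mk p) from
          Scheme.IdealSheafData.coe_support_vanishingIdeal _]
        exact ⟨⟨_, hΓs⟩, hconn⟩
      rw [← Scheme.IdealSheafData.range_subschemeι, ← Set.image_univ] at h
      exact ⟨Set.image_nonempty.1 h.1, J.subschemeι.isEmbedding.isInducing.isPreconnected_image.1 h.2⟩
    exact TwistShriek.finrank_H0_connected (ResidueField R)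
  -- the fibre
  let S : X.IdealSheafData := Models.specialFibreIdeal R (Over.mk p)
  have hF := hV.fieldFin_fibre hconn hΓ hgcd
  have hH0F : Models.lengthH R (Over.mk p) (ClSub.quotMod S) 0 = 1 := by
    rw [lengthH_eq_finrank p S zF hzF.w 0]
    letI : S.subscheme.Over (Spec (CommRingCat.of (ResidueField R))) := ⟨zF⟩
    haveI : IsProper (S.subscheme ↘ Spec (CommRingCat.of (ResidueField R))) := ‹IsProper zF›
    haveI := EulerIneqLib.isNoetherian_proper (X := S.subscheme) (ResidueField R)
    haveI := EulerIneqLib.finite_HH (k := ResidueField R) (DevLib.isCoh_structureModule S.subscheme) 0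
    let φ : ResidueField R →+* Γ(S.subscheme, ⊤) := Coh.toGlobal (S.subscheme ↘ Spec (CommRingCat.of (ResidueField R)))
    letI := φ.toAlgebra
    let e : Coh.HH S.subscheme (Coh.structureModule S.subscheme) 0 ≃ₗ[ResidueField R] Γ(S.subscheme, ⊤) :=
      { (CurveLib.secOf (Coh.structureModule S.subscheme)) with
        map_smul' := fun r c => CurveLib.secOf_smul (k := ResidueField R) _ r c }
    rw [e.finrank_eq]
    haveI : Module.Finite (ResidueField R) Γ(S.subscheme, ⊤) := Module.Finite.equiv e
    letI : Field Γ(S.subscheme, ⊤) := hF.1.toField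
    rw [← (LinearEquiv.ofBijective (Algebra.linearMap (ResidueField R) Γ(S.subscheme, ⊤))
      (IsAlgClosed.algebraMap_bijective_of_isIntegral (k := ResidueField R) (K := Γ(S.subscheme, ⊤)))).finrank_eq,
      Module.finrank_self]
  have hchi := CastLib.chiLen_fibre hC hH0 hX.1
  letI : X.Over (Spec (CommRingCat.of R)) := ⟨p⟩
  have hchi' : (Models.lengthH R (Over.mk p) (ClSub.quotMod S) 0 : ℤ) -
      (Models.lengthH R (Over.mk p) (ClSub.quotMod S) 1 : ℤ) = 1 - (g : ℤ) := by
    rw [← hg]
    exact hchi
  have hne : S ≠ J := fun hSJ => by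
    haveI := hV.int
    haveI := hV.noeth
    obtain ⟨hK, hfib⟩ := hV.toFibreGood.fibre_eq_prod hΓ
    obtain ⟨hco, hinj, -⟩ := hV.toFibreGood.componentList hΓ
    have hred := CastLib.redFibreIdeal_eq_prod hC hX.1 hΓ
    let ξ := Models.genPtOf R (Over.mk p) (Γ i₁)
    have hpw : ∀ e : Fin n → ℕ, IntMult.stalkIdeal (∏ i, (Γ i).ι.ker ^ e i) ξ =
        maximalIdeal ((Over.mk p).left.presheaf.stalk ξ) ^ e i₁ := fun e => by
      rw [CastLib.stalkIdeal_prod', Finset.prod_eq_single i₁]
      · rw [CastLib.ker_vertComp, CastLib.stalkIdeal_cl_self]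
      · intro j _ hj
        rw [CastLib.ker_vertComp, CastLib.stalkIdeal_cl_of_ne (hco j) (hco i₁) (fun h => hj (hinj h)),
          ← Ideal.one_eq_top, one_pow]
      · exact fun h => absurd (Finset.mem_univ i₁) h
    have h1 := congrArg (IntMult.stalkIdeal · ξ) hSJ
    rw [show S = ∏ i, (Γ i).ι.ker ^ Models.mult R (Over.mk p) (Γ i) from hfib, hpw,
      show J = ∏ i, (Γ i).ι.ker ^ (fun _ => 1 : Fin n → ℕ) i from hred.trans (by simp only [pow_one]), hpw] at h1
    haveI : IsDiscreteValuationRing ((Over.mk p).left.presheaf.stalk ξ) :=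
      CDivLib.isDVR_stalk (fun x => by haveI := hV.reg x; exact PurityLib.isIntegrallyClosed_of_regular _) (hco i₁)
    have h2 := Ideal.pow_le_pow_right (I := maximalIdeal ((Over.mk p).left.presheaf.stalk ξ)) hi₁
    rw [pow_one] at h1
    have h3 : maximalIdeal ((Over.mk p).left.presheaf.stalk ξ) ≤ maximalIdeal ((Over.mk p).left.presheaf.stalk ξ) ^ 2 :=
      h1.ge.trans h2
    refine IsDiscreteValuationRing.not_a_field ((Over.mk p).left.presheaf.stalk ξ) ?_
    exact Submodule.eq_bot_of_le_smul_of_le_jacobson_bot (maximalIdeal _) _ (IsNoetherian.noetherian _)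
      (by rw [smul_eq_mul, ← pow_two]; exact h3) (IsLocalRing.maximalIdeal_le_jacobson _)
  have hlt := (Groth.Agent.S3345.result R C X fC p hC hH0 hX.1 Γ hΓ hX hgcd hH0red).2 hne
  change Models.lengthH R (Over.mk p) (ClSub.quotMod J) 1 < Models.lengthH R (Over.mk p) (ClSub.quotMod S) 1 at hlt
  show Models.lengthH R (Over.mk p) (ClSub.quotMod J) 1 < g
  omega

end Groth.Agent.S15104
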