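import Groth.Statements.S15115
import Mathlib
import Groth.Agent.Comodule.Reductive
import Groth.Agent.Comodule.Integral
import Groth.Agent.Comodule.Antipode
-- import your own Groth.Agent.* helpers here

set_option autoImplicit false
universe u
open HopfRep

namespace Groth.Agent.S15115

open TensorProduct in
/-- Let k be an algebraically closed field, H a finite-dimensional commutative Hopf algebra over k all
of whose finite-dimensional comodules are semisimple (a finite linearly reductive group scheme G
over k), A a commutative k-algebra, and M an A-module with an H-coaction that is A-linear (G acts on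
M by A-module maps, A carrying the trivial action). Let A' be a commutative A-algebra and N = A' ⊗_A
M its base change, exhibited by an A-linear map φ : M → N, with the induced coaction: A'-linear and
compatible with φ. Then invariants commute with this base change: writing M^G for the A-submodule of
coinvariant elements of M, the natural map A' ⊗_A M^G → N, a' ⊗ m ↦ a' φ(m), is injective and its
image is exactly the set of coinvariant elements of N. (The published statement is the isomorphism
ρ^* π_* F → π'_* σ^* F for a tame Deligne–Mumford stack with coarse moduli space π and any base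
change ρ of the coarse space; this row is the statement about invariants to which its proof reduces
it, for modules that need not be finitely generated.) -/
theorem result (k : Type u) [Field k] [IsAlgClosed k]
    (H : Type u) [CommRing H] [HopfAlgebra k H] [Module.Finite k H] (hred : HopfRep.IsLinearlyReductive k H)
    (A : Type u) [CommRing A] [Algebra k A]
    (M : Type u) [AddCommGroup M] [Module k M] [Module A M] [IsScalarTower k A M] [HopfRep.Comod k H M]
    (hlin : ∀ (a : A) (m : M), HopfRep.Comod.coact (k := k) (A := H) (a • m) = a • HopfRep.Comod.coact (k := k) (A := H) m)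
    (A' : Type u) [CommRing A'] [Algebra k A'] [Algebra A A'] [IsScalarTower k A A']
    (N : Type u) [AddCommGroup N] [Module k N] [Module A N] [Module A' N]
    [IsScalarTower k A N] [IsScalarTower A A' N] [IsScalarTower k A' N] [HopfRep.Comod k H N]
    (φ : M →ₗ[A] N) (hφ : IsBaseChange A' φ)
    (hcomp : ∀ m : M, HopfRep.Comod.coact (k := k) (A := H) (φ m) =
      LinearMap.rTensor H (φ.restrictScalars k) (HopfRep.Comod.coact (k := k) (A := H) m))
    (hlinN : ∀ (a' : A') (n : N), HopfRep.Comod.coact (k := k) (A := H) (a' • n) = a' • HopfRep.Comod.coact (k := k) (A := H) n)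
    (P : Submodule A M) (hP : (P : Set M) = (HopfRep.fixedPts k H M : Set M)) :
    Function.Injective (TensorProduct.lift (((Algebra.lsmul A A N : A' →ₐ[A] Module.End A N).toLinearMap).compl₂ (φ ∘ₗ P.subtype))) ∧
      Set.range (TensorProduct.lift (((Algebra.lsmul A A N : A' →ₐ[A] Module.End A N).toLinearMap).compl₂ (φ ∘ₗ P.subtype))) =
        (HopfRep.fixedPts k H N : Set N) := by
  obtain ⟨α, hα, hα1⟩ := Comodule.exists_integral_of_linRed hred
  have hl : Comodule.IsIntegral' α := ((Comodule.isIntegral'_iff α).mpr ⟨hα, hα1⟩)
  let l : H →ₗ[k] k := α ∘ₗ HopfAlgebra.antipode k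
  have hr : ∀ a : H, Comodule.rcon l (Coalgebra.comul (R := k) a) = l a • (1 : H) := by
    intro a
    have h := congrArg (HopfAlgebra.antipode k) (hl.invariant (HopfAlgebra.antipode k a))
    rw [map_smul, HopfAlgebra.antipode_one, Comodule.comul_antipode] at h
    refine Eq.trans ?_ h
    generalize Coalgebra.comul (R := k) a = z
    induction z with
    | zero => simp
    | add p q hp hq => simp only [map_add, hp, hq]
    | tmul p q => simp [l, Comodule.antipode_antipode]
  have hl1 : l 1 = 1 := by simp [l, HopfAlgebra.antipode_one, hα1]
  -- the projection to the fixed vectors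
  have hproj : ∀ {V : Type u} [AddCommGroup V] [Module k V] [HopfRep.Comod k H V] (v : V),
      Comodule.rcon l (HopfRep.Comod.coact (k := k) (A := H) v) ∈ HopfRep.fixedPts k H V := by
    intro V _ _ _ v
    show HopfRep.Comod.coact (k := k) (A := H) (Comodule.rcon l _) = Comodule.rcon l _ ⊗ₜ[k] (1 : H)
    have e1 : ∀ z : V ⊗[k] H, HopfRep.Comod.coact (k := k) (A := H) (Comodule.rcon l z) =
        (Comodule.rcon l : H ⊗[k] H →ₗ[k] H).lTensor V (TensorProduct.assoc k V H H
          ((HopfRep.Comod.coact (k := k) (A := H) (V := V)).rTensor H z)) := by
      intro z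
      induction z with
      | zero => simp
      | add p q hp hq => simp only [map_add, hp, hq]
      | tmul p q =>
        rw [Comodule.rcon_tmul, map_smul, LinearMap.rTensor_tmul]
        generalize HopfRep.Comod.coact (k := k) (A := H) p = w
        induction w with
        | zero => simp
        | add r s hr hs => simp only [TensorProduct.add_tmul, map_add, smul_add, hr, hs]
        | tmul r s => simp
    have hc := LinearMap.congr_fun (HopfRep.Comod.coassoc (k := k) (A := H) (V := V)) v
    simp only [LinearMap.comp_apply, LinearEquiv.coe_coe] at hc
    rw [e1, hc]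
    induction HopfRep.Comod.coact (k := k) (A := H) v with
    | zero => simp
    | add p q hp hq => simp only [map_add, TensorProduct.add_tmul, hp, hq]
    | tmul p q => rw [LinearMap.lTensor_tmul, LinearMap.lTensor_tmul, hr, Comodule.rcon_tmul, TensorProduct.tmul_smul, TensorProduct.smul_tmul']
  have hfix : ∀ {V : Type u} [AddCommGroup V] [Module k V] [HopfRep.Comod k H V] (v : V),
      v ∈ HopfRep.fixedPts k H V → Comodule.rcon l (HopfRep.Comod.coact (k := k) (A := H) v) = v := by
    intro V _ _ _ v (hv : HopfRep.Comod.coact (k := k) (A := H) v = v ⊗ₜ[k] (1 : H))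
    rw [hv, Comodule.rcon_tmul, hl1, one_smul]
  have hsm : ∀ {S V : Type u} [CommRing S] [Algebra k S] [AddCommGroup V] [Module k V] [Module S V]
      [IsScalarTower k S V] (s : S) (z : V ⊗[k] H), Comodule.rcon l (s • z) = s • Comodule.rcon l z := by
    intro S V _ _ _ _ _ _ s z
    induction z with
    | zero => simp
    | add p q hp hq => simp only [map_add, smul_add, hp, hq]
    | tmul p q => rw [TensorProduct.smul_tmul', Comodule.rcon_tmul, Comodule.rcon_tmul, smul_comm]
  have hmem : ∀ m, m ∈ P ↔ m ∈ HopfRep.fixedPts k H M := fun m => Set.ext_iff.mp hP m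
  let π : M →ₗ[A] ↥P :=
    { toFun := fun m => ⟨Comodule.rcon l (HopfRep.Comod.coact (k := k) (A := H) m), (hmem _).mpr (hproj m)⟩
      map_add' := fun x y => Subtype.ext (by simp)
      map_smul' := fun a m => Subtype.ext (by simp [hlin, hsm]) }
  set F := TensorProduct.lift (((Algebra.lsmul A A N : A' →ₐ[A] Module.End A N).toLinearMap).compl₂ (φ ∘ₗ P.subtype))
    with hF
  have hF' : ∀ (a' : A') (m : ↥P), F (a' ⊗ₜ[A] m) = a' • φ (m : M) := fun a' m => rfl
  constructor
  · let G : N →ₗ[A] A' ⊗[A] ↥P := (π.lTensor A') ∘ₗ (hφ.equiv.symm.toLinearMap.restrictScalars A)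
    refine Function.LeftInverse.injective (g := G) fun z => ?_
    induction z with
    | zero => simp
    | add p q hp hq => rw [map_add, map_add, hp, hq]
    | tmul a' m =>
      rw [hF']
      have e : hφ.equiv.symm (a' • φ (m : M)) = a' ⊗ₜ[A] (m : M) := by
        rw [LinearEquiv.symm_apply_eq, IsBaseChange.equiv_tmul]
      show π.lTensor A' (hφ.equiv.symm (a' • φ (m : M))) = _
      rw [e, LinearMap.lTensor_tmul]
      congr 1
      exact Subtype.ext (hfix _ ((hmem _).mp m.2))
  · refine Set.Subset.antisymm ?_ ?_
    · rintro _ ⟨z, rfl⟩
      induction z with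
      | zero => rw [map_zero]; exact zero_mem _
      | add p q hp hq => rw [map_add]; exact add_mem hp hq
      | tmul a' m =>
        rw [hF']
        show HopfRep.Comod.coact (k := k) (A := H) (a' • φ (m : M)) = (a' • φ (m : M)) ⊗ₜ[k] (1 : H)
        rw [hlinN, hcomp, show HopfRep.Comod.coact (k := k) (A := H) (m : M) = (m : M) ⊗ₜ[k] (1 : H) from (hmem _).mp m.2,
          LinearMap.rTensor_tmul, TensorProduct.smul_tmul']
        rfl
    · intro n hn
      have key : ∀ n : N, Comodule.rcon l (HopfRep.Comod.coact (k := k) (A := H) n) ∈ Set.range F := by
        intro n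
        induction n using hφ.inductionOn with
        | zero => exact ⟨0, by simp⟩
        | tmul m =>
          refine ⟨(1 : A') ⊗ₜ[A] π m, ?_⟩
          rw [hF', one_smul, hcomp]
          show φ (Comodule.rcon l _) = _
          generalize HopfRep.Comod.coact (k := k) (A := H) m = w
          induction w with
          | zero => simp
          | add p q hp hq => simp only [map_add, hp, hq]
          | tmul p q =>
            rw [Comodule.rcon_tmul, LinearMap.rTensor_tmul, Comodule.rcon_tmul]
            exact map_smul (φ.restrictScalars k) _ _
        | smul a' x hx =>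
          obtain ⟨z, hz⟩ := hx
          refine ⟨a' • z, ?_⟩
          have hsF : ∀ z, F (a' • z) = a' • F z := by
            intro z
            induction z with
            | zero => simp
            | add p q hp hq => simp only [smul_add, map_add, hp, hq]
            | tmul b m => rw [TensorProduct.smul_tmul', hF', hF', smul_eq_mul, mul_smul]
          rw [hlinN, hsm, hsF, hz]
        | add x y hx hy =>
          obtain ⟨z, hz⟩ := hx
          obtain ⟨z', hz'⟩ := hy
          exact ⟨z + z', by rw [map_add, hz, hz', map_add, map_add]⟩
      have := key n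
      rwa [hfix n hn] at this

end Groth.Agent.S15115
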