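import Mathlib
import Groth.Statements.S15116
-- import your own Groth.Agent.* helpers here

set_option autoImplicit false
universe u v
open NRGIT

namespace Groth.Agent.S15116

/-- Let k be a characteristic-zero field and A a commutative k-algebra, graded by the integers with all
pieces of positive degree zero, and D a k-derivation of A that raises degrees by a fixed positive
integer l. If no maximal ideal of A contains both every piece of negative degree and the image of D,
then there is f with D f = 1. (The published statement is for an affine variety with an action of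
the semidirect product of the additive and multiplicative groups, the multiplicative group acting on
the coordinate ring with non-positive weights and on the Lie algebra of the additive group with
positive weight: the derivation is a generator of that Lie algebra, the maximal ideals containing
the pieces of negative degree are the limit points under the multiplicative group, and a limit point
has trivial additive stabiliser exactly when the image of D is not contained in its ideal; this row
keeps only this algebraic content, for any such graded algebra. The first assertion of the published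
lemma, that every point has a limit in the variety under the multiplicative group as t → 0, is not
part of this row.) -/
theorem result (k : Type u) [Field k] [CharZero k]
    (A : Type v) [CommRing A] [Algebra k A] (𝒜 : ℤ → Submodule k A) [GradedAlgebra 𝒜]
    (hpos : ∀ i : ℤ, 0 < i → 𝒜 i = ⊥)
    (D : Derivation k A A) (l : ℤ) (hl : 0 < l)
    (hD : ∀ (i : ℤ) (a : A), a ∈ 𝒜 i → D a ∈ 𝒜 (i + l))
    (hfree : ∀ m : Ideal A, m.IsMaximal → (∀ i : ℤ, i < 0 → (𝒜 i : Set A) ⊆ m) → ∃ a : A, D a ∉ m) :
    ∃ f : A, D f = 1 := by
  classical
  let S : Submodule k A := (𝒜 (-l)).map D.toLinearMap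
  let π : A →+ A := GradedRing.proj 𝒜 0
  have hneg : ∀ i : ℤ, ∀ a ∈ 𝒜 i, i ≠ 0 → π a = 0 := fun i a ha hi => by
    simp only [π, GradedRing.proj_apply]
    exact DirectSum.decompose_of_mem_ne 𝒜 ha hi
  have h0 : ∀ a ∈ 𝒜 0, π a = a := fun a ha => by
    simp only [π, GradedRing.proj_apply]
    exact DirectSum.decompose_of_mem_same 𝒜 ha
  let G : Set A := (⋃ (i : ℤ) (_ : i < 0), (𝒜 i : Set A)) ∪ Set.range D
  have htop : Ideal.span G = ⊤ := by
    by_contra hne
    obtain ⟨m, hm, hle⟩ := Ideal.exists_le_maximal _ hne
    obtain ⟨a, ha⟩ := hfree m hm fun i hi x hx =>
      hle (Ideal.subset_span (Or.inl (Set.mem_iUnion₂.mpr ⟨i, hi, hx⟩)))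
    exact ha (hle (Ideal.subset_span (Or.inr ⟨a, rfl⟩)))
  have hDb : ∀ (i j : ℤ) (c b : A), c ∈ 𝒜 i → b ∈ 𝒜 j → π (c * D b) ∈ S := by
    intro i j c b hc hb
    have hcd : c * D b ∈ 𝒜 (i + (j + l)) := SetLike.mul_mem_graded hc (hD j b hb)
    by_cases hs : i + (j + l) = 0
    · rcases lt_trichotomy i 0 with hi | rfl | hi
      · have : D b = 0 := by
          have := hD j b hb
          rwa [hpos (j + l) (by omega), Submodule.mem_bot] at this
        simp [this]
      · rw [hs] at hcd
        rw [h0 _ hcd]
        have hDc : D c = 0 := by
          have := hD 0 c hc
          rwa [hpos (0 + l) (by omega), Submodule.mem_bot] at this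
        refine ⟨c * b, ?_, ?_⟩
        · have := SetLike.mul_mem_graded hc hb
          rwa [show (0 : ℤ) + j = -l by omega] at this
        · simp [Derivation.leibniz, hDc]
      · have : c = 0 := by rwa [hpos i hi, Submodule.mem_bot] at hc
        simp [this]
    · rw [hneg _ _ hcd hs]; exact S.zero_mem
  have key : ∀ x ∈ Ideal.span G, ∀ c : A, π (c * x) ∈ S := by
    intro x hx
    induction hx using Submodule.span_induction with
    | mem x hx =>
      intro c
      induction c using DirectSum.Decomposition.inductionOn 𝒜 with
      | zero => simp
      | @homogeneous i c =>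
        rcases hx with hx | ⟨b, rfl⟩
        · obtain ⟨j, hj, hxj⟩ := Set.mem_iUnion₂.mp hx
          rcases le_or_gt i 0 with hi | hi
          · rw [hneg _ _ (SetLike.mul_mem_graded c.2 hxj) (by omega)]; exact S.zero_mem
          · have : (c : A) = 0 := by
              have hh : ∀ a ∈ 𝒜 i, a = 0 := by rw [hpos i hi]; simp
              exact hh _ c.2
            simp [this]
        · induction b using DirectSum.Decomposition.inductionOn 𝒜 with
          | zero => simp
          | @homogeneous j b => exact hDb i j _ _ c.2 b.2
          | add b b' hb hb' => rw [map_add, mul_add, map_add]; exact S.add_mem hb hb'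
      | add c c' hc hc' => rw [add_mul, map_add]; exact S.add_mem hc hc'
    | zero => intro c; simp
    | add x y _ _ hx hy => intro c; rw [mul_add, map_add]; exact S.add_mem (hx c) (hy c)
    | smul a x _ hx => intro c; rw [smul_eq_mul, ← mul_assoc]; exact hx _
  have := key 1 (htop ▸ Submodule.mem_top) 1
  rw [mul_one, h0 1 SetLike.GradedOne.one_mem] at this
  obtain ⟨f, _, hf⟩ := this
  exact ⟨f, hf⟩

end Groth.Agent.S15116
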