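import Mathlib
import Groth.Statements.S15117

set_option autoImplicit false
universe u v w
open TensorProduct
open NRGIT

namespace Groth.Agent.S15117

/-- Let k be a field, π : A → B a map of commutative bialgebras over k, W a right A-comodule and V ⊆ W a
subcomodule all of whose elements are coinvariant for the B-coaction induced through π. Then the
coaction of every v ∈ V lies in V ⊗ A' ⊆ W ⊗ A, where A' ⊆ A is the set of elements a with (π ⊗
id)(Δ a) = 1 ⊗ a, i.e. coinvariant for the coaction of B on A through π on the left factor; the row
states membership in the span of the pure tensors w ⊗ a with w ∈ V and a ∈ A'. (The published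
statement is for a linear algebraic group H over an algebraically closed field of characteristic
zero, a normal subgroup N and an H-stable space V of N-invariant sections of a linearised line
bundle, with the coaction landing in O(H)^N ⊗ V, where O(H)^N is the ring of functions on H
invariant under N acting by right multiplication; this row is the comodule form, for any bialgebra
map over a field, where normality of N is not needed.) -/
theorem result (k : Type u) [Field k]
    (A B : Type v) [CommRing A] [CommRing B] [Bialgebra k A] [Bialgebra k B] (π : A →ₐc[k] B)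
    (W : Type w) [AddCommGroup W] [Module k W] [HopfRep.Comod k A W]
    (V : Submodule k W) (hV : HopfRep.IsSubcomod (k := k) (A := A) V)
    (hfix : ∀ v ∈ V, (π.toLinearMap.lTensor W) (HopfRep.Comod.coact (k := k) (A := A) v) = v ⊗ₜ[k] (1 : B))
    (v : W) (hv : v ∈ V) :
    HopfRep.Comod.coact (k := k) (A := A) v ∈
      Submodule.span k {x : W ⊗[k] A | ∃ w ∈ V, ∃ a : A,
        (π.toLinearMap.rTensor A) (Coalgebra.comul (R := k) a) = (1 : B) ⊗ₜ[k] a ∧ x = w ⊗ₜ[k] a} := by
  classical
  obtain ⟨z, hz⟩ := hV v hv
  let K : A →ₗ[k] B ⊗[k] A :=
    π.toLinearMap.rTensor A ∘ₗ Coalgebra.comul - TensorProduct.mk k B A 1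
  have hK0 : K.lTensor W (HopfRep.Comod.coact (k := k) (A := A) v) = 0 := by
    have hc := LinearMap.congr_fun (HopfRep.Comod.coassoc (k := k) (A := A) (V := W)) v
    simp only [LinearMap.coe_comp, Function.comp_apply, LinearEquiv.coe_coe] at hc
    simp only [K, LinearMap.lTensor_sub, LinearMap.sub_apply, sub_eq_zero, LinearMap.lTensor_comp,
      LinearMap.comp_apply]
    rw [← hc, ← hz]
    clear hz hc
    induction z with
    | zero => simp
    | tmul w a =>
      simp only [LinearMap.rTensor_tmul, Submodule.subtype_apply, LinearMap.lTensor_tmul,
        TensorProduct.mk_apply]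
      have h1 : ∀ y : W ⊗[k] A, (π.toLinearMap.rTensor A).lTensor W
          (TensorProduct.assoc k W A A (y ⊗ₜ[k] a)) =
          TensorProduct.assoc k W B A (π.toLinearMap.lTensor W y ⊗ₜ[k] a) := by
        intro y
        induction y with
        | zero => simp
        | tmul c d => simp
        | add x y hx hy => simp only [TensorProduct.add_tmul, map_add, hx, hy]
      rw [h1, hfix (w : W) w.2, TensorProduct.assoc_tmul]
    | add x y hx hy => simp only [map_add, hx, hy]
  have hK1 : K.lTensor V z = 0 := by
    apply Module.Flat.rTensor_preserves_injective_linearMap (M := B ⊗[k] A) V.subtype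
      V.injective_subtype
    rw [map_zero, ← hK0, ← hz, ← LinearMap.comp_apply, ← LinearMap.comp_apply,
      LinearMap.rTensor_comp_lTensor, LinearMap.lTensor_comp_rTensor]
  let b := Module.Basis.ofVectorSpace k V
  let a := TensorProduct.equivFinsuppOfBasisLeft b z
  have ha : ∀ i, K (a i) = 0 := by
    intro i
    have h : ∀ y : V ⊗[k] A, TensorProduct.equivFinsuppOfBasisLeft b (K.lTensor V y) i =
        K (TensorProduct.equivFinsuppOfBasisLeft b y i) := by
      intro y
      induction y with
      | zero => simp
      | tmul w c => simp
      | add x y hx hy => simp only [map_add, Finsupp.add_apply, hx, hy]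
    rw [← h, hK1, map_zero, Finsupp.zero_apply]
  rw [← hz, ← (TensorProduct.equivFinsuppOfBasisLeft b).symm_apply_apply z,
    TensorProduct.equivFinsuppOfBasisLeft_symm_apply, map_finsuppSum]
  refine Submodule.finsuppSum_mem _ _ _ _ fun i _ => Submodule.subset_span ?_
  refine ⟨(b i : W), (b i).2, a i, ?_, by simp [a]⟩
  have := ha i
  simpa [K, sub_eq_zero] using this

end Groth.Agent.S15117
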