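import Groth.Statements.S15120
import Groth.Agent.RedQuotLib.Normal

set_option autoImplicit false
set_option backward.isDefEq.respectTransparency false
set_option backward.isDefEq.respectTransparency.types false
universe u
open CategoryTheory MonoidalCategory CartesianMonoidalCategory MonObj GrpObj AlgebraicGeometry Topology
open NRGIT

namespace Groth.Agent.S15120

/-- Over an algebraically closed field k of characteristic zero, let H be a linear algebraic group
(affine, reduced, of finite type) with a closed normal subgroup N and quotient q : H → Q (a
surjective homomorphism with kernel N), acting on a variety X (reduced, separated, of finite type);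
let the restricted action of N have a geometric quotient π : X → Y with Y a variety, and let Q act
on Y so that π is equivariant along q; assume Y affine and Q connected reductive. Then Y admits a
geometric quotient by Q whose target is a variety (separated, reduced, of finite type) exactly when
every orbit of a geometric point of X under H is closed. (The published lemma allows any reductive
Q, not necessarily connected, and assumes in addition that the stabilisers of the N-action are
finite, which this part does not use; geometric quotients there are affine good quotients that are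
orbit spaces, while this row uses universally submersive geometric quotients that need not be
affine, and the induced action of Q on Y is taken as a datum together with the equivariance of π;
this row takes Q connected reductive.) -/
theorem result (k : Type u) [Field k] [IsAlgClosed k] [CharZero k]
    (H N Q X Y : Over (Spec (CommRingCat.of k))) [GrpObj H] [GrpObj N] [GrpObj Q]
    [IsAffine H.left] [LocallyOfFiniteType H.hom] [IsReduced H.left]
    [IsAffine N.left] [LocallyOfFiniteType N.hom] [IsReduced N.left]
    [IsAffine Q.left] [LocallyOfFiniteType Q.hom] [IsReduced Q.left]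
    [LocallyOfFiniteType X.hom] [QuasiCompact X.hom] [IsSeparated X.hom] [IsReduced X.left]
    [LocallyOfFiniteType Y.hom] [QuasiCompact Y.hom] [IsSeparated Y.hom] [IsReduced Y.left]
    (i : N ⟶ H) [IsMonHom i] [IsClosedImmersion i.left] (hnorm : AlgGrp.IsNormalHom i)
    (q : H ⟶ Q) [IsMonHom q] [Surjective q.left] (hker : AlgGrp.IsKernel i q)
    (a : AlgGrp.Action H X) (aN : AlgGrp.Action N X) (haN : aN.act = (i ▷ X) ≫ a.act)
    (π : X ⟶ Y) (hπ : GIT.IsGeomQuot aN π)
    (aQ : AlgGrp.Action Q Y) (hequiv : (q ⊗ₘ π) ≫ aQ.act = a.act ≫ π)
    [IsAffine Y.left] (hQ : Red.IsReductive Q) :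
    (∃ (Z : Over (Spec (CommRingCat.of k))) (ψ : Y ⟶ Z), LocallyOfFiniteType Z.hom ∧ QuasiCompact Z.hom ∧
        IsSeparated Z.hom ∧ IsReduced Z.left ∧ GIT.IsGeomQuot aQ ψ) ↔ GIT.IsClosedAction a := by
  rw [← Groth.Agent.RedQuot.isClosedAction_iff i q a aN haN π hπ aQ hequiv]
  constructor
  · rintro ⟨Z, ψ, -, -, -, -, hψ⟩
    exact Groth.Agent.GitQuot.isClosedAction_of_isGeomQuot aQ ψ hψ
  · intro hc
    obtain ⟨A, _, _, e, _, _, hA⟩ := Groth.Agent.RedQuot.exists_linRed Q hQ
    obtain ⟨Z, ψ, hZ, hinj, hrange, hinv, hu, hs, -, hft⟩ := Groth.Agent.RedQuot.exists_quotient hA e aQ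
    haveI := hZ
    haveI : _root_.IsReduced Γ(Z.left, ⊤) := isReduced_of_injective ψ.left.appTop.hom hinj
    haveI : IsReduced (Spec Γ(Z.left, ⊤)) := inferInstance
    haveI : IsReduced Z.left := isReduced_of_isOpenImmersion Z.left.isoSpec.hom
    exact ⟨Z, ψ, hft inferInstance, inferInstance, inferInstance, inferInstance,
      ((Groth.Agent.GitQuot.univCatQuot_properties aQ ψ hu).2.2.2
        ⟨hs, Groth.Agent.RedQuot.surjective_psiY hA e aQ ψ hinv hinj hrange hc⟩).1⟩

end Groth.Agent.S15120
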