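import Groth.Statements.S15121
-- import your own Groth.Agent.* helpers here

set_option autoImplicit false
set_option backward.isDefEq.respectTransparency false
universe u v w
open InvQ

namespace Groth.Agent.S15121

/-- Let k be a field of characteristic zero and A a commutative k-algebra graded by a finitely generated
free abelian group Λ (the character group of a torus acting on Spec A) whose grading monoid is
positive: if the pieces of degrees w and −w are both non-zero then w = 0. Let δ be a locally
nilpotent k-derivation of A (an action of the additive group) that is homogeneous of degree d, with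
the piece of degree d equal to zero (the graded condition on the Lie algebra weight). Suppose that
no maximal ideal of A contains both all graded pieces of non-zero degree and the image of δ (every
torus-fixed closed point has trivial stabiliser under the additive group). Then δ has a homogeneous
slice: some s of degree −d with δ s = 1. (The published statement is for the coordinate ring of an
affine variety over an algebraically closed field of characteristic zero and concludes moreover that
the quotient map by the additive group is a trivial principal bundle, which follows from the slice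
by a standard argument not restated here; this row keeps the algebraic content, for any such graded
algebra.) -/
theorem result
    (k : Type u) [Field k] [CharZero k]
    (A : Type v) [CommRing A] [Algebra k A]
    (Λ : Type w) [AddCommGroup Λ] [DecidableEq Λ] [Module.Free ℤ Λ] [Module.Finite ℤ Λ]
    (𝒜 : Λ → Submodule k A) [GradedAlgebra 𝒜]
    (hpos : ∀ w : Λ, 𝒜 w ≠ ⊥ → 𝒜 (-w) ≠ ⊥ → w = 0)
    (δ : Derivation k A A) (hnil : ∀ a : A, ∃ n : ℕ, ((δ : A →ₗ[k] A) ^ n) a = 0)
    (d : Λ) (hhom : ∀ (w : Λ) (a : A), a ∈ 𝒜 w → δ a ∈ 𝒜 (w + d)) (hd : 𝒜 d = ⊥)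
    (hfix : ∀ m : Ideal A, m.IsMaximal → (∀ w : Λ, w ≠ 0 → (𝒜 w : Set A) ⊆ m) → ¬ (Set.range δ ⊆ m)) :
    ∃ s ∈ 𝒜 (-d), δ s = 1 := by
  classical
  let P : A → Prop := fun x => ∃ s ∈ 𝒜 (-d), δ s = GradedAlgebra.proj 𝒜 0 x
  have hP0 : P 0 := ⟨0, zero_mem _, by simp⟩
  have hPadd : ∀ x y, P x → P y → P (x + y) := by
    rintro x y ⟨s, hs, hs'⟩ ⟨t, ht, ht'⟩
    exact ⟨s + t, add_mem hs ht, by rw [map_add, map_add, hs', ht']⟩
  have hproj : ∀ {u : Λ} {x : A}, x ∈ 𝒜 u → GradedAlgebra.proj 𝒜 0 x = if u = 0 then x else 0 := by
    intro u x hx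
    rw [GradedAlgebra.proj_apply]
    split_ifs with h
    · subst h; rw [DirectSum.decompose_of_mem_same 𝒜 hx]
    · rw [DirectSum.decompose_of_mem_ne 𝒜 hx h]
  have hW : ∀ (w : Λ) (x : A), w ≠ 0 → x ∈ 𝒜 w → ∀ y, P (y * x) := by
    intro w x hw hx y
    induction y using DirectSum.Decomposition.inductionOn 𝒜 with
    | zero => rw [zero_mul]; exact hP0
    | add a b ha hb => rw [add_mul]; exact hPadd _ _ ha hb
    | @homogeneous v y =>
      refine ⟨0, zero_mem _, ?_⟩
      rw [map_zero, hproj (SetLike.mul_mem_graded y.2 hx)]
      split_ifs with h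
      · symm
        by_contra hne
        refine hw (hpos w (fun hb => ?_) fun hb => ?_)
        · rw [hb, Submodule.mem_bot] at hx; exact hne (by rw [hx, mul_zero])
        · have hy := y.2
          have hy' : (y : A) ∈ 𝒜 (-w) := eq_neg_of_add_eq_zero_left h ▸ hy
          rw [hb, Submodule.mem_bot] at hy'
          exact hne (by rw [hy', zero_mul])
      · rfl
  have hD : ∀ b y, P (y * δ b) := by
    intro b y
    induction b using DirectSum.Decomposition.inductionOn 𝒜 with
    | zero => rw [map_zero, mul_zero]; exact hP0
    | add a c ha hc => rw [map_add, mul_add]; exact hPadd _ _ ha hc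
    | @homogeneous u b =>
      by_cases hu : u + d = 0
      · induction y using DirectSum.Decomposition.inductionOn 𝒜 with
        | zero => rw [zero_mul]; exact hP0
        | add a c ha hc => rw [add_mul]; exact hPadd _ _ ha hc
        | @homogeneous v y =>
          have hb0 : δ (b : A) ∈ 𝒜 0 := hu ▸ hhom u b b.2
          have hyb := SetLike.mul_mem_graded y.2 hb0
          rw [add_zero] at hyb
          by_cases hv : v = 0
          · have hb1 : (b : A) ∈ 𝒜 (-d) := eq_neg_of_add_eq_zero_left hu ▸ b.2
            have hy0 : (y : A) ∈ 𝒜 0 := hv ▸ y.2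
            refine ⟨(y : A) * b, by simpa using SetLike.mul_mem_graded hy0 hb1, ?_⟩
            have hy : δ (y : A) = 0 := by
              have h1 := hhom 0 y hy0
              rwa [zero_add, hd, Submodule.mem_bot] at h1
            rw [Derivation.leibniz, hy, smul_zero, add_zero, smul_eq_mul, hproj hyb, if_pos hv]
          · exact ⟨0, zero_mem _, by rw [map_zero, hproj hyb, if_neg hv]⟩
      · exact hW (u + d) _ hu (hhom u b b.2) y
  let I : Ideal A := Ideal.span ({x : A | ∃ w : Λ, w ≠ 0 ∧ x ∈ 𝒜 w} ∪ Set.range δ)
  have hI : I = ⊤ := by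
    by_contra hne
    obtain ⟨m, hm, hle⟩ := Ideal.exists_le_maximal I hne
    exact hfix m hm (fun w hw x hx => hle (Ideal.subset_span (Or.inl ⟨w, hw, hx⟩)))
      fun x hx => hle (Ideal.subset_span (Or.inr hx))
  have hone : ∀ y, P (y * 1) :=
    Submodule.span_induction (p := fun x _ => ∀ y, P (y * x))
      (fun x hx y => by
        rcases hx with ⟨w, hw, hx⟩ | ⟨b, rfl⟩
        · exact hW w x hw hx y
        · exact hD b y)
      (fun y => by rw [mul_zero]; exact hP0)
      (fun a b _ _ ha hb y => by rw [mul_add]; exact hPadd _ _ (ha y) (hb y))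
      (fun c x _ hx y => by rw [smul_eq_mul, ← mul_assoc]; exact hx _)
      (show (1 : A) ∈ I from hI ▸ Submodule.mem_top)
  obtain ⟨s, hs, hs'⟩ := hone 1
  refine ⟨s, hs, hs'.trans ?_⟩
  rw [mul_one, hproj (SetLike.one_mem_graded 𝒜), if_pos rfl]

end Groth.Agent.S15121
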