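import Groth.Statements.S15122
import Mathlib
-- import your own Groth.Agent.* helpers here

set_option autoImplicit false
set_option backward.isDefEq.respectTransparency false
universe u v w
open GIT

namespace Groth.Agent.S15122

/-- Let R be a commutative ring, A a commutative R-algebra graded by the natural numbers, σ a
homogeneous element of degree zero, and B the localisation of A away from σ, equipped with a grading
by the natural numbers for which the localisation map ι : A → B is a graded ring homomorphism (such
a grading is necessarily the one induced from A). Then the homogeneous ideal of B generated by the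
image of the irrelevant ideal of A is the whole irrelevant ideal of B; in other words the induced
rational map from Proj B to Proj A is defined everywhere. (The published statement also assumes σ a
non-zero-divisor, which this step does not use, and goes on to conclude that Proj B → Proj A is an
open immersion onto the basic open set of σ.) -/
theorem result
    (R : Type u) (A : Type v) (B : Type w) [CommRing R] [CommRing A] [CommRing B] [Algebra R A] [Algebra R B]
    [Algebra A B] [IsScalarTower R A B]
    (𝒜 : ℕ → Submodule R A) [GradedAlgebra 𝒜] (ℬ : ℕ → Submodule R B) [GradedAlgebra ℬ]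
    (σ : A) (hσ0 : σ ∈ 𝒜 0) [IsLocalization.Away σ B]
    (ι : 𝒜 →+*ᵍ ℬ) (hι : ∀ a : A, ι a = algebraMap A B a) :
    (HomogeneousIdeal.irrelevant 𝒜).map ι = HomogeneousIdeal.irrelevant ℬ := by
  refine le_antisymm ?_ fun b hb => ?_
  · intro b hb
    change b ∈ (HomogeneousIdeal.irrelevant ℬ).toIdeal
    revert b hb
    change (HomogeneousIdeal.irrelevant 𝒜).toIdeal.map ι ≤ (HomogeneousIdeal.irrelevant ℬ).toIdeal
    rw [Ideal.map_le_iff_le_comap]
    intro a ha
    change (DirectSum.decompose ℬ (ι a) 0 : B) = 0
    rw [← (ι.map_directSumDecompose), show (DirectSum.decompose 𝒜 a 0 : A) = 0 from ha, map_zero]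
  · obtain ⟨⟨a, ⟨_, n, rfl⟩⟩, ha⟩ := IsLocalization.surj (Submonoid.powers σ) b
    simp only [← hι] at ha
    have hu : IsUnit (ι (σ ^ n)) := by
      rw [hι]; exact IsLocalization.map_units B (⟨σ ^ n, n, rfl⟩ : Submonoid.powers σ)
    have hσn : σ ^ n ∈ 𝒜 0 := by
      have := SetLike.pow_mem_graded n hσ0
      rwa [nsmul_zero] at this
    have h0 : ι (GradedRing.proj 𝒜 0 a) = 0 := by
      have e1 : (DirectSum.decompose ℬ (b * ι (σ ^ n)) 0 : B) = (DirectSum.decompose ℬ b 0 : B) * ι (σ ^ n) := by
        have := DirectSum.coe_decompose_mul_add_of_right_mem ℬ (a := b) (i := 0) (GradedFunLike.map_mem ι hσn)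
        rwa [zero_add] at this
      rw [ha, show (DirectSum.decompose ℬ b 0 : B) = 0 from hb, zero_mul] at e1
      rw [GradedRing.proj_apply]
      exact ((ι.map_directSumDecompose)).trans e1
    have hmem : ι a ∈ (HomogeneousIdeal.irrelevant 𝒜).toIdeal.map ι := by
      have : ι a = ι (a - GradedRing.proj 𝒜 0 a) := by rw [map_sub, h0, sub_zero]
      rw [this]
      refine Ideal.mem_map_of_mem _ ?_
      change GradedRing.proj 𝒜 0 (a - GradedRing.proj 𝒜 0 a) = 0
      rw [map_sub, GradedRing.proj_apply, GradedRing.proj_apply, DirectSum.decompose_of_mem_same _ (Subtype.prop _), sub_self]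
    rw [← ha] at hmem
    exact (Ideal.mul_unit_mem_iff_mem _ hu).1 hmem

end Groth.Agent.S15122
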