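import Groth.Statements.S15125
import Mathlib
open TensorProduct

set_option autoImplicit false
universe u
open scoped TensorProduct
open Fields

namespace Groth.Agent.S15125

/-- Some element outside the diagonal kills `x ⊗ 1 - 1 ⊗ x`: the extension is unramified. -/
theorem formallyUnramified_of_mul_eq_zero (K M : Type u) [Field K] [Field M] [Algebra K M] (x₀ : M)
    (hgen : ∀ N : IntermediateField K M, x₀ ∈ N → N = ⊤) (t : M ⊗[K] M)
    (ht : (x₀ ⊗ₜ[K] (1 : M) - (1 : M) ⊗ₜ[K] x₀) * t = 0)
    (hc0 : Algebra.TensorProduct.lmul' K (S := M) t ≠ 0) : Algebra.FormallyUnramified K M := by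
  set z₀ : M ⊗[K] M := x₀ ⊗ₜ[K] (1 : M) - (1 : M) ⊗ₜ[K] x₀ with hz₀
  have hz₀I : z₀ ∈ KaehlerDifferential.ideal K M := by
    rw [hz₀, ← neg_sub]
    exact neg_mem (KaehlerDifferential.one_smul_sub_smul_one_mem_ideal K x₀)
  set c := Algebra.TensorProduct.lmul' K (S := M) t with hc
  have hz2 : z₀ ∈ KaehlerDifferential.ideal K M ^ 2 := by
    have e : t - c ⊗ₜ[K] (1 : M) ∈ KaehlerDifferential.ideal K M := by
      show Algebra.TensorProduct.lmul' K (S := M) (t - c ⊗ₜ[K] (1 : M)) = 0
      rw [map_sub, Algebra.TensorProduct.lmul'_apply_tmul, mul_one, ← hc, sub_self]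
    have h2 : z₀ * (c ⊗ₜ[K] (1 : M)) ∈ KaehlerDifferential.ideal K M ^ 2 := by
      rw [pow_two, show z₀ * (c ⊗ₜ[K] (1 : M)) = -(z₀ * (t - c ⊗ₜ[K] (1 : M))) by rw [mul_sub, ht]; ring]
      exact neg_mem (Ideal.mul_mem_mul hz₀I e)
    have := Ideal.mul_mem_right (c⁻¹ ⊗ₜ[K] (1 : M)) _ h2
    rwa [mul_assoc, Algebra.TensorProduct.tmul_mul_tmul, mul_inv_cancel₀ hc0, one_mul,
      ← Algebra.TensorProduct.one_def, mul_one] at this
  have hD : KaehlerDifferential.D K M x₀ = 0 := by
    have hm : (1 : M) ⊗ₜ[K] x₀ - x₀ ⊗ₜ[K] (1 : M) ∈ KaehlerDifferential.ideal K M ^ 2 := by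
      rw [← neg_sub]
      exact neg_mem hz2
    rw [KaehlerDifferential.D_apply]
    exact (Ideal.toCotangent_eq_zero _ ⟨_, Ideal.pow_le_self two_ne_zero hm⟩).2 hm
  let N : IntermediateField K M :=
    { carrier := {y | KaehlerDifferential.D K M y = 0}
      add_mem' := fun {u v} (hu : KaehlerDifferential.D K M u = 0) (hv : KaehlerDifferential.D K M v = 0) => by
        show KaehlerDifferential.D K M (u + v) = 0
        rw [map_add, hu, hv, add_zero]
      mul_mem' := fun {u v} (hu : KaehlerDifferential.D K M u = 0) (hv : KaehlerDifferential.D K M v = 0) => by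
        show KaehlerDifferential.D K M (u * v) = 0
        rw [Derivation.leibniz, hu, hv, smul_zero, smul_zero, add_zero]
      algebraMap_mem' := fun r => (KaehlerDifferential.D K M).map_algebraMap r
      inv_mem' := fun y (hy : KaehlerDifferential.D K M y = 0) => by
        show KaehlerDifferential.D K M y⁻¹ = 0
        rw [Derivation.leibniz_inv, hy, smul_zero] }
  have hN : N = ⊤ := hgen N hD
  refine ⟨?_⟩
  refine Submodule.subsingleton_iff M |>.1 (subsingleton_of_bot_eq_top ?_)
  rw [← KaehlerDifferential.span_range_derivation, eq_comm, Submodule.span_eq_bot]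
  rintro _ ⟨y, rfl⟩
  exact (hN ▸ IntermediateField.mem_top : y ∈ N)

/-- Let L be a finitely generated field extension of K, and I ⊆ L ⊗_K L the kernel of multiplication L
⊗_K L → L. An element x of L has the property that x ⊗ 1 and 1 ⊗ x have the same image in the I-adic
completion of L ⊗_K L if and only if x is separable algebraic over K. Equivalently, the equaliser of
the two natural maps from L to that completion is the separable algebraic closure of K in L. -/
theorem result
    (K L : Type u) [Field K] [Field L] [Algebra K L]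
    (hfg : (⊤ : IntermediateField K L).FG) (x : L) :
    AdicCompletion.of (KaehlerDifferential.ideal K L) (L ⊗[K] L) (x ⊗ₜ[K] (1 : L)) =
        AdicCompletion.of (KaehlerDifferential.ideal K L) (L ⊗[K] L) ((1 : L) ⊗ₜ[K] x) ↔
      x ∈ separableClosure K L := by
  classical
  haveI : Algebra.EssFiniteType K L := IntermediateField.fg_top_iff.mp hfg
  haveI : IsNoetherianRing (L ⊗[K] L) := Algebra.EssFiniteType.isNoetherianRing L (L ⊗[K] L)
  set I := KaehlerDifferential.ideal K L
  set z : L ⊗[K] L := x ⊗ₜ[K] (1 : L) - (1 : L) ⊗ₜ[K] x with hz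
  have hiff : AdicCompletion.of I (L ⊗[K] L) (x ⊗ₜ[K] (1 : L)) =
      AdicCompletion.of I (L ⊗[K] L) ((1 : L) ⊗ₜ[K] x) ↔ z ∈ (⨅ n : ℕ, I ^ n • ⊤ : Submodule (L ⊗[K] L) (L ⊗[K] L)) := by
    rw [← sub_eq_zero, ← map_sub, Submodule.mem_iInf, AdicCompletion.ext_iff]
    refine forall_congr' fun n => ?_
    exact Submodule.Quotient.mk_eq_zero _
  rw [hiff]
  let M := IntermediateField.adjoin K ({x} : Set L)
  let x₀ : M := ⟨x, IntermediateField.mem_adjoin_simple_self K x⟩
  haveI : Algebra.EssFiniteType K M :=
    IntermediateField.essFiniteType_iff.mpr (IntermediateField.fg_adjoin_of_finite (Set.finite_singleton x))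
  set z₀ : M ⊗[K] M := x₀ ⊗ₜ[K] (1 : M) - (1 : M) ⊗ₜ[K] x₀ with hz₀
  let Φ : M ⊗[K] M →ₐ[K] L ⊗[K] L := Algebra.TensorProduct.map M.val M.val
  have hΦ : Φ z₀ = z := by simp [Φ, hz₀, hz, x₀]
  have hz₀I : z₀ ∈ KaehlerDifferential.ideal K M := by
    rw [hz₀, ← neg_sub]
    exact neg_mem (KaehlerDifferential.one_smul_sub_smul_one_mem_ideal K x₀)
  rw [mem_separableClosure_iff, ← IntermediateField.isSeparable_adjoin_simple_iff_isSeparable]
  constructor
  · intro h
    obtain ⟨r, hr⟩ := (Ideal.mem_iInf_smul_pow_eq_bot_iff I z).1 h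
    set s : L ⊗[K] L := 1 - (r : L ⊗[K] L) with hs
    have hsz : z * s = 0 := by
      rw [hs, mul_sub, mul_one, mul_comm, ← smul_eq_mul, hr, sub_self]
    have hμs : Algebra.TensorProduct.lmul' K (S := L) s = 1 := by
      have : Algebra.TensorProduct.lmul' K (S := L) (r : L ⊗[K] L) = 0 := r.2
      rw [hs, map_sub, map_one, this, sub_zero]
    let π : L ⊗[K] L →ₗ[K] L ⊗[M] L :=
      TensorProduct.lift (LinearMap.mk₂ K (fun a b => a ⊗ₜ[M] b) (by simp [add_tmul])
        (fun c a b => by rw [← smul_tmul']) (by simp [tmul_add])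
        (fun c a b => by
          rw [← algebraMap_smul M c b, ← smul_tmul, algebraMap_smul, ← smul_tmul']))
    let b := Module.Free.chooseBasis M L
    have hπ : π s ≠ 0 := by
      intro h0
      let μM : L ⊗[M] L →ₗ[K] L := (LinearMap.mul' M L).restrictScalars K
      have hcomp : μM ∘ₗ π = (Algebra.TensorProduct.lmul' K (S := L)).toLinearMap :=
        TensorProduct.ext' fun a b => by simp [μM, π]
      have := congr($hcomp s)
      rw [LinearMap.comp_apply, h0, map_zero, AlgHom.toLinearMap_apply, hμs] at this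
      exact zero_ne_one this
    obtain ⟨⟨i, j⟩, hij⟩ : ∃ ij, (b.tensorProduct b).repr (π s) ij ≠ 0 := by
      by_contra hc
      push Not at hc
      exact hπ ((b.tensorProduct b).repr.injective (by ext ij; simp [hc ij]))
    let ψ : L ⊗[K] L →ₗ[K] M ⊗[K] M :=
      TensorProduct.map ((b.coord i).restrictScalars K) ((b.coord j).restrictScalars K)
    have hψz : ∀ t, ψ (z * t) = z₀ * ψ t := by
      intro t
      induction t using TensorProduct.induction_on with
      | zero => simp
      | add u v hu hv => rw [mul_add, map_add, hu, hv, map_add, mul_add]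
      | tmul u v =>
        have e1 : x * u = x₀ • u := rfl
        have e2 : x * v = x₀ • v := rfl
        rw [hz, sub_mul, Algebra.TensorProduct.tmul_mul_tmul, Algebra.TensorProduct.tmul_mul_tmul, one_mul,
          one_mul, e1, e2, map_sub]
        simp only [ψ, TensorProduct.map_tmul, LinearMap.coe_restrictScalars, map_smul]
        rw [hz₀, sub_mul, Algebra.TensorProduct.tmul_mul_tmul, Algebra.TensorProduct.tmul_mul_tmul, one_mul,
          one_mul, smul_eq_mul, smul_eq_mul]
    have hψμ : ∀ t, Algebra.TensorProduct.lmul' K (S := M) (ψ t) = (b.tensorProduct b).repr (π t) (i, j) := by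
      intro t
      induction t using TensorProduct.induction_on with
      | zero => simp
      | add u v hu hv => rw [map_add, map_add, hu, hv, map_add, map_add, Finsupp.add_apply]
      | tmul u v => simp [ψ, π, mul_comm]
    haveI : Algebra.FormallyUnramified K M := by
      refine formallyUnramified_of_mul_eq_zero K M x₀ (fun N hN => ?_) (ψ s) ?_ ?_
      · apply IntermediateField.lift_injective M
        refine le_antisymm (IntermediateField.lift_le _ |>.trans (by rw [IntermediateField.lift_top])) ?_
        rw [IntermediateField.lift_top]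
        exact IntermediateField.adjoin_le_iff.2 (Set.singleton_subset_iff.2 ⟨x₀, hN, rfl⟩)
      · rw [← hψz, hsz, map_zero]
      · rw [hψμ]; exact hij
    exact (Algebra.FormallyUnramified.iff_isSeparable K M).1 inferInstance
  · intro hsep
    haveI := (Algebra.FormallyUnramified.iff_isSeparable K M).2 hsep
    have hidem : IsIdempotentElem (KaehlerDifferential.ideal K M) :=
      (Ideal.cotangent_subsingleton_iff _).1 ‹Algebra.FormallyUnramified K M›.1
    rw [Submodule.mem_iInf]
    intro n
    rw [smul_eq_mul, Ideal.mul_top, ← hΦ]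
    have hle : (KaehlerDifferential.ideal K M).map Φ ≤ I := by
      rw [Ideal.map_le_iff_le_comap]
      intro w hw
      have e : (Algebra.TensorProduct.lmul' K (S := L)).comp Φ = M.val.comp (Algebra.TensorProduct.lmul' K (S := M)) :=
        Algebra.TensorProduct.ext' fun a b => by simp [Φ]
      show Algebra.TensorProduct.lmul' K (S := L) (Φ w) = 0
      rw [← AlgHom.comp_apply, e, AlgHom.comp_apply, show Algebra.TensorProduct.lmul' K (S := M) w = 0 from hw, map_zero]
    cases n with
    | zero => simp
    | succ n =>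
      have h1 : z₀ ∈ KaehlerDifferential.ideal K M ^ (n + 1) := by rw [hidem.pow_succ_eq]; exact hz₀I
      refine Ideal.pow_right_mono hle _ ?_
      rw [← Ideal.map_pow]
      exact Ideal.mem_map_of_mem _ h1

end Groth.Agent.S15125
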