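import Groth.Statements.S15126
import Mathlib.RingTheory.Ideal.Quotient.Operations
import Mathlib.Algebra.MvPolynomial.CommRing
import Mathlib.RingTheory.MvPowerSeries.Basic
import Mathlib.Tactic.Ring
import Mathlib.Data.Finsupp.Encodable
-- import your own Groth.Agent.* helpers here

set_option autoImplicit false
universe u
open Formal

namespace Groth.Agent.S15126

/-- Affine case. Let k be a field, n > 0, and R a commutative algebra over the power series ring
k[[z_1,…,z_n]]; for a commutative k-algebra Q regard Q[[z_1,…,z_n]] as a k[[z]]-algebra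
coefficientwise. Then the functor Q ↦ Hom_{k[[z]]-alg}(R, Q[[z]]) on commutative k-algebras is
corepresentable: there exist a commutative k-algebra P and a k[[z]]-algebra homomorphism u : R →
P[[z]] such that every k[[z]]-algebra homomorphism R → Q[[z]] arises from u by applying a unique
k-algebra homomorphism P → Q coefficientwise. If moreover R is countably generated as a
k[[z]]-algebra, P may be taken countably generated over k. (The published statement is for an adic
formal scheme Y over the formal disc Spf k[[z]], asserting that the sheaf of sections of Y over the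
disc is a scheme, affine over the fibre of Y at the origin, and of pro-finite type when Y is; this
row is the case Y = Spf R, to which the published argument reduces, stated for the underlying
algebra R; k is algebraically closed there, which is not used.) -/
theorem result
    (k : Type u) [Field k] (n : ℕ) (hn : 0 < n)
    (R : Type u) [CommRing R] [Algebra (MvPowerSeries (Fin n) k) R] :
    ∃ (P : Type u) (_ : CommRing P) (_ : Algebra k P)
      (u : R →ₐ[MvPowerSeries (Fin n) k] MvPowerSeries (Fin n) P),
      (∀ (Q : Type u) [CommRing Q] [Algebra k Q]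
          (f : R →ₐ[MvPowerSeries (Fin n) k] MvPowerSeries (Fin n) Q),
          ∃! g : P →ₐ[k] Q,
            (MvPowerSeries.map (σ := Fin n) (g : P →+* Q)).comp (u : R →+* MvPowerSeries (Fin n) P) =
              (f : R →+* MvPowerSeries (Fin n) Q)) ∧
      ((∃ s : Set R, s.Countable ∧ Algebra.adjoin (MvPowerSeries (Fin n) k) s = ⊤) →
        ∃ t : Set P, t.Countable ∧ Algebra.adjoin k t = ⊤) := by
  classical
  let V := R × (Fin n →₀ ℕ)
  let S := MvPolynomial V k
  let U : R → MvPowerSeries (Fin n) S := fun r ν => MvPolynomial.X (r, ν)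
  have hU : ∀ r ν, MvPowerSeries.coeff ν (U r) = MvPolynomial.X (r, ν) := fun _ _ => rfl
  let defects : Set (MvPowerSeries (Fin n) S) :=
    (Set.range fun p : R × R => U (p.1 + p.2) - U p.1 - U p.2) ∪
    (Set.range fun p : R × R => U (p.1 * p.2) - U p.1 * U p.2) ∪
    (Set.range fun c : MvPowerSeries (Fin n) k =>
      U (algebraMap _ R c) - MvPowerSeries.map (algebraMap k S) c)
  let I : Ideal S :=
    Ideal.span {y | ∃ D ∈ defects, ∃ ν, MvPowerSeries.coeff ν D = y}
  let m : MvPowerSeries (Fin n) S →+* MvPowerSeries (Fin n) (S ⧸ I) :=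
    MvPowerSeries.map (Ideal.Quotient.mk I)
  have hm0 : ∀ D ∈ defects, m D = 0 := by
    intro D hD
    ext ν
    simp only [m, MvPowerSeries.coeff_map, map_zero]
    exact Ideal.Quotient.eq_zero_iff_mem.2 (Ideal.subset_span ⟨D, hD, ν, rfl⟩)
  have hadd : ∀ a b, m (U (a + b)) = m (U a) + m (U b) := fun a b => by
    have := hm0 _ (Or.inl (Or.inl ⟨(a, b), rfl⟩))
    rw [map_sub, map_sub, sub_sub, sub_eq_zero] at this
    exact this
  have hmul : ∀ a b, m (U (a * b)) = m (U a) * m (U b) := fun a b => by
    have := hm0 _ (Or.inl (Or.inr ⟨(a, b), rfl⟩))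
    rw [map_sub, sub_eq_zero, map_mul] at this
    exact this
  have halg : ∀ c, m (U (algebraMap _ R c)) = MvPowerSeries.map (algebraMap k (S ⧸ I)) c := fun c => by
    have := hm0 _ (Or.inr ⟨c, rfl⟩)
    rw [map_sub, sub_eq_zero] at this
    rw [this]
    ext ν
    simp only [m, MvPowerSeries.coeff_map]
    rfl
  have hone : m (U 1) = 1 := by
    have := halg 1
    rw [map_one, map_one] at this
    exact this
  have hzero : m (U 0) = 0 := by
    have := hadd 0 0
    rw [add_zero] at this
    simpa using this
  let u : R →ₐ[MvPowerSeries (Fin n) k] MvPowerSeries (Fin n) (S ⧸ I) :=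
    { toFun := fun r => m (U r)
      map_one' := hone
      map_mul' := hmul
      map_zero' := hzero
      map_add' := hadd
      commutes' := halg }
  refine ⟨S ⧸ I, inferInstance, inferInstance, u, ?_, ?_⟩
  · intro Q _ _ f
    let e : S →ₐ[k] Q := MvPolynomial.aeval fun p : V => MvPowerSeries.coeff p.2 (f p.1)
    have he : ∀ r, MvPowerSeries.map (e : S →+* Q) (U r) = f r := fun r => by
      ext ν
      rw [MvPowerSeries.coeff_map, hU]
      exact MvPolynomial.aeval_X _ _
    have hkill : ∀ a ∈ I, e a = 0 := by
      intro a ha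
      refine Submodule.span_induction ?_ (map_zero e) (fun x y _ _ hx hy => by rw [map_add, hx, hy, add_zero])
        (fun c x _ hx => by rw [smul_eq_mul, map_mul, hx, mul_zero]) ha
      rintro y ⟨D, hD, ν, rfl⟩
      have h0 : MvPowerSeries.map (e : S →+* Q) D = 0 := by
        rcases hD with (⟨p, rfl⟩ | ⟨p, rfl⟩) | ⟨c, rfl⟩
        · simp only [map_sub, he, map_add]; ring
        · simp only [map_sub, map_mul, he]; ring
        · rw [map_sub, he, AlgHom.commutes, sub_eq_zero]
          ext μ
          simp only [MvPowerSeries.coeff_map]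
          exact (AlgHom.commutes e _).symm
      have := congrArg (MvPowerSeries.coeff ν) h0
      rwa [MvPowerSeries.coeff_map, map_zero] at this
    let g : (S ⧸ I) →ₐ[k] Q := Ideal.Quotient.liftₐ I e hkill
    have hg : ∀ r, MvPowerSeries.map (g : (S ⧸ I) →+* Q) (m (U r)) = f r := fun r => by
      rw [← he r]
      ext ν
      simp only [m, MvPowerSeries.coeff_map]
      rfl
    refine ⟨g, RingHom.ext fun r => hg r, ?_⟩
    intro g' hg'
    apply Ideal.Quotient.algHom_ext
    apply MvPolynomial.algHom_ext
    rintro ⟨r, ν⟩
    have h1 := congrArg (MvPowerSeries.coeff ν) (DFunLike.congr_fun hg' r)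
    have h2 := congrArg (MvPowerSeries.coeff ν) (hg r)
    have h3 : MvPowerSeries.coeff ν (MvPowerSeries.map (g' : (S ⧸ I) →+* Q) (u r)) =
        g' (Ideal.Quotient.mk I (MvPolynomial.X (r, ν))) := by
      rw [MvPowerSeries.coeff_map]; rfl
    have h4 : MvPowerSeries.coeff ν (MvPowerSeries.map (g : (S ⧸ I) →+* Q) (m (U r))) =
        g (Ideal.Quotient.mk I (MvPolynomial.X (r, ν))) := by
      rw [MvPowerSeries.coeff_map]; rfl
    exact h3.symm.trans (h1.trans (h2.symm.trans h4))
  · rintro ⟨s, hs, hsp⟩
    let t : Set (S ⧸ I) :=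
      (fun p : R × (Fin n →₀ ℕ) => Ideal.Quotient.mk I (MvPolynomial.X p)) '' (s ×ˢ Set.univ)
    refine ⟨t, (hs.prod Set.countable_univ).image _, ?_⟩
    have hr : ∀ r : R, ∀ ν, MvPowerSeries.coeff ν (u r) ∈ Algebra.adjoin k t := by
      intro r
      have hrs : r ∈ Algebra.adjoin (MvPowerSeries (Fin n) k) s := hsp ▸ Algebra.mem_top
      induction hrs using Algebra.adjoin_induction with
      | mem x hx =>
        intro ν
        refine Algebra.subset_adjoin ⟨(x, ν), ⟨hx, trivial⟩, ?_⟩
        show _ = MvPowerSeries.coeff ν (m (U x))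
        rw [MvPowerSeries.coeff_map]; rfl
      | algebraMap c =>
        intro ν
        rw [AlgHom.commutes]
        show MvPowerSeries.coeff ν (MvPowerSeries.map (algebraMap k (S ⧸ I)) c) ∈ _
        rw [MvPowerSeries.coeff_map]
        exact Subalgebra.algebraMap_mem _ _
      | add x y _ _ hx hy =>
        intro ν
        rw [map_add, map_add]
        exact add_mem (hx ν) (hy ν)
      | mul x y _ _ hx hy =>
        intro ν
        rw [map_mul, MvPowerSeries.coeff_mul]
        exact Subalgebra.sum_mem _ fun p _ => mul_mem (hx p.1) (hy p.2)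
    rw [eq_top_iff]
    intro a _
    obtain ⟨a, rfl⟩ := Ideal.Quotient.mk_surjective a
    induction a using MvPolynomial.induction_on with
    | C c => exact Subalgebra.algebraMap_mem _ c
    | add p q hp hq => rw [map_add]; exact add_mem (hp trivial) (hq trivial)
    | mul_X p v hp =>
      rw [map_mul]
      refine mul_mem (hp trivial) ?_
      exact hr v.1 v.2

end Groth.Agent.S15126
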