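import Groth.Statements.S15128
import Mathlib

set_option autoImplicit false
universe u v
open CAlg

namespace Groth.Agent.S15128
open TensorProduct

/-- Over an Artinian local ring A with residue field k, a linear map h between flat A-modules (of any
size) is injective, resp. surjective, as soon as its reduction k ⊗_A h is. (The published statement
is for local Artinian algebras over an algebraically closed field of characteristic zero having that
field as residue field; this row allows any Artinian local ring.) -/
theorem result
    (A : Type u) [CommRing A] [IsLocalRing A] [IsArtinianRing A]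
    (P L : Type v) [AddCommGroup P] [Module A P] [AddCommGroup L] [Module A L]
    [Module.Flat A P] [Module.Flat A L] (h : P →ₗ[A] L) :
    (Function.Injective (h.lTensor (IsLocalRing.ResidueField A)) → Function.Injective h) ∧
    (Function.Surjective (h.lTensor (IsLocalRing.ResidueField A)) → Function.Surjective h) := by
  set k := IsLocalRing.ResidueField A
  set m := IsLocalRing.maximalIdeal A
  constructor
  · intro hinj
    have key : ∀ (N : Type u) [AddCommGroup N] [Module A N], IsFiniteLength A N → Function.Injective (h.lTensor N) := by
      intro N i1 i2 hN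
      induction hN with
      | @of_subsingleton N _ _ _ => exact fun x y _ => Subsingleton.elim x y
      | @of_simple_quotient N _ _ N' hs hN' ih =>
        rw [injective_iff_map_eq_zero]
        intro x hx
        obtain ⟨I, hI, ⟨e⟩⟩ := isSimpleModule_iff_quot_maximal.mp hs
        obtain rfl : I = m := IsLocalRing.eq_maximalIdeal hI
        have hq : Function.Injective (h.lTensor (N ⧸ N')) := by
          have hc : h.lTensor (N ⧸ N') = (e.symm.toLinearMap.rTensor L) ∘ₗ (h.lTensor (A ⧸ m)) ∘ₗ (e.toLinearMap.rTensor P) := by
            ext a b; simp
          rw [hc]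
          exact ((e.symm.rTensor L).injective.comp hinj).comp (e.rTensor P).injective
        have h1 : N'.mkQ.rTensor P x = 0 := hq (by
          rw [map_zero, ← LinearMap.comp_apply, LinearMap.lTensor_comp_rTensor, ← LinearMap.rTensor_comp_lTensor, LinearMap.comp_apply, hx, map_zero])
        obtain ⟨y, rfl⟩ := ((rTensor_exact P (LinearMap.exact_subtype_mkQ N') N'.mkQ_surjective) x).mp h1
        have h2 : N'.subtype.rTensor L (h.lTensor N' y) = 0 := by
          rw [← LinearMap.comp_apply, LinearMap.rTensor_comp_lTensor, ← LinearMap.lTensor_comp_rTensor, LinearMap.comp_apply, hx]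
        have h3 : y = 0 := ih (by rw [map_zero]; exact Module.Flat.rTensor_preserves_injective_linearMap N'.subtype N'.injective_subtype (by rw [h2, map_zero]))
        rw [h3, map_zero]
    have hA : IsFiniteLength A A := isFiniteLength_iff_isNoetherian_isArtinian.mpr ⟨inferInstance, inferInstance⟩
    intro x y hxy
    have := key A hA (a₁ := (1:A) ⊗ₜ x) (a₂ := (1:A) ⊗ₜ y) (by simp [hxy])
    simpa using congrArg (TensorProduct.lid A P) this
  · intro hsurj
    obtain ⟨n, hn⟩ := (isArtinianRing_iff_isNilpotent_maximalIdeal A).mp ‹_›
    have htop : (⊤ : Submodule A L) ≤ LinearMap.range h ⊔ m • ⊤ := by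
      intro l _
      obtain ⟨t, ht⟩ := hsurj (1 ⊗ₜ l)
      obtain ⟨p, rfl⟩ := TensorProduct.mk_surjective A P k Ideal.Quotient.mk_surjective t
      rw [TensorProduct.mk_apply, LinearMap.lTensor_tmul] at ht
      have h0 := congrArg (TensorProduct.quotTensorEquivQuotSMul L m) ht
      have hone : (1 : k) = Ideal.Quotient.mk m 1 := rfl
      rw [hone] at h0
      erw [TensorProduct.quotTensorEquivQuotSMul_mk_tmul, TensorProduct.quotTensorEquivQuotSMul_mk_tmul] at h0
      rw [one_smul, one_smul, eq_comm, Submodule.Quotient.eq] at h0
      exact Submodule.mem_sup.mpr ⟨h p, ⟨p, rfl⟩, l - h p, h0, by abel⟩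
    have hk : ∀ j : ℕ, (⊤ : Submodule A L) ≤ LinearMap.range h ⊔ m ^ j • ⊤ := by
      intro j; induction j with
      | zero => simp
      | succ j ih =>
        refine ih.trans (sup_le le_sup_left ?_)
        refine (Submodule.smul_mono le_rfl htop).trans ?_
        rw [Submodule.smul_sup, ← Submodule.mul_smul, ← pow_succ]
        exact sup_le_sup_right Submodule.smul_le_right _
    have := hk n
    rw [hn] at this
    rw [← LinearMap.range_eq_top, eq_top_iff]
    refine this.trans (sup_le le_rfl ?_)
    simp

end Groth.Agent.S15128
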