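import Mathlib
import Mathlib
import Groth.Statements.S15130

set_option autoImplicit false
universe u v
open CAlg

namespace Groth.Agent.S15130

/-- Let A be an Artinian local ring with residue field k and P → Q → R → M → 0 a complex of A-modules
with P, Q, R flat which is exact at R and at M. If the reduced complex k ⊗ P → k ⊗ Q → k ⊗ R is
exact (the rest of the reduced sequence is then automatically exact), then M is flat and the
original complex is exact at Q as well. (The published statement is for local Artinian algebras over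
an algebraically closed field of characteristic zero having that field as residue field; this row
allows any Artinian local ring.) -/
theorem result
    (A : Type u) [CommRing A] [IsLocalRing A] [IsArtinianRing A]
    (P Q R M : Type v) [AddCommGroup P] [Module A P] [AddCommGroup Q] [Module A Q]
    [AddCommGroup R] [Module A R] [AddCommGroup M] [Module A M]
    [Module.Flat A P] [Module.Flat A Q] [Module.Flat A R]
    (f : P →ₗ[A] Q) (g : Q →ₗ[A] R) (h : R →ₗ[A] M)
    (hfg : g ∘ₗ f = 0) (hgh : Function.Exact g h) (hh : Function.Surjective h)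
    (hred : Function.Exact (f.lTensor (IsLocalRing.ResidueField A)) (g.lTensor (IsLocalRing.ResidueField A))) :
    Module.Flat A M ∧ Function.Exact f g := by
  open TensorProduct in
  classical
  have hcm : ∀ {X Y : Type u} [AddCommGroup X] [Module A X] [AddCommGroup Y] [Module A Y] {U V : Type v}
      [AddCommGroup U] [Module A U] [AddCommGroup V] [Module A V] (φ : X →ₗ[A] Y) (ψ : U →ₗ[A] V) (z : X ⊗[A] U),
      φ.rTensor V (ψ.lTensor X z) = ψ.lTensor Y (φ.rTensor U z) := fun φ ψ z => by
    rw [← LinearMap.comp_apply, LinearMap.rTensor_comp_lTensor, ← LinearMap.lTensor_comp_rTensor, LinearMap.comp_apply]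
  have hgf : ∀ (X : Type u) [AddCommGroup X] [Module A X] (z : X ⊗[A] P), g.lTensor X (f.lTensor X z) = 0 := fun X _ _ z => by
    rw [← LinearMap.lTensor_comp_apply, hfg, LinearMap.lTensor_zero]; rfl
  have C : ∀ (X : Type u) [AddCommGroup X] [Module A X], Module.Finite A X → Function.Exact (f.lTensor X) (g.lTensor X) := by
    intro X _ _ hX
    induction hX using IsNoetherianRing.induction_on_isQuotientEquivQuotientPrime A with
    | subsingleton N =>
      haveI : Subsingleton (N ⊗[A] P) := subsingleton_of_forall_eq 0 fun z => by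
        induction z using TensorProduct.induction_on with
        | zero => rfl
        | tmul a b => rw [Subsingleton.elim a 0, TensorProduct.zero_tmul]
        | add a b ha hb => rw [ha, hb, add_zero]
      intro y
      have hy : y = 0 := by
        induction y using TensorProduct.induction_on with
        | zero => rfl
        | tmul a b => rw [Subsingleton.elim a 0, TensorProduct.zero_tmul]
        | add a b ha hb => rw [ha, hb, add_zero]
      subst hy
      exact ⟨fun _ => ⟨0, map_zero _⟩, fun _ => map_zero _⟩
    | quotient N p e =>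
      have hp : p.1 = IsLocalRing.maximalIdeal A := IsLocalRing.eq_maximalIdeal (IsArtinianRing.isMaximal_of_isPrime p.1)
      let e' : N ≃ₗ[A] IsLocalRing.ResidueField A := e.trans (Submodule.quotEquivOfEq _ _ hp)
      intro y
      constructor
      · intro hy
        obtain ⟨x, hx⟩ := (hred (e'.toLinearMap.rTensor Q y)).mp (by rw [← hcm, hy, map_zero])
        refine ⟨e'.symm.toLinearMap.rTensor P x, ?_⟩
        rw [← hcm, hx, ← LinearMap.comp_apply, ← LinearMap.rTensor_comp]
        simp
      · rintro ⟨x, rfl⟩; exact hgf N x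
    | exact N₁ N₂ N₃ a b ha hb hab h1 h3 =>
      intro y
      refine ⟨fun hy => ?_, fun ⟨x, hx⟩ => hx ▸ hgf N₂ x⟩
      obtain ⟨x₃, hx₃⟩ := (h3 (b.rTensor Q y)).mp (by rw [← hcm, hy, map_zero])
      obtain ⟨x₂, rfl⟩ := LinearMap.rTensor_surjective P hb x₃
      rw [← hcm] at hx₃
      obtain ⟨y₁, hy₁⟩ := ((rTensor_exact Q hab hb) (y - f.lTensor N₂ x₂)).mp (by rw [map_sub, hx₃, sub_self])
      obtain ⟨x₁, hx₁⟩ := (h1 y₁).mp (Module.Flat.rTensor_preserves_injective_linearMap (M := R) a ha (by
        rw [map_zero, hcm, hy₁, map_sub, hy, hgf, sub_zero]))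
      refine ⟨x₂ + a.rTensor P x₁, ?_⟩
      rw [map_add, ← hcm, hx₁, hy₁, add_sub_cancel]
  refine ⟨Module.Flat.iff_rTensor_injective.mpr fun J hJ => ?_, fun y => ?_⟩
  · rw [injective_iff_map_eq_zero]
    intro z hz
    obtain ⟨r, rfl⟩ := LinearMap.lTensor_surjective J hh z
    obtain ⟨q, hq⟩ := ((lTensor_exact A hgh hh) (J.subtype.rTensor R r)).mp (by rw [← hcm, hz])
    let π : A →ₗ[A] A ⧸ J := J.mkQ
    have hπ : g.lTensor (A ⧸ J) (π.rTensor Q q) = 0 := by
      rw [← hcm, hq]
      exact (rTensor_exact R (LinearMap.exact_subtype_mkQ J) J.mkQ_surjective).apply_apply_eq_zero r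
    obtain ⟨x, hx⟩ := ((C (A ⧸ J) inferInstance) _).mp hπ
    obtain ⟨x, rfl⟩ := LinearMap.rTensor_surjective P J.mkQ_surjective x
    rw [← hcm] at hx
    obtain ⟨q', hq'⟩ := ((rTensor_exact Q (LinearMap.exact_subtype_mkQ J) J.mkQ_surjective) (q - f.lTensor A x)).mp (by
      rw [map_sub, hx, sub_self])
    have hr : g.lTensor J q' = r := Module.Flat.rTensor_preserves_injective_linearMap (M := R) J.subtype J.injective_subtype (by
      rw [hcm, hq', map_sub, hgf, sub_zero, hq])
    rw [← hr]
    exact (lTensor_exact J hgh hh).apply_apply_eq_zero q'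
  · refine ⟨fun hy => ?_, fun ⟨x, hx⟩ => hx ▸ LinearMap.congr_fun hfg x⟩
    obtain ⟨x, hx⟩ := ((C A inferInstance) ((1 : A) ⊗ₜ y)).mp (by rw [LinearMap.lTensor_tmul, hy, TensorProduct.tmul_zero])
    refine ⟨TensorProduct.lid A P x, ?_⟩
    have := congrArg (TensorProduct.lid A Q) hx
    rw [TensorProduct.lid_tmul, one_smul] at this
    rw [← this]
    clear this hx
    induction x using TensorProduct.induction_on with
    | zero => simp
    | tmul a b => simp
    | add a b ha hb => simp only [map_add, ha, hb]

end Groth.Agent.S15130
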