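import Groth.Statements.S15133
import Groth.Agent.S15129

set_option autoImplicit false
universe u
open CategoryTheory
open CAlg

namespace Groth.Agent.S15133

open IsLocalRing TensorProduct

theorem eq_zero_of_residue_tensor {A : Type u} [CommRing A] [IsLocalRing A] [IsArtinianRing A]
    (N : Type u) [AddCommGroup N] [Module A N] (h : ∀ z : ResidueField A ⊗[A] N, z = 0) (y : N) : y = 0 := by
  have h1 : (⊤ : Submodule A N) ≤ maximalIdeal A • ⊤ := by
    intro x _
    have h0 : ((Ideal.Quotient.mk (maximalIdeal A) 1) ⊗ₜ[A] x : (A ⧸ maximalIdeal A) ⊗[A] N) = 0 := h _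
    have h2 := congrArg (quotTensorEquivQuotSMul N (maximalIdeal A)) h0
    rw [quotTensorEquivQuotSMul_mk_tmul, one_smul, LinearEquiv.map_zero, Submodule.Quotient.mk_eq_zero] at h2
    exact h2
  obtain ⟨k, hk⟩ := (isArtinianRing_iff_isNilpotent_maximalIdeal A).1 inferInstance
  have h3 : ∀ j : ℕ, (⊤ : Submodule A N) ≤ maximalIdeal A ^ j • ⊤ := by
    intro j
    induction j with
    | zero => simp
    | succ j ih => exact ih.trans (by rw [pow_succ, Submodule.mul_smul]; exact Submodule.smul_mono le_rfl h1)
  have h4 := h3 k (Submodule.mem_top (x := y))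
  rwa [hk, Ideal.zero_eq_bot, Submodule.bot_smul, Submodule.mem_bot] at h4

theorem core {A : Type u} [CommRing A] [IsLocalRing A] [IsArtinianRing A] {I P : Type u} [AddCommGroup I]
    [Module A I] [AddCommGroup P] [Module A P] [Module.Flat A P] (f : I →ₗ[A] P)
    (hk : Function.Injective (f.lTensor (ResidueField A))) :
    Module.Flat A I ∧ Module.Flat A (P ⧸ LinearMap.range f) := by
  have hcomp : f = (LinearMap.range f).subtype ∘ₗ f.rangeRestrict := rfl
  have hs : Function.Surjective f.rangeRestrict := LinearMap.surjective_rangeRestrict f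
  have hs' := LinearMap.lTensor_surjective (ResidueField A) hs
  rw [hcomp, LinearMap.lTensor_comp, LinearMap.coe_comp] at hk
  have hkJ : Function.Injective ((LinearMap.range f).subtype.lTensor (ResidueField A)) := hk.of_comp_right hs'
  have h1 := Groth.Agent.S15129.result A (LinearMap.range f) P (P ⧸ LinearMap.range f) (LinearMap.range f).subtype
    (LinearMap.range f).mkQ (Submodule.injective_subtype _) (Submodule.mkQ_surjective _)
    (LinearMap.exact_subtype_mkQ _)
  haveI hQ := h1.1 hkJ
  haveI := (h1.2 hQ).1
  refine ⟨?_, hQ⟩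
  have hex : Function.Exact (LinearMap.ker f.rangeRestrict).subtype f.rangeRestrict :=
    LinearMap.exact_subtype_ker_map _
  have hinj := Groth.Agent.CAlgBasics.rTensor_injective_of_flat_quotient (Submodule.injective_subtype _) hex hs
    (ResidueField A)
  have hN : ∀ z : ResidueField A ⊗[A] LinearMap.ker f.rangeRestrict, z = 0 := by
    intro z
    have hinj' : Function.Injective ((LinearMap.ker f.rangeRestrict).subtype.lTensor (ResidueField A)) := by
      rw [← LinearMap.comm_comp_rTensor_comp_comm_eq]
      simpa using hinj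
    apply hinj'
    rw [map_zero]
    apply hk.of_comp
    rw [map_zero, ← LinearMap.comp_apply, ← LinearMap.lTensor_comp, hex.linearMap_comp_eq_zero,
      LinearMap.lTensor_zero, LinearMap.zero_apply]
  have hfi : Function.Injective f.rangeRestrict := by
    rw [injective_iff_map_eq_zero]
    intro x hx
    exact congrArg Subtype.val (eq_zero_of_residue_tensor _ hN ⟨x, hx⟩)
  exact Module.Flat.of_linearEquiv (LinearEquiv.ofBijective f.rangeRestrict ⟨hfi, hs⟩)

/-- Let A be an Artinian local ring with residue field k, n ≥ 1, and 0 → I → P₀ → P₁ → ⋯ → Pₙ a complex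
of A-modules with P₀, …, Pₙ flat whose reduction 0 → k ⊗ I → k ⊗ P₀ → ⋯ → k ⊗ Pₙ is exact. Then I
and coker(Pₙ₋₁ → Pₙ) are flat. The complex is written as a cochain complex C indexed by ℕ with C⁰ =
I and Cⁱ⁺¹ = Pᵢ; its terms in degrees above n + 1 play no role. (The published statement adds that I
maps onto the kernel of k ⊗ P₀ → k ⊗ P₁, which is already part of the exactness hypothesis, and is
for local Artinian algebras over an algebraically closed field of characteristic zero having that
field as residue field; this row allows any Artinian local ring.) -/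
theorem result
    (A : Type u) [CommRing A] [IsLocalRing A] [IsArtinianRing A] (n : ℕ) (hn : 0 < n)
    (C : CochainComplex (ModuleCat.{u} A) ℕ)
    (hflat : ∀ i, i ≤ n → Module.Flat A (C.X (i + 1)))
    (hred : ∀ j, j ≤ n →
      (((MonoidalCategory.tensorLeft (ModuleCat.of A (IsLocalRing.ResidueField A))).mapHomologicalComplex
        (ComplexShape.up ℕ)).obj C).ExactAt j) :
    Module.Flat A (C.X 0) ∧ Module.Flat A (C.X (n + 1) ⧸ LinearMap.range (C.d n (n + 1)).hom) := by
  let F := ((MonoidalCategory.tensorLeft (ModuleCat.of A (IsLocalRing.ResidueField A))).mapHomologicalComplex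
        (ComplexShape.up ℕ)).obj C
  have hex : ∀ i j, j ≤ n → (ComplexShape.up ℕ).prev j = i →
      ∀ y, (C.d j (j + 1)).hom.lTensor (ResidueField A) y = 0 →
        ∃ x, (C.d i j).hom.lTensor (ResidueField A) x = y := by
    intro i j hj hi
    have h := (HomologicalComplex.exactAt_iff' F i j (j + 1) hi (CochainComplex.next ℕ j)).1 (hred j hj)
    rw [ShortComplex.moduleCat_exact_iff] at h
    exact h
  have h0 : Function.Injective ((C.d 0 1).hom.lTensor (ResidueField A)) := by
    rw [injective_iff_map_eq_zero]
    intro y hy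
    obtain ⟨x, rfl⟩ := hex 0 0 (by omega) CochainComplex.prev_nat_zero y hy
    rw [C.shape 0 0 (by simp), ModuleCat.hom_zero, LinearMap.lTensor_zero, LinearMap.zero_apply]
  haveI := hflat 0 (by omega)
  have hb := core (C.d 0 1).hom h0
  refine ⟨hb.1, ?_⟩
  have key : ∀ j, j ≤ n → Module.Flat A (C.X (j + 1) ⧸ LinearMap.range (C.d j (j + 1)).hom) := by
    intro j
    induction j with
    | zero => exact fun _ => hb.2
    | succ j ih =>
      intro hj
      haveI := ih (by omega)
      haveI := hflat (j + 1) hj
      have hle : LinearMap.range (C.d j (j + 1)).hom ≤ LinearMap.ker (C.d (j + 1) (j + 1 + 1)).hom := by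
        rintro _ ⟨x, rfl⟩
        rw [LinearMap.mem_ker, ← LinearMap.comp_apply, ← ModuleCat.hom_comp, C.d_comp_d]
        rfl
      let g := (LinearMap.range (C.d j (j + 1)).hom).liftQ (C.d (j + 1) (j + 1 + 1)).hom hle
      have hg : g ∘ₗ (LinearMap.range (C.d j (j + 1)).hom).mkQ = (C.d (j + 1) (j + 1 + 1)).hom :=
        Submodule.liftQ_mkQ _ _ _
      have hr : LinearMap.range (C.d (j + 1) (j + 1 + 1)).hom = LinearMap.range g := by
        rw [← hg, LinearMap.range_comp, Submodule.range_mkQ, Submodule.map_top]
      rw [hr]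
      refine (core g ?_).2
      rw [injective_iff_map_eq_zero]
      intro z hz
      obtain ⟨y, rfl⟩ := LinearMap.lTensor_surjective (ResidueField A) (Submodule.mkQ_surjective _) z
      rw [← LinearMap.comp_apply, ← LinearMap.lTensor_comp, hg] at hz
      obtain ⟨x, rfl⟩ := hex j (j + 1) hj (CochainComplex.prev_nat_succ j) y hz
      rw [← LinearMap.comp_apply, ← LinearMap.lTensor_comp, LinearMap.range_mkQ_comp,
        LinearMap.lTensor_zero, LinearMap.zero_apply]
  exact key n le_rfl

end Groth.Agent.S15133
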