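import Groth.Statements.S15134
import Groth.Agent.ArtFunLib.FibreProd
-- import your own Groth.Agent.* helpers here

set_option autoImplicit false
universe u v
open CategoryTheory
open ArtFun

namespace Groth.Agent.S15134

/-- Let k be a field and F a functor on local Artinian k-algebras with residue field k with F(k) a
point. If F satisfies (H2') — the comparison map F(A₁ ×_k A₂) → F(A₁) × F(A₂) is bijective for every
pair of objects — then F satisfies condition (L): for every small extension f : B → A with kernel J,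
writing P = B ×_k B, Q = A ×_k A, r : P → Q for the map induced by f, and C = P/K with K the ideal
of P consisting of the pairs (b, b) with b ∈ J, every element of F(Q) whose two images in F(A) agree
lifts along F(C) → F(Q). Here P and Q are pinned as fibre products over k, K is described through
the two projections, and the two inequalities on K (it lies in the maximal ideal of P and is killed
by r), which always hold, are taken as hypotheses so that the quotient object and the factored map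
can be named. -/
theorem result
    {k : Type u} [Field k] (F : ArtFun.Art k k ⥤ Type v) (h0 : ArtFun.H0 F)
    (h2' : ∀ ⦃P A' A'' : ArtFun.Art k k⦄ (p' : P ⟶ A') (p'' : P ⟶ A'')
      (h : ArtFun.Art.IsFibreProd p' p'' (ArtFun.Art.toBase A') (ArtFun.Art.toBase A'')),
      Function.Bijective (ArtFun.cmp F h))
    ⦃B A : ArtFun.Art k k⦄ (f : B ⟶ A) (hf : ArtFun.Art.IsSmallExt f)
    ⦃P : ArtFun.Art k k⦄ (p₁ p₂ : P ⟶ B)
    (hP : ArtFun.Art.IsFibreProd p₁ p₂ (ArtFun.Art.toBase B) (ArtFun.Art.toBase B))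
    ⦃Q : ArtFun.Art k k⦄ (q₁ q₂ : Q ⟶ A)
    (hQ : ArtFun.Art.IsFibreProd q₁ q₂ (ArtFun.Art.toBase A) (ArtFun.Art.toBase A))
    (r : P ⟶ Q) (hr₁ : r ≫ q₁ = p₁ ≫ f) (hr₂ : r ≫ q₂ = p₂ ≫ f)
    (hK : Ideal.span {z : P | p₁ z = p₂ z ∧ f (p₁ z) = 0} ≤ IsLocalRing.maximalIdeal P)
    (hKr : Ideal.span {z : P | p₁ z = p₂ z ∧ f (p₁ z) = 0} ≤ RingHom.ker r.toAlgHom)
    (y : F.obj Q) (hy : F.map q₁ y = F.map q₂ y) :
    ∃ z : F.obj (ArtFun.Art.quot P (Ideal.span {z : P | p₁ z = p₂ z ∧ f (p₁ z) = 0}) hK),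
      F.map (ArtFun.Art.quotFactor hK r hKr) z = y := by
  let K : Ideal P := Ideal.span {z : P | p₁ z = p₂ z ∧ f (p₁ z) = 0}
  obtain ⟨δ, hd1, hd2⟩ := Groth.Agent.ArtFunLib.exists_lift hP (𝟙 B) (𝟙 B) rfl
  let g := δ ≫ ArtFun.Art.quotMk P K hK
  have hker : ∀ b ∈ RingHom.ker f.toAlgHom, g.toAlgHom b = 0 := fun b hb => by
    show Ideal.Quotient.mk K (δ b) = 0
    rw [Ideal.Quotient.eq_zero_iff_mem]
    refine Ideal.subset_span ⟨?_, ?_⟩
    · show (δ ≫ p₁) b = (δ ≫ p₂) b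
      rw [hd1, hd2]
    · show f ((δ ≫ p₁) b) = 0
      rw [hd1]
      exact RingHom.mem_ker.mp hb
  let δ₀ : A →ₐ[k] ArtFun.Art.quot P K hK :=
    (Ideal.Quotient.liftₐ (RingHom.ker f.toAlgHom) g.toAlgHom hker).comp
      (Ideal.quotientKerAlgEquivOfSurjective (f := f.toAlgHom) hf.1).symm.toAlgHom
  have hδ : ∀ b, δ₀ (f b) = g b := fun b => by
    show Ideal.Quotient.liftₐ (RingHom.ker f.toAlgHom) g.toAlgHom hker
      ((Ideal.quotientKerAlgEquivOfSurjective (f := f.toAlgHom) hf.1).symm (f b)) = g b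
    have : (Ideal.quotientKerAlgEquivOfSurjective (f := f.toAlgHom) hf.1).symm (f b) =
        Ideal.Quotient.mk (RingHom.ker f.toAlgHom) b := by
      rw [AlgEquiv.symm_apply_eq]
      rfl
    rw [this]
    rfl
  let δ' : A ⟶ ArtFun.Art.quot P K hK := ⟨δ₀, AlgHom.ext fun a => by
    obtain ⟨b, rfl⟩ := hf.1 a
    show (ArtFun.Art.quot P K hK).res (δ₀ (f b)) = A.res (f b)
    rw [hδ, ArtFun.Art.res_app, ArtFun.Art.res_app]⟩
  have e : ∀ (q : Q ⟶ A) (p : P ⟶ B), r ≫ q = p ≫ f → δ ≫ p = 𝟙 B →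
      (δ' ≫ ArtFun.Art.quotFactor hK r hKr) ≫ q = 𝟙 A := fun q p hr hd => by
    refine ArtFun.Art.hom_ext (AlgHom.ext fun a => ?_)
    obtain ⟨b, rfl⟩ := hf.1 a
    show q (ArtFun.Art.quotFactor hK r hKr (δ₀ (f b))) = f b
    rw [hδ]
    show (r ≫ q) (δ b) = f b
    rw [hr]
    show f ((δ ≫ p) b) = f b
    rw [hd]
    rfl
  refine ⟨F.map δ' (F.map q₁ y), (h2' q₁ q₂ hQ).1 (Subtype.ext (Prod.ext ?_ ?_))⟩
  · show F.map q₁ (F.map (ArtFun.Art.quotFactor hK r hKr) (F.map δ' (F.map q₁ y))) = F.map q₁ y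
    rw [← types_comp_apply (F.map δ') _, ← F.map_comp, ← types_comp_apply _ (F.map q₁), ← F.map_comp,
      e q₁ p₁ hr₁ hd1, F.map_id]
    rfl
  · show F.map q₂ (F.map (ArtFun.Art.quotFactor hK r hKr) (F.map δ' (F.map q₁ y))) = F.map q₂ y
    rw [← types_comp_apply (F.map δ') _, ← F.map_comp, ← types_comp_apply _ (F.map q₂), ← F.map_comp,
      e q₂ p₂ hr₂ hd2, F.map_id, ← hy]
    rfl

end Groth.Agent.S15134
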