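import Groth.Statements.S15135
import Mathlib

set_option autoImplicit false
universe u v
open Deform

namespace Groth.Agent.S15135
namespace Helper

theorem key (R : Type u) [CommRing R] (N : Type v) [AddCommGroup N] [Module R N] (M : Submodule R N) :
    (∀ φ : M →ₗ[R] (N ⧸ M), ∃! L : Submodule R (N × N),
        ∀ x y : N, (x, y) ∈ L ↔ ∃ h : x ∈ M, Submodule.Quotient.mk y = φ ⟨x, h⟩) ∧
    (∀ L : Submodule R (N × N),
      ((∀ x y : N, (x, y) ∈ L → ((0 : N), x) ∈ L) ∧
        (∀ x : N, x ∈ M ↔ ∃ y : N, (x, y) ∈ L) ∧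
        (∀ y : N, ((0 : N), y) ∈ L → y ∈ M)) ↔
      ∃ φ : M →ₗ[R] (N ⧸ M), ∀ x y : N, (x, y) ∈ L ↔ ∃ h : x ∈ M, Submodule.Quotient.mk y = φ ⟨x, h⟩) := by
  classical
  refine ⟨fun φ => ?_, fun L => ⟨?_, ?_⟩⟩
  · refine ⟨{ carrier := {z | ∃ h : z.1 ∈ M, Submodule.Quotient.mk z.2 = φ ⟨z.1, h⟩}
              zero_mem' := ⟨M.zero_mem, (map_zero φ).symm⟩
              add_mem' := fun {a b} ha hb => by
                obtain ⟨ha, ha'⟩ := ha
                obtain ⟨hb, hb'⟩ := hb
                refine ⟨M.add_mem ha hb, ?_⟩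
                simp only [Prod.snd_add, Submodule.Quotient.mk_add, ha', hb', ← map_add]
                rfl
              smul_mem' := fun c a ha => by
                obtain ⟨ha, ha'⟩ := ha
                refine ⟨M.smul_mem c ha, ?_⟩
                simp only [Prod.smul_snd, Submodule.Quotient.mk_smul, ha', ← map_smul]
                rfl }, fun x y => Iff.rfl, fun L hL => Submodule.ext fun z => hL z.1 z.2⟩
  · rintro ⟨h1, h2, h3⟩
    choose y hy using fun x : M => (h2 x).1 x.2
    have hu : ∀ (x : M) (y' : N), ((x : N), y') ∈ L →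
        (Submodule.Quotient.mk y' : N ⧸ M) = Submodule.Quotient.mk (y x) := fun x y' h => by
      rw [Submodule.Quotient.eq]
      have := L.sub_mem h (hy x)
      rw [Prod.mk_sub_mk, sub_self] at this
      exact h3 _ this
    refine ⟨{ toFun := fun x => Submodule.Quotient.mk (y x)
              map_add' := fun a b => by
                rw [← Submodule.Quotient.mk_add]
                exact (hu (a + b) _ (by simpa using L.add_mem (hy a) (hy b))).symm
              map_smul' := fun c a => by
                rw [RingHom.id_apply, ← Submodule.Quotient.mk_smul]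
                exact (hu (c • a) _ (by simpa using L.smul_mem c (hy a))).symm }, fun x y' => ⟨fun h => ?_, ?_⟩⟩
    · have hx : x ∈ M := (h2 x).2 ⟨y', h⟩
      exact ⟨hx, hu ⟨x, hx⟩ y' h⟩
    · rintro ⟨hx, he⟩
      change Submodule.Quotient.mk y' = Submodule.Quotient.mk (y ⟨x, hx⟩) at he
      rw [Submodule.Quotient.eq] at he
      obtain ⟨z, hz⟩ := (h2 _).1 he
      have h0 := h1 _ _ hz
      simpa using L.add_mem (hy ⟨x, hx⟩) h0
  · rintro ⟨φ, hφ⟩
    refine ⟨fun x y h => ?_, fun x => ⟨fun hx => ?_, fun ⟨y, h⟩ => ((hφ x y).1 h).1⟩, fun y h => ?_⟩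
    · obtain ⟨hx, -⟩ := (hφ x y).1 h
      refine (hφ 0 x).2 ⟨M.zero_mem, ?_⟩
      rw [show (⟨0, M.zero_mem⟩ : M) = 0 from rfl, map_zero, Submodule.Quotient.mk_eq_zero]
      exact hx
    · obtain ⟨y, hy⟩ := Submodule.Quotient.mk_surjective M (φ ⟨x, hx⟩)
      exact ⟨y, (hφ x y).2 ⟨hx, hy⟩⟩
    · obtain ⟨h0, he⟩ := (hφ 0 y).1 h
      rw [show (⟨0, h0⟩ : M) = 0 from rfl, map_zero, Submodule.Quotient.mk_eq_zero] at he
      exact he

end Helper


/-- For R-modules M ⊆ N, the first-order embedded deformations of M in N are in canonical bijection with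
Hom_R(M, N/M). Writing N ⊗ k[ε] = N ⊕ εN as N × N (the pair (x, y) standing for x + εy), such a
deformation is an R-submodule L of N × N which is stable under multiplication by ε (if (x, y) ∈ L
then (0, x) ∈ L), reduces to M (x ∈ M exactly when (x, y) ∈ L for some y) and is flat over the dual
numbers, flatness being stated elementwise as: (0, y) ∈ L only if y ∈ M (for a submodule reducing to
M this is the equality of the kernel and the image of ε on L, i.e. flatness over k[ε] when R is an
algebra over a field k). To φ : M → N/M corresponds the submodule of all (x, y) with x ∈ M and y ≡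
φ(x) mod M. The first clause says this rule defines exactly one submodule for each φ; the second
says that a submodule has the three properties precisely when its membership is given by this rule
for some φ. (The published statement is a linear isomorphism t_G ≅ Hom_R(M, N/M) for the functor G
of flat deformations of M inside N ⊗ A over local Artinian algebras A; this row states only the
underlying bijection, and the obstruction half is not stated here.) -/
theorem result
    (R : Type u) [CommRing R] (N : Type v) [AddCommGroup N] [Module R N] (M : Submodule R N) :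
    (∀ φ : M →ₗ[R] (N ⧸ M), ∃! L : Submodule R (N × N),
        ∀ x y : N, (x, y) ∈ L ↔ ∃ h : x ∈ M, Submodule.Quotient.mk y = φ ⟨x, h⟩) ∧
    (∀ L : Submodule R (N × N),
      ((∀ x y : N, (x, y) ∈ L → ((0 : N), x) ∈ L) ∧
        (∀ x : N, x ∈ M ↔ ∃ y : N, (x, y) ∈ L) ∧
        (∀ y : N, ((0 : N), y) ∈ L → y ∈ M)) ↔
      ∃ φ : M →ₗ[R] (N ⧸ M), ∀ x y : N, (x, y) ∈ L ↔ ∃ h : x ∈ M, Submodule.Quotient.mk y = φ ⟨x, h⟩) := by
  exact Helper.key R N M

end Groth.Agent.S15135
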