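import Groth.Statements.S15137
import Groth.Agent.TraceH1Lib.Degree
import Groth.Agent.SurfPtBlow.DvrModel
import Groth.Agent.SurfPtBlow.Push
import Groth.Agent.RpushLib.Vanish
import Groth.Agent.SmoothWeil.Dom
import Groth.Agent.JacLib.Dim
import Groth.Agent.OpenRestrH.Scheme
import Groth.Agent.BCLib.RpushSec
import Groth.Agent.FibreVanishQC.Main
import Groth.Agent.AmpleLib.Pullback
import Groth.Agent.S14837
import Groth.Agent.S14058

set_option autoImplicit false
universe u
open CategoryTheory CategoryTheory.Limits AlgebraicGeometry Opposite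
open Models

namespace Groth.Agent.S15137

set_option backward.isDefEq.respectTransparency false
set_option maxHeartbeats 1000000
set_option synthInstance.maxHeartbeats 200000
open TopologicalSpace Groth.Agent

/-- No first cohomology on the preimage of an affine open of a normal surface with rational singularities. -/
theorem subsingleton_HU_one {X X' : Scheme.{u}} [IsIntegral X] [IsNoetherian X] (hd : topologicalKrullDim X ≤ 2)
    (hrat : ∀ x : X, IsClosed ({x} : Set X) → Curv2.IsRationalSing (X.presheaf.stalk x))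
    (ρ : X' ⟶ X) [IsProper ρ] [IsIntegral X'] (hn' : Pi1.IsNormalScheme X') (U : X.Opens)
    (hU : (U : Set X).Nonempty) [IsIso (ρ ∣_ U)] (W : X.Opens) (hW : IsAffineOpen W) :
    Subsingleton (CohBase.HU (ρ ⁻¹ᵁ W) (Coh.toAb (Coh.structureModule X')) 1) := by
  rcases (W : Set X).eq_empty_or_nonempty with he | hne
  · have : ρ ⁻¹ᵁ W = ⊥ := by
      refine Opens.ext (Set.eq_empty_of_forall_notMem fun z hz => ?_)
      exact Set.eq_empty_iff_forall_notMem.1 he (ρ z) hz
    exact FibreVanishQC.subsingleton_HU_preimage ρ 0 hW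
      (fun y hy => absurd hy (Set.eq_empty_iff_forall_notMem.1 he y)) _ 0 le_rfl
  let B := Γ(X, W)
  haveI : Nonempty W := ⟨⟨hne.some, hne.some_mem⟩⟩
  haveI : IsDomain B := inferInstance
  haveI : IsNoetherianRing B := QCohLib.isNoetherianRing_section hW
  have hB2 : ringKrullDim B ≤ 2 := by
    rw [← PrimeSpectrum.topologicalKrullDim_eq_ringKrullDim]
    exact hW.fromSpec.isOpenEmbedding.isInducing.topologicalKrullDim_le.trans hd
  have hB : ∀ (n : Ideal B) [n.IsMaximal], ringKrullDim (Localization.AtPrime n) = 2 →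
      Curv2.IsRationalSing (Localization.AtPrime n) := fun n hn h2 => by
    let y : PrimeSpectrum B := ⟨n, hn.isPrime⟩
    let x := hW.fromSpec y
    have hx : x ∈ W := hW.range_fromSpec.le ⟨y, rfl⟩
    letI : Algebra B (X.presheaf.stalk x) := TopCat.Presheaf.algebra_section_stalk X.presheaf ⟨x, hx⟩
    haveI : IsLocalization.AtPrime (X.presheaf.stalk x) n := hW.isLocalization_stalk' y hx
    let e := (IsLocalization.algEquiv n.primeCompl (X.presheaf.stalk x) (Localization.AtPrime n)).toRingEquiv
    refine TraceH1Lib.isRationalSing_of_ringEquiv e (hrat x (S14058.isClosed_singleton_of_coheight hd fun h1 => ?_))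
    rw [← ringKrullDim_eq_of_ringEquiv e, ringKrullDim_stalk_eq_coheight] at h2
    rw [WithBot.coe_inj.1 (h2 : ((Order.coheight x : ℕ∞) : WithBot ℕ∞) = ((2 : ℕ∞) : WithBot ℕ∞))] at h1
    exact absurd h1 (by decide)
  let Z : Scheme.{u} := (ρ ⁻¹ᵁ W : X'.Opens)
  letI : Z.Over (Spec (CommRingCat.of B)) := ⟨(ρ ∣_ W) ≫ hW.isoSpec.hom⟩
  haveI : IsProper (ρ ∣_ W) := MorphismProperty.of_isPullback (isPullback_morphismRestrict ρ W).flip inferInstance
  haveI : IsProper (Z ↘ Spec (CommRingCat.of B)) := inferInstanceAs (IsProper ((ρ ∣_ W) ≫ hW.isoSpec.hom))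
  obtain ⟨hgen, -⟩ := BirQFLib.birational_of_isIso_restrict ρ U hU inferInstance
  have hηW : ρ (genericPoint X') ∈ W := hgen.symm ▸ (genericPoint_specializes hne.some).mem_open W.2 hne.some_mem
  haveI : Nonempty Z := ⟨⟨genericPoint X', hηW⟩⟩
  haveI : IsIntegral Z := isIntegral_of_isOpenImmersion (ρ ⁻¹ᵁ W).ι
  have hZn : Pi1.IsNormalScheme Z := fun z => by
    obtain ⟨h1, h2⟩ := hn' ((ρ ⁻¹ᵁ W).ι z)
    haveI := h1
    haveI := h2
    let e := (asIso ((ρ ⁻¹ᵁ W).ι.stalkMap z)).commRingCatIsoToRingEquiv
    exact ⟨e.toMulEquiv.symm.isDomain _, IsIntegrallyClosed.of_equiv e⟩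
  let U' : (W : Scheme.{u}).Opens := W.ι ⁻¹ᵁ U
  have hU' : (U' : Set (W : Scheme.{u})).Nonempty :=
    ⟨⟨genericPoint X, (genericPoint_specializes hne.some).mem_open W.2 hne.some_mem⟩,
      (genericPoint_specializes hU.some).mem_open U.2 hU.some_mem⟩
  haveI : IsIso ((ρ ∣_ W) ∣_ U') := by
    haveI : IsIso (ρ ∣_ (W.ι ''ᵁ U')) := by
      refine BMCohLib.isIso_restrict_le ρ (U := U) ?_
      rw [Scheme.Hom.image_preimage_eq_opensRange_inf, Scheme.Opens.opensRange_ι]
      exact inf_le_right
    exact ((MorphismProperty.isomorphisms Scheme).arrow_mk_iso_iff (morphismRestrictRestrict ρ W U')).2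
      (MorphismProperty.isomorphisms.infer_property _)
  let V : (Spec (CommRingCat.of B)).Opens := hW.isoSpec.inv ⁻¹ᵁ U'
  have hV : (V : Set (Spec (CommRingCat.of B))).Nonempty := by
    obtain ⟨z, hz⟩ := hU'
    refine ⟨hW.isoSpec.hom z, ?_⟩
    show hW.isoSpec.inv (hW.isoSpec.hom z) ∈ U'
    rw [← Scheme.Hom.comp_apply, Iso.hom_inv_id]
    exact hz
  haveI : IsIso ((Z ↘ Spec (CommRingCat.of B)) ∣_ V) := by
    show IsIso (((ρ ∣_ W) ≫ hW.isoSpec.hom) ∣_ V)
    rw [morphismRestrict_comp]
    have e : hW.isoSpec.hom ⁻¹ᵁ V = U' := by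
      simp only [V, ← Scheme.Hom.comp_preimage, Iso.hom_inv_id, Scheme.Hom.id_preimage]
    haveI : IsIso ((ρ ∣_ W) ∣_ (hW.isoSpec.hom ⁻¹ᵁ V)) := e.symm ▸ ‹IsIso ((ρ ∣_ W) ∣_ U')›
    infer_instance
  haveI := TraceH1Lib.subsingleton_H1_modification B hB2 hB Z hZn V hV
  obtain ⟨e⟩ := OpenRestrH.nonempty_HHon_equiv X' (Coh.structureModule X') (ρ ⁻¹ᵁ W) 1
  haveI : Subsingleton (Coh.HHon X' (Coh.structureModule X') (ρ ⁻¹ᵁ W) 1) :=
    (BCLib.hhEquivΓ ((Scheme.Modules.restrictFunctorIsoPullback (ρ ⁻¹ᵁ W).ι).app (Coh.structureModule X') ≪≫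
      AmpleLib.pullO (ρ ⁻¹ᵁ W).ι) 1).toEquiv.subsingleton
  exact e.toEquiv.subsingleton

/-- Let R be a discrete valuation ring whose fraction field K has characteristic zero, let C be a proper
K-curve, smooth of relative dimension 1 and geometrically connected over K, and let X be a model of
C over R (flat and of finite type over R with generic fibre C) which is proper over R and normal, so
that X is a proper relative curve over R; assume X has rational singularities: the local ring of X
at every closed point defines a rational singularity (every proper morphism onto its spectrum from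
an integral normal scheme which is an isomorphism over a nonempty open has H^1 of the structure
sheaf zero). Let ρ : X' → X be a proper morphism over R from an integral normal scheme X' which is
an isomorphism over some nonempty open of X (a proper birational morphism). Then the first higher
direct image R^1ρ_*O_{X'} (of abelian sheaves) vanishes, the map H^1(X, O_X) → H^1(X, ρ_*O_{X'})
induced by the canonical map O_X → ρ_*O_{X'} is bijective, and consequently the R-modules H^1(X,
O_X) and H^1(X', O_{X'}) are isomorphic (the published statement asserts that the canonical pullback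
map is an isomorphism; this row records the existence of an R-linear isomorphism only). -/
theorem result (R : Type u) [CommRing R]
    [IsDomain R] [IsDiscreteValuationRing R] [CharZero (FractionRing R)]
    (X C : Scheme.{u}) [X.Over (Spec (CommRingCat.of R))]
    (f : C ⟶ Spec (CommRingCat.of (FractionRing R)))
    [SmoothOfRelativeDimension 1 f] [IsProper f] [GeometricallyConnected f]
    (hX : Models.IsModel R X (X ↘ Spec (CommRingCat.of R)) C f)
    [IsProper (X ↘ Spec (CommRingCat.of R))] (hn : Pi1.IsNormalScheme X)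
    (hrat : ∀ x : X, IsClosed ({x} : Set X) → Curv2.IsRationalSing (X.presheaf.stalk x))
    (X' : Scheme.{u}) [X'.Over (Spec (CommRingCat.of R))] (ρ : X' ⟶ X) [IsProper ρ]
    (hρ : ρ ≫ (X ↘ Spec (CommRingCat.of R)) = X' ↘ Spec (CommRingCat.of R))
    [IsIntegral X'] (hn' : Pi1.IsNormalScheme X')
    (hbir : ∃ U : X.Opens, (U : Set X).Nonempty ∧ IsIso (ρ ∣_ U)) :
    IsZero ((Coh.RpushAb ρ 1).obj (Coh.toAb (Coh.structureModule X'))) ∧
      Function.Bijective (Sheaf.H.map ((SheafOfModules.toSheaf X.ringCatSheaf).map (ClSub.unitToPush ρ)) 1) ∧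
      Nonempty (Coh.HH X (Coh.structureModule X) 1 ≃ₗ[R] Coh.HH X' (Coh.structureModule X') 1) := by
  obtain ⟨hfl, hlft, hqc, gC, hgC⟩ := hX
  haveI := hfl
  haveI := hlft
  let p := X ↘ Spec (CommRingCat.of R)
  haveI : IsLocallyNoetherian X := LocallyOfFiniteType.isLocallyNoetherian p
  haveI : CompactSpace X := QuasiCompact.compactSpace_of_compactSpace p
  haveI : IsNoetherian X := ⟨⟩
  haveI : Smooth f := SmoothOfRelativeDimension.smooth 1 f
  haveI : ConnectedSpace C := GeometricallyConnected.connectedSpace_of_subsingleton (f := f)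
  haveI : Nonempty C := inferInstance
  haveI : IsIntegral C := SmoothWeil.isIntegral_of_smooth_connected f
  haveI : IsIntegral X := by
    haveI : ∀ x : X, _root_.IsReduced (X.presheaf.stalk x) := fun x => by
      haveI := (hn x).1
      infer_instance
    haveI : AlgebraicGeometry.IsReduced X := isReduced_of_isReduced_stalk X
    haveI : LocallyOfFinitePresentation p := ASp.locallyOfFinitePresentation_of_noetherian p
    have hdense : DenseRange gC := by
      rw [DenseRange, ← hgC.isoPullback_hom_fst]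
      show Dense (Set.range ((Limits.pullback.fst p _) ∘ hgC.isoPullback.hom))
      erw [Function.Surjective.range_comp (f := ⇑hgC.isoPullback.hom)
        (Scheme.Hom.homeomorph hgC.isoPullback.hom).surjective]
      rw [Scheme.Pullback.range_fst]
      refine Dense.preimage ?_ p.isOpenMap
      haveI := (PrimeSpectrum.denseRange_comap_iff_ker_le_nilRadical (algebraMap R (FractionRing R))).2
        (by rw [(RingHom.injective_iff_ker_eq_bot _).1 (IsFractionRing.injective R _)]; exact bot_le)
      exact this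
    haveI : IrreducibleSpace X := by
      haveI : Nonempty X := ⟨gC (genericPoint C)⟩
      refine (irreducibleSpace_def _).2 ?_
      show IsIrreducible (Set.univ : Set X)
      rw [← hdense.closure_range, isIrreducible_iff_closure, ← Set.image_univ]
      exact (IrreducibleSpace.isIrreducible_univ C).image gC gC.continuous.continuousOn
    exact isIntegral_of_irreducibleSpace_of_isReduced X
  have hdC : topologicalKrullDim C ≤ 1 := (JacLib.topologicalKrullDim_of_smooth f 1).le.trans (by simp)
  have hd : topologicalKrullDim X ≤ 2 := SurfPtBlow.dim_model hgC hdC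
  obtain ⟨U, hU, hUi⟩ := hbir
  haveI := hUi
  have hS : ∀ x : X, ringKrullDim (X.presheaf.stalk x) ≤ 2 := fun x => (S1688.dim_le x).trans hd
  haveI : X.IsSeparated := ⟨by rw [← Limits.terminal.comp_from p]; infer_instance⟩
  have hfib := ModifDimLib.fibre_dim_le_one ρ hS hU hUi
  have hac : CohBase.PushAcyclic ρ.base (fun V : X.Opens => IsAffineOpen V) (Coh.toAb (Coh.structureModule X')) := by
    intro V hV n
    cases n with
    | zero => exact subsingleton_HU_one hd hrat ρ hn' U hU V hV
    | succ n => exact FibreVanishQC.subsingleton_HU_preimage ρ 1 hV (fun y _ => hfib y) _ (n + 1) (by omega)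
  have hbasis : ∀ (W : X.Opens) (y : X), y ∈ W → ∃ V : X.Opens, IsAffineOpen V ∧ y ∈ V ∧ V ≤ W := fun W y hy => by
    obtain ⟨_, ⟨V, hV, rfl⟩, hyV, hVW⟩ := X.isBasis_affineOpens.exists_subset_of_mem_open hy W.2
    exact ⟨V, hV, hyV, hVW⟩
  have hR : IsZero ((Coh.RpushAb ρ 1).obj (Coh.toAb (Coh.structureModule X'))) :=
    RpushLib.isZero_rightDerived_at ρ.base hbasis _ 0 fun V hV => hac V hV 0
  haveI hiso : IsIso (ClSub.unitToPush ρ) := SurfPtBlow.isIso_unitToPush ρ ⟨U, hU, hUi⟩ fun z => (hn z).2
  let φa : Coh.toAb (Coh.structureModule X) ⟶ (CohTop.push ρ.base).obj (Coh.toAb (Coh.structureModule X')) :=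
    (SheafOfModules.toSheaf X.ringCatSheaf).map (ClSub.unitToPush ρ)
  haveI : IsIso φa := Functor.map_isIso (SheafOfModules.toSheaf X.ringCatSheaf) (ClSub.unitToPush ρ)
  have hb : Function.Bijective (Sheaf.H.map φa 1) :=
    (((Sheaf.functorH _ 1).mapIso (asIso φa)).addCommGroupIsoToAddEquiv).bijective
  refine ⟨hR, hb, ?_⟩
  have hedge : Function.Bijective (GenBCLib.edgeH ρ.base (Coh.toAb (Coh.structureModule X')) 1) :=
    GenBCLib.bijective_edgeH ρ.base hbasis 1 hac
  let T : Coh.HH X (Coh.structureModule X) 1 →+ Coh.HH X' (Coh.structureModule X') 1 :=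
    (GenBCLib.edgeH ρ.base (Coh.toAb (Coh.structureModule X')) 1).comp (Sheaf.H.map φa 1)
  have hT : ∀ (c : Coh.Γtop X) x, T (c • x) = (ProperFin.gTop ρ c) • T x := fun c x => by
    change GenBCLib.edgeH ρ.base _ 1 (Sheaf.H.map φa 1 (Sheaf.H.map (Coh.smulAb _ c) 1 x)) =
      Sheaf.H.map (Coh.smulAb _ (ProperFin.gTop ρ c)) 1 (GenBCLib.edgeH ρ.base _ 1 (Sheaf.H.map φa 1 x))
    have hcomm : Coh.smulAb (Coh.structureModule X) c ≫ φa =
        φa ≫ (CohTop.push ρ.base).map (Coh.smulAb (Coh.structureModule X') (ProperFin.gTop ρ c)) :=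
      S14837.smulAb_comp_push' ρ (Coh.structureModule X') (ClSub.unitToPush ρ) c
    rw [← Sheaf.H.map_comp_apply, hcomm, Sheaf.H.map_comp_apply]
    exact GenBCLib.edgeH_map ρ.base _ 1 _
  let L : Coh.HH X (Coh.structureModule X) 1 →ₗ[R] Coh.HH X' (Coh.structureModule X') 1 :=
    { T with
      map_smul' := fun a x => by
        show T (Coh.toGlobal (X ↘ Spec (CommRingCat.of R)) a • x) =
          Coh.toGlobal (X' ↘ Spec (CommRingCat.of R)) a • T x
        rw [hT, ← hρ]
        rfl }
  exact ⟨LinearEquiv.ofBijective L (hedge.comp hb)⟩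

end Groth.Agent.S15137
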