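import Groth.Statements.S15138
import Groth.Agent.TraceH1Lib.Degree
import Groth.Agent.S2654
import Groth.Agent.S4710

set_option backward.isDefEq.respectTransparency false
set_option maxHeartbeats 1000000

set_option autoImplicit false
universe u
open CategoryTheory CategoryTheory.Limits AlgebraicGeometry
open Resolve

namespace Groth.Agent.S15138

open Groth.Agent

/-- Let A → B be a finite injective ring map between excellent Noetherian normal domains of Krull
dimension two (the affine form of a finite surjective morphism of two-dimensional excellent normal
integral schemes), let K ⊆ L be the induced extension of fraction fields, and assume that the degree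
[L : K] is a unit in A. If B has rational singularities, in the sense that its localization at every
maximal ideal of height two defines a rational singularity (every proper morphism onto the spectrum
from an integral normal scheme which is an isomorphism over a nonempty open has H^1 of the structure
sheaf zero), then A has rational singularities in the same sense. (The published statement is for
schemes; the property is local on the target and a finite morphism is affine, so this row is its
affine form.) -/
theorem result (A B : Type u) [CommRing A] [CommRing B]
    [IsDomain A] [IsDomain B] [IsNoetherianRing A] [IsNoetherianRing B] [IsIntegrallyClosed A] [IsIntegrallyClosed B]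
    (hAe : EGA4.IsExcellent A) (hBe : EGA4.IsExcellent B) (hA2 : ringKrullDim A = 2) (hB2 : ringKrullDim B = 2)
    [Algebra A B] [Module.Finite A B] (hinj : Function.Injective (algebraMap A B))
    (K L : Type u) [Field K] [Field L] [Algebra A K] [IsFractionRing A K] [Algebra B L] [IsFractionRing B L]
    [Algebra K L] [Algebra A L] [IsScalarTower A K L] [IsScalarTower A B L]
    (hdeg : IsUnit ((Module.finrank K L : ℕ) : A))
    (hB : ∀ (n : Ideal B) [n.IsMaximal], ringKrullDim (Localization.AtPrime n) = 2 →
      Curv2.IsRationalSing (Localization.AtPrime n))
    (m : Ideal A) [m.IsMaximal] (hm : ringKrullDim (Localization.AtPrime m) = 2) :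
    Curv2.IsRationalSing (Localization.AtPrime m) := by
  let M := m.primeCompl
  let A' := Localization.AtPrime m
  let T := Algebra.algebraMapSubmonoid B M
  let B' := Localization T
  have hT0 : T ≤ nonZeroDivisors B := by
    rintro _ ⟨a, ha, rfl⟩
    exact mem_nonZeroDivisors_of_ne_zero fun h => ha (by
      rw [hinj (h.trans (map_zero _).symm)]; exact zero_mem m)
  haveI : IsDomain B' := IsLocalization.isDomain_localization hT0
  haveI : IsNoetherianRing B' := IsLocalization.isNoetherianRing T B' inferInstance
  haveI : IsNoetherianRing A' := IsLocalization.isNoetherianRing M A' inferInstance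
  haveI : IsLocalization (M.map (algebraMap A B)) B' := inferInstanceAs (IsLocalization T B')
  letI : Algebra A' B' := localizationAlgebra M B
  haveI : IsScalarTower A A' B' := IsScalarTower.of_algebraMap_eq fun a =>
    ((IsLocalization.map_eq (S := A') (Q := B') (M.le_comap_map (f := algebraMap A B)) a).trans
      (IsScalarTower.algebraMap_apply A B B' a).symm).symm
  haveI : Module.Finite A' B' := Module.Finite.of_isLocalization A B M
  have hA'inj : Function.Injective (algebraMap A' B') :=
    IsLocalization.map_injective_of_injective M A' B' hinj
  have hNB : CAlg.IsNagata B' := Groth.Agent.S4710.result B (Groth.Agent.S2654.result B ⟨hBe.1, hBe.2.2.1, hBe.2.2.2⟩) T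
  have hdimB : ringKrullDim B' ≤ 2 := by
    refine (Order.krullDim_le_of_strictMono (PrimeSpectrum.comap (algebraMap B B'))
      (Monotone.strictMono_of_injective (fun p q h => Ideal.comap_mono h)
        (PrimeSpectrum.localization_comap_injective B' T))).trans hB2.le
  -- the fraction fields
  have hu : ∀ a : M, IsUnit (algebraMap A K a) := fun a => isUnit_iff_ne_zero.2 fun h =>
    a.2 (by rw [IsFractionRing.injective A K (h.trans (map_zero _).symm)]; exact zero_mem m)
  letI : Algebra A' K := (IsLocalization.lift hu).toAlgebra
  haveI : IsScalarTower A A' K := IsScalarTower.of_algebraMap_eq fun a => (IsLocalization.lift_eq hu a).symm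
  haveI : IsFractionRing A' K := IsFractionRing.isFractionRing_of_isDomain_of_isLocalization M A' K
  have hu' : ∀ b : T, IsUnit (algebraMap B L b) := fun b => isUnit_iff_ne_zero.2 fun h =>
    nonZeroDivisors.ne_zero (hT0 b.2) (IsFractionRing.injective B L (h.trans (map_zero _).symm))
  letI : Algebra B' L := (IsLocalization.lift hu').toAlgebra
  haveI : IsScalarTower B B' L := IsScalarTower.of_algebraMap_eq fun b => (IsLocalization.lift_eq hu' b).symm
  haveI : IsFractionRing B' L := IsFractionRing.isFractionRing_of_isDomain_of_isLocalization T B' L
  letI : Algebra A' L := ((algebraMap K L).comp (algebraMap A' K)).toAlgebra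
  haveI : IsScalarTower A' K L := IsScalarTower.of_algebraMap_eq fun _ => rfl
  haveI : IsScalarTower A' B' L := by
    refine IsScalarTower.of_algebraMap_eq' (IsLocalization.ringHom_ext M (RingHom.ext fun a => ?_))
    show algebraMap K L (algebraMap A' K (algebraMap A A' a)) = algebraMap B' L (algebraMap A' B' (algebraMap A A' a))
    rw [← IsScalarTower.algebraMap_apply A A' K, ← IsScalarTower.algebraMap_apply A K L,
      ← IsScalarTower.algebraMap_apply A A' B', IsScalarTower.algebraMap_apply A B B',
      ← IsScalarTower.algebraMap_apply B B' L, ← IsScalarTower.algebraMap_apply A B L]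
  -- the localizations of the localized ring are localizations of B
  have hB' : ∀ (n : Ideal B') [n.IsMaximal], ringKrullDim (Localization.AtPrime n) = 2 →
      Curv2.IsRationalSing (Localization.AtPrime n) := by
    intro n hn hn2
    let P := n.comap (algebraMap B B')
    haveI : IsLocalization.AtPrime (Localization.AtPrime n) P :=
      IsLocalization.isLocalization_atPrime_localization_atPrime T n
    let e : Localization.AtPrime P ≃+* Localization.AtPrime n :=
      (IsLocalization.algEquiv P.primeCompl (Localization.AtPrime P) (Localization.AtPrime n)).toRingEquiv
    have hP2 : ringKrullDim (Localization.AtPrime P) = 2 := (ringKrullDim_eq_of_ringEquiv e).trans hn2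
    haveI : P.IsMaximal := by
      obtain ⟨Q, hQ, hPQ⟩ := Ideal.exists_le_maximal P (Ideal.IsPrime.ne_top inferInstance)
      rcases eq_or_lt_of_le hPQ with h | h
      · exact h ▸ hQ
      exfalso
      rw [IsLocalization.AtPrime.ringKrullDim_eq_height P (Localization.AtPrime P)] at hP2
      haveI : P.FiniteHeight := Ideal.finiteHeight_of_isNoetherianRing P
      have h1 := Ideal.height_strict_mono_of_isPrime h
      rw [show P.height = 2 from WithBot.coe_inj.1 hP2] at h1
      have h2 := Ideal.height_le_ringKrullDim_of_ne_top hQ.ne_top
      rw [hB2] at h2
      exact absurd (h1.trans_le (WithBot.coe_le_coe.1 h2)) (lt_irrefl _)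
    exact TraceH1Lib.isRationalSing_of_ringEquiv e (hB P hP2)
  intro X f hf hXi hXn hbir
  haveI := hf
  haveI := hXi
  refine subsingleton_of_forall_eq 0 fun x => ?_
  have hx := TraceH1Lib.finrank_nsmul_H1 A' B' hNB hdimB hA'inj K L hB' X f hXn hbir x
  letI : X.Over (Spec (CommRingCat.of A')) := ⟨f⟩
  have hd : IsUnit ((Module.finrank K L : ℕ) : A') := by
    have := hdeg.map (algebraMap A A')
    rwa [map_natCast] at this
  refine hd.smul_eq_zero.1 ?_
  rwa [Nat.cast_smul_eq_nsmul]

end Groth.Agent.S15138
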