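import Groth.Statements.S1649
import Groth.Agent.BirLocLib.Vanish
import Groth.Agent.BirLocLib.Chart
import Groth.Agent.RatCplLib.Main
import Groth.Agent.CplBlowUp.Basic
import Groth.Agent.S1274
import Groth.Agent.S1680

set_option backward.isDefEq.respectTransparency false
set_option maxHeartbeats 1000000

set_option autoImplicit false
universe u
open CategoryTheory CategoryTheory.Limits AlgebraicGeometry
open Resolve

namespace Groth.Agent.S1649

open Groth.Agent

/-- Extension of an ideal sheaf along a localization of an affine chart. -/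
theorem comap_map_eq {B : Type u} [CommRing B] {X : Scheme.{u}} (ψ : Spec (CommRingCat.of B) ⟶ X) [IsAffineHom ψ]
    (U : X.affineOpens) (e : ψ ⁻¹ᵁ U.1 = ⊤)
    (hfr : ∀ b' : B, ∃ c d : Γ(X, U.1), IsUnit ((ψ.appLE U.1 ⊤ e.ge).hom d) ∧
      (Scheme.ΓSpecIso (CommRingCat.of B)).inv.hom b' * (ψ.appLE U.1 ⊤ e.ge).hom d = (ψ.appLE U.1 ⊤ e.ge).hom c)
    (J : (Spec (CommRingCat.of B)).IdealSheafData) : (J.map ψ).comap ψ = J := by
  let T : (Spec (CommRingCat.of B)).affineOpens := ⟨⊤, isAffineOpen_top _⟩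
  let W : (Spec (CommRingCat.of B)).affineOpens := ⟨ψ ⁻¹ᵁ U.1, U.2.preimage ψ⟩
  refine Scheme.IdealSheafData.ext_of_isAffine ?_
  show ((J.map ψ).comap ψ).ideal T = J.ideal T
  rw [IdealStalkLib.comap_ideal (J.map ψ) ψ U.2 (isAffineOpen_top _) e.ge,
    Scheme.IdealSheafData.ideal_map_of_isAffineHom]
  have hTW : T ≤ W := e.ge
  have hWT : W ≤ T := show W.1 ≤ T.1 from le_top
  refine le_antisymm (Ideal.map_le_iff_le_comap.2 fun c hc => ?_) fun j hj => ?_
  · rw [Ideal.mem_comap, ← J.map_ideal hTW]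
    exact Ideal.mem_map_of_mem _ hc
  · obtain ⟨b', rfl⟩ := (ConcreteCategory.bijective_of_isIso (Scheme.ΓSpecIso (CommRingCat.of B)).inv).2 j
    obtain ⟨c, d, hd, hbd⟩ := hfr b'
    refine (Ideal.mul_unit_mem_iff_mem _ hd).1 ?_
    erw [hbd]
    refine Ideal.mem_map_of_mem _ ?_
    rw [Ideal.mem_comap]
    have h1 : (ψ.appLE U.1 ⊤ e.ge).hom c ∈ J.ideal T := hbd ▸ Ideal.mul_mem_right _ _ hj
    have h2 := Ideal.mem_map_of_mem ((Spec (CommRingCat.of B)).presheaf.map (homOfLE hWT).op).hom h1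
    rw [J.map_ideal hWT] at h2
    convert h2 using 1
    show _ = (ψ.appLE U.1 ⊤ e.ge ≫ (Spec (CommRingCat.of B)).presheaf.map (homOfLE hWT).op).hom c
    rw [Scheme.Hom.appLE_map]
    simp [Scheme.Hom.appLE]

/-- Let A be a local normal Nagata domain of dimension two defining a rational singularity, and B a
normal two-dimensional local domain containing A, with A → B local, essentially of finite type and
inducing an equality of fraction fields. Then B defines a rational singularity. -/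
theorem result (A B : Type u) [CommRing A] [CommRing B] [IsDomain A] [IsDomain B]
    [IsLocalRing A] [IsLocalRing B] [IsNoetherianRing A] [IsIntegrallyClosed A] (hN : CAlg.IsNagata A) (hdimA : ringKrullDim A = 2)
    (hA : Curv2.IsRationalSing A) [Algebra A B] [IsLocalHom (algebraMap A B)] (hinj : Function.Injective (algebraMap A B))
    [Algebra.EssFiniteType A B] (hfrac : ∀ b : B, ∃ a a' : A, a' ≠ 0 ∧ algebraMap A B a' * b = algebraMap A B a)
    [IsIntegrallyClosed B] (hdimB : ringKrullDim B = 2) : Curv2.IsRationalSing B := by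
  haveI : IsDomain (CommRingCat.of A) := inferInstanceAs (IsDomain A)
  haveI : IsNoetherianRing (CommRingCat.of A) := inferInstanceAs (IsNoetherianRing A)
  haveI : IsDomain (CommRingCat.of B) := inferInstanceAs (IsDomain B)
  haveI : IsNoetherianRing B := Algebra.EssFiniteType.isNoetherianRing A B
  haveI : IsNoetherianRing (CommRingCat.of B) := inferInstanceAs (IsNoetherianRing B)
  obtain ⟨X, b, U, ψ, hbp, hψb, hψf, ⟨R, hR, hRi⟩, e, hfr⟩ := BirLocLib.exists_model A B hinj hfrac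
  haveI := hbp
  haveI := hψf
  haveI := hRi
  haveI : X.IsSeparated := ⟨by rw [← Limits.terminal.comp_from b]; infer_instance⟩
  haveI : IsAffineHom ψ := by
    haveI : IsAffineHom (ψ ≫ b) := by rw [hψb]; infer_instance
    exact IsAffineHom.of_comp ψ b
  haveI : IsLocallyNoetherian X := LocallyOfFiniteType.isLocallyNoetherian b
  intro Y f hf hYi hYn hbir
  haveI := hf
  haveI := hYi
  haveI := RatCplLib.isIso_over_punctured hdimB f hbir
  obtain ⟨J, S', c, hc, hJ, h₀, hh₀⟩ := S1274.result f (FEt.puncturedSpec B)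
    (TopologicalSpace.NoetherianSpace.isCompact _)
  let K := J.map ψ
  have hK : K.comap ψ = J := comap_map_eq ψ U e hfr J
  have hKft : BlowUp.IsFiniteTypeIdeal K := fun V => by
    haveI : IsNoetherianRing Γ(X, V.1) := IsLocallyNoetherian.component_noetherian V
    exact IsNoetherian.noetherian _
  obtain ⟨X'', b'', hb''⟩ := BlowExistsLib.exists_isBlowUp (𝓘 := K)
  haveI : IsProper b'' := BlowExistsLib.isProper_of_FG hb'' hKft
  let W : X.Opens := K.support.compl
  have hW : BlowUp.IsAdmissibleFor W K := ⟨hKft, Set.disjoint_left.2 fun z hz hzW => hzW hz⟩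
  haveI := RGBlowLib.Union.isIso_restrict_adm hb'' W hW
  -- the generic point of the local algebra
  let ηB : Spec (CommRingCat.of B) := ⟨⊥, Ideal.isPrime_bot⟩
  let ηA : Spec (CommRingCat.of A) := ⟨⊥, Ideal.isPrime_bot⟩
  let σ : Spec (CommRingCat.of B) ⟶ Spec (CommRingCat.of A) := Spec.map (CommRingCat.ofHom (algebraMap A B))
  have hσ : σ ηB = ηA := by
    refine PrimeSpectrum.ext ?_
    show Ideal.comap (algebraMap A B) ⊥ = ⊥
    exact Ideal.comap_bot_of_injective _ hinj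
  have hbη : b (ψ ηB) = ηA := by rw [← Scheme.Hom.comp_apply, hψb]; exact hσ
  have hgenA : ∀ O : (Spec (CommRingCat.of A)).Opens, (O : Set (Spec (CommRingCat.of A))).Nonempty → ηA ∈ O := fun O hO =>
    ((PrimeSpectrum.le_iff_specializes ηA hO.some).mp bot_le).mem_open O.2 hO.some_mem
  have hBpun : ηB ∈ FEt.puncturedSpec B := fun h => by
    have h1 : (⊥ : Ideal B) = IsLocalRing.maximalIdeal B := congrArg PrimeSpectrum.asIdeal h
    have h2 := ringKrullDim_eq_zero_of_isField (IsLocalRing.isField_iff_maximalIdeal_eq.2 h1.symm)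
    rw [hdimB] at h2
    exact absurd h2 (by decide)
  have hψW : ψ ηB ∈ W := fun h => by
    refine Set.disjoint_left.1 hJ.2 ?_ hBpun
    rw [← hK, Scheme.IdealSheafData.support_comap]
    exact h
  have hψR : ψ ηB ∈ b ⁻¹ᵁ R := by
    show b (ψ ηB) ∈ R
    rw [hbη]; exact hgenA R hR
  -- an open of the base over which the blow-ups are isomorphisms
  let V : (Spec (CommRingCat.of A)).Opens := R.ι ''ᵁ ((b ∣_ R) ''ᵁ ((b ⁻¹ᵁ R).ι ⁻¹ᵁ W))
  have hVR : V ≤ R := fun z hz => by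
    obtain ⟨z', -, rfl⟩ := hz
    exact z'.2
  have hηV : ηA ∈ V := ⟨(b ∣_ R) ⟨ψ ηB, hψR⟩, ⟨⟨ψ ηB, hψR⟩, hψW, rfl⟩,
    (morphismRestrict_base_coe b R ⟨ψ ηB, hψR⟩).trans hbη⟩
  have hVW : b ⁻¹ᵁ V ≤ W := fun z hz => by
    obtain ⟨_, ⟨z', hz', rfl⟩, hzz⟩ := hz
    have hzR : z ∈ b ⁻¹ᵁ R := hVR (show b z ∈ V from ⟨_, ⟨z', hz', rfl⟩, hzz⟩)
    have h1 : (⟨z, hzR⟩ : (b ⁻¹ᵁ R : X.Opens)) = z' := (b ∣_ R).isOpenEmbedding.injective
      (Subtype.ext ((morphismRestrict_base_coe b R ⟨z, hzR⟩).trans hzz.symm))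
    subst h1
    exact hz'
  haveI : IsIso (b ∣_ V) := BMCohLib.isIso_restrict_le _ hVR
  haveI : IsIso (b'' ∣_ (b ⁻¹ᵁ V)) := BMCohLib.isIso_restrict_le _ hVW
  haveI : IsIso ((b'' ≫ b) ∣_ V) := by
    rw [morphismRestrict_comp]
    exact inferInstanceAs (IsIso ((b'' ∣_ (b ⁻¹ᵁ V)) ≫ (b ∣_ V)))
  obtain ⟨X', π, hπ, hX'i, hX'n, V', hV', hV'i⟩ := RatCplLib.exists_normal_over hN (b'' ≫ b) V ⟨_, hηV⟩
  haveI := hπ
  haveI := hX'i
  haveI := hV'i
  let p : X' ⟶ X := π ≫ b''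
  let f' : X' ⟶ Spec (CommRingCat.of A) := π ≫ b'' ≫ b
  haveI : IsProper f' := inferInstanceAs (IsProper (π ≫ b'' ≫ b))
  have hS : ∀ y : ↥(Spec (CommRingCat.of A)), ringKrullDim ((Spec (CommRingCat.of A)).presheaf.stalk y) ≤ 2 := fun y =>
    (S1688.dim_le y).trans (le_of_eq ((PrimeSpectrum.topologicalKrullDim_eq_ringKrullDim A).trans hdimA))
  have hd := ModifDimLib.fibre_dim_le_one f' hS hV' hV'i
  have hX'0 : Subsingleton (Coh.HH X' (Coh.structureModule X') 1) :=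
    hA X' f' inferInstance hX'i hX'n ⟨V', hV', hV'i⟩
  -- the base change to the local ring
  let Z := pullback p ψ
  let g : Z ⟶ X' := pullback.fst p ψ
  let cZ : Z ⟶ Spec (CommRingCat.of B) := pullback.snd p ψ
  haveI : IsAffineHom g := MorphismProperty.pullback_fst _ _ inferInstance
  haveI : Flat g := MorphismProperty.pullback_fst _ _ inferInstance
  haveI : IsProper cZ := MorphismProperty.pullback_snd _ _ (inferInstanceAs (IsProper (π ≫ b'')))
  have hw : g ≫ f' = cZ ≫ σ := by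
    show g ≫ π ≫ b'' ≫ b = _
    rw [show σ = ψ ≫ b from hψb.symm, ← Category.assoc π, ← Category.assoc g, ← Category.assoc cZ]
    exact congrArg (· ≫ b) pullback.condition
  haveI : IsClosedImmersion (pullback.lift g cZ hw) := by
    let i : pullback (p ≫ b) (ψ ≫ b) ⟶ pullback f' σ :=
      pullback.map _ _ _ _ (𝟙 _) (𝟙 _) (𝟙 _) (by simp [p, f']) (by simp [σ, hψb])
    have h1 : pullback.lift g cZ hw = pullback.mapDesc p ψ b ≫ i := by
      refine pullback.hom_ext ?_ ?_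
      · simp [i, g, pullback.mapDesc]
      · simp [i, cZ, pullback.mapDesc]
    rw [h1]
    infer_instance
  have hZH : Subsingleton (Coh.HH Z (Coh.structureModule Z) 1) := BirLocLib.subsingleton_H1 f' hd hX'0 g cZ hw
  -- a dense open over which everything is an isomorphism
  let V'' : (Spec (CommRingCat.of A)).Opens := V' ⊓ V
  haveI : IsIso (b ∣_ V'') := BMCohLib.isIso_restrict_le _ (inf_le_right.trans hVR)
  haveI hpi : IsIso (p ∣_ (b ⁻¹ᵁ V'')) := by
    haveI h1 : IsIso ((p ≫ b) ∣_ V'') := by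
      rw [show p ≫ b = π ≫ b'' ≫ b from Category.assoc _ _ _]
      exact BMCohLib.isIso_restrict_le _ inf_le_left
    rw [morphismRestrict_comp] at h1
    haveI := h1
    exact IsIso.of_isIso_comp_right _ (b ∣_ V'')
  let O' : (Spec (CommRingCat.of B)).Opens := ψ ⁻¹ᵁ (b ⁻¹ᵁ V'')
  have hηO' : ηB ∈ O' := by
    show b (ψ ηB) ∈ V''
    rw [hbη]; exact ⟨hgenA V' hV', hηV⟩
  haveI hcO : IsIso (cZ ∣_ O') :=
    ModPairLib.isIso_restrict_baseChange (IsPullback.of_hasPullback p ψ) (b ⁻¹ᵁ V'') O' le_rfl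
  haveI : IsIntegral ((g ⁻¹ᵁ (p ⁻¹ᵁ (b ⁻¹ᵁ V'')) : Z.Opens) : Scheme.{u}) := by
    have e' : g ⁻¹ᵁ (p ⁻¹ᵁ (b ⁻¹ᵁ V'')) = cZ ⁻¹ᵁ O' := by
      simp only [O', ← Scheme.Hom.comp_preimage, g, cZ, ← pullback.condition_assoc]
    rw [e']
    haveI : Nonempty (O' : Scheme.{u}) := ⟨⟨ηB, hηO'⟩⟩
    haveI : Nonempty ((cZ ⁻¹ᵁ O' : Z.Opens) : Scheme.{u}) := ⟨inv (cZ ∣_ O') ⟨ηB, hηO'⟩⟩
    haveI : IsIntegral (O' : Scheme.{u}) := isIntegral_of_isOpenImmersion O'.ι
    exact IsIntegral.of_isIso (inv (cZ ∣_ O'))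
  haveI : IsIntegral Z := RatCplLib.isIntegral_of_flat g (p ⁻¹ᵁ (b ⁻¹ᵁ V''))
    ⟨_, (inv (p ∣_ (b ⁻¹ᵁ V'')) ⟨ψ ηB, hηO'⟩).2⟩
  -- the map to the given modification
  have hbc := Groth.Agent.S1680.result ψ K b'' hb''
  rw [hK] at hbc
  obtain ⟨es, hes⟩ := CplBlowUp.exists_iso hbc hc
  let q : Z ⟶ pullback ψ b'' :=
    pullback.lift cZ (g ≫ π) (by rw [Category.assoc]; exact pullback.condition.symm)
  let h : Z ⟶ Y := q ≫ es.hom ≫ h₀
  have hhf : h ≫ f = cZ := by
    simp only [h, Category.assoc, hh₀, hes]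
    exact pullback.lift_fst _ _ _
  haveI : IsProper h := by
    haveI : IsProper (h ≫ f) := by rw [hhf]; infer_instance
    exact IsProper.of_comp h f
  let O'' := O' ⊓ FEt.puncturedSpec B
  haveI : IsIso (f ∣_ O'') := BMCohLib.isIso_restrict_le _ inf_le_right
  haveI : IsIso (h ∣_ (f ⁻¹ᵁ O'')) := by
    haveI h1 : IsIso ((h ≫ f) ∣_ O'') := by rw [hhf]; exact BMCohLib.isIso_restrict_le _ inf_le_left
    rw [morphismRestrict_comp] at h1
    haveI := h1
    exact IsIso.of_isIso_comp_right _ (f ∣_ O'')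
  exact RatCplLib.subsingleton_H1_of_birational hYn h
    ⟨f ⁻¹ᵁ O'', ⟨_, (inv (f ∣_ O'') ⟨ηB, hηO', hBpun⟩).2⟩, inferInstance⟩ hZH


end Groth.Agent.S1649
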