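import Groth.Statements.S15139
import Groth.Agent.S15137
import Groth.Agent.S1649
import Groth.Agent.S2653
import Groth.Agent.S2654
import Groth.Agent.S10887
import Groth.Agent.TraceH1Lib.Normal
import Groth.Agent.TraceH1Lib.Degree
import Groth.Agent.CastLib.FibreSeq
import Groth.Agent.NormalSch.Birational

set_option autoImplicit false
universe u
open CategoryTheory CategoryTheory.Limits AlgebraicGeometry Opposite
open Models

namespace Groth.Agent.S15139

set_option backward.isDefEq.respectTransparency false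
set_option maxHeartbeats 1600000
set_option synthInstance.maxHeartbeats 200000
open TopologicalSpace Groth.Agent

/-- A reduced flat model of an integral curve is integral. -/
theorem isIntegral_of_generic {R : Type u} [CommRing R] [IsDomain R] [IsDiscreteValuationRing R]
    {X C : Scheme.{u}} {p : X ⟶ Spec (CommRingCat.of R)} {f : C ⟶ Spec (CommRingCat.of (FractionRing R))}
    {g : C ⟶ X} (hg : IsPullback g f p (Spec.map (CommRingCat.ofHom (algebraMap R (FractionRing R)))))
    [Flat p] [LocallyOfFiniteType p] [IsIntegral C] (hn : Pi1.IsNormalScheme X) : IsIntegral X := by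
  haveI : ∀ x : X, _root_.IsReduced (X.presheaf.stalk x) := fun x => by
    haveI := (hn x).1
    infer_instance
  haveI : AlgebraicGeometry.IsReduced X := isReduced_of_isReduced_stalk X
  haveI : IsLocallyNoetherian X := LocallyOfFiniteType.isLocallyNoetherian p
  haveI : LocallyOfFinitePresentation p := ASp.locallyOfFinitePresentation_of_noetherian p
  have hdense : DenseRange g := by
    rw [DenseRange, ← hg.isoPullback_hom_fst]
    show Dense (Set.range ((Limits.pullback.fst p _) ∘ hg.isoPullback.hom))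
    erw [Function.Surjective.range_comp (f := ⇑hg.isoPullback.hom)
      (Scheme.Hom.homeomorph hg.isoPullback.hom).surjective]
    rw [Scheme.Pullback.range_fst]
    refine Dense.preimage ?_ p.isOpenMap
    haveI := (PrimeSpectrum.denseRange_comap_iff_ker_le_nilRadical (algebraMap R (FractionRing R))).2
      (by rw [(RingHom.injective_iff_ker_eq_bot _).1 (IsFractionRing.injective R _)]; exact bot_le)
    exact this
  haveI : IrreducibleSpace X := by
    haveI : Nonempty X := ⟨g (genericPoint C)⟩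
    refine (irreducibleSpace_def _).2 ?_
    show IsIrreducible (Set.univ : Set X)
    rw [← hdense.closure_range, isIrreducible_iff_closure, ← Set.image_univ]
    exact (IrreducibleSpace.isIrreducible_univ C).image g g.continuous.continuousOn
  exact isIntegral_of_irreducibleSpace_of_isReduced X

/-- Points of a normal birational scheme of finite type over a surface with rational singularities. -/
theorem isRationalSing_stalk {X Y : Scheme.{u}} [IsIntegral X] [IsIntegral Y] [IsNoetherian X] [IsNoetherian Y]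
    [X.IsSeparated] [Y.IsSeparated] (ρ : Y ⟶ X) [IsProper ρ] (hX : topologicalKrullDim X ≤ 2)
    (hN : ∀ x : X, CAlg.IsNagata (X.presheaf.stalk x)) (hXn : Pi1.IsNormalScheme X) (hYn : Pi1.IsNormalScheme Y)
    (hrat : ∀ x : X, IsClosed ({x} : Set X) → Curv2.IsRationalSing (X.presheaf.stalk x))
    (U : X.Opens) (hU : (U : Set X).Nonempty) [IsIso (ρ ∣_ U)] (y : Y) (hy : IsClosed ({y} : Set Y)) :
    Curv2.IsRationalSing (Y.presheaf.stalk y) := by
  obtain ⟨hgen, hst⟩ := BirQFLib.birational_of_isIso_restrict ρ U hU inferInstance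
  have hdim : ringKrullDim (Y.presheaf.stalk y) ≤ ringKrullDim (X.presheaf.stalk (ρ y)) :=
    S18879.result ρ (ModifDimLib.isBirational_of_isIso ρ hU inferInstance) y
  have hX2 : ringKrullDim (X.presheaf.stalk (ρ y)) ≤ 2 := (S1688.dim_le _).trans hX
  haveI := (hYn y).1
  haveI := (hYn y).2
  haveI := (hXn (ρ y)).1
  haveI := (hXn (ρ y)).2
  haveI : IsNoetherianRing (Y.presheaf.stalk y) := inferInstance
  by_cases h2 : ringKrullDim (Y.presheaf.stalk y) = 2
  · have hA2 : ringKrullDim (X.presheaf.stalk (ρ y)) = 2 := le_antisymm hX2 (h2 ▸ hdim)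
    have hxc : IsClosed ({ρ y} : Set X) := by
      rw [← Set.image_singleton]
      exact ρ.isClosedMap _ hy
    letI : Algebra (X.presheaf.stalk (ρ y)) (Y.presheaf.stalk y) := (ρ.stalkMap y).hom.toAlgebra
    haveI : IsLocalHom (algebraMap (X.presheaf.stalk (ρ y)) (Y.presheaf.stalk y)) :=
      inferInstanceAs (IsLocalHom (ρ.stalkMap y).hom)
    haveI : Algebra.EssFiniteType (X.presheaf.stalk (ρ y)) (Y.presheaf.stalk y) :=
      LocallyOfFiniteType.stalkMap ρ y
    have hc : ∀ a, RefOne.toK y (ρ.stalkMap y a) = ρ.stalkMap (genericPoint Y)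
        (X.presheaf.stalkSpecializes (((genericPoint_spec ↥Y).specializes (Set.mem_univ y)).map ρ.continuous) a) :=
      fun a => (Scheme.Hom.stalkSpecializes_stalkMap_apply ρ _ _ ((genericPoint_spec ↥Y).specializes (Set.mem_univ y)) a).symm
    have hspec : ∀ z (hz : z = genericPoint X) (h : z ⤳ ρ y),
        Function.Injective (X.presheaf.stalkSpecializes h) ∧ ∀ w, ∃ a a', a' ≠ 0 ∧
          X.presheaf.stalkSpecializes h a' * w = X.presheaf.stalkSpecializes h a := by
      rintro z rfl h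
      refine ⟨RefOne.toK_injective (ρ y), fun w => ?_⟩
      obtain ⟨a, b, hb, he⟩ := RefOne.exists_div (ρ y) w
      exact ⟨a, b, hb, he⟩
    obtain ⟨hi, hd⟩ := hspec (ρ (genericPoint Y)) hgen
      (((genericPoint_spec ↥Y).specializes (Set.mem_univ y)).map ρ.continuous)
    have hinj : Function.Injective (algebraMap (X.presheaf.stalk (ρ y)) (Y.presheaf.stalk y)) := fun a b hab => by
      have h := congrArg (RefOne.toK y) (show ρ.stalkMap y a = ρ.stalkMap y b from hab)
      rw [hc, hc] at h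
      exact hi ((ConcreteCategory.bijective_of_isIso (ρ.stalkMap (genericPoint Y))).1 h)
    refine S1649.result (X.presheaf.stalk (ρ y)) (Y.presheaf.stalk y) (hN _) hA2 (hrat _ hxc) hinj (fun b => ?_) h2
    obtain ⟨w, hw⟩ := (ConcreteCategory.bijective_of_isIso (ρ.stalkMap (genericPoint Y))).2 (RefOne.toK y b)
    obtain ⟨a, a', ha', he⟩ := hd w
    refine ⟨a, a', ha', RefOne.toK_injective y ?_⟩
    show RefOne.toK y (ρ.stalkMap y a' * b) = RefOne.toK y (ρ.stalkMap y a)
    rw [map_mul, hc, hc, ← hw, ← map_mul]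
    exact congrArg _ he
  intro Z φ hφ hZ hZn ⟨V, hV, hVi⟩
  haveI := hφ
  haveI := hZ
  haveI := hVi
  letI : Z.Over (Spec (CommRingCat.of (Y.presheaf.stalk y))) := ⟨φ⟩
  haveI : IsProper (Z ↘ Spec (CommRingCat.of (Y.presheaf.stalk y))) := hφ
  haveI : IsIso ((Z ↘ Spec (CommRingCat.of (Y.presheaf.stalk y))) ∣_ V) := hVi
  refine TraceH1Lib.subsingleton_H1_modification (Y.presheaf.stalk y) (hdim.trans hX2) (fun n hn hd => ?_) Z hZn V hV
  exact absurd (le_antisymm (hdim.trans hX2) (hd ▸ TraceH1Lib.subsingleton_H1_modification.ringKrullDim_localization_atPrime_le n)) h2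

/-- Let R be a discrete valuation ring whose fraction field K has characteristic zero, and let C be a
proper K-curve, smooth of relative dimension 1 and geometrically connected over K. An admissible
model of C is a scheme X with a proper flat morphism p : X → Spec R (hence of finite type) and a
morphism g : C → X making C the generic fibre of p, such that X is normal, cohomologically flat over
R in dimension 0 (the restriction H^0(X, O_X) → H^0(X_s, O_{X_s}) to the closed fibre X_s, cut out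
by 𝔪_R · O_X, is surjective), and has rational singularities (the local ring at every closed point
defines a rational singularity: every proper morphism onto its spectrum from an integral normal
scheme which is an isomorphism over a nonempty open has H^1 of the structure sheaf zero). Then any
two admissible models (X₁, p₁, g₁) and (X₂, p₂, g₂) of C are dominated by a third: there are an
admissible model (X₃, p₃, g₃) of C and proper R-morphisms ρ₁ : X₃ → X₁ and ρ₂ : X₃ → X₂ with g₃ ≫ ρ₁
= g₁ and g₃ ≫ ρ₂ = g₂ (so ρ₁ and ρ₂ are proper and birational, inducing the given identifications on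
generic fibres). -/
theorem result (R : Type u) [CommRing R] [IsDomain R]
    [IsDiscreteValuationRing R] [CharZero (FractionRing R)]
    (C : Scheme.{u}) (f : C ⟶ Spec (CommRingCat.of (FractionRing R)))
    [SmoothOfRelativeDimension 1 f] [IsProper f] [GeometricallyConnected f]
    (X₁ X₂ : Scheme.{u}) (p₁ : X₁ ⟶ Spec (CommRingCat.of R)) (p₂ : X₂ ⟶ Spec (CommRingCat.of R))
    [IsProper p₁] [Flat p₁] [IsProper p₂] [Flat p₂]
    (g₁ : C ⟶ X₁) (g₂ : C ⟶ X₂)
    (hg₁ : IsPullback g₁ f p₁ (Spec.map (CommRingCat.ofHom (algebraMap R (FractionRing R)))))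
    (hg₂ : IsPullback g₂ f p₂ (Spec.map (CommRingCat.ofHom (algebraMap R (FractionRing R)))))
    (hn₁ : Pi1.IsNormalScheme X₁) (hn₂ : Pi1.IsNormalScheme X₂)
    (hcf₁ : Function.Surjective (Sheaf.H.map ((SheafOfModules.toSheaf X₁.ringCatSheaf).map
        (ClSub.toSubscheme (Models.specialFibreIdeal R (Over.mk p₁)))) 0))
    (hcf₂ : Function.Surjective (Sheaf.H.map ((SheafOfModules.toSheaf X₂.ringCatSheaf).map
        (ClSub.toSubscheme (Models.specialFibreIdeal R (Over.mk p₂)))) 0))
    (hrat₁ : ∀ x : X₁, IsClosed ({x} : Set X₁) → Curv2.IsRationalSing (X₁.presheaf.stalk x))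
    (hrat₂ : ∀ x : X₂, IsClosed ({x} : Set X₂) → Curv2.IsRationalSing (X₂.presheaf.stalk x)) :
    ∃ (X₃ : Scheme.{u}) (p₃ : X₃ ⟶ Spec (CommRingCat.of R)) (g₃ : C ⟶ X₃) (ρ₁ : X₃ ⟶ X₁) (ρ₂ : X₃ ⟶ X₂),
      IsProper p₃ ∧ Flat p₃ ∧
      IsPullback g₃ f p₃ (Spec.map (CommRingCat.ofHom (algebraMap R (FractionRing R)))) ∧
      Pi1.IsNormalScheme X₃ ∧
      Function.Surjective (Sheaf.H.map ((SheafOfModules.toSheaf X₃.ringCatSheaf).map
        (ClSub.toSubscheme (Models.specialFibreIdeal R (Over.mk p₃)))) 0) ∧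
      (∀ x : X₃, IsClosed ({x} : Set X₃) → Curv2.IsRationalSing (X₃.presheaf.stalk x)) ∧
      IsProper ρ₁ ∧ IsProper ρ₂ ∧ ρ₁ ≫ p₁ = p₃ ∧ ρ₂ ≫ p₂ = p₃ ∧ g₃ ≫ ρ₁ = g₁ ∧ g₃ ≫ ρ₂ = g₂ := by
  haveI : Smooth f := SmoothOfRelativeDimension.smooth 1 f
  haveI : ConnectedSpace C := GeometricallyConnected.connectedSpace_of_subsingleton (f := f)
  haveI : IsIntegral C := SmoothWeil.isIntegral_of_smooth_connected f
  haveI : IsIntegral X₁ := isIntegral_of_generic hg₁ hn₁
  haveI : IsIntegral X₂ := isIntegral_of_generic hg₂ hn₂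
  haveI : IsLocallyNoetherian X₁ := LocallyOfFiniteType.isLocallyNoetherian p₁
  haveI : CompactSpace X₁ := QuasiCompact.compactSpace_of_compactSpace p₁
  haveI : IsNoetherian X₁ := ⟨⟩
  haveI : IsLocallyNoetherian X₂ := LocallyOfFiniteType.isLocallyNoetherian p₂
  haveI : CompactSpace X₂ := QuasiCompact.compactSpace_of_compactSpace p₂
  haveI : IsNoetherian X₂ := ⟨⟩
  haveI : X₁.IsSeparated := ⟨by rw [← Limits.terminal.comp_from p₁]; infer_instance⟩
  haveI : X₂.IsSeparated := ⟨by rw [← Limits.terminal.comp_from p₂]; infer_instance⟩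
  haveI : IsLocallyNoetherian C := LocallyOfFiniteType.isLocallyNoetherian f
  haveI : CompactSpace C := QuasiCompact.compactSpace_of_compactSpace f
  haveI : IsNoetherian C := ⟨⟩
  haveI : CharZero R := (algebraMap R (FractionRing R)).charZero
  have hexc := S2653.result R
  have hNR : CAlg.IsNagata R := S2654.result R ⟨hexc.1, hexc.2.2.1, hexc.2.2.2⟩
  -- the closure of the graph
  haveI := SurfPtBlow.isOpenImmersion_gen hg₁
  let U : X₁.Opens := g₁.opensRange
  let P := pullback p₁ p₂
  let π₁ : P ⟶ X₁ := pullback.fst p₁ p₂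
  let π₂ : P ⟶ X₂ := pullback.snd p₁ p₂
  haveI : IsProper π₁ := MorphismProperty.pullback_fst _ _ inferInstance
  let t : (U : Scheme.{u}) ⟶ P := g₁.isoOpensRange.inv ≫ pullback.lift g₁ g₂ (hg₁.w.trans hg₂.w.symm)
  have ht : t ≫ π₁ = U.ι := by
    simp only [t, π₁, Category.assoc, pullback.lift_fst]
    exact Scheme.Hom.isoOpensRange_inv_comp g₁
  haveI : CompactSpace (U : Scheme.{u}) := isCompact_iff_compactSpace.1 (NoetherianSpace.isCompact (U : Set X₁))
  haveI : QuasiSeparatedSpace P := quasiSeparatedSpace_of_quasiSeparated π₁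
  haveI : QuasiCompact t := quasiCompact_of_compactSpace t
  haveI : QuasiCompact U.ι := quasiCompact_of_compactSpace _
  haveI hiT : IsIso ((t.imageι ≫ π₁) ∣_ U) := RGBlowLib.isIso_image_restrict π₁ U t ht
  haveI : Nonempty (U : Scheme.{u}) := ⟨⟨g₁ (genericPoint C), _, rfl⟩⟩
  haveI : IsIntegral (U : Scheme.{u}) := isIntegral_of_isOpenImmersion U.ι
  haveI : IsIntegral t.image := ProperFin.isIntegral_image t
  let π : t.image ⟶ X₁ := t.imageι ≫ π₁
  haveI : IsProper π := inferInstanceAs (IsProper (t.imageι ≫ π₁))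
  haveI : IsIso (π ∣_ U) := hiT
  haveI : IsNoetherian t.image := RGBlowLib.Union.isNoetherian_of_ft (π ≫ p₁)
  haveI : QuasiCompact (t.image.fromSpecStalk (genericPoint t.image)) := quasiCompact_of_compactSpace _
  haveI : QuasiSeparated (t.image.fromSpecStalk (genericPoint t.image)) := inferInstance
  have hZ : ∀ V : t.image.affineOpens, CAlg.IsNagata Γ(t.image, V.1) := S7359.isNagata_of_lft (π ≫ p₁) fun W => by
      refine S9833.result (Spec (CommRingCat.of R)) (fun _ : PUnit.{u + 1} => ⊤) iSup_const (fun _ => isAffineOpen_top _) (fun _ => ?_) W.1 W.2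
      exact NagataLib.isNagata_of_surjective (Scheme.ΓSpecIso (CommRingCat.of R)).inv.hom
        (Scheme.ΓSpecIso (CommRingCat.of R)).symm.commRingCatIsoToRingEquiv.surjective hNR
  haveI : IsFinite (Curv2.normalizationι t.image) := S9688.result t.image fun V hV hne => by
    haveI : Nonempty (V : Scheme.{u}) := hne
    haveI := IsIntegral.component_integral (X := t.image) V
    obtain ⟨hnoeth, hN2⟩ := hZ ⟨V, hV⟩
    exact NagataCompleteLib.isN2_of_ringEquiv (RingEquiv.quotientBot Γ(t.image, V)) (hN2 ⊥)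
  obtain ⟨hint, hnorm, -, -⟩ := S2351.result t.image
  haveI := hint
  let X₃ := Curv2.normalization t.image
  let ν : X₃ ⟶ t.image := Curv2.normalizationι t.image
  let ρ₁ : X₃ ⟶ X₁ := ν ≫ π
  let ρ₂ : X₃ ⟶ X₂ := ν ≫ t.imageι ≫ π₂
  haveI : IsProper ρ₁ := inferInstanceAs (IsProper (ν ≫ π))
  haveI : IsProper π₂ := MorphismProperty.pullback_snd _ _ inferInstance
  haveI : IsProper ρ₂ := inferInstanceAs (IsProper (ν ≫ t.imageι ≫ π₂))
  -- isomorphic over the generic fibre
  have hU : (U : Set X₁).Nonempty := ⟨g₁ (genericPoint C), _, rfl⟩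
  let O : t.image.Opens := π ⁻¹ᵁ U
  haveI : IsIso (ν ∣_ O) := by
    obtain ⟨W, hW, hWiso⟩ := BMCohLib.exists_isIso_normalization (Z := t.image)
    haveI := hWiso
    haveI : Nonempty (O : Scheme.{u}) := Nonempty.map (inv (π ∣_ U)) inferInstance
    haveI : IsIntegral (O : Scheme.{u}) := isIntegral_of_isOpenImmersion O.ι
    have hOn : Pi1.IsNormalScheme (O : Scheme.{u}) := fun z => by
      obtain ⟨h1, h2⟩ := hn₁ (U.ι ((π ∣_ U) z))
      haveI := h1
      haveI := h2
      let e := ((asIso (U.ι.stalkMap ((π ∣_ U) z))) ≪≫ (asIso ((π ∣_ U).stalkMap z))).commRingCatIsoToRingEquiv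
      exact ⟨e.toMulEquiv.symm.isDomain _, IsIntegrallyClosed.of_equiv e⟩
    obtain ⟨hgenν, hstν⟩ := BirQFLib.birational_of_isIso_restrict ν W ⟨_, hW⟩ hWiso
    haveI : Nonempty (ν ⁻¹ᵁ O : X₃.Opens) := ⟨⟨genericPoint X₃, show ν (genericPoint X₃) ∈ O from hgenν.symm ▸
      (genericPoint_specializes _).mem_open O.2 (Classical.arbitrary (O : Scheme.{u})).2⟩⟩
    haveI : IsIntegral ((ν ⁻¹ᵁ O : X₃.Opens) : Scheme.{u}) := isIntegral_of_isOpenImmersion (ν ⁻¹ᵁ O).ι
    let W' : (O : Scheme.{u}).Opens := O.ι ⁻¹ᵁ W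
    have hW' : (W' : Set (O : Scheme.{u})).Nonempty :=
      ⟨⟨genericPoint t.image, (genericPoint_specializes _).mem_open O.2 (Classical.arbitrary (O : Scheme.{u})).2⟩, hW⟩
    haveI : IsIso ((ν ∣_ O) ∣_ W') := by
      haveI : IsIso (ν ∣_ (O.ι ''ᵁ W')) := by
        refine BMCohLib.isIso_restrict_le ν (U := W) ?_
        rw [Scheme.Hom.image_preimage_eq_opensRange_inf, Scheme.Opens.opensRange_ι]
        exact inf_le_right
      exact ((MorphismProperty.isomorphisms Scheme).arrow_mk_iso_iff (morphismRestrictRestrict ν O W')).2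
        (MorphismProperty.isomorphisms.infer_property _)
    obtain ⟨hgen', hst'⟩ := BirQFLib.birational_of_isIso_restrict (ν ∣_ O) W' hW' inferInstance
    exact NormalSch.isIso_of_integral_birational hOn (ν ∣_ O) hgen'
      (ConcreteCategory.bijective_of_isIso ((ν ∣_ O).stalkMap _)).2
  haveI : IsIso (ρ₁ ∣_ U) := by
    show IsIso ((ν ≫ π) ∣_ U)
    rw [morphismRestrict_comp]
    exact inferInstanceAs (IsIso ((ν ∣_ O) ≫ (π ∣_ U)))
  let g₃ : C ⟶ X₃ := g₁.isoOpensRange.hom ≫ inv (ρ₁ ∣_ U) ≫ (ρ₁ ⁻¹ᵁ U).ι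
  have h31 : g₃ ≫ ρ₁ = g₁ := by
    simp only [g₃, Category.assoc, ← morphismRestrict_ι, IsIso.inv_hom_id_assoc]
    exact Scheme.Hom.isoOpensRange_hom_ι g₁
  have hti : g₃ ≫ ν ≫ t.imageι = pullback.lift g₁ g₂ (hg₁.w.trans hg₂.w.symm) := by
    have h : g₃ ≫ ν = g₁.isoOpensRange.hom ≫ t.toImage := by
      refine TraceH1Lib.hom_ext_of_isIso π U _ _ (fun c => ?_) ?_
      · show π (ν (g₃ c)) ∈ U
        rw [← Scheme.Hom.comp_apply, ← Scheme.Hom.comp_apply, Category.assoc]
        exact ⟨c, (congrArg (fun φ : C ⟶ X₁ => φ c) h31).symm⟩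
      · rw [Category.assoc, Category.assoc]
        refine h31.trans ?_
        show g₁ = _ ≫ t.toImage ≫ t.imageι ≫ π₁
        rw [Scheme.Hom.toImage_imageι_assoc, ht]
        exact (Scheme.Hom.isoOpensRange_hom_ι g₁).symm
    rw [← Category.assoc, h, Category.assoc, Scheme.Hom.toImage_imageι]
    simp [t]
  have h32 : g₃ ≫ ρ₂ = g₂ := by
    show g₃ ≫ ν ≫ t.imageι ≫ π₂ = g₂
    rw [reassoc_of% hti]
    exact pullback.lift_snd _ _ _
  let p₃ : X₃ ⟶ Spec (CommRingCat.of R) := ρ₁ ≫ p₁
  have h12 : ρ₂ ≫ p₂ = p₃ := by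
    simp only [p₃, ρ₁, ρ₂, π, π₁, π₂, Category.assoc, ← pullback.condition]
  haveI : IsProper p₃ := inferInstanceAs (IsProper (ρ₁ ≫ p₁))
  haveI : IsLocallyNoetherian X₃ := LocallyOfFiniteType.isLocallyNoetherian p₃
  haveI : CompactSpace X₃ := QuasiCompact.compactSpace_of_compactSpace p₃
  haveI : IsNoetherian X₃ := ⟨⟩
  haveI : X₃.IsSeparated := ⟨by rw [← Limits.terminal.comp_from p₃]; infer_instance⟩
  have hpb : IsPullback g₃ f p₃ (Spec.map (CommRingCat.ofHom (algebraMap R (FractionRing R)))) := by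
    have hsq : IsPullback g₃ (𝟙 C) ρ₁ g₁ := by
      refine IsPullback.of_iso (isPullback_morphismRestrict ρ₁ U).flip
        (asIso (ρ₁ ∣_ U) ≪≫ g₁.isoOpensRange.symm) (Iso.refl _) g₁.isoOpensRange.symm (Iso.refl _) ?_ ?_ ?_ ?_
      · simp [g₃]
      · simp
      · simp
      · simp [U]
    have := hsq.paste_vert hg₁
    rwa [Category.id_comp] at this
  have hgenR : ∀ c : C, p₃ (g₃ c) = genericPoint (Spec (CommRingCat.of R)) := fun c => by
    have h2 : p₁ (g₁ c) ∈ Set.range (Spec.map (CommRingCat.ofHom (algebraMap R (FractionRing R)))) :=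
      ⟨f c, by rw [← Scheme.Hom.comp_apply, ← hg₁.w, Scheme.Hom.comp_apply]⟩
    rw [SurfPtBlow.range_specGen] at h2
    show p₁ (ρ₁ (g₃ c)) = _
    rw [← Scheme.Hom.comp_apply g₃, h31, Set.mem_singleton_iff.1 h2]
    exact (((PrimeSpectrum.le_iff_specializes _ _).1 bot_le).antisymm (genericPoint_specializes _)).eq
  have hflat : Flat p₃ := by
    refine (S10887.result (fun y => ?_) ?_ p₃).2 fun Z hZ => ?_
    · letI : Algebra R ((Spec (CommRingCat.of R)).presheaf.stalk y) := StructureSheaf.stalkAlgebra R y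
      haveI : IsLocalization.AtPrime ((Spec (CommRingCat.of R)).presheaf.stalk y) y.asIdeal :=
        StructureSheaf.IsLocalization.to_stalk R y
      haveI : IsRegularRing R := inferInstance
      exact IsRegularLocalRing.of_ringEquiv (IsLocalization.algEquiv y.asIdeal.primeCompl
        (Localization.AtPrime y.asIdeal) ((Spec (CommRingCat.of R)).presheaf.stalk y)).toRingEquiv
    · exact (PrimeSpectrum.topologicalKrullDim_eq_ringKrullDim R).le.trans
        (IsPrincipalIdealRing.ringKrullDim_eq_one R (IsDiscreteValuationRing.not_isField R)).le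
    · rw [irreducibleComponents_eq_singleton, Set.mem_singleton_iff] at hZ
      subst hZ
      exact (dense_iff_closure_eq.2 (Set.eq_univ_of_forall fun z => (genericPoint_specializes z).mem_closure)).mono
        (Set.singleton_subset_iff.2 ⟨g₃ (genericPoint C), trivial, hgenR _⟩)
  -- rational singularities
  have hdC : topologicalKrullDim C ≤ 1 := (JacLib.topologicalKrullDim_of_smooth f 1).le.trans (by simp)
  have hd₁ : topologicalKrullDim X₁ ≤ 2 := SurfPtBlow.dim_model hg₁ hdC
  have hN₁ : ∀ x : X₁, CAlg.IsNagata (X₁.presheaf.stalk x) := fun x => by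
    obtain ⟨_, ⟨W, hW, rfl⟩, hxW, -⟩ := X₁.isBasis_affineOpens.exists_subset_of_mem_open (Set.mem_univ x) isOpen_univ
    have hWN : CAlg.IsNagata Γ(X₁, W) := S7359.isNagata_of_lft p₁ (fun W' => by
      refine S9833.result (Spec (CommRingCat.of R)) (fun _ : PUnit.{u + 1} => ⊤) iSup_const (fun _ => isAffineOpen_top _) (fun _ => ?_) W'.1 W'.2
      exact NagataLib.isNagata_of_surjective (Scheme.ΓSpecIso (CommRingCat.of R)).inv.hom
        (Scheme.ΓSpecIso (CommRingCat.of R)).symm.commRingCatIsoToRingEquiv.surjective hNR) ⟨W, hW⟩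
    letI : Algebra Γ(X₁, W) (X₁.presheaf.stalk x) := TopCat.Presheaf.algebra_section_stalk X₁.presheaf ⟨x, hxW⟩
    haveI := hW.isLocalization_stalk ⟨x, hxW⟩
    refine NagataLib.isNagata_of_fractions (algebraMap Γ(X₁, W) (X₁.presheaf.stalk x)) hWN fun c => ?_
    obtain ⟨⟨r, u⟩, hru⟩ := IsLocalization.surj (hW.primeIdealOf ⟨x, hxW⟩).asIdeal.primeCompl c
    exact ⟨r, u.1, IsLocalization.map_units (X₁.presheaf.stalk x) u, hru⟩
  have hrat₃ : ∀ x : X₃, IsClosed ({x} : Set X₃) → Curv2.IsRationalSing (X₃.presheaf.stalk x) :=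
    isRationalSing_stalk ρ₁ hd₁ hN₁ hn₁ hnorm hrat₁ U hU
  -- cohomological flatness
  obtain ⟨ϖ, hϖ⟩ := IsDiscreteValuationRing.exists_irreducible R
  have hcf₃ : Function.Surjective (Sheaf.H.map ((SheafOfModules.toSheaf X₃.ringCatSheaf).map
        (ClSub.toSubscheme (Models.specialFibreIdeal R (Over.mk p₃)))) 0) := by
    letI : X₁.Over (Spec (CommRingCat.of R)) := ⟨p₁⟩
    letI : X₃.Over (Spec (CommRingCat.of R)) := ⟨p₃⟩
    haveI : IsProper (X₁ ↘ Spec (CommRingCat.of R)) := ‹IsProper p₁›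
    haveI := hflat
    obtain ⟨-, -, ⟨e⟩⟩ := S15137.result R X₁ C f ⟨‹Flat p₁›, inferInstanceAs (LocallyOfFiniteType p₁),
      inferInstanceAs (QuasiCompact p₁), g₁, hg₁⟩ hn₁ hrat₁ X₃ ρ₁ rfl hnorm ⟨U, hU, ‹IsIso (ρ₁ ∣_ U)›⟩
    refine (CastLib.surjective_H0_fibre_iff p₃ hϖ).2 fun x hx => ?_
    refine e.symm.injective ((CastLib.surjective_H0_fibre_iff p₁ hϖ).1 hcf₁ (e.symm x) ?_ |>.trans (map_zero _).symm)
    rw [← map_smul, hx, map_zero]
  exact ⟨X₃, p₃, g₃, ρ₁, ρ₂, inferInstance, hflat, hpb, hnorm, hcf₃, hrat₃, inferInstance, inferInstance, rfl, h12, h31, h32⟩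

end Groth.Agent.S15139
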