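import Groth.Statements.S1514
import Groth.Agent.PerfMorLib.Koszul

set_option autoImplicit false
universe u
attribute [local instance] HasDerivedCategory.standard
open FlatMor

namespace Groth.Agent.S1514

open AlgebraicGeometry CategoryTheory Limits in
/-- A local complete intersection morphism (affine-locally: lci ring maps) is locally of finite
presentation, pseudo-coherent and perfect. -/
theorem result {X S : Scheme.{u}} (f : X ⟶ S)
    (hf : (∀ (U : X.Opens) (V : S.Opens) (hU : IsAffineOpen U) (hV : IsAffineOpen V) (hUV : U ≤ f ⁻¹ᵁ V),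
        letI := (f.appLE V U hUV).hom.toAlgebra
        LCI.IsLCI Γ(S, V) Γ(X, U))) :
    LocallyOfFinitePresentation f ∧ MoreMor.IsPseudoCoherentMor f ∧ MoreMor.IsPerfectMor f := by
  have key : ∀ (V : S.affineOpens) (U : X.affineOpens) (e : U.1 ≤ f ⁻¹ᵁ V.1),
      Groth.Agent.PerfMorLib.PerfHom (f.appLE V U e).hom := fun V U e =>
    letI := (f.appLE V.1 U.1 e).hom.toAlgebra
    Groth.Agent.PerfMorLib.perfHom_of_isLCI (hf U.1 V.1 U.2 V.2 e)
  refine ⟨?_, ?_, (HasRingHomProperty.iff_appLE (P := Groth.Agent.PerfMorLib.perfectMor)).mpr key⟩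
  · exact (HasRingHomProperty.iff_appLE (P := @LocallyOfFinitePresentation)).mpr fun V U e =>
      Groth.Agent.PerfMorLib.finitePresentation_of_pcHom (key V U e).1
  · exact (HasRingHomProperty.iff_appLE (P := fun {X Y : Scheme.{u}} (f : X ⟶ Y) =>
      MoreMor.IsPseudoCoherentMor f)).mpr fun V U e => (key V U e).1

end Groth.Agent.S1514
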