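import Groth.Statements.S9821
import Groth.Agent.NormalSch.Basic

set_option autoImplicit false
universe u
open CategoryTheory CategoryTheory.Limits AlgebraicGeometry TopologicalSpace Opposite
open Props

namespace Groth.Agent.S9821

/-- An integral scheme is normal if and only if the coordinate ring of every nonempty affine open is an
integrally closed domain. -/
theorem result (X : Scheme.{u}) [IsIntegral X] :
    Pi1.IsNormalScheme X ↔ ∀ (U : X.Opens) [Nonempty U], IsAffineOpen U → IsIntegrallyClosed Γ(X, U) := by
  exact ⟨fun h U _ _ => Groth.Agent.NormalSch.isIntegrallyClosed_section h U,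
    Groth.Agent.NormalSch.isNormalScheme_of_affine⟩

end Groth.Agent.S9821
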