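import Groth.Statements.S15140
import Groth.Agent.ASp.LiftDim
import Groth.Agent.FlatLocus.Scheme
import Groth.Agent.H6CurveCorr
import Groth.Agent.S9821

-- import your own Groth.Agent.* helpers here

set_option autoImplicit false
universe u
open CategoryTheory CategoryTheory.Limits AlgebraicGeometry
open Models

set_option backward.isDefEq.respectTransparency false
set_option backward.isDefEq.respectTransparency.types false
set_option linter.style.haveILetI false

namespace Groth.Agent.S15140

open TopologicalSpace
attribute [local instance 10] specializationOrder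

/-- A finite surjection onto a normal integral scheme from an integral scheme lifts generalisations. -/
theorem isGenLift_finite {A B : Scheme.{u}} (t : A ⟶ B) [IsFinite t] [Surjective t] [IsIntegral A] [IsIntegral B]
    (hn : Pi1.IsNormalScheme B) : ASp.IsGenLift t where
  cont := t.continuous
  eq_of_specializes {a a'} e hs := by
    obtain ⟨V, hV, haV, -⟩ := exists_isAffineOpen_mem_and_subset (X := B) (x := t a) (U := ⊤) trivial
    let U := t ⁻¹ᵁ V
    have hU : IsAffineOpen U := hV.preimage t
    have haU : a ∈ U := haV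
    have ha'U : a' ∈ U := show t a' ∈ V from e ▸ haV
    have hi : (t.appLE V U le_rfl).hom.IsIntegral := by
      rw [Scheme.Hom.appLE_eq_app]
      exact IsIntegralHom.isIntegral_app t V hV
    letI := (t.appLE V U le_rfl).hom.toAlgebra
    haveI : Algebra.IsIntegral Γ(B, V) Γ(A, U) := ⟨hi⟩
    set p := hU.primeIdealOf ⟨a, haU⟩ with hp
    set p' := hU.primeIdealOf ⟨a', ha'U⟩ with hp'
    have hcomap : p'.comap (t.appLE V U le_rfl).hom = p.comap (t.appLE V U le_rfl).hom := by
      rw [hp, hp', IsAffineOpen.comap_primeIdealOf_appLE V hV U hU le_rfl ha'U,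
        IsAffineOpen.comap_primeIdealOf_appLE V hV U hU le_rfl haU]
      exact congrArg _ (Subtype.ext e.symm)
    have hle : p' ⤳ p := by
      refine (hU.fromSpec.isOpenEmbedding.isInducing.specializes_iff).1 ?_
      rw [hp, hp', IsAffineOpen.fromSpec_primeIdealOf, IsAffineOpen.fromSpec_primeIdealOf]
      exact hs
    have hpp : p' = p := by
      rcases ((PrimeSpectrum.le_iff_specializes p' p).2 hle).eq_or_lt with h | h
      · exact h
      · exact absurd (congrArg PrimeSpectrum.asIdeal hcomap)
          (Ideal.IsIntegral.comap_lt_comap (show p'.asIdeal < p.asIdeal from h)).ne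
    have := congrArg hU.fromSpec hpp
    rw [hp, hp', IsAffineOpen.fromSpec_primeIdealOf, IsAffineOpen.fromSpec_primeIdealOf] at this
    exact this.symm
  lift {a b} hb := by
    obtain ⟨V, hV, haV, -⟩ := exists_isAffineOpen_mem_and_subset (X := B) (x := t a) (U := ⊤) trivial
    let U := t ⁻¹ᵁ V
    have hU : IsAffineOpen U := hV.preimage t
    have haU : a ∈ U := haV
    have hbV : b ∈ V := hb.mem_open V.2 haV
    haveI : Nonempty U := ⟨⟨a, haU⟩⟩
    haveI : Nonempty V := ⟨⟨t a, haV⟩⟩
    haveI : IsIntegrallyClosed Γ(B, V) := (S9821.result B).1 hn V hV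
    haveI : IsDominant t := inferInstance
    haveI := IsSchemeTheoreticallyDominant.of_isDominant t
    letI := (t.appLE V U le_rfl).hom.toAlgebra
    have hinj : Function.Injective (t.appLE V U le_rfl).hom := by
      rw [Scheme.Hom.appLE_eq_app]; exact t.app_injective V
    haveI : FaithfulSMul Γ(B, V) Γ(A, U) := (faithfulSMul_iff_algebraMap_injective _ _).2 hinj
    haveI : Algebra.IsIntegral Γ(B, V) Γ(A, U) := ⟨by
      show (t.appLE V U le_rfl).hom.IsIntegral
      rw [Scheme.Hom.appLE_eq_app]
      exact IsIntegralHom.isIntegral_app t V hV⟩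
    have hgm : GeneralizingMap (PrimeSpectrum.comap (algebraMap Γ(B, V) Γ(A, U))) :=
      Algebra.HasGoingDown.iff_generalizingMap_primeSpectrumComap.1 inferInstance
    have hpb : hV.primeIdealOf ⟨b, hbV⟩ ⤳ PrimeSpectrum.comap (t.appLE V U le_rfl).hom (hU.primeIdealOf ⟨a, haU⟩) := by
      refine (hV.fromSpec.isOpenEmbedding.isInducing.specializes_iff).1 ?_
      rw [IsAffineOpen.comap_primeIdealOf_appLE V hV U hU le_rfl haU, IsAffineOpen.fromSpec_primeIdealOf,
        IsAffineOpen.fromSpec_primeIdealOf]
      exact hb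
    obtain ⟨q, hq, hqe⟩ := hgm hpb
    refine ⟨hU.fromSpec q, ?_, ?_⟩
    · have h := hq.map hU.fromSpec.continuous
      rwa [IsAffineOpen.fromSpec_primeIdealOf] at h
    · rw [← Scheme.Hom.comp_apply, ← hV.SpecMap_appLE_fromSpec t hU le_rfl, Scheme.Hom.comp_apply]
      exact (congrArg hV.fromSpec hqe).trans (hV.fromSpec_primeIdealOf ⟨b, hbV⟩)



/-- Let R be a discrete valuation ring whose fraction field has characteristic zero and let X and Y be
relative curves over R: flat, of finite type and separated over Spec R, normal and integral, of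
dimension two (pure relative dimension one; properness is not assumed). Let f : X → Y be a finite
surjective morphism over R. Then there is an open subset V ⊆ Y such that the complement of V in Y
and the complement of f⁻¹(V) in X are finite sets of points at which the local rings have Krull
dimension two (closed points of the closed fibres), and f is flat over V. -/
theorem result (R : Type u) [CommRing R] [IsDomain R]
    [IsDiscreteValuationRing R] [CharZero (FractionRing R)]
    (X Y : Scheme.{u}) (pX : X ⟶ Spec (CommRingCat.of R)) (pY : Y ⟶ Spec (CommRingCat.of R))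
    [Flat pX] [LocallyOfFiniteType pX] [QuasiCompact pX] [IsSeparated pX]
    [Flat pY] [LocallyOfFiniteType pY] [QuasiCompact pY] [IsSeparated pY]
    [IsIntegral X] [IsIntegral Y] (hnX : Pi1.IsNormalScheme X) (hnY : Pi1.IsNormalScheme Y)
    (hdX : topologicalKrullDim X = 2) (hdY : topologicalKrullDim Y = 2)
    (f : X ⟶ Y) [IsFinite f] [Surjective f] (hf : f ≫ pY = pX) :
    ∃ V : Y.Opens, ((V : Set Y)ᶜ).Finite ∧ (∀ y : Y, y ∉ V → ringKrullDim (Y.presheaf.stalk y) = 2) ∧
      (((f ⁻¹ᵁ V : X.Opens) : Set X)ᶜ).Finite ∧ (∀ x : X, x ∉ f ⁻¹ᵁ V → ringKrullDim (X.presheaf.stalk x) = 2) ∧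
      Flat (f ∣_ V) := by
  haveI : IsLocallyNoetherian Y := LocallyOfFiniteType.isLocallyNoetherian pY
  haveI : IsLocallyNoetherian X := LocallyOfFiniteType.isLocallyNoetherian pX
  haveI : CompactSpace Y := QuasiCompact.compactSpace_of_compactSpace pY
  haveI : CompactSpace X := QuasiCompact.compactSpace_of_compactSpace pX
  haveI : IsNoetherian Y := ⟨⟩
  haveI : IsNoetherian X := ⟨⟩
  haveI : LocallyOfFinitePresentation f := inferInstance
  have hgl := isGenLift_finite f hnY
  -- bad points
  let B : Set X := {x | ¬ (f.stalkMap x).hom.Flat}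
  have hBc : IsClosed B := by
    rw [← isOpen_compl_iff]
    convert FlatLocus.isOpen_flat_stalkMap f using 1
    ext x; simp [B]
  have h2 : ∀ x ∈ B, (2 : WithBot ℕ∞) ≤ ringKrullDim (Y.presheaf.stalk (f x)) := by
    intro x hx
    by_contra hd
    refine hx ?_
    have h1 : ringKrullDim (Y.presheaf.stalk (f x)) < 2 := lt_of_not_ge hd
    haveI : Ring.KrullDimLE 1 (Y.presheaf.stalk (f x)) := by
      rw [Ring.krullDimLE_iff]
      revert h1
      induction ringKrullDim (Y.presheaf.stalk (f x)) with
      | bot => exact fun _ => bot_le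
      | coe a =>
        intro h1
        have h2 : a < ((2 : ℕ) : ℕ∞) := WithBot.coe_lt_coe.1 h1
        obtain ⟨m, rfl⟩ := ENat.ne_top_iff_exists.1 (ne_top_of_lt h2)
        have h3 : m < 2 := by exact_mod_cast h2
        exact_mod_cast (show m ≤ 1 by omega)
    haveI := (hnY (f x)).1
    haveI := (hnY (f x)).2
    haveI : Ring.DimensionLEOne (Y.presheaf.stalk (f x)) :=
      ⟨fun {p} hp hpp => Ring.krullDimLE_one_iff_of_noZeroDivisors.1 inferInstance p hp hpp⟩
    haveI : IsDedekindDomain (Y.presheaf.stalk (f x)) := { }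
    haveI : IsSchemeTheoreticallyDominant f := IsSchemeTheoreticallyDominant.of_isDominant f
    letI := (f.stalkMap x).hom.toAlgebra
    have hinj : Function.Injective (f.stalkMap x).hom := by
      rw [injective_iff_map_eq_zero]
      intro z hz
      obtain ⟨W, hxW, z, rfl⟩ := TopCat.Presheaf.exists_germ_eq Y.presheaf z
      change f.stalkMap x (Y.presheaf.germ W (f x) hxW z) = 0 at hz
      rw [Scheme.Hom.germ_stalkMap_apply] at hz
      haveI : Nonempty (f ⁻¹ᵁ W) := ⟨⟨x, hxW⟩⟩
      have h0 : f.app W z = 0 :=
        germ_injective_of_isIntegral X x (U := f ⁻¹ᵁ W) hxW (hz.trans (map_zero _).symm)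
      rw [show z = 0 from f.app_injective W (h0.trans (map_zero _).symm), map_zero]
    haveI : Module.IsTorsionFree (Y.presheaf.stalk (f x)) (X.presheaf.stalk x) :=
      Module.isTorsionFree_iff_algebraMap_injective.2 hinj
    exact (inferInstance : Module.Flat (Y.presheaf.stalk (f x)) (X.presheaf.stalk x))
  have hC : IsClosed (f '' B) := f.isClosedMap _ hBc
  have hle : ∀ y : Y, ringKrullDim (Y.presheaf.stalk y) ≤ 2 := fun y => by
    rw [ringKrullDim_stalk_eq_coheight, ← hdY, ASp.topologicalKrullDim_eq_krullDim]
    exact Order.coheight_le_krullDim y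
  have hC2 : ∀ y ∈ f '' B, ringKrullDim (Y.presheaf.stalk y) = 2 := by
    rintro y ⟨x, hx, rfl⟩
    exact le_antisymm (hle _) (h2 x hx)
  have hCfin : (f '' B).Finite := by
    refine H6CurveCorr.finite_of_isClosed_points hC fun y hy => ?_
    refine isClosed_of_closure_subset fun z hz => ?_
    have hs : y ⤳ z := specializes_iff_mem_closure.2 hz
    by_contra hne
    have hlt : z < y := lt_of_le_of_ne (show y ⤳ z from hs) hne
    have e1 := hC2 y hy
    have e2 := hC2 z (hs.mem_closed hC hy)
    rw [ringKrullDim_stalk_eq_coheight] at e1 e2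
    have e3 : Order.coheight y = 2 := WithBot.coe_injective e1
    have e4 : Order.coheight z = 2 := WithBot.coe_injective e2
    have := Order.coheight_add_one_le hlt
    rw [e3, e4] at this
    exact absurd (ENat.coe_le_coe.1 (show ((3 : ℕ) : ℕ∞) ≤ ((2 : ℕ) : ℕ∞) from this)) (by omega)
  let V : Y.Opens := ⟨(f '' B)ᶜ, hC.isOpen_compl⟩
  have hVc : ((V : Set Y))ᶜ = f '' B := compl_compl _
  refine ⟨V, hVc ▸ hCfin, fun y hy => hC2 y (not_not.1 hy), ?_, fun x hx => ?_, ?_⟩
  · have : (((f ⁻¹ᵁ V : X.Opens) : Set X))ᶜ = f ⁻¹' (f '' B) := by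
      ext x; simp [V]
    rw [this]
    exact hCfin.preimage' fun y _ => f.finite_preimage_singleton y
  · rw [ringKrullDim_stalk_eq_coheight, ← hgl.coheight_eq, ← ringKrullDim_stalk_eq_coheight]
    exact hC2 _ (not_not.1 hx)
  · rw [Flat.iff_flat_stalkMap]
    intro x
    haveI : (RingHom.toMorphismProperty fun {R S} [CommRing R] [CommRing S] f => RingHom.Flat f).RespectsIso :=
      RingHom.toMorphismProperty_respectsIso_iff.mp RingHom.Flat.respectsIso
    refine ((RingHom.toMorphismProperty fun {R S} [CommRing R] [CommRing S] f => RingHom.Flat f).arrow_mk_iso_iff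
      (morphismRestrictStalkMap f V x)).2 ?_
    by_contra h
    exact x.2 ⟨x.1, h, rfl⟩


end Groth.Agent.S15140
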