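import Groth.Statements.S15141
import Groth.Agent.S15139
import Groth.Agent.RGBlowLib.FinFlat
import Groth.Agent.RGBlowLib.Killed
import Groth.Agent.RGBlowLib.Extend
import Groth.Agent.RGBlowLib.Union.Basic

set_option autoImplicit false
universe u
open CategoryTheory CategoryTheory.Limits AlgebraicGeometry Opposite
open Models

namespace Groth.Agent.S15141

set_option backward.isDefEq.respectTransparency false
set_option maxHeartbeats 1600000
set_option synthInstance.maxHeartbeats 200000
open TopologicalSpace Groth.Agent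

/-- The normalised closure of the generic fibre in a proper scheme over a model. -/
theorem exists_normal_image {R : Type u} [CommRing R] [IsDomain R] [IsDiscreteValuationRing R] (hNR : CAlg.IsNagata R)
    {C X P : Scheme.{u}} {f : C ⟶ Spec (CommRingCat.of (FractionRing R))} {p : X ⟶ Spec (CommRingCat.of R)}
    {g : C ⟶ X} (hg : IsPullback g f p (Spec.map (CommRingCat.ofHom (algebraMap R (FractionRing R)))))
    [IsProper p] [IsIntegral C] [IsIntegral X] (hn : Pi1.IsNormalScheme X) (π₀ : P ⟶ X) [IsProper π₀]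
    (tC : C ⟶ P) (htC : tC ≫ π₀ = g) :
    ∃ (X₃ : Scheme.{u}) (μ : X₃ ⟶ P) (g₃ : C ⟶ X₃), IsFinite μ ∧ IsIntegral X₃ ∧ Pi1.IsNormalScheme X₃ ∧
      g₃ ≫ μ = tC ∧ (∃ U : X.Opens, (U : Set X).Nonempty ∧ IsIso ((μ ≫ π₀) ∣_ U)) ∧
      IsPullback g₃ f ((μ ≫ π₀) ≫ p) (Spec.map (CommRingCat.ofHom (algebraMap R (FractionRing R)))) ∧
      Flat ((μ ≫ π₀) ≫ p) := by
  haveI : IsLocallyNoetherian X := LocallyOfFiniteType.isLocallyNoetherian p
  haveI : CompactSpace X := QuasiCompact.compactSpace_of_compactSpace p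
  haveI : IsNoetherian X := ⟨⟩
  haveI := SurfPtBlow.isOpenImmersion_gen hg
  let U : X.Opens := g.opensRange
  let t : (U : Scheme.{u}) ⟶ P := g.isoOpensRange.inv ≫ tC
  have ht : t ≫ π₀ = U.ι := by
    simp only [t, Category.assoc, htC]
    exact Scheme.Hom.isoOpensRange_inv_comp g
  haveI : CompactSpace (U : Scheme.{u}) := isCompact_iff_compactSpace.1 (NoetherianSpace.isCompact (U : Set X))
  haveI : QuasiSeparatedSpace P := quasiSeparatedSpace_of_quasiSeparated π₀
  haveI : QuasiCompact t := quasiCompact_of_compactSpace t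
  haveI : QuasiCompact U.ι := quasiCompact_of_compactSpace _
  haveI hiT : IsIso ((t.imageι ≫ π₀) ∣_ U) := RGBlowLib.isIso_image_restrict π₀ U t ht
  haveI : Nonempty (U : Scheme.{u}) := ⟨⟨g (genericPoint C), _, rfl⟩⟩
  haveI : IsIntegral (U : Scheme.{u}) := isIntegral_of_isOpenImmersion U.ι
  haveI : IsIntegral t.image := ProperFin.isIntegral_image t
  let π : t.image ⟶ X := t.imageι ≫ π₀
  haveI : IsProper π := inferInstanceAs (IsProper (t.imageι ≫ π₀))
  haveI : IsIso (π ∣_ U) := hiT
  haveI : IsNoetherian t.image := RGBlowLib.Union.isNoetherian_of_ft (π ≫ p)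
  haveI : QuasiCompact (t.image.fromSpecStalk (genericPoint t.image)) := quasiCompact_of_compactSpace _
  haveI : QuasiSeparated (t.image.fromSpecStalk (genericPoint t.image)) := inferInstance
  have hZ : ∀ V : t.image.affineOpens, CAlg.IsNagata Γ(t.image, V.1) := S7359.isNagata_of_lft (π ≫ p) fun W => by
      refine S9833.result (Spec (CommRingCat.of R)) (fun _ : PUnit.{u + 1} => ⊤) iSup_const (fun _ => isAffineOpen_top _) (fun _ => ?_) W.1 W.2
      exact NagataLib.isNagata_of_surjective (Scheme.ΓSpecIso (CommRingCat.of R)).inv.hom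
        (Scheme.ΓSpecIso (CommRingCat.of R)).symm.commRingCatIsoToRingEquiv.surjective hNR
  haveI : IsFinite (Curv2.normalizationι t.image) := S9688.result t.image fun V hV hne => by
    haveI : Nonempty (V : Scheme.{u}) := hne
    haveI := IsIntegral.component_integral (X := t.image) V
    obtain ⟨hnoeth, hN2⟩ := hZ ⟨V, hV⟩
    exact NagataCompleteLib.isN2_of_ringEquiv (RingEquiv.quotientBot Γ(t.image, V)) (hN2 ⊥)
  obtain ⟨hint, hnorm, -, -⟩ := S2351.result t.image
  haveI := hint
  let X₃ := Curv2.normalization t.image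
  let ν : X₃ ⟶ t.image := Curv2.normalizationι t.image
  let ρ : X₃ ⟶ X := ν ≫ π
  haveI : IsProper ρ := inferInstanceAs (IsProper (ν ≫ π))
  have hU : (U : Set X).Nonempty := ⟨g (genericPoint C), _, rfl⟩
  let O : t.image.Opens := π ⁻¹ᵁ U
  haveI : IsIso (ν ∣_ O) := by
    obtain ⟨W, hW, hWiso⟩ := BMCohLib.exists_isIso_normalization (Z := t.image)
    haveI := hWiso
    haveI : Nonempty (O : Scheme.{u}) := Nonempty.map (inv (π ∣_ U)) inferInstance
    haveI : IsIntegral (O : Scheme.{u}) := isIntegral_of_isOpenImmersion O.ι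
    have hOn : Pi1.IsNormalScheme (O : Scheme.{u}) := fun z => by
      obtain ⟨h1, h2⟩ := hn (U.ι ((π ∣_ U) z))
      haveI := h1
      haveI := h2
      let e := ((asIso (U.ι.stalkMap ((π ∣_ U) z))) ≪≫ (asIso ((π ∣_ U).stalkMap z))).commRingCatIsoToRingEquiv
      exact ⟨e.toMulEquiv.symm.isDomain _, IsIntegrallyClosed.of_equiv e⟩
    obtain ⟨hgenν, hstν⟩ := BirQFLib.birational_of_isIso_restrict ν W ⟨_, hW⟩ hWiso
    haveI : Nonempty (ν ⁻¹ᵁ O : X₃.Opens) := ⟨⟨genericPoint X₃, show ν (genericPoint X₃) ∈ O from hgenν.symm ▸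
      (genericPoint_specializes _).mem_open O.2 (Classical.arbitrary (O : Scheme.{u})).2⟩⟩
    haveI : IsIntegral ((ν ⁻¹ᵁ O : X₃.Opens) : Scheme.{u}) := isIntegral_of_isOpenImmersion (ν ⁻¹ᵁ O).ι
    let W' : (O : Scheme.{u}).Opens := O.ι ⁻¹ᵁ W
    have hW' : (W' : Set (O : Scheme.{u})).Nonempty :=
      ⟨⟨genericPoint t.image, (genericPoint_specializes _).mem_open O.2 (Classical.arbitrary (O : Scheme.{u})).2⟩, hW⟩
    haveI : IsIso ((ν ∣_ O) ∣_ W') := by
      haveI : IsIso (ν ∣_ (O.ι ''ᵁ W')) := by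
        refine BMCohLib.isIso_restrict_le ν (U := W) ?_
        rw [Scheme.Hom.image_preimage_eq_opensRange_inf, Scheme.Opens.opensRange_ι]
        exact inf_le_right
      exact ((MorphismProperty.isomorphisms Scheme).arrow_mk_iso_iff (morphismRestrictRestrict ν O W')).2
        (MorphismProperty.isomorphisms.infer_property _)
    obtain ⟨hgen', hst'⟩ := BirQFLib.birational_of_isIso_restrict (ν ∣_ O) W' hW' inferInstance
    exact NormalSch.isIso_of_integral_birational hOn (ν ∣_ O) hgen'
      (ConcreteCategory.bijective_of_isIso ((ν ∣_ O).stalkMap _)).2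
  haveI : IsIso (ρ ∣_ U) := by
    show IsIso ((ν ≫ π) ∣_ U)
    rw [morphismRestrict_comp]
    exact inferInstanceAs (IsIso ((ν ∣_ O) ≫ (π ∣_ U)))
  let g₃ : C ⟶ X₃ := g.isoOpensRange.hom ≫ inv (ρ ∣_ U) ≫ (ρ ⁻¹ᵁ U).ι
  have h31 : g₃ ≫ ρ = g := by
    simp only [g₃, Category.assoc, ← morphismRestrict_ι, IsIso.inv_hom_id_assoc]
    exact Scheme.Hom.isoOpensRange_hom_ι g
  have hti : g₃ ≫ ν ≫ t.imageι = tC := by
    have h : g₃ ≫ ν = g.isoOpensRange.hom ≫ t.toImage := by
      refine TraceH1Lib.hom_ext_of_isIso π U _ _ (fun c => ?_) ?_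
      · show π (ν (g₃ c)) ∈ U
        rw [← Scheme.Hom.comp_apply, ← Scheme.Hom.comp_apply, Category.assoc]
        exact ⟨c, (congrArg (fun φ : C ⟶ X => φ c) h31).symm⟩
      · rw [Category.assoc, Category.assoc]
        refine h31.trans ?_
        show g = _ ≫ t.toImage ≫ t.imageι ≫ π₀
        rw [Scheme.Hom.toImage_imageι_assoc, ht]
        exact (Scheme.Hom.isoOpensRange_hom_ι g).symm
    rw [← Category.assoc, h, Category.assoc, Scheme.Hom.toImage_imageι]
    simp [t]
  let p₃ : X₃ ⟶ Spec (CommRingCat.of R) := ρ ≫ p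
  have hpb : IsPullback g₃ f p₃ (Spec.map (CommRingCat.ofHom (algebraMap R (FractionRing R)))) := by
    have hsq : IsPullback g₃ (𝟙 C) ρ g := by
      refine IsPullback.of_iso (isPullback_morphismRestrict ρ U).flip
        (asIso (ρ ∣_ U) ≪≫ g.isoOpensRange.symm) (Iso.refl _) g.isoOpensRange.symm (Iso.refl _) ?_ ?_ ?_ ?_
      · simp [g₃]
      · simp
      · simp
      · simp [U]
    have := hsq.paste_vert hg
    rwa [Category.id_comp] at this
  have hgenR : ∀ c : C, p₃ (g₃ c) = genericPoint (Spec (CommRingCat.of R)) := fun c => by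
    have h2 : p (g c) ∈ Set.range (Spec.map (CommRingCat.ofHom (algebraMap R (FractionRing R)))) :=
      ⟨f c, by rw [← Scheme.Hom.comp_apply, ← hg.w, Scheme.Hom.comp_apply]⟩
    rw [SurfPtBlow.range_specGen] at h2
    show p (ρ (g₃ c)) = _
    rw [← Scheme.Hom.comp_apply g₃, h31, Set.mem_singleton_iff.1 h2]
    exact (((PrimeSpectrum.le_iff_specializes _ _).1 bot_le).antisymm (genericPoint_specializes _)).eq
  have hflat : Flat p₃ := by
    refine (S10887.result (fun y => ?_) ?_ p₃).2 fun Z hZ => ?_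
    · letI : Algebra R ((Spec (CommRingCat.of R)).presheaf.stalk y) := StructureSheaf.stalkAlgebra R y
      haveI : IsLocalization.AtPrime ((Spec (CommRingCat.of R)).presheaf.stalk y) y.asIdeal :=
        StructureSheaf.IsLocalization.to_stalk R y
      haveI : IsRegularRing R := inferInstance
      exact IsRegularLocalRing.of_ringEquiv (IsLocalization.algEquiv y.asIdeal.primeCompl
        (Localization.AtPrime y.asIdeal) ((Spec (CommRingCat.of R)).presheaf.stalk y)).toRingEquiv
    · exact (PrimeSpectrum.topologicalKrullDim_eq_ringKrullDim R).le.trans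
        (IsPrincipalIdealRing.ringKrullDim_eq_one R (IsDiscreteValuationRing.not_isField R)).le
    · rw [irreducibleComponents_eq_singleton, Set.mem_singleton_iff] at hZ
      subst hZ
      exact (dense_iff_closure_eq.2 (Set.eq_univ_of_forall fun z => (genericPoint_specializes z).mem_closure)).mono
        (Set.singleton_subset_iff.2 ⟨g₃ (genericPoint C), trivial, hgenR _⟩)
  have e : ν ≫ t.imageι ≫ π₀ = ρ := rfl
  refine ⟨X₃, ν ≫ t.imageι, g₃, MorphismProperty.comp_mem (W := @IsFinite) _ _ inferInstance inferInstance,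
    hint, hnorm, hti, ⟨U, hU, ?_⟩, ?_, ?_⟩
  · rw [Category.assoc, e]; infer_instance
  · rw [Category.assoc ν, e]; exact hpb
  · rw [Category.assoc ν, e]; exact hflat

/-- Normal modifications of admissible models are admissible. -/
theorem admissible_of_modification {R : Type u} [CommRing R] [IsDomain R] [IsDiscreteValuationRing R]
    [CharZero (FractionRing R)] (hNR : CAlg.IsNagata R) {X C : Scheme.{u}}
    {f : C ⟶ Spec (CommRingCat.of (FractionRing R))} [SmoothOfRelativeDimension 1 f] [IsProper f] [GeometricallyConnected f]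
    [IsIntegral C] {p : X ⟶ Spec (CommRingCat.of R)} [IsProper p] [Flat p] {g : C ⟶ X}
    (hg : IsPullback g f p (Spec.map (CommRingCat.ofHom (algebraMap R (FractionRing R)))))
    [IsIntegral X] (hn : Pi1.IsNormalScheme X)
    (hcf : Function.Surjective (Sheaf.H.map ((SheafOfModules.toSheaf X.ringCatSheaf).map
        (ClSub.toSubscheme (Models.specialFibreIdeal R (Over.mk p)))) 0))
    (hrat : ∀ x : X, IsClosed ({x} : Set X) → Curv2.IsRationalSing (X.presheaf.stalk x))
    {X₃ : Scheme.{u}} (ρ : X₃ ⟶ X) [IsProper ρ] [IsIntegral X₃] (hnorm : Pi1.IsNormalScheme X₃)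
    (hbir : ∃ U : X.Opens, (U : Set X).Nonempty ∧ IsIso (ρ ∣_ U)) (p₃ : X₃ ⟶ Spec (CommRingCat.of R)) (hp₃ : ρ ≫ p = p₃) :
    Function.Surjective (Sheaf.H.map ((SheafOfModules.toSheaf X₃.ringCatSheaf).map
        (ClSub.toSubscheme (Models.specialFibreIdeal R (Over.mk p₃)))) 0) ∧
      ∀ x : X₃, IsClosed ({x} : Set X₃) → Curv2.IsRationalSing (X₃.presheaf.stalk x) := by
  obtain ⟨U, hU, hUi⟩ := hbir
  haveI := hUi
  subst hp₃
  haveI : IsLocallyNoetherian X := LocallyOfFiniteType.isLocallyNoetherian p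
  haveI : CompactSpace X := QuasiCompact.compactSpace_of_compactSpace p
  haveI : IsNoetherian X := ⟨⟩
  haveI : X.IsSeparated := ⟨by rw [← Limits.terminal.comp_from p]; infer_instance⟩
  haveI : IsLocallyNoetherian X₃ := LocallyOfFiniteType.isLocallyNoetherian (ρ ≫ p)
  haveI : CompactSpace X₃ := QuasiCompact.compactSpace_of_compactSpace (ρ ≫ p)
  haveI : IsNoetherian X₃ := ⟨⟩
  haveI : X₃.IsSeparated := ⟨by rw [← Limits.terminal.comp_from (ρ ≫ p)]; infer_instance⟩
  have hdC : topologicalKrullDim C ≤ 1 := (JacLib.topologicalKrullDim_of_smooth f 1).le.trans (by simp)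
  have hd : topologicalKrullDim X ≤ 2 := SurfPtBlow.dim_model hg hdC
  have hN : ∀ x : X, CAlg.IsNagata (X.presheaf.stalk x) := fun x => by
    obtain ⟨_, ⟨W, hW, rfl⟩, hxW, -⟩ := X.isBasis_affineOpens.exists_subset_of_mem_open (Set.mem_univ x) isOpen_univ
    have hWN : CAlg.IsNagata Γ(X, W) := S7359.isNagata_of_lft p (fun W' => by
      refine S9833.result (Spec (CommRingCat.of R)) (fun _ : PUnit.{u + 1} => ⊤) iSup_const (fun _ => isAffineOpen_top _) (fun _ => ?_) W'.1 W'.2
      exact NagataLib.isNagata_of_surjective (Scheme.ΓSpecIso (CommRingCat.of R)).inv.hom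
        (Scheme.ΓSpecIso (CommRingCat.of R)).symm.commRingCatIsoToRingEquiv.surjective hNR) ⟨W, hW⟩
    letI : Algebra Γ(X, W) (X.presheaf.stalk x) := TopCat.Presheaf.algebra_section_stalk X.presheaf ⟨x, hxW⟩
    haveI := hW.isLocalization_stalk ⟨x, hxW⟩
    refine NagataLib.isNagata_of_fractions (algebraMap Γ(X, W) (X.presheaf.stalk x)) hWN fun c => ?_
    obtain ⟨⟨r, u⟩, hru⟩ := IsLocalization.surj (hW.primeIdealOf ⟨x, hxW⟩).asIdeal.primeCompl c
    exact ⟨r, u.1, IsLocalization.map_units (X.presheaf.stalk x) u, hru⟩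
  refine ⟨?_, S15139.isRationalSing_stalk ρ hd hN hn hnorm hrat U hU⟩
  obtain ⟨ϖ, hϖ⟩ := IsDiscreteValuationRing.exists_irreducible R
  letI : X.Over (Spec (CommRingCat.of R)) := ⟨p⟩
  letI : X₃.Over (Spec (CommRingCat.of R)) := ⟨ρ ≫ p⟩
  haveI : IsProper (X ↘ Spec (CommRingCat.of R)) := ‹IsProper p›
  obtain ⟨-, -, ⟨e⟩⟩ := S15137.result R X C f ⟨‹Flat p›, inferInstanceAs (LocallyOfFiniteType p),
    inferInstanceAs (QuasiCompact p), g, hg⟩ hn hrat X₃ ρ rfl hnorm ⟨U, hU, hUi⟩
  haveI : Flat (ρ ≫ p) := by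
    obtain ⟨hgenρ, -⟩ := BirQFLib.birational_of_isIso_restrict ρ U hU hUi
    refine (S10887.result (fun y => ?_) ?_ (ρ ≫ p)).2 fun Z hZ => ?_
    · letI : Algebra R ((Spec (CommRingCat.of R)).presheaf.stalk y) := StructureSheaf.stalkAlgebra R y
      haveI : IsLocalization.AtPrime ((Spec (CommRingCat.of R)).presheaf.stalk y) y.asIdeal :=
        StructureSheaf.IsLocalization.to_stalk R y
      haveI : IsRegularRing R := inferInstance
      exact IsRegularLocalRing.of_ringEquiv (IsLocalization.algEquiv y.asIdeal.primeCompl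
        (Localization.AtPrime y.asIdeal) ((Spec (CommRingCat.of R)).presheaf.stalk y)).toRingEquiv
    · exact (PrimeSpectrum.topologicalKrullDim_eq_ringKrullDim R).le.trans
        (IsPrincipalIdealRing.ringKrullDim_eq_one R (IsDiscreteValuationRing.not_isField R)).le
    · rw [irreducibleComponents_eq_singleton, Set.mem_singleton_iff] at hZ
      subst hZ
      refine (dense_iff_closure_eq.2 (Set.eq_univ_of_forall fun z => (genericPoint_specializes z).mem_closure)).mono
        (Set.singleton_subset_iff.2 ⟨genericPoint X₃, trivial, ?_⟩)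
      show p (ρ (genericPoint X₃)) = _
      rw [hgenρ]
      have hη : p (g (genericPoint C)) = genericPoint (Spec (CommRingCat.of R)) := by
        have h2 : p (g (genericPoint C)) ∈ Set.range (Spec.map (CommRingCat.ofHom (algebraMap R (FractionRing R)))) :=
          ⟨f (genericPoint C), by rw [← Scheme.Hom.comp_apply, ← hg.w, Scheme.Hom.comp_apply]⟩
        rw [SurfPtBlow.range_specGen] at h2
        rw [Set.mem_singleton_iff.1 h2]
        exact (((PrimeSpectrum.le_iff_specializes _ _).1 bot_le).antisymm (genericPoint_specializes _)).eq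
      have h3 : p (genericPoint X) ⤳ genericPoint (Spec (CommRingCat.of R)) :=
        hη ▸ (genericPoint_specializes (g (genericPoint C))).map p.continuous
      exact (h3.antisymm (genericPoint_specializes _)).eq
  refine (CastLib.surjective_H0_fibre_iff (ρ ≫ p) hϖ).2 fun x hx => ?_
  refine e.symm.injective ((CastLib.surjective_H0_fibre_iff p hϖ).1 hcf (e.symm x) ?_ |>.trans (map_zero _).symm)
  rw [← map_smul, hx, map_zero]

/-- Let R be a discrete valuation ring whose fraction field K has characteristic zero, let C and D be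
proper K-curves, smooth of relative dimension 1 and geometrically connected, and let f_K : C → D be
a finite K-morphism. An admissible model of C is a scheme X with a proper flat morphism p : X → Spec
R and a morphism g : C → X making C the generic fibre of p, with X normal, cohomologically flat over
R in dimension 0 (the restriction H^0(X, O_X) → H^0(X_s, O_{X_s}) to the closed fibre, cut out by
𝔪_R · O_X, is surjective) and with rational singularities (the local ring at every closed point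
defines a rational singularity: every proper morphism onto its spectrum from an integral normal
scheme which is an isomorphism over a nonempty open has H^1 of the structure sheaf zero); likewise
for D. Suppose (X, p, g) and (Y, q, h) are admissible models of C and D. Then there are admissible
models (X', p', g') of C and (Y', q', h') of D, proper R-morphisms ρ : X' → X and σ : Y' → Y with g'
≫ ρ = g and h' ≫ σ = h (so X' dominates X and Y' dominates Y), and a finite R-morphism f' : X' → Y'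
with g' ≫ f' = f_K ≫ h', i.e. f' restricts to f_K on generic fibres. -/
theorem result (R : Type u) [CommRing R]
    [IsDomain R] [IsDiscreteValuationRing R] [CharZero (FractionRing R)]
    (C D : Scheme.{u}) (fC : C ⟶ Spec (CommRingCat.of (FractionRing R))) (fD : D ⟶ Spec (CommRingCat.of (FractionRing R)))
    [SmoothOfRelativeDimension 1 fC] [IsProper fC] [GeometricallyConnected fC]
    [SmoothOfRelativeDimension 1 fD] [IsProper fD] [GeometricallyConnected fD]
    (fK : C ⟶ D) [IsFinite fK] (hfK : fK ≫ fD = fC)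
    (X Y : Scheme.{u}) (p : X ⟶ Spec (CommRingCat.of R)) (q : Y ⟶ Spec (CommRingCat.of R)) [IsProper p] [Flat p] [IsProper q] [Flat q]
    (g : C ⟶ X) (h : D ⟶ Y)
    (hg : IsPullback g fC p (Spec.map (CommRingCat.ofHom (algebraMap R (FractionRing R))))) (hh : IsPullback h fD q (Spec.map (CommRingCat.ofHom (algebraMap R (FractionRing R)))))
    (hnX : Pi1.IsNormalScheme X) (hnY : Pi1.IsNormalScheme Y)
    (hcfX : Function.Surjective (Sheaf.H.map ((SheafOfModules.toSheaf X.ringCatSheaf).map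
        (ClSub.toSubscheme (Models.specialFibreIdeal R (Over.mk p)))) 0))
    (hcfY : Function.Surjective (Sheaf.H.map ((SheafOfModules.toSheaf Y.ringCatSheaf).map
        (ClSub.toSubscheme (Models.specialFibreIdeal R (Over.mk q)))) 0))
    (hratX : ∀ x : X, IsClosed ({x} : Set X) → Curv2.IsRationalSing (X.presheaf.stalk x))
    (hratY : ∀ y : Y, IsClosed ({y} : Set Y) → Curv2.IsRationalSing (Y.presheaf.stalk y)) :
    ∃ (X' Y' : Scheme.{u}) (p' : X' ⟶ Spec (CommRingCat.of R)) (q' : Y' ⟶ Spec (CommRingCat.of R)) (g' : C ⟶ X') (h' : D ⟶ Y')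
      (ρ : X' ⟶ X) (σ : Y' ⟶ Y) (f' : X' ⟶ Y'),
      (IsProper p' ∧ Flat p' ∧ IsPullback g' fC p' (Spec.map (CommRingCat.ofHom (algebraMap R (FractionRing R)))) ∧ Pi1.IsNormalScheme X' ∧
        Function.Surjective (Sheaf.H.map ((SheafOfModules.toSheaf X'.ringCatSheaf).map
        (ClSub.toSubscheme (Models.specialFibreIdeal R (Over.mk p')))) 0) ∧
        (∀ x : X', IsClosed ({x} : Set X') → Curv2.IsRationalSing (X'.presheaf.stalk x))) ∧
      (IsProper q' ∧ Flat q' ∧ IsPullback h' fD q' (Spec.map (CommRingCat.ofHom (algebraMap R (FractionRing R)))) ∧ Pi1.IsNormalScheme Y' ∧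
        Function.Surjective (Sheaf.H.map ((SheafOfModules.toSheaf Y'.ringCatSheaf).map
        (ClSub.toSubscheme (Models.specialFibreIdeal R (Over.mk q')))) 0) ∧
        (∀ x : Y', IsClosed ({x} : Set Y') → Curv2.IsRationalSing (Y'.presheaf.stalk x))) ∧
      IsProper ρ ∧ IsProper σ ∧ ρ ≫ p = p' ∧ σ ≫ q = q' ∧ g' ≫ ρ = g ∧ h' ≫ σ = h ∧
      IsFinite f' ∧ f' ≫ q' = p' ∧ g' ≫ f' = fK ≫ h' := by
  haveI : Smooth fC := SmoothOfRelativeDimension.smooth 1 fC
  haveI : Smooth fD := SmoothOfRelativeDimension.smooth 1 fD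
  haveI : ConnectedSpace C := GeometricallyConnected.connectedSpace_of_subsingleton (f := fC)
  haveI : ConnectedSpace D := GeometricallyConnected.connectedSpace_of_subsingleton (f := fD)
  haveI : IsIntegral C := SmoothWeil.isIntegral_of_smooth_connected fC
  haveI : IsIntegral D := SmoothWeil.isIntegral_of_smooth_connected fD
  haveI : IsIntegral X := S15139.isIntegral_of_generic hg hnX
  haveI : IsIntegral Y := S15139.isIntegral_of_generic hh hnY
  haveI : IsLocallyNoetherian Y := LocallyOfFiniteType.isLocallyNoetherian q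
  haveI : CompactSpace Y := QuasiCompact.compactSpace_of_compactSpace q
  haveI : IsNoetherian Y := ⟨⟩
  haveI : IsLocallyNoetherian D := LocallyOfFiniteType.isLocallyNoetherian fD
  haveI : CompactSpace D := QuasiCompact.compactSpace_of_compactSpace fD
  haveI : IsNoetherian D := ⟨⟩
  haveI : CharZero R := (algebraMap R (FractionRing R)).charZero
  have hexc := S2653.result R
  have hNR : CAlg.IsNagata R := S2654.result R ⟨hexc.1, hexc.2.2.1, hexc.2.2.2⟩
  -- the graph
  have hw : g ≫ p = (fK ≫ h) ≫ q := by rw [Category.assoc, hh.w, reassoc_of% hfK, hg.w]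
  haveI : IsProper (pullback.fst p q) := MorphismProperty.pullback_fst _ _ inferInstance
  haveI : IsProper (pullback.snd p q) := MorphismProperty.pullback_snd _ _ inferInstance
  obtain ⟨X₁, μ₁, g₁, hμ₁, hX₁i, hX₁n, hg₁t, hbir₁, hg₁, hfl₁⟩ :=
    exists_normal_image hNR hg hnX (pullback.fst p q) (pullback.lift g (fK ≫ h) hw) (pullback.lift_fst _ _ _)
  haveI := hμ₁
  haveI := hX₁i
  let ρ₁ : X₁ ⟶ X := μ₁ ≫ pullback.fst p q
  haveI : IsProper ρ₁ := inferInstanceAs (IsProper (μ₁ ≫ pullback.fst p q))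
  let p₁ : X₁ ⟶ Spec (CommRingCat.of R) := ρ₁ ≫ p
  haveI : IsProper p₁ := inferInstanceAs (IsProper (ρ₁ ≫ p))
  haveI : Flat p₁ := hfl₁
  obtain ⟨hcf₁, hrat₁⟩ := admissible_of_modification hNR hg hnX hcfX hratX ρ₁ hX₁n hbir₁ p₁ rfl
  let φ : X₁ ⟶ Y := μ₁ ≫ pullback.snd p q
  haveI : IsProper φ := inferInstanceAs (IsProper (μ₁ ≫ pullback.snd p q))
  have hgφ : g₁ ≫ φ = fK ≫ h := by
    show g₁ ≫ μ₁ ≫ pullback.snd p q = _
    rw [reassoc_of% hg₁t, pullback.lift_snd]
  have hφq : φ ≫ q = p₁ := by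
    show (μ₁ ≫ pullback.snd p q) ≫ q = (μ₁ ≫ pullback.fst p q) ≫ p
    rw [Category.assoc, Category.assoc, pullback.condition]
  have hsqK : IsPullback g₁ fK φ h := by
    refine IsPullback.of_bot ?_ hgφ hh
    rw [hfK, hφq]
    exact hg₁
  -- finite and flat over the generic fibre
  haveI := SurfPtBlow.isOpenImmersion_gen hh
  let U : Y.Opens := h.opensRange
  have hfl : Mor2.IsFinLocFree (φ ∣_ U) := by
    have hrest : h.isoOpensRange.inv ≫ h = U.ι := Scheme.Hom.isoOpensRange_inv_comp h
    have hw' : (φ ⁻¹ᵁ U).ι ≫ φ = ((φ ∣_ U) ≫ h.isoOpensRange.inv) ≫ h := by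
      rw [Category.assoc, hrest, morphismRestrict_ι]
    let l := hsqK.lift (φ ⁻¹ᵁ U).ι ((φ ∣_ U) ≫ h.isoOpensRange.inv) hw'
    have hsq : IsPullback l (φ ∣_ U) fK h.isoOpensRange.inv := by
      refine IsPullback.of_right ?_ (hsqK.lift_snd _ _ hw') hsqK
      rw [hsqK.lift_fst, hrest]
      exact (isPullback_morphismRestrict φ U).flip
    have hdC : topologicalKrullDim C = 1 := by simpa using JacLib.topologicalKrullDim_of_smooth fC 1
    have hdD : topologicalKrullDim D ≤ 1 := (JacLib.topologicalKrullDim_of_smooth fD 1).le.trans (by simp)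
    have hflat : Flat fK := by
      have hgenK : fK (genericPoint C) = genericPoint D := by
        by_contra hne
        let d := fK (genericPoint C)
        have hd : IsClosed ({d} : Set D) := by
          refine closure_eq_iff_isClosed.1 (Set.Subset.antisymm (fun z hz => ?_) subset_closure)
          by_contra hzd
          have h1 : z < d := lt_iff_le_not_ge.2 ⟨Scheme.le_iff_specializes.2 (specializes_iff_mem_closure.2 hz),
            fun h' => hzd (((Scheme.le_iff_specializes.1 h').antisymm (specializes_iff_mem_closure.2 hz)).eq)⟩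
          have h2 : d < genericPoint D := lt_iff_le_not_ge.2 ⟨Scheme.le_iff_specializes.2 (genericPoint_specializes _),
            fun h' => hne (((Scheme.le_iff_specializes.1 h').antisymm (genericPoint_specializes _)).eq)⟩
          let ser : LTSeries D := ⟨2, ![z, d, genericPoint D], fun i => by fin_cases i <;> assumption⟩
          have h3 : ((2 : ℕ) : ℕ∞) ≤ Order.coheight z := Order.length_le_coheight (p := ser) le_rfl
          have h4 : (Order.coheight z : WithBot ℕ∞) ≤ 1 := by
            rw [← ringKrullDim_stalk_eq_coheight]; exact (S1688.dim_le z).trans hdD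
          exact absurd (h3.trans (WithBot.coe_le_coe.1 h4)) (by decide)
        have hall : ∀ c : C, fK c = d := fun c =>
          ((genericPoint_specializes c).map fK.continuous).mem_closed hd rfl
        haveI : Finite C := Set.finite_univ_iff.1 ((Scheme.Hom.finite_preimage_singleton fK d).subset fun c _ => hall c)
        haveI : T1Space C := by
          haveI : JacobsonSpace C := LocallyOfFiniteType.jacobsonSpace fC
          infer_instance
        exact absurd (hdC ▸ topologicalKrullDim_zero_of_discreteTopology C) (by decide)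
      refine (S10887.result (fun y => ASp.isRegularLocalRing_stalk_of_smooth_field fD y) hdD fK).2 fun Z hZ => ?_
      rw [irreducibleComponents_eq_singleton, Set.mem_singleton_iff] at hZ
      subst hZ
      exact (dense_iff_closure_eq.2 (Set.eq_univ_of_forall fun z => (genericPoint_specializes z).mem_closure)).mono
        (Set.singleton_subset_iff.2 ⟨genericPoint C, trivial, hgenK⟩)
    haveI := hflat
    haveI : LocallyOfFinitePresentation fK := ASp.locallyOfFinitePresentation_of_noetherian fK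
    exact ⟨MorphismProperty.of_isPullback hsq inferInstance, MorphismProperty.of_isPullback hsq inferInstance,
      MorphismProperty.of_isPullback hsq inferInstance⟩
  obtain ⟨𝓘, Y₀, b, hb, hadm, H⟩ := RGBlowLib.exists_finLocFree φ U (NoetherianSpace.isCompact _) hfl
  haveI : IsProper b := RGBlowLib.isProper_blowUp hb hadm
  haveI : IsIso (b ∣_ U) := RGBlowLib.Union.isIso_restrict_adm hb U hadm
  let tD : D ⟶ Y₀ := h.isoOpensRange.hom ≫ inv (b ∣_ U) ≫ (b ⁻¹ᵁ U).ι
  have htD : tD ≫ b = h := by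
    simp only [tD, Category.assoc, ← morphismRestrict_ι, IsIso.inv_hom_id_assoc]
    exact Scheme.Hom.isoOpensRange_hom_ι h
  obtain ⟨Y', μ₂, h', hμ₂, hY'i, hY'n, hh't, hbir₂, hh', hfl₂⟩ := exists_normal_image hNR hh hnY b tD htD
  haveI := hμ₂
  haveI := hY'i
  let σ : Y' ⟶ Y := μ₂ ≫ b
  haveI : IsProper σ := inferInstanceAs (IsProper (μ₂ ≫ b))
  obtain ⟨hcf₂, hrat₂⟩ := admissible_of_modification hNR hh hnY hcfY hratY σ hY'n hbir₂ (σ ≫ q) rfl
  -- the strict transform
  let p₁' : pullback φ b ⟶ X₁ := pullback.fst φ b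
  let p₂' : pullback φ b ⟶ Y₀ := pullback.snd φ b
  haveI : IsProper p₁' := MorphismProperty.pullback_fst _ _ inferInstance
  haveI : IsLocallyNoetherian X₁ := LocallyOfFiniteType.isLocallyNoetherian p₁
  haveI : IsLocallyNoetherian (pullback φ b) := LocallyOfFiniteType.isLocallyNoetherian p₁'
  obtain ⟨𝒥, hJ⟩ := RGBlowLib.exists_killed_of_fg ((𝓘.comap φ).comap p₁') fun V => by
    haveI := QCohLib.isNoetherianRing_section V.2
    exact IsNoetherian.noetherian _
  obtain ⟨hfin, -, -⟩ := H _ p₁' p₂' (IsPullback.of_hasPullback φ b) 𝒥 hJ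
  haveI := hfin
  haveI : IsIso (𝒥.subschemeι ∣_ (p₂' ⁻¹ᵁ (b ⁻¹ᵁ U))) :=
    RGBlowLib.isIso_subscheme_restrict _ 𝒥 hJ _ fun x hx hE => by
      rw [← Scheme.IdealSheafData.comap_comp, show p₁' ≫ φ = p₂' ≫ b from pullback.condition,
        Scheme.IdealSheafData.support_comap] at hE
      exact Set.disjoint_left.1 hadm.2 hE hx
  have hw₀ : g₁ ≫ φ = (fK ≫ tD) ≫ b := by rw [Category.assoc, htD, hgφ]
  let t₀ : C ⟶ pullback φ b := pullback.lift g₁ (fK ≫ tD) hw₀
  let Q : (pullback φ b).Opens := p₂' ⁻¹ᵁ (b ⁻¹ᵁ U)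
  have ht₀ : Set.range t₀ ⊆ Set.range Q.ι := by
    rintro _ ⟨c, rfl⟩
    rw [Scheme.Opens.range_ι]
    show b (p₂' (t₀ c)) ∈ U
    rw [← Scheme.Hom.comp_apply, ← Scheme.Hom.comp_apply]
    simp only [t₀, p₂', pullback.lift_snd_assoc, Category.assoc, htD]
    exact ⟨fK c, rfl⟩
  let tX : C ⟶ 𝒥.subscheme :=
    IsOpenImmersion.lift Q.ι t₀ ht₀ ≫ inv (𝒥.subschemeι ∣_ Q) ≫ (𝒥.subschemeι ⁻¹ᵁ Q).ι
  have htX : tX ≫ 𝒥.subschemeι = t₀ := by
    simp only [tX, Category.assoc, ← morphismRestrict_ι, IsIso.inv_hom_id_assoc]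
    exact IsOpenImmersion.lift_fac _ _ _
  let w := 𝒥.subschemeι ≫ p₂'
  have hw₂ : tX ≫ w = (fK ≫ h') ≫ μ₂ := by
    show tX ≫ 𝒥.subschemeι ≫ p₂' = _
    rw [reassoc_of% htX, pullback.lift_snd, Category.assoc, hh't]
  let π₂ : pullback w μ₂ ⟶ X₁ := pullback.fst w μ₂ ≫ 𝒥.subschemeι ≫ p₁'
  haveI : IsFinite (pullback.fst w μ₂) := MorphismProperty.pullback_fst _ _ inferInstance
  haveI : IsFinite w := hfin
  haveI : IsFinite (pullback.snd w μ₂) := MorphismProperty.pullback_snd _ _ inferInstance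
  haveI : IsProper π₂ := inferInstanceAs (IsProper (pullback.fst w μ₂ ≫ 𝒥.subschemeι ≫ p₁'))
  obtain ⟨X', μ₃, g', hμ₃, hX'i, hX'n, hg't, hbir₃, hg', hfl₃⟩ :=
    exists_normal_image hNR hg₁ hX₁n π₂ (pullback.lift tX (fK ≫ h') hw₂) (by
      show pullback.lift tX (fK ≫ h') hw₂ ≫ pullback.fst w μ₂ ≫ 𝒥.subschemeι ≫ p₁' = g₁
      rw [pullback.lift_fst_assoc, reassoc_of% htX, pullback.lift_fst])
  haveI := hμ₃
  haveI := hX'i
  let ρ₃ : X' ⟶ X₁ := μ₃ ≫ π₂
  haveI : IsProper ρ₃ := inferInstanceAs (IsProper (μ₃ ≫ π₂))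
  obtain ⟨hcf₃, hrat₃⟩ := admissible_of_modification hNR hg₁ hX₁n hcf₁ hrat₁ ρ₃ hX'n hbir₃ (ρ₃ ≫ p₁) rfl
  haveI : IsProper (ρ₃ ≫ p₁) := inferInstance
  haveI : IsProper (σ ≫ q) := inferInstance
  refine ⟨X', Y', ρ₃ ≫ p₁, σ ≫ q, g', h', ρ₃ ≫ ρ₁, σ, μ₃ ≫ pullback.snd w μ₂,
    ⟨inferInstance, hfl₃, hg', hX'n, hcf₃, hrat₃⟩, ⟨inferInstance, hfl₂, hh', hY'n, hcf₂, hrat₂⟩,
    inferInstance, inferInstance, Category.assoc _ _ _, rfl, ?_, ?_, inferInstance, ?_, ?_⟩
  · show g' ≫ (μ₃ ≫ π₂) ≫ ρ₁ = g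
    rw [Category.assoc, reassoc_of% hg't]
    show pullback.lift tX (fK ≫ h') hw₂ ≫ (pullback.fst w μ₂ ≫ 𝒥.subschemeι ≫ p₁') ≫ ρ₁ = g
    rw [Category.assoc, Category.assoc, pullback.lift_fst_assoc, reassoc_of% htX, pullback.lift_fst_assoc]
    show g₁ ≫ μ₁ ≫ pullback.fst p q = g
    rw [reassoc_of% hg₁t, pullback.lift_fst]
  · show h' ≫ μ₂ ≫ b = h
    rw [reassoc_of% hh't, htD]
  · show (μ₃ ≫ pullback.snd w μ₂) ≫ (μ₂ ≫ b) ≫ q = (μ₃ ≫ pullback.fst w μ₂ ≫ 𝒥.subschemeι ≫ p₁') ≫ p₁
    rw [← hφq]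
    simp only [Category.assoc]
    rw [← pullback.condition_assoc]
    simp only [w, p₁', p₂', Category.assoc, pullback.condition_assoc]
  · rw [reassoc_of% hg't, pullback.lift_snd]

end Groth.Agent.S15141
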