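import Groth.Statements.S1648
import Groth.Agent.SurfPtBlow.Dominate
import Groth.Agent.RegLocal.Basic
-- import your own Groth.Agent.* helpers here

set_option autoImplicit false
set_option backward.isDefEq.respectTransparency false
set_option maxHeartbeats 800000
set_option synthInstance.maxHeartbeats 200000
universe u
open CategoryTheory CategoryTheory.Limits AlgebraicGeometry
open Resolve

namespace Groth.Agent.S1648

/-- A Nagata regular local ring of dimension two defines a rational singularity: every normal
modification of its spectrum has vanishing H^1 of the structure sheaf. -/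
theorem result (A : Type u) [CommRing A] [IsRegularLocalRing A] (hN : CAlg.IsNagata A)
    (hdim : ringKrullDim A = 2) : Curv2.IsRationalSing A := by
    intro X f hf hX hnorm hbir
    haveI := hf
    haveI := hX
    haveI := RegLocal.isDomain A
    have hreg : ∀ x : Spec (CommRingCat.of A), IsRegularLocalRing ((Spec (CommRingCat.of A)).presheaf.stalk x) :=
      fun x => by
      haveI := RegLocal.isRegularLocalRing_localization A x.asIdeal
      exact IsRegularLocalRing.of_ringEquiv (Spec.stalkIso (CommRingCat.of A) x).symm.commRingCatIsoToRingEquiv
    have htop : topologicalKrullDim (Spec (CommRingCat.of A)) ≤ 2 :=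
      ((PrimeSpectrum.topologicalKrullDim_eq_ringKrullDim A).trans hdim).le
    obtain ⟨X', g, h, hseq, hgh, hh, hint, hbir'⟩ := SurfPtBlow.exists_dominating hreg htop f hbir
    haveI := hh
    haveI := hint
    obtain ⟨-, -, -, hvan⟩ := hseq.invariants hreg
    have h0 : Subsingleton (Coh.HH (Spec (CommRingCat.of A)) (Coh.structureModule (Spec (CommRingCat.of A))) 1) :=
      CohBase.subsingleton_HH _ 1 (CohBase.affine_vanishing _ (isAffineOpen_top _) 0)
    haveI := hvan h0
    haveI := SurfPtBlow.isIso_unitToPush h hbir' fun z => (hnorm z).2
    let u := (SheafOfModules.toSheaf X.ringCatSheaf).map (ClSub.unitToPush h)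
    have hs : Subsingleton (Sheaf.H ((CohTop.push h.base).obj (Coh.toAb (Coh.structureModule X'))) 1) :=
      (SurfPtBlow.injective_edgeH_one h.base (Coh.toAb (Coh.structureModule X'))).subsingleton
    have hinj : Function.Injective (Sheaf.H.map u 1) := fun a b e => by
      have e' := congrArg (Sheaf.H.map (inv u) 1) e
      rwa [← Sheaf.H.map_comp_apply, ← Sheaf.H.map_comp_apply,
        show Sheaf.H.map (u ≫ inv u) 1 = Sheaf.H.map (𝟙 _) 1 from congrArg (fun k => Sheaf.H.map k 1) (IsIso.hom_inv_id u),
        Sheaf.H.map_id_apply, Sheaf.H.map_id_apply] at e'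
    exact @Function.Injective.subsingleton _ _ (Sheaf.H.map u 1) hinj hs

end Groth.Agent.S1648
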