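import Groth.Statements.S15142
import Groth.Agent.S15138
import Groth.Agent.S1648
import Groth.Agent.GrSegreLib.Dim
import Groth.Agent.PurityLib.Normal
import Groth.Agent.S2654
import Groth.Agent.S4710
import Mathlib.FieldTheory.Galois.IsGaloisGroup
import Mathlib.RingTheory.Invariant.Basic

set_option backward.isDefEq.respectTransparency false
set_option maxHeartbeats 1000000

set_option autoImplicit false
universe u
open CategoryTheory CategoryTheory.Limits AlgebraicGeometry
open Resolve

namespace Groth.Agent.S15142

/-- Invariants of a normal domain are normal. -/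
theorem isIntegrallyClosed_invariants {G B A : Type u} [Group G] [CommRing B] [CommRing A] [Algebra B A]
    [IsDomain A] [IsIntegrallyClosed A] [MulSemiringAction G A] [SMulCommClass G B A] [Algebra.IsInvariant B A G]
    (hinj : Function.Injective (algebraMap B A)) : IsIntegrallyClosed B := by
  haveI : IsDomain B := hinj.isDomain (algebraMap B A)
  haveI : FaithfulSMul B A := (faithfulSMul_iff_algebraMap_injective B A).2 hinj
  rw [isIntegrallyClosed_iff (FractionRing B)]
  intro q hq
  obtain ⟨a, b, hb, rfl⟩ := IsFractionRing.div_surjective B q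
  have hb0 : b ≠ 0 := nonZeroDivisors.ne_zero hb
  let L := FractionRing A
  letI : Algebra (FractionRing B) L := FractionRing.liftAlgebra B L
  have hq' : IsIntegral A ((algebraMap B L a) / algebraMap B L b) := by
    have := hq.algebraMap (B := L)
    rw [map_div₀, ← IsScalarTower.algebraMap_apply, ← IsScalarTower.algebraMap_apply] at this
    exact this.tower_top
  obtain ⟨c, hc⟩ := IsIntegrallyClosed.algebraMap_eq_of_integral hq'
  have hbA : algebraMap B A b ≠ 0 := fun h => hb0 (hinj (h.trans (map_zero _).symm))
  have hcb : c * algebraMap B A b = algebraMap B A a := by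
    apply IsFractionRing.injective A L
    rw [map_mul, hc, ← IsScalarTower.algebraMap_apply, ← IsScalarTower.algebraMap_apply,
      div_mul_cancel₀]
    rw [IsScalarTower.algebraMap_apply B A L]
    exact fun h => hbA (IsFractionRing.injective A L (h.trans (map_zero _).symm))
  obtain ⟨d, hd⟩ := Algebra.IsInvariant.isInvariant (A := B) (G := G) c fun g => mul_right_cancel₀ hbA (by
    have := congrArg (fun z => g • z) hcb
    simp only [smul_mul', smul_algebraMap] at this
    exact this.trans hcb.symm)
  refine ⟨d, ?_⟩
  rw [eq_div_iff (fun h => hb0 (IsFractionRing.injective B (FractionRing B) (h.trans (map_zero _).symm))),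
    ← map_mul]
  exact congrArg _ (hinj (by rw [map_mul, hd, hcb]))

/-- An algebra which is essentially of finite type and integral is finite. -/
theorem finite_of_integral_of_essFiniteType (R C A : Type u) [CommRing R] [CommRing C] [CommRing A]
    [Algebra R A] [Algebra C A] [Algebra.EssFiniteType R A] [Algebra.IsIntegral C A]
    (hRC : ∀ r : R, algebraMap R A r ∈ (algebraMap C A).range) : Module.Finite C A := by
  obtain ⟨s, hs⟩ := Algebra.EssFiniteType.cond (R := R) (S := A)
  let A₀ : Subalgebra C A := Algebra.adjoin C (s : Set A)
  have hle : ∀ a ∈ Algebra.adjoin R (s : Set A), a ∈ A₀ := fun a ha => by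
    induction ha using Algebra.adjoin_induction with
    | mem x hx => exact Algebra.subset_adjoin hx
    | algebraMap r => obtain ⟨c, hc⟩ := hRC r; rw [← hc]; exact Subalgebra.algebraMap_mem _ c
    | add x y _ _ hx hy => exact add_mem hx hy
    | mul x y _ _ hx hy => exact mul_mem hx hy
  haveI := hs
  have htop : A₀ = ⊤ := eq_top_iff.2 fun a _ => by
    obtain ⟨⟨x, t⟩, hxt⟩ := IsLocalization.surj
      ((IsUnit.submonoid A).comap (algebraMap (Algebra.adjoin R (s : Set A)) A)) a
    have ht : IsUnit (t.1 : A) := t.2
    have hx0 : (x : A) ∈ A₀ := hle _ x.2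
    have ht0 : (t.1 : A) ∈ A₀ := hle _ t.1.2
    have hint : IsIntegral A₀ (↑ht.unit⁻¹ : A) := (Algebra.IsIntegral.isIntegral (R := C) _).tower_top
    have hinv : (↑ht.unit⁻¹ : A) ∈ A₀ := by
      obtain ⟨P, hP, hPv⟩ := hint
      have key : ∀ (n : ℕ) (f : ℕ → A₀), (↑ht.unit⁻¹ : A) ^ (n + 1) +
          ∑ i ∈ Finset.range (n + 1), (f i : A) * (↑ht.unit⁻¹ : A) ^ i = 0 → (↑ht.unit⁻¹ : A) ∈ A₀ := by
        intro n f h
        have h1 := congrArg (fun z => z * (t.1 : A) ^ n) h
        simp only [zero_mul, add_mul, Finset.sum_mul] at h1
        have hu : ∀ i, i ≤ n → (↑ht.unit⁻¹ : A) ^ i * (t.1 : A) ^ n = (t.1 : A) ^ (n - i) := fun i hi => by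
          conv_lhs => rw [show n = i + (n - i) by omega, pow_add, ← mul_assoc, ← mul_pow, IsUnit.val_inv_mul,
            one_pow, one_mul]
        rw [pow_succ', mul_assoc, hu n le_rfl, Nat.sub_self, pow_zero, mul_one] at h1
        rw [eq_neg_of_add_eq_zero_left h1]
        refine neg_mem (sum_mem fun i hi => ?_)
        rw [mul_assoc, hu i (Nat.lt_succ_iff.1 (Finset.mem_range.1 hi))]
        exact mul_mem (f i).2 (pow_mem ht0 _)
      rcases hd : P.natDegree with _ | n
      · rw [Polynomial.eval₂_eq_sum_range, hd, Finset.sum_range_one, pow_zero, mul_one] at hPv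
        have h1 : P.coeff 0 = 1 := by rw [← hd]; exact hP
        rw [h1, map_one] at hPv
        haveI : Subsingleton A := subsingleton_of_zero_eq_one hPv.symm
        rw [Subsingleton.elim (↑ht.unit⁻¹ : A) 0]
        exact zero_mem _
      refine key n (fun i => P.coeff i) ?_
      rw [Polynomial.eval₂_eq_sum_range, hd, Finset.sum_range_succ] at hPv
      have h1 : P.coeff (n + 1) = 1 := by rw [← hd]; exact hP
      rw [h1, map_one, one_mul] at hPv
      rw [add_comm]
      exact hPv
    have : a = (x : A) * ↑ht.unit⁻¹ := by
      rw [← show a * (t.1 : A) = (x : A) from hxt, mul_assoc, IsUnit.mul_val_inv, mul_one]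
    rw [this]
    exact mul_mem hx0 hinv
  haveI : Algebra.FiniteType C A := ⟨⟨s, htop⟩⟩
  exact Algebra.IsIntegral.finite


/-- Let R be a Noetherian domain, let A be an excellent Noetherian regular domain of Krull dimension two
(all localizations at primes are regular local rings) which is essentially of finite type over R,
and suppose a finite group G acts on A through ring automorphisms that commute with the R-action. If
the order of G is a unit in A, then the ring of invariants A^G has rational singularities: its
localization at every maximal ideal of height two defines a rational singularity (every proper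
morphism onto the spectrum from an integral normal scheme which is an isomorphism over a nonempty
open has H^1 of the structure sheaf zero). (The published statement does not assume the ring of
invariants excellent; its argument passes through the finite extension A^G ⊆ A of two-dimensional
excellent normal domains of degree dividing the order of G, and this row carries the excellence of
A^G as a hypothesis.) -/
theorem result (R A : Type u) [CommRing R] [IsDomain R]
    [IsNoetherianRing R] [CommRing A] [IsDomain A] [IsNoetherianRing A] [Algebra R A] [Algebra.EssFiniteType R A]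
    (hAe : EGA4.IsExcellent A) (hA2 : ringKrullDim A = 2)
    (hreg : ∀ (p : Ideal A) [p.IsPrime], IsRegularLocalRing (Localization.AtPrime p))
    (G : Type u) [Group G] [Finite G] [MulSemiringAction G A] [SMulCommClass G R A]
    (hG : IsUnit ((Nat.card G : ℕ) : A))
    (hGe : EGA4.IsExcellent (FixedPoints.subring A G))
    (m : Ideal (FixedPoints.subring A G)) [m.IsMaximal] (hm : ringKrullDim (Localization.AtPrime m) = 2) :
    Curv2.IsRationalSing (Localization.AtPrime m) := by
  haveI : IsNoetherianRing (FixedPoints.subring A G) := hGe.1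
  let C := FixedPoints.subring A G
  let G' : Subgroup (RingAut A) := (MulSemiringAction.toRingAut G A).range
  have hfix : ∀ a : A, (∀ g : G', g • a = a) → ∀ g : G, g • a = a := fun a h g =>
    h ⟨MulSemiringAction.toRingAut G A g, g, rfl⟩
  haveI : SMulCommClass G' C A := ⟨fun g c a => by
    obtain ⟨g₀, hg⟩ := g.2
    show g.1 (c.1 * a) = c.1 * g.1 a
    rw [map_mul]
    congr 1
    rw [← hg]
    exact c.2 g₀⟩
  haveI : FaithfulSMul G' A := ⟨fun h => Subtype.ext (RingEquiv.ext h)⟩
  haveI : Algebra.IsInvariant C A G' := ⟨fun a h => ⟨⟨a, hfix a h⟩, rfl⟩⟩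
  haveI : IsGaloisGroup G' C A := ⟨inferInstance, inferInstance, inferInstance⟩
  haveI : Finite G' := Finite.of_surjective (fun g : G => (⟨_, g, rfl⟩ : G'))
    (fun ⟨_, g, hg⟩ => ⟨g, Subtype.ext hg⟩)
  have hinj : Function.Injective (algebraMap C A) := Subtype.val_injective
  haveI : FaithfulSMul C A := (faithfulSMul_iff_algebraMap_injective _ _).2 hinj
  haveI : Algebra.IsIntegral C A := Algebra.IsInvariant.isIntegral C A G'
  haveI : Module.Finite C A := finite_of_integral_of_essFiniteType R C A fun r =>
    ⟨⟨algebraMap R A r, fun g => smul_algebraMap g r⟩, rfl⟩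
  haveI : IsIntegrallyClosed A := IsIntegrallyClosed.of_localization_maximal fun P _ => by
    intro
    haveI := hreg P
    exact (Groth.Agent.PurityLib.isIntegrallyClosed_of_regular (Localization.AtPrime P)).2
  haveI : IsIntegrallyClosed C := isIntegrallyClosed_invariants (G := G') hinj
  have hC2 : ringKrullDim C = 2 := (Groth.Agent.GrSegreLib.ringKrullDim_eq_of_integral_injective (algebraMap C A) hinj
    (Algebra.IsIntegral.isIntegral (R := C) (A := A))).trans hA2
  letI := FractionRing.liftAlgebra C (FractionRing A)
  have hd : Module.finrank (FractionRing C) (FractionRing A) = Nat.card G' := by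
    rw [IsGaloisGroup.card_eq_finrank' G' C A]
    exact IsFractionRing.finrank_eq C (FractionRing C) A (FractionRing A)
  have hdvd : Nat.card G' ∣ Nat.card G := Subgroup.card_range_dvd _
  have hunit : IsUnit ((Module.finrank (FractionRing C) (FractionRing A) : ℕ) : C) := by
    rw [hd]
    obtain ⟨k, hk⟩ := hdvd
    have hA' : IsUnit ((Nat.card G' : ℕ) : A) := by
      rw [hk, Nat.cast_mul] at hG
      exact isUnit_of_mul_isUnit_left hG
    obtain ⟨y, hy⟩ := isUnit_iff_exists_inv.1 hA'
    refine isUnit_iff_exists_inv.2 ⟨⟨y, fun g => ?_⟩, Subtype.ext hy⟩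
    refine hA'.mul_left_cancel ?_
    have h1 := congrArg (fun z => g • z) hy
    simp only [smul_mul', smul_one] at h1
    have h2 : g • ((Nat.card G' : ℕ) : A) = ((Nat.card G' : ℕ) : A) :=
      map_natCast (MulSemiringAction.toRingHom G A g) _
    rw [h2] at h1
    exact h1.trans hy.symm
  refine Groth.Agent.S15138.result C A hGe hAe hC2 hA2 hinj (FractionRing C) (FractionRing A) hunit ?_ m hm
  intro n _ hn
  haveI := hreg n
  exact Groth.Agent.S1648.result (Localization.AtPrime n)
    (Groth.Agent.S4710.result A (Groth.Agent.S2654.result A ⟨hAe.1, hAe.2.2.1, hAe.2.2.2⟩) n.primeCompl) hn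

end Groth.Agent.S15142
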