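import Groth.Statements.S15147
import Mathlib

set_option autoImplicit false
universe u
open HilbZeta

namespace Groth.Agent.S15147
theorem mem_of_orders {k : Type u} [Field k] {s : ℕ} {R : Subalgebra k (Fin s → PowerSeries k)} {c : Fin s → ℕ}
    (hc : ∀ f : Fin s → PowerSeries k,
      (∀ g : Fin s → PowerSeries k, g * f ∈ R) ↔ ∀ i, ((c i : ℕ) : ℕ∞) ≤ (f i).order)
    {J : Ideal ↥R} {l : Fin s → ℕ} (hl : ∀ i : Fin s, ∃ f ∈ J, ((f : Fin s → PowerSeries k) i).order = ((l i : ℕ) : ℕ∞))
    (g : Fin s → PowerSeries k) (hg : ∀ i : Fin s, ((l i + c i : ℕ) : ℕ∞) ≤ (g i).order) :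
    ∃ hgR : g ∈ R, (⟨g, hgR⟩ : ↥R) ∈ J := by
  classical
  have key : ∀ i, ∃ y : ↥R, y ∈ J ∧ (y : Fin s → PowerSeries k) = Pi.single i (g i) := by
    intro i
    obtain ⟨f, hf, hfl⟩ := hl i
    have hf0 : (f : Fin s → PowerSeries k) i ≠ 0 := fun h => by
      rw [h, PowerSeries.order_zero] at hfl
      exact ENat.top_ne_coe _ hfl
    have hX : PowerSeries.X ^ (l i) ∣ g i := PowerSeries.X_pow_dvd_iff.2 fun m hm =>
      PowerSeries.coeff_of_lt_order _ (lt_of_lt_of_le (by exact_mod_cast (show m < l i + c i by omega)) (hg i))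
    obtain ⟨w, hw⟩ : (f : Fin s → PowerSeries k) i ∣ g i := by
      refine dvd_trans ?_ hX
      have h := PowerSeries.X_pow_order_mul_divXPowOrder (f := (f : Fin s → PowerSeries k) i)
      rw [show ((f : Fin s → PowerSeries k) i).order.toNat = l i by rw [hfl]; rfl] at h
      have hu : IsUnit ((f : Fin s → PowerSeries k) i).divXPowOrder := by
        rw [PowerSeries.isUnit_iff_constantCoeff, isUnit_iff_ne_zero]
        exact fun h0 => hf0 (PowerSeries.constantCoeff_divXPowOrder_eq_zero_iff.1 h0)
      exact ⟨↑hu.unit⁻¹, ((congrArg (fun z => z * (↑hu.unit⁻¹ : PowerSeries k)) h).symm.trans (by rw [mul_assoc, hu.mul_val_inv, mul_one])).symm⟩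
    have hu : Pi.single i w ∈ R := by
      have h := (hc (Pi.single i w)).2 (fun j => by
        by_cases hj : j = i
        · subst hj
          rw [Pi.single_eq_same]
          have h1 := hg j
          rw [hw, PowerSeries.order_mul, hfl, Nat.cast_add] at h1
          exact (WithTop.add_le_add_iff_left (ENat.coe_ne_top _)).1 h1
        · rw [Pi.single_eq_of_ne hj, PowerSeries.order_zero]
          exact le_top) 1
      rwa [one_mul] at h
    refine ⟨f * ⟨_, hu⟩, J.mul_mem_right _ hf, ?_⟩
    funext j
    show (f : Fin s → PowerSeries k) j * (Pi.single i w : Fin s → PowerSeries k) j = _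
    by_cases hj : j = i
    · subst hj
      rw [Pi.single_eq_same, Pi.single_eq_same, hw]
    · rw [Pi.single_eq_of_ne hj, Pi.single_eq_of_ne hj, mul_zero]
  choose y hy hyv using key
  have hsum : ((∑ i, y i : ↥R) : Fin s → PowerSeries k) = g := by
    rw [AddSubmonoidClass.coe_finsetSum]
    simp only [hyv]
    exact Finset.univ_sum_single g
  refine ⟨hsum ▸ (∑ i, y i).2, ?_⟩
  rw [show (⟨g, _⟩ : ↥R) = ∑ i, y i from Subtype.ext hsum.symm]
  exact sum_mem fun i _ => hy i

theorem branch_orders {k : Type u} [Field k] {s : ℕ} {R : Subalgebra k (Fin s → PowerSeries k)}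
    {I : Ideal ↥R} {a : Fin s → ℕ}
    (ha : (∀ i : Fin s, Ideal.map ((Pi.evalAlgHom k (fun _ : Fin s => PowerSeries k) i).comp R.val) I = Ideal.span {PowerSeries.X ^ (a i)})) :
    (∀ f ∈ I, ∀ i : Fin s, ((a i : ℕ) : ℕ∞) ≤ ((f : Fin s → PowerSeries k) i).order) ∧
    ∀ i : Fin s, ∃ f ∈ I, ((f : Fin s → PowerSeries k) i).order = ((a i : ℕ) : ℕ∞) := by
  have h1 : ∀ f ∈ I, ∀ i : Fin s, ((a i : ℕ) : ℕ∞) ≤ ((f : Fin s → PowerSeries k) i).order := fun f hf i => by
    have h := Ideal.mem_map_of_mem ((Pi.evalAlgHom k (fun _ : Fin s => PowerSeries k) i).comp R.val) hf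
    rw [ha i, Ideal.mem_span_singleton, PowerSeries.X_pow_dvd_iff] at h
    exact PowerSeries.nat_le_order _ _ h
  refine ⟨h1, fun i => ?_⟩
  by_contra hno
  push Not at hno
  have hle : Ideal.map ((Pi.evalAlgHom k (fun _ : Fin s => PowerSeries k) i).comp R.val) I ≤ Ideal.span {PowerSeries.X ^ (a i + 1)} := by
    rw [Ideal.map_le_iff_le_comap]
    intro f hf
    rw [Ideal.mem_comap, Ideal.mem_span_singleton, PowerSeries.X_pow_dvd_iff]
    intro m hm
    have h2 : ((a i : ℕ) : ℕ∞) < ((f : Fin s → PowerSeries k) i).order := lt_of_le_of_ne (h1 f hf i) (hno f hf).symm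
    exact PowerSeries.coeff_of_lt_order _ (lt_of_le_of_lt (by exact_mod_cast (show m ≤ a i by omega)) h2)
  rw [ha i, Ideal.span_singleton_le_span_singleton, PowerSeries.X_pow_dvd_iff] at hle
  have := hle (a i) (Nat.lt_succ_self _)
  rw [PowerSeries.coeff_X_pow, if_pos rfl] at this
  exact one_ne_zero this


/-- Let k be a field, s a natural number and R a k-subalgebra of the product of s copies of the power
series ring k[[x]], of finite codimension δ over k and local with residue field k (all components of
an element of R have the same constant term); write v_i for the x-adic order of the i-th component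
of an s-tuple, and let c = (c_1, …, c_s) be the conductor exponents, so that an s-tuple f satisfies
f·g ∈ R for every s-tuple g exactly when v_i(f) ≥ c_i for all i (over an algebraically closed field
such an R is precisely the completed local ring of a reduced curve singularity having s branches
sitting inside its normalisation, δ is its delta invariant and the conductor ideal is generated by
the x_i^{c_i}). Let I be an ideal of R of finite colength with branch-length vector a = (a_1, …,
a_s): for every i the ideal of k[[x]] generated by the i-th components of the elements of I is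
(x^{a_i}), so that the pullback of Spec R/I to the i-th branch has length a_i. Then F^{a+c} ⊆ I ⊆
F^a: every s-tuple g with v_i(g) ≥ a_i + c_i for all i lies in R and belongs to I, and every element
of I has v_i ≥ a_i for all i. (The published statement is over an algebraically closed field; this
row allows any field.) -/
theorem result (k : Type u) [Field k] (s : ℕ)
    (R : Subalgebra k (Fin s → PowerSeries k))
    (hfin : Module.Finite k ((Fin s → PowerSeries k) ⧸ Subalgebra.toSubmodule R))
    (hloc : ∀ f ∈ R, ∀ i j : Fin s, PowerSeries.constantCoeff (f i) = PowerSeries.constantCoeff (f j))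
    (c : Fin s → ℕ)
    (hc : ∀ f : Fin s → PowerSeries k,
      (∀ g : Fin s → PowerSeries k, g * f ∈ R) ↔ ∀ i, ((c i : ℕ) : ℕ∞) ≤ (f i).order)
    (I : Ideal ↥R) (hI : Module.Finite k (↥R ⧸ I)) (a : Fin s → ℕ)
    (ha : (∀ i : Fin s, Ideal.map ((Pi.evalAlgHom k (fun _ : Fin s => PowerSeries k) i).comp R.val) I = Ideal.span {PowerSeries.X ^ (a i)})) :
    (∀ g : Fin s → PowerSeries k, (∀ i : Fin s, ((a i + c i : ℕ) : ℕ∞) ≤ (g i).order) →
      ∃ hgR : g ∈ R, (⟨g, hgR⟩ : ↥R) ∈ I) ∧
    (∀ f ∈ I, ∀ i : Fin s, ((a i : ℕ) : ℕ∞) ≤ ((f : Fin s → PowerSeries k) i).order) := by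
  obtain ⟨h1, h2⟩ := branch_orders ha
  exact ⟨fun g hg => mem_of_orders hc h2 g hg, h1⟩

end Groth.Agent.S15147
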