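import Groth.Statements.S15148
import Mathlib

set_option autoImplicit false
universe u
open HilbZeta

namespace Groth.Agent.S15148
theorem mem_of_orders {k : Type u} [Field k] {s : ℕ} {R : Subalgebra k (Fin s → PowerSeries k)} {c : Fin s → ℕ}
    (hc : ∀ f : Fin s → PowerSeries k,
      (∀ g : Fin s → PowerSeries k, g * f ∈ R) ↔ ∀ i, ((c i : ℕ) : ℕ∞) ≤ (f i).order)
    {J : Ideal ↥R} {l : Fin s → ℕ} (hl : ∀ i : Fin s, ∃ f ∈ J, ((f : Fin s → PowerSeries k) i).order = ((l i : ℕ) : ℕ∞))
    (g : Fin s → PowerSeries k) (hg : ∀ i : Fin s, ((l i + c i : ℕ) : ℕ∞) ≤ (g i).order) :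
    ∃ hgR : g ∈ R, (⟨g, hgR⟩ : ↥R) ∈ J := by
  classical
  have key : ∀ i, ∃ y : ↥R, y ∈ J ∧ (y : Fin s → PowerSeries k) = Pi.single i (g i) := by
    intro i
    obtain ⟨f, hf, hfl⟩ := hl i
    have hf0 : (f : Fin s → PowerSeries k) i ≠ 0 := fun h => by
      rw [h, PowerSeries.order_zero] at hfl
      exact ENat.top_ne_coe _ hfl
    have hX : PowerSeries.X ^ (l i) ∣ g i := PowerSeries.X_pow_dvd_iff.2 fun m hm =>
      PowerSeries.coeff_of_lt_order _ (lt_of_lt_of_le (by exact_mod_cast (show m < l i + c i by omega)) (hg i))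
    obtain ⟨w, hw⟩ : (f : Fin s → PowerSeries k) i ∣ g i := by
      refine dvd_trans ?_ hX
      have h := PowerSeries.X_pow_order_mul_divXPowOrder (f := (f : Fin s → PowerSeries k) i)
      rw [show ((f : Fin s → PowerSeries k) i).order.toNat = l i by rw [hfl]; rfl] at h
      have hu : IsUnit ((f : Fin s → PowerSeries k) i).divXPowOrder := by
        rw [PowerSeries.isUnit_iff_constantCoeff, isUnit_iff_ne_zero]
        exact fun h0 => hf0 (PowerSeries.constantCoeff_divXPowOrder_eq_zero_iff.1 h0)
      exact ⟨↑hu.unit⁻¹, ((congrArg (fun z => z * (↑hu.unit⁻¹ : PowerSeries k)) h).symm.trans (by rw [mul_assoc, hu.mul_val_inv, mul_one])).symm⟩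
    have hu : Pi.single i w ∈ R := by
      have h := (hc (Pi.single i w)).2 (fun j => by
        by_cases hj : j = i
        · subst hj
          rw [Pi.single_eq_same]
          have h1 := hg j
          rw [hw, PowerSeries.order_mul, hfl, Nat.cast_add] at h1
          exact (WithTop.add_le_add_iff_left (ENat.coe_ne_top _)).1 h1
        · rw [Pi.single_eq_of_ne hj, PowerSeries.order_zero]
          exact le_top) 1
      rwa [one_mul] at h
    refine ⟨f * ⟨_, hu⟩, J.mul_mem_right _ hf, ?_⟩
    funext j
    show (f : Fin s → PowerSeries k) j * (Pi.single i w : Fin s → PowerSeries k) j = _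
    by_cases hj : j = i
    · subst hj
      rw [Pi.single_eq_same, Pi.single_eq_same, hw]
    · rw [Pi.single_eq_of_ne hj, Pi.single_eq_of_ne hj, mul_zero]
  choose y hy hyv using key
  have hsum : ((∑ i, y i : ↥R) : Fin s → PowerSeries k) = g := by
    rw [AddSubmonoidClass.coe_finsetSum]
    simp only [hyv]
    exact Finset.univ_sum_single g
  refine ⟨hsum ▸ (∑ i, y i).2, ?_⟩
  rw [show (⟨g, _⟩ : ↥R) = ∑ i, y i from Subtype.ext hsum.symm]
  exact sum_mem fun i _ => hy i

theorem branch_orders {k : Type u} [Field k] {s : ℕ} {R : Subalgebra k (Fin s → PowerSeries k)}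
    {I : Ideal ↥R} {a : Fin s → ℕ}
    (ha : (∀ i : Fin s, Ideal.map ((Pi.evalAlgHom k (fun _ : Fin s => PowerSeries k) i).comp R.val) I = Ideal.span {PowerSeries.X ^ (a i)})) :
    (∀ f ∈ I, ∀ i : Fin s, ((a i : ℕ) : ℕ∞) ≤ ((f : Fin s → PowerSeries k) i).order) ∧
    ∀ i : Fin s, ∃ f ∈ I, ((f : Fin s → PowerSeries k) i).order = ((a i : ℕ) : ℕ∞) := by
  have h1 : ∀ f ∈ I, ∀ i : Fin s, ((a i : ℕ) : ℕ∞) ≤ ((f : Fin s → PowerSeries k) i).order := fun f hf i => by
    have h := Ideal.mem_map_of_mem ((Pi.evalAlgHom k (fun _ : Fin s => PowerSeries k) i).comp R.val) hf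
    rw [ha i, Ideal.mem_span_singleton, PowerSeries.X_pow_dvd_iff] at h
    exact PowerSeries.nat_le_order _ _ h
  refine ⟨h1, fun i => ?_⟩
  by_contra hno
  push Not at hno
  have hle : Ideal.map ((Pi.evalAlgHom k (fun _ : Fin s => PowerSeries k) i).comp R.val) I ≤ Ideal.span {PowerSeries.X ^ (a i + 1)} := by
    rw [Ideal.map_le_iff_le_comap]
    intro f hf
    rw [Ideal.mem_comap, Ideal.mem_span_singleton, PowerSeries.X_pow_dvd_iff]
    intro m hm
    have h2 : ((a i : ℕ) : ℕ∞) < ((f : Fin s → PowerSeries k) i).order := lt_of_le_of_ne (h1 f hf i) (hno f hf).symm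
    exact PowerSeries.coeff_of_lt_order _ (lt_of_le_of_lt (by exact_mod_cast (show m ≤ a i by omega)) h2)
  rw [ha i, Ideal.span_singleton_le_span_singleton, PowerSeries.X_pow_dvd_iff] at hle
  have := hle (a i) (Nat.lt_succ_self _)
  rw [PowerSeries.coeff_X_pow, if_pos rfl] at this
  exact one_ne_zero this

/-- Tuples of series with prescribed orders. -/
def filt {k : Type u} [Field k] {s : ℕ} (b : Fin s → ℕ) : Submodule k (Fin s → PowerSeries k) where
  carrier := {g | ∀ i, ∀ m < b i, PowerSeries.coeff m (g i) = 0}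
  zero_mem' := fun i m _ => map_zero _
  add_mem' := fun {x y} hx hy i m hm => by
    show PowerSeries.coeff m (x i + y i) = 0
    rw [map_add, hx i m hm, hy i m hm, add_zero]
  smul_mem' := fun r x hx i m hm => by
    show PowerSeries.coeff m (r • x i) = 0
    rw [map_smul, hx i m hm, smul_zero]

theorem finrank_quot_filt {k : Type u} [Field k] {s : ℕ} (b : Fin s → ℕ) :
    Module.Finite k ((Fin s → PowerSeries k) ⧸ filt (k := k) b) ∧
      Module.finrank k ((Fin s → PowerSeries k) ⧸ filt (k := k) b) = ∑ i, b i := by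
  classical
  let φ : (Fin s → PowerSeries k) →ₗ[k] ((i : Fin s) → Fin (b i) → k) :=
    LinearMap.pi fun i => LinearMap.pi fun m => (PowerSeries.coeff m.1).comp (LinearMap.proj i)
  have hker : LinearMap.ker φ = filt (k := k) b := by
    ext g
    rw [LinearMap.mem_ker]
    exact ⟨fun h i m hm => congrFun (congrFun h i) ⟨m, hm⟩, fun h => funext fun i => funext fun m => h i m.1 m.2⟩
  have hs : Function.Surjective φ := fun v =>
    ⟨fun i => PowerSeries.mk fun m => if h : m < b i then v i ⟨m, h⟩ else 0, funext fun i => funext fun m => by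
      show PowerSeries.coeff m.1 (PowerSeries.mk fun m => if h : m < b i then v i ⟨m, h⟩ else 0) = _
      rw [PowerSeries.coeff_mk, dif_pos m.2]⟩
  let e := (Submodule.quotEquivOfEq _ _ hker.symm).trans (φ.quotKerEquivOfSurjective hs)
  refine ⟨Module.Finite.equiv e.symm, ?_⟩
  rw [e.finrank_eq, Module.finrank_pi_fintype]
  simp


/-- Let k be a field, s a natural number and R a k-subalgebra of the product of s copies of the power
series ring k[[x]], of finite codimension δ over k and local with residue field k (all components of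
an element of R have the same constant term); write v_i for the x-adic order of the i-th component
of an s-tuple, and let c = (c_1, …, c_s) be the conductor exponents, so that an s-tuple f satisfies
f·g ∈ R for every s-tuple g exactly when v_i(f) ≥ c_i for all i (over an algebraically closed field
such an R is precisely the completed local ring of a reduced curve singularity having s branches
sitting inside its normalisation, δ is its delta invariant and the conductor ideal is generated by
the x_i^{c_i}), and put C = c_1 + ⋯ + c_s. Let I be an ideal of R of finite colength d with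
branch-length vector a (for every i the ideal of k[[x]] generated by the i-th components of the
elements of I is (x^{a_i})). Then −δ ≤ d − Σ a_i ≤ C − δ, and the second inequality is strict when R
is not the whole product (the singularity is not smooth). (The published statement is over an
algebraically closed field; this row allows any field.) -/
theorem result (k : Type u) [Field k] (s : ℕ)
    (R : Subalgebra k (Fin s → PowerSeries k))
    (hfin : Module.Finite k ((Fin s → PowerSeries k) ⧸ Subalgebra.toSubmodule R))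
    (hloc : ∀ f ∈ R, ∀ i j : Fin s, PowerSeries.constantCoeff (f i) = PowerSeries.constantCoeff (f j))
    (c : Fin s → ℕ)
    (hc : ∀ f : Fin s → PowerSeries k,
      (∀ g : Fin s → PowerSeries k, g * f ∈ R) ↔ ∀ i, ((c i : ℕ) : ℕ∞) ≤ (f i).order)
    (I : Ideal ↥R) (hI : Module.Finite k (↥R ⧸ I)) (a : Fin s → ℕ)
    (ha : (∀ i : Fin s, Ideal.map ((Pi.evalAlgHom k (fun _ : Fin s => PowerSeries k) i).comp R.val) I = Ideal.span {PowerSeries.X ^ (a i)})) :
    (∑ i, a i) ≤ Module.finrank k (↥R ⧸ I) + Module.finrank k ((Fin s → PowerSeries k) ⧸ Subalgebra.toSubmodule R) ∧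
    Module.finrank k (↥R ⧸ I) + Module.finrank k ((Fin s → PowerSeries k) ⧸ Subalgebra.toSubmodule R) ≤ (∑ i, a i) + ∑ i, c i ∧
    (R ≠ ⊤ → Module.finrank k (↥R ⧸ I) + Module.finrank k ((Fin s → PowerSeries k) ⧸ Subalgebra.toSubmodule R) < (∑ i, a i) + ∑ i, c i) := by
  classical
  obtain ⟨h1, h2⟩ := branch_orders ha
  let RS := Subalgebra.toSubmodule R
  let P : Submodule k (Fin s → PowerSeries k) := Submodule.map RS.subtype (I.restrictScalars k)
  have hP1 : P ≤ filt (k := k) a := by
    rintro _ ⟨f, hf, rfl⟩ i m hm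
    exact PowerSeries.coeff_of_lt_order _ (lt_of_lt_of_le (by exact_mod_cast hm) (h1 f hf i))
  have hP2 : filt (k := k) (a + c) ≤ P := fun g hg => by
    obtain ⟨hgR, hgI⟩ := mem_of_orders hc h2 g fun i => PowerSeries.nat_le_order _ _ (hg i)
    exact ⟨⟨g, hgR⟩, hgI, rfl⟩
  obtain ⟨f1, r1⟩ := finrank_quot_filt (k := k) a
  obtain ⟨f2, r2⟩ := finrank_quot_filt (k := k) (a + c)
  haveI := f2
  haveI : Module.Finite k ((Fin s → PowerSeries k) ⧸ P) :=
    Module.Finite.of_surjective (Submodule.factor hP2) (Submodule.factor_surjective hP2)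
  have hsum : Module.finrank k ((Fin s → PowerSeries k) ⧸ P) =
      Module.finrank k (↥R ⧸ I) + Module.finrank k ((Fin s → PowerSeries k) ⧸ RS) := by
    have hPR : P ≤ RS := Submodule.map_subtype_le _ _
    have h := Submodule.finrank_quotient_add_finrank (RS.map P.mkQ)
    rw [(Submodule.quotientQuotientEquivQuotient P RS hPR).finrank_eq] at h
    have e : ↥(RS.map P.mkQ) ≃ₗ[k] (↥R ⧸ I) := by
      let ψ : ↥RS →ₗ[k] (Fin s → PowerSeries k) ⧸ P := P.mkQ.comp RS.subtype
      have hk : LinearMap.ker ψ = I.restrictScalars k := by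
        rw [LinearMap.ker_comp, Submodule.ker_mkQ]
        exact Submodule.comap_map_eq_of_injective RS.injective_subtype _
      have hr : LinearMap.range ψ = RS.map P.mkQ := by
        rw [LinearMap.range_comp, Submodule.range_subtype]
      exact ((LinearEquiv.ofEq _ _ hr).symm.trans ψ.quotKerEquivRange.symm).trans
        ((Submodule.quotEquivOfEq _ _ hk).trans (Submodule.Quotient.restrictScalarsEquiv k I))
    rw [e.finrank_eq] at h
    omega
  have u1 : ∑ i, a i ≤ Module.finrank k ((Fin s → PowerSeries k) ⧸ P) := by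
    rw [← r1]
    exact LinearMap.finrank_le_finrank_of_surjective (Submodule.factor_surjective hP1)
  have u2 : Module.finrank k ((Fin s → PowerSeries k) ⧸ P) ≤ ∑ i, (a + c) i := by
    rw [← r2]
    exact LinearMap.finrank_le_finrank_of_surjective (Submodule.factor_surjective hP2)
  simp only [Pi.add_apply, Finset.sum_add_distrib] at u2 r2
  refine ⟨hsum ▸ u1, hsum ▸ u2, fun hR => ?_⟩
  have u3 : Module.finrank k ((Fin s → PowerSeries k) ⧸ P) < ∑ i, a i + ∑ i, c i := by
    rw [← r2]
    obtain ⟨i, hi⟩ : ∃ i, 0 < c i := by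
      by_contra hno
      push Not at hno
      refine hR (eq_top_iff.2 fun g _ => ?_)
      have h := (hc 1).2 (fun i => by rw [Nat.le_zero.1 (hno i)]; exact bot_le) g
      rwa [mul_one] at h
    obtain ⟨f, hfI, hfo⟩ := h2 i
    let q := Submodule.factor hP2
    have hz : Submodule.Quotient.mk (p := filt (k := k) (a + c)) (f : Fin s → PowerSeries k) ≠ 0 := fun h0 => by
      rw [Submodule.Quotient.mk_eq_zero] at h0
      exact (PowerSeries.order_eq_nat.1 hfo).1 (h0 i (a i) (by show a i < a i + c i; omega))
    have hk : q (Submodule.Quotient.mk (f : Fin s → PowerSeries k)) = 0 :=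
      (Submodule.Quotient.mk_eq_zero P).2 ⟨f, hfI, rfl⟩
    have h := LinearMap.finrank_range_add_finrank_ker q
    rw [LinearMap.range_eq_top.2 (Submodule.factor_surjective hP2), finrank_top] at h
    have : 0 < Module.finrank k (LinearMap.ker q) := by
      haveI : Nontrivial (LinearMap.ker q) := ⟨⟨⟨_, hk⟩, 0, fun e => hz (congrArg Subtype.val e)⟩⟩
      exact Module.finrank_pos
    omega
  exact hsum ▸ u3

end Groth.Agent.S15148
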