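import Groth.Statements.S15149
import Mathlib

set_option autoImplicit false
universe u
open HilbZeta

namespace Groth.Agent.S15149

open scoped Classical in
/-- Multiplication by the branch element. -/
noncomputable def mulXi (k : Type u) [Field k] {s : ℕ} (j : Fin s) :
    (Fin s → PowerSeries k) →ₗ[k] (Fin s → PowerSeries k) :=
  LinearMap.mulLeft k (Pi.mulSingle j PowerSeries.X)

theorem mulXi_injective {k : Type u} [Field k] {s : ℕ} (j : Fin s) : Function.Injective (mulXi k j) := by
  intro f g h
  funext i
  have := congrFun h i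
  simp only [mulXi, LinearMap.mulLeft_apply, Pi.mul_apply] at this
  refine mul_left_cancel₀ ?_ this
  rcases eq_or_ne i j with rfl | hij
  · rw [Pi.mulSingle_eq_same]; exact PowerSeries.X_ne_zero
  · rw [Pi.mulSingle_eq_of_ne hij]; exact one_ne_zero

theorem length_quot_mulXi {k : Type u} [Field k] {s : ℕ} (j : Fin s) :
    Module.length k ((Fin s → PowerSeries k) ⧸ LinearMap.range (mulXi k j)) = 1 := by
  let g : (Fin s → PowerSeries k) →ₗ[k] k :=
    { toFun := fun f => PowerSeries.constantCoeff (f j)
      map_add' := fun f g => by simp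
      map_smul' := fun c f => by
        show PowerSeries.constantCoeff (c • f j) = c • PowerSeries.constantCoeff (f j)
        rw [PowerSeries.smul_eq_C_mul, map_mul, PowerSeries.constantCoeff_C, smul_eq_mul] }
  have hg : Function.Surjective g := fun c => ⟨fun _ => PowerSeries.C c, PowerSeries.constantCoeff_C c⟩
  have hk : LinearMap.ker g = LinearMap.range (mulXi k j) := by
    ext f
    constructor
    · intro hf
      obtain ⟨q, hq⟩ := PowerSeries.X_dvd_iff.2 hf
      refine ⟨Function.update f j q, funext fun i => ?_⟩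
      simp only [mulXi, LinearMap.mulLeft_apply, Pi.mul_apply]
      rcases eq_or_ne i j with rfl | hij
      · rw [Pi.mulSingle_eq_same, Function.update_self, hq]
      · rw [Pi.mulSingle_eq_of_ne hij, Function.update_of_ne hij, one_mul]
    · rintro ⟨q, rfl⟩
      show PowerSeries.constantCoeff ((mulXi k j q) j) = 0
      simp [mulXi, PowerSeries.constantCoeff_X]
  rw [← hk, (g.quotKerEquivOfSurjective hg).length_eq, Module.length_eq_finrank, Module.finrank_self]
  rfl

theorem length_quot_ideal {k : Type u} [Field k] {s : ℕ} (R : Subalgebra k (Fin s → PowerSeries k)) (I : Ideal R) :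
    Module.length k ((Fin s → PowerSeries k) ⧸ ((I.restrictScalars k).map R.val.toLinearMap)) =
      Module.length k (R ⧸ I) + Module.length k ((Fin s → PowerSeries k) ⧸ Subalgebra.toSubmodule R) := by
  let I' : Submodule k (Fin s → PowerSeries k) := (I.restrictScalars k).map R.val.toLinearMap
  have hle : I' ≤ Subalgebra.toSubmodule R := by
    rintro _ ⟨r, -, rfl⟩; exact r.2
  let N : Submodule k R := I.restrictScalars k
  have hN : N ≤ LinearMap.ker (I'.mkQ ∘ₗ R.val.toLinearMap) := fun r hr =>
    (Submodule.Quotient.mk_eq_zero I').2 ⟨r, hr, rfl⟩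
  let φ : (R ⧸ N) →ₗ[k] (Fin s → PowerSeries k) ⧸ I' := N.liftQ (I'.mkQ ∘ₗ R.val.toLinearMap) hN
  have hφ : Function.Injective φ := by
    refine (injective_iff_map_eq_zero _).2 fun z hz => ?_
    obtain ⟨r, rfl⟩ := Submodule.Quotient.mk_surjective N z
    obtain ⟨r', hr', he⟩ := (Submodule.Quotient.mk_eq_zero I').1
      (show Submodule.Quotient.mk (p := I') (r : Fin s → PowerSeries k) = 0 from hz)
    refine (Submodule.Quotient.mk_eq_zero N).2 ?_
    rwa [← Subtype.ext (show (r' : Fin s → PowerSeries k) = r from he)]
  have hex : Function.Exact φ (Submodule.factor hle) := by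
    intro z
    obtain ⟨f, rfl⟩ := Submodule.Quotient.mk_surjective _ z
    constructor
    · intro h
      exact ⟨Submodule.Quotient.mk (p := N) ⟨f, (Submodule.Quotient.mk_eq_zero _).1 h⟩, rfl⟩
    · rintro ⟨w, hw⟩
      obtain ⟨r, rfl⟩ := Submodule.Quotient.mk_surjective N w
      rw [← hw]
      exact (Submodule.Quotient.mk_eq_zero (Subalgebra.toSubmodule R)).2 r.2
  have h := Module.length_eq_add_of_exact φ (Submodule.factor hle) hφ (Submodule.factor_surjective _) hex
  have e : Module.length k (R ⧸ N) = Module.length k (R ⧸ I) :=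
    (Submodule.Quotient.restrictScalarsEquiv k I).length_eq
  rw [← e]
  exact h

/-- Colength and branch ideals after multiplication by the branch element. -/
theorem transfer {k : Type u} [Field k] {s : ℕ} (R : Subalgebra k (Fin s → PowerSeries k))
    (hfin : Module.Finite k ((Fin s → PowerSeries k) ⧸ Subalgebra.toSubmodule R)) (j : Fin s)
    (I J : Ideal R)
    (hIJ : (Subtype.val '' (J : Set R)) =
      (fun f => Pi.mulSingle j PowerSeries.X * f) '' (Subtype.val '' (I : Set R))) :
    (Module.Finite k (R ⧸ I) ↔ Module.Finite k (R ⧸ J)) ∧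
    (Module.Finite k (R ⧸ I) → Module.finrank k (R ⧸ J) = Module.finrank k (R ⧸ I) + 1) ∧
    ∀ i, Ideal.map ((Pi.evalAlgHom k (fun _ : Fin s => PowerSeries k) i).comp R.val) J =
      Ideal.span {(Pi.mulSingle j (PowerSeries.X : PowerSeries k) : Fin s → PowerSeries k) i} *
        Ideal.map ((Pi.evalAlgHom k (fun _ : Fin s => PowerSeries k) i).comp R.val) I := by
  classical
  let I' : Submodule k (Fin s → PowerSeries k) := (I.restrictScalars k).map R.val.toLinearMap
  let J' : Submodule k (Fin s → PowerSeries k) := (J.restrictScalars k).map R.val.toLinearMap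
  have hJ' : J' = I'.map (mulXi k j) := SetLike.coe_injective (by
    show Subtype.val '' (J : Set R) = _
    rw [hIJ]
    rfl)
  have hlen : Module.length k ((Fin s → PowerSeries k) ⧸ J') =
      Module.length k ((Fin s → PowerSeries k) ⧸ I') + 1 := by
    rw [← length_quot_mulXi (k := k) j, hJ']
    refine Module.length_eq_add_of_exact
      (Submodule.mapQ I' _ (mulXi k j) (Submodule.le_comap_map _ _))
      (Submodule.factor (LinearMap.map_le_range)) ?_ (Submodule.factor_surjective _) ?_
    · refine (injective_iff_map_eq_zero _).2 fun z hz => ?_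
      obtain ⟨x, rfl⟩ := Submodule.Quotient.mk_surjective _ z
      rw [Submodule.mapQ_apply, Submodule.Quotient.mk_eq_zero] at hz
      obtain ⟨y, hy, hxy⟩ := hz
      rw [Submodule.Quotient.mk_eq_zero, ← mulXi_injective j hxy]
      exact hy
    · intro z
      obtain ⟨x, rfl⟩ := Submodule.Quotient.mk_surjective _ z
      constructor
      · intro hz
        obtain ⟨y, rfl⟩ := (Submodule.Quotient.mk_eq_zero (LinearMap.range (mulXi k j))).1 hz
        exact ⟨Submodule.Quotient.mk y, rfl⟩
      · rintro ⟨w, hw⟩
        obtain ⟨y, rfl⟩ := Submodule.Quotient.mk_surjective _ w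
        rw [← hw]
        exact (Submodule.Quotient.mk_eq_zero (LinearMap.range (mulXi k j))).2 ⟨y, rfl⟩
  rw [length_quot_ideal R I, length_quot_ideal R J] at hlen
  have hδ : Module.length k ((Fin s → PowerSeries k) ⧸ Subalgebra.toSubmodule R) =
      (Module.finrank k ((Fin s → PowerSeries k) ⧸ Subalgebra.toSubmodule R) : ℕ∞) :=
    Module.length_eq_finrank k _
  rw [hδ, add_right_comm] at hlen
  have hlen' := WithTop.add_right_cancel (ENat.coe_ne_top _) hlen
  have hiff : ∀ K : Ideal R, Module.Finite k (R ⧸ K) ↔ Module.length k (R ⧸ K) ≠ ⊤ := fun K => by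
    constructor
    · intro h; rw [Module.length_eq_finrank]; exact ENat.coe_ne_top _
    · intro h
      rw [Module.length_ne_top_iff, isFiniteLength_iff_isNoetherian_isArtinian] at h
      exact @Module.IsNoetherian.finite k (R ⧸ K) _ _ _ h.1
  refine ⟨?_, fun h => ?_, fun i => ?_⟩
  · rw [hiff, hiff, hlen']
    exact ⟨fun h => WithTop.add_ne_top.2 ⟨h, ENat.one_ne_top⟩, fun h => (WithTop.add_ne_top.1 h).1⟩
  · haveI := h
    haveI : Module.Finite k (R ⧸ J) := (hiff J).2 (by
      rw [hlen']; exact WithTop.add_ne_top.2 ⟨(hiff I).1 h, ENat.one_ne_top⟩)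
    rw [Module.length_eq_finrank, Module.length_eq_finrank] at hlen'
    apply ENat.coe_inj.1
    rw [Nat.cast_add, Nat.cast_one]
    exact hlen'
  · let φ := (Pi.evalAlgHom k (fun _ : Fin s => PowerSeries k) i).comp R.val
    have h1 : φ '' (J : Set R) =
        (fun x => (Pi.mulSingle j (PowerSeries.X : PowerSeries k) : Fin s → PowerSeries k) i * x) '' (φ '' (I : Set R)) := by
      have h := congrArg (fun S : Set (Fin s → PowerSeries k) => (fun f => f i) '' S) hIJ
      simp only [Set.image_image] at h
      rw [Set.image_image]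
      exact h
    show Ideal.map φ J = _
    rw [Ideal.map, h1, Ideal.map, Ideal.span_mul_span', Set.singleton_mul]

theorem le_order_of_map {k : Type u} [Field k] {s : ℕ} {R : Subalgebra k (Fin s → PowerSeries k)} {I : Ideal R}
    {i : Fin s} {n : ℕ}
    (h : Ideal.map ((Pi.evalAlgHom k (fun _ : Fin s => PowerSeries k) i).comp R.val) I = Ideal.span {PowerSeries.X ^ n})
    {g : R} (hg : g ∈ I) : (n : ℕ∞) ≤ ((g : Fin s → PowerSeries k) i).order := by
  have hm := Ideal.mem_map_of_mem ((Pi.evalAlgHom k (fun _ : Fin s => PowerSeries k) i).comp R.val) hg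
  rw [h, Ideal.mem_span_singleton] at hm
  obtain ⟨q, hq⟩ := hm
  show _ ≤ PowerSeries.order ((g : Fin s → PowerSeries k) i)
  rw [show (g : Fin s → PowerSeries k) i = PowerSeries.X ^ n * q from hq, PowerSeries.order_mul,
    PowerSeries.order_X_pow]
  exact le_self_add

/-- Let k be a field, s a natural number and R a k-subalgebra of the product of s copies of the power
series ring k[[x]], of finite codimension δ over k and local with residue field k (all components of
an element of R have the same constant term); write v_i for the x-adic order of the i-th component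
of an s-tuple, and let c = (c_1, …, c_s) be the conductor exponents, so that an s-tuple f satisfies
f·g ∈ R for every s-tuple g exactly when v_i(f) ≥ c_i for all i (over an algebraically closed field
such an R is precisely the completed local ring of a reduced curve singularity having s branches
sitting inside its normalisation, δ is its delta invariant and the conductor ideal is generated by
the x_i^{c_i}). Fix a branch j, a colength d and a branch-length vector a = (a_1, …, a_s) with a_j ≥
c_j, and let ξ be the s-tuple with x in the j-th place and 1 elsewhere. Call an ideal I of R of type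
(d, a) when it has colength d and, for every i, the ideal of k[[x]] generated by the i-th components
of its elements is (x^{a_i}). Then multiplication by ξ is a bijection from the ideals of type (d, a)
onto the ideals of type (d + 1, a + e_j), where a + e_j is a with its j-th entry raised by one: for
every ideal I of type (d, a) the set ξ·I is (the image of) an ideal of type (d + 1, a + e_j), and
every ideal of type (d + 1, a + e_j) is ξ·I for some ideal I of type (d, a). (The published
statement is the equality, in the Grothendieck ring of varieties, of the classes of the two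
corresponding branch-length strata of the punctual Hilbert scheme; this row states the bijection on
ideals underlying it, which is what the argument establishes; the published statement is over an
algebraically closed field, and this row allows any field.) -/
theorem result (k : Type u) [Field k] (s : ℕ)
    (R : Subalgebra k (Fin s → PowerSeries k))
    (hfin : Module.Finite k ((Fin s → PowerSeries k) ⧸ Subalgebra.toSubmodule R))
    (hloc : ∀ f ∈ R, ∀ i j : Fin s, PowerSeries.constantCoeff (f i) = PowerSeries.constantCoeff (f j))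
    (c : Fin s → ℕ)
    (hc : ∀ f : Fin s → PowerSeries k,
      (∀ g : Fin s → PowerSeries k, g * f ∈ R) ↔ ∀ i, ((c i : ℕ) : ℕ∞) ≤ (f i).order)
    (j : Fin s) (d : ℕ) (a : Fin s → ℕ) (hj : c j ≤ a j) :
    (∀ I ∈ {I : Ideal ↥R | Module.Finite k (↥R ⧸ I) ∧ Module.finrank k (↥R ⧸ I) = d ∧ (∀ i : Fin s, Ideal.map ((Pi.evalAlgHom k (fun _ : Fin s => PowerSeries k) i).comp R.val) I = Ideal.span {PowerSeries.X ^ (a i)})},
      ∃ J ∈ {I : Ideal ↥R | Module.Finite k (↥R ⧸ I) ∧ Module.finrank k (↥R ⧸ I) = d + 1 ∧ (∀ i : Fin s, Ideal.map ((Pi.evalAlgHom k (fun _ : Fin s => PowerSeries k) i).comp R.val) I = Ideal.span {PowerSeries.X ^ ((Function.update a j (a j + 1)) i)})},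
        (Subtype.val '' (J : Set ↥R)) = (fun f => Pi.mulSingle j PowerSeries.X * f) '' (Subtype.val '' (I : Set ↥R))) ∧
    (∀ J ∈ {I : Ideal ↥R | Module.Finite k (↥R ⧸ I) ∧ Module.finrank k (↥R ⧸ I) = d + 1 ∧ (∀ i : Fin s, Ideal.map ((Pi.evalAlgHom k (fun _ : Fin s => PowerSeries k) i).comp R.val) I = Ideal.span {PowerSeries.X ^ ((Function.update a j (a j + 1)) i)})},
      ∃ I ∈ {I : Ideal ↥R | Module.Finite k (↥R ⧸ I) ∧ Module.finrank k (↥R ⧸ I) = d ∧ (∀ i : Fin s, Ideal.map ((Pi.evalAlgHom k (fun _ : Fin s => PowerSeries k) i).comp R.val) I = Ideal.span {PowerSeries.X ^ (a i)})},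
        (Subtype.val '' (J : Set ↥R)) = (fun f => Pi.mulSingle j PowerSeries.X * f) '' (Subtype.val '' (I : Set ↥R))) := by
  classical
  let ξ : Fin s → PowerSeries k := Pi.mulSingle j PowerSeries.X
  -- tuples concentrated in the branch with large order lie in the ring
  have hcond : ∀ f : Fin s → PowerSeries k, (∀ i, i ≠ j → f i = 0) → (c j : ℕ∞) ≤ (f j).order → f ∈ R := by
    intro f h0 hj'
    have := (hc f).2 (fun i => by
      rcases eq_or_ne i j with rfl | hij
      · exact hj'
      · rw [h0 i hij, PowerSeries.order_zero]; exact le_top) 1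
    rwa [one_mul] at this
  have hord : ∀ (q : PowerSeries k), (a j : ℕ∞) ≤ q.order → (c j : ℕ∞) ≤ ((PowerSeries.X - 1) * q).order := fun q hq => by
    rw [PowerSeries.order_mul]
    exact ((Nat.cast_le.2 hj).trans hq).trans le_add_self
  constructor
  · rintro I ⟨hI1, hI2, hI3⟩
    have hmem : ∀ g ∈ I, ξ * (g : Fin s → PowerSeries k) ∈ R := fun g hg => by
      have h1 : ξ * (g : Fin s → PowerSeries k) - (g : Fin s → PowerSeries k) ∈ R := by
        refine hcond _ (fun i hi => ?_) ?_
        · simp [ξ, Pi.mulSingle_eq_of_ne hi]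
        · simp only [ξ, Pi.sub_apply, Pi.mul_apply, Pi.mulSingle_eq_same]
          rw [show PowerSeries.X * (g : Fin s → PowerSeries k) j - (g : Fin s → PowerSeries k) j =
            (PowerSeries.X - 1) * (g : Fin s → PowerSeries k) j by ring]
          exact hord _ (le_order_of_map (hI3 j) hg)
      simpa using add_mem h1 g.2
    let J : Ideal R :=
      { carrier := {x | ∃ g ∈ I, ξ * (g : Fin s → PowerSeries k) = x}
        add_mem' := by
          rintro x y ⟨g, hg, hgx⟩ ⟨h, hh, hhy⟩
          exact ⟨g + h, add_mem hg hh, by rw [Subalgebra.coe_add, mul_add, hgx, hhy]; rfl⟩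
        zero_mem' := ⟨0, zero_mem I, by simp⟩
        smul_mem' := by
          rintro r x ⟨g, hg, hgx⟩
          refine ⟨r * g, I.mul_mem_left r hg, ?_⟩
          simp only [Subalgebra.coe_mul, smul_eq_mul]
          rw [← hgx]; ring }
    have hIJ : (Subtype.val '' (J : Set R)) = (fun f => ξ * f) '' (Subtype.val '' (I : Set R)) := by
      ext f
      constructor
      · rintro ⟨x, ⟨g, hg, hgx⟩, rfl⟩; exact ⟨_, ⟨g, hg, rfl⟩, hgx⟩
      · rintro ⟨_, ⟨g, hg, rfl⟩, rfl⟩; exact ⟨⟨_, hmem g hg⟩, ⟨g, hg, rfl⟩, rfl⟩
    obtain ⟨h1, h2, h3⟩ := transfer R hfin j I J hIJ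
    refine ⟨J, ⟨h1.1 hI1, by rw [h2 hI1, hI2], fun i => ?_⟩, hIJ⟩
    rw [h3, hI3, Ideal.span_singleton_mul_span_singleton]
    rcases eq_or_ne i j with rfl | hij
    · rw [Pi.mulSingle_eq_same, Function.update_self, pow_succ']
    · rw [Pi.mulSingle_eq_of_ne hij, Function.update_of_ne hij, one_mul]
  · rintro J ⟨hJ1, hJ2, hJ3⟩
    have hdiv : ∀ x ∈ J, ∃ g ∈ R, ξ * g = (x : Fin s → PowerSeries k) := fun x hx => by
      have h := le_order_of_map (hJ3 j) hx
      rw [Function.update_self] at h
      obtain ⟨q, hq⟩ := PowerSeries.X_dvd_iff.2 (PowerSeries.coeff_zero_eq_constantCoeff (R := k) ▸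
        PowerSeries.coeff_of_lt_order 0 (lt_of_lt_of_le (by norm_cast; omega) h))
      have hqo : (a j : ℕ∞) ≤ q.order := by
        rw [hq, PowerSeries.order_mul, PowerSeries.order_X] at h
        push_cast at h
        rw [add_comm (a j : ℕ∞)] at h
        exact (WithTop.add_le_add_iff_left ENat.one_ne_top).1 h
      refine ⟨Function.update (x : Fin s → PowerSeries k) j q, ?_, funext fun i => ?_⟩
      · have h1 : Function.update (x : Fin s → PowerSeries k) j q - (x : Fin s → PowerSeries k) ∈ R := by
          refine hcond _ (fun i hi => by simp [Function.update_of_ne hi]) ?_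
          simp only [Pi.sub_apply, Function.update_self]
          rw [hq, show q - PowerSeries.X * q = -((PowerSeries.X - 1) * q) by ring, PowerSeries.order_neg]
          exact hord _ hqo
        simpa using add_mem h1 x.2
      · rcases eq_or_ne i j with rfl | hij
        · simp [ξ, hq]
        · simp [ξ, Pi.mulSingle_eq_of_ne hij, Function.update_of_ne hij]
    let I : Ideal R :=
      { carrier := {g | ∃ x ∈ J, ξ * (g : Fin s → PowerSeries k) = x}
        add_mem' := by
          rintro g h ⟨x, hx, hgx⟩ ⟨y, hy, hhy⟩
          exact ⟨x + y, add_mem hx hy, by rw [Subalgebra.coe_add, mul_add, hgx, hhy]; rfl⟩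
        zero_mem' := ⟨0, zero_mem J, by simp⟩
        smul_mem' := by
          rintro r g ⟨x, hx, hgx⟩
          refine ⟨r * x, J.mul_mem_left r hx, ?_⟩
          simp only [Subalgebra.coe_mul, smul_eq_mul]
          rw [← hgx]; ring }
    have hIJ : (Subtype.val '' (J : Set R)) = (fun f => ξ * f) '' (Subtype.val '' (I : Set R)) := by
      ext f
      constructor
      · rintro ⟨x, hx, rfl⟩
        obtain ⟨g, hg, hgx⟩ := hdiv x hx
        exact ⟨g, ⟨⟨g, hg⟩, ⟨x, hx, hgx⟩, rfl⟩, hgx⟩
      · rintro ⟨_, ⟨g, ⟨x, hx, hgx⟩, rfl⟩, rfl⟩; exact ⟨x, hx, hgx.symm⟩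
    obtain ⟨h1, h2, h3⟩ := transfer R hfin j I J hIJ
    have hI1 := h1.2 hJ1
    refine ⟨I, ⟨hI1, by have := h2 hI1; omega, fun i => ?_⟩, hIJ⟩
    have h := (h3 i).symm.trans (hJ3 i)
    rcases eq_or_ne i j with rfl | hij
    · rw [Pi.mulSingle_eq_same, Function.update_self, pow_succ',
        ← Ideal.span_singleton_mul_span_singleton] at h
      exact (Ideal.span_singleton_mul_right_inj PowerSeries.X_ne_zero).1 h
    · rwa [Pi.mulSingle_eq_of_ne hij, Function.update_of_ne hij, Ideal.span_singleton_one, Ideal.top_mul] at h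

end Groth.Agent.S15149
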