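import Groth.Statements.S1515
-- import your own Groth.Agent.* helpers here
import Groth.Agent.CancelLib.Diagonal
import Groth.Agent.RegSeqSlice.Section
import Groth.Agent.PerfMorLib.Examples

set_option autoImplicit false
universe u
attribute [local instance] HasDerivedCategory.standard
open FlatMor
open scoped TensorProduct
set_option backward.isDefEq.respectTransparency false

namespace Groth.Agent.S1515

open AlgebraicGeometry CategoryTheory Limits in
theorem isPerfectMor_diagonal_of_openImmersion {X Y S T : Scheme.{u}} (f : X ⟶ Y) (g : S ⟶ T) (i : S ⟶ X)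
    (j : T ⟶ Y) [IsOpenImmersion i] [IsOpenImmersion j] (w : g ≫ j = i ≫ f)
    (h : MoreMor.IsPerfectMor (pullback.diagonal f)) : MoreMor.IsPerfectMor (pullback.diagonal g) := by
  have hc : IsPullback i (pullback.diagonal g) (pullback.diagonal f) (pullback.map g g f f i i j w w) := by
    refine IsPullback.of_isLimit' ⟨by apply pullback.hom_ext <;> simp [pullback.map]⟩
      (PullbackCone.IsLimit.mk _ (fun s => s.snd ≫ pullback.fst g g) (fun s => ?_) (fun s => ?_) (fun s m h1 h2 => ?_))
    · have h1 := congrArg (· ≫ pullback.fst f f) s.condition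
      simp only [Category.assoc, pullback.diagonal_fst, Category.comp_id, pullback.map, pullback.lift_fst] at h1
      rw [Category.assoc, h1]
    · have h1 := congrArg (· ≫ pullback.fst f f) s.condition
      have h2 := congrArg (· ≫ pullback.snd f f) s.condition
      simp only [Category.assoc, pullback.diagonal_fst, pullback.diagonal_snd, Category.comp_id, pullback.map,
        pullback.lift_fst, pullback.lift_snd] at h1 h2
      have h3 : s.snd ≫ pullback.fst g g = s.snd ≫ pullback.snd g g := by
        rw [← cancel_mono i, Category.assoc, Category.assoc, ← h1, ← h2]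
      apply pullback.hom_ext <;> simp [h3]
    · rw [← h2, Category.assoc, pullback.diagonal_fst, Category.comp_id]
  exact PerfMorLib.isPerfectMor_of_flat_baseChange hc h

open AlgebraicGeometry CategoryTheory Limits in
/-- (1) ⇔ (2) ⇔ (4): let f : X → Y be separated and of finite type between locally Noetherian schemes,
with diagonal Δ (a closed immersion). Then f is smooth iff f is flat and Δ is a regular closed
immersion, iff f is flat and Δ is a perfect morphism. -/
theorem result {X Y : Scheme.{u}} (f : X ⟶ Y) [IsSeparated f] [LocallyOfFiniteType f] [QuasiCompact f] [IsLocallyNoetherian X] [IsLocallyNoetherian Y] :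
    (Smooth f ↔ Flat f ∧ Mor2.IsRegularClosedImmersion (pullback.diagonal f)) ∧
    (Smooth f ↔ Flat f ∧ MoreMor.IsPerfectMor (pullback.diagonal f)) := by
  have h12 : Smooth f → Flat f ∧ Mor2.IsRegularClosedImmersion (pullback.diagonal f) := fun hf =>
    ⟨inferInstance, RegSeqSlice.isRegularClosedImmersion_section (pullback.fst f f) (pullback.diagonal f)
      (pullback.diagonal_fst f)⟩
  have h23 : Flat f ∧ MoreMor.IsPerfectMor (pullback.diagonal f) → Smooth f := by
    rintro ⟨hfl, hd⟩
    rw [HasRingHomProperty.iff_appLE (P := @Smooth)]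
    rintro ⟨V, hV⟩ ⟨U, hU⟩ e
    letI : Algebra Γ(Y, V) Γ(X, U) := (f.appLE V U e).hom.toAlgebra
    haveI : IsNoetherianRing Γ(Y, V) := IsLocallyNoetherian.component_noetherian ⟨V, hV⟩
    haveI : Module.Flat Γ(Y, V) Γ(X, U) := HasRingHomProperty.appLE (P := @Flat) f hfl ⟨V, hV⟩ ⟨U, hU⟩ e
    haveI : Algebra.FiniteType Γ(Y, V) Γ(X, U) :=
      HasRingHomProperty.appLE (P := @LocallyOfFiniteType) f ‹_› ⟨V, hV⟩ ⟨U, hU⟩ e
    have hp : MoreMor.IsPerfectMor (pullback.diagonal (Spec.map (CommRingCat.ofHom (algebraMap Γ(Y, V) Γ(X, U))))) :=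
      isPerfectMor_diagonal_of_openImmersion f _ hU.fromSpec hV.fromSpec
        (IsAffineOpen.SpecMap_appLE_fromSpec f hV hU e) hd
    change PerfMorLib.perfectMor _ at hp
    rw [diagonal_SpecMap, MorphismProperty.cancel_right_of_respectsIso (P := PerfMorLib.perfectMor),
      HasRingHomProperty.Spec_iff (P := PerfMorLib.perfectMor)] at hp
    letI : Algebra (Γ(X, U) ⊗[Γ(Y, V)] Γ(X, U)) Γ(X, U) :=
      (Algebra.TensorProduct.lmul' Γ(Y, V) (S := Γ(X, U))).toRingHom.toAlgebra
    exact RingHom.smooth_algebraMap.mpr (CancelLib.smooth_of_diagonal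
      (fun x y => Algebra.TensorProduct.lmul'_apply_tmul x y) (PerfMorLib.hasFiniteTorDim_iff.mpr hp.2))
  refine ⟨⟨h12, fun h => h23 ⟨h.1, PerfMorLib.isPerfectMor_of_isRegularClosedImmersion _ h.2⟩⟩, ?_, h23⟩
  exact fun h => ⟨(h12 h).1, PerfMorLib.isPerfectMor_of_isRegularClosedImmersion _ (h12 h).2⟩

end Groth.Agent.S1515
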