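import Groth.Statements.S15150
import Mathlib

set_option autoImplicit false
universe u
open HilbZeta

namespace Groth.Agent.S15150
theorem pow_eq_bot {κ F : Type u} [Field κ] [CommRing F] [Algebra κ F] [Module.Finite κ F] (J : Ideal F)
    (hJ : IsNilpotent J) : J ^ Module.finrank κ F = ⊥ := by
  obtain ⟨n, hn⟩ := hJ
  by_contra hne
  have key : ∀ i, i ≤ Module.finrank κ F + 1 → Module.finrank κ ↥((J ^ i).restrictScalars κ) + i ≤ Module.finrank κ F := by
    intro i
    induction i with
    | zero => intro _; exact (Nat.add_zero _).le.trans (Submodule.finrank_le _)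
    | succ i ih =>
      intro hi
      have hlt : (J ^ (i + 1)).restrictScalars κ < (J ^ i).restrictScalars κ := by
        refine lt_of_le_of_ne (Ideal.pow_le_pow_right i.le_succ) fun heq => hne ?_
        have heq' : J ^ (i + 1) = J ^ i := Submodule.restrictScalars_injective κ _ _ heq
        have hst : ∀ k, J ^ (i + k) = J ^ i := by
          intro k
          induction k with
          | zero => rfl
          | succ k ihk => rw [← Nat.add_assoc, pow_succ, ihk, ← pow_succ, heq']
        have h0 : J ^ i = ⊥ := by
          rw [← hst n, pow_add, hn, mul_zero, Ideal.zero_eq_bot]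
        exact le_bot_iff.1 (h0 ▸ Ideal.pow_le_pow_right (by omega))
      have := ih (by omega)
      have := Submodule.finrank_lt_finrank_of_lt hlt
      omega
  have := key _ le_rfl
  omega


/-- Let A be a reduced commutative ring, S an A-algebra together with an A-algebra homomorphism π : S →
A (a section of Spec S → Spec A), with kernel m, and I an ideal of S such that S/I is a finite
projective A-module of constant rank d and m is contained in the radical of I (the finite flat
subscheme Spec S/I of degree d lies, as a set, on the section). Then m^d ⊆ I: the subscheme lies in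
the (d−1)-st infinitesimal neighbourhood of the section. (The published statement is for a closed
subscheme, flat and proper of degree d over a Noetherian base, of a family of reduced curve
singularities with a section, with no reducedness assumption on the base; over the dual numbers k[ε]
the ideal (x − ε) of k[ε][x] has quotient free of rank one and radical containing x but does not
contain x, so the base is taken reduced here, and the statement is given in its affine form, to
which the argument reduces at once; the curve hypotheses play no role and are dropped; the condition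
that Spec S/I lies set-theoretically on the section, which the published argument deduces from
properness of Z inside the germ, is a hypothesis here.) -/
theorem result (A : Type u) [CommRing A] [IsReduced A]
    (S : Type u) [CommRing S] [Algebra A S] (π : S →ₐ[A] A) (I : Ideal S) (d : ℕ)
    [Module.Finite A (S ⧸ I)] [Module.Projective A (S ⧸ I)]
    (hrank : ∀ p : PrimeSpectrum A, Module.rankAtStalk (R := A) (S ⧸ I) p = d)
    (hsupp : RingHom.ker π ≤ I.radical) :
    RingHom.ker π ^ d ≤ I := by
  classical
  intro x hx
  rw [← Ideal.Quotient.eq_zero_iff_mem]
  obtain ⟨n, b, i, hb, -, hbi⟩ := Module.Finite.exists_comp_eq_id_of_projective A (S ⧸ I)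
  suffices h : i (Ideal.Quotient.mk I x) = 0 by
    have := LinearMap.congr_fun hbi (Ideal.Quotient.mk I x)
    rw [LinearMap.comp_apply, h, map_zero] at this
    exact this.symm
  funext l
  refine IsNilpotent.eq_zero ?_
  rw [← mem_nilradical, nilradical_eq_sInf, Ideal.mem_sInf]
  intro p hp
  haveI : p.IsPrime := hp
  let κ := p.ResidueField
  let F := TensorProduct A κ (S ⧸ I)
  let ι : (S ⧸ I) →ₐ[A] F := Algebra.TensorProduct.includeRight
  let q : S →+* F := ι.toRingHom.comp (Ideal.Quotient.mk I)
  let J := (RingHom.ker π).map q
  haveI : IsNoetherianRing F := IsNoetherianRing.of_finite κ F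
  have hJ : IsNilpotent J := by
    rw [Ideal.FG.isNilpotent_iff_le_nilradical (IsNoetherian.noetherian J), Ideal.map_le_iff_le_comap]
    intro y hy
    obtain ⟨t, ht⟩ := hsupp hy
    refine ⟨t, ?_⟩
    rw [← map_pow]
    show ι (Ideal.Quotient.mk I (y ^ t)) = 0
    rw [Ideal.Quotient.eq_zero_iff_mem.2 ht, map_zero]
  have hd : Module.finrank κ F = d := (Module.rankAtStalk_eq (M := S ⧸ I) (⟨p, hp⟩ : PrimeSpectrum A)).symm.trans (hrank _)
  have h0 : q x = 0 := by
    have h1 := Ideal.mem_map_of_mem q hx
    rw [Ideal.map_pow, ← hd, pow_eq_bot J hJ, Submodule.mem_bot] at h1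
    exact h1
  let f : (S ⧸ I) →ₗ[A] A := LinearMap.proj l ∘ₗ i
  have h2 : TensorProduct.lift ((LinearMap.lsmul A κ).comp f).flip ((1 : κ) ⊗ₜ[A] Ideal.Quotient.mk I x) = 0 :=
    (congrArg _ h0).trans (map_zero _)
  show f (Ideal.Quotient.mk I x) ∈ p
  rw [← Ideal.algebraMap_residueField_eq_zero (I := p), Algebra.algebraMap_eq_smul_one]
  exact h2

end Groth.Agent.S15150
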