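import Groth.Statements.S15151
import Mathlib

set_option autoImplicit false
universe u
open CategoryTheory AlgebraicGeometry
open HilbZeta

namespace Groth.Agent.S15151

/-- Let k be a field, and let f : X → Y and g : Y → Spec k[t] be morphisms of schemes with f
quasi-compact and with zero kernel ideal sheaf (Y is the scheme-theoretic image of f), such that the
composite X → Spec k[t] is flat. Then g is flat; in particular a k[t]-subalgebra of a flat
k[t]-algebra is flat. (The published statement has no quasi-compactness hypothesis on f and is over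
an algebraically closed field; this row assumes f quasi-compact and allows any field.) -/
theorem result (k : Type u) [Field k]
    (X Y : Scheme.{u}) (f : X ⟶ Y) (g : Y ⟶ Spec (CommRingCat.of (Polynomial k)))
    [QuasiCompact f] (hker : f.ker = ⊥) [Flat (f ≫ g)] : Flat g := by
  refine HasRingHomProperty.of_iSup_eq_top (P := @Flat) (fun V : Y.affineOpens => V)
    (iSup_affineOpens_eq_top Y) fun V => ?_
  let R := Γ(Spec (CommRingCat.of (Polynomial k)), ⊤)
  let e : Polynomial k ≃+* R := (Scheme.ΓSpecIso (CommRingCat.of (Polynomial k))).symm.commRingCatIsoToRingEquiv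
  haveI : IsDomain R := e.symm.toMulEquiv.isDomain _
  haveI : IsPrincipalIdealRing R := IsPrincipalIdealRing.of_surjective e.toRingHom e.surjective
  let φ := g.appLE ⊤ V.1 le_top
  letI : Algebra R Γ(Y, V.1) := φ.hom.toAlgebra
  show Module.Flat R Γ(Y, V.1)
  rw [Module.Flat.flat_iff_torsion_eq_bot_of_isBezout, Submodule.eq_bot_iff]
  intro x hx
  obtain ⟨a, ha⟩ := hx
  have hker : RingHom.ker (f.app V.1).hom = ⊥ := by
    rw [← Scheme.Hom.ker_apply, hker]
    rfl
  have hinj := (RingHom.injective_iff_ker_eq_bot _).2 hker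
  refine hinj ?_
  rw [map_zero]
  refine X.sheaf.eq_of_locally_eq' (fun W : {W : X.affineOpens // W.1 ≤ f ⁻¹ᵁ V.1} => W.1.1) (f ⁻¹ᵁ V.1)
    (fun W => homOfLE W.2) (fun z hz => ?_) _ _ fun W => ?_
  · obtain ⟨W, hW, hzW, hWle⟩ := X.isBasis_affineOpens.exists_subset_of_mem_open hz (f ⁻¹ᵁ V.1).isOpen
    obtain ⟨W, hW', rfl⟩ := hW
    exact TopologicalSpace.Opens.mem_iSup.2 ⟨⟨⟨W, hW'⟩, hWle⟩, hzW⟩
  · refine Eq.trans ?_ (map_zero _).symm
    let ψ := (f ≫ g).appLE ⊤ W.1.1 le_top
    have hψ : ψ.hom.Flat := HasRingHomProperty.appLE (P := @Flat) _ inferInstance ⟨⊤, isAffineOpen_top _⟩ W.1 le_top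
    letI : Algebra R Γ(X, W.1.1) := ψ.hom.toAlgebra
    haveI : Module.Flat R Γ(X, W.1.1) := hψ
    have h1 := congrArg (f.appLE V.1 W.1.1 W.2).hom ha
    have h2 : (f.appLE V.1 W.1.1 W.2).hom (φ.hom a.1) = ψ.hom a.1 := by
      simp only [φ, ψ, ← CommRingCat.comp_apply, Scheme.Hom.appLE_comp_appLE]
    rw [Submonoid.smul_def, Algebra.smul_def, map_mul, map_zero, RingHom.algebraMap_toAlgebra, h2] at h1
    have h3 : (f.appLE V.1 W.1.1 W.2).hom x ∈ Submodule.torsion R Γ(X, W.1.1) := ⟨a, h1⟩
    rw [Module.Flat.torsion_eq_bot, Submodule.mem_bot] at h3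
    exact h3

end Groth.Agent.S15151
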