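import Groth.Statements.S15152
import Mathlib
-- import your own Groth.Agent.* helpers here

set_option autoImplicit false
set_option backward.isDefEq.respectTransparency false
set_option maxHeartbeats 800000
set_option synthInstance.maxHeartbeats 200000
universe u
open HilbZeta

namespace Groth.Agent.S15152

/-- Let k be a field, s a natural number and R a k-subalgebra of the product of s copies of the power
series ring k[[x]], of finite codimension δ over k and local with residue field k (all components of
an element of R have the same constant term); write v_i for the x-adic order of the i-th component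
of an s-tuple, and let c = (c_1, …, c_s) be the conductor exponents, so that an s-tuple f satisfies
f·g ∈ R for every s-tuple g exactly when v_i(f) ≥ c_i for all i (over an algebraically closed field
such an R is precisely the completed local ring of a reduced curve singularity having s branches
sitting inside its normalisation, δ is its delta invariant and the conductor ideal is generated by
the x_i^{c_i}). Let A be the k-subalgebra of the product of s polynomial rings k[x] consisting of
the tuples whose image in the power series product lies in R, and m₀ its ideal of tuples with zero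
constant terms. Then: A is of finite type over k and has no idempotents besides 0 and 1; the product
of polynomial rings is a finite A-module, and for some N every product of N elements of m₀
multiplies all of it into A; every element of R is approximated to any x-adic order by elements of
A; and for every N there is an M such that every element of A whose components are all divisible by
x^M lies in m₀^N. In words: Y = Spec A is a connected affine curve whose normalisation is the
disjoint union of s affine lines and is an isomorphism away from the origin, and the completed local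
ring of Y at the origin is R, compatibly with the inclusion of the polynomial product in the power
series product. (The published statement asserts the existence of such a curve Y and is over an
algebraically closed field; this row names Y and allows any field.) -/
theorem result (k : Type u) [Field k] (s : ℕ)
    (R : Subalgebra k (Fin s → PowerSeries k))
    (hfin : Module.Finite k ((Fin s → PowerSeries k) ⧸ Subalgebra.toSubmodule R))
    (hloc : ∀ f ∈ R, ∀ i j : Fin s, PowerSeries.constantCoeff (f i) = PowerSeries.constantCoeff (f j))
    (c : Fin s → ℕ)
    (hc : ∀ f : Fin s → PowerSeries k,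
      (∀ g : Fin s → PowerSeries k, g * f ∈ R) ↔ ∀ i, ((c i : ℕ) : ℕ∞) ≤ (f i).order)
    (A : Subalgebra k (Fin s → Polynomial k))
    (hA : ∀ g : Fin s → Polynomial k, g ∈ A ↔ (fun i => ((g i : Polynomial k) : PowerSeries k)) ∈ R) :
    Algebra.FiniteType k ↥A ∧
    (∀ e ∈ A, e * e = e → e = 0 ∨ e = 1) ∧
    Module.Finite ↥A (Fin s → Polynomial k) ∧
    (∃ N : ℕ, ∀ g : Fin N → (Fin s → Polynomial k),
      (∀ n, g n ∈ A ∧ ∀ i, (g n i).coeff 0 = 0) → ∀ p : Fin s → Polynomial k, p * ∏ n, g n ∈ A) ∧
    (∀ f ∈ R, ∀ N : ℕ, ∃ g ∈ A, ∀ i : Fin s, (N : ℕ∞) ≤ (f i - ((g i : Polynomial k) : PowerSeries k)).order) ∧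
    (∀ N : ℕ, ∃ M : ℕ, ∀ g : ↥A, (∀ i : Fin s, Polynomial.X ^ M ∣ (g : Fin s → Polynomial k) i) →
      g ∈ (Ideal.span {h : ↥A | ∀ i : Fin s, ((h : Fin s → Polynomial k) i).coeff 0 = 0}) ^ N) := by
    classical
    let C := Finset.univ.sup c + 1
    have hC : ∀ i, c i ≤ C := fun i => (Finset.le_sup (Finset.mem_univ i)).trans (Nat.le_succ _)
    have hsmall : ∀ f : Fin s → PowerSeries k, (∀ i, (C : ℕ∞) ≤ (f i).order) → f ∈ R := fun f hf => by
      have := (hc f).2 (fun i => le_trans (by exact_mod_cast hC i) (hf i)) 1
      rwa [one_mul] at this
    have hbig : ∀ g : Fin s → Polynomial k, (∀ i, Polynomial.X ^ C ∣ g i) → g ∈ A := fun g hg => by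
      refine (hA g).2 (hsmall _ fun i => PowerSeries.nat_le_order _ C fun j hj => ?_)
      rw [Polynomial.coeff_coe]
      exact Polynomial.X_pow_dvd_iff.1 (hg i) j hj
    let t : A := ⟨fun _ => Polynomial.X ^ C, hbig _ fun _ => dvd_rfl⟩
    have : Algebra.FiniteType A (Fin s → Polynomial k) :=
      Algebra.FiniteType.of_restrictScalars_finiteType k _ _
    have : Algebra.IsIntegral A (Fin s → Polynomial k) := ⟨fun v => by
      have hX : IsIntegral A (fun _ : Fin s => (Polynomial.X : Polynomial k)) :=
        IsIntegral.of_pow (n := C) (Nat.succ_pos _) (isIntegral_algebraMap (R := A) (x := t))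
      have hconst : ∀ q : Polynomial k, IsIntegral A (fun _ : Fin s => q) := fun q => by
        induction q using Polynomial.induction_on' with
        | add p q hp hq => exact hp.add hq
        | monomial j a =>
          rw [← Polynomial.C_mul_X_pow_eq_monomial]
          exact IsIntegral.mul (x := fun _ : Fin s => Polynomial.C a)
            ((isIntegral_algebraMap (R := k) (A := Fin s → Polynomial k) (x := a)).tower_top) (hX.pow j)
      rw [← Finset.univ_sum_single v]
      refine IsIntegral.sum _ fun i _ => ?_
      have hsq : IsIntegral A (Pi.single i 1 : Fin s → Polynomial k) :=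
        ⟨Polynomial.X ^ 2 - Polynomial.X, Polynomial.monic_X_pow_sub (lt_of_le_of_lt Polynomial.degree_X_le (by norm_num)), by
          rw [Polynomial.eval₂_sub, Polynomial.eval₂_X_pow, Polynomial.eval₂_X, sub_eq_zero, sq, ← Pi.single_mul, mul_one]⟩
      rw [show (Pi.single i (v i) : Fin s → Polynomial k) = Pi.single i 1 * fun _ => v i from funext fun j => by
        by_cases h : j = i <;> simp [Pi.single_apply, h]]
      exact hsq.mul (hconst _)⟩
    have hfinP : Module.Finite A (Fin s → Polynomial k) := Algebra.IsIntegral.finite
    have hFT : Algebra.FiniteType k A := ⟨fg_of_fg_of_fg k A (Fin s → Polynomial k) Algebra.FiniteType.out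
      Module.Finite.fg_top Subtype.val_injective⟩
    refine ⟨hFT, ?_, hfinP, ⟨C, ?_⟩, ?_, ?_⟩
    · intro e he hee
      have h01 : ∀ i, e i = 0 ∨ e i = 1 := fun i => IsIdempotentElem.iff_eq_zero_or_one.1 (congrFun hee i)
      have hcst : ∀ i j, e i = e j := fun i j => by
        have := hloc _ ((hA e).1 he) i j
        rw [← PowerSeries.coeff_zero_eq_constantCoeff_apply, ← PowerSeries.coeff_zero_eq_constantCoeff_apply,
          Polynomial.coeff_coe, Polynomial.coeff_coe] at this
        rcases h01 i with h | h <;> rcases h01 j with h' | h' <;> simp_all
      rcases isEmpty_or_nonempty (Fin s) with hs | ⟨⟨i⟩⟩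
      · exact Or.inl (Subsingleton.elim _ _)
      · exact (h01 i).imp (fun h => funext fun j => (hcst j i).trans h) fun h => funext fun j => (hcst j i).trans h
    · intro g hg p
      refine hbig _ fun i => ?_
      rw [Pi.mul_apply, Finset.prod_apply]
      refine Dvd.dvd.mul_left ?_ _
      calc Polynomial.X ^ C = ∏ _n : Fin C, (Polynomial.X : Polynomial k) := by simp
        _ ∣ ∏ n, g n i := Finset.prod_dvd_prod_of_dvd _ _ fun n _ => Polynomial.X_dvd_iff.2 ((hg n).2 i)
    · intro f hf N
      let g : Fin s → Polynomial k := fun i => PowerSeries.trunc (max N C) (f i)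
      have ho : ∀ i, ((max N C : ℕ) : ℕ∞) ≤ (f i - (g i : PowerSeries k)).order := fun i =>
        PowerSeries.nat_le_order _ _ fun j hj => by
          rw [map_sub, Polynomial.coeff_coe, PowerSeries.coeff_trunc, if_pos hj, sub_self]
      refine ⟨g, (hA g).2 ?_, fun i => le_trans (by exact_mod_cast le_max_left N C) (ho i)⟩
      have := R.sub_mem hf (hsmall _ fun i => le_trans (by exact_mod_cast le_max_right N C) (ho i))
      convert this using 1
      funext i
      simp
    · intro N
      refine ⟨C * N, fun g hg => ?_⟩
      rcases N with _ | N
      · rw [pow_zero, Ideal.one_eq_top]; exact Submodule.mem_top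
      choose p hp using hg
      have hm : ∀ q : Fin s → Polynomial k, ∀ hq : (fun i => Polynomial.X ^ C * q i) ∈ A,
          (⟨_, hq⟩ : A) ∈ Ideal.span {h : ↥A | ∀ i : Fin s, ((h : Fin s → Polynomial k) i).coeff 0 = 0} := fun q hq =>
        Ideal.subset_span fun i => by
          show (Polynomial.X ^ C * q i).coeff 0 = 0
          rw [Polynomial.mul_coeff_zero, Polynomial.coeff_X_pow, if_neg (by omega), zero_mul]
      have e : g = t ^ N * ⟨fun i => Polynomial.X ^ C * p i, hbig _ fun i => dvd_mul_right _ _⟩ :=
        Subtype.ext (funext fun i => by
          rw [hp i, MulMemClass.coe_mul, SubmonoidClass.coe_pow, Pi.mul_apply, Pi.pow_apply, Nat.mul_succ, pow_add, pow_mul]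
          exact mul_assoc _ _ _)
      rw [e, pow_succ]
      refine Ideal.mul_mem_mul (Ideal.pow_mem_pow (Ideal.subset_span fun i => ?_) N) (hm _ _)
      show (Polynomial.X ^ C : Polynomial k).coeff 0 = 0
      rw [Polynomial.coeff_X_pow, if_neg (by omega)]

end Groth.Agent.S15152
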