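import Groth.Statements.S15153
import Mathlib

set_option autoImplicit false
universe u
open TensorProduct
open HilbZeta

namespace Groth.Agent.S15153

/-- Linear independence of the images of finitely many tuples is an open condition on the prime. -/
theorem isOpen_linearIndependent {A : Type u} [CommRing A] {ι κ : Type} [Fintype ι] [Fintype κ]
    (v : ι → κ → A) :
    IsOpen {p : PrimeSpectrum A |
      LinearIndependent p.asIdeal.ResidueField fun i => algebraMap A p.asIdeal.ResidueField ∘ v i} := by
  classical
  rw [isOpen_iff_forall_mem_open]
  intro p hp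
  let F := p.asIdeal.ResidueField
  have hinj : Function.Injective (Fintype.linearCombination F fun i => algebraMap A F ∘ v i) :=
    linearIndependent_iff_injective_fintypeLinearCombination.1 hp
  obtain ⟨l, hl⟩ := LinearMap.exists_leftInverse_of_injective _ (LinearMap.ker_eq_bot.2 hinj)
  have hfr : ∀ x : F, ∃ a s : A, s ∉ p.asIdeal ∧ x * algebraMap A F s = algebraMap A F a := by
    intro x
    obtain ⟨y, z, hz, rfl⟩ := IsFractionRing.div_surjective (A := A ⧸ p.asIdeal) x
    obtain ⟨a, rfl⟩ := Ideal.Quotient.mk_surjective y
    obtain ⟨s, rfl⟩ := Ideal.Quotient.mk_surjective z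
    have hs : s ∉ p.asIdeal := fun h => nonZeroDivisors.ne_zero hz (Ideal.Quotient.eq_zero_iff_mem.2 h)
    refine ⟨a, s, hs, ?_⟩
    rw [IsScalarTower.algebraMap_apply A (A ⧸ p.asIdeal) F, IsScalarTower.algebraMap_apply A (A ⧸ p.asIdeal) F]
    exact div_mul_cancel₀ _ fun h => by
      rw [← map_zero (algebraMap (A ⧸ p.asIdeal) F)] at h
      exact nonZeroDivisors.ne_zero hz (IsFractionRing.injective (A ⧸ p.asIdeal) F h)
  choose a s hs has using hfr
  let L : ι → κ → F := fun i k => l (Pi.single k 1) i
  let c : A := ∏ x : ι × κ, s (L x.1 x.2)
  let L' : ι → κ → A := fun i k => a (L i k) * ∏ x ∈ Finset.univ.erase (i, k), s (L x.1 x.2)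
  have hL' : ∀ i k, algebraMap A F (L' i k) = L i k * algebraMap A F c := fun i k => by
    show algebraMap A F (a (L i k) * _) = _
    rw [map_mul, ← has, show c = s (L i k) * ∏ x ∈ Finset.univ.erase (i, k), s (L x.1 x.2) from
      (Finset.mul_prod_erase _ _ (Finset.mem_univ (i, k))).symm, map_mul]
    ring
  let W : Matrix ι ι A := fun i j => ∑ k, L' i k * v j k
  have hW : W.map (algebraMap A F) = algebraMap A F c • (1 : Matrix ι ι F) := by
    ext i j
    have h1 : l (algebraMap A F ∘ v j) = Pi.single j 1 := by
      have := LinearMap.congr_fun hl (Pi.single j 1)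
      rw [LinearMap.comp_apply, Fintype.linearCombination_apply_single, one_smul] at this
      exact this
    have h2 : l (algebraMap A F ∘ v j) i = ∑ k, algebraMap A F (v j k) * L i k := by
      conv_lhs => rw [pi_eq_sum_univ' (algebraMap A F ∘ v j)]
      simp [map_sum, L]
      exact Finset.sum_congr rfl fun k _ => Algebra.smul_def _ _
    rw [Matrix.map_apply, Matrix.smul_apply, Matrix.one_apply]
    show algebraMap A F (∑ k, L' i k * v j k) = _
    rw [map_sum]
    calc ∑ k, algebraMap A F (L' i k * v j k) = algebraMap A F c * l (algebraMap A F ∘ v j) i := by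
          rw [h2, Finset.mul_sum]
          exact Finset.sum_congr rfl fun k _ => by rw [map_mul, hL']; ring
      _ = _ := by rw [h1, Pi.single_apply, smul_eq_mul]
  refine ⟨PrimeSpectrum.basicOpen W.det, fun p' hp' => ?_, (PrimeSpectrum.basicOpen W.det).2, ?_⟩
  · let F' := p'.asIdeal.ResidueField
    show LinearIndependent F' _
    rw [Fintype.linearIndependent_iff]
    intro g hg
    have hdet : (W.map (algebraMap A F')).det ≠ 0 := by
      rw [← RingHom.mapMatrix_apply, ← RingHom.map_det, Ne, Ideal.algebraMap_residueField_eq_zero]
      exact hp'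
    have hzero : (W.map (algebraMap A F')).mulVec g = 0 := by
      ext i
      show ∑ x, algebraMap A F' (∑ k, L' i k * v x k) * g x = 0
      simp only [map_sum, map_mul, Finset.sum_mul]
      rw [Finset.sum_comm]
      refine Finset.sum_eq_zero fun k _ => ?_
      have := congrFun hg k
      simp only [Finset.sum_apply, Pi.smul_apply, Function.comp_apply, smul_eq_mul, Pi.zero_apply] at this
      calc ∑ x, algebraMap A F' (L' i k) * algebraMap A F' (v x k) * g x
          = algebraMap A F' (L' i k) * ∑ x, g x * algebraMap A F' (v x k) := by
            rw [Finset.mul_sum]; exact Finset.sum_congr rfl fun x _ => by ring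
        _ = 0 := by rw [this, mul_zero]
    exact congrFun (Matrix.eq_zero_of_mulVec_eq_zero hdet hzero)
  · show W.det ∉ p.asIdeal
    rw [← Ideal.algebraMap_residueField_eq_zero, RingHom.map_det, RingHom.mapMatrix_apply, hW,
      Matrix.det_smul, Matrix.det_one, mul_one]
    refine pow_ne_zero _ ?_
    rw [Ne, Ideal.algebraMap_residueField_eq_zero]
    intro h
    obtain ⟨x, -, hx⟩ := Ideal.IsPrime.prod_mem_iff.1 h
    exact hs _ hx

/-- The fibre rank of a finitely generated submodule of a free module is constructible. -/
theorem isConstructible_finrank_span {A : Type u} [CommRing A] [IsNoetherianRing A] {κ : Type} [Fintype κ]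
    {l : ℕ} (v : Fin l → κ → A) (n : ℕ) :
    Topology.IsConstructible {p : PrimeSpectrum A |
      Module.finrank p.asIdeal.ResidueField
        (Submodule.span p.asIdeal.ResidueField
          (Set.range fun i => algebraMap A p.asIdeal.ResidueField ∘ v i)) = n} := by
  classical
  let r : PrimeSpectrum A → ℕ := fun p => Module.finrank p.asIdeal.ResidueField
    (Submodule.span p.asIdeal.ResidueField (Set.range fun i => algebraMap A p.asIdeal.ResidueField ∘ v i))
  have hopen : ∀ m, IsOpen {p | m ≤ r p} := by
    intro m
    rw [isOpen_iff_forall_mem_open]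
    intro p (hp : m ≤ r p)
    let F := p.asIdeal.ResidueField
    obtain ⟨b, hbs, hspan, hli⟩ := exists_linearIndependent F (Set.range fun i => algebraMap A F ∘ v i)
    haveI : Fintype b := ((Set.finite_range _).subset hbs).fintype
    have hcard : m ≤ Fintype.card b := by
      refine hp.trans (le_of_eq ?_)
      show Module.finrank F _ = _
      rw [← hspan]
      exact (finrank_span_set_eq_card hli).trans (Set.toFinset_card b)
    choose f hf using fun i : b => hbs i.2
    obtain ⟨e⟩ := Function.Embedding.nonempty_of_card_le (α := Fin m) (β := b) (by simpa using hcard)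
    refine ⟨_, ?_, isOpen_linearIndependent fun i => v (f (e i)), ?_⟩
    · intro p' (hp' : LinearIndependent p'.asIdeal.ResidueField _)
      show m ≤ r p'
      have := finrank_span_eq_card hp'
      rw [Fintype.card_fin] at this
      rw [← this]
      exact Submodule.finrank_mono (Submodule.span_mono (by rintro _ ⟨i, rfl⟩; exact ⟨f (e i), rfl⟩))
    · show LinearIndependent F fun i => algebraMap A F ∘ v (f (e i))
      have : (fun i => algebraMap A F ∘ v (f (e i))) = (Subtype.val : b → κ → F) ∘ e := funext fun i => hf (e i)
      rw [this]
      exact hli.comp e e.injective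
  have heq : {p | r p = n} = {p | n ≤ r p} \ {p | n + 1 ≤ r p} := by
    ext p
    simp only [Set.mem_setOf_eq, Set.mem_sdiff]
    omega
  show Topology.IsConstructible {p | r p = n}
  rw [heq]
  have hret : ∀ U : Set (PrimeSpectrum A), IsRetrocompact U := fun U V _ _ =>
    TopologicalSpace.NoetherianSpace.isCompact _
  exact ((hret _).isConstructible (hopen n)).sdiff ((hret _).isConstructible (hopen (n + 1)))

/-- Let A be a Noetherian commutative ring, S a commutative A-algebra and Q an S-module which is finite
and flat as an A-module. For a prime p of A with residue field κ(p), multiplication by an element of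
S induces a κ(p)-linear endomorphism of the fibre κ(p) ⊗_A Q; let φ(p) be the κ(p)-dimension of the
span of these endomorphisms, which is the colength of the annihilator of the fibre module κ(p) ⊗_A Q
in the fibre algebra κ(p) ⊗_A S (the length of the smallest subscheme of the fibre carrying it).
Then p ↦ φ(p) is a constructible function: for every n the primes with φ(p) = n form a constructible
subset of Spec A. (The published statement is for a coherent sheaf, flat and finite over a
Noetherian base, on a family of reduced curve singularities with a section, and its function of the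
base point is this colength; the curve hypotheses play no role and the row is the affine form over
any Noetherian ring.) -/
theorem result (A : Type u) [CommRing A] [IsNoetherianRing A]
    (S : Type u) [CommRing S] [Algebra A S]
    (Q : Type u) [AddCommGroup Q] [Module A Q] [Module S Q] [IsScalarTower A S Q]
    [Module.Finite A Q] [Module.Flat A Q] (n : ℕ) :
    Topology.IsConstructible {p : PrimeSpectrum A |
      Module.finrank p.asIdeal.ResidueField
        (Submodule.span p.asIdeal.ResidueField
          (Set.range fun s : S =>
            LinearMap.baseChange p.asIdeal.ResidueField (DistribSMul.toLinearMap A Q s))) = n} := by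
  classical
  haveI : Module.FinitePresentation A Q := Module.finitePresentation_of_finite A Q
  haveI : Module.Projective A Q := Module.Flat.projective_of_finitePresentation
  obtain ⟨m, r, hr⟩ := Module.Finite.exists_fin' A Q
  obtain ⟨i, hi⟩ := Module.projective_lifting_property r LinearMap.id hr
  let T : S →ₗ[A] (Fin m × Fin m → A) :=
    { toFun := fun s jk => i (s • r (Pi.single jk.2 1)) jk.1
      map_add' := fun s s' => by ext jk; simp [add_smul]
      map_smul' := fun a s => by ext jk; simp }
  obtain ⟨l, v, hv⟩ := Submodule.fg_iff_exists_fin_generating_family.1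
    (IsNoetherian.noetherian (LinearMap.range T))
  convert isConstructible_finrank_span v n using 1
  ext p
  simp only [Set.mem_setOf_eq]
  let F := p.asIdeal.ResidueField
  let Qp := F ⊗[A] Q
  let eF := TensorProduct.piScalarRight A F F (Fin m)
  let rp : (Fin m → F) →ₗ[F] Qp := (r.baseChange F).comp eF.symm.toLinearMap
  let ip : Qp →ₗ[F] (Fin m → F) := eF.toLinearMap.comp (i.baseChange F)
  have hri : ∀ x, rp (ip x) = x := fun x => by
    show r.baseChange F (eF.symm (eF (i.baseChange F x))) = x
    rw [eF.symm_apply_apply, ← LinearMap.comp_apply, ← LinearMap.baseChange_comp, hi,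
      LinearMap.baseChange_id, LinearMap.id_apply]
  let Φ : (Qp →ₗ[F] Qp) →ₗ[F] (Fin m × Fin m → F) :=
    { toFun := fun φ jk => ip (φ (rp (Pi.single jk.2 1))) jk.1
      map_add' := fun φ φ' => by ext jk; simp
      map_smul' := fun c φ => by ext jk; simp }
  have hΦ : Function.Injective Φ := by
    intro φ φ' h
    have h1 : ip.comp (φ.comp rp) = ip.comp (φ'.comp rp) := by
      apply (Pi.basisFun F (Fin m)).ext
      intro k
      ext j
      simpa [Φ] using congrFun h (j, k)
    refine LinearMap.ext fun x => ?_
    have h2 := LinearMap.congr_fun h1 (ip x)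
    simp only [LinearMap.comp_apply, hri] at h2
    have := congrArg rp h2
    rwa [hri, hri] at this
  have hΦs : ∀ s : S, Φ (LinearMap.baseChange F (DistribSMul.toLinearMap A Q s)) =
      algebraMap A F ∘ T s := fun s => by
    ext ⟨j, k⟩
    show eF (i.baseChange F ((DistribSMul.toLinearMap A Q s).baseChange F (r.baseChange F (eF.symm (Pi.single k 1))))) j = _
    rw [TensorProduct.piScalarRight_symm_single, LinearMap.baseChange_tmul, LinearMap.baseChange_tmul,
      LinearMap.baseChange_tmul, TensorProduct.piScalarRight_apply, TensorProduct.piScalarRightHom_tmul]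
    simp [T, Algebra.smul_def]
  have hspan : (Submodule.span F (Set.range fun s : S =>
      LinearMap.baseChange F (DistribSMul.toLinearMap A Q s))).map Φ =
      Submodule.span F (Set.range fun i => algebraMap A F ∘ v i) := by
    rw [Submodule.map_span, ← Set.range_comp]
    let c : (Fin m × Fin m → A) →ₗ[A] (Fin m × Fin m → F) := (Algebra.linearMap A F).compLeft _
    refine le_antisymm (Submodule.span_le.2 ?_) (Submodule.span_le.2 ?_)
    · rintro _ ⟨s, rfl⟩
      show Φ _ ∈ _
      rw [hΦs]
      have hs : c (T s) ∈ (Submodule.span A (Set.range v)).map c :=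
        Submodule.mem_map_of_mem (hv.symm ▸ ⟨s, rfl⟩)
      rw [Submodule.map_span, ← Set.range_comp] at hs
      exact Submodule.span_le_restrictScalars A F _ hs
    · rintro _ ⟨k, rfl⟩
      obtain ⟨s, hs⟩ : v k ∈ LinearMap.range T := hv ▸ Submodule.subset_span (Set.mem_range_self k)
      refine Submodule.subset_span ⟨s, ?_⟩
      show Φ _ = _
      rw [hΦs, hs]
  rw [← hspan, LinearEquiv.finrank_eq (Submodule.equivMapOfInjective Φ hΦ _)]

end Groth.Agent.S15153
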