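import Groth.Statements.S15155
import Groth.Agent.FBaseLib.SkewSquare
-- import your own Groth.Agent.* helpers here

set_option autoImplicit false
open CAlg

namespace Groth.Agent.S15155

/-- Let J be the 2m × 2m block matrix with blocks 0, I_m in the first row and −I_m, 0 in the second,
over the complex numbers. On the set of complex 2m × 2m matrices A with ᵗA · J = J · A (equivalently
ᵗA = J A J⁻¹, J being invertible), the characteristic polynomial is the square of a single
polynomial in the entries of A with coefficients in ℂ[X], and the determinant is the square of a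
single polynomial in the entries of A. -/
theorem result (m : ℕ) :
    (∃ P : MvPolynomial ((Fin m ⊕ Fin m) × (Fin m ⊕ Fin m)) (Polynomial ℂ),
      ∀ A : Matrix (Fin m ⊕ Fin m) (Fin m ⊕ Fin m) ℂ,
        A.transpose * Matrix.fromBlocks 0 1 (-1) 0 = Matrix.fromBlocks 0 1 (-1) 0 * A →
        A.charpoly = (MvPolynomial.eval (fun ij => Polynomial.C (A ij.1 ij.2)) P) ^ 2) ∧
    (∃ Q : MvPolynomial ((Fin m ⊕ Fin m) × (Fin m ⊕ Fin m)) ℂ,
      ∀ A : Matrix (Fin m ⊕ Fin m) (Fin m ⊕ Fin m) ℂ,
        A.transpose * Matrix.fromBlocks 0 1 (-1) 0 = Matrix.fromBlocks 0 1 (-1) 0 * A →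
        A.det = (MvPolynomial.eval (fun ij => A ij.1 ij.2) Q) ^ 2) := by
  let J : Matrix (Fin m ⊕ Fin m) (Fin m ⊕ Fin m) ℂ := Matrix.fromBlocks 0 1 (-1) 0
  have hJ : J.transpose = -J := by
    simp [J, Matrix.fromBlocks_transpose, Matrix.fromBlocks_neg]
  have hJJ : J * J = -1 := by
    simp [J, Matrix.fromBlocks_multiply, ← Matrix.fromBlocks_one, Matrix.fromBlocks_neg]
  have hdet : J.det ≠ 0 := fun h => by
    have h1 := congrArg Matrix.det hJJ
    rw [Matrix.det_mul, h, zero_mul, Matrix.det_neg, Matrix.det_one, mul_one] at h1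
    exact pow_ne_zero _ (by norm_num) h1.symm
  obtain ⟨P, hP⟩ := Groth.Agent.FBaseLib.exists_charpoly_sq J hJ hdet
  refine ⟨⟨P, fun A hA => hP A hA⟩, MvPolynomial.map (Polynomial.evalRingHom 0) P, fun A hA => ?_⟩
  have h := congrArg (Polynomial.eval 0) (hP A hA)
  rw [Polynomial.eval_pow, ← Polynomial.coeff_zero_eq_eval_zero] at h
  rw [Matrix.det_eq_sign_charpoly_coeff, h, Fintype.card_sum, ← two_mul, pow_mul, neg_one_sq, one_pow, one_mul]
  congr 1
  rw [MvPolynomial.eval_map, ← Polynomial.coe_evalRingHom, MvPolynomial.eval, MvPolynomial.coe_eval₂Hom,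
    MvPolynomial.eval₂_comp_left, RingHom.comp_id]
  congr 1
  funext ij
  exact Polynomial.eval_C

end Groth.Agent.S15155
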