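import Groth.Statements.S16470
import Groth.Agent.VBLib.Max
-- import your own Groth.Agent.* helpers here

set_option autoImplicit false
set_option backward.isDefEq.respectTransparency false
universe u
open CategoryTheory CategoryTheory.Limits AlgebraicGeometry
open VBCurve

namespace Groth.Agent.S16470
open CategoryTheory CategoryTheory.Limits AlgebraicGeometry

/-- Let X be a smooth proper integral curve (integral, smooth and proper of dimension one) over an
algebraically closed field k and E a finite locally free O_X-module of rank r ≥ 1 (degree = χ −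
rank·χ(O_X), slope = degree / rank). There is a finite locally free submodule E₁ ⊂ E (a monomorphism
of O_X-modules) of some rank r₁ ≥ 1, the destabilising sub-bundle, such that: every finite locally
free submodule F ⊂ E of rank r' ≥ 1 has slope at most that of E₁ (deg F · r₁ ≤ deg E₁ · r'); and the
maximal slope drops in the quotient, i.e. every finite locally free submodule G of rank r' ≥ 1 of
the cokernel E/E₁ has deg G · r₁ < deg E₁ · r'. Moreover a submodule with these two properties is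
unique: any two are the same subobject of E. (Such an E₁ is slope-semistable, every submodule of E₁
being a submodule of E; the published statement lists semistability of E₁ as a third property, which
is therefore omitted here.) -/
theorem result (k : Type u) [Field k] [IsAlgClosed k] (X : Scheme.{u}) [X.Over (Spec (CommRingCat.of k))]
    [IsIntegral X] [IsProper (X ↘ Spec (CommRingCat.of k))] [Smooth (X ↘ Spec (CommRingCat.of k))]
    (hdim : topologicalKrullDim X = 1)
    (r : ℕ) (hr : 0 < r) (E : X.Modules) (hE : FlatMod.IsFinLocFreeOfRank r E) :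
    (∃ (E₁ : X.Modules) (r₁ : ℕ) (i₁ : E₁ ⟶ E), Mono i₁ ∧ 0 < r₁ ∧ FlatMod.IsFinLocFreeOfRank r₁ E₁ ∧
      (∀ (F : X.Modules) (r' : ℕ) (j : F ⟶ E), Mono j → 0 < r' → FlatMod.IsFinLocFreeOfRank r' F →
        Curv2.deg k X F r' * (r₁ : ℤ) ≤ Curv2.deg k X E₁ r₁ * (r' : ℤ)) ∧
      (∀ (Q : X.Modules) (s : ℕ) (j : Q ⟶ cokernel i₁), Mono j → 0 < s → FlatMod.IsFinLocFreeOfRank s Q →
        Curv2.deg k X Q s * (r₁ : ℤ) < Curv2.deg k X E₁ r₁ * (s : ℤ))) ∧
    (∀ (E₁ E₁' : X.Modules) (r₁ r₁' : ℕ) (i₁ : E₁ ⟶ E) (i₁' : E₁' ⟶ E),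
      Mono i₁ → 0 < r₁ → FlatMod.IsFinLocFreeOfRank r₁ E₁ →
      (∀ (F : X.Modules) (r' : ℕ) (j : F ⟶ E), Mono j → 0 < r' → FlatMod.IsFinLocFreeOfRank r' F →
        Curv2.deg k X F r' * (r₁ : ℤ) ≤ Curv2.deg k X E₁ r₁ * (r' : ℤ)) →
      (∀ (Q : X.Modules) (s : ℕ) (j : Q ⟶ cokernel i₁), Mono j → 0 < s → FlatMod.IsFinLocFreeOfRank s Q →
        Curv2.deg k X Q s * (r₁ : ℤ) < Curv2.deg k X E₁ r₁ * (s : ℤ)) →
      Mono i₁' → 0 < r₁' → FlatMod.IsFinLocFreeOfRank r₁' E₁' →
      (∀ (F : X.Modules) (r' : ℕ) (j : F ⟶ E), Mono j → 0 < r' → FlatMod.IsFinLocFreeOfRank r' F →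
        Curv2.deg k X F r' * (r₁' : ℤ) ≤ Curv2.deg k X E₁' r₁' * (r' : ℤ)) →
      (∀ (Q : X.Modules) (s : ℕ) (j : Q ⟶ cokernel i₁'), Mono j → 0 < s → FlatMod.IsFinLocFreeOfRank s Q →
        Curv2.deg k X Q s * (r₁' : ℤ) < Curv2.deg k X E₁' r₁' * (s : ℤ)) →
      ∃ e : E₁ ≅ E₁', e.hom ≫ i₁' = i₁) := by
  haveI := VBLib.isRegCurve_of_smooth k (X := X) hdim.le
  haveI := EulerIneqLib.isNoetherian_proper (X := X) k
  have hEc := VBLib.isCoh_of_rank hE
  refine ⟨?_, ?_⟩
  · obtain ⟨E₁, i, hi, hc, h0, hmax⟩ := VBLib.exists_maxSlope k hdim.le hEc (by rw [VBLib.grk_of_rank hE]; exact hr)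
    haveI := hi
    have hr1 := VBLib.rank_of_mono i hc hE
    refine ⟨E₁, _, i, hi, h0, hr1, fun F r' j hj hpos hF => ?_, fun Q s j hj hpos hQ => ?_⟩
    · have h := (hmax F j hj (VBLib.isCoh_of_rank hF) (by rw [VBLib.grk_of_rank hF]; exact hpos)).1
      rwa [VBLib.grk_of_rank hF, VBLib.dg_eq k hF, VBLib.dg_eq k hr1] at h
    · haveI := hj
      obtain ⟨P, a, ha, hP, hP1, hP2⟩ := VBLib.exists_preimage k i hc hEc j (VBLib.isCoh_of_rank hQ)
      rw [VBLib.grk_of_rank hQ] at hP1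
      rw [VBLib.dg_eq k hQ] at hP2
      obtain ⟨h, h'⟩ := hmax P a ha hP (by omega)
      rw [hP1, hP2, VBLib.dg_eq k hr1] at h h'
      push_cast at h h'
      refine lt_of_le_of_ne (by linarith) fun e => ?_
      have := h' (by linarith)
      omega
  · intro E₁ E₁' r₁ r₁' i₁ i₁' hi h0 hr₁ hmax hq hi' h0' hr₁' hmax' hq'
    haveI := hi
    haveI := hi'
    have key : ∀ {A B : X.Modules} {a b : ℕ} (i : A ⟶ E) (i' : B ⟶ E) [Mono i] [Mono i'], 0 < a → 0 < b →
        FlatMod.IsFinLocFreeOfRank a A → FlatMod.IsFinLocFreeOfRank b B →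
        (∀ (F : X.Modules) (r' : ℕ) (j : F ⟶ E), Mono j → 0 < r' → FlatMod.IsFinLocFreeOfRank r' F →
          Curv2.deg k X F r' * (a : ℤ) ≤ Curv2.deg k X A a * (r' : ℤ)) →
        (∀ (F : X.Modules) (r' : ℕ) (j : F ⟶ E), Mono j → 0 < r' → FlatMod.IsFinLocFreeOfRank r' F →
          Curv2.deg k X F r' * (b : ℤ) ≤ Curv2.deg k X B b * (r' : ℤ)) →
        (∀ (Q : X.Modules) (s : ℕ) (j : Q ⟶ cokernel i'), Mono j → 0 < s → FlatMod.IsFinLocFreeOfRank s Q →
          Curv2.deg k X Q s * (b : ℤ) < Curv2.deg k X B b * (s : ℤ)) → i ≫ cokernel.π i' = 0 := by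
      intro A B a b i i' _ _ ha hb hA hB hmA hmB hqB
      by_contra h
      have hBc := VBLib.isCoh_of_rank hB
      have hCr := VBLib.rank_coker_of_max k hdim.le i' hBc hEc fun P p hp hP hPr => by
        have hPf := VBLib.rank_of_mono p hP hE
        have h1 := hmB P _ p hp (by rw [hPr, VBLib.grk_of_rank hB]; exact hb) hPf
        rw [← VBLib.dg_eq k hPf, ← VBLib.dg_eq k hB, hPr, VBLib.grk_of_rank hB] at h1
        exact le_of_mul_le_mul_right h1 (by exact_mod_cast hb)
      have hss : VBLib.SlopeLE k A (VBLib.dg k A) a := by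
        rw [VBLib.dg_eq k hA]
        exact VBLib.slopeLE_of k hA fun G r' j hj hpos hG => hmA G r' (j ≫ i) (mono_comp _ _) hpos hG
      obtain ⟨I, p, q, hq, hp, -, hI, hI0, hIs, -⟩ := VBLib.exists_image_slope k hA hCr h hss
      have hIr := VBLib.rank_of_mono q hI hCr
      have h2 := hqB I _ q hq hI0 hIr
      rw [← VBLib.dg_eq k hIr] at h2
      rw [VBLib.dg_eq k hA] at hIs
      have e1 := hmA B b i' inferInstance hb hB
      have hI' : (0 : ℤ) < VBLib.grk I := by exact_mod_cast hI0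
      have p1 := mul_lt_mul_of_pos_right h2 (show (0 : ℤ) < a by exact_mod_cast ha)
      have p2 := mul_le_mul_of_nonneg_right hIs (Int.natCast_nonneg b)
      have p3 := mul_le_mul_of_nonneg_right e1 hI'.le
      linarith
    have z1 := key i₁ i₁' h0 h0' hr₁ hr₁' hmax hmax' hq'
    have z2 := key i₁' i₁ h0' h0 hr₁' hr₁ hmax' hmax hq
    let φ : E₁ ⟶ E₁' := Abelian.monoLift i₁' i₁ z1
    let χ : E₁' ⟶ E₁ := Abelian.monoLift i₁ i₁' z2
    have hφ : φ ≫ i₁' = i₁ := Abelian.monoLift_comp _ _ z1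
    have hχ : χ ≫ i₁ = i₁' := Abelian.monoLift_comp _ _ z2
    exact ⟨⟨φ, χ, by rw [← cancel_mono i₁, Category.assoc, hχ, hφ, Category.id_comp],
      by rw [← cancel_mono i₁', Category.assoc, hφ, hχ, Category.id_comp]⟩, hφ⟩

end Groth.Agent.S16470
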