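import Groth.Statements.S15156
import Groth.Agent.InvBunLib.Basic
import Groth.Agent.S16470
-- import your own Groth.Agent.* helpers here

set_option autoImplicit false
set_option backward.isDefEq.respectTransparency false
set_option maxHeartbeats 800000
set_option synthInstance.maxHeartbeats 200000
open CategoryTheory CategoryTheory.Limits AlgebraicGeometry
open VBCurve

namespace Groth.Agent.S15156

open Groth.Agent CategoryTheory
set_option backward.isDefEq.respectTransparency false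

/-- Let X be a smooth proper integral curve of genus at least 2 over the complex numbers with an
involution σ ≠ id over the complex numbers, and (E, φ) a σ-linearized finite locally free module of
rank r ≥ 1: φ : σ^*E ≅ E with φ ∘ σ^*φ equal to the canonical identification σ^*σ^*E ≅ E. A
submodule F ⊂ E is σ-invariant when the composite σ^*F → σ^*E → E factors through F. Then (E, φ) is
semistable with respect to σ-invariant finite locally free submodules (deg F · r ≤ deg E · rk F for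
each such F of positive rank) if and only if E is slope-semistable (the same inequality for every
finite locally free submodule of positive rank); degrees are χ − rank · χ(O). -/
theorem result
    (X : Scheme.{0}) [X.Over (Spec (CommRingCat.of ℂ))] [IsIntegral X] [IsProper (X ↘ Spec (CommRingCat.of ℂ))] [Smooth (X ↘ Spec (CommRingCat.of ℂ))]
    (hdim : topologicalKrullDim X = 1) (hg : 2 ≤ Curv2.genus ℂ X)
    (σ : X ⟶ X) (hσS : σ ≫ (X ↘ Spec (CommRingCat.of ℂ)) = X ↘ Spec (CommRingCat.of ℂ)) (hσ : σ ≫ σ = 𝟙 X) (hσ1 : σ ≠ 𝟙 X)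
    (r : ℕ) (hr : 0 < r) (E : X.Modules) (hE : FlatMod.IsFinLocFreeOfRank r E)
    (φ : (Scheme.Modules.pullback σ).obj E ≅ E)
    (hφ : (Scheme.Modules.pullback σ).map φ.hom ≫ φ.hom =
      (Scheme.Modules.pullbackComp σ σ).hom.app E ≫ (Scheme.Modules.pullbackCongr hσ).hom.app E ≫
        (Scheme.Modules.pullbackId X).hom.app E) :
    (∀ (F : X.Modules) (r' : ℕ) (i : F ⟶ E), Mono i → 0 < r' → FlatMod.IsFinLocFreeOfRank r' F →
      (∃ j : (Scheme.Modules.pullback σ).obj F ⟶ F, j ≫ i = (Scheme.Modules.pullback σ).map i ≫ φ.hom) →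
      Curv2.deg ℂ X F r' * (r : ℤ) ≤ Curv2.deg ℂ X E r * (r' : ℤ)) ↔
    (∀ (F : X.Modules) (r' : ℕ) (i : F ⟶ E), Mono i → 0 < r' → FlatMod.IsFinLocFreeOfRank r' F →
      Curv2.deg ℂ X F r' * (r : ℤ) ≤ Curv2.deg ℂ X E r * (r' : ℤ)) := by
    constructor
    swap
    · intro h F r' i hi h0 hF _
      exact h F r' i hi h0 hF
    intro h
    let P := Scheme.Modules.pullback σ
    let c := InvBunLib.sqIso hσ
    haveI : P.IsEquivalence := InvBunLib.isEquivalence_pullback hσ
    have hcan : P.map φ.hom ≫ φ.hom = c.hom.app E := by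
      rw [hφ]
      simp [c, InvBunLib.sqIso]
    obtain ⟨⟨E₁, r₁, i₁, hi₁, hr₁, hE₁, hmax, hdrop⟩, huniq⟩ := Groth.Agent.S16470.result ℂ X hdim r hr E hE
    haveI := hi₁
    let i₁' : P.obj E₁ ⟶ E := P.map i₁ ≫ φ.hom
    have hmax' : ∀ (F : X.Modules) (r' : ℕ) (j : F ⟶ E), Mono j → 0 < r' → FlatMod.IsFinLocFreeOfRank r' F →
        Curv2.deg ℂ X F r' * (r₁ : ℤ) ≤ Curv2.deg ℂ X (P.obj E₁) r₁ * (r' : ℤ) := by
      intro F r' j hj h0 hF
      rw [InvBunLib.deg_pullback hσS hσ hE₁]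
      exact hmax F r' j hj h0 hF
    have hw : P.map i₁' ≫ φ.hom = c.hom.app E₁ ≫ i₁ := by
      show P.map (P.map i₁ ≫ φ.hom) ≫ φ.hom = _
      rw [Functor.map_comp, Category.assoc, hcan]
      exact c.hom.naturality i₁
    haveI : Mono i₁' := mono_comp _ _
    let eC : P.obj (cokernel i₁') ≅ cokernel i₁ :=
      Limits.PreservesCokernel.iso P i₁' ≪≫ cokernel.mapIso (P.map i₁') i₁ (c.app E₁) φ hw
    have hdrop' : ∀ (Q : X.Modules) (s : ℕ) (j : Q ⟶ cokernel i₁'), Mono j → 0 < s →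
        FlatMod.IsFinLocFreeOfRank s Q →
        Curv2.deg ℂ X Q s * (r₁ : ℤ) < Curv2.deg ℂ X (P.obj E₁) r₁ * (s : ℤ) := by
      intro Q s j hj h0 hQ
      rw [InvBunLib.deg_pullback hσS hσ hE₁, ← InvBunLib.deg_pullback hσS hσ hQ]
      exact hdrop (P.obj Q) s (P.map j ≫ eC.hom) (mono_comp _ _) h0
        (PBundleLib.isFinLocFreeOfRank_pullback σ hQ)
    obtain ⟨e, he⟩ := huniq E₁ (P.obj E₁) r₁ r₁ i₁ i₁' hi₁ hr₁ hE₁ hmax hdrop inferInstance hr₁
      (PBundleLib.isFinLocFreeOfRank_pullback σ hE₁) hmax' hdrop'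
    have hinv := h E₁ r₁ i₁ hi₁ hr₁ hE₁ ⟨e.inv, (Iso.inv_comp_eq e).2 he.symm⟩
    intro F r' i hi h0 hF
    have h1 := hmax F r' i hi h0 hF
    have hr₁' : (0 : ℤ) < r₁ := by exact_mod_cast hr₁
    have h0' : (0 : ℤ) ≤ r' := by positivity
    nlinarith [mul_le_mul_of_nonneg_right hinv h0', mul_le_mul_of_nonneg_right h1 (by positivity : (0 : ℤ) ≤ r)]

end Groth.Agent.S15156
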