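import Groth.Statements.S15157
import Groth.Agent.CoverDivLib.Pull
import Groth.Agent.CoverDivLib.Canonical
import Groth.Agent.CurveFF.Omega

set_option autoImplicit false
open CategoryTheory CategoryTheory.Limits AlgebraicGeometry
open Curves

namespace Groth.Agent.S15157

open CategoryTheory CategoryTheory.Limits AlgebraicGeometry

set_option backward.isDefEq.respectTransparency false
set_option backward.isDefEq.respectTransparency.types false
set_option linter.style.haveILetI false
set_option maxHeartbeats 1000000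

attribute [local instance] Curv2.stalkAlgebra
attribute [local instance high] FunFld.Place.algRes


/-- Let X be a smooth proper integral curve of genus at least 2 over the complex numbers with an
involution σ ≠ id over the complex numbers, and π : X → Y its quotient double cover: Y a smooth
proper integral curve and π a finite flat morphism of constant rank 2 over the complex numbers with
π ∘ σ = π. Then the sheaf of differentials of X over the complex numbers descends to Y: it is
isomorphic to π^*M for some invertible O_Y-module M (existence of M and of an isomorphism only). -/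
theorem result
    (X Y : Scheme.{0}) [X.Over (Spec (CommRingCat.of ℂ))] [Y.Over (Spec (CommRingCat.of ℂ))]
    [IsIntegral X] [IsProper (X ↘ Spec (CommRingCat.of ℂ))] [Smooth (X ↘ Spec (CommRingCat.of ℂ))] (hdimX : topologicalKrullDim X = 1)
    (hg : 2 ≤ Curv2.genus ℂ X)
    [IsIntegral Y] [IsProper (Y ↘ Spec (CommRingCat.of ℂ))] [Smooth (Y ↘ Spec (CommRingCat.of ℂ))] (hdimY : topologicalKrullDim Y = 1)
    (σ : X ⟶ X) (hσS : σ ≫ (X ↘ Spec (CommRingCat.of ℂ)) = X ↘ Spec (CommRingCat.of ℂ)) (hσ : σ ≫ σ = 𝟙 X) (hσ1 : σ ≠ 𝟙 X)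
    (π : X ⟶ Y) [IsFinite π] [Flat π] (hπ : π ≫ (Y ↘ Spec (CommRingCat.of ℂ)) = X ↘ Spec (CommRingCat.of ℂ))
    (hrk : ∀ y : ↥Y, Scheme.Hom.finrank π y = 2) (hσπ : σ ≫ π = π) :
    ∃ M : Y.Modules, PicF.IsInvertible M ∧
      Nonempty ((Scheme.Modules.pullback π).obj M ≅ Omega.sheaf (X ↘ Spec (CommRingCat.of ℂ))) := by
  classical
  haveI := Groth.Agent.VBLib.isRegCurve_of_smooth (X := X) ℂ hdimX.le
  haveI := Groth.Agent.VBLib.isRegCurve_of_smooth (X := Y) ℂ hdimY.le
  haveI := Groth.Agent.CastSeveriLib.surjective_of_rank π hrk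
  haveI := Groth.Agent.EulerIneqLib.isNoetherian_proper (X := Y) ℂ
  letI := Groth.Agent.NormHomLib.ffAlg π
  haveI := Groth.Agent.CastSeveriLib.scalarTower π hπ
  have hd := Groth.Agent.CastSeveriLib.finrank_two π hrk
  obtain ⟨hΩ, e, C, he, hC, hcan⟩ := Groth.Agent.CurveFF.omega_canonical (k := ℂ) (X := X) hdimX
  obtain ⟨E, hE⟩ := Groth.Agent.CoverDivLib.exists_sub_mem_prinDivs (Groth.Agent.CurveFF.isFF ℂ hdimY)
    (Groth.Agent.CurveFF.isFF ℂ hdimX) hd (two_ne_zero : (2 : ℂ) ≠ 0) hcan
  obtain ⟨M, e', hM, he', hM'⟩ := Groth.Agent.CurveFF.exists_module hdimY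
    (Groth.Agent.CurveFF.h0_eq_one ℂ hdimY) E
  obtain ⟨e'', he'', hM''⟩ := Groth.Agent.CoverDivLib.exists_isDiv_pullback hdimX hdimY π hπ hM he' hM'
  exact ⟨M, hM, Groth.Agent.CurveFF.nonempty_iso_of_sub_mem_prinDivs hdimX (Groth.Agent.CurveFF.h0_eq_one ℂ hdimX)
    (Groth.Agent.AmpleLib.isInvertible_pullback π hM) hΩ he'' hM'' he hC hE⟩

end Groth.Agent.S15157
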