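import Mathlib
import Groth.Statements.S15159

set_option autoImplicit false
open CAlg

namespace Groth.Agent.S15159
open Module Finset

variable {K : Type*} [Field K] {W H : Type} [AddCommGroup W] [Module K W] [AddCommGroup H]
  [Module K H] [FiniteDimensional K H]

/-- The orthogonal of a subspace. -/
def perp (q : H →ₗ[K] H →ₗ[K] W) (V : Submodule K H) : Submodule K H :=
  ⨅ (y : H) (_ : y ∈ V), LinearMap.ker (q.flip y)

theorem mem_perp {q : H →ₗ[K] H →ₗ[K] W} {V : Submodule K H} {x : H} :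
    x ∈ perp q V ↔ ∀ y ∈ V, q x y = 0 := by
  simp [perp]

theorem finrank_finsetSup {ι : Type} [DecidableEq ι] {Hs : ι → Submodule K H} (h : iSupIndep Hs)
    (S : Finset ι) : finrank K ↥(S.sup Hs) = ∑ i ∈ S, finrank K (Hs i) := by
  induction S using Finset.induction_on with
  | empty => simp
  | insert a S ha ih =>
    rw [Finset.sup_insert, Finset.sum_insert ha, ← ih]
    have hd : Disjoint (Hs a) (S.sup Hs) :=
      (h a).mono_right (Finset.sup_le fun i hi =>
        le_iSup₂_of_le i (fun h' : i = a => ha (h' ▸ hi)) le_rfl)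
    have := Submodule.finrank_sup_add_finrank_inf_eq (Hs a) (S.sup Hs)
    rw [hd.eq_bot, finrank_bot, add_zero] at this
    exact this

theorem clamp_eq (m : ℤ) (M : ℕ) :
    ∑ a ∈ Finset.range M, ((if (a : ℤ) + 1 ≤ m then (1 : ℤ) else 0) - if m ≤ -((a : ℤ) + 1) then 1 else 0)
      = min (max m (-(M : ℤ))) M := by
  induction M with
  | zero => simp
  | succ M ih =>
    rw [Finset.sum_range_succ, ih]
    push_cast
    split_ifs <;> omega

section Weights

variable {ι : Type} [Fintype ι] [DecidableEq ι] (m : ι → ℤ) (d : ι → ℤ)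

/-- The total multiplicity of weights `≥ a`. -/
def Gw (a : ℤ) : ℤ := ∑ i with a ≤ m i, d i

/-- The total multiplicity of weights `≤ a`. -/
def Lw (a : ℤ) : ℤ := ∑ i with m i ≤ a, d i

theorem sum_weights_eq (M : ℕ) (hM : ∀ i, |m i| ≤ M) :
    ∑ i, m i * d i = ∑ a ∈ Finset.range M, (Gw m d ((a : ℤ) + 1) - Lw m d (-((a : ℤ) + 1))) := by
  simp only [Gw, Lw, Finset.sum_filter, ← Finset.sum_sub_distrib]
  rw [Finset.sum_comm]
  refine Finset.sum_congr rfl fun i _ => ?_
  have h := clamp_eq (m i) M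
  have hb := abs_le.1 (hM i)
  rw [max_eq_left hb.1, min_eq_left hb.2] at h
  conv_lhs => rw [← h, Finset.sum_mul]
  refine Finset.sum_congr rfl fun a _ => ?_
  split_ifs <;> ring

theorem Lw_add_Gw (a : ℤ) : Lw m d a + Gw m d (a + 1) = ∑ i, d i := by
  rw [Lw, Gw, ← Finset.sum_filter_add_sum_filter_not Finset.univ (fun i => m i ≤ a) d]
  congr 1
  refine Finset.sum_congr (Finset.filter_congr fun i _ => ?_) fun _ _ => rfl
  omega

end Weights

variable {q : H →ₗ[K] H →ₗ[K] W} {ι : Type} [Fintype ι] [DecidableEq ι] {Hs : ι → Submodule K H}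
  (m : ι → ℤ)

/-- If `q` kills `H_i × H_j` for `m i + m j` in the range `P`, we get the two subspaces of a bound. -/
theorem bound (hint : DirectSum.IsInternal Hs) (n : ℤ)
    (hle : ∀ V : Submodule K H, V ≠ ⊥ → (∀ x ∈ V, ∀ y ∈ V, q x y = 0) →
      (finrank K V : ℤ) + finrank K (perp q V) ≤ n)
    (S T : Finset ι) (hST : S ⊆ T) (hz : ∀ i ∈ T, ∀ j ∈ S, ∀ x ∈ Hs i, ∀ y ∈ Hs j, q x y = 0)
    (hS : (0 : ℤ) < ∑ i ∈ S, (finrank K (Hs i) : ℤ)) :
    (∑ i ∈ S, (finrank K (Hs i) : ℤ)) + ∑ i ∈ T, (finrank K (Hs i) : ℤ) ≤ n := by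
  have hind := hint.submodule_iSupIndep
  have hTp : T.sup Hs ≤ perp q (S.sup Hs) := by
    refine Finset.sup_le fun i hi x hx => mem_perp.2 fun y hy => ?_
    have : S.sup Hs ≤ LinearMap.ker (q x) :=
      Finset.sup_le fun j hj y hy => hz i hi j hj x hx y hy
    exact this hy
  have hne : S.sup Hs ≠ ⊥ := by
    intro h
    have := finrank_finsetSup hind S
    rw [h, finrank_bot] at this
    rw [← Nat.cast_sum, ← this] at hS
    simp at hS
  have h1 := hle _ hne (fun x hx y hy => mem_perp.1 (hTp ((Finset.sup_mono hST : S.sup Hs ≤ T.sup Hs) hx)) y hy)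
  have h2 : (finrank K ↥(T.sup Hs) : ℤ) ≤ finrank K ↥(perp q (S.sup Hs)) := by
    exact_mod_cast Submodule.finrank_mono hTp
  rw [finrank_finsetSup hind S] at h1
  rw [finrank_finsetSup hind T] at h2
  push_cast at h1 h2
  linarith

theorem sum_finrank (hint : DirectSum.IsInternal Hs) :
    ∑ i, (finrank K (Hs i) : ℤ) = finrank K H := by
  have h := finrank_finsetSup hint.submodule_iSupIndep Finset.univ
  rw [Finset.sup_univ_eq_iSup, hint.submodule_iSup_eq_top, finrank_top] at h
  rw [h]; push_cast; rfl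

/-- Semistability gives the weight criterion. -/
theorem weights_of_semistable
    (hle : ∀ V : Submodule K H, V ≠ ⊥ → (∀ x ∈ V, ∀ y ∈ V, q x y = 0) →
      finrank K V + finrank K (perp q V) ≤ finrank K H)
    (hint : DirectSum.IsInternal Hs) (hsum : ∑ i, m i * (finrank K (Hs i) : ℤ) = 0)
    (hne : ∃ i, m i ≠ 0 ∧ Hs i ≠ ⊥) :
    ∃ i j, (∃ x ∈ Hs i, ∃ y ∈ Hs j, q x y ≠ 0) ∧ m i + m j ≤ 0 := by
  by_contra hcon
  push Not at hcon
  let d : ι → ℤ := fun i => finrank K (Hs i)
  have hd : ∀ i, 0 ≤ d i := fun i => Int.natCast_nonneg _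
  have hG0 : ∀ a, 0 ≤ Gw m d a := fun a => Finset.sum_nonneg fun i _ => hd i
  let M : ℕ := ∑ i, (m i).natAbs
  have hM : ∀ i, |m i| ≤ M := fun i => by
    rw [Int.abs_eq_natAbs]
    exact_mod_cast Finset.single_le_sum (f := fun i => (m i).natAbs) (fun _ _ => Nat.zero_le _)
      (Finset.mem_univ i)
  have hkey : ∀ a : ℕ, Lw m d (-((a : ℤ) + 1)) ≤ Gw m d ((a : ℤ) + 1 + 1) := by
    intro a
    have hL : 0 ≤ Lw m d (-((a : ℤ) + 1)) := Finset.sum_nonneg fun i _ => hd i
    rcases hL.eq_or_lt with h | h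
    · exact h.ge.trans (hG0 _)
    have hb : Lw m d (-((a : ℤ) + 1)) + Lw m d ((a : ℤ) + 1) ≤ (finrank K H : ℤ) := by
      refine bound (q := q) hint (finrank K H : ℤ) (fun V h1 h2 => by exact_mod_cast hle V h1 h2) _ _
        (fun i hi => ?_) (fun i hi j hj x hx y hy => ?_) h
      · simp only [Finset.mem_filter] at hi ⊢
        exact ⟨hi.1, by omega⟩
      · simp only [Finset.mem_filter] at hi hj
        by_contra hxy
        have := hcon i j ⟨x, hx, y, hy, hxy⟩
        omega
    have hl := Lw_add_Gw m d ((a : ℤ) + 1)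
    rw [sum_finrank hint] at hl
    linarith
  have htel : ∑ a ∈ Finset.range M, (Gw m d ((a : ℤ) + 1) - Gw m d ((a : ℤ) + 1 + 1)) =
      Gw m d 1 - Gw m d ((M : ℤ) + 1) := by
    have := Finset.sum_range_sub' (fun a : ℕ => Gw m d ((a : ℤ) + 1)) M
    push_cast at this
    simpa using this
  have hGM : Gw m d ((M : ℤ) + 1) = 0 := by
    refine Finset.sum_eq_zero fun i hi => ?_
    have := (abs_le.1 (hM i)).2
    have := (Finset.mem_filter.1 hi).2
    omega
  have hG1 : Gw m d 1 ≤ 0 := by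
    have hS := sum_weights_eq m d M hM
    rw [hsum] at hS
    have : ∑ a ∈ Finset.range M, (Gw m d ((a : ℤ) + 1) - Gw m d ((a : ℤ) + 1 + 1)) ≤
        ∑ a ∈ Finset.range M, (Gw m d ((a : ℤ) + 1) - Lw m d (-((a : ℤ) + 1))) :=
      Finset.sum_le_sum fun a _ => by linarith [hkey a]
    rw [htel, hGM, sub_zero, ← hS] at this
    exact this
  obtain ⟨i, hi, hb⟩ := hne
  have hdi : 0 < d i := by
    have := (Submodule.one_le_finrank_iff).2 hb
    simp only [d]; omega
  have hneg : ∀ j, m j * d j ≤ 0 := fun j => by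
    by_contra hj
    push Not at hj
    have hmj : 0 < m j := by
      by_contra h; push Not at h
      exact absurd (mul_nonpos_of_nonpos_of_nonneg h (hd j)) (not_le.2 hj)
    have : d j ≤ Gw m d 1 := Finset.single_le_sum (f := d) (fun k _ => hd k)
      (Finset.mem_filter.2 ⟨Finset.mem_univ j, hmj⟩)
    have hdj : d j = 0 := le_antisymm (this.trans hG1) (hd j)
    rw [hdj, mul_zero] at hj
    exact lt_irrefl _ hj
  have := (Finset.sum_eq_zero_iff_of_nonpos fun j _ => hneg j).1 hsum i (Finset.mem_univ i)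
  rcases mul_eq_zero.1 this with h | h
  · exact hi h
  · omega

/-- Stability gives the strict weight criterion. -/
theorem weights_of_stable
    (hlt : ∀ V : Submodule K H, V ≠ ⊥ → (∀ x ∈ V, ∀ y ∈ V, q x y = 0) →
      finrank K V + finrank K (perp q V) < finrank K H)
    (hint : DirectSum.IsInternal Hs) (hsum : ∑ i, m i * (finrank K (Hs i) : ℤ) = 0)
    (hne : ∃ i, m i ≠ 0 ∧ Hs i ≠ ⊥) :
    ∃ i j, (∃ x ∈ Hs i, ∃ y ∈ Hs j, q x y ≠ 0) ∧ m i + m j < 0 := by
  by_contra hcon
  push Not at hcon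
  let d : ι → ℤ := fun i => finrank K (Hs i)
  have hd : ∀ i, 0 ≤ d i := fun i => Int.natCast_nonneg _
  let M : ℕ := ∑ i, (m i).natAbs
  have hM : ∀ i, |m i| ≤ M := fun i => by
    rw [Int.abs_eq_natAbs]
    exact_mod_cast Finset.single_le_sum (f := fun i => (m i).natAbs) (fun _ _ => Nat.zero_le _)
      (Finset.mem_univ i)
  have hkey : ∀ a : ℕ, 0 < Lw m d (-((a : ℤ) + 1)) →
      Lw m d (-((a : ℤ) + 1)) < Gw m d ((a : ℤ) + 1) := by
    intro a h
    have hb : Lw m d (-((a : ℤ) + 1)) + Lw m d (a : ℤ) ≤ (finrank K H : ℤ) - 1 := by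
      refine bound (q := q) hint ((finrank K H : ℤ) - 1) (fun V h1 h2 => ?_) _ _
        (fun i hi => ?_) (fun i hi j hj x hx y hy => ?_) h
      · have := hlt V h1 h2
        omega
      · simp only [Finset.mem_filter] at hi ⊢
        exact ⟨hi.1, by omega⟩
      · simp only [Finset.mem_filter] at hi hj
        by_contra hxy
        have := hcon i j ⟨x, hx, y, hy, hxy⟩
        omega
    have hl := Lw_add_Gw m d (a : ℤ)
    rw [sum_finrank hint] at hl
    linarith
  -- some negative weight occurs with positive multiplicity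
  obtain ⟨j, hj, hdj⟩ : ∃ j, m j < 0 ∧ 0 < d j := by
    by_contra h
    push Not at h
    have hpos : ∀ j, 0 ≤ m j * d j := fun j => by
      rcases lt_or_ge (m j) 0 with hj | hj
      · rw [le_antisymm (h j hj) (hd j), mul_zero]
      · exact mul_nonneg hj (hd j)
    obtain ⟨i, hi, hb⟩ := hne
    have := (Finset.sum_eq_zero_iff_of_nonneg fun j _ => hpos j).1 hsum i (Finset.mem_univ i)
    have h1 := (Submodule.one_le_finrank_iff (R := K)).2 hb
    rcases mul_eq_zero.1 this with h | h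
    · exact hi h
    · simp only [d] at h; omega
  have ha : ((-m j).toNat - 1) ∈ Finset.range M := by
    have := (abs_le.1 (hM j)).1
    rw [Finset.mem_range]; omega
  have hlt' : ∑ a ∈ Finset.range M, (0 : ℤ) <
      ∑ a ∈ Finset.range M, (Gw m d ((a : ℤ) + 1) - Lw m d (-((a : ℤ) + 1))) := by
    refine Finset.sum_lt_sum (fun a _ => ?_) ⟨_, ha, ?_⟩
    · have hL : 0 ≤ Lw m d (-((a : ℤ) + 1)) := Finset.sum_nonneg fun i _ => hd i
      rcases hL.eq_or_lt with h | h
      · have hG : 0 ≤ Gw m d ((a : ℤ) + 1) := Finset.sum_nonneg fun i _ => hd i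
        linarith
      · linarith [hkey a h]
    · have hpos : 0 < Lw m d (-((((-m j).toNat - 1 : ℕ) : ℤ) + 1)) :=
        lt_of_lt_of_le hdj (Finset.single_le_sum (f := d) (fun k _ => hd k)
          (Finset.mem_filter.2 ⟨Finset.mem_univ j, by omega⟩))
      linarith [hkey _ hpos]
  rw [← sum_weights_eq m d M hM, hsum, Finset.sum_const_zero] at hlt'
  exact lt_irrefl _ hlt'

theorem exists_decomposition (hsym : ∀ x y, q x y = 0 → q y x = 0) (hq0 : q ≠ 0) (V : Submodule K H)
    (hV : V ≠ ⊥) (hiso : ∀ x ∈ V, ∀ y ∈ V, q x y = 0) :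
    ∃ (Hs : Fin 3 → Submodule K H) (m : Fin 3 → ℤ), DirectSum.IsInternal Hs ∧
      (∑ i, m i * (finrank K (Hs i) : ℤ)) = 0 ∧ (∃ i, m i ≠ 0 ∧ Hs i ≠ ⊥) ∧
      (finrank K H ≤ finrank K V + finrank K (perp q V) →
        ∀ i j, (∃ x ∈ Hs i, ∃ y ∈ Hs j, q x y ≠ 0) → 0 ≤ m i + m j) ∧
      (finrank K H < finrank K V + finrank K (perp q V) →
        ∀ i j, (∃ x ∈ Hs i, ∃ y ∈ Hs j, q x y ≠ 0) → 0 < m i + m j) := by
  have hVP : V ≤ perp q V := fun x hx => mem_perp.2 (hiso x hx)
  obtain ⟨V', hV'⟩ := Submodule.exists_isCompl V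
  obtain ⟨C', hC'⟩ := Submodule.exists_isCompl (perp q V)
  let C := V' ⊓ perp q V
  have hd1 : Disjoint V C := hV'.disjoint.mono_right inf_le_left
  have hs1 : V ⊔ C = perp q V := by
    rw [← sup_inf_assoc_of_le V' hVP, hV'.sup_eq_top, top_inf_eq]
  have hd2 : Disjoint (V ⊔ C) C' := by rw [hs1]; exact hC'.disjoint
  have hint : DirectSum.IsInternal ![V, C, C'] := by
    rw [DirectSum.isInternal_submodule_iff_iSupIndep_and_iSup_eq_top]
    refine ⟨iSupIndep_def.2 fun i => ?_, ?_⟩
    · fin_cases i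
      · refine Disjoint.mono_right (a := V) (c := C ⊔ C') ?_ (hd1.disjoint_sup_right_of_disjoint_sup_left hd2)
        exact iSup₂_le fun j hj => by fin_cases j <;> simp_all [C]
      · refine Disjoint.mono_right (a := C) (c := V ⊔ C') ?_
          (hd1.symm.disjoint_sup_right_of_disjoint_sup_left (by rw [sup_comm]; exact hd2))
        exact iSup₂_le fun j hj => by fin_cases j <;> simp_all [C]
      · refine Disjoint.mono_right (a := C') (c := V ⊔ C) ?_ hd2.symm
        exact iSup₂_le fun j hj => by fin_cases j <;> simp_all [C]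
    · rw [eq_top_iff, ← hC'.sup_eq_top, ← hs1]
      exact sup_le (sup_le (le_iSup ![V, C, C'] 0) (le_iSup ![V, C, C'] 1)) (le_iSup ![V, C, C'] 2)
  have e1 : finrank K V + finrank K C = finrank K (perp q V) := by
    have := Submodule.finrank_sup_add_finrank_inf_eq V C
    rw [hd1.eq_bot, finrank_bot, hs1] at this
    omega
  have e2 : finrank K (perp q V) + finrank K C' = finrank K H := Submodule.finrank_add_eq_of_isCompl hC'
  let n : ℤ := finrank K H
  let t : ℤ := (finrank K V : ℤ) - finrank K C'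
  have hVC : ∀ x ∈ perp q V, ∀ y ∈ V, q x y = 0 ∧ q y x = 0 := fun x hx y hy =>
    ⟨mem_perp.1 hx y hy, hsym x y (mem_perp.1 hx y hy)⟩
  have hC : C ≤ perp q V := inf_le_right
  have hpair : ∀ i j, (∃ x ∈ ![V, C, C'] i, ∃ y ∈ ![V, C, C'] j, q x y ≠ 0) →
      2 * t ≤ ![t - n, t, t + n] i + ![t - n, t, t + n] j := by
    have hn : 0 ≤ n := Int.natCast_nonneg _
    intro i j ⟨x, hx, y, hy, hxy⟩
    fin_cases i <;> fin_cases j <;> simp only [Matrix.cons_val_zero, Matrix.cons_val_one,
      Matrix.cons_val, Fin.isValue, Fin.zero_eta, Fin.mk_one, Fin.reduceFinMk] at hx hy ⊢ <;>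
      try omega
    · exact absurd (hiso x hx y hy) hxy
    · exact absurd (hVC y (hC hy) x hx).2 hxy
    · exact absurd (hVC x (hC hx) y hy).1 hxy
  refine ⟨![V, C, C'], ![t - n, t, t + n], hint, ?_, ⟨0, ?_, hV⟩, fun h i j hij => ?_, fun h i j hij => ?_⟩
  · rw [Fin.sum_univ_three]
    show (t - n) * (finrank K V : ℤ) + t * (finrank K C : ℤ) + (t + n) * (finrank K C' : ℤ) = 0
    have e1' : (finrank K V : ℤ) + finrank K C = finrank K (perp q V) := by exact_mod_cast e1
    have e2' : (finrank K (perp q V) : ℤ) + finrank K C' = finrank K H := by exact_mod_cast e2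
    linear_combination ((finrank K V : ℤ) - finrank K C') * e1' + ((finrank K V : ℤ) - finrank K C') * e2'
  · show t - n ≠ 0
    intro h
    have hVtop : V = ⊤ := Submodule.eq_top_of_finrank_eq (by
      simp only [t, n] at h
      omega)
    subst hVtop
    exact hq0 (LinearMap.ext fun x => LinearMap.ext fun y => hiso x trivial y trivial)
  · have := hpair i j hij
    simp only [t] at this ⊢
    omega
  · have := hpair i j hij
    simp only [t] at this ⊢
    omega


/-- Let W be a finite-dimensional complex vector space with an involution s, H a finite-dimensional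
complex vector space and q : H → H → W a nonzero bilinear map with q(x)(y) = s(q(y)(x)). Write V^⊥ =
{x | q(x)(y) = 0 for all y ∈ V} and call V totally isotropic when q vanishes on V × V. The pair (H,
q) is semistable (dim V + dim V^⊥ ≤ dim H for every nonzero totally isotropic subspace V),
respectively stable (strict inequality), if and only if the line of q is semistable, respectively
stable, for the action of SL(H), the latter being expressed through one-parameter subgroups: for
every decomposition H = ⊕_i H_i into subspaces with integer weights m_i such that Σ_i m_i dim H_i =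
0 and some nonzero H_i has nonzero weight, there are indices i, j with q(H_i, H_j) ≠ 0 and m_i + m_j
≤ 0, respectively m_i + m_j < 0. (The published statement speaks of semistability and stability of
the point of the projective space of such forms under SL(H); this row states the numerical condition
on one-parameter subgroups to which that is equivalent and which the published argument verifies.) -/
theorem result
    (W : Type) [AddCommGroup W] [Module ℂ W] [FiniteDimensional ℂ W]
    (s : W →ₗ[ℂ] W) (hs : s ∘ₗ s = LinearMap.id)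
    (H : Type) [AddCommGroup H] [Module ℂ H] [FiniteDimensional ℂ H]
    (q : H →ₗ[ℂ] H →ₗ[ℂ] W) (hq : ∀ x y : H, q x y = s (q y x)) (hq0 : q ≠ 0) :
    ((∀ V : Submodule ℂ H, V ≠ ⊥ → (∀ x ∈ V, ∀ y ∈ V, q x y = 0) →
        Module.finrank ℂ V + Module.finrank ℂ ↥(⨅ (y : H) (_ : y ∈ V), LinearMap.ker (q.flip y) : Submodule ℂ H) ≤ Module.finrank ℂ H) ↔
      (∀ (ι : Type) [Fintype ι] [DecidableEq ι] (Hs : ι → Submodule ℂ H) (m : ι → ℤ),
        DirectSum.IsInternal Hs → (∑ i, m i * (Module.finrank ℂ (Hs i) : ℤ)) = 0 →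
        (∃ i, m i ≠ 0 ∧ Hs i ≠ ⊥) →
        ∃ i j, (∃ x ∈ Hs i, ∃ y ∈ Hs j, q x y ≠ 0) ∧ m i + m j ≤ 0)) ∧
    ((∀ V : Submodule ℂ H, V ≠ ⊥ → (∀ x ∈ V, ∀ y ∈ V, q x y = 0) →
        Module.finrank ℂ V + Module.finrank ℂ ↥(⨅ (y : H) (_ : y ∈ V), LinearMap.ker (q.flip y) : Submodule ℂ H) < Module.finrank ℂ H) ↔
      (∀ (ι : Type) [Fintype ι] [DecidableEq ι] (Hs : ι → Submodule ℂ H) (m : ι → ℤ),
        DirectSum.IsInternal Hs → (∑ i, m i * (Module.finrank ℂ (Hs i) : ℤ)) = 0 →
        (∃ i, m i ≠ 0 ∧ Hs i ≠ ⊥) →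
        ∃ i j, (∃ x ∈ Hs i, ∃ y ∈ Hs j, q x y ≠ 0) ∧ m i + m j < 0)) := by
  have hsym : ∀ x y, q x y = 0 → q y x = 0 := fun x y h => by rw [hq y x, h, map_zero]
  refine ⟨⟨fun h ι _ _ Hs m hint hsum hne => weights_of_semistable (q := q) m h hint hsum hne,
    fun h V hV hiso => ?_⟩,
    ⟨fun h ι _ _ Hs m hint hsum hne => weights_of_stable (q := q) m h hint hsum hne,
    fun h V hV hiso => ?_⟩⟩
  · obtain ⟨Hs, m, h1, h2, h3, -, h5⟩ := exists_decomposition hsym hq0 V hV hiso
    by_contra hc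
    obtain ⟨i, j, hij, hm⟩ := h (Fin 3) Hs m h1 h2 h3
    exact absurd hm (not_le.2 (h5 (not_le.1 hc) i j hij))
  · obtain ⟨Hs, m, h1, h2, h3, h4, -⟩ := exists_decomposition hsym hq0 V hV hiso
    by_contra hc
    obtain ⟨i, j, hij, hm⟩ := h (Fin 3) Hs m h1 h2 h3
    exact absurd hm (not_lt.2 (h4 (not_lt.1 hc) i j hij))

end Groth.Agent.S15159
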