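import Groth.Statements.S15162
import Mathlib.LinearAlgebra.Matrix.ToLinearEquiv
import Mathlib.LinearAlgebra.Matrix.GeneralLinearGroup.Defs
import Mathlib.GroupTheory.OrderOfElement
import Mathlib.Tactic
-- import your own Groth.Agent.* helpers here

set_option autoImplicit false
set_option backward.isDefEq.respectTransparency false
open Matrix
open BddFin

namespace Groth.Agent.S15162

/-- Let Γ be a finite subgroup of GL_2(ℤ) acting on ℤ² by matrix multiplication. If every element of Γ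
has a non-zero fixed vector in ℤ², then there is a non-zero vector of ℤ² fixed by all of Γ. -/
theorem result
    (Γ : Subgroup (Matrix.GeneralLinearGroup (Fin 2) ℤ)) [Finite Γ]
    (h : ∀ γ ∈ Γ, ∃ v : Fin 2 → ℤ, v ≠ 0 ∧ (γ : Matrix (Fin 2) (Fin 2) ℤ) *ᵥ v = v) :
    ∃ v : Fin 2 → ℤ, v ≠ 0 ∧ ∀ γ ∈ Γ, (γ : Matrix (Fin 2) (Fin 2) ℤ) *ᵥ v = v := by
  classical
  have hker : ∀ γ ∈ Γ, (γ : Matrix (Fin 2) (Fin 2) ℤ).det = 1 → γ = 1 := by
    intro γ hγ hdet
    obtain ⟨v, hv0, hv⟩ := h γ hγ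
    let M : Matrix (Fin 2) (Fin 2) ℤ := γ
    have hd : (M - 1).det = 0 := Matrix.exists_mulVec_eq_zero_iff.mp ⟨v, hv0, by rw [Matrix.sub_mulVec, hv, Matrix.one_mulVec, sub_self]⟩
    have hdet' : M.det = 1 := hdet
    rw [Matrix.det_fin_two] at hd hdet'
    simp only [Matrix.sub_apply, Matrix.one_apply_eq, Matrix.one_apply_ne (show (0 : Fin 2) ≠ 1 by decide),
      Matrix.one_apply_ne (show (1 : Fin 2) ≠ 0 by decide), sub_zero] at hd
    have htr : M 1 1 = 2 - M 0 0 := by linarith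
    rw [htr] at hd
    have hsq : (M - 1) * (M - 1) = 0 := by
      ext i j
      fin_cases i <;> fin_cases j <;> simp [Matrix.mul_apply, Fin.sum_univ_two, htr] <;>
        first | ring1 | linear_combination -hd | linear_combination hd
    have hpow : ∀ n : ℕ, M ^ n = 1 + n • (M - 1) := by
      intro n
      induction n with
      | zero => simp
      | succ n ih =>
        rw [pow_succ, ih]
        conv_lhs => arg 2; rw [show M = 1 + (M - 1) by abel]
        rw [add_mul, mul_add, mul_add, smul_mul_assoc, smul_mul_assoc, hsq, smul_zero, mul_one, mul_one, one_mul, succ_nsmul]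
        abel
    have hfin : IsOfFinOrder (⟨γ, hγ⟩ : Γ) := isOfFinOrder_of_finite _
    have h2 := congrArg (fun g : Γ => ((g : Matrix.GeneralLinearGroup (Fin 2) ℤ) : Matrix (Fin 2) (Fin 2) ℤ))
      (pow_orderOf_eq_one (⟨γ, hγ⟩ : Γ))
    simp only [SubmonoidClass.coe_pow, Units.val_pow_eq_pow_val, OneMemClass.coe_one, Units.val_one] at h2
    rw [hpow, add_eq_left] at h2
    refine Units.ext (sub_eq_zero.mp (Matrix.ext fun i j => ?_))
    have h3 := congrFun (congrFun h2 i) j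
    rw [Matrix.smul_apply, Matrix.zero_apply, smul_eq_zero] at h3
    exact h3.resolve_left hfin.orderOf_pos.ne'
  have hdet : ∀ γ : Matrix.GeneralLinearGroup (Fin 2) ℤ,
      (γ : Matrix (Fin 2) (Fin 2) ℤ).det = 1 ∨ (γ : Matrix (Fin 2) (Fin 2) ℤ).det = -1 := fun γ =>
    Int.isUnit_iff.mp ((Matrix.isUnit_iff_isUnit_det _).mp γ.isUnit)
  by_cases htriv : ∀ γ ∈ Γ, γ = 1
  · exact ⟨fun _ => 1, fun h0 => one_ne_zero (congrFun h0 0), fun γ hγ => by rw [htriv γ hγ, Units.val_one, Matrix.one_mulVec]⟩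
  push Not at htriv
  obtain ⟨γ₀, hγ₀, hne⟩ := htriv
  obtain ⟨v, hv0, hv⟩ := h γ₀ hγ₀
  refine ⟨v, hv0, fun γ hγ => ?_⟩
  by_cases h1 : γ = 1
  · rw [h1, Units.val_one, Matrix.one_mulVec]
  have ha := (hdet γ₀).resolve_left (fun h => hne (hker γ₀ hγ₀ h))
  have hb := (hdet γ).resolve_left (fun h => h1 (hker γ hγ h))
  have hi : (γ₀⁻¹ * γ) = 1 := by
    refine hker _ (mul_mem (inv_mem hγ₀) hγ) ?_
    have e : (γ₀ : Matrix (Fin 2) (Fin 2) ℤ).det * ((γ₀⁻¹ * γ : Matrix.GeneralLinearGroup (Fin 2) ℤ) : Matrix (Fin 2) (Fin 2) ℤ).det = -1 := by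
      rw [← Matrix.det_mul, ← Units.val_mul, mul_inv_cancel_left, hb]
    rw [ha] at e
    linarith
  rw [← inv_mul_eq_one.mp hi]
  exact hv

end Groth.Agent.S15162
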