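import Groth.Statements.S15163
import Mathlib
-- import your own Groth.Agent.* helpers here

set_option autoImplicit false
open Matrix
open BddFin

namespace Groth.Agent.S15163

/-- Let Γ be a finite subgroup of GL_2(ℤ) and d > 6 an integer. Suppose some vector w of (ℤ/dℤ)², with
m·w ≠ 0 for all 0 < m < d, is fixed by the reduction modulo d of every element of Γ. Then some
non-zero vector of ℤ² is fixed by all of Γ. -/
theorem result
    (Γ : Subgroup (Matrix.GeneralLinearGroup (Fin 2) ℤ)) [Finite Γ] (d : ℕ) (hd : 6 < d)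
    (w : Fin 2 → ZMod d) (hw : ∀ m : ℕ, 0 < m → m < d → m • w ≠ 0)
    (hfix : ∀ γ ∈ Γ, ((γ : Matrix (Fin 2) (Fin 2) ℤ).map (Int.castRingHom (ZMod d))) *ᵥ w = w) :
    ∃ v : Fin 2 → ℤ, v ≠ 0 ∧ ∀ γ ∈ Γ, (γ : Matrix (Fin 2) (Fin 2) ℤ) *ᵥ v = v := by
  classical
  haveI : NeZero d := ⟨by omega⟩
  have key : ∀ γ ∈ Γ, (γ : Matrix (Fin 2) (Fin 2) ℤ).trace = 0 ∧ (γ : Matrix (Fin 2) (Fin 2) ℤ).det = -1
      ∨ γ = 1 := by
    intro γ hγ
    set M : Matrix (Fin 2) (Fin 2) ℤ := (γ : Matrix (Fin 2) (Fin 2) ℤ) with hM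
    obtain ⟨N, hN, hγN⟩ := isOfFinOrder_iff_pow_eq_one.mp
      (Submonoid.isOfFinOrder_coe.mpr (isOfFinOrder_of_finite (⟨γ, hγ⟩ : Γ)))
    have hMN : M ^ N = 1 := by
      have := congrArg (fun u : GL (Fin 2) ℤ => (u : Matrix (Fin 2) (Fin 2) ℤ)) hγN
      simpa [Units.val_pow_eq_pow_val] using this
    have hD : M.det = 1 ∨ M.det = -1 := Int.isUnit_iff.mp
      ((Matrix.isUnit_iff_isUnit_det M).mp γ.isUnit)
    set t := M.trace with ht
    set D := M.det with hD'
    have hCH : M * M = t • M - D • (1 : Matrix (Fin 2) (Fin 2) ℤ) := by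
      ext i j
      simp only [ht, hD', Matrix.mul_apply, Matrix.trace_fin_two, Matrix.det_fin_two, Fin.sum_univ_two,
        Matrix.sub_apply, Matrix.smul_apply, smul_eq_mul, Matrix.one_apply]
      fin_cases i <;> fin_cases j <;> simp <;> ring
    -- the trace is bounded by two
    have hbd : |t| ≤ 2 := by
      by_contra hcon
      push Not at hcon
      have hseq : ∀ n, ∃ a a' b : ℤ, M ^ (n + 1) = a • M + b • (1 : Matrix (Fin 2) (Fin 2) ℤ) ∧
          |a'| < |a| ∧ a * t - a' * D = a * t + b := by
        intro n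
        induction n with
        | zero => exact ⟨1, 0, 0, by simp, by simp, by ring⟩
        | succ n ih =>
          obtain ⟨a, a', b, e, hlt, hb⟩ := ih
          refine ⟨a * t + b, a, -(a * D), ?_, ?_, by ring⟩
          · rw [pow_succ, e, add_mul, smul_mul_assoc, hCH, smul_mul_assoc, one_mul, smul_sub, smul_smul,
              smul_smul, add_smul, neg_smul]
            abel
          · rw [← hb]
            have h1 := abs_sub_abs_le_abs_sub (a * t) (a' * D)
            have h2 : |a' * D| = |a'| := by rcases hD with h | h <;> simp [h]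
            have h3 : 3 * |a| ≤ |a * t| := by
              rw [abs_mul]
              nlinarith [abs_nonneg a]
            have := abs_nonneg a'
            omega
      obtain ⟨a, a', b, e, hlt, -⟩ := hseq (N - 1)
      rw [Nat.sub_add_cancel hN, hMN] at e
      have ha : a ≠ 0 := fun h => by rw [h, abs_zero] at hlt; exact absurd hlt (not_lt.mpr (abs_nonneg a'))
      have e01 := congrFun (congrFun e 0) 1
      have e10 := congrFun (congrFun e 1) 0
      have e00 := congrFun (congrFun e 0) 0
      have e11 := congrFun (congrFun e 1) 1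
      simp only [Matrix.add_apply, Matrix.smul_apply, smul_eq_mul, Matrix.one_apply_ne, Matrix.one_apply_eq,
        ne_eq, zero_ne_one, one_ne_zero, not_false_eq_true, mul_zero, add_zero, mul_one] at e01 e10 e00 e11
      replace e01 : M 0 1 = 0 := (mul_eq_zero.mp e01.symm).resolve_left ha
      have h00 : M 0 0 = M 1 1 := mul_left_cancel₀ ha (by linarith)
      rcases hD with h | h <;> simp only [hD', Matrix.det_fin_two, e01, h00, zero_mul, sub_zero] at h
      · have h2 : M 1 1 = 1 ∨ M 1 1 = -1 := by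
          have h' : M 1 1 * M 1 1 = 1 := by linarith
          exact Int.eq_one_or_neg_one_of_mul_eq_one h'
        rcases h2 with h2 | h2 <;> simp [ht, Matrix.trace_fin_two, h00, h2] at hcon
      · nlinarith [mul_self_nonneg (M 1 1)]
    -- `d` divides the value of the characteristic polynomial at one
    set A : Matrix (Fin 2) (Fin 2) (ZMod d) := M.map (Int.castRingHom (ZMod d)) - 1
    have hA : A *ᵥ w = 0 := by rw [Matrix.sub_mulVec, hfix γ hγ, Matrix.one_mulVec, sub_self]
    have hdet : A.det = ((1 - t + D : ℤ) : ZMod d) := by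
      simp [A, ht, hD', Matrix.det_fin_two, Matrix.trace_fin_two, Matrix.map_apply]
      ring
    have hw0 : A.det • w = 0 := by
      rw [← Matrix.one_mulVec w, ← Matrix.smul_mulVec, ← Matrix.adjugate_mul, ← Matrix.mulVec_mulVec,
        hA, Matrix.mulVec_zero]
    have hz : (1 - t + D : ℤ) = 0 := by
      have hb2 : |1 - t + D| < d := by
        have := abs_le.mp hbd
        rw [abs_lt]
        rcases hD with h | h <;> rw [h] <;> omega
      by_contra hne
      refine hw (1 - t + D).natAbs (Int.natAbs_pos.mpr hne) (by rw [Int.abs_eq_natAbs] at hb2; omega) ?_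
      rw [← Nat.cast_smul_eq_nsmul (ZMod d), ← Int.cast_natCast]
      rw [hdet] at hw0
      rcases Int.natAbs_eq (1 - t + D) with h | h
      · rw [← h]; exact hw0
      · rw [show (((1 - t + D).natAbs : ℤ)) = -(1 - t + D) by omega, Int.cast_neg, neg_smul, hw0, neg_zero]
    rcases hD with h | h
    · refine Or.inr (Units.ext ?_)
      have hnil : (M - 1) * (M - 1) = 0 := by
        rw [sub_mul, mul_sub, one_mul, mul_one, hCH, h, show t = 2 by omega, one_smul, two_smul]
        abel
      have hpow : ∀ n : ℕ, M ^ n = 1 + n • (M - 1) := by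
        intro n
        induction n with
        | zero => simp
        | succ n ih =>
          have e : M = 1 + (M - 1) := by abel
          conv_lhs => rw [pow_succ, ih, e]
          rw [add_mul, mul_add, mul_add, one_mul, one_mul, mul_one, add_sub_cancel_left,
            smul_mul_assoc, hnil, smul_zero, succ_nsmul]
          abel
      have h1 := hpow N
      rw [hMN, left_eq_add] at h1
      show M = 1
      refine sub_eq_zero.mp ?_
      ext i j
      have h2 := congrFun (congrFun h1 i) j
      rw [Matrix.smul_apply, nsmul_eq_mul, Matrix.zero_apply] at h2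
      exact (mul_eq_zero.mp h2).resolve_left (by exact_mod_cast hN.ne')
    · exact Or.inl ⟨by omega, h⟩
  by_cases hall : ∀ γ ∈ Γ, γ = 1
  · refine ⟨![1, 0], fun h => by simpa using congrFun h 0, fun γ hγ => ?_⟩
    rw [hall γ hγ, Units.val_one, Matrix.one_mulVec]
  push Not at hall
  obtain ⟨γ₀, hγ₀, hne⟩ := hall
  obtain ⟨ht0, hd0⟩ := (key γ₀ hγ₀).resolve_right hne
  have hdet0 : ((γ₀ : Matrix (Fin 2) (Fin 2) ℤ) - 1).det = 0 := by
    rw [Matrix.det_fin_two] at hd0 ⊢
    rw [Matrix.trace_fin_two] at ht0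
    simp
    linarith
  obtain ⟨v, hv0, hv⟩ := Matrix.exists_mulVec_eq_zero_iff.mpr hdet0
  rw [Matrix.sub_mulVec, Matrix.one_mulVec, sub_eq_zero] at hv
  refine ⟨v, hv0, fun γ hγ => ?_⟩
  rcases key γ hγ with ⟨ht1, hd1⟩ | rfl
  · rcases key _ (Γ.mul_mem hγ hγ₀) with ⟨-, h2⟩ | h2
    · rw [Units.val_mul, Matrix.det_mul, hd1, hd0] at h2
      norm_num at h2
    · have h3 : γ = γ₀⁻¹ := eq_inv_of_mul_eq_one_left h2
      rw [h3]
      conv_lhs => rw [← hv, Matrix.mulVec_mulVec, ← Units.val_mul, inv_mul_cancel, Units.val_one, Matrix.one_mulVec]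
  · rw [Units.val_one, Matrix.one_mulVec]

end Groth.Agent.S15163
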