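import Groth.Statements.S15164
import Mathlib.LinearAlgebra.QuadraticForm.Basic
import Mathlib.Algebra.CharP.Lemmas
import Mathlib.Algebra.CharP.Algebra
import Mathlib.Tactic.LinearCombination
-- import your own Groth.Agent.* helpers here

set_option autoImplicit false
set_option backward.isDefEq.respectTransparency false
universe u v
open BddFin

namespace Groth.Agent.S15164

/-- Let K be a field of characteristic p > 2, V a finite-dimensional K-vector space and q a quadratic
form on V that does not represent zero (q x = 0 only for x = 0). Then the group of K-linear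
automorphisms of V preserving q has no element of order p: if g preserves q and g ^ p = 1 then g =
1. (Non-degeneracy of q, also assumed in the published statement, follows from anisotropy since 2 is
invertible, so it is not repeated here.) -/
theorem result
    (K : Type u) [Field K] (p : ℕ) [Fact p.Prime] [CharP K p] (hp : p ≠ 2)
    (V : Type v) [AddCommGroup V] [Module K V] [FiniteDimensional K V]
    (q : QuadraticForm K V) (hq : q.Anisotropic)
    (g : V ≃ₗ[K] V) (hg : ∀ x : V, q (g x) = q x) (hgp : g ^ p = 1) : g = 1 := by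
  have h2 : (2 : K) ≠ 0 := Ring.two_ne_zero (by rw [ringChar.eq K p]; exact hp)
  by_contra hne
  let N : Module.End K V := (g : Module.End K V) - 1
  have hpow : ∀ i : ℕ, ((g : Module.End K V)) ^ i = ((g ^ i : V ≃ₗ[K] V) : Module.End K V) := fun i => by
    induction i with
    | zero => rfl
    | succ i ih => rw [pow_succ, pow_succ, ih]; rfl
  have hN : IsNilpotent N := ⟨p, by
    haveI : CharP (Module.End K V) p := by
      haveI : Nontrivial V := by
        by_contra h
        rw [not_nontrivial_iff_subsingleton] at h
        exact hne (LinearEquiv.ext fun x => Subsingleton.elim _ _)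
      exact charP_of_injective_algebraMap (algebraMap K (Module.End K V)).injective p
    rw [sub_pow_char_of_commute _ (Commute.one_right _), one_pow, hpow, hgp]
    exact sub_self _⟩
  have hN0 : N ≠ 0 := fun h => hne (LinearEquiv.ext fun x => sub_eq_zero.mp (LinearMap.congr_fun h x))
  obtain ⟨m, hm, hm'⟩ : ∃ m, N ^ m ≠ 0 ∧ N ^ (m + 1) = 0 := by
    classical
    have h := Nat.find_spec hN
    obtain ⟨m, hm⟩ := Nat.exists_eq_succ_of_ne_zero (n := Nat.find hN) (fun h0 => hN0 (by
      rw [h0, pow_zero] at h
      rw [← one_mul N, h, zero_mul]))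
    refine ⟨m, Nat.find_min hN (by rw [hm]; exact Nat.lt_succ_self m), ?_⟩
    show N ^ m.succ = 0
    rw [← hm]; exact h
  obtain ⟨k, rfl⟩ := Nat.exists_eq_succ_of_ne_zero (n := m) (fun h0 => hN0 (by rw [h0, zero_add, pow_one] at hm'; exact hm'))
  obtain ⟨x, hx⟩ : ∃ x, (N ^ (k + 1)) x ≠ 0 := by
    by_contra h
    push Not at h
    exact hm (LinearMap.ext h)
  let x₁ := (N ^ k) x
  let y := N x₁
  have hy0 : y ≠ 0 := by
    rw [show y = (N ^ (k + 1)) x by rw [pow_succ']; rfl]
    exact hx
  have hgy : g y = y := by
    have h3 : (N * (N * N ^ k)) x = 0 := by rw [← pow_succ', ← pow_succ', hm']; rfl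
    exact sub_eq_zero.mp h3
  have hgx : g x₁ = x₁ + y := (add_sub_cancel x₁ (g x₁)).symm.trans rfl
  have e1 : q (x₁ + y) = q x₁ := by rw [← hgx, hg]
  have e2 : q (x₁ + (2 : K) • y) = q x₁ := by
    rw [show x₁ + (2 : K) • y = g (g x₁) by rw [hgx, map_add, hgx, hgy, two_smul]; abel, hg, hg]
  have hA1 : q (x₁ + y) = q x₁ + q y + QuadraticMap.polar q x₁ y := by
    rw [QuadraticMap.polar]; abel
  have hA2 : q (x₁ + (2 : K) • y) = q x₁ + (2 * 2 : K) * q y + 2 * QuadraticMap.polar q x₁ y := by
    have h5 := q.map_smul (2 : K) y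
    have h6 := QuadraticMap.polar_smul_right q (2 : K) x₁ y
    rw [smul_eq_mul] at h5 h6
    rw [← h5, ← h6, QuadraticMap.polar]; abel
  refine hy0 (hq y ((mul_eq_zero.mp (?_ : (2 : K) * q y = 0)).resolve_left h2))
  linear_combination (-2 : K) * e1 + e2 + (2 : K) * hA1 - hA2

end Groth.Agent.S15164
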