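import Groth.Statements.S15165
import Mathlib
-- import your own Groth.Agent.* helpers here

set_option autoImplicit false
universe u v
open Polynomial
open BddFin

namespace Groth.Agent.S15165

/-- Let K be a field of characteristic different from 2 such that K contains all roots of unity (for
every n ≥ 1 the polynomial X^n − 1 splits into linear factors over K), V a finite-dimensional
K-vector space and q a quadratic form on V that does not represent zero. If a K-linear automorphism
g of V preserves q and has finite order (g ^ d = 1 for some d ≥ 1), then g ^ 2 = 1. (The published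
statement also covers perfect fields of characteristic 2; this row is the case of characteristic ≠
2.) -/
theorem result
    (K : Type u) [Field K] (hK : ∀ n : ℕ, 0 < n → (X ^ n - 1 : K[X]).Splits) (h2 : (2 : K) ≠ 0)
    (V : Type v) [AddCommGroup V] [Module K V] [FiniteDimensional K V]
    (q : QuadraticForm K V) (hq : q.Anisotropic)
    (g : V ≃ₗ[K] V) (hg : ∀ x : V, q (g x) = q x) (d : ℕ) (hd : 0 < d) (hgd : g ^ d = 1) :
    g ^ 2 = 1 := by
  classical
  let f : Module.End K V := g.toLinearMap
  have hmul : ∀ (a b : V ≃ₗ[K] V), (a * b).toLinearMap = a.toLinearMap * b.toLinearMap := fun _ _ => rfl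
  have hfd : f ^ d = 1 := by
    have h : ∀ n : ℕ, (g ^ n).toLinearMap = f ^ n := fun n => by
      induction n with
      | zero => rfl
      | succ n ih => rw [pow_succ, hmul, ih, pow_succ]
    rw [← h, hgd]
    rfl
  have heig : ∀ ζ : K, ζ ^ 2 ≠ 1 → ∀ x : V, f x = ζ • x → x = 0 := by
    intro ζ hζ x hx
    by_contra hx0
    have h := hg x
    rw [show g x = ζ • x from hx, QuadraticMap.map_smul, smul_eq_mul] at h
    have hqx : q x ≠ 0 := fun h0 => hx0 (hq x h0)
    exact hζ (by rw [sq]; exact mul_right_cancel₀ hqx (h.trans (one_mul _).symm))
  let D : Module.End K V := f * f - 1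
  have key : ∀ s : Multiset K, ∀ x : V,
      Polynomial.aeval f (s.map fun ζ => X - C ζ).prod x = 0 → (D ^ s.card) x = 0 := by
    intro s
    induction s using Multiset.induction with
    | empty => intro x hx; simpa using hx
    | cons ζ s ih =>
      intro x hx
      rw [Multiset.map_cons, Multiset.prod_cons, map_mul, Module.End.mul_apply] at hx
      set P : K[X] := (s.map fun ζ => X - C ζ).prod
      have h1 : f (aeval f P x) = ζ • aeval f P x := by
        simpa [sub_eq_zero, Algebra.algebraMap_eq_smul_one] using hx
      rw [Multiset.card_cons]
      rcases eq_or_ne (ζ ^ 2) 1 with hζ | hζ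
      · rw [pow_succ, Module.End.mul_apply]
        refine ih _ ?_
        have hc : aeval f P * D = D * aeval f P := by
          have : D = aeval f (X * X - 1 : K[X]) := by simp [D]
          rw [this, ← map_mul, ← map_mul, mul_comm]
        rw [← Module.End.mul_apply, hc, Module.End.mul_apply]
        simp only [D, LinearMap.sub_apply, Module.End.mul_apply, Module.End.one_apply, h1, map_smul,
          smul_smul]
        rw [← pow_two, hζ, one_smul, sub_self]
      · rw [pow_succ', Module.End.mul_apply, ih x (heig ζ hζ _ h1), map_zero]
  have hmon : (X ^ d - 1 : K[X]).Monic := by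
    simpa using monic_X_pow_sub_C (1 : K) hd.ne'
  have hnil : ∀ x, (D ^ (X ^ d - 1 : K[X]).roots.card) x = 0 := fun x => key _ x (by
    rw [← (hK d hd).eq_prod_roots_of_monic hmon]
    simp [hfd])
  have hD : ∀ n : ℕ, ∀ x, (D ^ n) x = 0 → D x = 0 := by
    intro n
    induction n with
    | zero => intro x hx; rw [show x = 0 by simpa using hx, map_zero]
    | succ n ih =>
      intro x hx
      rw [pow_succ, Module.End.mul_apply] at hx
      have hy : g (g (D x)) = D x := sub_eq_zero.mp (ih (D x) hx)
      set y := D x with hy'
      have hx' : g (g x) = x + y := by rw [hy']; simp [D, f]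
      have hB : ∀ a b, QuadraticMap.polar q (g a) (g b) = QuadraticMap.polar q a b := fun a b => by
        simp only [QuadraticMap.polar, ← map_add, hg]
      have h := (hB (g x) (g y)).trans (hB x y)
      rw [hx', hy, QuadraticMap.polar_add_left q, QuadraticMap.polar_self q, add_eq_left] at h
      have : (2 : K) * q y = 0 := by rw [← h, nsmul_eq_mul]; norm_num
      exact hq y ((mul_eq_zero.mp this).resolve_left h2)
  refine LinearEquiv.ext fun x => ?_
  rw [pow_two]
  exact sub_eq_zero.mp (hD _ x (hnil x))

end Groth.Agent.S15165
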