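import Groth.Statements.S15166
import Groth.Agent.S15165
import Mathlib
-- import your own Groth.Agent.* helpers here

set_option autoImplicit false
universe u v
open Polynomial
open BddFin

namespace Groth.Agent.S15166

/-- Let K be a field of characteristic different from 2 such that K contains all roots of unity (for
every n ≥ 1 the polynomial X^n − 1 splits into linear factors over K), V a finite-dimensional
K-vector space and q a quadratic form on V that does not represent zero. Then every finite subgroup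
of the group of K-linear automorphisms of V preserving q is abelian and has order at most 2 ^ (dim
V). (The published statement also covers perfect fields of characteristic 2; this row is the case of
characteristic ≠ 2.) -/
theorem result
    (K : Type u) [Field K] (hK : ∀ n : ℕ, 0 < n → (X ^ n - 1 : K[X]).Splits) (h2 : (2 : K) ≠ 0)
    (V : Type v) [AddCommGroup V] [Module K V] [FiniteDimensional K V]
    (q : QuadraticForm K V) (hq : q.Anisotropic)
    (G : Subgroup (V ≃ₗ[K] V)) [Finite G] (hG : ∀ g ∈ G, ∀ x : V, q (g x) = q x) :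
    (∀ g ∈ G, ∀ h ∈ G, g * h = h * g) ∧ Nat.card G ≤ 2 ^ Module.finrank K V := by
  classical
  have hsq : ∀ g ∈ G, g * g = 1 := by
    intro g hg
    rw [← pow_two]
    obtain ⟨d, hd, hgd⟩ := isOfFinOrder_iff_pow_eq_one.mp
      (Submonoid.isOfFinOrder_coe.mpr (isOfFinOrder_of_finite (⟨g, hg⟩ : G)))
    exact Groth.Agent.S15165.result K hK h2 V q hq g (hG g hg) d hd hgd
  have hcomm : ∀ g ∈ G, ∀ h ∈ G, g * h = h * g := by
    intro g hg h hh
    have e1 : g⁻¹ = g := inv_eq_of_mul_eq_one_right (hsq g hg)
    have e2 : h⁻¹ = h := inv_eq_of_mul_eq_one_right (hsq h hh)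
    have e3 : (g * h)⁻¹ = g * h := inv_eq_of_mul_eq_one_right (hsq _ (G.mul_mem hg hh))
    rw [mul_inv_rev, e1, e2] at e3
    exact e3.symm
  refine ⟨hcomm, ?_⟩
  let T : G → Module.End K V := fun g => g.1.toLinearMap
  have hT : ∀ g : G, T g * T g = 1 := fun g =>
    congrArg LinearEquiv.toLinearMap (hsq g.1 g.2)
  have hTc : ∀ a b : G, Commute (T a) (T b) := fun a b =>
    congrArg LinearEquiv.toLinearMap (hcomm a.1 a.2 b.1 b.2)
  have hss : ∀ g : G, (T g).IsSemisimple := fun g =>
    Module.End.isSemisimple_of_squarefree_aeval_eq_zero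
      (p := (X ^ 2 - C 1 : K[X]))
      (separable_X_pow_sub_C 1 (by simpa using h2) one_ne_zero).squarefree
      (by simp [sq, hT g])
  have htop : ∀ g : G, ⨆ μ, (T g).maxGenEigenspace μ = ⊤ := by
    intro g
    rw [eq_top_iff]
    intro v _
    have e : v = (2 : K)⁻¹ • (v + T g v) + (2 : K)⁻¹ • (v - T g v) := by
      rw [← smul_add, add_add_sub_cancel, ← two_smul K v, smul_smul, inv_mul_cancel₀ h2, one_smul]
    have hTT : T g (T g v) = v := LinearMap.congr_fun (hT g) v
    rw [e]
    refine add_mem (Submodule.smul_mem _ _ (Submodule.mem_iSup_of_mem 1 ?_))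
      (Submodule.smul_mem _ _ (Submodule.mem_iSup_of_mem (-1) ?_)) <;>
      rw [(hss _).isFinitelySemisimple.maxGenEigenspace_eq_eigenspace, Module.End.mem_eigenspace_iff] <;>
      simp [hTT, add_comm]
  have hind := Module.End.independent_iInf_maxGenEigenspace_of_forall_mapsTo T
    fun a b φ => Module.End.mapsTo_maxGenEigenspace_of_comm (hTc b a) φ
  have hsup := Module.End.iSup_iInf_maxGenEigenspace_eq_top_of_iSup_maxGenEigenspace_eq_top_of_commute
    T (fun a b _ => hTc a b) htop
  let W : (G → K) → Submodule K V := fun χ => ⨅ i, (T i).maxGenEigenspace (χ i)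
  letI : Fintype {χ // W χ ≠ ⊥} := hind.fintypeNeBotOfFiniteDimensional
  have hcard : Fintype.card {χ // W χ ≠ ⊥} ≤ Module.finrank K V := hind.subtype_ne_bot_le_finrank
  let Φ : G → {χ // W χ ≠ ⊥} → Bool := fun g χ => decide (χ.1 g = 1)
  have hval : ∀ (g : G) (χ : {χ // W χ ≠ ⊥}), ∀ v ∈ W χ.1, T g v = χ.1 g • v := by
    intro g χ v hv
    have h : v ∈ (T g).maxGenEigenspace (χ.1 g) := (Submodule.mem_iInf _).mp hv g
    rw [(hss _).isFinitelySemisimple.maxGenEigenspace_eq_eigenspace,
      Module.End.mem_eigenspace_iff] at h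
    exact h
  have hpm : ∀ (g : G) (χ : {χ // W χ ≠ ⊥}), χ.1 g = 1 ∨ χ.1 g = -1 := by
    intro g χ
    obtain ⟨v, hv, hv0⟩ := (Submodule.ne_bot_iff _).mp χ.2
    have h := LinearMap.congr_fun (hT g) v
    rw [Module.End.mul_apply, hval g χ v hv, map_smul, hval g χ v hv, smul_smul,
      Module.End.one_apply] at h
    refine mul_self_eq_one_iff.mp ?_
    by_contra hne
    exact hv0 ((smul_eq_zero.mp (show (χ.1 g * χ.1 g - 1) • v = 0 by
      rw [sub_smul, one_smul, h, sub_self])).resolve_left (sub_ne_zero.mpr hne))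
  have hΦ : Function.Injective Φ := by
    intro g g' hgg
    apply Subtype.ext
    apply LinearEquiv.toLinearMap_injective
    show T g = T g'
    rw [← LinearMap.eqLocus_eq_top, eq_top_iff, ← hsup, iSup_le_iff]
    intro χ v hv
    by_cases hχ : W χ = ⊥
    · have : v = 0 := by
        have h : v ∈ W χ := hv
        rwa [hχ] at h
      subst this
      exact zero_mem _
    show T g v = T g' v
    rw [hval g ⟨χ, hχ⟩ v hv, hval g' ⟨χ, hχ⟩ v hv]
    congr 1
    have h := congrFun hgg ⟨χ, hχ⟩
    simp only [Φ, decide_eq_decide] at h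
    have hne : (-1 : K) ≠ 1 := fun he => h2 (by linear_combination -he)
    rcases hpm g ⟨χ, hχ⟩ with e | e <;> rcases hpm g' ⟨χ, hχ⟩ with e' | e'
    · rw [e, e']
    · exact absurd (e'.symm.trans (h.mp e)) hne
    · exact absurd (e.symm.trans (h.mpr e')) hne
    · rw [e, e']
  calc Nat.card G ≤ Nat.card ({χ // W χ ≠ ⊥} → Bool) := Nat.card_le_card_of_injective Φ hΦ
    _ = 2 ^ Fintype.card {χ // W χ ≠ ⊥} := by simp [Nat.card_eq_fintype_card]
    _ ≤ _ := Nat.pow_le_pow_right (by norm_num) hcard

end Groth.Agent.S15166
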