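import Groth.Statements.S15167
import Groth.Agent.BddCycH7.Basic
-- import your own Groth.Agent.* helpers here

set_option autoImplicit false
universe u v
open Polynomial
open BddFin

namespace Groth.Agent.S15167

/-- Let K be a field such that K contains all roots of unity (for every n ≥ 1 the polynomial X^n − 1
splits into linear factors over K), A a central simple K-algebra of dimension n ^ 2, and x an
invertible element of A some power x ^ m (m ≥ 1) of which lies in K. Then there are a positive
integer r dividing n and elements a_i of K such that the minimal polynomial of x over K is the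
product of the polynomials X ^ r − a_i. -/
theorem result
    (K : Type u) [Field K] (hK : ∀ n : ℕ, 0 < n → (X ^ n - 1 : K[X]).Splits)
    (A : Type v) [Ring A] [Algebra K A] [Algebra.IsCentral K A] [IsSimpleRing A] [FiniteDimensional K A]
    (n : ℕ) (hn : Module.finrank K A = n ^ 2)
    (x : A) (hx : IsUnit x) (hxm : ∃ m : ℕ, 0 < m ∧ x ^ m ∈ (algebraMap K A).range) :
    ∃ r : ℕ, 0 < r ∧ r ∣ n ∧ ∃ s : Multiset K, minpoly K x = (s.map fun a : K => X ^ r - C a).prod := by
  classical
  obtain ⟨m, hm, c, hc⟩ := hxm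
  have hint : IsIntegral K x := IsIntegral.of_finite K x
  have hc0 : c ≠ 0 := by
    rintro rfl
    rw [map_zero] at hc
    exact (hx.pow m).ne_zero hc.symm
  set s := UniqueFactorizationMonoid.normalizedFactors (minpoly K x) with hsdef
  have hμ0 : minpoly K x ≠ 0 := minpoly.ne_zero hint
  have hprod : s.prod = minpoly K x := by
    rw [hsdef, UniqueFactorizationMonoid.prod_normalizedFactors_eq hμ0]
    exact (minpoly.monic hint).normalize_eq_self
  have hq : ∀ q ∈ s, Irreducible q ∧ q.Monic ∧ q ∣ X ^ m - C c := fun q hq =>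
    ⟨UniqueFactorizationMonoid.irreducible_of_normalized_factor q hq,
      by
        rw [← UniqueFactorizationMonoid.normalize_normalized_factor q hq]
        exact Polynomial.monic_normalize (UniqueFactorizationMonoid.irreducible_of_normalized_factor q hq).ne_zero,
      (UniqueFactorizationMonoid.dvd_of_mem_normalizedFactors hq).trans
        (minpoly.dvd K x (by simp [hc]))⟩
  -- each factor has the form `X ^ d - C a`
  let Fc := AlgebraicClosure K
  have hroot : ∀ q ∈ s, ∃ α : Fc, α ≠ 0 ∧ α ^ m = algebraMap K Fc c ∧ q = minpoly K α := by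
    intro q hqs
    obtain ⟨hi, hmo, hd⟩ := hq q hqs
    obtain ⟨α, hα⟩ := IsAlgClosed.exists_aeval_eq_zero Fc q (degree_pos_of_irreducible hi).ne'
    have hαm : α ^ m = algebraMap K Fc c := by
      obtain ⟨w, hw⟩ := hd
      have h1 : aeval α (X ^ m - C c : K[X]) = 0 := by rw [hw, map_mul, hα, zero_mul]
      simpa [sub_eq_zero] using h1
    refine ⟨α, ?_, hαm, minpoly.eq_of_irreducible_of_monic hi hα hmo⟩
    rintro rfl
    rw [zero_pow hm.ne'] at hαm
    exact hc0 ((algebraMap K Fc).injective (hαm.symm.trans (map_zero _).symm))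
  have hform : ∀ q ∈ s, q = X ^ q.natDegree - C (-(q.coeff 0)) := by
    intro q hqs
    obtain ⟨α, hα0, hαm, rfl⟩ := hroot q hqs
    obtain ⟨a, ha⟩ := Groth.Agent.BddCycH7.pow_natDegree_mem hK hm hα0 ⟨c, hαm.symm⟩
    have hinta : IsIntegral K α := Algebra.IsIntegral.isIntegral α
    have hd0 : (minpoly K α).natDegree ≠ 0 := (minpoly.natDegree_pos hinta).ne'
    have h : X ^ (minpoly K α).natDegree - C a = minpoly K α :=
      Polynomial.eq_of_monic_of_dvd_of_natDegree_le (minpoly.monic hinta) (monic_X_pow_sub_C a hd0)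
        (minpoly.dvd K α (by simp [ha])) (by rw [natDegree_X_pow_sub_C])
    have ha' : -(minpoly K α).coeff 0 = a := by
      rw [← h, coeff_sub, coeff_X_pow, if_neg hd0.symm, coeff_C_zero, zero_sub, neg_neg]
    rw [ha', h]
  have hsne : s ≠ 0 := by
    intro h0
    rw [h0, Multiset.prod_zero] at hprod
    exact (minpoly.natDegree_pos hint).ne' (by rw [← hprod, natDegree_one])
  obtain ⟨q0, hq0⟩ := Multiset.exists_mem_of_ne_zero hsne
  have hdeg : ∀ q ∈ s, ∀ q' ∈ s, q.natDegree ≤ q'.natDegree := by
    intro q hqs q' hqs'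
    obtain ⟨α, hα0, hαm, rfl⟩ := hroot q hqs
    obtain ⟨β, hβ0, hβm, rfl⟩ := hroot q' hqs'
    obtain ⟨a, ha⟩ := Groth.Agent.BddCycH7.pow_natDegree_mem hK hm hβ0 ⟨c, hβm.symm⟩
    obtain ⟨ζ, hζ⟩ := Groth.Agent.BddCycH7.ratio_mem hK hm hβ0 (hαm.trans hβm.symm)
    have hd0 : 0 < (minpoly K β).natDegree := minpoly.natDegree_pos (Algebra.IsIntegral.isIntegral β)
    refine (Polynomial.natDegree_le_of_dvd (minpoly.dvd K α (p := X ^ (minpoly K β).natDegree -
      C (ζ ^ (minpoly K β).natDegree * a)) ?_) (X_pow_sub_C_ne_zero hd0 _)).trans_eq natDegree_X_pow_sub_C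
    simp [hζ, mul_pow, ha]
  refine ⟨q0.natDegree, Nat.pos_of_ne_zero fun h => ?_, ?_, s.map fun q => -(q.coeff 0), ?_⟩
  · exact (Nat.ne_of_gt (Irreducible.natDegree_pos (hq q0 hq0).1)) h
  · refine Groth.Agent.BddCycH7.dvd_degree hn x s (fun q hqs => ⟨(hq q hqs).1,
      le_antisymm (hdeg q hqs q0 hq0) (hdeg q0 hq0 q hqs)⟩) ?_
    rw [hprod, minpoly.aeval]
  · rw [Multiset.map_map, ← hprod]
    conv_lhs => rw [← Multiset.map_id' s]
    refine congrArg Multiset.prod (Multiset.map_congr rfl fun q hqs => ?_)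
    show q = X ^ q0.natDegree - C (-(q.coeff 0))
    rw [le_antisymm (hdeg q0 hq0 q hqs) (hdeg q hqs q0 hq0)]
    exact hform q hqs

end Groth.Agent.S15167
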