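import Groth.Statements.S15168
import Mathlib
import Groth.Agent.CSALib.MaximalField
-- import your own Groth.Agent.* helpers here

set_option autoImplicit false
universe u v
open Polynomial
open BddFin

namespace Groth.Agent.S15168

/-- Let K be a field such that K contains all roots of unity (for every n ≥ 1 the polynomial X^n − 1
splits into linear factors over K), A a central division algebra of dimension n ^ 2 over K, and x an
element of A some power x ^ m (m ≥ 1) of which lies in K. Then x ^ n lies in K; that is, the order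
of the class of x in the quotient of the unit group of A by that of K divides n. -/
theorem result
    (K : Type u) [Field K] (hK : ∀ n : ℕ, 0 < n → (X ^ n - 1 : K[X]).Splits)
    (A : Type v) [DivisionRing A] [Algebra K A] [Algebra.IsCentral K A] [FiniteDimensional K A]
    (n : ℕ) (hn : Module.finrank K A = n ^ 2)
    (x : A) (hxm : ∃ m : ℕ, 0 < m ∧ x ^ m ∈ (algebraMap K A).range) :
    x ^ n ∈ (algebraMap K A).range := by
  classical
  rcases eq_or_ne x 0 with rfl | hx0
  · rcases eq_or_ne n 0 with rfl | hn0
    · exact ⟨1, by simp⟩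
    · exact ⟨0, by simp [hn0]⟩
  let P : ℕ → Prop := fun r => ∃ L : Subalgebra K A, x ∈ L ∧ (∀ a ∈ L, ∀ b ∈ L, a * b = b * a) ∧
    Module.finrank K L = r
  have hP : P (Module.finrank K (Algebra.adjoin K ({x} : Set A))) := by
    refine ⟨_, Algebra.self_mem_adjoin_singleton K x, fun a ha b hb => ?_, rfl⟩
    letI := Algebra.adjoinCommRingOfComm K (s := ({x} : Set A)) (by rintro _ rfl _ rfl; rfl)
    exact congrArg Subtype.val (mul_comm (⟨a, ha⟩ : Algebra.adjoin K ({x} : Set A)) ⟨b, hb⟩)
  obtain ⟨L, hxL, hcomm, hdim⟩ := Nat.findGreatest_spec (P := P) (n := Module.finrank K A)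
    (Submodule.finrank_le (Algebra.adjoin K ({x} : Set A)).toSubmodule) hP
  have hmax : ∀ L' : Subalgebra K A, (∀ a ∈ L', ∀ b ∈ L', a * b = b * a) → L ≤ L' → L' = L := by
    intro L' h' hle
    by_contra hne
    have hlt : Module.finrank K L < Module.finrank K L' :=
      Submodule.finrank_lt_finrank_of_lt (show L.toSubmodule < L'.toSubmodule from
        lt_of_le_of_ne hle fun h => hne (Subalgebra.toSubmodule_injective h.symm))
    have := Nat.le_findGreatest (P := P) (Submodule.finrank_le L'.toSubmodule)
      ⟨L', hle hxL, h', rfl⟩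
    exact absurd this (not_le.2 (hdim ▸ hlt))
  have hn' : Module.finrank K L = n := by
    have := (Groth.Agent.CSALib.finrank_eq_sq_of_maximal L hcomm hmax).symm.trans hn
    exact Nat.pow_left_injective two_ne_zero this
  letI : CommRing L := { (inferInstance : Ring L) with mul_comm := fun a b => Subtype.ext (hcomm a.1 a.2 b.1 b.2) }
  letI : Field L := fieldOfFiniteDimensional K L
  let y : L := ⟨x, hxL⟩
  have hy : IsIntegral K y := IsIntegral.of_finite K y
  set d := (minpoly K y).natDegree with hd
  obtain ⟨q, hq⟩ : d ∣ n := hn' ▸ minpoly.degree_dvd hy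
  suffices hyd : y ^ d ∈ (algebraMap K L).range by
    obtain ⟨c, hc⟩ := hyd
    refine ⟨c ^ q, ?_⟩
    rw [map_pow, hq, pow_mul]
    exact congrArg (· ^ q) (congrArg Subtype.val hc)
  obtain ⟨m, hm, a, ha⟩ := hxm
  have hya : y ^ m = algebraMap K L a := Subtype.ext ha.symm
  let Fc := AlgebraicClosure L
  haveI : IsScalarTower K L Fc := inferInstance
  let z : Fc := algebraMap L Fc y
  have hz0 : z ≠ 0 := (_root_.map_ne_zero _).2 fun h => hx0 (congrArg Subtype.val h)
  let μ : Fc[X] := (minpoly K y).map (algebraMap K Fc)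
  have hμm : μ.Monic := (minpoly.monic hy).map _
  have hroot : ∀ r ∈ μ.roots, r / z ∈ (algebraMap K Fc).range := by
    intro r hr
    have hdvd : μ ∣ (X ^ m - C a : K[X]).map (algebraMap K Fc) :=
      Polynomial.map_dvd _ (minpoly.dvd K y (by simp [hya]))
    obtain ⟨q', hq'⟩ := hdvd
    have h0 : ((X ^ m - C a : K[X]).map (algebraMap K Fc)).eval r = 0 := by
      rw [hq', eval_mul, show μ.eval r = 0 from isRoot_of_mem_roots hr, zero_mul]
    rw [Polynomial.map_sub, Polynomial.map_pow, map_X, map_C, eval_sub, eval_pow, eval_X, eval_C,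
      sub_eq_zero] at h0
    refine (hK m hm).mem_range_of_isRoot (X_pow_sub_C_ne_zero hm (1 : K)) ?_
    have hzm : z ^ m = algebraMap K Fc a := by
      rw [← map_pow, hya]
      rfl
    rw [IsRoot, Polynomial.map_sub, Polynomial.map_pow, map_X, Polynomial.map_one, eval_sub, eval_pow,
      eval_X, eval_one, div_pow, h0, hzm, div_self (by rw [← hzm]; exact pow_ne_zero _ hz0), sub_self]
  have hs : μ.Splits := IsAlgClosed.splits μ
  have hcard : μ.roots.card = d := by
    rw [← hs.natDegree_eq_card_roots, natDegree_map]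
  have hprod := hs.coeff_zero_eq_prod_roots_of_monic hμm
  have hfac : μ.roots.prod = (μ.roots.map fun r => r / z).prod * z ^ d := by
    conv_lhs => rw [← Multiset.map_id' μ.roots]
    rw [← hcard, ← Multiset.prod_replicate, ← Multiset.map_const', ← Multiset.prod_map_mul]
    exact congrArg Multiset.prod (Multiset.map_congr rfl fun r _ => (div_mul_cancel₀ r hz0).symm)
  have hmem : (μ.roots.map fun r => r / z).prod ∈ (algebraMap K Fc).range := by
    refine Subring.multiset_prod_mem _ _ fun r hr => ?_
    obtain ⟨r', hr', rfl⟩ := Multiset.mem_map.1 hr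
    exact hroot r' hr'
  obtain ⟨P0, hP0⟩ := hmem
  have hP00 : P0 ≠ 0 := by
    intro h
    rw [h, map_zero] at hP0
    obtain ⟨r, hr, hr0⟩ := Multiset.mem_map.1 (Multiset.prod_eq_zero_iff.1 hP0.symm)
    rcases div_eq_zero_iff.1 hr0 with h | h
    · have := isRoot_of_mem_roots hr
      rw [h, IsRoot, ← coeff_zero_eq_eval_zero, coeff_map, _root_.map_eq_zero] at this
      exact minpoly.coeff_zero_ne_zero hy (fun h' => hx0 (congrArg Subtype.val h')) this
    · exact hz0 h
  refine ⟨(minpoly K y).coeff 0 * ((-1) ^ d * P0)⁻¹, (algebraMap L Fc).injective ?_⟩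
  rw [← IsScalarTower.algebraMap_apply, map_mul, map_inv₀, map_mul, map_pow, map_neg, map_one, map_pow,
    hP0, mul_inv_eq_iff_eq_mul₀]
  · have := hprod
    rw [coeff_map, natDegree_map, hfac] at this
    rw [this]
    ring
  · rw [← hP0]
    exact mul_ne_zero (pow_ne_zero _ (neg_ne_zero.2 one_ne_zero)) ((_root_.map_ne_zero _).2 hP00)

end Groth.Agent.S15168
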