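import Groth.Statements.S1517
import Mathlib

set_option autoImplicit false
universe u
open Brauer

namespace Groth.Agent.S1517

/-- Let A be a ring with no nontrivial two-sided ideals and M a nonzero right ideal, viewed as a right
A-module with endomorphism ring A'. Then every A'-linear endomorphism of M is right multiplication
by exactly one element of A; that is, the natural map from A to the bicommutant of M is a bijection. -/
theorem result (A : Type u) [Ring A] [IsSimpleRing A]
    (M : Submodule Aᵐᵒᵖ A) (hM : M ≠ ⊥)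
    (g : Module.End (Module.End Aᵐᵒᵖ M) M) :
    ∃! a : A, ∀ m : M, (g m : A) = (m : A) * a := by
  classical
  have hright : ∀ (m : M) (a : A), (m : A) * a ∈ M := fun m a => M.smul_mem (MulOpposite.op a) m.2
  let L : M → Module.End Aᵐᵒᵖ M := fun n =>
    { toFun := fun x => ⟨(n : A) * x, hright n x⟩
      map_add' := fun x y => Subtype.ext (mul_add _ _ _)
      map_smul' := fun r x => Subtype.ext (mul_assoc (n : A) (x : A) r.unop).symm }
  have hg : ∀ n x : M, (g ⟨(n : A) * x, hright n x⟩ : A) = (n : A) * g x := fun n x =>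
    congrArg Subtype.val (g.map_smul (L n) x)
  -- the two-sided ideal generated by `M`
  obtain ⟨l, hl⟩ : ∃ l : List (A × M), (l.map fun p => p.1 * (p.2 : A)).sum = 1 := by
    let P : TwoSidedIdeal A := TwoSidedIdeal.mk' {x | ∃ l : List (A × M), (l.map fun p => p.1 * (p.2 : A)).sum = x}
      ⟨[], rfl⟩
      (fun {x y} ⟨l, hl⟩ ⟨l', hl'⟩ => ⟨l ++ l', by simp [hl, hl']⟩)
      (fun {x} ⟨l, hl⟩ => ⟨l.map fun p => (-p.1, p.2), by
        rw [← hl, List.map_map]; clear hl
        induction l with
        | nil => simp
        | cons p t ih => simp [ih, add_comm]⟩)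
      (fun {x y} ⟨l, hl⟩ => ⟨l.map fun p => (x * p.1, p.2), by
        rw [← hl, ← List.sum_map_mul_left, List.map_map]
        exact congrArg List.sum (List.map_congr_left fun p _ => mul_assoc _ _ _)⟩)
      (fun {x y} ⟨l, hl⟩ => ⟨l.map fun p => (p.1, ⟨(p.2 : A) * y, hright p.2 y⟩), by
        rw [← hl, ← List.sum_map_mul_right, List.map_map]
        exact congrArg List.sum (List.map_congr_left fun p _ => (mul_assoc _ _ _).symm)⟩)
    have hP : P = ⊤ := (eq_bot_or_eq_top P).resolve_left fun h => hM ((Submodule.eq_bot_iff M).2 fun m hm => by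
      have : m ∈ P := (TwoSidedIdeal.mem_mk' ..).2 ⟨[(1, ⟨m, hm⟩)], by simp⟩
      rwa [h, TwoSidedIdeal.mem_bot] at this)
    have h1 : (1 : A) ∈ P := by rw [hP]; trivial
    rw [TwoSidedIdeal.mem_mk'] at h1
    exact h1
  refine ⟨(l.map fun p => p.1 * (g p.2 : A)).sum, fun m => ?_, fun b hb => ?_⟩
  · let φ : M →+ A :=
      { toFun := fun x => (g x : A)
        map_zero' := by simp
        map_add' := by simp }
    have hm : m = (l.map fun p => (⟨((⟨(m : A) * p.1, hright m p.1⟩ : M) : A) * (p.2 : A), hright _ _⟩ : M)).sum := by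
      refine Subtype.ext ?_
      conv_lhs => rw [← mul_one (m : A), ← hl, ← List.sum_map_mul_left]
      rw [AddSubmonoidClass.coe_list_sum, List.map_map]
      exact congrArg List.sum (List.map_congr_left fun p _ => (mul_assoc _ _ _).symm)
    show φ m = _
    conv_lhs => rw [hm]
    rw [map_list_sum, ← List.sum_map_mul_left, List.map_map]
    exact congrArg List.sum (List.map_congr_left fun p _ => (hg _ _).trans (mul_assoc _ _ _))
  · conv_lhs => rw [← one_mul b, ← hl, ← List.sum_map_mul_right]
    exact congrArg List.sum (List.map_congr_left fun p _ => by rw [mul_assoc, ← hb p.2])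

end Groth.Agent.S1517
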