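import Groth.Statements.S15171
import Mathlib

set_option autoImplicit false
universe u v w
open BddFin

namespace Groth.Agent.S15171

/-- (3) ⇒ (1): let K be a field with char K = p > 0 and A a central division K-algebra with dim_K A = p
^ 2. If some Galois extension L of K with [L : K] = p admits a K-algebra embedding into A, then some
element of A is not separable over K. -/
theorem result
    (K : Type u) [Field K] (p : ℕ) [Fact p.Prime] [CharP K p]
    (A : Type v) [DivisionRing A] [Algebra K A] [Algebra.IsCentral K A] [FiniteDimensional K A]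
    (hA : Module.finrank K A = p ^ 2) (L : Type w) [Field L] [Algebra K L] [IsGalois K L]
    (hL : Module.finrank K L = p) (ι : L →ₐ[K] A) :
    ∃ v : A, ¬ IsSeparable K v := by
  classical
  have hp : p.Prime := Fact.out
  haveI : FiniteDimensional K L := Module.finite_of_finrank_pos (hL ▸ hp.pos)
  haveI : CharP L p := charP_of_injective_algebraMap (algebraMap K L).injective p
  haveI : CharP A p := charP_of_injective_algebraMap (algebraMap K A).injective p
  have hcard : Nat.card Gal(L/K) = p := by rw [IsGalois.card_aut_eq_finrank, hL]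
  haveI : Nontrivial Gal(L/K) := Finite.one_lt_card_iff_nontrivial.mp (hcard ▸ hp.one_lt)
  obtain ⟨σ, hσ⟩ := exists_ne (1 : Gal(L/K))
  have hgen : ∀ g : Gal(L/K), ∃ i < p, g = σ ^ i := fun g => by
    have hord : orderOf σ = p := by
      refine orderOf_eq_prime ?_ hσ
      rw [← hcard]; exact pow_card_eq_one'
    have : g ∈ Subgroup.zpowers σ := by
      rw [zpowers_eq_top_of_prime_card hcard hσ]; trivial
    rw [(isOfFinOrder_of_finite σ).mem_zpowers_iff_mem_range_orderOf, hord] at this
    simp only [Finset.mem_image, Finset.mem_range] at this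
    obtain ⟨i, hi, rfl⟩ := this
    exact ⟨i, hi, rfl⟩
  have hσp : σ ^ p = 1 := by rw [← hcard]; exact pow_card_eq_one'
  obtain ⟨z, hz⟩ := Algebra.trace_surjective K L 1
  have htr : ∑ i ∈ Finset.range p, (σ ^ i) z = 1 := by
    have h := trace_eq_sum_automorphisms (K := K) z
    rw [hz, map_one] at h
    rw [h]
    refine Finset.sum_bij (fun i _ => σ ^ i) (fun _ _ => Finset.mem_univ _) ?_ ?_ (fun _ _ => rfl)
    · intro i hi j hj hij
      have hord : orderOf σ = p := orderOf_eq_prime hσp hσ
      exact pow_injOn_Iio_orderOf (by simpa [hord] using hi) (by simpa [hord] using hj) hij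
    · intro g _
      obtain ⟨i, hi, rfl⟩ := hgen g
      exact ⟨i, Finset.mem_range.mpr hi, rfl⟩
  let a₀ : L := ∑ i ∈ Finset.range p, (i : L) * (σ ^ i) z
  have hσa : σ a₀ = a₀ - 1 := by
    have h1 : σ a₀ + 1 = ∑ i ∈ Finset.range p, ((i + 1 : ℕ) : L) * (σ ^ (i + 1)) z := by
      have e : (1 : L) = ∑ i ∈ Finset.range p, (σ ^ (i + 1)) z := by
        conv_lhs => rw [← map_one σ, ← htr, map_sum]
        exact Finset.sum_congr rfl fun i _ => by rw [pow_succ']; rfl
      conv_lhs => rw [e]
      simp only [a₀, map_sum, map_mul, map_natCast, ← Finset.sum_add_distrib]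
      refine Finset.sum_congr rfl fun i _ => ?_
      rw [pow_succ', Nat.cast_succ, add_mul, one_mul]; rfl
    have h2 : ∑ i ∈ Finset.range p, ((i + 1 : ℕ) : L) * (σ ^ (i + 1)) z = a₀ := by
      have := Finset.sum_range_succ' (fun i => (i : L) * (σ ^ i) z) p
      rw [Finset.sum_range_succ] at this
      simp only [CharP.cast_eq_zero, zero_mul, add_zero, Nat.cast_zero] at this
      exact this.symm
    rw [eq_sub_iff_add_eq, h1, h2]
  have ht : a₀ ^ p - a₀ ∈ Set.range (algebraMap K L) := by
    rw [IsGalois.mem_range_algebraMap_iff_fixed]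
    intro g
    obtain ⟨i, _, rfl⟩ := hgen g
    clear * - hσa
    have hs : σ (a₀ ^ p - a₀) = a₀ ^ p - a₀ := by
      rw [map_sub, map_pow, hσa, sub_pow_char, one_pow]; ring
    induction i with
    | zero => rfl
    | succ i ih =>
      rw [pow_succ']
      show σ ((σ ^ i) _) = _
      rw [ih, hs]
  obtain ⟨t, ht⟩ := ht
  have ha0 : a₀ ∉ Set.range (algebraMap K L) := by
    rintro ⟨c, hc⟩
    rw [← hc, AlgEquiv.commutes] at hσa
    exact one_ne_zero (α := L) (by linear_combination hσa)
  set a := ι a₀ with hadef
  have hat : a ^ p = a + algebraMap K A t := by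
    rw [hadef, ← map_pow, ← ι.commutes, ← map_add, ht]; ring_nf
  obtain ⟨w, hw⟩ : ∃ w, a * w ≠ w * a := by
    by_contra! h
    have : a ∈ Subalgebra.center K A := Subalgebra.mem_center_iff.mpr fun b => (h b).symm
    rw [Algebra.IsCentral.center_eq_bot, Algebra.mem_bot] at this
    obtain ⟨c, hc⟩ := this
    exact ha0 ⟨c, ι.injective ((ι.commutes c).trans hc)⟩
  -- the operator ad a
  let φ : Module.End K A := LinearMap.mulLeft K a - LinearMap.mulRight K a
  haveI : Nontrivial (Module.End K A) := ⟨⟨1, 0, fun h => one_ne_zero (LinearMap.congr_fun h 1)⟩⟩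
  haveI : CharP (Module.End K A) p :=
    charP_of_injective_algebraMap (algebraMap K (Module.End K A)).injective p
  have hφp : φ ^ p = φ := by
    have hc : Commute (LinearMap.mulLeft K a) (LinearMap.mulRight K a) :=
      LinearMap.commute_mulLeft_right a a
    simp only [φ]
    rw [sub_pow_char_of_commute _ hc, LinearMap.pow_mulLeft, LinearMap.pow_mulRight, hat]
    ext x
    simp only [LinearMap.sub_apply, LinearMap.mulLeft_apply, LinearMap.mulRight_apply, add_mul,
      mul_add, Algebra.commutes t x]
    abel
  obtain ⟨j, v, hv, hjv, hj⟩ : ∃ (j : ZMod p) (v : A), v ≠ 0 ∧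
      φ v = (ZMod.castHom (dvd_refl p) K j) • v ∧ j ≠ 0 := by
    by_contra! hcon
    let ψ := fun j : ZMod p => φ - algebraMap K (Module.End K A) (ZMod.castHom (dvd_refl p) K j)
    have hinj : ∀ j, j ≠ 0 → Function.Injective (ψ j) := by
      intro j hj
      rw [injective_iff_map_eq_zero]
      intro v hv
      by_contra hv0
      exact hj (hcon j v hv0 (by simpa [ψ, sub_eq_zero] using hv))
    have hP : (Polynomial.X : Polynomial (ZMod p)) ^ (p - 1) - 1 =
        ∏ j ∈ (Finset.univ : Finset (ZMod p)).erase 0, (Polynomial.X - Polynomial.C j) := by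
      have h : ∏ j : ZMod p, (Polynomial.X - Polynomial.C j) =
          (Polynomial.X : Polynomial (ZMod p)) ^ Fintype.card (ZMod p) - Polynomial.X := by
        have hr := FiniteField.roots_X_pow_card_sub_X (ZMod p)
        have := Polynomial.prod_multiset_X_sub_C_of_monic_of_roots_card_eq
          (p := (Polynomial.X : Polynomial (ZMod p)) ^ Fintype.card (ZMod p) - Polynomial.X)
          (Polynomial.monic_X_pow_sub (by
            rw [Polynomial.degree_X]; exact_mod_cast Fintype.one_lt_card))
          (by rw [hr, ← Finset.card_def, Finset.card_univ,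
            FiniteField.X_pow_card_sub_X_natDegree_eq _ Fintype.one_lt_card])
        rw [hr] at this
        exact this
      rw [ZMod.card, ← Finset.mul_prod_erase _ _ (Finset.mem_univ (0 : ZMod p))] at h
      simp only [map_zero, sub_zero] at h
      refine (mul_left_cancel₀ Polynomial.X_ne_zero ?_).symm
      rw [h, mul_sub, mul_one, ← pow_succ', Nat.sub_add_cancel hp.one_le]
    let ev : Polynomial (ZMod p) →+* Module.End K A :=
      (Polynomial.aeval φ).toRingHom.comp (Polynomial.mapRingHom (ZMod.castHom (dvd_refl p) K))
    have hev : ∀ s : Finset (ZMod p), (∀ j ∈ s, j ≠ 0) →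
        Function.Injective (ev (∏ j ∈ s, (Polynomial.X - Polynomial.C j))) := by
      intro s
      induction s using Finset.induction_on with
      | empty => intro _; simp only [Finset.prod_empty, map_one]; exact fun _ _ h => h
      | @insert j s hjs ih =>
        intro h
        rw [Finset.prod_insert hjs, map_mul, Module.End.mul_eq_comp, LinearMap.coe_comp]
        refine Function.Injective.comp ?_ (ih fun k hk => h k (Finset.mem_insert_of_mem hk))
        have := hinj j (h j (Finset.mem_insert_self j s))
        convert this using 2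
        simp [ev, ψ]
    have hz2 := hev _ (fun j hj => (Finset.mem_erase.mp hj).1) (a₁ := φ w) (a₂ := 0) (by
      rw [← hP, map_zero]
      simp only [ev, RingHom.coe_comp, Function.comp_apply, map_sub, map_pow, map_one,
        Polynomial.coe_mapRingHom, Polynomial.map_X, Polynomial.map_pow, Polynomial.map_sub,
        Polynomial.map_one, AlgHom.toRingHom_eq_coe, RingHom.coe_coe, Polynomial.aeval_X,
        LinearMap.sub_apply, Module.End.one_apply]
      rw [← Module.End.mul_apply, ← pow_succ, Nat.sub_add_cancel hp.one_le, hφp, sub_self])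
    exact hw (by simpa [φ, sub_eq_zero] using hz2)
  set i : K := ZMod.castHom (dvd_refl p) K j with hidef
  have hi : i ≠ 0 := by simpa [hidef] using (map_ne_zero (ZMod.castHom (dvd_refl p) K)).mpr hj
  have hav : a * v = v * (a + algebraMap K A i) := by
    have : a * v - v * a = i • v := by simpa [φ] using hjv
    rw [mul_add, ← Algebra.commutes, ← Algebra.smul_def, ← this]; abel
  have hav' : ∀ n : ℕ, a * v ^ n = v ^ n * (a + algebraMap K A (n * i)) := by
    intro n
    induction n with
    | zero => simp
    | succ n ih =>
      rw [pow_succ, ← mul_assoc, ih, mul_assoc (v ^ n), add_mul, hav, Algebra.commutes,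
        ← mul_add, mul_assoc, add_assoc, ← map_add]
      congr 4
      push_cast; ring
  have hvpa : Commute (v ^ p) a := by
    have := hav' p
    simp only [CharP.cast_eq_zero, zero_mul, map_zero, add_zero] at this
    exact this.symm
  have hvni : ¬ Commute v a := by
    intro h
    have h2 : v * algebraMap K A i = 0 := by
      have := hav; rw [mul_add, h.eq] at this; simpa using this
    rw [mul_eq_zero] at h2
    rcases h2 with h2 | h2
    · exact hv h2
    · exact hi (by simpa using h2)
  -- the subalgebra generated by a and v is everything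
  let D := Algebra.adjoin K ({a, v} : Set A)
  have hD : D = ⊤ := by
    letI : DivisionRing D := divisionRingOfFiniteDimensional K D
    have hdvd : Module.finrank K D ∣ p ^ 2 := ⟨Module.finrank D A, by
      rw [Module.finrank_mul_finrank, hA]⟩
    obtain ⟨k, hk, hfk⟩ := (Nat.dvd_prime_pow hp).mp hdvd
    have hlt : p < Module.finrank K D := by
      have hrange : ι.range ≤ D := by
        rintro _ ⟨x, rfl⟩
        have hx : x ∈ (IntermediateField.adjoin K {a₀} : IntermediateField K L) := by
          haveI : IsSimpleOrder (IntermediateField K L) :=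
            IntermediateField.isSimpleOrder_of_finrank_prime K L (hL ▸ hp)
          rcases eq_bot_or_eq_top (IntermediateField.adjoin K {a₀}) with h | h
          · exact absurd (IntermediateField.adjoin_simple_eq_bot_iff.mp h) (fun hm => ha0 hm)
          · rw [h]; trivial
        rw [← IntermediateField.mem_toSubalgebra, IntermediateField.adjoin_simple_toSubalgebra_of_isAlgebraic
          (Algebra.IsAlgebraic.isAlgebraic a₀)] at hx
        have : ι x ∈ (Algebra.adjoin K {a₀}).map ι := Subalgebra.mem_map.mpr ⟨x, hx, rfl⟩
        rw [AlgHom.map_adjoin, Set.image_singleton] at this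
        exact Algebra.adjoin_mono (by simp [a]) this
      have hne : ι.range.toSubmodule < D.toSubmodule := by
        refine lt_of_le_of_ne hrange fun h => hvni ?_
        have hvD : v ∈ D := Algebra.subset_adjoin (by simp)
        rw [← Subalgebra.mem_toSubmodule, ← h] at hvD
        obtain ⟨y, rfl⟩ := hvD
        exact (Commute.all y a₀).map ι
      have := Submodule.finrank_lt_finrank_of_lt hne
      rw [show Module.finrank K ι.range.toSubmodule = p by
        rw [← hL]; exact (LinearEquiv.finrank_eq
          (AlgEquiv.ofInjective ι ι.injective).toLinearEquiv).symm] at this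
      exact this
    have hk2 : k = 2 := by
      interval_cases k <;> first | rfl | (rw [hfk] at hlt; simp at hlt)
      have := hp.one_lt; omega
    subst hk2
    apply Algebra.toSubmodule_eq_top.mp
    exact Submodule.eq_top_of_finrank_eq (by rw [hA]; exact hfk)
  have hcent : v ^ p ∈ Subalgebra.center K A := by
    rw [Subalgebra.mem_center_iff]
    intro b
    have hb : b ∈ D := hD ▸ Algebra.mem_top
    induction hb using Algebra.adjoin_induction with
    | mem x hx =>
      rcases hx with rfl | rfl
      · exact hvpa.symm
      · exact (Commute.self_pow x p)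
    | algebraMap r => exact Algebra.commutes r _
    | add x y _ _ hx hy => rw [add_mul, mul_add, hx, hy]
    | mul x y _ _ hx hy => rw [mul_assoc, hy, ← mul_assoc, hx, mul_assoc]
  rw [Algebra.IsCentral.center_eq_bot, Algebra.mem_bot] at hcent
  obtain ⟨c, hc⟩ := hcent
  refine ⟨v, fun hsep => ?_⟩
  by_cases hcp : ∃ b : K, b ^ p = c
  · obtain ⟨b, hb⟩ := hcp
    have : (v - algebraMap K A b) ^ p = 0 := by
      rw [sub_pow_char_of_commute _ (Algebra.commutes b v).symm, ← map_pow, hb, hc, sub_self]
    rw [pow_eq_zero_iff hp.ne_zero, sub_eq_zero] at this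
    exact hvni (this ▸ Algebra.commutes b a)
  · simp only [not_exists] at hcp
    have hirr := X_pow_sub_C_irreducible_of_prime hp hcp
    have hm : minpoly K v = Polynomial.X ^ p - Polynomial.C c :=
      (minpoly.eq_of_irreducible_of_monic hirr (by simp [hc]) (Polynomial.monic_X_pow_sub_C _ hp.ne_zero)).symm
    rw [IsSeparable, hm, Polynomial.separable_def] at hsep
    simp [Polynomial.derivative_X_pow, isCoprime_zero_right] at hsep
    exact hirr.not_isUnit hsep

end Groth.Agent.S15171
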