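import Groth.Statements.S15172
import Mathlib

set_option autoImplicit false
universe u v
open Polynomial
open BddFin

namespace Groth.Agent.S15172

/-- Let L be a field of characteristic p > 0 and s a finite subset of L containing 0 and closed under
addition (a finite additive subgroup). Then the polynomial f = ∏_{a ∈ s} (X - a) is additive: f (x +
y) = f x + f y for all x, y in any commutative L-algebra (equivalently, as an identity of
polynomials in two variables). -/
theorem result
    (L : Type u) [Field L] (p : ℕ) [Fact p.Prime] [CharP L p] (s : Finset L) (h0 : (0 : L) ∈ s)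
    (hadd : ∀ a ∈ s, ∀ b ∈ s, a + b ∈ s) (R : Type v) [CommRing R] [Algebra L R] (x y : R) :
    aeval (x + y) (∏ a ∈ s, (X - C a)) = aeval x (∏ a ∈ s, (X - C a)) + aeval y (∏ a ∈ s, (X - C a)) := by
  classical
  set P : Polynomial L := ∏ a ∈ s, (Polynomial.X - Polynomial.C a) with hP
  -- translation invariance
  have htr : ∀ a ∈ s, P.comp (Polynomial.X + Polynomial.C a) = P := by
    intro a ha
    have himg : s.image (fun b => b - a) = s := by
      have hsub : s.image (fun b => b + a) ⊆ s := by
        intro z hz; obtain ⟨b, hb, rfl⟩ := Finset.mem_image.1 hz; exact hadd b hb a ha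
      have heq : s.image (fun b => b + a) = s :=
        Finset.eq_of_subset_of_card_le hsub (by rw [Finset.card_image_of_injective _ (add_left_injective a)])
      conv_lhs => rw [← heq, Finset.image_image]
      simp [Function.comp_def]
    conv_rhs => rw [hP, ← himg, Finset.prod_image (fun b _ c _ h => sub_left_injective h)]
    rw [hP, Polynomial.prod_comp]
    refine Finset.prod_congr rfl fun b _ => ?_
    simp only [Polynomial.sub_comp, Polynomial.X_comp, Polynomial.C_comp, map_sub]; ring
  -- work over L[Y]
  have key : ((P.map Polynomial.C).comp (Polynomial.X + Polynomial.C Polynomial.X)) - P.map Polynomial.C - Polynomial.C P = 0 := by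
    have hdeg : P.natDegree = s.card := Polynomial.natDegree_finsetProd_X_sub_C_eq_card s id
    have hmon : (P.map Polynomial.C).Monic := (Polynomial.monic_prod_of_monic _ _ fun a _ => Polynomial.monic_X_sub_C a).map _
    have hd : (P.map Polynomial.C).natDegree = s.card := by rw [Polynomial.natDegree_map_eq_of_injective Polynomial.C_injective, hdeg]
    set Q := ((P.map Polynomial.C).comp (Polynomial.X + Polynomial.C Polynomial.X)) with hQ
    have hcard : 0 < s.card := Finset.card_pos.2 ⟨0, h0⟩
    have hQm : Q.Monic := hmon.comp_X_add_C _
    have hQd : Q.natDegree = s.card := by rw [hQ, Polynomial.natDegree_comp, Polynomial.natDegree_X_add_C, hd, mul_one]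
    apply Polynomial.eq_zero_of_natDegree_lt_card_of_eval_eq_zero' _ (s.image Polynomial.C)
    · intro a ha
      obtain ⟨b, hb, rfl⟩ := Finset.mem_image.1 ha
      have e0 : P.eval b = 0 := by
        rw [hP, Polynomial.eval_prod]; exact Finset.prod_eq_zero hb (by simp)
      have e1 : P.comp (Polynomial.C b + Polynomial.X) = P := by rw [add_comm]; exact htr b hb
      have e2 : Q.eval (Polynomial.C b) = P := by
        rw [hQ, Polynomial.eval_comp, Polynomial.eval_map]
        simpa [Polynomial.comp] using e1
      simp [e2, Polynomial.eval_map, ← Polynomial.hom_eval₂, e0, Polynomial.eval₂_at_apply]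
    · rw [Finset.card_image_of_injective _ Polynomial.C_injective]
      calc (Q - P.map Polynomial.C - Polynomial.C P).natDegree
          ≤ max (Q - P.map Polynomial.C).natDegree (Polynomial.C P).natDegree := Polynomial.natDegree_sub_le _ _
        _ < s.card := by
          simp only [Polynomial.natDegree_C, max_lt_iff, hcard, and_true]
          rcases eq_or_ne (Q - P.map Polynomial.C) 0 with h | h
          · simp [h, hcard]
          · rw [Polynomial.natDegree_lt_iff_degree_lt h]
            calc _ < Q.degree := Polynomial.degree_sub_lt (by rw [Polynomial.degree_eq_natDegree hQm.ne_zero, Polynomial.degree_eq_natDegree hmon.ne_zero, hQd, hd]) hQm.ne_zero (by rw [hQm, hmon])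
              _ = _ := by rw [Polynomial.degree_eq_natDegree hQm.ne_zero, hQd]
  have h2 := congrArg (Polynomial.eval₂ (Polynomial.aeval y).toRingHom x) key
  simp only [Polynomial.eval₂_sub, Polynomial.eval₂_zero, Polynomial.eval₂_C, Polynomial.eval₂_comp, Polynomial.eval₂_add, Polynomial.eval₂_X, Polynomial.eval₂_map] at h2
  have hc : (Polynomial.aeval y : Polynomial L →ₐ[L] R).toRingHom.comp Polynomial.C = algebraMap L R := by ext; simp
  rw [hc] at h2
  simp only [AlgHom.toRingHom_eq_coe, RingHom.coe_coe, Polynomial.aeval_X, ← Polynomial.aeval_def] at h2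
  linear_combination h2

end Groth.Agent.S15172
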