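import Groth.Statements.S15173
import Mathlib
-- import your own Groth.Agent.* helpers here

set_option autoImplicit false
universe u v
open Polynomial
open BddFin

namespace Groth.Agent.S15173

/-- Let K be a field of characteristic p > 0 such that K contains all roots of unity (for every n ≥ 1
the polynomial X^n − 1 splits into linear factors over K), and A a finite-dimensional central
division algebra over K. If A contains an element w not in K with w ^ p in K, then the quotient of
the unit group of A by that of K has unbounded finite subgroups: for every N there is a subgroup H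
of the units of A containing the units of K as a subgroup of finite index greater than N. (The
published statement assumes only that some element of A is inseparable over K and passes at once to
a purely inseparable subfield of degree p; this row assumes an element generating such a subfield
directly, which is what the rest of the printed argument uses.) -/
theorem result
    (K : Type u) [Field K] (p : ℕ) [Fact p.Prime] [CharP K p] (hK : ∀ n : ℕ, 0 < n → (X ^ n - 1 : K[X]).Splits)
    (A : Type v) [DivisionRing A] [Algebra K A] [Algebra.IsCentral K A] [FiniteDimensional K A]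
    (w : A) (hw : w ^ p ∈ (algebraMap K A).range) (hwK : w ∉ (algebraMap K A).range) (N : ℕ) :
    ∃ H : Subgroup Aˣ, (Units.map (algebraMap K A : K →* A)).range ≤ H ∧
      N < ((Units.map (algebraMap K A : K →* A)).range).relIndex H := by
  classical
  have hp0 : p ≠ 0 := (Fact.out : p.Prime).ne_zero
  -- the ground field is infinite
  haveI : Infinite K := by
    by_contra hfin
    rw [not_infinite_iff_finite] at hfin
    haveI := Fintype.ofFinite K
    set m := Fintype.card K * (Fintype.card K + 1) + 1 with hm
    have hmK : (m : K) ≠ 0 := by
      rw [hm, Nat.cast_add, Nat.cast_mul, Nat.cast_card_eq_zero K]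
      simp
    have hsep : (X ^ m - 1 : K[X]).Separable := by
      rw [← C_1]; exact separable_X_pow_sub_C 1 hmK one_ne_zero
    have hcard : (X ^ m - 1 : K[X]).roots.toFinset.card = m := by
      rw [Multiset.toFinset_card_of_nodup (nodup_roots hsep), ← (hK m (by omega)).natDegree_eq_card_roots,
        ← C_1, natDegree_X_pow_sub_C]
    have := Finset.card_le_univ (X ^ m - 1 : K[X]).roots.toFinset
    rw [hcard] at this
    nlinarith
  let L := Algebra.adjoin K ({w} : Set A)
  let W : L := ⟨w, Algebra.self_mem_adjoin_singleton K w⟩
  letI : CommRing L :=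
    { (inferInstance : Ring L) with
      mul_comm := fun a b => Subtype.ext (Algebra.commute_of_mem_adjoin_singleton_of_commute b.2
        (Algebra.commute_of_mem_adjoin_singleton_of_commute a.2 (Commute.refl w)).symm).eq }
  haveI : Nontrivial L := L.toSubring.nontrivial
  haveI : IsDomain L := NoZeroDivisors.to_isDomain L
  haveI : Algebra.IsIntegral K L := Algebra.IsIntegral.of_finite K L
  have hLf : IsField L := isField_of_isIntegral_of_isField' (R := K) (S := L) (Field.toIsField K)
  letI : Field L := hLf.toField
  let R : Subgroup Lˣ := (Units.map (algebraMap K L : K →* L)).range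
  have hne : ∀ c : K, W + algebraMap K L c ≠ 0 := fun c h => hwK ⟨-c, by
    have h' : w + algebraMap K A c = 0 := congrArg Subtype.val h
    rw [map_neg]; exact (eq_neg_of_add_eq_zero_left h').symm⟩
  let u : K → Lˣ := fun c => Units.mk0 _ (hne c)
  haveI : CharP L p := charP_of_injective_algebraMap (algebraMap K L).injective p
  have hup : ∀ c, u c ^ p ∈ R := by
    intro c
    obtain ⟨k, hk⟩ := hw
    have hk' : W ^ p = algebraMap K L k := Subtype.ext hk.symm
    have e : ((u c ^ p : Lˣ) : L) = algebraMap K L (k + c ^ p) := by
      rw [Units.val_pow_eq_pow_val, Units.val_mk0, add_pow_char, hk', map_add, map_pow]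
    have hne' : k + c ^ p ≠ 0 := fun h => (u c ^ p).ne_zero (by rw [e, h, map_zero])
    exact ⟨Units.mk0 _ hne', Units.ext e.symm⟩
  have hinj : ∀ c c', (u c)⁻¹ * u c' ∈ R → c = c' := by
    rintro c c' ⟨r, hr⟩
    have e : algebraMap K L r * (W + algebraMap K L c) = W + algebraMap K L c' := by
      have := congrArg (fun z => ((u c * z : Lˣ) : L)) hr
      simp only [mul_inv_cancel_left] at this
      rw [mul_comm]
      exact this
    by_cases h1 : (r : K) = 1
    · rw [h1, map_one, one_mul] at e
      exact (algebraMap K L).injective (add_left_cancel e)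
    · exfalso
      have e2 : algebraMap K L ((r : K) - 1) * W = algebraMap K L (c' - r * c) := by
        rw [map_sub, map_sub, map_mul, map_one]; linear_combination e
      have hr1 : (r : K) - 1 ≠ 0 := sub_ne_zero.mpr h1
      refine hwK ⟨((r : K) - 1)⁻¹ * (c' - r * c), ?_⟩
      have e3 : algebraMap K L (((r : K) - 1)⁻¹ * (c' - r * c)) = W := by
        rw [map_mul, ← e2, ← mul_assoc, ← map_mul, inv_mul_cancel₀ hr1, map_one, one_mul]
      exact congrArg Subtype.val e3
  let π := QuotientGroup.mk' R
  let pts : Fin (N + 1) → K := fun i => Infinite.natEmbedding K i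
  let M : Subgroup (Lˣ ⧸ R) := Subgroup.closure (Set.range fun i => π (u (pts i)))
  haveI : Group.FG M := (Group.fg_iff_subgroup_fg M).mpr (Subgroup.fg_iff_submonoid_fg _ |>.mpr ((Subgroup.fg_iff_submonoid_fg _).mp ⟨Finset.univ.image fun i => π (u (pts i)), by simp [M]⟩))
  haveI : Finite M := CommGroup.finite_of_fg_torsion M (fun z => by
    have hz : ∀ z ∈ M, z ^ p = (1 : Lˣ ⧸ R) := by
      intro z hz
      induction hz using Subgroup.closure_induction with
      | mem z hz =>
        obtain ⟨i, rfl⟩ := hz
        show (π (u (pts i))) ^ p = 1
        rw [← map_pow]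
        exact (QuotientGroup.eq_one_iff _).mpr (hup _)
      | one => exact one_pow p
      | mul a b _ _ ha hb => exact ((Commute.all a b).mul_pow p).trans (by rw [ha, hb]; exact one_mul (1 : Lˣ ⧸ R))
      | inv a _ ha => rw [inv_pow, ha, inv_one]
    exact isOfFinOrder_iff_pow_eq_one.mpr ⟨p, Nat.pos_of_ne_zero hp0, Subtype.ext (hz z z.2)⟩)
  have hcard : N < Nat.card M := by
    refine Nat.lt_of_succ_le ?_
    rw [show N.succ = Nat.card (Fin (N + 1)) from (Nat.card_fin _).symm]
    refine Nat.card_le_card_of_injective (fun i => (⟨π (u (pts i)), Subgroup.subset_closure ⟨i, rfl⟩⟩ : M)) ?_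
    intro i j hij
    have := hinj _ _ (QuotientGroup.eq.mp (congrArg Subtype.val hij))
    exact Fin.ext ((Infinite.natEmbedding K).injective this)
  let ι : Lˣ →* Aˣ := Units.map (L.val : L →* A)
  have hι : Function.Injective ι := fun a b h => Units.ext (Subtype.ext (congrArg Units.val h))
  have hR : R.map ι = (Units.map (algebraMap K A : K →* A)).range := by
    rw [MonoidHom.map_range]
    rfl
  refine ⟨(M.comap π).map ι, ?_, ?_⟩
  · rw [← hR]
    exact Subgroup.map_mono (fun x hx => by
      show π x ∈ M
      rw [show π x = 1 from (QuotientGroup.eq_one_iff x).mpr hx]; exact M.one_mem)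
  · rw [← hR, Subgroup.relIndex_map_map_of_injective _ _ hι]
    have : R = (⊥ : Subgroup (Lˣ ⧸ R)).comap π := by
      rw [MonoidHom.comap_bot, QuotientGroup.ker_mk']
    conv => rhs; arg 1; rw [this]
    rw [Subgroup.relIndex_comap, Subgroup.map_comap_eq_self_of_surjective (QuotientGroup.mk'_surjective R),
      Subgroup.relIndex_bot_left]
    exact hcard

end Groth.Agent.S15173
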