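import Groth.Statements.S15174
import Groth.Agent.TorusField.Main
-- import your own Groth.Agent.* helpers here

set_option autoImplicit false
universe u
open CategoryTheory MonoidalCategory CartesianMonoidalCategory MonObj GrpObj AlgebraicGeometry
open BddFin

namespace Groth.Agent.S15174

/-- Let n and d be positive integers with d larger than the order of every finite subgroup of GL_n(ℤ);
let K be a field whose characteristic does not divide d and which contains a primitive d-th root of
unity; let T be a K-group scheme that is an n-dimensional torus (it becomes isomorphic, as a group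
scheme, to the split torus D(ℤ^n) = 𝔾_m^n after some field extension L of K). Write T(K) for the
group of sections Spec K → T. If T(K) has an element of order d, then some homomorphism 𝔾_m → T of
K-group schemes is a monomorphism (T has a subtorus isomorphic to 𝔾_m). -/
theorem result
    (n d : ℕ) (hn : 0 < n) (hd : 0 < d)
    (hΥ : ∀ H : Subgroup (Matrix.GeneralLinearGroup (Fin n) ℤ), Finite H → Nat.card H < d)
    (K : Type u) [Field K] (hdK : (d : K) ≠ 0) (ζ : K) (hζ : IsPrimitiveRoot ζ d)
    (T : Over (Spec (CommRingCat.of K))) [GrpObj T]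
    (hT : ∃ (L : Type u) (_ : Field L) (_ : Algebra K L),
      Red.IsSplitTorusWith (Fin n → ℤ) (Red.bc (Spec.map (CommRingCat.ofHom (algebraMap K L))) T))
    (x : 𝟙_ (Over (Spec (CommRingCat.of K))) ⟶ T) (hx : orderOf x = d) :
    ∃ i : Red.Gm (Spec (CommRingCat.of K)) ⟶ T, IsMonHom i ∧ Mono i := by
  obtain ⟨A, _, _, L, _, _, _, _, ⟨eA⟩, ⟨e⟩⟩ := TorusField.exists_torus_data n T hT
  by_contra hno
  haveI : NeZero d := ⟨hd.ne'⟩
  obtain ⟨y, rfl⟩ := (TorusField.pointsEquiv K eA).surjective x
  rw [MulEquiv.orderOf_eq] at hx
  have h := TorusField.pow_card_eq_one' e (TorusField.eq_one_of_aniso e eA hno)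
    (TorusField.mem_range_of_primitive hζ) (x := y) (d := d) (by rw [← hx]; exact pow_orderOf_eq_one y)
  have hle := Nat.le_of_dvd Fintype.card_pos (orderOf_dvd_of_pow_eq_one h)
  have hlt := hΥ (TorusField.galImage e) (TorusField.finite_galImage e)
  rw [TorusField.card_galImage] at hlt
  omega

end Groth.Agent.S15174
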