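import Groth.Statements.S15176
import Groth.Agent.TorusField.Main
-- import your own Groth.Agent.* helpers here

set_option autoImplicit false
universe u
open CategoryTheory MonoidalCategory CartesianMonoidalCategory MonObj GrpObj AlgebraicGeometry
open Polynomial
open BddFin
open WithConv

namespace Groth.Agent.S15176

/-- Let K be a field such that K contains all roots of unity (for every n ≥ 1 the polynomial X^n − 1
splits into linear factors over K), and T a K-group scheme that is a 2-dimensional torus (it becomes
isomorphic, as a group scheme, to the split torus D(ℤ^2) = 𝔾_m^2 after some field extension L of K)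
and is anisotropic (no homomorphism 𝔾_m → T of K-group schemes is a monomorphism, i.e. T contains no
subtorus isomorphic to 𝔾_m); T(K) is the group of sections Spec K → T. Then torsion elements of T(K)
have order ≤ 6, and finite subgroups of T(K) have at most 36 elements. -/
theorem result
    (K : Type u) [Field K] (hK : ∀ n : ℕ, 0 < n → (X ^ n - 1 : K[X]).Splits)
    (T : Over (Spec (CommRingCat.of K))) [GrpObj T]
    (hT : ∃ (L : Type u) (_ : Field L) (_ : Algebra K L),
      Red.IsSplitTorusWith (Fin 2 → ℤ) (Red.bc (Spec.map (CommRingCat.ofHom (algebraMap K L))) T))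
    (haniso : ∀ i : Red.Gm (Spec (CommRingCat.of K)) ⟶ T, IsMonHom i → Mono i → False) :
    (∀ x : 𝟙_ (Over (Spec (CommRingCat.of K))) ⟶ T, IsOfFinOrder x → orderOf x ≤ 6) ∧
    (∀ G : Subgroup (𝟙_ (Over (Spec (CommRingCat.of K))) ⟶ T), Finite G → Nat.card G ≤ 36) := by
  obtain ⟨A, _, _, L, _, _, _, _, ⟨eA⟩, ⟨e⟩⟩ := TorusField.exists_torus_data 2 T hT
  have han := TorusField.eq_one_of_aniso e eA fun ⟨i, hi, hm⟩ => haniso i hi hm
  obtain ⟨h, h0, hle, key⟩ := TorusField.exists_exponent_two e han
  have key' : ∀ y : WithConv (A →ₐ[K] K), IsOfFinOrder y → y ^ h = 1 := fun y hy =>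
    key (d := orderOf y) hy.orderOf_pos
      (TorusField.mem_range_of_splits hy.orderOf_pos (hK _ hy.orderOf_pos)) (pow_orderOf_eq_one y)
  refine ⟨fun x hx => ?_, fun G hG => ?_⟩
  · obtain ⟨y, rfl⟩ := (TorusField.pointsEquiv K eA).surjective x
    have hy : IsOfFinOrder y := (orderOf_pos_iff (x := y)).1 (by rw [← MulEquiv.orderOf_eq (TorusField.pointsEquiv K eA)]; exact hx.orderOf_pos)
    rw [MulEquiv.orderOf_eq]
    have := Nat.le_of_dvd h0 (orderOf_dvd_of_pow_eq_one (key' y hy))
    omega
  · haveI : NeZero h := ⟨h0.ne'⟩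
    have := TorusField.card_le_pow e (TorusField.pointsEquiv K eA) key' G
    have := Nat.pow_le_pow_left hle 2
    omega

end Groth.Agent.S15176
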