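import Groth.Statements.S15177
import Groth.Agent.Comodule.UnipotentDual

set_option autoImplicit false
universe u v
open BddFin

namespace Groth.Agent.S15177

/-- Let K be a field and Γ a unipotent linear algebraic group over K, given here by its coordinate Hopf
algebra A (a finitely generated, formally smooth commutative Hopf algebra over K all of whose
non-zero finite-dimensional comodules have a non-zero fixed vector). Then the group Γ(K) of K-points
(K-algebra maps A → K under convolution) has no non-trivial element of finite order coprime to the
characteristic of K: an element of finite order whose order is non-zero in K is the identity. -/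
theorem result
    (K : Type u) [Field K] (A : Type v) [CommRing A] [HopfAlgebra K A] [Algebra.FiniteType K A]
    [Algebra.FormallySmooth K A] (hU : HopfRep.IsUnipotent K A)
    (g : WithConv (A →ₐ[K] K)) (hg : IsOfFinOrder g) (hcop : ((orderOf g : ℕ) : K) ≠ 0) : g = 1 := by
  let L : WithConv (A →ₐ[K] K) → WithConv (A →ₗ[K] K) := fun f => WithConv.toConv f.ofConv.toLinearMap
  have h1 : L 1 = 1 := rfl
  have hmul : ∀ f f', L (f * f') = L f * L f' := fun f f' => rfl
  have hpow : ∀ n : ℕ, L (g ^ n) = L g ^ n := by
    intro n
    induction n with
    | zero => rw [pow_zero, pow_zero, h1]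
    | succ n ih => rw [pow_succ, pow_succ, hmul, ih]
  have hg1 : L g = 1 := by
    refine Comodule.root_unique (Comodule.isUnipotent_iff_fil.mp hU) hcop (Comodule.van_algHom_sub_one g.ofConv)
      (fun x _ => by simp) ?_
    rw [← hpow, pow_orderOf_eq_one, h1, one_pow]
  refine WithConv.ofConv_injective (AlgHom.ext fun a => ?_)
  exact LinearMap.congr_fun (congrArg WithConv.ofConv (hg1.trans h1.symm)) a

end Groth.Agent.S15177
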