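import Groth.Statements.S15178
import Groth.Agent.GenSmooth.Fibre
import Groth.Agent.GeomQuotLib.Open
import Groth.Agent.S18861

set_option autoImplicit false
universe u
open CategoryTheory MonoidalCategory CartesianMonoidalCategory MonObj GrpObj AlgebraicGeometry
open BddFin

namespace Groth.Agent.S15178

/-- Let K be a field, Γ a smooth algebraic group over K (a smooth K-group scheme of finite type), X an
integral separated K-scheme of finite type with an action of Γ, and π : X → Y a geometric quotient
of X by Γ over K (π is Γ-invariant and surjective, Γ × X → X ×_Y X is surjective, π is universally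
submersive, and the functions on Y are the invariant functions on X). Then π is generically smooth:
the fibre of π over the generic point η of Y is smooth over the residue field κ(η). (The quotient
notion used here asks for universal submersiveness, where the published definition asks only for
submersiveness; the row is the corresponding case.) -/
theorem result
    (K : Type u) [Field K]
    (Γ X Y : Over (Spec (CommRingCat.of K))) [GrpObj Γ]
    [Smooth Γ.hom] [LocallyOfFiniteType Γ.hom] [QuasiCompact Γ.hom]
    [IsIntegral X.left] [LocallyOfFiniteType X.hom] [QuasiCompact X.hom] [IsSeparated X.hom]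
    (a : AlgGrp.Action Γ X) (π : X ⟶ Y) (hπ : GIT.IsGeomQuot a π) [IrreducibleSpace Y.left] :
    Smooth (π.left.fiberToSpecResidueField (genericPoint Y.left)) := by
  haveI : Smooth a.act.left := (Groth.Agent.S18861.result a).2.2.2.2.2 inferInstance
  haveI : Smooth (snd Γ X).left := inferInstanceAs (Smooth (Limits.pullback.snd Γ.hom X.hom))
  haveI : LocallyOfFiniteType π.left := by
    haveI : LocallyOfFiniteType (π.left ≫ Y.hom) := by rw [Over.w π]; infer_instance
    exact locallyOfFiniteType_of_comp π.left Y.hom
  haveI : UniversallyOpen Γ.hom := inferInstance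
  haveI : UniversallyOpen π.left := Groth.Agent.GeomQuotLib.universallyOpen_of_isGeomQuot a π hπ
  haveI : ∀ U : Y.left.Opens, _root_.IsReduced Γ(Y.left, U) := fun U =>
    isReduced_of_injective (π.left.app U).hom (hπ.sections U).1
  haveI : IsReduced Y.left := ⟨inferInstance⟩
  haveI : Nonempty Y.left := ⟨π.left (genericPoint X.left)⟩
  haveI : IsIntegral Y.left := isIntegral_of_irreducibleSpace_of_isReduced _
  refine Groth.Agent.GenSmooth.smooth_genericFibre a.act.left (snd Γ X).left π.left hπ.surj
    π.left.isOpenMap hπ.inv.left (fun x x' h => ?_) (fun U f hf => ?_)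
  · obtain ⟨p, hp1, hp2⟩ := Scheme.Pullback.exists_preimage_pullback x x' h
    obtain ⟨z, hz⟩ := hπ.orbit p
    refine ⟨z, ?_, ?_⟩
    · rw [← hp1, ← hz, ← Scheme.Hom.comp_apply, GIT.PsiY, Limits.pullback.lift_fst]
    · rw [← hp2, ← hz, ← Scheme.Hom.comp_apply, GIT.PsiY, Limits.pullback.lift_snd]
  · rw [(hπ.sections U).2]
    exact hf

end Groth.Agent.S15178
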