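import Groth.Statements.S15179
import Groth.Agent.ConicAutLib.Core
-- import your own Groth.Agent.* helpers here

set_option autoImplicit false
universe u
attribute [local instance] MvPolynomial.gradedAlgebra
open BddFin

namespace Groth.Agent.S15179

/-- Let K be a field such that K contains all roots of unity (for every n ≥ 1 the polynomial X^n − 1
splits into linear factors over K). Let q be an irreducible binary quadratic form over K with
non-zero discriminant, so that its zero locus in the projective line over K is a single closed point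
with separable quadratic residue field over K (a pair of distinct conjugate geometric points), and
let U be the complement of that point: the affine curve whose coordinate ring is the ring of
degree-0 fractions f / q ^ k (f a binary form of degree 2k). Then for every finite group G of
K-automorphisms of U (K-linear ring automorphisms of its coordinate ring), every g ∈ G satisfies g ^
2 = 1 and G has at most 4 elements. -/
theorem result
    (K : Type u) [Field K] (hK : ∀ n : ℕ, 0 < n → (Polynomial.X ^ n - 1 : Polynomial K).Splits)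
    (q : MvPolynomial (Fin 2) K) (hq : q.IsHomogeneous 2) (hirr : Irreducible q)
    (hdisc : (q.coeff (Finsupp.single 0 1 + Finsupp.single 1 1)) ^ 2 -
      4 * q.coeff (Finsupp.single 0 2) * q.coeff (Finsupp.single 1 2) ≠ 0)
    (G : Subgroup (HomogeneousLocalization.Away (MvPolynomial.homogeneousSubmodule (Fin 2) K) q ≃+* HomogeneousLocalization.Away (MvPolynomial.homogeneousSubmodule (Fin 2) K) q)) [Finite G]
    (hG : ∀ g ∈ G, ∀ (k : K) (z : HomogeneousLocalization.Away (MvPolynomial.homogeneousSubmodule (Fin 2) K) q), g (k • z) = k • g z) :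
    (∀ g ∈ G, g ^ 2 = 1) ∧ Nat.card G ≤ 4 := by
  classical
  letI 𝒜 : ℕ → Submodule K (MvPolynomial (Fin 2) K) := MvPolynomial.homogeneousSubmodule (Fin 2) K
  let A := HomogeneousLocalization.Away (MvPolynomial.homogeneousSubmodule (Fin 2) K) q
  let ρ : K →+* A := (algebraMap (MvPolynomial.homogeneousSubmodule (Fin 2) K 0) A).comp
    (algebraMap K (MvPolynomial.homogeneousSubmodule (Fin 2) K 0))
  letI : Algebra K A := ρ.toAlgebra
  let W := Localization.Away q
  let val : A →+* W := algebraMap A W
  have hval : Function.Injective val := HomogeneousLocalization.val_injective _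
  have hvalK : ∀ k : K, val (algebraMap K A k) = algebraMap (MvPolynomial (Fin 2) K) W (MvPolynomial.C k) :=
    fun k => (IsScalarTower.algebraMap_apply (MvPolynomial.homogeneousSubmodule (Fin 2) K 0) A W _).symm
  have hsmul' : ∀ (k : K) (z : HomogeneousLocalization.Away (MvPolynomial.homogeneousSubmodule (Fin 2) K) q),
      k • z = algebraMap K A k * z := fun k z => by
    refine hval ?_
    rw [map_mul, hvalK]
    show (k • z).val = _
    rw [HomogeneousLocalization.val_smul, Algebra.smul_def, IsScalarTower.algebraMap_apply K (MvPolynomial (Fin 2) K) W]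
    rfl
  set a := q.coeff (Finsupp.single 0 2) with hadef
  set b := q.coeff (Finsupp.single 0 1 + Finsupp.single 1 1) with hbdef
  set c := q.coeff (Finsupp.single 1 2) with hcdef
  let X0 : MvPolynomial (Fin 2) K := MvPolynomial.X 0
  let X1 : MvPolynomial (Fin 2) K := MvPolynomial.X 1
  have hdeg : ∀ d : Fin 2 →₀ ℕ, ∀ n : ℕ, d.degree = n →
      d = Finsupp.single 0 (d 0) + Finsupp.single 1 (d 1) ∧ d 0 + d 1 = n := fun d n h => by
    refine ⟨?_, ?_⟩
    · ext i; fin_cases i <;> simp
    · rw [← h, Finsupp.degree_eq_sum, Fin.sum_univ_two]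
  have hq' : q = MvPolynomial.C a * X0 ^ 2 + MvPolynomial.C b * (X0 * X1) + MvPolynomial.C c * X1 ^ 2 := by
    ext d
    have hr : (MvPolynomial.C a * X0 ^ 2 + MvPolynomial.C b * (X0 * X1) + MvPolynomial.C c * X1 ^ 2 :
        MvPolynomial (Fin 2) K).IsHomogeneous 2 :=
      ((((MvPolynomial.isHomogeneous_X K 0).pow 2).C_mul a).add
        (((MvPolynomial.isHomogeneous_X K 0).mul (MvPolynomial.isHomogeneous_X K 1)).C_mul b)).add
        (((MvPolynomial.isHomogeneous_X K 1).pow 2).C_mul c)
    by_cases h : d.degree = 2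
    · obtain ⟨he, hs⟩ := hdeg d 2 h
      have : d 0 = 0 ∨ d 0 = 1 ∨ d 0 = 2 := by omega
      simp only [X0, X1, MvPolynomial.X, MvPolynomial.monomial_pow, MvPolynomial.monomial_mul,
        MvPolynomial.C_mul_monomial, MvPolynomial.coeff_add, MvPolynomial.coeff_monomial]
      rcases this with h0 | h0 | h0
      · obtain rfl : d = Finsupp.single 1 2 := by rw [he, h0, show d 1 = 2 by omega]; simp
        simp [hcdef, Finsupp.ext_iff, Fin.forall_fin_two]
      · obtain rfl : d = Finsupp.single 0 1 + Finsupp.single 1 1 := by rw [he, h0, show d 1 = 1 by omega]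
        simp [hbdef, Finsupp.ext_iff, Fin.forall_fin_two]
      · obtain rfl : d = Finsupp.single 0 2 := by rw [he, h0, show d 1 = 0 by omega]; simp
        simp [hadef, Finsupp.ext_iff, Fin.forall_fin_two]
    · rw [MvPolynomial.IsHomogeneous.coeff_eq_zero hq h, hr.coeff_eq_zero h]
  have hnu : ∀ p : MvPolynomial (Fin 2) K, MvPolynomial.constantCoeff p = 0 → ¬ IsUnit p := fun p hp hu =>
    not_isUnit_zero (hp ▸ hu.map MvPolynomial.constantCoeff)
  have ha : a ≠ 0 := fun h0 => by
    have := hirr.isUnit_or_isUnit (show q = X1 * (MvPolynomial.C b * X0 + MvPolynomial.C c * X1) by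
      rw [hq', h0, map_zero]; ring)
    rcases this with h | h <;> exact hnu _ (by simp [X0, X1]) h
  have hf : ∀ r : K, a * r ^ 2 + b * r + c ≠ 0 := fun r hr => by
    have hC : MvPolynomial.C a * MvPolynomial.C r ^ 2 + MvPolynomial.C b * MvPolynomial.C r + MvPolynomial.C c =
        (0 : MvPolynomial (Fin 2) K) := by
      rw [← map_pow, ← map_mul, ← map_mul, ← map_add, ← map_add, hr, map_zero]
    have := hirr.isUnit_or_isUnit (show q = (X0 - MvPolynomial.C r * X1) *
        (MvPolynomial.C a * X0 + (MvPolynomial.C a * MvPolynomial.C r + MvPolynomial.C b) * X1) by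
      rw [hq']; linear_combination X1 ^ 2 * hC)
    rcases this with h | h <;> exact hnu _ (by simp [X0, X1]) h
  have hm : ∀ i j n : ℕ, i + j = n • 2 → X0 ^ i * X1 ^ j ∈ MvPolynomial.homogeneousSubmodule (Fin 2) K (n • 2) :=
    fun i j n h => by
    rw [MvPolynomial.mem_homogeneousSubmodule, ← h, ← one_mul i, ← one_mul j]
    have := ((MvPolynomial.isHomogeneous_X K (0 : Fin 2)).pow i).mul ((MvPolynomial.isHomogeneous_X K (1 : Fin 2)).pow j)
    simpa [X0, X1] using this
  let el : ∀ i j : ℕ, i + j = 2 → A := fun i j h =>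
    HomogeneousLocalization.Away.mk (MvPolynomial.homogeneousSubmodule (Fin 2) K) (d := 2) hq 1 (X0 ^ i * X1 ^ j)
      (hm i j 1 (by simpa using h))
  let w : W := IsLocalization.mk' W 1 (⟨q, Submonoid.mem_powers q⟩ : Submonoid.powers q)
  let ι : MvPolynomial (Fin 2) K →+* W := algebraMap _ W
  have hw : ι q * w = 1 :=
    (IsLocalization.mk'_spec' (M := Submonoid.powers q) W 1 ⟨q, Submonoid.mem_powers q⟩).trans (map_one _)
  have hvmk : ∀ n p hp, val (HomogeneousLocalization.Away.mk (MvPolynomial.homogeneousSubmodule (Fin 2) K) (d := 2) hq n p hp) =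
      ι p * w ^ n := fun n p hp => by
    show (HomogeneousLocalization.Away.mk _ hq n p hp).val = _
    rw [HomogeneousLocalization.Away.val_mk, Localization.mk_eq_mk', IsLocalization.mk'_eq_iff_eq_mul]
    rw [map_pow, mul_assoc, ← mul_pow, mul_comm w, hw, one_pow, mul_one]
  let Xe := el 2 0 rfl
  let Ye := el 0 2 rfl
  let Ze := el 1 1 rfl
  have hvX : val Xe = ι X0 ^ 2 * w := by simp [Xe, el, hvmk]
  have hvY : val Ye = ι X1 ^ 2 * w := by simp [Ye, el, hvmk]
  have hvZ : val Ze = ι X0 * ι X1 * w := by simp [Ze, el, hvmk]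
  have hrel : Xe * Ye = Ze ^ 2 := hval (by rw [map_mul, map_pow, hvX, hvY, hvZ]; ring)
  have hone : algebraMap K A a * Xe + algebraMap K A b * Ze + algebraMap K A c * Ye = 1 := hval (by
    rw [map_add, map_add, map_mul, map_mul, map_mul, hvX, hvY, hvZ, hvalK, hvalK, hvalK, map_one]
    have hιq := congrArg ι hq'
    rw [map_add, map_add, map_mul, map_mul, map_mul, map_mul, map_pow, map_pow] at hιq
    show ι (MvPolynomial.C a) * (ι X0 ^ 2 * w) + ι (MvPolynomial.C b) * (ι X0 * ι X1 * w) +
      ι (MvPolynomial.C c) * (ι X1 ^ 2 * w) = 1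
    linear_combination hw - w * hιq)
  have hgen : Algebra.adjoin K ({Xe, Ye, Ze} : Set A) = ⊤ := by
    set S := Algebra.adjoin K ({Xe, Ye, Ze} : Set A)
    let R := S.toSubring.map val
    have hmemX : ι X0 ^ 2 * w ∈ R := hvX ▸ ⟨Xe, Algebra.subset_adjoin (by simp), rfl⟩
    have hmemY : ι X1 ^ 2 * w ∈ R := hvY ▸ ⟨Ye, Algebra.subset_adjoin (by simp), rfl⟩
    have hmemZ : ι X0 * ι X1 * w ∈ R := hvZ ▸ ⟨Ze, Algebra.subset_adjoin (by simp), rfl⟩
    have key : ∀ n i j : ℕ, i + j = 2 * n → ι X0 ^ i * ι X1 ^ j * w ^ n ∈ R := by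
      intro n
      induction n with
      | zero => intro i j h; obtain ⟨rfl, rfl⟩ : i = 0 ∧ j = 0 := by omega
                simp [one_mem]
      | succ n ih =>
        intro i j h
        rcases le_or_gt 2 i with hi | hi
        · have h1 := mul_mem hmemX (ih (i - 2) j (by omega))
          have e : ι X0 ^ i = ι X0 ^ 2 * ι X0 ^ (i - 2) := by rw [← pow_add]; congr 1; omega
          rw [e, pow_succ w]; convert h1 using 1; ring
        · rcases le_or_gt 2 j with hj | hj
          · have h1 := mul_mem hmemY (ih i (j - 2) (by omega))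
            have e : ι X1 ^ j = ι X1 ^ 2 * ι X1 ^ (j - 2) := by rw [← pow_add]; congr 1; omega
            rw [e, pow_succ w]; convert h1 using 1; ring
          · obtain ⟨rfl, rfl, rfl⟩ : i = 1 ∧ j = 1 ∧ n = 0 := by omega
            simpa using hmemZ
    refine eq_top_iff.2 fun z _ => ?_
    obtain ⟨n, p, hp, rfl⟩ := HomogeneousLocalization.Away.mk_surjective _ hq z
    suffices val (HomogeneousLocalization.Away.mk (MvPolynomial.homogeneousSubmodule (Fin 2) K) (d := 2) hq n p hp) ∈ R by
      obtain ⟨y, hy, e⟩ := this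
      exact hval e ▸ hy
    rw [hvmk, p.as_sum, map_sum, Finset.sum_mul]
    refine sum_mem fun d hd => ?_
    obtain ⟨he, hs⟩ := hdeg d (n • 2) (by
      by_contra hne
      exact (MvPolynomial.mem_support_iff.1 hd) (MvPolynomial.IsHomogeneous.coeff_eq_zero hp hne))
    have e : MvPolynomial.monomial d (p.coeff d) = MvPolynomial.C (p.coeff d) * (X0 ^ d 0 * X1 ^ d 1) := by
      rw [congrArg (fun d' => MvPolynomial.monomial d' (p.coeff d)) he]
      simp [X0, X1, MvPolynomial.X, MvPolynomial.monomial_pow, MvPolynomial.monomial_mul, MvPolynomial.C_mul_monomial]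
    rw [e, map_mul, mul_assoc, map_mul, map_pow, map_pow]
    exact mul_mem (hvalK _ ▸ ⟨algebraMap K A _, S.algebraMap_mem _, rfl⟩) (key n _ _ (by simpa [mul_comm] using hs))
  have hhom : ∀ (L : Type u) [Field L] [Algebra K L] (x y : LaurentPolynomial L),
      IsUnit (algebraMap K (LaurentPolynomial L) a * x ^ 2 + algebraMap K (LaurentPolynomial L) b * (x * y) +
        algebraMap K (LaurentPolynomial L) c * y ^ 2) →
      ∃ φ : A →ₐ[K] LaurentPolynomial L,
        φ Xe * (algebraMap K (LaurentPolynomial L) a * x ^ 2 + algebraMap K (LaurentPolynomial L) b * (x * y) +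
          algebraMap K (LaurentPolynomial L) c * y ^ 2) = x ^ 2 ∧
        φ Ye * (algebraMap K (LaurentPolynomial L) a * x ^ 2 + algebraMap K (LaurentPolynomial L) b * (x * y) +
          algebraMap K (LaurentPolynomial L) c * y ^ 2) = y ^ 2 ∧
        φ Ze * (algebraMap K (LaurentPolynomial L) a * x ^ 2 + algebraMap K (LaurentPolynomial L) b * (x * y) +
          algebraMap K (LaurentPolynomial L) c * y ^ 2) = x * y := by
    intro L _ _ x y hu
    let e : MvPolynomial (Fin 2) K →+* LaurentPolynomial L := (MvPolynomial.aeval ![x, y]).toRingHom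
    have heC : ∀ k, e (MvPolynomial.C k) = algebraMap K (LaurentPolynomial L) k := fun k => by simp [e]
    have heq : e q = algebraMap K (LaurentPolynomial L) a * x ^ 2 + algebraMap K (LaurentPolynomial L) b * (x * y) +
        algebraMap K (LaurentPolynomial L) c * y ^ 2 := by rw [hq']; simp [e, X0, X1]
    rw [← heq] at hu ⊢
    let E : W →+* LaurentPolynomial L := IsLocalization.Away.lift q (g := e) hu
    have hE : ∀ p, E (ι p) = e p := fun p => IsLocalization.Away.lift_eq q hu p
    have hw' : E w * e q = 1 := by rw [← hE, ← map_mul, mul_comm, hw, map_one]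
    refine ⟨{ E.comp val with
      commutes' := fun k => by
        show E (val (algebraMap K A k)) = _
        rw [hvalK, ← heC]; exact hE _ }, ?_, ?_, ?_⟩
    · show E (val Xe) * e q = _
      rw [hvX, map_mul, map_pow, hE, mul_assoc, hw', mul_one]; simp [e, X0]
    · show E (val Ye) * e q = _
      rw [hvY, map_mul, map_pow, hE, mul_assoc, hw', mul_one]; simp [e, X1]
    · show E (val Ze) * e q = _
      rw [hvZ, map_mul, map_mul, hE, hE, mul_assoc, hw', mul_one]; simp [e, X0, X1]
  have hfix : ∀ g : G, ∀ k : K, g.1 (algebraMap K A k) = algebraMap K A k := fun g k => by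
    have := hG g.1 g.2 k 1
    rwa [hsmul', hsmul', map_one, mul_one] at this
  let toAlg : G →* (A ≃ₐ[K] A) :=
    { toFun := fun g => AlgEquiv.ofRingEquiv (f := g.1) (hfix g)
      map_one' := AlgEquiv.ext fun _ => rfl
      map_mul' := fun _ _ => AlgEquiv.ext fun _ => rfl }
  have hinj : Function.Injective toAlg := fun g h e =>
    Subtype.ext (RingEquiv.ext fun z => DFunLike.congr_fun e z)
  haveI : Finite toAlg.range := Finite.of_surjective _ toAlg.rangeRestrict_surjective
  obtain ⟨h1, h2⟩ := ConicAutLib.core a b c Xe Ye Ze hK hf hdisc ha hrel hone hgen hhom toAlg.range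
  refine ⟨fun g hg => ?_, ?_⟩
  · have := h1 (toAlg ⟨g, hg⟩) ⟨⟨g, hg⟩, rfl⟩
    rw [← map_pow] at this
    exact congrArg Subtype.val (hinj (this.trans (map_one toAlg).symm))
  · rwa [Nat.card_congr (MonoidHom.ofInjective hinj).toEquiv]

end Groth.Agent.S15179
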