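import Groth.Statements.S15181
import Groth.Agent.GaGmBirLib.Main

set_option autoImplicit false
universe u
open CategoryTheory MonoidalCategory CartesianMonoidalCategory MonObj GrpObj AlgebraicGeometry
open BddFin

namespace Groth.Agent.S15181

/-- Let K be a field, G a K-group scheme isomorphic (as a group scheme) to 𝔾_a or to 𝔾_m, and X an
integral separated K-scheme of finite type with an action of G that is not the trivial action. Then
X is birational over K to ℙ¹ × Y for some K-variety Y: there are an integral K-scheme Y locally of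
finite type, a non-empty open subscheme U of X and an open subscheme V of the affine line over Y,
with U and V isomorphic over K. -/
theorem result
    (K : Type u) [Field K] (G X : Over (Spec (CommRingCat.of K))) [GrpObj G]
    (hG : Nonempty (Grp.mk G ≅ Grp.mk (Red.Ga (Spec (CommRingCat.of K)))) ∨
      Nonempty (Grp.mk G ≅ Grp.mk (Red.Gm (Spec (CommRingCat.of K)))))
    [IsIntegral X.left] [LocallyOfFiniteType X.hom] [QuasiCompact X.hom] [IsSeparated X.hom]
    (a : AlgGrp.Action G X) (ha : a.act ≠ snd G X) :
    ∃ (Y : Over (Spec (CommRingCat.of K))) (_ : IsIntegral Y.left) (_ : LocallyOfFiniteType Y.hom)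
      (U : X.left.Opens) (V : (𝔸(ULift.{u} (Fin 1); Y.left)).Opens), (U : Set X.left).Nonempty ∧
      Nonempty (Over.mk (U.ι ≫ X.hom) ≅
        Over.mk (V.ι ≫ (𝔸(ULift.{u} (Fin 1); Y.left) ↘ Y.left) ≫ Y.hom)) := by
  rcases hG with ⟨⟨e⟩⟩ | ⟨⟨e⟩⟩
  · let i : G ≅ Red.Ga (Spec (CommRingCat.of K)) := (Grp.forget _).mapIso e
    haveI : IsMonHom i.hom := inferInstanceAs (IsMonHom e.hom.hom.hom)
    exact GaGmBirLib.exists_iso_ga i a ha
  · let i : G ≅ Red.Gm (Spec (CommRingCat.of K)) := (Grp.forget _).mapIso e
    haveI : IsMonHom i.hom := inferInstanceAs (IsMonHom e.hom.hom.hom)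
    exact GaGmBirLib.exists_iso_gm i a ha

end Groth.Agent.S15181
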