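import Groth.Statements.S15183
import Mathlib
-- import your own Groth.Agent.* helpers here

set_option autoImplicit false
universe u v
open Polynomial
open BddFin

namespace Groth.Agent.S15183

/-- Let K be a field such that K contains all roots of unity (for every n ≥ 1 the polynomial X^n − 1
splits into linear factors over K), and A a finite-dimensional central simple K-algebra which is not
a division algebra (some non-zero element is not a unit). Then the quotient of the unit group of A
by that of K has elements of every finite order invertible in K: for every d ≥ 1 with d ≠ 0 in K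
there is a unit x of A with x ^ d in K and x ^ k not in K for 0 < k < d. (The published assertion is
phrased for the automorphism group of the Severi–Brauer variety of A, which is isomorphic to the
units of A modulo those of K; this row is the algebra-side statement its proof establishes.) -/
theorem result
    (K : Type u) [Field K] (hK : ∀ n : ℕ, 0 < n → (X ^ n - 1 : K[X]).Splits)
    (A : Type v) [Ring A] [Algebra K A] [Algebra.IsCentral K A] [IsSimpleRing A] [FiniteDimensional K A]
    (hA : ∃ y : A, y ≠ 0 ∧ ¬ IsUnit y) (d : ℕ) (hd : 0 < d) (hdK : (d : K) ≠ 0) :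
    ∃ x : A, IsUnit x ∧ x ^ d ∈ (algebraMap K A).range ∧
      ∀ k : ℕ, 0 < k → k < d → x ^ k ∉ (algebraMap K A).range := by
  classical
  obtain ⟨y, hy0, hyu⟩ := hA
  haveI : IsArtinianRing A := IsArtinianRing.of_finite K A
  haveI : IsSemisimpleRing A := inferInstance
  obtain ⟨e, he, hespan⟩ := IsSemisimpleRing.ideal_eq_span_idempotent (Ideal.span {y})
  have he0 : e ≠ 0 := by
    rintro rfl
    have hy : y ∈ Ideal.span ({y} : Set A) := Ideal.mem_span_singleton_self y
    rw [hespan, Ideal.span_singleton_eq_bot.mpr rfl] at hy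
    exact hy0 hy
  have he1 : e ≠ 1 := by
    rintro rfl
    have h1 : (1 : A) ∈ Ideal.span ({y} : Set A) := hespan ▸ Ideal.mem_span_singleton_self 1
    obtain ⟨z, hz⟩ := Ideal.mem_span_singleton'.mp h1
    haveI : IsNoetherianRing A := IsNoetherianRing.of_finite K A
    exact hyu (IsUnit.of_mul_eq_one_right z hz)
  haveI : NeZero (d : K) := ⟨hdK⟩
  haveI : NeZero d := ⟨hd.ne'⟩
  have hsplit : ((cyclotomic d K).map (RingHom.id K)).Splits := by
    rw [Polynomial.map_id]
    refine (hK d hd).of_dvd ?_ (cyclotomic.dvd_X_pow_sub_one d K)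
    intro h
    have := congrArg natDegree h
    rw [← C_1, natDegree_X_pow_sub_C] at this
    simp at this; omega
  obtain ⟨ζ, hζ⟩ : ∃ ζ : K, IsPrimitiveRoot ζ d := by
    rw [Polynomial.map_id] at hsplit
    obtain ⟨ζ, hζ⟩ := hsplit.exists_eval_eq_zero (by
      rw [degree_cyclotomic]
      exact_mod_cast (Nat.totient_pos.mpr hd).ne')
    exact ⟨ζ, isRoot_cyclotomic_iff.mp hζ⟩
  let em : K → A := fun c => c • e + (1 - e)
  have hmul : ∀ a b, em a * em b = em (a * b) := fun a b => by
    simp only [em, add_mul, mul_add, smul_mul_assoc, mul_smul_comm, he.eq, mul_sub, sub_mul, mul_one,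
      one_mul, sub_self, smul_zero, add_zero, zero_add, sub_zero, smul_smul]
    try (rw [mul_comm a b]; try abel)
  have hone : em 1 = 1 := by simp [em]
  have hpow : ∀ k : ℕ, em ζ ^ k = em (ζ ^ k) := fun k => by
    induction k with
    | zero => simp [hone]
    | succ k ih => rw [pow_succ, ih, hmul, ← pow_succ]
  refine ⟨em ζ, isUnit_iff_exists.mpr ⟨em ζ⁻¹, ?_, ?_⟩, ⟨1, ?_⟩, fun k hk hkd ⟨c, hc⟩ => ?_⟩
  · rw [hmul, mul_inv_cancel₀ (hζ.ne_zero hd.ne'), hone]
  · rw [hmul, inv_mul_cancel₀ (hζ.ne_zero hd.ne'), hone]
  · rw [hpow, hζ.pow_eq_one, hone, map_one]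
  · rw [hpow] at hc
    have h1 : ζ ^ k • e = c • e := by
      have := congrArg (· * e) hc
      simpa [em, Algebra.algebraMap_eq_smul_one, sub_mul, add_mul, smul_mul_assoc, he.eq] using this.symm
    have h2 : c = 1 := by
      have h := congrArg (· * (1 - e)) hc
      simp [em, Algebra.algebraMap_eq_smul_one, add_mul, smul_mul_assoc, mul_sub, sub_mul, he.eq] at h
      have h3 : (c - 1) • (1 - e) = 0 := by
        simp only [sub_smul, smul_sub, one_smul]
        linear_combination (norm := abel) h
      exact sub_eq_zero.mp ((smul_eq_zero.mp h3).resolve_right (sub_ne_zero.mpr (Ne.symm he1)))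
    rw [h2, one_smul] at h1
    have h4 : ζ ^ k = 1 := by
      refine sub_eq_zero.mp ((smul_eq_zero.mp (show (ζ ^ k - 1) • e = 0 by rw [sub_smul, one_smul, h1, sub_self])).resolve_right he0)
    exact absurd (Nat.le_of_dvd hk ((hζ.pow_eq_one_iff_dvd k).mp h4)) (not_le.mpr hkd)

end Groth.Agent.S15183
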