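import Groth.Statements.S15184
import Groth.Agent.DivAlgP.Basic

set_option autoImplicit false
universe u v
open BddFin

namespace Groth.Agent.S15184

/-- Let K be a field with char K = p > 0 and A a central division K-algebra with dim_K A = p ^ 2. If p =
2 or p = 3, then some element of A is not separable over K. -/
theorem result
    (K : Type u) [Field K] (p : ℕ) [Fact p.Prime] [CharP K p]
    (A : Type v) [DivisionRing A] [Algebra K A] [Algebra.IsCentral K A] [FiniteDimensional K A]
    (hA : Module.finrank K A = p ^ 2) (hp : p = 2 ∨ p = 3) :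
    ∃ v : A, ¬ IsSeparable K v := by
  rcases hp with rfl | rfl
  swap
  · exact Groth.Agent.DivAlgP.exists_not_sep_three hA
  by_contra hcon
  push Not at hcon
  obtain ⟨v, hv⟩ : ∃ v : A, v ∉ (algebraMap K A).range := by
    by_contra h; push Not at h
    have h1 : (⊤ : Subalgebra K A) ≤ ⊥ := fun a _ => Algebra.mem_bot.2 (h a)
    have := Subalgebra.bot_eq_top_iff_finrank_eq_one.1 (le_antisymm bot_le h1)
    omega
  have hint : IsIntegral K v := IsIntegral.of_finite K v
  set f := minpoly K v with hf
  haveI : Fact (Irreducible f) := ⟨minpoly.irreducible hint⟩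
  let ι : AdjoinRoot f →ₐ[K] A := Ideal.Quotient.liftₐ (Ideal.span {f}) (Polynomial.aeval v) (fun q hq => by
    obtain ⟨r, rfl⟩ := Ideal.mem_span_singleton.1 hq
    rw [map_mul, hf, minpoly.aeval, zero_mul])
  have hιv : ι (AdjoinRoot.root f) = v := Polynomial.aeval_X v
  haveI : FiniteDimensional K (AdjoinRoot f) := (AdjoinRoot.powerBasis (minpoly.ne_zero hint)).finite
  have hdL : Module.finrank K (AdjoinRoot f) = f.natDegree := (AdjoinRoot.powerBasis (minpoly.ne_zero hint)).finrank
  have hdeg : f.natDegree = 2 := by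
    letI : Module (AdjoinRoot f) A := Module.compHom A ι.toRingHom
    haveI : IsScalarTower K (AdjoinRoot f) A := ⟨fun k l a => by
      show ι (k • l) * a = k • (ι l * a); rw [map_smul, smul_mul_assoc]⟩
    have h := Module.finrank_mul_finrank K (AdjoinRoot f) A
    rw [hA, hdL] at h
    obtain ⟨i, hi, hi'⟩ := (Nat.dvd_prime_pow Nat.prime_two).1 (Dvd.intro _ h)
    rcases i with _ | _ | i
    · exact absurd (minpoly.mem_range_of_degree_eq_one K v (by rw [Polynomial.degree_eq_natDegree (minpoly.ne_zero hint), hi']; rfl)) hv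
    · exact hi'
    · exfalso
      rw [hi', show i = 0 by omega] at hdL
      have hsurj : ι.toLinearMap.range = ⊤ := Submodule.eq_top_of_finrank_eq (by
        rw [LinearMap.finrank_range_of_inj ι.toRingHom.injective, hdL, hA])
      refine hv ?_
      have h1 : v ∈ Subalgebra.center K A := Subalgebra.mem_center_iff.2 fun a => by
        obtain ⟨l, rfl⟩ := LinearMap.range_eq_top.1 hsurj a
        show ι l * v = v * ι l
        rw [← hιv, ← map_mul, ← map_mul, mul_comm]
      rwa [Groth.Agent.DivAlgP.center_eq_bot, Algebra.mem_bot] at h1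
  rw [hdeg] at hdL
  haveI : Algebra.IsQuadraticExtension K (AdjoinRoot f) := ⟨hdL⟩
  haveI : Algebra.IsSeparable K (AdjoinRoot f) := ⟨fun x => by
    have := hcon (ι x)
    unfold IsSeparable at this ⊢
    rwa [minpoly.algHom_eq ι ι.toRingHom.injective] at this⟩
  haveI : IsGalois K (AdjoinRoot f) := ⟨⟩
  obtain ⟨w, hw⟩ := Groth.Agent.DivAlgP.exists_not_sep_of_galois (p := 2) hA hdL ι
  exact hw (hcon w)

end Groth.Agent.S15184
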