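import Groth.Statements.S15185
import Groth.Agent.BddCycH7.Basic
-- import your own Groth.Agent.* helpers here

set_option autoImplicit false
universe u v
open Polynomial
open BddFin

namespace Groth.Agent.S15185

/-- Let K be a field of characteristic p > 0 such that K contains all roots of unity (for every n ≥ 1
the polynomial X^n − 1 splits into linear factors over K), A a central division algebra of dimension
n ^ 2 over K, and write n = n' · p ^ m with n' prime to p; let N be the reduced norm of A. Consider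
the kernel of the homomorphism from the units of A modulo those of K to Kˣ/(Kˣ)^(p^m) induced by N.
Every element of finite order of that kernel has order dividing n': if x ≠ 0 in A has x ^ r in K for
some r ≥ 1 and N x is a (p ^ m)-th power of a non-zero element of K, then x ^ n' lies in K. -/
theorem result
    (K : Type u) [Field K] (p : ℕ) [Fact p.Prime] [CharP K p] (hK : ∀ n : ℕ, 0 < n → (X ^ n - 1 : K[X]).Splits)
    (A : Type v) [DivisionRing A] [Algebra K A] [Algebra.IsCentral K A] [FiniteDimensional K A]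
    (n n' m : ℕ) (hA : Module.finrank K A = n ^ 2) (hn : n = n' * p ^ m) (hn' : ¬ p ∣ n')
    (N : A →* K) (hN : CSAGal.IsRedNorm K A N)
    (x : A) (hx : x ≠ 0) (hxr : ∃ r : ℕ, 0 < r ∧ x ^ r ∈ (algebraMap K A).range)
    (hNx : ∃ b : K, b ≠ 0 ∧ N x = b ^ (p ^ m)) :
    x ^ n' ∈ (algebraMap K A).range := by
  classical
  have hint : IsIntegral K x := IsIntegral.of_finite K x
  letI : IsSimpleRing A := inferInstance
  let S := Algebra.adjoin K ({x} : Set A)
  letI : CommRing S := Algebra.adjoinCommRingOfComm K (by rintro _ rfl _ rfl; rfl)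
  haveI : IsDomain S := NoZeroDivisors.to_isDomain S
  letI : Field S := fieldOfFiniteDimensional K S
  let y : S := ⟨x, Algebra.self_mem_adjoin_singleton K x⟩
  have hy0 : y ≠ 0 := fun h => hx (congrArg Subtype.val h)
  obtain ⟨r, hr, cr, hcr⟩ := hxr
  set d := (minpoly K y).natDegree with hd
  have hyint : IsIntegral K y := IsIntegral.of_finite K y
  obtain ⟨a, ha⟩ : y ^ d ∈ (algebraMap K S).range :=
    Groth.Agent.BddCycH7.pow_natDegree_mem hK hr hy0 ⟨cr, Subtype.ext hcr⟩
  have hxa : x ^ d = algebraMap K A a := (congrArg Subtype.val ha).symm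
  have hdn : d ∣ n := by
    refine Groth.Agent.BddCycH7.dvd_degree hA x {minpoly K y} ?_ ?_
    · intro q hq
      rw [Multiset.mem_singleton] at hq
      subst hq
      exact ⟨minpoly.irreducible hyint, rfl⟩
    · rw [Multiset.prod_singleton, ← minpoly.algHom_eq S.val Subtype.val_injective y]
      exact minpoly.aeval K x
  obtain ⟨K', _, _, _, n₀, φ, hφ⟩ := hN
  have hn₀ : n₀ = n := by
    have h := Groth.Agent.CSALib.finrank_of_splits φ
    rw [hA, sq] at h
    exact (Nat.mul_self_inj.1 h).symm
  subst hn₀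
  have hNa : N x ^ d = a ^ n₀ := by
    apply (algebraMap K K').injective
    rw [← map_pow N, hxa, hφ, map_pow, Algebra.algebraMap_eq_smul_one, TensorProduct.tmul_smul,
      ← IsScalarTower.algebraMap_smul K' a ((1 : K') ⊗ₜ[K] (1 : A)), map_smul,
      ← Algebra.TensorProduct.one_def, map_one, Matrix.det_smul, Matrix.det_one, mul_one,
      Fintype.card_fin]
  obtain ⟨b, hb, hNb⟩ := hNx
  have hb' : b ^ d = a ^ n' := by
    apply iterateFrobenius_inj K p m
    simp only [iterateFrobenius_def, ← pow_mul]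
    rw [← hn, mul_comm d, pow_mul, ← hNb, hNa]
  have hp := (Fact.out : p.Prime)
  have hpd : ¬ p ∣ d := by
    rintro ⟨e, he⟩
    obtain ⟨c, hc⟩ : ∃ c : K, c ^ p = a := by
      have hco : Nat.Coprime n' p := Nat.Coprime.symm (hp.coprime_iff_not_dvd.2 hn')
      obtain ⟨u, v, huv⟩ : ∃ u v : ℤ, (n' : ℤ) * u + (p : ℤ) * v = 1 :=
        ⟨_, _, (Nat.gcd_eq_gcd_ab n' p).symm.trans (by rw [hco.gcd_eq_one]; rfl)⟩
      have ha0 : a ≠ 0 := by
        rintro rfl
        rw [map_zero] at hxa
        exact hx (pow_eq_zero_iff'.1 hxa).1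
      refine ⟨(b ^ e) ^ u * a ^ v, ?_⟩
      calc ((b ^ e) ^ u * a ^ v) ^ p = ((b ^ e) ^ u) ^ (p : ℤ) * (a ^ v) ^ (p : ℤ) := by
            rw [mul_pow, zpow_natCast, zpow_natCast]
        _ = ((b ^ e) ^ (p : ℤ)) ^ u * (a ^ (p : ℤ)) ^ v := by
            rw [← zpow_mul, ← zpow_mul, ← zpow_mul, ← zpow_mul, mul_comm u, mul_comm v]
        _ = (a ^ (n' : ℤ)) ^ u * (a ^ (p : ℤ)) ^ v := by
            rw [zpow_natCast, ← pow_mul, mul_comm e, ← he, hb', zpow_natCast, zpow_natCast]
        _ = a := by rw [← zpow_mul, ← zpow_mul, ← zpow_add₀ ha0, huv, zpow_one]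
    haveI : CharP S p := charP_of_injective_algebraMap (algebraMap K S).injective p
    have hye : y ^ e = algebraMap K S c := by
      apply frobenius_inj S p
      rw [frobenius_def, frobenius_def, ← map_pow, hc, ← pow_mul, mul_comm e, ← he, ha]
    have he0 : 0 < e := by
      have := minpoly.natDegree_pos hyint
      rcases Nat.eq_zero_or_pos e with rfl | h
      · rw [mul_zero] at he; omega
      · exact h
    have hle : d ≤ e := (Polynomial.natDegree_le_of_dvd (minpoly.dvd K y (p := X ^ e - C c) (by simp [hye]))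
      (X_pow_sub_C_ne_zero he0 _)).trans_eq natDegree_X_pow_sub_C
    have := hp.two_le
    nlinarith
  obtain ⟨t, ht⟩ : d ∣ n' :=
    (Nat.Coprime.pow_right m (Nat.Coprime.symm (hp.coprime_iff_not_dvd.2 hpd))).dvd_of_dvd_mul_right (hn ▸ hdn)
  exact ⟨a ^ t, by rw [map_pow, ← hxa, ← pow_mul, ← ht]⟩

end Groth.Agent.S15185
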