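import Groth.Statements.S15187
import Groth.Agent.SBAutLib.Galois

set_option autoImplicit false
universe u
open CategoryTheory CategoryTheory.Limits AlgebraicGeometry
open BddFin

namespace Groth.Agent.S15187

/-- Let k be a field, A a central simple k-algebra of dimension n², and X → Spec k the Severi–Brauer
variety of A (X represents the functor of left ideals of A with projective quotient of corank n² −
n). Then the group of automorphisms of X over k is isomorphic to the quotient of the unit group of A
by that of k: there is a surjective group homomorphism from the units of A onto Aut_k(X) whose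
kernel is the image of the units of k. (Existence of such a homomorphism only; in the published
lemma the map comes from the conjugation action of units on ideals.) -/
theorem result
    (k : Type u) [Field k] (A : Type u) [Ring A] [Algebra k A] [Algebra.IsCentral k A] [IsSimpleRing A]
    (n : ℕ) (hn : 0 < n) (hA : Module.finrank k A = n * n)
    {X : Scheme.{u}} (f : X ⟶ Spec (CommRingCat.of k)) (hX : BrSev.IsSBOf k A (n * n - n) f) :
    ∃ ξ : Aˣ →* Aut (Over.mk f), Function.Surjective ξ ∧
      ξ.ker = (Units.map (algebraMap k A : k →* A)).range := by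
  obtain ⟨m, rfl⟩ : ∃ m, n = m + 1 := ⟨n - 1, by omega⟩
  haveI : FiniteDimensional k A := Module.finite_of_finrank_pos (by rw [hA]; positivity)
  obtain ⟨K, hfin, hgal, n, -, ⟨ψ⟩⟩ := Groth.Agent.CSALib.exists_galois_splitting (k := k) (A := A)
  obtain rfl : n = m + 1 := Nat.mul_self_inj.1 ((Groth.Agent.CSALib.finrank_of_splits ψ).symm.trans hA)
  obtain ⟨s⟩ := hX
  obtain ⟨ξ, hξ⟩ := Groth.Agent.SBAutLib.exists_autMonoidHom s
  exact ⟨ξ, Groth.Agent.SBAutLib.surjective ψ s ξ hξ, Groth.Agent.SBAutLib.ker_eq ψ s ξ hξ⟩

end Groth.Agent.S15187
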