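import Groth.Statements.S15189
import Groth.Agent.S15187
import Groth.Agent.SBAutLib.Cubic

set_option autoImplicit false
universe u
open CategoryTheory CategoryTheory.Limits AlgebraicGeometry
open BddFin

namespace Groth.Agent.S15189

/-- Let p be 2 or 3, k an infinite field of characteristic p, A a central simple k-algebra of dimension
p², and X → Spec k the Severi–Brauer variety of A (X represents the functor of left ideals of A with
projective quotient of corank p² − p; X has dimension p − 1). Then the group of automorphisms of X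
over k has unbounded finite subgroups: for every N it has a finite subgroup of order greater than N. -/
theorem result
    (k : Type u) [Field k] [Infinite k] (p : ℕ) [Fact p.Prime] [CharP k p] (hp : p = 2 ∨ p = 3)
    (A : Type u) [Ring A] [Algebra k A] [Algebra.IsCentral k A] [IsSimpleRing A]
    (hA : Module.finrank k A = p * p)
    {X : Scheme.{u}} (f : X ⟶ Spec (CommRingCat.of k)) (hX : BrSev.IsSBOf k A (p * p - p) f) (N : ℕ) :
    ∃ G : Subgroup (Aut (Over.mk f)), Finite G ∧ N < Nat.card G := by
  classical
  have hp0 : p.Prime := Fact.out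
  haveI : FiniteDimensional k A := Module.finite_of_finrank_pos (by rw [hA]; exact Nat.mul_pos hp0.pos hp0.pos)
  obtain ⟨ξ, hsurj, hker⟩ := Groth.Agent.S15187.result k A p hp0.pos hA f hX
  haveI : IsArtinianRing A := IsArtinianRing.of_finite k A
  obtain ⟨r, hr, D, _, _, _, ⟨e⟩⟩ := IsSimpleRing.exists_algEquiv_matrix_divisionRing_finite k A
  have hdim : p * p = r * r * Module.finrank k D := by
    rw [← hA, e.toLinearEquiv.finrank_eq, Module.finrank_matrix]
    simp
  have hrp : r ∣ p := by
    rw [← Nat.pow_dvd_pow_iff (n := 2) two_ne_zero, sq, sq]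
    exact ⟨_, hdim⟩
  rcases (Nat.dvd_prime hp0).1 hrp with rfl | rfl
  · -- a division algebra
    have hbij : Function.Bijective (Matrix.scalarAlgHom (Fin 1) k (α := D)) := by
      refine ⟨(Matrix.scalarAlgHom (Fin 1) k (α := D)).toRingHom.injective, fun M => ⟨M 0 0, ?_⟩⟩
      ext i j
      simp [Fin.fin_one_eq_zero i, Fin.fin_one_eq_zero j, Matrix.scalarAlgHom]
    let e' : A ≃ₐ[k] D := e.trans (AlgEquiv.ofBijective _ hbij).symm
    haveI : Algebra.IsCentral k D := Algebra.IsCentral.of_algEquiv k A D e'
    have hD : Module.finrank k D = p * p := by rw [← e'.toLinearEquiv.finrank_eq, hA]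
    let ξ' : Dˣ →* Aut (Over.mk f) := ξ.comp (Units.map e'.symm.toRingEquiv.toRingHom.toMonoidHom)
    have hker' : ξ'.ker = (Units.map (algebraMap k D : k →* D)).range := by
      ext u
      rw [MonoidHom.mem_ker, MonoidHom.comp_apply, ← MonoidHom.mem_ker, hker, MonoidHom.mem_range, MonoidHom.mem_range]
      refine exists_congr fun c => ⟨fun h => Units.ext ?_, fun h => Units.ext ?_⟩
      · have h' : algebraMap k A (c : k) = e'.symm (u : D) := congrArg Units.val h
        show algebraMap k D (c : k) = (u : D)
        rw [← e'.apply_symm_apply (u : D), ← h', e'.commutes]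
      · show algebraMap k A (c : k) = e'.symm (u : D)
        rw [← h]
        exact (e'.symm.commutes _).symm
    obtain ⟨w, hwK, hw⟩ : ∃ w : D, w ∉ (algebraMap k D).range ∧ w ^ p ∈ (algebraMap k D).range := by
      rcases hp with rfl | rfl
      · exact Groth.Agent.SBAutLib.exists_sq_mem_range hD
      · exact Groth.Agent.SBAutLib.exists_cube_mem_range hD
    exact Groth.Agent.SBAutLib.exists_subgroup_of_inseparable ξ' hker' w hw hwK N
  · -- a matrix algebra
    have hD1 : Module.finrank k D = 1 := by
      have := Nat.mul_pos hp0.pos hp0.pos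
      exact (Nat.eq_of_mul_eq_mul_left this (by rw [← hdim, mul_one])).symm
    obtain ⟨m, rfl⟩ : ∃ m, r = m + 2 := ⟨r - 2, by have := hp0.two_le; omega⟩
    let eD : k ≃ₐ[k] D := AlgEquiv.ofBijective (Algebra.ofId k D)
      ⟨(algebraMap k D).injective, fun x => Algebra.mem_bot.1 ((Subalgebra.bot_eq_top_iff_finrank_eq_one.2 hD1).ge trivial)⟩
    exact Groth.Agent.SBAutLib.exists_subgroup_split (p := m + 2) (e.trans eD.symm.mapMatrix) ξ hker N

end Groth.Agent.S15189
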