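import Groth.Statements.S15221
import Groth.Agent.ExtStabLib.GiesekerExt
-- import your own Groth.Agent.* helpers here

set_option autoImplicit false
set_option backward.isDefEq.respectTransparency false
set_option maxHeartbeats 800000
set_option synthInstance.maxHeartbeats 200000
open CategoryTheory CategoryTheory.Limits AlgebraicGeometry Polynomial
universe u
open ShStab

namespace Groth.Agent.S15221

open Groth.Agent CategoryTheory
set_option backward.isDefEq.respectTransparency false
set_option maxHeartbeats 800000
set_option synthInstance.maxHeartbeats 200000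

/-- Let k be an algebraically closed field and X an integral scheme, smooth and proper over k, of
dimension n ≥ 2, with a closed immersion ι into projective N-space over k compatible with the
structure maps, polarised by the ample O_X(1) = ι^*O(1), and suppose H^1(X, O_X) ≠ 0. Then there is
an O_X-module E which is stable of dimension n in the sense of Gieseker (coherent, nonzero,
torsion-free, with reduced Hilbert polynomial p(F) < p(E) for every nonzero proper coherent
submodule F), of rank 2 in the sense that α_n(E) = 2 α_n(O_X) for the multiplicities of the Hilbert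
polynomials, and which is not slope-stable: E has a nonzero proper coherent submodule F with 0 <
α_n(F) < α_n(E) whose ratio α_{n-1}(F)/α_n(F) equals α_{n-1}(E)/α_n(E). Here a Hilbert polynomial is
written Σ_i α_i m^i/i!. (The published example is stated over an arbitrary field and without a
dimension bound; it uses a closed point with residue field k, so k is taken algebraically closed
here, and for n = 1 the sheaf it constructs, a non-split extension of O_X by the ideal of a point on
a curve of positive genus, is slope-stable, so n ≥ 2 is assumed.) -/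
theorem result (k : Type u) [Field k] [IsAlgClosed k]
    (X : Scheme.{u}) [X.Over (Spec (CommRingCat.of k))] [IsIntegral X]
    [Smooth (X ↘ Spec (CommRingCat.of k))] [IsProper (X ↘ Spec (CommRingCat.of k))]
    (N : ℕ) (ι : X ⟶ CohB1.ProjSpace N k) [IsClosedImmersion ι]
    (hι : ι ≫ CohB1.ProjSpace.toSpec N k = X ↘ Spec (CommRingCat.of k))
    (hL : CohB1.IsAmple ((Scheme.Modules.pullback ι).obj (Twist.twistProjSpace N k 1)))
    (n : ℕ) (hn : topologicalKrullDim ↥X = (n : WithBot ℕ∞)) (h2 : 2 ≤ n)
    (h1 : Nontrivial (Coh.HH X (Coh.structureModule X) 1)) :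
    ∃ E : X.Modules, ShStab.IsStable k X ((Scheme.Modules.pullback ι).obj (Twist.twistProjSpace N k 1)) E n ∧
      (∀ pO pE : Polynomial ℚ, ShStab.IsHilbPoly k X ((Scheme.Modules.pullback ι).obj (Twist.twistProjSpace N k 1)) (Coh.structureModule X) pO →
        ShStab.IsHilbPoly k X ((Scheme.Modules.pullback ι).obj (Twist.twistProjSpace N k 1)) E pE → StabCat.alpha n pE = 2 * StabCat.alpha n pO) ∧
      ∃ (F : X.Modules) (j : F ⟶ E), Mono j ∧ Coh.IsCoh F ∧ ¬ IsZero F ∧ ¬ IsIso j ∧
        ∀ pF pE : Polynomial ℚ, ShStab.IsHilbPoly k X ((Scheme.Modules.pullback ι).obj (Twist.twistProjSpace N k 1)) F pF → ShStab.IsHilbPoly k X ((Scheme.Modules.pullback ι).obj (Twist.twistProjSpace N k 1)) E pE →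
          0 < StabCat.alpha n pF ∧ StabCat.alpha n pF < StabCat.alpha n pE ∧
            StabCat.hatSlope n pF = StabCat.hatSlope n pE := by
  haveI := EulerIneqLib.isNoetherian_proper (X := X) k
  obtain ⟨pO, I, E, f, hpO, hf, hfiso, hI, hI0, hpI, hst, hpE, hα⟩ :=
    ExtStab.exists_stable_ext_point k hL (n := n) (by omega) hn h1
  have hone : ∀ d : ℕ, d ≠ 0 → StabCat.alpha d (1 : ℚ[X]) = 0 := fun d hd => by
    rw [StabCat.alpha, coeff_one, if_neg hd, mul_zero]
  have h2c : ∀ d : ℕ, d ≠ 0 → StabCat.alpha d (2 * pO - 1) = 2 * StabCat.alpha d pO := fun d hd => by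
    have h := hone d hd
    rw [StabCat.alpha] at h
    rw [StabCat.alpha, StabCat.alpha, coeff_sub, mul_sub, show (2 : ℚ[X]) = C 2 from (C_ofNat 2).symm,
      coeff_C_mul, h]
    ring
  have h1c : ∀ d : ℕ, d ≠ 0 → StabCat.alpha d (pO - 1) = StabCat.alpha d pO := fun d hd => by
    have h := hone d hd
    rw [StabCat.alpha] at h
    rw [StabCat.alpha, StabCat.alpha, coeff_sub, mul_sub, h, sub_zero]
  refine ⟨E, hst, fun qO qE hqO hqE => ?_, I, f, hf, hI, hI0, hfiso, fun qF qE hqF hqE => ?_⟩
  · obtain rfl := ShStabLib.hp_unique k hqO hpO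
    obtain rfl := ShStabLib.hp_unique k hqE hpE
    exact h2c n (by omega)
  · obtain rfl := ShStabLib.hp_unique k hqF hpI
    obtain rfl := ShStabLib.hp_unique k hqE hpE
    rw [StabCat.hatSlope, StabCat.hatSlope, h1c n (by omega), h2c n (by omega), h1c (n - 1) (by omega),
      h2c (n - 1) (by omega)]
    refine ⟨hα, by linarith, ?_⟩
    rw [mul_div_mul_left _ _ (two_ne_zero' ℚ)]

end Groth.Agent.S15221
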