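import Groth.Statements.S15224
import Mathlib.Data.Nat.Choose.Sum
import Mathlib.Algebra.Algebra.Rat
import Mathlib.Tactic.FieldSimp
import Mathlib.Tactic.Ring
import Mathlib.Tactic.LinearCombination

set_option autoImplicit false
open Finset
open W4c2rk2extmaps

namespace Groth.Agent.S15224

/-- In a commutative ℚ-algebra R let y be an element and put c_k = y^k / k! for every k. Then for k ≥ 2,
Σ_{i=1}^{k-1} (-1)^(i-1) c_i c_(k-i) + (-1)^(k-1) c_k = c_k. (The published statement concerns the
Chern classes of a specific vector bundle on a Jacobian, which are of the form c_k = (4θ)^k / k!;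
the printed argument establishes the identity for every sequence of this form in a commutative
ℚ-algebra, which is the form stated here.) -/
theorem result (R : Type*) [CommRing R] [Algebra ℚ R] (y : R)
    (c : ℕ → R) (hc : ∀ k : ℕ, c k = ((Nat.factorial k : ℚ)⁻¹) • y ^ k)
    (k : ℕ) (hk : 2 ≤ k) :
    (∑ i ∈ Finset.Ico 1 k, (-1 : R) ^ (i - 1) * c i * c (k - i)) + (-1 : R) ^ (k - 1) * c k = c k := by
  have e : ∀ i, i ≤ k → c i * c (k - i) = (k.choose i : R) * c k := fun i hi => by
    rw [hc, hc, hc, smul_mul_smul_comm, ← pow_add, Nat.add_sub_cancel' hi, mul_smul_comm, ← Nat.cast_smul_eq_nsmul ℚ (k.choose i) (1 : R) |>.trans (nsmul_one _), smul_one_mul, smul_smul]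
    congr 1
    rw [← Nat.choose_mul_factorial_mul_factorial hi]
    push_cast
    field_simp [Nat.cast_ne_zero.2 (Nat.factorial_ne_zero i), Nat.cast_ne_zero.2 (Nat.factorial_ne_zero (k - i)),
      Nat.cast_ne_zero.2 (Nat.choose_pos hi).ne']
  have h0 : ∑ i ∈ Finset.range (k + 1), (-1 : R) ^ i * (k.choose i : R) = 0 := by
    have := congrArg (fun z : ℤ => (z : R)) (Int.alternating_sum_range_choose (n := k))
    simpa [show k ≠ 0 by omega] using this
  rw [Finset.sum_range_succ, Finset.range_eq_Ico, Finset.sum_eq_sum_Ico_succ_bot (by omega : 0 < k)] at h0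
  simp only [pow_zero, Nat.choose_zero_right, Nat.choose_self, Nat.cast_one, mul_one, zero_add] at h0
  have h1 : ∑ i ∈ Finset.Ico 1 k, (-1 : R) ^ (i - 1) * c i * c (k - i) =
      -(∑ i ∈ Finset.Ico 1 k, (-1 : R) ^ i * (k.choose i : R)) * c k := by
    rw [neg_mul, Finset.sum_mul, ← Finset.sum_neg_distrib]
    refine Finset.sum_congr rfl fun i hi => ?_
    obtain ⟨h1, h2⟩ := Finset.mem_Ico.1 hi
    obtain ⟨j, rfl⟩ : ∃ j, i = j + 1 := ⟨i - 1, by omega⟩
    rw [Nat.add_sub_cancel, mul_assoc, e _ h2.le, pow_succ]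
    ring
  obtain ⟨j, rfl⟩ : ∃ j, k = j + 1 := ⟨k - 1, by omega⟩
  rw [h1, Nat.add_sub_cancel]
  linear_combination (-(c (j + 1))) * h0

end Groth.Agent.S15224
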