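import Groth.Statements.S15228
import Groth.Agent.VBLib.Secant
import Groth.Agent.VBLib.Sub

set_option autoImplicit false
open CategoryTheory CategoryTheory.Limits AlgebraicGeometry MonoidalCategory
open VBCurve

namespace Groth.Agent.S15228

/-- Let X be a smooth proper integral curve over ℂ of genus g ≥ 3 which is non-hyperelliptic, K a module
isomorphic to its sheaf of differentials, and N an invertible module of degree g with h^0(N) ≤ 1, so
that the complete linear system of K ⊗ N maps X to a projective space of dimension 2g − 2 as a curve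
of degree 3g − 2. An effective divisor D of degree d, recorded through its invertible ideal sheaf I
⊂ O_X (of degree −d), is a d-secant when its linear span has dimension d − 2, i.e. h^0(I ⊗ K ⊗ N) =
h^0(K ⊗ N) − d + 1. Then X has exactly one g-secant: some invertible ideal I ⊂ O_X of degree −g
satisfies h^0(I ⊗ K ⊗ N) + (g − 1) = h^0(K ⊗ N), and any two such ideals are equal as subobjects of
O_X (an isomorphism between them commutes with the inclusions). -/
theorem result
    (X : Scheme.{0}) [X.Over (Spec (CommRingCat.of ℂ))] [IsIntegral X]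
    [IsProper (X ↘ Spec (CommRingCat.of ℂ))] [Smooth (X ↘ Spec (CommRingCat.of ℂ))]
    (hdim : topologicalKrullDim X = 1) (hg : 2 ≤ Curv2.genus ℂ X)
    (hnh : ∀ M : X.Modules, PicF.IsInvertible M → Curv2.deg ℂ X M 1 = 2 →
      Module.finrank ℂ (Coh.HH X M 0) ≤ 1)
    (K : X.Modules) (eK : K ≅ Omega.sheaf (X ↘ Spec (CommRingCat.of ℂ)))
    (g : ℕ) (hg3 : 3 ≤ g) (hgen : Curv2.genus ℂ X = g)
    (N : X.Modules) (hN : PicF.IsInvertible N) (hdN : Curv2.deg ℂ X N 1 = (g : ℤ))
    (h0 : Module.finrank ℂ (Coh.HH X N 0) ≤ 1) :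
    (∃ (I : X.Modules) (ι : I ⟶ Coh.structureModule X),
        PicF.IsInvertible I ∧ Mono ι ∧ Curv2.deg ℂ X I 1 = -((g : ℤ)) ∧
        Module.finrank ℂ (Coh.HH X (CohB1.tensorMod I (CohB1.tensorMod K N)) 0) + (g - 1) =
          Module.finrank ℂ (Coh.HH X (CohB1.tensorMod K N) 0)) ∧
      ∀ (I I' : X.Modules) (ι : I ⟶ Coh.structureModule X) (ι' : I' ⟶ Coh.structureModule X),
        (PicF.IsInvertible I ∧ Mono ι ∧ Curv2.deg ℂ X I 1 = -((g : ℤ)) ∧
        Module.finrank ℂ (Coh.HH X (CohB1.tensorMod I (CohB1.tensorMod K N)) 0) + (g - 1) =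
          Module.finrank ℂ (Coh.HH X (CohB1.tensorMod K N) 0)) →
        (PicF.IsInvertible I' ∧ Mono ι' ∧ Curv2.deg ℂ X I' 1 = -((g : ℤ)) ∧
        Module.finrank ℂ (Coh.HH X (CohB1.tensorMod I' (CohB1.tensorMod K N)) 0) + (g - 1) =
          Module.finrank ℂ (Coh.HH X (CohB1.tensorMod K N) 0)) →
        ∃ φ : I' ≅ I, φ.hom ≫ ι = ι' := by
  haveI := Groth.Agent.VBLib.isRegCurve_of_smooth ℂ (X := X) hdim.le
  haveI := Groth.Agent.EulerIneqLib.isNoetherian_proper (X := X) ℂ
  have h2 := Groth.Agent.VBLib.Secant.finrank_H0_twist ℂ hdim eK hN (by omega)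
  haveI := Groth.Agent.EulerIneqLib.finite_HH (k := ℂ) (Groth.Agent.CurveLib.isCoh_of_isInvertible hN) 0
  have hle := Groth.Agent.VBLib.euler_le_finrank ℂ hdim.le N
  have hO : Curv2.euler ℂ X (Coh.structureModule X) = 1 - (Curv2.genus ℂ X : ℤ) := by
    rw [Groth.Agent.CurveLib.euler_eq_sub (k := ℂ) hdim.le, Groth.Agent.CurveLib.finrank_H0_structure]
    rfl
  have h1 : Module.finrank ℂ (Coh.HH X N 0) = 1 := by
    unfold Curv2.deg at hdN
    push_cast [hO] at hdN
    omega
  refine ⟨?_, fun I I' ι ι' ⟨hI, hι, hdI, hh⟩ ⟨hI', hι', hdI', hh'⟩ => ?_⟩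
  · haveI : Nontrivial (Coh.HH X N 0) := Module.nontrivial_of_finrank_pos (R := ℂ) (by omega)
    obtain ⟨I, ι, hI, hι, hdI, hh⟩ := Groth.Agent.VBLib.Secant.exists_secant ℂ hdim eK hN
    exact ⟨I, ι, hI, hι, by rw [hdI, hdN], by omega⟩
  · haveI := hι
    haveI := hι'
    obtain ⟨η⟩ := Groth.Agent.VBLib.Secant.nonempty_tensor_iso ℂ hdim eK hN hI (by omega) (by omega)
    obtain ⟨η'⟩ := Groth.Agent.VBLib.Secant.nonempty_tensor_iso ℂ hdim eK hN hI' (by omega) (by omega)
    exact Groth.Agent.VBLib.Secant.secant_unique ℂ hdim hN hI hI' h1 η η' ι ι'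

end Groth.Agent.S15228
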