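import Groth.Statements.S15229
import Mathlib

set_option autoImplicit false
open Finset
open W4c2rk2extmaps

namespace Groth.Agent.S15229

/-- In a commutative ℚ-algebra R let θ, η be elements and g a natural number, and put c_k = (4θ)^k / k!.
Suppose θ^(g+1) = 0 and that η satisfies the relation η^(g+1) = Σ_{i=1}^{g+1} (-1)^(i-1) c_i
η^(g+1-i). Then η^(g+k) θ^(g-k) = c_k η^g θ^(g-k) for every 1 ≤ k ≤ g. (The published statement
concerns the first Chern class η of the tautological line bundle on a projective bundle P(U) over a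
g-dimensional Jacobian, with c_k the Chern classes of U, which are (4θ)^k / k!; there θ^(g+1)
vanishes for dimension reasons and the displayed relation is the projective-bundle relation, and the
printed argument derives the identity from exactly these three inputs, which is the form stated
here.) -/
theorem result (R : Type*) [CommRing R] [Algebra ℚ R]
    (θ η : R) (g : ℕ) (c : ℕ → R) (hc : ∀ k : ℕ, c k = ((Nat.factorial k : ℚ)⁻¹) • ((4 : R) * θ) ^ k)
    (hθ : θ ^ (g + 1) = 0)
    (hrel : η ^ (g + 1) = ∑ i ∈ Finset.Ico 1 (g + 2), (-1 : R) ^ (i - 1) * c i * η ^ (g + 1 - i))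
    (k : ℕ) (hk1 : 1 ≤ k) (hkg : k ≤ g) :
    η ^ (g + k) * θ ^ (g - k) = c k * η ^ g * θ ^ (g - k) := by
  induction k using Nat.strong_induction_on with
  | _ k ih =>
  set f : ℕ → R := fun i => ((Nat.factorial i : ℚ)⁻¹) • (1 : R) with hf
  have hcf : ∀ i, c i = f i * ((4 : R) * θ) ^ i := fun i => by rw [hc, hf, smul_mul_assoc, one_mul]
  have hc0 : c 0 = 1 := by simp [hc]
  have hvan : ∀ i, k < i → c i * θ ^ (g - k) = 0 := by
    intro i hi
    rw [hcf, mul_pow, mul_assoc, mul_assoc, ← pow_add,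
      pow_eq_zero_of_le (by omega : g + 1 ≤ i + (g - k)) hθ, mul_zero, mul_zero]
  have hterm : ∀ i ∈ Finset.Ico 1 (g + 2),
      ((-1 : R) ^ (i - 1) * c i * η ^ (g + 1 - i)) * η ^ (k - 1) * θ ^ (g - k) =
        if i ≤ k then (-1 : R) ^ (i - 1) * c i * c (k - i) * η ^ g * θ ^ (g - k) else 0 := by
    intro i hi
    rw [Finset.mem_Ico] at hi
    split_ifs with hik
    · have e : η ^ (g + 1 - i) * η ^ (k - 1) = η ^ (g + (k - i)) := by
        rw [← pow_add]; congr 1; omega
      have e2 : c i * θ ^ (g - k) = f i * 4 ^ i * θ ^ (g - (k - i)) := by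
        rw [hcf, mul_pow, mul_assoc, mul_assoc, ← pow_add, mul_assoc]
        congr 3; omega
      have h3 : η ^ (g + (k - i)) * θ ^ (g - (k - i)) = c (k - i) * η ^ g * θ ^ (g - (k - i)) := by
        rcases Nat.eq_zero_or_pos (k - i) with h | h
        · rw [h, hc0, one_mul, add_zero]
        · exact ih (k - i) (by omega) h (by omega)
      calc ((-1 : R) ^ (i - 1) * c i * η ^ (g + 1 - i)) * η ^ (k - 1) * θ ^ (g - k)
          = (-1 : R) ^ (i - 1) * (c i * θ ^ (g - k)) * (η ^ (g + 1 - i) * η ^ (k - 1)) := by ring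
        _ = (-1 : R) ^ (i - 1) * (f i * 4 ^ i) * (η ^ (g + (k - i)) * θ ^ (g - (k - i))) := by
          rw [e, e2]; ring
        _ = (-1 : R) ^ (i - 1) * c (k - i) * η ^ g * (f i * 4 ^ i * θ ^ (g - (k - i))) := by
          rw [h3]; ring
        _ = (-1 : R) ^ (i - 1) * c i * c (k - i) * η ^ g * θ ^ (g - k) := by rw [← e2]; ring
    · calc ((-1 : R) ^ (i - 1) * c i * η ^ (g + 1 - i)) * η ^ (k - 1) * θ ^ (g - k)
          = (-1 : R) ^ (i - 1) * (c i * θ ^ (g - k)) * (η ^ (g + 1 - i) * η ^ (k - 1)) := by ring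
        _ = 0 := by rw [hvan i (by omega), mul_zero, zero_mul]
  have hbin : ∑ i ∈ Finset.Icc 1 k, (-1 : R) ^ (i - 1) * c i * c (k - i) = c k := by
    have hpair : ∀ i ≤ k, c i * c (k - i) = (k.choose i : R) * c k := by
      intro i hi
      rw [hc, hc, hc, smul_mul_smul_comm, ← pow_add, Nat.add_sub_cancel' hi, ← nsmul_eq_mul,
        ← Nat.cast_smul_eq_nsmul ℚ, smul_smul]
      congr 1
      rw [Nat.cast_choose ℚ hi]
      field_simp
    have halt : ∑ i ∈ Finset.range (k + 1), (-1 : R) ^ i * (k.choose i : R) = 0 := by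
      have := Int.alternating_sum_range_choose_of_ne (n := k) (by omega)
      have h2 := congrArg (fun z : ℤ => (z : R)) this
      simpa using h2
    rw [Finset.sum_range_succ'] at halt
    simp only [pow_zero, Nat.choose_zero_right, Nat.cast_one, one_mul] at halt
    rw [← Finset.Ico_add_one_right_eq_Icc, Finset.sum_Ico_eq_sum_range, Nat.add_sub_cancel]
    calc ∑ i ∈ Finset.range k, (-1 : R) ^ (1 + i - 1) * c (1 + i) * c (k - (1 + i))
        = ∑ i ∈ Finset.range k, -((-1 : R) ^ (i + 1) * (k.choose (i + 1) : R)) * c k := by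
          refine Finset.sum_congr rfl fun i hi => ?_
          rw [Finset.mem_range] at hi
          rw [mul_assoc ((-1 : R) ^ _), hpair (1 + i) (by omega), add_comm 1 i, Nat.add_sub_cancel]
          ring
      _ = c k := by
          rw [← Finset.sum_mul, Finset.sum_neg_distrib, eq_neg_of_add_eq_zero_left halt, neg_neg, one_mul]
  have e : η ^ (g + k) = η ^ (g + 1) * η ^ (k - 1) := by rw [← pow_add]; congr 1; omega
  rw [e, hrel, Finset.sum_mul, Finset.sum_mul, Finset.sum_congr rfl hterm, ← Finset.sum_filter]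
  have hfil : (Finset.Ico 1 (g + 2)).filter (fun i => i ≤ k) = Finset.Icc 1 k := by
    ext i; simp only [Finset.mem_filter, Finset.mem_Ico, Finset.mem_Icc]; omega
  rw [hfil, ← Finset.sum_mul, ← Finset.sum_mul, hbin]

end Groth.Agent.S15229
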