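import Groth.Statements.S15231
import Groth.Agent.DRingLib.Descent
-- import your own Groth.Agent.* helpers here

set_option autoImplicit false
universe u
open CategoryTheory CategoryTheory.Limits
attribute [local instance] HasDerivedCategory.standard
open DRing

namespace Groth.Agent.S15231

open Groth.Agent.DRingLib in
theorem exactAt_tensM_of_finiteLength {R : Type u} [CommRing R] [IsLocalRing R] {Q : DRing.Cx R}
    (hQ : DRing.TermwiseFlat Q) {i : ℤ}
    (hκ : ∀ M : ModuleCat.{u} (IsLocalRing.ResidueField R),
      ((tensM M).obj ((DTen.extCx (IsLocalRing.residue R)).obj Q)).ExactAt i)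
    {N : Type u} [AddCommGroup N] [Module R N] (hN : IsFiniteLength R N) :
    ((tensM (ModuleCat.of R N)).obj Q).ExactAt i := by
  induction hN with
  | @of_subsingleton M _ _ _ =>
    exact ShortComplex.exact_of_isZero_X₂ _
      ((MonoidalCategory.tensorRight (Q.X i)).map_isZero (ModuleCat.isZero_of_subsingleton (ModuleCat.of R M)))
  | @of_simple_quotient M _ _ N hs _ ih =>
    refine exactAt_tensM_of_submodule hQ M N i ih ?_
    refine exactAt_tensM_of_killed (IsLocalRing.residue R) IsLocalRing.residue_surjective hκ _ ?_
    obtain ⟨m, hm, ⟨e⟩⟩ := isSimpleModule_iff_quot_maximal.1 hs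
    intro r hr x
    rw [IsLocalRing.ker_residue] at hr
    have hrm : r ∈ m := by rwa [IsLocalRing.eq_maximalIdeal hm]
    apply e.injective
    rw [map_smul, map_zero]
    obtain ⟨y, hy⟩ := Ideal.Quotient.mk_surjective (e x)
    rw [← hy, ← Ideal.Quotient.mk_eq_mk, ← Submodule.Quotient.mk_smul, Submodule.Quotient.mk_eq_zero]
    exact m.mul_mem_right _ hrm

/-- Let R be a Noetherian local commutative ring with residue field κ, let P be any object of D(R) and
a, b integers. Suppose that H^i(P ⊗^L_R κ) = 0 for every i outside [a, b] (over the field κ this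
says exactly that P ⊗^L_R κ has tor amplitude in [a, b] as an object of D(κ)). Then for every
R-module N of finite length, H^i(P ⊗^L_R N) = 0 for every i outside [a, b]. The derived base change
to κ and the derived tensor products with R-modules are the total left derived functors on D(R),
assumed to exist for every R-module (as they do). -/
theorem result (R : Type u) [CommRing R] [IsNoetherianRing R]
    [IsLocalRing R] [DRing.HasLBaseChange (IsLocalRing.residue R)] [∀ M : ModuleCat.{u} R, DRing.HasLTensor R M]
    (P : Dual.D R) (a b : ℤ)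
    (h : ∀ i : ℤ, (i < a ∨ b < i) →
      Subsingleton (Dual.HD (IsLocalRing.ResidueField R) ((DRing.LBaseChange (IsLocalRing.residue R)).obj P) i))
    (N : Type u) [AddCommGroup N] [Module R N] (hN : IsFiniteLength R N) (i : ℤ) (hi : i < a ∨ b < i) :
    Subsingleton (Dual.HD R ((DRing.LTensor R (ModuleCat.of R N)).obj P) i) := by
  obtain ⟨Q, hQ, hflat, ⟨e⟩⟩ := Groth.Agent.DRingLib.exists_kflat_representative P
  let κ := IsLocalRing.ResidueField R
  let e₁ : (DRing.LBaseChange (IsLocalRing.residue R)).obj P ≅
      DRing.toD ((DTen.extCx (IsLocalRing.residue R)).obj Q) :=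
    (DRing.LBaseChange (IsLocalRing.residue R)).mapIso e.symm ≪≫ Groth.Agent.DRingLib.lbcIso _ Q hQ
  have hex : ((DTen.extCx (IsLocalRing.residue R)).obj Q).ExactAt i := by
    rw [Groth.Agent.DRingLib.exactAt_iff_isZero_homologyFunctor]
    haveI := h i hi
    exact (ModuleCat.isZero_of_subsingleton _).of_iso ((DerivedCategory.homologyFunctor _ i).mapIso e₁.symm)
  have hκ : ∀ M : ModuleCat.{u} κ,
      ((Groth.Agent.DRingLib.tensM M).obj ((DTen.extCx (IsLocalRing.residue R)).obj Q)).ExactAt i := fun M => by
    rw [HomologicalComplex.exactAt_iff, ShortComplex.ShortExact.moduleCat_exact_iff_function_exact] at hex ⊢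
    exact Module.Flat.lTensor_exact M hex
  refine ModuleCat.subsingleton_of_isZero (IsZero.of_iso
    ((Groth.Agent.DRingLib.exactAt_iff_isZero_homologyFunctor _ i).1 (exactAt_tensM_of_finiteLength hflat hκ hN))
    ((DerivedCategory.homologyFunctor _ i).mapIso ((DRing.LTensor R (ModuleCat.of R N)).mapIso e.symm ≪≫
      Groth.Agent.DRingLib.ltensorIso (ModuleCat.of R N) Q hQ)))

end Groth.Agent.S15231
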