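import Groth.Statements.S15235
import Groth.Agent.InvLimLib.Basic
-- import your own Groth.Agent.* helpers here

set_option autoImplicit false
universe u
open CategoryTheory Opposite
open HomAlg3

namespace Groth.Agent.S15235

/-- Let (G_j) be an inverse system of abelian groups indexed by the natural numbers, with transition
maps G_{j+1} → G_j, and let j₀ be a natural number such that the transition map G_{j+1} → G_j is
surjective for every j ≥ j₀. Then: (a) the system satisfies the Mittag-Leffler condition; (b) the
evaluation map from the inverse limit (realised as the set of compatible families) to G_{j₀} is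
surjective; (c) if in addition the transition maps G_{j+1} → G_j are injective for every j ≥ j₀,
that evaluation map is bijective. (The published statement indexes the system by the negative
integers and assumes j₀ ≥ 1; this row indexes it by the natural numbers and allows j₀ = 0, which
changes nothing.) -/
theorem result (G : ℕᵒᵖ ⥤ AddCommGrpCat.{u})
    (j₀ : ℕ) (hs : ∀ j : ℕ, j₀ ≤ j → Function.Surjective (G.map (homOfLE (Nat.le_succ j)).op).hom) :
    (G ⋙ forget AddCommGrpCat.{u}).IsMittagLeffler ∧
      Function.Surjective (fun s : (G ⋙ forget AddCommGrpCat.{u}).sections => s.1 (op j₀)) ∧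
      ((∀ j : ℕ, j₀ ≤ j → Function.Injective (G.map (homOfLE (Nat.le_succ j)).op).hom) →
        Function.Bijective (fun s : (G ⋙ forget AddCommGrpCat.{u}).sections => s.1 (op j₀))) := by
  have hsurj : ∀ (a b : ℕ) (hab : a ≤ b), j₀ ≤ a → Function.Surjective (Groth.Agent.InvLimLib.tr G hab) := by
    intro a b hab ha
    induction b, hab using Nat.le_induction with
    | base => exact fun x => ⟨x, Groth.Agent.InvLimLib.tr_self G x⟩
    | succ b hab ih =>
      intro x
      obtain ⟨y, rfl⟩ := ih x
      obtain ⟨z, rfl⟩ := hs b (ha.trans hab) y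
      exact ⟨z, (Groth.Agent.InvLimLib.tr_tr G hab (Nat.le_succ b) z).symm⟩
  have eval : Function.Surjective (fun s : (G ⋙ forget AddCommGrpCat.{u}).sections => s.1 (Opposite.op j₀)) := fun x => by
    obtain ⟨y, hy, hy0⟩ := Groth.Agent.InvLimLib.exists_compat_of_step G j₀ (fun _ _ => True) x trivial fun n y _ => by
      obtain ⟨z, hz⟩ := hs (j₀ + n) (Nat.le_add_right _ _) y
      exact ⟨z, trivial, hz⟩
    exact ⟨⟨fun i => y i.unop, fun {i j} f => hy (leOfHom f.unop)⟩, hy0⟩
  refine ⟨(Groth.Agent.InvLimLib.ml_iff G).2 fun i => ?_, eval, fun hinj => ⟨fun s t h => Subtype.ext (funext fun ⟨i⟩ => ?_), eval⟩⟩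
  · refine ⟨max i j₀, le_max_left _ _, fun k hk x => ?_⟩
    obtain ⟨y, rfl⟩ := hsurj _ _ (le_max_left (max i j₀) k) (le_max_right _ _) x
    exact ⟨Groth.Agent.InvLimLib.tr G (le_max_right (max i j₀) k) y, by rw [Groth.Agent.InvLimLib.tr_tr, Groth.Agent.InvLimLib.tr_tr]⟩
  · have hup : ∀ n, s.1 (Opposite.op (j₀ + n)) = t.1 (Opposite.op (j₀ + n)) := fun n => by
      induction n with
      | zero => exact h
      | succ n ih =>
        refine hinj (j₀ + n) (Nat.le_add_right _ _) ?_
        exact (s.2 (homOfLE (Nat.le_succ (j₀ + n))).op).trans (ih.trans (t.2 (homOfLE (Nat.le_succ (j₀ + n))).op).symm)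
    rw [← s.2 (homOfLE (Nat.le_add_left i j₀)).op, ← t.2 (homOfLE (Nat.le_add_left i j₀)).op, hup]

end Groth.Agent.S15235
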