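import Groth.Statements.S15236
import Groth.Agent.GenFibreIso.Fields
import Groth.Agent.FPModelLib.Model2
import Groth.Agent.FPModelLib.ZSys

set_option autoImplicit false
open CategoryTheory CategoryTheory.Limits AlgebraicGeometry
universe u
open Variety

namespace Groth.Agent.S15236

/-- Let k be an uncountable algebraically closed field of characteristic zero, T an integral k-scheme of
finite type and f : X → T a flat morphism of finite type. Then there are countably many closed
subsets Z₀, Z₁, … of T, none of them equal to T, such that for every closed point t of T lying in no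
Zₙ the fibre X_t = X ×_T Spec κ(t) is isomorphic, as a scheme, to the geometric generic fibre X ×_T
Spec L, where L is an algebraic closure of the residue field of T at its generic point (existence of
an isomorphism of schemes only; that such an isomorphism preserves rational equivalence of algebraic
cycles, as the published statement adds, is automatic and is not restated). (The published statement
fixes the countable family of closed subsets before the family X → T and allows any flat T-scheme X
over any integral k-scheme T. Both fail: for T the affine line and X the spectrum of its function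
field every closed fibre is empty while the geometric generic fibre is a point, and for any fixed
countable family of proper closed subsets of the affine line, X the complement of a closed point
outside all of them has an empty fibre there. This row takes T and f of finite type and lets the
closed subsets depend on f.) -/
theorem result (k : Type u) [Field k] [IsAlgClosed k]
    [CharZero k] [Uncountable k] (T X : Scheme.{u}) (sT : T ⟶ Spec (CommRingCat.of k)) [IsIntegral T]
    [LocallyOfFiniteType sT] [QuasiCompact sT] (f : X ⟶ T) [Flat f] [LocallyOfFiniteType f]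
    [QuasiCompact f] :
    ∃ Z : ℕ → TopologicalSpace.Closeds T, (∀ n, (Z n : Set T) ≠ Set.univ) ∧
      ∀ t : T, IsClosed ({t} : Set T) → (∀ n, t ∉ Z n) →
        Nonempty (f.fiber t ≅ pullback f (Spec.map (CommRingCat.ofHom (algebraMap
          (T.residueField (genericPoint T)) (AlgebraicClosure (T.residueField (genericPoint T))))) ≫
            T.fromSpecResidueField (genericPoint T))) := by
  classical
  haveI : IsLocallyNoetherian T := LocallyOfFiniteType.isLocallyNoetherian sT
  haveI : IsLocallyNoetherian X := LocallyOfFiniteType.isLocallyNoetherian f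
  haveI : CompactSpace T := QuasiCompact.compactSpace_of_compactSpace sT
  haveI : CompactSpace X := QuasiCompact.compactSpace_of_compactSpace f
  haveI : IsNoetherian X := {}
  haveI : LocallyOfFinitePresentation f := inferInstance
  obtain ⟨_, ⟨V, hV, rfl⟩, hηV, -⟩ :=
    T.isBasis_affineOpens.exists_subset_of_mem_open (Set.mem_univ (genericPoint T)) isOpen_univ
  have hV : IsAffineOpen V := hV
  haveI : Nonempty V := ⟨⟨_, hηV⟩⟩
  haveI : Nonempty ↥(V : Scheme.{u}) := ⟨⟨_, hηV⟩⟩
  let A : CommRingCat.{u} := Γ(T, V)
  have hθ : ∀ (t : T) (ht : t ∈ V), Spec.map (T.evaluation V t ht) ≫ hV.fromSpec = T.fromSpecResidueField t := fun t ht => by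
    rw [Scheme.fromSpecResidueField, ← hV.fromSpecStalk_eq_fromSpecStalk ht]
    show Spec.map (T.presheaf.germ V t ht ≫ T.residue t) ≫ hV.fromSpec = Spec.map (T.residue t) ≫ Spec.map (T.presheaf.germ V t ht) ≫ hV.fromSpec
    rw [Spec.map_comp, Category.assoc]
  let fA : pullback f hV.fromSpec ⟶ Spec A := pullback.snd f hV.fromSpec
  haveI : IsNoetherianRing A := IsLocallyNoetherian.component_noetherian ⟨V, hV⟩
  haveI : LocallyOfFinitePresentation fA := (inferInstance : LocallyOfFinitePresentation (pullback.snd f hV.fromSpec))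
  haveI : QuasiCompact fA := inferInstance
  haveI : CompactSpace ↥(pullback f hV.fromSpec) := QuasiCompact.compactSpace_of_compactSpace fA
  haveI : IsLocallyNoetherian (pullback f hV.fromSpec) := LocallyOfFiniteType.isLocallyNoetherian fA
  haveI : IsNoetherian (pullback f hV.fromSpec) := {}
  haveI : QuasiSeparatedSpace ↥(pullback f hV.fromSpec) := inferInstance
  haveI hfA' : @LocallyOfFinitePresentation (pullback f hV.fromSpec) (Groth.Agent.FPModelLib.zCone A).pt fA := ‹LocallyOfFinitePresentation fA›
  obtain ⟨i, G, g₀, q, hm⟩ := Groth.Agent.FPModelLib.Gen.exists_model (Groth.Agent.FPModelLib.zSys A)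
    (Groth.Agent.FPModelLib.zCone A) (Groth.Agent.FPModelLib.isLimitZCone A) fA
  let R := i.unop.1
  haveI : Algebra.FiniteType ℤ R := Groth.Agent.FPModelLib.finiteType_zSys A i
  haveI : Countable R := by
    obtain ⟨n, φ, hφ⟩ := Algebra.FiniteType.iff_quotient_mvPolynomial''.mp ‹Algebra.FiniteType ℤ R›
    haveI : Countable (MvPolynomial (Fin n) ℤ) := Cardinal.mk_le_aleph0_iff.mp (MvPolynomial.cardinalMk_le_max_lift.trans (by simp))
    exact hφ.countable
  haveI : Nontrivial A := inferInstanceAs (Nontrivial Γ(T, V))
  haveI : Nonempty {a : R // (a : A) ≠ 0} := ⟨⟨1, by simp⟩⟩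
  obtain ⟨en, hen⟩ := exists_surjective_nat {a : R // (a : A) ≠ 0}
  refine ⟨fun n => ⟨((T.basicOpen ((en n : R) : A) : T.Opens) : Set T)ᶜ, (T.basicOpen _).isOpen.isClosed_compl⟩,
    fun n h => ?_, fun t ht hgen => ?_⟩
  · have : T.basicOpen ((en n : R) : A) = ⊥ := by
      apply TopologicalSpace.Opens.ext
      simpa using h
    exact (en n).2 ((basicOpen_eq_bot_iff _).mp this)
  have hta : ∀ a : R, (a : A) ≠ 0 → t ∈ T.basicOpen (a : A) := fun a ha => by
    obtain ⟨n, hn⟩ := hen ⟨a, ha⟩
    have := hgen n
    simp only [hn] at this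
    simpa using this
  have htV : t ∈ V := T.basicOpen_le (1 : A) (hta 1 (by simp))
  have hηa : ∀ a : R, (a : A) ≠ 0 → genericPoint T ∈ T.basicOpen (a : A) := fun a ha =>
    (genericPoint_specializes t).mem_open (T.basicOpen _).isOpen (hta a ha)
  let η := genericPoint T
  let ι : CommRingCat.of R ⟶ A := CommRingCat.ofHom R.val.toRingHom
  let g₁ : G ⟶ Spec (CommRingCat.of R) := g₀
  have hq : IsPullback q fA g₁ (Spec.map ι) := hm.isPullback
  -- fibres over field valued points of the affine chart
  have key : ∀ (K : CommRingCat.{u}) (θ : A ⟶ K), Nonempty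
      (pullback f (Spec.map θ ≫ hV.fromSpec) ≅ pullback g₁ (Spec.map (ι ≫ θ))) := fun K θ => by
    have sq := ((IsPullback.of_hasPullback fA (Spec.map θ)).paste_horiz (IsPullback.of_hasPullback f hV.fromSpec))
    have sq' := ((IsPullback.of_hasPullback fA (Spec.map θ)).paste_horiz hq)
    exact ⟨sq.isoPullback.symm ≪≫ sq'.isoPullback ≪≫ pullback.congrHom rfl (Spec.map_comp ι θ).symm⟩
  -- the closed point
  haveI : IsClosedImmersion (T.fromSpecResidueField t) := isClosed_singleton_iff_isClosedImmersion.mp ht
  let ψ : CommRingCat.of k ⟶ T.residueField t := Spec.preimage (T.fromSpecResidueField t ≫ sT)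
  haveI : LocallyOfFiniteType (Spec.map ψ) := by rw [Spec.map_preimage]; infer_instance
  letI := ψ.hom.toAlgebra
  haveI : Algebra.FiniteType k (T.residueField t) :=
    (HasRingHomProperty.Spec_iff (P := @LocallyOfFiniteType)).mp ‹LocallyOfFiniteType (Spec.map ψ)›
  haveI : Module.Finite k (T.residueField t) := finite_of_finite_type_of_isJacobsonRing k _
  have hkb : Function.Bijective (algebraMap k (T.residueField t)) :=
    IsAlgClosed.algebraMap_bijective_of_isIntegral
  let ek := RingEquiv.ofBijective _ hkb
  haveI : IsAlgClosed (T.residueField t) := IsAlgClosed.of_ringEquiv k _ ek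
  -- cardinalities
  let φA : k →+* A := (sT.appLE ⊤ V le_top).hom.comp (Scheme.ΓSpecIso (CommRingCat.of k)).inv.hom
  letI := φA.toAlgebra
  haveI : Algebra.FiniteType k A := by
    refine RingHom.finiteType_algebraMap.1 ?_
    refine RingHom.FiniteType.comp ?_ (RingHom.FiniteType.of_surjective _
      (Scheme.ΓSpecIso (CommRingCat.of k)).commRingCatIsoToRingEquiv.symm.surjective)
    exact sT.finiteType_appLE (isAffineOpen_top _) hV le_top
  have hk : Cardinal.aleph0 < Cardinal.mk k := Cardinal.aleph0_lt_mk
  have hA : Cardinal.mk A ≤ Cardinal.mk k := by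
    obtain ⟨n, φ, hφ⟩ := Algebra.FiniteType.iff_quotient_mvPolynomial''.mp ‹Algebra.FiniteType k A›
    refine (Cardinal.mk_le_of_surjective hφ).trans (MvPolynomial.cardinalMk_le_max_lift.trans ?_)
    simp [(Cardinal.natCast_le_aleph0 (n := n)).trans hk.le, hk.le]
  let L := AlgebraicClosure (T.residueField η)
  let θη : A ⟶ T.residueField η := T.evaluation V η hηV
  have hsurj : ∀ z : T.residueField η, ∃ a b : A, z = θη a / θη b := by
    intro z
    obtain ⟨w, rfl⟩ := IsLocalRing.residue_surjective z
    letI := (T.presheaf.germ V η hηV).hom.toAlgebra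
    haveI := hV.isLocalization_stalk ⟨η, hηV⟩
    obtain ⟨⟨a, b⟩, hab⟩ := IsLocalization.surj (hV.primeIdealOf ⟨η, hηV⟩).asIdeal.primeCompl w
    refine ⟨a, b, ?_⟩
    have hu : IsUnit (algebraMap A (T.presheaf.stalk η) b.1) := IsLocalization.map_units _ b
    have h1 := congrArg (IsLocalRing.residue (T.presheaf.stalk η)) hab
    rw [map_mul] at h1
    refine eq_div_of_mul_eq ?_ h1
    exact (hu.map (IsLocalRing.residue (T.presheaf.stalk η))).ne_zero
  have hL1 : Cardinal.mk (T.residueField η) ≤ Cardinal.mk k := by
    refine (Cardinal.mk_le_of_surjective (f := fun p : A × A => θη p.1 / θη p.2)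
      (fun z => let ⟨a, b, h⟩ := hsurj z; ⟨(a, b), h.symm⟩)).trans ?_
    rw [Cardinal.mk_prod, Cardinal.lift_id]
    exact (mul_le_mul' hA hA).trans (Cardinal.mul_eq_self hk.le).le
  have hL2 : Cardinal.mk k ≤ Cardinal.mk (T.residueField η) :=
    Cardinal.mk_le_of_injective (θη.hom.comp φA).injective
  have hL : Cardinal.mk (T.residueField t) = Cardinal.mk L := by
    rw [← Cardinal.mk_congr ek.toEquiv]
    refine le_antisymm (hL2.trans (Cardinal.mk_le_of_injective (algebraMap _ L).injective)) ?_
    exact (Algebra.IsAlgebraic.cardinalMk_le_max (T.residueField η) L).trans (max_le hL1 hk.le)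
  let γ : T.residueField η ⟶ CommRingCat.of L := CommRingCat.ofHom (algebraMap (T.residueField η) L)
  have hinj : ∀ (x : T) (hx : x ∈ V), (∀ a : R, (a : A) ≠ 0 → x ∈ T.basicOpen (a : A)) →
      Function.Injective (ι ≫ T.evaluation V x hx).hom := fun x hx h =>
    (injective_iff_map_eq_zero _).mpr fun a ha => by
      by_contra hne
      exact (T.evaluation_ne_zero_iff_mem_basicOpen x hx (a : A)).mpr
        (h a fun h0 => hne (Subtype.ext h0)) ha
  haveI : Nontrivial R := inferInstance
  obtain ⟨e, he⟩ := Groth.Agent.GenFibreIso.exists_iso_over (K := T.residueField t) (L := L)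
    (ι ≫ T.evaluation V t htV).hom (ι ≫ θη ≫ γ).hom (hinj t htV hta)
    ((algebraMap (T.residueField η) L).injective.comp (hinj η hηV hηa))
    (by rw [← Cardinal.mk_congr ek.toEquiv]; exact hk) hL
  obtain ⟨e1⟩ := key _ (T.evaluation V t htV)
  obtain ⟨e2⟩ := key _ (θη ≫ γ)
  have hec : (ι ≫ T.evaluation V t htV) ≫ e.toCommRingCatIso.hom = ι ≫ θη ≫ γ := CommRingCat.hom_ext (RingHom.ext he)
  let e3 : pullback g₁ (Spec.map (ι ≫ θη ≫ γ)) ≅ pullback g₁ (Spec.map (ι ≫ T.evaluation V t htV)) :=
    asIso (pullback.map g₁ (Spec.map (ι ≫ θη ≫ γ)) g₁ (Spec.map (ι ≫ T.evaluation V t htV)) (𝟙 _)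
      (Spec.map e.toCommRingCatIso.hom) (𝟙 _) (by simp) (by rw [Category.comp_id, ← Spec.map_comp, hec]))
  refine ⟨pullback.congrHom rfl (hθ t htV).symm ≪≫ e1 ≪≫ e3.symm ≪≫ e2.symm ≪≫ pullback.congrHom rfl ?_⟩
  rw [Spec.map_comp, Category.assoc, hθ η hηV]
  rfl

end Groth.Agent.S15236
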