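import Groth.Statements.S15240
import Mathlib.AlgebraicGeometry.AlgClosed.Basic
import Groth.Agent.GrpSchLib.Component
import Groth.Agent.GrpQuotLib.Orbit

set_option autoImplicit false
universe u
open CategoryTheory CategoryTheory.Limits MonoidalCategory CartesianMonoidalCategory MonObj GrpObj AlgebraicGeometry
open AGF

namespace Groth.Agent.S15240

section
variable {k : Type u} [Field k] [IsAlgClosed k]

/-- The point of the underlying space of a rational point. -/
private noncomputable abbrev ptBase {W : Over (Spec (CommRingCat.of k))} (x : 𝟙_ (Over (Spec (CommRingCat.of k))) ⟶ W) :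
    W.left := x.left.base (IsLocalRing.closedPoint k)

private theorem exists_pt_of_isClosed (W : Over (Spec (CommRingCat.of k))) [LocallyOfFiniteType W.hom]
    (w : W.left) (hw : IsClosed ({w} : Set W.left)) :
    ∃ x : 𝟙_ (Over (Spec (CommRingCat.of k))) ⟶ W, ptBase x = w := by
  obtain ⟨⟨q, hq⟩, hqw⟩ := (pointEquivClosedPoint W.hom).surjective ⟨w, hw⟩
  exact ⟨Over.homMk q hq, congrArg Subtype.val hqw⟩

private theorem pt_ext (W : Over (Spec (CommRingCat.of k))) [LocallyOfFiniteType W.hom]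
    (x y : 𝟙_ (Over (Spec (CommRingCat.of k))) ⟶ W) (h : ptBase x = ptBase y) : x = y := by
  refine Over.OverMorphism.ext ?_
  exact congrArg Subtype.val ((pointEquivClosedPoint W.hom).injective
    (a₁ := ⟨x.left, Over.w x⟩) (a₂ := ⟨y.left, Over.w y⟩) (Subtype.ext h))

private theorem isClosed_ptBase (W : Over (Spec (CommRingCat.of k))) [LocallyOfFiniteType W.hom]
    (x : 𝟙_ (Over (Spec (CommRingCat.of k))) ⟶ W) : IsClosed ({ptBase x} : Set W.left) :=
  (pointEquivClosedPoint W.hom ⟨x.left, Over.w x⟩).2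

private theorem jacobson (W : Over (Spec (CommRingCat.of k))) [LocallyOfFiniteType W.hom] :
    JacobsonSpace W.left := LocallyOfFiniteType.jacobsonSpace W.hom

/-- A closed set is contained in another one as soon as its rational points are. -/
private theorem subset_of_pts (W : Over (Spec (CommRingCat.of k))) [LocallyOfFiniteType W.hom]
    {A C : Set W.left} (hA : IsClosed A) (hC : IsClosed C)
    (h : ∀ x : 𝟙_ (Over (Spec (CommRingCat.of k))) ⟶ W, ptBase x ∈ A → ptBase x ∈ C) : A ⊆ C := by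
  haveI := jacobson W
  rw [← closure_inter_closedPoints hA]
  refine closure_minimal (fun w hw => ?_) hC
  obtain ⟨x, rfl⟩ := exists_pt_of_isClosed W w hw.2
  exact h x hw.1

variable {B X : Over (Spec (CommRingCat.of k))} [GrpObj B] [LocallyOfFiniteType B.hom]
  [LocallyOfFiniteType X.hom] (a : AlgGrp.Action B X)

private theorem exists_eq_of_mem_range (r x : 𝟙_ (Over (Spec (CommRingCat.of k))) ⟶ X)
    (h : ptBase x ∈ Set.range (a.orbitMap r).left.base) :
    ∃ b : 𝟙_ (Over (Spec (CommRingCat.of k))) ⟶ B, b ≫ a.orbitMap r = x := by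
  haveI := jacobson B
  have hc : IsClosed ((a.orbitMap r).left.base ⁻¹' {ptBase x}) :=
    (isClosed_ptBase X x).preimage (a.orbitMap r).left.continuous
  have hne : ((a.orbitMap r).left.base ⁻¹' {ptBase x}).Nonempty := by
    obtain ⟨b, hb⟩ := h
    exact ⟨b, hb⟩
  obtain ⟨b, hbx, hb⟩ := nonempty_inter_closedPoints hne hc.isLocallyClosed
  obtain ⟨b', rfl⟩ := exists_pt_of_isClosed B b hb
  refine ⟨b', pt_ext X _ _ ?_⟩
  exact hbx

private theorem range_orbitMap_subset (r : 𝟙_ (Over (Spec (CommRingCat.of k))) ⟶ X) {C : Set X.left}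
    (hC : IsClosed C)
    (h : ∀ b : 𝟙_ (Over (Spec (CommRingCat.of k))) ⟶ B, ptBase (b ≫ a.orbitMap r) ∈ C) :
    closure (Set.range (a.orbitMap r).left.base) ⊆ C := by
  refine closure_minimal ?_ hC
  rintro _ ⟨b, rfl⟩
  exact subset_of_pts B isClosed_univ (hC.preimage (a.orbitMap r).left.continuous)
    (fun b' _ => h b') (Set.mem_univ b)

end

/-- Let k be an algebraically closed field, B a connected solvable affine algebraic group over k
(affine, smooth, connected, solvable k-group scheme) acting on a complete k-scheme X (separated, of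
finite type and proper over k) with finitely many orbits (finitely many subsets of X arise as images
of orbit maps of k-points), and Y a separated k-scheme of finite type on which B acts trivially.
Then every closed irreducible subset Z of X ×_k Y which is stable under the translations by all
k-points of B (acting on the first factor) is of the form V × W: there are a B-stable closed
irreducible subset V of X and a closed irreducible subset W of Y with Z equal to the set of points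
whose two projections lie in V and in W. -/
theorem result (k : Type u) [Field k] [IsAlgClosed k]
    (B X Y : Over (Spec (CommRingCat.of k))) [GrpObj B] [IsAffine B.left] [Smooth B.hom] [ConnectedSpace ↥B.left]
    (hsolv : Red.IsSolvableGrp B)
    [IsProper X.hom]
    [IsSeparated Y.hom] [LocallyOfFiniteType Y.hom] [QuasiCompact Y.hom]
    (a : AlgGrp.Action B X)
    (hfin : Set.Finite {S : Set ↥X.left | ∃ x : 𝟙_ (Over (Spec (CommRingCat.of k))) ⟶ X, S = Set.range ⇑(a.orbitMap x).left.base})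
    (Z : Set ↥(X ⊗ Y).left) (hZc : IsClosed Z) (hZi : IsIrreducible Z)
    (hZs : ∀ b : 𝟙_ (Over (Spec (CommRingCat.of k))) ⟶ B,
      ⇑(CartesianMonoidalCategory.lift (CartesianMonoidalCategory.toUnit (X ⊗ Y) ≫ b) (𝟙 (X ⊗ Y)) ≫
          (α_ B X Y).inv ≫ (a.act ▷ Y)).left.base '' Z ⊆ Z) :
    ∃ (V : Set ↥X.left) (W : Set ↥Y.left), IsClosed V ∧ IsIrreducible V ∧ IsClosed W ∧ IsIrreducible W ∧
      (∀ b : 𝟙_ (Over (Spec (CommRingCat.of k))) ⟶ B,
        ⇑(CartesianMonoidalCategory.lift (CartesianMonoidalCategory.toUnit X ≫ b) (𝟙 X) ≫ a.act).left.base '' V ⊆ V) ∧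
      Z = ⇑(CartesianMonoidalCategory.fst X Y).left.base ⁻¹' V ∩ ⇑(CartesianMonoidalCategory.snd X Y).left.base ⁻¹' W := by
  classical
  haveI : LocallyOfFiniteType B.hom := inferInstance
  haveI : IrreducibleSpace B.left := GrpSchLib.irreducibleSpace_of_connectedSpace
  haveI : LocallyOfFiniteType (X ⊗ Y).hom := by
    rw [Over.tensorObj_hom]; infer_instance
  let I₀ := 𝟙_ (Over (Spec (CommRingCat.of k)))
  let τ : (I₀ ⟶ B) → (X ⊗ Y ⟶ X ⊗ Y) := fun b =>
    lift (toUnit (X ⊗ Y) ≫ b) (𝟙 (X ⊗ Y)) ≫ (α_ B X Y).inv ≫ (a.act ▷ Y)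
  have hτ : ∀ (b : I₀ ⟶ B) (x : I₀ ⟶ X) (y : I₀ ⟶ Y),
      lift x y ≫ τ b = lift (lift b x ≫ a.act) y := fun b x y => by
    have e : lift x y ≫ lift (toUnit (X ⊗ Y) ≫ b) (𝟙 (X ⊗ Y)) ≫ (α_ B X Y).inv = lift (lift b x) y := by
      ext <;> simp [I₀]
    calc lift x y ≫ τ b
        = (lift x y ≫ lift (toUnit (X ⊗ Y) ≫ b) (𝟙 (X ⊗ Y)) ≫ (α_ B X Y).inv) ≫ (a.act ▷ Y) := by
          simp only [τ, Category.assoc]
      _ = lift (lift b x ≫ a.act) y := by rw [e, lift_whiskerRight]
  have hτZ : ∀ (b : I₀ ⟶ B) (x : I₀ ⟶ X) (y : I₀ ⟶ Y),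
      ptBase (lift x y) ∈ Z → ptBase (lift (lift b x ≫ a.act) y) ∈ Z := fun b x y h => by
    rw [← hτ b x y]
    exact hZs b ⟨_, h, rfl⟩
  have hmul : ∀ (b c : I₀ ⟶ B) (r : I₀ ⟶ X),
      lift b (c ≫ a.orbitMap r) ≫ a.act = (b * c) ≫ a.orbitMap r := fun b c r => by
    rw [GrpQuotLib.comp_orbitMap, GrpQuotLib.comp_orbitMap, GrpQuotLib.mul_smul]
  have hpt : ∀ (b : I₀ ⟶ B) (r : I₀ ⟶ X), b ≫ a.orbitMap r = lift b r ≫ a.act := fun b r => by
    rw [GrpQuotLib.comp_orbitMap, toUnit_unique (toUnit I₀) (𝟙 I₀), Category.id_comp]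
  choose rep hrep using fun S : {S : Set X.left // ∃ x : I₀ ⟶ X, S = Set.range (a.orbitMap x).left.base} => S.2
  haveI : Finite {S : Set X.left // ∃ x : I₀ ⟶ X, S = Set.range (a.orbitMap x).left.base} := hfin.to_subtype
  let V : (I₀ ⟶ X) → Set X.left := fun r => closure (Set.range (a.orbitMap r).left.base)
  let W : (I₀ ⟶ X) → Set Y.left := fun r => (lift (toUnit Y ≫ r) (𝟙 Y)).left.base ⁻¹' Z
  let C : (I₀ ⟶ X) → Set (X ⊗ Y).left := fun r =>
    (fst X Y).left.base ⁻¹' V r ∩ (snd X Y).left.base ⁻¹' W r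
  have hCc : ∀ r, IsClosed (C r) := fun r =>
    (isClosed_closure.preimage (fst X Y).left.continuous).inter
      ((hZc.preimage (lift (toUnit Y ≫ r) (𝟙 Y)).left.continuous).preimage (snd X Y).left.continuous)
  have hfst : ∀ (x : I₀ ⟶ X) (y : I₀ ⟶ Y), (fst X Y).left.base (ptBase (lift x y)) = ptBase x := fun x y => by
    show ptBase (lift x y ≫ fst X Y) = _
    rw [lift_fst]
  have hsnd : ∀ (x : I₀ ⟶ X) (y : I₀ ⟶ Y), (snd X Y).left.base (ptBase (lift x y)) = ptBase y := fun x y => by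
    show ptBase (lift x y ≫ snd X Y) = _
    rw [lift_snd]
  have hW : ∀ (r : I₀ ⟶ X) (y : I₀ ⟶ Y), ptBase y ∈ W r ↔ ptBase (lift r y) ∈ Z := fun r y => by
    have : y ≫ lift (toUnit Y ≫ r) (𝟙 Y) = lift r y := by
      ext <;> simp [I₀]
    rw [← this]
    exact Iff.rfl
  have hcov : Z ⊆ ⋃ S, C (rep S) := by
    refine subset_of_pts (X ⊗ Y) hZc (isClosed_iUnion_of_finite fun S => hCc _) fun z hz => ?_
    obtain ⟨x, y, rfl⟩ : ∃ x y, z = lift x y := ⟨z ≫ fst X Y, z ≫ snd X Y, (lift_comp_fst_snd z).symm⟩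
    refine Set.mem_iUnion.2 ⟨⟨_, x, rfl⟩, ?_⟩
    generalize hS : rep ⟨_, x, rfl⟩ = r
    have hr : Set.range (a.orbitMap x).left.base = Set.range (a.orbitMap r).left.base := hS ▸ hrep ⟨_, x, rfl⟩
    have hx : ptBase x ∈ Set.range (a.orbitMap r).left.base := by
      rw [← hr]
      refine ⟨ptBase (1 : I₀ ⟶ B), ?_⟩
      show ptBase ((1 : I₀ ⟶ B) ≫ a.orbitMap x) = _
      rw [hpt, GrpQuotLib.one_smul]
    refine ⟨by rw [Set.mem_preimage, hfst]; exact subset_closure hx, ?_⟩
    rw [Set.mem_preimage, hsnd, hW]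
    obtain ⟨b, rfl⟩ := exists_eq_of_mem_range a r x hx
    have := hτZ b⁻¹ _ y hz
    rwa [hmul, inv_mul_cancel, hpt, GrpQuotLib.one_smul] at this
  have hsub : ∀ r, C r ⊆ Z := fun r => by
    refine subset_of_pts (X ⊗ Y) (hCc r) hZc fun z hz => ?_
    obtain ⟨x, y, rfl⟩ : ∃ x y, z = lift x y := ⟨z ≫ fst X Y, z ≫ snd X Y, (lift_comp_fst_snd z).symm⟩
    obtain ⟨h1, h2⟩ := hz
    rw [Set.mem_preimage, hfst] at h1
    rw [Set.mem_preimage, hsnd, hW] at h2
    have key : ∀ x' : I₀ ⟶ X, x' ≫ lift (𝟙 X) (toUnit X ≫ y) = lift x' y := fun x' => by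
      ext <;> simp [I₀]
    have : V r ⊆ (lift (𝟙 X) (toUnit X ≫ y)).left.base ⁻¹' Z := by
      refine range_orbitMap_subset a r (hZc.preimage (lift (𝟙 X) (toUnit X ≫ y)).left.continuous) fun b => ?_
      show ptBase ((b ≫ a.orbitMap r) ≫ lift (𝟙 X) (toUnit X ≫ y)) ∈ Z
      rw [key, hpt]
      exact hτZ b r y h2
    have := this h1
    show ptBase (lift x y) ∈ Z
    rw [← key]
    exact this
  obtain ⟨S, hS⟩ : ∃ S, Z ⊆ C (rep S) := by
    haveI := Fintype.ofFinite {S : Set X.left // ∃ x : I₀ ⟶ X, S = Set.range (a.orbitMap x).left.base}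
    obtain ⟨t, ht, hZt⟩ := isIrreducible_iff_sUnion_isClosed.1 hZi
      (Finset.univ.image fun S => C (rep S))
      (fun t ht => by
        obtain ⟨S, -, rfl⟩ := Finset.mem_image.1 ht
        exact hCc _)
      (hcov.trans (Set.iUnion_subset fun S => Set.subset_sUnion_of_mem (by simp)))
    obtain ⟨S, -, rfl⟩ := Finset.mem_image.1 ht
    exact ⟨S, hZt⟩
  have hZeq : Z = C (rep S) := hS.antisymm (hsub _)
  have hWimg : (snd X Y).left.base '' Z = W (rep S) := by
    refine Set.Subset.antisymm ?_ fun y hy => ⟨_, hy, ?_⟩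
    · rw [hZeq]
      rintro _ ⟨z, hz, rfl⟩
      exact hz.2
    · show ((lift (toUnit Y ≫ rep S) (𝟙 Y)) ≫ snd X Y).left.base y = y
      rw [lift_snd]
      rfl
  refine ⟨V (rep S), W (rep S), isClosed_closure, ?_, hZc.preimage (lift (toUnit Y ≫ rep S) (𝟙 Y)).left.continuous, ?_,
    fun b => ?_, hZeq⟩
  · refine IsIrreducible.closure ?_
    rw [← Set.image_univ]
    exact (IrreducibleSpace.isIrreducible_univ B.left).image _ (a.orbitMap (rep S)).left.continuous.continuousOn
  · rw [← hWimg]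
    exact hZi.image _ (snd X Y).left.continuous.continuousOn
  · rw [Set.image_subset_iff]
    refine range_orbitMap_subset a _ (isClosed_closure.preimage (lift (toUnit X ≫ b) (𝟙 X) ≫ a.act).left.continuous)
      fun c => ?_
    have e : (c ≫ a.orbitMap (rep S)) ≫ lift (toUnit X ≫ b) (𝟙 X) ≫ a.act = (b * c) ≫ a.orbitMap (rep S) := by
      rw [← hmul, ← Category.assoc]
      congr 1
      ext <;> simp [I₀]
    show ptBase ((c ≫ a.orbitMap (rep S)) ≫ lift (toUnit X ≫ b) (𝟙 X) ≫ a.act) ∈ V (rep S)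
    rw [e]
    exact subset_closure ⟨ptBase (b * c), rfl⟩

end Groth.Agent.S15240
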