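import Groth.Statements.S19416
import Mathlib
import Groth.Agent.InterDimLib.Topo
import Groth.Agent.HLVTLib.Connected
import Groth.Agent.OpenDim.Dims
import Groth.Agent.SmoothInterDim.Affine

set_option autoImplicit false
universe u
open CategoryTheory AlgebraicGeometry
open IntMult

namespace Groth.Agent.S19416

open Topology TopologicalSpace

theorem dim_closure_eq_trd {k : Type u} [Field k] {X : Scheme.{u}} (f : X ⟶ Spec (CommRingCat.of k))
    [LocallyOfFiniteType f] (η : X) :
    topologicalKrullDim ↥(closure ({η} : Set X)) = (Groth.Agent.OpenDim.trd f η : WithBot ℕ∞) := by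
  haveI : Subsingleton ↥(Spec (CommRingCat.of k)) := inferInstanceAs (Subsingleton (PrimeSpectrum k))
  have hS : closure ({η} : Set X) = closure {η} ∩ Set.univ ∩ f ⁻¹' {f η} := by
    ext w; simp [Subsingleton.elim (f w) (f η)]
  refine le_antisymm (Groth.Agent.OpenDim.dim_inter_le f _ isClosed_closure _ isOpen_univ (f η) _ hS fun w hw => ?_)
    (Groth.Agent.OpenDim.trd_le_dim_inter f _ isClosed_closure _ isOpen_univ (f η) _ hS (subset_closure rfl))
  have := Groth.Agent.OpenDim.trd_le f (specializes_iff_mem_closure.2 hw) (Subsingleton.elim _ _)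
  exact_mod_cast this

theorem dim_closure_restrict {k : Type u} [Field k] {X : Scheme.{u}} (f : X ⟶ Spec (CommRingCat.of k))
    [LocallyOfFiniteType f] (U : X.Opens) (w : U.toScheme) :
    topologicalKrullDim ↥(closure ({w} : Set U.toScheme)) = topologicalKrullDim ↥(closure ({U.ι w} : Set X)) := by
  rw [dim_closure_eq_trd (U.ι ≫ f), dim_closure_eq_trd f]
  have := Groth.Agent.OpenDim.resTrdegAt_ι' f w
  rw [Groth.Agent.OpenDim.resTrdegAt_eq_trd, Groth.Agent.OpenDim.resTrdegAt_eq_trd] at this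
  norm_cast at this ⊢

/-- Let k be a field and X a smooth variety over k (the structure morphism X → Spec k smooth, separated
and quasi-compact, X integral) of dimension n, and let V, W ⊆ X be closed irreducible subsets of
dimensions r and s. Then every irreducible component Z of V ∩ W has dimension at least r + s − n,
stated as r + s ≤ dim Z + n with Krull dimensions of the subspaces; equivalently the codimension of
Z is at most the sum of the codimensions of V and W. The base field is arbitrary here; the same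
statement over an algebraically closed field is the classical dimension count for intersections on a
nonsingular variety. -/
theorem result (k : Type u) [Field k] (X : Scheme.{u})
    (f : X ⟶ Spec (CommRingCat.of k)) [Smooth f] [IsSeparated f] [QuasiCompact f] [IsIntegral X]
    (n r s : ℕ) (hn : topologicalKrullDim X = n) (V W : Set X) (hVc : IsClosed V)
    (hVi : IsIrreducible V) (hWc : IsClosed W) (hWi : IsIrreducible W)
    (hr : topologicalKrullDim ↥V = r) (hs : topologicalKrullDim ↥W = s) (Z : Set ↥(V ∩ W))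
    (hZ : Z ∈ irreducibleComponents ↥(V ∩ W)) :
    ((r + s : ℕ) : WithBot ℕ∞) ≤ topologicalKrullDim ↥Z + n := by
  classical
  obtain ⟨η, hη, hmin, -, hd⟩ := Groth.Agent.InterDimLib.exists_generic (hVc.inter hWc) hZ
  obtain ⟨a, ha⟩ := QuasiSober.sober hVi hVc
  obtain ⟨b, hb⟩ := QuasiSober.sober hWi hWc
  have hsa : a ⤳ η := ha.specializes hη.1
  have hsb : b ⤳ η := hb.specializes hη.2
  obtain ⟨U, hU, V0, hV0, hηV, hle, hstd⟩ := Smooth.exists_isStandardSmooth f η
  haveI : Subsingleton ↥(Spec (CommRingCat.of k)) := inferInstanceAs (Subsingleton (PrimeSpectrum k))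
  obtain rfl : U = ⊤ := top_le_iff.1 fun z _ => Subsingleton.elim (f η) z ▸ hle hηV
  have hstd' : ((Scheme.ΓSpecIso (CommRingCat.of k)).inv ≫ f.appLE ⊤ V0 hle).hom.IsStandardSmooth := by
    rw [CommRingCat.hom_comp]
    exact RingHom.isStandardSmooth_respectsIso.2 _ (Scheme.ΓSpecIso (CommRingCat.of k)).symm.commRingCatIsoToRingEquiv hstd
  obtain ⟨m, g, hgC, hget⟩ := RingHom.IsStandardSmooth.exists_etale_mvPolynomial hstd'
  letI : Algebra (MvPolynomial (Fin m) k) Γ(X, V0) := g.toAlgebra
  haveI : Algebra.Etale (MvPolynomial (Fin m) k) Γ(X, V0) := hget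
  letI : Algebra k Γ(X, V0) := (g.comp MvPolynomial.C).toAlgebra
  haveI : IsScalarTower k (MvPolynomial (Fin m) k) Γ(X, V0) := .of_algebraMap_eq fun _ => rfl
  haveI : Algebra.FiniteType k Γ(X, V0) :=
    Algebra.FiniteType.trans (S := MvPolynomial (Fin m) k) inferInstance inferInstance
  let e : V0.toScheme ≃ₜ PrimeSpectrum Γ(X, V0) := hV0.isoSpec.hom.homeomorph
  have hdim : ∀ w : V0.toScheme, topologicalKrullDim ↥(closure ({V0.ι w} : Set X)) =
      ringKrullDim (Γ(X, V0) ⧸ (e w).asIdeal) := fun w => by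
    rw [← dim_closure_restrict f, ← Groth.Agent.InterDimLib.dim_closure_homeo e w,
      show closure ({e w} : Set (PrimeSpectrum Γ(X, V0))) =
        PrimeSpectrum.zeroLocus ((e w).asIdeal : Set Γ(X, V0)) from PrimeSpectrum.closure_singleton _]
    exact Groth.Agent.HLVTLib.krullDim_zeroLocus _
  obtain ⟨wa, rfl⟩ : ∃ w : V0.toScheme, V0.ι w = a := ⟨⟨a, hsa.mem_open V0.2 hηV⟩, rfl⟩
  obtain ⟨wb, rfl⟩ : ∃ w : V0.toScheme, V0.ι w = b := ⟨⟨b, hsb.mem_open V0.2 hηV⟩, rfl⟩
  obtain ⟨wη, rfl⟩ : ∃ w : V0.toScheme, V0.ι w = η := ⟨⟨η, hηV⟩, rfl⟩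
  have hiff : ∀ c c' : V0.toScheme, (e c).asIdeal ≤ (e c').asIdeal ↔ V0.ι c ⤳ V0.ι c' := fun c c' =>
    (PrimeSpectrum.le_iff_specializes (e c) (e c')).trans
      (e.isInducing.specializes_iff.trans V0.ι.isOpenEmbedding.isInducing.specializes_iff.symm)
  have hR : (e wη).asIdeal ∈ ((e wa).asIdeal ⊔ (e wb).asIdeal).minimalPrimes := by
    refine ⟨⟨(e wη).isPrime, sup_le ((hiff _ _).2 hsa) ((hiff _ _).2 hsb)⟩, fun Q hQ hQle => ?_⟩
    obtain ⟨w, hw⟩ := e.surjective ⟨Q, hQ.1⟩
    obtain rfl : (e w).asIdeal = Q := congrArg PrimeSpectrum.asIdeal hw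
    have h3 := hmin (V0.ι w) ⟨((hiff _ _).1 (le_sup_left.trans hQ.2)).mem_closed hVc ha.mem,
      ((hiff _ _).1 (le_sup_right.trans hQ.2)).mem_closed hWc hb.mem⟩ ((hiff _ _).1 hQle)
    rw [V0.ι.isOpenEmbedding.injective h3]
  haveI : (e wa).asIdeal.IsPrime := (e wa).isPrime
  haveI : (e wb).asIdeal.IsPrime := (e wb).isPrime
  have key := Groth.Agent.SmoothInterDim.le_dim_add_card_of_unramified k (σ := Fin m)
    (e wa).asIdeal (e wb).asIdeal (e wη).asIdeal hR
  rw [← hdim, ← hdim, ← hdim, ← hd, show closure ({V0.ι wa} : Set X) = V from ha,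
    show closure ({V0.ι wb} : Set X) = W from hb, hr, hs, Nat.card_fin] at key
  have hmn : (m : WithBot ℕ∞) ≤ n := by
    haveI : Nonempty ↥V0 := ⟨⟨_, hηV⟩⟩
    haveI : Nontrivial Γ(X, V0) := inferInstance
    have hinj : Function.Injective (algebraMap (MvPolynomial (Fin m) k) Γ(X, V0)) := by
      refine (injective_iff_map_eq_zero _).2 fun p hp => ?_
      by_contra hp0
      haveI : Module.IsTorsionFree (MvPolynomial (Fin m) k) Γ(X, V0) := inferInstance
      have h1 : p • (1 : Γ(X, V0)) = 0 := by rw [Algebra.smul_def, hp, zero_mul]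
      exact one_ne_zero ((smul_eq_zero.1 h1).resolve_left hp0)
    haveI : IsDomain Γ(X, V0) := @IsIntegral.component_integral X _ V0 ⟨⟨_, hηV⟩⟩
    haveI : (⊥ : Ideal Γ(X, V0)).IsPrime := Ideal.isPrime_bot
    obtain ⟨d, hd'⟩ := Groth.Agent.DimFormulaLib.exists_nat_trdeg_quotient k Γ(X, V0) ⊥
    let q := AlgEquiv.quotientBot k Γ(X, V0)
    have h2 := trdeg_le_of_injective
      ((q.symm.toAlgHom).comp (IsScalarTower.toAlgHom k (MvPolynomial (Fin m) k) Γ(X, V0)))
      (q.symm.injective.comp hinj)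
    rw [hd', MvPolynomial.trdeg_of_isDomain] at h2
    have h3 : m ≤ d := by simpa using h2
    haveI : IsDomain Γ(X, V0) := @IsIntegral.component_integral X _ V0 ⟨⟨_, hηV⟩⟩
    have h4 := Groth.Agent.DimFormulaLib.ringKrullDim_eq_trdeg k d hd'
    rw [ringKrullDim_eq_of_ringEquiv q.toRingEquiv] at h4
    have h5 : topologicalKrullDim V0.toScheme = ringKrullDim Γ(X, V0) :=
      (IsHomeomorph.topologicalKrullDim_eq _ e.isHomeomorph).trans (PrimeSpectrum.topologicalKrullDim_eq_ringKrullDim _)
    have h6 := V0.ι.isOpenEmbedding.isInducing.topologicalKrullDim_le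
    rw [h5, h4, hn] at h6
    exact le_trans (by exact_mod_cast h3) h6
  exact le_trans (le_trans (le_of_eq (Nat.cast_add r s)) key) (add_le_add le_rfl hmn)

end Groth.Agent.S19416
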