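import Groth.Statements.S15243
import Groth.Agent.TransvLib.OrbitBound


set_option autoImplicit false
universe u
open CategoryTheory CategoryTheory.Limits MonoidalCategory CartesianMonoidalCategory MonObj GrpObj AlgebraicGeometry
open AGF

namespace Groth.Agent.S15243

open CategoryTheory CategoryTheory.Limits AlgebraicGeometry

open Groth.Agent
set_option backward.isDefEq.respectTransparency false

/-- Let k be an algebraically closed field of characteristic zero, G a group variety over k (integral,
separated, of finite type k-group scheme) acting on a smooth variety X over k (integral, separated,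
smooth of finite type) of dimension n with finitely many orbits (finitely many subsets of X arise as
images of orbit maps of k-points), and let Y₁, Y₂ be closed irreducible subsets of X of
complementary dimensions r + s = n which meet every orbit closure properly: for every k-point x of X
with orbit O of dimension d (dimension of its closure), every irreducible component of Y₁ ∩
closure(O), resp. Y₂ ∩ closure(O), has dimension r + d − n, resp. s + d − n. Then for g in a
nonempty open subset of G the finite set g · Y₁ ∩ Y₂ lies in the open orbit: there is a nonempty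
open V ⊆ G such that for every k-point g of G in V and every k-point x₀ of X whose orbit is open,
the translate of Y₁ by g meets Y₂ only inside the orbit of x₀. (The published setting is over the
complex numbers with G affine; this row assumes an algebraically closed field of characteristic zero
and any group variety, which is all the printed argument uses.) -/
theorem result (k : Type u) [Field k] [IsAlgClosed k]
    [CharZero k] (G X : Over (Spec (CommRingCat.of k))) [GrpObj G] (a : AlgGrp.Action G X)
    [IsIntegral G.left] [IsSeparated G.hom] [LocallyOfFiniteType G.hom] [QuasiCompact G.hom]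
    [IsIntegral X.left] [IsSeparated X.hom] [Smooth X.hom] [QuasiCompact X.hom]
    (hfin : Set.Finite {S : Set ↥X.left | ∃ x : 𝟙_ (Over (Spec (CommRingCat.of k))) ⟶ X, S = Set.range ⇑(a.orbitMap x).left.base})
    (Y₁ Y₂ : Set ↥X.left) (h₁c : IsClosed Y₁) (h₁i : IsIrreducible Y₁) (h₂c : IsClosed Y₂) (h₂i : IsIrreducible Y₂)
    (n r s : ℕ) (hn : topologicalKrullDim ↥X.left = n) (hr : topologicalKrullDim ↥Y₁ = r)
    (hs : topologicalKrullDim ↥Y₂ = s) (hrs : r + s = n)
    (hproper : ∀ (x : 𝟙_ (Over (Spec (CommRingCat.of k))) ⟶ X) (d : ℕ), topologicalKrullDim ↥(closure (Set.range ⇑(a.orbitMap x).left.base)) = d →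
      (∀ C ∈ irreducibleComponents ↥(Y₁ ∩ closure (Set.range ⇑(a.orbitMap x).left.base)),
          n ≤ r + d ∧ topologicalKrullDim ↥C = ((r + d - n : ℕ) : WithBot ℕ∞)) ∧
      (∀ C ∈ irreducibleComponents ↥(Y₂ ∩ closure (Set.range ⇑(a.orbitMap x).left.base)),
          n ≤ s + d ∧ topologicalKrullDim ↥C = ((s + d - n : ℕ) : WithBot ℕ∞))) :
    ∃ V : G.left.Opens, (V : Set ↥G.left).Nonempty ∧
      ∀ σ : 𝟙_ (Over (Spec (CommRingCat.of k))) ⟶ G, Set.range ⇑σ.left.base ⊆ (V : Set ↥G.left) →
        ∀ x₀ : 𝟙_ (Over (Spec (CommRingCat.of k))) ⟶ X, IsOpen (Set.range ⇑(a.orbitMap x₀).left.base) →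
          ⇑(CartesianMonoidalCategory.lift (CartesianMonoidalCategory.toUnit X ≫ σ) (𝟙 X) ≫ a.act).left.base '' Y₁ ∩ Y₂ ⊆ Set.range ⇑(a.orbitMap x₀).left.base := by
  obtain ⟨V, hV, H⟩ := TransvLib.exists_open_all_orbits a hfin Y₁ Y₂ h₁c h₂c n r s hproper
  refine ⟨V, hV, fun σ hσ x₀ hx₀ pt hpt => ?_⟩
  obtain ⟨x, d, hd, hptx, hub⟩ := H σ hσ pt hpt
  have hdn := TransvLib.orbit_dim_le hn hd
  obtain rfl : d = n := by omega
  have hir : IsIrreducible (closure (Set.range ⇑(a.orbitMap x).left.base)) :=
    ((Set.image_univ ▸ (IrreducibleSpace.isIrreducible_univ G.left).image _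
      (a.orbitMap x).left.continuous.continuousOn) : IsIrreducible (Set.range ⇑(a.orbitMap x).left.base)).closure
  obtain ⟨g, hg⟩ := QuasiSober.sober hir isClosed_closure
  have hgen : g = genericPoint X.left := by
    by_contra hne
    have h1 := OpenDim.trd_lt X.hom ((genericPoint_spec X.left).specializes (Set.mem_univ g)) (Ne.symm hne)
      (@Subsingleton.elim _ (inferInstanceAs (Subsingleton (PrimeSpectrum k))) _ _)
    have h2 := TransvLib.trd_le_dim hn (genericPoint X.left)
    have h3 : OpenDim.trd X.hom g = d := by
      have := SmoothInterDim.dim_closure_eq_trd X.hom g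
      rw [hg.def, hd] at this
      exact_mod_cast this.symm
    omega
  have hdense : closure (Set.range ⇑(a.orbitMap x).left.base) = Set.univ := by
    rw [← hg.def, hgen, genericPoint_closure]
  have hne : (Set.range ⇑(a.orbitMap x).left.base ∩ Set.range ⇑(a.orbitMap x₀).left.base).Nonempty := by
    obtain ⟨w, hw⟩ := ((dense_iff_closure_eq.2 hdense).inter_open_nonempty _ hx₀
      ⟨_, TransvLib.mem_own_orbit a x₀⟩)
    exact ⟨w, hw.2, hw.1⟩
  exact TransvLib.orbit_subset a x _ (Or.inl hx₀) (fun g => (TransvLib.translX_orbit a x₀ g).le) hne hptx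


end Groth.Agent.S15243
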