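import Groth.Statements.S15245
import Groth.Agent.RootWordLib.Basic
open Groth.Agent.RootWordLib
-- import your own Groth.Agent.* helpers here

set_option autoImplicit false
universe u
open CategoryTheory AlgebraicGeometry
open RedSub

namespace Groth.Agent.S15245

/-- Let Φ be a finite reduced root system (a reduced root pairing over ℤ on a finite index set) with a
base b, w an element of its Weyl group, given as the product of the reflections along a word l and
acting on the roots, and γ a positive root. Writing ℓ(u) for the number of positive roots a with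
u(a) negative, one has ℓ(w) < ℓ(σ_γ w) if and only if w⁻¹(γ) is positive. (Here the length is taken
as the number of inverted positive roots.) -/
theorem result {idx M N : Type}
    [AddCommGroup M] [AddCommGroup N] [Finite idx]
    (P : RootPairing idx ℤ M N) [P.IsReduced] (b : P.Base) (l : List idx) (c : idx)
    (hc : c ∈ RedSub.posRoots P b) :
    Set.ncard {a : idx | a ∈ RedSub.posRoots P b ∧ RedSub.wordPerm P l a ∈ RedSub.negRoots P b} <
        Set.ncard {a : idx | a ∈ RedSub.posRoots P b ∧
          (P.reflectionPerm c * RedSub.wordPerm P l) a ∈ RedSub.negRoots P b} ↔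
      (RedSub.wordPerm P l)⁻¹ c ∈ RedSub.posRoots P b := by
  classical
  letI := P.indexNeg
  simp only [mem_posRoots, mem_negRoots]
  set w := RedSub.wordPerm P l with hw
  have hconj : ∀ (m : List idx) (β : idx),
      RedSub.wordPerm P m * P.reflectionPerm β = P.reflectionPerm (RedSub.wordPerm P m β) * RedSub.wordPerm P m := by
    intro m β
    rw [reflectionPerm_wordPerm, inv_mul_cancel_right]
  constructor
  · intro h
    by_contra hneg
    set w' := RedSub.wordPerm P (c :: l) with hw'
    have hw'eq : w' = P.reflectionPerm c * w := by simp [hw', hw, RedSub.wordPerm]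
    set β := w'⁻¹ c with hβ
    have hw'β : w' β = c := by rw [hβ, ← Equiv.Perm.mul_apply, mul_inv_cancel]; rfl
    have hβneg : β = -(w⁻¹ c) := by
      obtain ⟨L, hL⟩ := exists_linear P l
      apply w.injective
      apply (P.reflectionPerm c).injective
      rw [← Equiv.Perm.mul_apply, ← hw'eq, hw'β]
      apply P.root.injective
      rw [RootPairing.root_reflectionPerm, hw, hL, RootPairing.indexNeg_neg, RootPairing.root_reflectionPerm,
        RootPairing.reflection_apply_self, map_neg, ← hL, ← hw, ← Equiv.Perm.mul_apply, mul_inv_cancel]
      simp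
    have hpos : b.IsPos β := by rw [hβneg, RootPairing.Base.IsPos.neg_iff_not]; exact hneg
    have h2 := ncard_lt P b (c :: l) β hpos (by rw [← hw', hw'β]; exact (mem_posRoots P b).1 hc)
    rw [hconj, ← hw', hw'β, hw'eq, ← mul_assoc, ← sq, RootPairing.reflectionPerm_sq, one_mul] at h2
    exact lt_asymm h h2
  · intro h
    have h2 := ncard_lt P b l (w⁻¹ c) h (by
      rw [← hw, ← Equiv.Perm.mul_apply, mul_inv_cancel]
      exact (mem_posRoots P b).1 hc)
    rwa [hconj, ← hw, show w (w⁻¹ c) = c by rw [← Equiv.Perm.mul_apply, mul_inv_cancel]; rfl] at h2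

end Groth.Agent.S15245
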