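import Groth.Statements.S15246
import Groth.Agent.TransvLib.OrbitBound


set_option autoImplicit false
universe u
open CategoryTheory CategoryTheory.Limits MonoidalCategory CartesianMonoidalCategory MonObj GrpObj AlgebraicGeometry
open AGF

namespace Groth.Agent.S15246

open CategoryTheory CategoryTheory.Limits AlgebraicGeometry

open Groth.Agent
set_option backward.isDefEq.respectTransparency false

/-- Let k be an algebraically closed field of characteristic zero, G a group variety over k (integral,
separated, of finite type k-group scheme) acting on a smooth variety X over k (integral, separated,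
smooth of finite type) of dimension n with finitely many orbits (finitely many subsets of X arise as
images of orbit maps of k-points), and let Y₁, Y₂ be closed irreducible subsets of X of dimensions r
and s which meet every orbit closure properly: for every k-point x of X whose orbit closure has
dimension d, every irreducible component of Y₁ ∩ closure(orbit), resp. Y₂ ∩ closure(orbit), has
dimension r + d − n, resp. s + d − n. Then there is a nonempty open V ⊆ G such that for every
k-point g of G lying in V the translate g · Y₁ meets Y₂ properly — every irreducible component of g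
· Y₁ ∩ Y₂ has dimension r + s − n — and g · Y₁ ∩ Y₂ meets every orbit closure properly — for every
k-point x whose orbit closure has dimension d, every irreducible component of (g · Y₁ ∩ Y₂) ∩
closure(orbit) has dimension r + s + d − 2n. (The published statement also asserts multiplicity one
along each component of g · Y₁ ∩ Y₂, which is not stated here. The published setting is over the
complex numbers with G affine; this row assumes an algebraically closed field of characteristic zero
and any group variety, which is all the printed argument uses.) -/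
theorem result (k : Type u) [Field k] [IsAlgClosed k]
    [CharZero k] (G X : Over (Spec (CommRingCat.of k))) [GrpObj G] (a : AlgGrp.Action G X)
    [IsIntegral G.left] [IsSeparated G.hom] [LocallyOfFiniteType G.hom] [QuasiCompact G.hom]
    [IsIntegral X.left] [IsSeparated X.hom] [Smooth X.hom] [QuasiCompact X.hom]
    (hfin : Set.Finite {S : Set ↥X.left | ∃ x : 𝟙_ (Over (Spec (CommRingCat.of k))) ⟶ X, S = Set.range ⇑(a.orbitMap x).left.base})
    (Y₁ Y₂ : Set ↥X.left) (h₁c : IsClosed Y₁) (h₁i : IsIrreducible Y₁) (h₂c : IsClosed Y₂) (h₂i : IsIrreducible Y₂)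
    (n r s : ℕ) (hn : topologicalKrullDim ↥X.left = n) (hr : topologicalKrullDim ↥Y₁ = r)
    (hs : topologicalKrullDim ↥Y₂ = s)
    (hproper : ∀ (x : 𝟙_ (Over (Spec (CommRingCat.of k))) ⟶ X) (d : ℕ), topologicalKrullDim ↥(closure (Set.range ⇑(a.orbitMap x).left.base)) = d →
      (∀ C ∈ irreducibleComponents ↥(Y₁ ∩ closure (Set.range ⇑(a.orbitMap x).left.base)),
          n ≤ r + d ∧ topologicalKrullDim ↥C = ((r + d - n : ℕ) : WithBot ℕ∞)) ∧
      (∀ C ∈ irreducibleComponents ↥(Y₂ ∩ closure (Set.range ⇑(a.orbitMap x).left.base)),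
          n ≤ s + d ∧ topologicalKrullDim ↥C = ((s + d - n : ℕ) : WithBot ℕ∞))) :
    ∃ V : G.left.Opens, (V : Set ↥G.left).Nonempty ∧
      ∀ σ : 𝟙_ (Over (Spec (CommRingCat.of k))) ⟶ G, Set.range ⇑σ.left.base ⊆ (V : Set ↥G.left) →
        (∀ C ∈ irreducibleComponents ↥(⇑(CartesianMonoidalCategory.lift (CartesianMonoidalCategory.toUnit X ≫ σ) (𝟙 X) ≫ a.act).left.base '' Y₁ ∩ Y₂),
          n ≤ r + s ∧ topologicalKrullDim ↥C = ((r + s - n : ℕ) : WithBot ℕ∞)) ∧
        ∀ (x : 𝟙_ (Over (Spec (CommRingCat.of k))) ⟶ X) (d : ℕ), topologicalKrullDim ↥(closure (Set.range ⇑(a.orbitMap x).left.base)) = d →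
          ∀ C ∈ irreducibleComponents ↥((⇑(CartesianMonoidalCategory.lift (CartesianMonoidalCategory.toUnit X ≫ σ) (𝟙 X) ≫ a.act).left.base '' Y₁ ∩ Y₂) ∩ closure (Set.range ⇑(a.orbitMap x).left.base)),
            2 * n ≤ r + s + d ∧ topologicalKrullDim ↥C = ((r + s + d - 2 * n : ℕ) : WithBot ℕ∞) := by
  obtain ⟨V, hV, H⟩ := TransvLib.exists_open_all_orbits a hfin Y₁ Y₂ h₁c h₂c n r s hproper
  refine ⟨V, hV, fun σ hσ => ?_⟩
  obtain ⟨hc, hdY, hi⟩ := TransvLib.translX_closed a σ Y₁ h₁c
  rw [show (CartesianMonoidalCategory.lift (CartesianMonoidalCategory.toUnit X ≫ σ) (𝟙 X) ≫ a.act) =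
    MonoFibre.translX a σ from rfl]
  rw [hr] at hdY
  haveI : IsLocallyNoetherian X.left := LocallyOfFiniteType.isLocallyNoetherian X.hom
  refine ⟨fun C hC => ?_, fun x d hd C hC => ?_⟩
  · obtain ⟨pt, hpt, hdim, hle⟩ := TransvLib.le_trd_of_component hn hc (hi h₁i) h₂c h₂i hdY hs hC
    obtain ⟨x', d', hd', -, hub⟩ := H σ hσ pt hpt
    have hd'n := TransvLib.orbit_dim_le hn hd'
    exact ⟨by omega, by rw [hdim, show OpenDim.trd X.hom pt = r + s - n by omega]⟩
  let T : Set ↥X.left := ⇑(MonoFibre.translX a σ).left.base '' Y₁ ∩ Y₂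
  let R := closure (Set.range ⇑(a.orbitMap x).left.base)
  obtain ⟨pt, hpt, hmax, -, hdim⟩ := InterDimLib.exists_generic ((hc.inter h₂c).inter isClosed_closure) hC
  rw [SmoothInterDim.dim_closure_eq_trd X.hom] at hdim
  obtain ⟨x', d', hd', hptx', hub⟩ := H σ hσ pt hpt.1
  have hsub : Set.range ⇑(a.orbitMap x').left.base ⊆ R :=
    TransvLib.orbit_subset a x' R (Or.inr isClosed_closure) (fun g => (TransvLib.translX_closure_orbit a x g).le)
      ⟨pt, hptx', hpt.2⟩
  have hdd : d' ≤ d := by
    have h1 : topologicalKrullDim ↥(closure (Set.range ⇑(a.orbitMap x').left.base)) ≤ topologicalKrullDim ↥R :=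
      (Topology.IsEmbedding.inclusion (closure_minimal hsub isClosed_closure)).isInducing.topologicalKrullDim_le
    rw [hd', show topologicalKrullDim ↥R = _ from hd] at h1
    exact_mod_cast h1
  obtain ⟨p', hp', hsp, Z, hZ, hZd⟩ := InterDimLib.exists_generic_specializes (hc.inter h₂c) hpt.1
  obtain ⟨p'', -, hp''d, hp''le⟩ := TransvLib.le_trd_of_component hn hc (hi h₁i) h₂c h₂i hdY hs hZ
  rw [hZd, SmoothInterDim.dim_closure_eq_trd X.hom] at hp''d
  have h1 : r + s ≤ OpenDim.trd X.hom p' + n := by
    have : OpenDim.trd X.hom p' = OpenDim.trd X.hom p'' := by exact_mod_cast hp''d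
    omega
  have hKc : IsClosed (closure ({p'} : Set ↥X.left) ∩ R) := isClosed_closure.inter isClosed_closure
  obtain ⟨η', hη', hη'sp, Z', hZ', hZ'd⟩ := InterDimLib.exists_generic_specializes hKc
    (⟨specializes_iff_mem_closure.1 hsp, hpt.2⟩ : pt ∈ closure ({p'} : Set ↥X.left) ∩ R)
  have hη : η' = pt := hmax η' ⟨(closure_minimal (Set.singleton_subset_iff.2 hp') (hc.inter h₂c)) hη'.1, hη'.2⟩ hη'sp
  have h2 := Groth.Agent.S19416.result k X.left X.hom n (OpenDim.trd X.hom p') d hn (closure {p'}) R isClosed_closure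
    isIrreducible_singleton.closure isClosed_closure
    (((Set.image_univ ▸ (IrreducibleSpace.isIrreducible_univ G.left).image _
      (a.orbitMap x).left.continuous.continuousOn) : IsIrreducible (Set.range ⇑(a.orbitMap x).left.base)).closure)
    (SmoothInterDim.dim_closure_eq_trd X.hom p') hd Z' hZ'
  rw [hZ'd, SmoothInterDim.dim_closure_eq_trd X.hom, hη] at h2
  have h3 : OpenDim.trd X.hom p' + d ≤ OpenDim.trd X.hom pt + n := by exact_mod_cast h2
  exact ⟨by omega, by rw [hdim, show OpenDim.trd X.hom pt = r + s + d - 2 * n by omega]⟩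


end Groth.Agent.S15246
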