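import Groth.Statements.S15247
import Mathlib
import Groth.Agent.DimFormulaLib.LocalDim
import Groth.Agent.FanoGenLib.Lines

set_option autoImplicit false
open Fano

namespace Groth.Agent.S15247

open MvPolynomial in
/-- A variety of dimension `r` imposes at least `(r multichoose e)` conditions on forms of degree `e`. -/
lemma exists_indep_vars (N : ℕ) (P : Ideal (MvPolynomial (Fin N) ℂ)) [P.IsPrime] (r : ℕ)
    (hr : ringKrullDim (MvPolynomial (Fin N) ℂ ⧸ P) = r) :
    ∃ s : Fin r → Fin N, Function.Injective s ∧
      Function.Injective ((Ideal.Quotient.mkₐ ℂ P).comp (rename s)) := by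
  classical
  let D := MvPolynomial (Fin N) ℂ ⧸ P
  let x : Fin N → D := fun i => Ideal.Quotient.mk P (X i)
  haveI : Algebra.IsAlgebraic (Algebra.adjoin ℂ (Set.range x)) D := by
    have htop : Algebra.adjoin ℂ (Set.range x) = ⊤ := by
      rw [show Set.range x = (Ideal.Quotient.mkₐ ℂ P) '' Set.range (X : Fin N → MvPolynomial (Fin N) ℂ) from
        (Set.range_comp _ _), ← AlgHom.map_adjoin, adjoin_range_X, Algebra.map_top,
        AlgHom.range_eq_top]
      exact Ideal.Quotient.mkₐ_surjective ℂ P
    refine ⟨fun y => ?_⟩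
    exact isAlgebraic_algebraMap (R := Algebra.adjoin ℂ (Set.range x)) (A := D) ⟨y, htop ▸ Algebra.mem_top⟩
  obtain ⟨t, hts, ht⟩ := exists_isTranscendenceBasis_subset (R := ℂ) (A := D) (Set.range x)
  haveI : Fintype t := ((Set.finite_range x).subset hts).fintype
  have hcard : Fintype.card t = r := by
    have h1 : Algebra.trdeg ℂ D = (Fintype.card t : ℕ) := by rw [← ht.cardinalMk_eq_trdeg, Cardinal.mk_fintype]
    have h2 := DimFormulaLib.ringKrullDim_eq_trdeg ℂ (Fintype.card t) h1
    rw [hr] at h2
    exact_mod_cast h2.symm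
  let e : Fin r ≃ t := (Fintype.equivFinOfCardEq hcard).symm
  choose s hs using fun j : Fin r => hts (e j).2
  refine ⟨s, fun i j h => e.injective (Subtype.ext (by rw [← hs i, ← hs j, h])), ?_⟩
  have hind : AlgebraicIndependent ℂ (fun j : Fin r => x (s j)) := by
    have h := ht.1.comp e e.injective
    convert h using 1
    exact funext fun j => hs j
  have heq : (Ideal.Quotient.mkₐ ℂ P).comp (rename s) = aeval (fun j => x (s j)) := algHom_ext fun j => by simp [x]
  rw [heq]
  exact hind

lemma succ_le_choose (N e : ℕ) (h1 : 1 ≤ e) (h2 : e + 1 ≤ N) : N ≤ N.choose e := by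
  induction N generalizing e with
  | zero => omega
  | succ N ih =>
    rcases eq_or_lt_of_le h1 with rfl | h
    · rw [Nat.choose_one_right]
    · obtain ⟨e, rfl⟩ : ∃ e', e = e' + 1 := ⟨e - 1, by omega⟩
      rw [Nat.choose_succ_succ, Nat.succ_eq_add_one]
      have := ih e (by omega) (by omega)
      have := Nat.choose_pos (n := N) (k := e + 1) (by omega)
      omega

/-- Over ℂ, let Y be an irreducible closed subscheme of projective m-space of dimension m − d, where 1 ≤
d and d + 1 ≤ m. Then the hypersurfaces of degree d + 1 containing Y form a linear family of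
codimension at least m + 1 (that is, greater than m) in the projective space of all hypersurfaces of
degree d + 1. Here Y is given by a homogeneous ideal I of ℂ[x_0, …, x_m] whose radical is prime and
with dim ℂ[x_0, …, x_m]/I = m + 1 − d, a hypersurface contains Y when its form lies in I, and the
conclusion reads: the forms of degree d + 1 in I span a subspace of codimension at least m + 1 in
the space of all forms of degree d + 1. -/
theorem result (m d : ℕ) (hd : 1 ≤ d) (hdm : d + 1 ≤ m)
    (I : Ideal (MvPolynomial (Fin (m + 1)) ℂ))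
    (hI : I.IsHomogeneous (CohB1.polyGrading m ℂ))
    (hirr : I.radical.IsPrime)
    (hdim : ringKrullDim (MvPolynomial (Fin (m + 1)) ℂ ⧸ I) = ((m + 1 - d : ℕ) : WithBot ℕ∞)) :
    m + 1 + Module.finrank ℂ ↥(CohB1.polyGrading m ℂ (d + 1) ⊓ Submodule.restrictScalars ℂ I)
      ≤ Module.finrank ℂ (LefPen.Form m ℂ (d + 1)) := by
  classical
  haveI := hirr
  let S := MvPolynomial (Fin (m + 1)) ℂ
  have hP : ringKrullDim (S ⧸ I.radical) = ((m + 1 - d : ℕ) : WithBot ℕ∞) := by
    rw [← hdim, ← Ideal.radical_idem (I := I), ringKrullDim_quotient, ringKrullDim_quotient,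
      Ideal.radical_idem, PrimeSpectrum.zeroLocus_radical]
  obtain ⟨s, hs, hinj⟩ := exists_indep_vars (m + 1) I.radical (m + 1 - d) hP
  let V := MvPolynomial.homogeneousSubmodule (Fin (m + 1)) ℂ (d + 1)
  let T := MvPolynomial.homogeneousSubmodule (Fin (m + 1 - d)) ℂ (d + 1)
  haveI : FiniteDimensional ℂ V := by
    haveI : Finite {f : Fin (m + 1) →₀ ℕ | f.degree = d + 1} :=
      inferInstanceAs (Finite (Groth.Agent.FanoGenLib.Mon m (d + 1)))
    exact ((LinearEquiv.ofEq _ _ (MvPolynomial.homogeneousSubmodule_eq_finsupp_supported _ _ _)).trans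
      (AddMonoidAlgebra.supportedEquivFinsupp _)).symm.finiteDimensional
  let ρ : T →ₗ[ℂ] V := LinearMap.codRestrict V ((MvPolynomial.rename s).toLinearMap.comp T.subtype) fun p =>
    (MvPolynomial.mem_homogeneousSubmodule _ _).mpr
      (((MvPolynomial.mem_homogeneousSubmodule _ _).mp p.2).rename_isHomogeneous)
  have hρ : Function.Injective ρ := fun p q h =>
    Subtype.ext (MvPolynomial.rename_injective _ hs (congrArg Subtype.val h))
  let W : Submodule ℂ V := (Submodule.restrictScalars ℂ I).comap V.subtype
  have hW : Module.finrank ℂ ↥(CohB1.polyGrading m ℂ (d + 1) ⊓ Submodule.restrictScalars ℂ I) = Module.finrank ℂ W :=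
    (Submodule.comapSubtypeEquivOfLe inf_le_left).finrank_eq.symm.trans
      (by rw [Submodule.comap_inf, Submodule.comap_subtype_self, top_inf_eq])
  have hdisj : Disjoint W (LinearMap.range ρ) := by
    rw [Submodule.disjoint_def]
    rintro v hv ⟨p, rfl⟩
    have h0 : (Ideal.Quotient.mkₐ ℂ I.radical) (MvPolynomial.rename s p.1) = 0 :=
      Ideal.Quotient.eq_zero_iff_mem.mpr (Ideal.le_radical (show MvPolynomial.rename s p.1 ∈ I from hv))
    have : p.1 = 0 := hinj (by rw [AlgHom.comp_apply, h0, map_zero])
    rw [show p = 0 from Subtype.ext this, map_zero]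
  have hcard : m + 1 ≤ Module.finrank ℂ T := by
    have e : Sym (Fin (m + 1 - d)) (d + 1) ≃ {f : Fin (m + 1 - d) →₀ ℕ | f.degree = d + 1} :=
      (Sym.equivNatSum _ _).trans (Equiv.subtypeEquivRight fun f => by
        simp [Finsupp.degree_apply, Finsupp.sum])
    haveI : Fintype {f : Fin (m + 1 - d) →₀ ℕ | f.degree = d + 1} := Fintype.ofEquiv _ e
    have hb : Module.finrank ℂ T = Fintype.card {f : Fin (m + 1 - d) →₀ ℕ | f.degree = d + 1} := by
      exact (((LinearEquiv.ofEq _ _ (MvPolynomial.homogeneousSubmodule_eq_finsupp_supported _ _ _)).trans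
        (AddMonoidAlgebra.supportedEquivFinsupp _)).finrank_eq).trans (Module.finrank_finsupp_self ℂ)
    rw [hb, ← Fintype.card_congr e, Sym.card_sym_eq_choose, Fintype.card_fin]
    have : m + 1 - d + (d + 1) - 1 = m + 1 := by omega
    rw [this]
    exact succ_le_choose (m + 1) (d + 1) (by omega) (by omega)
  have h1 : Module.finrank ℂ T ≤ Module.finrank ℂ (LinearMap.range ρ) :=
    (LinearMap.finrank_range_of_inj hρ).ge
  have h2 := Submodule.finrank_add_finrank_le_of_disjoint hdisj
  rw [hW]
  change m + 1 + Module.finrank ℂ W ≤ Module.finrank ℂ V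
  omega

end Groth.Agent.S15247
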