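import Groth.Statements.S15248
import Mathlib
import Groth.Agent.FanoGenLib.BadSeq

set_option autoImplicit false
open Fano

namespace Groth.Agent.S15248

section helpers

open MvPolynomial FanoGenLib

lemma formOf_coords {n e : ℕ} {k : Type} [Field k] (G : LefPen.Form n k e) : formOf (coords G) = G.1 := by
  classical
  ext ν
  rw [formOf, coeff_sum]
  by_cases hν : ν.degree = e
  · rw [Finset.sum_eq_single (⟨ν, hν⟩ : Mon n e) (fun b _ hb => by
      rw [coeff_monomial, if_neg fun h => hb (Subtype.ext h)]) (fun h => absurd (Finset.mem_univ _) h),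
      coeff_monomial, if_pos rfl]
    rfl
  · rw [((mem_homogeneousSubmodule e _).mp G.2).coeff_eq_zero hν]
    exact Finset.sum_eq_zero fun b _ => by rw [coeff_monomial, if_neg fun h : b.1 = ν => hν (h ▸ b.2)]

theorem codimGE_bad (m d : ℕ) (hdm : d ≤ m) :
    LefPen.CodimGE ℂ {G : (j : Fin d) → LefPen.Form m ℂ (j.1 + 1) |
      ((m + 2 - d : ℕ) : WithBot ℕ∞) ≤
        ringKrullDim (MvPolynomial (Fin (m + 1)) ℂ ⧸ Ideal.span (Set.range fun j : Fin d => (G j).1))} (m + 1) := by
  classical
  rcases Nat.eq_zero_or_pos d with hd | hd
  · subst hd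
    have hem : {G : (j : Fin 0) → LefPen.Form m ℂ (j.1 + 1) |
        ((m + 2 - 0 : ℕ) : WithBot ℕ∞) ≤
          ringKrullDim (MvPolynomial (Fin (m + 1)) ℂ ⧸ Ideal.span (Set.range fun j : Fin 0 => (G j).1))} = ∅ := by
      refine Set.eq_empty_of_forall_notMem fun G hG => ?_
      have h := le_trans hG (ringKrullDim_quotient_le _)
      rw [MvPolynomial.ringKrullDim_of_isNoetherianRing, ringKrullDim_eq_zero_of_field, zero_add, Nat.card_fin] at h
      have : m + 2 - 0 ≤ m + 1 := by exact_mod_cast h
      omega
    rw [hem]
    show ((m + 1 : ℕ) : ℕ∞) ≤ _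
    rw [show LefPen.vanishingFun ℂ (∅ : Set ((j : Fin 0) → LefPen.Form m ℂ (j.1 + 1))) = ⊤ from
      eq_top_iff.mpr fun f _ v hv => hv.elim, Ideal.height_top]
    exact le_top
  let e : ((j : Fin d) → LefPen.Form m ℂ (j.1 + 1)) ≃ₗ[ℂ] (SeqIdx m d → ℂ) :=
    { toFun := fun G t => coords (G t.1) t.2
      map_add' := fun G G' => funext fun t => by simp [coords]
      map_smul' := fun c G => funext fun t => by simp [coords]
      invFun := fun w j => (coords_surjective fun μ => w ⟨j, μ⟩).choose
      left_inv := fun G => funext fun j => Subtype.ext (by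
        rw [← formOf_coords, ← formOf_coords (G j), (coords_surjective _).choose_spec])
      right_inv := fun w => funext fun t => by
        show coords (coords_surjective fun μ => w ⟨t.1, μ⟩).choose t.2 = w t
        rw [(coords_surjective _).choose_spec] }
  refine codimGE_of_dimLE (Module.Basis.ofEquivFun e) _ _ _ ((dimLE_badSeq m d hdm).mono ?_) ?_
  · rintro w ⟨G, hG, rfl⟩
    rw [Module.Basis.equivFun_ofEquivFun]
    show ((m + 2 - d : ℕ) : WithBot ℕ∞) ≤ _
    rw [show seqForm (e G) = fun j => (G j).1 from funext fun j => formOf_coords (G j)]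
    exact hG
  · have h1 : m + 1 ≤ Fintype.card (SeqIdx m d) :=
      (le_trans (Nat.choose_succ_self_right m).ge (card_mon_ge m 1)).trans
        (Fintype.card_le_of_injective (fun μ => (⟨⟨0, hd⟩, μ⟩ : SeqIdx m d)) fun a b h => by simpa using h)
    omega

end helpers

/-- Over ℂ, let m and d be integers with 1 ≤ d ≤ m − 2, and consider sequences (X_1, …, X_d) of
hypersurfaces of projective m-space with X_j of degree j. The sequences whose intersection X_1 ∩ ⋯ ∩
X_d has dimension greater than m − d form a locus of codimension greater than m in the product of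
the projective spaces of hypersurfaces of degrees 1, …, d. Here a sequence is a point G of the
affine space of tuples of forms in the m + 1 homogeneous coordinates with G_j of degree j (zero
forms allowed), the dimension condition reads dim ℂ[x_0, …, x_m]/(G_1, …, G_d) ≥ m + 2 − d, and the
conclusion is that this locus has codimension at least m + 1 in that affine space (the ideal of
polynomial functions vanishing on it has height at least m + 1). The tuples with some G_j = 0 belong
to the locus and form a closed subset of codimension exactly m + 1, and away from them the locus is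
the inverse image of the projective one, so this affine form carries the same content as the
projective one. -/
theorem result (m d : ℕ) (hd : 1 ≤ d) (hdm : d + 2 ≤ m) :
    LefPen.CodimGE ℂ
      {G : (j : Fin d) → LefPen.Form m ℂ (j.1 + 1) |
        ((m + 2 - d : ℕ) : WithBot ℕ∞) ≤
          ringKrullDim (MvPolynomial (Fin (m + 1)) ℂ ⧸
            Ideal.span (Set.range fun j : Fin d => (G j).1))}
      (m + 1) := by
  exact codimGE_bad m d (by omega)

end Groth.Agent.S15248
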