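import Groth.Statements.S15249
import Mathlib
import Groth.Agent.FanoGenLib.BadSeq
import Groth.Agent.DimFormulaLib.LocalDim

set_option autoImplicit false
open Fano

namespace Groth.Agent.S15249

section helpers

open MvPolynomial FanoGenLib

variable {k : Type} [Field k]

lemma formOf_coeff {n e : ℕ} {G : MvPolynomial (Fin (n + 1)) k} (hG : G.IsHomogeneous e) :
    formOf (fun μ : Mon n e => coeff μ.1 G) = G := by
  classical
  ext ν
  rw [formOf, coeff_sum]
  by_cases hν : ν.degree = e
  · rw [Finset.sum_eq_single (⟨ν, hν⟩ : Mon n e) (fun b _ hb => by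
      rw [coeff_monomial, if_neg fun h => hb (Subtype.ext h)]) (fun h => absurd (Finset.mem_univ _) h),
      coeff_monomial, if_pos rfl]
  · rw [hG.coeff_eq_zero hν]
    exact Finset.sum_eq_zero fun b _ => by rw [coeff_monomial, if_neg fun h : b.1 = ν => hν (h ▸ b.2)]

lemma isHomogeneous_formOf {n e : ℕ} (w : Mon n e → k) : (formOf w).IsHomogeneous e :=
  IsHomogeneous.sum _ _ _ fun μ _ => isHomogeneous_monomial _ μ.2

lemma eval_smul_hom {n m : ℕ} {P : MvPolynomial (Fin n) k} (hP : P.IsHomogeneous m) (s : k)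
    (v : Fin n → k) : eval (s • v) P = s ^ m * eval v P := by
  rw [eval_eq', eval_eq', Finset.mul_sum]
  refine Finset.sum_congr rfl fun e he => ?_
  have hdeg : e.degree = m := by
    by_contra hne
    exact mem_support_iff.mp he (hP.coeff_eq_zero hne)
  simp only [Pi.smul_apply, smul_eq_mul, mul_pow, Finset.prod_mul_distrib]
  rw [Finset.prod_pow_eq_pow_sum, ← hdeg, Finsupp.degree_eq_sum]
  ring

variable {m d : ℕ}

/-- The recovered form with parameters. -/
noncomputable def genPhi (i0 : Fin (m + 2)) (d : ℕ) :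
    MvPolynomial (Fin (m + 2)) (MvPolynomial (Fin (m + 1) ⊕ SeqIdx m d) k) :=
  ∑ j : Fin d, X i0 ^ (d - 1 - j.1) *
    ∑ μ : Mon m (j.1 + 1), C (X (Sum.inr ⟨j, μ⟩)) * ∏ i, (X (i0.succAbove i) - C (X (Sum.inl i)) * X i0) ^ μ.1 i

lemma eval_genPhi (i0 : Fin (m + 2)) (v' : Fin (m + 1) → k) (w : SeqIdx m d → k) (x : Fin (m + 2) → k) :
    eval x (MvPolynomial.map (eval (Sum.elim v' w)) (genPhi (k := k) i0 d)) =
      ∑ j : Fin d, x i0 ^ (d - 1 - j.1) * eval (fun i => x (i0.succAbove i) - v' i * x i0) (seqForm w j) := by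
  simp only [genPhi, map_sum, map_mul, map_pow, map_prod, map_sub, map_C, map_X, eval_X, eval_C, Sum.elim_inl,
    Sum.elim_inr]
  refine Finset.sum_congr rfl fun j _ => ?_
  congr 1
  rw [seqForm, formOf, map_sum]
  refine Finset.sum_congr rfl fun μ _ => ?_
  rw [eval_monomial, Finsupp.prod_fintype _ _ (fun i => pow_zero _)]

/-- The substitution centred at a point of a chart. -/
noncomputable def shiftPoly (i0 : Fin (m + 2)) (v : Fin (m + 2) → k) (F : MvPolynomial (Fin (m + 2)) k) :
    MvPolynomial (Fin (m + 1)) k :=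
  aeval (i0.insertNth 1 fun i => X i + C (v (i0.succAbove i))) F

lemma eval_shiftPoly (i0 : Fin (m + 2)) (v : Fin (m + 2) → k) (hv : v i0 = 1) (F : MvPolynomial (Fin (m + 2)) k)
    (u : Fin (m + 1) → k) : eval u (shiftPoly i0 v F) = eval (v + i0.insertNth 0 u) F := by
  have := comp_aeval_apply (i0.insertNth (1 : MvPolynomial (Fin (m + 1)) k) fun i => X i + C (v (i0.succAbove i)))
    (aeval (R := k) u) F
  simp only [aeval_eq_eval] at this
  rw [shiftPoly, this]
  refine congrArg (fun f => eval f F) (funext fun t => ?_)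
  rcases Fin.eq_self_or_eq_succAbove i0 t with rfl | ⟨i, rfl⟩
  · simp [hv]
  · simp [add_comm]

lemma totalDegree_shiftPoly (i0 : Fin (m + 2)) (v : Fin (m + 2) → k) {F : MvPolynomial (Fin (m + 2)) k}
    (hF : F.IsHomogeneous d) : (shiftPoly i0 v F).totalDegree ≤ d := by
  classical
  rw [shiftPoly, as_sum F, map_sum]
  refine (totalDegree_finset_sum _ _).trans (Finset.sup_le fun μ hμ => ?_)
  rw [aeval_monomial]
  refine (totalDegree_mul _ _).trans ?_
  rw [MvPolynomial.algebraMap_eq, totalDegree_C, zero_add, Finsupp.prod]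
  refine (totalDegree_finsetProd _ _).trans ?_
  have hdeg : μ.degree = d := by
    by_contra hne
    exact mem_support_iff.mp hμ (hF.coeff_eq_zero hne)
  rw [← hdeg, Finsupp.degree_apply]
  refine Finset.sum_le_sum fun t _ => (totalDegree_pow _ _).trans ?_
  refine (Nat.mul_le_mul_left _ ?_).trans (Nat.mul_one _).le
  rcases Fin.eq_self_or_eq_succAbove i0 t with rfl | ⟨i, rfl⟩
  · simp
  · simp only [Fin.insertNth_apply_succAbove]
    exact (totalDegree_add _ _).trans (max_le (by simp) (by simp))

/-- Taylor coefficients at a zero. -/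
noncomputable def taylor (i0 : Fin (m + 2)) (v : Fin (m + 2) → k) (F : MvPolynomial (Fin (m + 2)) k) :
    SeqIdx m d → k := fun t => coeff t.2.1 (homogeneousComponent (t.1.1 + 1) (shiftPoly i0 v F))

lemma eval_shift_eq_sum (i0 : Fin (m + 2)) (v : Fin (m + 2) → k) (hv : v i0 = 1) {F : MvPolynomial (Fin (m + 2)) k}
    (hF : F.IsHomogeneous d) (h0 : eval v F = 0) (u : Fin (m + 1) → k) :
    eval (v + i0.insertNth 0 u) F = ∑ j : Fin d, eval u (seqForm (taylor i0 v F) j) := by
  rw [← eval_shiftPoly i0 v hv F u]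
  set P := shiftPoly i0 v F with hP
  have hsum : P = ∑ j ∈ Finset.range (d + 1), homogeneousComponent j P := by
    conv_lhs => rw [← sum_homogeneousComponent P]
    exact Finset.sum_subset (fun j hj => by
      rw [Finset.mem_range] at hj ⊢
      have := totalDegree_shiftPoly i0 v hF
      rw [← hP] at this
      omega) fun j _ hj => by
        rw [Finset.mem_range, not_lt] at hj
        exact homogeneousComponent_eq_zero j P (by omega)
  have hz : eval u (homogeneousComponent 0 P) = 0 := by
    rw [homogeneousComponent_zero, eval_C, ← constantCoeff_eq, ← eval_zero, hP, eval_shiftPoly i0 v hv]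
    have : v + i0.insertNth (α := fun _ => k) 0 0 = v := by
      funext t
      rcases Fin.eq_self_or_eq_succAbove i0 t with rfl | ⟨i, rfl⟩ <;> simp
    rw [this]
    exact h0
  conv_lhs => rw [hsum, map_sum, Finset.sum_range_succ', hz, add_zero, ← Fin.sum_univ_eq_sum_range]
  refine Finset.sum_congr rfl fun j _ => ?_
  rw [seqForm, show (fun μ : Mon m (j.1 + 1) => taylor i0 v F ⟨j, μ⟩) =
    fun μ : Mon m (j.1 + 1) => coeff μ.1 (homogeneousComponent (j.1 + 1) P) from rfl,
    formOf_coeff (homogeneousComponent_isHomogeneous _ _)]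

lemma map_genPhi_taylor [Infinite k] (i0 : Fin (m + 2)) (v : Fin (m + 2) → k) (hv : v i0 = 1)
    {F : MvPolynomial (Fin (m + 2)) k} (hF : F.IsHomogeneous d) (h0 : eval v F = 0) :
    MvPolynomial.map (eval (Sum.elim (fun i => v (i0.succAbove i)) (taylor (d := d) i0 v F))) (genPhi i0 d) = F := by
  refine mul_left_cancel₀ (X_ne_zero i0) (MvPolynomial.funext fun x => ?_)
  rw [map_mul, map_mul, eval_X]
  by_cases hx : x i0 = 0
  · rw [hx, zero_mul, zero_mul]
  congr 1
  rw [eval_genPhi]
  set w := taylor (d := d) i0 v F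
  let u : Fin (m + 1) → k := fun i => x (i0.succAbove i) / x i0 - v (i0.succAbove i)
  have hxu : x = x i0 • (v + i0.insertNth 0 u) := by
    funext t
    rcases Fin.eq_self_or_eq_succAbove i0 t with rfl | ⟨i, rfl⟩
    · simp [hv]
    · simp [u]; field_simp
  conv_rhs => rw [hxu, eval_smul_hom hF, eval_shift_eq_sum i0 v hv hF h0, Finset.mul_sum]
  refine Finset.sum_congr rfl fun j _ => ?_
  have hG : (seqForm w j).IsHomogeneous (j.1 + 1) := isHomogeneous_formOf _
  rw [show (fun i => x (i0.succAbove i) - v (i0.succAbove i) * x i0) = x i0 • u by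
    funext i; simp [u]; field_simp, eval_smul_hom hG, ← mul_assoc, ← pow_add]
  congr 2
  have := j.2
  omega

theorem main [IsAlgClosed k] (m d : ℕ) (hd : 1 ≤ d) (hdm : d ≤ m) :
    LefPen.IsGeneric k {Φ : LefPen.Form (m + 1) k d |
      ∀ v : Fin (m + 2) → k, v ≠ 0 → eval v Φ.1 = 0 →
        LefPen.CodimGE k {w : Fin (m + 2) → k | ∀ s t : k, eval (s • v + t • w) Φ.1 = 0} d} := by
  classical
  let Bad : Set (SeqIdx m d → k) := {w | ((m + 2 - d : ℕ) : WithBot ℕ∞) ≤
    ringKrullDim (MvPolynomial (Fin (m + 1)) k ⧸ Ideal.span (Set.range (seqForm w)))}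
  have hseq : m + 1 ≤ Fintype.card (SeqIdx m d) :=
    (le_trans (Nat.choose_succ_self_right m).ge (card_mon_ge m 1)).trans
      (Fintype.card_le_of_injective (fun μ => (⟨⟨0, hd⟩, μ⟩ : SeqIdx m d)) fun a b h => by simpa using h)
  have hbad := (dimLE_badSeq (k := k) m d hdm).prod (α := Fin (m + 1)) (a := m + 1) (by simp)
  rw [show m + 1 + (Fintype.card (SeqIdx m d) - (m + 1)) = Fintype.card (SeqIdx m d) by omega] at hbad
  let D : Fin (m + 2) → Set (Mon (m + 1) d → k) := fun i0 =>
    {c | ∃ x : Fin (m + 1) ⊕ SeqIdx m d → k, x ∘ Sum.inr ∈ Bad ∧ ∀ μ, c μ = eval x (coeff μ.1 (genPhi i0 d))}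
  have hD : DimLE (⋃ i0, D i0) (Fintype.card (SeqIdx m d)) := DimLE.iUnion fun i0 =>
    hbad.image (fun μ : Mon (m + 1) d => coeff μ.1 (genPhi i0 d)) (D i0) fun c ⟨x, hx, hc⟩ => ⟨x, hx, hc⟩
  have hlt : Fintype.card (SeqIdx m d) + 1 ≤ Fintype.card (Mon (m + 1) d) := by
    let i0 : Fin (m + 2) := 0
    let f : Option (SeqIdx m d) → Mon (m + 1) d := fun o => o.elim ⟨Finsupp.single i0 d, Finsupp.degree_single i0 d⟩
      fun t => ⟨Finsupp.mapDomain Fin.succ t.2.1 + Finsupp.single i0 (d - 1 - t.1.1), by
        rw [map_add, Finsupp.degree_mapDomain, t.2.2, Finsupp.degree_single]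
        have := t.1.2
        omega⟩
    have hinj : Function.Injective f := by
      have h0 : ∀ μ : Fin (m + 1) →₀ ℕ, Finsupp.mapDomain Fin.succ μ (0 : Fin (m + 2)) = 0 := fun μ =>
        Finsupp.mapDomain_of_notMem_range _ _ (by simp)
      intro a b hab
      have hz := congrArg (fun μ : Mon (m + 1) d => μ.1 0) hab
      rcases a with _ | ⟨i, μ⟩ <;> rcases b with _ | ⟨i', μ'⟩
      · rfl
      · exfalso
        simp [f, i0, h0] at hz
        omega
      · exfalso
        simp [f, i0, h0] at hz
        omega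
      · simp [f, i0, h0] at hz
        obtain rfl : i = i' := Fin.ext (by have := i.2; have := i'.2; omega)
        have hμ := congrArg (fun μ : Mon (m + 1) d => μ.1) hab
        simp only [f, Option.elim_some, add_left_inj] at hμ
        obtain rfl : μ = μ' := Subtype.ext (Finsupp.mapDomain_injective (Fin.succ_injective _) hμ)
        rfl
    simpa using Fintype.card_le_of_injective f hinj
  obtain ⟨s⟩ := Function.Embedding.nonempty_of_card_le (α := Fin (Fintype.card (SeqIdx m d) + 1))
    (β := Mon (m + 1) d) (by simpa using hlt)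
  obtain ⟨Q, hQ, hQ0⟩ := hD s
  refine isGeneric_of_ne_zero _ (rename s Q) ((map_ne_zero_iff _ (rename_injective _ s.injective)).mpr hQ)
    fun Φ hΦ v₀ hv₀ hΦv₀ => ?_
  rw [eval_rename] at hΦ
  have hnot : coords Φ ∉ ⋃ i0, D i0 := fun h => hΦ (hQ0 _ h)
  obtain ⟨i0, hi0⟩ : ∃ i0, v₀ i0 ≠ 0 := by
    by_contra hzero
    push Not at hzero
    exact hv₀ (funext hzero)
  let v := (v₀ i0)⁻¹ • v₀
  have hv : v i0 = 1 := by simp [v, hi0]
  have hF : Φ.1.IsHomogeneous d := (mem_homogeneousSubmodule d _).mp Φ.2
  have h0 : eval v Φ.1 = 0 := by rw [eval_smul_hom hF, hΦv₀, mul_zero]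
  set w := taylor (d := d) i0 v Φ.1
  have hgood : w ∉ Bad := fun hw => hnot (Set.mem_iUnion.mpr ⟨i0, Sum.elim (fun i => v (i0.succAbove i)) w,
    by simpa using hw, fun μ => by
      conv_lhs => rw [coords, ← map_genPhi_taylor i0 v hv hF h0, coeff_map]⟩)
  have hdim : ringKrullDim (MvPolynomial (Fin (m + 1)) k ⧸ Ideal.span (Set.range (seqForm w))) ≤
      ((m + 1 - d : ℕ) : WithBot ℕ∞) := by
    have h : ringKrullDim (MvPolynomial (Fin (m + 1)) k ⧸ Ideal.span (Set.range (seqForm w))) < ((m + 2 - d : ℕ) : WithBot ℕ∞) := lt_of_not_ge fun hle => hgood hle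
    rw [show m + 2 - d = (m + 1 - d) + 1 by omega, Nat.cast_add, Nat.cast_one] at h
    exact ENat.WithBot.lt_add_one_iff.mp h
  let Z : Set (Fin (m + 1) → k) := {u | ∀ j, eval u (seqForm w j) = 0}
  have hZ : DimLE Z (m + 1 - d) := by
    refine dimLE_of_trdeg' fun P hP => ?_
    haveI := hP.1.1
    obtain ⟨r, hr⟩ := DimFormulaLib.exists_nat_trdeg_quotient k (MvPolynomial (Fin (m + 1)) k) P
    rw [hr]
    have hle : Ideal.span (Set.range (seqForm w)) ≤ P := Ideal.span_le.mpr (by
      rintro _ ⟨j, rfl⟩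
      exact hP.1.2 (mem_vanish.mpr fun u hu => hu j))
    have h1 := (ringKrullDim_le_of_surjective _ (Ideal.Quotient.factor_surjective hle)).trans hdim
    rw [DimFormulaLib.ringKrullDim_eq_trdeg k r hr] at h1
    exact_mod_cast h1
  have hprod := hZ.prod (α := Fin 1) (a := 1) (by simp)
  refine codimGE_of_dimLE (Pi.basisFun k (Fin (m + 2))) _ (1 + (m + 1 - d)) d ?_ (by rw [Fintype.card_fin]; omega)
  refine hprod.image (i0.insertNth (X (Sum.inl 0)) fun i => X (Sum.inr i) + X (Sum.inl 0) * C (v (i0.succAbove i))) _ ?_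
  rintro c ⟨x, hx, hc⟩
  rw [show c = x from hc.trans (by rw [Pi.basisFun_equivFun]; rfl)]
  let u : Fin (m + 1) → k := fun i => x (i0.succAbove i) - x i0 * v (i0.succAbove i)
  refine ⟨Sum.elim (fun _ => x i0) u, ?_, fun t => ?_⟩
  · show u ∈ Z
    intro j
    let p : Polynomial k := ∑ j : Fin d, Polynomial.C (eval u (seqForm w j)) * Polynomial.X ^ (j.1 + 1)
    have hp : p = 0 := Polynomial.funext fun t => by
      have hpt : v + i0.insertNth 0 (t • u) = ((1 - t * x i0) * (v₀ i0)⁻¹) • v₀ + t • x := by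
        funext z
        rcases Fin.eq_self_or_eq_succAbove i0 z with rfl | ⟨i, rfl⟩
        · simp [v, hi0]
        · simp [v, u]; field_simp; ring
      rw [Polynomial.eval_zero]
      rw [← hx ((1 - t * x i0) * (v₀ i0)⁻¹) t, ← hpt, eval_shift_eq_sum i0 v hv hF h0, Polynomial.eval_finsetSum]
      refine Finset.sum_congr rfl fun j _ => ?_
      rw [seqForm, eval_smul_hom (isHomogeneous_formOf _)]
      simp only [Polynomial.eval_mul, Polynomial.eval_C, Polynomial.eval_pow, Polynomial.eval_X, seqForm, w]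
      ring
    have := congrArg (fun q => Polynomial.coeff q (j.1 + 1)) hp
    simp only [p, Polynomial.finsetSum_coeff, Polynomial.coeff_C_mul_X_pow, Polynomial.coeff_zero] at this
    rw [Finset.sum_eq_single j (fun b _ hb => if_neg fun h => hb (Fin.ext (by omega)))
      (fun h => absurd (Finset.mem_univ j) h), if_pos rfl] at this
    exact this
  · rcases Fin.eq_self_or_eq_succAbove i0 t with rfl | ⟨i, rfl⟩ <;> simp [u]

end helpers

/-- Over ℂ, let 1 ≤ d ≤ n − 3. For a general hypersurface X of degree d in projective n-space and every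
point p of X, the lines contained in X and passing through p form a family of dimension at most n −
d − 1. Here X is given by a form Φ of degree d in n + 1 variables; general means on a set of forms
containing the non-vanishing locus of a nonzero polynomial function; a point of X is a nonzero zero
v of Φ; and the family of lines through [v] on X is measured by the cone C_v of all w in ℂ^(n+1)
such that Φ vanishes identically on the span of v and w, whose codimension in ℂ^(n+1) is asked to be
at least d (C_v is the inverse image in ℂ^(n+1) of the affine cone over that family of lines, a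
subset of the projective space of lines through [v], so this says the family has dimension at most n
− d − 1). (The published statement concludes that, for general X, the projection onto X of the
scheme of pointed lines on X is flat with fibres of dimension n − d − 1; this row states only the
upper bound n − d − 1 on the dimension of the family of lines through each point of X.) -/
theorem result (n d : ℕ) (hd : 1 ≤ d) (hdn : d + 3 ≤ n) :
    LefPen.IsGeneric ℂ {Φ : LefPen.Form n ℂ d |
      ∀ v : Fin (n + 1) → ℂ, v ≠ 0 → MvPolynomial.eval v Φ.1 = 0 →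
        LefPen.CodimGE ℂ {w : Fin (n + 1) → ℂ | ∀ s t : ℂ, MvPolynomial.eval (s • v + t • w) Φ.1 = 0} d} := by
  obtain ⟨m, rfl⟩ : ∃ m, n = m + 1 := ⟨n - 1, by omega⟩
  exact main m d hd (by omega)

end Groth.Agent.S15249
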