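import Groth.Statements.S15251
import Groth.Agent.ASt.FpEtale
import Groth.Agent.ASt.DiagCancel
import Groth.Agent.ASt.Generic
import Groth.Agent.ASt.Local
-- import your own Groth.Agent.* helpers here

set_option autoImplicit false
open CategoryTheory AlgebraicGeometry
set_option backward.isDefEq.respectTransparency false
universe u
open AlgSt

namespace Groth.Agent.S15251

/-- Let S be a scheme and f : 𝒳 → 𝒴 a 1-morphism of stacks in groupoids over the category of schemes
over S. If 𝒴 is a Deligne–Mumford stack and for every scheme U over S and every 1-morphism g : U → 𝒴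
the 2-fibre product U ×_𝒴 𝒳 is a Deligne–Mumford stack, then 𝒳 is a Deligne–Mumford stack. All
stacks here are for the étale topology on schemes over S; an algebraic stack is a stack in groupoids
whose diagonal is representable by algebraic spaces and which has a smooth surjective atlas from a
scheme, and a Deligne–Mumford stack is an algebraic stack with an étale surjective atlas from a
scheme. (The published statement asks the fibre-product condition only for affine schemes U and uses
Deligne–Mumford stacks whose diagonal is moreover separated and quasi-compact; this row asks the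
condition for every scheme U over S and uses Deligne–Mumford stacks with no condition on the
diagonal beyond representability by algebraic spaces.) -/
theorem result {S : Scheme.{u}} {𝒳 𝒴 : AlgSt.Cat S}
    (h𝒳 : Stk.IsStack (QuotSh.J Scheme.etalePrecoverage S) 𝒳)
    (h𝒴 : AlgSt.IsDM Scheme.etalePrecoverage 𝒴) (f : 𝒳 ⥤ᵇ 𝒴)
    (hf : ∀ (U : Over S) (g : FibCat.overCat U ⥤ᵇ 𝒴),
      AlgSt.IsDM Scheme.etalePrecoverage (FibCat.fp g f)) :
    AlgSt.IsDM Scheme.etalePrecoverage 𝒳 := by
  haveI := h𝒳.1
  haveI := h𝒴.1.isStack.1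
  obtain ⟨W, a, ha, has⟩ := h𝒴.2
  haveI : FibCat.IsFibGrpd (FibCat.fp a f).p := ASt.isFibGrpd_fp
  have hΔf : AlgSt.RepByAlgSp1 (FibCat.diag f) :=
    ASt.repByAlgSp1_iff_top.2 (ASt.repByAlgSpWith_diag_iff_forall.2 fun T y => by
      haveI : FibCat.IsFibGrpd (FibCat.fp y f).p := ASt.isFibGrpd_fp
      haveI : FibCat.IsFibGrpd (FibCat.fp (FibCat.fpFst y f) (FibCat.fpFst y f)).p := ASt.isFibGrpd_fp
      exact ASt.repByAlgSp1_iff_top.1 (ASt.repByAlgSp1_diag (FibCat.fpFst y f) (hf T y).1.diag (ASt.isAlgStack_overCat T).diag))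
  refine ⟨⟨h𝒳, ?_, ?_⟩, ASt.hasAtlas_etale_of_cover (w := FibCat.fpSnd a f) (hf W a).2 (ASt.repByAlgSpWith_fpSnd _ ha) (ASt.repByAlgSpWith_fpSnd _ has)⟩
  · have h := ASt.repByAlgSpWith_diag_comp (g := FibCat.toSelf 𝒴) ASt.compLocal_top (ASt.repByAlgSp1_iff_top.1 hΔf) (ASt.repByAlgSp1_iff_top.1 h𝒴.1.diag)
    rw [ASt.comp_toSelf] at h
    exact ASt.repByAlgSp1_of_with h
  · obtain ⟨W, b, hb, hbs⟩ := h𝒴.1.atlas
    haveI : FibCat.IsFibGrpd (FibCat.fp b f).p := ASt.isFibGrpd_fp
    exact ASt.hasAtlas_of_cover (w := FibCat.fpSnd b f) (hf W b).1.atlas (ASt.repByAlgSpWith_fpSnd _ hb) (ASt.repByAlgSpWith_fpSnd _ hbs)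

end Groth.Agent.S15251
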