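import Groth.Statements.S15252
import Groth.Agent.S14372

set_option autoImplicit false
open Fano

namespace Groth.Agent.S15252

open CategoryTheory CategoryTheory.Limits AlgebraicGeometry

set_option backward.isDefEq.respectTransparency false
set_option backward.defeqAttrib.useBackward true
set_option linter.style.haveILetI false

open MvPolynomial Submodule

/-- The coefficients `α` of the lines `u = αv + βw` on which the restricted form vanishes are finitely many. -/
theorem finite_slopes (f : MvPolynomial (Fin 5) ℂ) (p a b : Fin 5 → ℂ)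
    (h : ∃ x y z : ℂ, eval (x • p + y • a + z • b) f ≠ 0) :
    {α : ℂ | ∃ β : ℂ, ∀ v w : ℂ, eval ((α * v + β * w) • p + v • a + w • b) f = 0}.Finite := by
  let R := MvPolynomial (Fin 2) ℂ
  let Q : Polynomial R := eval₂ (Polynomial.C.comp C)
    (fun i => Polynomial.C (C (p i)) * Polynomial.X + Polynomial.C (C (a i) * X 0 + C (b i) * X 1)) f
  have hQ : ∀ (ρ : R) (v w : ℂ), eval ![v, w] (Q.eval ρ) = eval (eval ![v, w] ρ • p + v • a + w • b) f := by
    intro ρ v w
    show ((eval ![v, w]).comp (Polynomial.evalRingHom ρ)) Q = _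
    rw [eval₂_comp_left, ← eval₂_id]
    refine congrArg₂ (fun φ x => eval₂ φ x f) (RingHom.ext fun c => ?_) (funext fun i => ?_)
    · show eval ![v, w] (Polynomial.eval ρ (Polynomial.C (C c))) = c
      rw [Polynomial.eval_C, eval_C]
    · show eval ![v, w] (Polynomial.eval ρ (Polynomial.C (C (p i)) * Polynomial.X + Polynomial.C (C (a i) * X 0 + C (b i) * X 1))) = _
      rw [Polynomial.eval_add, Polynomial.eval_mul, Polynomial.eval_C, Polynomial.eval_X, Polynomial.eval_C]
      simp only [map_add, map_mul, eval_C, eval_X, Pi.add_apply, Pi.smul_apply, smul_eq_mul, Matrix.cons_val_zero,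
        Matrix.cons_val_one]
      ring
  have hQ0 : Q ≠ 0 := fun h0 => by
    obtain ⟨x, y, z, hne⟩ := h
    have := hQ (C x) y z
    rw [h0] at this
    simp at this
    exact hne this.symm
  refine ((Q.roots.toFinset.finite_toSet).image fun ρ => eval ![1, 0] ρ).subset ?_
  rintro α ⟨β, hα⟩
  refine ⟨C α * X 0 + C β * X 1, ?_, by simp⟩
  rw [Finset.mem_coe, Multiset.mem_toFinset, Polynomial.mem_roots hQ0, Polynomial.IsRoot]
  refine MvPolynomial.funext fun x => ?_
  have hx : x = ![x 0, x 1] := by ext i; fin_cases i <;> rfl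
  rw [hx, hQ, map_zero]
  simpa using hα (x 0) (x 1)


/-- Let X be a smooth cubic hypersurface in projective 4-space over ℂ and let L₁, L₂ be two distinct
lines on X which meet. Then there is a finite set G of points of L₁ such that every line on X
meeting both L₁ and L₂ passes through a point of G. Here X is given by a cubic form f in five
variables satisfying the Jacobian smoothness condition at every nonzero zero, a line on X is a
2-dimensional subspace of ℂ^5 on which f vanishes, two lines meet when the subspaces intersect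
non-trivially, and a point of L₁ is a 1-dimensional subspace of it. (The published statement also
covers two disjoint lines; this row assumes that L₁ and L₂ meet.) -/
theorem result
    (f : MvPolynomial (Fin 5) ℂ) (hf : f.IsHomogeneous 3)
    (hsm : ∀ u : Fin 5 → ℂ, u ≠ 0 → MvPolynomial.eval u f = 0 →
      ∃ i : Fin 5, MvPolynomial.eval u (MvPolynomial.pderiv i f) ≠ 0)
    (L₁ L₂ : Submodule ℂ (Fin 5 → ℂ)) (h₁ : Module.finrank ℂ ↥L₁ = 2) (h₂ : Module.finrank ℂ ↥L₂ = 2)
    (hf₁ : ∀ u ∈ L₁, MvPolynomial.eval u f = 0) (hf₂ : ∀ u ∈ L₂, MvPolynomial.eval u f = 0)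
    (hne : L₁ ≠ L₂) (hmeet : L₁ ⊓ L₂ ≠ ⊥) :
    ∃ G : Set (Submodule ℂ (Fin 5 → ℂ)), G.Finite ∧ (∀ g ∈ G, Module.finrank ℂ ↥g = 1 ∧ g ≤ L₁) ∧
      ∀ L : Submodule ℂ (Fin 5 → ℂ), Module.finrank ℂ ↥L = 2 → (∀ u ∈ L, MvPolynomial.eval u f = 0) →
        L ⊓ L₁ ≠ ⊥ → L ⊓ L₂ ≠ ⊥ → ∃ g ∈ G, g ≤ L := by
  classical
  obtain ⟨p, hp, hp0⟩ := Submodule.exists_mem_ne_zero_of_ne_bot hmeet
  rw [Submodule.mem_inf] at hp
  have hsp : ∀ {v : Fin 5 → ℂ}, v ≠ 0 → Module.finrank ℂ ↥(Submodule.span ℂ {v}) = 1 := fun hv => finrank_span_singleton hv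
  -- second basis vectors
  have hex : ∀ L : Submodule ℂ (Fin 5 → ℂ), Module.finrank ℂ ↥L = 2 → p ∈ L →
      ∃ a ∈ L, a ∉ Submodule.span ℂ {p} ∧ L = Submodule.span ℂ {p} ⊔ Submodule.span ℂ {a} := by
    intro L hL hpL
    obtain ⟨a, haL, ha⟩ : ∃ a ∈ L, a ∉ Submodule.span ℂ {p} := by
      by_contra hc
      push Not at hc
      have := Submodule.finrank_mono (show L ≤ Submodule.span ℂ {p} from hc)
      rw [hL, hsp hp0] at this
      omega
    refine ⟨a, haL, ha, (Submodule.eq_of_le_of_finrank_le (sup_le ((Submodule.span_singleton_le_iff_mem _ _).2 hpL)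
      ((Submodule.span_singleton_le_iff_mem _ _).2 haL)) ?_).symm⟩
    rw [hL]
    have hlt : Submodule.span ℂ {p} < Submodule.span ℂ {p} ⊔ Submodule.span ℂ {a} := left_lt_sup.2 fun h =>
      ha (h (Submodule.mem_span_singleton_self a))
    have := Submodule.finrank_lt_finrank_of_lt hlt
    rw [hsp hp0] at this
    omega
  obtain ⟨a, ha₁, hap, hL₁⟩ := hex L₁ h₁ hp.1
  obtain ⟨b, hb₂, hbp, hL₂⟩ := hex L₂ h₂ hp.2
  let P := L₁ ⊔ L₂
  have hP : 3 ≤ Module.finrank ℂ ↥P := by
    have hlt : L₁ < P := left_lt_sup.2 fun h => hne (Submodule.eq_of_le_of_finrank_le h (by rw [h₁, h₂])).symm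
    have := Submodule.finrank_lt_finrank_of_lt hlt
    omega
  have hex' : ∃ x y z : ℂ, MvPolynomial.eval (x • p + y • a + z • b) f ≠ 0 := by
    by_contra hc
    push Not at hc
    have hv : ∀ u ∈ P, MvPolynomial.eval u f = 0 := by
      intro u hu
      obtain ⟨s, hs, t, ht, rfl⟩ := Submodule.mem_sup.1 hu
      rw [hL₁] at hs
      rw [hL₂] at ht
      obtain ⟨_, hs₁, _, hs₂, rfl⟩ := Submodule.mem_sup.1 hs
      obtain ⟨_, ht₁, _, ht₂, rfl⟩ := Submodule.mem_sup.1 ht
      obtain ⟨x, rfl⟩ := Submodule.mem_span_singleton.1 hs₁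
      obtain ⟨y, rfl⟩ := Submodule.mem_span_singleton.1 hs₂
      obtain ⟨x', rfl⟩ := Submodule.mem_span_singleton.1 ht₁
      obtain ⟨z, rfl⟩ := Submodule.mem_span_singleton.1 ht₂
      rw [show x • p + y • a + (x' • p + z • b) = (x + x') • p + y • a + z • b by module]
      exact hc _ _ _
    have h5 : 2 * Module.finrank ℂ ↥P ≤ 5 := Groth.Agent.S14372.result ℂ 4 3 (by norm_num) f hf P hv fun u hu hu0 => hsm u hu0 (hv u hu)
    omega
  have hfin := finite_slopes f p a b hex'
  let g : ℂ → Submodule ℂ (Fin 5 → ℂ) := fun α => Submodule.span ℂ {α • p + a}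
  refine ⟨insert (Submodule.span ℂ {p}) (g '' {α : ℂ | ∃ β : ℂ, ∀ v w : ℂ,
    MvPolynomial.eval ((α * v + β * w) • p + v • a + w • b) f = 0}), (hfin.image g).insert _, ?_, ?_⟩
  · rintro _ (rfl | ⟨α, -, rfl⟩)
    · exact ⟨hsp hp0, (Submodule.span_singleton_le_iff_mem _ _).2 hp.1⟩
    · refine ⟨hsp fun h0 => hap ?_, (Submodule.span_singleton_le_iff_mem _ _).2 (add_mem (L₁.smul_mem α hp.1) ha₁)⟩
      rw [Submodule.mem_span_singleton]
      exact ⟨-α, by rw [neg_smul, eq_comm, eq_neg_iff_add_eq_zero, add_comm]; exact h0⟩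
  · intro L hL hfL hm₁ hm₂
    by_cases hpL : p ∈ L
    · exact ⟨_, Set.mem_insert _ _, (Submodule.span_singleton_le_iff_mem _ _).2 hpL⟩
    -- a vector of `L` of the form `c • p + m`
    have key : ∀ (M : Submodule ℂ (Fin 5 → ℂ)) (m : Fin 5 → ℂ), M = Submodule.span ℂ {p} ⊔ Submodule.span ℂ {m} →
        L ⊓ M ≠ ⊥ → ∃ c : ℂ, c • p + m ∈ L := by
      intro M m hM hne
      obtain ⟨u, hu, hu0⟩ := Submodule.exists_mem_ne_zero_of_ne_bot hne
      rw [Submodule.mem_inf, hM, Submodule.mem_sup] at hu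
      obtain ⟨huL, _, h1, _, h2, hxy⟩ := hu
      obtain ⟨x, rfl⟩ := Submodule.mem_span_singleton.1 h1
      obtain ⟨y, rfl⟩ := Submodule.mem_span_singleton.1 h2
      rcases eq_or_ne y 0 with rfl | hy
      · have hx : x ≠ 0 := fun hx => hu0 (by rw [← hxy, hx]; simp)
        refine absurd ?_ hpL
        have := L.smul_mem x⁻¹ huL
        rwa [← hxy, zero_smul, add_zero, smul_smul, inv_mul_cancel₀ hx, one_smul] at this
      · refine ⟨y⁻¹ * x, ?_⟩
        have := L.smul_mem y⁻¹ huL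
        rwa [← hxy, smul_add, smul_smul, smul_smul, inv_mul_cancel₀ hy, one_smul] at this
    obtain ⟨α, hα⟩ := key L₁ a hL₁ hm₁
    obtain ⟨β, hβ⟩ := key L₂ b hL₂ hm₂
    refine ⟨g α, Set.mem_insert_of_mem _ ⟨α, ⟨β, fun v w => hfL _ ?_⟩, rfl⟩, (Submodule.span_singleton_le_iff_mem _ _).2 hα⟩
    rw [show (α * v + β * w) • p + v • a + w • b = v • (α • p + a) + w • (β • p + b) by module]
    exact add_mem (L.smul_mem v hα) (L.smul_mem w hβ)

end Groth.Agent.S15252
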