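import Groth.Statements.S15253
import Groth.Agent.JetLib.Separation
-- import your own Groth.Agent.* helpers here

set_option autoImplicit false
universe u
open CategoryTheory CategoryTheory.Limits AlgebraicGeometry TopologicalSpace
open W4c2seshadripos

set_option backward.isDefEq.respectTransparency false
set_option backward.isDefEq.respectTransparency.types false
open scoped TensorProduct

namespace Groth.Agent.S15253

/-- Let X be a scheme, x a closed point of X with ideal sheaf m_x, and F, G quasi-coherent O_X-modules
of finite type (coherent modules when X is locally Noetherian). A module M separates l-jets at x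
when the restriction map H^0(X, M) → H^0(X, M / m_x^(l+1) M) is surjective. If F separates i-jets at
x and G separates j-jets at x, with i, j ≥ 0, then F ⊗ G separates (i+j)-jets at x; in other words
s(F; x) + s(G; x) ≤ s(F ⊗ G; x) whenever both terms are ≥ 0, where s(M; x) is the largest l such
that M separates l-jets at x. -/
theorem result (X : Scheme.{u}) (x : X) (hx : IsClosed ({x} : Set X))
    (F G : X.Modules) (hF : Coh.IsCoh F) (hG : Coh.IsCoh G) (i j : ℕ)
    (hi : W4c2seshadripos.SeparatesJets F x hx i) (hj : W4c2seshadripos.SeparatesJets G x hx j) :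
    W4c2seshadripos.SeparatesJets (CohB1.tensorMod F G) x hx (i + j) := by
  rw [JetLib.separatesJets_iff] at hi hj ⊢
  let m := IsLocalRing.maximalIdeal (X.presheaf.stalk x)
  let T := DCohLib.tmod F G
  have hmul : ∀ (I J : Ideal (X.presheaf.stalk x)) (u : F.presheaf.stalk x) (v : G.presheaf.stalk x),
      u ∈ I • (⊤ : Submodule (X.presheaf.stalk x) (F.presheaf.stalk x)) →
      v ∈ J • (⊤ : Submodule (X.presheaf.stalk x) (G.presheaf.stalk x)) →
      DCohLib.stalkTensor x F G (u ⊗ₜ v) ∈
        (I * J) • (⊤ : Submodule (X.presheaf.stalk x) (T.presheaf.stalk x)) := by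
    intro I J u v hu hv
    refine Submodule.smul_induction_on hu (fun r hr a _ => ?_) fun p q hp hq => ?_
    · refine Submodule.smul_induction_on hv (fun s hs b _ => ?_) fun p q hp hq => ?_
      · rw [TensorProduct.smul_tmul_smul, map_smul]
        exact Submodule.smul_mem_smul (Ideal.mul_mem_mul hr hs) trivial
      · rw [TensorProduct.tmul_add, map_add]; exact Submodule.add_mem _ hp hq
    · rw [TensorProduct.add_tmul, map_add]; exact Submodule.add_mem _ hp hq
  suffices key : ∀ e ≤ i + j + 1, ∀ z : T.presheaf.stalk x, ∃ σ : Γ(T, (⊤ : X.Opens)),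
      T.presheaf.germ ⊤ x trivial σ - z ∈ m ^ e • (⊤ : Submodule (X.presheaf.stalk x) (T.presheaf.stalk x)) from
    fun a => key _ le_rfl a
  intro e
  induction e with
  | zero => exact fun _ z => ⟨0, by rw [pow_zero, Ideal.one_eq_top, Submodule.top_smul]; trivial⟩
  | succ e ih =>
    intro he z
    obtain ⟨σ, hσ⟩ := ih (by omega) z
    suffices step : ∀ w ∈ m ^ e • (⊤ : Submodule (X.presheaf.stalk x) (T.presheaf.stalk x)),
        ∃ τ : Γ(T, (⊤ : X.Opens)), T.presheaf.germ ⊤ x trivial τ - w ∈
          m ^ (e + 1) • (⊤ : Submodule (X.presheaf.stalk x) (T.presheaf.stalk x)) by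
      obtain ⟨τ, hτ⟩ := step _ hσ
      refine ⟨σ - τ, ?_⟩
      convert Submodule.neg_mem _ hτ using 1
      rw [map_sub]; abel
    intro w hw
    refine Submodule.smul_induction_on hw (fun r hr t ht0 => ?_) fun p q hp hq => ?_
    swap
    · obtain ⟨⟨s, hs⟩, t, ht⟩ := And.intro hp hq
      refine ⟨s + t, ?_⟩
      convert Submodule.add_mem _ hs ht using 1
      rw [map_add]; abel
    clear ht0
    obtain ⟨c, rfl⟩ := (DCohLib.stalkTensor x F G).surjective t
    induction c using TensorProduct.induction_on with
    | zero => exact ⟨0, by rw [map_zero, map_zero, smul_zero, sub_zero]; exact Submodule.zero_mem _⟩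
    | add p q hp hq =>
      obtain ⟨⟨s, hs⟩, t, ht⟩ := And.intro hp hq
      refine ⟨s + t, ?_⟩
      convert Submodule.add_mem _ hs ht using 1
      rw [map_add, map_add, smul_add]; abel
    | tmul a b =>
      obtain ⟨p, q, hp, hq, rfl⟩ : ∃ p q, p ≤ i ∧ q ≤ j ∧ e = p + q :=
        ⟨min e i, e - min e i, min_le_right _ _, by omega, by omega⟩
      rw [pow_add] at hr
      refine Submodule.mul_induction_on hr (fun r1 h1 r2 h2 => ?_) fun r r' hr hr' => ?_
      · obtain ⟨s, hs⟩ := hi (r1 • a)
        obtain ⟨t, ht⟩ := hj (r2 • b)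
        refine ⟨DCohLib.pairS F G s t, ?_⟩
        rw [AmpleLib.germ_pairS s t x trivial]
        have hu : F.presheaf.germ ⊤ x trivial s - r1 • a ∈
            m ^ (p + 1) • (⊤ : Submodule (X.presheaf.stalk x) (F.presheaf.stalk x)) :=
          Submodule.smul_mono_left (Ideal.pow_le_pow_right (by omega)) hs
        have hv : G.presheaf.germ ⊤ x trivial t - r2 • b ∈
            m ^ (q + 1) • (⊤ : Submodule (X.presheaf.stalk x) (G.presheaf.stalk x)) :=
          Submodule.smul_mono_left (Ideal.pow_le_pow_right (by omega)) ht
        generalize F.presheaf.germ ⊤ x trivial s = gs at hu ⊢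
        generalize G.presheaf.germ ⊤ x trivial t = gt at hv ⊢
        have hgt : gt ∈ m ^ q • (⊤ : Submodule (X.presheaf.stalk x) (G.presheaf.stalk x)) := by
          rw [← sub_add_cancel gt (r2 • b)]
          exact Submodule.add_mem _ (Submodule.smul_mono_left (Ideal.pow_le_pow_right (by omega)) hv)
            (Submodule.smul_mem_smul h2 trivial)
        have e1 := hmul _ _ _ _ hu hgt
        have e2 := hmul _ _ _ _ (Submodule.smul_mem_smul h1 (Submodule.mem_top (R := X.presheaf.stalk x) (x := a))) hv
        rw [← pow_add, show p + 1 + q = p + q + 1 by omega] at e1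
        rw [← pow_add, show p + (q + 1) = p + q + 1 by omega] at e2
        convert Submodule.add_mem _ e1 e2 using 1
        rw [TensorProduct.sub_tmul, TensorProduct.tmul_sub, map_sub, map_sub, TensorProduct.smul_tmul_smul,
          map_smul]
        abel
      · obtain ⟨⟨s, hs⟩, t, ht⟩ := And.intro hr hr'
        refine ⟨s + t, ?_⟩
        convert Submodule.add_mem _ hs ht using 1
        rw [map_add, add_smul]; abel

end Groth.Agent.S15253
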