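import Groth.Statements.S15254
import Groth.Agent.AmpleEmb.Serre
import Groth.Agent.CurveLib.TensorExact
import Groth.Agent.DCohLib.ClosedPush
import Groth.Agent.CurveLib.Euler
import Groth.Agent.DCohLib.ExtTensor
import Groth.Agent.EulerIneqLib.Basic
import Groth.Agent.DevLib.Closed
-- import your own Groth.Agent.* helpers here

set_option autoImplicit false
universe u
open CategoryTheory CategoryTheory.Limits AlgebraicGeometry TopologicalSpace
open W4c2seshadripos

namespace Groth.Agent.S15254

set_option backward.isDefEq.respectTransparency false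
set_option linter.style.haveILetI false

/-- Let X be an integral scheme proper over a field k (the published statement: a projective variety), x
a closed point of X with ideal sheaf m_x, and L an ample invertible O_X-module. Then there is m₀
such that for every m ≥ m₀, every i > 1 and every a ≥ 0 the cohomology group H^i(X, m_x^a ⊗ L^{⊗m})
vanishes (here m_x^a ⊗ L^{⊗m} = m_x^a · L^{⊗m}, the ideal sheaf m_x^a being taken as an O_X-module). -/
theorem result (k : Type u) [Field k] (X : Scheme.{u})
    [X.Over (Spec (CommRingCat.of k))] [IsProper (X ↘ (Spec (CommRingCat.of k)))] [IsIntegral X]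
    (x : X) (hx : IsClosed ({x} : Set X)) (L : X.Modules) (hL : CohB1.IsAmple L) :
    ∃ m₀ : ℕ, ∀ m : ℕ, m₀ ≤ m → ∀ i : ℕ, 1 < i → ∀ a : ℕ,
      Subsingleton (Coh.HH X (CohB1.tensorMod (ClSub.idealMod ((W4c2seshadripos.pointIdeal x hx) ^ a))
        (CohB1.tensorPow L m)) i) := by
  haveI := Groth.Agent.EulerIneqLib.isNoetherian_proper (X := X) k
  obtain ⟨n₀, hn₀⟩ := Groth.Agent.AmpleEmb.serre_vanishing (X ↘ Spec (CommRingCat.of k)) hL
    (M := Coh.structureModule X) (Groth.Agent.DevLib.isCoh_structureModule X)
  refine ⟨n₀, fun m hm i hi a => ?_⟩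
  let J := (W4c2seshadripos.pointIdeal x hx) ^ a
  let ι := ClSub.idealModι J
  haveI : Mono ι := by unfold ι ClSub.idealModι; infer_instance
  let T := ShortComplex.mk ι (cokernel.π ι) (cokernel.condition ι)
  have hT : T.ShortExact :=
    { exact := ShortComplex.exact_of_g_is_cokernel _ (cokernelIsCokernel ι)
      mono_f := inferInstance
      epi_g := inferInstance }
  let P := CohB1.tensorPow L m
  have hP : PicF.IsInvertible P := Groth.Agent.AmpleLib.isInvertible_tensorPow hL.1 m
  have hS := Groth.Agent.CurveLib.shortExact_tensR hT (E := P) (n := 1)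
    fun y => Groth.Agent.CurveLib.freeAt_one_of_isInvertible hP y
  have hsupp : CohB1.support ((Groth.Agent.CurveLib.tensR P).obj (cokernel ι)) ⊆ ({x} : Set X) := by
    intro y hy
    by_contra hyx
    rw [CohB1.support, Set.mem_ofPred_eq] at hy
    refine hy (Groth.Agent.DCohLib.subsingleton_stalk_tmod (A := cokernel ι) P y ?_)
    have hyJ : y ∉ Set.range J.subschemeι := by
      rw [Scheme.IdealSheafData.range_subschemeι]
      intro h
      rcases Nat.eq_zero_or_pos a with rfl | ha
      · simp [J] at h
      · simp only [J, SetLike.mem_coe, Scheme.IdealSheafData.support_pow _ a ha.ne'] at h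
        rw [← SetLike.mem_coe, W4c2seshadripos.pointIdeal, Scheme.IdealSheafData.coe_support_vanishingIdeal] at h
        exact hyx h
    haveI : Subsingleton ((ClSub.quotMod J).presheaf.stalk y) :=
      Groth.Agent.DCohLib.subsingleton_stalk_pushforward J.subschemeι _ y hyJ
    have hm' : Mono (cokernel.desc ι (ClSub.toSubscheme J) (kernel.condition _)) :=
      inferInstanceAs (Mono (Abelian.factorThruCoimage (ClSub.toSubscheme J)))
    exact Function.Injective.subsingleton ((Groth.Agent.PullbackMod.mono_iff_stalk _).1 hm' y)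
  have h3 : Subsingleton (Coh.HH X ((Groth.Agent.CurveLib.tensR P).obj (cokernel ι)) (i - 1)) :=
    Groth.Agent.CurveLib.subsingleton_HH_of_support _ hx hsupp (d := 0) (Order.krullDim_nonpos_iff_forall_isMax.2 fun Z W _ => by
      obtain ⟨z, hz⟩ := W.isIrreducible.1
      obtain ⟨z', hz'⟩ := Z.isIrreducible.1
      exact fun w hw => (Subsingleton.elim z' w) ▸ hz') (by omega)
  have h2 := hn₀ m hm i (by omega)
  refine subsingleton_of_forall_eq 0 fun c => ?_
  have hS' := Groth.Agent.QCohLib.toAb_shortExact hS
  obtain ⟨y, hy⟩ := Abelian.Ext.covariant_sequence_exact₁ _ hS' c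
    (@Subsingleton.elim (Coh.HH X _ i) h2 _ _) (show (i - 1) + 1 = i by omega)
  rw [← hy, show y = 0 from @Subsingleton.elim (Coh.HH X _ (i - 1)) h3 _ _]
  exact Abelian.Ext.zero_comp _ _ _ _ _

end Groth.Agent.S15254
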