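import Groth.Statements.S15255
import Groth.Agent.CurveLib.TensorExact
import Groth.Agent.DCohLib.ClosedPush
import Groth.Agent.CurveLib.Euler
import Groth.Agent.DCohLib.ExtTensor
import Groth.Agent.EulerIneqLib.Basic
import Groth.Agent.DCohLib.Pullback
import Groth.Agent.LefAmpleLib.QuotMap
import Groth.Agent.AmpleLib.Tensor

-- import your own Groth.Agent.* helpers here

set_option autoImplicit false
universe u
open CategoryTheory CategoryTheory.Limits AlgebraicGeometry TopologicalSpace
open W4c2seshadripos

set_option backward.isDefEq.respectTransparency false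
set_option backward.isDefEq.respectTransparency.types false
set_option linter.style.haveILetI false

namespace Groth.Agent.S15255

open W4c2seshadripos

/-- Let X be an integral scheme proper over a field k (the published statement: a projective variety), x
a closed point of X with ideal sheaf m_x, L an invertible O_X-module and a, m > 0 integers. If
H^1(X, m_x^a ⊗ L^{⊗m}) is nonzero then so is H^1(X, m_x^(a+1) ⊗ L^{⊗m}) (the ideal sheaves m_x^a
being taken as O_X-modules, so that m_x^a ⊗ L^{⊗m} = m_x^a · L^{⊗m}). -/
theorem result (k : Type u) [Field k]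
    (X : Scheme.{u}) [X.Over (Spec (CommRingCat.of k))] [IsProper (X ↘ (Spec (CommRingCat.of k)))]
    [IsIntegral X] (x : X) (hx : IsClosed ({x} : Set X)) (L : X.Modules) (hL : PicF.IsInvertible L)
    (a m : ℕ) (ha : 0 < a) (hm : 0 < m)
    (h : Nontrivial (Coh.HH X (CohB1.tensorMod (ClSub.idealMod ((W4c2seshadripos.pointIdeal x hx) ^ a))
      (CohB1.tensorPow L m)) 1)) :
    Nontrivial (Coh.HH X (CohB1.tensorMod (ClSub.idealMod ((W4c2seshadripos.pointIdeal x hx) ^ (a + 1)))
      (CohB1.tensorPow L m)) 1) := by
  haveI := Groth.Agent.EulerIneqLib.isNoetherian_proper (X := X) k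
  let J := (pointIdeal x hx) ^ a
  let J' := (pointIdeal x hx) ^ (a + 1)
  have hle : J' ≤ J := by
    simp only [J', J, pow_succ]
    exact mul_le_of_le_one_right' le_top
  let t : ClSub.idealMod J' ⟶ ClSub.idealMod J := kernel.lift _ (ClSub.idealModι J') (by
    rw [← LefAmpleLib.toSubscheme_quotMap hle, ← Category.assoc,
      show ClSub.idealModι J' ≫ ClSub.toSubscheme J' = 0 from kernel.condition _, zero_comp])
  have ht : t ≫ ClSub.idealModι J = ClSub.idealModι J' := kernel.lift_ι _ _ _
  haveI : Mono (ClSub.idealModι J') := by unfold ClSub.idealModι; infer_instance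
  haveI : Mono (ClSub.idealModι J) := by unfold ClSub.idealModι; infer_instance
  haveI : Mono t := mono_of_mono_fac ht
  let P := CohB1.tensorPow L m
  have hP : PicF.IsInvertible P := Groth.Agent.AmpleLib.isInvertible_tensorPow hL m
  let T := ShortComplex.mk t (cokernel.π t) (cokernel.condition t)
  have hT : T.ShortExact :=
    { exact := ShortComplex.exact_of_g_is_cokernel _ (cokernelIsCokernel t)
      mono_f := inferInstance
      epi_g := inferInstance }
  have hS := Groth.Agent.CurveLib.shortExact_tensR hT (E := P) (n := 1)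
    fun y => Groth.Agent.CurveLib.freeAt_one_of_isInvertible hP y
  have hcok : ∀ y : X, y ≠ x → Subsingleton ((cokernel t).presheaf.stalk y) := by
    intro y hy
    have hyJ : y ∉ Set.range J'.subschemeι := by
      rw [Scheme.IdealSheafData.range_subschemeι]
      intro h'
      simp only [J', SetLike.mem_coe, Scheme.IdealSheafData.support_pow _ (a + 1) (Nat.succ_ne_zero a)] at h'
      rw [← SetLike.mem_coe, pointIdeal, Scheme.IdealSheafData.coe_support_vanishingIdeal] at h'
      exact hy h'
    haveI : Subsingleton ((ClSub.quotMod J').presheaf.stalk y) :=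
      Groth.Agent.DCohLib.subsingleton_stalk_pushforward J'.subschemeι _ y hyJ
    have hm' : Mono (cokernel.desc (ClSub.idealModι J') (ClSub.toSubscheme J') (kernel.condition _)) :=
      inferInstanceAs (Mono (Abelian.factorThruCoimage (ClSub.toSubscheme J')))
    haveI : Subsingleton ((cokernel (ClSub.idealModι J')).presheaf.stalk y) :=
      Function.Injective.subsingleton ((Groth.Agent.PullbackMod.mono_iff_stalk _).1 hm' y)
    have hsurj : Function.Surjective (PullbackMod.stalkLin t y) := by
      intro z
      have hex := DCohLib.exact_stalkLin (ShortComplex.mk (ClSub.idealModι J') (cokernel.π (ClSub.idealModι J'))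
        (cokernel.condition _)) (ShortComplex.exact_of_g_is_cokernel _ (cokernelIsCokernel _)) y
      obtain ⟨w, hw⟩ := (hex (PullbackMod.stalkLin (ClSub.idealModι J) y z)).1 (Subsingleton.elim _ _)
      refine ⟨w, (PullbackMod.mono_iff_stalk (ClSub.idealModι J)).1 inferInstance y ?_⟩
      have h3 : PullbackMod.stalkLin (ClSub.idealModι J) y (PullbackMod.stalkLin t y w) =
          PullbackMod.stalkLin (ClSub.idealModι J') y w := by
        rw [← ht, PullbackMod.stalkLin_comp]; rfl
      exact h3.trans hw
    refine subsingleton_of_forall_eq 0 fun q => ?_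
    obtain ⟨z, rfl⟩ := (PullbackMod.epi_iff_stalk (cokernel.π t)).1 inferInstance y q
    exact ((DCohLib.exact_stalkLin T hT.exact y) z).2 (hsurj z)
  haveI h3 : Subsingleton (Coh.HH X ((Groth.Agent.CurveLib.tensR P).obj (cokernel t)) 1) := by
    refine Groth.Agent.CurveLib.subsingleton_HH_of_support _ hx (fun y hy => ?_) (d := 0)
      (Order.krullDim_nonpos_iff_forall_isMax.2 fun Z W _ => by
        obtain ⟨z, hz⟩ := W.isIrreducible.1
        obtain ⟨z', hz'⟩ := Z.isIrreducible.1
        exact fun w hw => (Subsingleton.elim z' w) ▸ hz') (by omega)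
    by_contra hyx
    rw [CohB1.support, Set.mem_ofPred_eq] at hy
    haveI := hcok y hyx
    exact hy (Groth.Agent.DCohLib.subsingleton_stalk_tmod (A := cokernel t) P y inferInstance)
  by_contra hcon
  haveI : Subsingleton (Coh.HH X ((Groth.Agent.CurveLib.tensR P).obj (ClSub.idealMod J')) 1) :=
    not_nontrivial_iff_subsingleton.1 hcon
  haveI : Subsingleton (Coh.HH X (T.map (Groth.Agent.CurveLib.tensR P)).X₁ 1) := this
  haveI : Subsingleton (Coh.HH X (T.map (Groth.Agent.CurveLib.tensR P)).X₃ 1) := h3
  exact absurd (Groth.Agent.CurveLib.subsingleton_mid hS 1) (not_subsingleton_iff_nontrivial.2 h)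


end Groth.Agent.S15255
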