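import Groth.Statements.S15256
import Groth.Agent.JetBCLib.Point

set_option autoImplicit false
set_option backward.isDefEq.respectTransparency false
set_option linter.style.haveILetI false
universe u
open CategoryTheory CategoryTheory.Limits AlgebraicGeometry TopologicalSpace
open W4c2seshadripos

namespace Groth.Agent.S15256

open Groth.Agent.BCLib Groth.Agent.JetBCLib

/-- For a field k, let X be a projective k-variety (an integral scheme, proper over k, carrying an ample
invertible module), F a quasi-coherent O_X-module of finite type, and x a closed point of X that is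
k-rational. Let k'/k be a field extension for which X_{k'} = X ×_k k' is still integral, write π :
X_{k'} → X for the projection, and let x' be a closed point of X_{k'} mapping to x (over a
k-rational point the fibre of π is one k'-rational point, so x' is determined by x). Then, for each
l ≥ 0, F separates l-jets at x exactly when π^* F separates l-jets at x'; here a module M separates
l-jets at a closed point y when H^0(M) → H^0(M / m_y^(l+1) M) is surjective. -/
theorem result (k : Type u) [Field k] (X : Scheme.{u})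
    [X.Over (Spec (CommRingCat.of k))] [IsProper (X ↘ (Spec (CommRingCat.of k)))] [IsIntegral X]
    (hproj : ∃ A : X.Modules, CohB1.IsAmple A)
    (F : X.Modules) (hF : Coh.IsCoh F) (x : X) (hx : IsClosed ({x} : Set X))
    (hrat : Function.Surjective (Curv2.resMap k X x))
    (k' : Type u) [Field k'] [Algebra k k'] [IsIntegral (Curv2.bc k X k')]
    (x' : ↥(Curv2.bc k X k')) (hx' : Curv2.bcFst k X k' x' = x) (hx'c : IsClosed ({x'} : Set ↥(Curv2.bc k X k')))
    (l : ℕ) :
    W4c2seshadripos.SeparatesJets F x hx l ↔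
      W4c2seshadripos.SeparatesJets ((Scheme.Modules.pullback (Curv2.bcFst k X k')).obj F) x' hx'c l := by
  subst hx'
  haveI : Coh.IsQCoh F := hF.1
  let g := Curv2.bcFst k X k'
  let f : X ⟶ Spec (CommRingCat.of k) := X ↘ Spec (CommRingCat.of k)
  let f' := Curv2.bcSnd k X k'
  let φ : CommRingCat.of k ⟶ CommRingCat.of k' := CommRingCat.ofHom (algebraMap k k')
  have hc : IsPullback g f' f (Spec.map φ) := IsPullback.of_hasPullback _ _
  obtain ⟨_, ⟨W, hW, rfl⟩, hxW, -⟩ := X.isBasis_affineOpens.exists_subset_of_mem_open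
    (Set.mem_univ (g x')) isOpen_univ
  have hW' : IsAffineOpen (g ⁻¹ᵁ W) := (isPushout_secHom hc hW).1
  haveI : Coh.IsQCoh ((Scheme.Modules.pullback g).obj F) := PullbackMod.isQCoh_pullback g F
  let p := (hW.primeIdealOf ⟨g x', hxW⟩).asIdeal
  let p' := (hW'.primeIdealOf ⟨x', hxW⟩).asIdeal
  have hconst : ∀ b, ∃ r : k, b - (secHom f W).hom r ∈ p := fun b => by
    obtain ⟨r, hr⟩ := hrat (X.residue (g x') (X.presheaf.germ W (g x') hxW b))
    refine ⟨r, (mem_prime_iff hW hxW _).2 (Ideal.Quotient.eq_zero_iff_mem.1 ?_)⟩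
    have hs : X.presheaf.germ W (g x') hxW ((secHom f W).hom r) = Curv2.stalkMap k X (g x') r :=
      X.presheaf.germ_res_apply (homOfLE le_top) (g x') hxW _
    show X.residue (g x') (X.presheaf.germ W (g x') hxW (b - (secHom f W).hom r)) = 0
    rw [map_sub, map_sub, hs]
    exact sub_eq_zero.2 hr.symm
  haveI : p.IsMaximal := isMaximal_of_const _ p Ideal.IsPrime.ne_top' hconst
  have hle : p.map (g.appLE W (g ⁻¹ᵁ W) le_rfl).hom ≤ p' := by
    rw [Ideal.map_le_iff_le_comap]
    intro b hb
    rw [Ideal.mem_comap, mem_prime_iff hW' hxW, ← PullbackMod.germ_stalkMap_appLE g x' hxW hxW le_rfl b]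
    exact map_nonunit (g.stalkMap x').hom _ ((mem_prime_iff hW hxW b).1 hb)
  have hmax : (p.map (g.appLE W (g ⁻¹ᵁ W) le_rfl).hom).IsMaximal :=
    isMaximal_of_const (secHom f' (g ⁻¹ᵁ W)).hom _
      (fun h => Ideal.IsPrime.ne_top' (I := p') (top_le_iff.1 (h ▸ hle)))
      (exists_const_map hc hW p hconst)
  have hp' : p' = p.map (g.appLE W (g ⁻¹ᵁ W) le_rfl).hom :=
    (hmax.eq_of_le Ideal.IsPrime.ne_top' hle).symm
  haveI : p'.IsMaximal := hp' ▸ hmax
  obtain ⟨ψ, hψ⟩ := LinearMap.exists_leftInverse_of_injective (Algebra.linearMap k k')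
    (LinearMap.ker_eq_bot.2 (algebraMap k k').injective)
  rw [separatesJets_iff_affine F hx l hW hxW,
    separatesJets_iff_affine ((Scheme.Modules.pullback g).obj F) hx'c l hW' hxW]
  refine forall_exists_sub_mem_iff (f := f) (f' := f') (φ := φ) (ψ := ψ.toAddMonoidHom) hc ?_ ?_ hW p p'
    hp' (l + 1)
  · intro r r'
    show ψ (algebraMap k k' r * r') = r * ψ r'
    rw [← Algebra.smul_def, map_smul, smul_eq_mul]
  · show ψ 1 = 1
    rw [← map_one (algebraMap k k')]
    exact congr($hψ 1)

end Groth.Agent.S15256
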