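import Groth.Statements.S15258
import Groth.Agent.EssFTLib.Basic
import Mathlib

set_option autoImplicit false
universe u
open CategoryTheory CategoryTheory.Limits AlgebraicGeometry TopologicalSpace
open W4c2seshadripos

namespace Groth.Agent.S15258

open AlgebraicGeometry CategoryTheory Groth.Agent.EssFTLib
set_option backward.isDefEq.respectTransparency false

lemma isAffineOpens_self {X : Scheme.{u}} (x : X) : ∃ V : X.affineOpens, x ∈ V.1 := by
  obtain ⟨V, h, -⟩ := exists_affine_mem_le (U := (⊤ : X.Opens)) (x := x) trivial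
  exact ⟨V, h⟩

/-- Call f : X → Y locally essentially of finite type when Y has a cover by affine opens U = Spec A such
that each f⁻¹(U) has a cover by affine opens Spec B with A → B essentially of finite type (a
localization of a finite-type A-algebra; Mathlib's RingHom.EssFiniteType), and essentially of finite
type when moreover f is quasi-compact. Then f is locally essentially of finite type exactly when
every affine open U = Spec A of Y has f⁻¹(U) covered by affine opens V = Spec B of X with A → B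
essentially of finite type. -/
theorem result {X Y : Scheme.{u}} (f : X ⟶ Y) :
    (∃ S : Set Y.affineOpens, (⋃ U ∈ S, ((U : Y.Opens) : Set ↥Y)) = Set.univ ∧
      ∀ U ∈ S, ∃ T : Set X.affineOpens, (⋃ V ∈ T, ((V : X.Opens) : Set ↥X)) = ((f ⁻¹ᵁ (U : Y.Opens)) : Set ↥X) ∧
        ∀ V ∈ T, ∃ e : (V : X.Opens) ≤ f ⁻¹ᵁ (U : Y.Opens), (f.appLE (U : Y.Opens) (V : X.Opens) e).hom.EssFiniteType) ↔
    ∀ U : Y.affineOpens, ∃ T : Set X.affineOpens, (⋃ V ∈ T, ((V : X.Opens) : Set ↥X)) = ((f ⁻¹ᵁ (U : Y.Opens)) : Set ↥X) ∧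
        ∀ V ∈ T, ∃ e : (V : X.Opens) ≤ f ⁻¹ᵁ (U : Y.Opens), (f.appLE (U : Y.Opens) (V : X.Opens) e).hom.EssFiniteType := by
  constructor
  · rintro ⟨S, hS, hST⟩ U
    refine ⟨_, cover_of_pointwise f U.1 (exists_good f S hS (fun U' hU' x hx => ?_) U), fun V hV => hV⟩
    obtain ⟨T, hT, hT'⟩ := hST U' hU'
    exact pointwise_of_cover f U'.1 hT hT' x hx
  · intro h
    refine ⟨Set.univ, Set.eq_univ_of_forall fun y => ?_, fun U _ => h U⟩
    obtain ⟨V, hV⟩ := isAffineOpens_self y
    exact Set.mem_iUnion₂.2 ⟨V, trivial, hV⟩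

end Groth.Agent.S15258
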