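import Groth.Statements.S15259
import Groth.Agent.EssFTLib.Basic
import Mathlib

set_option autoImplicit false
universe u
open CategoryTheory CategoryTheory.Limits AlgebraicGeometry TopologicalSpace
open W4c2seshadripos

namespace Groth.Agent.S15259

open AlgebraicGeometry CategoryTheory Groth.Agent.EssFTLib
set_option backward.isDefEq.respectTransparency false

/-- Call f : X → Y locally essentially of finite type when Y has a cover by affine opens U = Spec A such
that each f⁻¹(U) has a cover by affine opens Spec B with A → B essentially of finite type (a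
localization of a finite-type A-algebra; Mathlib's RingHom.EssFiniteType), and essentially of finite
type when moreover f is quasi-compact. Then f is essentially of finite type exactly when every
affine open U = Spec A of Y has f⁻¹(U) covered by finitely many affine opens V = Spec B of X with A
→ B essentially of finite type. -/
theorem result {X Y : Scheme.{u}} (f : X ⟶ Y) :
    ((∃ S : Set Y.affineOpens, (⋃ U ∈ S, ((U : Y.Opens) : Set ↥Y)) = Set.univ ∧
      ∀ U ∈ S, ∃ T : Set X.affineOpens, (⋃ V ∈ T, ((V : X.Opens) : Set ↥X)) = ((f ⁻¹ᵁ (U : Y.Opens)) : Set ↥X) ∧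
        ∀ V ∈ T, ∃ e : (V : X.Opens) ≤ f ⁻¹ᵁ (U : Y.Opens), (f.appLE (U : Y.Opens) (V : X.Opens) e).hom.EssFiniteType) ∧ QuasiCompact f) ↔
    ∀ U : Y.affineOpens, ∃ T : Set X.affineOpens, T.Finite ∧ (⋃ V ∈ T, ((V : X.Opens) : Set ↥X)) = ((f ⁻¹ᵁ (U : Y.Opens)) : Set ↥X) ∧
        ∀ V ∈ T, ∃ e : (V : X.Opens) ≤ f ⁻¹ᵁ (U : Y.Opens), (f.appLE (U : Y.Opens) (V : X.Opens) e).hom.EssFiniteType := by
  constructor
  · rintro ⟨⟨S, hS, hST⟩, hqc⟩ U
    have hp := exists_good f S hS (fun U' hU' x hx => by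
      obtain ⟨T, hT, hT'⟩ := hST U' hU'
      exact pointwise_of_cover f U'.1 hT hT' x hx) U
    choose V hxV hV using hp
    have hK : IsCompact (f ⁻¹ᵁ U.1 : Set X) := Scheme.Hom.isCompact_preimage f U.2.isCompact
    obtain ⟨t, ht⟩ := hK.elim_finite_subcover (fun x : (f ⁻¹ᵁ U.1) => ((V x.1 x.2).1 : Set X)) (fun x => (V x.1 x.2).1.isOpen)
      fun x hx => Set.mem_iUnion.2 ⟨⟨x, hx⟩, hxV x hx⟩
    classical
    refine ⟨↑(t.image fun x => V x.1 x.2), Finset.finite_toSet _, Set.Subset.antisymm ?_ ?_, ?_⟩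
    · refine Set.iUnion₂_subset fun W hW => ?_
      obtain ⟨x, -, rfl⟩ := Finset.mem_image.1 (Finset.mem_coe.1 hW)
      exact (hV x.1 x.2).1
    · intro y hy
      obtain ⟨x, hx, hyx⟩ := Set.mem_iUnion₂.1 (ht hy)
      exact Set.mem_iUnion₂.2 ⟨_, Finset.mem_coe.2 (Finset.mem_image_of_mem _ hx), hyx⟩
    · intro W hW
      obtain ⟨x, -, rfl⟩ := Finset.mem_image.1 (Finset.mem_coe.1 hW)
      exact hV x.1 x.2
  · intro h
    refine ⟨⟨Set.univ, Set.eq_univ_of_forall fun y => ?_, fun U _ => ?_⟩, ?_⟩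
    · obtain ⟨V, hV, -⟩ := exists_affine_mem_le (U := (⊤ : Y.Opens)) (x := y) trivial
      exact Set.mem_iUnion₂.2 ⟨V, trivial, hV⟩
    · obtain ⟨T, -, hT, hT'⟩ := h U
      exact ⟨T, hT, hT'⟩
    · refine quasiCompact_iff_forall_isAffineOpen.2 fun U hU => ?_
      obtain ⟨T, hfin, hT, -⟩ := h ⟨U, hU⟩
      rw [← hT]
      exact hfin.isCompact_biUnion fun V _ => V.2.isCompact

end Groth.Agent.S15259
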