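import Groth.Statements.S15267
import Groth.Agent.RedClassLib.Gr
import Groth.Agent.PullbackMod.SuppClosed
-- import your own Groth.Agent.* helpers here

set_option autoImplicit false
set_option backward.isDefEq.respectTransparency false
set_option maxHeartbeats 1600000
set_option backward.isDefEq.respectTransparency.types false
set_option linter.style.haveILetI false
set_option synthInstance.maxHeartbeats 200000
open CategoryTheory CategoryTheory.Limits AlgebraicGeometry
open Coherent

namespace Groth.Agent.S15267

open Groth.Agent CategoryTheory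

/-- Over the complex numbers, let X be an irreducible proper scheme of dimension d with an ample
invertible sheaf L, and let ξ be a complex point of X. Let E and F be coherent sheaves on X which
are semistable of dimension d with respect to L (nonzero, pure of dimension d, and the reduced
Hilbert polynomial of every nonzero proper coherent subsheaf is at most that of the sheaf for large
arguments), with the same reduced Hilbert polynomial (r(F)·p_E = r(E)·p_F for Hilbert polynomials
p_E, p_F, r denoting d! times the degree-d coefficient), and suppose that each of E and F has a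
filtration by coherent subsheaves with stable d-dimensional successive quotients of the same reduced
Hilbert polynomial whose associated graded sheaf (the direct sum of the quotients) is finite locally
free on some open neighbourhood of ξ. Then every morphism f from E to F whose pull-back along ξ is
the zero map is zero. (The published statement is for modules over a sheaf of rings of differential
operators on a projective flat family X over S with irreducible fibres of dimension d and a section
ξ, the conditions being imposed on all closed fibres; this row is the case of the structure sheaf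
over a single complex fibre, to which the published proof reduces.) -/
theorem result
    (X : Scheme.{0}) [X.Over (Spec (CommRingCat.of ℂ))] [IsProper (X ↘ Spec (CommRingCat.of ℂ))]
    [IrreducibleSpace X] (d : ℕ) (hX : topologicalKrullDim X = (d : WithBot ℕ∞))
    (L : X.Modules) (hL : CohB1.IsAmple L)
    (E F : X.Modules) (hE : ShStab.IsSemistable ℂ X L E d) (hF : ShStab.IsSemistable ℂ X L F d)
    (pE pF : Polynomial ℚ) (hpE : ShStab.IsHilbPoly ℂ X L E pE) (hpF : ShStab.IsHilbPoly ℂ X L F pF)
    (hred : StabCat.RedEq d pE pF)
    (ξ : Spec (CommRingCat.of ℂ) ⟶ X) (hξ : ξ ≫ (X ↘ Spec (CommRingCat.of ℂ)) = 𝟙 (Spec (CommRingCat.of ℂ)))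
    (sE : LTSeries (Subobject E)) (hsE : ShStab.IsJHFiltration ℂ X L E d sE)
    (hgrE : ∀ x ∈ Set.range ξ.base, ∃ U : X.Opens, x ∈ U ∧ FlatMod.IsFinLocFree ((StabCat.grObj sE).restrict U.ι))
    (sF : LTSeries (Subobject F)) (hsF : ShStab.IsJHFiltration ℂ X L F d sF)
    (hgrF : ∀ x ∈ Set.range ξ.base, ∃ U : X.Opens, x ∈ U ∧ FlatMod.IsFinLocFree ((StabCat.grObj sF).restrict U.ι))
    (f : E ⟶ F) (hf : (Scheme.Modules.pullback ξ).map f = 0) : f = 0 := by
    have hp := ShStabLib.alpha_pos_of_isPure ℂ hL hE.1 hE.2.1 hE.2.2.1 hpE
    have cE : RedClassLib.Cls ℂ L d pE E := Or.inr ⟨hE, fun q hq => by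
      rw [ShStabLib.hp_unique ℂ hq hpE]; exact ShStabLib.redEq_refl⟩
    have cF : RedClassLib.Cls ℂ L d pE F := Or.inr ⟨hF, fun q hq => by
      rw [ShStabLib.hp_unique ℂ hq hpF]; exact ShStabLib.redEq_symm hred⟩
    have cI := RedClassLib.image_cls ℂ hL hp cE cF f
    let ι := Abelian.image.ι f
    by_contra hf0
    have hI0 : ¬ IsZero (Abelian.image f) := fun h => hf0 (by
      rw [← Abelian.image.fac f, h.eq_of_src (Abelian.image.ι f) 0, Limits.comp_zero])
    have hι : (Scheme.Modules.pullback ξ).map ι = 0 := by
      haveI : Epi ((Scheme.Modules.pullback ξ).map (Abelian.factorThruImage f)) := by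
        haveI := (Scheme.Modules.pullbackPushforwardAdjunction ξ).leftAdjoint_preservesColimits
        infer_instance
      rw [← cancel_epi ((Scheme.Modules.pullback ξ).map (Abelian.factorThruImage f)), Limits.comp_zero, ← Functor.map_comp,
        Abelian.image.fac, hf]
    obtain ⟨y⟩ : Nonempty ↥(Spec (CommRingCat.of ℂ)) := inferInstanceAs (Nonempty (PrimeSpectrum ℂ))
    have hstF : ∀ i : Fin sF.length, ShStab.IsStable ℂ X L (StabCat.factor sF i) d ∧
        ∀ q, ShStab.IsHilbPoly ℂ X L (StabCat.factor sF i) q → StabCat.RedEq d q pE :=
      fun i => ⟨(hsF.2.2 i).1, fun q hq => ShStabLib.redEq_trans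
        (ShStabLib.alpha_pos_of_isPure ℂ hL hF.1 hF.2.1 hF.2.2.1 hpF) ((hsF.2.2 i).2 q pF hq hpF)
        (ShStabLib.redEq_symm hred)⟩
    have hx : RedClassLib.FlfNear (ξ.base y) (StabCat.grObj sF) := hgrF _ ⟨y, rfl⟩
    obtain ⟨t, ht, htx⟩ := RedClassLib.quot_chain hL hp cF hsF.1 hsF.2.1 hstF hx ι cI
    haveI := RedClassLib.free_of_chain ht.1 ht.2.1 htx
    haveI := RedClassLib.free_of_chain hsF.1 hsF.2.1 hx
    have hex := DCohLib.exact_stalkLin (ShortComplex.mk ι (cokernel.π ι) (cokernel.condition ι))
      (ShortComplex.exact_cokernel ι) (ξ.base y)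
    have hinj : Function.Injective (PullbackMod.stalkLin ι (ξ.base y)) := (PullbackMod.mono_iff_stalk ι).1 inferInstance _
    obtain ⟨l, hl⟩ := Module.projective_lifting_property (PullbackMod.stalkLin (cokernel.π ι) (ξ.base y)) LinearMap.id
      ((PullbackMod.epi_iff_stalk (cokernel.π ι)).1 inferInstance _)
    let e := Function.Exact.splitSurjectiveEquiv hex hinj ⟨l, hl⟩
    let r := (LinearMap.fst _ _ _).comp e.1.toLinearMap
    have hr : r.comp (PullbackMod.stalkLin ι (ξ.base y)) = LinearMap.id := LinearMap.ext fun a => by
      show (e.1 (PullbackMod.stalkLin ι (ξ.base y) a)).1 = a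
      have he := LinearMap.congr_fun e.2.1 a
      simp only [LinearMap.comp_apply, LinearMap.inl_apply, LinearEquiv.coe_coe] at he
      rw [show PullbackMod.stalkLin ι (ξ.base y) a = e.1.symm (a, 0) from he, LinearEquiv.apply_symm_apply]
    haveI : Coh.IsQCoh (Abelian.image f) := cI.coh.1
    have hfin := PullbackMod.finite_stalk_of_isFT cI.coh.2 (ξ.base y)
    haveI : Module.Projective (X.presheaf.stalk (ξ.base y)) ((Abelian.image f).presheaf.stalk (ξ.base y)) :=
      Module.Projective.of_split _ r hr
    haveI : Module.Free (X.presheaf.stalk (ξ.base y)) ((Abelian.image f).presheaf.stalk (ξ.base y)) :=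
      Module.free_of_flat_of_isLocalRing
    letI := (ξ.stalkMap y).hom.toAlgebra
    have hz : (PullbackMod.stalkLin ι (ξ.base y)).lTensor ((Spec (CommRingCat.of ℂ)).presheaf.stalk y) = 0 :=
      (PullbackMod.stalk_pullback_eq_zero_iff ξ ι y).1 ((PullbackMod.eq_zero_iff_stalk _).1 hι y)
    have hsub : Subsingleton ((Abelian.image f).presheaf.stalk (ξ.base y)) := by
      let b := Module.Free.chooseBasis (X.presheaf.stalk (ξ.base y)) ((Abelian.image f).presheaf.stalk (ξ.base y))
      have hem : ∀ i, False := fun i => by
        have h1 : (((b.coord i).comp r).comp (PullbackMod.stalkLin ι (ξ.base y))).lTensor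
            ((Spec (CommRingCat.of ℂ)).presheaf.stalk y) = 0 := by
          rw [LinearMap.lTensor_comp, hz, LinearMap.comp_zero]
        rw [LinearMap.comp_assoc, hr, LinearMap.comp_id] at h1
        have h2 := congrArg (TensorProduct.rid (X.presheaf.stalk (ξ.base y)) _)
          (LinearMap.congr_fun h1 (TensorProduct.tmul _ 1 (b i)))
        simp [Module.Basis.coord_apply] at h2
      exact ⟨fun u v => b.repr.injective (Finsupp.ext fun i => (hem i).elim)⟩
    have hd : topologicalKrullDim (CohB1.support (Abelian.image f)) = (d : WithBot ℕ∞) :=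
      ShStabLib.isPure_of_mono hF.2.2.1 ι _ (𝟙 _) inferInstance cI.coh hI0
    have hcl := PullbackMod.isClosed_support_of_isFT cI.coh.2
    obtain ⟨p, hmem, hchain⟩ := (HilbLib.not_dim_lt_iff hcl d).1 (by rw [hd]; exact lt_irrefl _)
    have htop : p (Fin.last d) = genericPoint X := by
      by_contra hne
      have hc : HilbLib.HasChain (d + 1) (Set.univ : Set X) := by
        refine ⟨Fin.snoc p (genericPoint X), fun _ => trivial, fun i j hij => ?_⟩
        induction i using Fin.lastCases with
        | last => exact absurd hij (not_lt.2 (Fin.le_last j))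
        | cast i =>
          rw [Fin.snoc_castSucc]
          induction j using Fin.lastCases with
          | last =>
            rw [Fin.snoc_last]
            refine ⟨genericPoint_specializes _, fun h => hne ?_⟩
            rcases (Fin.le_last i).eq_or_lt with rfl | hi
            · exact h
            · exact ((genericPoint_specializes _).antisymm (h ▸ (hchain _ _ hi).1)).eq.symm
          | cast j =>
            rw [Fin.snoc_castSucc]
            exact hchain i j (Fin.castSucc_lt_castSucc_iff.1 hij)
      refine (HilbLib.not_dim_lt_iff isClosed_univ (d + 1)).2 hc ?_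
      rw [IsHomeomorph.topologicalKrullDim_eq _ (Homeomorph.Set.univ X).isHomeomorph, hX]
      exact_mod_cast Nat.lt_succ_self d
    have hη : ξ.base y ∈ CohB1.support (Abelian.image f) := by
      refine (genericPoint_specializes _).mem_closed hcl ?_
      rw [← htop]
      exact hmem _
    exact hη hsub

end Groth.Agent.S15267
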