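import Groth.Statements.S15283
import Groth.Agent.ValEtaleLib.Main
import Groth.Agent.RGFlatLib.Domain

set_option autoImplicit false
universe u
open CAlg

namespace Groth.Agent.S15283

open CategoryTheory CategoryTheory.Limits AlgebraicGeometry

open Groth.Agent TensorProduct
set_option backward.isDefEq.respectTransparency false

/-- Over a domain, a flat algebra of finite type is finitely presented. -/
theorem finitePresentation_of_flat {R S : Type u} [CommRing R] [IsDomain R] [CommRing S] [Algebra R S]
    [Algebra.FiniteType R S] [Module.Flat R S] : Algebra.FinitePresentation R S := by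
  obtain ⟨n, π, hπ⟩ := Algebra.FiniteType.iff_quotient_mvPolynomial''.mp ‹Algebra.FiniteType R S›
  letI : Algebra (MvPolynomial (Fin n) R) S := π.toRingHom.toAlgebra
  haveI : IsScalarTower R (MvPolynomial (Fin n) R) S := .of_algebraMap_eq fun r => (π.commutes r).symm
  haveI : Module.Finite (MvPolynomial (Fin n) R) S := Module.Finite.of_surjective (Algebra.linearMap _ S) hπ
  haveI : Module.FinitePresentation (MvPolynomial (Fin n) R) S :=
    RGFlatLib.finitePresentation_of_flat_isDomain (R := R)
  refine Algebra.FinitePresentation.of_surjective hπ ?_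
  have := Module.FinitePresentation.fg_ker (Algebra.linearMap (MvPolynomial (Fin n) R) S) hπ
  exact this

section
variable {A D : Type u} [CommRing A] [CommRing D] [Algebra A D]

/-- Denominators from the base. -/
theorem exists_clear (p : Ideal A) [p.IsPrime] (P : Ideal D) [P.IsPrime]
    (hp : p = P.comap (algebraMap A D))
    (hkey : ∀ s : D, s ∉ P → ∃ (t : D) (a : A), a ∉ p ∧ s * t = algebraMap A D a)
    (z : Localization.AtPrime P) :
    ∃ (a : A) (w : D), a ∉ p ∧ z * algebraMap D _ (algebraMap A D a) = algebraMap D _ w := by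
  obtain ⟨⟨d, s⟩, hz⟩ := IsLocalization.surj P.primeCompl z
  obtain ⟨t, a, ha, hst⟩ := hkey s s.2
  refine ⟨a, d * t, ha, ?_⟩
  rw [← hst, map_mul, map_mul, ← mul_assoc, hz]

end

/-- Let L/K be a finite extension of valued fields, v_L extending v_K up to equivalence, such that the
valuation rings K° and L° both have finitely many prime ideals, and let P be a prime ideal of L°
lying over the prime p of K°. Then v_K is composed from the valuation of K with ring the
localization (K°)_p and the valuation of the residue field of (K°)_p with ring K°/p, and similarly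
for v_L with (L°)_P and L°/P. If the induced homomorphisms (K°)_p → (L°)_P and K°/p → L°/P are both
étale, then K° → L° is étale. (For finite extensions of valued fields of finite height, being
unramified is the same as the map of valuation rings being étale, so this is the statement that an
extension composed from two unramified extensions is unramified.) -/
theorem result
    {K L Γ₀ Γ₁ : Type u} [Field K] [Field L] [Algebra K L] [FiniteDimensional K L]
    [LinearOrderedCommGroupWithZero Γ₀] [LinearOrderedCommGroupWithZero Γ₁]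
    (vK : Valuation K Γ₀) (vL : Valuation L Γ₁) [vK.HasExtension vL]
    [Finite (PrimeSpectrum vK.valuationSubring)] [Finite (PrimeSpectrum vL.valuationSubring)]
    (P : Ideal vL.valuationSubring) [P.IsPrime]
    (hA : (Localization.localRingHom (Ideal.comap (algebraMap vK.valuationSubring vL.valuationSubring) P) P
      (algebraMap vK.valuationSubring vL.valuationSubring) rfl).Etale)
    (hB : (Ideal.quotientMap P (algebraMap vK.valuationSubring vL.valuationSubring)
      (le_refl (Ideal.comap (algebraMap vK.valuationSubring vL.valuationSubring) P))).Etale) :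
    Algebra.Etale vK.valuationSubring vL.valuationSubring := by
  classical
  let A := vK.valuationSubring
  let D := vL.valuationSubring
  let φ : A →+* D := algebraMap A D
  let p : Ideal A := P.comap φ
  haveI : p.IsPrime := inferInstanceAs (P.comap φ).IsPrime
  haveI : P.LiesOver p := ⟨rfl⟩
  haveI : IsLocalHom (algebraMap A D) := inferInstance
  haveI : FaithfulSMul A D := (faithfulSMul_iff_algebraMap_injective A D).2 fun x y h =>
    Subtype.ext ((algebraMap K L).injective (congrArg Subtype.val h))
  have hinj : Function.Injective (algebraMap A D) := FaithfulSMul.algebraMap_injective A D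
  haveI : IsScalarTower A D L := .of_algebraMap_eq fun _ => rfl
  haveI : Algebra.IsAlgebraic A L := (IsFractionRing.comap_isAlgebraic_iff (A := A) (K := K) (C := L)).2 inferInstance
  have halg : ∀ x : FractionRing D, IsAlgebraic A x := fun x => by
    let e := (FractionRing.algEquiv D L).restrictScalars A
    exact (isAlgebraic_algHom_iff e.toAlgHom e.injective).1 (Algebra.IsAlgebraic.isAlgebraic (e x))
  have hkey : ∀ s : D, s ∉ P → ∃ (t : D) (a : A), a ∉ p ∧ s * t = φ a := by
    intro s hs
    obtain ⟨e, a, he, -, u, hu⟩ := ValEtaleLib.exists_pow_associated hinj halg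
      (fun h0 => hs (h0 ▸ P.zero_mem) : s ≠ 0)
    refine ⟨s ^ (e - 1) * u, a, fun ha => hs (‹P.IsPrime›.mem_of_pow_mem e ?_), ?_⟩
    · have h1 : (s ^ e * u : D) ∈ P := by rw [hu]; exact ha
      exact (Ideal.mul_unit_mem_iff_mem P u.isUnit).1 h1
    · rw [← mul_assoc, ← pow_succ', Nat.sub_add_cancel he, hu]
  let Ap := Localization.AtPrime p
  let DP := Localization.AtPrime P
  let fP : Ap →+* DP := Localization.localRingHom p P φ rfl
  letI : Algebra Ap DP := fP.toAlgebra
  haveI : Algebra.Etale Ap DP := hA
  haveI : IsLocalHom (algebraMap Ap DP) := Localization.isLocalHom_localRingHom p P φ rfl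
  let j : D →+* DP := algebraMap D DP
  have hfa : ∀ x : A, fP (algebraMap A Ap x) = j (φ x) := fun x => Localization.localRingHom_to_map p P φ rfl x
  have hjinj : Function.Injective j := IsLocalization.injective DP P.primeCompl_le_nonZeroDivisors
  have hjφ : ∀ a : A, a ∉ p → φ a ∉ P := fun a ha => ha
  -- divisibility by elements outside `p`
  have hdiv : ∀ (a : A), a ∉ p → ∀ q ∈ p, ∃ q' ∈ p, q = a * q' := by
    intro a ha q hq
    rcases ValuationRing.dvd_total a q with ⟨c, rfl⟩ | ⟨c, rfl⟩
    · exact ⟨c, (‹p.IsPrime›.mem_or_mem hq).resolve_left ha, rfl⟩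
    · exact absurd (Ideal.mul_mem_right _ _ hq) ha
  -- `P` is extended from `p`
  have hPp : P ≤ p.map φ := by
    intro x hx
    have h1 : j x ∈ (p.map φ).map j := by
      have h2 : j x ∈ IsLocalRing.maximalIdeal DP := by
        rw [← Localization.AtPrime.map_eq_maximalIdeal]; exact Ideal.mem_map_of_mem _ hx
      rw [← Algebra.FormallyUnramified.map_maximalIdeal (R := Ap) (S := DP),
        ← Localization.AtPrime.map_eq_maximalIdeal, Ideal.map_map] at h2
      rw [Ideal.map_map]
      have e : (algebraMap Ap DP).comp (algebraMap A Ap) = j.comp φ := RingHom.ext hfa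
      rwa [e] at h2
    obtain ⟨⟨y, s⟩, hys⟩ := (IsLocalization.mem_map_algebraMap_iff P.primeCompl DP).1 h1
    obtain ⟨t, a, ha, hst⟩ := hkey s s.2
    have h3 : x * φ a ∈ p.map φ := by
      have : x * s = y := hjinj (by rw [map_mul]; exact hys)
      rw [← hst, ← mul_assoc, this]
      exact Ideal.mul_mem_right _ _ y.2
    have h4 : p.map φ ≤ Ideal.span {φ a} * p.map φ := by
      refine Ideal.map_le_iff_le_comap.2 fun q hq => ?_
      obtain ⟨q', hq', rfl⟩ := hdiv a ha q hq
      show φ (a * q') ∈ (Ideal.span {φ a} * p.map φ : Ideal D)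
      rw [map_mul]
      exact Ideal.mul_mem_mul (Ideal.mem_span_singleton_self _) (Ideal.mem_map_of_mem _ hq')
    obtain ⟨z, hz, hzx⟩ := Ideal.mem_span_singleton_mul.1 (h4 h3)
    have hne : φ a ≠ 0 := fun h0 => hjφ a ha (h0 ▸ P.zero_mem)
    have : z = x := mul_left_cancel₀ hne (by rw [hzx, mul_comm])
    exact this ▸ hz
  -- finite type
  obtain ⟨G, hG⟩ := (inferInstance : Algebra.FiniteType Ap DP).out
  choose ga gw hga hgw using fun g : DP => exists_clear p P rfl hkey g
  let fB : (A ⧸ p) →+* (D ⧸ P) := Ideal.quotientMap P φ le_rfl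
  haveI : Algebra.Etale (A ⧸ p) (D ⧸ P) := RingHom.etale_algebraMap.1 (show (algebraMap (A ⧸ p) (D ⧸ P)).Etale from hB)
  obtain ⟨H, hH⟩ := (inferInstance : Algebra.FiniteType (A ⧸ p) (D ⧸ P)).out
  choose hl hhl using fun h : D ⧸ P => Ideal.Quotient.mk_surjective h
  let W : Subalgebra A D := Algebra.adjoin A ((G.image gw ∪ H.image hl : Finset D) : Set D)
  have hφW : ∀ a : A, φ a ∈ W := fun a => W.algebraMap_mem a
  have claim1 : ∀ z : DP, ∃ a : A, ∃ w ∈ W, a ∉ p ∧ z * j (φ a) = j w := by
    intro z
    have hz : z ∈ Algebra.adjoin Ap (G : Set DP) := hG ▸ Algebra.mem_top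
    induction hz using Algebra.adjoin_induction with
    | mem g hg =>
      exact ⟨ga g, gw g, Algebra.subset_adjoin (by simp only [Finset.coe_union, Finset.coe_image]; exact Or.inl ⟨g, hg, rfl⟩),
        hga g, hgw g⟩
    | algebraMap q =>
      obtain ⟨⟨c, s⟩, hcs⟩ := IsLocalization.surj p.primeCompl q
      refine ⟨s, φ c, hφW c, s.2, ?_⟩
      have := congrArg fP hcs
      rw [map_mul, hfa, hfa] at this
      exact this
    | add x y _ _ hx hy =>
      obtain ⟨a, w, hw, ha, e⟩ := hx
      obtain ⟨b, v, hv, hb, e'⟩ := hy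
      refine ⟨a * b, w * φ b + v * φ a, W.add_mem (W.mul_mem hw (hφW b)) (W.mul_mem hv (hφW a)),
        ‹p.IsPrime›.mul_notMem ha hb, ?_⟩
      simp only [map_mul, map_add, ← e, ← e']
      ring
    | mul x y _ _ hx hy =>
      obtain ⟨a, w, hw, ha, e⟩ := hx
      obtain ⟨b, v, hv, hb, e'⟩ := hy
      refine ⟨a * b, w * v, W.mul_mem hw hv, ‹p.IsPrime›.mul_notMem ha hb, ?_⟩
      simp only [map_mul, ← e, ← e']
      ring
  have claim2 : ∀ x ∈ P, x ∈ W := by
    intro x hx
    have hx' : x ∈ Submodule.span D (φ '' p) := hPp hx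
    suffices ∀ y ∈ Submodule.span D (φ '' p), ∀ d : D, d * y ∈ W by simpa using this x hx' 1
    intro y hy
    induction hy using Submodule.span_induction with
    | mem y hy =>
      obtain ⟨q, hq, rfl⟩ := hy
      intro d
      obtain ⟨a, w, hw, ha, e⟩ := claim1 (j d)
      rw [← map_mul] at e
      obtain ⟨q', -, rfl⟩ := hdiv a ha q hq
      rw [map_mul, ← mul_assoc, hjinj e]
      exact W.mul_mem hw (hφW q')
    | zero => intro d; rw [mul_zero]; exact W.zero_mem
    | add y z _ _ hy hz => intro d; rw [mul_add]; exact W.add_mem (hy d) (hz d)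
    | smul c y _ hy => intro d; rw [smul_eq_mul, ← mul_assoc]; exact hy _
  have claim3 : ∀ z : D ⧸ P, ∃ w ∈ W, Ideal.Quotient.mk P w = z := by
    intro z
    have hz : z ∈ Algebra.adjoin (A ⧸ p) (H : Set (D ⧸ P)) := hH ▸ Algebra.mem_top
    induction hz using Algebra.adjoin_induction with
    | mem h hh =>
      exact ⟨hl h, Algebra.subset_adjoin (by simp only [Finset.coe_union, Finset.coe_image]; exact Or.inr ⟨h, hh, rfl⟩),
        hhl h⟩
    | algebraMap q =>
      obtain ⟨c, rfl⟩ := Ideal.Quotient.mk_surjective q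
      exact ⟨φ c, hφW c, (Ideal.quotientMap_mk (H := le_rfl)).symm⟩
    | add x y _ _ hx hy =>
      obtain ⟨w, hw, rfl⟩ := hx
      obtain ⟨v, hv, rfl⟩ := hy
      exact ⟨w + v, W.add_mem hw hv, map_add _ _ _⟩
    | mul x y _ _ hx hy =>
      obtain ⟨w, hw, rfl⟩ := hx
      obtain ⟨v, hv, rfl⟩ := hy
      exact ⟨w * v, W.mul_mem hw hv, map_mul _ _ _⟩
  have hW : W = ⊤ := eq_top_iff.2 fun x _ => by
    obtain ⟨w, hw, e⟩ := claim3 (Ideal.Quotient.mk P x)
    have := claim2 _ (Ideal.Quotient.eq.1 e)
    simpa using W.sub_mem hw this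
  haveI : Algebra.FiniteType A D := ⟨_, hW⟩
  haveI : Module.IsTorsionFree A D := inferInstance
  haveI : Module.Flat A D := Module.Flat.flat_iff_torsion_eq_bot_of_isBezout.2 (Submodule.isTorsionFree_iff_torsion_eq_bot.1 inferInstance)
  haveI : Algebra.FinitePresentation A D := finitePresentation_of_flat
  -- unramified
  haveI : Algebra.FormallyUnramified A (A ⧸ p) := .quotient _
  haveI : Algebra.FormallyUnramified A (D ⧸ P) := .comp A (A ⧸ p) (D ⧸ P)
  haveI : Algebra.FormallyUnramified A D := by
    constructor
    have hker : RingHom.ker (algebraMap D (D ⧸ P)) = P := Ideal.mk_ker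
    have hsurj : Function.Surjective (algebraMap D (D ⧸ P)) := Ideal.Quotient.mk_surjective
    haveI : Subsingleton ((D ⧸ P) ⊗[D] Ω[D⁄A]) := by
      refine subsingleton_of_forall_eq 0 fun y => ?_
      obtain ⟨z, hz⟩ : y ∈ LinearMap.range (KaehlerDifferential.kerCotangentToTensor A D (D ⧸ P)) := by
        have : y ∈ (LinearMap.ker (KaehlerDifferential.mapBaseChange A D (D ⧸ P))).restrictScalars D :=
          Subsingleton.elim _ _
        rwa [← KaehlerDifferential.range_kerCotangentToTensor A D (D ⧸ P) hsurj] at this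
      obtain ⟨⟨x, hx⟩, rfl⟩ := Ideal.toCotangent_surjective _ z
      rw [← hz, KaehlerDifferential.kerCotangentToTensor_toCotangent]
      have hx' : x ∈ p.map φ := hPp (hker ▸ hx)
      suffices ∀ y ∈ Submodule.span D (φ '' p), (1 : D ⧸ P) ⊗ₜ[D] KaehlerDifferential.D A D y = 0 from this x hx'
      intro y hy
      induction hy using Submodule.span_induction with
      | mem y hy => obtain ⟨q, -, rfl⟩ := hy; rw [Derivation.map_algebraMap, tmul_zero]
      | zero => rw [map_zero, tmul_zero]
      | add y z _ _ hy hz => rw [map_add, tmul_add, hy, hz, add_zero]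
      | smul c y hy' hy =>
        have hyP : y ∈ P := Ideal.map_le_iff_le_comap.2 le_rfl hy'
        rw [smul_eq_mul, Derivation.leibniz, tmul_add, tmul_smul, hy, smul_zero, zero_add, ← smul_tmul,
          Algebra.smul_def, mul_one, Ideal.Quotient.algebraMap_eq, Ideal.Quotient.eq_zero_iff_mem.2 hyP, zero_tmul]
    haveI : Subsingleton (Ω[D⁄A] ⧸ (P • ⊤ : Submodule D Ω[D⁄A])) :=
      (TensorProduct.quotTensorEquivQuotSMul Ω[D⁄A] P).symm.subsingleton
    have htop : (P • ⊤ : Submodule D Ω[D⁄A]) = ⊤ := Submodule.Quotient.subsingleton_iff.1 inferInstance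
    have := Submodule.eq_bot_of_le_smul_of_le_jacobson_bot P (⊤ : Submodule D Ω[D⁄A]) Module.Finite.fg_top
      htop.ge ((IsLocalRing.le_maximalIdeal ‹P.IsPrime›.ne_top).trans (IsLocalRing.maximalIdeal_le_jacobson _))
    exact (Submodule.subsingleton_iff D).1 (subsingleton_of_bot_eq_top this.symm)
  exact (RingHom.etale_algebraMap.1 (RingHom.Etale.iff_flat_and_formallyUnramified.2
    ⟨RingHom.flat_algebraMap_iff.2 inferInstance, RingHom.formallyUnramified_algebraMap.2 inferInstance,
      RingHom.finitePresentation_algebraMap.2 inferInstance⟩))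


end Groth.Agent.S15283
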