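import Groth.Statements.S15285
import Mathlib
-- import your own Groth.Agent.* helpers here

set_option autoImplicit false
universe v v' u u'
open PicCat

namespace Groth.Agent.S15285

open CategoryTheory MonoidalCategory in
/-- Let C and D be Picard categories (monoidal groupoids in which tensoring on either side with any
object is an equivalence of categories) and F : C ⥤ D a lax monoidal functor. If F induces a
bijection on isomorphism classes of objects (it is essentially surjective, and F X ≅ F Y only when X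
≅ Y) and a bijection on endomorphisms of the unit object, then F is an equivalence of categories. -/
theorem result
    {C : Type u} [Category.{v} C] [MonoidalCategory C] [IsGroupoid C]
    {D : Type u'} [Category.{v'} D] [MonoidalCategory D] [IsGroupoid D]
    (hC : ∀ X : C, (tensorLeft X).IsEquivalence ∧ (tensorRight X).IsEquivalence)
    (hD : ∀ X : D, (tensorLeft X).IsEquivalence ∧ (tensorRight X).IsEquivalence)
    (F : C ⥤ D) [F.LaxMonoidal] [F.EssSurj]
    (h0 : ∀ X Y : C, Nonempty (F.obj X ≅ F.obj Y) → Nonempty (X ≅ Y))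
    (h1 : Function.Bijective (fun φ : 𝟙_ C ⟶ 𝟙_ C => F.map φ)) :
    F.IsEquivalence := by
  -- the automorphisms of an object are those of the unit
  let a : ∀ (X : C), (𝟙_ C ⟶ 𝟙_ C) → (X ⟶ X) := fun X φ => (λ_ X).inv ≫ φ ▷ X ≫ (λ_ X).hom
  have ha : ∀ X, Function.Surjective (a X) := fun X e => by
    haveI := (hC X).2
    refine ⟨(tensorRight X).preimage ((λ_ X).hom ≫ e ≫ (λ_ X).inv), ?_⟩
    have : (tensorRight X).preimage ((λ_ X).hom ≫ e ≫ (λ_ X).inv) ▷ X = (λ_ X).hom ≫ e ≫ (λ_ X).inv :=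
      (tensorRight X).map_preimage _
    simp [a, this]
  have hFa : ∀ X φ, F.map (a X φ) =
      F.map (λ_ X).inv ≫ inv (Functor.LaxMonoidal.μ F (𝟙_ C) X) ≫ F.map φ ▷ F.obj X ≫
        Functor.LaxMonoidal.μ F (𝟙_ C) X ≫ F.map (λ_ X).hom := fun X φ => by
    simp [a, Functor.LaxMonoidal.μ_natural_left_assoc]
  have hinj : ∀ X φ ψ, F.map (a X φ) = F.map (a X ψ) → φ = ψ := fun X φ ψ h => by
    haveI := (hD (F.obj X)).2
    rw [hFa, hFa, cancel_epi, cancel_epi, cancel_mono] at h
    exact h1.1 ((tensorRight (F.obj X)).map_injective h)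
  have hsurj : ∀ (X : C) (h : F.obj X ⟶ F.obj X), ∃ e, F.map e = h := fun X h => by
    haveI := (hD (F.obj X)).2
    obtain ⟨φ, hφ⟩ := h1.2 ((tensorRight (F.obj X)).preimage
      (Functor.LaxMonoidal.μ F (𝟙_ C) X ≫ F.map (λ_ X).hom ≫ h ≫ F.map (λ_ X).inv ≫
        inv (Functor.LaxMonoidal.μ F (𝟙_ C) X)))
    refine ⟨a X φ, ?_⟩
    have h' : F.map φ ▷ F.obj X = _ :=
      (congrArg (fun g => g ▷ F.obj X) hφ).trans ((tensorRight (F.obj X)).map_preimage _)
    rw [hFa, h']
    simp [← Functor.map_comp_assoc, ← Functor.map_comp]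
  haveI : F.Faithful := ⟨fun {X Y} f g h => by
    obtain ⟨φ, hφ⟩ := ha X (f ≫ inv g)
    obtain ⟨ψ, hψ⟩ := ha X (𝟙 X)
    have : φ = ψ := hinj X φ ψ (by rw [hφ, hψ, F.map_comp, h, F.map_inv, IsIso.hom_inv_id, F.map_id])
    rw [this, hψ] at hφ
    exact (IsIso.comp_inv_eq g).1 hφ.symm |>.trans (Category.id_comp g)⟩
  haveI : F.Full := ⟨fun {X Y} h => by
    obtain ⟨e⟩ := h0 X Y ⟨asIso h⟩
    obtain ⟨f, hf⟩ := hsurj X (h ≫ inv (F.map e.hom))
    exact ⟨f ≫ e.hom, by rw [F.map_comp, hf, Category.assoc, IsIso.inv_hom_id, Category.comp_id]⟩⟩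
  exact { }

end Groth.Agent.S15285
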