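import Groth.Statements.S15286
import Mathlib
-- import your own Groth.Agent.* helpers here

set_option autoImplicit false
set_option backward.isDefEq.respectTransparency false
set_option maxHeartbeats 800000
set_option synthInstance.maxHeartbeats 200000
universe v v' u u'
open PicCat

namespace Groth.Agent.S15286

section Act
open CategoryTheory MonoidalCategory

variable {D : Type u'} [Category.{v'} D] [MonoidalCategory D]

/-- The action of an endomorphism of the unit on an object. -/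
def act (a : 𝟙_ D ⟶ 𝟙_ D) (Z : D) : Z ⟶ Z := (λ_ Z).inv ≫ (a ▷ Z) ≫ (λ_ Z).hom

theorem act_id (Z : D) : act (𝟙 (𝟙_ D)) Z = 𝟙 Z := by simp [act]

theorem act_comp (a b : 𝟙_ D ⟶ 𝟙_ D) (Z : D) : act a Z ≫ act b Z = act (a ≫ b) Z := by
  simp [act]

theorem act_natural (a : 𝟙_ D ⟶ 𝟙_ D) {Z W : D} (f : Z ⟶ W) : act a Z ≫ f = f ≫ act a W := by
  simp only [act, Category.assoc]
  rw [← leftUnitor_naturality f, ← whisker_exchange_assoc, leftUnitor_inv_naturality_assoc]

theorem act_bijective (Z : D) (h : (tensorRight Z).IsEquivalence) :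
    Function.Bijective fun a : 𝟙_ D ⟶ 𝟙_ D => act a Z := by
  have := h
  have e : Function.Bijective fun a : 𝟙_ D ⟶ 𝟙_ D => (tensorRight Z).map a :=
    ⟨(tensorRight Z).map_injective, (tensorRight Z).map_surjective⟩
  have e' : Function.Bijective fun x : 𝟙_ D ⊗ Z ⟶ 𝟙_ D ⊗ Z => (λ_ Z).inv ≫ x ≫ (λ_ Z).hom :=
    ((λ_ Z).conj.toEquiv).bijective
  exact e'.comp e

theorem act_tensor_left (a : 𝟙_ D ⟶ 𝟙_ D) (Z W : D) : act a Z ▷ W = act a (Z ⊗ W) := by
  simp [act]

theorem act_tensor_right [BraidedCategory D] (b : 𝟙_ D ⟶ 𝟙_ D) (Z W : D) : Z ◁ act b W = act b (Z ⊗ W) := by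
  rw [← cancel_epi (β_ W Z).hom, ← BraidedCategory.braiding_naturality_left, act_tensor_left, act_natural]

theorem act_tensorHom [BraidedCategory D] (a b : 𝟙_ D ⟶ 𝟙_ D) (Z W : D) :
    (act a Z ⊗ₘ act b W) = act (a ≫ b) (Z ⊗ W) := by
  rw [MonoidalCategory.tensorHom_def, act_tensor_left, act_tensor_right, act_comp]

theorem comp_comm (h : ∀ Z : D, (tensorRight Z).IsEquivalence) (a b : 𝟙_ D ⟶ 𝟙_ D) : a ≫ b = b ≫ a :=
  (act_bijective (𝟙_ D) (h _)).1 (by
    show act (a ≫ b) _ = act (b ≫ a) _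
    rw [← act_comp, ← act_comp, act_natural])

end Act


open CategoryTheory MonoidalCategory in
/-- Let C be a Picard category, D a commutative (braided) Picard category, F, G : C ⥤ D lax monoidal
functors and θ₀ : F ⟶ G a monoidal natural transformation. Identify an endomorphism φ of the unit of
D with the automorphism λ⁻¹ ≫ (φ ▷ Z) ≫ λ of any object Z. Then the monoidal natural transformations
F ⟶ G form a torsor under the monoid homomorphisms χ from the monoid of isomorphism classes of C to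
End(𝟙_D): every monoidal θ : F ⟶ G is X ↦ θ₀_X ≫ (action of χ[X] on G X) for a unique such χ, and
for every χ this formula defines a monoidal natural transformation. (The published statement allows
D non-commutative; for a non-braided monoidal groupoid the classes so obtained are crossed rather
than plain homomorphisms, so D is taken braided here.) -/
theorem result
    {C : Type u} [Category.{v} C] [MonoidalCategory C] [IsGroupoid C]
    {D : Type u'} [Category.{v'} D] [MonoidalCategory D] [BraidedCategory D] [IsGroupoid D]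
    (hC : ∀ X : C, (tensorLeft X).IsEquivalence ∧ (tensorRight X).IsEquivalence)
    (hD : ∀ X : D, (tensorLeft X).IsEquivalence ∧ (tensorRight X).IsEquivalence)
    (F G : C ⥤ D) [F.LaxMonoidal] [G.LaxMonoidal] (θ₀ : F ⟶ G) [NatTrans.IsMonoidal θ₀] :
    (∀ θ : F ⟶ G, NatTrans.IsMonoidal θ →
      ∃! χ : Skeleton C →* End (𝟙_ D), ∀ X : C,
        θ.app X = θ₀.app X ≫ (λ_ (G.obj X)).inv ≫
          ((χ (toSkeleton X) : 𝟙_ D ⟶ 𝟙_ D) ▷ G.obj X) ≫ (λ_ (G.obj X)).hom) ∧
    (∀ χ : Skeleton C →* End (𝟙_ D), ∃ θ : F ⟶ G, NatTrans.IsMonoidal θ ∧ ∀ X : C,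
        θ.app X = θ₀.app X ≫ (λ_ (G.obj X)).inv ≫
          ((χ (toSkeleton X) : 𝟙_ D ⟶ 𝟙_ D) ▷ G.obj X) ≫ (λ_ (G.obj X)).hom) := by
    have hb : ∀ Z : D, Function.Bijective fun a : 𝟙_ D ⟶ 𝟙_ D => act a Z := fun Z => act_bijective Z (hD Z).2
    have hmul : ∀ a b : End (𝟙_ D), a * b = ((a : 𝟙_ D ⟶ 𝟙_ D) ≫ b : 𝟙_ D ⟶ 𝟙_ D) := fun a b =>
      comp_comm (fun Z => (hD Z).2) b a
    refine ⟨fun θ hθ => ?_, fun χ => ?_⟩
    · choose c hc using fun X : C => (hb (G.obj X)).2 (inv (θ₀.app X) ≫ θ.app X)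
      have hc' : ∀ X, θ.app X = θ₀.app X ≫ act (c X) (G.obj X) := fun X => by
        simp only at hc
        rw [hc, IsIso.hom_inv_id_assoc]
      have hiso : ∀ X Y : C, (X ≅ Y) → c X = c Y := fun X Y i => (hb (G.obj Y)).1 (by
        show act (c X) (G.obj Y) = act (c Y) (G.obj Y)
        have h1 := θ.naturality i.hom
        rw [hc', hc', θ₀.naturality_assoc, Category.assoc, cancel_epi (θ₀.app X), act_natural,
          cancel_epi (G.map i.hom)] at h1
        exact h1.symm)
      have h1 : c (𝟙_ C) = 𝟙 _ := (hb (G.obj (𝟙_ C))).1 (by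
        show act _ _ = act _ _
        have h1 := hθ.unit
        rw [hc', NatTrans.IsMonoidal.unit_assoc] at h1
        rw [act_id]
        exact (cancel_epi (Functor.LaxMonoidal.ε G)).1 (h1.trans (Category.comp_id _).symm))
      have h2 : ∀ X Y, c (X ⊗ Y) = c X ≫ c Y := fun X Y => (hb (G.obj (X ⊗ Y))).1 (by
        show act _ _ = act _ _
        have h1 := hθ.tensor X Y
        rw [hc', NatTrans.IsMonoidal.tensor_assoc, hc', hc', ← tensorHom_comp_tensorHom, Category.assoc,
          cancel_epi (θ₀.app X ⊗ₘ θ₀.app Y), act_tensorHom, act_natural,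
          cancel_epi (Functor.LaxMonoidal.μ G X Y)] at h1
        exact h1)
      let χ : Skeleton C →* End (𝟙_ D) :=
        { toFun := fun q => c q.out
          map_one' := (hiso _ _ (fromSkeletonToSkeletonIso _)).trans h1
          map_mul' := fun q q' => by
            rw [hmul, Skeleton.mul_eq]
            exact (hiso _ _ (fromSkeletonToSkeletonIso _)).trans (h2 _ _) }
      have hχ : ∀ X, (χ (toSkeleton X) : 𝟙_ D ⟶ 𝟙_ D) = c X := fun X => hiso _ _ (fromSkeletonToSkeletonIso X)
      refine ⟨χ, fun X => ?_, fun χ' h' => MonoidHom.ext fun q => ?_⟩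
      · show θ.app X = θ₀.app X ≫ act (χ (toSkeleton X) : 𝟙_ D ⟶ 𝟙_ D) (G.obj X)
        rw [hχ, hc']
      · obtain ⟨X, rfl⟩ := Quotient.exists_rep q
        refine (hb (G.obj X)).1 ((cancel_epi (θ₀.app X)).1 ((h' X).symm.trans ?_))
        show θ.app X = θ₀.app X ≫ act (χ (toSkeleton X) : 𝟙_ D ⟶ 𝟙_ D) (G.obj X)
        rw [hχ, hc']
    · let a : C → (𝟙_ D ⟶ 𝟙_ D) := fun X => χ (toSkeleton X)
      have h1 : a (𝟙_ C) = 𝟙 _ := by
        show χ (toSkeleton (𝟙_ C)) = _
        rw [← Skeleton.one_eq, map_one]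
        rfl
      have h2 : ∀ X Y, a (X ⊗ Y) = a X ≫ a Y := fun X Y => by
        show χ (toSkeleton (X ⊗ Y)) = _
        rw [Skeleton.toSkeleton_tensorObj, map_mul]
        exact hmul _ _
      let θ : F ⟶ G :=
        { app := fun X => θ₀.app X ≫ act (a X) (G.obj X)
          naturality := fun X Y f => by
            have e : a X = a Y := congrArg χ (Quotient.sound ⟨asIso f⟩)
            rw [θ₀.naturality_assoc, Category.assoc, ← act_natural, e] }
      refine ⟨θ, ⟨?_, fun X Y => ?_⟩, fun X => rfl⟩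
      · show _ ≫ θ₀.app _ ≫ act (a (𝟙_ C)) _ = _
        rw [h1, act_id, Category.comp_id, NatTrans.IsMonoidal.unit]
      · show _ ≫ θ₀.app _ ≫ act (a (X ⊗ Y)) _ = ((θ₀.app X ≫ act (a X) _) ⊗ₘ (θ₀.app Y ≫ act (a Y) _)) ≫ _
        rw [h2, NatTrans.IsMonoidal.tensor_assoc, ← tensorHom_comp_tensorHom, Category.assoc, act_tensorHom,
          act_natural]

end Groth.Agent.S15286
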