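import Groth.Statements.S1529
import Mathlib
-- import your own Groth.Agent.* helpers here

set_option autoImplicit false
universe u
open CategoryTheory CategoryTheory.Limits AlgebraicGeometry
open Variety

namespace Groth.Agent.S1529

/-- A scheme of finite type over a field whose underlying topological space has Krull dimension at most
zero is affine, and its structure morphism is finite. -/
theorem result (k : Type u) [Field k] (X : Scheme.{u}) [X.Over (Spec (CommRingCat.of k))]
    [LocallyOfFiniteType (X ↘ (Spec (CommRingCat.of k)))] [QuasiCompact (X ↘ (Spec (CommRingCat.of k)))]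
    (hdim : topologicalKrullDim X ≤ 0) :
    IsAffine X ∧ IsFinite (X ↘ (Spec (CommRingCat.of k))) := by
  haveI : IsLocallyNoetherian X := LocallyOfFiniteType.isLocallyNoetherian (X ↘ Spec (CommRingCat.of k))
  haveI : CompactSpace X := QuasiCompact.compactSpace_of_compactSpace (X ↘ Spec (CommRingCat.of k))
  haveI : IsLocallyArtinian X := .of_topologicalKrullDim_le_zero hdim
  haveI : IsArtinianScheme X := { }
  haveI : IsLocallyArtinian (Spec (CommRingCat.of k)) := Scheme.isLocallyArtinianScheme_Spec.mpr inferInstance
  haveI : LocallyQuasiFinite (X ↘ Spec (CommRingCat.of k)) :=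
    LocallyQuasiFinite.of_finite_preimage_singleton _ fun x => Set.toFinite _
  haveI hf : IsFinite (X ↘ Spec (CommRingCat.of k)) := IsFinite.of_locallyQuasiFinite _
  exact ⟨isAffine_of_isAffineHom (X ↘ Spec (CommRingCat.of k)), hf⟩

end Groth.Agent.S1529
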