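import Mathlib
import Groth.Statements.S15298
-- import your own Groth.Agent.* helpers here

set_option autoImplicit false
universe u
open CAlg

namespace Groth.Agent.S15298

/-- Let k be a field, A a Noetherian k-algebra and x a non-zero-divisor of A such that A is separated
and complete for the (x)-adic topology, and assume that B = A/xA is formally smooth over k. Then A
is a power series ring over B in the variable x: there is a k-algebra isomorphism e : B[[T]] ≅ A
with e(T) = x whose reduction modulo x is the constant-coefficient map, i.e. e(f) ≡ f(0) mod x for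
every power series f. -/
theorem result (k A : Type u) [Field k]
    [CommRing A] [Algebra k A] [IsNoetherianRing A] (x : A) (hx : x ∈ nonZeroDivisors A)
    [IsAdicComplete (Ideal.span {x}) A] [Algebra.FormallySmooth k (A ⧸ Ideal.span {x})] :
    ∃ e : PowerSeries (A ⧸ Ideal.span {x}) ≃ₐ[k] A,
      e PowerSeries.X = x ∧
      ∀ f : PowerSeries (A ⧸ Ideal.span {x}),
        Ideal.Quotient.mk (Ideal.span {x}) (e f) = PowerSeries.constantCoeff f := by
  classical
  set I := Ideal.span {x} with hI
  obtain ⟨σ, hσ⟩ := Algebra.FormallySmooth.exists_mkₐ_comp_eq_of_isAdicComplete (R := k)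
    (A := A ⧸ I) (S := A) (I := I) (AlgHom.id k _)
  have hσ' : ∀ b : A ⧸ I, Ideal.Quotient.mk I (σ b) = b := fun b => congr($hσ b)
  have hmem : ∀ (n : ℕ) (a : A), a ∈ I ^ n ↔ x ^ n ∣ a := fun n a => by
    show a ∈ (Ideal.span {x}) ^ n ↔ _
    rw [Ideal.span_singleton_pow, Ideal.mem_span_singleton]
  let ev : Polynomial (A ⧸ I) →+* A := Polynomial.eval₂RingHom σ.toRingHom x
  have hev : ∀ (n : ℕ) (p : Polynomial (A ⧸ I)),
      Ideal.Quotient.mk (I ^ n) (ev (PowerSeries.trunc n (p : PowerSeries (A ⧸ I)))) =
        Ideal.Quotient.mk (I ^ n) (ev p) := by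
    intro n p
    rw [Ideal.Quotient.eq]
    have hd : (Polynomial.X : Polynomial (A ⧸ I)) ^ n ∣
        PowerSeries.trunc n (p : PowerSeries (A ⧸ I)) - p := by
      rw [Polynomial.X_pow_dvd_iff]
      intro i hi
      rw [Polynomial.coeff_sub, PowerSeries.coeff_trunc, if_pos hi, Polynomial.coeff_coe, sub_self]
    rw [← map_sub, hmem]
    have := map_dvd ev hd
    rwa [map_pow, show ev Polynomial.X = x from Polynomial.eval₂_X _ _] at this
  let f : (n : ℕ) → PowerSeries (A ⧸ I) →+* A ⧸ I ^ n := fun n =>
    { toFun := fun p => Ideal.Quotient.mk (I ^ n) (ev (PowerSeries.trunc n p))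
      map_one' := by
        rw [← Polynomial.coe_one, hev, map_one, map_one]
      map_mul' := fun p q => by
        rw [← map_mul, ← map_mul, ← PowerSeries.trunc_trunc_mul_trunc, ← Polynomial.coe_mul, hev]
      map_zero' := by simp
      map_add' := fun p q => by simp }
  have hf : ∀ {m n : ℕ} (hle : m ≤ n), (Ideal.Quotient.factorPow I hle).comp (f n) = f m := by
    intro m n hle
    ext p
    simp only [RingHom.coe_comp, Function.comp_apply, f, RingHom.coe_mk, MonoidHom.coe_mk,
      OneHom.coe_mk, Ideal.Quotient.factor_mk]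
    rw [← hev m (PowerSeries.trunc n p), PowerSeries.trunc_trunc_of_le p hle]
  let e₀ := IsAdicComplete.liftRingHom I f hf
  have he : ∀ n p, Ideal.Quotient.mk (I ^ n) (e₀ p) =
      Ideal.Quotient.mk (I ^ n) (ev (PowerSeries.trunc n p)) := fun n p =>
    IsAdicComplete.mk_liftRingHom I f hf n p
  have hhaus : ∀ a b : A, (∀ n, Ideal.Quotient.mk (I ^ n) a = Ideal.Quotient.mk (I ^ n) b) →
      a = b := by
    intro a b h
    rw [← sub_eq_zero]
    refine IsHausdorff.haus' (I := I) (a - b) fun n => ?_
    rw [SModEq.zero, smul_eq_mul, Ideal.mul_top, ← Ideal.Quotient.eq]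
    exact h n
  have hcoe : ∀ p : Polynomial (A ⧸ I), e₀ (p : PowerSeries (A ⧸ I)) = ev p := fun p =>
    hhaus _ _ fun n => by rw [he, hev]
  have hX : e₀ PowerSeries.X = x := by
    rw [← Polynomial.coe_X, hcoe]; exact Polynomial.eval₂_X _ _
  have hC : ∀ b, e₀ (PowerSeries.C b) = σ b := fun b => by
    rw [← Polynomial.coe_C, hcoe]; exact Polynomial.eval₂_C _ _
  have hconst : ∀ p, Ideal.Quotient.mk I (e₀ p) = PowerSeries.constantCoeff p := by
    intro p
    have h := Ideal.Quotient.eq.mp (he 1 p)
    rw [pow_one, ← Ideal.Quotient.eq] at h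
    rw [h, PowerSeries.trunc_one_left]
    refine (congrArg _ (Polynomial.eval₂_C _ _)).trans ((hσ' _).trans ?_)
    simp
  let E : PowerSeries (A ⧸ I) →ₐ[k] A :=
    { e₀ with
      commutes' := fun r => by
        show e₀ (algebraMap k (PowerSeries (A ⧸ I)) r) = algebraMap k A r
        rw [IsScalarTower.algebraMap_apply k (A ⧸ I) (PowerSeries (A ⧸ I)),
          ← PowerSeries.C_eq_algebraMap, hC, σ.commutes] }
  have hinj : Function.Injective E := by
    rw [injective_iff_map_eq_zero]
    intro p hp
    have hk : ∀ k : ℕ, PowerSeries.X ^ k ∣ p := by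
      intro k
      induction k with
      | zero => simp
      | succ k ih =>
        obtain ⟨g, rfl⟩ := ih
        have hg : e₀ g = 0 := by
          have : x ^ k * e₀ g = 0 := by rw [← hX, ← map_pow, ← map_mul]; exact hp
          exact (mul_right_mem_nonZeroDivisors_eq_zero_iff (pow_mem hx k)).mp
            (by rwa [mul_comm])
        rw [pow_succ]
        refine mul_dvd_mul_left _ (PowerSeries.X_dvd_iff.mpr ?_)
        rw [← hconst, hg, map_zero]
    ext i
    exact PowerSeries.X_pow_dvd_iff.mp (hk (i + 1)) i (Nat.lt_succ_self i)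
  have hsurj : Function.Surjective E := by
    intro a
    have hstep : ∀ a : A, ∃ b : A, a = σ (Ideal.Quotient.mk I a) + x * b := by
      intro a
      have : a - σ (Ideal.Quotient.mk I a) ∈ I := by rw [← Ideal.Quotient.eq, hσ']
      obtain ⟨b, hb⟩ := (hmem 1 _).mp (by rwa [pow_one])
      exact ⟨b, by linear_combination hb⟩
    choose g hg using hstep
    let s : ℕ → A := fun n => g^[n] a
    let p : PowerSeries (A ⧸ I) := PowerSeries.mk fun n => Ideal.Quotient.mk I (s n)
    have hs : ∀ n, a = ev (PowerSeries.trunc n p) + x ^ n * s n := by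
      intro n
      induction n with
      | zero => simp [s]
      | succ n ih =>
        rw [PowerSeries.trunc_succ, map_add, show s (n + 1) = g (s n) from
          Function.iterate_succ_apply' g n a, pow_succ, mul_assoc, add_assoc]
        have : ev (Polynomial.monomial n (PowerSeries.coeff n p)) =
            σ (Ideal.Quotient.mk I (s n)) * x ^ n := by
          simp [ev, p]
        rw [this, mul_comm (σ _), ← mul_add, ← hg]
        exact ih
    refine ⟨p, hhaus _ _ fun n => ?_⟩
    rw [show E p = e₀ p from rfl, he, Ideal.Quotient.eq, hmem]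
    exact ⟨-s n, by linear_combination (hs n).symm⟩
  exact ⟨AlgEquiv.ofBijective E ⟨hinj, hsurj⟩, hX, hconst⟩

end Groth.Agent.S15298
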