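import Groth.Statements.S15299
import Mathlib.RingTheory.Kaehler.Polynomial
import Mathlib.LinearAlgebra.CliffordAlgebra.Contraction
import Mathlib.LinearAlgebra.Eigenspace.Basic
import Mathlib.RingTheory.MvPolynomial.EulerIdentity
import Mathlib.Tactic

set_option autoImplicit false
universe u
open Omega

namespace Groth.Agent.S15299

/-- Let k be a field of characteristic zero, A = k[x_1, …, x_n] and Ω = Ω_{A/k}. Let d be a k-linear
endomorphism of the exterior algebra ⋀_A Ω which agrees with the universal derivation on A, sends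
⋀^p Ω into ⋀^(p+1) Ω, is a graded derivation and satisfies d ∘ d = 0 (these properties characterise
the de Rham differential). Then the de Rham complex 0 → k → A → Ω → ⋀^2 Ω → ⋯ → ⋀^n Ω → 0 is exact:
an element of A with d a = 0 is a constant, and every d-closed element of ⋀^(p+1) Ω is d of some
element of ⋀^p Ω. -/
theorem result (k : Type u) [Field k] [CharZero k] (n : ℕ)
    (d : ExteriorAlgebra (MvPolynomial (Fin n) k) (KaehlerDifferential k (MvPolynomial (Fin n) k)) →ₗ[k]
      ExteriorAlgebra (MvPolynomial (Fin n) k) (KaehlerDifferential k (MvPolynomial (Fin n) k)))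
    (h0 : ∀ a : MvPolynomial (Fin n) k,
      d (algebraMap (MvPolynomial (Fin n) k) _ a) =
        ExteriorAlgebra.ι (MvPolynomial (Fin n) k) (KaehlerDifferential.D k (MvPolynomial (Fin n) k) a))
    (hdeg : ∀ (p : ℕ) (ω : ExteriorAlgebra (MvPolynomial (Fin n) k) (KaehlerDifferential k (MvPolynomial (Fin n) k))),
      ω ∈ ExteriorAlgebra.exteriorPower (MvPolynomial (Fin n) k) p (KaehlerDifferential k (MvPolynomial (Fin n) k)) →
        d ω ∈ ExteriorAlgebra.exteriorPower (MvPolynomial (Fin n) k) (p + 1) (KaehlerDifferential k (MvPolynomial (Fin n) k)))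
    (hder : ∀ (p : ℕ) (ω η : ExteriorAlgebra (MvPolynomial (Fin n) k) (KaehlerDifferential k (MvPolynomial (Fin n) k))),
      ω ∈ ExteriorAlgebra.exteriorPower (MvPolynomial (Fin n) k) p (KaehlerDifferential k (MvPolynomial (Fin n) k)) →
        d (ω * η) = d ω * η + (-1) ^ p * ω * d η)
    (hdd : ∀ ω, d (d ω) = 0) :
    (∀ a : MvPolynomial (Fin n) k, d (algebraMap (MvPolynomial (Fin n) k) _ a) = 0 →
        ∃ c : k, a = MvPolynomial.C c) ∧
    ∀ (p : ℕ) (ω : ExteriorAlgebra (MvPolynomial (Fin n) k) (KaehlerDifferential k (MvPolynomial (Fin n) k))),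
      ω ∈ ExteriorAlgebra.exteriorPower (MvPolynomial (Fin n) k) (p + 1) (KaehlerDifferential k (MvPolynomial (Fin n) k)) →
        d ω = 0 →
          ∃ θ ∈ ExteriorAlgebra.exteriorPower (MvPolynomial (Fin n) k) p (KaehlerDifferential k (MvPolynomial (Fin n) k)),
            d θ = ω := by
  classical
  let A := MvPolynomial (Fin n) k
  let M := KaehlerDifferential k A
  let Ext := ExteriorAlgebra A M
  let ι₁ : M →ₗ[A] Ext := ExteriorAlgebra.ι A
  let DD : Derivation k A M := KaehlerDifferential.D k A
  let Eu : Derivation k A A := ∑ i : Fin n, (MvPolynomial.X i : A) • MvPolynomial.pderiv i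
  let φ : Module.Dual A M := Eu.liftKaehlerDifferential
  let h : Ext →ₗ[A] Ext := CliffordAlgebra.contractLeft (Q := (0 : QuadraticForm A M)) φ
  have hφD : ∀ a : A, φ (DD a) = Eu a := fun a => Derivation.liftKaehlerDifferential_comp_D Eu a
  have hι : ∀ (x : M) (η : Ext), h (ι₁ x * η) = φ x • η - ι₁ x * h η := fun x η =>
    CliffordAlgebra.contractLeft_ι_mul (Q := (0 : QuadraticForm A M)) φ x η
  have halg : ∀ a : A, h (algebraMap A Ext a) = 0 := fun a =>
    CliffordAlgebra.contractLeft_algebraMap (Q := (0 : QuadraticForm A M)) φ a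
  let P : ℕ → Submodule A Ext := fun p => ExteriorAlgebra.exteriorPower A p M
  have hP0 : ∀ a : A, algebraMap A Ext a ∈ P 0 := fun a => by
    show algebraMap A Ext a ∈ LinearMap.range ι₁ ^ 0
    rw [pow_zero]; exact Submodule.mem_one.2 ⟨a, rfl⟩
  have hP1 : ∀ x : M, ι₁ x ∈ P 1 := fun x => by
    show ι₁ x ∈ LinearMap.range ι₁ ^ 1
    rw [pow_one]; exact ⟨x, rfl⟩
  have hd1 : ∀ a : A, d (ι₁ (DD a)) = 0 := fun a => by
    rw [← h0 a]; exact hdd _
  have hdsmul : ∀ (a : A) (η : Ext), d (a • η) = ι₁ (DD a) * η + a • d η := by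
    intro a η
    rw [Algebra.smul_def, Algebra.smul_def, hder 0 _ η (hP0 a), h0, pow_zero, one_mul]
  have hdι : ∀ (a : A) (η : Ext), d (ι₁ (DD a) * η) = -(ι₁ (DD a) * d η) := by
    intro a η
    rw [hder 1 _ η (hP1 _), hd1, zero_mul, zero_add, pow_one, neg_one_mul, neg_mul]
  let L : Ext → Ext := fun η => d (h η) + h (d η)
  have hLι : ∀ (a : A) (η : Ext), L (ι₁ (DD a) * η) = ι₁ (DD (Eu a)) * η + ι₁ (DD a) * L η := by
    intro a η
    simp only [L, hι, hdι, map_sub, map_neg, hdsmul, hφD, mul_add]
    abel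
  have hLsmul : ∀ (a : A) (η : Ext), L (a • η) = Eu a • η + a • L η := by
    intro a η
    simp only [L, map_smul, hdsmul, map_add, hι, hφD, smul_add]
    abel
  let Lk : Ext →ₗ[k] Ext := d.comp (h.restrictScalars k) + (h.restrictScalars k).comp d
  have hLk : ∀ η, Lk η = L η := fun η => rfl
  -- weights
  have hEu : ∀ (m : Fin n →₀ ℕ) (c : k),
      Eu (MvPolynomial.monomial m c) = (m.degree : k) • MvPolynomial.monomial m c := by
    intro m c
    have h1 := (MvPolynomial.isHomogeneous_monomial (R := k) c (rfl : m.degree = m.degree)).sum_X_mul_pderiv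
    rw [Nat.cast_smul_eq_nsmul, ← h1]
    show Derivation.coeFnAddMonoidHom (∑ i : Fin n, (MvPolynomial.X i : A) • MvPolynomial.pderiv i) _ = _
    rw [map_sum, Finset.sum_apply]
    rfl
  let G : ℕ → Submodule k Ext := fun p =>
    ⨆ (w : ℕ) (_ : p ≤ w), Module.End.eigenspace Lk (w : k) ⊓ (P p).restrictScalars k
  have hG : ∀ (p : ℕ) (η : Ext) (w : ℕ), p ≤ w → Lk η = (w : k) • η →
      η ∈ P p → η ∈ G p := by
    intro p η w hw hη hp
    exact Submodule.mem_iSup_of_mem w (Submodule.mem_iSup_of_mem hw
      ⟨Module.End.mem_eigenspace_iff.2 hη, hp⟩)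
  have hGsmul : ∀ (p : ℕ) (a : A) (η : Ext), η ∈ G p → a • η ∈ G p := by
    intro p a η hη
    induction a using MvPolynomial.induction_on' with
    | monomial m c =>
      induction hη using Submodule.iSup_induction' with
      | mem w η hη =>
        by_cases hw : p ≤ w
        · rw [iSup_pos hw, Submodule.mem_inf, Module.End.mem_eigenspace_iff, Submodule.restrictScalars_mem] at hη
          obtain ⟨hη, hp⟩ := hη
          refine hG p _ (m.degree + w) (le_add_left hw) ?_ (Submodule.smul_mem _ _ hp)
          rw [hLk, hLsmul, hEu, ← hLk, hη, smul_assoc, smul_comm _ (w : k), Nat.cast_add, add_smul]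
        · rw [iSup_neg hw, Submodule.mem_bot] at hη
          rw [hη, smul_zero]; exact zero_mem _
      | zero => rw [smul_zero]; exact zero_mem _
      | add x y _ _ hx hy => rw [smul_add]; exact add_mem hx hy
    | add a b ha hb => rw [add_smul]; exact add_mem ha hb
  have hGX : ∀ (p : ℕ) (i : Fin n) (η : Ext), η ∈ G p →
      ι₁ (DD (MvPolynomial.X i)) * η ∈ G (p + 1) := by
    intro p i η hη
    induction hη using Submodule.iSup_induction' with
    | mem w η hη =>
      by_cases hw : p ≤ w
      · rw [iSup_pos hw, Submodule.mem_inf, Module.End.mem_eigenspace_iff, Submodule.restrictScalars_mem] at hη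
        obtain ⟨hη, hp⟩ := hη
        refine hG _ _ (1 + w) (by omega) ?_ (by
          show _ ∈ LinearMap.range ι₁ ^ (p + 1)
          rw [pow_succ']
          exact Submodule.mul_mem_mul ⟨_, rfl⟩ hp)
        have hX : Eu (MvPolynomial.X i) = MvPolynomial.X i := by
          have := hEu (Finsupp.single i 1) 1
          simpa [MvPolynomial.X] using this
        rw [hLk, hLι, hX, ← hLk, hη, mul_smul_comm, Nat.cast_add, Nat.cast_one, add_smul, one_smul]
      · rw [iSup_neg hw, Submodule.mem_bot] at hη
        rw [hη, mul_zero]; exact zero_mem _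
    | zero => rw [mul_zero]; exact zero_mem _
    | add x y _ _ hx hy => rw [mul_add]; exact add_mem hx hy
  have hone : (1 : Ext) ∈ G 0 := by
    refine hG 0 1 0 le_rfl ?_ (by
      have := hP0 1
      rwa [map_one] at this)
    have h1 : d (1 : Ext) = 0 := by
      have := h0 1
      rw [map_one, Derivation.map_one_eq_zero, map_zero] at this
      exact this
    have h2 : h (1 : Ext) = 0 := by
      have := halg 1
      rwa [map_one] at this
    simp [hLk, L, h1, h2]
  have hspan : ∀ (p : ℕ) (ω : Ext), ω ∈ P p → ω ∈ G p := by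
    intro p
    induction p with
    | zero =>
      intro ω hω
      have hω' : ω ∈ LinearMap.range ι₁ ^ 0 := hω
      rw [pow_zero, Submodule.mem_one] at hω'
      obtain ⟨a, rfl⟩ := hω'
      rw [Algebra.algebraMap_eq_smul_one]
      exact hGsmul 0 a 1 hone
    | succ p ih =>
      intro ω hω
      have hω' : ω ∈ LinearMap.range ι₁ ^ (p + 1) := hω
      rw [pow_succ'] at hω'
      clear hω
      induction hω' using Submodule.mul_induction_on' with
      | mem_mul_mem x hx η hη =>
        obtain ⟨x, rfl⟩ := hx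
        rw [← (KaehlerDifferential.mvPolynomialBasis k (Fin n)).sum_repr x, map_sum, Finset.sum_mul]
        refine sum_mem fun i _ => ?_
        have hb : KaehlerDifferential.mvPolynomialBasis k (Fin n) i = DD (MvPolynomial.X i) :=
          (KaehlerDifferential.mvPolynomialBasis k (Fin n)).repr.injective
            ((Module.Basis.repr_self _ i).trans (KaehlerDifferential.mvPolynomialBasis_repr_D_X k (Fin n) i).symm)
        rw [hb, map_smul, smul_mul_assoc]
        exact hGsmul _ _ _ (hGX p i η (ih η hη))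
      | add x _ y _ hx hy => exact add_mem hx hy
  have hsurj : ∀ (p : ℕ) (ω : Ext), ω ∈ P (p + 1) → ∃ ω' ∈ G (p + 1), Lk ω' = ω := by
    intro p ω hω
    have := hspan _ _ hω
    clear hω
    induction this using Submodule.iSup_induction' with
    | mem w η hη =>
      by_cases hw : p + 1 ≤ w
      · rw [iSup_pos hw, Submodule.mem_inf, Module.End.mem_eigenspace_iff, Submodule.restrictScalars_mem] at hη
        obtain ⟨hη, hp⟩ := hη
        refine ⟨(w : k)⁻¹ • η, Submodule.smul_mem _ _ (hG _ η w hw hη hp), ?_⟩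
        rw [map_smul, hη, inv_smul_smul₀ (Nat.cast_ne_zero.2 (by omega))]
      · rw [iSup_neg hw, Submodule.mem_bot] at hη
        exact ⟨0, zero_mem _, by rw [map_zero, hη]⟩
    | zero => exact ⟨0, zero_mem _, map_zero _⟩
    | add x y _ _ hx hy =>
      obtain ⟨x', hx', hx''⟩ := hx
      obtain ⟨y', hy', hy''⟩ := hy
      exact ⟨x' + y', add_mem hx' hy', by rw [map_add, hx'', hy'']⟩
  have hGmem : ∀ p, G p ≤ (P p).restrictScalars k := fun p =>
    iSup₂_le fun _ _ => inf_le_right
  let G' : ℕ → Submodule k Ext := fun p =>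
    ⨆ (w : ℕ) (_ : p ≤ w), Module.End.eigenspace Lk (w : k)
  have hGd : ∀ (p : ℕ) (x : Ext), x ∈ G p → d x ∈ G' p := by
    intro p
    refine iSup₂_le (a := (G' p).comap d) fun w hw x hx => ?_
    refine Submodule.mem_iSup_of_mem w (Submodule.mem_iSup_of_mem hw
      (Module.End.mem_eigenspace_iff.2 ?_))
    have hx1 := Module.End.mem_eigenspace_iff.1 hx.1
    calc Lk (d x) = d (Lk x) := by simp [hLk, L, hdd]
      _ = (w : k) • d x := by rw [hx1, map_smul]
  have hinj : ∀ (p : ℕ) (x : Ext), x ∈ G' (p + 1) → Lk x = 0 → x = 0 := by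
    intro p x hx hx0
    have hdis := Module.End.eigenspaces_iSupIndep Lk (0 : k)
    refine Submodule.disjoint_def.1 hdis x (Module.End.mem_eigenspace_iff.2 (by simp [hx0])) ?_
    refine (iSup₂_le fun w hw => ?_ : G' (p + 1) ≤ _) hx
    exact le_iSup₂_of_le (w : k) (Nat.cast_ne_zero.2 (by omega)) le_rfl
  have hhP : ∀ (p : ℕ) (ω : Ext), ω ∈ P (p + 1) → h ω ∈ P p := by
    intro p
    induction p with
    | zero =>
      intro ω hω
      have hω' : ω ∈ LinearMap.range ι₁ ^ 1 := hω
      rw [pow_one] at hω'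
      obtain ⟨x, rfl⟩ := hω'
      have := hι x 1
      rw [mul_one] at this
      have h2 : h (1 : Ext) = 0 := by
        have := halg 1
        rwa [map_one] at this
      rw [this, h2, mul_zero, sub_zero, ← Algebra.algebraMap_eq_smul_one]
      exact hP0 _
    | succ p ih =>
      intro ω hω
      have hω' : ω ∈ LinearMap.range ι₁ ^ (p + 1 + 1) := hω
      rw [pow_succ'] at hω'
      clear hω
      induction hω' using Submodule.mul_induction_on' with
      | mem_mul_mem x hx η hη =>
        obtain ⟨x, rfl⟩ := hx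
        rw [hι]
        refine sub_mem (Submodule.smul_mem _ _ hη) ?_
        show ι₁ x * h η ∈ LinearMap.range ι₁ ^ (p + 1)
        rw [pow_succ']
        exact Submodule.mul_mem_mul ⟨x, rfl⟩ (ih η hη)
      | add x _ y _ hx hy => rw [map_add]; exact add_mem hx hy
  refine ⟨fun a ha => ?_, fun p ω hω hdω => ?_⟩
  · have hιDa : ι₁ (DD a) = 0 := (h0 a).symm.trans ha
    have hEa : Eu a = 0 := by
      have h1 := hι (DD a) 1
      rw [hιDa, zero_mul, zero_mul, map_zero, sub_zero, hφD,
        ← Algebra.algebraMap_eq_smul_one] at h1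
      exact (map_eq_zero_iff _ (ExteriorAlgebra.algebraMap_leftInverse M).injective).1 h1.symm
    refine ⟨MvPolynomial.coeff 0 a, MvPolynomial.ext _ _ fun m => ?_⟩
    rw [MvPolynomial.coeff_C]
    split_ifs with hm
    · rw [hm]
    · have hc : MvPolynomial.coeff m (Eu a) = (m.degree : k) * MvPolynomial.coeff m a := by
        clear hEa hιDa ha
        induction a using MvPolynomial.induction_on' with
        | monomial m' c =>
          rw [hEu, MvPolynomial.coeff_smul, MvPolynomial.coeff_monomial]
          split_ifs with hmm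
          · rw [hmm]; rfl
          · simp
        | add f g hf hg => rw [map_add, MvPolynomial.coeff_add, hf, hg, MvPolynomial.coeff_add, mul_add]
      rw [hEa, MvPolynomial.coeff_zero] at hc
      rcases mul_eq_zero.1 hc.symm with h1 | h1
      · exact absurd ((Finsupp.degree_eq_zero_iff m).1 (Nat.cast_eq_zero.1 h1)).symm hm
      · exact h1
  · obtain ⟨ω', hω'G, hω'⟩ := hsurj p ω hω
    have hdω' : d ω' = 0 := hinj p _ (hGd _ _ hω'G) (by
      calc Lk (d ω') = d (Lk ω') := by simp [hLk, L, hdd]
        _ = 0 := by rw [hω', hdω])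
    refine ⟨h ω', hhP p ω' (hGmem _ hω'G), ?_⟩
    rw [← hω', hLk]
    simp [L, hdω']

end Groth.Agent.S15299
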