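import Groth.Statements.S15300
import Groth.Agent.LimLib.Tower

set_option autoImplicit false
universe u

set_option backward.isDefEq.respectTransparency false
open HomAlg3

namespace Groth.Agent.S15300

open CategoryTheory CategoryTheory.Limits Opposite in
/-- For abelian groups, let (A_n)_n be a tower of cochain complexes of abelian groups, indexed by the
natural numbers, all of whose transition maps A_{n+1}^p → A_n^p are surjective. Then for every p
there is a short exact sequence 0 → lim¹_n h^(p-1)(A_n) → h^p(lim_n A_n) → lim_n h^p(A_n) → 0: the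
comparison map h^p(lim A_n) → lim h^p(A_n) is surjective and its kernel is isomorphic to lim¹ of the
tower of the (p-1)-st cohomology groups (existence of an isomorphism only). (The published statement
is made in an axiomatic setting that also covers quasi-coherent sheaves; this row is the case of
abelian groups.) -/
theorem result
    (K : ℕᵒᵖ ⥤ HomologicalComplex AddCommGrpCat.{u} (ComplexShape.up ℤ))
    (hK : ∀ (n : ℕ) (q : ℤ), Function.Surjective ((K.map (homOfLE (Nat.le_succ n)).op).f q).hom)
    (p q : ℤ) (hqp : q + 1 = p) :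
    Function.Surjective (limit.post K (HomologicalComplex.homologyFunctor _ _ p)).hom ∧
      Nonempty ((limit.post K (HomologicalComplex.homologyFunctor _ _ p)).hom.ker ≃+
        Formal2.limOne (fun n => (K.obj (op n)).homology q)
          (fun n => (HomologicalComplex.homologyMap (K.map (homOfLE (Nat.le_succ n)).op) q).hom)) := by
  let t : ∀ n, K.obj (op (n + 1)) ⟶ K.obj (op n) := fun n => K.map (homOfLE (Nat.le_succ n)).op
  let π : ∀ n, limit K ⟶ K.obj (op n) := fun n => limit.π K (op n)
  let L : ℤ → (HomologicalComplex AddCommGrpCat.{u} (ComplexShape.up ℤ) ⥤ Type u) := fun j =>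
    HomologicalComplex.eval _ _ j ⋙ forget AddCommGrpCat.{u}
  have hl : ∀ j, IsLimit ((L j).mapCone (limit.cone K)) := fun j =>
    isLimitOfPreserves _ (limit.isLimit _)
  have hπ : ∀ n, π (n + 1) ≫ t n = π n := fun n => limit.w K _
  have hinj : ∀ (j : ℤ) (x : (limit K).X j), (∀ n, (π n).f j x = 0) → x = 0 := fun j x hx => by
    refine (Types.isLimitEquivSections (hl j)).injective (Subtype.ext (funext fun n => ?_))
    show (π n.unop).f j x = (π n.unop).f j 0
    exact (hx n.unop).trans (map_zero ((π n.unop).f j).hom).symm
  have hlift : ∀ (j : ℤ) (x : ∀ n, (K.obj (op n)).X j), (∀ n, (t n).f j (x (n + 1)) = x n) →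
      ∃ y : (limit K).X j, ∀ n, (π n).f j y = x n := fun j x hx =>
    ⟨(Types.isLimitEquivSections (hl j)).symm
      ⟨fun n => x n.unop, fun {i i'} f => LimLib.section_of_succ (F := K ⋙ L j) x hx f⟩,
      fun n => Types.isLimitEquivSections_symm_apply (hl j) _ (op n)⟩
  have hsurj : ∀ (n : ℕ) (j : ℤ), Function.Surjective ((t n).f j) := hK
  let H := HomologicalComplex.homologyFunctor AddCommGrpCat.{u} (ComplexShape.up ℤ) p
  have hpost : ∀ (g : (limit K).homology p) (n : ℕ),
      limit.π (K ⋙ H) (op n) ((limit.post K H) g) = HomologicalComplex.homologyMap (π n) p g := fun g n =>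
    (ConcreteCategory.comp_apply _ _ _).symm.trans (ConcreteCategory.congr_hom (limit.post_π K H (op n)) g)
  let hl' := isLimitOfPreserves (forget AddCommGrpCat.{u}) (limit.isLimit (K ⋙ H))
  have hext : ∀ a b : (limit (K ⋙ H) : AddCommGrpCat.{u}),
      (∀ n, limit.π (K ⋙ H) (op n) a = limit.π (K ⋙ H) (op n) b) → a = b := fun a b h =>
    (Types.isLimitEquivSections hl').injective (Subtype.ext (funext fun n => h n.unop))
  refine ⟨fun c => ?_, LimLib.nonempty_milnor_equiv hπ hinj hlift hsurj hqp _ fun g => ?_⟩
  · obtain ⟨g, hg⟩ := LimLib.exists_of_components hπ hinj hlift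
      (LimLib.limOneIsZero_of_surjective _ fun n => hsurj n (p - 1))
      (fun n => limit.π (K ⋙ H) (op n) c) fun n =>
        (ConcreteCategory.comp_apply _ _ _).symm.trans
          (ConcreteCategory.congr_hom (limit.w (K ⋙ H) (homOfLE (Nat.le_succ n)).op) c)
    exact ⟨g, hext _ _ fun n => (hpost g n).trans (hg n)⟩
  · rw [AddMonoidHom.mem_ker]
    refine ⟨fun h n => ?_, fun h => hext _ _ fun n => (hpost g n).trans ?_⟩
    · rw [← hpost, show (limit.post K H) g = 0 from h, map_zero]
    · rw [h n]
      exact (map_zero _).symm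

end Groth.Agent.S15300
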