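import Groth.Statements.S15311
import Groth.Agent.HdRLib.Poly

set_option autoImplicit false
universe u
open DeRhamSh

namespace Groth.Agent.S15311

open CategoryTheory AlgebraicGeometry TopologicalSpace in
/-- Let k be a field of characteristic zero and n ≥ 0. Then the algebraic de Rham cohomology of affine
n-space Spec k[x_1, …, x_n] over k, the hypercohomology of its de Rham complex, vanishes in every
degree i ≠ 0, and in degree 0 it is additively isomorphic to k (existence of an additive
isomorphism; the identification of H^0 with the constants is canonical). (The published computation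
also gives the de Rham homology of affine space; this row is the cohomology statement, for any de
Rham complex of affine n-space over k.) -/
theorem result (k : Type u) [Field k] [CharZero k] (n : ℕ)
    [QuasiSeparated (Spec.map (CommRingCat.ofHom (algebraMap k (MvPolynomial (Fin n) k))))]
    (D : DeRhamSh.OmegaCx (Spec.map (CommRingCat.ofHom (algebraMap k (MvPolynomial (Fin n) k)))))
    [HasDerivedCategory.{u} (Sheaf (Opens.grothendieckTopology ↥(Spec (CommRingCat.of (MvPolynomial (Fin n) k)))) AddCommGrpCat.{u})] :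
    (∀ i : ℤ, i ≠ 0 → Subsingleton (DeRhamSh.HdR D i)) ∧ Nonempty (DeRhamSh.HdR D 0 ≃+ k) := by
  refine ⟨fun i hi => ?_, ?_⟩
  · rcases lt_or_gt_of_ne hi with h | h
    · exact Groth.Agent.HdRLib.subsingleton_HdR_neg k _ D i h
    · obtain ⟨p, rfl⟩ : ∃ p : ℕ, i = ((p + 1 : ℕ) : ℤ) := ⟨i.toNat - 1, by omega⟩
      obtain ⟨e⟩ := Groth.Agent.HdRLib.nonempty_HdR_equiv k _ D (Groth.Agent.HdRLib.isDiff_dRing k _ D) (p + 1)
      haveI := Groth.Agent.HdRLib.subsingleton_H_succ _ (Groth.Agent.HdRLib.isDiff_dRing k (MvPolynomial (Fin n) k) D) p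
      exact e.toEquiv.subsingleton
  · obtain ⟨e⟩ := Groth.Agent.HdRLib.nonempty_HdR_equiv k _ D (Groth.Agent.HdRLib.isDiff_dRing k _ D) 0
    obtain ⟨e'⟩ := Groth.Agent.HdRLib.nonempty_H_zero_equiv _ (Groth.Agent.HdRLib.isDiff_dRing k (MvPolynomial (Fin n) k) D)
    exact ⟨e.trans e'⟩

end Groth.Agent.S15311
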