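import Groth.Statements.S15315
import Mathlib
-- import your own Groth.Agent.* helpers here

set_option autoImplicit false
universe u
open ArLef

namespace Groth.Agent.S15315

/-- For a Noetherian commutative ring A, elements a, b with a a non-zero-divisor on A/(b), and an ideal
I, one has length(A/(aI + bA)) = length(A/(a, b)) + length(A/(I + bA)) as extended natural numbers;
in particular when two of the three quotients have finite length so does the third. -/
theorem result (A : Type u) [CommRing A] [IsNoetherianRing A] (a b : A) (I : Ideal A)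
    (ha : IsSMulRegular (A ⧸ Ideal.span ({b} : Set A)) a) :
    Module.length A (A ⧸ (Ideal.span {a} * I ⊔ Ideal.span {b})) =
      Module.length A (A ⧸ Ideal.span ({a, b} : Set A)) + Module.length A (A ⧸ (I ⊔ Ideal.span {b})) := by
  let Q1 : Ideal A := I ⊔ Ideal.span {b}
  let Q2 : Ideal A := Ideal.span {a} * I ⊔ Ideal.span {b}
  let Q3 : Ideal A := Ideal.span ({a, b} : Set A)
  have h12 : Q1 ≤ Submodule.comap (LinearMap.mulLeft A a) Q2 := by
    refine sup_le (fun x hx => ?_) (fun x hx => ?_)
    · exact Ideal.mem_sup_left (Ideal.mul_mem_mul (Ideal.mem_span_singleton_self a) hx)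
    · exact Ideal.mem_sup_right (Ideal.mul_mem_left _ a hx)
  have h23 : Q2 ≤ Q3 := by
    refine sup_le (Ideal.mul_le_left.trans (Ideal.span_mono ?_)) (Ideal.span_mono ?_) <;> simp
  let f : (A ⧸ Q1) →ₗ[A] (A ⧸ Q2) := Submodule.mapQ Q1 Q2 (LinearMap.mulLeft A a) h12
  let g : (A ⧸ Q2) →ₗ[A] (A ⧸ Q3) := Submodule.factor h23
  have key : ∀ x, a * x ∈ Ideal.span ({b} : Set A) → x ∈ Ideal.span ({b} : Set A) := fun x hx => by
    refine Ideal.Quotient.eq_zero_iff_mem.1 (ha ?_)
    show a • Ideal.Quotient.mk (Ideal.span ({b} : Set A)) x = a • 0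
    rw [smul_zero]
    exact Ideal.Quotient.eq_zero_iff_mem.2 hx
  have hf : Function.Injective f := by
    rw [injective_iff_map_eq_zero]
    intro z hz
    induction z using Submodule.Quotient.induction_on with
    | H x =>
      rw [Submodule.Quotient.mk_eq_zero]
      have hz' : a * x ∈ Q2 := (Submodule.Quotient.mk_eq_zero Q2).1 hz
      obtain ⟨y, hy, w, hw, e⟩ := Submodule.mem_sup.1 hz'
      obtain ⟨i, hi, rfl⟩ := Ideal.mem_span_singleton_mul.1 hy
      have : a * (x - i) ∈ Ideal.span ({b} : Set A) := by
        rwa [show a * (x - i) = w by rw [mul_sub, ← e]; ring]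
      exact Submodule.mem_sup.2 ⟨i, hi, x - i, key _ this, by ring⟩
  have hfg : Function.Exact f g := by
    intro z
    induction z using Submodule.Quotient.induction_on with
    | H x =>
      constructor
      · intro hz
        have hx : x ∈ Q3 := (Submodule.Quotient.mk_eq_zero Q3).1 hz
        obtain ⟨c, d, rfl⟩ := Ideal.mem_span_pair.1 hx
        refine ⟨Submodule.Quotient.mk c, (Submodule.Quotient.eq Q2).2 ?_⟩
        show a * c - (c * a + d * b) ∈ Q2
        rw [show a * c - (c * a + d * b) = (-d) * b by ring]
        exact Ideal.mem_sup_right (Ideal.mul_mem_left _ _ (Ideal.mem_span_singleton_self b))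
      · rintro ⟨w, hw⟩
        rw [← hw]
        induction w using Submodule.Quotient.induction_on with
        | H c =>
          refine (Submodule.Quotient.mk_eq_zero Q3).2 ?_
          exact Ideal.mul_mem_right _ _ (Ideal.subset_span (by simp))
  rw [Module.length_eq_add_of_exact f g hf (Submodule.factor_surjective h23) hfg]
  exact add_comm _ _

end Groth.Agent.S15315
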