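import Groth.Statements.S15316
import Mathlib
import Groth.Agent.ArLefLib.Residual
-- import your own Groth.Agent.* helpers here

set_option autoImplicit false
universe u
open ArLef ArLef.NodeAlg

namespace Groth.Agent.S15316

/-- Let B be a discrete valuation ring with uniformizer π and N = B[[t, e]]/(te - π) the complete local
ring of a semi-stable arithmetic surface at a singular point of the closed fibre. A ring
automorphism σ of N with σ(π) associated to π (for instance a B-algebra automorphism, or one lying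
over an automorphism of B) either stabilizes the two branches, σ(t) = α t and σ(e) = β e for units
α, β, or switches them, σ(t) = α e and σ(e) = β t for units α, β. (The published setting has B
complete with algebraically closed residue field and σ linear over B or over an automorphism of B;
the argument uses only that σ(π) generates (π).) -/
theorem result (B : Type u) [CommRing B] [IsDomain B] [IsDiscreteValuationRing B] (π : B) (hπ : Irreducible π)
    (σ : ArLef.NodeAlg B π ≃+* ArLef.NodeAlg B π)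
    (hσ : Associated (σ (algebraMap B (ArLef.NodeAlg B π) π)) (algebraMap B (ArLef.NodeAlg B π) π)) :
    (∃ α β : (ArLef.NodeAlg B π)ˣ, σ (ArLef.NodeAlg.t π) = (α : ArLef.NodeAlg B π) * ArLef.NodeAlg.t π ∧ σ (ArLef.NodeAlg.e π) = (β : ArLef.NodeAlg B π) * ArLef.NodeAlg.e π) ∨
      (∃ α β : (ArLef.NodeAlg B π)ˣ, σ (ArLef.NodeAlg.t π) = (α : ArLef.NodeAlg B π) * ArLef.NodeAlg.e π ∧ σ (ArLef.NodeAlg.e π) = (β : ArLef.NodeAlg B π) * ArLef.NodeAlg.t π) := by
  haveI := ArLefLib.node_isDomain hπ
  have ht0 : ArLef.NodeAlg.t π ≠ 0 := ArLefLib.var_ne_zero hπ (i := 0)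
  have he0 : ArLef.NodeAlg.e π ≠ 0 := ArLefLib.var_ne_zero hπ (i := 1)
  have htp : Prime (ArLef.NodeAlg.t π) := ArLefLib.var_prime hπ (show (1 : Fin 2) ≠ 0 by decide)
  have hep : Prime (ArLef.NodeAlg.e π) := ArLefLib.var_prime hπ (show (0 : Fin 2) ≠ 1 by decide)
  have hst : Prime (σ (ArLef.NodeAlg.t π)) := (MulEquiv.prime_iff σ.toMulEquiv).2 htp
  rw [← ArLefLib.t_mul_e, map_mul] at hσ
  obtain ⟨u, hu⟩ := hσ.symm
  have get : ∀ {x y : ArLef.NodeAlg B π}, Associated x y → ∃ α : (ArLef.NodeAlg B π)ˣ, x = α * y :=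
    fun {x y} h => by obtain ⟨α, hα⟩ := h.symm; exact ⟨α, by rw [← hα, mul_comm]⟩
  rcases hst.dvd_or_dvd (hσ.dvd_iff_dvd_right.1 (dvd_mul_right _ _)) with h | h
  · left
    obtain ⟨α, hα⟩ := get (hst.associated_of_dvd htp h)
    refine ⟨α, α⁻¹ * u, hα, mul_left_cancel₀ (mul_ne_zero α.ne_zero ht0) ?_⟩
    rw [← hα, ← hu, hα, Units.val_mul]
    linear_combination (-(ArLef.NodeAlg.t π * ArLef.NodeAlg.e π * u)) * α.mul_inv
  · right
    obtain ⟨α, hα⟩ := get (hst.associated_of_dvd hep h)
    refine ⟨α, α⁻¹ * u, hα, mul_left_cancel₀ (mul_ne_zero α.ne_zero he0) ?_⟩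
    rw [← hα, ← hu, hα, Units.val_mul]
    linear_combination (-(ArLef.NodeAlg.t π * ArLef.NodeAlg.e π * u)) * α.mul_inv

end Groth.Agent.S15316
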