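import Groth.Statements.S15317
import Mathlib
import Groth.Agent.ArLefLib.Node
-- import your own Groth.Agent.* helpers here

set_option autoImplicit false
universe u
open ArLef ArLef.NodeAlg

namespace Groth.Agent.S15317

/-- Let B be a discrete valuation ring with uniformizer π, N = B[[t, e]]/(te - π), and σ a non-trivial
B-algebra automorphism of N stabilizing both branches of the closed fibre (σ(t) associated to t,
σ(e) associated to e). Then the fixed-point ideal of σ, generated by all σ(r) - r, is g·(t, e) for a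
non-zero g: the divisorial part of the fixed locus is cut out by g and its residual part is the
reduced closed point, of multiplicity one. (Stated in the complete local ring, where the published
argument takes place; the published setting has B complete with algebraically closed residue field.) -/
theorem result (B : Type u) [CommRing B] [IsDomain B] [IsDiscreteValuationRing B] (π : B) (hπ : Irreducible π)
    (σ : ArLef.NodeAlg B π ≃ₐ[B] ArLef.NodeAlg B π) (hσ : σ ≠ AlgEquiv.refl)
    (ht : Associated (σ (ArLef.NodeAlg.t π)) (ArLef.NodeAlg.t π))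
    (he : Associated (σ (ArLef.NodeAlg.e π)) (ArLef.NodeAlg.e π)) :
    ∃ g : ArLef.NodeAlg B π, g ≠ 0 ∧
      ArLef.fixIdeal σ = Ideal.span {g} * Ideal.span ({ArLef.NodeAlg.t π, ArLef.NodeAlg.e π} : Set (ArLef.NodeAlg B π)) := by
  classical
  haveI := ArLefLib.node_isDomain hπ
  have hne : ArLef.NodeAlg.t π * ArLef.NodeAlg.e π ≠ 0 :=
    mul_ne_zero (ArLefLib.var_ne_zero hπ (i := 0)) (ArLefLib.var_ne_zero hπ (i := 1))
  obtain ⟨α, hα⟩ := ht.symm
  obtain ⟨β, hβ⟩ := he.symm
  generalize hσt : σ (ArLef.NodeAlg.t π) = st at hα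
  generalize hσe : σ (ArLef.NodeAlg.e π) = se at hβ
  subst hα hβ
  have hαβ : (α : ArLef.NodeAlg B π) * β = 1 := by
    have h := congrArg σ (ArLefLib.t_mul_e π)
    rw [map_mul, hσt, hσe, σ.commutes, ← ArLefLib.t_mul_e] at h
    exact mul_left_cancel₀ hne (by linear_combination h)
  let g : ArLef.NodeAlg B π := α - 1
  have hle : ArLef.fixIdeal σ ≤
      Ideal.span {g} * Ideal.span ({ArLef.NodeAlg.t π, ArLef.NodeAlg.e π} : Set (ArLef.NodeAlg B π)) := by
    refine ArLefLib.node_fixIdeal_le hπ (σ : ArLef.NodeAlg B π →+* ArLef.NodeAlg B π) _ (fun c => ?_) ?_ ?_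
    · show σ _ - _ ∈ _
      rw [σ.commutes, sub_self]; exact Submodule.zero_mem _
    · show σ _ - _ ∈ _
      rw [Ideal.mem_span_singleton_mul]
      exact ⟨ArLef.NodeAlg.t π, Ideal.subset_span (by simp), by rw [hσt]; simp only [g]; ring⟩
    · show σ _ - _ ∈ _
      rw [Ideal.mem_span_singleton_mul]
      exact ⟨-(β : ArLef.NodeAlg B π) * ArLef.NodeAlg.e π, Ideal.mul_mem_left _ _ (Ideal.subset_span (by simp)), by
        rw [hσe]; simp only [g]; linear_combination (-ArLef.NodeAlg.e π) * hαβ⟩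
  refine ⟨g, fun h0 => hσ (AlgEquiv.ext fun r => ?_), le_antisymm hle (Ideal.mul_le.2 fun a ha b hb => ?_)⟩
  · have := hle (Ideal.subset_span ⟨r, rfl⟩)
    rw [h0, Ideal.span_singleton_eq_bot.2 rfl, Ideal.bot_mul, Ideal.mem_bot] at this
    exact sub_eq_zero.1 this
  · obtain ⟨c, rfl⟩ := Ideal.mem_span_singleton'.1 ha
    obtain ⟨x, y, rfl⟩ := Ideal.mem_span_pair.1 hb
    have h1 : g * ArLef.NodeAlg.t π ∈ ArLef.fixIdeal σ :=
      Ideal.subset_span ⟨ArLef.NodeAlg.t π, show σ _ - _ = _ by rw [hσt]; simp only [g]; ring⟩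
    have h2 : σ (ArLef.NodeAlg.e π) - ArLef.NodeAlg.e π ∈ ArLef.fixIdeal σ :=
      Ideal.subset_span ⟨ArLef.NodeAlg.e π, rfl⟩
    have e : c * g * (x * ArLef.NodeAlg.t π + y * ArLef.NodeAlg.e π) =
        c * x * (g * ArLef.NodeAlg.t π) + (-(c * y * α)) * (σ (ArLef.NodeAlg.e π) - ArLef.NodeAlg.e π) := by
      rw [hσe]; simp only [g]; linear_combination c * y * ArLef.NodeAlg.e π * hαβ
    rw [e]
    exact Submodule.add_mem _ (Ideal.mul_mem_left _ _ h1) (Ideal.mul_mem_left _ _ h2)

end Groth.Agent.S15317
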