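import Groth.Statements.S15318
import Mathlib
import Groth.Agent.ArLefLib.Residual
-- import your own Groth.Agent.* helpers here

set_option autoImplicit false
universe u
open ArLef ArLef.NodeAlg

namespace Groth.Agent.S15318

/-- Let B be a discrete valuation ring with uniformizer π, N = B[[t, e]]/(te - π), and σ a B-algebra
automorphism of N switching the two branches of the closed fibre (σ(t) associated to e, σ(e)
associated to t). Then the fixed-point ideal of σ is principal, generated by an element h of order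
one (h is not in (t, e)²), and π is a non-zero-divisor modulo h: the fixed locus is a horizontal
regular divisor through the point with empty residual part. (Stated in the complete local ring,
where the published argument takes place; the published setting has B complete with algebraically
closed residue field.) -/
theorem result (B : Type u) [CommRing B] [IsDomain B] [IsDiscreteValuationRing B] (π : B) (hπ : Irreducible π)
    (σ : ArLef.NodeAlg B π ≃ₐ[B] ArLef.NodeAlg B π)
    (ht : Associated (σ (ArLef.NodeAlg.t π)) (ArLef.NodeAlg.e π))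
    (he : Associated (σ (ArLef.NodeAlg.e π)) (ArLef.NodeAlg.t π)) :
    ∃ h : ArLef.NodeAlg B π, ArLef.fixIdeal σ = Ideal.span {h} ∧
      h ∉ (Ideal.span ({ArLef.NodeAlg.t π, ArLef.NodeAlg.e π} : Set (ArLef.NodeAlg B π))) ^ 2 ∧
      IsSMulRegular (ArLef.NodeAlg B π ⧸ Ideal.span ({h} : Set (ArLef.NodeAlg B π))) π := by
  classical
  haveI := ArLefLib.node_isDomain hπ
  have h10 : (1 : Fin 2) ≠ 0 := by decide
  have h01 : (0 : Fin 2) ≠ 1 := by decide
  have hne := ArLefLib.te_ne_zero hπ
  obtain ⟨u, hu⟩ := ht.symm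
  obtain ⟨v, hv⟩ := he.symm
  rw [← ArLefLib.var_zero, ← ArLefLib.var_one] at hu hv ⊢
  have hte : ArLefLib.var π 0 * ArLefLib.var π 1 = algebraMap B (ArLef.NodeAlg B π) π :=
    ArLefLib.var_mul_var π h01
  have huv : (u : ArLef.NodeAlg B π) * v = 1 := mul_left_cancel₀ hne (by
    have h := congrArg σ hte
    rw [map_mul, σ.commutes, ← hu, ← hv, ← hte] at h
    linear_combination h)
  obtain ⟨h, hh⟩ : ∃ h, h = ArLefLib.var π 0 - u * ArLefLib.var π 1 := ⟨_, rfl⟩
  have hI : ArLef.fixIdeal σ = Ideal.span {h} := by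
    refine le_antisymm (ArLefLib.node_fixIdeal_le hπ (σ : ArLef.NodeAlg B π →+* ArLef.NodeAlg B π) _
      (fun c => ?_) ?_ ?_) ((Ideal.span_singleton_le_iff_mem _).2 ?_)
    · show σ _ - _ ∈ _
      rw [σ.commutes, sub_self]; exact Submodule.zero_mem _
    · show σ (ArLefLib.var π 0) - ArLefLib.var π 0 ∈ _
      exact Ideal.mem_span_singleton'.2 ⟨-1, by rw [hh, ← hu]; ring⟩
    · show σ (ArLefLib.var π 1) - ArLefLib.var π 1 ∈ _
      exact Ideal.mem_span_singleton'.2 ⟨v, by rw [hh, ← hv]; linear_combination (-ArLefLib.var π 1) * huv⟩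
    · have : -(σ (ArLefLib.var π 0) - ArLefLib.var π 0) ∈ ArLef.fixIdeal σ :=
        neg_mem (Ideal.subset_span ⟨_, rfl⟩)
      rw [← hu, neg_sub, mul_comm (ArLefLib.var π 1)] at this
      rwa [hh]
  have b0 : ArLefLib.branch hπ 0 h = PowerSeries.X := by
    rw [hh, map_sub, map_mul, ArLefLib.branch_self, ArLefLib.branch_other hπ h01, mul_zero, sub_zero]
  have b1 : ArLefLib.branch hπ 1 h ≠ 0 := by
    rw [hh, map_sub, map_mul, ArLefLib.branch_self, ArLefLib.branch_other hπ h10, zero_sub, neg_ne_zero]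
    exact mul_ne_zero (u.isUnit.map _).ne_zero PowerSeries.X_ne_zero
  refine ⟨h, hI, fun hm => ?_, ?_⟩
  · have h2 : Ideal.span ({ArLefLib.var π 0, ArLefLib.var π 1} : Set (ArLef.NodeAlg B π)) ≤
        (Ideal.span {PowerSeries.X}).comap (ArLefLib.branch hπ 0) := by
      refine Ideal.span_le.2 ?_
      rintro x (hx | hx)
      · rw [hx, SetLike.mem_coe, Ideal.mem_comap, ArLefLib.branch_self]
        exact Ideal.mem_span_singleton_self _
      · rw [Set.mem_singleton_iff.1 hx, SetLike.mem_coe, Ideal.mem_comap, ArLefLib.branch_other hπ h01]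
        exact Submodule.zero_mem _
    have h3 := Ideal.le_comap_pow _ 2 (Ideal.pow_right_mono h2 2 hm)
    rw [Ideal.mem_comap, b0, Ideal.span_singleton_pow, Ideal.mem_span_singleton, pow_two] at h3
    obtain ⟨c, hc⟩ := h3
    refine PowerSeries.X_prime.not_isUnit (IsUnit.of_mul_eq_one c (mul_left_cancel₀
      (PowerSeries.X_ne_zero (R := IsLocalRing.ResidueField B)) ?_))
    linear_combination -hc
  · intro x y hxy
    obtain ⟨x, rfl⟩ := Submodule.Quotient.mk_surjective _ x
    obtain ⟨y, rfl⟩ := Submodule.Quotient.mk_surjective _ y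
    simp only [← Submodule.Quotient.mk_smul, Submodule.Quotient.eq, Ideal.mem_span_singleton'] at hxy ⊢
    obtain ⟨c, hc⟩ := hxy
    have hs : ∀ z : ArLef.NodeAlg B π, π • z = ArLefLib.var π 0 * ArLefLib.var π 1 * z := fun z => by
      rw [hte]; exact Algebra.smul_def π z
    rw [hs, hs] at hc
    have hp0 := ArLefLib.var_prime hπ h10
    have hp1 := ArLefLib.var_prime hπ h01
    have n0 : ¬ ArLefLib.var π 0 ∣ h := fun hd => b1 ((ArLefLib.branch_eq_zero_iff hπ h10 h).2 hd)
    have n1 : ¬ ArLefLib.var π 1 ∣ h := fun hd => by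
      have := (ArLefLib.branch_eq_zero_iff hπ h01 h).2 hd
      rw [b0] at this
      exact PowerSeries.X_ne_zero this
    obtain ⟨c', rfl⟩ : ArLefLib.var π 0 ∣ c := (hp0.dvd_or_dvd
      (show ArLefLib.var π 0 ∣ c * h from ⟨ArLefLib.var π 1 * (x - y), by rw [hc]; ring⟩)).resolve_right n0
    have hc' : c' * h = ArLefLib.var π 1 * (x - y) :=
      mul_left_cancel₀ (ArLefLib.var_ne_zero hπ (i := 0)) (by linear_combination hc)
    obtain ⟨d, rfl⟩ : ArLefLib.var π 1 ∣ c' := (hp1.dvd_or_dvd (show ArLefLib.var π 1 ∣ c' * h from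
      ⟨x - y, hc'⟩)).resolve_right n1
    exact ⟨d, mul_left_cancel₀ (ArLefLib.var_ne_zero hπ (i := 1)) (by linear_combination hc')⟩

end Groth.Agent.S15318
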