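import Groth.Statements.S15319
import Mathlib
-- import your own Groth.Agent.* helpers here

set_option autoImplicit false
universe u
open ArLef ArLef.NodeAlg

namespace Groth.Agent.S15319

/-- Let B be a discrete valuation ring with uniformizer π, N = B[[t, e]]/(te - π) the complete local
ring of a semi-stable arithmetic surface over B at a singular point of the closed fibre, and σ a
ring automorphism of N sending π to π + γ π^j with γ a unit of B and j ≥ 1 (σ lies over an
automorphism τ of B with v(τ(π) - π) = j). Then the fixed-point ideal of σ is not contained in (π^j)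
= (t^j e^j): the two branches through the point cannot both occur with multiplicity j in the
divisorial part of the fixed locus. (The published setting has B complete with algebraically closed
residue field.) -/
theorem result (B : Type u) [CommRing B] [IsDomain B] [IsDiscreteValuationRing B] (π : B) (hπ : Irreducible π)
    (j : ℕ) (hj : 1 ≤ j) (γ : B) (hγ : IsUnit γ)
    (σ : ArLef.NodeAlg B π ≃+* ArLef.NodeAlg B π)
    (hσ : σ (algebraMap B (ArLef.NodeAlg B π) π) = algebraMap B (ArLef.NodeAlg B π) (π + γ * π ^ j)) :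
    ¬ ArLef.fixIdeal σ ≤ Ideal.span ({algebraMap B (ArLef.NodeAlg B π) (π ^ j)} : Set (ArLef.NodeAlg B π)) := by
  intro hI
  let q := Ideal.Quotient.mk
    (Ideal.span {(MvPowerSeries.X 0 * MvPowerSeries.X 1 - MvPowerSeries.C π : MvPowerSeries (Fin 2) B)})
  let P : ArLef.NodeAlg B π := q (MvPowerSeries.C π)
  have hP : algebraMap B (ArLef.NodeAlg B π) π = P := rfl
  have hte : q (MvPowerSeries.X 0) * q (MvPowerSeries.X 1) = P := by
    rw [← map_mul]
    exact Ideal.Quotient.eq.mpr (Ideal.mem_span_singleton_self _)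
  have hmem : ∀ f, ∃ a, σ (q f) - q f = P ^ j * q a := fun f => by
    have h := hI (Ideal.subset_span ⟨q f, rfl⟩)
    rw [map_pow, hP, Ideal.mem_span_singleton] at h
    obtain ⟨a, ha⟩ := h
    obtain ⟨a', rfl⟩ := Ideal.Quotient.mk_surjective a
    exact ⟨a', ha⟩
  obtain ⟨a, ha⟩ := hmem (MvPowerSeries.X 0)
  obtain ⟨b, hb⟩ := hmem (MvPowerSeries.X 1)
  have hj' : P ^ j = P * P ^ (j - 1) := by rw [← pow_succ']; congr 1; omega
  let c : MvPowerSeries (Fin 2) B := MvPowerSeries.C γ - (a * MvPowerSeries.X 1 +
    b * MvPowerSeries.X 0 + MvPowerSeries.C π ^ j * a * b)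
  have h0 : P ^ j * q c = 0 := by
    have hσ' : σ P = P + q (MvPowerSeries.C γ) * P ^ j := by
      rw [← hP, hσ, map_add, map_mul, map_pow, hP]
      rfl
    have h1 : σ (q (MvPowerSeries.X 0)) * σ (q (MvPowerSeries.X 1)) =
        P + q (MvPowerSeries.C γ) * P ^ j := by
      rw [← map_mul, hte, hσ']
    rw [eq_add_of_sub_eq ha, eq_add_of_sub_eq hb] at h1
    simp only [c, map_sub, map_add, map_mul, map_pow]
    linear_combination hte - h1
  have hc : IsUnit c := by
    rw [MvPowerSeries.isUnit_iff_constantCoeff]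
    have hcc : MvPowerSeries.constantCoeff c =
        γ - π * (π ^ (j - 1) * MvPowerSeries.constantCoeff a * MvPowerSeries.constantCoeff b) := by
      have : π ^ j = π * π ^ (j - 1) := by rw [← pow_succ']; congr 1; omega
      simp only [c, map_sub, map_add, map_mul, map_pow, MvPowerSeries.constantCoeff_C,
        MvPowerSeries.constantCoeff_X, mul_zero, zero_add]
      rw [this]; ring
    rw [hcc]
    by_contra hu
    apply (IsLocalRing.mem_maximalIdeal γ).mp ?_ hγ
    have hπm : π ∈ IsLocalRing.maximalIdeal B := (IsLocalRing.mem_maximalIdeal π).mpr hπ.not_isUnit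
    have := (IsLocalRing.maximalIdeal B).add_mem ((IsLocalRing.mem_maximalIdeal _).mpr hu)
      (Ideal.mul_mem_right (π ^ (j - 1) * MvPowerSeries.constantCoeff a *
        MvPowerSeries.constantCoeff b) _ hπm)
    simpa using this
  have hPj : q (MvPowerSeries.C (π ^ j)) = 0 := by
    rw [map_pow, map_pow]
    exact (hc.map q).mul_left_eq_zero.mp h0
  obtain ⟨f, hf⟩ := Ideal.mem_span_singleton.mp (Ideal.Quotient.eq_zero_iff_mem.mp hPj)
  let D : ℕ → Fin 2 →₀ ℕ := fun i => Finsupp.single 0 i + Finsupp.single 1 i
  have hXY : (MvPowerSeries.X 0 * MvPowerSeries.X 1 : MvPowerSeries (Fin 2) B) =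
      MvPowerSeries.monomial (D 1) 1 := by
    rw [MvPowerSeries.X, MvPowerSeries.X, MvPowerSeries.monomial_mul_monomial, mul_one]
  have hcoef : ∀ i, MvPowerSeries.coeff (D i) (MvPowerSeries.C (π ^ j)) =
      (if D 1 ≤ D i then MvPowerSeries.coeff (D i - D 1) f else 0) - π * MvPowerSeries.coeff (D i) f := by
    intro i
    rw [hf, sub_mul, map_sub, hXY, MvPowerSeries.coeff_monomial_mul, MvPowerSeries.coeff_C_mul, one_mul]
  have hD0 : D 0 = 0 := by simp [D]
  have h00 : π ^ j = -π * MvPowerSeries.coeff (D 0) f := by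
    have h := hcoef 0
    rw [if_neg, hD0, MvPowerSeries.coeff_C, if_pos rfl] at h
    · rw [h, hD0]; ring
    · intro hle
      have := hle 0
      simp [D] at this
  have hstep : ∀ i, MvPowerSeries.coeff (D i) f = π * MvPowerSeries.coeff (D (i + 1)) f := by
    intro i
    have h := hcoef (i + 1)
    have hle : D 1 ≤ D (i + 1) := fun s => by fin_cases s <;> simp [D]
    have hsub : D (i + 1) - D 1 = D i := by
      ext s; fin_cases s <;> simp [D]
    rw [if_pos hle, hsub, MvPowerSeries.coeff_C, if_neg] at h
    · linear_combination -h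
    · intro he
      have := DFunLike.congr_fun he 0
      simp [D] at this
  have hpow : ∀ i, π ^ i ∣ MvPowerSeries.coeff (D 0) f := by
    have : ∀ i, MvPowerSeries.coeff (D 0) f = π ^ i * MvPowerSeries.coeff (D i) f := by
      intro i
      induction i with
      | zero => simp
      | succ i ih => rw [ih, hstep i, pow_succ]; ring
    exact fun i => ⟨_, this i⟩
  have hz : MvPowerSeries.coeff (D 0) f = 0 := by
    by_contra hne
    obtain ⟨n, u, hu⟩ := IsDiscreteValuationRing.eq_unit_mul_pow_irreducible hne hπ
    have := hpow (n + 1)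
    rw [hu, pow_succ, mul_comm (u : B), mul_dvd_mul_iff_left (pow_ne_zero n hπ.ne_zero)] at this
    exact hπ.not_isUnit (isUnit_of_dvd_unit this u.isUnit)
  rw [hz, mul_zero] at h00
  exact pow_ne_zero j hπ.ne_zero h00

end Groth.Agent.S15319
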