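import Groth.Statements.S15320
import Mathlib
import Groth.Agent.ArLefLib.Residual
-- import your own Groth.Agent.* helpers here

set_option autoImplicit false
universe u
open ArLef ArLef.NodeAlg

namespace Groth.Agent.S15320

/-- Let B be a discrete valuation ring with uniformizer π, N = B[[t, e]]/(te - π) the complete local
ring of a semi-stable arithmetic surface over B at a singular point x of the closed fibre, and σ a
ring automorphism of N over an automorphism τ of B with v(τ(π) - π) = j ≥ 1, that is σ(π) = π + γ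
π^j with γ a unit of B, and with σ(b) - b ∈ π^j N for every b ∈ B (automatic when B is totally
ramified over the fixed ring of τ, as in the published setting, where the residue field is
algebraically closed). If σ switches the two branches through x (σ(t) associated to e and σ(e) to
t), then the fixed-point ideal I of σ is contained in no proper principal ideal (x is not on the
divisorial part of the fixed locus) and N/I has length 2j - 1 (the multiplicity of x in the residual
fixed-point scheme). -/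
theorem result (B : Type u) [CommRing B] [IsDomain B] [IsDiscreteValuationRing B] (π : B) (hπ : Irreducible π)
    (j : ℕ) (hj : 1 ≤ j) (γ : B) (hγ : IsUnit γ)
    (σ : ArLef.NodeAlg B π ≃+* ArLef.NodeAlg B π)
    (hσB : ∀ b : B, σ (algebraMap B (ArLef.NodeAlg B π) b) - algebraMap B (ArLef.NodeAlg B π) b ∈
      Ideal.span ({algebraMap B (ArLef.NodeAlg B π) (π ^ j)} : Set (ArLef.NodeAlg B π)))
    (hσπ : σ (algebraMap B (ArLef.NodeAlg B π) π) = algebraMap B (ArLef.NodeAlg B π) (π + γ * π ^ j))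
    (ht : Associated (σ (ArLef.NodeAlg.t π)) (ArLef.NodeAlg.e π)) (he : Associated (σ (ArLef.NodeAlg.e π)) (ArLef.NodeAlg.t π)) :
    (∀ g : ArLef.NodeAlg B π, ArLef.fixIdeal σ ≤ Ideal.span ({g} : Set (ArLef.NodeAlg B π)) → IsUnit g) ∧
      Module.length (ArLef.NodeAlg B π) (ArLef.NodeAlg B π ⧸ ArLef.fixIdeal σ) = ((2 * j - 1 : ℕ) : ℕ∞) := by
  classical
  haveI := ArLefLib.node_isDomain hπ
  have h10 : (1 : Fin 2) ≠ 0 := by decide
  have h01 : (0 : Fin 2) ≠ 1 := by decide
  have hne := ArLefLib.te_ne_zero hπ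
  obtain ⟨u, hu⟩ := ht.symm
  obtain ⟨v, hv⟩ := he.symm
  rw [← ArLefLib.var_zero, ← ArLefLib.var_one] at hu hv
  have hte : ArLefLib.var π 0 * ArLefLib.var π 1 = algebraMap B (ArLef.NodeAlg B π) π :=
    ArLefLib.var_mul_var π h01
  obtain ⟨n, rfl⟩ : ∃ n, j = n + 1 := ⟨j - 1, by omega⟩
  have hσte := ArLefLib.sigma_te σ γ hσπ
  rw [← hu, ← hv] at hσte
  generalize hT : ArLefLib.var π 0 = t at *
  generalize hE : ArLefLib.var π 1 = e at *
  let c : ArLef.NodeAlg B π := algebraMap B (ArLef.NodeAlg B π) γ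
  have hc : IsUnit c := hγ.map _
  have huv : (u : ArLef.NodeAlg B π) * v = 1 + c * (t * e) ^ n := mul_left_cancel₀ hne (by
    simp only [c]; linear_combination (norm := ring_nf) hσte)
  obtain ⟨h, hh⟩ : ∃ h, h = t - u * e := ⟨_, rfl⟩
  have hI : ArLef.fixIdeal σ = Ideal.span ({t ^ n * e ^ (n + 1), h} : Set (ArLef.NodeAlg B π)) := by
    refine le_antisymm (ArLefLib.node_fixIdeal_le hπ (σ : ArLef.NodeAlg B π →+* ArLef.NodeAlg B π) _
      (fun b => ?_) ?_ ?_) (Ideal.span_le.2 ?_)
    · obtain ⟨y, hy⟩ := Ideal.mem_span_singleton'.1 (hσB b)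
      show σ _ - _ ∈ _
      rw [← hy, map_pow, ← hte, show y * (t * e) ^ (n + 1) = y * t * (t ^ n * e ^ (n + 1)) by ring]
      exact Ideal.mul_mem_left _ _ (Ideal.subset_span (by simp))
    · show σ (ArLef.NodeAlg.t π) - ArLef.NodeAlg.t π ∈ _
      rw [← ArLefLib.var_zero, hT]
      exact Ideal.mem_span_pair.2 ⟨0, -1, by rw [hh, ← hu]; ring⟩
    · show σ (ArLef.NodeAlg.e π) - ArLef.NodeAlg.e π ∈ _
      rw [← ArLefLib.var_one, hE]
      exact Ideal.mem_span_pair.2 ⟨c, v, by rw [hh, ← hv]; linear_combination (norm := ring_nf) (-e) * huv⟩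
    · have h1 : σ t - t ∈ ArLef.fixIdeal σ := Ideal.subset_span ⟨t, rfl⟩
      have h2 : σ e - e ∈ ArLef.fixIdeal σ := Ideal.subset_span ⟨e, rfl⟩
      rintro x (hx | hx)
      · rw [hx]
        refine (Ideal.unit_mul_mem_iff_mem _ hc).1 ?_
        have : c * (t ^ n * e ^ (n + 1)) = (σ e - e) + v * (σ t - t) := by
          rw [← hu, ← hv]; linear_combination (norm := ring_nf) (-e) * huv
        rw [this]
        exact Submodule.add_mem _ h2 (Ideal.mul_mem_left _ _ h1)
      · rw [Set.mem_singleton_iff.1 hx, show h = -(σ t - t) by rw [hh, ← hu]; ring]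
        exact neg_mem h1
  have htp : Prime t := hT ▸ ArLefLib.var_prime hπ h10
  have hep : Prime e := hE ▸ ArLefLib.var_prime hπ h01
  have hte1 : ¬ t ∣ e := hT ▸ hE ▸ ArLefLib.not_var_dvd_var hπ h10
  have het1 : ¬ e ∣ t := hT ▸ hE ▸ ArLefLib.not_var_dvd_var hπ h01
  have n0 : ¬ t ∣ h := fun hd => hte1 <| (u.isUnit.dvd_mul_left).1 (by
    have h2 := dvd_sub (dvd_refl t) hd
    rwa [hh, sub_sub_cancel] at h2)
  have n1 : ¬ e ∣ h := fun hd => het1 (by
    have h2 := dvd_add hd (dvd_mul_left e (u : ArLef.NodeAlg B π))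
    rwa [hh, sub_add_cancel] at h2)
  refine ⟨fun g hg => ?_, ?_⟩
  · rw [hI] at hg
    have hgh : g ∣ h := Ideal.mem_span_singleton.1 (hg (Ideal.subset_span (by simp)))
    have strip : ∀ (p x : ArLef.NodeAlg B π), Prime p → ¬ p ∣ h → g ∣ p * x → g ∣ x := by
      intro p x hp hph ⟨d, hd⟩
      obtain ⟨d', rfl⟩ := (hp.dvd_or_dvd (show p ∣ g * d from ⟨x, hd.symm⟩)).resolve_left
        (fun hpg => hph (hpg.trans hgh))
      exact ⟨d', mul_left_cancel₀ hp.ne_zero (by linear_combination hd)⟩
    have stripN : ∀ (p x : ArLef.NodeAlg B π) (k : ℕ), Prime p → ¬ p ∣ h → g ∣ p ^ k * x → g ∣ x := by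
      intro p x k hp hph
      induction k with
      | zero => exact fun hd => by simpa using hd
      | succ k ih => exact fun hd => ih (strip p _ hp hph (by rwa [pow_succ', mul_assoc] at hd))
    refine isUnit_of_dvd_one (stripN e 1 (n + 1) hep n1 ?_)
    rw [mul_one]
    exact stripN t _ n htp n0 (Ideal.mem_span_singleton.1 (hg (Ideal.subset_span (by simp))))
  · have h1 : Module.length (ArLef.NodeAlg B π)
        (ArLef.NodeAlg B π ⧸ Ideal.span ({t, e} : Set (ArLef.NodeAlg B π))) = 1 :=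
      hT ▸ hE ▸ ArLefLib.length_span_t_e hπ
    have eh : Ideal.span ({h, t} : Set (ArLef.NodeAlg B π)) = Ideal.span {e, t} :=
      ArLefLib.span_pair_eq_of_eq (u := -u) (v := 1) u.isUnit.neg (by rw [hh]; ring)
    have th : Ideal.span ({h, e} : Set (ArLef.NodeAlg B π)) = Ideal.span {t, e} :=
      ArLefLib.span_pair_eq_of_eq (u := 1) (v := -u) isUnit_one (by rw [hh]; ring)
    rw [hI, ArLefLib.length_span_pow_mul htp n0 (mem_nonZeroDivisors_of_ne_zero htp.ne_zero),
      ArLefLib.length_span_pow hep n1 (mem_nonZeroDivisors_of_ne_zero hep.ne_zero), Set.pair_comm t h, eh,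
      Set.pair_comm e h, th, Set.pair_comm e t, h1, mul_one, mul_one, ← Nat.cast_add,
      show n + (n + 1) = 2 * (n + 1) - 1 by omega]

end Groth.Agent.S15320
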