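import Groth.Statements.S15325
import Mathlib
import Groth.Agent.ArLefLib.Node
-- import your own Groth.Agent.* helpers here

set_option autoImplicit false
universe u
open ArLef ArLef.NodeAlg

namespace Groth.Agent.S15325

/-- Let k be a field, A = k[[t, e]]/(te) the complete local ring of a nodal curve at a node x, and σ a
k-algebra automorphism of A fixing the two branches, σ(t) = α t and σ(e) = β e with units α, β.
Writing I for the fixed-point ideal of σ (generated by all σ(r) - r), the fixed-point multiplicity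
length(A/I) of σ at x and the fixed-point multiplicities length(A/(I + (t))), length(A/(I + (e))) of
the automorphisms induced on the two branches satisfy length(A/I) + 1 = length(A/(I + (t))) +
length(A/(I + (e))), as extended natural numbers (both sides are infinite when σ fixes a branch
pointwise). (The published setting has k algebraically closed.) -/
theorem result (k : Type u) [Field k]
    (σ : ArLef.NodeAlg k 0 ≃ₐ[k] ArLef.NodeAlg k 0) (α β : (ArLef.NodeAlg k 0)ˣ)
    (ht : σ (ArLef.NodeAlg.t (0 : k)) = (α : ArLef.NodeAlg k 0) * ArLef.NodeAlg.t (0 : k)) (he : σ (ArLef.NodeAlg.e (0 : k)) = (β : ArLef.NodeAlg k 0) * ArLef.NodeAlg.e (0 : k)) :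
    Module.length (ArLef.NodeAlg k 0) (ArLef.NodeAlg k 0 ⧸ ArLef.fixIdeal σ) + 1 =
      Module.length (ArLef.NodeAlg k 0) (ArLef.NodeAlg k 0 ⧸ (ArLef.fixIdeal σ ⊔ Ideal.span ({ArLef.NodeAlg.t (0 : k)} : Set (ArLef.NodeAlg k 0)))) +
        Module.length (ArLef.NodeAlg k 0) (ArLef.NodeAlg k 0 ⧸ (ArLef.fixIdeal σ ⊔ Ideal.span ({ArLef.NodeAlg.e (0 : k)} : Set (ArLef.NodeAlg k 0)))) := by
  classical
  let χ : ArLef.NodeAlg k 0 →+* k := Ideal.Quotient.lift _ MvPowerSeries.constantCoeff fun a ha => by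
    obtain ⟨b, rfl⟩ := Ideal.mem_span_singleton'.1 ha
    simp
  have χv : ∀ i, χ (ArLefLib.var (0 : k) i) = 0 := fun i => MvPowerSeries.constantCoeff_X i
  have χC : ∀ c, χ (algebraMap k (ArLef.NodeAlg k 0) c) = c := fun c => by
    rw [ArLefLib.algebraMap_eq]; simp [χ]
  haveI : Nontrivial (ArLef.NodeAlg k 0) := χ.domain_nontrivial
  haveI : IsLocalRing (ArLef.NodeAlg k 0) :=
    IsLocalRing.of_surjective' (Ideal.Quotient.mk _) Ideal.Quotient.mk_surjective
  rw [← ArLefLib.var_zero, ← ArLefLib.var_one] at *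
  generalize hT : ArLefLib.var (0 : k) 0 = t at *
  generalize hE : ArLefLib.var (0 : k) 1 = e at *
  have hI : ArLef.fixIdeal σ =
      Ideal.span ({((α : ArLef.NodeAlg k 0) - 1) * t, ((β : ArLef.NodeAlg k 0) - 1) * e} : Set (ArLef.NodeAlg k 0)) := by
    refine le_antisymm ?_ (Ideal.span_le.2 ?_)
    · refine ArLefLib.fixIdeal_le (σ : ArLef.NodeAlg k 0 →+* ArLef.NodeAlg k 0) (ArLefLib.var (0 : k))
        (fun i => (IsLocalRing.mem_maximalIdeal _).2 fun hu => not_isUnit_zero (χv i ▸ hu.map χ))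
        (algebraMap k (ArLef.NodeAlg k 0)) (ArLefLib.node_dec (0 : k)) _ (fun c => ?_) (fun i => ?_)
      · show σ _ - _ ∈ _
        rw [σ.commutes, sub_self]; exact Submodule.zero_mem _
      · show σ _ - _ ∈ _
        fin_cases i
        · show σ (ArLefLib.var (0 : k) 0) - ArLefLib.var (0 : k) 0 ∈ _
          rw [hT, ht]; exact Ideal.mem_span_pair.2 ⟨1, 0, by ring⟩
        · show σ (ArLefLib.var (0 : k) 1) - ArLefLib.var (0 : k) 1 ∈ _
          rw [hE, he]; exact Ideal.mem_span_pair.2 ⟨0, 1, by ring⟩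
    · rintro x (hx | hx)
      · exact Ideal.subset_span ⟨t, by rw [hx]; show σ t - t = _; rw [ht]; ring⟩
      · exact Ideal.subset_span ⟨e, by rw [Set.mem_singleton_iff.1 hx]; show σ e - e = _; rw [he]; ring⟩
  have hdisj : ∀ y z : ArLef.NodeAlg k 0, y * t = z * e → y * t = 0 := by
    intro y z h
    obtain ⟨f, rfl⟩ := Ideal.Quotient.mk_surjective y
    obtain ⟨g, rfl⟩ := Ideal.Quotient.mk_surjective z
    subst hT hE
    rw [ArLefLib.var, ArLefLib.var, ← map_mul, ← map_mul, Ideal.Quotient.eq, Ideal.mem_span_singleton] at h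
    obtain ⟨w, hw⟩ := h
    have h1 := congrArg (ArLefLib.edge (0 : Fin 2)) hw
    rw [map_zero, sub_zero, map_mul _ (MvPowerSeries.X 0 * MvPowerSeries.X 1), ArLefLib.edge_X_mul_X, zero_mul,
      map_sub, map_mul, map_mul, ArLefLib.edge_X_self, ArLefLib.edge_X_ne (by decide : (0 : Fin 2) ≠ 1),
      mul_zero, sub_zero, mul_eq_zero, or_iff_left PowerSeries.X_ne_zero] at h1
    obtain ⟨f', rfl⟩ := ArLefLib.X_dvd_of_edge (by decide : (0 : Fin 2) ≠ 1) h1
    rw [ArLefLib.var, ← map_mul, Ideal.Quotient.eq_zero_iff_mem]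
    exact Ideal.mem_span_singleton.2 ⟨f', by rw [map_zero, sub_zero]; ring⟩
  have hinf : (ArLef.fixIdeal σ ⊔ Ideal.span {t}) ⊓ (ArLef.fixIdeal σ ⊔ Ideal.span {e}) = ArLef.fixIdeal σ := by
    refine le_antisymm (fun x hx => ?_) (le_inf le_sup_left le_sup_left)
    obtain ⟨h1, h2⟩ := hx
    obtain ⟨i, hi, _, ha, rfl⟩ := Submodule.mem_sup.1 h1
    obtain ⟨a, rfl⟩ := Ideal.mem_span_singleton'.1 ha
    obtain ⟨i', hi', _, hb, heq⟩ := Submodule.mem_sup.1 h2
    obtain ⟨b, rfl⟩ := Ideal.mem_span_singleton'.1 hb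
    refine Submodule.add_mem _ hi ?_
    have hd := sub_mem hi hi'
    rw [hI, Ideal.mem_span_pair] at hd ⊢
    obtain ⟨c, d, hcd⟩ := hd
    have := hdisj (a + c * ((α : ArLef.NodeAlg k 0) - 1)) (b - d * ((β : ArLef.NodeAlg k 0) - 1))
      (by linear_combination hcd - heq)
    exact ⟨-c, 0, by linear_combination -this⟩
  have hsup : (ArLef.fixIdeal σ ⊔ Ideal.span {t}) ⊔ (ArLef.fixIdeal σ ⊔ Ideal.span {e}) = RingHom.ker χ := by
    refine le_antisymm ?_ (fun x hx => ?_)
    · have et : χ t = 0 := hT ▸ χv 0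
      have ee : χ e = 0 := hE ▸ χv 1
      refine sup_le (sup_le ?_ ?_) (sup_le ?_ ?_)
      rotate_left 1
      · exact (Ideal.span_singleton_le_iff_mem _).2 et
      rotate_left 1
      · exact (Ideal.span_singleton_le_iff_mem _).2 ee
      all_goals
        rw [hI, Ideal.span_le]
        rintro x (hx | hx)
        · rw [hx]; show χ _ = 0; rw [map_mul, et, mul_zero]
        · rw [Set.mem_singleton_iff.1 hx]; show χ _ = 0; rw [map_mul, ee, mul_zero]
    · obtain ⟨c, f, rfl⟩ := ArLefLib.node_dec (0 : k) x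
      have hc : c = 0 := by
        have h := RingHom.mem_ker.1 hx
        rw [map_add, map_sum, Finset.sum_eq_zero (fun i _ => by rw [map_mul, χv, zero_mul]), add_zero] at h
        exact (χC c).symm.trans h
      rw [hc, map_zero (algebraMap k (ArLef.NodeAlg k 0)), zero_add, Fin.sum_univ_two, hT, hE]
      exact Submodule.add_mem_sup (Submodule.mem_sup_right (Ideal.mul_mem_right _ _ (Ideal.mem_span_singleton_self t)))
        (Submodule.mem_sup_right (Ideal.mul_mem_right _ _ (Ideal.mem_span_singleton_self e)))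
  have h := ArLefLib.length_inf_add_sup (ArLef.fixIdeal σ ⊔ Ideal.span {t}) (ArLef.fixIdeal σ ⊔ Ideal.span {e})
  haveI : (RingHom.ker χ).IsMaximal := RingHom.ker_isMaximal_of_surjective χ fun c =>
    ⟨algebraMap k _ c, χC c⟩
  have h1 : Module.length (ArLef.NodeAlg k 0) (ArLef.NodeAlg k 0 ⧸ RingHom.ker χ) = 1 := by
    rw [Module.length_eq_one_iff, isSimpleModule_iff_isCoatom]
    exact Ideal.IsMaximal.out
  rw [hinf, hsup, h1] at h
  exact h

end Groth.Agent.S15325
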