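import Groth.Statements.S15326
import Mathlib
-- import your own Groth.Agent.* helpers here

set_option autoImplicit false
universe u
open ArLef

namespace Groth.Agent.S15326

/-- Let A be a commutative ring, t an element generating a prime ideal (a local equation of an
irreducible component C of the closed fibre), v an element outside (t) with π = vt the uniformizer,
and σ a ring automorphism of A with σ(vt) = vt whose fixed-point ideal is contained in (t^i) for
some i ≥ 1 (C has multiplicity at least i in the fixed locus). Then σ(t) - t lies in t^(i+1) A_(t),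
the localization at the prime (t): σ - 1 vanishes on (t)/(t^(i+1)) at the generic point of C. -/
theorem result (A : Type u) [CommRing A] (t v : A)
    [ht : (Ideal.span ({t} : Set A)).IsPrime] (hv : v ∉ Ideal.span ({t} : Set A))
    (σ : A ≃+* A) (hσ : σ (v * t) = v * t) (i : ℕ) (hi : 1 ≤ i)
    (hI : ArLef.fixIdeal σ ≤ Ideal.span ({t ^ i} : Set A)) :
    algebraMap A (Localization.AtPrime (Ideal.span ({t} : Set A))) (σ t - t) ∈
      Ideal.span ({algebraMap A (Localization.AtPrime (Ideal.span ({t} : Set A))) (t ^ (i + 1))} :
        Set (Localization.AtPrime (Ideal.span ({t} : Set A)))) := by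
  have hmem : ∀ r, ∃ c, σ r - r = t ^ i * c := fun r =>
    Ideal.mem_span_singleton.mp (hI (Ideal.subset_span ⟨r, rfl⟩))
  obtain ⟨a, ha⟩ := hmem t
  obtain ⟨b, hb⟩ := hmem v
  have h0 : t ^ i * (v * a + b * t + a * b * t ^ i) = 0 := by
    have h1 : σ v * σ t = v * t := by rw [← map_mul]; exact hσ
    rw [eq_add_of_sub_eq ha, eq_add_of_sub_eq hb] at h1
    linear_combination h1
  let L := Localization.AtPrime (Ideal.span ({t} : Set A))
  obtain ⟨w, hw⟩ := (IsLocalization.map_units L
    (⟨v, hv⟩ : (Ideal.span ({t} : Set A)).primeCompl)).exists_right_inv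
  have h2 := congrArg (algebraMap A L) h0
  simp only [map_mul, map_add, map_pow, map_zero] at h2
  change algebraMap A L v * w = 1 at hw
  obtain ⟨k, rfl⟩ : ∃ k, i = k + 1 := ⟨i - 1, by omega⟩
  refine Ideal.mem_span_singleton.mpr ⟨-w * (algebraMap A L b + algebraMap A L a * algebraMap A L b *
    algebraMap A L t ^ k), ?_⟩
  rw [ha]
  simp only [map_mul, map_pow]
  linear_combination (algebraMap A L t ^ (k + 1) * algebraMap A L a) * (-1 : L) * hw + w * h2

end Groth.Agent.S15326
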