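import Groth.Statements.S15327
import Mathlib.LinearAlgebra.Matrix.PosDef
import Mathlib.Data.Rat.Star
import Mathlib.Tactic.Abel
import Mathlib.Tactic.Ring
import Mathlib.Tactic.LinearCombination

set_option autoImplicit false
open ArLef ArLef.BlowupGraph

namespace Groth.Agent.S15327

open Matrix Finset

variable {n : ℕ} (G : ArLef.BlowupGraph n)

/-- incidence matrix: `p` is a parent of `m` -/
noncomputable def parMat : Matrix (Fin n) (Fin n) ℚ := fun p m => if p ∈ G.par m then 1 else 0

noncomputable def ttMat : Matrix (Fin n) (Fin n) ℚ := fun k m => (G.tt k m : ℚ)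

lemma parN_val (m : Fin n) : G.parN m.1 = (G.par m).map Fin.valEmbedding := by
  simp [ArLef.BlowupGraph.parN, m.2]

lemma ttN_rec (k m : Fin n) :
    G.tt k m = (if k = m then 1 else 0) + ∑ p ∈ G.par m, G.tt k p := by
  have hsum : ∑ p ∈ (G.parN m.1).attach, G.ttN k.1 p.1 = ∑ p ∈ G.par m, G.tt k p := by
    rw [Finset.sum_attach (G.parN m.1) (fun p => G.ttN k.1 p), parN_val, Finset.sum_map]
    rfl
  have hzero : m.1 ≤ k.1 → ∑ p ∈ G.par m, G.tt k p = 0 := by
    intro h
    refine Finset.sum_eq_zero fun p hp => ?_
    have hp' : p.1 < k.1 := lt_of_lt_of_le (G.par_lt m p hp) h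
    show G.ttN k.1 p.1 = 0
    rw [ArLef.BlowupGraph.ttN, if_pos hp']
  show G.ttN k.1 m.1 = _
  rw [ArLef.BlowupGraph.ttN, hsum]
  rcases lt_trichotomy m.1 k.1 with h | h | h
  · rw [if_pos h, if_neg (fun e => by subst e; exact lt_irrefl _ h), hzero h.le]
    simp
  · have e : k = m := Fin.ext h.symm
    rw [if_neg (by omega), if_pos h, if_pos e, hzero h.le]
    simp
  · rw [if_neg (by omega), if_neg (by omega), if_neg (fun e => by subst e; exact lt_irrefl _ h)]
    simp

lemma ttMat_mul : ttMat G * (1 - parMat G) = 1 := by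
  ext k m
  have hP : (ttMat G * parMat G) k m = ∑ p ∈ G.par m, (G.tt k p : ℚ) := by
    simp only [Matrix.mul_apply, ttMat, parMat, mul_ite, mul_one, mul_zero]
    rw [Finset.sum_ite_mem, Finset.univ_inter]
  rw [mul_sub, mul_one, Matrix.sub_apply, hP, Matrix.one_apply]
  show (G.tt k m : ℚ) - _ = _
  rw [ttN_rec G k m]
  push_cast
  ring

lemma parMat_mul (p q : Fin n) : (parMat G * (parMat G)ᵀ) p q =
    ((univ.filter fun m => p ∈ G.par m ∧ q ∈ G.par m).card : ℚ) := by
  rw [Matrix.mul_apply]
  simp only [parMat, Matrix.transpose_apply, ← ite_and, mul_ite, mul_one, mul_zero]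
  rw [Finset.sum_boole]
  congr 2
  apply Finset.filter_congr
  intros
  exact and_comm

lemma common_child {p q m : Fin n} (hpq : p < q) (hp : p ∈ G.par m) (hq : q ∈ G.par m) :
    G.par m = {p, q} := by
  refine (Finset.eq_of_subset_of_card_le ?_ ?_).symm
  · intro x hx
    rcases Finset.mem_insert.1 hx with rfl | hx
    · exact hp
    · rw [Finset.mem_singleton.1 hx]; exact hq
  · rw [Finset.card_pair hpq.ne]; exact G.card_le_two m

lemma mat_offdiag {p q : Fin n} (hpq : p < q) :
    G.mat p q = (if p ∈ G.par q then (1 : ℚ) else 0) -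
      ((univ.filter fun m => p ∈ G.par m ∧ q ∈ G.par m).card : ℚ) := by
  classical
  have hqp : q ∉ G.par p := fun h => lt_asymm hpq (G.par_lt p q h)
  rw [ArLef.BlowupGraph.mat, if_neg hpq.ne]
  rcases (univ.filter fun m => p ∈ G.par m ∧ q ∈ G.par m).eq_empty_or_nonempty with h | ⟨m, hm⟩
  · rw [h]
    have hno : ∀ m, q < m → G.par m ≠ {p, q} := by
      intro m _ e
      have : m ∈ univ.filter fun m => p ∈ G.par m ∧ q ∈ G.par m := by simp [e]
      simp [h] at this
    have : G.Adj p q ↔ p ∈ G.par q := by
      unfold ArLef.BlowupGraph.Adj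
      constructor
      · rintro (h | h)
        · exact h.1
        · exact absurd h.1 hqp
      · exact fun h => Or.inl ⟨h, hno⟩
    simp [this]
  · simp only [mem_filter, mem_univ, true_and] at hm
    have hqm : q < m := G.par_lt m q hm.2
    obtain ⟨hpq', -⟩ := G.meet_of_two m p q hm.1 hm.2 hpq
    have huniq : (univ.filter fun m => p ∈ G.par m ∧ q ∈ G.par m) = {m} := by
      ext x
      simp only [mem_filter, mem_univ, true_and, mem_singleton]
      refine ⟨fun hx => ?_, fun e => e ▸ hm⟩
      by_contra hne
      rcases lt_or_gt_of_ne hne with h | h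
      · exact (G.meet_of_two m p q hm.1 hm.2 hpq).2 x (G.par_lt x q hx.2) h
          (common_child G hpq hx.1 hx.2)
      · exact (G.meet_of_two x p q hx.1 hx.2 hpq).2 m hqm h (common_child G hpq hm.1 hm.2)
    have hnadj : ¬ G.Adj p q := by
      rintro (h | h)
      · exact h.2 m hqm (common_child G hpq hm.1 hm.2)
      · exact hqp h.1
    rw [huniq, if_neg hnadj, if_pos hpq']
    simp

lemma adj_comm (p q : Fin n) : G.Adj p q ↔ G.Adj q p := by
  unfold ArLef.BlowupGraph.Adj
  exact or_comm

lemma mat_symm (p q : Fin n) : G.mat p q = G.mat q p := by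
  rcases eq_or_ne p q with rfl | h
  · rfl
  · simp only [ArLef.BlowupGraph.mat, if_neg h, if_neg h.symm, adj_comm G p q]

lemma mat_eq : G.mat = -((1 - parMat G) * (1 - parMat G)ᵀ) := by
  ext p q
  have hB : (((1 : Matrix (Fin n) (Fin n) ℚ) - parMat G) *
      ((1 : Matrix (Fin n) (Fin n) ℚ) - parMat G)ᵀ : Matrix (Fin n) (Fin n) ℚ) p q =
      (if p = q then 1 else 0) - parMat G q p - parMat G p q + (parMat G * (parMat G)ᵀ) p q := by
    rw [Matrix.transpose_sub, Matrix.transpose_one]
    simp only [sub_mul, mul_sub, one_mul, mul_one, Matrix.sub_apply, Matrix.one_apply,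
      Matrix.transpose_apply]
    ring
  rw [Matrix.neg_apply, hB, parMat_mul]
  rcases lt_trichotomy p q with h | rfl | h
  · have hqp : q ∉ G.par p := fun e => lt_asymm h (G.par_lt p q e)
    rw [mat_offdiag G h]
    simp only [parMat, if_neg hqp, if_neg h.ne]
    ring
  · have hpp : p ∉ G.par p := fun e => lt_irrefl _ (G.par_lt p p e)
    simp only [ArLef.BlowupGraph.mat, ArLef.BlowupGraph.selfInt, parMat, if_neg hpp, if_pos,
      and_self]
    push_cast
    ring
  · have hpq : p ∉ G.par q := fun e => lt_asymm h (G.par_lt q p e)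
    rw [mat_symm, mat_offdiag G h]
    have : (univ.filter fun m => q ∈ G.par m ∧ p ∈ G.par m) =
        (univ.filter fun m => p ∈ G.par m ∧ q ∈ G.par m) := by
      apply Finset.filter_congr
      intros
      exact and_comm
    rw [this]
    simp only [parMat, if_neg hpq, if_neg h.ne']
    ring

noncomputable def multMat : Matrix (Fin n) (Fin n) ℚ := fun i j => (G.mult i j : ℚ)

lemma multMat_eq : multMat G = (ttMat G)ᵀ * ttMat G := by
  ext i j
  simp [multMat, ArLef.BlowupGraph.mult, Matrix.mul_apply, ttMat]

lemma mult_comm' (i j : Fin n) : (G.mult i j : ℚ) = G.mult j i := by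
  simp [ArLef.BlowupGraph.mult, mul_comm]

lemma mat_mul_mult : G.mat * multMat G = -1 := by
  have h1 : (1 - parMat G) * ttMat G = 1 := mul_eq_one_comm.1 (ttMat_mul G)
  have h2 : (1 - parMat G)ᵀ * (ttMat G)ᵀ = 1 := by
    rw [← Matrix.transpose_mul, ttMat_mul, Matrix.transpose_one]
  rw [mat_eq, multMat_eq, Matrix.neg_mul, Matrix.mul_assoc, ← Matrix.mul_assoc _ (ttMat G)ᵀ, h2,
    Matrix.one_mul, h1]

lemma isUnit_sub (I : Finset (Fin n)) :
    IsUnit (G.mat.submatrix (fun x : I => x.1) (fun x : I => x.1)) := by
  have hinj : Function.Injective (1 - parMat G).vecMul := by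
    intro x y h
    have h' := congrArg (fun v => Matrix.vecMul v (ttMat G)) h
    simp only [Matrix.vecMul_vecMul, mul_eq_one_comm.1 (ttMat_mul G), Matrix.vecMul_one] at h'
    exact h'
  have hpd : (-G.mat).PosDef := by
    rw [mat_eq, neg_neg, ← Matrix.conjTranspose_eq_transpose_of_trivial]
    exact Matrix.PosDef.mul_conjTranspose_self _ hinj
  have := ((hpd.submatrix (e := fun x : I => x.1) Subtype.val_injective).isUnit).neg
  rwa [Matrix.submatrix_neg, Pi.neg_apply, Pi.neg_apply, neg_neg] at this

lemma pairing_mul (I : Finset (Fin n)) (a i : Fin n) (hi : i ∉ I) :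
    ∑ j ∈ univ.filter (fun j => j ∉ I), G.pairing I a j * (G.mult j i : ℚ) =
      -(if a = i then 1 else 0) := by
  classical
  set N : Matrix I I ℚ := G.mat.submatrix (fun x : I => x.1) (fun x : I => x.1) with hN
  have hrow : ∀ b : Fin n, ∑ j ∈ univ.filter (fun j => j ∉ I), G.mat b j * (G.mult j i : ℚ) =
      -(if b = i then 1 else 0) - ∑ c : I, G.mat b c.1 * (G.mult c.1 i : ℚ) := by
    intro b
    have htot : ∑ j, G.mat b j * (G.mult j i : ℚ) = -(if b = i then 1 else 0) := by
      have := congrFun (congrFun (mat_mul_mult G) b) i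
      simpa [Matrix.mul_apply, multMat, Matrix.one_apply] using this
    rw [← htot, ← Finset.sum_filter_add_sum_filter_not univ (fun j => j ∉ I)
      (fun j => G.mat b j * (G.mult j i : ℚ))]
    have : ∑ j ∈ univ.filter (fun j => ¬ j ∉ I), G.mat b j * (G.mult j i : ℚ) =
        ∑ c : I, G.mat b c.1 * (G.mult c.1 i : ℚ) := by
      rw [Finset.univ_eq_attach, Finset.sum_attach I (fun c => G.mat b c * (G.mult c i : ℚ))]
      apply Finset.sum_congr _ (fun _ _ => rfl)
      ext j
      simp
    rw [this]
    ring
  have hinv : N⁻¹ * N = 1 := Matrix.nonsing_inv_mul _ ((Matrix.isUnit_iff_isUnit_det _).1 (isUnit_sub G I))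
  have hdelta : ∀ b : I, (if b.1 = i then (1 : ℚ) else 0) = 0 := fun b =>
    if_neg fun (e : b.1 = i) => hi (e ▸ b.2)
  calc ∑ j ∈ univ.filter (fun j => j ∉ I), G.pairing I a j * (G.mult j i : ℚ)
      = (∑ j ∈ univ.filter (fun j => j ∉ I), G.mat a j * (G.mult j i : ℚ)) -
          ∑ x : I, G.mat a x.1 * ∑ b : I, N⁻¹ x b *
            ∑ j ∈ univ.filter (fun j => j ∉ I), G.mat b.1 j * (G.mult j i : ℚ) := by
        simp only [ArLef.BlowupGraph.pairing, sub_mul, Finset.sum_sub_distrib, Finset.mul_sum,
          Finset.sum_mul, ← hN]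
        congr 1
        rw [Finset.sum_comm]
        refine Finset.sum_congr rfl fun x _ => ?_
        rw [Finset.sum_comm]
        refine Finset.sum_congr rfl fun b _ => Finset.sum_congr rfl fun j _ => ?_
        ring
    _ = (∑ j ∈ univ.filter (fun j => j ∉ I), G.mat a j * (G.mult j i : ℚ)) +
          ∑ x : I, G.mat a x.1 * ∑ c : I, (N⁻¹ * N) x c * (G.mult c.1 i : ℚ) := by
        rw [sub_eq_add_neg, ← Finset.sum_neg_distrib]
        congr 1
        refine Finset.sum_congr rfl fun x _ => ?_
        rw [← mul_neg]
        congr 1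
        simp only [hrow, hdelta, Matrix.mul_apply, Finset.sum_mul, neg_zero, zero_sub, mul_neg,
          Finset.sum_neg_distrib, neg_neg, Finset.mul_sum]
        rw [Finset.sum_comm]
        refine Finset.sum_congr rfl fun c _ => Finset.sum_congr rfl fun b _ => ?_
        rw [hN, Matrix.submatrix_apply]
        ring
    _ = -(if a = i then 1 else 0) := by
        rw [hinv, hrow]
        simp [Matrix.one_apply, ite_mul]

/-- Let Φ be the labelled dual graph of the exceptional curves of n successive blow-ups of closed points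
starting from a regular surface with algebraically closed residue fields (vertices = exceptional
curves in order of creation, labels = intersection numbers), I any set of vertices (the curves
contracted to a normal surface) and σ a permutation of the vertices preserving all intersection
numbers and the set I. Let e_{ij} be the multiplicity of E_i × E_j in the fibre square of the
composite blow-down (the sum over k of c^k_i c^k_j, c^k the total transform of the k-th exceptional
curve) and (E_i · E_j)_I Mumford's rational intersection number of the images after contracting I.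
Then the sum over i, j outside I of e_{ij} (σ E_i · E_j)_I equals minus the number of σ-fixed
vertices outside I. (Stated for the dual graphs realized with all residue fields equal to the base
field, which is the case the published argument realizes geometrically.) -/
theorem result (n : ℕ) (G : ArLef.BlowupGraph n) (I : Finset (Fin n))
    (σ : Equiv.Perm (Fin n)) (hσ : ∀ i j : Fin n, G.mat (σ i) (σ j) = G.mat i j)
    (hσI : ∀ i : Fin n, σ i ∈ I ↔ i ∈ I) :
    G.lNum I σ = ArLef.BlowupGraph.rNum I σ := by
  unfold ArLef.BlowupGraph.lNum ArLef.BlowupGraph.rNum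
  have h : ∀ i ∈ univ.filter (fun i => i ∉ I),
      ∑ j ∈ univ.filter (fun j => j ∉ I), (G.mult i j : ℚ) * G.pairing I (σ i) j =
        -(if σ i = i then 1 else 0) := by
    intro i hi
    rw [← pairing_mul G I (σ i) i (Finset.mem_filter.1 hi).2]
    refine Finset.sum_congr rfl fun j _ => ?_
    rw [mult_comm' G i j, mul_comm]
  rw [Finset.sum_congr rfl h, Finset.sum_neg_distrib, Finset.sum_boole, Finset.filter_filter]

end Groth.Agent.S15327
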