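import Groth.Statements.S15328
import Groth.Agent.VBLib.Max
import Groth.Agent.VBLib.Twist
-- import your own Groth.Agent.* helpers here

set_option autoImplicit false
open CategoryTheory AlgebraicGeometry CategoryTheory.Limits
open VBCurve

namespace Groth.Agent.S15328
open CategoryTheory CategoryTheory.Limits AlgebraicGeometry

/-- Let X be a smooth proper integral curve over the complex numbers, L an invertible module on X and
(E, φ) an L-valued Higgs bundle on X: E finite locally free of rank r ≥ 1 and φ : E → E ⊗ L. A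
submodule j : G → E (a monomorphism) is a Higgs submodule when φ restricts to it, that is, some ψ :
G → G ⊗ L followed by j ⊗ L equals j followed by φ; (E, φ) is semistable when deg G · r ≤ deg E · r'
for every finite locally free Higgs submodule G of rank r' ≥ 1, degrees being χ − rank · χ(O).
Suppose (E, φ) is semistable and F is a finite locally free Higgs submodule of rank r' ≥ 1 with the
same slope, deg F · r = deg E · r'. Then the quotient E/F is finite locally free of rank r − r' and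
is semistable of the same slope for its induced Higgs field: for every φ' : E/F → (E/F) ⊗ L
compatible with φ along the projection and every finite locally free submodule G of E/F of rank s ≥
1 to which φ' restricts, deg G · (r − r') ≤ deg(E/F) · s. (The published statement also assumes F
semistable, which the published argument does not use; this row omits it.) -/
theorem result
    (X : Scheme.{0}) [X.Over (Spec (CommRingCat.of ℂ))] [IsIntegral X]
    [IsProper (X ↘ Spec (CommRingCat.of ℂ))] [Smooth (X ↘ Spec (CommRingCat.of ℂ))]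
    (hdim : topologicalKrullDim X = 1)
    (L : X.Modules) (hL : PicF.IsInvertible L)
    (r : ℕ) (hr : 0 < r) (E : X.Modules) (hE : FlatMod.IsFinLocFreeOfRank r E)
    (φ : E ⟶ CohB1.tensorMod E L)
    (hss : ∀ (G : X.Modules) (s : ℕ) (j : G ⟶ E) (ψ : G ⟶ CohB1.tensorMod G L), Mono j → 0 < s →
      FlatMod.IsFinLocFreeOfRank s G →
      ψ ≫ (CohB1.sheafifyMod X).map (MonoidalCategoryStruct.whiskerRight (C := CohB1.PMod X) j.val (CohB1.toPMod L)) = j ≫ φ →
      Curv2.deg ℂ X G s * (r : ℤ) ≤ Curv2.deg ℂ X E r * (s : ℤ))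
    (F : X.Modules) (r' : ℕ) (hr' : 0 < r') (hF : FlatMod.IsFinLocFreeOfRank r' F)
    (i : F ⟶ E) [Mono i] (ψF : F ⟶ CohB1.tensorMod F L)
    (hψF : ψF ≫ (CohB1.sheafifyMod X).map (MonoidalCategoryStruct.whiskerRight (C := CohB1.PMod X) i.val (CohB1.toPMod L)) = i ≫ φ)
    (hslope : Curv2.deg ℂ X F r' * (r : ℤ) = Curv2.deg ℂ X E r * (r' : ℤ)) :
    FlatMod.IsFinLocFreeOfRank (r - r') (cokernel i) ∧
    ∀ (φ' : cokernel i ⟶ CohB1.tensorMod (cokernel i) L),
      cokernel.π i ≫ φ' = φ ≫ (CohB1.sheafifyMod X).map (MonoidalCategoryStruct.whiskerRight (C := CohB1.PMod X) (cokernel.π i).val (CohB1.toPMod L)) →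
      ∀ (G : X.Modules) (s : ℕ) (j : G ⟶ cokernel i) (ψ : G ⟶ CohB1.tensorMod G L), Mono j → 0 < s →
        FlatMod.IsFinLocFreeOfRank s G →
        ψ ≫ (CohB1.sheafifyMod X).map (MonoidalCategoryStruct.whiskerRight (C := CohB1.PMod X) j.val (CohB1.toPMod L)) = j ≫ φ' →
        Curv2.deg ℂ X G s * ((r - r' : ℕ) : ℤ) ≤ Curv2.deg ℂ X (cokernel i) (r - r') * (s : ℤ) := by
  haveI := VBLib.isRegCurve_of_smooth ℂ (X := X) hdim.le
  haveI := EulerIneqLib.isNoetherian_proper (X := X) ℂ
  have hEc := VBLib.isCoh_of_rank hE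
  have hFc := VBLib.isCoh_of_rank hF
  let T := CurveLib.tensR L
  have hLc := CurveLib.isCoh_of_isInvertible hL
  have restrict : ∀ (D : X.Modules) (p : E ⟶ D), Epi p → kernel.ι p ≫ φ ≫ T.map p = 0 →
      ∃ χ : kernel p ⟶ CohB1.tensorMod (kernel p) L, χ ≫ T.map (kernel.ι p) = kernel.ι p ≫ φ := by
    intro D p hp h0
    haveI := hp
    have hS : (ShortComplex.mk (kernel.ι p) p (kernel.condition p)).ShortExact :=
      ShortComplex.ShortExact.mk' (ShortComplex.exact_of_f_is_kernel _ (kernelIsKernel p)) inferInstance inferInstance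
    have hT := CurveLib.shortExact_tensR hS fun x => CurveLib.freeAt_one_of_isInvertible hL x
    haveI := hT.mono_f
    exact ⟨hT.fIsKernel.lift (KernelFork.ofι (kernel.ι p ≫ φ) (by rw [Category.assoc]; exact h0)),
      hT.fIsKernel.fac _ WalkingParallelPair.zero⟩
  have semi : ∀ (D : X.Modules) (p : E ⟶ D), Epi p → Coh.IsCoh D → kernel.ι p ≫ φ ≫ T.map p = 0 →
      0 < VBLib.grk (kernel p) →
      VBLib.dg ℂ (kernel p) * (r : ℤ) ≤ Curv2.deg ℂ X E r * VBLib.grk (kernel p) := by
    intro D p hp hD h0 hpos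
    haveI := hp
    obtain ⟨hK, -, -⟩ := VBLib.kernel_add ℂ p hEc hD
    have hKr := VBLib.rank_of_mono (kernel.ι p) hK hE
    obtain ⟨χ, hχ⟩ := restrict D p hp h0
    rw [VBLib.dg_eq ℂ hKr]
    exact hss _ _ (kernel.ι p) χ inferInstance hpos hKr hχ
  obtain ⟨hC, hC1, hC2⟩ := VBLib.coker_add ℂ i hFc hEc
  rw [VBLib.grk_of_rank hE, VBLib.grk_of_rank hF] at hC1
  rw [VBLib.dg_eq ℂ hE, VBLib.dg_eq ℂ hF] at hC2
  have hlf : FlatMod.IsFinLocFreeOfRank (r - r') (cokernel i) := by
    obtain ⟨Q, q, hq, hQc, hQ, hQr, hQd⟩ := VBLib.exists_freeQuot ℂ hdim.le hC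
    haveI := hq
    let p : E ⟶ Q := cokernel.π i ≫ q
    obtain ⟨hK, hK1, hK2⟩ := VBLib.kernel_add ℂ p hEc hQc
    rw [VBLib.grk_of_rank hE] at hK1
    rw [VBLib.dg_eq ℂ hE] at hK2
    let l : F ⟶ kernel p := kernel.lift p i (by simp [p])
    have hl : l ≫ kernel.ι p = i := kernel.lift_ι _ _ _
    haveI : Mono (l ≫ kernel.ι p) := hl.symm ▸ ‹Mono i›
    haveI : Mono l := mono_of_mono l (kernel.ι p)
    let h : kernel p ⟶ CohB1.tensorMod Q L := kernel.ι p ≫ φ ≫ T.map p
    have hlh : l ≫ h = 0 := by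
      show l ≫ kernel.ι p ≫ φ ≫ T.map p = 0
      rw [← Category.assoc, hl, ← Category.assoc, ← hψF]
      show (ψF ≫ T.map i) ≫ T.map p = 0
      have h2 : T.map i ≫ T.map p = 0 := by
        rw [← T.map_comp, show i ≫ p = 0 by simp [p], T.map_zero]
      exact (Category.assoc _ _ _).trans ((congrArg (ψF ≫ ·) h2).trans comp_zero)
    have h0 : h = 0 := by
      by_contra hne
      obtain ⟨I, a, b, hb, ha, hab, hI, hKh, h1, -⟩ :=
        VBLib.exists_image ℂ h hK (CurveLib.isCoh_tmod hQc hLc)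
      haveI := hb
      obtain ⟨G, c, e, hc, hG, -⟩ := VBLib.exists_untwist hL b hI
      haveI := hc
      have hg : VBLib.grk I = VBLib.grk G := (VBLib.grk_iso e).symm.trans (VBLib.grk_twist hL G)
      haveI : Mono (kernel.lift h l hlh) := by
        haveI : Mono (kernel.lift h l hlh ≫ kernel.ι h) := (kernel.lift_ι h l hlh).symm ▸ ‹Mono l›
        exact mono_of_mono _ (kernel.ι h)
      obtain ⟨-, h3, -⟩ := VBLib.coker_add ℂ (kernel.lift h l hlh) hFc hKh
      rw [VBLib.grk_of_rank hF] at h3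
      refine hne ?_
      have hzI : IsZero I := (T.map_isZero (VBLib.isZero_of_mono c hG hQ (by omega))).of_iso e.symm
      rw [← hab, hzI.eq_of_tgt a 0, zero_comp]
    have hs := semi Q p inferInstance hQc h0 (by omega)
    rw [show VBLib.grk (kernel p) = r' by omega] at hs
    have hr'' : (0 : ℤ) < r := by exact_mod_cast hr
    have hle : VBLib.dg ℂ (kernel p) ≤ Curv2.deg ℂ X F r' :=
      le_of_mul_le_mul_right (hs.trans hslope.ge) hr''
    obtain ⟨hK', hk1, hk2⟩ := VBLib.kernel_add ℂ q hC hQc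
    have hz := VBLib.isZero_of_dg_eq_zero ℂ hdim.le hK' (by omega) (by
      have := VBLib.dg_nonneg ℂ hdim.le hK' (by omega)
      omega)
    haveI := Preadditive.mono_of_isZero_kernel q hz
    haveI := isIso_of_mono_of_epi q
    have h5 := hQ
    rw [show VBLib.grk Q = r - r' by omega] at h5
    exact fun x => by
      obtain ⟨U, hx, ⟨e⟩⟩ := h5 x
      exact ⟨U, hx, ⟨(Scheme.Modules.restrictFunctor U.ι).mapIso (asIso q) ≪≫ e⟩⟩
  refine ⟨hlf, fun φ' hφ' G s j ψ hj hs hG hψ => ?_⟩
  haveI := hj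
  have hGc := VBLib.isCoh_of_rank hG
  obtain ⟨hD, hD1, hD2⟩ := VBLib.coker_add ℂ j hGc hC
  let p : E ⟶ cokernel j := cokernel.π i ≫ cokernel.π j
  obtain ⟨hK, hK1, hK2⟩ := VBLib.kernel_add ℂ p hEc hD
  have h0 : kernel.ι p ≫ φ ≫ T.map p = 0 := by
    have hl : (kernel.ι p ≫ cokernel.π i) ≫ cokernel.π j = 0 := by rw [Category.assoc]; exact kernel.condition p
    let l : kernel p ⟶ G := Abelian.monoLift j _ hl
    have hlj : l ≫ j = kernel.ι p ≫ cokernel.π i := Abelian.monoLift_comp j _ hl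
    have hb : φ ≫ T.map (cokernel.π i) = cokernel.π i ≫ φ' := hφ'.symm
    have hc : ψ ≫ T.map j = j ≫ φ' := hψ
    calc kernel.ι p ≫ φ ≫ T.map p
        = kernel.ι p ≫ (φ ≫ T.map (cokernel.π i)) ≫ T.map (cokernel.π j) := by
          exact congrArg (kernel.ι p ≫ ·)
            ((congrArg (φ ≫ ·) (T.map_comp _ _)).trans (Category.assoc _ _ _).symm)
      _ = (kernel.ι p ≫ cokernel.π i) ≫ φ' ≫ T.map (cokernel.π j) := by
          rw [hb]
          exact (congrArg (kernel.ι p ≫ ·) (Category.assoc _ _ _)).trans (Category.assoc _ _ _).symm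
      _ = l ≫ (j ≫ φ') ≫ T.map (cokernel.π j) := by
          rw [← hlj]
          exact (Category.assoc _ _ _).trans (congrArg (l ≫ ·) (Category.assoc _ _ _).symm)
      _ = 0 := by
          rw [← hc]
          have h2 : T.map j ≫ T.map (cokernel.π j) = 0 := by rw [← T.map_comp, cokernel.condition, T.map_zero]
          exact (congrArg (l ≫ ·) ((Category.assoc _ _ _).trans ((congrArg (ψ ≫ ·) h2).trans comp_zero))).trans comp_zero
  rw [VBLib.grk_of_rank hE] at hK1
  rw [VBLib.grk_of_rank hG] at hD1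
  rw [VBLib.dg_eq ℂ hE] at hK2
  rw [VBLib.dg_eq ℂ hG] at hD2
  rw [VBLib.dg_eq ℂ hlf] at hC2 hD2
  have hs' := semi (cokernel j) p inferInstance hD h0 (by omega)
  have e1 : VBLib.dg ℂ (kernel p) = Curv2.deg ℂ X F r' + Curv2.deg ℂ X G s := by omega
  have e2 : (VBLib.grk (kernel p) : ℤ) = r' + s := by omega
  have e3 : ((r - r' : ℕ) : ℤ) = r - r' := by omega
  rw [e1, e2] at hs'
  rw [e3]
  have hr'' : (0 : ℤ) < r := by exact_mod_cast hr
  refine le_of_mul_le_mul_right ?_ hr''
  have q1 := congrArg (fun z => z * (r : ℤ) * s) hC2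
  have q2 := congrArg (· * (s : ℤ)) hslope
  have hle : Curv2.deg ℂ X G s * (r : ℤ) ≤ Curv2.deg ℂ X E r * s := by linarith
  have hrr : (0 : ℤ) ≤ (r : ℤ) - r' := by omega
  have q3 := mul_le_mul_of_nonneg_right hle hrr
  try dsimp only at q1 q2
  linarith

end Groth.Agent.S15328
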