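import Groth.Statements.S15330
import Groth.Agent.HiggsFiltLib.Basic
-- import your own Groth.Agent.* helpers here

set_option autoImplicit false
set_option backward.isDefEq.respectTransparency false
set_option maxHeartbeats 800000
set_option synthInstance.maxHeartbeats 200000
open CategoryTheory AlgebraicGeometry CategoryTheory.Limits
open VBCurve

namespace Groth.Agent.S15330

open Groth.Agent CategoryTheory
set_option backward.isDefEq.respectTransparency false

/-- Let X be a smooth proper integral curve over the complex numbers, L an invertible module on X, and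
(E, φ_E), (F, φ_F) two L-valued Higgs bundles on X of the same rank r ≥ 1 and the same degree d
(degree = χ − rank · χ(O)), each semistable: deg G · r ≤ d · s for every finite locally free
submodule G of rank s ≥ 1 to which the Higgs field restricts. Let E_0 ⊂ E_1 ⊂ … ⊂ E_n = E with E_0 =
0 and F = F_0 ⊃ F_1 ⊃ … ⊃ F_n = 0 be chains of finite locally free submodules to which the Higgs
fields restrict, of ranks with rk E_i + rk F_i = r, which are opposite: E_{i+1}/E_i ≅ F_i/F_{i+1} as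
O-modules for i < n. Then every E_i of positive rank and every F_i of positive rank has slope d/r,
that is deg · r = d · rank, and is semistable for its restricted Higgs field; and each graded piece
E_{i+1}/E_i of positive rank is finite locally free of rank rk E_{i+1} − rk E_i, of slope d/r, and
semistable for every Higgs field on it compatible with that of E_{i+1} along the projection. (The
published statement indexes the second chain so that F_i/F_{i+1} matches E_i/E_{i−1} and takes the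
isomorphisms of graded pieces as Higgs bundles; here they are assumed as O-modules only, together
with the rank bookkeeping rk E_i + rk F_i = r that they imply.) -/
theorem result
    (X : Scheme.{0}) [X.Over (Spec (CommRingCat.of ℂ))] [IsIntegral X]
    [IsProper (X ↘ Spec (CommRingCat.of ℂ))] [Smooth (X ↘ Spec (CommRingCat.of ℂ))]
    (hdim : topologicalKrullDim X = 1)
    (L : X.Modules) (hL : PicF.IsInvertible L) (r : ℕ) (hr : 0 < r) (d : ℤ)
    (E : X.Modules) (hE : FlatMod.IsFinLocFreeOfRank r E) (φE : E ⟶ CohB1.tensorMod E L)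
    (hEd : Curv2.deg ℂ X E r = d)
    (hEss : (∀ (G : X.Modules) (s : ℕ) (j : G ⟶ E) (χ : G ⟶ CohB1.tensorMod G L), Mono j → 0 < s →
        FlatMod.IsFinLocFreeOfRank s G →
        χ ≫ (CohB1.sheafifyMod X).map (MonoidalCategoryStruct.whiskerRight (C := CohB1.PMod X) j.val (CohB1.toPMod L)) = j ≫ φE →
        Curv2.deg ℂ X G s * (r : ℤ) ≤ Curv2.deg ℂ X E r * (s : ℤ)))
    (F : X.Modules) (hF : FlatMod.IsFinLocFreeOfRank r F) (φF : F ⟶ CohB1.tensorMod F L)
    (hFd : Curv2.deg ℂ X F r = d)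
    (hFss : (∀ (G : X.Modules) (s : ℕ) (j : G ⟶ F) (χ : G ⟶ CohB1.tensorMod G L), Mono j → 0 < s →
        FlatMod.IsFinLocFreeOfRank s G →
        χ ≫ (CohB1.sheafifyMod X).map (MonoidalCategoryStruct.whiskerRight (C := CohB1.PMod X) j.val (CohB1.toPMod L)) = j ≫ φF →
        Curv2.deg ℂ X G s * (r : ℤ) ≤ Curv2.deg ℂ X F r * (s : ℤ)))
    (n : ℕ)
    (Es : ℕ → X.Modules) (rE : ℕ → ℕ) (hEs : ∀ i, FlatMod.IsFinLocFreeOfRank (rE i) (Es i))
    (ιE : ∀ i, Es i ⟶ E) (hιE : ∀ i, Mono (ιE i))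
    (ψE : ∀ i, Es i ⟶ CohB1.tensorMod (Es i) L)
    (hψE : ∀ i, ψE i ≫ (CohB1.sheafifyMod X).map (MonoidalCategoryStruct.whiskerRight (C := CohB1.PMod X) (ιE i).val (CohB1.toPMod L)) = ιE i ≫ φE)
    (a : ∀ i, Es i ⟶ Es (i + 1)) (ha : ∀ i, a i ≫ ιE (i + 1) = ιE i)
    (hE0 : IsZero (Es 0)) (hEn : IsIso (ιE n))
    (Fs : ℕ → X.Modules) (rF : ℕ → ℕ) (hFs : ∀ i, FlatMod.IsFinLocFreeOfRank (rF i) (Fs i))
    (ιF : ∀ i, Fs i ⟶ F) (hιF : ∀ i, Mono (ιF i))
    (ψF : ∀ i, Fs i ⟶ CohB1.tensorMod (Fs i) L)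
    (hψF : ∀ i, ψF i ≫ (CohB1.sheafifyMod X).map (MonoidalCategoryStruct.whiskerRight (C := CohB1.PMod X) (ιF i).val (CohB1.toPMod L)) = ιF i ≫ φF)
    (b : ∀ i, Fs (i + 1) ⟶ Fs i) (hb : ∀ i, b i ≫ ιF i = ιF (i + 1))
    (hF0 : IsIso (ιF 0)) (hFn : IsZero (Fs n))
    (hrk : ∀ i, i ≤ n → rE i + rF i = r)
    (hopp : ∀ i, i < n → Nonempty (cokernel (a i) ≅ cokernel (b i))) :
    (∀ i, i ≤ n → 0 < rE i →
      Curv2.deg ℂ X (Es i) (rE i) * (r : ℤ) = d * (rE i : ℤ) ∧
      (∀ (G : X.Modules) (s : ℕ) (j : G ⟶ (Es i)) (χ : G ⟶ CohB1.tensorMod G L), Mono j → 0 < s →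
        FlatMod.IsFinLocFreeOfRank s G →
        χ ≫ (CohB1.sheafifyMod X).map (MonoidalCategoryStruct.whiskerRight (C := CohB1.PMod X) j.val (CohB1.toPMod L)) = j ≫ ψE i →
        Curv2.deg ℂ X G s * (rE i : ℤ) ≤ Curv2.deg ℂ X (Es i) (rE i) * (s : ℤ))) ∧
    (∀ i, i ≤ n → 0 < rF i →
      Curv2.deg ℂ X (Fs i) (rF i) * (r : ℤ) = d * (rF i : ℤ) ∧
      (∀ (G : X.Modules) (s : ℕ) (j : G ⟶ (Fs i)) (χ : G ⟶ CohB1.tensorMod G L), Mono j → 0 < s →
        FlatMod.IsFinLocFreeOfRank s G →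
        χ ≫ (CohB1.sheafifyMod X).map (MonoidalCategoryStruct.whiskerRight (C := CohB1.PMod X) j.val (CohB1.toPMod L)) = j ≫ ψF i →
        Curv2.deg ℂ X G s * (rF i : ℤ) ≤ Curv2.deg ℂ X (Fs i) (rF i) * (s : ℤ))) ∧
    (∀ i, i < n → rE i < rE (i + 1) →
      FlatMod.IsFinLocFreeOfRank (rE (i + 1) - rE i) (cokernel (a i)) ∧
      Curv2.deg ℂ X (cokernel (a i)) (rE (i + 1) - rE i) * (r : ℤ) = d * ((rE (i + 1) - rE i : ℕ) : ℤ) ∧
      ∀ (φ' : cokernel (a i) ⟶ CohB1.tensorMod (cokernel (a i)) L),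
        cokernel.π (a i) ≫ φ' = ψE (i + 1) ≫ (CohB1.sheafifyMod X).map (MonoidalCategoryStruct.whiskerRight (C := CohB1.PMod X) (cokernel.π (a i)).val (CohB1.toPMod L)) →
        (∀ (G : X.Modules) (s : ℕ) (j : G ⟶ cokernel (a i)) (χ : G ⟶ CohB1.tensorMod G L), Mono j → 0 < s →
        FlatMod.IsFinLocFreeOfRank s G →
        χ ≫ (CohB1.sheafifyMod X).map (MonoidalCategoryStruct.whiskerRight (C := CohB1.PMod X) j.val (CohB1.toPMod L)) = j ≫ φ' →
        Curv2.deg ℂ X G s * ((rE (i + 1) - rE i : ℕ) : ℤ) ≤ Curv2.deg ℂ X (cokernel (a i)) (rE (i + 1) - rE i) * (s : ℤ))) := by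
    haveI := EulerIneqLib.isNoetherian_proper (X := X) ℂ
    haveI := VBLib.isRegCurve_of_smooth ℂ (X := X) hdim.le
    have hc := fun i => VBLib.isCoh_of_rank (hEs i)
    have hc' := fun i => VBLib.isCoh_of_rank (hFs i)
    haveI : ∀ i, Mono (a i) := fun i => by
      haveI := hιE i
      haveI : Mono (a i ≫ ιE (i + 1)) := by rw [ha]; infer_instance
      exact mono_of_mono (a i) (ιE (i + 1))
    haveI : ∀ i, Mono (b i) := fun i => by
      haveI := hιF (i + 1)
      haveI : Mono (b i ≫ ιF i) := by rw [hb]; infer_instance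
      exact mono_of_mono (b i) (ιF i)
    have hssE : HiggsFiltLib.InvLE ℂ φE d r := HiggsFiltLib.invLE_of ℂ hE φE fun G s j χ hj h0 hG hχ =>
      hEd ▸ hEss G s j χ hj h0 hG hχ
    have hssF : HiggsFiltLib.InvLE ℂ φF d r := HiggsFiltLib.invLE_of ℂ hF φF fun G s j χ hj h0 hG hχ =>
      hFd ▸ hFss G s j χ hj h0 hG hχ
    have hsum : ∀ i, i ≤ n → VBLib.dg ℂ (Es i) + VBLib.dg ℂ (Fs i) = d := by
      intro i
      induction i with
      | zero =>
        intro _
        haveI := hF0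
        rw [(VBLib.dg_isZero ℂ hE0).2, VBLib.dg_iso ℂ (asIso (ιF 0)), VBLib.dg_eq ℂ hF, hFd, zero_add]
      | succ i ih =>
        intro hi
        obtain ⟨-, -, h1⟩ := VBLib.coker_add ℂ (a i) (hc i) (hc (i + 1))
        obtain ⟨-, -, h2⟩ := VBLib.coker_add ℂ (b i) (hc' (i + 1)) (hc' i)
        obtain ⟨e⟩ := hopp i (by omega)
        have h3 := VBLib.dg_iso ℂ e
        have := ih (by omega)
        omega
    have heq : ∀ i, i ≤ n → VBLib.dg ℂ (Es i) * (r : ℤ) = d * (rE i : ℤ) ∧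
        VBLib.dg ℂ (Fs i) * (r : ℤ) = d * (rF i : ℤ) := by
      intro i hi
      have h1 := hssE (Es i) (ιE i) (hιE i) (hc i) ⟨ψE i, hψE i⟩
      have h2 := hssF (Fs i) (ιF i) (hιF i) (hc' i) ⟨ψF i, hψF i⟩
      rw [VBLib.grk_of_rank (hEs i)] at h1
      rw [VBLib.grk_of_rank (hFs i)] at h2
      have h3 : (rE i : ℤ) + rF i = r := by exact_mod_cast hrk i hi
      have h4 : VBLib.dg ℂ (Es i) * (r : ℤ) + VBLib.dg ℂ (Fs i) * r = d * (rE i : ℤ) + d * rF i := by
        rw [← add_mul, hsum i hi, ← mul_add, h3]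
      omega
    have hr' : (0 : ℤ) < r := by exact_mod_cast hr
    refine ⟨fun i hi _ => ?_, fun i hi _ => ?_, fun i hi hlt => ?_⟩
    · obtain ⟨h1, -⟩ := heq i hi
      rw [VBLib.dg_eq ℂ (hEs i)] at h1
      refine ⟨h1, fun G s j χ hj h0 hG hχ => ?_⟩
      haveI := hιE i
      have h2 := hssE G (j ≫ ιE i) (mono_comp _ _) (VBLib.isCoh_of_rank hG)
        (HiggsFiltLib.Inv.comp (hψE i) ⟨χ, hχ⟩)
      rw [VBLib.dg_eq ℂ hG, VBLib.grk_of_rank hG] at h2
      refine le_of_mul_le_mul_right ?_ hr'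
      calc Curv2.deg ℂ X G s * (rE i : ℤ) * r = Curv2.deg ℂ X G s * r * (rE i : ℤ) := by ring
        _ ≤ d * (s : ℤ) * (rE i : ℤ) := mul_le_mul_of_nonneg_right h2 (Int.natCast_nonneg _)
        _ = Curv2.deg ℂ X (Es i) (rE i) * r * (s : ℤ) := by rw [h1]; ring
        _ = _ := by ring
    · obtain ⟨-, h1⟩ := heq i hi
      rw [VBLib.dg_eq ℂ (hFs i)] at h1
      refine ⟨h1, fun G s j χ hj h0 hG hχ => ?_⟩
      haveI := hιF i
      have h2 := hssF G (j ≫ ιF i) (mono_comp _ _) (VBLib.isCoh_of_rank hG)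
        (HiggsFiltLib.Inv.comp (hψF i) ⟨χ, hχ⟩)
      rw [VBLib.dg_eq ℂ hG, VBLib.grk_of_rank hG] at h2
      refine le_of_mul_le_mul_right ?_ hr'
      calc Curv2.deg ℂ X G s * (rF i : ℤ) * r = Curv2.deg ℂ X G s * r * (rF i : ℤ) := by ring
        _ ≤ d * (s : ℤ) * (rF i : ℤ) := mul_le_mul_of_nonneg_right h2 (Int.natCast_nonneg _)
        _ = Curv2.deg ℂ X (Fs i) (rF i) * r * (s : ℤ) := by rw [h1]; ring
        _ = _ := by ring
    · haveI := hιE (i + 1)
      obtain ⟨-, hQ, hQd, hQss⟩ := HiggsFiltLib.quot_step ℂ hdim.le hL hr (a := a i) (ιB := ιE (i + 1))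
        (hEs i) (hEs (i + 1)) (hψE (i + 1)) (ψA := ψE i) (by rw [ha i]; exact hψE i) hssE
        (heq i (by omega)).1 (heq (i + 1) (by omega)).1
      have hQd' := hQd
      rw [VBLib.dg_eq ℂ hQ] at hQd'
      refine ⟨hQ, hQd', fun φ' hφ' G s j χ hj h0 hG hχ => ?_⟩
      have h2 := hQss φ' hφ' G j hj (VBLib.isCoh_of_rank hG) ⟨χ, hχ⟩
      rw [VBLib.dg_eq ℂ hG, VBLib.grk_of_rank hG] at h2
      refine le_of_mul_le_mul_right ?_ hr'
      calc Curv2.deg ℂ X G s * ((rE (i + 1) - rE i : ℕ) : ℤ) * r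
          = Curv2.deg ℂ X G s * r * ((rE (i + 1) - rE i : ℕ) : ℤ) := by ring
        _ ≤ d * (s : ℤ) * ((rE (i + 1) - rE i : ℕ) : ℤ) := mul_le_mul_of_nonneg_right h2 (Int.natCast_nonneg _)
        _ = Curv2.deg ℂ X (cokernel (a i)) (rE (i + 1) - rE i) * r * (s : ℤ) := by rw [hQd']; ring
        _ = _ := by ring

end Groth.Agent.S15330
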