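import Groth.Statements.S15331
import Groth.Agent.VBLib.Ext
-- import your own Groth.Agent.* helpers here

set_option autoImplicit false
set_option backward.isDefEq.respectTransparency false
universe u
open CategoryTheory CategoryTheory.Limits AlgebraicGeometry
open VBCurve

namespace Groth.Agent.S15331
open CategoryTheory CategoryTheory.Limits AlgebraicGeometry

/-- Let X be a smooth proper integral curve (integral, smooth and proper of dimension one) over an
algebraically closed field k and E a finite locally free O_X-module of rank r ≥ 1. Then the degrees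
of the finite locally free submodules F of E, of any rank r' (degree meaning χ(F) − r'·χ(O_X)), are
bounded above. -/
theorem result (k : Type u) [Field k] [IsAlgClosed k] (X : Scheme.{u}) [X.Over (Spec (CommRingCat.of k))]
    [IsIntegral X] [IsProper (X ↘ Spec (CommRingCat.of k))] [Smooth (X ↘ Spec (CommRingCat.of k))]
    (hdim : topologicalKrullDim X = 1)
    (r : ℕ) (hr : 0 < r) (E : X.Modules) (hE : FlatMod.IsFinLocFreeOfRank r E) :
    ∃ N : ℤ, ∀ (F : X.Modules) (r' : ℕ) (i : F ⟶ E), Mono i → FlatMod.IsFinLocFreeOfRank r' F →
      Curv2.deg k X F r' ≤ N := by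
  haveI := VBLib.isRegCurve_of_smooth k (X := X) hdim.le
  haveI := EulerIneqLib.isNoetherian_proper (X := X) k
  obtain ⟨N, hN⟩ := VBLib.bddAbove_dg k hdim.le (VBLib.isCoh_of_rank hE)
  refine ⟨N, fun F r' i hi hF => ?_⟩
  rw [← VBLib.dg_eq k hF]
  exact hN F i hi (VBLib.isCoh_of_rank hF)

end Groth.Agent.S15331
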