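import Groth.Statements.S15335
import Groth.Agent.VBLib.Ext
-- import your own Groth.Agent.* helpers here

set_option autoImplicit false
set_option backward.isDefEq.respectTransparency false
universe u
open CategoryTheory CategoryTheory.Limits AlgebraicGeometry
open VBCurve

namespace Groth.Agent.S15335
open CategoryTheory CategoryTheory.Limits AlgebraicGeometry

/-- Let X be a smooth proper integral curve (integral, smooth and proper of dimension one) over an
algebraically closed field k, and E₁, E₂ finite locally free O_X-modules of ranks r₁ ≥ 1, r₂ ≥ 1.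
The maximal slope of E₁ ⊕ E₂ is at most the larger of the maximal slopes of E₁ and E₂: if m₁, m₂ are
rational numbers such that every finite locally free submodule of positive rank of E₁ (resp. E₂) has
slope deg/rank ≤ m₁ (resp. ≤ m₂), degree meaning χ − rank·χ(O_X), then every finite locally free
submodule F of the biproduct E₁ ⊞ E₂ of rank r' ≥ 1 has slope deg F / r' ≤ max(m₁, m₂). -/
theorem result (k : Type u) [Field k] [IsAlgClosed k] (X : Scheme.{u}) [X.Over (Spec (CommRingCat.of k))]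
    [IsIntegral X] [IsProper (X ↘ Spec (CommRingCat.of k))] [Smooth (X ↘ Spec (CommRingCat.of k))]
    (hdim : topologicalKrullDim X = 1)
    (r₁ r₂ : ℕ) (hr₁ : 0 < r₁) (hr₂ : 0 < r₂) (E₁ E₂ : X.Modules)
    (hE₁ : FlatMod.IsFinLocFreeOfRank r₁ E₁) (hE₂ : FlatMod.IsFinLocFreeOfRank r₂ E₂) (m₁ m₂ : ℚ)
    (h₁ : ∀ (G : X.Modules) (r' : ℕ) (i : G ⟶ E₁), Mono i → 0 < r' → FlatMod.IsFinLocFreeOfRank r' G →
      (Curv2.deg k X G r' : ℚ) / r' ≤ m₁)
    (h₂ : ∀ (G : X.Modules) (r' : ℕ) (i : G ⟶ E₂), Mono i → 0 < r' → FlatMod.IsFinLocFreeOfRank r' G →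
      (Curv2.deg k X G r' : ℚ) / r' ≤ m₂)
    (F : X.Modules) (r' : ℕ) (i : F ⟶ E₁ ⊞ E₂) (hi : Mono i) (hr' : 0 < r')
    (hF : FlatMod.IsFinLocFreeOfRank r' F) :
    (Curv2.deg k X F r' : ℚ) / r' ≤ max m₁ m₂ := by
  haveI := VBLib.isRegCurve_of_smooth k (X := X) hdim.le
  haveI := EulerIneqLib.isNoetherian_proper (X := X) k
  haveI := hi
  let T : ShortComplex X.Modules := ShortComplex.mk (biprod.inl : E₁ ⟶ E₁ ⊞ E₂) biprod.snd biprod.inl_snd
  have hT : T.ShortExact := (ShortComplex.Splitting.ofHasBinaryBiproduct E₁ E₂).shortExact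
  obtain ⟨A, B, a, b, ha, hb, hA, hB, hg, hd⟩ := VBLib.exists_ends k T hT (VBLib.isCoh_of_rank hE₁)
    (VBLib.isCoh_of_rank hE₂) (G := F) (show F ⟶ T.X₂ from i) (VBLib.isCoh_of_rank hF)
  have main : ∀ {Y E : X.Modules} {n : ℕ} (hE : FlatMod.IsFinLocFreeOfRank n E) (m : ℚ)
      (h : ∀ (G : X.Modules) (r' : ℕ) (i : G ⟶ E), Mono i → 0 < r' → FlatMod.IsFinLocFreeOfRank r' G →
        (Curv2.deg k X G r' : ℚ) / r' ≤ m) (a : Y ⟶ E) [Mono a] (hY : Coh.IsCoh Y),
      (VBLib.dg k Y : ℚ) ≤ m * VBLib.grk Y := by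
    intro Y E n hE m h a _ hY
    have hr := VBLib.rank_of_mono a hY hE
    rcases Nat.eq_zero_or_pos (VBLib.grk Y) with h0 | h0
    · rw [(VBLib.dg_isZero k (VBLib.isZero_of_mono a hY hE h0)).2, h0]
      simp
    · rw [VBLib.dg_eq k hr, ← div_le_iff₀ (by exact_mod_cast h0)]
      exact h _ _ a inferInstance h0 hr
  have p1 := main hE₁ m₁ h₁ a hA
  have p2 := main hE₂ m₂ h₂ b hB
  rw [VBLib.grk_of_rank hF] at hg
  rw [VBLib.dg_eq k hF] at hd
  rw [div_le_iff₀ (by exact_mod_cast hr'), hd, hg]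
  push_cast
  rw [mul_add]
  exact add_le_add (p1.trans (mul_le_mul_of_nonneg_right (le_max_left _ _) (Nat.cast_nonneg _)))
    (p2.trans (mul_le_mul_of_nonneg_right (le_max_right _ _) (Nat.cast_nonneg _)))

end Groth.Agent.S15335
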