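import Groth.Statements.S15336
import Groth.Agent.ASBunKS.PushFree
import Groth.Agent.ASBunKS.TensorPowSum
import Groth.Agent.S12131
import Groth.Agent.DCohLib.ProjFlf
import Groth.Agent.AmpleLib.Pullback
import Groth.Agent.FinLocFreeLib.Basic
import Groth.Agent.CurveLib.SmulPow
import Groth.Agent.PrincBundLib.Descends
import Groth.Agent.FpqcDesc.Basic
import Groth.Agent.ASp.Fpqc

set_option backward.isDefEq.respectTransparency false
set_option backward.isDefEq.respectTransparency.types false

set_option autoImplicit false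
set_option backward.isDefEq.respectTransparency false
set_option maxHeartbeats 1000000
universe u
open CategoryTheory CategoryTheory.Limits AlgebraicGeometry
open VBCurve MonoidalCategory CartesianMonoidalCategory MonObj

namespace Groth.Agent.S15336

/-- Let X be a smooth proper integral curve (integral, smooth and proper of dimension one) over an
algebraically closed field k, G a finite group scheme over k of order n, meaning dim_k H^0(G, O_G) =
n, and j : P → X a torsor (fppf-locally trivial) under the X-group scheme G ×_k X. Put E = j_*O_P.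
Then there is an isomorphism of O_X-modules E ⊗ E ≅ E ⊕ ⋯ ⊕ E (n copies); in particular E is a
finite vector bundle in the sense of Weil (two distinct polynomials in E agree). Existence of an
isomorphism only. (The published statement asserts only that E is finite in this sense; this row
states the isomorphism its argument gives, with n = dim_k H^0(G, O_G).) -/
theorem result (k : Type u) [Field k] [IsAlgClosed k] (X : Scheme.{u}) [X.Over (Spec (CommRingCat.of k))]
    [IsIntegral X] [IsProper (X ↘ Spec (CommRingCat.of k))] [Smooth (X ↘ Spec (CommRingCat.of k))]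
    (hdim : topologicalKrullDim X = 1)
    (G : Scheme.{u}) [G.Over (Spec (CommRingCat.of k))] [GrpObj (G.asOver (Spec (CommRingCat.of k)))]
    [IsFinite (G ↘ Spec (CommRingCat.of k))] (n : ℕ)
    (hn : Module.finrank k (Coh.HH G (Coh.structureModule G) 0) = n)
    (P : Over X) (a : AlgGrp.Action (Red.bc (X ↘ Spec (CommRingCat.of k)) (G.asOver (Spec (CommRingCat.of k)))) P)
    (hP : NonAbH1.IsTorsorFor Scheme.fppfPrecoverage a) :
    Nonempty (CohB1.tensorMod ((Coh.push P.hom).obj (Coh.structureModule P.left))
        ((Coh.push P.hom).obj (Coh.structureModule P.left)) ≅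
      ∐ fun _ : Fin n => (Coh.push P.hom).obj (Coh.structureModule P.left)) := by
  classical
  let q := X ↘ Spec (CommRingCat.of k)
  let GS := G.asOver (Spec (CommRingCat.of k))
  haveI hGf : IsFinite GS.hom := ‹IsFinite (G ↘ Spec (CommRingCat.of k))›
  haveI hGfl : Flat GS.hom := inferInstance
  haveI hGlp : LocallyOfFinitePresentation GS.hom := inferInstance
  obtain ⟨hps, R, hR, hsec⟩ := hP
  have hP' : NonAbH1.IsTorsorFor Scheme.fpqcPrecoverage a :=
    ⟨hps, R, Scheme.fppfPrecoverage_le_fpqcPrecoverage _ hR, hsec⟩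
  haveI := Groth.Agent.FpqcDesc.isFinite_descends.{u}
  haveI := Groth.Agent.ASp.flat_descends.{u}
  haveI : IsFinite P.hom := Groth.Agent.PrincBundLib.property_of_torsor @IsFinite a hP'
    (MorphismProperty.pullback_snd (P := @IsFinite) GS.hom _ hGf)
  haveI : Flat P.hom := Groth.Agent.PrincBundLib.property_of_torsor @Flat a hP'
    (MorphismProperty.pullback_snd (P := @Flat) GS.hom _ hGfl)
  haveI : LocallyOfFinitePresentation P.hom :=
    Groth.Agent.PrincBundLib.property_of_torsor @LocallyOfFinitePresentation a hP'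
      (MorphismProperty.pullback_snd (P := @LocallyOfFinitePresentation) GS.hom _ hGlp)
  let O := Coh.structureModule P.left
  let B := (Scheme.Modules.pushforward P.hom).obj O
  have hB : FlatMod.IsFinLocFree B :=
    FinLocFreeLib.isFinLocFree_push P.hom ⟨inferInstance, inferInstance, inferInstance⟩
  haveI : Coh.IsQCoh O := (PullbackMod.isQCoh_and_isFP_of_isFinLocFree _
    (DCohLib.isFinLocFree_iso (coproductUniqueIso fun _ : Fin 1 => O) (DCohLib.isFinLocFree_freeMod 1))).1
  haveI := DCohLib.isIso_projMap_of_flf P.hom hB O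
  let p₁ := pullback.fst P.hom P.hom
  let p₂ := pullback.snd P.hom P.hom
  haveI := S12131.result P.hom P.hom p₁ p₂ (IsPullback.of_hasPullback P.hom P.hom) O
  let bcIso : (Scheme.Modules.pullback P.hom).obj B ≅
      (Scheme.Modules.pushforward p₂).obj ((Scheme.Modules.pullback p₁).obj O) := @asIso _ _ _ _ _ this
  let GX := Red.bc q GS
  let Φ : (GX ⊗ P : Over X) ⟶ P ⊗ P := lift a.act (snd GX P)
  haveI : IsIso Φ := hps
  let R' : CommRingCat.{u} := Γ(G, ⊤)
  letI : Algebra k R' := (Coh.toGlobal (G ↘ Spec (CommRingCat.of k))).toAlgebra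
  haveI : IsAffine G := isAffine_of_isAffineHom (G ↘ Spec (CommRingCat.of k))
  let e : Coh.HH G (Coh.structureModule G) 0 ≃ₗ[k] R' :=
    { (CurveLib.secOf (Coh.structureModule G)) with map_smul' := fun r c => CurveLib.secOf_smul (k := k) _ r c }
  haveI : Module.Finite k R' := by
    have h := IsFinite.finite_app (G ↘ Spec (CommRingCat.of k)) ⊤ (isAffineOpen_top _)
    have h' : ((G ↘ Spec (CommRingCat.of k)).appTop.hom.comp (Scheme.ΓSpecIso (CommRingCat.of k)).inv.hom).Finite :=
      RingHom.Finite.comp h
        (RingHom.Finite.of_surjective _ (Scheme.ΓSpecIso (CommRingCat.of k)).symm.commRingCatIsoToRingEquiv.surjective)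
    exact h'
  let b : Module.Basis (Fin n) k R' := Module.finBasisOfFinrankEq k R' (e.finrank_eq.symm.trans hn)
  let w : G ⟶ Spec R' := G.isoSpec.hom
  have hw : G ↘ Spec (CommRingCat.of k) = w ≫ Spec.map (CommRingCat.ofHom (algebraMap k R')) := by
    have h1 := Scheme.isoSpec_hom_naturality (G ↘ Spec (CommRingCat.of k))
    have h2 : CommRingCat.ofHom (algebraMap k R') =
        (Scheme.ΓSpecIso (CommRingCat.of k)).inv ≫ (G ↘ Spec (CommRingCat.of k)).appTop := rfl
    rw [h2, Spec.map_comp, ← Category.assoc]
    erw [h1]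
    rw [Scheme.isoSpec_Spec_hom, Category.assoc, ← Spec.map_comp, Iso.inv_hom_id, Spec.map_id, Category.comp_id]
  let θ := (Over.forget X).mapIso (asIso Φ)
  have hsq : IsPullback p₂ (θ.inv ≫ pullback.fst GX.hom P.hom ≫ pullback.fst GS.hom q ≫ w) (P.hom ≫ q)
      (Spec.map (CommRingCat.ofHom (algebraMap k R'))) := by
    have hA : IsPullback (pullback.fst GX.hom P.hom ≫ pullback.fst GS.hom q) (pullback.snd GX.hom P.hom) GS.hom (P.hom ≫ q) :=
      IsPullback.paste_horiz (IsPullback.of_hasPullback GX.hom P.hom) (IsPullback.of_hasPullback GS.hom q)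
    have hθ : θ.inv ≫ pullback.snd GX.hom P.hom = p₂ := by
      rw [Iso.inv_comp_eq]
      show _ = Φ.left ≫ (snd P P).left
      rw [← Over.comp_left, lift_snd]
      rfl
    refine hA.flip.of_iso θ (Iso.refl _) G.isoSpec (Iso.refl _) ?_ ?_ ?_ ?_
    · rw [← hθ, Iso.hom_inv_id_assoc, Iso.refl_hom, Category.comp_id]
    · rw [Iso.hom_inv_id_assoc, Category.assoc]
    · simp
    · rw [Iso.refl_hom, Category.comp_id]
      exact hw
  obtain ⟨ε⟩ := ASBunKS.nonempty_push_pull_free b hsq (M := O)
    (DCohLib.isFinLocFree_iso (coproductUniqueIso fun _ : Fin 1 => O) (DCohLib.isFinLocFree_freeMod 1))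
  exact ⟨asIso (DCohLib.projMap P.hom O B) ≪≫ (Scheme.Modules.pushforward P.hom).mapIso (AmpleLib.unitL _ ≪≫ bcIso ≪≫
    (Scheme.Modules.pushforward p₂).mapIso (AmpleLib.pullO p₁ ≪≫ (AmpleLib.pullO p₂).symm) ≪≫ ε) ≪≫
    ASBunKS.mapPow _ O n⟩

end Groth.Agent.S15336
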