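import Groth.Statements.S1534
import Groth.Agent.CurveP1Lib.GeomP1
import Groth.Agent.CurveP1Lib.PointIdeal
import Groth.Agent.CAlgBasics.Depth
import Groth.Agent.QGorLib.Depth

set_option autoImplicit false
universe u
open CategoryTheory CategoryTheory.Limits AlgebraicGeometry
open Curves

namespace Groth.Agent.S1534

open CategoryTheory CategoryTheory.Limits AlgebraicGeometry

set_option backward.isDefEq.respectTransparency false
set_option linter.style.haveILetI false
open TopologicalSpace Opposite in
/-- No nonzero element at a closed point is killed by the maximal ideal. -/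
theorem socle_zero {k : Type u} [Field k] {X : Scheme.{u}} [IsLocallyNoetherian X] (p : X ⟶ Spec (CommRingCat.of k))
    (hb : Function.Bijective (Coh.toGlobal p)) (x : X) (hxc : IsClosed ({x} : Set X)) (hne : ∃ y : X, y ≠ x)
    (a : X.presheaf.stalk x) (ha : ∀ b ∈ IsLocalRing.maximalIdeal (X.presheaf.stalk x), b * a = 0) : a = 0 := by
  classical
  obtain ⟨W, hxW, s₀, rfl⟩ := TopCat.Presheaf.exists_germ_eq X.presheaf a
  obtain ⟨_, ⟨U : X.Opens, hU, rfl⟩, hxU, hUW : U ≤ W⟩ :=
    X.isBasis_affineOpens.exists_subset_of_mem_open (a := x) hxW W.2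
  rw [← TopCat.Presheaf.germ_res_apply X.presheaf (homOfLE hUW) x hxU] at ha ⊢
  generalize X.presheaf.map (homOfLE hUW).op s₀ = s at ha ⊢
  haveI : IsNoetherianRing Γ(X, U) := IsLocallyNoetherian.component_noetherian ⟨U, hU⟩
  let J := Scheme.IdealSheafData.vanishingIdeal (⟨{x}, hxc⟩ : Closeds X)
  obtain ⟨G, hG⟩ := (IsNoetherian.noetherian (J.ideal ⟨U, hU⟩) : (J.ideal ⟨U, hU⟩).FG)
  have hz : ∀ r : G, ∃ V : X.Opens, x ∈ V ∧ ∃ i : V ≤ U, X.presheaf.map (homOfLE i).op (r.1 * s) = 0 := fun r => by
    have h1 : X.presheaf.germ U x hxU (r.1 * s) = X.presheaf.germ U x hxU 0 := by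
      rw [map_mul, map_zero]
      refine ha _ ?_
      rw [← CurveP1Lib.map_vanishingIdeal_singleton hxc ⟨U, hU⟩ hxU]
      exact Ideal.mem_map_of_mem _ (hG.le (Ideal.subset_span r.2))
    obtain ⟨V, hxV, i₁, i₂, hV⟩ := TopCat.Presheaf.germ_eq X.presheaf x hxU hxU _ _ h1
    exact ⟨V, hxV, leOfHom i₁, hV.trans (map_zero _)⟩
  choose V hxV hVU hV using hz
  let V' : X.Opens := U ⊓ Finset.univ.inf V
  have hxV' : x ∈ V' := by
    refine ⟨hxU, ?_⟩
    show x ∈ ((Finset.univ.inf V : X.Opens) : Set X)
    rw [TopologicalSpace.Opens.coe_finset_inf]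
    simpa using hxV
  have hgerm : ∀ (y : X) (hy : y ∈ V'), y ≠ x → X.presheaf.germ U y hy.1 s = 0 := by
    intro y hy hyx
    have hex : ∃ r ∈ G, IsUnit (X.presheaf.germ U y hy.1 r) := by
      by_contra hall
      push Not at hall
      refine hyx ?_
      have hsupp : y ∈ J.support := by
        rw [Scheme.IdealSheafData.mem_support_iff_of_mem (U := ⟨U, hU⟩) hy.1, Scheme.mem_zeroLocus_iff]
        intro r hr
        rw [X.mem_basicOpen r y hy.1]
        have hle : J.ideal ⟨U, hU⟩ ≤ (IsLocalRing.maximalIdeal (X.presheaf.stalk y)).comap (X.presheaf.germ U y hy.1).hom := by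
          rw [← hG]
          exact Ideal.span_le.2 fun r hr => (IsLocalRing.mem_maximalIdeal _).2 (hall r hr)
        exact (IsLocalRing.mem_maximalIdeal _).1 (hle hr)
      rw [← SetLike.mem_coe, Scheme.IdealSheafData.coe_support_vanishingIdeal] at hsupp
      exact hsupp
    obtain ⟨r, hr, hu⟩ := hex
    have hyV : y ∈ V ⟨r, hr⟩ := Finset.inf_le (f := V) (Finset.mem_univ (⟨r, hr⟩ : G)) hy.2
    have h2 := congrArg (X.presheaf.germ (V ⟨r, hr⟩) y hyV) (hV ⟨r, hr⟩)
    rw [TopCat.Presheaf.germ_res_apply, map_mul, map_zero] at h2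
    exact hu.mul_right_eq_zero.1 h2
  let P : Bool → X.Opens := fun b => cond b V' ⟨{x}ᶜ, hxc.isOpen_compl⟩
  let v : ∀ b, Γ(X, P b) := fun b => match b with
    | true => X.presheaf.map (homOfLE (inf_le_left : V' ≤ U)).op s
    | false => 0
  have hagree : X.presheaf.map (homOfLE (inf_le_left : P true ⊓ P false ≤ P true)).op (v true) = 0 := by
    refine TopCat.Presheaf.section_ext X.sheaf _ _ _ fun y hy => ?_
    show X.presheaf.germ _ y hy _ = X.presheaf.germ _ y hy 0
    rw [map_zero, TopCat.Presheaf.germ_res_apply]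
    refine (TopCat.Presheaf.germ_res_apply X.presheaf (homOfLE (inf_le_left : V' ≤ U)) y hy.1 s).trans ?_
    exact hgerm y hy.1 hy.2
  obtain ⟨g, hg, -⟩ := TopCat.Sheaf.existsUnique_gluing' X.sheaf P ⊤ (fun _ => homOfLE le_top)
    (fun z _ => by
      by_cases hz : z = x
      · exact Opens.mem_iSup.2 ⟨true, hz ▸ hxV'⟩
      · exact Opens.mem_iSup.2 ⟨false, hz⟩) v (fun b b' => by
      cases b <;> cases b'
      · rfl
      · refine Eq.trans (map_zero _) ?_
        have h2 := congrArg (X.presheaf.map (homOfLE (le_of_eq (inf_comm _ _) : P false ⊓ P true ≤ P true ⊓ P false)).op) hagree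
        rw [map_zero, ← CommRingCat.comp_apply, ← Functor.map_comp] at h2
        exact h2.symm
      · exact hagree.trans (map_zero _).symm
      · rfl)
  obtain ⟨c, rfl⟩ := hb.2 g
  obtain ⟨y, hy⟩ := hne
  have hc : c = 0 := by
    have h1 := congrArg (X.presheaf.germ (P false) y hy) (hg false)
    refine RingHom.injective ((X.presheaf.germ ⊤ y (Opens.mem_top y)).hom.comp (Coh.toGlobal p)) ?_
    refine (TopCat.Presheaf.germ_res_apply X.presheaf (homOfLE (le_top : P false ≤ ⊤)) y hy _).symm.trans ?_
    exact h1.trans ((map_zero _).trans (map_zero _).symm)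
  have h2 := congrArg (X.presheaf.germ V' x hxV') (hg true)
  refine (TopCat.Presheaf.germ_res_apply X.presheaf (homOfLE (inf_le_left : V' ≤ U)) x hxV' s).symm.trans
    (h2.symm.trans ?_)
  refine (TopCat.Presheaf.germ_res_apply X.presheaf (homOfLE (le_top : P true ≤ ⊤)) x hxV' _).trans ?_
  rw [hc, map_zero, map_zero]


/-- A proper scheme of dimension one over a field k whose global functions are k is connected, all of
its local rings are Cohen–Macaulay, and every irreducible component has dimension one. -/
theorem result (k : Type u) [Field k] (X : Scheme.{u}) [X.Over (Spec (CommRingCat.of k))]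
    [IsProper (X ↘ (Spec (CommRingCat.of k)))] (hdim : topologicalKrullDim X = 1) (h0 : Module.finrank k (Coh.HH X (Coh.structureModule X) 0) = 1) :
    ConnectedSpace X ∧ (∀ x : X, LocCoh.IsCohenMacaulayLocalRing (X.presheaf.stalk x)) ∧
      ∀ Z ∈ irreducibleComponents (X : Type u), topologicalKrullDim Z = 1 := by
  haveI := EulerIneqLib.isNoetherian_proper (X := X) k
  have hb := CurveP1Lib.bijective_toGlobal_of_h0 h0
  haveI hconn := CurveP1Lib.connectedSpace_of_bijective _ hb
  have htwo : ∀ x : X, ∃ y : X, y ≠ x := fun x => by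
    by_contra h
    push Not at h
    haveI : Subsingleton X := ⟨fun a b => (h a).trans (h b).symm⟩
    have h1 : topologicalKrullDim X ≤ 0 := topologicalKrullDim_zero_of_discreteTopology X
    rw [hdim] at h1
    exact absurd h1 (by norm_num)
  have hkd : Order.krullDim X ≤ 1 := by
    rw [← ASp.topologicalKrullDim_eq_krullDim]
    exact hdim.le
  have hdle : ∀ x : X, ringKrullDim (X.presheaf.stalk x) ≤ 1 := fun x => by
    rw [ringKrullDim_stalk_eq_coheight]
    exact (Order.coheight_le_krullDim x).trans hkd
  have hdepth : ∀ x : X, IsClosed ({x} : Set X) →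
      1 ≤ LocCoh.depth (X.presheaf.stalk x) (X.presheaf.stalk x) := fun x hxc =>
    CAlgBasics.one_le_depth_iff.2 fun a ha => socle_zero _ hb x hxc (htwo x) a ha
  have hsupp : ∀ x : X, Module.supportDim (X.presheaf.stalk x) (X.presheaf.stalk x) = ringKrullDim (X.presheaf.stalk x) :=
    fun x => Module.supportDim_self_eq_ringKrullDim _
  have hclosed : ∀ x : X, IsClosed ({x} : Set X) → ringKrullDim (X.presheaf.stalk x) = 1 := fun x hxc => by
    refine le_antisymm (hdle x) ?_
    rw [← hsupp x]
    exact le_trans (by exact_mod_cast hdepth x hxc) (QGorLib.depth_le_supportDim (X.presheaf.stalk x))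
  refine ⟨hconn, fun x => ?_, fun Z hZ => ?_⟩
  · refine { supportDim_eq_depth := le_antisymm ?_ (QGorLib.depth_le_supportDim (X.presheaf.stalk x)) }
    rw [hsupp x]
    by_cases hxc : IsClosed ({x} : Set X)
    · rw [hclosed x hxc]
      exact_mod_cast hdepth x hxc
    · obtain ⟨y, hy, hyc⟩ := IsClosed.exists_closed_singleton (isClosed_closure (s := ({x} : Set X))) ⟨x, subset_closure rfl⟩
      have hlt : y < x := by
        refine lt_of_le_not_ge (Scheme.le_iff_specializes.2 (specializes_iff_mem_closure.2 hy)) fun hxy => hxc ?_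
        have : x = y := ((Scheme.le_iff_specializes.1 hxy).antisymm (specializes_iff_mem_closure.2 hy)).eq.symm
        exact this ▸ hyc
      have h1 : Order.coheight x + 1 ≤ Order.coheight y := Order.coheight_add_one_le hlt
      have h2 := (hdle y)
      rw [ringKrullDim_stalk_eq_coheight] at h2 ⊢
      have h3 : Order.coheight x + 1 ≤ 1 := h1.trans (by exact_mod_cast h2)
      have h4 : Order.coheight x = 0 := by
        rcases eq_or_ne (Order.coheight x) ⊤ with h | h
        · rw [h] at h3; exact absurd h3 (by simp)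
        · obtain ⟨n, hn⟩ := ENat.ne_top_iff_exists.1 h
          rw [← hn] at h3 ⊢
          norm_cast at h3 ⊢
          omega
      rw [h4]
      exact WithBot.coe_le_coe.2 zero_le
  · haveI : QuasiSober X := inferInstance
    obtain ⟨η, hη⟩ := QuasiSober.sober hZ.1 (isClosed_of_mem_irreducibleComponents Z hZ)
    refine le_antisymm ((Topology.IsEmbedding.subtypeVal.isInducing.topologicalKrullDim_le).trans hdim.le) ?_
    obtain ⟨x, hxZ, hxc⟩ := IsClosed.exists_closed_singleton (isClosed_of_mem_irreducibleComponents Z hZ) hZ.1.nonempty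
    have hxη : x ≠ η := by
      intro h
      have hmax : IsMax η := fun z hz => by
        have hsub : Z ⊆ closure {z} := by
          rw [← hη.def]
          exact closure_minimal (Set.singleton_subset_iff.2 (specializes_iff_mem_closure.1 (Scheme.le_iff_specializes.1 hz))) isClosed_closure
        have heq : closure {z} ⊆ Z := hZ.2 isIrreducible_singleton.closure hsub
        exact Scheme.le_iff_specializes.2 (hη.specializes (heq (subset_closure rfl)))
      have h1 := hclosed x hxc
      rw [h, ringKrullDim_stalk_eq_coheight, Order.coheight_eq_zero.2 hmax] at h1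
      exact absurd h1 (by norm_num)
    have hle : topologicalKrullDim Z ≥ 1 := by
      let a : Z := ⟨x, hxZ⟩
      let b : Z := ⟨η, hη.mem⟩
      let c₁ : TopologicalSpace.IrreducibleCloseds Z := ⟨closure {a}, isIrreducible_singleton.closure, isClosed_closure⟩
      let c₂ : TopologicalSpace.IrreducibleCloseds Z := ⟨closure {b}, isIrreducible_singleton.closure, isClosed_closure⟩
      have hba : b ⤳ a := Topology.IsInducing.subtypeVal.specializes_iff.1 (hη.specializes hxZ)
      have hlt : c₁ < c₂ := by
        refine lt_of_le_not_ge (show closure {a} ⊆ closure {b} from specializes_iff_closure_subset.1 hba) fun hge => hxη ?_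
        have hab : a ⤳ b := specializes_iff_closure_subset.2 hge
        exact congrArg Subtype.val (hab.antisymm hba).eq
      exact Order.LTSeries.length_le_krullDim ((RelSeries.singleton _ c₁).snoc c₂ hlt)
    exact hle


end Groth.Agent.S1534
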