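import Groth.Statements.S15340
import Groth.Agent.VBLib.Scalar
-- import your own Groth.Agent.* helpers here

set_option autoImplicit false
set_option backward.isDefEq.respectTransparency false
universe u
open CategoryTheory CategoryTheory.Limits AlgebraicGeometry
open VBCurve

namespace Groth.Agent.S15340
open CategoryTheory CategoryTheory.Limits AlgebraicGeometry

/-- Let X be a smooth proper integral curve (integral, smooth and proper of dimension one) over an
algebraically closed field k and E a finite locally free O_X-module of rank r ≥ 1 which is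
slope-semistable and slope-stable (deg G · r ≤ deg E · r' for finite locally free submodules G of
rank r' ≥ 1, strictly when r' < r; degree = χ − rank·χ(O_X)). Then E is indecomposable: it is
nonzero and whenever E ≅ E₁ ⊞ E₂ as O_X-modules, one of E₁, E₂ is zero. -/
theorem result (k : Type u) [Field k] [IsAlgClosed k] (X : Scheme.{u}) [X.Over (Spec (CommRingCat.of k))]
    [IsIntegral X] [IsProper (X ↘ Spec (CommRingCat.of k))] [Smooth (X ↘ Spec (CommRingCat.of k))]
    (hdim : topologicalKrullDim X = 1)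
    (r : ℕ) (hr : 0 < r) (E : X.Modules) (hE : FlatMod.IsFinLocFreeOfRank r E)
    (hEss : ModFun.IsSlopeSemistable k X E r) (hEst : ModFun.IsSlopeStable k X E r) :
    ¬ IsZero E ∧ ∀ (E₁ E₂ : X.Modules), Nonempty (E ≅ E₁ ⊞ E₂) → IsZero E₁ ∨ IsZero E₂ := by
  haveI := VBLib.isRegCurve_of_smooth k (X := X) hdim.le
  haveI := EulerIneqLib.isNoetherian_proper (X := X) k
  have hst : VBLib.StableAt k E (VBLib.dg k E) r := VBLib.stableAt_of k hE hEst
  have hss : VBLib.SlopeLE k E (VBLib.dg k E) r := by rw [VBLib.dg_eq k hE]; exact VBLib.slopeLE_of k hE hEss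
  refine ⟨VBLib.nonzero_of_rank k hr hE, fun E₁ E₂ ⟨e⟩ => ?_⟩
  let p : E ⟶ E := e.hom ≫ biprod.fst ≫ biprod.inl ≫ e.inv
  by_cases hp : p = 0
  · refine Or.inl ((IsZero.iff_id_eq_zero _).2 ?_)
    have h : biprod.inl ≫ e.inv ≫ p ≫ e.hom ≫ biprod.fst = 𝟙 E₁ := by simp [p]
    rw [← h, hp, zero_comp, comp_zero, comp_zero]
  · haveI := VBLib.isIso_of_stable k hdim.le hr hE hE hst hst hss rfl hp
    have h1 : p = 𝟙 E := (cancel_epi p).1 (show p ≫ p = p ≫ 𝟙 E by simp [p])
    refine Or.inr ((IsZero.iff_id_eq_zero _).2 ?_)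
    have h : biprod.inr ≫ e.inv ≫ p ≫ e.hom ≫ biprod.snd = (0 : E₂ ⟶ E₂) := by simp [p]
    rw [← h, h1]
    simp

end Groth.Agent.S15340
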