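import Groth.Statements.S15345
import Mathlib

set_option autoImplicit false
set_option linter.style.haveILetI false
universe u
open CategoryTheory CategoryTheory.Limits AlgebraicGeometry
open Mor

namespace Groth.Agent.S15345

open TensorProduct

theorem exists_fg_preimage {R B A : Type u} [CommRing R] [CommRing B] [CommRing A] [Algebra R B]
    [Algebra R A] (x : B ⊗[R] A) :
    ∃ A₀ : Subalgebra R A, A₀.FG ∧
      x ∈ Set.range (Algebra.TensorProduct.map (AlgHom.id R B) A₀.val) := by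
  induction x using TensorProduct.induction_on with
  | zero => exact ⟨⊥, Subalgebra.fg_bot, 0, map_zero _⟩
  | tmul b a =>
    exact ⟨Algebra.adjoin R {a}, ⟨{a}, by simp⟩,
      b ⊗ₜ ⟨a, Algebra.self_mem_adjoin_singleton R a⟩, by simp⟩
  | add x y hx hy =>
    obtain ⟨A₁, h₁, x', rfl⟩ := hx
    obtain ⟨A₂, h₂, y', rfl⟩ := hy
    refine ⟨A₁ ⊔ A₂, h₁.sup h₂,
      Algebra.TensorProduct.map (AlgHom.id R B) (Subalgebra.inclusion le_sup_left) x' +
      Algebra.TensorProduct.map (AlgHom.id R B) (Subalgebra.inclusion le_sup_right) y', ?_⟩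
    rw [map_add]
    congr 1 <;>
    · rw [← AlgHom.comp_apply, ← Algebra.TensorProduct.map_comp, AlgHom.id_comp]
      rfl

theorem key {X Y : Scheme.{u}} (f : Y ⟶ X) (R B A : Type u) [CommRing R] [CommRing B] [CommRing A]
    [Algebra R B] [Algebra R A]
    (jW : Spec (CommRingCat.of R) ⟶ X) [IsOpenImmersion jW]
    (jV : Spec (CommRingCat.of B) ⟶ Y) [IsOpenImmersion jV] {X' : Scheme.{u}}
    (jU : Spec (CommRingCat.of A) ⟶ X') [IsOpenImmersion jU]
    (h : ∀ (X' : Scheme.{u}) (g : X' ⟶ X) [LocallyOfFiniteType g] (y₀ y₁ : ↥(pullback f g)),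
      (pullback.snd f g).base y₁ ⤳ (pullback.snd f g).base y₀ → y₁ ⤳ y₀)
    (hB : jV ≫ f = Spec.map (CommRingCat.ofHom (algebraMap R B)) ≫ jW)
    (g : X' ⟶ X) (hA : jU ≫ g = Spec.map (CommRingCat.ofHom (algebraMap R A)) ≫ jW)
    (y₀ y₁ : ↥(pullback f g)) (hy : pullback.snd f g y₁ ⤳ pullback.snd f g y₀)
    (h0 : pullback.fst f g y₀ ∈ Set.range jV) (h1 : pullback.fst f g y₁ ∈ Set.range jV)
    (k0 : pullback.snd f g y₀ ∈ Set.range jU) (k1 : pullback.snd f g y₁ ∈ Set.range jU) :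
    y₁ ⤳ y₀ := by
  let mk : ∀ (A : Type u) [CommRing A] [Algebra R A] {T : Scheme.{u}} (jU : Spec (CommRingCat.of A) ⟶ T)
      (g : T ⟶ X), jU ≫ g = Spec.map (CommRingCat.ofHom (algebraMap R A)) ≫ jW →
      (Spec (CommRingCat.of (B ⊗[R] A)) ⟶ pullback f g) := fun A _ _ T jU g e =>
    (pullbackSpecIso R B A).inv ≫ pullback.map _ _ f g jV jU jW hB.symm e.symm
  have hsnd : ∀ (A : Type u) [CommRing A] [Algebra R A] {T : Scheme.{u}} (jU : Spec (CommRingCat.of A) ⟶ T)
      (g : T ⟶ X) (e : jU ≫ g = Spec.map (CommRingCat.ofHom (algebraMap R A)) ≫ jW),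
      mk A jU g e ≫ pullback.snd f g =
        Spec.map (CommRingCat.ofHom (Algebra.TensorProduct.includeRight (A := B)).toRingHom) ≫ jU := by
    intro A _ _ T jU g e
    simp only [mk, Category.assoc, pullback.map, pullback.lift_snd, pullbackSpecIso_inv_snd_assoc]
    rfl
  have hopen : ∀ (A : Type u) [CommRing A] [Algebra R A] {T : Scheme.{u}} (jU : Spec (CommRingCat.of A) ⟶ T)
      [IsOpenImmersion jU] (g : T ⟶ X) (e : jU ≫ g = Spec.map (CommRingCat.ofHom (algebraMap R A)) ≫ jW),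
      IsOpenImmersion (mk A jU g e) := by
    intro A _ _ T jU _ g e
    simp only [mk, pullback_map_eq_pullbackFstFstIso_inv]
    infer_instance
  have hrange : ∀ y, pullback.fst f g y ∈ Set.range jV → pullback.snd f g y ∈ Set.range jU →
      ∃ q, mk A jU g hA q = y := by
    intro y e1 e2
    obtain ⟨z, hz⟩ := (Scheme.Pullback.range_map (Spec.map (CommRingCat.ofHom (algebraMap R B)))
      (Spec.map (CommRingCat.ofHom (algebraMap R A))) f g jV jU jW hB.symm hA.symm).ge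
      (show y ∈ _ from ⟨e1, e2⟩)
    refine ⟨(pullbackSpecIso R B A).hom z, ?_⟩
    simp only [mk, ← Scheme.Hom.comp_apply, Iso.hom_inv_id_assoc]
    exact hz
  obtain ⟨q₀, rfl⟩ := hrange y₀ h0 k0
  obtain ⟨q₁, rfl⟩ := hrange y₁ h1 k1
  rw [← Scheme.Hom.comp_apply, ← Scheme.Hom.comp_apply, hsnd A jU g hA, Scheme.Hom.comp_apply, Scheme.Hom.comp_apply,
    jU.isOpenEmbedding.isInducing.specializes_iff] at hy
  refine Specializes.map ?_ (mk A jU g hA).continuous
  refine (PrimeSpectrum.le_iff_specializes q₁ q₀).mp fun x hx => ?_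
  obtain ⟨A₀, hfg, x', rfl⟩ := exists_fg_preimage x
  haveI : Algebra.FiniteType R A₀ := A₀.fg_iff_finiteType.mp hfg
  let g₀ := Spec.map (CommRingCat.ofHom (algebraMap R A₀)) ≫ jW
  haveI : LocallyOfFiniteType g₀ := by
    haveI : LocallyOfFiniteType (Spec.map (CommRingCat.ofHom (algebraMap R A₀))) := by
      rw [HasRingHomProperty.Spec_iff (P := @LocallyOfFiniteType)]
      exact RingHom.finiteType_algebraMap.mpr inferInstance
    infer_instance
  have e₀ : 𝟙 _ ≫ g₀ = Spec.map (CommRingCat.ofHom (algebraMap R A₀)) ≫ jW := Category.id_comp _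
  haveI := hopen A₀ (𝟙 _) g₀ e₀
  let φ := (Algebra.TensorProduct.map (AlgHom.id R B) A₀.val).toRingHom
  have hq := h _ g₀ (mk A₀ (𝟙 _) g₀ e₀ (PrimeSpectrum.comap φ q₀))
    (mk A₀ (𝟙 _) g₀ e₀ (PrimeSpectrum.comap φ q₁)) (by
      rw [← Scheme.Hom.comp_apply, ← Scheme.Hom.comp_apply, hsnd A₀ (𝟙 _) g₀ e₀, Category.comp_id]
      have e : ∀ q, Spec.map (CommRingCat.ofHom (Algebra.TensorProduct.includeRight
          (A := B) (B := A₀)).toRingHom) (PrimeSpectrum.comap φ q) =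
          PrimeSpectrum.comap A₀.val.toRingHom
            (Spec.map (CommRingCat.ofHom (Algebra.TensorProduct.includeRight (A := B) (B := A)).toRingHom) q) := by
        intro q
        refine PrimeSpectrum.ext (Ideal.ext fun a => ?_)
        change φ (1 ⊗ₜ a) ∈ q.asIdeal ↔ (1 : B) ⊗ₜ (a : A) ∈ q.asIdeal
        simp [φ]
      rw [e, e]
      exact hy.map (PrimeSpectrum.continuous_comap _))
  rw [(mk A₀ (𝟙 _) g₀ e₀).isOpenEmbedding.isInducing.specializes_iff] at hq
  exact (PrimeSpectrum.le_iff_specializes _ _).mpr hq hx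

/-- Let f : Y ⟶ X be a morphism of schemes, X quasi-separated. If for every morphism X' ⟶ X locally of
finite type the projection Y ×_X X' ⟶ X' reflects specializations (the image of y₁ specializing to
the image of y₀ forces y₁ to specialize to y₀), then the same holds for every morphism X' ⟶ X. (The
published statement assumes moreover that f is a monomorphism; this row does not.) -/
theorem result {X Y : Scheme.{u}} [QuasiSeparatedSpace ↥X]
    (f : Y ⟶ X)
    (h : ∀ (X' : Scheme.{u}) (g : X' ⟶ X) [LocallyOfFiniteType g] (y₀ y₁ : ↥(pullback f g)),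
      (pullback.snd f g).base y₁ ⤳ (pullback.snd f g).base y₀ → y₁ ⤳ y₀) :
    ∀ (X' : Scheme.{u}) (g : X' ⟶ X) (y₀ y₁ : ↥(pullback f g)),
        (pullback.snd f g).base y₁ ⤳ (pullback.snd f g).base y₀ → y₁ ⤳ y₀ := by
  have hY : ∀ a₁ a₀ : Y, f a₁ ⤳ f a₀ → a₁ ⤳ a₀ := fun a₁ a₀ hs => by
    have e : ∀ a, pullback.snd f (𝟙 X) ((inv (pullback.fst f (𝟙 X))) a) = f a := fun a => by
      rw [← Scheme.Hom.comp_apply]
      rw [show inv (pullback.fst f (𝟙 X)) ≫ pullback.snd f (𝟙 X) = f by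
        rw [IsIso.inv_comp_eq, pullback.condition, Category.comp_id]]
    have := (h X (𝟙 X) (inv (pullback.fst f (𝟙 X)) a₀) (inv (pullback.fst f (𝟙 X)) a₁)
      (by rw [e, e]; exact hs)).map (pullback.fst f (𝟙 X)).continuous
    rwa [← Scheme.Hom.comp_apply, ← Scheme.Hom.comp_apply, IsIso.inv_hom_id] at this
  intro X' g y₀ y₁ hy
  obtain ⟨_, ⟨W, hW, rfl⟩, hxW, -⟩ :=
    X.isBasis_affineOpens.exists_subset_of_mem_open (Set.mem_univ (f (pullback.fst f g y₀))) isOpen_univ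
  have hc : ∀ y, f (pullback.fst f g y) = g (pullback.snd f g y) := fun y => by
    rw [← Scheme.Hom.comp_apply, ← Scheme.Hom.comp_apply, pullback.condition]
  have hfst : pullback.fst f g y₁ ⤳ pullback.fst f g y₀ :=
    hY _ _ (by rw [hc, hc]; exact hy.map g.continuous)
  obtain ⟨_, ⟨V, hV, rfl⟩, hyV, hVW⟩ := Y.isBasis_affineOpens.exists_subset_of_mem_open
    (show pullback.fst f g y₀ ∈ f ⁻¹ᵁ W from hxW) (f ⁻¹ᵁ W).2
  obtain ⟨_, ⟨U, hU, rfl⟩, hxU, hUW⟩ := X'.isBasis_affineOpens.exists_subset_of_mem_open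
    (show pullback.snd f g y₀ ∈ g ⁻¹ᵁ W from show g _ ∈ W from hc y₀ ▸ hxW) (g ⁻¹ᵁ W).2
  have hB := hW.SpecMap_appLE_fromSpec f hV hVW
  have hA := hW.SpecMap_appLE_fromSpec g hU hUW
  algebraize [(f.appLE W V hVW).hom, (g.appLE W U hUW).hom]
  refine key f Γ(X, W) Γ(Y, V) Γ(X', U) hW.fromSpec hV.fromSpec hU.fromSpec h hB.symm g hA.symm y₀ y₁ hy
    ?_ ?_ ?_ ?_
  · rw [hV.range_fromSpec]; exact hyV
  · rw [hV.range_fromSpec]; exact hfst.mem_open V.2 hyV
  · rw [hU.range_fromSpec]; exact hxU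
  · rw [hU.range_fromSpec]; exact hy.mem_open U.2 hxU

end Groth.Agent.S15345
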