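import Groth.Statements.S15347
import Mathlib
import Groth.Agent.DenseVal.MonoRefl
import Groth.Agent.DVRCrit.Local

set_option autoImplicit false
set_option linter.style.haveILetI false
universe u
open CategoryTheory CategoryTheory.Limits AlgebraicGeometry
open Mor

namespace Groth.Agent.S15347

/-- Let f : Y ⟶ X be an immersion of schemes. Then: for every valuation ring A with fraction field K and
every commutative square Spec K ⟶ Y, Spec A ⟶ X over f such that some morphism from the spectrum of
the residue field of A to Y lies over Spec A ⟶ X, the square admits a lift; and for every integral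
domain A and every morphism s : Spec A ⟶ X such that the points of a dense subset of Spec A lift to
Y (the residue field of each such point maps to Y over s), there is a nonempty open subscheme U of
Spec A with a morphism U ⟶ Y over s. (The published statement is for a representable, locally
finitely presented morphism of algebraic stacks with locally Noetherian target and a quasi-compact
immersion, and also lists that f is a monomorphism; this row is the case of schemes, for any
immersion and any target.) -/
theorem result {X Y : Scheme.{u}} (f : Y ⟶ X) [IsImmersion f] :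
    (∀ S : ValuativeCommSq f,
        (∃ l₀ : Spec (CommRingCat.of (IsLocalRing.ResidueField S.R)) ⟶ Y,
            l₀ ≫ f = Spec.map (CommRingCat.ofHom (IsLocalRing.residue S.R)) ≫ S.i₂) →
          S.commSq.HasLift) ∧
      ∀ (A : Type u) [CommRing A] [IsDomain A] (s : Spec (CommRingCat.of A) ⟶ X) (D : Set ↥(Spec (CommRingCat.of A))),
        Dense D →
        (∀ p ∈ D, ∃ l : Spec ((Spec (CommRingCat.of A)).residueField p) ⟶ Y,
            l ≫ f = (Spec (CommRingCat.of A)).fromSpecResidueField p ≫ s) →
          ∃ U : (Spec (CommRingCat.of A)).Opens, (U : Set ↥(Spec (CommRingCat.of A))).Nonempty ∧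
            ∃ l : (U : Scheme.{u}) ⟶ Y, l ≫ f = U.ι ≫ s := by
  constructor
  · rintro ⟨R, K, i₁, i₂, ⟨w⟩⟩ ⟨l₀, hl₀⟩
    have hr : i₂ (IsLocalRing.closedPoint R) ∈ Set.range f := by
      refine ⟨l₀ (IsLocalRing.closedPoint (IsLocalRing.ResidueField R)), ?_⟩
      rw [← Scheme.Hom.comp_apply, hl₀, Scheme.Hom.comp_apply]
      exact congrArg i₂ (IsLocalRing.comap_closedPoint (IsLocalRing.residue R))
    have hsub : Set.range i₂ ⊆ f.coborderRange :=
      DVRCrit.range_subset_of_closedPoint i₂ (by
        obtain ⟨y, hy⟩ := hr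
        rw [← hy]
        exact subset_coborder ⟨y, rfl⟩)
    let m := IsOpenImmersion.lift f.coborderRange.ι i₂ (by rw [Scheme.Opens.range_ι]; exact hsub)
    have hm : m ≫ f.coborderRange.ι = i₂ := IsOpenImmersion.lift_fac _ _ _
    obtain ⟨⟨⟨l, hl1, hl2⟩⟩⟩ := ((UniversallyClosed.eq_valuativeCriterion.le _ _ f.liftCoborder)
      inferInstance).1 (DVRCrit.mkSq f.liftCoborder R K i₁ m (by
        rw [← cancel_mono f.coborderRange.ι, Category.assoc, f.liftCoborder_ι, Category.assoc, hm, w]))
    refine ⟨⟨⟨l, hl1, ?_⟩⟩⟩
    show l ≫ f = i₂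
    exact ((congrArg (l ≫ ·) f.liftCoborder_ι).symm.trans ((Category.assoc _ _ _).symm.trans
      (congrArg (· ≫ f.coborderRange.ι) hl2))).trans hm
  · intro A _ _ s D hD hl
    have hDr : ∀ p ∈ D, s p ∈ Set.range f := fun p hp => by
      obtain ⟨l, hl⟩ := hl p hp
      refine ⟨l (IsLocalRing.closedPoint _), ?_⟩
      rw [← Scheme.Hom.comp_apply, hl, Scheme.Hom.comp_apply, Scheme.fromSpecResidueField_apply]
    obtain ⟨p, hp⟩ := hD.nonempty
    let U : (Spec (CommRingCat.of A)).Opens := s ⁻¹ᵁ f.coborderRange
    have hW : ∀ y, f y ∈ f.coborderRange := fun y => subset_coborder ⟨y, rfl⟩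
    have hU : p ∈ U := by
      obtain ⟨y, hy⟩ := hDr p hp
      show s p ∈ f.coborderRange
      rw [← hy]
      exact hW y
    refine ⟨U, ⟨p, hU⟩, ?_⟩
    let t : (U : Scheme.{u}) ⟶ f.coborderRange := IsOpenImmersion.lift f.coborderRange.ι (U.ι ≫ s) (by
      rw [Scheme.Opens.range_ι]
      rintro _ ⟨u, rfl⟩
      exact u.2)
    have ht : t ≫ f.coborderRange.ι = U.ι ≫ s := IsOpenImmersion.lift_fac _ _ _
    have hsub : Set.range t ⊆ Set.range f.liftCoborder := by
      have hd : Dense (U.ι ⁻¹' D) := hD.preimage U.ι.isOpenEmbedding.isOpenMap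
      refine t.continuous.range_subset_closure_image_dense hd |>.trans ?_
      refine closure_minimal ?_ f.liftCoborder.isClosedEmbedding.isClosed_range
      rintro _ ⟨u, hu, rfl⟩
      obtain ⟨y, hy⟩ := hDr _ hu
      refine ⟨y, f.coborderRange.ι.isOpenEmbedding.injective ?_⟩
      rw [← Scheme.Hom.comp_apply, f.liftCoborder_ι, hy, ← Scheme.Hom.comp_apply, ← Scheme.Hom.comp_apply, ht]
    obtain ⟨l, hl⟩ := DVRCrit.exists_factor_closed f.liftCoborder t hsub
    refine ⟨l, ?_⟩
    rw [← ht, ← hl, Category.assoc, f.liftCoborder_ι]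

end Groth.Agent.S15347
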