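import Groth.Statements.S15349
import Mathlib
import Groth.Agent.DenseVal.MonoRefl

set_option autoImplicit false
set_option linter.style.haveILetI false
universe u
open CategoryTheory CategoryTheory.Limits AlgebraicGeometry
open Mor

namespace Groth.Agent.S15349

/-- Let X be a locally Noetherian scheme and f : Y ⟶ X a monomorphism locally of finite presentation
such that, for every integral domain A and every morphism s : Spec A ⟶ X for which the points of a
dense subset of Spec A lift to Y (the residue field of each such point maps to Y over s), some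
nonempty open subscheme of Spec A maps to Y over s. Then f is quasi-compact. (The published remark
is for a representable morphism of algebraic stacks; this row is the case of schemes.) -/
theorem result {X Y : Scheme.{u}} [IsLocallyNoetherian X]
    (f : Y ⟶ X) [LocallyOfFinitePresentation f] [Mono f]
    (hc : ∀ (A : Type u) [CommRing A] [IsDomain A] (s : Spec (CommRingCat.of A) ⟶ X) (D : Set ↥(Spec (CommRingCat.of A))),
        Dense D →
        (∀ p ∈ D, ∃ l : Spec ((Spec (CommRingCat.of A)).residueField p) ⟶ Y,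
            l ≫ f = (Spec (CommRingCat.of A)).fromSpecResidueField p ≫ s) →
          ∃ U : (Spec (CommRingCat.of A)).Opens, (U : Set ↥(Spec (CommRingCat.of A))).Nonempty ∧
            ∃ l : (U : Scheme.{u}) ⟶ Y, l ≫ f = U.ι ≫ s) :
    QuasiCompact f := by
  rw [quasiCompact_iff_forall_isAffineOpen]
  intro W hW
  haveI : IsNoetherianRing Γ(X, W) := IsLocallyNoetherian.component_noetherian ⟨W, hW⟩
  let ι := hW.fromSpec
  haveI : TopologicalSpace.NoetherianSpace ↥(Spec Γ(X, W)) :=
    inferInstanceAs (TopologicalSpace.NoetherianSpace (PrimeSpectrum Γ(X, W)))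
  let T : Set ↥(Spec Γ(X, W)) → Set Y := fun Z => f ⁻¹' (ι '' Z)
  suffices hall : ∀ Z : TopologicalSpace.Closeds ↥(Spec Γ(X, W)), IsCompact (T Z) by
    have := hall ⊤
    have e : T ↑(⊤ : TopologicalSpace.Closeds ↥(Spec Γ(X, W))) = f ⁻¹' (W : Set X) := by
      show f ⁻¹' (ι '' Set.univ) = _
      rw [Set.image_univ, hW.range_fromSpec]
    rwa [e] at this
  intro Z
  induction Z using (wellFounded_lt (α := TopologicalSpace.Closeds ↥(Spec Γ(X, W)))).induction with
  | _ Z IH =>
  have hmono : ∀ (A : Set ↥(Spec Γ(X, W))), IsClosed A → A ⊆ Z → A ≠ Z → IsCompact (T A) :=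
    fun A hA hAZ hne => IH ⟨A, hA⟩ (lt_of_le_of_ne hAZ fun e => hne (congrArg SetLike.coe e))
  rcases Set.eq_empty_or_nonempty (Z : Set ↥(Spec Γ(X, W))) with h0 | h0
  · show IsCompact (f ⁻¹' (ι '' _))
    rw [h0, Set.image_empty, Set.preimage_empty]
    exact isCompact_empty
  by_cases hirr : IsPreirreducible (Z : Set ↥(Spec Γ(X, W)))
  swap
  · rw [isPreirreducible_iff_isClosed_union_isClosed] at hirr
    push Not at hirr
    obtain ⟨A, B, hA, hB, hsub, hnA, hnB⟩ := hirr
    have hZ : (Z : Set _) = (↑Z ∩ A) ∪ (↑Z ∩ B) := by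
      rw [← Set.inter_union_distrib_left, Set.inter_eq_left.mpr hsub]
    show IsCompact (f ⁻¹' (ι '' _))
    rw [hZ, Set.image_union, Set.preimage_union]
    exact (hmono _ (Z.2.inter hA) Set.inter_subset_left (fun e => hnA (Set.inter_eq_left.mp e))).union
      (hmono _ (Z.2.inter hB) Set.inter_subset_left (fun e => hnB (Set.inter_eq_left.mp e)))
  let D₀ : Set ↥(Spec Γ(X, W)) := ↑Z ∩ ι ⁻¹' Set.range f
  by_cases hdense : closure D₀ = (Z : Set _)
  swap
  · have e : T Z = T (closure D₀) := by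
      refine Set.Subset.antisymm ?_ fun y ⟨p, hp, e⟩ =>
        ⟨p, Z.2.closure_subset_iff.mpr Set.inter_subset_left hp, e⟩
      rintro y ⟨p, hp, e⟩
      exact ⟨p, subset_closure ⟨hp, ⟨y, e.symm⟩⟩, e⟩
    show IsCompact (T Z)
    rw [e]
    exact hmono _ isClosed_closure (Z.2.closure_subset_iff.mpr Set.inter_subset_left) hdense
  let I := PrimeSpectrum.vanishingIdeal (Z : Set ↥(Spec Γ(X, W)))
  haveI : I.IsPrime := PrimeSpectrum.isIrreducible_iff_vanishingIdeal_isPrime.mp ⟨h0, hirr⟩
  let π : Γ(X, W) ⟶ CommRingCat.of (Γ(X, W) ⧸ I) := CommRingCat.ofHom (Ideal.Quotient.mk I)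
  let j : Spec (CommRingCat.of (Γ(X, W) ⧸ I)) ⟶ Spec Γ(X, W) := Spec.map π
  have hje : Topology.IsClosedEmbedding j :=
    PrimeSpectrum.isClosedEmbedding_comap_of_surjective _ _ Ideal.Quotient.mk_surjective
  have hjr : Set.range j = (Z : Set ↥(Spec Γ(X, W))) := by
    refine (range_comap_of_surjective _ _ Ideal.Quotient.mk_surjective).trans ?_
    rw [Ideal.mk_ker]
    exact (PrimeSpectrum.zeroLocus_vanishingIdeal_eq_closure _).trans Z.2.closure_eq
  have hD : Dense (j ⁻¹' D₀) := by
    intro p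
    rw [hje.isInducing.closure_eq_preimage_closure_image, Set.image_preimage_eq_inter_range, hjr,
      Set.inter_eq_left.mpr Set.inter_subset_left]
    show j p ∈ closure D₀
    rw [hdense, ← hjr]
    exact ⟨p, rfl⟩
  have hlift : ∀ p ∈ j ⁻¹' D₀, ∃ l : Spec ((Spec (CommRingCat.of (Γ(X, W) ⧸ I))).residueField p) ⟶ Y,
      l ≫ f = (Spec (CommRingCat.of (Γ(X, W) ⧸ I))).fromSpecResidueField p ≫ j ≫ ι := by
    rintro p ⟨-, y, hy⟩
    obtain ⟨l, hl, -⟩ := DenseVal.exists_lift_field f y
      (k := (Spec (CommRingCat.of (Γ(X, W) ⧸ I))).residueField p)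
      ((Spec (CommRingCat.of (Γ(X, W) ⧸ I))).fromSpecResidueField p ≫ j ≫ ι) (by
        rw [Scheme.Hom.comp_apply, Scheme.fromSpecResidueField_apply, Scheme.Hom.comp_apply]
        exact hy.symm)
    exact ⟨l, hl⟩
  obtain ⟨U, hU, l, hl⟩ := hc (Γ(X, W) ⧸ I) (j ≫ ι) _ hD hlift
  have hlc : IsCompact (Set.range l) := by
    haveI : TopologicalSpace.NoetherianSpace ↥(Spec (CommRingCat.of (Γ(X, W) ⧸ I))) :=
      inferInstanceAs (TopologicalSpace.NoetherianSpace (PrimeSpectrum (Γ(X, W) ⧸ I)))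
    haveI : CompactSpace (U : Scheme.{u}) := isCompact_iff_compactSpace.mp
      (TopologicalSpace.NoetherianSpace.isCompact _)
    exact isCompact_range l.continuous
  have hZ' : (Z : Set ↥(Spec Γ(X, W))) = j '' U ∪ j '' (↑U)ᶜ := by
    rw [← Set.image_union, Set.union_compl_self, Set.image_univ, hjr]
  have hTU : T (j '' U) = Set.range l := by
    refine Set.Subset.antisymm ?_ ?_
    · rintro y ⟨_, ⟨p, hp, rfl⟩, e⟩
      refine ⟨⟨p, hp⟩, f.injective ?_⟩
      rw [← Scheme.Hom.comp_apply, hl]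
      exact e
    · rintro _ ⟨u, rfl⟩
      refine ⟨j u.1, ⟨u.1, u.2, rfl⟩, ?_⟩
      refine Eq.trans ?_ (Scheme.Hom.comp_apply l f u)
      rw [hl]
      rfl
  show IsCompact (f ⁻¹' (ι '' _))
  rw [hZ', Set.image_union, Set.preimage_union]
  refine (show IsCompact (T (j '' U)) from hTU ▸ hlc).union
    (hmono _ (hje.isClosedMap _ U.2.isClosed_compl) (hjr ▸ Set.image_subset_range _ _) ?_)
  intro e
  obtain ⟨u, hu⟩ := hU
  obtain ⟨v, hv, hvu⟩ := (e.symm ▸ (hjr ▸ ⟨u, rfl⟩ : j u ∈ (Z : Set ↥(Spec Γ(X, W)))) :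
    j u ∈ j '' (↑U)ᶜ)
  exact hv (hje.injective hvu ▸ hu)

end Groth.Agent.S15349
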