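import Groth.Statements.S15348
import Mathlib
import Groth.Agent.DenseVal.MonoRefl
import Groth.Agent.CurveTest.Scheme
import Groth.Agent.ASp.ValDense
import Groth.Agent.S15349

set_option autoImplicit false
set_option linter.style.haveILetI false
universe u
open CategoryTheory CategoryTheory.Limits AlgebraicGeometry
open Mor

namespace Groth.Agent.S15348

theorem exists_specializes_of_mem_closure {X : Scheme.{u}} {C : Set X}
    (hC : Topology.IsLocallyConstructible C) {x : X} (hx : x ∈ closure C) : ∃ z ∈ C, z ⤳ x := by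
  obtain ⟨_, ⟨V, hV, rfl⟩, hxV, -⟩ :=
    X.isBasis_affineOpens.exists_subset_of_mem_open (Set.mem_univ x) isOpen_univ
  have hC' : Topology.IsConstructible (hV.fromSpec ⁻¹' C) :=
    (hC.preimage_of_isOpenEmbedding hV.fromSpec.isOpenEmbedding).isConstructible
  obtain ⟨S, _, φ, hφ⟩ := PrimeSpectrum.exists_range_eq_of_isConstructible hC'
  let q := hV.primeIdealOf ⟨x, hxV⟩
  have hq : hV.fromSpec q = x := hV.fromSpec_primeIdealOf ⟨x, hxV⟩
  have hq' : q ∈ closure (Set.range (Spec.map (CommRingCat.ofHom φ))) := by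
    refine closure_mono hφ.ge ?_
    rw [← hV.fromSpec.isOpenEmbedding.isOpenMap.preimage_closure_eq_closure_preimage hV.fromSpec.continuous]
    show hV.fromSpec q ∈ closure C
    rwa [hq]
  obtain ⟨s, hs⟩ := ASp.exists_specializes_of_mem_closure_range (Spec.map (CommRingCat.ofHom φ)) hq'
  exact ⟨hV.fromSpec (Spec.map (CommRingCat.ofHom φ) s), hφ.le ⟨s, rfl⟩,
    hq ▸ hs.map hV.fromSpec.continuous⟩

/-- Let X be a locally Noetherian scheme and f : Y ⟶ X a monomorphism locally of finite presentation.
Assume: for every discrete valuation ring A with fraction field K and every commutative square Spec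
K ⟶ Y, Spec A ⟶ X over f such that some morphism from the spectrum of the residue field of A to Y
lies over Spec A ⟶ X, the square admits a lift; and for every integral domain A and every morphism s
: Spec A ⟶ X such that the points of a dense subset of Spec A lift to Y (the residue field of each
such point maps to Y over s), some nonempty open subscheme of Spec A maps to Y over s. Then f is an
immersion (f is then also quasi-compact; that is not part of this statement). (The published
statement is for a representable morphism of algebraic stacks; this row is the case of schemes.) -/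
theorem result {X Y : Scheme.{u}} [IsLocallyNoetherian X]
    (f : Y ⟶ X) [LocallyOfFinitePresentation f] [Mono f]
    (hb : ∀ S : ValuativeCommSq f, IsDiscreteValuationRing S.R →
        (∃ l₀ : Spec (CommRingCat.of (IsLocalRing.ResidueField S.R)) ⟶ Y,
            l₀ ≫ f = Spec.map (CommRingCat.ofHom (IsLocalRing.residue S.R)) ≫ S.i₂) →
          S.commSq.HasLift)
    (hc : ∀ (A : Type u) [CommRing A] [IsDomain A] (s : Spec (CommRingCat.of A) ⟶ X) (D : Set ↥(Spec (CommRingCat.of A))),
        Dense D →
        (∀ p ∈ D, ∃ l : Spec ((Spec (CommRingCat.of A)).residueField p) ⟶ Y,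
            l ≫ f = (Spec (CommRingCat.of A)).fromSpecResidueField p ≫ s) →
          ∃ U : (Spec (CommRingCat.of A)).Opens, (U : Set ↥(Spec (CommRingCat.of A))).Nonempty ∧
            ∃ l : (U : Scheme.{u}) ⟶ Y, l ≫ f = U.ι ≫ s) :
    IsImmersion f := by
  haveI : QuasiCompact f := S15349.result f hc
  haveI : IsLocallyNoetherian Y := LocallyOfFiniteType.isLocallyNoetherian f
  haveI := CurveTest.finiteType_appLE_of_isNoetherian f
  have hall := DenseVal.valLift_of_dvrLift f hb
  let T : Set X := Set.range f
  have hTc : Topology.IsLocallyConstructible T := by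
    have h0 := f.isLocallyConstructible_image (CurveTest.isLocallyConstructible_of_isClosed isClosed_univ)
    rwa [Set.image_univ] at h0
  -- the boundary meets `T` nowhere
  have hkey : ∀ x ∈ T, x ∉ closure (closure T \ T) := by
    intro x hxT hx
    obtain ⟨z, hz, hzx⟩ := exists_specializes_of_mem_closure
      ((CurveTest.isLocallyConstructible_of_isClosed isClosed_closure).inter
        (CurveTest.compl_isLocallyConstructible hTc)) hx
    have hz1 : z ∈ closure (f '' Set.univ) := by rw [Set.image_univ]; exact hz.1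
    obtain ⟨η, -, hη⟩ := SpreadOut.exists_specializes_of_mem_closure_image f isClosed_univ hz1
    let L : Type u := ↥(Y.residueField η)
    let p : Spec (CommRingCat.of L) ⟶ Y := Y.fromSpecResidueField η
    obtain ⟨V, lV, hlV, hlVz⟩ := ASp.exists_valuation_lift (p ≫ f) (x := z) (by
      rw [Scheme.Hom.comp_apply, show p (IsLocalRing.closedPoint L) = η from Scheme.fromSpecResidueField_apply η _]
      exact hη)
    obtain ⟨V₂, l₂, hl₂, hl₂x⟩ :=
      ASp.exists_valuation_lift (Spec.map (CommRingCat.ofHom (IsLocalRing.residue V)) ≫ lV) (x := x) (by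
        rw [Scheme.Hom.comp_apply, show Spec.map (CommRingCat.ofHom (IsLocalRing.residue V))
          (IsLocalRing.closedPoint (IsLocalRing.ResidueField V)) = IsLocalRing.closedPoint V from
            IsLocalRing.comap_closedPoint (IsLocalRing.residue V), hlVz]
        exact hzx)
    obtain ⟨c, hc1, hc2⟩ := DenseVal.glue V V₂ lV l₂ hl₂
    let σ : ASp.compositeVal V V₂ →+* V₂ := ((IsLocalRing.residue V).comp (ValuationSubring.inclusion
        (ASp.compositeVal V V₂) V fun _ hx => (ASp.mem_compositeVal.1 hx).1)).codRestrict V₂.toSubring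
          fun x => (ASp.mem_compositeVal.1 x.2).2
    have hσ : Function.Surjective σ := fun w => by
      obtain ⟨v, hv⟩ := IsLocalRing.residue_surjective (w : IsLocalRing.ResidueField V)
      exact ⟨⟨v, ASp.mem_compositeVal.2 ⟨v.2, hv.symm ▸ w.2⟩⟩, Subtype.ext hv⟩
    haveI := IsLocalHom.of_surjective _ hσ
    have hcx : c (IsLocalRing.closedPoint (ASp.compositeVal V V₂)) = x := by
      rw [← IsLocalRing.comap_closedPoint σ]
      exact ((Scheme.Hom.comp_apply _ c _).symm.trans
        (congrArg (fun g : Spec (CommRingCat.of V₂) ⟶ X => g (IsLocalRing.closedPoint V₂)) hc2)).trans hl₂x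
    obtain ⟨y₀, hy₀⟩ := hxT
    obtain ⟨l₀, hl₀, -⟩ := DenseVal.exists_lift_field f y₀
      (Spec.map (CommRingCat.ofHom (IsLocalRing.residue (ASp.compositeVal V V₂))) ≫ c) (by
        rw [Scheme.Hom.comp_apply, show Spec.map (CommRingCat.ofHom (IsLocalRing.residue (ASp.compositeVal V V₂)))
          (IsLocalRing.closedPoint (IsLocalRing.ResidueField (ASp.compositeVal V V₂))) = IsLocalRing.closedPoint _ from
            IsLocalRing.comap_closedPoint (IsLocalRing.residue _), hcx, hy₀])
    obtain ⟨⟨l⟩⟩ := hall (DVRCrit.mkSq f (ASp.compositeVal V V₂) L p c (by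
      rw [← hlV, ← hc1, ← Spec.map_comp_assoc]; rfl)) ⟨l₀, hl₀⟩
    refine hz.2 ⟨l.l (Spec.map (CommRingCat.ofHom (ValuationSubring.inclusion
        (ASp.compositeVal V V₂) V fun _ hx => (ASp.mem_compositeVal.1 hx).1)) (IsLocalRing.closedPoint V)), ?_⟩
    refine ((Scheme.Hom.comp_apply _ f _).symm.trans
      (congrArg (fun g : Spec (CommRingCat.of (ASp.compositeVal V V₂)) ⟶ X => g _) l.fac_right)).trans ?_
    exact ((Scheme.Hom.comp_apply _ c _).symm.trans
      (congrArg (fun g : Spec (CommRingCat.of V) ⟶ X => g (IsLocalRing.closedPoint V)) hc1)).trans hlVz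
  let W : X.Opens := ⟨(closure (closure T \ T))ᶜ, isClosed_closure.isOpen_compl⟩
  have hTW : ∀ y, f y ∈ W := fun y => hkey _ ⟨y, rfl⟩
  obtain ⟨g, hg⟩ : ∃ g : Y ⟶ (W : Scheme.{u}), g ≫ W.ι = f :=
    ⟨IsOpenImmersion.lift W.ι f (by rw [Scheme.Opens.range_ι]; rintro _ ⟨y, rfl⟩; exact hTW y),
      IsOpenImmersion.lift_fac _ _ _⟩
  haveI : Mono g := mono_of_mono_fac hg
  haveI : LocallyOfFiniteType (g ≫ W.ι) := hg ▸ inferInstance
  haveI : LocallyOfFiniteType g := locallyOfFiniteType_of_comp g W.ι
  haveI : QuasiCompact (g ≫ W.ι) := hg ▸ inferInstance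
  haveI : QuasiCompact g := QuasiCompact.of_comp g W.ι
  haveI : UniversallyClosed g := by
    refine UniversallyClosed.of_valuativeCriterion g ?_
    rintro ⟨R, K, i₁, i₂, ⟨w⟩⟩
    let x := (i₂ ≫ W.ι) (IsLocalRing.closedPoint R)
    have hxW : x ∈ W := (i₂ (IsLocalRing.closedPoint R)).2
    have hxT : x ∈ T := by
      by_contra hn
      refine hxW (subset_closure ⟨?_, hn⟩)
      have h1 : (i₁ ≫ g ≫ W.ι) (IsLocalRing.closedPoint K) ⤳ x := by
        rw [← Category.assoc, w, Category.assoc, Scheme.Hom.comp_apply]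
        exact (IsLocalRing.specializes_closedPoint _).map (i₂ ≫ W.ι).continuous
      refine h1.mem_closed isClosed_closure (subset_closure ?_)
      rw [hg, Scheme.Hom.comp_apply]
      exact ⟨_, rfl⟩
    obtain ⟨y₀, hy₀⟩ := hxT
    obtain ⟨l₀, hl₀, -⟩ := DenseVal.exists_lift_field f y₀
      (Spec.map (CommRingCat.ofHom (IsLocalRing.residue R)) ≫ i₂ ≫ W.ι) (by
        rw [Scheme.Hom.comp_apply, hy₀]
        exact congrArg _ (IsLocalRing.comap_closedPoint (IsLocalRing.residue R)))
    obtain ⟨⟨l⟩⟩ := hall (DVRCrit.mkSq f R K i₁ (i₂ ≫ W.ι) (by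
      rw [← hg, ← Category.assoc, w, Category.assoc])) ⟨l₀, hl₀⟩
    refine ⟨⟨⟨l.l, l.fac_left, ?_⟩⟩⟩
    exact (cancel_mono W.ι).1 ((Category.assoc _ _ _).trans ((congrArg (l.l ≫ ·) hg).trans l.fac_right))
  haveI : IsClosedImmersion g := (IsClosedImmersion.iff_isProper_and_mono g).mpr ⟨{ }, inferInstance⟩
  exact hg ▸ inferInstance

end Groth.Agent.S15348
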