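import Groth.Statements.S15352
import Groth.Agent.GrpSchLib.Component
-- import your own Groth.Agent.* helpers here

set_option autoImplicit false
universe u
open CategoryTheory CategoryTheory.Limits MonoidalCategory CartesianMonoidalCategory MonObj GrpObj AlgebraicGeometry
open GrpSch

namespace Groth.Agent.S15352

/-- Let k be an algebraically closed field, G a group scheme locally of finite type over k, G⁰ ⊆ G the
connected component of the unit point, and U a nonempty open subscheme of G contained in G⁰. Then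
every point of G⁰ is in the image of the morphism U ×_k U ⟶ G, (g, h) ↦ g·h⁻¹. (The published
statement writes U as an open of G mapping to G⁰ × G⁰; this row makes the containment U ⊆ G⁰
explicit.) -/
theorem result (k : Type u) [Field k] [IsAlgClosed k]
    (G : Over (Spec (CommRingCat.of k))) [GrpObj G] [LocallyOfFiniteType G.hom] (U : G.left.Opens)
    (hne : (U : Set ↥G.left).Nonempty)
    (hU : (U : Set ↥G.left) ⊆ connectedComponent (η[G].left.base (IsLocalRing.closedPoint k))) :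
    connectedComponent (η[G].left.base (IsLocalRing.closedPoint k)) ⊆ Set.range
      ((((Over.homMk U.ι rfl : Over.mk (U.ι ≫ G.hom) ⟶ G) ⊗ₘ
          ((Over.homMk U.ι rfl : Over.mk (U.ι ≫ G.hom) ⟶ G) ≫ ι[G])) ≫ μ[G]).left.base) := by
  have hcc : connectedComponent (η[G].left.base (IsLocalRing.closedPoint k)) = GrpSchLib.idComp G :=
    GrpSchLib.connectedComponent_eq _
  intro z hz
  rw [hcc] at hz
  replace hU : (U : Set ↥G.left) ⊆ GrpSchLib.idComp G := hcc ▸ hU
  obtain ⟨u, hu⟩ := hne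
  let Uo : Over (Spec (CommRingCat.of k)) := Over.mk (U.ι ≫ G.hom)
  let j : Uo ⟶ G := Over.homMk U.ι rfl
  let incl := GrpSchLib.idIncl G
  let C := GrpSchLib.ptObj z ⊗ GrpSchLib.idObj G
  haveI : IrreducibleSpace C.left :=
    inferInstanceAs (IrreducibleSpace ↥(pullback (GrpSchLib.ptObj z).hom (GrpSchLib.idObj G).hom))
  let F₁ : C ⟶ G := snd _ _ ≫ incl
  let F₂ : C ⟶ G := (fst _ _ ≫ GrpSchLib.ptHom z) * (snd _ _ ≫ incl)
  obtain ⟨t⟩ : Nonempty (GrpSchLib.ptObj z).left := inferInstance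
  have hne₁ : (F₁.left ⁻¹' (U : Set G.left)).Nonempty := by
    obtain ⟨u0, hu0⟩ := (GrpSchLib.range_idIncl (G := G)).ge (hU hu)
    obtain ⟨q, -, hq⟩ := Scheme.Pullback.exists_preimage_pullback (f := (GrpSchLib.ptObj z).hom)
      (g := (GrpSchLib.idObj G).hom) t u0 (Subsingleton.elim _ _)
    refine ⟨q, ?_⟩
    show incl.left ((snd (GrpSchLib.ptObj z) (GrpSchLib.idObj G)).left q) ∈ U
    rw [show (snd (GrpSchLib.ptObj z) (GrpSchLib.idObj G)).left q = u0 from hq, hu0]
    exact hu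
  have hne₂ : (F₂.left ⁻¹' (U : Set G.left)).Nonempty := by
    have hzinv : (GrpSchLib.invM G).left z ∈ GrpSchLib.idComp G :=
      GrpSchLib.subset_irreducibleComponent
        (isIrreducible_irreducibleComponent.image _ (GrpSchLib.invM G).left.continuous.continuousOn)
        ⟨_, mem_irreducibleComponent, GrpSchLib.invM_unitPt⟩ ⟨z, hz, rfl⟩
    obtain ⟨w0, hw0⟩ := (GrpSchLib.range_idIncl (G := G)).ge hzinv
    obtain ⟨p, hp1, hp2⟩ := Scheme.Pullback.exists_preimage_pullback (f := (GrpSchLib.idObj G).hom)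
      (g := G.hom) w0 u (Subsingleton.elim _ _)
    let T : Over (Spec (CommRingCat.of k)) := GrpSchLib.idObj G ⊗ G
    let v : T ⟶ G := fst _ _ ≫ incl
    have hv : v⁻¹.left p = z := by
      rw [← GrpSchLib.comp_invM]
      show (GrpSchLib.invM G).left (incl.left ((fst (GrpSchLib.idObj G) G).left p)) = z
      rw [show (fst (GrpSchLib.idObj G) G).left p = w0 from hp1, hw0]
      exact GrpSchLib.invM_invM z
    obtain ⟨T₁, a₁, b₁, t₁, ht₁, he₁⟩ := GrpSchLib.exists_lift v⁻¹ (GrpSchLib.ptHom z) p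
      (by rw [hv]; exact ⟨t, GrpSchLib.ptHom_apply z t⟩)
    have hM : GrpSchLib.actMap (G := G) = v * snd _ _ := GrpSchLib.whiskerRight_mul _
    have hg : (a₁ ≫ GrpSchLib.actMap (G := G)).left t₁ ∈ Set.range incl.left := by
      rw [GrpSchLib.range_idIncl, Over.comp_left, Scheme.Hom.comp_apply, ht₁]
      show (GrpSchLib.actMap (G := G)).left p ∈ irreducibleComponent (GrpSchLib.unitPt G)
      rw [GrpSchLib.irreducibleComponent_eq_of_mem
        (x := GrpSchLib.unitPt G) (y := (snd (GrpSchLib.idObj G) G).left p)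
        (by rw [show (snd (GrpSchLib.idObj G) G).left p = u from hp2]; exact hU hu)]
      exact GrpSchLib.actMap_mem p
    obtain ⟨T₂, a₂, b₂, t₂, ht₂, he₂⟩ := GrpSchLib.exists_lift (a₁ ≫ GrpSchLib.actMap (G := G)) incl t₁ hg
    refine ⟨(lift (a₂ ≫ b₁) b₂).left t₂, ?_⟩
    have h1 : lift (a₂ ≫ b₁) b₂ ≫ F₂ = a₂ ≫ a₁ ≫ snd _ _ := by
      rw [MonObj.comp_mul, ← Category.assoc, lift_fst, ← Category.assoc, lift_snd, ← he₂, Category.assoc, ← he₁,
        hM, MonObj.comp_mul, MonObj.comp_mul, GrpObj.comp_inv, GrpObj.comp_inv, inv_mul_cancel_left]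
    show (lift (a₂ ≫ b₁) b₂ ≫ F₂).left t₂ ∈ U
    rw [h1, Over.comp_left, Scheme.Hom.comp_apply, ht₂, Over.comp_left, Scheme.Hom.comp_apply, ht₁]
    exact (show (snd (GrpSchLib.idObj G) G).left p = u from hp2) ▸ hu
  obtain ⟨q, hq₁, hq₂⟩ := nonempty_preirreducible_inter (U.2.preimage F₁.left.continuous)
    (U.2.preimage F₂.left.continuous) hne₁ hne₂
  have hjr : ∀ x : G.left, x ∈ U → x ∈ Set.range j.left := fun x hx => (Scheme.Opens.range_ι U).ge hx
  obtain ⟨T₁, a₁, b₁, t₁, ht₁, he₁⟩ := GrpSchLib.exists_lift F₂ j q (hjr _ hq₂)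
  obtain ⟨T₂, a₂, b₂, t₂, ht₂, he₂⟩ := GrpSchLib.exists_lift (a₁ ≫ F₁) j t₁ (hjr _ (by
    rw [Over.comp_left, Scheme.Hom.comp_apply, ht₁]; exact hq₁))
  refine ⟨(lift (a₂ ≫ b₁) b₂).left t₂, ?_⟩
  have h2 : lift (a₂ ≫ b₁) b₂ ≫ (j ⊗ₘ (j ≫ ι[G])) ≫ μ[G] = a₂ ≫ a₁ ≫ fst _ _ ≫ GrpSchLib.ptHom z := by
    rw [← Category.assoc, lift_map, ← Hom.mul_def, ← Category.assoc b₂ j, ← Hom.inv_def, Category.assoc a₂ b₁, ← he₁,
      ← he₂]
    simp only [F₂, F₁, MonObj.comp_mul]
    exact mul_inv_cancel_right _ _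
  exact (congrArg (fun m : T₂ ⟶ G => m.left t₂) h2).trans (GrpSchLib.ptHom_apply z _)

end Groth.Agent.S15352
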