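import Mathlib
import Mathlib
import Groth.Statements.S15353

set_option autoImplicit false
universe u
open CAlg

open TensorProduct
set_option linter.style.haveILetI false

namespace Groth.Agent.S15353

variable {A' A : Type u} [CommRing A'] [CommRing A] [Algebra A' A]

theorem subsingleton_of_base (hI : IsNilpotent (RingHom.ker (algebraMap A' A))) (M : Type u)
    [AddCommGroup M] [Module A' M] (h : (⊤ : Submodule A' M) ≤ RingHom.ker (algebraMap A' A) • ⊤) :
    Subsingleton M := by
  obtain ⟨N, hN⟩ := hI
  have key : ∀ j : ℕ, (⊤ : Submodule A' M) ≤ RingHom.ker (algebraMap A' A) ^ j • ⊤ := by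
    intro j
    induction j with
    | zero => simp
    | succ j ih =>
      rw [pow_succ', Submodule.mul_smul]
      exact h.trans (Submodule.smul_mono le_rfl ih)
  have := key N
  rw [hN, Ideal.zero_eq_bot, Submodule.bot_smul] at this
  exact (Submodule.subsingleton_iff A').mp (subsingleton_of_bot_eq_top (le_antisymm bot_le this))

theorem lift_iso_self (hf : Function.Surjective (algebraMap A' A))
    (hI : IsNilpotent (RingHom.ker (algebraMap A' A))) (T : Type u) [AddCommGroup T] [Module A' T]
    [Module.Finite A' T] [Module.Projective A' T] (e : A ⊗[A'] T ≃ₗ[A] A) : Nonempty (T ≃ₗ[A'] A') := by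
  set I := RingHom.ker (algebraMap A' A) with hIdef
  obtain ⟨t, ht⟩ := TensorProduct.mk_surjective A' T A hf (e.symm 1)
  let φ : A' →ₗ[A'] T := LinearMap.toSpanSingleton A' T t
  have hmk : ∀ x : T, (1 : A) ⊗ₜ[A'] x = 0 → x ∈ I • (⊤ : Submodule A' T) := by
    intro x hx
    let g : A ⊗[A'] T →ₗ[A'] T ⧸ (I • ⊤ : Submodule A' T) :=
      (TensorProduct.quotTensorEquivQuotSMul T I).toLinearMap ∘ₗ
        (LinearMap.rTensor T
          ((Ideal.quotientKerAlgEquivOfSurjective (f := Algebra.ofId A' A) hf).symm.toLinearMap))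
    have h1 : g ((1 : A) ⊗ₜ[A'] x) = Submodule.Quotient.mk x := by
      have h0 : (Ideal.quotientKerAlgEquivOfSurjective (f := Algebra.ofId A' A) hf).symm.toLinearMap 1 =
          Ideal.Quotient.mk I 1 :=
        (map_one (Ideal.quotientKerAlgEquivOfSurjective (f := Algebra.ofId A' A) hf).symm).trans (map_one _).symm
      simp only [g, LinearMap.coe_comp, LinearEquiv.coe_coe, Function.comp_apply, LinearMap.rTensor_tmul]
      refine (congrArg (fun q => TensorProduct.quotTensorEquivQuotSMul T I (q ⊗ₜ[A'] x)) h0).trans ?_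
      rw [TensorProduct.quotTensorEquivQuotSMul_mk_tmul, one_smul]
    rw [hx, map_zero] at h1
    exact (Submodule.Quotient.mk_eq_zero _).mp h1.symm
  have hes : ∀ (a : A') (z : A ⊗[A'] T), e (a • z) = algebraMap A' A a * e z := fun a z => by
    rw [← algebraMap_smul A a z, map_smul, smul_eq_mul]
  have hsurj : Function.Surjective φ := by
    haveI : Subsingleton (T ⧸ LinearMap.range φ) := by
      refine subsingleton_of_base hI _ fun q _ => ?_
      obtain ⟨x, rfl⟩ := Submodule.Quotient.mk_surjective _ q
      obtain ⟨a, ha⟩ := hf (e (1 ⊗ₜ x))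
      have hx : (1 : A) ⊗ₜ[A'] (x - a • t) = 0 := by
        rw [TensorProduct.tmul_sub, TensorProduct.tmul_smul, sub_eq_zero]
        apply e.injective
        rw [hes, show (1 : A) ⊗ₜ[A'] t = e.symm 1 from ht, e.apply_symm_apply, mul_one, ha]
      have h2 := Submodule.mem_map_of_mem (f := (LinearMap.range φ).mkQ) (hmk _ hx)
      rw [Submodule.map_smul''] at h2
      have h3 : (LinearMap.range φ).mkQ (x - a • t) = Submodule.Quotient.mk x := by
        rw [map_sub, show (LinearMap.range φ).mkQ (a • t) = 0 from
          (Submodule.Quotient.mk_eq_zero _).mpr ⟨a, rfl⟩, sub_zero]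
        rfl
      rw [h3] at h2
      exact Submodule.smul_mono le_rfl le_top h2
    exact LinearMap.range_eq_top.mp (Submodule.Quotient.subsingleton_iff.mp ‹_›)
  have hinj : Function.Injective φ := by
    obtain ⟨r, hr⟩ := Module.projective_lifting_property φ LinearMap.id hsurj
    let K := LinearMap.ker φ
    haveI : Subsingleton K := by
      refine subsingleton_of_base hI _ fun z _ => ?_
      have hz : algebraMap A' A (z : A') = 0 := by
        have h1 : (z : A') • ((1 : A) ⊗ₜ[A'] t) = 0 := by
          rw [← TensorProduct.tmul_smul, show (z : A') • t = 0 from z.2, TensorProduct.tmul_zero]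
        have h2 := congrArg e h1
        rw [hes, show (1 : A) ⊗ₜ[A'] t = e.symm 1 from ht, e.apply_symm_apply, mul_one, map_zero] at h2
        exact h2
      let p : A' →ₗ[A'] K := (LinearMap.id - r ∘ₗ φ).codRestrict K fun a => by
        have := DFunLike.congr_fun hr (φ a)
        simp only [LinearMap.coe_comp, Function.comp_apply, LinearMap.id_coe, id_eq] at this
        simp [K, this]
      have hp : z = (z : A') • p 1 := by
        rw [← LinearMap.map_smul, smul_eq_mul, mul_one]
        refine Subtype.ext ?_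
        simp [p, show φ (z : A') = 0 from z.2]
      rw [hp]
      exact Submodule.smul_mem_smul hz trivial
    rw [← LinearMap.ker_eq_bot]
    exact (Submodule.subsingleton_iff_eq_bot).mp ‹_›
  exact ⟨(LinearEquiv.ofBijective φ ⟨hinj, hsurj⟩).symm⟩

theorem exists_lift (hf : Function.Surjective (algebraMap A' A))
    (hI : IsNilpotent (RingHom.ker (algebraMap A' A))) (P : Type u) [AddCommGroup P] [Module A P]
    [Module.Finite A P] [Module.Projective A P] :
    ∃ (P' : Type u) (_ : AddCommGroup P') (_ : Module A' P') (_ : Module.Finite A' P')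
      (_ : Module.Projective A' P'), Nonempty (A ⊗[A'] P' ≃ₗ[A] P) := by
  classical
  obtain ⟨n, π, s, -, -, hsπ⟩ := Module.Finite.exists_comp_eq_id_of_projective A P
  let red := (algebraMap A' A).mapMatrix (m := Fin n)
  have hnil : ∀ M ∈ RingHom.ker red, IsNilpotent M := by
    intro M hM
    obtain ⟨N, hN⟩ := hI
    refine ⟨N, ?_⟩
    have hpow : ∀ j i l, (M ^ j) i l ∈ RingHom.ker (algebraMap A' A) ^ j := by
      intro j
      induction j with
      | zero => simp
      | succ j ih =>
        intro i l
        rw [show M ^ (j + 1) = M ^ j * M from pow_succ M j]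
        rw [Matrix.mul_apply, pow_succ]
        exact Submodule.sum_mem _ fun c _ => Ideal.mul_mem_mul (ih i c)
          (by simpa [red] using congrFun (congrFun hM c) l)
    ext i l
    simpa [hN] using hpow N i l
  obtain ⟨E, hE, hEe⟩ := exists_isIdempotentElem_eq_of_ker_isNilpotent red hnil
    (LinearMap.toMatrix' (s ∘ₗ π))
    (by
      choose g hg using hf
      exact ⟨Matrix.of fun i j => g (LinearMap.toMatrix' (s ∘ₗ π) i j), by ext i j; simp [red, hg]⟩)
    (by
      show _ * _ = _
      rw [← LinearMap.toMatrix'_comp]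
      congr 1
      rw [LinearMap.comp_assoc, ← LinearMap.comp_assoc π s π, hsπ, LinearMap.id_comp])
  let L := Matrix.mulVecLin E
  have hLL : ∀ v, L (L v) = L v := fun v => by
    simp only [L, Matrix.mulVecLin_apply, Matrix.mulVec_mulVec, hE.eq]
  let P' := LinearMap.range L
  haveI : Module.Projective A' P' := Module.Projective.of_split P'.subtype L.rangeRestrict
    (LinearMap.ext fun ⟨x, v, hv⟩ => Subtype.ext (by subst hv; exact hLL v))
  let ι : (Fin n → A') →ₗ[A'] (Fin n → A) := (Algebra.linearMap A' A).compLeft (Fin n)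
  have hι : ∀ v, ι (L v) = s (π (ι v)) := by
    intro v
    rw [show s (π (ι v)) = (LinearMap.toMatrix' (s ∘ₗ π)).mulVec (ι v) by rw [LinearMap.toMatrix'_mulVec]; rfl, ← hEe]
    funext i
    simp [ι, L, red, Matrix.mulVec, dotProduct]
  letI : Module A' P := Module.compHom P (algebraMap A' A)
  haveI : IsScalarTower A' A P := IsScalarTower.of_algebraMap_smul fun _ _ => rfl
  let ψ : P' →ₗ[A'] P := (π.restrictScalars A') ∘ₗ ι ∘ₗ P'.subtype
  let F : A ⊗[A'] P' →ₗ[A] P := ψ.liftBaseChange A
  let χ : (Fin n → A) →ₗ[A] A ⊗[A'] P' :=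
    Fintype.linearCombination A fun i => (1 : A) ⊗ₜ[A'] L.rangeRestrict (Pi.single i 1)
  have hχ : ∀ v : Fin n → A', χ (ι v) = (1 : A) ⊗ₜ[A'] L.rangeRestrict v := by
    intro v
    conv_rhs => rw [pi_eq_sum_univ' v]
    simp [χ, ι, Fintype.linearCombination_apply, map_sum, TensorProduct.tmul_sum, TensorProduct.tmul_smul,
      algebraMap_smul]
  have hFχ : ∀ w, F (χ w) = π w := by
    intro w
    have hπ : ∀ w, π (s (π w)) = π w := fun w => DFunLike.congr_fun hsπ (π w)
    suffices h : F ∘ₗ χ = π from DFunLike.congr_fun h w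
    refine LinearMap.pi_ext' fun i => LinearMap.ext_ring ?_
    have h1 := hχ (Pi.single i 1)
    rw [show ι (Pi.single i 1) = Pi.single i 1 by ext j; by_cases h : j = i <;> simp [ι, Pi.single_apply, h]] at h1
    simp only [LinearMap.coe_comp, Function.comp_apply, LinearMap.coe_single]
    rw [h1]
    simp only [F, LinearMap.liftBaseChange_tmul, one_smul]
    show π (ι (L (Pi.single i 1))) = _
    rw [hι, hπ]
    congr 1
    ext j; by_cases h : j = i <;> simp [ι, Pi.single_apply, h]
  refine ⟨P', inferInstance, inferInstance, inferInstance, inferInstance,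
    ⟨LinearEquiv.ofLinearMap F (χ ∘ₗ s) (LinearMap.ext fun p => ?_) ?_⟩⟩
  · exact (hFχ (s p)).trans (DFunLike.congr_fun hsπ p)
  · refine TensorProduct.AlgebraTensorModule.ext fun a x => ?_
    obtain ⟨x, v, rfl⟩ := x
    simp only [F, LinearMap.coe_comp, Function.comp_apply, LinearMap.liftBaseChange_tmul, LinearMap.id_coe, id_eq]
    show χ (s (a • π (ι (L v)))) = _
    rw [map_smul, ← hι (L v), hLL, map_smul, hχ, TensorProduct.smul_tmul', smul_eq_mul, mul_one]
    exact congrArg (fun q => a ⊗ₜ[A'] q) (Subtype.ext (hLL v))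


/-- Let f : A' → A be a surjective ring homomorphism whose kernel is a nilpotent ideal. Then the induced
homomorphism of Picard groups Pic(A') → Pic(A), base change of invertible modules along f, is
bijective. -/
theorem result {A' A : Type u} [CommRing A'] [CommRing A]
    (f : A' →+* A) (hf : Function.Surjective f) (hker : IsNilpotent (RingHom.ker f)) :
    Function.Bijective (CommRing.Pic.mapRingHom f) := by
  letI := f.toAlgebra
  have hI : IsNilpotent (RingHom.ker (algebraMap A' A)) := hker
  rw [show CommRing.Pic.mapRingHom f = CommRing.Pic.mapAlgebra A' A from CommRing.Pic.mapRingHom_algebraMap]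
  constructor
  · rw [injective_iff_map_eq_one]
    intro M hM
    obtain ⟨e⟩ := CommRing.Pic.mk_eq_one_iff.mp (show CommRing.Pic.mk A (A ⊗[A'] M) = 1 from hM)
    obtain ⟨e'⟩ := lift_iso_self hf hI M e
    rw [← CommRing.Pic.mk_eq_self (M := M)]
    exact CommRing.Pic.mk_eq_one_iff.mpr ⟨e'⟩
  · intro P
    obtain ⟨P', _, _, _, _, ⟨eP⟩⟩ := exists_lift hf hI P
    obtain ⟨Q', _, _, _, _, ⟨eQ⟩⟩ := exists_lift hf hI (Module.Dual A P)
    let e : A ⊗[A'] (Q' ⊗[A'] P') ≃ₗ[A] A :=
      (TensorProduct.AlgebraTensorModule.distribBaseChange A' A Q' P').trans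
        ((TensorProduct.congr eQ eP).trans (Module.Invertible.linearEquiv A P))
    obtain ⟨e'⟩ := lift_iso_self hf hI (Q' ⊗[A'] P') e
    haveI : Module.Invertible A' P' := Module.Invertible.right e'
    refine ⟨CommRing.Pic.mk A' P', ?_⟩
    show CommRing.Pic.mk A (A ⊗[A'] CommRing.Pic.mk A' P') = P
    refine CommRing.Pic.mk_eq_iff.mpr ⟨(TensorProduct.AlgebraTensorModule.congr (LinearEquiv.refl A A)
      (CommRing.Pic.mk.linearEquiv A' P')).trans eP⟩

end Groth.Agent.S15353
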