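import Groth.Statements.S15355
import Mathlib
import Groth.Agent.DVRCrit.Centre

set_option autoImplicit false
set_option linter.style.haveILetI false
universe u
open CategoryTheory CategoryTheory.Limits AlgebraicGeometry
open Mor

namespace Groth.Agent.S15355

/-- Let f : Y ⟶ X be a morphism of schemes, A an integral domain and ξ, η : Spec A ⟶ Y two A-points of Y
over the same A-point of X. If ξ and η induce the same κ(p)-point of Y at every point p of some
dense subset of Spec A, then ξ and η agree on a nonempty open subscheme of Spec A. (The published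
statement is an equivalence, for algebraic spaces locally of finite presentation over a Noetherian
scheme, between local separatedness of f and conditions (a), (b); this row is the necessity of (b)
in the case of schemes, where no hypothesis on f is needed.) -/
theorem result {X Y : Scheme.{u}} (f : Y ⟶ X)
    (A : Type u) [CommRing A] [IsDomain A] (ξ η : Spec (CommRingCat.of A) ⟶ Y) (hf : ξ ≫ f = η ≫ f)
    (D : Set ↥(Spec (CommRingCat.of A))) (hD : Dense D)
    (hpt : ∀ p ∈ D, (Spec (CommRingCat.of A)).fromSpecResidueField p ≫ ξ =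
      (Spec (CommRingCat.of A)).fromSpecResidueField p ≫ η) :
    ∃ U : (Spec (CommRingCat.of A)).Opens, (U : Set ↥(Spec (CommRingCat.of A))).Nonempty ∧ U.ι ≫ ξ = U.ι ≫ η := by
  obtain ⟨p, hp⟩ := hD.nonempty
  have hpe : ∀ p ∈ D, ξ p = η p := fun p hp => by
    have := congrArg (fun g : Spec _ ⟶ Y => g (IsLocalRing.closedPoint _)) (hpt p hp)
    simpa only [Scheme.Hom.comp_apply, Scheme.fromSpecResidueField_apply] using this
  obtain ⟨_, ⟨V, hV, rfl⟩, hxV, -⟩ :=
    Y.isBasis_affineOpens.exists_subset_of_mem_open (Set.mem_univ (ξ p)) isOpen_univ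
  obtain ⟨_, ⟨a, rfl⟩, hpa, haW⟩ := PrimeSpectrum.isTopologicalBasis_basic_opens.exists_subset_of_mem_open
    (show p ∈ ((ξ ⁻¹ᵁ V ⊓ η ⁻¹ᵁ V : (Spec (CommRingCat.of A)).Opens) : Set _) from
      ⟨hxV, show η p ∈ V from hpe p hp ▸ hxV⟩) (ξ ⁻¹ᵁ V ⊓ η ⁻¹ᵁ V).2
  let j : Spec (CommRingCat.of (Localization.Away a)) ⟶ Spec (CommRingCat.of A) :=
    Spec.map (CommRingCat.ofHom (algebraMap A (Localization.Away a)))
  have hjr : Set.range j = (PrimeSpectrum.basicOpen a : Set (PrimeSpectrum A)) :=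
    PrimeSpectrum.localization_away_comap_range (Localization.Away a) a
  have ha0 : a ≠ 0 := fun h => hpa (by rw [h]; exact zero_mem _)
  haveI : IsDomain (Localization.Away a) :=
    IsLocalization.isDomain_localization (powers_le_nonZeroDivisors_of_noZeroDivisors ha0)
  haveI : IsOpenImmersion j := IsOpenImmersion.of_isLocalization a
  have hin : Set.range (j ≫ ξ) ⊆ V ∧ Set.range (j ≫ η) ⊆ V := by
    constructor <;> rintro _ ⟨q, rfl⟩ <;> rw [Scheme.Hom.comp_apply]
    exacts [(haW (hjr.le ⟨q, rfl⟩)).1, (haW (hjr.le ⟨q, rfl⟩)).2]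
  obtain ⟨χ₁, h1⟩ := DVRCrit.exists_factor hV (j ≫ ξ) hin.1
  obtain ⟨χ₂, h2⟩ := DVRCrit.exists_factor hV (j ≫ η) hin.2
  have hχ : χ₁ = χ₂ := by
    ext c
    by_contra hne
    have hd : χ₁ c - χ₂ c ≠ 0 := sub_ne_zero.mpr hne
    have hne' : ((PrimeSpectrum.basicOpen (χ₁ c - χ₂ c) : Set (PrimeSpectrum (Localization.Away a)))).Nonempty :=
      ⟨⟨⊥, Ideal.isPrime_bot⟩, fun h => hd h⟩
    obtain ⟨_, ⟨q, hq, rfl⟩, hqD⟩ := hD.inter_open_nonempty _
      (j.isOpenEmbedding.isOpenMap _ (PrimeSpectrum.basicOpen (χ₁ c - χ₂ c)).2) (hne'.image j)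
    let P := Spec (CommRingCat.of (Localization.Away a))
    have e : P.fromSpecResidueField q ≫ j ≫ ξ = P.fromSpecResidueField q ≫ j ≫ η := by
      rw [← j.SpecMap_residueFieldMap_fromSpecResidueField_assoc,
        ← j.SpecMap_residueFieldMap_fromSpecResidueField_assoc, hpt _ hqD]
    obtain ⟨ψ, hψ⟩ := Spec.map_surjective (P.fromSpecResidueField q)
    rw [h1, h2, ← hψ, ← Spec.map_comp_assoc, ← Spec.map_comp_assoc] at e
    have e' := DVRCrit.fromSpec_inj hV e
    apply hq
    show χ₁ c - χ₂ c ∈ q.asIdeal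
    have hk : ψ.hom (χ₁ c - χ₂ c) = 0 := by
      rw [map_sub, sub_eq_zero]
      exact congrArg (fun φ : Γ(Y, V) ⟶ P.residueField q => φ c) e'
    have hpt' : Spec.map ψ (IsLocalRing.closedPoint _) = q := by
      rw [hψ]; exact Scheme.fromSpecResidueField_apply q _
    rw [← hpt']
    show ψ.hom _ ∈ IsLocalRing.maximalIdeal _
    rw [hk]
    exact zero_mem _
  have hjj : j ≫ ξ = j ≫ η := by rw [h1, h2, hχ]
  refine ⟨j.opensRange, ⟨p, by rw [Scheme.Hom.coe_opensRange, hjr]; exact hpa⟩, ?_⟩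
  rw [← cancel_epi j.isoOpensRange.hom, ← Category.assoc, ← Category.assoc, j.isoOpensRange_hom_ι, hjj]

end Groth.Agent.S15355
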