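import Groth.Statements.S15360
import Mathlib
-- import your own Groth.Agent.* helpers here

set_option autoImplicit false
universe u
open GalCoh

namespace Groth.Agent.S15360

/-- Let 𝔊 be a profinite group and ϕ : 𝔊 → GL₂(ℤ_p) a continuous homomorphism. Then ϕ is surjective if
and only if (i) the composite of ϕ with reduction modulo p, 𝔊 → GL₂(𝔽_p), is surjective, and (ii)
for every integer n ≥ 1 there is g ∈ 𝔊 such that ϕ(g) has the form [[1 + pⁿa, pⁿ⁺¹b], [pⁿ⁺¹c, 1 +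
pⁿ⁺¹d]] with a, b, c, d ∈ ℤ_p and a not divisible by p (equivalently: the image of ϕ⁻¹(1 +
pⁿM₂(ℤ_p)) in M₂(𝔽_p) under g ↦ (ϕ(g) − 1)/pⁿ contains a matrix [[x, 0], [0, 0]] with x ≠ 0).
Continuity of ϕ is expressed through its matrix entries. -/
theorem result (p : ℕ) [Fact p.Prime]
    (𝔊 : Type u) [Group 𝔊] [TopologicalSpace 𝔊] [IsTopologicalGroup 𝔊] [CompactSpace 𝔊] [T2Space 𝔊]
    [TotallyDisconnectedSpace 𝔊]
    (ϕ : 𝔊 →* GL (Fin 2) ℤ_[p])
    (hϕ : Continuous fun g => ((ϕ g : GL (Fin 2) ℤ_[p]) : Matrix (Fin 2) (Fin 2) ℤ_[p])) :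
    Function.Surjective ϕ ↔
      (Function.Surjective ((Matrix.GeneralLinearGroup.map (n := Fin 2) (PadicInt.toZMod (p := p))).comp ϕ) ∧
        ∀ n : ℕ, 1 ≤ n → ∃ (g : 𝔊) (a b c d : ℤ_[p]), ¬ ((p : ℤ_[p]) ∣ a) ∧
          ((ϕ g : GL (Fin 2) ℤ_[p]) : Matrix (Fin 2) (Fin 2) ℤ_[p]) =
            !![1 + (p : ℤ_[p]) ^ n * a, (p : ℤ_[p]) ^ (n + 1) * b;
               (p : ℤ_[p]) ^ (n + 1) * c, 1 + (p : ℤ_[p]) ^ (n + 1) * d]) := by
  classical
  have hker : ∀ x : ℤ_[p], PadicInt.toZMod x = 0 ↔ (p : ℤ_[p]) ∣ x := fun x => by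
    rw [← RingHom.mem_ker, PadicInt.ker_toZMod, PadicInt.maximalIdeal_eq_span_p, Ideal.mem_span_singleton]
  have hunit : ∀ x : ℤ_[p], PadicInt.toZMod x ≠ 0 → IsUnit x := fun x hx => IsLocalRing.notMem_maximalIdeal.mp
    (by rwa [← PadicInt.ker_toZMod, RingHom.mem_ker])
  constructor
  · intro hs
    constructor
    · intro g
      let L : Matrix (Fin 2) (Fin 2) ℤ_[p] := fun i j => ((((g : GL (Fin 2) (ZMod p)) : Matrix (Fin 2) (Fin 2) (ZMod p)) i j).val : ℤ_[p])
      have hL : L.map (PadicInt.toZMod (p := p)) = (g : Matrix (Fin 2) (Fin 2) (ZMod p)) := by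
        ext i j
        simp [L]
      have hdet : IsUnit L.det := hunit _ (by
        rw [RingHom.map_det, RingHom.mapMatrix_apply, hL]
        exact (Matrix.isUnits_det_units g).ne_zero)
      obtain ⟨h, hh⟩ := hs (Matrix.nonsingInvUnit L hdet)
      refine ⟨h, Units.ext ?_⟩
      show (((ϕ h : GL (Fin 2) ℤ_[p]) : Matrix (Fin 2) (Fin 2) ℤ_[p])).map (PadicInt.toZMod (p := p)) = _
      rw [hh]
      exact hL
    · intro n hn
      let L : Matrix (Fin 2) (Fin 2) ℤ_[p] := !![1 + (p : ℤ_[p]) ^ n, 0; 0, 1]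
      have hdet : IsUnit L.det := hunit _ (by
        simp [L, Matrix.det_fin_two, zero_pow (by omega : n ≠ 0)])
      obtain ⟨h, hh⟩ := hs (Matrix.nonsingInvUnit L hdet)
      refine ⟨h, 1, 0, 0, 0, ?_, ?_⟩
      · intro h1
        exact one_ne_zero (α := ZMod p) ((map_one (PadicInt.toZMod (p := p))).symm.trans ((hker 1).mpr h1))
      · rw [hh]
        show L = _
        simp [L]
  · rintro ⟨h1, h2⟩ G
    let π : ℤ_[p] := (p : ℤ_[p])
    let m : 𝔊 → Matrix (Fin 2) (Fin 2) ℤ_[p] := fun g => ((ϕ g : GL (Fin 2) ℤ_[p]) : Matrix (Fin 2) (Fin 2) ℤ_[p])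
    have hm : ∀ a b, m (a * b) = m a * m b := fun a b => by simp [m]
    have hlift : ∀ g : GL (Fin 2) ℤ_[p], ∃ (h : 𝔊) (Y : Matrix (Fin 2) (Fin 2) ℤ_[p]), m h = (g : Matrix (Fin 2) (Fin 2) ℤ_[p]) + π • Y := by
      intro g
      obtain ⟨h, hh⟩ := h1 (Matrix.GeneralLinearGroup.map (PadicInt.toZMod (p := p)) g)
      have he : ∀ i j, PadicInt.toZMod (m h i j) = PadicInt.toZMod ((g : Matrix (Fin 2) (Fin 2) ℤ_[p]) i j) := fun i j =>
        congrFun (congrFun (congrArg (fun u : GL (Fin 2) (ZMod p) => (u : Matrix (Fin 2) (Fin 2) (ZMod p))) hh) i) j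
      have hd : ∀ i j, ∃ y, m h i j - (g : Matrix (Fin 2) (Fin 2) ℤ_[p]) i j = π * y := fun i j =>
        (hker _).mp (by rw [map_sub, he, sub_self])
      choose Y hY using hd
      refine ⟨h, Matrix.of Y, ?_⟩
      ext i j : 1
      simp [← hY i j]
    have key : ∀ n, 1 ≤ n → ∀ X : Matrix (Fin 2) (Fin 2) ℤ_[p],
        ∃ (h : 𝔊) (Y : Matrix (Fin 2) (Fin 2) ℤ_[p]), m h = 1 + π ^ n • X + π ^ (n + 1) • Y := by
      intro n hn
      obtain ⟨l, rfl⟩ : ∃ l, n = l + 1 := ⟨n - 1, by omega⟩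
      let S : Matrix (Fin 2) (Fin 2) ℤ_[p] → Prop := fun X =>
        ∃ (h : 𝔊) (Y : Matrix (Fin 2) (Fin 2) ℤ_[p]), m h = 1 + π ^ (l + 1) • X + π ^ (l + 1 + 1) • Y
      have hadd : ∀ X X', S X → S X' → S (X + X') := by
        rintro X X' ⟨h, Y, e⟩ ⟨h', Y', e'⟩
        refine ⟨h * h', Y + Y' + π ^ l • (X * X' + π • (X * Y' + Y * X') + π ^ 2 • (Y * Y')), ?_⟩
        rw [hm, e, e']
        simp only [mul_add, add_mul, smul_mul_assoc, mul_smul_comm, smul_smul, one_mul, mul_one]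
        module
      have hmod : ∀ X Z, S X → S (X + π • Z) := by
        rintro X Z ⟨h, Y, e⟩
        exact ⟨h, Y - Z, by rw [e]; module⟩
      have hzero : S 0 := ⟨1, 0, by simp [m]⟩
      have hsmul : ∀ (c : ℤ_[p]) X, S X → S (c • X) := by
        intro c X hX
        have hk : ∀ k : ℕ, S ((k : ℤ_[p]) • X) := by
          intro k
          induction k with
          | zero => simpa using hzero
          | succ k ih => simpa [add_smul] using hadd _ _ ih hX
        have hr0 := c.sub_zmodRepr_mem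
        rw [PadicInt.maximalIdeal_eq_span_p, Ideal.mem_span_singleton] at hr0
        obtain ⟨r, hr⟩ := hr0
        have := hmod _ (r • X) (hk c.zmodRepr)
        rwa [smul_smul, ← add_smul, ← hr, add_sub_cancel] at this
      have hconj : ∀ (g : GL (Fin 2) ℤ_[p]) X, S X →
          S ((g : Matrix (Fin 2) (Fin 2) ℤ_[p]) * X * ((g⁻¹ : GL (Fin 2) ℤ_[p]) : Matrix (Fin 2) (Fin 2) ℤ_[p])) := by
        rintro g X ⟨h, Y, e⟩
        obtain ⟨t, Z, ht⟩ := hlift g
        have ht' : ∃ Z', m t⁻¹ = ((g⁻¹ : GL (Fin 2) ℤ_[p]) : Matrix (Fin 2) (Fin 2) ℤ_[p]) + π • Z' := by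
          refine ⟨-(m t⁻¹ * Z * ((g⁻¹ : GL (Fin 2) ℤ_[p]) : Matrix (Fin 2) (Fin 2) ℤ_[p])), ?_⟩
          have e2 : m t⁻¹ * m t = 1 := by rw [← hm, inv_mul_cancel]; simp [m]
          rw [ht, mul_add, mul_smul_comm] at e2
          have e3 := congrArg (· * ((g⁻¹ : GL (Fin 2) ℤ_[p]) : Matrix (Fin 2) (Fin 2) ℤ_[p])) e2
          simp only [add_mul, smul_mul_assoc, mul_assoc, Units.mul_inv, mul_one, one_mul] at e3
          rw [mul_assoc, smul_neg, ← sub_eq_add_neg, eq_sub_iff_add_eq]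
          exact e3
        obtain ⟨Z', ht'⟩ := ht'
        have := hmod _ (-(Z * X * ((g⁻¹ : GL (Fin 2) ℤ_[p]) : Matrix (Fin 2) (Fin 2) ℤ_[p])
            + (g : Matrix (Fin 2) (Fin 2) ℤ_[p]) * X * Z' + π • (Z * X * Z')))
          (show S (m t * X * m t⁻¹) from ⟨t * h * t⁻¹, m t * Y * m t⁻¹, by
            rw [hm, hm, e]
            simp only [mul_add, add_mul, smul_mul_assoc, mul_smul_comm, mul_one]
            rw [← hm t t⁻¹, mul_inv_cancel]
            simp [m]⟩)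
        convert this using 1
        rw [ht, ht']
        simp only [mul_add, add_mul, smul_mul_assoc, mul_smul_comm, mul_assoc, smul_smul]
        module
      obtain ⟨g, a, b, c, d, ha, hg⟩ := h2 (l + 1) hn
      obtain ⟨v, hv⟩ := hunit a (fun h => ha ((hker a).mp h))
      have hE : S !![1, 0; 0, 0] := by
        have : S (a • !![1, 0; 0, 0]) := ⟨g, !![0, b; c, d], by
          show ((ϕ g : GL (Fin 2) ℤ_[p]) : Matrix (Fin 2) (Fin 2) ℤ_[p]) = _
          rw [hg]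
          ext i j : 1
          fin_cases i <;> fin_cases j <;> simp [π]⟩
        have := hsmul (↑v⁻¹ : ℤ_[p]) _ this
        rwa [smul_smul, ← hv, Units.inv_mul, one_smul] at this
      let g1 : GL (Fin 2) ℤ_[p] := ⟨!![1, 1; 0, 1], !![1, -1; 0, 1], by simp [Matrix.one_fin_two], by simp [Matrix.one_fin_two]⟩
      let g2 : GL (Fin 2) ℤ_[p] := ⟨!![1, 0; 1, 1], !![1, 0; -1, 1], by simp [Matrix.one_fin_two], by simp [Matrix.one_fin_two]⟩
      let g3 : GL (Fin 2) ℤ_[p] := ⟨!![0, 1; 1, 0], !![0, 1; 1, 0], by simp [Matrix.one_fin_two], by simp [Matrix.one_fin_two]⟩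
      intro X
      have hX := hadd _ _ (hadd _ _ (hadd _ _ (hsmul (X 0 0 + X 0 1 - X 1 0) _ hE) (hsmul (-(X 0 1)) _ (hconj g1 _ hE)))
        (hsmul (X 1 0) _ (hconj g2 _ hE))) (hsmul (X 1 1) _ (hconj g3 _ hE))
      show S X
      convert hX using 1
      ext i j : 1
      fin_cases i <;> fin_cases j <;> simp [g1, g2, g3] <;> ring
    have happ : ∀ n, 1 ≤ n → ∃ (h : 𝔊) (Y : Matrix (Fin 2) (Fin 2) ℤ_[p]), m h = (G : Matrix (Fin 2) (Fin 2) ℤ_[p]) + π ^ n • Y := by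
      intro n hn
      induction n, hn using Nat.le_induction with
      | base => simpa using hlift G
      | succ n hn ih =>
        obtain ⟨h, Y, e⟩ := ih
        obtain ⟨k, Z, ek⟩ := key n hn (-(m h⁻¹ * Y))
        refine ⟨h * k, m h * Z, ?_⟩
        rw [hm, ek, mul_add, mul_add, mul_one, mul_smul_comm, mul_smul_comm, mul_neg, ← mul_assoc, ← hm, mul_inv_cancel]
        conv_lhs => enter [1, 1]; rw [e]
        simp [m, add_assoc]
    choose hseq Yseq hseq_eq using happ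
    have hcl : IsClosed (Set.range m) := (isCompact_range hϕ).isClosed
    have hlim : Filter.Tendsto (fun n => m (hseq (n + 1) n.succ_pos)) Filter.atTop (nhds (G : Matrix (Fin 2) (Fin 2) ℤ_[p])) := by
      refine tendsto_pi_nhds.mpr fun i => tendsto_pi_nhds.mpr fun j => tendsto_iff_norm_sub_tendsto_zero.mpr ?_
      refine squeeze_zero (fun _ => norm_nonneg _) (fun n => ?_)
        (tendsto_pow_atTop_nhds_zero_of_lt_one (norm_nonneg π) (by rw [PadicInt.norm_p]; exact inv_lt_one_of_one_lt₀ (by exact_mod_cast (Fact.out : p.Prime).one_lt)) |>.comp (Filter.tendsto_add_atTop_nat 1))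
      rw [hseq_eq]
      simp only [Matrix.add_apply, Matrix.smul_apply, smul_eq_mul, add_sub_cancel_left, Function.comp_apply]
      rw [norm_mul, norm_pow]
      exact mul_le_of_le_one_right (by positivity) (PadicInt.norm_le_one _)
    obtain ⟨g, hg⟩ := hcl.mem_of_tendsto hlim (Filter.Eventually.of_forall fun n => ⟨_, rfl⟩)
    exact ⟨g, Units.ext hg⟩

end Groth.Agent.S15360
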