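import Groth.Statements.S15361
import Mathlib.FieldTheory.Finite.GaloisField
import Mathlib.FieldTheory.Finite.Basic
import Mathlib.Algebra.Field.ZMod
import Mathlib.Algebra.CharP.Algebra
import Mathlib.LinearAlgebra.Matrix.CharP
import Mathlib.Tactic.LinearCombination
import Mathlib.RingTheory.Norm.Defs
-- import your own Groth.Agent.* helpers here

set_option autoImplicit false
set_option backward.isDefEq.respectTransparency false
open GalCoh

namespace Groth.Agent.S15361

/-- Let p be a prime and H a subgroup of GL₂(𝔽_p). Then H = GL₂(𝔽_p) if and only if (i) some non-split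
Cartan subgroup lies in H, i.e. some subgroup C ≤ H such that C ∪ {0} is a subfield of the matrix
algebra M₂(𝔽_p) with p² elements, and (ii) p divides the order of H. -/
theorem result (p : ℕ) [Fact p.Prime]
    (H : Subgroup (GL (Fin 2) (ZMod p))) :
    H = ⊤ ↔
      (∃ (C : Subgroup (GL (Fin 2) (ZMod p))) (E : Subring (Matrix (Fin 2) (Fin 2) (ZMod p))),
          C ≤ H ∧ IsField E ∧ Nat.card E = p ^ 2 ∧
            (E : Set (Matrix (Fin 2) (Fin 2) (ZMod p))) =
              insert 0 ((fun g : GL (Fin 2) (ZMod p) => (g : Matrix (Fin 2) (Fin 2) (ZMod p))) ''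
                (C : Set (GL (Fin 2) (ZMod p))))) ∧
        p ∣ Nat.card H := by
  classical
  have hp : p.Prime := Fact.out
  let T : ZMod p → (GL (Fin 2) (ZMod p)) := fun b => ⟨!![1, b; 0, 1], !![1, -b; 0, 1],
    by simp [Matrix.one_fin_two], by simp [Matrix.one_fin_two]⟩
  let L : ZMod p → (GL (Fin 2) (ZMod p)) := fun b => ⟨!![1, 0; b, 1], !![1, 0; -b, 1],
    by simp [Matrix.one_fin_two], by simp [Matrix.one_fin_two]⟩
  have hTadd : ∀ a b, T a * T b = T (a + b) := fun a b => Units.ext (by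
    show (!![1, a; 0, 1] : (Matrix (Fin 2) (Fin 2) (ZMod p))) * !![1, b; 0, 1] = !![1, a + b; 0, 1]
    simp [add_comm])
  have hLadd : ∀ a b, L a * L b = L (a + b) := fun a b => Units.ext (by
    show (!![1, 0; a, 1] : (Matrix (Fin 2) (Fin 2) (ZMod p))) * !![1, 0; b, 1] = !![1, 0; a + b, 1]
    simp)
  have hTpow : ∀ (n : ℕ) (b : ZMod p), T b ^ n = T (n * b) := by
    intro n b
    induction n with
    | zero => exact Units.ext (by simp [T, Matrix.one_fin_two])
    | succ n ih => rw [pow_succ, ih, hTadd]; congr 1; push_cast; ring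
  have hLpow : ∀ (n : ℕ) (b : ZMod p), L b ^ n = L (n * b) := by
    intro n b
    induction n with
    | zero => exact Units.ext (by simp [L, Matrix.one_fin_two])
    | succ n ih => rw [pow_succ, ih, hLadd]; congr 1; push_cast; ring
  constructor
  · rintro rfl
    let K := GaloisField p 2
    haveI : Fintype K := Fintype.ofFinite K
    let b : Module.Basis (Fin 2) (ZMod p) K :=
      Module.finBasisOfFinrankEq (ZMod p) K (GaloisField.finrank p two_ne_zero)
    let f : K →+* (Matrix (Fin 2) (Fin 2) (ZMod p)) := (Algebra.leftMulMatrix b).toRingHom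
    have hf : Function.Injective f := Algebra.leftMulMatrix_injective b
    refine ⟨⟨(Units.map f.toMonoidHom).range, f.range, le_top, ?_, ?_, ?_⟩, ?_⟩
    · exact MulEquiv.isField (Field.toIsField K)
        (RingEquiv.ofBijective f.rangeRestrict
          ⟨fun x y h => hf (congrArg Subtype.val h), f.rangeRestrict_surjective⟩).symm.toMulEquiv
    · rw [Nat.card_congr (Equiv.ofBijective f.rangeRestrict
        ⟨fun x y h => hf (congrArg Subtype.val h), f.rangeRestrict_surjective⟩).symm]
      exact GaloisField.card p 2 two_ne_zero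
    · ext m
      simp only [SetLike.mem_coe, RingHom.mem_range, Set.mem_insert_iff, Set.mem_image,
        MonoidHom.mem_range]
      constructor
      · rintro ⟨x, rfl⟩
        by_cases hx : x = 0
        · exact Or.inl (by rw [hx, map_zero])
        · exact Or.inr ⟨_, ⟨Units.mk0 x hx, rfl⟩, rfl⟩
      · rintro (rfl | ⟨_, ⟨x, rfl⟩, rfl⟩)
        · exact ⟨0, map_zero f⟩
        · exact ⟨(x : K), rfl⟩
    · have h1 : orderOf (T 1) = p := by
        refine orderOf_eq_prime ?_ ?_
        · rw [hTpow]; exact Units.ext (by simp [T, Matrix.one_fin_two])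
        · intro h
          have := congrArg (fun g : (GL (Fin 2) (ZMod p)) => (g : (Matrix (Fin 2) (Fin 2) (ZMod p))) 0 1) h
          simp [T] at this
      have h2 := orderOf_dvd_natCard (⟨T 1, Subgroup.mem_top _⟩ : (⊤ : Subgroup (GL (Fin 2) (ZMod p))))
      rwa [Subgroup.orderOf_mk, h1] at h2
  rintro ⟨⟨C, E, hCH, hE, hcard, hset⟩, hdvd⟩
  letI : Field E := hE.toField
  haveI : CharP (Matrix (Fin 2) (Fin 2) (ZMod p)) p := inferInstance
  have hEq : ∀ m : (Matrix (Fin 2) (Fin 2) (ZMod p)), m ∈ E ↔ m = 0 ∨ ∃ g ∈ C, (g : (Matrix (Fin 2) (Fin 2) (ZMod p))) = m := by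
    intro m
    have := Set.ext_iff.1 hset m
    simpa using this
  -- transitivity on nonzero vectors
  have htrans : ∀ v w : Fin 2 → ZMod p, v ≠ 0 → w ≠ 0 → ∃ g ∈ C, (g : (Matrix (Fin 2) (Fin 2) (ZMod p))).mulVec v = w := by
    intro v w hv hw
    let ψ : E → (Fin 2 → ZMod p) := fun e => (e : (Matrix (Fin 2) (Fin 2) (ZMod p))).mulVec v
    have hψ : Function.Injective ψ := by
      intro a a' h
      by_contra hne
      obtain ⟨d, hd⟩ := hE.mul_inv_cancel (sub_ne_zero.2 hne)
      have hd' : (d : (Matrix (Fin 2) (Fin 2) (ZMod p))) * ((a - a' : E) : (Matrix (Fin 2) (Fin 2) (ZMod p))) = 1 := by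
        rw [← Subring.coe_mul, hE.mul_comm, hd]; rfl
      have h0 : ((a - a' : E) : (Matrix (Fin 2) (Fin 2) (ZMod p))).mulVec v = 0 := by
        rw [AddSubgroupClass.coe_sub, Matrix.sub_mulVec]
        exact sub_eq_zero.2 h
      apply hv
      rw [← Matrix.one_mulVec v, ← hd', ← Matrix.mulVec_mulVec, h0, Matrix.mulVec_zero]
    haveI : Finite E := Finite.of_injective ψ hψ
    have hbij : Function.Bijective ψ := by
      refine (Nat.bijective_iff_injective_and_card ψ).2 ⟨hψ, ?_⟩
      rw [hcard, Nat.card_fun, Nat.card_zmod, Nat.card_fin]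
    obtain ⟨e, he⟩ := hbij.2 w
    rcases (hEq _).1 e.2 with h0 | ⟨g, hg, hge⟩
    · exfalso
      apply hw
      rw [← he]
      simp [ψ, h0]
    · exact ⟨g, hg, by rw [hge]; exact he⟩
  -- `det e = e ^ (p + 1)` on `E`
  haveI : CharP E p := (Subring.subtype E).charP Subtype.val_injective p
  haveI : Finite E := Nat.finite_of_card_ne_zero (by rw [hcard]; exact pow_ne_zero _ hp.ne_zero)
  haveI : Fintype E := Fintype.ofFinite E
  let ι' : ZMod p →+* E := ZMod.castHom dvd_rfl E
  have hι : ∀ a : ZMod p, ((ι' a : E) : (Matrix (Fin 2) (Fin 2) (ZMod p))) = algebraMap (ZMod p) (Matrix (Fin 2) (Fin 2) (ZMod p)) a := by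
    intro a
    exact RingHom.congr_fun (RingHom.ext_zmod ((Subring.subtype E).comp ι')
      (algebraMap (ZMod p) (Matrix (Fin 2) (Fin 2) (ZMod p)))) a
  have hι' : Function.Injective ι' := ι'.injective
  have hιp : ∀ a : ZMod p, ι' a ^ p = ι' a := by
    intro a
    rw [← map_pow, ZMod.pow_card]
  have hch : ∀ m : (Matrix (Fin 2) (Fin 2) (ZMod p)), m * m = algebraMap (ZMod p) (Matrix (Fin 2) (Fin 2) (ZMod p)) m.trace * m - algebraMap (ZMod p) (Matrix (Fin 2) (Fin 2) (ZMod p)) m.det := by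
    intro m
    rw [Algebra.algebraMap_eq_smul_one, Algebra.algebraMap_eq_smul_one, smul_mul_assoc, one_mul]
    ext i j
    fin_cases i <;> fin_cases j <;>
      simp [Matrix.mul_apply, Fin.sum_univ_two, Matrix.trace_fin_two, Matrix.det_fin_two,
        Matrix.one_apply] <;> ring
  have hnorm : ∀ e : E, ι' (e : (Matrix (Fin 2) (Fin 2) (ZMod p))).det = e ^ (p + 1) := by
    intro e
    have hq : e * e = ι' (e : (Matrix (Fin 2) (Fin 2) (ZMod p))).trace * e - ι' (e : (Matrix (Fin 2) (Fin 2) (ZMod p))).det := by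
      apply Subtype.ext
      rw [Subring.coe_mul, AddSubgroupClass.coe_sub, Subring.coe_mul, hι, hι]
      exact hch _
    have hqp : e ^ p * e ^ p = ι' (e : (Matrix (Fin 2) (Fin 2) (ZMod p))).trace * e ^ p - ι' (e : (Matrix (Fin 2) (Fin 2) (ZMod p))).det := by
      have := congrArg (fun x : E => x ^ p) hq
      simpa [mul_pow, sub_pow_char, hιp] using this
    have h : (e ^ p - e) * (e ^ p - (ι' (e : (Matrix (Fin 2) (Fin 2) (ZMod p))).trace - e)) = 0 := by
      linear_combination hqp - hq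
    rcases mul_eq_zero.1 h with h | h
    · -- a fixed point of Frobenius is a scalar
      obtain ⟨a, rfl⟩ : ∃ a, ι' a = e := by
        by_contra hne
        push Not at hne
        let P : Polynomial E := Polynomial.X ^ p - Polynomial.X
        have hP : P ≠ 0 := FiniteField.X_pow_card_sub_X_ne_zero E hp.one_lt
        have hs : insert e (Finset.univ.image ι') ⊆ P.roots.toFinset := by
          intro x hx
          rw [Multiset.mem_toFinset, Polynomial.mem_roots hP]
          rcases Finset.mem_insert.1 hx with rfl | hx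
          · simp [P, sub_eq_zero.1 h]
          · obtain ⟨a, -, rfl⟩ := Finset.mem_image.1 hx
            simp [P, hιp]
        have := (Finset.card_le_card hs).trans (Multiset.toFinset_card_le _)
        rw [Finset.card_insert_of_notMem (by simpa using hne),
          Finset.card_image_of_injective _ hι', Finset.card_univ, ZMod.card] at this
        have h2 := P.card_roots'
        rw [FiniteField.X_pow_card_sub_X_natDegree_eq E hp.one_lt] at h2
        omega
      rw [hι, pow_succ, hιp, Algebra.algebraMap_eq_smul_one, Matrix.det_smul]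
      simp [← map_mul, pow_two]
    · rw [pow_succ, sub_eq_zero.1 h]
      linear_combination hq
  -- `det` is surjective on `C`
  have hCcard : Nat.card C + 1 = p ^ 2 := by
    rw [← hcard, ← SetLike.coe_sort_coe E, Nat.card_coe_set_eq, hset,
      Set.ncard_insert_of_notMem, Set.ncard_image_of_injective _ Units.val_injective,
      ← Nat.card_coe_set_eq]
    · rfl
    · rintro ⟨g, -, hg⟩
      exact g.isUnit.ne_zero hg
  have hdet : ∀ d : (ZMod p)ˣ, ∃ g ∈ C, Matrix.GeneralLinearGroup.det g = d := by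
    let φ : C →* (ZMod p)ˣ := Matrix.GeneralLinearGroup.det.comp C.subtype
    have hker : Nat.card φ.ker ≤ p + 1 := by
      let j : φ.ker → E := fun g => ⟨((g : C) : (GL (Fin 2) (ZMod p))), (hEq _).2 (Or.inr ⟨_, (g : C).2, rfl⟩)⟩
      have hj : Function.Injective j := fun a a' h => Subtype.ext (Subtype.ext (Units.ext
        (congrArg (fun x : E => (x : (Matrix (Fin 2) (Fin 2) (ZMod p)))) h)))
      let P : Polynomial E := Polynomial.X ^ (p + 1) - Polynomial.C 1
      have hP : P ≠ 0 := Polynomial.X_pow_sub_C_ne_zero (Nat.succ_pos p) 1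
      have hs : Finset.univ.image j ⊆ P.roots.toFinset := by
        intro x hx
        obtain ⟨g, -, rfl⟩ := Finset.mem_image.1 hx
        rw [Multiset.mem_toFinset, Polynomial.mem_roots hP]
        have h1 : Matrix.det (((g : C) : (GL (Fin 2) (ZMod p))) : (Matrix (Fin 2) (Fin 2) (ZMod p))) = 1 := congrArg Units.val g.2
        have := hnorm (j g)
        simp only [j] at this
        rw [h1, map_one] at this
        simp [P, j, ← this]
      have := (Finset.card_le_card hs).trans (Multiset.toFinset_card_le _)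
      rw [Finset.card_image_of_injective _ hj, Finset.card_univ, ← Nat.card_eq_fintype_card] at this
      have h2 := P.card_roots'
      rw [Polynomial.natDegree_X_pow_sub_C] at h2
      omega
    have hrange : φ.range = ⊤ := by
      apply Subgroup.eq_top_of_le_card
      rw [Nat.card_units, Nat.card_zmod]
      have := φ.ker.card_mul_index
      rw [Subgroup.index_ker] at this
      have hp2 := hp.two_le
      by_contra hlt
      push Not at hlt
      have h3 : Nat.card φ.ker * Nat.card φ.range ≤ (p + 1) * (p - 2) :=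
        Nat.mul_le_mul hker (by omega)
      rw [this] at h3
      obtain ⟨q, rfl⟩ : ∃ q, p = q + 2 := ⟨p - 2, by omega⟩
      simp only [Nat.add_sub_cancel] at h3
      nlinarith
    intro d
    obtain ⟨g, hg⟩ : d ∈ φ.range := hrange ▸ Subgroup.mem_top d
    exact ⟨g, g.2, hg⟩
  -- transvections
  obtain ⟨u, hu⟩ := exists_prime_orderOf_dvd_card' p hdvd
  have hup : ((u : (GL (Fin 2) (ZMod p))) : (Matrix (Fin 2) (Fin 2) (ZMod p))) ^ p = 1 := by
    have h := pow_orderOf_eq_one u
    rw [hu] at h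
    rw [← Units.val_pow_eq_pow_val, ← Subgroup.coe_pow, h]; rfl
  set N : (Matrix (Fin 2) (Fin 2) (ZMod p)) := ((u : (GL (Fin 2) (ZMod p))) : (Matrix (Fin 2) (Fin 2) (ZMod p))) - 1 with hNdef
  have hN0 : N ≠ 0 := by
    intro h
    have : u = 1 := Subtype.ext (Units.ext (sub_eq_zero.1 h))
    rw [this, orderOf_one] at hu
    exact hp.ne_one hu.symm
  have hNp : N ^ p = 0 := by
    rw [hNdef, sub_pow_char_of_commute p (Commute.one_right _), hup, one_pow, sub_self]
  have hN2 : N * N = 0 := by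
    have hD : N.det = 0 := by
      refine eq_zero_of_pow_eq_zero (n := p) ?_
      rw [← Matrix.det_pow, hNp, Matrix.det_zero]
    have h := hch N
    rw [hD, map_zero, sub_zero] at h
    have hk : ∀ k : ℕ, N ^ (k + 1) = algebraMap (ZMod p) (Matrix (Fin 2) (Fin 2) (ZMod p)) (N.trace ^ k) * N := by
      intro k
      induction k with
      | zero => simp
      | succ k ih => rw [pow_succ, ih, mul_assoc, h, ← mul_assoc, ← map_mul, ← pow_succ]
    have ht : N.trace = 0 := by
      by_contra ht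
      apply hN0
      have := hk (p - 1)
      rw [Nat.sub_add_cancel hp.one_le, hNp, ← Algebra.smul_def, eq_comm] at this
      exact (smul_eq_zero.1 this).resolve_left (pow_ne_zero _ ht)
    rw [h, ht, map_zero, zero_mul]
  obtain ⟨v, hv⟩ : ∃ v, N.mulVec v ≠ 0 := by
    by_contra h
    push Not at h
    exact hN0 (Matrix.ext_of_mulVec_single fun i => by rw [h, Matrix.zero_mulVec])
  let e1 : Fin 2 → ZMod p := ![1, 0]
  let e2 : Fin 2 → ZMod p := ![0, 1]
  have he1 : e1 ≠ 0 := fun h => by simpa [e1] using congrFun h 0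
  have he2 : e2 ≠ 0 := fun h => by simpa [e2] using congrFun h 1
  obtain ⟨c, hc, hce⟩ := htrans e1 _ he1 hv
  obtain ⟨b, hb0, hbH⟩ : ∃ b, b ≠ 0 ∧ T b ∈ H := by
    let u' : (GL (Fin 2) (ZMod p)) := c⁻¹ * (u : (GL (Fin 2) (ZMod p))) * c
    have hu' : u' ∈ H := H.mul_mem (H.mul_mem (H.inv_mem (hCH hc)) u.2) (hCH hc)
    set M : (Matrix (Fin 2) (Fin 2) (ZMod p)) := (u' : (Matrix (Fin 2) (Fin 2) (ZMod p))) - 1 with hMdef
    have hM : M = ((c⁻¹ : (GL (Fin 2) (ZMod p))) : (Matrix (Fin 2) (Fin 2) (ZMod p))) * N * (c : (Matrix (Fin 2) (Fin 2) (ZMod p))) := by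
      rw [hMdef, hNdef, mul_sub, sub_mul, mul_one, Units.inv_mul]
      rfl
    have hM1 : M.mulVec e1 = 0 := by
      rw [hM, ← Matrix.mulVec_mulVec, hce, Matrix.mulVec_mulVec, mul_assoc, hN2, mul_zero,
        Matrix.zero_mulVec]
    have h00 : M 0 0 = 0 := by simpa [e1, Matrix.mulVec, dotProduct] using congrFun hM1 0
    have h10 : M 1 0 = 0 := by simpa [e1, Matrix.mulVec, dotProduct] using congrFun hM1 1
    have hMM : M * M = 0 := by
      rw [hM]
      calc _ = ((c⁻¹ : (GL (Fin 2) (ZMod p))) : (Matrix (Fin 2) (Fin 2) (ZMod p))) * N * ((c : (Matrix (Fin 2) (Fin 2) (ZMod p))) * ((c⁻¹ : (GL (Fin 2) (ZMod p))) : (Matrix (Fin 2) (Fin 2) (ZMod p)))) * N * (c : (Matrix (Fin 2) (Fin 2) (ZMod p))) := by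
            simp only [mul_assoc]
        _ = _ := by rw [Units.mul_inv, mul_one, mul_assoc _ N N, hN2, mul_zero, zero_mul]
    have h11 : M 1 1 = 0 := by
      have := congrFun (congrFun hMM 1) 1
      simpa [Matrix.mul_apply, Fin.sum_univ_two, h10] using this
    have heq : T (M 0 1) = u' := by
      refine Units.ext ?_
      change !![1, M 0 1; 0, 1] = (u' : (Matrix (Fin 2) (Fin 2) (ZMod p)))
      rw [← sub_add_cancel (u' : (Matrix (Fin 2) (Fin 2) (ZMod p))) 1, ← hMdef, Matrix.eta_fin_two M, h00, h10, h11,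
        Matrix.one_fin_two]
      simp
    refine ⟨M 0 1, fun h => hN0 ?_, heq ▸ hu'⟩
    have hM0 : M = 0 := by rw [Matrix.eta_fin_two M, h00, h10, h11, h]; ext i j; fin_cases i <;> fin_cases j <;> rfl
    calc N = (c : (Matrix (Fin 2) (Fin 2) (ZMod p))) * (((c⁻¹ : (GL (Fin 2) (ZMod p))) : (Matrix (Fin 2) (Fin 2) (ZMod p))) * N * (c : (Matrix (Fin 2) (Fin 2) (ZMod p)))) * ((c⁻¹ : (GL (Fin 2) (ZMod p))) : (Matrix (Fin 2) (Fin 2) (ZMod p))) := by
          simp only [mul_assoc, Units.mul_inv, mul_one, Units.mul_inv_cancel_left]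
      _ = 0 := by rw [← hM, hM0, mul_zero, zero_mul]
  have hT : ∀ a, T a ∈ H := by
    intro a
    have h := H.pow_mem hbH (a * b⁻¹).val
    rwa [hTpow, ZMod.natCast_zmod_val, inv_mul_cancel_right₀ hb0] at h
  have hL : ∀ a, L a ∈ H := by
    obtain ⟨c', hc', hce'⟩ := htrans e1 e2 he1 he2
    let u' : (GL (Fin 2) (ZMod p)) := c' * T 1 * c'⁻¹
    have hu' : u' ∈ H := H.mul_mem (H.mul_mem (hCH hc') (hT 1)) (H.inv_mem (hCH hc'))
    have hfix : (u' : (Matrix (Fin 2) (Fin 2) (ZMod p))).mulVec e2 = e2 := by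
      have h1 : ((c'⁻¹ : (GL (Fin 2) (ZMod p))) : (Matrix (Fin 2) (Fin 2) (ZMod p))).mulVec e2 = e1 := by
        rw [← hce', Matrix.mulVec_mulVec, Units.inv_mul, Matrix.one_mulVec]
      have h2 : (T 1 : (Matrix (Fin 2) (Fin 2) (ZMod p))).mulVec e1 = e1 := by ext i; fin_cases i <;> simp [T, e1, Matrix.vecHead]
      rw [Units.val_mul, Units.val_mul, ← Matrix.mulVec_mulVec, h1, ← Matrix.mulVec_mulVec, h2, hce']
    have h01 : (u' : (Matrix (Fin 2) (Fin 2) (ZMod p))) 0 1 = 0 := by simpa [e2, Matrix.mulVec, dotProduct] using congrFun hfix 0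
    have h11 : (u' : (Matrix (Fin 2) (Fin 2) (ZMod p))) 1 1 = 1 := by simpa [e2, Matrix.mulVec, dotProduct] using congrFun hfix 1
    have hd : (u' : (Matrix (Fin 2) (Fin 2) (ZMod p))).det = 1 := by
      rw [Units.val_mul, Units.val_mul, Matrix.det_units_conj]
      simp [T]
    have h00 : (u' : (Matrix (Fin 2) (Fin 2) (ZMod p))) 0 0 = 1 := by simpa [Matrix.det_fin_two, h01, h11] using hd
    set x := (u' : (Matrix (Fin 2) (Fin 2) (ZMod p))) 1 0 with hx
    have heq : L x = u' := by
      refine Units.ext ?_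
      change !![1, 0; x, 1] = (u' : (Matrix (Fin 2) (Fin 2) (ZMod p)))
      rw [Matrix.eta_fin_two (u' : (Matrix (Fin 2) (Fin 2) (ZMod p))), h00, h01, h11]
    have hx0 : x ≠ 0 := by
      intro h
      have h1 : u' = 1 := by rw [← heq, h]; exact Units.ext (by simp [L, Matrix.one_fin_two])
      have h2 : T 1 = 1 := by simpa [u', mul_inv_eq_one] using h1
      have := congrArg (fun g : (GL (Fin 2) (ZMod p)) => (g : (Matrix (Fin 2) (Fin 2) (ZMod p))) 0 1) h2
      simp [T] at this
    intro a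
    have h := H.pow_mem (heq ▸ hu' : L x ∈ H) (a * x⁻¹).val
    rwa [hLpow, ZMod.natCast_zmod_val, inv_mul_cancel_right₀ hx0] at h
  have hSL : ∀ w : Fin 2 → ZMod p, w ≠ 0 → ∃ g ∈ H, (g : (Matrix (Fin 2) (Fin 2) (ZMod p))).det = 1 ∧ (g : (Matrix (Fin 2) (Fin 2) (ZMod p))).mulVec e1 = w := by
    intro w hw
    have key : ∀ x y : ZMod p, y ≠ 0 →
        ∃ g ∈ H, (g : (Matrix (Fin 2) (Fin 2) (ZMod p))).det = 1 ∧ (g : (Matrix (Fin 2) (Fin 2) (ZMod p))).mulVec e1 = ![x, y] := by
      intro x y hy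
      refine ⟨T ((x - 1) / y) * L y, H.mul_mem (hT _) (hL _), by simp [T, L], ?_⟩
      ext i; fin_cases i <;> simp [T, L, e1, hy, Matrix.vecHead]
    by_cases hy : w 1 = 0
    · have hx : w 0 ≠ 0 := fun h => hw (funext fun i => by fin_cases i <;> assumption)
      obtain ⟨g, hg, hgd, hge⟩ := key (w 0) 1 one_ne_zero
      refine ⟨L (-(w 0)⁻¹) * g, H.mul_mem (hL _) hg, by rw [Units.val_mul, Matrix.det_mul, hgd]; simp [L], ?_⟩
      rw [Units.val_mul, ← Matrix.mulVec_mulVec, hge]
      ext i; fin_cases i <;> simp [L, hy, hx, Matrix.vecHead]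
    · obtain ⟨g, hg, hgd, hge⟩ := key (w 0) (w 1) hy
      exact ⟨g, hg, hgd, hge.trans (funext fun i => by fin_cases i <;> rfl)⟩
  rw [eq_top_iff]
  intro g _
  obtain ⟨h, hh, hhd⟩ := hdet (Matrix.GeneralLinearGroup.det g)
  have hne : ((h⁻¹ * g : (GL (Fin 2) (ZMod p))) : (Matrix (Fin 2) (Fin 2) (ZMod p))).mulVec e1 ≠ 0 := by
    intro h0
    apply he1
    have := congrArg (((h⁻¹ * g)⁻¹ : (GL (Fin 2) (ZMod p))) : (Matrix (Fin 2) (Fin 2) (ZMod p))).mulVec h0
    rwa [Matrix.mulVec_mulVec, Units.inv_mul, Matrix.one_mulVec, Matrix.mulVec_zero] at this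
  obtain ⟨s, hs, hsd, hse⟩ := hSL _ hne
  let g' : (GL (Fin 2) (ZMod p)) := s⁻¹ * (h⁻¹ * g)
  have hg'1 : (g' : (Matrix (Fin 2) (Fin 2) (ZMod p))).mulVec e1 = e1 := by
    rw [Units.val_mul, ← Matrix.mulVec_mulVec, ← hse, Matrix.mulVec_mulVec, Units.inv_mul,
      Matrix.one_mulVec]
  have hg'd : (g' : (Matrix (Fin 2) (Fin 2) (ZMod p))).det = 1 := by
    have : Matrix.GeneralLinearGroup.det g' = 1 := by
      have hs1 : Matrix.GeneralLinearGroup.det s = 1 := Units.ext hsd
      simp [g', hs1, hhd]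
    exact congrArg Units.val this
  have a00 : (g' : (Matrix (Fin 2) (Fin 2) (ZMod p))) 0 0 = 1 := by simpa [e1, Matrix.mulVec, dotProduct] using congrFun hg'1 0
  have a10 : (g' : (Matrix (Fin 2) (Fin 2) (ZMod p))) 1 0 = 0 := by simpa [e1, Matrix.mulVec, dotProduct] using congrFun hg'1 1
  have a11 : (g' : (Matrix (Fin 2) (Fin 2) (ZMod p))) 1 1 = 1 := by simpa [Matrix.det_fin_two, a00, a10] using hg'd
  have hgT : g' = T ((g' : (Matrix (Fin 2) (Fin 2) (ZMod p))) 0 1) := by
    refine Units.ext ?_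
    change (g' : (Matrix (Fin 2) (Fin 2) (ZMod p))) = !![1, (g' : (Matrix (Fin 2) (Fin 2) (ZMod p))) 0 1; 0, 1]
    conv_lhs => rw [Matrix.eta_fin_two (g' : (Matrix (Fin 2) (Fin 2) (ZMod p))), a00, a10, a11]
  have : g = h * (s * g') := by simp [g']
  rw [this, hgT]
  exact H.mul_mem (hCH hh) (H.mul_mem hs (hT _))

end Groth.Agent.S15361
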