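import Mathlib
import Groth.Agent.SigmaLinLib.Witt
import Groth.Statements.S15362

set_option autoImplicit false
universe u v w
open CAlg

namespace Groth.Agent.S15362

/-- For an algebraically closed field L of characteristic p > 0, a commutative L-algebra R integral over
L, and a finitely presented R-module M carrying an additive endomorphism φ with φ(r·m) = r^p·φ(m)
for r ∈ R, m ∈ M, the map m ↦ φ(m) − m is onto. (R is taken of exponential characteristic p so that
its Frobenius is a ring endomorphism; for a non-zero L-algebra this is automatic.) -/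
theorem result (p : ℕ) [Fact p.Prime]
    (L : Type u) [Field L] [IsAlgClosed L] [CharP L p]
    (R : Type v) [CommRing R] [Algebra L R] [Algebra.IsIntegral L R] [ExpChar R p]
    (M : Type w) [AddCommGroup M] [Module R M] [Module.FinitePresentation R M]
    (φ : M →ₛₗ[frobenius R p] M) :
    Function.Surjective fun m : M => φ m - m := by
  classical
  intro m
  letI : Module L M := Module.compHom M (algebraMap L R)
  haveI : IsScalarTower L R M := ⟨fun a b c => by
    show (a • b) • c = algebraMap L R a • (b • c)
    rw [Algebra.smul_def, mul_smul]⟩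
  obtain ⟨n, x, hx⟩ := Module.Finite.exists_fin (R := R) (M := M)
  have hspan : ∀ y : M, ∃ c : Fin n → R, ∑ i, c i • x i = y := fun y => by
    rw [← Submodule.mem_span_range_iff_exists_fun, hx]; trivial
  choose a ha using fun i => hspan (φ (x i))
  obtain ⟨c, hc⟩ := hspan m
  let R₀ := Algebra.adjoin L ((Set.range fun ij : Fin n × Fin n => a ij.1 ij.2) ∪ Set.range c)
  haveI : Module.Finite L R₀ := Algebra.finite_adjoin_of_finite_of_isIntegral
    ((Set.finite_range _).union (Set.finite_range _)) fun y _ => Algebra.IsIntegral.isIntegral y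
  let V : Submodule L M := Submodule.span L ((fun z : R₀ × Fin n => (z.1 : R) • x z.2) '' Set.univ)
  have hmemV : ∀ (r : R) (i : Fin n), r ∈ R₀ → r • x i ∈ V := fun r i hr =>
    Submodule.subset_span ⟨(⟨r, hr⟩, i), trivial, rfl⟩
  haveI : Module.Finite L V := by
    obtain ⟨s, hs⟩ := (inferInstance : Module.Finite L R₀).fg_top
    have hle : V ≤ Submodule.span L ((fun z : R₀ × Fin n => (z.1 : R) • x z.2) '' ((s : Set R₀) ×ˢ Set.univ)) := by
      rw [Submodule.span_le]
      rintro _ ⟨⟨r, i⟩, -, rfl⟩
      show (r : R) • x i ∈ _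
      have hr : r ∈ Submodule.span L (s : Set R₀) := hs ▸ Submodule.mem_top
      induction hr using Submodule.span_induction with
      | mem y hy => exact Submodule.subset_span ⟨(y, i), ⟨hy, trivial⟩, rfl⟩
      | zero => simp
      | add y z _ _ hy hz => rw [Subalgebra.coe_add, add_smul]; exact add_mem hy hz
      | smul l y _ hy =>
        rw [Subalgebra.coe_smul, smul_assoc]
        exact Submodule.smul_mem _ _ hy
    haveI := Module.Finite.span_of_finite L
      ((s.finite_toSet.prod Set.finite_univ).image (fun z : R₀ × Fin n => (z.1 : R) • x z.2))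
    exact Module.Finite.of_injective (Submodule.inclusion hle) (Submodule.inclusion_injective hle)
  have hφL : ∀ (l : L) (v : M), φ (l • v) = frobenius L p l • φ v := by
    intro l v
    rw [← algebraMap_smul R l, LinearMap.map_smulₛₗ, ← algebraMap_smul R (frobenius L p l), frobenius_def,
      frobenius_def, map_pow]
  have hstab : ∀ v ∈ V, φ v ∈ V := by
    intro v hv
    induction hv using Submodule.span_induction with
    | mem y hy =>
      obtain ⟨⟨r, i⟩, -, rfl⟩ := hy
      show φ ((r : R) • x i) ∈ V
      rw [LinearMap.map_smulₛₗ, ← ha i, Finset.smul_sum]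
      refine Submodule.sum_mem _ fun j _ => ?_
      rw [smul_smul]
      refine hmemV _ j (R₀.mul_mem ?_ (Algebra.subset_adjoin (Or.inl ⟨(i, j), rfl⟩)))
      rw [frobenius_def]
      exact R₀.pow_mem r.2 p
    | zero => simp
    | add y z _ _ hy hz => rw [map_add]; exact add_mem hy hz
    | smul l y _ hy => rw [hφL]; exact Submodule.smul_mem _ _ hy
  have hm : m ∈ V := hc ▸ Submodule.sum_mem _ fun i _ => hmemV _ i (Algebra.subset_adjoin (Or.inr ⟨i, rfl⟩))
  let T : V →ₛₗ[frobenius L p] V :=
    { toFun := fun v => ⟨φ v, hstab _ v.2⟩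
      map_add' := fun u v => Subtype.ext (map_add φ _ _)
      map_smul' := fun l v => Subtype.ext (hφL l v) }
  obtain ⟨hsurj, -⟩ := Groth.Agent.SigmaLinLib.lang T (frobeniusEquiv L p).surjective
    (Groth.Agent.SigmaLinLib.H2_frobenius p) (Groth.Agent.SigmaLinLib.H3_frobenius p)
  obtain ⟨v, hv⟩ := hsurj ⟨-m, V.neg_mem hm⟩
  refine ⟨v, ?_⟩
  have h := congrArg Subtype.val hv
  simp only [Submodule.coe_sub] at h
  show φ v - (v : M) = m
  rw [← neg_neg m, ← h]
  show φ v - (v : M) = -((v : M) - φ v)
  abel

end Groth.Agent.S15362
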