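import Groth.Statements.S15363
import Mathlib

set_option autoImplicit false
universe u
open CategoryTheory AlgebraicGeometry
open SekSuwa

namespace Groth.Agent.S15363

open AlgebraicGeometry CategoryTheory
set_option backward.isDefEq.respectTransparency false

lemma key {R : Type u} [CommRing R] [IsDomain R] (p : ℕ) (lam : R) (h : SekSuwa.DivCond lam p) {B : Type u} [CommRing B]
    (φ ψ : SekSuwa.AK R lam p h →+* B) (hr : φ.comp (algebraMap R _) = ψ.comp (algebraMap R _))
    (hflat : (φ.comp (algebraMap R _)).Flat)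
    (hu : φ (1 + lam • SekSuwa.AK.t) = ψ (1 + lam • SekSuwa.AK.t)) : φ = ψ := by
  algebraize [φ.comp (algebraMap R (SekSuwa.AK R lam p h))]
  let φ' : SekSuwa.AK R lam p h →ₐ[R] B := ⟨φ, fun r => rfl⟩
  let ψ' : SekSuwa.AK R lam p h →ₐ[R] B := ⟨ψ, fun r => (RingHom.congr_fun hr r).symm⟩
  haveI : Module.IsTorsionFree R B := inferInstance
  have hl : lam ≠ 0 := nonZeroDivisors.ne_zero h.1
  have ht : φ' SekSuwa.AK.t = ψ' SekSuwa.AK.t := by
    have h1 : φ' (1 + lam • SekSuwa.AK.t) = ψ' (1 + lam • SekSuwa.AK.t) := hu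
    simp only [map_add, map_one, map_smul, add_right_inj] at h1
    exact (smul_right_injective B hl) h1
  have hi : φ' SekSuwa.AK.inv = ψ' SekSuwa.AK.inv := by
    have e1 : (1 + lam • (SekSuwa.AK.t : SekSuwa.AK R lam p h)) * SekSuwa.AK.inv = 1 := by
      have := congrArg (SekSuwa.AK.mkHom R lam p h) (SekSuwa.A.u_mul_inv (R := R) (lam := lam))
      rw [map_mul, map_one, SekSuwa.A.u, map_add, map_one, map_smul] at this
      exact this
    exact left_inv_eq_right_inv (a := φ' (1 + lam • SekSuwa.AK.t)) (by rw [← map_mul, mul_comm, e1, map_one])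
      (by rw [show φ' (1 + lam • SekSuwa.AK.t) = ψ' (1 + lam • SekSuwa.AK.t) from hu, ← map_mul, e1, map_one])
  have := SekSuwa.AK.algHom_ext (f := φ') (g := ψ') ht hi
  exact congrArg AlgHom.toRingHom this

/-- Let R be an integral domain, p a prime and λ ∈ R a non-zero element with λ^p dividing (1 + λX)^p −
1, so that the congruence group scheme G_λ = Spec R[T]/(P_λ(T)) of level λ and its homomorphism θ_λ
: G_λ → μ_p, X ↦ 1 + λT, are defined. For every scheme G flat over Spec R, composition with θ_λ is
injective on R-morphisms G → G_λ; in particular θ_λ induces an injective map from the homomorphisms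
G → G_λ of a flat R-group scheme G to its homomorphisms G → μ_p. (The published statement is over
the ring of integers of an algebraic closure of a complete discretely valued field of mixed
characteristic, for finite flat commutative group schemes killed by p; the published argument, that
θ_λ is an isomorphism on the generic fibre and G is flat, gives the form stated here.) -/
theorem result (R : Type u) [CommRing R] [IsDomain R]
    (p : ℕ) [Fact p.Prime] (lam : R) (h : SekSuwa.DivCond lam p)
    (G : Over (Spec (CommRingCat.of R))) [Flat G.hom]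
    (f g : G ⟶ SekSuwa.GK R lam p h)
    (hfg : f ≫ SekSuwa.alphaN R lam p h = g ≫ SekSuwa.alphaN R lam p h) : f = g := by
  apply Over.OverMorphism.ext
  refine Scheme.hom_ext_of_forall _ _ fun x => ?_
  obtain ⟨_, ⟨U, hU, rfl⟩, hxU, -⟩ := G.left.isBasis_affineOpens.exists_subset_of_mem_open (Set.mem_univ x) isOpen_univ
  refine ⟨U, hxU, ?_⟩
  let i := hU.fromSpec
  haveI : IsIso hU.isoSpec.inv := inferInstance
  rw [← cancel_epi hU.isoSpec.inv, ← Category.assoc, ← Category.assoc, hU.isoSpec_inv_ι]
  obtain ⟨φ, hφ⟩ := Spec.map_surjective (i ≫ f.left)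
  obtain ⟨ψ, hψ⟩ := Spec.map_surjective (i ≫ g.left)
  rw [← hφ, ← hψ]
  congr 1
  refine CommRingCat.hom_ext (key p lam h φ.hom ψ.hom ?_ ?_ ?_)
  · have e : CommRingCat.ofHom (algebraMap R (SekSuwa.AK R lam p h)) ≫ φ = CommRingCat.ofHom (algebraMap R _) ≫ ψ := by
      apply Spec.map_injective
      rw [Spec.map_comp, Spec.map_comp, hφ, hψ, Category.assoc, Category.assoc]
      exact congrArg (i ≫ ·) ((Over.w f).trans (Over.w g).symm)
    exact congrArg CommRingCat.Hom.hom e
  · haveI : Flat (i ≫ G.hom) := inferInstance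
    have e : Spec.map (CommRingCat.ofHom (algebraMap R (SekSuwa.AK R lam p h)) ≫ φ) = i ≫ G.hom := by
      rw [Spec.map_comp, hφ, Category.assoc]
      exact congrArg (i ≫ ·) (Over.w f)
    have h2 := (HasRingHomProperty.Spec_iff (P := @Flat)).1 (e ▸ (inferInstance : Flat (i ≫ G.hom)))
    exact h2
  · have hfg' := congrArg (fun k => i ≫ CommaMorphism.left k) hfg
    simp only [Over.comp_left, SekSuwa.alphaN, SekSuwa.specHom_left] at hfg'
    rw [← Category.assoc, ← Category.assoc, ← hφ, ← hψ, ← Spec.map_comp, ← Spec.map_comp] at hfg'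
    have := congr($(congrArg CommRingCat.Hom.hom (Spec.map_injective hfg')) (MonoidAlgebra.single (Multiplicative.ofAdd (1 : ZMod p)) 1))
    simpa [SekSuwa.alphaNHom_single_one] using this

end Groth.Agent.S15363
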