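import Groth.Statements.S15364
import Groth.Agent.H6FiniteTarget

set_option autoImplicit false
universe u
open CategoryTheory CategoryTheory.Limits MonoidalCategory CartesianMonoidalCategory AlgebraicGeometry
open AbSch

namespace Groth.Agent.S15364

open CategoryTheory CategoryTheory.Limits AlgebraicGeometry

open Groth.Agent MonObj
set_option backward.isDefEq.respectTransparency false

/-- For an abelian scheme f : A → T (a commutative T-group scheme, proper and smooth over T with
geometrically connected fibres) and a commutative group scheme H finite and locally free over T, the
adjunction map H → f_* f^* H of fppf sheaves on T is an isomorphism, i.e. for every T-scheme U the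
map H(U) → H(A ×_T U), s ↦ s ∘ pr, is bijective. This row states the case U = T, to which the
general case reduces by base change: composition with the structure morphism A → T is a bijection
from the sections of H over T onto the T-morphisms A → H. The group structure of H plays no role and
is not assumed. (The published statement has an arbitrary base T; the published argument rests on
the rigidity lemma in its form for Noetherian schemes, so T is taken locally Noetherian here.) -/
theorem result {T : Scheme.{u}} [IsLocallyNoetherian T]
    (A : Over T) [GrpObj A] [IsCommMonObj A] [IsProper A.hom] [Smooth A.hom] [GeometricallyConnected A.hom]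
    (H : Over T) [IsFinite H.hom] [Flat H.hom] [LocallyOfFinitePresentation H.hom] :
    Function.Bijective fun s : (𝟙_ (Over T) ⟶ H) => toUnit A ≫ s := by
  have hη : (η[A]).left ≫ A.hom = 𝟙 T := Over.w η[A]
  refine ⟨fun s s' h => ?_, fun f => ⟨η[A] ≫ f, ?_⟩⟩
  · have h1 : η[A] ≫ toUnit A = 𝟙 _ := toUnit_unique _ _
    calc s = (η[A] ≫ toUnit A) ≫ s := by rw [h1, Category.id_comp]
      _ = (η[A] ≫ toUnit A) ≫ s' := by rw [Category.assoc, show toUnit A ≫ s = toUnit A ≫ s' from h, Category.assoc]
      _ = s' := by rw [h1, Category.id_comp]
  · ext
    exact (H6FiniteTarget.eq_section A.hom H.hom (η[A]).left hη f.left (Over.w f)).symm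


end Groth.Agent.S15364
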