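import Mathlib
import Groth.Statements.S15365

set_option autoImplicit false
universe u
open scoped BigOperators
open CAlg

namespace Groth.Agent.S15365

/-- Let A be a commutative ring of characteristic p > 0 and (h_{ij})_{1 ≤ i,j ≤ n} a square matrix over
A, the matrix of a commutative p-Lie algebra (L, φ) with L free with basis e_1, …, e_n and φ(e_j) =
Σ_i h_{ij} e_i. The associated finite group scheme Spec A[X_1, …, X_n]/(X_j^p − Σ_i h_{ij} X_i)_{1 ≤
j ≤ n} is étale over A if and only if the matrix (h_{ij}) is invertible, i.e. its determinant is a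
unit of A. Only the algebra structure enters this assertion. -/
theorem result (p : ℕ) [Fact p.Prime]
    (A : Type u) [CommRing A] [CharP A p] (n : ℕ) (h : Matrix (Fin n) (Fin n) A) :
    Algebra.Etale A (MvPolynomial (Fin n) A ⧸ Ideal.span (Set.range fun j : Fin n =>
        (MvPolynomial.X j : MvPolynomial (Fin n) A) ^ p -
          ∑ i : Fin n, MvPolynomial.C (h i j) * MvPolynomial.X i)) ↔
      IsUnit h.det := by
  classical
  set r : Fin n → MvPolynomial (Fin n) A := fun j : Fin n =>
    (MvPolynomial.X j : MvPolynomial (Fin n) A) ^ p -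
      ∑ i : Fin n, MvPolynomial.C (h i j) * MvPolynomial.X i with hr
  have hp2 : 2 ≤ p := (Fact.out : p.Prime).two_le
  -- algebra maps out of the quotient
  have hev : ∀ (C : Type u) [CommRing C] [Algebra A C] (x : Fin n → C) (j : Fin n),
      MvPolynomial.aeval x (r j) = x j ^ p - ∑ i, algebraMap A C (h i j) * x i := by
    intro C _ _ x j
    simp [hr]
  have hlift : ∀ (C : Type u) [CommRing C] [Algebra A C] (x : Fin n → C),
      (∀ j, x j ^ p = ∑ i, algebraMap A C (h i j) * x i) →
      ∃ g : (MvPolynomial (Fin n) A ⧸ Ideal.span (Set.range r)) →ₐ[A] C,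
        ∀ i, g (Ideal.Quotient.mk _ (MvPolynomial.X i)) = x i := by
    intro C _ _ x hx
    refine ⟨Ideal.Quotient.liftₐ _ (MvPolynomial.aeval x) ?_, fun i => ?_⟩
    · intro a ha
      have hle : Ideal.span (Set.range r) ≤ RingHom.ker (MvPolynomial.aeval x) := by
        rw [Ideal.span_le]
        rintro _ ⟨j, rfl⟩
        rw [SetLike.mem_coe, RingHom.mem_ker, hev, hx j, sub_self]
      exact hle ha
    · simp
  have hext : ∀ (C : Type u) [CommRing C] [Algebra A C]
      (g₁ g₂ : (MvPolynomial (Fin n) A ⧸ Ideal.span (Set.range r)) →ₐ[A] C),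
      (∀ i, g₁ (Ideal.Quotient.mk _ (MvPolynomial.X i)) =
        g₂ (Ideal.Quotient.mk _ (MvPolynomial.X i))) → g₁ = g₂ := by
    intro C _ _ g₁ g₂ hg
    apply Ideal.Quotient.algHom_ext
    apply MvPolynomial.algHom_ext
    intro i
    exact hg i
  have hrel : ∀ (C : Type u) [CommRing C] [Algebra A C]
      (g : (MvPolynomial (Fin n) A ⧸ Ideal.span (Set.range r)) →ₐ[A] C) (j : Fin n),
      g (Ideal.Quotient.mk _ (MvPolynomial.X j)) ^ p =
        ∑ i, algebraMap A C (h i j) * g (Ideal.Quotient.mk _ (MvPolynomial.X i)) := by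
    intro C _ _ g j
    have h0 : (Ideal.Quotient.mk (Ideal.span (Set.range r)) (r j)) = 0 :=
      Ideal.Quotient.eq_zero_iff_mem.2 (Ideal.subset_span ⟨j, rfl⟩)
    have h1 : g.comp (Ideal.Quotient.mkₐ A (Ideal.span (Set.range r))) =
        MvPolynomial.aeval fun i => g (Ideal.Quotient.mk _ (MvPolynomial.X i)) := by
      apply MvPolynomial.algHom_ext
      intro i
      simp
    have h2 := DFunLike.congr_fun h1 (r j)
    rw [hev] at h2
    simp only [AlgHom.comp_apply, Ideal.Quotient.mkₐ_eq_mk, h0, map_zero] at h2
    exact sub_eq_zero.1 h2.symm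
  constructor
  · intro het
    by_contra hdet
    obtain ⟨m, hm, hmdet⟩ := exists_max_ideal_of_mem_nonunits hdet
    let _ : Field (A ⧸ m) := Ideal.Quotient.field m
    have hd0 : (h.map (Ideal.Quotient.mk m)).det = 0 := by
      rw [← RingHom.mapMatrix_apply, ← RingHom.map_det]
      exact Ideal.Quotient.eq_zero_iff_mem.2 hmdet
    obtain ⟨v, hv, hv0⟩ := Matrix.exists_vecMul_eq_zero_iff.2 hd0
    have hchar : (p : A ⧸ m) = 0 := by
      rw [← map_natCast (Ideal.Quotient.mk m), CharP.cast_eq_zero, map_zero]
    obtain ⟨g₁, hg₁⟩ := hlift (DualNumber (A ⧸ m)) (fun _ => 0) (fun j => by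
      rw [zero_pow (by omega)]; simp)
    obtain ⟨g₂, hg₂⟩ := hlift (DualNumber (A ⧸ m)) (fun i => TrivSqZeroExt.inr (v i)) (fun j => by
      have h1 : (TrivSqZeroExt.inr (v j) : DualNumber (A ⧸ m)) ^ p = 0 := by
        obtain ⟨q, rfl⟩ := Nat.exists_eq_add_of_le hp2
        rw [pow_add, pow_two, TrivSqZeroExt.inr_mul_inr, zero_mul]
      have h2 : ∀ i, algebraMap A (DualNumber (A ⧸ m)) (h i j) * TrivSqZeroExt.inr (v i) =
          TrivSqZeroExt.inr (v i * Ideal.Quotient.mk m (h i j)) := by
        intro i
        rw [← Algebra.smul_def, ← TrivSqZeroExt.inr_smul, Algebra.smul_def, mul_comm]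
        rfl
      rw [h1]
      simp only [h2, ← TrivSqZeroExt.inr_sum]
      have h3 := congrFun hv0 j
      simp only [Matrix.vecMul, dotProduct, Matrix.map_apply, Pi.zero_apply] at h3
      rw [h3, TrivSqZeroExt.inr_zero])
    have hker : IsNilpotent (RingHom.ker (TrivSqZeroExt.fstHom A (A ⧸ m) (A ⧸ m)).toRingHom) := by
      refine ⟨2, ?_⟩
      refine le_antisymm ?_ bot_le
      have hsq : ∀ J : Ideal (TrivSqZeroExt (A ⧸ m) (A ⧸ m)), J ^ 2 = J * J := fun J => pow_two J
      refine (hsq _).le.trans ?_
      rw [Ideal.mul_le]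
      intro a ha b hb
      rw [RingHom.mem_ker] at ha hb
      change a * b = 0
      have ha' : TrivSqZeroExt.fst a = 0 := ha
      have hb' : TrivSqZeroExt.fst b = 0 := hb
      ext
      · simp [ha']
      · simp [ha', hb']
    have heq : g₁ = g₂ := by
      apply Algebra.FormallyUnramified.ext' _ hker
      intro x
      have : (TrivSqZeroExt.fstHom A (A ⧸ m) (A ⧸ m)).comp g₁ =
          (TrivSqZeroExt.fstHom A (A ⧸ m) (A ⧸ m)).comp g₂ := by
        apply hext
        intro i
        simp [hg₁, hg₂]
      exact DFunLike.congr_fun this x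
    apply hv
    funext i
    have := congrArg TrivSqZeroExt.snd (DFunLike.congr_fun heq (Ideal.Quotient.mk _ (MvPolynomial.X i)))
    rw [hg₁, hg₂] at this
    simpa using this.symm
  · intro hdet
    have : Algebra.FinitePresentation A (MvPolynomial (Fin n) A ⧸ Ideal.span (Set.range r)) :=
      Algebra.FinitePresentation.quotient ⟨Finset.univ.image r, by simp⟩
    have : Algebra.FormallyEtale A (MvPolynomial (Fin n) A ⧸ Ideal.span (Set.range r)) := by
      rw [Algebra.FormallyEtale.iff_comp_bijective]
      intro C _ _ I hI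
      have hpC : (p : C) = 0 := by
        rw [← map_natCast (algebraMap A C), CharP.cast_eq_zero, map_zero]
      have hfrob : ∀ x d : C, d ∈ I → (x + d) ^ p = x ^ p := by
        intro x d hd
        obtain ⟨t, ht⟩ := exists_add_pow_prime_eq (Fact.out : p.Prime) x d
        have hd2 : d ^ p = 0 := by
          obtain ⟨q, hq⟩ := Nat.exists_eq_add_of_le hp2
          have : d * d = 0 := by
            have := Ideal.mul_mem_mul hd hd
            rw [← pow_two, hI] at this
            exact this
          rw [hq, pow_add, pow_two, this, zero_mul]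
        rw [ht, hd2, hpC]
        ring
      have hH : IsUnit (h.map (algebraMap A C)).det := by
        rw [← RingHom.mapMatrix_apply, ← RingHom.map_det]
        exact hdet.map _
      constructor
      · intro g₁ g₂ hg
        apply hext
        intro i
        let d : Fin n → C := fun i => g₁ (Ideal.Quotient.mk _ (MvPolynomial.X i)) -
          g₂ (Ideal.Quotient.mk _ (MvPolynomial.X i))
        have hdI : ∀ i, d i ∈ I := fun i => by
          have := DFunLike.congr_fun hg (Ideal.Quotient.mk _ (MvPolynomial.X i))
          exact Ideal.Quotient.eq.1 this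
        have hz : Matrix.vecMul d (h.map (algebraMap A C)) = 0 := by
          funext j
          have e1 : g₁ (Ideal.Quotient.mk _ (MvPolynomial.X j)) ^ p =
              g₂ (Ideal.Quotient.mk _ (MvPolynomial.X j)) ^ p := by
            have := hfrob (g₂ (Ideal.Quotient.mk _ (MvPolynomial.X j))) _ (hdI j)
            simpa [d] using this
          rw [hrel, hrel, ← sub_eq_zero, ← Finset.sum_sub_distrib] at e1
          simp only [Matrix.vecMul, dotProduct, Matrix.map_apply, Pi.zero_apply]
          rw [← e1]
          exact Finset.sum_congr rfl fun i _ => by simp [d]; ring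
        have : d = 0 := by
          have := congrArg (fun w => Matrix.vecMul w (h.map (algebraMap A C))⁻¹) hz
          simp only [Matrix.vecMul_vecMul, Matrix.zero_vecMul] at this
          rwa [Matrix.mul_nonsing_inv _ hH, Matrix.vecMul_one] at this
        exact sub_eq_zero.1 (congrFun this i)
      · intro f
        choose x hx using fun i =>
          Ideal.Quotient.mk_surjective (f (Ideal.Quotient.mk _ (MvPolynomial.X i)))
        let t : Fin n → C := fun j => x j ^ p - ∑ i, algebraMap A C (h i j) * x i
        have htI : ∀ j, t j ∈ I := fun j => by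
          rw [← Ideal.Quotient.eq_zero_iff_mem]
          simp only [t, map_sub, map_pow, map_sum, map_mul, hx, Ideal.Quotient.mk_algebraMap]
          rw [hrel (C ⧸ I) f j, sub_self]
        let d : Fin n → C := Matrix.vecMul t (h.map (algebraMap A C))⁻¹
        have hdI : ∀ i, d i ∈ I := fun i =>
          show ∑ j, t j * (h.map (algebraMap A C))⁻¹ j i ∈ I from
            Ideal.sum_mem _ fun j _ => Ideal.mul_mem_right _ _ (htI j)
        have hdH : ∀ j, ∑ i, algebraMap A C (h i j) * d i = t j := by
          intro j
          have : Matrix.vecMul d (h.map (algebraMap A C)) = t := by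
            simp only [d, Matrix.vecMul_vecMul, Matrix.nonsing_inv_mul _ hH, Matrix.vecMul_one]
          rw [← congrFun this j]
          exact Finset.sum_congr rfl fun i _ => by simp [mul_comm]
        obtain ⟨g, hg⟩ := hlift C (fun i => x i + d i) (fun j => by
          rw [hfrob _ _ (hdI j)]
          simp only [mul_add, Finset.sum_add_distrib, hdH, t]
          ring)
        refine ⟨g, hext _ _ _ fun i => ?_⟩
        simp only [AlgHom.comp_apply, Ideal.Quotient.mkₐ_eq_mk, hg, map_add, hx]
        rw [Ideal.Quotient.eq_zero_iff_mem.2 (hdI i), add_zero]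
    exact ⟨this, inferInstance⟩

end Groth.Agent.S15365
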