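import Groth.Statements.S15366
import Mathlib
-- import your own Groth.Agent.* helpers here

set_option autoImplicit false
universe u
open CAlg

namespace Groth.Agent.S15366

/-- Let k be an algebraically closed field of characteristic p > 0, R = k[[t₁, t₂]], and O = R_{(t₁)}
the local ring of Spec R at the generic point x of the divisor t₁ = 0 (a discrete valuation ring,
with uniformizer t₁ and residue field k((t₂))). Then O embeds, by an injective local k-algebra map
φ, into some complete discrete valuation ring A containing k whose residue field is algebraically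
closed and in which φ(t₁) is still a uniformizer. The prime ideal (t₁) is passed as an ideal P equal
to it together with its primality. -/
theorem result
    (p : ℕ) [Fact p.Prime] (k : Type u) [Field k] [IsAlgClosed k] [CharP k p]
    (P : Ideal (MvPowerSeries (Fin 2) k))
    (hP : P = Ideal.span {(MvPowerSeries.X 0 : MvPowerSeries (Fin 2) k)}) [P.IsPrime] :
    ∃ (A : Type u) (_ : CommRing A) (_ : IsDomain A) (_ : IsDiscreteValuationRing A) (_ : Algebra k A)
      (φ : Localization.AtPrime P →ₐ[k] A),
      IsAdicComplete (IsLocalRing.maximalIdeal A) A ∧ IsAlgClosed (IsLocalRing.ResidueField A) ∧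
        Function.Injective φ ∧ IsLocalHom φ.toRingHom ∧
          Irreducible (φ (algebraMap (MvPowerSeries (Fin 2) k) (Localization.AtPrime P)
            (MvPowerSeries.X 0))) := by
  classical
  let S1 := MvPowerSeries (Fin 1) k
  haveI : IsDomain S1 := NoZeroDivisors.to_isDomain _
  let L := AlgebraicClosure (FractionRing S1)
  let ι : S1 →+* L := (algebraMap (FractionRing S1) L).comp (algebraMap S1 (FractionRing S1))
  have hι : Function.Injective ι :=
    (algebraMap (FractionRing S1) L).injective.comp (IsFractionRing.injective S1 (FractionRing S1))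
  let e := MvPowerSeries.finSuccEquiv k 1
  let ψ : MvPowerSeries (Fin 2) k →+* PowerSeries L := (PowerSeries.map ι).comp e.toRingEquiv.toRingHom
  have hψinj : Function.Injective ψ := (PowerSeries.map_injective ι hι).comp e.injective
  have hX : ψ (MvPowerSeries.X 0) = PowerSeries.X := by
    show PowerSeries.map ι (e (MvPowerSeries.X 0)) = _
    rw [MvPowerSeries.finSuccEquiv_X_zero, PowerSeries.map_X]
  have hPmem : ∀ f, f ∈ P ↔ PowerSeries.constantCoeff (ψ f) = 0 := by
    intro f
    rw [hP, Ideal.mem_span_singleton]
    constructor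
    · rintro ⟨g, rfl⟩
      rw [map_mul, hX, map_mul, PowerSeries.constantCoeff_X, zero_mul]
    · intro h
      have h' : PowerSeries.constantCoeff (e f) = 0 := by
        apply hι
        rw [map_zero]
        rw [← PowerSeries.coeff_zero_eq_constantCoeff_apply, ← PowerSeries.coeff_map, PowerSeries.coeff_zero_eq_constantCoeff_apply]
        exact h
      obtain ⟨g, hg⟩ := PowerSeries.X_dvd_iff.2 h'
      refine ⟨e.symm g, e.injective ?_⟩
      rw [map_mul, e.apply_symm_apply, MvPowerSeries.finSuccEquiv_X_zero, hg]
  have hunit : ∀ y : P.primeCompl, IsUnit (ψ y) := fun y =>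
    PowerSeries.isUnit_iff_constantCoeff.2 (isUnit_iff_ne_zero.2 fun h => y.2 ((hPmem _).2 h))
  let φ₀ : Localization.AtPrime P →+* PowerSeries L := IsLocalization.lift hunit
  have hφ₀ : ∀ f, φ₀ (algebraMap _ _ f) = ψ f := fun f => IsLocalization.lift_eq _ f
  letI : Algebra k (PowerSeries L) := (ψ.comp MvPowerSeries.C).toAlgebra
  let φ : Localization.AtPrime P →ₐ[k] PowerSeries L :=
    { φ₀ with
      commutes' := fun r => by
        show φ₀ (algebraMap k _ r) = ψ (MvPowerSeries.C r)
        rw [IsScalarTower.algebraMap_apply k (MvPowerSeries (Fin 2) k) (Localization.AtPrime P), hφ₀]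
        rfl }
  refine ⟨PowerSeries L, inferInstance, inferInstance, inferInstance, inferInstance, φ, ?_, ?_, ?_, ?_, ?_⟩
  · rw [PowerSeries.maximalIdeal_eq_span_X]
    infer_instance
  · exact IsAlgClosed.of_ringEquiv _ _ PowerSeries.residueFieldOfPowerSeries.symm
  · show Function.Injective φ₀
    rw [injective_iff_map_eq_zero]
    intro z hz
    obtain ⟨⟨a, s⟩, rfl⟩ := IsLocalization.mk'_surjective P.primeCompl z
    rw [IsLocalization.lift_mk'_spec] at hz
    rw [mul_zero] at hz
    obtain rfl : a = 0 := hψinj (hz.trans (map_zero ψ).symm)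
    exact IsLocalization.mk'_zero s
  · refine ⟨fun z hz => ?_⟩
    obtain ⟨⟨a, s⟩, rfl⟩ := IsLocalization.mk'_surjective P.primeCompl z
    rw [IsLocalization.AtPrime.isUnit_mk'_iff]
    intro ha
    change IsUnit (φ₀ _) at hz
    have h2 : φ₀ (IsLocalization.mk' _ a s) * ψ s = ψ a := by
      rw [← hφ₀ s, ← map_mul, IsLocalization.mk'_spec, hφ₀]
    have h3 := hz.mul (hunit s)
    rw [h2, PowerSeries.isUnit_iff_constantCoeff] at h3
    exact h3.ne_zero ((hPmem a).1 ha)
  · show Irreducible (φ₀ _)
    rw [hφ₀, hX]
    exact PowerSeries.X_irreducible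

end Groth.Agent.S15366
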