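import Groth.Statements.S15367
import Mathlib
import Groth.Agent.DvrRank.Basic

set_option autoImplicit false
universe u v
open TensorProduct
open CAlg

namespace Groth.Agent.S15367

/-- Let R be a discrete valuation ring with uniformizer π and residue field k, n ≥ 0, and M₀ a finitely
generated module over R/πⁿR, viewed as an R-module killed by πⁿ; put M₀* = Hom_R(M₀, R/πⁿR). Then
dim_k(M₀*/πM₀*) = dim_k(M₀/πM₀). The published lemma is stated for a finitely presented module over
the quotient of the ring of integers of an algebraic closure of K by the elements of valuation ≥ t,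
with its dual into that quotient ring, and the published proof reduces it by descent to exactly this
statement over the valuation ring of a finite extension of K; the row states that step. -/
theorem result
    (R : Type u) [CommRing R] [IsDomain R] [IsDiscreteValuationRing R] (ϖ : R) (hϖ : Irreducible ϖ) (n : ℕ)
    (M : Type v) [AddCommGroup M] [Module R M] [Module.Finite R M] (hM : ∀ m : M, ϖ ^ n • m = 0) :
    Module.finrank (IsLocalRing.ResidueField R)
        (IsLocalRing.ResidueField R ⊗[R] (M →ₗ[R] (R ⧸ Ideal.span {ϖ ^ n}))) =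
      Module.finrank (IsLocalRing.ResidueField R) (IsLocalRing.ResidueField R ⊗[R] M) := by
  classical
  let Q := R ⧸ Ideal.span {ϖ ^ n}
  have emb : ∀ {d : ℕ} (N : Type v) [AddCommGroup N] [Module R N] (g : (Fin d → R) →ₗ[R] N), Function.Surjective g →
      ∃ (j : (N →ₗ[R] Q) →ₗ[R] (Fin d → Q)) (π : (Fin d → R) →ₗ[R] (Fin d → Q)), Function.Injective j ∧ Function.Surjective π := by
    intro d N _ _ g hg
    refine ⟨LinearMap.pi fun i => LinearMap.applyₗ (g (Pi.single i 1)),
      LinearMap.pi fun i => (Submodule.mkQ (Ideal.span {ϖ ^ n})).comp (LinearMap.proj i), fun a b h => ?_, fun q => ?_⟩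
    · refine LinearMap.cancel_right hg |>.mp (LinearMap.pi_ext' fun i => LinearMap.ext_ring ?_)
      exact congrFun h i
    · choose r hr using fun i => Submodule.Quotient.mk_surjective (Ideal.span {ϖ ^ n}) (q i)
      exact ⟨r, funext hr⟩
  obtain ⟨f, hf⟩ := DvrRank.exists_surjective (R := R) M
  obtain ⟨j, π, hj, hπ⟩ := emb M f hf
  refine le_antisymm (DvrRank.finrank_le_of_injective j hj π hπ) ?_
  have : IsNoetherian R (Fin (Module.finrank (IsLocalRing.ResidueField R) (IsLocalRing.ResidueField R ⊗[R] M)) → Q) := inferInstance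
  have : Module.Finite R (M →ₗ[R] Q) := Module.Finite.of_injective j hj
  obtain ⟨f', hf'⟩ := DvrRank.exists_surjective (R := R) (M →ₗ[R] Q)
  have sep : ∀ m : M, m ≠ 0 → ∃ φ : M →ₗ[R] Q, φ m ≠ 0 := by
    intro m hm
    obtain ⟨d, k, ⟨e⟩⟩ := Module.torsion_by_prime_power_decomposition (p := ϖ) hϖ (M := M) (fun {x} => ⟨⟨ϖ ^ n, n, rfl⟩, hM x⟩)
    obtain ⟨i, hi⟩ : ∃ i, e m i ≠ 0 := by
      by_contra! h
      exact hm (e.map_eq_zero_iff.mp (DFinsupp.ext h))
    have hk : k i ≤ n := by
      have h1 : ϖ ^ n • (DirectSum.lof R _ (fun i : Fin d => R ⧸ R ∙ ϖ ^ k i) i (Submodule.Quotient.mk 1)) = 0 :=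
        e.symm.injective (by rw [map_smul, hM, map_zero])
      have h2 := congrArg (fun z => z i) h1
      simp only [DirectSum.smul_apply, DirectSum.lof_apply, DirectSum.zero_apply, ← Submodule.Quotient.mk_smul, smul_eq_mul, mul_one,
        Submodule.Quotient.mk_eq_zero] at h2
      exact (pow_dvd_pow_iff hϖ.ne_zero hϖ.not_isUnit).mp (Ideal.mem_span_singleton.mp h2)
    let μ : (R ⧸ R ∙ ϖ ^ k i) →ₗ[R] Q := Submodule.mapQ (R ∙ ϖ ^ k i) (Ideal.span {ϖ ^ n}) (LinearMap.mulLeft R (ϖ ^ (n - k i))) (by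
      rw [Submodule.span_singleton_le_iff_mem, Submodule.mem_comap, LinearMap.mulLeft_apply, ← pow_add, Nat.sub_add_cancel hk]
      exact Ideal.mem_span_singleton_self _)
    refine ⟨μ.comp ((DirectSum.component R _ _ i).comp e.toLinearMap), fun h => hi ?_⟩
    obtain ⟨r, hr⟩ := Submodule.Quotient.mk_surjective _ (e m i)
    have h' : μ (e m i) = 0 := h
    rw [← hr] at h' ⊢
    change Submodule.Quotient.mk (ϖ ^ (n - k i) * r) = (0 : R ⧸ Ideal.span {ϖ ^ n}) at h'
    rw [Submodule.Quotient.mk_eq_zero] at h'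
    rw [Submodule.Quotient.mk_eq_zero, Submodule.mem_span_singleton]
    obtain ⟨c, hc⟩ := Ideal.mem_span_singleton'.mp h'
    refine ⟨c, mul_left_cancel₀ (pow_ne_zero (n - k i) hϖ.ne_zero) ?_⟩
    rw [smul_eq_mul, mul_left_comm, ← pow_add, Nat.sub_add_cancel hk, hc]
  let ev : M →ₗ[R] ((M →ₗ[R] Q) →ₗ[R] Q) := (LinearMap.id : (M →ₗ[R] Q) →ₗ[R] (M →ₗ[R] Q)).flip
  have hev : Function.Injective ev := by
    rw [injective_iff_map_eq_zero]
    intro m hm
    by_contra hne
    obtain ⟨φ, hφ⟩ := sep m hne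
    exact hφ (LinearMap.congr_fun hm φ)
  obtain ⟨j', π', hj', hπ'⟩ : ∃ (j' : ((M →ₗ[R] Q) →ₗ[R] Q) →ₗ[R] _) (π' : (Fin _ → R) →ₗ[R] (Fin _ → Q)), Function.Injective j' ∧ Function.Surjective π' :=
    ⟨LinearMap.pi fun i => LinearMap.applyₗ (f' (Pi.single i 1)),
      LinearMap.pi fun i => (Submodule.mkQ (Ideal.span {ϖ ^ n})).comp (LinearMap.proj i), fun a b h => by
        refine LinearMap.cancel_right hf' |>.mp (LinearMap.pi_ext' fun i => LinearMap.ext_ring ?_)
        exact congrFun h i, fun q => by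
        choose r hr using fun i => Submodule.Quotient.mk_surjective (Ideal.span {ϖ ^ n}) (q i)
        exact ⟨r, funext hr⟩⟩
  exact DvrRank.finrank_le_of_injective (j'.comp ev) (hj'.comp hev) π' hπ'

end Groth.Agent.S15367
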