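import Groth.Statements.S15376
import Groth.Agent.TwistShriek.SurfSections
import Groth.Agent.TwistShriek.NumBase
import Groth.Agent.TwistShriek.SurfNC
-- import your own Groth.Agent.* helpers here

set_option autoImplicit false
set_option backward.isDefEq.respectTransparency false
set_option linter.style.haveILetI false
set_option maxHeartbeats 1000000
universe u
open CategoryTheory CategoryTheory.Limits AlgebraicGeometry
open Biell

namespace Groth.Agent.S15376

/-- Let k be an algebraically closed field and X a (quasi-)bielliptic surface over k, meaning here: X is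
an integral k-scheme, proper and smooth of relative dimension 2 over k and carrying an ample
invertible sheaf, whose canonical sheaf ω (a second exterior power of Ω_{X/k}) is numerically
trivial (degree 0 on every integral closed curve in X) and whose second ℓ-adic Betti number (the
rank of lim_ν H²(X_et, Z/ℓ^ν)) equals 2 for every prime ℓ invertible in k. Then the geometric genus
p_g(X) = dim_k H²(X, O_X) equals 1 if and only if ω ≅ O_X, i.e. ω has order 1 in Pic(X). (The
published statement is for bielliptic surfaces and has a third equivalent condition, non-reducedness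
of the identity component of the Picard scheme, which is not stated here; the equivalence of the two
conditions stated rests only on the numerical triviality of ω on an integral smooth projective
surface, so this row states it for quasi-bielliptic surfaces as well.) -/
theorem result (k : Type u) [Field k] [IsAlgClosed k] (X : Scheme.{u}) [X.Over (Spec (CommRingCat.of k))]
    [IsIntegral X] [IsProper (X ↘ Spec (CommRingCat.of k))] [SmoothOfRelativeDimension 2 (X ↘ Spec (CommRingCat.of k))]
    (hproj : ∃ H : X.Modules, CohB1.IsAmple H)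
    (ω : X.Modules) (hω : Canon.IsTopDiff (X ↘ Spec (CommRingCat.of k)) 2 ω) (hnum : Pic13.IsNumEquivZero k X ω)
    (hb2 : ∀ ℓ : ℕ, ℓ.Prime → (ℓ : k) ≠ 0 → EtAdic.betti X ℓ 2 = 2) :
    Module.finrank k (Coh.HH X (Coh.structureModule X) 2) = 1 ↔ Nonempty (ω ≅ Coh.structureModule X) := by
  haveI : Smooth (X ↘ Spec (CommRingCat.of k)) := SmoothOfRelativeDimension.smooth 2 _
  haveI := Groth.Agent.EulerIneqLib.isNoetherian_proper (X := X) k
  have hdim : topologicalKrullDim X = 2 := by
    have h := Groth.Agent.JacLib.topologicalKrullDim_of_smooth (X ↘ Spec (CommRingCat.of k)) 2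
    exact h
  obtain ⟨H, hH⟩ := hproj
  obtain ⟨hωi, -, hdj⟩ := Groth.Agent.TwistShriek.canonical_data_proper k hdim hω
  have hO : PicF.IsInvertible (Coh.structureModule X) := Groth.Agent.ParaFLib.isInvertible_structureModule
  have hh0 : Module.finrank k (Coh.HH X (Coh.structureModule X) 0) = 1 := Groth.Agent.CurveLib.finrank_H0_structure
  have hdual := hdj (Coh.structureModule X) (Coh.structureModule X) hO ⟨Groth.Agent.AmpleLib.unitL _⟩ 0 (by omega)
  rw [Nat.sub_zero, Groth.Agent.CurveLib.hMap_bijective_finrank (k := k)
    (Groth.Agent.AmpleLib.unitR ω) 0] at hdual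
  rw [← hdual]
  refine ⟨fun h => ?_, fun ⟨e⟩ => ?_⟩
  · obtain ⟨x⟩ := (inferInstance : Nonempty X)
    obtain ⟨n, s, hxs, -⟩ := hH.2.2 x
    have hR := (Groth.Agent.AmpleLib.isAmple_pow_iff hH.1 (Nat.succ_pos n)).2 hH
    obtain ⟨D, hD, ⟨θ⟩⟩ := Groth.Agent.TwistShriek.exists_divisor_of_genLocus hR.1 s ⟨x, hxs⟩
    have hDI : PicF.IsInvertible (ClSub.idealMod D) := (Groth.Agent.S8914.result _).2 hD
    have hcur : ∀ C : X.IdealSheafData, IsIntegral C.subscheme → topologicalKrullDim (C.support : Set X) = 1 →
        Groth.Agent.IntLib.pairing k (ClSub.quotMod C) (Groth.Agent.Nakai.cl hωi) = 0 := by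
      intro C hC hCd
      have hd : topologicalKrullDim C.subscheme = 1 := by
        rw [← hCd, ← Scheme.IdealSheafData.range_subschemeι]
        exact (C.subschemeι.isEmbedding.toHomeomorph).isHomeomorph.topologicalKrullDim_eq
      have h0 := hnum C.subscheme C.subschemeι hC hd
      obtain ⟨f⟩ := Groth.Agent.TwistShriek.nonempty_quotMod_ker_iso C.subschemeι
      rw [Groth.Agent.Nakai.curveDeg_eq k hωi C.subschemeι (hd.trans Nat.cast_one.symm),
        ← Groth.Agent.IntLib.pairing_iso k f, Scheme.IdealSheafData.ker_subschemeι] at h0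
      exact h0
    have h1 := Groth.Agent.TwistShriek.pairing_nonneg_of_curves k hdim (Groth.Agent.Nakai.cl_mem hωi) hD hDI
      fun C hC hCd _ => (hcur C hC hCd).ge
    have h2 := Groth.Agent.TwistShriek.pairing_nonneg_of_curves k hdim
      (neg_mem (Groth.Agent.Nakai.cl_mem hωi)) hD hDI fun C hC hCd _ => by
        rw [map_neg, hcur C hC hCd, neg_zero]
    rw [Groth.Agent.Nakai.form_comm, Groth.Agent.TwistShriek.form_neg_left,
      Groth.Agent.Nakai.form_comm] at h2
    have h3 : Groth.Agent.Nakai.form k (Groth.Agent.Nakai.cl hωi) (Groth.Agent.Nakai.cl hR.1) = 0 := by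
      rw [Groth.Agent.Nakai.form_comm,
        Groth.Agent.TwistShriek.form_inverse k hdim hR.1 hDI θ (Groth.Agent.Nakai.cl_mem hωi)]
      omega
    exact Groth.Agent.TwistShriek.nonempty_iso_of_section k hdim hR hωi h3
      (Module.nontrivial_of_finrank_pos (R := k) (by rw [h]; exact Nat.one_pos))
  · rw [Groth.Agent.CurveLib.hMap_bijective_finrank (k := k) e 0, hh0]

end Groth.Agent.S15376
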