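import Groth.Statements.S15383
import Mathlib
import Groth.Agent.NormAmpleLib.Norm
import Groth.Agent.FinLocFreeLib.Basic
import Groth.Prelude.Def_GmPts

set_option autoImplicit false
universe u
open GmDual

namespace Groth.Agent.S15383

open AlgebraicGeometry Opposite CategoryTheory
set_option backward.isDefEq.respectTransparency false
set_option maxHeartbeats 1600000

lemma free_transfer {R A R' A' : Type u} [CommRing R] [CommRing A] [CommRing R'] [CommRing A'] [Algebra R A] [Algebra R' A']
    (e : R ≃+* R') (E : A ≃+* A') (he : ∀ r, E (algebraMap R A r) = algebraMap R' A' (e r)) {n : ℕ}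
    (b : Module.Basis (Fin n) R A) : Nonempty (Module.Basis (Fin n) R' A') := by
  letI : Algebra R A' := ((algebraMap R' A').comp e.toRingHom).toAlgebra
  let E' : A ≃ₐ[R] A' := AlgEquiv.ofRingEquiv (f := E) he
  exact ⟨(b.map E'.toLinearEquiv).mapCoeffs e (fun c x => by
    rw [Algebra.smul_def, Algebra.smul_def]; rfl)⟩

variable {X X' : Scheme.{u}} (f : X' ⟶ X)

lemma normPt_nat (N : CGrpSh3.pushGm Scheme.fppfPrecoverage f ⟶ CGrpSh2.Gm Scheme.fppfPrecoverage X)
    {T T' : Over X} (j : T' ⟶ T) (t' : (Over.pullback f).obj T ⟶ Red.Gm X') :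
    CGrpSh3.normPt Scheme.fppfPrecoverage f N T' ((Over.pullback f).map j ≫ t') =
      j ≫ CGrpSh3.normPt Scheme.fppfPrecoverage f N T t' := by
  have h := ConcreteCategory.congr_hom (N.hom.naturality j.op) (ULift.up (Additive.ofMul t'))
  exact congrArg (fun z : ULift (Additive _) => z.down.toMul) h

open CategoryTheory AlgebraicGeometry in
/-- Let f : X' ⟶ X be a finite flat morphism of Noetherian schemes (so finite locally free). A morphism
of abelian sheaves N : f_* 𝔾_{m,X'} ⟶ 𝔾_{m,X} on the big fppf site of X is called a norm map of f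
when, on every affine test scheme T over X for which the functions of T ×_X X' form a finite free
algebra over those of T, it sends an invertible function on T ×_X X' to the determinant of
multiplication by it. Two norm maps of f are equal: a norm map is determined by its affine-local
description by determinants. -/
theorem result (X X' : Scheme.{u}) (f : X' ⟶ X) [IsFinite f] [Flat f]
    [AlgebraicGeometry.IsNoetherian X]
    (N N' : CGrpSh3.pushGm Scheme.fppfPrecoverage f ⟶ CGrpSh2.Gm Scheme.fppfPrecoverage X)
    (hN : CGrpSh3.IsNormMap Scheme.fppfPrecoverage f N) (hN' : CGrpSh3.IsNormMap Scheme.fppfPrecoverage f N') :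
    N = N' := by
  haveI : LocallyOfFinitePresentation f := inferInstance
  apply ObjectProperty.hom_ext
  ext T s
  obtain ⟨t'⟩ := s
  suffices h : CGrpSh3.normPt Scheme.fppfPrecoverage f N T.unop t'.toMul =
      CGrpSh3.normPt Scheme.fppfPrecoverage f N' T.unop t'.toMul by
    refine ULift.ext _ _ ?_
    exact Additive.toMul.injective h
  obtain ⟨T⟩ := T
  apply Over.OverMorphism.ext
  let g := Limits.pullback.fst T.hom f
  have hg : Mor2.IsFinLocFree g := ⟨inferInstance, inferInstance, inferInstance⟩
  refine Scheme.hom_ext_of_forall _ _ fun x => ?_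
  obtain ⟨D, n, hxD, hD, ⟨b⟩⟩ := Groth.Agent.NormAmpleLib.exists_nice (g := g) (Groth.Agent.FinLocFreeLib.isFinLocFree_push g hg) x
  refine ⟨D, hxD, ?_⟩
  let T' : Over X := Over.mk (D.ι ≫ T.hom)
  let j : T' ⟶ T := Over.homMk D.ι rfl
  haveI : IsAffine T'.left := hD
  let g' := Limits.pullback.fst T'.hom f
  letI : Algebra Γ(T'.left, ⊤) Γ(((Over.pullback f).obj T').left, ⊤) := g'.appTop.hom.toAlgebra
  have sq : IsPullback ((Over.pullback f).map j).left g' g D.ι := by
    refine IsPullback.of_right ?_ ?_ (IsPullback.of_hasPullback T.hom f).flip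
    · convert (IsPullback.of_hasPullback T'.hom f).flip using 1
      all_goals first
        | rfl
        | exact (Limits.pullback.lift_snd _ _ _)
        | (erw [Over.pullback_map_left]; exact Limits.pullback.lift_snd _ _ _)
        | exact Over.w ((Over.pullback f).map j)
    · simp [Over.pullback, g, g', j]
  let E := ((isPullback_morphismRestrict g D).flip.isoIsPullback _ _ sq)
  have hE : E.hom ≫ g' = g ∣_ D := IsPullback.isoIsPullback_hom_snd _ _ _ _
  let eR : Γ(T.left, D) ≅ Γ(T'.left, ⊤) := D.topIso.symm
  let eA : (Limits.pullback T.hom f).presheaf.obj (op (g ⁻¹ᵁ D)) ≅ Γ(((Over.pullback f).obj T').left, ⊤) := (g ⁻¹ᵁ D).topIso.symm ≪≫ asIso E.inv.appTop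
  letI := Groth.Agent.NormAmpleLib.alg g D
  obtain ⟨b'⟩ := free_transfer eR.commRingCatIsoToRingEquiv eA.commRingCatIsoToRingEquiv (fun r => by
    have e1 : g.app D ≫ eA.hom = eR.hom ≫ g'.appTop := by
      have h2 : (g ∣_ D).appTop = g'.appTop ≫ E.hom.appTop := by rw [← hE, Scheme.Hom.comp_appTop]
      have h3 : g.app D ≫ (g ⁻¹ᵁ D).topIso.inv = D.topIso.inv ≫ (g ∣_ D).appTop := by
        rw [Scheme.Hom.appTop, morphismRestrict_app']
        simp [Scheme.Opens.topIso, Scheme.Hom.app_eq_appLE]
      simp only [eA, eR, Iso.trans_hom, Iso.symm_hom, asIso_hom]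
      rw [reassoc_of% h3, h2, Category.assoc, ← Scheme.Hom.comp_appTop, E.inv_hom_id, Scheme.Hom.id_appTop]
      erw [Category.comp_id]
    exact congr($(congrArg CommRingCat.Hom.hom e1) r)) b
  haveI := Module.Finite.of_basis b'
  haveI := Module.Free.of_basis b'
  have h1 := hN T' (fun a => rfl) ((Over.pullback f).map j ≫ t'.toMul)
  have h2 := hN' T' (fun a => rfl) ((Over.pullback f).map j ≫ t'.toMul)
  have h3 := GmPts.gmFn_injective (h1.trans h2.symm)
  rw [normPt_nat, normPt_nat] at h3
  exact congrArg (fun z => CommaMorphism.left z) h3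

end Groth.Agent.S15383
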