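import Groth.Statements.S15384
import Groth.Agent.GmNormLib.GlobalNorm
import Groth.Agent.FinLocFreeLib.Basic
import Groth.Prelude.Def_GmPts

set_option autoImplicit false
universe u
open GmDual

namespace Groth.Agent.S15384

open Opposite CategoryTheory AlgebraicGeometry MonoidalCategory CartesianMonoidalCategory
open MonObj
set_option maxHeartbeats 1600000

variable {X X' : Scheme.{u}} (f : X' ⟶ X) [IsFinite f] [Flat f] [LocallyOfFinitePresentation f]

theorem locFree (T : Over X) : GmNormLib.LocFree (Limits.pullback.fst T.hom f) :=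
  fun x => Groth.Agent.NormAmpleLib.exists_nice
    (Groth.Agent.FinLocFreeLib.isFinLocFree_push (Limits.pullback.fst T.hom f) ⟨inferInstance, inferInstance, inferInstance⟩) x

/-- The norm of a point. -/
noncomputable def npt (T : Over X) (t : (Over.pullback f).obj T ⟶ Red.Gm X') : T ⟶ Red.Gm X :=
  GmPts.ptOfUnit (Units.map (GmNormLib.gnorm (locFree f T)) (GmPts.unitOfPt t))

theorem gmFn_npt (T : Over X) (t : (Over.pullback f).obj T ⟶ Red.Gm X') :
    Red.gmFn (npt f T t) = GmNormLib.gnorm (locFree f T) (Red.gmFn t) := by
  rw [npt, GmPts.gmFn_ptOfUnit]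
  rfl

theorem npt_nat {T T' : Over X} (j : T' ⟶ T) (t : (Over.pullback f).obj T ⟶ Red.Gm X') :
    npt f T' ((Over.pullback f).map j ≫ t) = j ≫ npt f T t := by
  apply GmPts.gmFn_injective
  show Red.gmFn _ = Red.gmFn _
  rw [gmFn_npt, GmPts.gmFn_comp, GmPts.gmFn_comp, gmFn_npt]
  refine GmNormLib.gnorm_baseChange ?_ (locFree f T) (locFree f T') (Red.gmFn t)
  refine IsPullback.of_right ?_ ?_ (IsPullback.of_hasPullback T.hom f).flip
  · convert (IsPullback.of_hasPullback T'.hom f).flip using 1
    all_goals first
      | rfl
      | exact (Limits.pullback.lift_snd _ _ _)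
      | (erw [Over.pullback_map_left]; exact Limits.pullback.lift_snd _ _ _)
      | exact Over.w ((Over.pullback f).map j)
      | exact Over.w j
  · simp [Over.pullback]
    exact Limits.pullback.lift_fst _ _ _

/-- The norm of points, as a homomorphism. -/
noncomputable def nptHom (T : Over X) :=
  ((GmPts.equiv T).symm.toMonoidHom.comp (Units.map (GmNormLib.gnorm (locFree f T)))).comp
    (GmPts.equiv ((Over.pullback f).obj T)).toMonoidHom

/-- The norm map. -/
noncomputable def normMap : CGrpSh3.pushGm Scheme.fppfPrecoverage f ⟶ CGrpSh2.Gm Scheme.fppfPrecoverage X :=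
  ObjectProperty.homMk
    { app := fun T => AddCommGrpCat.ofHom
        ((AddEquiv.ulift.symm.toAddMonoidHom.comp (MonoidHom.toAdditive (nptHom f T.unop))).comp
          AddEquiv.ulift.toAddMonoidHom)
      naturality := fun T T' j => AddCommGrpCat.hom_ext (AddMonoidHom.ext fun x =>
        ULift.ext _ _ (Additive.toMul.injective (npt_nat f j.unop x.down.toMul))) }


open CategoryTheory AlgebraicGeometry in
/-- Let f : X' ⟶ X be a finite flat morphism of Noetherian schemes (so finite locally free). There is a
morphism of abelian sheaves N : f_* 𝔾_{m,X'} ⟶ 𝔾_{m,X} on the big fppf site of X which is a norm map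
of f: on every affine test scheme T over X for which the functions of T ×_X X' form a finite free
algebra over those of T (structure map the pullback of functions along the projection), N sends an
invertible function on T ×_X X' to the determinant of multiplication by it. -/
theorem result (X X' : Scheme.{u}) (f : X' ⟶ X) [IsFinite f] [Flat f]
    [AlgebraicGeometry.IsNoetherian X] :
    ∃ N : CGrpSh3.pushGm Scheme.fppfPrecoverage f ⟶ CGrpSh2.Gm Scheme.fppfPrecoverage X,
      CGrpSh3.IsNormMap Scheme.fppfPrecoverage f N := by
  haveI : LocallyOfFinitePresentation f := inferInstance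
  refine ⟨normMap f, fun T _ al mf mfr h t' => ?_⟩
  rw [CGrpSh3.normPt_def]
  show Red.gmFn (npt f T t') = _
  rw [gmFn_npt]
  letI : Algebra Γ(T.left, ⊤) Γ(Limits.pullback T.hom f, ⊤) := al
  haveI : Module.Finite Γ(T.left, ⊤) Γ(Limits.pullback T.hom f, ⊤) := mf
  haveI : Module.Free Γ(T.left, ⊤) Γ(Limits.pullback T.hom f, ⊤) := mfr
  exact GmNormLib.gnorm_eq_norm (locFree f T) h (Red.gmFn t')

end Groth.Agent.S15384
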