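import Groth.Statements.S15385
import Groth.Agent.FinTorsLib.Main
import Groth.Agent.FinTorsLib.BGPts
-- import your own Groth.Agent.* helpers here

set_option autoImplicit false
set_option backward.isDefEq.respectTransparency false
set_option backward.isDefEq.respectTransparency.types false
universe u
open StackCount

namespace Groth.Agent.S15385

open CategoryTheory AlgebraicGeometry in
/-- Let k be a finite field and G a finite etale group scheme over k (in particular affine over k, so
that every G-torsor is a scheme). For every finite field extension k' of k, the point count of the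
classifying stack B(G) over k' — the sum, over the isomorphism classes of the groupoid of
etale-locally trivial G-torsors over Spec k', of the inverse orders of their automorphism groups —
equals 1. The finiteness of that groupoid (finitely many classes, finite automorphism groups) is
carried as a hypothesis. -/
theorem result (k : Type u) [Field k] [Finite k]
    (G : Over (Spec (CommRingCat.of k))) [GrpObj G] [IsFinite G.hom] [Etale G.hom]
    (k' : Type u) [Field k'] [Algebra k k'] [Module.Finite k k']
    (h : StkCnt.IsEssFinite (StkCnt.pts (AlgSt.BG Scheme.etalePrecoverage G) k')) :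
    StkCnt.ptCount (AlgSt.BG Scheme.etalePrecoverage G) k' h = 1 := by
  haveI : Finite k' := Module.finite_of_finite k
  let f : Spec (CommRingCat.of k') ⟶ Spec (CommRingCat.of k) := (SGA7.pt (K := k) k').hom
  have hG : FEt.prop G.hom := ⟨inferInstance, inferInstance⟩
  have hG' : FEt.prop (Red.bc f G).hom := FEt.prop.pullback_snd _ _ hG
  have hle : Scheme.etalePrecoverage.{u} ≤ Scheme.fpqcPrecoverage :=
    (Scheme.precoverage_mono (Q := @Flat ⊓ @LocallyOfFinitePresentation) fun X Y g hg => by
      haveI : Etale g := hg
      exact ⟨inferInstance, inferInstance⟩).trans Scheme.fppfPrecoverage_le_fpqcPrecoverage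
  obtain ⟨_, hmass⟩ := Groth.Agent.FinTorsLib.finite_and_mass hG'
    (Groth.Agent.FinTorsLib.good_of_le hG' hle le_rfl)
  obtain ⟨E, hE⟩ := Groth.Agent.FinTorsLib.exists_classEquiv (K := Scheme.etalePrecoverage) (f := f) (G := G)
  haveI := h.finite_isoCl
  letI := Fintype.ofFinite (StkCnt.IsoCl (StkCnt.pts (AlgSt.BG Scheme.etalePrecoverage G) k'))
  rw [show StkCnt.ptCount (AlgSt.BG Scheme.etalePrecoverage G) k' h = _ from StkCnt.count_eq_sum h,
    ← finsum_eq_sum_of_fintype, ← hmass]
  refine (finsum_eq_of_bijective E E.bijective fun c => ?_)
  induction c using Quotient.ind with | _ ξ => ?_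
  rw [StkCnt.autCard_mk]
  exact congrArg (fun n : ℕ => ((n : ℚ))⁻¹) (hE ξ)

end Groth.Agent.S15385
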