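import Groth.Statements.S15391
import Mathlib


set_option autoImplicit false
universe u
open TensorProduct
open TorFree

namespace Groth.Agent.S15391

/-- Let R be a reduced Noetherian commutative ring, M a finitely generated torsion-free R-module (no
non-zero element of M is annihilated by a non-zero-divisor of R), and t an element of M whose image
1 ⊗ t in the fibre κ(p) ⊗_R M vanishes for every prime ideal p of R, κ(p) being the residue field at
p. Then t = 0. This is the affine form of the claim that a global section of a coherent torsion-free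
module on a reduced Noetherian scheme which vanishes in every fibre is zero. -/
theorem result (R : Type u) [CommRing R] [IsReduced R] [IsNoetherianRing R]
    (M : Type u) [AddCommGroup M] [Module R M] [Module.Finite R M] [Module.IsTorsionFree R M]
    (t : M) (ht : ∀ p : PrimeSpectrum R, (1 : p.asIdeal.ResidueField) ⊗ₜ[R] t = (0 : p.asIdeal.ResidueField ⊗[R] M)) :
    t = 0 := by
  have h1 : ∀ p ∈ minimalPrimes R, ¬ LinearMap.ker (LinearMap.toSpanSingleton R M t) ≤ p := by
    intro p hp hle
    have hpp : p.IsPrime := Ideal.IsMinimalPrime.isPrime hp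
    have : IsReduced (Localization.AtPrime p) :=
      isReduced_localizationPreserves p.primeCompl (Localization.AtPrime p) inferInstance
    have hmax : IsLocalRing.maximalIdeal (Localization.AtPrime p) = ⊥ :=
      haveI : Ring.KrullDimLE 0 (Localization.AtPrime p) :=
        .of_isLocalization _ hp _
      IsLocalRing.isField_iff_maximalIdeal_eq.1 (Ring.KrullDimLE.isField_of_isReduced)
    let e := TensorProduct.AlgebraTensorModule.cancelBaseChange R (Localization.AtPrime p)
      p.ResidueField p.ResidueField M
    have h0 : (1 : p.ResidueField) ⊗ₜ[Localization.AtPrime p]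
        ((1 : Localization.AtPrime p) ⊗ₜ[R] t) = 0 := by
      apply e.injective
      simpa [e] using ht ⟨p, hpp⟩
    have h2 : ((1 : Localization.AtPrime p) ⊗ₜ[R] t) ∈
        (IsLocalRing.maximalIdeal (Localization.AtPrime p)) •
          (⊤ : Submodule (Localization.AtPrime p) (Localization.AtPrime p ⊗[R] M)) := by
      rw [← LinearMap.ker_tensorProductMk, LinearMap.mem_ker]
      exact h0
    rw [hmax, Submodule.bot_smul, Submodule.mem_bot] at h2
    obtain ⟨u, hu⟩ := (IsLocalizedModule.eq_zero_iff p.primeCompl
      (TensorProduct.mk R (Localization.AtPrime p) M 1)).1 h2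
    exact u.2 (hle (show (u : R) • t = 0 from hu))
  obtain ⟨a, ha, hap⟩ : ∃ a, a • t = 0 ∧ ∀ p ∈ minimalPrimes R, a ∉ p := by
    have hfin : (minimalPrimes R).Finite := minimalPrimes.finite_of_isNoetherianRing R
    have := fun h ↦ (Ideal.subset_union_prime (s := hfin.toFinset) (f := id) ⊥ ⊥
      (fun p hp _ _ ↦ Ideal.IsMinimalPrime.isPrime (hfin.mem_toFinset.1 hp))
      (I := LinearMap.ker (LinearMap.toSpanSingleton R M t))).1 h
    by_contra hno
    push Not at hno
    obtain ⟨p, hp, hle⟩ := this fun a ha ↦ by
      obtain ⟨p, hp, hap⟩ := hno a ha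
      simp only [Set.mem_iUnion, Finset.mem_coe, Set.Finite.mem_toFinset, id, exists_prop]
      exact ⟨p, hp, hap⟩
    exact h1 p (hfin.mem_toFinset.1 hp) hle
  have hreg : IsRegular a := by
    rw [isRegular_iff_mem_nonZeroDivisors, mem_nonZeroDivisors_iff_right]
    intro x hx
    refine IsReduced.eq_zero x ?_
    rw [← mem_nilradical, nilradical, Ideal.radical_eq_sInf, Submodule.mem_sInf]
    rintro (q : Ideal R) ⟨-, hq⟩
    obtain ⟨p, hp, hpq⟩ := Ideal.exists_minimalPrimes_le (I := (⊥ : Ideal R)) (J := q) bot_le
    exact hpq ((Ideal.IsMinimalPrime.isPrime hp).mem_or_mem (hx ▸ p.zero_mem) |>.resolve_right (hap p hp))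
  exact hreg.smul_eq_zero_iff_right.1 ha

end Groth.Agent.S15391
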