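import Groth.Statements.S15392
import Groth.Agent.S0353
import Groth.Agent.AVLib.Isog
import Groth.Agent.AVLib.GeomInt
import Groth.Agent.GrpQuotLib.KerGrp
import Groth.Agent.MonoFibre.KernelFibre
import Groth.Agent.UnramSecLib.Basic
import Groth.Agent.SmoothQFLib.Basic
import Groth.Agent.PullbackMod.LocFree
import Groth.Agent.FlatStratLib.BC
import Groth.Agent.TransSplitLib.Basic
-- import your own Groth.Agent.* helpers here

set_option autoImplicit false
set_option backward.isDefEq.respectTransparency false
set_option backward.isDefEq.respectTransparency.types false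
set_option linter.style.haveILetI false
set_option maxHeartbeats 1000000
universe u
open CategoryTheory CategoryTheory.Limits MonoidalCategory CartesianMonoidalCategory MonObj GrpObj AlgebraicGeometry
open AbVar

namespace Groth.Agent.S15392

/-- Let k be an algebraically closed field of characteristic zero, A and B abelian varieties over k
(proper smooth k-group schemes with geometrically connected fibres), π : A → B a homomorphism which
is an isogeny (finite and surjective), and E a finite locally free O_A-module. For a k-rational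
point a of A write t_a : A → A for the translation by a (the product of the identity and the
constant map a in the group Hom(A, A)). Then π^*π_*E is isomorphic to the direct sum of the
translates t_a^*E over the k-rational points a of A with π(a) equal to the unit of B, that is over
the k-points of the kernel of π (existence of an isomorphism). -/
theorem result (k : Type u) [Field k] [IsAlgClosed k] [CharZero k]
    (A B : Over (Spec (CommRingCat.of k))) [GrpObj A] [IsProper A.hom] [Smooth A.hom] [GeometricallyConnected A.hom]
    [GrpObj B] [IsProper B.hom] [Smooth B.hom] [GeometricallyConnected B.hom]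
    (π : A ⟶ B) [IsMonHom π] [IsFinite π.left] [Surjective π.left]
    (E : A.left.Modules) (hE : FlatMod.IsFinLocFree E) :
    Nonempty ((Scheme.Modules.pullback π.left).obj ((Scheme.Modules.pushforward π.left).obj E) ≅
      ∐ fun a : {a : 𝟙_ (Over (Spec (CommRingCat.of k))) ⟶ A // a ≫ π = 1} =>
        (Scheme.Modules.pullback (𝟙 A * (toUnit A ≫ a.1)).left).obj E) := by
  classical
  haveI : IsReduced B.left := ASp.isReduced_of_smooth B.hom
  haveI : Flat π.left := AVLib.flat_of_surjective π
  obtain ⟨hN, hamon⟩ := GrpQuotLib.exists_grpObj_kernel π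
  letI := hN
  let N := pullback π η[B]
  let i : N ⟶ A := pullback.fst π η[B]
  have hker : AlgGrp.IsKernel i π := by
    show IsPullback i (toUnit _) π η[B]
    rw [toUnit_unique (toUnit _) (pullback.snd π η[B])]
    exact IsPullback.of_hasPullback π η[B]
  have hiπ : i ≫ π = 1 := by rw [hker.w, Hom.one_def]
  have hN1 : IsPullback i.left N.hom π.left η[B].left := by
    have h := GrpQuotLib.isPullback_left hker
    rwa [show (toUnit N).left = N.hom by simpa using Over.w (toUnit N)] at h
  haveI hNf : IsFinite N.hom := MorphismProperty.of_isPullback (P := @IsFinite) hN1 ‹_›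
  haveI : Smooth N.hom := S0353.result k N
  haveI hNe : Etale N.hom := by
    haveI : IsAffine N.left := isAffine_of_isAffineHom N.hom
    have hs : RingHom.Smooth N.hom.appTop.hom :=
      (HasRingHomProperty.iff_of_isAffine (P := @Smooth)).1 inferInstance
    have hf : RingHom.Finite N.hom.appTop.hom := N.hom.finite_app ⊤ (isAffineOpen_top _)
    rw [HasRingHomProperty.iff_of_isAffine (P := @Etale)]
    algebraize [N.hom.appTop.hom]
    exact SmoothQFLib.etale_of_smooth_quasiFinite _ _
  haveI : Finite ↥N.left := by
    haveI : Subsingleton ↥(Spec (CommRingCat.of k)) := inferInstanceAs (Subsingleton (PrimeSpectrum k))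
    have h := N.hom.finite_preimage_singleton (IsLocalRing.closedPoint k)
    rw [show N.hom ⁻¹' {IsLocalRing.closedPoint k} = Set.univ from
      Set.eq_univ_of_forall fun z => Subsingleton.elim _ _] at h
    exact Set.finite_univ_iff.1 h
  haveI : JacobsonSpace ↥N.left := LocallyOfFiniteType.jacobsonSpace N.hom
  haveI : DiscreteTopology ↥N.left := inferInstance
  let ι₀ := {a : 𝟙_ (Over (Spec (CommRingCat.of k))) ⟶ A // a ≫ π = 1}
  let n : ι₀ → (𝟙_ (Over (Spec (CommRingCat.of k))) ⟶ N) := fun a =>
    hker.lift a.1 (toUnit _) (by rw [a.2, Hom.one_def])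
  have hn : ∀ a, n a ≫ i = a.1 := fun a => hker.lift_fst _ _ _
  have hnhom : ∀ a, (n a).left ≫ N.hom = 𝟙 (Spec (CommRingCat.of k)) := fun a => Over.w (n a)
  have hninj : ∀ a b, (n a).left (IsLocalRing.closedPoint k) = (n b).left (IsLocalRing.closedPoint k) → a = b := by
    intro a b h
    have h1 : (n a).left = (n b).left := ext_of_apply_closedPoint_eq N.hom (hnhom a) (hnhom b) h
    refine Subtype.ext ?_
    rw [← hn a, ← hn b, Over.OverMorphism.ext h1]
  have hnsurj : ∀ z : N.left, ∃ a, (n a).left (IsLocalRing.closedPoint k) = z := by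
    intro z
    obtain ⟨⟨m, hm⟩, hmz⟩ := (pointEquivClosedPoint N.hom).surjective ⟨z, isClosed_discrete _⟩
    let m' : 𝟙_ (Over (Spec (CommRingCat.of k))) ⟶ N := Over.homMk m hm
    refine ⟨⟨m' ≫ i, by rw [Category.assoc, hiπ, MonObj.comp_one]⟩, ?_⟩
    have : n ⟨m' ≫ i, by rw [Category.assoc, hiπ, MonObj.comp_one]⟩ = m' :=
      hker.hom_ext (hn _) (toUnit_unique _ _)
    rw [this]
    exact congrArg Subtype.val hmz
  haveI : Finite ι₀ := Finite.of_injective _ hninj
  haveI hno : ∀ a, IsOpenImmersion (n a).left := fun a => by
    haveI : Etale ((n a).left ≫ N.hom) := by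
      rw [hnhom a]; exact MorphismProperty.id_mem @Etale (Spec (CommRingCat.of k))
    haveI : Etale (n a).left := Etale.of_comp _ N.hom
    haveI : Mono ((n a).left ≫ N.hom) := by
      rw [hnhom a]; exact (inferInstance : Mono (𝟙 (Spec (CommRingCat.of k))))
    haveI : Mono (n a).left := mono_of_mono _ N.hom
    exact IsOpenImmersion.of_flat_of_mono _
  let s : ι₀ → (A ⟶ A ⊗ N) := fun a => lift (𝟙 A) (toUnit A ≫ n a)
  let τ : A ⊗ N ⟶ A := fst A N * (snd A N ≫ i)
  have hsq : ∀ a, IsPullback (s a).left A.hom (snd A N).left (n a).left := fun a => by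
    have hA : (toUnit A).left = A.hom := by simpa using Over.w (toUnit A)
    refine IsPullback.of_right ?_ ?_ (IsPullback.of_hasPullback A.hom N.hom)
    · have e1 : (s a).left ≫ pullback.fst A.hom N.hom = 𝟙 A.left := by
        show (s a).left ≫ (fst A N).left = _
        rw [← Over.comp_left, lift_fst, Over.id_left]
      rw [e1, hnhom a]
      exact IsPullback.of_horiz_isIso ⟨by simp⟩
    · show (s a).left ≫ (snd A N).left = _
      rw [← Over.comp_left, lift_snd, Over.comp_left, hA]
  haveI : ∀ a, IsOpenImmersion (s a).left := fun a =>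
    MorphismProperty.of_isPullback (P := @IsOpenImmersion) (hsq a).flip (hno a)
  have hrange : ∀ a p, p ∈ Set.range (s a).left ↔ (snd A N).left p = (n a).left (IsLocalRing.closedPoint k) := by
    intro a p
    haveI : Subsingleton ↥(𝟙_ (Over (Spec (CommRingCat.of k)))).left :=
      inferInstanceAs (Subsingleton (PrimeSpectrum k))
    have hr : Set.range (s a).left = (snd A N).left ⁻¹' Set.range (n a).left := by
      rw [← (hsq a).isoPullback_hom_fst, Scheme.Hom.comp_base, TopCat.coe_comp, Set.range_comp,
        Set.range_eq_univ.2 (hsq a).isoPullback.hom.surjective, Set.image_univ]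
      exact Scheme.Pullback.range_fst _ _
    rw [hr]
    constructor
    · rintro ⟨y, hy⟩
      rw [← hy, Subsingleton.elim y (IsLocalRing.closedPoint k)]
    · exact fun h => ⟨_, h.symm⟩
  haveI : Coh.IsQCoh E := (PullbackMod.isQCoh_and_isFP_of_isFinLocFree E hE).1
  have hP : IsPullback τ.left (fst A N).left π.left π.left := MonoFibre.KernelFibre.isPullback_torsor π i hker
  haveI := FlatStrat.isIso_bc0_flat hP E
  obtain ⟨m, ⟨e⟩⟩ := Finite.exists_equiv_fin ι₀
  obtain ⟨ψ⟩ := TransSplitLib.nonempty_iso_sigma (fst A N).left (fun j => (s (e.symm j)).left)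
    (fun j => by rw [← Over.comp_left, lift_fst, Over.id_left])
    (fun a b hab => Set.disjoint_left.2 fun p ha hb => hab (e.symm.injective (hninj _ _
      (((hrange _ p).1 ha).symm.trans ((hrange _ p).1 hb)))))
    (fun p => by
      obtain ⟨a, ha⟩ := hnsurj ((snd A N).left p)
      exact ⟨e a, (hrange _ p).2 (by rw [Equiv.symm_apply_apply, ha])⟩)
    ((Scheme.Modules.pullback τ.left).obj E)
  have hτ : ∀ a : ι₀, (s a).left ≫ τ.left = (𝟙 A * (toUnit A ≫ a.1)).left := fun a => by
    rw [← Over.comp_left]
    congr 1
    rw [MonObj.comp_mul, lift_fst, lift_snd_assoc, Category.assoc, hn]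
  exact ⟨asIso (CohBC.bc0 π.left π.left (fst A N).left τ.left hP.w E) ≪≫ ψ ≪≫
    Sigma.whiskerEquiv e.symm (fun j => ((Scheme.Modules.pullbackComp (s (e.symm j)).left τ.left ≪≫
      Scheme.Modules.pullbackCongr (hτ _)).app E).symm)⟩

end Groth.Agent.S15392
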