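import Groth.Statements.S15396
import Groth.Agent.AVExtLib.PointShriek
import Groth.Agent.AVExtLib.Trivial
import Groth.Agent.AVExtLib.DualTri
import Groth.Agent.DivExtLib.Seq
-- import your own Groth.Agent.* helpers here

set_option autoImplicit false
set_option backward.isDefEq.respectTransparency false
set_option linter.style.haveILetI false
set_option maxHeartbeats 2000000
universe u
open CategoryTheory CategoryTheory.Limits MonoidalCategory CartesianMonoidalCategory MonObj GrpObj AlgebraicGeometry
attribute [local instance] HasDerivedCategory.standard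
open AbVar

namespace Groth.Agent.S15396

/-- Let k be an algebraically closed field of characteristic zero and A an abelian variety over k (a
proper smooth k-group scheme with geometrically connected fibres) of dimension g ≥ 2, with unit
section e : Spec k → A. Let I_0 ⊆ O_A be the ideal sheaf of the unit point (the kernel of O_A →
e_*O_{Spec k}) and I_0^∨ = RHom(I_0, O_A) its derived dual in D(O_A), whose cohomology sheaves are
the sheaves Ext^p(I_0, O_A); the derived functors involved are assumed to exist. Then Ext^0(I_0,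
O_A) is isomorphic to O_A, Ext^{g−1}(I_0, O_A) is isomorphic to the skyscraper e_*O_{Spec k}, and
Ext^p(I_0, O_A) = 0 for every integer p different from 0 and g − 1 (existence of isomorphisms). (The
published table is printed without restriction on g and twisted by a principal polarization, which
does not change the computation; for g = 1 the degrees 0 and g − 1 coincide and Hom(I_0, O_A) is the
invertible module O_A(0), so the table is stated here for g ≥ 2, the case in which it is used.) -/
theorem result (k : Type u) [Field k] [IsAlgClosed k] [CharZero k]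
    (A : Over (Spec (CommRingCat.of k))) [GrpObj A] [IsProper A.hom] [Smooth A.hom] [GeometricallyConnected A.hom]
    (g : ℕ) (hg : topologicalKrullDim ↥A.left = g) (hg2 : 2 ≤ g)
    [DCoh.HasLTensorCx ((HomologicalComplex.single A.left.Modules (ComplexShape.up ℤ) 0).obj (kernel (ClSub.unitToPush η[A].left)))] [DCoh.HasRSheafHom ((HomologicalComplex.single A.left.Modules (ComplexShape.up ℤ) 0).obj (kernel (ClSub.unitToPush η[A].left)))] :
    Nonempty (DCoh.HD ((DCoh.RSheafHom ((HomologicalComplex.single A.left.Modules (ComplexShape.up ℤ) 0).obj (kernel (ClSub.unitToPush η[A].left)))).obj (DCoh.inD A.left (Coh.structureModule A.left))) 0 ≅ Coh.structureModule A.left) ∧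
    Nonempty (DCoh.HD ((DCoh.RSheafHom ((HomologicalComplex.single A.left.Modules (ComplexShape.up ℤ) 0).obj (kernel (ClSub.unitToPush η[A].left)))).obj (DCoh.inD A.left (Coh.structureModule A.left))) ((g : ℤ) - 1) ≅
      (Scheme.Modules.pushforward η[A].left).obj (Coh.structureModule (Spec (CommRingCat.of k)))) ∧
    (∀ p : ℤ, p ≠ 0 → p ≠ (g : ℤ) - 1 → IsZero (DCoh.HD ((DCoh.RSheafHom ((HomologicalComplex.single A.left.Modules (ComplexShape.up ℤ) 0).obj (kernel (ClSub.unitToPush η[A].left)))).obj (DCoh.inD A.left (Coh.structureModule A.left))) p)) := by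
  haveI : GeometricallyIntegral A.hom := AbDualLib.geometricallyIntegral_of_smooth A
  haveI : IsIntegral A.left := GeometricallyIntegral.isIntegral_of_subsingleton A.hom
  haveI : SmoothOfRelativeDimension g A.hom := TwistShriek.smoothOfRelativeDimension_of_smooth A.hom hg
  obtain ⟨L, hL, ⟨eL⟩⟩ := AVExtLib.exists_topForms_trivial A g hg
  haveI : IsNoetherianRing (CommRingCat.of k) := inferInstanceAs (IsNoetherianRing k)
  haveI : IsLocallyNoetherian A.left := LocallyOfFiniteType.isLocallyNoetherian A.hom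
  have w : η[A].left ≫ A.hom = 𝟙 (Spec (CommRingCat.of k)) := Over.w η[A]
  let e0 : Spec (CommRingCat.of k) ⟶ A.left := η[A].left
  have w0 : e0 ≫ A.hom = 𝟙 (Spec (CommRingCat.of k)) := w
  haveI : IsClosedImmersion η[A].left := by
    haveI : IsClosedImmersion (e0 ≫ A.hom) := by rw [w0]; infer_instance
    exact IsClosedImmersion.of_comp e0 A.hom
  haveI : Epi (ClSub.unitToPush η[A].left) := DivExtLib.epi_unitToPush η[A].left
  let S : ShortComplex A.left.Modules := ShortComplex.mk (kernel.ι (ClSub.unitToPush η[A].left))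
    (ClSub.unitToPush η[A].left) (kernel.condition _)
  have hS : S.ShortExact :=
    { exact := ShortComplex.exact_of_f_is_kernel _ (kernelIsKernel _)
      mono_f := inferInstanceAs (Mono (kernel.ι _))
      epi_g := inferInstanceAs (Epi (ClSub.unitToPush η[A].left)) }
  haveI : DCoh.HasLTensorCx (CochainComplex.mappingCone (AVExtLib.resF S)) := DCohLib.hasLTensorCx _
  haveI : DCoh.HasRSheafHom (CochainComplex.mappingCone (AVExtLib.resF S)) :=
    DCohLib.hasRSheafHom_of_isKFlat _
      (DCohLib.isKFlat_cone _ (DCohLib.isKFlat_resX _) (DCohLib.isKFlat_resX _))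
  haveI : DCoh.HasLTensorCx (DCohLib.unitCx A.left) := DCohLib.hasLTensorCx _
  haveI : DCoh.HasRSheafHom (DCohLib.unitCx A.left) :=
    DCohLib.hasRSheafHom_of_isKFlat _ DCohLib.isKFlat_unitCx
  obtain ⟨J, ι', hJ, hι⟩ := DCohLib.hres_modules A.left (DCohLib.unitCx A.left)
  haveI := hJ
  haveI : IsIso (DerivedCategory.Q.map ι') :=
    (DerivedCategory.isIso_Q_map_iff_quasiIso (C := A.left.Modules) _).2 hι
  let eJ : DerivedCategory.Q.obj J ≅ DCoh.inD A.left (Coh.structureModule A.left) :=
    (asIso (DerivedCategory.Q.map ι')).symm ≪≫ DCohLib.unitDIso.symm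
  have hT := AVExtLib.shortExact_dualSeq S J
  let P := Scheme.Modules.pushforward η[A].left
  let Ok := DCoh.inD (Spec (CommRingCat.of k)) (Coh.structureModule (Spec (CommRingCat.of k)))
  have hB : ∀ j : ℤ, Nonempty ((AVExtLib.dualSeq S J).X₂.homology j ≅ P.obj (DCoh.HD Ok (j - g))) := fun j => by
    obtain ⟨a⟩ := AVExtLib.nonempty_dualSeq_X₂ S J eJ j
    obtain ⟨b⟩ := AVExtLib.exists_iso_HD_rSheafHom_point k g A.hom η[A].left w L hL eL
      (CochainComplex.mappingCone (AVExtLib.resF S)) (AVExtLib.nonempty_toD_cone S hS) j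
    exact ⟨a ≪≫ b⟩
  have hB0 : ∀ j : ℤ, j ≠ g → IsZero ((AVExtLib.dualSeq S J).X₂.homology j) := fun j hj => by
    obtain ⟨b⟩ := hB j
    refine (P.map_isZero ?_).of_iso b
    rcases lt_or_gt_of_ne hj with h | h
    · exact DerivedCategory.isZero_of_isGE
        ((DerivedCategory.singleFunctor (Spec (CommRingCat.of k)).Modules 0).obj _) 0 _ (by omega)
    · exact DerivedCategory.isZero_of_isLE
        ((DerivedCategory.singleFunctor (Spec (CommRingCat.of k)).Modules 0).obj _) 0 _ (by omega)
  have hC : ∀ j : ℤ, Nonempty ((AVExtLib.dualSeq S J).X₃.homology j ≅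
      DCoh.HD (DCoh.inD A.left (Coh.structureModule A.left)) j) := fun j => by
    haveI : DCoh.HasLTensorCx ((HomologicalComplex.single A.left.Modules (ComplexShape.up ℤ) 0).obj S.X₂) :=
      ‹DCoh.HasLTensorCx (DCohLib.unitCx A.left)›
    haveI : DCoh.HasRSheafHom ((HomologicalComplex.single A.left.Modules (ComplexShape.up ℤ) 0).obj S.X₂) :=
      ‹DCoh.HasRSheafHom (DCohLib.unitCx A.left)›
    obtain ⟨a⟩ := AVExtLib.nonempty_dualSeq_X₃ S J eJ j
    obtain ⟨b⟩ := AVExtLib.nonempty_rSheafHom_unit (X := A.left)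
    exact ⟨a ≪≫ (DerivedCategory.homologyFunctor A.left.Modules j).mapIso (b.app _)⟩
  have hC0 : ∀ j : ℤ, j ≠ 0 → IsZero ((AVExtLib.dualSeq S J).X₃.homology j) := fun j hj => by
    obtain ⟨c⟩ := hC j
    refine IsZero.of_iso ?_ c
    rcases lt_or_gt_of_ne hj with h | h
    · exact DerivedCategory.isZero_of_isGE
        ((DerivedCategory.singleFunctor A.left.Modules 0).obj _) 0 _ h
    · exact DerivedCategory.isZero_of_isLE
        ((DerivedCategory.singleFunctor A.left.Modules 0).obj _) 0 _ h
  have hA : ∀ j : ℤ, Nonempty ((AVExtLib.dualSeq S J).X₁.homology (j + 1) ≅ _) := fun j =>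
    AVExtLib.nonempty_dualSeq_X₁ S J eJ j
  refine ⟨?_, ?_, fun p hp0 hpg => ?_⟩
  · obtain ⟨a⟩ := hA 0
    obtain ⟨c⟩ := hC 0
    haveI := hT.isIso_δ 0 (0 + 1) rfl (hB0 0 (by omega)) (hB0 (0 + 1) (by omega))
    exact ⟨a.symm ≪≫ (asIso (hT.δ 0 (0 + 1) rfl)).symm ≪≫ c ≪≫
      (DerivedCategory.singleFunctorCompHomologyFunctorIso A.left.Modules 0).app _⟩
  · obtain ⟨a⟩ := hA ((g : ℤ) - 1)
    obtain ⟨b⟩ := hB ((g : ℤ) - 1 + 1)
    haveI : Mono (HomologicalComplex.homologyMap (AVExtLib.dualSeq S J).f ((g : ℤ) - 1 + 1)) :=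
      (hT.homology_exact₁ ((g : ℤ) - 1) ((g : ℤ) - 1 + 1) rfl).mono_g ((hC0 _ (by omega)).eq_of_src _ _)
    haveI : Epi (HomologicalComplex.homologyMap (AVExtLib.dualSeq S J).f ((g : ℤ) - 1 + 1)) :=
      (hT.homology_exact₂ ((g : ℤ) - 1 + 1)).epi_f ((hC0 _ (by omega)).eq_of_tgt _ _)
    haveI := isIso_of_mono_of_epi
      (HomologicalComplex.homologyMap (AVExtLib.dualSeq S J).f ((g : ℤ) - 1 + 1))
    exact ⟨a.symm ≪≫ asIso (HomologicalComplex.homologyMap (AVExtLib.dualSeq S J).f ((g : ℤ) - 1 + 1)) ≪≫ b ≪≫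
      P.mapIso (eqToIso (congrArg (DCoh.HD Ok) (by omega : (g : ℤ) - 1 + 1 - g = 0)) ≪≫
        (DerivedCategory.singleFunctorCompHomologyFunctorIso (Spec (CommRingCat.of k)).Modules 0).app _)⟩
  · obtain ⟨a⟩ := hA p
    refine IsZero.of_iso ?_ a.symm
    exact (hT.homology_exact₁ p (p + 1) rfl).isZero_of_both_zeros ((hC0 p hp0).eq_of_src _ _)
      ((hB0 (p + 1) (by omega)).eq_of_tgt _ _)

end Groth.Agent.S15396
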