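import Groth.Statements.S15397
import Groth.Agent.DegDevLib.Wedge
import Groth.Agent.DCohLib.StalkTensor
import Groth.Agent.ProjBundleLib.FTQuot
import Groth.Agent.CurveP1Lib.H0One
import Groth.Agent.CurveLib.SmulPow
import Groth.Agent.AVLib.GeomInt
import Mathlib.LinearAlgebra.Alternating.Uncurry.Fin

set_option backward.isDefEq.respectTransparency false
set_option backward.isDefEq.respectTransparency.types false

-- import your own Groth.Agent.* helpers here

set_option autoImplicit false
universe u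
open CategoryTheory CategoryTheory.Limits MonoidalCategory CartesianMonoidalCategory MonObj GrpObj AlgebraicGeometry
open AbVar

namespace Groth.Agent.S15397

open TopologicalSpace Opposite Groth.Agent.PullbackMod Groth.Agent.DCohLib Groth.Agent.DegDevLib
open scoped TensorProduct

variable {X : Scheme.{u}} {E D : X.Modules} {r : ℕ}

theorem koszul_local (φ : ExtIso r E D) {V : X.affineOpens} {f : Fin r → Γ(E, V.1)} (hf : IsFrame V.1 f)
    (e : Fin (r + 1) → Γ(E, V.1)) :
    ∑ j : Fin (r + 1), (-1 : ℤ) ^ (j : ℕ) • pairS E D (e j) (wsec φ V (j.removeNth e)) = 0 := by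
  classical
  letI : Module Γ(X, V.1) Γ(CohB1.tensorMod E D, V.1) := inferInstance
  let g : Γ(E, V.1) →ₗ[Γ(X, V.1)] Γ(E, V.1) [⋀^Fin r]→ₗ[Γ(X, V.1)] Γ(CohB1.tensorMod E D, V.1) :=
    { toFun := fun m =>
        ({ toFun := fun n => pairS E D m n
           map_add' := fun a b => pairS_add_right m a b
           map_smul' := fun c a => pairS_smul_right c m a } :
          Γ(D, V.1) →ₗ[Γ(X, V.1)] Γ(CohB1.tensorMod E D, V.1)).compAlternatingMap
          ((φ V).symm.toLinearMap.compAlternatingMap (exteriorPower.ιMulti Γ(X, V.1) r))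
      map_add' := fun a b => AlternatingMap.ext fun w => pairS_add_left a b _
      map_smul' := fun c a => AlternatingMap.ext fun w => pairS_smul_left c a _ }
  have hzero : AlternatingMap.alternatizeUncurryFin g = 0 := hf.basis.ext_alternating fun w hw => by
    exact absurd (Fintype.card_le_of_injective w hw) (by simp)
  have h := congrArg (fun F : Γ(E, V.1) [⋀^Fin (r + 1)]→ₗ[Γ(X, V.1)] Γ(CohB1.tensorMod E D, V.1) => F e) hzero
  simp only [AlternatingMap.alternatizeUncurryFin_apply, AlternatingMap.zero_apply] at h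
  exact h

theorem exists_top_wedge (φ : ExtIso r E D) (hc : Compat φ) (v : Fin r → Γ(E, (⊤ : X.Opens))) :
    ∃ w : Γ(D, (⊤ : X.Opens)), ∀ V : X.affineOpens,
      D.presheaf.map (homOfLE (le_top : V.1 ≤ ⊤)).op w =
        wsec φ V (fun i => E.presheaf.map (homOfLE (le_top : V.1 ≤ ⊤)).op (v i)) := by
  let sf : ∀ V : X.affineOpens, Γ(D, V.1) := fun V =>
    wsec φ V (fun i => E.presheaf.map (homOfLE (le_top : V.1 ≤ ⊤)).op (v i))
  have key : ∀ (U W : X.affineOpens) (h : W.1 ≤ U.1), D.presheaf.map (homOfLE h).op (sf U) = sf W := fun U W h =>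
    (hc U W h _).trans (congrArg (wsec φ W) (funext fun i => by
      rw [← ConcreteCategory.comp_apply, ← E.presheaf.map_comp]; rfl))
  obtain ⟨w, hw, -⟩ := TopCat.Sheaf.existsUnique_gluing' (X := X.carrier)
    (⟨D.presheaf, D.isSheaf⟩ : TopCat.Sheaf Ab.{u} X.carrier) (fun V : X.affineOpens => V.1) ⊤
    (fun V => homOfLE le_top) (fun x _ => by
      obtain ⟨_, ⟨U, hU, rfl⟩, hxU, -⟩ :=
        X.isBasis_affineOpens.exists_subset_of_mem_open (Set.mem_univ x) isOpen_univ
      exact Opens.mem_iSup.2 ⟨⟨U, hU⟩, hxU⟩) sf (fun U U' => by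
      refine TopCat.Sheaf.eq_of_locally_eq' (⟨D.presheaf, D.isSheaf⟩ : TopCat.Sheaf Ab.{u} X.carrier)
        (fun W : {W : X.affineOpens // W.1 ≤ U.1 ⊓ U'.1} => W.1.1) (U.1 ⊓ U'.1) (fun W => homOfLE W.2)
        (fun x hx => by
          obtain ⟨_, ⟨W, hW, rfl⟩, hxW, hWU⟩ :=
            X.isBasis_affineOpens.exists_subset_of_mem_open hx (U.1 ⊓ U'.1).2
          exact Opens.mem_iSup.2 ⟨⟨⟨W, hW⟩, hWU⟩, hxW⟩) _ _ fun W => ?_
      show D.presheaf.map (homOfLE W.2).op (D.presheaf.map (Opens.infLELeft U.1 U'.1).op (sf U)) =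
        D.presheaf.map (homOfLE W.2).op (D.presheaf.map (Opens.infLERight U.1 U'.1).op (sf U'))
      rw [← ConcreteCategory.comp_apply, ← ConcreteCategory.comp_apply, ← D.presheaf.map_comp, ← D.presheaf.map_comp]
      exact (key U W.1 (W.2.trans inf_le_left)).trans (key U' W.1 (W.2.trans inf_le_right)).symm)
  exact ⟨w, hw⟩

set_option maxHeartbeats 1600000 in
theorem not_injective_mul [IsIntegral X] (hfield : IsField Γ(X, (⊤ : X.Opens)))
    (hE : FlatMod.IsFinLocFreeOfRank r E)
    (U : X.Opens) (hU : (U : Set ↥X).Nonempty) {J : Type u} (s : J → (Coh.structureModule X ⟶ E))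
    (hs : Epi ((Scheme.Modules.restrictFunctor U.ι).map (Sigma.desc s)))
    (hbig : ∀ v : Fin r → Γ(E, (⊤ : X.Opens)), Submodule.span Γ(X, (⊤ : X.Opens)) (Set.range v) ≠ ⊤)
    (hD : ExtPow.IsExtPow r E D) :
    ¬ Function.Injective
      ((toSheafify (Opens.grothendieckTopology ↥X) (CohB1.tensorPre E D).presheaf).app (op ⊤)) := by
  classical
  obtain ⟨φ, hφ⟩ := hD
  have hc : Compat φ := fun U V h e => hφ U V h e
  set gp := genericPoint X
  obtain ⟨_, ⟨V₀, hV₀, rfl⟩, hgpV₀, -⟩ :=
    X.isBasis_affineOpens.exists_subset_of_mem_open (Set.mem_univ gp) isOpen_univ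
  obtain ⟨U₁, f₁, hgpU₁, -, hf₁⟩ := exists_frame hE (Set.finite_singleton gp) hV₀ (Set.singleton_subset_iff.2 hgpV₀)
  obtain ⟨_, ⟨V, hV, rfl⟩, hgpV, hVU₁⟩ :=
    X.isBasis_affineOpens.exists_subset_of_mem_open (show gp ∈ U₁ from hgpU₁ rfl) U₁.2
  have hle₁ : V ≤ U₁ := hVU₁
  let f : Fin r → Γ(E, V) := fun i => E.presheaf.map (homOfLE hle₁).op (f₁ i)
  have hf : IsFrame V f := hf₁.res hle₁
  letI : Field (X.presheaf.stalk gp) := inferInstanceAs (Field X.functionField)
  let K := X.presheaf.stalk gp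
  let B : Module.Basis (Fin r) K (E.presheaf.stalk gp) :=
    Module.Basis.ofEquivFun (LinearEquiv.ofBijective _ (hf gp hgpV)).symm
  let gm : Γ(E, (⊤ : X.Opens)) → E.presheaf.stalk gp := fun σ => E.presheaf.germ ⊤ gp trivial σ
  set S := Submodule.span K (Set.range gm) with hSdef
  have hS : S = ⊤ := by
    let ψ : E ⟶ sky gp (E.presheaf.stalk gp ⧸ S) := toSky S.mkQ
    have h0 : Sigma.desc s ≫ ψ = 0 := by
      refine Sigma.hom_ext _ _ fun j => ?_
      rw [Sigma.ι_desc_assoc, comp_zero]
      refine DCohLib.hom_unit_ext (funext fun hx => ?_)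
      show S.mkQ (E.presheaf.germ ⊤ gp hx.down (AmpleLib.sec (s j))) = 0
      rw [Submodule.mkQ_apply, Submodule.Quotient.mk_eq_zero]
      exact Submodule.subset_span ⟨AmpleLib.sec (s j), rfl⟩
    have h1 : (Scheme.Modules.restrictFunctor U.ι).map ψ = 0 := by
      refine (cancel_epi ((Scheme.Modules.restrictFunctor U.ι).map (Sigma.desc s))).1 ?_
      rw [← Functor.map_comp, h0, comp_zero, Functor.map_zero]
    have hgpU : gp ∈ U := ((genericPoint_spec X).mem_open_set_iff U.2).2 (by simpa using hU)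
    refine eq_top_iff.2 fun z _ => ?_
    obtain ⟨W, hW, m, rfl⟩ := TopCat.Presheaf.exists_germ_eq E.presheaf z
    have hWU : U.ι ''ᵁ (U.ι ⁻¹ᵁ W) ≤ W := by rintro _ ⟨w, hw, rfl⟩; exact hw
    have hgp' : gp ∈ U.ι ''ᵁ (U.ι ⁻¹ᵁ W) := ⟨⟨gp, hgpU⟩, hW, rfl⟩
    have h2 : ψ.app (U.ι ''ᵁ (U.ι ⁻¹ᵁ W)) (E.presheaf.map (homOfLE hWU).op m) = 0 := by
      show ((Scheme.Modules.restrictFunctor U.ι).map ψ).app (U.ι ⁻¹ᵁ W) (E.presheaf.map (homOfLE hWU).op m) = 0
      rw [h1]
      rfl
    have h3 : S.mkQ (E.presheaf.germ (U.ι ''ᵁ (U.ι ⁻¹ᵁ W)) gp hgp' (E.presheaf.map (homOfLE hWU).op m)) = 0 :=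
      congrFun h2 ⟨hgp'⟩
    rw [Submodule.mkQ_apply, Submodule.Quotient.mk_eq_zero, E.presheaf.germ_res_apply] at h3
    exact h3
  obtain ⟨t, htsub, htspan, htli⟩ := exists_linearIndependent K (Set.range gm)
  rw [← hSdef, hS] at htspan
  let Bt := Module.Basis.mk htli (by rw [Subtype.range_coe_subtype, Set.setOf_mem_eq, htspan])
  let σ := Bt.indexEquiv B
  choose pre hpre using fun i : Fin r => htsub (σ.symm i).2
  have hpli : LinearIndependent K fun i => gm (pre i) := by
    simp only [hpre]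
    exact htli.comp _ σ.symm.injective
  obtain ⟨s₀, hs₀⟩ := not_forall.1 fun h => hbig pre (Submodule.eq_top_iff'.2 h)
  have hdetK : B.det (fun i => gm (pre i)) ≠ 0 := by
    have hsp : Submodule.span K (Set.range fun i => gm (pre i)) = ⊤ :=
      haveI : FiniteDimensional K (E.presheaf.stalk gp) := Module.Finite.of_basis B
      hpli.span_eq_top_of_card_eq_finrank' (by rw [Module.finrank_eq_card_basis B])
    exact (IsUnit.ne_zero ((Module.Basis.is_basis_iff_det B).1 ⟨hpli, hsp⟩))
  have hwj := fun j : Fin (r + 1) => exists_top_wedge φ hc (j.removeNth (Fin.cons s₀ pre : Fin (r + 1) → _))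
  choose w hw using hwj
  have hw₀ : ∀ W : X.affineOpens, D.presheaf.map (homOfLE (le_top : W.1 ≤ ⊤)).op (w 0) =
      wsec φ W (fun i => E.presheaf.map (homOfLE (le_top : W.1 ≤ ⊤)).op (pre i)) := fun W => by
    rw [hw 0 W]; simp [Fin.removeNth]
  have hw₀ne : w 0 ≠ 0 := by
    intro h
    have hz : wsec φ ⟨V, hV⟩ (fun i => E.presheaf.map (homOfLE (le_top : V ≤ ⊤)).op (pre i)) = 0 := by
      rw [← hw₀ ⟨V, hV⟩, h, map_zero]
    let A : Matrix (Fin r) (Fin r) Γ(X, V) := fun i j =>
      hf.basis.repr (E.presheaf.map (homOfLE (le_top : V ≤ ⊤)).op (pre i)) j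
    have hA : ∀ i, ∑ j, A i j • f j = E.presheaf.map (homOfLE (le_top : V ≤ ⊤)).op (pre i) := fun i => by
      conv_rhs => rw [← hf.basis.sum_repr (E.presheaf.map (homOfLE (le_top : V ≤ ⊤)).op (pre i))]
      refine Finset.sum_congr rfl fun j _ => ?_
      rw [hf.basis_apply]
    rw [← funext hA, wsec_smul φ (V := ⟨V, hV⟩) hf A] at hz
    have hd : A.det = 0 := wsec_injective φ (V := ⟨V, hV⟩) hf (hz.trans (zero_smul _ _).symm)
    apply hdetK
    have hgm : (fun i => gm (pre i)) = fun i => ∑ j, X.presheaf.germ V gp hgpV (A i j) • B j := funext fun i => by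
      show E.presheaf.germ ⊤ gp trivial (pre i) = _
      rw [← E.presheaf.germ_res_apply (homOfLE (le_top : V ≤ ⊤)) gp hgpV, ← hA i, map_sum]
      refine Finset.sum_congr rfl fun j _ => ?_
      refine (PresheafOfModules.germ_smul (R := X.presheaf) E.val gp V hgpV _ _).trans ?_
      refine congrArg (_ • ·) ?_
      simp only [B, Module.Basis.coe_ofEquivFun, LinearEquiv.symm_symm, LinearEquiv.ofBijective_apply]
      erw [Fintype.linearCombination_apply_single, one_smul]
      rfl
    rw [hgm, DegDevLib.det_rows]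
    have := (X.presheaf.germ V gp hgpV).hom.map_det A
    rw [hd, map_zero] at this
    exact this.symm
  let v : Fin (r + 1) → Γ(E, (⊤ : X.Opens)) := Fin.cons s₀ pre
  let z : Γ(E, (⊤ : X.Opens)) ⊗[Γ(X, (⊤ : X.Opens))] Γ(D, (⊤ : X.Opens)) :=
    ∑ j : Fin (r + 1), (-1 : ℤ) ^ (j : ℕ) • (v j ⊗ₜ[Γ(X, (⊤ : X.Opens))] w j)
  intro hinj
  have hz0 : z = 0 := by
    refine hinj ?_
    refine Eq.trans ?_ (map_zero _).symm
    refine (map_sum _ _ _).trans ?_
    have himg : ∀ j : Fin (r + 1), ((toSheafify (Opens.grothendieckTopology ↥X) (CohB1.tensorPre E D).presheaf).app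
        (op ⊤)) ((-1 : ℤ) ^ (j : ℕ) • (v j ⊗ₜ[Γ(X, (⊤ : X.Opens))] w j)) =
        (-1 : ℤ) ^ (j : ℕ) • pairS E D (v j) (w j) := fun j => (map_zsmul _ _ _).trans rfl
    refine (Finset.sum_congr rfl fun j _ => himg j).trans ?_
    refine TopCat.Sheaf.eq_of_locally_eq' (X := X.carrier)
      (⟨(CohB1.tensorMod E D).presheaf, (CohB1.tensorMod E D).isSheaf⟩ : TopCat.Sheaf Ab.{u} X.carrier)
      (fun W : {W : X.affineOpens // ∃ g : Fin r → Γ(E, W.1), IsFrame W.1 g} => W.1.1) ⊤
      (fun W => homOfLE le_top) (fun x _ => by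
        obtain ⟨_, ⟨Vx, hVx, rfl⟩, hxV, -⟩ :=
          X.isBasis_affineOpens.exists_subset_of_mem_open (Set.mem_univ x) isOpen_univ
        obtain ⟨Ux, gx, hxU, -, hgx⟩ := exists_frame hE (Set.finite_singleton x) hVx (Set.singleton_subset_iff.2 hxV)
        obtain ⟨_, ⟨W, hW, rfl⟩, hxW, hWU⟩ :=
          X.isBasis_affineOpens.exists_subset_of_mem_open (show x ∈ Ux from hxU rfl) Ux.2
        exact Opens.mem_iSup.2 ⟨⟨⟨W, hW⟩, _, hgx.res hWU⟩, hxW⟩) _ _ fun W => ?_
    obtain ⟨⟨W, hW⟩, g, hg⟩ := W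
    show (CohB1.tensorMod E D).presheaf.map (homOfLE le_top).op (∑ j, _) =
      (CohB1.tensorMod E D).presheaf.map (homOfLE le_top).op 0
    rw [map_sum, map_zero]
    refine Eq.trans ?_ (koszul_local φ (V := ⟨W, hW⟩) hg fun i => E.presheaf.map (homOfLE le_top).op (v i))
    refine Finset.sum_congr rfl fun j _ => ?_
    rw [map_zsmul]
    refine congrArg _ ((res_pairS le_top (v j) (w j)).trans ?_)
    exact congrArg (pairS E D _) (hw j ⟨W, hW⟩)
  letI := hfield.toField
  obtain ⟨l, hl, hker⟩ := Submodule.exists_le_ker_of_notMem hs₀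
  let T : Γ(E, (⊤ : X.Opens)) ⊗[Γ(X, (⊤ : X.Opens))] Γ(D, (⊤ : X.Opens)) →ₗ[Γ(X, (⊤ : X.Opens))] Γ(D, (⊤ : X.Opens)) :=
    TensorProduct.lift ((LinearMap.lsmul Γ(X, (⊤ : X.Opens)) Γ(D, (⊤ : X.Opens))).comp l)
  have hT := congrArg T hz0
  simp only [z, map_sum, map_zero, Fin.sum_univ_succ, Fin.val_zero, pow_zero, one_smul, map_zsmul] at hT
  have hp : ∀ i, l (pre i) = 0 := fun i => hker (Submodule.subset_span ⟨i, rfl⟩)
  simp [T, v, hp, hl] at hT
  exact hw₀ne hT


/-- Let k be an algebraically closed field of characteristic zero, A an abelian variety over k (a proper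
smooth k-group scheme with geometrically connected fibres), and E a finite locally free O_A-module
of rank r which is generically globally generated: there are a non-empty open subset U of A and a
family of global sections s_j : O_A → E such that the induced map from the direct sum of copies of
O_A to E is an epimorphism after restriction to U. Assume that r is smaller than the dimension over
k of H^0(A, E), and let D be a determinant of E, that is an r-th exterior power of E. Then the
multiplication map on global sections Γ(A, E) ⊗ Γ(A, D) → Γ(A, E ⊗ D), written as the canonical map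
from the global sections of the sectionwise tensor product presheaf (the tensor being over the ring
of global functions Γ(A, O_A)) to the global sections of its sheafification, is not injective. -/
theorem result (k : Type u) [Field k] [IsAlgClosed k] [CharZero k]
    (A : Over (Spec (CommRingCat.of k))) [GrpObj A] [IsProper A.hom] [Smooth A.hom] [GeometricallyConnected A.hom]
    (E : A.left.Modules) (r : ℕ) (hE : FlatMod.IsFinLocFreeOfRank r E)
    (hgen : ∃ (U : A.left.Opens) (J : Type u) (s : J → (Coh.structureModule A.left ⟶ E)),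
      (U : Set ↥A.left).Nonempty ∧ Epi ((Scheme.Modules.restrictFunctor U.ι).map (Sigma.desc s)))
    (hlt : r < @Module.finrank k (Coh.HH A.left E 0) _ _ (@Coh.moduleOver k _ A.left ⟨A.hom⟩ E 0))
    (D : A.left.Modules) (hD : ExtPow.IsExtPow r E D) :
    ¬ Function.Injective
      ((toSheafify (Opens.grothendieckTopology ↥A.left) (CohB1.tensorPre E D).presheaf).app (Opposite.op ⊤)) := by
  classical
  haveI : GeometricallyIntegral A.hom := AVLib.geometricallyIntegral_of_smooth A
  haveI : IsIntegral A.left := GeometricallyIntegral.isIntegral_of_subsingleton A.hom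
  letI : A.left.Over (Spec (CommRingCat.of k)) := ⟨A.hom⟩
  haveI : IsProper (A.left ↘ Spec (CommRingCat.of k)) := ‹IsProper A.hom›
  haveI : Smooth (A.left ↘ Spec (CommRingCat.of k)) := ‹Smooth A.hom›
  haveI : GeometricallyConnected (A.left ↘ Spec (CommRingCat.of k)) := ‹GeometricallyConnected A.hom›
  obtain ⟨U, J, s, hU, hs⟩ := hgen
  have hbij := CurveP1Lib.bijective_toGlobal_of_smooth (k := k) (X := A.left)
  let τ : k ≃+* Γ(A.left, ⊤) := RingEquiv.ofBijective _ hbij
  refine not_injective_mul (MulEquiv.isField (Field.toIsField k) τ.symm.toMulEquiv) hE U hU s hs (fun v hv => ?_) hD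
  haveI hfin : Module.Finite k (Coh.HH A.left E 0) := Module.finite_of_finrank_pos (lt_of_le_of_lt (Nat.zero_le _) hlt)
  let u : Fin r → Coh.HH A.left E 0 := fun i => (CurveLib.secOf E).symm (v i)
  have hu : Submodule.span k (Set.range u) = ⊤ := by
    refine eq_top_iff.2 fun c _ => ?_
    have hc : CurveLib.secOf E c ∈ Submodule.span Γ(A.left, (⊤ : A.left.Opens)) (Set.range v) := by
      rw [hv]; trivial
    obtain ⟨a, ha⟩ := (Submodule.mem_span_range_iff_exists_fun _).1 hc
    refine (Submodule.mem_span_range_iff_exists_fun _).2 ⟨fun i => τ.symm (a i), (CurveLib.secOf E).injective ?_⟩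
    rw [map_sum, ← ha]
    refine Finset.sum_congr rfl fun i _ => ?_
    rw [CurveLib.secOf_smul (k := k)]
    show (show Γ(A.left, (⊤ : A.left.Opens)) from Coh.toGlobal (A.left ↘ Spec (CommRingCat.of k)) (τ.symm (a i))) • CurveLib.secOf E ((CurveLib.secOf E).symm (v i)) = _
    rw [AddEquiv.apply_symm_apply]
    exact congrArg (· • v i) (τ.apply_symm_apply (a i))
  have := finrank_range_le_card (R := k) u
  rw [Set.finrank, hu, finrank_top, Fintype.card_fin] at this
  exact absurd this (not_le.2 hlt)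

end Groth.Agent.S15397
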