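import Groth.Statements.S1540
import Groth.Agent.GeomIrred.Criteria
import Groth.Agent.GeomIrred.CurvPoint
-- import your own Groth.Agent.* helpers here

set_option autoImplicit false
universe u
open CategoryTheory CategoryTheory.Limits AlgebraicGeometry
attribute [local instance] Curv2.resAlgebra Curv2.stalkAlgebra
open Variety

namespace Groth.Agent.S1540

/-- An irreducible scheme X over k with generic point ξ is geometrically irreducible if and only if the
separable algebraic closure of k in the residue field of ξ is k itself. -/
theorem result (k : Type u) [Field k] (X : Scheme.{u}) [X.Over (Spec (CommRingCat.of k))] [IrreducibleSpace X] :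
    GeometricallyIrreducible (X ↘ (Spec (CommRingCat.of k))) ↔
      ∀ a : X.residueField (genericPoint X), IsSeparable k a → a ∈ Set.range (algebraMap k (X.residueField (genericPoint X))) := by
  refine ⟨fun hg a ha => GeomIrred.mem_range_of_geometricallyIrreducible _ (Curv2.resMap k X (genericPoint X))
    (GeomIrred.spec_resMap k X _) a ha, fun h => GeomIrred.geometricallyIrreducible_of_points _ fun U hU hne => ?_⟩
  refine ⟨genericPoint X, ((genericPoint_spec X).mem_open_set_iff hU).mpr (by simpa using hne),
    Curv2.resMap k X _, GeomIrred.spec_resMap k X _, ?_⟩
  exact eq_bot_iff.mpr fun a ha => IntermediateField.mem_bot.mpr (h a (mem_separableClosure_iff.mp ha))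

end Groth.Agent.S1540
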