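import Groth.Statements.S15404
import Groth.Agent.PicUnionLib.Mod
import Groth.Agent.S0981

set_option backward.isDefEq.respectTransparency false

set_option autoImplicit false
universe u
open CategoryTheory CategoryTheory.Limits AlgebraicGeometry
open PicGrp

namespace Groth.Agent.S15404

/-- Let π : X ⟶ B be quasi-compact and separated and let X be the union of the closed subschemes Y =
V(I) and Z = V(J), I and J quasi-coherent ideals with I ∩ J = 0 (so that O_X → O_Y × O_Z is
injective with cokernel O_W, W = Y ∩ Z = V(I + J)); assume that W is flat, proper and of finite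
presentation over B, that W → B has a section, and that the geometric fibres of W → B are reduced
and connected. Assume the Picard group laws on B, X, Y, Z, W and that pullback of invertible classes
along π, along the inclusions of Y, Z in X and of W in Y, Z, and along the structure maps of Y, Z, W
is multiplicative. Then the square of groups formed by Pic(X)/π^*Pic(B), Pic(Y)/Pic(B),
Pic(Z)/Pic(B) and Pic(W)/Pic(B) under restriction is cartesian: (a) an invertible class on X whose
restrictions to Y and to Z are pulled back from B is itself pulled back from B; (b) for invertible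
classes y on Y and z on Z whose restrictions to W agree up to a class pulled back from B, there is a
class on X whose restrictions to Y and Z are y and z up to classes pulled back from B. (The
published statement asserts this for the functor T ↦ Pic(X ×_B T)/Pic(T) on all B-schemes T and
assumes only that π is quasi-compact and separated, W flat over B with a section and geometrically
reduced connected fibres; its proof uses that every global unit on W comes from B, through a lemma
on flat proper morphisms, and without properness the assertion fails — over a field, two affine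
planes glued along the hyperbola ts = 1 have non-trivial Picard group — so W is taken proper and of
finite presentation over B here (finite presentation being automatic over a locally Noetherian
base), and only the value at T = B is stated.) -/
theorem result {X B : Scheme.{u}} (π : X ⟶ B)
    [QuasiCompact π] [IsSeparated π] (I J : X.IdealSheafData) (hIJ : I ⊓ J = ⊥)
    [Flat ((I ⊔ J).subschemeι ≫ π)] [IsProper ((I ⊔ J).subschemeι ≫ π)]
    [LocallyOfFinitePresentation ((I ⊔ J).subschemeι ≫ π)]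
    (s : B ⟶ (I ⊔ J).subscheme) (hs : s ≫ (I ⊔ J).subschemeι ≫ π = 𝟙 B)
    (hfib : ∀ (K : Type u) [Field K] [IsAlgClosed K] (g : Spec (CommRingCat.of K) ⟶ B),
      IsReduced (pullback ((I ⊔ J).subschemeι ≫ π) g) ∧ ConnectedSpace ↥(pullback ((I ⊔ J).subschemeι ≫ π) g))
    [PicGrp.Law B] [PicGrp.Law X] [PicGrp.Law I.subscheme] [PicGrp.Law J.subscheme] [PicGrp.Law (I ⊔ J).subscheme]
    (hπ : PicGrp.PullMul π) (hY : PicGrp.PullMul I.subschemeι) (hZ : PicGrp.PullMul J.subschemeι)
    (hπY : PicGrp.PullMul (I.subschemeι ≫ π)) (hπZ : PicGrp.PullMul (J.subschemeι ≫ π))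
    (hπW : PicGrp.PullMul ((I ⊔ J).subschemeι ≫ π))
    (hWY : PicGrp.PullMul (Scheme.IdealSheafData.inclusion (le_sup_left : I ≤ I ⊔ J)))
    (hWZ : PicGrp.PullMul (Scheme.IdealSheafData.inclusion (le_sup_right : J ≤ I ⊔ J))) :
    (∀ c : PicLoc.PicSet X,
        (∃ b₁ : PicLoc.PicSet B, PicGrp.pullHom I.subschemeι hY c = PicGrp.pullHom (I.subschemeι ≫ π) hπY b₁) →
        (∃ b₂ : PicLoc.PicSet B, PicGrp.pullHom J.subschemeι hZ c = PicGrp.pullHom (J.subschemeι ≫ π) hπZ b₂) →
          ∃ b : PicLoc.PicSet B, c = PicGrp.pullHom π hπ b) ∧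
      (∀ (y : PicLoc.PicSet I.subscheme) (z : PicLoc.PicSet J.subscheme),
        (∃ b : PicLoc.PicSet B,
            PicGrp.pullHom (Scheme.IdealSheafData.inclusion (le_sup_left : I ≤ I ⊔ J)) hWY y =
              PicGrp.pullHom (Scheme.IdealSheafData.inclusion (le_sup_right : J ≤ I ⊔ J)) hWZ z *
                PicGrp.pullHom ((I ⊔ J).subschemeι ≫ π) hπW b) →
          ∃ (c : PicLoc.PicSet X) (b₁ b₂ : PicLoc.PicSet B),
            PicGrp.pullHom I.subschemeι hY c = y * PicGrp.pullHom (I.subschemeι ≫ π) hπY b₁ ∧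
              PicGrp.pullHom J.subschemeι hZ c = z * PicGrp.pullHom (J.subschemeι ≫ π) hπZ b₂) := by
  let ιY := I.subschemeι
  let ιZ := J.subschemeι
  let ιW := (I ⊔ J).subschemeι
  have eW₁ : ∀ c : PicF.Cl X, PicF.pullCl (Scheme.IdealSheafData.inclusion (le_sup_left : I ≤ I ⊔ J))
      (PicF.pullCl ιY c) = PicF.pullCl ιW c := fun c => by
    rw [← PicLoc.pullCl_comp, Scheme.IdealSheafData.inclusion_subschemeι]
  have eW₂ : ∀ c : PicF.Cl X, PicF.pullCl (Scheme.IdealSheafData.inclusion (le_sup_right : J ≤ I ⊔ J))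
      (PicF.pullCl ιZ c) = PicF.pullCl ιW c := fun c => by
    rw [← PicLoc.pullCl_comp, Scheme.IdealSheafData.inclusion_subschemeι]
  refine ⟨?_, ?_⟩
  · rintro c ⟨b₁, h₁⟩ ⟨b₂, h₂⟩
    have hb : b₁ = b₂ := by
      apply Subtype.ext
      have k₁ : PicF.pullCl ιY c.1 = PicF.pullCl (ιY ≫ π) b₁.1 := congrArg Subtype.val h₁
      have k₂ : PicF.pullCl ιZ c.1 = PicF.pullCl (ιZ ≫ π) b₂.1 := congrArg Subtype.val h₂
      have q₁ := congrArg (PicF.pullCl (Scheme.IdealSheafData.inclusion (le_sup_left : I ≤ I ⊔ J))) k₁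
      have q₂ := congrArg (PicF.pullCl (Scheme.IdealSheafData.inclusion (le_sup_right : J ≤ I ⊔ J))) k₂
      rw [eW₁, ← PicLoc.pullCl_comp, Scheme.IdealSheafData.inclusion_subschemeι_assoc] at q₁
      rw [eW₂, ← PicLoc.pullCl_comp, Scheme.IdealSheafData.inclusion_subschemeι_assoc] at q₂
      have q := congrArg (PicF.pullCl s) (q₁.symm.trans q₂)
      rwa [← PicLoc.pullCl_comp, ← PicLoc.pullCl_comp, hs, PicLoc.pullCl_id, PicLoc.pullCl_id] at q
    subst hb
    refine ⟨b₁, ?_⟩
    obtain ⟨M, hM, hMc⟩ := PicGrp.exists_eq_cls (c * (PicGrp.pullHom π hπ b₁)⁻¹)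
    have hY1 : PicGrp.pullHom ιY hY (PicGrp.cls M hM) = 1 := by
      rw [← hMc, map_mul, map_inv, h₁, ← PicGrp.pullHom_comp_apply ιY π hY hπ hπY, mul_inv_cancel]
    have hZ1 : PicGrp.pullHom ιZ hZ (PicGrp.cls M hM) = 1 := by
      rw [← hMc, map_mul, map_inv, h₂, ← PicGrp.pullHom_comp_apply ιZ π hZ hπ hπZ, mul_inv_cancel]
    rw [PicGrp.pullHom_cls, PicGrp.cls_eq_one_iff] at hY1 hZ1
    obtain ⟨eY⟩ := hY1
    obtain ⟨eZ⟩ := hZ1
    refine mul_inv_eq_one.1 (hMc.trans ((PicGrp.cls_eq_one_iff hM).2 ?_))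
    refine Groth.Agent.PicUnionLib.nonempty_iso_unit hIJ hM
      (Groth.Agent.ParaFLib.gen_of_modIso eY.symm (Groth.Agent.ParaFLib.gen_one _))
      (Groth.Agent.ParaFLib.gen_of_modIso eZ.symm (Groth.Agent.ParaFLib.gen_one _)) fun u hu => ?_
    haveI hiso : IsIso ((ιW ≫ π).app ⊤) := Groth.Agent.S0981.result (ιW ≫ π) hfib ⊤
    obtain ⟨β, rfl⟩ : ∃ β, (ιW ≫ π).app ⊤ β = u := (ConcreteCategory.bijective_of_isIso ((ιW ≫ π).app ⊤)).2 u
    have hβ : IsUnit β := (isUnit_map_iff ((ιW ≫ π).app ⊤).hom β).1 hu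
    refine ⟨ιZ.app ⊤ (π.app ⊤ β), (hβ.map _).map _, ?_⟩
    exact Groth.Agent.PicUnionLib.toWZ_app I J ⊤ (π.app ⊤ β)
  · rintro y z ⟨b, hb⟩
    let z' := z * PicGrp.pullHom (ιZ ≫ π) hπZ b
    obtain ⟨LY, hLY, rfl⟩ := PicGrp.exists_eq_cls y
    obtain ⟨LZ, hLZ, hz⟩ := PicGrp.exists_eq_cls z'
    have hW : PicGrp.pullHom _ hWY (PicGrp.cls LY hLY) = PicGrp.pullHom _ hWZ (PicGrp.cls LZ hLZ) := by
      rw [hb, ← hz, map_mul]
      congr 1
      apply Subtype.ext
      show PicF.pullCl _ b.1 = PicF.pullCl _ (PicF.pullCl _ b.1)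
      rw [← PicLoc.pullCl_comp, Scheme.IdealSheafData.inclusion_subschemeι_assoc]
    rw [PicGrp.pullHom_cls, PicGrp.pullHom_cls, PicGrp.cls_eq_cls_iff] at hW
    obtain ⟨θ⟩ := hW
    obtain ⟨M, hM, hMY, hMZ⟩ := Groth.Agent.PicUnionLib.exists_glue hIJ hLY hLZ θ
    refine ⟨PicGrp.cls M hM, 1, b, ?_, ?_⟩
    · rw [map_one, mul_one, PicGrp.pullHom_cls, PicGrp.cls_eq_cls_iff]
      exact hMY
    · show _ = z'
      rw [hz, PicGrp.pullHom_cls, PicGrp.cls_eq_cls_iff]
      exact hMZ

end Groth.Agent.S15404
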