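import Groth.Statements.S15411
import Mathlib
-- import your own Groth.Agent.* helpers here

set_option autoImplicit false
universe u
open scoped TensorProduct
open Hopf

namespace Groth.Agent.S15411

/-- Let K be a field and let finitely many commutative K-algebras be given in two layers, K_i for each
vertex i and K_k for each edge k, with K-algebra maps from K_{l k} and from K_{r k} into K_k for
every edge k, such that K is the equalizer of the system: every family (x_i) whose two images in K_k
agree for every k comes from exactly one element of K. Let A and B be commutative K-bialgebras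
(coordinate rings of affine group or monoid schemes over K) and let u_i : K_i ⊗ B ≅ K_i ⊗ A be
isomorphisms of K_i-bialgebras such that, for every edge k, the base changes of u_{l k} and u_{r k}
to K_k agree. Then there is exactly one isomorphism of K-bialgebras v : B ≅ A inducing every u_i,
that is with u_i (1 ⊗ b) = 1 ⊗ v b. (The published statement is for the system obtained from a
finite inverse factorization system of fields by base change to a finite separable extension K, and
for linear algebraic groups; this row keeps from that setting only what the argument uses: K is a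
field and is the equalizer of the finite system, and the group schemes are affine.) -/
theorem result
    (K : Type u) [Field K] (ιv ιe : Type u) [Finite ιv] [Finite ιe]
    (Kv : ιv → Type u) [∀ i, CommRing (Kv i)] [∀ i, Algebra K (Kv i)]
    (Ke : ιe → Type u) [∀ k, CommRing (Ke k)] [∀ k, Algebra K (Ke k)]
    (l r : ιe → ιv) (ρl : ∀ k, Kv (l k) →ₐ[K] Ke k) (ρr : ∀ k, Kv (r k) →ₐ[K] Ke k)
    (hlim : ∀ x : (∀ i, Kv i), (∀ k, ρl k (x (l k)) = ρr k (x (r k))) →
      ∃! a : K, ∀ i, algebraMap K (Kv i) a = x i)
    (A B : Type u) [CommRing A] [CommRing B] [Bialgebra K A] [Bialgebra K B]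
    (u : ∀ i, (Kv i ⊗[K] B) ≃ₐc[Kv i] (Kv i ⊗[K] A))
    (hu : ∀ (k : ιe) (b : B),
      Algebra.TensorProduct.map (ρl k) (AlgHom.id K A) (u (l k) (1 ⊗ₜ[K] b)) =
        Algebra.TensorProduct.map (ρr k) (AlgHom.id K A) (u (r k) (1 ⊗ₜ[K] b))) :
    ∃! v : B ≃ₐc[K] A, ∀ (i : ιv) (b : B), u i (1 ⊗ₜ[K] b) = 1 ⊗ₜ[K] v b := by
  classical
  haveI := Fintype.ofFinite ιv
  -- the base field embeds into the product of the vertices
  have hinj : ∀ c : K, (∀ i, algebraMap K (Kv i) c = 0) → c = 0 := fun c hc => by
    obtain ⟨a, -, hu'⟩ := hlim 0 (fun k => by simp)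
    exact (hu' c hc).trans (hu' 0 (fun i => by simp)).symm
  have hinjT : ∀ (V : Type u) [AddCommGroup V] [Module K V] (z : V),
      (∀ i, ((1 : Kv i) ⊗ₜ[K] z) = 0) → z = 0 := fun V _ _ z hz => by
    refine (Module.forall_dual_apply_eq_zero_iff K z).mp fun φ => hinj _ fun i => ?_
    have h := congrArg (TensorProduct.rid K (Kv i) ∘ (φ.lTensor (Kv i))) (hz i)
    simpa [Algebra.algebraMap_eq_smul_one] using h
  have hext : ∀ (V : Type u) [AddCommGroup V] [Module K V] (z z' : V),
      (∀ i, ((1 : Kv i) ⊗ₜ[K] z) = (1 : Kv i) ⊗ₜ[K] z') → z = z' := fun V _ _ z z' hz => by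
    refine sub_eq_zero.mp (hinjT V _ fun i => ?_)
    rw [TensorProduct.tmul_sub, hz i, sub_self]
  -- descent of elements
  have hdesc : ∀ b : B, ∃ a : A, ∀ i, u i ((1 : Kv i) ⊗ₜ[K] b) = (1 : Kv i) ⊗ₜ[K] a := by
    intro b
    let 𝒞 := Module.Basis.ofVectorSpace K A
    let co : ∀ i, _ := fun i => TensorProduct.equivFinsuppOfBasisRight (M := Kv i) 𝒞 (u i ((1 : Kv i) ⊗ₜ[K] b))
    have hmap : ∀ (i : ιv) (k : ιe) (f : Kv i →ₐ[K] Ke k) (z : Kv i ⊗[K] A) (j : _),
        TensorProduct.equivFinsuppOfBasisRight (M := Ke k) 𝒞
          (Algebra.TensorProduct.map f (AlgHom.id K A) z) j =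
          f (TensorProduct.equivFinsuppOfBasisRight (M := Kv i) 𝒞 z j) := by
      intro i k f z j
      induction z with
      | zero => simp
      | add p q hp hq => simp only [map_add, Finsupp.add_apply, hp, hq]
      | tmul p q =>
        rw [Algebra.TensorProduct.map_tmul, TensorProduct.equivFinsuppOfBasisRight_apply_tmul_apply,
          TensorProduct.equivFinsuppOfBasisRight_apply_tmul_apply, map_smul, AlgHom.id_apply]
    have hj : ∀ j, ∃! c : K, ∀ i, algebraMap K (Kv i) c = co i j := fun j => hlim (fun i => co i j) fun k => by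
      rw [← hmap (l k) k (ρl k), ← hmap (r k) k (ρr k), hu k b]
    choose c hc hcu using hj
    let S : Finset _ := Finset.univ.biUnion fun i => (co i).support
    have hS : ∀ j, j ∉ S → c j = 0 := fun j hjS => hinj _ fun i => by
      rw [hc j i]
      by_contra h
      exact hjS (Finset.mem_biUnion.mpr ⟨i, Finset.mem_univ _, Finsupp.mem_support_iff.mpr h⟩)
    refine ⟨∑ j ∈ S, c j • 𝒞 j, fun i => (TensorProduct.equivFinsuppOfBasisRight (M := Kv i) 𝒞).injective ?_⟩
    refine Finsupp.ext fun j => ?_
    rw [TensorProduct.equivFinsuppOfBasisRight_apply_tmul_apply]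
    change co i j = _
    rw [← hc j i, Algebra.algebraMap_eq_smul_one]
    congr 1
    simp only [map_sum, map_smul, Module.Basis.repr_self, Finsupp.coe_finsetSum, Finset.sum_apply,
      Finsupp.smul_single, smul_eq_mul, mul_one, Finsupp.single_apply, Finset.sum_ite_eq']
    by_cases h : j ∈ S
    · rw [if_pos h]
    · rw [if_neg h, hS j h]
  choose v hv using hdesc
  let vA : B →ₐ[K] A :=
    { toFun := v
      map_one' := hext A _ _ fun i => by rw [← hv, ← Algebra.TensorProduct.one_def, map_one, Algebra.TensorProduct.one_def]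
      map_mul' := fun x y => hext A _ _ fun i => by
        rw [← hv, show (1 : Kv i) ⊗ₜ[K] (v x * v y) = ((1 : Kv i) ⊗ₜ[K] v x) * ((1 : Kv i) ⊗ₜ[K] v y) by simp,
          ← hv, ← hv, ← map_mul, Algebra.TensorProduct.tmul_mul_tmul, one_mul]
      map_zero' := hext A _ _ fun i => by rw [← hv, TensorProduct.tmul_zero, map_zero, TensorProduct.tmul_zero]
      map_add' := fun x y => hext A _ _ fun i => by
        rw [← hv, TensorProduct.tmul_add, map_add, hv, hv, TensorProduct.tmul_add]
      commutes' := fun c => hext A _ _ fun i => by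
        rw [← hv, Algebra.algebraMap_eq_smul_one, Algebra.algebraMap_eq_smul_one (A := A), TensorProduct.tmul_smul,
          TensorProduct.tmul_smul, ← algebraMap_smul (Kv i) c ((1 : Kv i) ⊗ₜ[K] (1 : B)), map_smul,
          ← Algebra.TensorProduct.one_def, map_one, algebraMap_smul, Algebra.TensorProduct.one_def] }
  have hcounit : (Bialgebra.counitAlgHom K A).comp vA = Bialgebra.counitAlgHom K B := AlgHom.ext fun b => by
    refine sub_eq_zero.mp (hinj _ fun i => ?_)
    have h := CoalgHomClass.counit_comp_apply (u i) ((1 : Kv i) ⊗ₜ[K] b)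
    rw [hv, TensorProduct.counit_tmul, TensorProduct.counit_tmul, CommSemiring.counit_apply] at h
    rw [map_sub, sub_eq_zero]
    simpa [Algebra.algebraMap_eq_smul_one, vA] using h
  have hcomul : (Algebra.TensorProduct.map vA vA).comp (Bialgebra.comulAlgHom K B) =
      (Bialgebra.comulAlgHom K A).comp vA := AlgHom.ext fun b => by
    refine hext _ _ _ fun i => ?_
    apply (TensorProduct.AlgebraTensorModule.distribBaseChange K (Kv i) A A).injective
    have h := CoalgHomClass.map_comp_comul_apply (u i) ((1 : Kv i) ⊗ₜ[K] b)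
    rw [hv, TensorProduct.comul_tmul, TensorProduct.comul_tmul, CommSemiring.comul_apply] at h
    refine Eq.trans ?_ (h.trans ?_)
    · change TensorProduct.AlgebraTensorModule.distribBaseChange K (Kv i) A A
        ((1 : Kv i) ⊗ₜ[K] TensorProduct.map vA.toLinearMap vA.toLinearMap (Coalgebra.comul (R := K) b)) = _
      generalize Coalgebra.comul (R := K) b = z
      induction z with
      | zero => simp
      | add p q hp hq => simp only [TensorProduct.tmul_add, map_add, hp, hq]
      | tmul p q =>
        change ((1 : Kv i) ⊗ₜ[K] v p) ⊗ₜ[Kv i] ((1 : Kv i) ⊗ₜ[K] v q) = _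
        rw [← hv, ← hv]
        rfl
    · change _ = TensorProduct.AlgebraTensorModule.distribBaseChange K (Kv i) A A
        ((1 : Kv i) ⊗ₜ[K] Coalgebra.comul (R := K) (v b))
      generalize Coalgebra.comul (R := K) (v b) = z
      induction z with
      | zero => simp
      | add p q hp hq => simp only [TensorProduct.tmul_add, map_add, hp, hq]
      | tmul p q => rfl
  let vB : B →ₐc[K] A := BialgHom.ofAlgHom vA hcounit hcomul
  have hbij : Function.Bijective vB := by
    refine ⟨fun x y h => hext B _ _ fun i => EquivLike.injective (u i) ?_, ?_⟩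
    · rw [hv, hv]
      exact congrArg ((1 : Kv i) ⊗ₜ[K] ·) h
    · let L : B →ₗ[K] A := vA.toLinearMap
      have hsi : ∀ i, Function.Surjective (L.lTensor (Kv i)) := fun i => by
        intro z
        obtain ⟨w, rfl⟩ := EquivLike.surjective (u i) z
        refine ⟨w, ?_⟩
        induction w with
        | zero => simp
        | add p q hp hq => simp only [map_add, hp, hq]
        | tmul c x =>
          rw [LinearMap.lTensor_tmul, show c ⊗ₜ[K] x = c • ((1 : Kv i) ⊗ₜ[K] x) by
            rw [TensorProduct.smul_tmul', smul_eq_mul, mul_one], map_smul, hv, TensorProduct.smul_tmul', smul_eq_mul,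
            mul_one]
          rfl
      by_contra hns
      have hlt : LinearMap.range L < ⊤ := lt_top_iff_ne_top.mpr fun h => hns (LinearMap.range_eq_top.mp h)
      obtain ⟨φ, hφ0, hφ⟩ := (LinearMap.range L).exists_le_ker_of_lt_top hlt
      obtain ⟨a, ha⟩ : ∃ a, φ a ≠ 0 := by
        by_contra h
        push Not at h
        exact hφ0 (LinearMap.ext h)
      refine ha (hinj _ fun i => ?_)
      obtain ⟨w, hw⟩ := hsi i ((1 : Kv i) ⊗ₜ[K] a)
      have h0 : φ.lTensor (Kv i) (L.lTensor (Kv i) w) = 0 := by
        rw [← LinearMap.comp_apply, ← LinearMap.lTensor_comp,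
          show φ ∘ₗ L = 0 from LinearMap.ext fun x => hφ ⟨x, rfl⟩, LinearMap.lTensor_zero, LinearMap.zero_apply]
      rw [hw, LinearMap.lTensor_tmul] at h0
      have := congrArg (TensorProduct.rid K (Kv i)) h0
      simpa [Algebra.algebraMap_eq_smul_one] using this
  refine ⟨BialgEquiv.ofBijective vB hbij, fun i b => hv b i, fun w hw => ?_⟩
  refine DFunLike.ext _ _ fun b => hext A _ _ fun i => ?_
  exact (hw i b).symm.trans (hv b i)

end Groth.Agent.S15411
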