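import Groth.Statements.S15412
import Mathlib
-- import your own Groth.Agent.* helpers here

set_option autoImplicit false
universe w v u
open CategoryTheory Opposite
open Bitors

namespace Groth.Agent.S15412

/-- On a site, let G and H be sheaves of groups and P a sheaf of sets with a left G-action which is
simply transitive on every set of sections P(U). The right H-actions on P that are compatible with
restriction, commute with the G-action and are simply transitive on every P(U) (for P a G-torsor:
the structures of (G, H)-bitorsor on P) correspond exactly to the families of group isomorphisms φ_p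
: H(U) ≃ G(U), one for each section p of P over each U, compatible with restriction and with φ_{g·p}
= g φ_p g⁻¹ (the equivariant maps from P to the sheaf of isomorphisms from H to G); the
correspondence is the rule p · h = φ_p(h) · p, and the statement is that every right structure
arises by this rule from exactly one family and every family from exactly one right structure. (The
published statement takes P a left G-torsor; only the simple transitivity of the G-action on
sections enters, so local existence of sections is not assumed.) -/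
theorem result
    {C : Type u} [Category.{v} C] {J : GrothendieckTopology C}
    (G H : Sheaf J GrpCat.{w}) (P : NonAbH1.GSheaf G) (hP : P.IsPseudoTorsor) :
    (∀ ρ : Bitors.RightStr P H, ∃! φ : Bitors.IsomFamily P H,
        ∀ (U : Cᵒᵖ) (p : P.P.obj.obj U) (h : H.obj.obj U), ρ.rsmul p h = P.smul (φ.φ p h) p) ∧
    (∀ φ : Bitors.IsomFamily P H, ∃! ρ : Bitors.RightStr P H,
        ∀ (U : Cᵒᵖ) (p : P.P.obj.obj U) (h : H.obj.obj U), ρ.rsmul p h = P.smul (φ.φ p h) p) := by
  classical
  have hu : ∀ (U : Cᵒᵖ) (p : P.P.obj.obj U) (a b : G.obj.obj U), P.smul a p = P.smul b p → a = b :=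
    fun U p a b h => (hP U p (P.smul b p)).unique h rfl
  refine ⟨fun ρ => ?_, fun φ => ?_⟩
  · choose ψ hψ hψu using fun (U : Cᵒᵖ) (p : P.P.obj.obj U) (h : H.obj.obj U) => hP U p (ρ.rsmul p h)
    have hmul : ∀ U p h h', ψ U p (h * h') = ψ U p h * ψ U p h' := fun U p h h' => by
      apply hu U p
      rw [hψ, P.mul_smul, hψ, ← ρ.smul_rsmul, hψ, ρ.rsmul_mul]
    have hbij : ∀ U p, Function.Bijective (ψ U p) := fun U p => by
      refine ⟨fun a b e => ?_, fun g => ?_⟩
      · refine (ρ.existsUnique_rsmul p (ρ.rsmul p b)).unique ?_ rfl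
        rw [← hψ, e, hψ]
      · obtain ⟨h, hh, -⟩ := ρ.existsUnique_rsmul p (P.smul g p)
        exact ⟨h, hu U p _ _ ((hψ U p h).trans hh)⟩
    refine ⟨{ φ := fun {U} p => MulEquiv.ofBijective (MonoidHom.mk' (ψ U p) (hmul U p)) (hbij U p)
              map_φ := fun {U V} f p h => ?_
              φ_smul := fun {U} g p h => ?_ }, fun U p h => (hψ U p h).symm, fun φ' hφ' => ?_⟩
    · show G.obj.map f (ψ U p h) = ψ V (P.P.obj.map f p) (H.obj.map f h)
      apply hu V (P.P.obj.map f p)
      rw [hψ, ← P.map_smul, hψ, ρ.map_rsmul]
    · show ψ U (P.smul g p) h = g * ψ U p h * g⁻¹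
      apply hu U (P.smul g p)
      rw [hψ, ρ.smul_rsmul, ← P.mul_smul, inv_mul_cancel_right, P.mul_smul, hψ]
    · obtain ⟨φ₁, h1, h2⟩ := φ'
      congr 1
      funext U p
      ext h
      exact hu U p _ _ ((hφ' U p h).symm.trans (hψ U p h).symm)
  · refine ⟨{ rsmul := fun {U} p h => P.smul (φ.φ p h) p
              rsmul_one := fun {U} p => ?_
              rsmul_mul := fun {U} p h h' => ?_
              map_rsmul := fun {U V} f p h => ?_
              smul_rsmul := fun {U} g p h => ?_
              existsUnique_rsmul := fun {U} p q => ?_ }, fun U p h => rfl, fun ρ' hρ' => ?_⟩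
    · rw [map_one, P.one_smul]
    · rw [φ.φ_smul, ← P.mul_smul, inv_mul_cancel_right, map_mul]
    · rw [P.map_smul, φ.map_φ]
    · rw [φ.φ_smul, ← P.mul_smul, inv_mul_cancel_right, P.mul_smul]
    · obtain ⟨g, hg, hg'⟩ := hP U p q
      refine ⟨(φ.φ p).symm g, ?_, fun h hh => ?_⟩
      · show P.smul (φ.φ p ((φ.φ p).symm g)) p = q
        rw [MulEquiv.apply_symm_apply, hg]
      · rw [← hg' _ hh, MulEquiv.symm_apply_apply]
    · obtain ⟨r, _, _, _, _, _⟩ := ρ'
      congr 1
      funext U p h
      exact hρ' U p h

end Groth.Agent.S15412
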