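import Groth.Statements.S15415
import Groth.Agent.BrauerClassLib.RedNorm
import Groth.Agent.CSADescent.Basic
import Groth.Agent.S13692

set_option autoImplicit false
universe u v w
open scoped TensorProduct
attribute [local instance] CSAGal.tensorAction GpH1.unitsAction
open GalCoh

namespace Groth.Agent.S15415

/-- For a central simple algebra over a field, the first Galois cohomology set of its norm-one group is
identified with the nonzero scalars modulo the reduced norms of units, by the boundary map of the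
sequence norm-one units → units → nonzero scalars. Finite-level form: let k be a field, K a finite
Galois extension of k whose Galois group acts on K ⊗_k A through the first factor, A a
finite-dimensional central simple k-algebra split by K, N the reduced norm of A over k and N_K the
reduced norm of K ⊗_k A over K. Then (i) every 1-cocycle a with values in the units of K ⊗_k A of
reduced norm one is of the form a σ = b⁻¹ · σ(b) for a unit b whose reduced norm is an element c of
kˣ; and (ii) for units b, b' of K ⊗_k A with reduced norms c, c' in kˣ, the cocycles σ ↦ b⁻¹σ(b) and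
σ ↦ b'⁻¹σ(b') are cohomologous through a unit of reduced norm one if and only if c' = N(x) · c for
some unit x of A. (Since K splits A the reduced norm N_K takes every value in kˣ, so (i) and (ii)
say that c ↦ class of b⁻¹σ(b), N_K b = c, is a well-defined bijection from kˣ/N(Aˣ) onto the
cohomology set of the norm-one units. The published statement is for the absolute Galois group of a
field of characteristic different from 2, an assumption playing no role here; this row is the
finite-level form over a splitting field.) -/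
theorem result
    (k : Type u) [Field k] (K : Type v) [Field K] [Algebra k K] [FiniteDimensional k K] [IsGalois k K]
    (A : Type w) [Ring A] [Algebra k A] [Algebra.IsCentral k A] [IsSimpleRing A] [FiniteDimensional k A]
    (hA : Curves.Splits k A K)
    (N : A →* k) (hN : CSAGal.IsRedNorm k A N)
    (NK : (K ⊗[k] A) →* K) (hNK : CSAGal.IsRedNorm K (K ⊗[k] A) NK) :
    (∀ a : GpH1.OneCocycle (K ≃ₐ[k] K) (K ⊗[k] A)ˣ, (∀ σ, NK (a σ : K ⊗[k] A) = 1) →
        ∃ (c : kˣ) (b : (K ⊗[k] A)ˣ), NK (b : K ⊗[k] A) = algebraMap k K (c : k) ∧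
          ∀ σ : K ≃ₐ[k] K, a σ = b⁻¹ * σ • b) ∧
    (∀ (c c' : kˣ) (b b' : (K ⊗[k] A)ˣ),
        NK (b : K ⊗[k] A) = algebraMap k K (c : k) → NK (b' : K ⊗[k] A) = algebraMap k K (c' : k) →
        ((∃ s : (K ⊗[k] A)ˣ, NK (s : K ⊗[k] A) = 1 ∧
            ∀ σ : K ≃ₐ[k] K, b'⁻¹ * σ • b' = s⁻¹ * (b⁻¹ * σ • b) * σ • s) ↔
          ∃ x : Aˣ, (c' : k) = N (x : A) * (c : k))) := by
  obtain ⟨n, hn0, ⟨φ⟩⟩ := hA
  haveI := Groth.Agent.CSALib.isCentral_baseChange (k := k) (A := A) K
  haveI : IsSimpleRing (K ⊗[k] A) := Groth.Agent.CSALib.isSimpleRing_tensor' A K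
  have hnB : Module.finrank K (K ⊗[k] A) = n ^ 2 := by
    rw [φ.toLinearEquiv.finrank_eq, Module.finrank_matrix, Module.finrank_self, Fintype.card_fin, mul_one, sq]
  have hn : Module.finrank k A = n ^ 2 := by rwa [Module.finrank_baseChange] at hnB
  have hbase : ∀ x : A, NK ((1 : K) ⊗ₜ[k] x) = algebraMap k K (N x) := fun x => by
    rw [BrauerClassLib.RedNorm.redNorm_det hn hN ((φ.toAlgHom.restrictScalars k).comp Algebra.TensorProduct.includeRight) x]
    simpa using BrauerClassLib.RedNorm.redNorm_det hnB hNK φ.toAlgHom ((1 : K) ⊗ₜ[k] x)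
  have hsmul : ∀ (σ : K ≃ₐ[k] K) (r : K) (t : K ⊗[k] A), σ • (r • t) = σ r • σ • t := by
    intro σ r t
    induction t using TensorProduct.induction_on with
    | zero => simp
    | tmul x a =>
      rw [TensorProduct.smul_tmul', TensorProduct.smul_tmul', TensorProduct.smul_tmul', TensorProduct.smul_tmul',
        smul_eq_mul, smul_eq_mul, AlgEquiv.smul_def, AlgEquiv.smul_def, map_mul]
    | add x y hx hy => simp only [smul_add, hx, hy]
  have heq : ∀ (σ : K ≃ₐ[k] K) (t : K ⊗[k] A), NK (σ • t) = σ (NK t) := by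
    intro σ t
    let F : K ⊗[k] A →ₐ[K] Matrix (Fin n) (Fin n) K :=
      { ((σ.symm : K →+* K).mapMatrix.comp (φ.toAlgHom.toRingHom.comp
          (MulSemiringAction.toRingHom (K ≃ₐ[k] K) (K ⊗[k] A) σ))) with
        commutes' := fun r => by
          show (σ.symm : K →+* K).mapMatrix (φ (σ • algebraMap K (K ⊗[k] A) r)) = _
          rw [Algebra.algebraMap_eq_smul_one, hsmul, smul_one, map_smul, map_one, ← Algebra.algebraMap_eq_smul_one,
            Matrix.algebraMap_eq_diagonal, RingHom.mapMatrix_apply, Matrix.diagonal_map (map_zero _),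
            Matrix.algebraMap_eq_diagonal]
          congr 1
          funext i
          simp }
    have h1 := BrauerClassLib.RedNorm.redNorm_det hnB hNK F t
    have h2 := BrauerClassLib.RedNorm.redNorm_det hnB hNK φ.toAlgHom (σ • t)
    simp only [Algebra.algebraMap_self, RingHom.id_apply] at h1 h2
    rw [h2, h1]
    show (φ (σ • t)).det = σ ((σ.symm : K →+* K).mapMatrix (φ (σ • t))).det
    rw [← RingHom.map_det]
    exact (σ.apply_symm_apply _).symm
  have hval : ∀ (σ : K ≃ₐ[k] K) (u : (K ⊗[k] A)ˣ), ((σ • u : (K ⊗[k] A)ˣ) : K ⊗[k] A) = σ • (u : K ⊗[k] A) :=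
    fun _ _ => rfl
  have hinv : ∀ u : (K ⊗[k] A)ˣ, NK (↑u⁻¹ : K ⊗[k] A) * NK (u : K ⊗[k] A) = 1 := fun u => by
    rw [← map_mul, Units.inv_mul, map_one]
  refine ⟨fun a ha => ?_, fun c c' b b' hc hc' => ⟨?_, ?_⟩⟩
  · obtain ⟨b, hb⟩ := (GpH1.OneCocycle.cl_eq_cl_iff a GpH1.OneCocycle.trivial).1
      (Groth.Agent.S13692.result k K A a.cl)
    have hb' : ∀ σ : K ≃ₐ[k] K, a σ = b⁻¹ * σ • b := fun σ => by
      rw [hb σ]
      show b⁻¹ * 1 * σ • b = _
      rw [mul_one]
    have hfix : ∀ σ : K ≃ₐ[k] K, σ (NK (b : K ⊗[k] A)) = NK (b : K ⊗[k] A) := fun σ => by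
      have h := ha σ
      rw [hb' σ, Units.val_mul, hval, map_mul, heq] at h
      calc σ (NK (b : K ⊗[k] A))
          = NK (↑b⁻¹ : K ⊗[k] A) * NK (b : K ⊗[k] A) * σ (NK (b : K ⊗[k] A)) := by rw [hinv, one_mul]
        _ = NK (b : K ⊗[k] A) * (NK (↑b⁻¹ : K ⊗[k] A) * σ (NK (b : K ⊗[k] A))) := by ring
        _ = _ := by rw [h, mul_one]
    obtain ⟨c, hc⟩ := (IsGalois.mem_range_algebraMap_iff_fixed _).2 hfix
    have hc0 : c ≠ 0 := fun h0 => by
      have := hinv b
      rw [← hc, h0, map_zero, mul_zero] at this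
      exact zero_ne_one this
    exact ⟨Units.mk0 c hc0, b, hc.symm, hb'⟩
  · rintro ⟨s, hs, h⟩
    have hfix : ∀ σ : K ≃ₐ[k] K, σ • (b' * (b * s)⁻¹) = b' * (b * s)⁻¹ := fun σ => by
      have e : σ • b' = b' * (s⁻¹ * (b⁻¹ * σ • b) * σ • s) := by rw [← h σ, mul_inv_cancel_left]
      rw [smul_mul', smul_inv', smul_mul', e]
      group
    obtain ⟨x, hx⟩ := CSADescent.exists_eq_one_tmul_of_fixed ((b' * (b * s)⁻¹ : (K ⊗[k] A)ˣ) : K ⊗[k] A)
      (fun σ => congrArg Units.val (hfix σ))
    obtain ⟨y, hy⟩ := CSADescent.exists_eq_one_tmul_of_fixed (((b' * (b * s)⁻¹)⁻¹ : (K ⊗[k] A)ˣ) : K ⊗[k] A)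
      (fun σ => congrArg Units.val (show σ • (b' * (b * s)⁻¹)⁻¹ = (b' * (b * s)⁻¹)⁻¹ by rw [smul_inv', hfix σ]))
    have hinj := (Algebra.TensorProduct.includeRight_injective (R := k) (A := K) (B := A) (algebraMap k K).injective)
    have hxy : x * y = 1 ∧ y * x = 1 := by
      constructor <;> refine hinj ?_ <;> rw [map_mul, map_one] <;>
        simp only [Algebra.TensorProduct.includeRight_apply] <;> rw [← hx, ← hy]
      · exact Units.mul_inv _
      · exact Units.inv_mul _
    refine ⟨⟨x, y, hxy.1, hxy.2⟩, (algebraMap k K).injective ?_⟩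
    have e : (b' : K ⊗[k] A) = ((b' * (b * s)⁻¹ : (K ⊗[k] A)ˣ) : K ⊗[k] A) * (b * s : K ⊗[k] A) := by
      rw [← Units.val_mul, ← Units.val_mul, inv_mul_cancel_right]
    rw [map_mul, ← hc', e, hx, map_mul, map_mul, hbase, hs, mul_one, hc]
  · rintro ⟨x, hx⟩
    let X : (K ⊗[k] A)ˣ := Units.map (Algebra.TensorProduct.includeRight : A →ₐ[k] K ⊗[k] A).toMonoidHom x
    have hXv : (X : K ⊗[k] A) = (1 : K) ⊗ₜ[k] (x : A) := rfl
    have hX : ∀ σ : K ≃ₐ[k] K, σ • X = X := fun σ => Units.ext (by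
      rw [hval, hXv]
      exact (TensorProduct.smul_tmul' σ 1 (x : A)).trans (by rw [AlgEquiv.smul_def, map_one]))
    refine ⟨b⁻¹ * X⁻¹ * b', ?_, fun σ => ?_⟩
    · have h1 : (b : K ⊗[k] A) * ↑(b⁻¹ * X⁻¹ * b') = ↑X⁻¹ * (b' : K ⊗[k] A) := by
        simp only [Units.val_mul, mul_assoc, Units.mul_inv_cancel_left]
      have h2 : (X : K ⊗[k] A) * (↑X⁻¹ * (b' : K ⊗[k] A)) = b' := Units.mul_inv_cancel_left _ _
      have h3 := congrArg NK h2
      rw [← h1, map_mul, map_mul, hc', hXv, hbase, hc, hx, map_mul, ← mul_assoc] at h3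
      exact (mul_eq_left₀ (mul_ne_zero
        ((map_ne_zero _).2 ((x.isUnit.map N).ne_zero)) ((map_ne_zero _).2 c.ne_zero))).1 h3
    · rw [smul_mul', smul_mul', smul_inv', smul_inv', hX σ]
      group

end Groth.Agent.S15415
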