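import Groth.Statements.S15419
import Groth.Agent.GrInjLib.QuasiRegular

set_option autoImplicit false
universe u
open GrLC

namespace Groth.Agent.S15419

/-- Let k be a field, S = k[x_0, …, x_r] graded by degree, 𝔪 = (x_0, …, x_r), M a finitely generated
ℤ-graded S-module and x a linear form (x ∈ S_1) that is quasi-regular on M: the submodule of
elements of M killed by x has finite length. Let N = M/xM, given as a graded module with a
surjective degree-preserving S-linear map π : M → N whose kernel is xM; graded local cohomology of M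
and of N is computed from *injective resolutions in the graded category. If M is weakly d-regular,
that is H^i_𝔪(M) vanishes in degree d − i + 1 for every i > 0, then N is weakly d-regular. -/
theorem result (k : Type u) [Field k] (r : ℕ)
    (M : Type u) [AddCommGroup M] [Module k M] [Module (MvPolynomial (Fin (r + 1)) k) M]
    [IsScalarTower k (MvPolynomial (Fin (r + 1)) k) M] [Module.Finite (MvPolynomial (Fin (r + 1)) k) M]
    (ℳ : ℤ → Submodule k M) [DirectSum.Decomposition ℳ] [SetLike.GradedSMul (GrSyz.stdGr k (Fin (r + 1))) ℳ]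
    (x : MvPolynomial (Fin (r + 1)) k) (hx : x ∈ GrSyz.stdGr k (Fin (r + 1)) 1)
    (hq : IsFiniteLength (MvPolynomial (Fin (r + 1)) k) ↥(Submodule.torsionBy (MvPolynomial (Fin (r + 1)) k) M x))
    (N : Type u) [AddCommGroup N] [Module k N] [Module (MvPolynomial (Fin (r + 1)) k) N]
    [IsScalarTower k (MvPolynomial (Fin (r + 1)) k) N] [Module.Finite (MvPolynomial (Fin (r + 1)) k) N]
    (𝒩 : ℤ → Submodule k N) [DirectSum.Decomposition 𝒩] [SetLike.GradedSMul (GrSyz.stdGr k (Fin (r + 1))) 𝒩]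
    (π : M →ₗ[MvPolynomial (Fin (r + 1)) k] N) (hπ : Function.Surjective π) (hπg : GrLC.IsGrHom ℳ 𝒩 π)
    (hker : LinearMap.ker π = LinearMap.range (x • (LinearMap.id : M →ₗ[MvPolynomial (Fin (r + 1)) k] M)))
    (E : GrLC.StarInjRes (GrSyz.stdGr k (Fin (r + 1))) ℳ) (E' : GrLC.StarInjRes (GrSyz.stdGr k (Fin (r + 1))) 𝒩) (d : ℤ)
    (hM : ∀ i : ℕ, 0 < i → E.Hcomp (GrSyz.irrel (GrSyz.stdGr k (Fin (r + 1)))) i (d - (i : ℤ) + 1) = ⊥) (i : ℕ) (hi : 0 < i) :
    E'.Hcomp (GrSyz.irrel (GrSyz.stdGr k (Fin (r + 1)))) i (d - (i : ℤ) + 1) = ⊥ := by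
  have hpos : ∀ n : ℤ, n < 0 → ∀ p ∈ GrSyz.stdGr k (Fin (r + 1)) n, p = 0 := fun n hn p hp => by
    refine MvPolynomial.IsWeightedHomogeneous.eq_zero_of_no_monomials hp fun m hm => ?_
    rw [Finsupp.weight_apply, Finsupp.sum] at hm
    have : (0 : ℤ) ≤ ∑ j ∈ m.support, m j • (1 : ℤ) := Finset.sum_nonneg fun j _ => by positivity
    omega
  have hhom : (GrSyz.irrel (GrSyz.stdGr k (Fin (r + 1)))).toIdeal =
      Ideal.span (GrSyz.stdGr k (Fin (r + 1)) 1 : Set (MvPolynomial (Fin (r + 1)) k)) := by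
    refine le_antisymm (Ideal.span_le.2 ?_) (Ideal.span_mono fun p hp => ⟨1, one_pos, hp⟩)
    rintro p ⟨n, hn, hp⟩
    refine Ideal.span_mono (s := MvPolynomial.X '' (Set.univ : Set (Fin (r + 1)))) ?_
      (MvPolynomial.mem_ideal_span_X_image.2 fun m hm => ?_)
    · rintro _ ⟨j, -, rfl⟩
      exact MvPolynomial.isWeightedHomogeneous_X k (fun _ : Fin (r + 1) => (1 : ℤ)) j
    · have hw := hp (MvPolynomial.mem_support_iff.1 hm)
      by_contra! h
      rw [show m = 0 from Finsupp.ext fun j => h j (Set.mem_univ j), map_zero] at hw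
      omega
  haveI : Module.Finite (MvPolynomial (Fin (r + 1)) k)
      (GrInjLib.addG (GrSyz.stdGr k (Fin (r + 1))) ℳ).carrier :=
    inferInstanceAs (Module.Finite (MvPolynomial (Fin (r + 1)) k) M)
  exact (GrInjLib.van_iff E' _ _ _).1 (GrInjLib.weaklyRegular_quotient hpos hhom
    (M := GrInjLib.addG (GrSyz.stdGr k (Fin (r + 1))) ℳ)
    (N := GrInjLib.addG (GrSyz.stdGr k (Fin (r + 1))) 𝒩) hx hq hπ hπg hker d
    (fun j hj => (GrInjLib.van_iff E _ _ _).2 (hM j hj)) i hi)

end Groth.Agent.S15419
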