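import Groth.Statements.S15420
import Groth.Agent.GrInjLib.QuasiRegular

set_option autoImplicit false
universe u
open GrLC

namespace Groth.Agent.S15420

/-- Let k be a field, S = k[x_0, …, x_r] graded by degree, 𝔪 = (x_0, …, x_r), M a finitely generated
ℤ-graded S-module, x ∈ S_1 a linear form quasi-regular on M (the elements of M killed by x form a
submodule of finite length), and N = M/xM, given as a graded module with a surjective
degree-preserving S-linear map π : M → N with kernel xM; graded local cohomology is computed from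
*injective resolutions in the graded category. Call a module d-regular when H^0_𝔪 of it has no
nonzero piece in degrees above d and H^i_𝔪 of it vanishes in degree d − i + 1 for every i > 0. Then
M is d-regular if and only if N is d-regular and H^0_𝔪(M) has no nonzero piece in degrees above d. -/
theorem result (k : Type u) [Field k] (r : ℕ)
    (M : Type u) [AddCommGroup M] [Module k M] [Module (MvPolynomial (Fin (r + 1)) k) M]
    [IsScalarTower k (MvPolynomial (Fin (r + 1)) k) M] [Module.Finite (MvPolynomial (Fin (r + 1)) k) M]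
    (ℳ : ℤ → Submodule k M) [DirectSum.Decomposition ℳ] [SetLike.GradedSMul (GrSyz.stdGr k (Fin (r + 1))) ℳ]
    (x : MvPolynomial (Fin (r + 1)) k) (hx : x ∈ GrSyz.stdGr k (Fin (r + 1)) 1)
    (hq : IsFiniteLength (MvPolynomial (Fin (r + 1)) k) ↥(Submodule.torsionBy (MvPolynomial (Fin (r + 1)) k) M x))
    (N : Type u) [AddCommGroup N] [Module k N] [Module (MvPolynomial (Fin (r + 1)) k) N]
    [IsScalarTower k (MvPolynomial (Fin (r + 1)) k) N] [Module.Finite (MvPolynomial (Fin (r + 1)) k) N]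
    (𝒩 : ℤ → Submodule k N) [DirectSum.Decomposition 𝒩] [SetLike.GradedSMul (GrSyz.stdGr k (Fin (r + 1))) 𝒩]
    (π : M →ₗ[MvPolynomial (Fin (r + 1)) k] N) (hπ : Function.Surjective π) (hπg : GrLC.IsGrHom ℳ 𝒩 π)
    (hker : LinearMap.ker π = LinearMap.range (x • (LinearMap.id : M →ₗ[MvPolynomial (Fin (r + 1)) k] M)))
    (E : GrLC.StarInjRes (GrSyz.stdGr k (Fin (r + 1))) ℳ) (E' : GrLC.StarInjRes (GrSyz.stdGr k (Fin (r + 1))) 𝒩) (d : ℤ) :
    (GrLC.endDeg (E.Hgr (GrSyz.irrel (GrSyz.stdGr k (Fin (r + 1)))) 0) ≤ ((d : WithTop ℤ) : WithBot (WithTop ℤ)) ∧ ∀ i : ℕ, 0 < i → E.Hcomp (GrSyz.irrel (GrSyz.stdGr k (Fin (r + 1)))) i (d - (i : ℤ) + 1) = ⊥) ↔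
      ((GrLC.endDeg (E'.Hgr (GrSyz.irrel (GrSyz.stdGr k (Fin (r + 1)))) 0) ≤ ((d : WithTop ℤ) : WithBot (WithTop ℤ)) ∧ ∀ i : ℕ, 0 < i → E'.Hcomp (GrSyz.irrel (GrSyz.stdGr k (Fin (r + 1)))) i (d - (i : ℤ) + 1) = ⊥) ∧
        GrLC.endDeg (E.Hgr (GrSyz.irrel (GrSyz.stdGr k (Fin (r + 1)))) 0) ≤ ((d : WithTop ℤ) : WithBot (WithTop ℤ))) := by
  have hpos : ∀ n : ℤ, n < 0 → ∀ p ∈ GrSyz.stdGr k (Fin (r + 1)) n, p = 0 := fun n hn p hp => by
    refine MvPolynomial.IsWeightedHomogeneous.eq_zero_of_no_monomials hp fun m hm => ?_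
    rw [Finsupp.weight_apply, Finsupp.sum] at hm
    have : (0 : ℤ) ≤ ∑ j ∈ m.support, m j • (1 : ℤ) := Finset.sum_nonneg fun j _ => by positivity
    omega
  have hhom : (GrSyz.irrel (GrSyz.stdGr k (Fin (r + 1)))).toIdeal =
      Ideal.span (GrSyz.stdGr k (Fin (r + 1)) 1 : Set (MvPolynomial (Fin (r + 1)) k)) := by
    refine le_antisymm (Ideal.span_le.2 ?_) (Ideal.span_mono fun p hp => ⟨1, one_pos, hp⟩)
    rintro p ⟨n, hn, hp⟩
    refine Ideal.span_mono (s := MvPolynomial.X '' (Set.univ : Set (Fin (r + 1)))) ?_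
      (MvPolynomial.mem_ideal_span_X_image.2 fun m hm => ?_)
    · rintro _ ⟨j, -, rfl⟩
      exact MvPolynomial.isWeightedHomogeneous_X k (fun _ : Fin (r + 1) => (1 : ℤ)) j
    · have hw := hp (MvPolynomial.mem_support_iff.1 hm)
      by_contra! h
      rw [show m = 0 from Finsupp.ext fun j => h j (Set.mem_univ j), map_zero] at hw
      omega
  haveI : Module.Finite (MvPolynomial (Fin (r + 1)) k)
      (GrInjLib.addG (GrSyz.stdGr k (Fin (r + 1))) ℳ).carrier :=
    inferInstanceAs (Module.Finite (MvPolynomial (Fin (r + 1)) k) M)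
  have ha : (GrSyz.irrel (GrSyz.stdGr k (Fin (r + 1)))).toIdeal = Ideal.span
      (⋃ n ∈ Set.Ioi (0 : ℤ), (GrSyz.stdGr k (Fin (r + 1)) n : Set (MvPolynomial (Fin (r + 1)) k))) := by
    show Ideal.span _ = Ideal.span _
    congr 1
    ext p
    simp
  simp only [← GrInjLib.van_iff E, ← GrInjLib.van_iff E']
  refine Iff.trans ?_ ((GrInjLib.regular_iff hpos hhom
    (M := GrInjLib.addG (GrSyz.stdGr k (Fin (r + 1))) ℳ)
    (N := GrInjLib.addG (GrSyz.stdGr k (Fin (r + 1))) 𝒩) hx hq hπ hπg hker ha d).trans ?_)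
  · exact and_congr_left' (GrInjLib.van_endDeg (GrInjLib.addRes ℳ E) 0 d)
  · exact and_congr (and_congr_left' (GrInjLib.van_endDeg (GrInjLib.addRes 𝒩 E') 0 d).symm)
      (GrInjLib.van_endDeg (GrInjLib.addRes ℳ E) 0 d).symm

end Groth.Agent.S15420
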