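import Groth.Statements.S15423
import Groth.Agent.GrRegLib.Poly

set_option autoImplicit false
universe u
open GrSyz

namespace Groth.Agent.S15423
open GrInjLib GrInjLib.Poly


/-- Let k be a field, S = k[x_0, …, x_r] graded by degree, 𝔪 = (x_0, …, x_r), M a finitely generated
ℤ-graded S-module and F a minimal graded free resolution of M by finite-rank free modules with
homogeneous bases (all matrix entries in 𝔪). Then the Castelnuovo–Mumford regularity of M (an
extended integer) is the supremum over i ≥ 0 of t_i − i, where t_i is the largest degree of a basis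
vector of F_i, that is the largest nonzero degree of Tor_i^S(M, k) (−∞ when F_i = 0). In particular
the value does not depend on the minimal resolution chosen. -/
theorem result (k : Type u) [Field k] (r : ℕ)
    (M : Type u) [AddCommGroup M] [Module k M] [Module (MvPolynomial (Fin (r + 1)) k) M]
    [IsScalarTower k (MvPolynomial (Fin (r + 1)) k) M] [Module.Finite (MvPolynomial (Fin (r + 1)) k) M]
    (ℳ : ℤ → Submodule k M) [DirectSum.Decomposition ℳ] [SetLike.GradedSMul (GrSyz.stdGr k (Fin (r + 1))) ℳ]
    (F : GrSyz.FreeRes (GrSyz.stdGr k (Fin (r + 1))) ℳ) (hF : F.IsMinimal (GrSyz.irrel (GrSyz.stdGr k (Fin (r + 1)))).toIdeal) :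
    GrSyz.reg (GrSyz.stdGr k (Fin (r + 1))) ℳ (GrSyz.irrel (GrSyz.stdGr k (Fin (r + 1)))).toIdeal =
      ⨆ i : ℕ, WithBot.map (fun t : ℤ => ((t - (i : ℤ) : ℤ) : WithTop ℤ)) (F.maxGenDeg i) := by
  refine GrInjLib.Poly.eq_of_forall_le_iff fun d => (reg_le_iff d).trans ((genLE_iff F hF d).symm.trans ?_)
  rw [iSup_le_iff]
  refine forall_congr' fun i => ?_
  cases hmax : F.maxGenDeg i with
  | bot =>
    refine ⟨fun _ => by simp, fun _ b => ?_⟩
    have := Finset.le_sup (f := fun b : Fin (F.rk i) => (F.deg i b : WithBot ℤ)) (Finset.mem_univ b)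
    rw [show (Finset.univ.sup fun b : Fin (F.rk i) => (F.deg i b : WithBot ℤ)) = ⊥ from hmax] at this
    simp at this
  | coe t =>
    rw [WithBot.map_coe, WithBot.coe_le_coe, WithTop.coe_le_coe]
    refine ⟨fun h => ?_, fun h b => ?_⟩
    · have : F.maxGenDeg i ≤ ((d + i : ℤ) : WithBot ℤ) :=
        Finset.sup_le fun b _ => WithBot.coe_le_coe.2 (h b)
      rw [hmax, WithBot.coe_le_coe] at this
      omega
    · have := Finset.le_sup (f := fun b : Fin (F.rk i) => (F.deg i b : WithBot ℤ)) (Finset.mem_univ b)
      rw [show (Finset.univ.sup fun b : Fin (F.rk i) => (F.deg i b : WithBot ℤ)) = t from hmax,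
        WithBot.coe_le_coe] at this
      omega

end Groth.Agent.S15423
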