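import Groth.Statements.S15432
import Groth.Agent.HBLib.Combi
import Groth.Agent.HBLib.Points
-- import your own Groth.Agent.* helpers here

set_option autoImplicit false
universe u
open GrSyz

namespace Groth.Agent.S15432
open Matrix Groth.Agent.GrSyzLib

/-- Let k be a field, Z a nonempty finite set of nonzero vectors of k^3, regarded as points of the
projective plane, I ⊆ S = k[x_0, x_1, x_2] the homogeneous vanishing ideal of Z (a polynomial lies
in I exactly when each of its homogeneous components vanishes at every vector of Z), M = S/I given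
as a ℤ-graded S-module with a surjective degree-preserving S-linear map π : S → M with kernel I, and
F a minimal graded free resolution of M of length at most 2 whose terms F_1 and F_2 have ranks t + 1
and t, with basis degrees a_1 ≥ … ≥ a_{t+1} for F_1 and b_1 ≥ … ≥ b_t for F_2 (non-increasing along
the chosen bases), so that the (i, j) entry of the matrix F_2 → F_1 has degree b_j − a_i. Put e_i =
b_i − a_i and f_i = b_i − a_{i+1}. Then e_i ≥ 1 and f_i ≥ 1 for every i, and Σ_i a_i = Σ_j b_j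
(equivalently a_i = Σ_{j < i} e_j + Σ_{j ≥ i} f_j for every i). (The ordering of both bases is the
standing assumption under which the published statement is made; this row carries it as the
hypotheses on the basis degrees. The further inequalities f_i ≥ e_i and f_i ≥ e_{i+1} follow at once
from the ordering and are not restated.) -/
theorem result (k : Type u) [Field k]
    (Z : Finset (Fin 3 → k)) (hZ : ∀ p ∈ Z, p ≠ 0) (hZne : Z.Nonempty) (I : Ideal (MvPolynomial (Fin 3) k))
    (hI : ∀ f : MvPolynomial (Fin 3) k, f ∈ I ↔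
      ∀ p ∈ Z, ∀ j : ℕ, MvPolynomial.eval p (MvPolynomial.homogeneousComponent j f) = 0)
    (M : Type u) [AddCommGroup M] [Module k M] [Module (MvPolynomial (Fin 3) k) M] [IsScalarTower k (MvPolynomial (Fin 3) k) M]
    (ℳ : ℤ → Submodule k M) [DirectSum.Decomposition ℳ] [SetLike.GradedSMul (GrSyz.stdGr k (Fin 3)) ℳ]
    (π : MvPolynomial (Fin 3) k →ₗ[MvPolynomial (Fin 3) k] M) (hπ : Function.Surjective π)
    (hπg : GrLC.IsGrHom (GrSyz.stdGr k (Fin 3)) ℳ π) (hker : LinearMap.ker π = I)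
    (F : GrSyz.FreeRes (GrSyz.stdGr k (Fin 3)) ℳ) (hF : F.IsMinimal (GrSyz.irrel (GrSyz.stdGr k (Fin 3))).toIdeal) (hlen : F.HasLengthLE 2)
    (t : ℕ) (h1 : F.rk 1 = t + 1) (h2 : F.rk 2 = t)
    (ha : ∀ i j : Fin (t + 1), i ≤ j → F.deg 1 (Fin.cast h1.symm j) ≤ F.deg 1 (Fin.cast h1.symm i))
    (hb : ∀ i j : Fin t, i ≤ j → F.deg 2 (Fin.cast h2.symm j) ≤ F.deg 2 (Fin.cast h2.symm i)) :
    (∀ i : Fin t, 1 ≤ F.deg 2 (Fin.cast h2.symm i) - F.deg 1 (Fin.cast h1.symm i.castSucc) ∧
        1 ≤ F.deg 2 (Fin.cast h2.symm i) - F.deg 1 (Fin.cast h1.symm i.succ)) ∧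
      ∑ i : Fin (t + 1), F.deg 1 (Fin.cast h1.symm i) = ∑ j : Fin t, F.deg 2 (Fin.cast h2.symm j) := by
  classical
  let S := MvPolynomial (Fin 3) k
  let 𝔪 := (GrSyz.irrel (GrSyz.stdGr k (Fin 3))).toIdeal
  have h𝔪 : 𝔪 = RingHom.ker (MvPolynomial.constantCoeff : S →+* k) := irrel_eq_ker (r := 2)
  have hcc : ∀ (i : ℕ) a b, MvPolynomial.constantCoeff (F.d i a b) = 0 := fun i a b =>
    RingHom.mem_ker.1 (h𝔪 ▸ hF i a b)
  have h0I : ∀ f ∈ I, MvPolynomial.constantCoeff f = 0 := fun f => HBLib.constantCoeff_eq_zero Z I hI hZne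
  have hzero : ∀ (f : S) (n : ℤ), f ∈ GrSyz.stdGr k (Fin 3) n → n ≤ 0 → MvPolynomial.constantCoeff f = 0 → f = 0 := by
    intro f n hf hn hc
    ext d
    rw [MvPolynomial.coeff_zero]
    by_contra hd
    have h := hf hd
    simp only [Finsupp.weight, Finsupp.linearCombination_apply, LinearMap.toAddMonoidHom_coe,
      Finsupp.sum, smul_eq_mul, mul_one, nsmul_eq_mul] at h
    have hd0 : d ≠ 0 := fun h0 => hd (by rw [h0]; simpa [MvPolynomial.constantCoeff_eq] using hc)
    obtain ⟨a, ha⟩ := Finsupp.support_nonempty_iff.2 hd0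
    have h1 : (1 : ℤ) ≤ ∑ x ∈ d.support, ((d x : ℕ) : ℤ) := by
      refine le_trans ?_ (Finset.single_le_sum (f := fun x => ((d x : ℕ) : ℤ)) (fun i _ => Int.natCast_nonneg _) ha)
      exact_mod_cast Nat.one_le_iff_ne_zero.2 (Finsupp.mem_support_iff.1 ha)
    omega
  -- the generators in degree zero
  choose p hp using fun b => hπ (F.aug b)
  have haug : ∀ v : Fin (F.rk 0) → S, F.augLin v = π (∑ b, v b * p b) := fun v => by
    rw [FreeRes.augLin, Fintype.linearCombination_apply, map_sum]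
    refine Finset.sum_congr rfl fun b _ => ?_
    rw [← smul_eq_mul, map_smul, hp]
  have hmin0 : ∀ v : Fin (F.rk 0) → S, F.augLin v = 0 → ∀ b, MvPolynomial.constantCoeff (v b) = 0 := by
    intro v hv b
    have hv' : v ∈ LinearMap.range (Matrix.mulVecLin (F.d 0)) := F.exact_zero ▸ hv
    obtain ⟨w, rfl⟩ := hv'
    show MvPolynomial.constantCoeff (∑ c, F.d 0 b c * w c) = 0
    rw [map_sum]
    exact Finset.sum_eq_zero fun c _ => by rw [map_mul, hcc, zero_mul]
  obtain ⟨v₁, hv₁⟩ := F.aug_surjective (π 1)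
  have hv₁' : ∑ b, MvPolynomial.constantCoeff (v₁ b) * MvPolynomial.constantCoeff (p b) = 1 := by
    have hmem : (∑ b, v₁ b * p b) - 1 ∈ I := by
      rw [← hker, LinearMap.mem_ker, map_sub, ← haug, hv₁, sub_self]
    have := h0I _ hmem
    rwa [map_sub, map_sum, map_one, sub_eq_zero, Finset.sum_congr rfl fun b _ => map_mul _ _ _] at this
  have hdist : ∀ a b : Fin (F.rk 0), a ≠ b → MvPolynomial.constantCoeff (p a) = 0 := by
    intro a b hab
    have h := hmin0 (p a • Pi.single b 1 - p b • Pi.single a 1) (by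
      rw [haug]
      simp [sub_mul, Finset.sum_sub_distrib, Pi.single_apply, mul_comm (p a) (p b)]) b
    simpa [hab.symm] using h
  have hrk0 : F.rk 0 = 1 := by
    rcases Nat.lt_trichotomy (F.rk 0) 1 with h | h | h
    · exfalso
      haveI : IsEmpty (Fin (F.rk 0)) := by
        rw [show F.rk 0 = 0 by omega]; infer_instance
      simp at hv₁'
    · exact h
    · exfalso
      haveI : Nontrivial (Fin (F.rk 0)) := Fin.nontrivial_iff_two_le.2 h
      have hall : ∀ b, MvPolynomial.constantCoeff (p b) = 0 := fun b => by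
        obtain ⟨a, ha⟩ := exists_ne b
        exact hdist b a ha.symm
      simp [hall] at hv₁'
  let e₀ : Fin (F.rk 0) := Fin.cast hrk0.symm 0
  have huniv : ∀ b : Fin (F.rk 0), b = e₀ := fun b => Fin.ext (by
    have := b.2
    simp only [e₀, Fin.val_cast, Fin.val_zero]
    omega)
  have hsum0 : ∀ f : Fin (F.rk 0) → k, ∑ b, f b = f e₀ := fun f =>
    Finset.sum_eq_single e₀ (fun b _ h => absurd (huniv b) h) fun h => absurd (Finset.mem_univ _) h
  have hdeg0 : F.deg 0 e₀ = 0 := by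
    by_contra hne
    rw [hsum0] at hv₁'
    have h1 : ∀ y : S, π (DirectSum.decompose (GrSyz.stdGr k (Fin 3)) y 0 : S) =
        (DirectSum.decompose ℳ (π y) 0 : M) := fun y => by
      induction y using DirectSum.Decomposition.inductionOn (GrSyz.stdGr k (Fin 3)) with
      | zero => simp
      | @homogeneous a z =>
        rcases eq_or_ne a 0 with rfl | hne
        · rw [DirectSum.decompose_of_mem_same _ z.2, DirectSum.decompose_of_mem_same _ (hπg _ _ z.2)]
        · rw [DirectSum.decompose_of_mem_ne _ z.2 hne, DirectSum.decompose_of_mem_ne _ (hπg _ _ z.2) hne, map_zero]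
      | add a b ha hb =>
        simp only [DirectSum.decompose_add, DirectSum.add_apply, Submodule.coe_add, map_add, ha, hb]
    have h2 := h1 (p e₀)
    rw [hp, DirectSum.decompose_of_mem_ne _ (F.aug_mem e₀) hne, ← LinearMap.mem_ker, hker] at h2
    have h3 := h0I _ h2
    have h4 : MvPolynomial.constantCoeff (DirectSum.decompose (GrSyz.stdGr k (Fin 3)) (p e₀) 0 : S) =
        MvPolynomial.constantCoeff (p e₀) := by
      have hgen : ∀ y : S, MvPolynomial.constantCoeff (DirectSum.decompose (GrSyz.stdGr k (Fin 3)) y 0 : S) =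
          MvPolynomial.constantCoeff y := fun y => by
        induction y using DirectSum.Decomposition.inductionOn (GrSyz.stdGr k (Fin 3)) with
        | zero => simp
        | @homogeneous a z =>
          rcases eq_or_ne a 0 with rfl | hne
          · rw [DirectSum.decompose_of_mem_same _ z.2]
          · rw [DirectSum.decompose_of_mem_ne _ z.2 hne, map_zero]
            by_contra h5
            have h6 := z.2 (d := 0) (by rw [← MvPolynomial.constantCoeff_eq]; exact fun h => h5 h.symm)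
            simp at h6
            exact hne h6.symm
        | add a b ha hb =>
          simp only [DirectSum.decompose_add, DirectSum.add_apply, Submodule.coe_add, map_add, ha, hb]
      exact hgen _
    rw [h4] at h3
    rw [h3, mul_zero] at hv₁'
    exact zero_ne_one hv₁'
  -- the matrices
  let φ : Matrix (Fin (t + 1)) (Fin t) S := Matrix.of fun a b => F.d 1 (Fin.cast h1.symm a) (Fin.cast h2.symm b)
  let ψ : Fin (t + 1) → S := fun a => F.d 0 e₀ (Fin.cast h1.symm a)
  let e1 : Fin (t + 1) ≃ Fin (F.rk 1) := finCongr h1.symm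
  let e2 : Fin t ≃ Fin (F.rk 2) := finCongr h2.symm
  have hφ : ∀ (w : Fin (F.rk 2) → S) a, (φ *ᵥ (w ∘ e2)) a = (F.d 1 *ᵥ w) (e1 a) := fun w a =>
    Fintype.sum_equiv e2 _ _ fun b => rfl
  have hψ : ∀ v : Fin (F.rk 1) → S, ∑ a, ψ a * v (e1 a) = (F.d 0 *ᵥ v) e₀ := fun v =>
    Fintype.sum_equiv e1 _ _ fun b => rfl
  have hd1 : ∀ w : Fin (F.rk 2) → S, F.d 1 *ᵥ w = 0 → w = 0 := fun w hw => by
    haveI : IsEmpty (Fin (F.rk (1 + 1 + 1))) := by
      rw [hlen (1 + 1 + 1) (by norm_num)]; infer_instance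
    have hw' : w ∈ LinearMap.range (Matrix.mulVecLin (F.d (1 + 1))) := F.exact_succ 1 ▸ hw
    obtain ⟨x, rfl⟩ := hw'
    funext a
    show ∑ c, F.d (1 + 1) a c * x c = 0
    exact Finset.sum_eq_zero fun c _ => isEmptyElim c
  have hinj : ∀ w : Fin t → S, φ *ᵥ w = 0 → w = 0 := fun w hw => by
    have h := hd1 (w ∘ e2.symm) (funext fun a => by
      obtain ⟨a, rfl⟩ := e1.surjective a
      rw [← hφ]
      simp [Function.comp_assoc, hw])
    funext b
    simpa using congrFun h (e2 b)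
  have hψφ : ∀ w : Fin t → S, ∑ a, ψ a * (φ *ᵥ w) a = 0 := fun w => by
    have h : F.d 0 *ᵥ (F.d 1 *ᵥ (w ∘ e2.symm)) = 0 := by
      have : F.d 1 *ᵥ (w ∘ e2.symm) ∈ LinearMap.ker (Matrix.mulVecLin (F.d 0)) := by
        rw [F.exact_succ 0]; exact ⟨_, rfl⟩
      exact this
    have h' := congrFun h e₀
    rw [← hψ] at h'
    simpa [← hφ, Function.comp_assoc] using h'
  have hker1 : ∀ v : Fin (t + 1) → S, ∑ a, ψ a * v a = 0 → ∃ w, φ *ᵥ w = v := fun v hv => by
    have : (v ∘ e1.symm) ∈ LinearMap.range (Matrix.mulVecLin (F.d (0 + 1))) := by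
      rw [← F.exact_succ 0]
      show F.d 0 *ᵥ (v ∘ e1.symm) = 0
      funext b
      rw [huniv b, ← hψ]
      simpa using hv
    obtain ⟨w, hw⟩ := this
    refine ⟨w ∘ e2, funext fun a => ?_⟩
    rw [hφ]
    simpa using congrFun hw (e1 a)
  have hsplit : ∀ q : S, Prime q → ∃ (g : S) (W : Matrix (Fin t) (Fin (t + 1)) S), ¬ q ∣ g ∧ W * φ = g • 1 := by
    intro q hq
    obtain ⟨g, hgI, hqg⟩ := HBLib.exists_mem_not_dvd Z I hI hZ q hq
    have hgM : F.augLin (g • Pi.single e₀ 1) = 0 := by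
      rw [haug, ← LinearMap.mem_ker, hker]
      refine I.sum_mem fun b _ => ?_
      rw [huniv b, Pi.smul_apply, Pi.single_eq_same, smul_eq_mul, mul_one]
      exact I.mul_mem_right _ hgI
    have : g • Pi.single e₀ 1 ∈ LinearMap.range (Matrix.mulVecLin (F.d 0)) := F.exact_zero ▸ hgM
    obtain ⟨h, hh⟩ := this
    obtain ⟨W, hW⟩ := HBLib.exists_split ψ φ hψφ hker1 hinj g (h ∘ e1) (by
      have := congrFun hh e₀
      rw [Pi.smul_apply, Pi.single_eq_same, smul_eq_mul, mul_one] at this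
      rw [← this]
      exact hψ h)
    exact ⟨g, W, hqg, hW⟩
  have h𝔪t : 𝔪 ≠ ⊤ := by
    rw [h𝔪]; exact RingHom.ker_ne_top _
  have hmain : ∀ i : Fin t, F.deg 1 (Fin.cast h1.symm i.castSucc) < F.deg 2 (Fin.cast h2.symm i) := fun i =>
    HBLib.lt_deg 𝔪 h𝔪t (fun a => F.deg 1 (Fin.cast h1.symm a)) (fun b => F.deg 2 (Fin.cast h2.symm b)) ha hb φ
      (fun a b => hF 1 _ _) (fun a b h => hzero _ _ (F.d_mem 1 _ _) (sub_nonpos.2 h) (hcc 1 _ _)) hinj hsplit i
  refine ⟨fun i => ⟨by linarith [hmain i], ?_⟩, ?_⟩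
  · have h := hmain i
    have h' := ha i.castSucc i.succ (by rw [Fin.le_def]; simp)
    linarith
  -- the Hilbert function
  have hA : ∀ d : ℤ, (∀ i b, F.deg i b ≤ d + 2) → ((2 : ℤ) * (Module.finrank k ↥(ℳ d) : ℤ)) =
      (d + 2) * (d + 1) - ∑ a : Fin (F.rk 1), (d - F.deg 1 a + 2) * (d - F.deg 1 a + 1) +
        ∑ b : Fin (F.rk 2), (d - F.deg 2 b + 2) * (d - F.deg 2 b + 1) := by
    intro d hd
    have hcnt : ∀ g : ℤ, -2 ≤ g → (2 : ℤ) * (cnt 2 g : ℤ) = (g + 2) * (g + 1) := by
      intro g hg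
      unfold cnt
      split_ifs with h
      · lift g to ℕ using h
        rw [Int.toNat_natCast, Nat.choose_two_right]
        have h2dvd : 2 ∣ (2 + g) * (2 + g - 1) := (Nat.even_mul_pred_self _).two_dvd
        have := Nat.div_mul_cancel h2dvd
        have e : ((((2 + g) * (2 + g - 1) / 2 : ℕ) : ℤ)) * 2 = (((2 + g) * (2 + g - 1) : ℕ) : ℤ) := by exact_mod_cast this
        rw [mul_comm, e, Nat.cast_mul, Nat.cast_sub (by omega : 1 ≤ 2 + g)]
        push_cast
        ring
      · interval_cases g <;> simp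
    have hterm : ∀ i, (2 : ℤ) * termCnt F i d = ∑ b, (d - F.deg i b + 2) * (d - F.deg i b + 1) := fun i => by
      rw [termCnt, Finset.mul_sum]
      exact Finset.sum_congr rfl fun b _ => hcnt _ (by linarith [hd i b])
    have h := hilbert_eq (r := 2) F hlen d
    rw [Finset.sum_range_succ, Finset.sum_range_succ, Finset.sum_range_one] at h
    have h0 : ∑ b : Fin (F.rk 0), (d - F.deg 0 b + 2) * (d - F.deg 0 b + 1) = (d + 2) * (d + 1) := by
      rw [Finset.sum_eq_single e₀ (fun b _ hb' => absurd (huniv b) hb') (fun h' => absurd (Finset.mem_univ _) h'), hdeg0]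
      ring
    rw [h, ← h0, ← hterm 0, ← hterm 1, ← hterm 2]
    ring
  obtain ⟨D, hD⟩ : ∃ D : ℕ, ∀ i b, F.deg i b ≤ (D : ℤ) := by
    refine ⟨(∑ i ∈ Finset.range 3, ∑ b, (F.deg i b).natAbs), fun i b => ?_⟩
    have hi : i ∈ Finset.range 3 := Finset.mem_range.2 (by
      by_contra hi
      have := hlen i (by omega)
      exact absurd b.2 (by omega))
    refine Int.le_natAbs.trans (Int.ofNat_le.2 ?_)
    exact (Finset.single_le_sum (f := fun b => (F.deg i b).natAbs) (fun _ _ => Nat.zero_le _) (Finset.mem_univ b)).trans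
      (Finset.single_le_sum (f := fun i => ∑ b, (F.deg i b).natAbs) (fun _ _ => Nat.zero_le _) hi)
  let N : ℕ := Z.card + 1
  have hA1 := hA (D : ℤ) fun i b => by linarith [hD i b]
  have hA2 := hA ((D + N : ℕ) : ℤ) fun i b => by
    push_cast
    linarith [hD i b, Int.natCast_nonneg N]
  have hb1 := HBLib.finrank_le Z I hI π hπ hπg hker D
  have hb2 := HBLib.finrank_le Z I hI π hπ hπg hker (D + N)
  set SA := ∑ a : Fin (t + 1), F.deg 1 (Fin.cast h1.symm a) with hSA
  set SB := ∑ b : Fin t, F.deg 2 (Fin.cast h2.symm b) with hSB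
  have hexp : ∀ (n : ℕ) (f : Fin n → ℤ) (d : ℤ), ∑ a, (d - f a + 2) * (d - f a + 1) =
      (n : ℤ) * ((d + 2) * (d + 1)) - (2 * d + 3) * ∑ a, f a + ∑ a, f a * f a := by
    intro n f d
    rw [Finset.mul_sum, show (n : ℤ) * ((d + 2) * (d + 1)) = ∑ _a : Fin n, (d + 2) * (d + 1) by simp,
      ← Finset.sum_sub_distrib, ← Finset.sum_add_distrib]
    exact Finset.sum_congr rfl fun a _ => by ring
  have hs1 : ∑ a, F.deg 1 a = SA := (Fintype.sum_equiv e1 _ _ fun a => rfl).symm
  have hs2 : ∑ b, F.deg 2 b = SB := (Fintype.sum_equiv e2 _ _ fun a => rfl).symm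
  simp only [hexp, hs1, hs2, h1, h2, Nat.cast_add, Nat.cast_one] at hA1 hA2
  have hkey : (N : ℤ) * (SA - SB) = (Module.finrank k ↥(ℳ ((D + N : ℕ) : ℤ)) : ℤ) - (Module.finrank k ↥(ℳ (D : ℤ)) : ℤ) := by
    push_cast at hA2 ⊢
    linarith
  by_contra hne
  have h1' : (1 : ℤ) ≤ |SA - SB| := Int.one_le_abs (sub_ne_zero.2 hne)
  have hN : (N : ℤ) ≤ |(N : ℤ) * (SA - SB)| := by
    rw [abs_mul, Nat.abs_cast]
    exact le_mul_of_one_le_right (Int.natCast_nonneg N) h1'
  rw [hkey] at hN
  have : |(Module.finrank k ↥(ℳ ((D + N : ℕ) : ℤ)) : ℤ) - (Module.finrank k ↥(ℳ (D : ℤ)) : ℤ)| ≤ (Z.card : ℤ) := by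
    rw [abs_le]
    constructor <;> omega
  simp only [N] at hN this
  push_cast at hN this
  linarith

end Groth.Agent.S15432
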