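import Groth.Statements.S15435
import Groth.Agent.GrSyzLib.CMMain
import Groth.Agent.S15418
-- import your own Groth.Agent.* helpers here

set_option autoImplicit false
set_option backward.isDefEq.respectTransparency false
set_option maxHeartbeats 800000
set_option synthInstance.maxHeartbeats 200000
universe u
open GrSyz

namespace Groth.Agent.S15435

open Groth.Agent CategoryTheory
set_option backward.isDefEq.respectTransparency false
set_option maxHeartbeats 800000

/-- Let k be a field, S = k[x_0, …, x_r] graded by degree, 𝔪 = (x_0, …, x_r), and M a finitely generated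
ℤ-graded S-module; M̃ and the M(d)~ denote the O-modules on P^r_k associated with the pieces M_n, n
≥ 0 (they depend only on the pieces of large degree), with the canonical maps M_d → H^0(P^r_k,
M(d)~); graded local cohomology is computed from any *injective resolution in the graded category;
let d ≥ 0. Then M is d-regular, that is H^0_𝔪(M) has no nonzero piece above degree d and H^i_𝔪(M)
vanishes in degree d − i + 1 for every i > 0, if and only if: (1) the sheaf M̃ is d-regular,
H^i(P^r_k, M̃(d − i)) = 0 for 1 ≤ i ≤ r; (2) H^0_𝔪(M) vanishes in every degree e > d; and (3) the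
canonical map from M_d to the global sections of M(d)~ is surjective. (The published statement
allows any integer d; it is stated here for d ≥ 0.) -/
theorem result (k : Type u) [Field k] (r : ℕ)
    (M : Type u) [AddCommGroup M] [Module k M] [Module (MvPolynomial (Fin (r + 1)) k) M]
    [IsScalarTower k (MvPolynomial (Fin (r + 1)) k) M] [Module.Finite (MvPolynomial (Fin (r + 1)) k) M]
    (ℳ : ℤ → Submodule k M) [DirectSum.Decomposition ℳ] [SetLike.GradedSMul (GrSyz.stdGr k (Fin (r + 1))) ℳ]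
    [SetLike.GradedSMul (CohB1.polyGrading r k) (fun n : ℕ => ℳ (n : ℤ))]
    (E : GrLC.StarInjRes (GrSyz.stdGr k (Fin (r + 1))) ℳ) (d : ℕ) :
    (GrLC.endDeg (E.Hgr (GrSyz.irrel (GrSyz.stdGr k (Fin (r + 1)))) 0) ≤ (((d : ℤ) : WithTop ℤ) : WithBot (WithTop ℤ)) ∧
        ∀ i : ℕ, 0 < i → E.Hcomp (GrSyz.irrel (GrSyz.stdGr k (Fin (r + 1)))) i ((d : ℤ) - (i : ℤ) + 1) = ⊥) ↔
      (Curv2.IsMRegular k r (GrTilde.tilde (CohB1.polyGrading r k) (fun n : ℕ => ℳ (n : ℤ)) 0) (d : ℤ) ∧
        (∀ e : ℤ, (d : ℤ) < e → E.Hcomp (GrSyz.irrel (GrSyz.stdGr k (Fin (r + 1)))) 0 e = ⊥) ∧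
        Function.Surjective (fun m : ↥(ℳ ((d : ℕ) : ℤ)) => GrTilde.globalOf (CohB1.polyGrading r k) (fun n : ℕ => ℳ (n : ℤ)) m)) := by
  classical
  obtain ⟨F, hF, hL⟩ := GrSyzLib.exists_res_hasLengthLE (k := k) (r := r) (M := M) (ℳ := ℳ)
  refine (S15418.result k r M ℳ F hF E (d : ℤ)).symm.trans ⟨fun hgen => ?_, fun ⟨h1, h2, h3⟩ => ?_⟩
  · have hw := (S15418.result k r M ℳ F hF E (d : ℤ)).1 hgen
    refine ⟨GrSyzLib.isMRegular_tilde F hgen, fun e he => ?_, fun s => ?_⟩
    · exact ((GrInjLib.van_endDeg (GrInjLib.addRes ℳ E) 0 (d : ℤ)).1 hw.1 e he) (GrInjLib.addRes ℳ E)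
    · obtain ⟨m, hm⟩ := GrSyzLib.surjective_gl F hgen hL s
      exact ⟨m, (GrSyzLib.globalOf_eq_gl (k := k) (r := r) (𝒩 := fun n : ℕ => ℳ (n : ℤ)) m).trans hm⟩
  · refine GrSyzLib.isGenLE_of_cond F hF (GrSyzLib.cond_of_sheaf h1 (GrSyzLib.isCoh_module F)
      (fun e he => GrInjLib.Van.of_res (GrInjLib.addRes ℳ E) (h2 e he)) fun s => ?_)
    obtain ⟨m, hm⟩ := h3 s
    exact ⟨m, (GrSyzLib.globalOf_eq_gl (k := k) (r := r) (𝒩 := fun n : ℕ => ℳ (n : ℤ)) m).symm.trans hm⟩

end Groth.Agent.S15435
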