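import Groth.Statements.S1544
import Mathlib
import Groth.Agent.GeomRedPtLib.Basic
import Groth.Agent.S1543

set_option autoImplicit false
universe u
open CategoryTheory CategoryTheory.Limits AlgebraicGeometry
attribute [local instance] Curv2.resAlgebra Curv2.stalkAlgebra
open Variety

namespace Groth.Agent.S1544

/-- For an integral scheme over k, geometric reducedness of the scheme is equivalent to geometric
reducedness over k of the function field (the local ring at the generic point), i.e. a separable
extension of k in the sense of commutative algebra. The source states this for varieties;
integrality is what the proof uses. -/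
theorem result (k : Type u) [Field k] (X : Scheme.{u}) [X.Over (Spec (CommRingCat.of k))] [IsIntegral X] :
    GeometricallyReduced (X ↘ (Spec (CommRingCat.of k))) ↔ Algebra.IsGeometricallyReduced k X.functionField := by
  refine ⟨fun h => (Groth.Agent.GeomRedPtLib.isGeomReducedAt_iff (genericPoint X)).mp
    (Groth.Agent.GeomRedPtLib.geometricallyReduced_iff_forall.mp h _), fun h => ?_⟩
  refine Groth.Agent.S1543.result k X fun Z hZ η hη => ?_
  have hZu : Z = Set.univ := by
    have h1 := irreducibleComponents_eq_singleton (X := X)
    rw [h1] at hZ
    exact hZ
  subst hZu
  rw [hη.eq (genericPoint_spec X)]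
  exact (Groth.Agent.GeomRedPtLib.isGeomReducedAt_iff (genericPoint X)).mpr h


end Groth.Agent.S1544
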