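import Groth.Statements.S15440
import Groth.Agent.AlgEqLib.Proper
import Groth.Agent.AlgEqLib.Zero
import Groth.Agent.LinkLib.Main

set_option autoImplicit false
universe u
open AlgEqCyc

namespace Groth.Agent.S15440

open CategoryTheory CategoryTheory.Limits AlgebraicGeometry

open Groth.Agent
set_option backward.isDefEq.respectTransparency false

open AlgebraicGeometry CategoryTheory CategoryTheory.Limits in
/-- Let k be an algebraically closed field of characteristic zero and X a connected scheme, smooth and
projective over k, with structure morphism p; let δ be the weight function on X induced from weight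
0 on the point Spec k and let α be a zero-cycle on X for δ whose degree over k is zero. Then α is
algebraically equivalent to zero on X. (This is one inclusion of the published statement, which
asserts that on such an X the zero-cycles of degree zero, identified there with the homologically
trivial ones for a fixed Weil cohomology, are exactly the algebraically trivial zero-cycles; the
reverse inclusion is not stated here.) -/
theorem result (k : Type u) [Field k]
    [IsAlgClosed k] [CharZero k] (X : Scheme.{u}) (p : X ⟶ Spec (CommRingCat.of k)) [QuasiCompact p]
    (hs : Smooth p) (hp : Neron.IsProjectiveOver k (Over.mk p)) (hc : ConnectedSpace ↥X)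
    (δ : ↥X → ℤ) (hδ : Cyc.DeltaCompat p δ (fun _ => 0)) (α : AlgebraicCycle X ℤ)
    (hα : α ∈ Cyc.Zk X δ 0) (hdeg : ChowOps.deg p δ α = 0) :
    AlgEqCyc.IsAlgEquivZero p α := by
  classical
  haveI : IsProper p := AlgEqLib.isProper_of_projective hp
  refine AlgEqLib.isAlgEquivZero_of_deg p (fun a b ha hb => ?_) δ hδ α hα hdeg
  have h := LinkLib.linked p ha hb
  clear ha hb
  induction h with
  | rel a b h =>
    obtain ⟨C, q, hC, hq, hqs, hCd, U, φ, c, d, hφ, hc, hd, rfl, rfl⟩ := h
    haveI := hC
    haveI := hq
    exact AlgEqLib.isAlgEquiv_of_properCurve p q hqs hCd U φ c d hφ hc hd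
  | refl a => show _ ∈ AlgEqCyc.algTriv p; rw [sub_self]; exact zero_mem _
  | symm a b _ ih =>
    show _ ∈ AlgEqCyc.algTriv p
    rw [← neg_sub]; exact neg_mem ih
  | trans a b c _ _ ih ih' =>
    show _ ∈ AlgEqCyc.algTriv p
    rw [← sub_add_sub_cancel]; exact add_mem ih ih'


end Groth.Agent.S15440
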