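import Groth.Statements.S15459
import Groth.Agent.WeilCohLib.Graph

set_option autoImplicit false
universe u v
open CategoryTheory AlgebraicGeometry
open WeilCoh

namespace Groth.Agent.S15459

/-- In the case r = 1, to which the general case reduces once the cycle class map is known to be a ring
homomorphism: for a Weil cohomology theory H^* (coefficients in K of characteristic zero, on
nonsingular connected projective varieties over an algebraically closed field k), such a variety X
and a 0-cycle α on X, the intersection number (α) = deg(α) equals Tr_X(cl(α)). The dimension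
function δ on X is the one induced from weight 0 on Spec k and deg is the degree of 0-cycles over k. -/
theorem result (k : Type u) [Field k] [IsAlgClosed k] (K : Type v) [Field K] [CharZero K]
    (T : WeilCoh.Theory k K) (X : WeilCoh.Var k) [QuasiCompact X.obj.hom]
    (δ : ↥X.obj.left → ℤ) (hδ : Cyc.DeltaCompat X.obj.hom δ (fun _ => 0))
    (α : AlgebraicCycle X.obj.left ℤ) (hα : α ∈ Cyc.Zk X.obj.left δ 0) :
    (ChowOps.deg X.obj.hom δ α : K) = T.tr X (T.clCyc X α) := by
  classical
  set s := (Groth.Agent.WeilCohLib.support_finite X α).toFinset with hs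
  have hsub : Function.support ⇑α ⊆ ↑s := by simp [hs]
  have hdeg : ChowOps.deg X.obj.hom δ α = ∑ x ∈ s, α x * (AlgebraicCycle.mapCoeff X.obj.hom δ (fun _ => (0 : ℤ)) x : ℤ) := by
    change ∑ᶠ x ∈ (X.obj.hom) ⁻¹' {IsLocalRing.closedPoint k}, α x * (AlgebraicCycle.mapCoeff X.obj.hom δ (fun _ => (0 : ℤ)) x : ℤ) = _
    refine finsum_mem_eq_sum_of_inter_support_eq _ ?_
    ext x
    constructor
    · rintro ⟨-, h2⟩
      exact ⟨by simpa [hs] using left_ne_zero_of_mul h2, h2⟩
    · rintro ⟨-, h2⟩
      exact ⟨Subsingleton.elim (α := PrimeSpectrum k) _ _, h2⟩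
  rw [← mul_one (T.clCyc X α), Groth.Agent.WeilCohLib.tr_clCyc_eq T X α 1 s hsub, hdeg, Int.cast_sum]
  refine Finset.sum_congr rfl fun x hx => ?_
  have h0 : δ x = 0 := by
    by_contra h
    exact (by simpa [hs] using hx : α x ≠ 0) (hα x h)
  have hp : WeilCoh.pdim X.obj.left x = 0 := by
    have := Groth.Agent.WeilCohLib.delta_eq_pdim X.obj.hom δ hδ x
    omega
  have hc := (Groth.Agent.WeilCohLib.isClosed_iff_pdim_eq_zero X.obj.hom x).2 hp
  rw [mul_one, Groth.Agent.WeilCohLib.tr_cl_closed T X x hc, AlgebraicCycle.mapCoeff, if_pos h0,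
    Groth.Agent.WeilCohLib.residueDegree_closed_eq_one X.obj.hom x hc]
  simp

end Groth.Agent.S15459
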