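import Groth.Statements.S15441
import Groth.Agent.WeilCohLib.Graph
import Groth.Agent.S15459

set_option autoImplicit false
universe u v
open WeilCoh

namespace Groth.Agent.S15441

open AlgebraicGeometry CategoryTheory in
/-- Let k be an algebraically closed field of characteristic zero, K a field of characteristic zero and
T a Weil cohomology theory over k with coefficients in K, defined on connected smooth projective
varieties over k; let X be such a variety, δ the weight function on X induced from weight 0 on the
point Spec k, and α a zero-cycle on X for δ. Then α is homologically equivalent to zero for T, i.e.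
its cycle class in the cohomology of X vanishes, if and only if the degree of α over k is zero. -/
theorem result (k : Type u) [Field k] [IsAlgClosed k]
    [CharZero k] (K : Type v) [Field K] [CharZero K] (T : WeilCoh.Theory k K) (X : WeilCoh.Var k)
    [QuasiCompact X.obj.hom] (δ : ↥X.obj.left → ℤ) (hδ : Cyc.DeltaCompat X.obj.hom δ (fun _ => 0))
    (α : AlgebraicCycle X.obj.left ℤ) (hα : α ∈ Cyc.Zk X.obj.left δ 0) :
    T.IsHomEquivZero X α ↔ ChowOps.deg X.obj.hom δ α = 0 := by
  classical
  have hdeg := Groth.Agent.S15459.result k K T X δ hδ α hα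
  have hmem : T.clCyc X α ∈ T.gr X (2 * (WeilCoh.dim X.obj.left : ℤ)) := by
    rw [WeilCoh.TheoryOn.clCyc]
    refine finsum_induction (fun z => z ∈ T.gr X (2 * (WeilCoh.dim X.obj.left : ℤ))) (Submodule.zero_mem _)
      (fun a b ha hb => Submodule.add_mem _ ha hb) fun ξ => ?_
    by_cases h0 : δ ξ = 0
    · have hp := Groth.Agent.WeilCohLib.delta_eq_pdim X.obj.hom δ hδ ξ
      have hc := T.cl_mem X ξ
      have e : 2 * (WeilCoh.codim X.obj.left ξ : ℤ) = 2 * (WeilCoh.dim X.obj.left : ℤ) := by
        simp only [WeilCoh.codim]; omega
      exact Submodule.smul_mem _ _ (e ▸ hc)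
    · rw [hα ξ h0, Int.cast_zero, zero_smul]; exact Submodule.zero_mem _
  constructor
  · intro h
    have h' : T.clCyc X α = 0 := h
    rw [h', map_zero] at hdeg
    exact Int.cast_eq_zero.1 hdeg
  · intro h
    rw [h, Int.cast_zero] at hdeg
    obtain ⟨t, ht, h1⟩ := Groth.Agent.WeilCohLib.exists_top T X
    show T.clCyc X α = 0
    rw [Groth.Agent.WeilCohLib.top_eq T X hmem ht h1, ← hdeg, zero_smul]

end Groth.Agent.S15441
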