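import Groth.Statements.S15458
import Groth.Agent.WeilCohLib.Graph

set_option autoImplicit false
universe u v
open CategoryTheory AlgebraicGeometry
open WeilCoh

namespace Groth.Agent.S15458

/-- The cycle class map is compatible with push-forward: for a Weil cohomology theory H^* (coefficients
in K of characteristic zero, on nonsingular connected projective varieties over an algebraically
closed field k), a morphism f : X → Y of such varieties and a cycle α on X, f_*(cl(α)) = cl(f_*(α)).
Stated through the identity characterising the cohomological push-forward: Tr_Y(cl(f_* α) ∪ β) =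
Tr_X(cl(α) ∪ f^*(β)) for every β ∈ H^*(Y), where f_* α is the proper push-forward of cycles (the
coefficient of [V] goes to deg(V/f(V)) [f(V)], and to 0 when f(V) has smaller dimension) for the
dimension functions δ_X, δ_Y induced from weight 0 on Spec k. -/
theorem result (k : Type u) [Field k] [IsAlgClosed k] (K : Type v) [Field K] [CharZero K]
    (T : WeilCoh.Theory k K) (X Y : WeilCoh.Var k) (f : X ⟶ Y)
    [QuasiCompact (WeilCoh.sm f)]
    (δX : ↥X.obj.left → ℤ) (hδX : Cyc.DeltaCompat X.obj.hom δX (fun _ => 0))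
    (δY : ↥Y.obj.left → ℤ) (hδY : Cyc.DeltaCompat Y.obj.hom δY (fun _ => 0))
    (α : AlgebraicCycle X.obj.left ℤ) (b : T.H Y) :
    T.tr Y (T.clCyc Y (AlgebraicCycle.map (WeilCoh.sm f) δX δY α) * b) =
      T.tr X (T.clCyc X α * T.pull f b) := by
  classical
  set s := (Groth.Agent.WeilCohLib.support_finite X α).toFinset with hs
  have hsub : Function.support ⇑α ⊆ ↑s := by simp [hs]
  have hmap : ∀ y, AlgebraicCycle.map (WeilCoh.sm f) δX δY α y = ∑ x ∈ s with WeilCoh.sm f x = y,
      α x * (AlgebraicCycle.mapCoeff (WeilCoh.sm f) δX δY x : ℤ) := by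
    intro y
    change ∑ᶠ x ∈ (WeilCoh.sm f) ⁻¹' {y}, α x * (AlgebraicCycle.mapCoeff (WeilCoh.sm f) δX δY x : ℤ) = _
    refine finsum_mem_eq_sum_of_inter_support_eq _ ?_
    ext x
    constructor
    · rintro ⟨h1, h2⟩
      exact ⟨by simpa [hs] using ⟨left_ne_zero_of_mul h2, (h1 : WeilCoh.sm f x = y)⟩, h2⟩
    · rintro ⟨h1, h2⟩
      exact ⟨(Finset.mem_filter.1 h1).2, h2⟩
  have hsubY : Function.support ⇑(AlgebraicCycle.map (WeilCoh.sm f) δX δY α) ⊆ ↑(s.image (WeilCoh.sm f)) := by
    intro y hy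
    rw [Function.mem_support, hmap] at hy
    obtain ⟨x, hx, -⟩ := Finset.exists_ne_zero_of_sum_ne_zero hy
    exact Finset.mem_image.2 ⟨x, (Finset.mem_filter.1 hx).1, (Finset.mem_filter.1 hx).2⟩
  rw [Groth.Agent.WeilCohLib.tr_clCyc_eq T Y _ b _ hsubY, Groth.Agent.WeilCohLib.tr_clCyc_eq T X α _ s hsub]
  simp only [hmap, Int.cast_sum, Finset.sum_mul]
  rw [← Finset.sum_fiberwise_of_maps_to (g := WeilCoh.sm f) (t := s.image (WeilCoh.sm f))
    (fun x hx => Finset.mem_image_of_mem _ hx)]
  refine Finset.sum_congr rfl fun y _ => Finset.sum_congr rfl fun x hx => ?_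
  rw [Groth.Agent.WeilCohLib.tr_cl_pull T f x b, (Finset.mem_filter.1 hx).2, Int.cast_mul, mul_assoc]
  congr 1
  rw [AlgebraicCycle.mapCoeff]
  by_cases hd : (WeilCoh.sm f).residueDegree x = 0
  · simp [hd]
  · rw [if_pos]
    · push_cast; rfl
    · rw [Groth.Agent.WeilCohLib.delta_eq_pdim X.obj.hom δX hδX, Groth.Agent.WeilCohLib.delta_eq_pdim Y.obj.hom δY hδY,
        Groth.Agent.WeilCohLib.pdim_image_eq f x hd]

end Groth.Agent.S15458
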