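import Groth.Statements.S1546
import Mathlib
import Groth.Agent.ConnImgLib.Orbit

set_option autoImplicit false
universe u
open CategoryTheory CategoryTheory.Limits AlgebraicGeometry
open Variety

namespace Groth.Agent.S1546

open CategoryTheory CategoryTheory.Limits AlgebraicGeometry

open Groth.Agent in
theorem component_of_image {k : Type u} [Field k] {X : Scheme.{u}} (f : X ⟶ Spec (CommRingCat.of k))
    (K : Type u) [Field K] [Algebra k K] {T : Set (GeomIrred.bcs f K)}
    (hT : T ∈ irreducibleComponents (GeomIrred.bcs f K)) :
    pullback.fst f (Spec.map (CommRingCat.ofHom (algebraMap k K))) '' T ∈ irreducibleComponents X := by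
  let L := AlgebraicClosure K
  let ks := SeparableClosure k
  let a : ks →ₐ[k] L := IsAlgClosed.lift
  let b : K →ₐ[k] L := IsScalarTower.toAlgHom k K L
  let pK := pullback.fst f (Spec.map (CommRingCat.ofHom (algebraMap k K)))
  let ps := pullback.fst f (Spec.map (CommRingCat.ofHom (algebraMap k ks)))
  let pL := pullback.fst f (Spec.map (CommRingCat.ofHom (algebraMap k L)))
  let qa := GeomIrred.trans f a
  let qb := GeomIrred.trans f b
  have hqa : qa ≫ ps = pL := (pullback.lift_fst _ _ _).trans (Category.comp_id _)
  have hqb : qb ≫ pK = pL := (pullback.lift_fst _ _ _).trans (Category.comp_id _)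
  -- a component upstairs dominating `T`
  obtain ⟨η, hη⟩ := QuasiSober.sober hT.1 (isClosed_of_mem_irreducibleComponents _ hT)
  obtain ⟨w, hw⟩ := (GeomIrred.trans_props f b).1.surj η
  let TL := irreducibleComponent w
  have hTL : TL ∈ irreducibleComponents (GeomIrred.bcs f L) := irreducibleComponent_mem_irreducibleComponents w
  have hwTL : w ∈ TL := mem_irreducibleComponent
  have hsub : qb '' TL ⊆ T := by
    have h1 : IsIrreducible (closure (qb '' TL)) := (hTL.1.image _ qb.continuous.continuousOn).closure
    have h2 : T ⊆ closure (qb '' TL) := by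
      rw [← hη.def]
      exact closure_mono (Set.singleton_subset_iff.2 ⟨w, hwTL, hw⟩)
    exact subset_closure.trans (hT.2 h1 h2)
  -- it is the preimage of a component over the separable closure
  letI : Algebra ks L := a.toRingHom.toAlgebra
  haveI := GeomIrred.geometricallyIrreducible_field (k := ks) L
  haveI : GeometricallyIrreducible qa :=
    MorphismProperty.of_isPullback (P := @GeometricallyIrreducible) (GeomIrred.isPullback_trans f a).flip
      (show GeometricallyIrreducible (Spec.map (CommRingCat.ofHom a.toRingHom)) from
        GeomIrred.geometricallyIrreducible_field (k := ks) L)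
  haveI : UniversallyOpen qa := (GeomIrred.trans_props f a).2.1
  haveI : Surjective qa := (GeomIrred.trans_props f a).1
  let C := closure (qa '' TL)
  have hC : IsIrreducible C := (hTL.1.image _ qa.continuous.continuousOn).closure
  have hpre : TL = qa ⁻¹' C := by
    have h1 : IsIrreducible (qa ⁻¹' C) := qa.isIrreducible_preimage qa.isOpenMap hC
    have h2 : TL ⊆ qa ⁻¹' C := fun s hs => subset_closure ⟨s, hs, rfl⟩
    exact Set.Subset.antisymm h2 (hTL.2 h1 h2)
  have himg : qa '' TL = C := by rw [hpre]; exact Set.image_preimage_eq _ qa.surjective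
  have hCcomp : C ∈ irreducibleComponents (GeomIrred.bcs f ks) := by
    refine ⟨hC, fun D hD hle => ?_⟩
    have h1 : IsIrreducible (qa ⁻¹' closure D) := qa.isIrreducible_preimage qa.isOpenMap hD.closure
    have h3 : qa ⁻¹' C ⊆ qa ⁻¹' closure D := Set.preimage_mono ((show C ⊆ D from hle).trans subset_closure)
    have h2 := hTL.2 h1 (hpre.le.trans h3)
    intro d hd
    obtain ⟨z, rfl⟩ := qa.surjective d
    exact (hpre ▸ h2) (subset_closure hd : qa z ∈ closure D)
  obtain ⟨θ, hθ⟩ := QuasiSober.sober hC isClosed_closure
  have hθC : IsGenericPoint θ C := hθ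
  have hcomp := ConnImgLib.closure_fst_mem_irreducibleComponents f ks hCcomp hθC
  have himg2 : ps '' C = closure {ps θ} := ConnImgLib.image_irreducible f ks hθC
  have hge : closure {ps θ} ⊆ pK '' T := by
    rw [← himg2, ← himg, ← Set.image_comp]
    rintro _ ⟨z, hz, rfl⟩
    refine ⟨qb z, hsub ⟨z, hz, rfl⟩, ?_⟩
    show pK (qb z) = ps (qa z)
    rw [← Scheme.Hom.comp_apply, ← Scheme.Hom.comp_apply, hqa, hqb]
  have hle : pK '' T ⊆ closure {ps θ} :=
    subset_closure.trans (hcomp.2 (hT.1.image _ pK.continuous.continuousOn).closure (hge.trans subset_closure))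
  show pK '' T ∈ _
  rw [Set.Subset.antisymm hle hge]
  exact hcomp

open Groth.Agent in
theorem exists_component {k : Type u} [Field k] {X : Scheme.{u}} (f : X ⟶ Spec (CommRingCat.of k))
    (K : Type u) [Field K] [Algebra k K] {Z : Set X} (hZ : Z ∈ irreducibleComponents X) :
    ∃ T ∈ irreducibleComponents (GeomIrred.bcs f K),
      pullback.fst f (Spec.map (CommRingCat.ofHom (algebraMap k K))) '' T = Z := by
  let p := pullback.fst f (Spec.map (CommRingCat.ofHom (algebraMap k K)))
  obtain ⟨ξ, hξ⟩ := QuasiSober.sober hZ.1 (isClosed_of_mem_irreducibleComponents _ hZ)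
  haveI : Surjective p :=
    MorphismProperty.pullback_fst _ _ (⟨fun _ => ⟨IsLocalRing.closedPoint K, Subsingleton.elim (α := PrimeSpectrum k) _ _⟩⟩ :
      Surjective (Spec.map (CommRingCat.ofHom (algebraMap k K))))
  obtain ⟨w, hw⟩ := p.surjective ξ
  refine ⟨irreducibleComponent w, irreducibleComponent_mem_irreducibleComponents w, ?_⟩
  have h := component_of_image f K (irreducibleComponent_mem_irreducibleComponents w)
  have hle : Z ⊆ p '' irreducibleComponent w := by
    rw [← hξ.def]
    exact closure_minimal (Set.singleton_subset_iff.2 ⟨w, mem_irreducibleComponent, hw⟩)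
      (isClosed_of_mem_irreducibleComponents _ h)
  exact Set.Subset.antisymm (hZ.2 h.1 hle) hle


/-- For a field extension K of k and a scheme X over k, the image in X of an irreducible component of
X_K is an irreducible component of X, and every irreducible component of X is such an image. -/
theorem result (k : Type u) [Field k] (X : Scheme.{u}) [X.Over (Spec (CommRingCat.of k))] (K : Type u) [Field K] [Algebra k K] :
    (∀ T ∈ irreducibleComponents (Curv2.bc k X K : Type u), (Curv2.bcFst k X K).base '' T ∈ irreducibleComponents (X : Type u)) ∧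
    (∀ Z ∈ irreducibleComponents (X : Type u), ∃ T ∈ irreducibleComponents (Curv2.bc k X K : Type u), (Curv2.bcFst k X K).base '' T = Z) := by
  exact ⟨fun T hT => component_of_image (X ↘ Spec (CommRingCat.of k)) K hT,
    fun Z hZ => exists_component (X ↘ Spec (CommRingCat.of k)) K hZ⟩


end Groth.Agent.S1546
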