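import Groth.Statements.S15465
import Mathlib
-- import your own Groth.Agent.* helpers here

set_option autoImplicit false
universe v u
open HomAlg

namespace Groth.Agent.S15465

open CategoryTheory CategoryTheory.Limits in
/-- In an abelian category let 0 → A₂ → B₂ → C₂ → 0 (maps i₂, π₂), 0 → A₁ → A₂ → A₃ → 0 (maps i₁, p₁)
and 0 → C₁ → C₂ → C₃ → 0 (maps j, q) be short exact sequences, let α = i₁ ≫ i₂ : A₁ → B₂ and β = π₂
≫ q : B₂ → C₃, and let K = ker β / im α be the homology object of the complex A₁ → B₂ → C₃. Let f :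
A₃ → K be the map induced by i₂ (the unique map whose composite with p₁ is the homology class of the
cycle i₂) and g : K → C₁ the map induced by π₂ (the unique map whose composite with j is the map K →
C₂ induced by π₂). Then 0 → A₃ → K → C₁ → 0, with maps f and g, is a short exact sequence. (The
hypotheses w, h₂, h₃ are consequences of i₂ ≫ π₂ = 0, carried so that the maps can be named; the
published statement assumes in addition that the category has enough injective objects, which plays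
no role in this assertion.) -/
theorem result
    {C : Type u} [Category.{v} C] [Abelian C] {A₁ A₂ A₃ B₂ C₁ C₂ C₃ : C}
    (i₁ : A₁ ⟶ A₂) (p₁ : A₂ ⟶ A₃) (wA : i₁ ≫ p₁ = 0) (hA : (ShortComplex.mk i₁ p₁ wA).ShortExact)
    (i₂ : A₂ ⟶ B₂) (π₂ : B₂ ⟶ C₂) (wB : i₂ ≫ π₂ = 0) (hB : (ShortComplex.mk i₂ π₂ wB).ShortExact)
    (j : C₁ ⟶ C₂) (q : C₂ ⟶ C₃) (wC : j ≫ q = 0) (hC : (ShortComplex.mk j q wC).ShortExact)
    (w : (i₁ ≫ i₂) ≫ (π₂ ≫ q) = 0) (h₂ : i₂ ≫ (π₂ ≫ q) = 0) (h₃ : (i₁ ≫ i₂) ≫ π₂ = 0)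
    (f : A₃ ⟶ (CategoryTheory.ShortComplex.mk (i₁ ≫ i₂) (π₂ ≫ q) w).homology)
    (g : (CategoryTheory.ShortComplex.mk (i₁ ≫ i₂) (π₂ ≫ q) w).homology ⟶ C₁)
    (hf : p₁ ≫ f = (CategoryTheory.ShortComplex.mk (i₁ ≫ i₂) (π₂ ≫ q) w).liftCycles i₂ h₂ ≫ (CategoryTheory.ShortComplex.mk (i₁ ≫ i₂) (π₂ ≫ q) w).homologyπ)
    (hg : g ≫ j = (CategoryTheory.ShortComplex.mk (i₁ ≫ i₂) (π₂ ≫ q) w).homologyι ≫ (CategoryTheory.ShortComplex.mk (i₁ ≫ i₂) (π₂ ≫ q) w).descOpcycles π₂ h₃) :
    ∃ wfg : f ≫ g = 0, (ShortComplex.mk f g wfg).ShortExact := by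
  haveI hi₂ : Mono i₂ := hB.mono_f
  haveI hp₁ : Epi p₁ := hA.epi_g
  haveI hπ₂ : Epi π₂ := hB.epi_g
  haveI hj : Mono j := hC.mono_f
  let S := CategoryTheory.ShortComplex.mk (i₁ ≫ i₂) (π₂ ≫ q) w
  have key : ∀ {T : C} (z : T ⟶ S.cycles), z ≫ S.homologyπ ≫ g ≫ j = (z ≫ S.iCycles) ≫ π₂ := by
    intro T z
    rw [hg, ShortComplex.homology_π_ι_assoc, ShortComplex.p_descOpcycles, Category.assoc]
  have wfg : f ≫ g = 0 := by
    rw [← cancel_epi p₁, reassoc_of% hf, comp_zero, ← cancel_mono j, zero_comp, Category.assoc, Category.assoc, key,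
      ShortComplex.liftCycles_i, wB]
  refine ⟨wfg, ?_⟩
  have hex : (ShortComplex.mk f g wfg).Exact := by
    rw [ShortComplex.exact_iff_exact_up_to_refinements]
    intro T x hx
    obtain ⟨T', π, hπ, z, hz, he⟩ := S.eq_liftCycles_homologyπ_up_to_refinements x
    have hb : z ≫ π₂ = 0 := by
      have h1 := key (S.liftCycles z hz)
      rw [S.liftCycles_i, ← reassoc_of% he] at h1
      dsimp at hx
      rw [reassoc_of% hx, zero_comp, comp_zero] at h1
      exact h1.symm
    haveI : Mono (ShortComplex.mk i₂ π₂ wB).f := hi₂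
    let a := hB.exact.lift z hb
    have ha : a ≫ i₂ = z := hB.exact.lift_f z hb
    refine ⟨T', π, hπ, a ≫ p₁, ?_⟩
    dsimp
    rw [he, Category.assoc, hf, ← Category.assoc]
    congr 1
    rw [← cancel_mono S.iCycles, Category.assoc, S.liftCycles_i, S.liftCycles_i, ha]
  have hm : Mono f := by
    refine Preadditive.mono_of_cancel_zero f fun {T} x hx => ?_
    obtain ⟨T', π, hπ, a, ha⟩ := surjective_up_to_refinements_of_epi p₁ x
    have h0 : (a ≫ S.liftCycles i₂ h₂) ≫ S.homologyπ = 0 := by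
      rw [Category.assoc, ← hf, ← Category.assoc, ← ha, Category.assoc, hx, comp_zero]
    obtain ⟨T'', π', hπ', b, hb⟩ := (S.comp_homologyπ_eq_zero_iff_up_to_refinements _).mp h0
    have hb' : π' ≫ a = b ≫ i₁ := by
      have h1 := congrArg (fun t => t ≫ S.iCycles) hb
      simp only [Category.assoc, S.liftCycles_i, S.toCycles_i] at h1
      rw [← cancel_mono i₂]
      simpa [S] using h1
    rw [← cancel_epi π, ← cancel_epi π', comp_zero, comp_zero, ha, ← Category.assoc, hb', Category.assoc, wA, comp_zero]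
  have he : Epi g := by
    rw [epi_iff_surjective_up_to_refinements]
    intro T c
    obtain ⟨T', π, hπ, b, hb⟩ := surjective_up_to_refinements_of_epi π₂ (c ≫ j)
    have hb0 : b ≫ S.g = 0 := by
      show b ≫ π₂ ≫ q = 0
      rw [← Category.assoc, ← hb, Category.assoc, Category.assoc, wC, comp_zero, comp_zero]
    refine ⟨T', π, hπ, S.liftCycles b hb0 ≫ S.homologyπ, ?_⟩
    rw [← cancel_mono j, Category.assoc, Category.assoc, Category.assoc, key, S.liftCycles_i]
    exact hb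
  exact { exact := hex, mono_f := hm, epi_g := he }

end Groth.Agent.S15465
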