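import Groth.Statements.S15466
import Mathlib

set_option autoImplicit false
universe v u

set_option backward.isDefEq.respectTransparency false
open HomAlg

namespace Groth.Agent.S15466

open CategoryTheory CategoryTheory.Limits in
/-- In an abelian category let 0 → A₂ → B₂ → C₂ → 0 (maps i₂, π₂), 0 → A₁ → A₂ → A₃ → 0 (maps i₁, p₁)
and 0 → C₁ → C₂ → C₃ → 0 (maps j, q) be short exact sequences, α = i₁ ≫ i₂, β = π₂ ≫ q, K = ker β /
im α, and let f : A₃ → K and g : K → C₁ be the maps induced by i₂ and π₂ (pinned by their defining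
squares), so that 0 → A₃ → K → C₁ → 0 is short exact. Sending a section s of g to the subobject B₁
of B₂ obtained by pulling the image of s back along ker β → K and then including ker β into B₂ is a
bijection from the sections of g (equivalently, the splittings of that sequence) onto the subobjects
B₁ of B₂ that complete the data to a 3 × 3 diagram with exact rows and columns: there are maps A₁ →
B₁ → C₁ over i₁ ≫ i₂ and under π₂ forming a short exact sequence, and maps A₃ → B₂/B₁ → C₃ under i₂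
and over π₂ ≫ q forming a short exact sequence. (The hypotheses w, h₂, h₃ are consequences of i₂ ≫
π₂ = 0, carried so that the maps can be named; the published statement assumes in addition that the
category has enough injective objects, which plays no role here.) -/
theorem result
    {C : Type u} [Category.{v} C] [Abelian C] {A₁ A₂ A₃ B₂ C₁ C₂ C₃ : C}
    (i₁ : A₁ ⟶ A₂) (p₁ : A₂ ⟶ A₃) (wA : i₁ ≫ p₁ = 0) (hA : (ShortComplex.mk i₁ p₁ wA).ShortExact)
    (i₂ : A₂ ⟶ B₂) (π₂ : B₂ ⟶ C₂) (wB : i₂ ≫ π₂ = 0) (hB : (ShortComplex.mk i₂ π₂ wB).ShortExact)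
    (j : C₁ ⟶ C₂) (q : C₂ ⟶ C₃) (wC : j ≫ q = 0) (hC : (ShortComplex.mk j q wC).ShortExact)
    (w : (i₁ ≫ i₂) ≫ (π₂ ≫ q) = 0) (h₂ : i₂ ≫ (π₂ ≫ q) = 0) (h₃ : (i₁ ≫ i₂) ≫ π₂ = 0)
    (f : A₃ ⟶ (CategoryTheory.ShortComplex.mk (i₁ ≫ i₂) (π₂ ≫ q) w).homology)
    (g : (CategoryTheory.ShortComplex.mk (i₁ ≫ i₂) (π₂ ≫ q) w).homology ⟶ C₁)
    (hf : p₁ ≫ f = (CategoryTheory.ShortComplex.mk (i₁ ≫ i₂) (π₂ ≫ q) w).liftCycles i₂ h₂ ≫ (CategoryTheory.ShortComplex.mk (i₁ ≫ i₂) (π₂ ≫ q) w).homologyπ)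
    (hg : g ≫ j = (CategoryTheory.ShortComplex.mk (i₁ ≫ i₂) (π₂ ≫ q) w).homologyι ≫ (CategoryTheory.ShortComplex.mk (i₁ ≫ i₂) (π₂ ≫ q) w).descOpcycles π₂ h₃) :
    (∀ B₁ : Subobject B₂,
      (∃ (a : A₁ ⟶ (B₁ : C)) (c : (B₁ : C) ⟶ C₁) (wac : a ≫ c = 0)
         (a' : A₃ ⟶ cokernel B₁.arrow) (c' : cokernel B₁.arrow ⟶ C₃) (wac' : a' ≫ c' = 0),
         a ≫ B₁.arrow = i₁ ≫ i₂ ∧ c ≫ j = B₁.arrow ≫ π₂ ∧ (ShortComplex.mk a c wac).ShortExact ∧
         p₁ ≫ a' = i₂ ≫ cokernel.π B₁.arrow ∧ cokernel.π B₁.arrow ≫ c' = π₂ ≫ q ∧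
         (ShortComplex.mk a' c' wac').ShortExact) ↔
      ∃ s : C₁ ⟶ (CategoryTheory.ShortComplex.mk (i₁ ≫ i₂) (π₂ ≫ q) w).homology, s ≫ g = 𝟙 C₁ ∧
        (Subobject.map (CategoryTheory.ShortComplex.mk (i₁ ≫ i₂) (π₂ ≫ q) w).iCycles).obj ((Subobject.pullback (CategoryTheory.ShortComplex.mk (i₁ ≫ i₂) (π₂ ≫ q) w).homologyπ).obj (imageSubobject s)) = B₁) ∧
    (∀ s s' : C₁ ⟶ (CategoryTheory.ShortComplex.mk (i₁ ≫ i₂) (π₂ ≫ q) w).homology, s ≫ g = 𝟙 C₁ → s' ≫ g = 𝟙 C₁ →
      (Subobject.map (CategoryTheory.ShortComplex.mk (i₁ ≫ i₂) (π₂ ≫ q) w).iCycles).obj ((Subobject.pullback (CategoryTheory.ShortComplex.mk (i₁ ≫ i₂) (π₂ ≫ q) w).homologyπ).obj (imageSubobject s)) = (Subobject.map (CategoryTheory.ShortComplex.mk (i₁ ≫ i₂) (π₂ ≫ q) w).iCycles).obj ((Subobject.pullback (CategoryTheory.ShortComplex.mk (i₁ ≫ i₂) (π₂ ≫ q) w).homologyπ).obj (imageSubobject s')) → s = s') := by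
  haveI := hA.mono_f
  haveI := hA.epi_g
  haveI := hB.mono_f
  haveI := hB.epi_g
  haveI := hC.mono_f
  haveI := hC.epi_g
  let S := ShortComplex.mk (i₁ ≫ i₂) (π₂ ≫ q) w
  have hexA : (ShortComplex.mk i₁ p₁ wA).Exact := hA.exact
  have hexB : (ShortComplex.mk i₂ π₂ wB).Exact := hB.exact
  have hexC : (ShortComplex.mk j q wC).Exact := hC.exact
  -- the maps into the homology
  have hg' : ∀ {W : C} (z : W ⟶ S.cycles), z ≫ S.homologyπ ≫ g ≫ j = z ≫ S.iCycles ≫ π₂ := fun z => by
    rw [hg, ShortComplex.homology_π_ι_assoc, ShortComplex.p_descOpcycles]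
  haveI : Mono S.toCycles := by
    haveI : Mono (S.toCycles ≫ S.iCycles) := by
      rw [S.toCycles_i]; show Mono (i₁ ≫ i₂); infer_instance
    exact mono_of_mono _ S.iCycles
  have hkerπ : ∀ {W : C} (z : W ⟶ S.cycles), z ≫ S.homologyπ = 0 → ∃ x : W ⟶ A₁, x ≫ S.toCycles = z :=
    fun z hz => by
      haveI : Mono (ShortComplex.mk S.toCycles S.homologyπ S.toCycles_comp_homologyπ).f := ‹_›
      exact ⟨_, (ShortComplex.exact_of_g_is_cokernel
        (ShortComplex.mk S.toCycles S.homologyπ S.toCycles_comp_homologyπ) S.homologyIsCokernel).lift_f z hz⟩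
  let Bs : (C₁ ⟶ S.homology) → Subobject B₂ := fun s =>
    (Subobject.map S.iCycles).obj ((Subobject.pullback S.homologyπ).obj (imageSubobject s))
  have hBs : ∀ s : C₁ ⟶ S.homology, s ≫ g = 𝟙 C₁ →
      ∃ (P : C) (z : P ⟶ S.cycles) (c : P ⟶ C₁) (_ : Mono z),
        Bs s = Subobject.mk (z ≫ S.iCycles) ∧ IsPullback c z s S.homologyπ := fun s hs => by
    haveI : Mono s := (SplitMono.mk g hs).mono
    refine ⟨pullback s S.homologyπ, pullback.snd _ _, pullback.fst _ _, inferInstance, ?_,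
      IsPullback.of_hasPullback _ _⟩
    show (Subobject.map S.iCycles).obj ((Subobject.pullback S.homologyπ).obj (imageSubobject s)) = _
    rw [imageSubobject_mono, Subobject.pullback_obj_mk (IsPullback.of_hasPullback s S.homologyπ), Subobject.map_mk]
  constructor
  · intro B₁
    constructor
    · rintro ⟨a, c, wac, a', c', wac', ha, hc, hS, -, -, -⟩
      haveI := hS.epi_g
      let z : (B₁ : C) ⟶ S.cycles := S.liftCycles B₁.arrow (by
        show B₁.arrow ≫ π₂ ≫ q = 0
        rw [← Category.assoc, ← hc, Category.assoc, wC, comp_zero])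
      have hz : z ≫ S.iCycles = B₁.arrow := S.liftCycles_i _ _
      have haz : a ≫ z = S.toCycles := by
        rw [← cancel_mono S.iCycles, Category.assoc, hz, ha, S.toCycles_i]
      obtain ⟨s, hs⟩ := CokernelCofork.IsColimit.desc' hS.gIsCokernel (z ≫ S.homologyπ)
        (show a ≫ z ≫ S.homologyπ = 0 by rw [← Category.assoc, haz, S.toCycles_comp_homologyπ])
      change c ≫ s = z ≫ S.homologyπ at hs
      have hsg : s ≫ g = 𝟙 C₁ := by
        rw [← cancel_epi c, ← cancel_mono j, ← Category.assoc c, hs, Category.comp_id, Category.assoc, Category.assoc,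
          hg', ← Category.assoc, hz, hc]
      refine ⟨s, hsg, ?_⟩
      obtain ⟨P, zP, cP, hzP, hBP, hP⟩ := hBs s hsg
      show Bs s = B₁
      rw [hBP]
      refine le_antisymm (Subobject.mk_le_of_comm ((Abelian.monoIsKernelOfCokernel _ (cokernelIsCokernel B₁.arrow)).lift
        (KernelFork.ofι (zP ≫ S.iCycles) ?_)) ((Abelian.monoIsKernelOfCokernel _ (cokernelIsCokernel B₁.arrow)).fac
          (KernelFork.ofι (zP ≫ S.iCycles) _) WalkingParallelPair.zero)) ?_
      · obtain ⟨W, e, he, b, hb⟩ := surjective_up_to_refinements_of_epi c cP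
        have h0 : (e ≫ zP - b ≫ z) ≫ S.homologyπ = 0 := by
          rw [Preadditive.sub_comp, Category.assoc, Category.assoc, ← hP.w, ← hs, ← Category.assoc, hb, Category.assoc,
            sub_self]
        obtain ⟨x, hx⟩ := hkerπ _ h0
        have hm : e ≫ zP = (b + x ≫ a) ≫ z := by
          rw [Preadditive.add_comp, Category.assoc, haz, hx]; abel
        rw [← cancel_epi e, comp_zero, ← Category.assoc, ← Category.assoc, hm, Category.assoc (b + x ≫ a), hz,
          Category.assoc]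
        exact (congrArg (_ ≫ ·) (cokernel.condition B₁.arrow)).trans comp_zero
      · refine Subobject.le_mk_of_comm (hP.lift c z hs) ?_
        rw [← Category.assoc, hP.lift_snd, hz]
    · rintro ⟨s, hs, rfl⟩
      obtain ⟨P, zP, cP, hzP, hBP, hP⟩ := hBs s hs
      haveI : Mono s := (SplitMono.mk g hs).mono
      change ∃ (a : A₁ ⟶ (Bs s : C)) (c : (Bs s : C) ⟶ C₁) (wac : a ≫ c = 0)
         (a' : A₃ ⟶ cokernel (Bs s).arrow) (c' : cokernel (Bs s).arrow ⟶ C₃) (wac' : a' ≫ c' = 0),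
         a ≫ (Bs s).arrow = i₁ ≫ i₂ ∧ c ≫ j = (Bs s).arrow ≫ π₂ ∧ (ShortComplex.mk a c wac).ShortExact ∧
         p₁ ≫ a' = i₂ ≫ cokernel.π (Bs s).arrow ∧ cokernel.π (Bs s).arrow ≫ c' = π₂ ≫ q ∧
         (ShortComplex.mk a' c' wac').ShortExact
      rw [hBP]
      let B := Subobject.mk (zP ≫ S.iCycles)
      let e := Subobject.underlyingIso (zP ≫ S.iCycles)
      have he : e.hom ≫ zP ≫ S.iCycles = B.arrow := Subobject.underlyingIso_hom_comp_eq_mk _
      let a₀ : A₁ ⟶ P := hP.lift 0 S.toCycles (by rw [zero_comp, S.toCycles_comp_homologyπ])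
      let a : A₁ ⟶ (B : C) := a₀ ≫ e.inv
      let c : (B : C) ⟶ C₁ := e.hom ≫ cP
      have wac : a ≫ c = 0 := by
        simp only [a, c, Category.assoc, Iso.inv_hom_id_assoc]
        exact hP.lift_fst _ _ _
      have ha : a ≫ B.arrow = i₁ ≫ i₂ := by
        rw [← he]
        simp only [a, Category.assoc, Iso.inv_hom_id_assoc]
        rw [← Category.assoc, hP.lift_snd]
        exact S.toCycles_i
      have hc : c ≫ j = B.arrow ≫ π₂ := by
        rw [← he]
        simp only [c, Category.assoc]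
        rw [← hg' zP, ← Category.assoc zP, ← hP.w, Category.assoc, ← Category.assoc s, hs, Category.id_comp]
      haveI : Epi cP := by
        haveI : Epi S.homologyπ := inferInstance
        exact Abelian.epi_fst_of_isLimit s S.homologyπ hP.isLimit
      haveI : Mono a := by
        haveI : Mono (a ≫ B.arrow) := by rw [ha]; infer_instance
        exact mono_of_mono _ B.arrow
      have hS : (ShortComplex.mk a c wac).ShortExact := by
        haveI : Epi c := epi_comp _ _
        refine ShortComplex.ShortExact.mk' ?_ ‹_› ‹_›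
        rw [ShortComplex.exact_iff_exact_up_to_refinements]
        intro W x hx
        change x ≫ e.hom ≫ cP = 0 at hx
        obtain ⟨y, hy⟩ := hkerπ (x ≫ e.hom ≫ zP) (by
          simp only [Category.assoc, ← hP.w]
          rw [← Category.assoc e.hom, ← Category.assoc, hx, zero_comp])
        refine ⟨W, 𝟙 W, inferInstance, y, ?_⟩
        show 𝟙 W ≫ x = y ≫ a₀ ≫ e.inv
        rw [Category.id_comp, ← Category.assoc, Iso.eq_comp_inv]
        refine hP.hom_ext ?_ ?_
        · rw [Category.assoc, hx, Category.assoc, hP.lift_fst, comp_zero]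
        · rw [Category.assoc, Category.assoc, hP.lift_snd, hy]
      haveI := hS.epi_g
      obtain ⟨a', ha'⟩ := CokernelCofork.IsColimit.desc' hA.gIsCokernel (i₂ ≫ cokernel.π B.arrow)
        (show i₁ ≫ i₂ ≫ cokernel.π B.arrow = 0 by
          rw [← Category.assoc, ← ha, Category.assoc, cokernel.condition, comp_zero])
      change p₁ ≫ a' = i₂ ≫ cokernel.π B.arrow at ha'
      let c' : cokernel B.arrow ⟶ C₃ := cokernel.desc _ (π₂ ≫ q) (by
        rw [← Category.assoc, ← hc, Category.assoc, wC, comp_zero])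
      have hc' : cokernel.π B.arrow ≫ c' = π₂ ≫ q := cokernel.π_desc _ _ _
      have wac' : a' ≫ c' = 0 := by
        rw [← cancel_epi p₁, ← Category.assoc, ha', Category.assoc, hc', h₂, comp_zero]
      haveI : Epi c' := by
        haveI : Epi (cokernel.π B.arrow ≫ c') := by rw [hc']; exact epi_comp _ _
        exact epi_of_epi (cokernel.π B.arrow) _
      haveI : Mono a' := by
        refine Preadditive.mono_of_cancel_zero _ fun {W} x hx => ?_
        obtain ⟨W', e₁, he₁, x', hx'⟩ := surjective_up_to_refinements_of_epi p₁ x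
        have h0 : (x' ≫ i₂) ≫ cokernel.π B.arrow = 0 := by
          rw [Category.assoc, ← ha', ← Category.assoc, ← hx', Category.assoc, hx, comp_zero]
        let b : W' ⟶ (B : C) := (Abelian.monoIsKernelOfCokernel _ (cokernelIsCokernel B.arrow)).lift
          (KernelFork.ofι (x' ≫ i₂) h0)
        have hb : b ≫ B.arrow = x' ≫ i₂ :=
          (Abelian.monoIsKernelOfCokernel _ (cokernelIsCokernel B.arrow)).fac
            (KernelFork.ofι (x' ≫ i₂) h0) WalkingParallelPair.zero
        have hbc : b ≫ c = 0 := by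
          rw [← cancel_mono j, Category.assoc, hc, ← Category.assoc, hb, Category.assoc, wB, comp_zero, zero_comp]
        obtain ⟨y, hy⟩ : ∃ y : W' ⟶ A₁, y ≫ a = b := ⟨_, hS.exact.lift_f b hbc⟩
        rw [← hy, Category.assoc, ha, ← Category.assoc, cancel_mono] at hb
        rw [← cancel_epi e₁, hx', ← hb, Category.assoc, wA, comp_zero, comp_zero]
      have hS' : (ShortComplex.mk a' c' wac').ShortExact := by
        refine ShortComplex.ShortExact.mk' ?_ ‹_› ‹_›
        rw [ShortComplex.exact_iff_exact_up_to_refinements]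
        intro W x (hx : x ≫ c' = 0)
        obtain ⟨W₁, e₁, he₁, y, hy⟩ := surjective_up_to_refinements_of_epi (cokernel.π B.arrow) x
        obtain ⟨v, hv⟩ : ∃ v, v ≫ j = y ≫ π₂ := ⟨_, hexC.lift_f (y ≫ π₂) (by
          show (y ≫ π₂) ≫ q = 0
          rw [Category.assoc, ← hc', ← Category.assoc, ← hy, Category.assoc, hx, comp_zero])⟩
        obtain ⟨W₂, e₂, he₂, b, hb⟩ := surjective_up_to_refinements_of_epi c v
        obtain ⟨l, hl⟩ : ∃ l, l ≫ i₂ = e₂ ≫ y - b ≫ B.arrow := ⟨_, hexB.lift_f (e₂ ≫ y - b ≫ B.arrow) (by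
          show (e₂ ≫ y - b ≫ B.arrow) ≫ π₂ = 0
          rw [Preadditive.sub_comp, Category.assoc, Category.assoc, ← hv, ← hc, ← Category.assoc, hb, Category.assoc,
            sub_self])⟩
        refine ⟨W₂, e₂ ≫ e₁, epi_comp _ _, l ≫ p₁, ?_⟩
        show (e₂ ≫ e₁) ≫ x = (l ≫ p₁) ≫ a'
        rw [Category.assoc, Category.assoc, ha', ← Category.assoc l, hl, Preadditive.sub_comp, Category.assoc,
          Category.assoc b, cokernel.condition, comp_zero, sub_zero, hy]
      exact ⟨a, c, wac, a', c', wac', ha, hc, hS, ha', hc', hS'⟩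
  · intro s s' hs hs' h
    change Bs s = Bs s' at h
    obtain ⟨P, z, c, hz, hB1, hP⟩ := hBs s hs
    obtain ⟨P', z', c', hz', hB2, hP'⟩ := hBs s' hs'
    rw [hB1, hB2] at h
    let φ := Subobject.isoOfMkEqMk _ _ h
    have hφ : φ.hom ≫ z' = z := by
      rw [← cancel_mono S.iCycles, Category.assoc]
      exact Subobject.ofMkLEMk_comp _
    haveI : Epi c := Abelian.epi_fst_of_isLimit s S.homologyπ hP.isLimit
    have h1 : c ≫ s = φ.hom ≫ c' ≫ s' := by rw [hP'.w, ← Category.assoc, hφ, hP.w]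
    have h2 : c = φ.hom ≫ c' := by
      have := congrArg (· ≫ g) h1
      simp only [Category.assoc, hs, hs', Category.comp_id] at this
      exact this
    rw [← cancel_epi c, h1, ← Category.assoc, ← h2]

end Groth.Agent.S15466
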