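import Groth.Statements.S15469
import Groth.Agent.IsoSmLib.Etale
import Groth.Agent.ASt.PtsTop

set_option autoImplicit false
universe u
open CategoryTheory AlgebraicGeometry
open IsoNat

namespace Groth.Agent.S15469

/-- The existence of a scheme with an etale surjective morphism to the stack is detected by the presheaf
of isomorphism classes. If 𝒳 and 𝒴 are algebraic stacks over a quasi-separated scheme S with
isomorphic presheaves of isomorphism classes and 𝒳 is Deligne-Mumford, then 𝒴 is Deligne-Mumford.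
Here an algebraic stack over a quasi-separated scheme S means a stack in groupoids for the fppf
topology with a smooth surjective atlas from a scheme, whose diagonal is representable by separated
quasi-compact morphisms of algebraic spaces and whose inertia is locally of finite presentation over
it. (The published statement compares within the wider class of quasi-algebraic stacks, which need
not have an atlas; this row compares algebraic stacks only.) -/
theorem result
    (S : Scheme.{u}) [QuasiSeparatedSpace S]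
    (𝒳 𝒴 : AlgSt.Cat S)
    (h𝒳 : AlgSt.IsAlgStack Scheme.fppfPrecoverage 𝒳)
    (h𝒳d : AlgSt.RepByAlgSpWith (AlgSp.IsSeparatedMor ⊓ AlgSp.IsQuasiCompactMor)
      (FibCat.diag (FibCat.toSelf 𝒳)))
    (h𝒳i : AlgSt.RepByAlgSpWith (AlgSp.LocP @LocallyOfFinitePresentation)
      (FibCat.inertiaToBase (FibCat.toSelf 𝒳)))
    (h𝒴 : AlgSt.IsAlgStack Scheme.fppfPrecoverage 𝒴)
    (h𝒴d : AlgSt.RepByAlgSpWith (AlgSp.IsSeparatedMor ⊓ AlgSp.IsQuasiCompactMor)
      (FibCat.diag (FibCat.toSelf 𝒴)))
    (h𝒴i : AlgSt.RepByAlgSpWith (AlgSp.LocP @LocallyOfFinitePresentation)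
      (FibCat.inertiaToBase (FibCat.toSelf 𝒴)))
    (φ : IsoNat.FIso 𝒳 𝒴)
    (hdm : AlgSt.IsDM Scheme.fppfPrecoverage 𝒳) :
    AlgSt.IsDM Scheme.fppfPrecoverage 𝒴 := by
  haveI := h𝒳.isStack.1
  haveI := h𝒴.isStack.1
  obtain ⟨U, x, hx, hxs⟩ := hdm.2
  obtain ⟨y, hy⟩ := Groth.Agent.ASt.exists_chart_fIso φ x
  have hye := IsoSmLib.repByAlgSpWith_etale_of_fIso h𝒳.isStack h𝒴 h𝒴.isStack h𝒴d h𝒴i φ hy hx
  refine ⟨h𝒴, U, y, hye, Groth.Agent.ASt.repByAlgSpWith_surjective_of_isSurjective
    (Groth.Agent.ASt.repByAlgSp1_of_with hye) fun z => ?_⟩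
  obtain ⟨w, hw⟩ := Groth.Agent.ASt.isSurjective_of_repByAlgSpWith hxs
    (Groth.Agent.ASt.fIsoPts (Groth.Agent.ASt.fIsoSymm φ) z)
  obtain ⟨t, rfl⟩ := Groth.Agent.ASt.surjective_ofChart_id U w
  refine ⟨AlgSt.Points.ofChart (BasedFunctor.id (FibCat.overCat U)) t, ?_⟩
  rw [← Groth.Agent.ASt.ofChart_comp] at hw ⊢
  have hz := Groth.Agent.ASt.fIsoPts_symm' φ z
  rw [← hw] at hz
  refine Eq.trans ?_ hz
  exact (Groth.Agent.ASt.fIsoPts_ofChart φ hy t).symm

end Groth.Agent.S15469
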