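import Groth.Statements.S1547
import Groth.Agent.GeomIrred.Scheme
-- import your own Groth.Agent.* helpers here

set_option autoImplicit false
universe u
open CategoryTheory CategoryTheory.Limits AlgebraicGeometry
open Variety

namespace Groth.Agent.S1547

/-- Let k be a separably closed field, X a scheme over k and K any field extension of k. Then taking
images along the projection X_K → X is injective on irreducible components: two irreducible
components of X_K with the same image in X are equal. (Together with surjectivity on irreducible
components, stated separately, this gives a bijection of irreducible components.) -/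
theorem result (k : Type u) [Field k] (X : Scheme.{u}) [X.Over (Spec (CommRingCat.of k))] [IsSepClosed k] (K : Type u) [Field K] [Algebra k K]
    (T T' : Set (Curv2.bc k X K : Type u)) (hT : T ∈ irreducibleComponents (Curv2.bc k X K : Type u))
    (hT' : T' ∈ irreducibleComponents (Curv2.bc k X K : Type u))
    (h : (Curv2.bcFst k X K).base '' T = (Curv2.bcFst k X K).base '' T') : T = T' := by
  let g := Spec.map (CommRingCat.ofHom (algebraMap k K))
  haveI := GeomIrred.geometricallyIrreducible_field (k := k) K
  let p := pullback.fst (X ↘ Spec (CommRingCat.of k)) g
  have key : ∀ S ∈ irreducibleComponents (Curv2.bc k X K : Type u),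
      S = p ⁻¹' closure (p.base '' S) := fun S hS => by
    have hirr : IsIrreducible (p ⁻¹' closure (p.base '' S)) :=
      p.isIrreducible_preimage p.isOpenMap (hS.1.image _ p.continuous.continuousOn).closure
    have hsub : S ⊆ p ⁻¹' closure (p.base '' S) := fun s hs => subset_closure ⟨s, hs, rfl⟩
    exact Set.Subset.antisymm hsub (hS.2 hirr hsub)
  have h' : p.base '' T = p.base '' T' := h
  rw [key T hT, key T' hT', h']

end Groth.Agent.S1547
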