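import Groth.Statements.S15470
import Groth.Agent.IsoSmLib.Transfer
import Groth.Agent.ASt.PtsTop

set_option autoImplicit false
universe u
open CategoryTheory AlgebraicGeometry
open IsoNat

namespace Groth.Agent.S15470

/-- A property of morphisms of algebraic stacks read on one square of smooth scheme charts is detected
by the induced map of presheaves of isomorphism classes. Let f : 𝒳 → 𝒴 and f' : 𝒳' → 𝒴' be morphisms
of algebraic stacks over a quasi-separated scheme S, and suppose given isomorphisms of the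
presheaves of isomorphism classes of 𝒳 with 𝒳' and of 𝒴 with 𝒴' under which the maps induced by f
and f' correspond. If there are smooth scheme charts x : U → 𝒳 (surjective) and y : V → 𝒴 and h : U
→ V with x followed by f 2-isomorphic to h followed by y and h having P, then the same holds for f'.
For P smooth local on the source-and-target, containing the smooth surjections and stable under
composition and base change, this is the statement that f has P if and only if f' has P (flat,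
locally of finite type, locally of finite presentation, smooth); the transfer itself holds for every
P. Here an algebraic stack over a quasi-separated scheme S means a stack in groupoids for the fppf
topology with a smooth surjective atlas from a scheme, whose diagonal is representable by separated
quasi-compact morphisms of algebraic spaces and whose inertia is locally of finite presentation over
it. -/
theorem result
    (S : Scheme.{u}) [QuasiSeparatedSpace S]
    (𝒳 𝒴 : AlgSt.Cat S)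
    (h𝒳 : AlgSt.IsAlgStack Scheme.fppfPrecoverage 𝒳)
    (h𝒳d : AlgSt.RepByAlgSpWith (AlgSp.IsSeparatedMor ⊓ AlgSp.IsQuasiCompactMor)
      (FibCat.diag (FibCat.toSelf 𝒳)))
    (h𝒳i : AlgSt.RepByAlgSpWith (AlgSp.LocP @LocallyOfFinitePresentation)
      (FibCat.inertiaToBase (FibCat.toSelf 𝒳)))
    (h𝒴 : AlgSt.IsAlgStack Scheme.fppfPrecoverage 𝒴)
    (h𝒴d : AlgSt.RepByAlgSpWith (AlgSp.IsSeparatedMor ⊓ AlgSp.IsQuasiCompactMor)
      (FibCat.diag (FibCat.toSelf 𝒴)))
    (h𝒴i : AlgSt.RepByAlgSpWith (AlgSp.LocP @LocallyOfFinitePresentation)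
      (FibCat.inertiaToBase (FibCat.toSelf 𝒴)))
    (𝒳' 𝒴' : AlgSt.Cat S)
    (h𝒳' : AlgSt.IsAlgStack Scheme.fppfPrecoverage 𝒳')
    (h𝒳'd : AlgSt.RepByAlgSpWith (AlgSp.IsSeparatedMor ⊓ AlgSp.IsQuasiCompactMor)
      (FibCat.diag (FibCat.toSelf 𝒳')))
    (h𝒳'i : AlgSt.RepByAlgSpWith (AlgSp.LocP @LocallyOfFinitePresentation)
      (FibCat.inertiaToBase (FibCat.toSelf 𝒳')))
    (h𝒴' : AlgSt.IsAlgStack Scheme.fppfPrecoverage 𝒴')
    (h𝒴'd : AlgSt.RepByAlgSpWith (AlgSp.IsSeparatedMor ⊓ AlgSp.IsQuasiCompactMor)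
      (FibCat.diag (FibCat.toSelf 𝒴')))
    (h𝒴'i : AlgSt.RepByAlgSpWith (AlgSp.LocP @LocallyOfFinitePresentation)
      (FibCat.inertiaToBase (FibCat.toSelf 𝒴')))
    (f : 𝒳 ⥤ᵇ 𝒴) (f' : 𝒳' ⥤ᵇ 𝒴') (φ : IsoNat.FIsoSq f f')
    (P : MorphismProperty (AlgSp.Sp S))
    (hf : AlgSt.LocQ P f) :
    AlgSt.LocQ P f' := by
  haveI := h𝒳.isStack.1
  haveI := h𝒴.isStack.1
  haveI := h𝒳'.isStack.1
  haveI := h𝒴'.isStack.1
  obtain ⟨U, V, x, y, h, α, hx, hxs, hy, hP⟩ := hf
  obtain ⟨x', hx'⟩ := Groth.Agent.ASt.exists_chart_fIso φ.src x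
  obtain ⟨y', hy'⟩ := Groth.Agent.ASt.exists_chart_fIso φ.tgt y
  have hx's := IsoSmLib.repByAlgSpWith_smooth_of_fIso h𝒳' (Groth.Agent.ASt.repByAlgSp1_of_with h𝒳'd) h𝒳'i
    φ.src hx' hx
  have hy's := IsoSmLib.repByAlgSpWith_smooth_of_fIso h𝒴' (Groth.Agent.ASt.repByAlgSp1_of_with h𝒴'd) h𝒴'i
    φ.tgt hy' hy
  have hx'surj : AlgSt.RepByAlgSpWith AlgSp.IsSurjectiveMor x' := by
    refine Groth.Agent.ASt.repByAlgSpWith_surjective_of_isSurjective (Groth.Agent.ASt.repByAlgSp1_of_with hx's)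
      fun z => ?_
    obtain ⟨w, hw⟩ := Groth.Agent.ASt.isSurjective_of_repByAlgSpWith hxs
      (Groth.Agent.ASt.fIsoPts (Groth.Agent.ASt.fIsoSymm φ.src) z)
    obtain ⟨t, rfl⟩ := Groth.Agent.ASt.surjective_ofChart_id U w
    refine ⟨AlgSt.Points.ofChart (BasedFunctor.id (FibCat.overCat U)) t, ?_⟩
    rw [← Groth.Agent.ASt.ofChart_comp] at hw ⊢
    have hz := Groth.Agent.ASt.fIsoPts_symm' φ.src z
    rw [← hw] at hz
    refine Eq.trans ?_ hz
    exact (Groth.Agent.ASt.fIsoPts_ofChart φ.src hx' t).symm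
  have hcl : φ.tgt.toEquiv U (IsoNat.objCls (BasedFunctor.comp x f)) =
      IsoNat.objCls (BasedFunctor.comp x' f') := by
    refine (φ.comm U (IsoNat.objCls x)).trans ?_
    rw [hx']
    rfl
  have h1 : IsoSmLib.clAt (BasedFunctor.comp x' f') (𝟙 U) = IsoSmLib.clAt y' (𝟙 U ≫ h) := by
    rw [← IsoSmLib.toEquiv_clAt φ.tgt hy' (𝟙 U ≫ h), ← IsoSmLib.toEquiv_clAt φ.tgt hcl (𝟙 U),
      IsoSmLib.clAt_congr α]
    rfl
  obtain ⟨a, ha⟩ := IsoSmLib.clAt_eq_iff.1 h1
  exact ⟨U, V, x', y', h, Groth.Agent.ASt.funIso (y := BasedFunctor.comp x' f')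
    (y' := BasedFunctor.comp (AlgSt.overMap h) y') a ha, hx's, hx'surj, hy's, hP⟩

end Groth.Agent.S15470
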