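import Groth.Statements.S15480
import Groth.Agent.ASt.FIsoHomeo
import Groth.Agent.ASt.QcPts
set_option backward.isDefEq.respectTransparency false
set_option backward.isDefEq.respectTransparency.types false

set_option autoImplicit false
universe u
open CategoryTheory AlgebraicGeometry
open IsoNat

namespace Groth.Agent.S15480

/-- Quasi-compactness of a morphism of algebraic stacks is detected by the induced map of presheaves of
isomorphism classes. Let f : 𝒳 → 𝒴 and f' : 𝒳' → 𝒴' be morphisms of algebraic stacks over a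
quasi-separated scheme S with isomorphisms of the presheaves of isomorphism classes of 𝒳 with 𝒳' and
of 𝒴 with 𝒴' under which the induced maps correspond. If f is quasi-compact (its base change to
every quasi-compact algebraic stack is quasi-compact) then so is f'. Here an algebraic stack over a
quasi-separated scheme S means a stack in groupoids for the fppf topology with a smooth surjective
atlas from a scheme, whose diagonal is representable by separated quasi-compact morphisms of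
algebraic spaces and whose inertia is locally of finite presentation over it. -/
theorem result
    (S : Scheme.{u}) [QuasiSeparatedSpace S]
    (𝒳 𝒴 : AlgSt.Cat S)
    (h𝒳 : AlgSt.IsAlgStack Scheme.fppfPrecoverage 𝒳)
    (h𝒳d : AlgSt.RepByAlgSpWith (AlgSp.IsSeparatedMor ⊓ AlgSp.IsQuasiCompactMor)
      (FibCat.diag (FibCat.toSelf 𝒳)))
    (h𝒳i : AlgSt.RepByAlgSpWith (AlgSp.LocP @LocallyOfFinitePresentation)
      (FibCat.inertiaToBase (FibCat.toSelf 𝒳)))
    (h𝒴 : AlgSt.IsAlgStack Scheme.fppfPrecoverage 𝒴)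
    (h𝒴d : AlgSt.RepByAlgSpWith (AlgSp.IsSeparatedMor ⊓ AlgSp.IsQuasiCompactMor)
      (FibCat.diag (FibCat.toSelf 𝒴)))
    (h𝒴i : AlgSt.RepByAlgSpWith (AlgSp.LocP @LocallyOfFinitePresentation)
      (FibCat.inertiaToBase (FibCat.toSelf 𝒴)))
    (𝒳' 𝒴' : AlgSt.Cat S)
    (h𝒳' : AlgSt.IsAlgStack Scheme.fppfPrecoverage 𝒳')
    (h𝒳'd : AlgSt.RepByAlgSpWith (AlgSp.IsSeparatedMor ⊓ AlgSp.IsQuasiCompactMor)
      (FibCat.diag (FibCat.toSelf 𝒳')))
    (h𝒳'i : AlgSt.RepByAlgSpWith (AlgSp.LocP @LocallyOfFinitePresentation)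
      (FibCat.inertiaToBase (FibCat.toSelf 𝒳')))
    (h𝒴' : AlgSt.IsAlgStack Scheme.fppfPrecoverage 𝒴')
    (h𝒴'd : AlgSt.RepByAlgSpWith (AlgSp.IsSeparatedMor ⊓ AlgSp.IsQuasiCompactMor)
      (FibCat.diag (FibCat.toSelf 𝒴')))
    (h𝒴'i : AlgSt.RepByAlgSpWith (AlgSp.LocP @LocallyOfFinitePresentation)
      (FibCat.inertiaToBase (FibCat.toSelf 𝒴')))
    (f : 𝒳 ⥤ᵇ 𝒴) (f' : 𝒳' ⥤ᵇ 𝒴') (φ : IsoNat.FIsoSq f f')
    (hf : AlgSt.IsQuasiCompactMor Scheme.fppfPrecoverage f) :
    AlgSt.IsQuasiCompactMor Scheme.fppfPrecoverage f' := by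
  haveI := h𝒳.isStack.1
  haveI := h𝒴.isStack.1
  haveI := h𝒳'.isStack.1
  haveI := h𝒴'.isStack.1
  have h := (Groth.Agent.ASt.isQuasiCompactMor_iff_isCompact_preimage h𝒳 h𝒴
    (Groth.Agent.ASt.repByAlgSpWith_mono (fun _ _ _ _ _ h => h.2) h𝒴d) f).1 hf
  refine (Groth.Agent.ASt.isQuasiCompactMor_iff_isCompact_preimage h𝒳' h𝒴'
    (Groth.Agent.ASt.repByAlgSpWith_mono (fun _ _ _ _ _ h => h.2) h𝒴'd) f').2 fun K hKo hKc => ?_
  let es := Groth.Agent.ASt.fIsoHomeo h𝒳 h𝒳' φ.src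
  let et := Groth.Agent.ASt.fIsoHomeo h𝒴 h𝒴' φ.tgt
  have hK := h (et ⁻¹' K) (hKo.preimage et.continuous) (et.isCompact_preimage.2 hKc)
  rw [show AlgSt.Points.map f' ⁻¹' K = es '' (AlgSt.Points.map f ⁻¹' (et ⁻¹' K)) from ?_]
  · exact hK.image es.continuous
  ext z
  constructor
  · intro hz
    refine ⟨es.symm z, ?_, es.apply_symm_apply z⟩
    change Groth.Agent.ASt.fIsoPts φ.tgt (AlgSt.Points.map f (es.symm z)) ∈ K
    rw [Groth.Agent.ASt.fIsoPts_map φ]
    change AlgSt.Points.map f' (es (es.symm z)) ∈ K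
    rw [es.apply_symm_apply]
    exact hz
  · rintro ⟨w, hw, rfl⟩
    change AlgSt.Points.map f' (Groth.Agent.ASt.fIsoPts φ.src w) ∈ K
    rw [← Groth.Agent.ASt.fIsoPts_map φ]
    exact hw

end Groth.Agent.S15480
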