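import Groth.Statements.S15482
import Groth.Agent.ASt.FIsoHomeo
import Groth.Agent.ASt.QcPts
import Groth.Agent.ASt.OpenSub
import Groth.Agent.ASt.Pts
set_option backward.isDefEq.respectTransparency false
set_option backward.isDefEq.respectTransparency.types false

set_option autoImplicit false
universe u
open CategoryTheory AlgebraicGeometry
open IsoNat

namespace Groth.Agent.S15482

/-- A morphism f : 𝒳 → 𝒴 of algebraic stacks over a quasi-separated scheme S is quasi-compact (its base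
change to every quasi-compact algebraic stack is quasi-compact) if and only if for every
quasi-compact algebraic stack 𝒴' and every open immersion j : 𝒴' → 𝒴 (representable by open
immersions of algebraic spaces) the 2-fibre product 𝒴' ×_𝒴 𝒳 is quasi-compact. Here an algebraic
stack over a quasi-separated scheme S means a stack in groupoids for the fppf topology with a smooth
surjective atlas from a scheme, whose diagonal is representable by separated quasi-compact morphisms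
of algebraic spaces and whose inertia is locally of finite presentation over it. -/
theorem result
    (S : Scheme.{u}) [QuasiSeparatedSpace S]
    (𝒳 𝒴 : AlgSt.Cat S)
    (h𝒳 : AlgSt.IsAlgStack Scheme.fppfPrecoverage 𝒳)
    (h𝒳d : AlgSt.RepByAlgSpWith (AlgSp.IsSeparatedMor ⊓ AlgSp.IsQuasiCompactMor)
      (FibCat.diag (FibCat.toSelf 𝒳)))
    (h𝒳i : AlgSt.RepByAlgSpWith (AlgSp.LocP @LocallyOfFinitePresentation)
      (FibCat.inertiaToBase (FibCat.toSelf 𝒳)))
    (h𝒴 : AlgSt.IsAlgStack Scheme.fppfPrecoverage 𝒴)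
    (h𝒴d : AlgSt.RepByAlgSpWith (AlgSp.IsSeparatedMor ⊓ AlgSp.IsQuasiCompactMor)
      (FibCat.diag (FibCat.toSelf 𝒴)))
    (h𝒴i : AlgSt.RepByAlgSpWith (AlgSp.LocP @LocallyOfFinitePresentation)
      (FibCat.inertiaToBase (FibCat.toSelf 𝒴)))
    (f : 𝒳 ⥤ᵇ 𝒴) :
    AlgSt.IsQuasiCompactMor Scheme.fppfPrecoverage f ↔
      ∀ (𝒴' : AlgSt.Cat S), AlgSt.IsAlgStack Scheme.fppfPrecoverage 𝒴' → AlgSt.IsQuasiCompact 𝒴' →
        ∀ (j : 𝒴' ⥤ᵇ 𝒴), AlgSt.IsOpenImm j → AlgSt.IsQuasiCompact (FibCat.fp j f) := by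
  haveI := h𝒳.isStack.1
  haveI := h𝒴.isStack.1
  refine ⟨fun hf 𝒴' h1 h2 j _ => hf 𝒴' h1 h2 j, fun H => ?_⟩
  refine (Groth.Agent.ASt.isQuasiCompactMor_iff_isCompact_preimage h𝒳 h𝒴
    (Groth.Agent.ASt.repByAlgSpWith_mono (fun _ _ _ _ _ h => h.2) h𝒴d) f).2 fun K hKo hKc => ?_
  let Q := Groth.Agent.ASt.InOpen K
  have hQ := Groth.Agent.ASt.isOpenSubstack_inOpen K h𝒴 hKo
  haveI := hQ.2.1.isStack.1
  let j := AlgSt.subIncl 𝒴 Q
  haveI : j.toFunctor.Full := inferInstanceAs (ObjectProperty.ι Q).Full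
  obtain ⟨n, A, z, hA, -, hzK, hKz⟩ := Groth.Agent.ASt.exists_affine_charts h𝒴 hKc hKo subset_rfl
  let z' : ∀ i, FibCat.overCat (A i) ⥤ᵇ AlgSt.fullSub 𝒴 Q := fun i =>
    { toFunctor := ObjectProperty.lift Q (z i).toFunctor (fun k => by
        obtain ⟨kl, ⟨⟨⟩⟩, kh⟩ := k
        exact (Groth.Agent.ASt.inOpen_chart_iff K (z i) kh).2 fun t => hzK i ⟨_, rfl⟩)
      w := (z i).w }
  haveI : CompactSpace (AlgSt.Points (AlgSt.fullSub 𝒴 Q)) := ⟨by
    rw [show (Set.univ : Set (AlgSt.Points (AlgSt.fullSub 𝒴 Q))) = ⋃ i, Set.range (AlgSt.Points.ofChart (z' i)) from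
      (Set.eq_univ_of_forall fun w => ?_).symm]
    · exact isCompact_iUnion fun i => haveI := hA i; Groth.Agent.ASt.isCompact_range_chart hQ.2.1 (z' i)
    · have hw : AlgSt.Points.map j w ∈ K :=
        (Set.ext_iff.1 (Groth.Agent.ASt.range_subIncl_inOpen K) _).1 ⟨w, rfl⟩
      obtain ⟨i, u, hu⟩ := Set.mem_iUnion.1 (hKz hw)
      exact Set.mem_iUnion.2 ⟨i, u, Groth.Agent.ASt.injective_map_of_full j
        ((Groth.Agent.ASt.ofChart_comp (z' i) j u).symm.trans hu)⟩⟩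
  have h1 := H _ hQ.2.1 (Groth.Agent.ASt.isQuasiCompact_of_compactSpace hQ.2.1) j hQ.2.2
  haveI : FibCat.IsFibGrpd (FibCat.fp j f).p := Groth.Agent.ASt.isFibGrpd_fp
  haveI := Groth.Agent.ASt.compactSpace_of_isQuasiCompact
    (Groth.Agent.ASt.isAlgStack_fp (Groth.Agent.ASt.isPrestack_of_isStack h𝒴.isStack) h𝒴.diag hQ.2.1 h𝒳 j f) h1
  have e : AlgSt.Points.map f ⁻¹' K = Set.range (AlgSt.Points.map (FibCat.fpSnd j f)) := by
    ext x
    constructor
    · intro hx
      obtain ⟨w, hw⟩ := (Set.ext_iff.1 (Groth.Agent.ASt.range_subIncl_inOpen K) _).2 hx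
      obtain ⟨v, -, hv⟩ := Groth.Agent.ASt.points_surjective_fp j f w x hw
      exact ⟨v, hv⟩
    · rintro ⟨v, rfl⟩
      exact (Set.ext_iff.1 (Groth.Agent.ASt.range_subIncl_inOpen K) _).1
        ⟨_, Groth.Agent.ASt.points_fp_comm j f v⟩
  rw [e]
  exact isCompact_range (Groth.Agent.ASt.continuous_map_stack h𝒳 _)

end Groth.Agent.S15482
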