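import Groth.Statements.S15492
import Groth.Agent.ASt.OpenSub
set_option backward.isDefEq.respectTransparency false
set_option backward.isDefEq.respectTransparency.types false

set_option autoImplicit false
universe u
open CategoryTheory AlgebraicGeometry
open IsoNat

namespace Groth.Agent.S15492

/-- Open subfunctors of the presheaf of isomorphism classes come from open substacks. Let 𝒴 be an
algebraic stack over a quasi-separated scheme S and W a subfunctor of its presheaf of isomorphism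
classes — a set W(T) of isomorphism classes over each T, stable under pullback — which is open: for
every object x over T there is an open subscheme V of T such that a pullback of x along g : T' → T
has class in W(T') exactly when g factors through V. Then the strictly full subcategory of 𝒴 on the
objects whose class lies in W is an open substack (the converse direction, that an open substack
gives an open subfunctor, is immediate from the definitions, and the two constructions are mutually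
inverse). Here an algebraic stack over a quasi-separated scheme S means a stack in groupoids for the
fppf topology with a smooth surjective atlas from a scheme, whose diagonal is representable by
separated quasi-compact morphisms of algebraic spaces and whose inertia is locally of finite
presentation over it. (The published statement is for an arbitrary stack; this row takes 𝒴
algebraic.) -/
theorem result
    (S : Scheme.{u}) [QuasiSeparatedSpace S]
    (𝒴 : AlgSt.Cat S)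
    (h𝒴 : AlgSt.IsAlgStack Scheme.fppfPrecoverage 𝒴)
    (h𝒴d : AlgSt.RepByAlgSpWith (AlgSp.IsSeparatedMor ⊓ AlgSp.IsQuasiCompactMor)
      (FibCat.diag (FibCat.toSelf 𝒴)))
    (h𝒴i : AlgSt.RepByAlgSpWith (AlgSp.LocP @LocallyOfFinitePresentation)
      (FibCat.inertiaToBase (FibCat.toSelf 𝒴)))
    (W : ∀ T : Over S, Set (IsoNat.IsoCl 𝒴 T))
    (hWpull : ∀ (T' T : Over S) (g : T' ⟶ T) (x' : 𝒴.p.Fiber T') (x : 𝒴.p.Fiber T) (a : x'.1 ⟶ x.1),
      𝒴.p.IsHomLift g a → IsoNat.cls x ∈ W T → IsoNat.cls x' ∈ W T')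
    (hWopen : ∀ (T : Over S) (x : 𝒴.p.Fiber T), ∃ V : T.left.Opens,
      ∀ (T' : Over S) (g : T' ⟶ T) (x' : 𝒴.p.Fiber T') (a : x'.1 ⟶ x.1), 𝒴.p.IsHomLift g a →
        (IsoNat.cls x' ∈ W T' ↔ ∃ g' : T'.left ⟶ ↑V, g' ≫ V.ι = g.left)) :
    AlgSt.IsOpenSubstack 𝒴 (fun η => IsoNat.cls (⟨η, rfl⟩ : 𝒴.p.Fiber (𝒴.p.obj η)) ∈ W (𝒴.p.obj η))
      Scheme.fppfPrecoverage := by
  haveI := h𝒴.isStack.1
  let Q : 𝒴.obj → Prop := fun η => IsoNat.cls (⟨η, rfl⟩ : 𝒴.p.Fiber (𝒴.p.obj η)) ∈ W (𝒴.p.obj η)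
  have hQ : ∀ {x : 𝒴.obj} {T : Over S} (hx : 𝒴.p.obj x = T), Q x ↔ IsoNat.cls (⟨x, hx⟩ : 𝒴.p.Fiber T) ∈ W T :=
    fun {x T} hx => by subst hx; rfl
  have hlift : ∀ {x' x : 𝒴.obj} {T' T : Over S} (hx' : 𝒴.p.obj x' = T') (hx : 𝒴.p.obj x = T) (a : x' ⟶ x),
      ∃ g : T' ⟶ T, 𝒴.p.IsHomLift g a := fun hx' hx a =>
    ⟨eqToHom hx'.symm ≫ 𝒴.p.map a ≫ eqToHom hx, IsHomLift.of_fac' _ _ a hx' hx (by simp)⟩
  have hfld : ∀ {x' x : 𝒴.obj} {T : Over S} {T' : Over S} (hx' : 𝒴.p.obj x' = T') (hx : 𝒴.p.obj x = T)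
      (_ : Subsingleton ↥T.left) (_ : Nonempty ↥T'.left) (a : x' ⟶ x), Q x' ↔ Q x := by
    intro x' x T T' hx' hx hT hT' a
    obtain ⟨g, hg⟩ := hlift hx' hx a
    rw [hQ hx', hQ hx]
    refine ⟨fun h => ?_, hWpull T' T g ⟨x', hx'⟩ ⟨x, hx⟩ a hg⟩
    obtain ⟨V, hV⟩ := hWopen T ⟨x, hx⟩
    obtain ⟨g', hg'⟩ := (hV T' g ⟨x', hx'⟩ a hg).1 h
    obtain ⟨w⟩ := hT'
    have hVt : V = ⊤ := by
      ext t
      refine ⟨fun _ => trivial, fun _ => ?_⟩
      rw [Subsingleton.elim t (V.ι (g' w))]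
      exact (g' w).2
    refine (hV T (𝟙 T) ⟨x, hx⟩ (𝟙 x) (IsHomLift.of_fac' _ _ _ hx hx (by simp))).2 ?_
    subst hVt
    exact ⟨(Scheme.topIso T.left).inv, by simp⟩
  let O : Set (AlgSt.Points 𝒴) := {z | ∃ p, AlgSt.Points.mk p = z ∧ Q p.obj}
  have hO : ∀ p, AlgSt.Points.mk p ∈ O ↔ Q p.obj := fun p => by
    refine ⟨fun ⟨q, hq, hQq⟩ => ?_, fun h => ⟨p, rfl, h⟩⟩
    obtain ⟨r, a, b, -⟩ := Groth.Agent.ASt.mk_eq_mk_iff.1 hq
    exact (hfld r.lies p.lies (inferInstanceAs (Subsingleton ↥(Spec (CommRingCat.of p.K))))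
      (inferInstanceAs (Nonempty ↥(Spec (CommRingCat.of r.K)))) b).1
      ((hfld r.lies q.lies (inferInstanceAs (Subsingleton ↥(Spec (CommRingCat.of q.K))))
        (inferInstanceAs (Nonempty ↥(Spec (CommRingCat.of r.K)))) a).2 hQq)
  have hchart : ∀ {U : Over S} (y : FibCat.overCat U ⥤ᵇ 𝒴), ∃ V : U.left.Opens,
      AlgSt.Points.ofChart y ⁻¹' O = V ∧ ∀ (T : Over S) (k : T ⟶ U),
        Q (y.obj (Groth.Agent.ASt.ov k)) ↔ ∃ g' : T.left ⟶ ↑V, g' ≫ V.ι = k.left := by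
    intro U y
    obtain ⟨V, hV⟩ := hWopen U ⟨y.obj (Groth.Agent.ASt.ov (𝟙 U)), y.w_obj _⟩
    have key : ∀ (T : Over S) (k : T ⟶ U),
        Q (y.obj (Groth.Agent.ASt.ov k)) ↔ ∃ g' : T.left ⟶ ↑V, g' ≫ V.ι = k.left := fun T k => by
      rw [hQ ((y.w_obj (Groth.Agent.ASt.ov k)).trans (Groth.Agent.ASt.ov_base k))]
      exact hV T k ⟨_, _⟩ (y.map (Groth.Agent.ASt.toTop (Groth.Agent.ASt.ov k)))
        (IsHomLift.of_fac' 𝒴.p k _ ((y.w_obj (Groth.Agent.ASt.ov k)).trans (Groth.Agent.ASt.ov_base k)) (y.w_obj (Groth.Agent.ASt.ov (𝟙 U))) (Groth.Agent.ASt.map_toTop y _))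
    refine ⟨V, ?_, key⟩
    ext t
    refine ((hO _).trans (key _ (Groth.Agent.ASt.rHom U t))).trans ⟨?_, fun ht => ?_⟩
    · rintro ⟨g', hg'⟩
      let g'' : Spec (U.left.residueField t) ⟶ ↑V := g'
      have h : g'' ≫ V.ι = U.left.fromSpecResidueField t := hg'
      have := congrArg (fun q => q (default : ↥(Spec (U.left.residueField t)))) h
      simp [Scheme.fromSpecResidueField_apply] at this
      rw [show t = V.ι (g'' (default : ↥(Spec (U.left.residueField t)))) from this.symm]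
      exact (g'' (default : ↥(Spec (U.left.residueField t)))).2
    · have hr : Set.range (U.left.fromSpecResidueField t) ⊆ Set.range V.ι := by
        rw [Scheme.Opens.range_ι, Scheme.range_fromSpecResidueField]
        simpa using ht
      exact ⟨IsOpenImmersion.lift V.ι (U.left.fromSpecResidueField t) hr, IsOpenImmersion.lift_fac _ _ _⟩
  have hopen : IsOpen O := fun U y _ => by
    obtain ⟨V, hV, -⟩ := hchart y
    rw [hV]
    exact V.2
  have heq : Q = Groth.Agent.ASt.InOpen O := by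
    funext x
    apply propext
    obtain ⟨V, hV, hV'⟩ := hchart (Groth.Agent.ASt.objFun x (rfl : 𝒴.p.obj x = 𝒴.p.obj x))
    have hQx : Q x ↔ Q ((Groth.Agent.ASt.objFun x (rfl : 𝒴.p.obj x = 𝒴.p.obj x)).obj (Groth.Agent.ASt.ov (𝟙 _))) := by
      rw [hQ (rfl : 𝒴.p.obj x = _), hQ ((Groth.Agent.ASt.objFun x rfl).w_obj (Groth.Agent.ASt.ov (𝟙 (𝒴.p.obj x))))]
      constructor
      · exact hWpull _ _ (𝟙 _) ⟨_, _⟩ ⟨x, rfl⟩ (Groth.Agent.ASt.pullHom x rfl (𝟙 _))
          (Groth.Agent.ASt.isHomLift_pullHom x rfl (𝟙 _))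
      · haveI : IsIso (Groth.Agent.ASt.pullHom x (rfl : 𝒴.p.obj x = _) (𝟙 (𝒴.p.obj x))) := by
          have : IsIso (𝒴.p.map (Groth.Agent.ASt.pullHom x (rfl : 𝒴.p.obj x = _) (𝟙 (𝒴.p.obj x)))) := by
            rw [Groth.Agent.ASt.map_pullHom]; infer_instance
          exact Groth.Agent.ASt.isIso_of_isIso_map _
        exact hWpull _ _ (𝟙 _) ⟨x, rfl⟩ ⟨_, _⟩ (inv (Groth.Agent.ASt.pullHom x rfl (𝟙 _)))
          (IsHomLift.of_fac' 𝒴.p (𝟙 _) _ (rfl : 𝒴.p.obj x = _) (Groth.Agent.ASt.pull_base x rfl (𝟙 _)) (by simp [Groth.Agent.ASt.map_pullHom]))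
    refine hQx.trans ((hV' _ (𝟙 _)).trans ⟨fun ⟨g', hg'⟩ t => ?_, fun h => ?_⟩)
    · change t ∈ AlgSt.Points.ofChart _ ⁻¹' O
      rw [hV]
      have := congrArg (fun q : (𝒴.p.obj x).left ⟶ (𝒴.p.obj x).left => q t) hg'
      simp [Scheme.Hom.comp_apply] at this
      rw [show t = V.ι (g' t) from this.symm]
      exact (g' t).2
    · have hVt : V = ⊤ := by
        ext t
        exact ⟨fun _ => trivial, fun _ => (Set.ext_iff.1 hV t).1 (h t)⟩
      subst hVt
      exact ⟨(Scheme.topIso _).inv, by simp⟩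
  change AlgSt.IsOpenSubstack 𝒴 Q _
  rw [heq]
  exact Groth.Agent.ASt.isOpenSubstack_inOpen O h𝒴 hopen

end Groth.Agent.S15492
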