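import Groth.Statements.S15485
import Groth.Agent.CleanLocusLib.Main
import Groth.Agent.S15492

set_option autoImplicit false
universe u
open CategoryTheory AlgebraicGeometry
open IsoNat

namespace Groth.Agent.S15485

/-- If the inertia of an algebraic stack 𝒳 over a quasi-separated scheme S is proper over 𝒳, then the
clean locus of 𝒳 — the full subcategory of objects η such that every object with a morphism to η has
only the identity as endomorphism over the identity of its base — is an open substack of 𝒳, and its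
inclusion is (representable and) quasi-compact. Here an algebraic stack over a quasi-separated
scheme S means a stack in groupoids for the fppf topology with a smooth surjective atlas from a
scheme, whose diagonal is representable by separated quasi-compact morphisms of algebraic spaces and
whose inertia is locally of finite presentation over it. -/
theorem result
    (S : Scheme.{u}) [QuasiSeparatedSpace S]
    (𝒳 : AlgSt.Cat S)
    (h𝒳 : AlgSt.IsAlgStack Scheme.fppfPrecoverage 𝒳)
    (h𝒳d : AlgSt.RepByAlgSpWith (AlgSp.IsSeparatedMor ⊓ AlgSp.IsQuasiCompactMor)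
      (FibCat.diag (FibCat.toSelf 𝒳)))
    (h𝒳i : AlgSt.RepByAlgSpWith (AlgSp.LocP @LocallyOfFinitePresentation)
      (FibCat.inertiaToBase (FibCat.toSelf 𝒳)))
    (hpr : AlgSt.RepByAlgSpWith AlgSp.IsProperMor (FibCat.inertiaToBase (FibCat.toSelf 𝒳))) :
    AlgSt.IsOpenSubstack 𝒳 (fun η => IsoNat.IsClean η) Scheme.fppfPrecoverage ∧
      AlgSt.RepByAlgSpWith AlgSp.IsQuasiCompactMor (AlgSt.subIncl 𝒳 (fun η => IsoNat.IsClean η)) := by
  haveI := h𝒳.isStack.1
  let W : ∀ T : Over S, Set (IsoNat.IsoCl 𝒳 T) := fun T =>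
    {c | ∀ z : 𝒳.p.Fiber T, IsoNat.cls z = c → IsoNat.IsClean z.1}
  have hW : ∀ {T : Over S} (x : 𝒳.p.Fiber T), IsoNat.cls x ∈ W T ↔ IsoNat.IsClean x.1 := fun {T} x =>
    ⟨fun h => h x rfl, fun h z hz => by
      obtain ⟨a, -⟩ := ASt.cl_eq_iff.1 (show ASt.cl z.1 z.2 = ASt.cl x.1 x.2 from hz)
      exact CleanLocusLib.isClean_of_hom a h⟩
  have hQ : (fun η => IsoNat.cls (⟨η, rfl⟩ : 𝒳.p.Fiber (𝒳.p.obj η)) ∈ W (𝒳.p.obj η)) =
      (fun η => IsoNat.IsClean η) := funext fun η => propext (hW ⟨η, rfl⟩)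
  have hopen := Groth.Agent.S15492.result S 𝒳 h𝒳 h𝒳d h𝒳i W
    (fun T' T g x' x a _ h => (hW x').2 (CleanLocusLib.isClean_of_hom a ((hW x).1 h))) fun T x => by
      obtain ⟨V, -, hV⟩ := CleanLocusLib.exists_cleanOpen_obj hpr h𝒳i x.1 x.2
      refine ⟨V, fun T' g x' a ha => (hW x').trans ((hV g x'.1 x'.2 a
        (IsHomLift.fac' 𝒳.p g a)).trans ⟨fun hr => ?_, ?_⟩)⟩
      · exact ⟨IsOpenImmersion.lift V.ι g.left (by rwa [Scheme.Opens.range_ι]), IsOpenImmersion.lift_fac _ _ _⟩
      · rintro ⟨g', hg'⟩ _ ⟨t, rfl⟩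
        rw [← hg']
        exact (g' t).2
  rw [hQ] at hopen
  exact ⟨hopen, CleanLocusLib.quasiCompact_subIncl hpr h𝒳i hopen⟩

end Groth.Agent.S15485
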