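import Groth.Statements.S15488
import Mathlib
set_option backward.isDefEq.respectTransparency false
set_option backward.isDefEq.respectTransparency.types false

set_option autoImplicit false
universe u
open IsoNat

namespace Groth.Agent.S15488

/-- Let A be a nontrivial commutative ring, G a finite group, g an element of G of order ν and l an
element of A with l ^ ν = 1. In the free A-module of functions G → A (the regular representation, g
acting by translation v ↦ v(g·)), the submodule of v with v(g h) = l v(h) for all h is a direct
summand, free of rank |G| / ν (stated as: free, rank · ν = |G|, and a complementary submodule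
exists). (The published statement is over an arbitrary ring and also covers Hom(A^N, −) of the
regular representation, which follows; nontriviality of A is needed for the rank to be meaningful.) -/
theorem result
    (A : Type u) [CommRing A] [Nontrivial A] (G : Type u) [Group G] [Finite G]
    (g : G) (l : A) (hl : l ^ orderOf g = 1) :
    Module.Free A (LinearMap.ker (LinearMap.funLeft A A (fun h : G => g * h) - l • LinearMap.id)) ∧
      Module.finrank A (LinearMap.ker (LinearMap.funLeft A A (fun h : G => g * h) - l • LinearMap.id)) * orderOf g = Nat.card G ∧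
      ∃ E' : Submodule A (G → A), IsCompl (LinearMap.ker (LinearMap.funLeft A A (fun h : G => g * h) - l • LinearMap.id)) E' := by
  classical
  have := Fintype.ofFinite G
  let H := Subgroup.zpowers g
  let rep : G → G := fun h => (Quotient.mk (QuotientGroup.rightRel H) h).out
  have hdec : ∀ h, ∃ i : ℕ, g ^ i * rep h = h := by
    intro h
    have h1 : h * (rep h)⁻¹ ∈ H := QuotientGroup.rightRel_apply.mp (Quotient.mk_out (s := QuotientGroup.rightRel H) h)
    obtain ⟨i, hi⟩ := mem_powers_iff_mem_zpowers.mpr h1
    exact ⟨i, by simp only at hi; rw [hi, inv_mul_cancel_right]⟩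
  choose idx hidx using hdec
  let E := LinearMap.ker (LinearMap.funLeft A A (fun h : G => g * h) - l • LinearMap.id)
  have hmem : ∀ v : G → A, v ∈ E ↔ ∀ h, v (g * h) = l * v h := by
    intro v
    simp [E, funext_iff, sub_eq_zero, LinearMap.funLeft]
  have hpow : ∀ v ∈ E, ∀ (i : ℕ) h, v (g ^ i * h) = l ^ i * v h := by
    intro v hv i h
    induction i with
    | zero => simp
    | succ i ih => rw [pow_succ', _root_.mul_assoc, (hmem v).mp hv, ih, pow_succ']; ring
  let Q := Quotient (QuotientGroup.rightRel H)
  have hcong : ∀ (i j : ℕ) (h : G), g ^ i * h = g ^ j * h → l ^ i = l ^ j := by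
    intro i j h hij
    have := pow_eq_pow_iff_modEq.mp (mul_right_cancel hij)
    rw [← Nat.mod_add_div i (orderOf g), ← Nat.mod_add_div j (orderOf g), pow_add, pow_add, pow_mul, pow_mul, hl,
      _root_.one_pow, _root_.one_pow, this]
  let res : (G → A) →ₗ[A] (Q → A) := LinearMap.funLeft A A Quotient.out
  let ext : (Q → A) →ₗ[A] E :=
    { toFun := fun f => ⟨fun h => l ^ idx h * f (Quotient.mk _ h), by
        rw [hmem]
        intro h
        have hq : (Quotient.mk (QuotientGroup.rightRel H) (g * h)) = Quotient.mk _ h := by
          refine Quotient.sound (QuotientGroup.rightRel_apply.mpr ?_)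
          rw [mul_inv_rev, ← _root_.mul_assoc, mul_inv_cancel, _root_.one_mul]
          exact H.inv_mem (Subgroup.mem_zpowers g)
        have hrep : rep (g * h) = rep h := congrArg Quotient.out hq
        have h1 : l ^ idx (g * h) = l ^ (idx h + 1) := hcong _ _ (rep h) (by
          rw [pow_succ', _root_.mul_assoc, hidx h, ← hrep, hidx (g * h)])
        simp only [hq, h1, pow_succ']
        ring⟩
      map_add' := fun f f' => Subtype.ext (funext fun h => by simp [mul_add])
      map_smul' := fun c f => Subtype.ext (funext fun h => by simp; ring) }
  have hre : ∀ f, res (ext f) = f := by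
    intro f
    funext c
    change l ^ idx c.out * f (Quotient.mk _ c.out) = f c
    have h1 : rep c.out = c.out := congrArg Quotient.out c.out_eq
    have h2 : l ^ idx c.out = l ^ 0 := hcong _ _ c.out (by
      have := hidx c.out
      rw [h1] at this
      rw [this, pow_zero, _root_.one_mul])
    rw [h2, pow_zero, _root_.one_mul, c.out_eq]
  have her : ∀ v : E, ext (res v) = v := by
    intro v
    refine Subtype.ext (funext fun h => ?_)
    change l ^ idx h * (v : G → A) (rep h) = (v : G → A) h
    conv_rhs => rw [← hidx h, hpow v v.2]
  let e : E ≃ₗ[A] (Q → A) := LinearEquiv.ofLinear (res.comp E.subtype) ext (LinearMap.ext hre) (LinearMap.ext her)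
  refine ⟨Module.Free.of_equiv e.symm, ?_, ?_⟩
  · change Module.finrank A E * _ = _
    rw [e.finrank_eq, Module.finrank_pi, ← Nat.card_eq_fintype_card,
      Nat.card_congr (QuotientGroup.quotientRightRelEquivQuotientLeftRel H), ← Nat.card_zpowers g]
    exact (Subgroup.card_eq_card_quotient_mul_card_subgroup H).symm
  · exact ⟨_, LinearMap.isCompl_of_proj (f := ext.comp res) her⟩

end Groth.Agent.S15488
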