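import Groth.Statements.S1549
import Groth.Agent.GeomRedPtLib.Basic
import Groth.Agent.S1543
import Groth.Agent.S1628
import Groth.Agent.S2451
import Groth.Agent.DimFormulaLib.Misc
set_option backward.isDefEq.respectTransparency false
attribute [local instance] Curv2.stalkAlgebra
-- import your own Groth.Agent.* helpers here

set_option autoImplicit false
universe u
open CategoryTheory CategoryTheory.Limits AlgebraicGeometry
open Variety

namespace Groth.Agent.S1549

/-- For a reduced scheme locally of finite type over k, being geometrically reduced is equivalent to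
having a dense open subscheme that is smooth over k. -/
theorem result (k : Type u) [Field k] (X : Scheme.{u}) [X.Over (Spec (CommRingCat.of k))] [IsReduced X] [LocallyOfFiniteType (X ↘ (Spec (CommRingCat.of k)))] :
    GeometricallyReduced (X ↘ (Spec (CommRingCat.of k))) ↔ ∃ U : X.Opens, Dense (U : Set X) ∧ Smooth (U.ι ≫ (X ↘ (Spec (CommRingCat.of k)))) := by
  let s := X ↘ Spec (CommRingCat.of k)
  haveI : IsLocallyNoetherian X := LocallyOfFiniteType.isLocallyNoetherian s
  constructor
  · intro h
    refine ⟨s.smoothLocus, ?_, ?_⟩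
    · rw [dense_iff_closure_eq, Set.eq_univ_iff_forall]
      intro x
      obtain ⟨η, hηx, hmax⟩ := DimFormulaLib.exists_maximal_point x
      refine hηx.mem_closed isClosed_closure (subset_closure ?_)
      have hgen : closure ({η} : Set X) ∈ irreducibleComponents (X : Type u) := by
        refine ⟨isIrreducible_singleton.closure, fun T hT hle => ?_⟩
        obtain ⟨ζ, hζ⟩ := QuasiSober.sober hT.closure isClosed_closure
        have h1 : ζ ⤳ η := hζ.specializes (subset_closure (hle (subset_closure rfl)))
        intro t ht
        rw [← hmax ζ h1, hζ.def]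
        exact subset_closure ht
      obtain ⟨V, hV, hηV, -⟩ := exists_isAffineOpen_mem_and_subset (X := X) (x := η) (U := ⊤) trivial
      haveI hA : Algebra.IsGeometricallyReduced k (X.presheaf.stalk η) :=
        (GeomRedPtLib.isGeomReducedAt_iff η).1 ((GeomRedPtLib.geometricallyReduced_iff_forall.1 h) η)
      haveI : LocallyOfFinitePresentation s := inferInstance
      let ψ : k →+* Γ(Spec (CommRingCat.of k), ⊤) := (Scheme.ΓSpecIso (CommRingCat.of k)).inv.hom
      have hψ : Function.Bijective ψ := (Scheme.ΓSpecIso (CommRingCat.of k)).symm.commRingCatIsoToRingEquiv.bijective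
      show η ∈ s.smoothLocus
      rw [Scheme.Hom.mem_smoothLocus, formallySmooth_stalkMap_iff ⊤ (isAffineOpen_top _) V hV le_top hηV]
      letI := (s.appLE ⊤ V le_top).hom.toAlgebra
      letI := ψ.toAlgebra
      letI : Algebra k Γ(X, V) := ((s.appLE ⊤ V le_top).hom.comp ψ).toAlgebra
      haveI : IsScalarTower k Γ(Spec (CommRingCat.of k), ⊤) Γ(X, V) := IsScalarTower.of_algebraMap_eq fun _ => rfl
      let q := (hV.primeIdealOf ⟨η, hηV⟩).asIdeal
      letI : Algebra Γ(X, V) (X.presheaf.stalk η) := TopCat.Presheaf.algebra_section_stalk X.presheaf ⟨η, hηV⟩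
      haveI : IsLocalization.AtPrime (X.presheaf.stalk η) q := hV.isLocalization_stalk ⟨η, hηV⟩
      haveI : IsScalarTower k Γ(X, V) (X.presheaf.stalk η) := IsScalarTower.of_algebraMap_eq fun c => by
        show X.presheaf.germ ⊤ η trivial (s.appTop (ψ c)) = X.presheaf.germ V η hηV (s.appLE ⊤ V le_top (ψ c))
        rw [show s.appLE ⊤ V le_top = s.appTop ≫ X.presheaf.map (homOfLE le_top).op from rfl]
        exact (TopCat.Presheaf.germ_res_apply X.presheaf (homOfLE le_top) η hηV _).symm
      have hf : IsField (X.presheaf.stalk η) := isField_stalk_of_closure_mem_irreducibleComponents X η hgen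
      haveI : Algebra.FormallySmooth k (X.presheaf.stalk η) := by
        letI := hf.toField
        exact Groth.Agent.S2451.result.2 hA
      haveI : Algebra.FormallyUnramified k Γ(Spec (CommRingCat.of k), ⊤) :=
        Algebra.FormallyUnramified.of_surjective (Algebra.ofId _ _) hψ.2
      haveI : IsScalarTower k Γ(Spec (CommRingCat.of k), ⊤) (Localization.AtPrime q) :=
        IsScalarTower.of_algebraMap_eq fun c => by
          rw [IsScalarTower.algebraMap_apply k Γ(X, V) (Localization.AtPrime q),
            IsScalarTower.algebraMap_apply k Γ(Spec (CommRingCat.of k), ⊤) Γ(X, V),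
            ← IsScalarTower.algebraMap_apply Γ(Spec (CommRingCat.of k), ⊤) Γ(X, V) (Localization.AtPrime q)]
      haveI : Algebra.FormallySmooth k (Localization.AtPrime q) :=
        Algebra.FormallySmooth.of_equiv
          ((IsLocalization.algEquiv q.primeCompl (X.presheaf.stalk η) (Localization.AtPrime q)).restrictScalars k)
      exact Algebra.FormallySmooth.of_restrictScalars k Γ(Spec (CommRingCat.of k), ⊤) (Localization.AtPrime q)
    · exact Scheme.Hom.smoothLocus_eq_top_iff.1 (by rw [← Scheme.Hom.preimage_smoothLocus_eq, Scheme.Opens.ι_preimage_self])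
  · rintro ⟨U, hUd, hUs⟩
    refine S1543.result k X fun Z hZ η hη K _ _ x' hx' => ?_
    have hmax : ∀ w : X, w ⤳ η → w = η := by
      intro w hw
      refine (hw.antisymm ?_).eq
      have h1 : Z ⊆ closure ({w} : Set X) :=
        hη.def ▸ closure_minimal (Set.singleton_subset_iff.2 hw.mem_closure) isClosed_closure
      have h2 : closure ({w} : Set X) ⊆ Z := hZ.2 isIrreducible_singleton.closure h1
      exact specializes_iff_mem_closure.2 (hη.def.symm ▸ h2 (subset_closure rfl))
    have hηU : η ∈ U := DimFormulaLib.mem_of_dense U.isOpen hUd hmax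
    letI overU : (U : Scheme.{u}).Over (Spec (CommRingCat.of k)) := ⟨U.ι ≫ s⟩
    haveI : Smooth ((U : Scheme.{u}) ↘ Spec (CommRingCat.of k)) := hUs
    have hgr := (S1628.result k (U : Scheme.{u})).1
    let tK := Spec.map (CommRingCat.ofHom (algebraMap k K))
    haveI : IsReduced (pullback (U.ι ≫ s) tK) :=
      pullback_of_geometrically (P := IsReduced) hgr.geometrically_isReduced K tK
    let m : pullback (U.ι ≫ s) tK ⟶ Curv2.bc k X K :=
      pullback.map _ _ _ _ U.ι (𝟙 _) (𝟙 _) (Category.comp_id _) ((Category.comp_id _).trans (Category.id_comp _).symm)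
    haveI : IsOpenImmersion m := by
      show IsOpenImmersion (pullback.map _ _ _ _ U.ι (𝟙 _) (𝟙 _) _ _)
      infer_instance
    obtain ⟨y, rfl⟩ : x' ∈ Set.range m := by
      rw [Scheme.Pullback.range_map]
      refine ⟨?_, ⟨_, rfl⟩⟩
      show Curv2.bcFst k X K x' ∈ Set.range U.ι
      rw [hx', Scheme.Opens.range_ι]
      exact hηU
    exact isReduced_of_injective (m.stalkMap y).hom (ConcreteCategory.bijective_of_isIso (m.stalkMap y)).1

end Groth.Agent.S1549
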