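import Groth.Statements.S15491
import Mathlib.CategoryTheory.Equivalence
set_option backward.isDefEq.respectTransparency false
set_option backward.isDefEq.respectTransparency.types false

set_option autoImplicit false
universe v u
open CategoryTheory CategoryTheory.Functor
open IsoNat

namespace Groth.Agent.S15491

/-- Pasting of 2-cartesian squares, stated in the 2-category of categories. Consider functors t : A → B,
t' : A' → B', t'' : A'' → B'' and l : A → A', r : B → B', l' : A' → A'', r' : B' → B'' with natural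
isomorphisms e₁ : t ⋙ r ≅ l ⋙ t' and e₂ : t' ⋙ r' ≅ l' ⋙ t''. If the lower square (t', l', r', t'',
e₂) is 2-cartesian (its comparison functor to the 2-fibre product is an equivalence), then the upper
square (t, l, r, t', e₁) is 2-cartesian if and only if the outer rectangle (t, l ⋙ l', r ⋙ r', t'')
with the pasted isomorphism is. (The published statement is for an arbitrary 2-category whose
2-morphisms are invertible; this row is the case of categories, functors and natural isomorphisms.) -/
theorem result
    {A B A' B' A'' B'' : Type u} [Category.{v} A] [Category.{v} B] [Category.{v} A'] [Category.{v} B']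
    [Category.{v} A''] [Category.{v} B'']
    (t : A ⥤ B) (l : A ⥤ A') (r : B ⥤ B') (t' : A' ⥤ B') (l' : A' ⥤ A'') (r' : B' ⥤ B'') (t'' : A'' ⥤ B'')
    (e₁ : t ⋙ r ≅ l ⋙ t') (e₂ : t' ⋙ r' ≅ l' ⋙ t'')
    (h₂ : FibCat.IsTwoCart t' l' r' t'' e₂) :
    FibCat.IsTwoCart t l r t' e₁ ↔
      FibCat.IsTwoCart t (l ⋙ l') (r ⋙ r') t''
        ((Functor.associator t r r').symm ≪≫ isoWhiskerRight e₁ r' ≪≫ Functor.associator l t' r' ≪≫
          isoWhiskerLeft l e₂ ≪≫ (Functor.associator l l' t'').symm) := by
  let Φ := (Limits.CategoricalPullback.CatCommSqOver.toFunctorToCategoricalPullback r' t'' A').obj ⟨t', l', e₂⟩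
  haveI : Φ.IsEquivalence := h₂
  let K : Limits.CategoricalPullback r t' ⥤ Limits.CategoricalPullback (r ⋙ r') t'' :=
    { obj := fun x => ⟨x.fst, l'.obj x.snd, r'.mapIso x.iso ≪≫ e₂.app x.snd⟩
      map := fun {x y} m => {
        fst := m.fst
        snd := l'.map m.snd
        w := by
          dsimp
          rw [← r'.map_comp_assoc, m.w, r'.map_comp_assoc]
          have := e₂.hom.naturality m.snd
          dsimp at this
          rw [this]
          simp }
      map_id := fun x => by ext <;> simp
      map_comp := fun m n => by ext <;> simp }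
  haveI hKf : K.Faithful := ⟨fun {x y} {m n} e => by
    have h1 : m.fst = n.fst := congrArg (fun q => q.fst) e
    have h2 : l'.map m.snd = l'.map n.snd := congrArg (fun q => q.snd) e
    refine Limits.CategoricalPullback.hom_ext h1 (Φ.map_injective (Limits.CategoricalPullback.hom_ext ?_ h2))
    change t'.map m.snd = t'.map n.snd
    exact (cancel_epi x.iso.hom).1 (by rw [← m.w, ← n.w, h1])⟩
  haveI hKfull : K.Full := ⟨fun {x y} m => by
    let n : Φ.obj x.snd ⟶ Φ.obj y.snd :=
      { fst := x.iso.inv ≫ r.map m.fst ≫ y.iso.hom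
        snd := m.snd
        w := by
          have hw := m.w
          dsimp [K] at hw
          change r'.map (x.iso.inv ≫ r.map m.fst ≫ y.iso.hom) ≫ e₂.hom.app y.snd =
            e₂.hom.app x.snd ≫ t''.map m.snd
          simp only [Functor.map_comp, Category.assoc] at hw ⊢
          rw [hw, ← r'.map_comp_assoc, x.iso.inv_hom_id]
          simp }
    refine ⟨⟨m.fst, Φ.preimage n, ?_⟩, ?_⟩
    · have h := congrArg (fun q => q.fst) (Φ.map_preimage n)
      change t'.map (Φ.preimage n) = _ at h
      rw [h]
      simp [n]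
    · exact Limits.CategoricalPullback.hom_ext rfl (congrArg (fun q => q.snd) (Φ.map_preimage n))⟩
  haveI hKe : K.EssSurj := ⟨fun z => by
    let p : Limits.CategoricalPullback r' t'' := ⟨r.obj z.fst, z.snd, z.iso⟩
    let a' := Φ.objPreimage p
    let i : Φ.obj a' ≅ p := Φ.objObjPreimageIso p
    let u : t'.obj a' ≅ r.obj z.fst := (Limits.CategoricalPullback.π₁ r' t'').mapIso i
    let v : l'.obj a' ≅ z.snd := (Limits.CategoricalPullback.π₂ r' t'').mapIso i
    refine ⟨⟨z.fst, a', u.symm⟩, ⟨Limits.CategoricalPullback.mkIso (Iso.refl _) v ?_⟩⟩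
    have hw : r'.map i.hom.fst ≫ z.iso.hom = e₂.hom.app a' ≫ t''.map i.hom.snd := i.hom.w
    have hu : r'.map i.inv.fst ≫ r'.map i.hom.fst = 𝟙 _ := by
      rw [← r'.map_comp, ← Limits.CategoricalPullback.comp_fst, i.inv_hom_id]
      simp
    change r'.map (r.map (𝟙 z.fst)) ≫ z.iso.hom = (r'.map i.inv.fst ≫ e₂.hom.app a') ≫ t''.map i.hom.snd
    rw [Category.assoc, ← hw, ← Category.assoc (r'.map i.inv.fst), hu]
    simp⟩
  haveI : K.IsEquivalence := { }
  let Φ₁ := (Limits.CategoricalPullback.CatCommSqOver.toFunctorToCategoricalPullback r t' A).obj ⟨t, l, e₁⟩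
  let Φ₂ := (Limits.CategoricalPullback.CatCommSqOver.toFunctorToCategoricalPullback (r ⋙ r') t'' A).obj
    ⟨t, l ⋙ l', ((Functor.associator t r r').symm ≪≫ isoWhiskerRight e₁ r' ≪≫ Functor.associator l t' r' ≪≫
          isoWhiskerLeft l e₂ ≪≫ (Functor.associator l l' t'').symm)⟩
  let γ : Φ₁ ⋙ K ≅ Φ₂ := NatIso.ofComponents
    (fun a => Limits.CategoricalPullback.mkIso (Iso.refl _) (Iso.refl _) (by simp [Φ₁, Φ₂, K]; rfl))
    (fun {a b} m => by ext <;> simp [Φ₁, Φ₂, K])
  change Φ₁.IsEquivalence ↔ Φ₂.IsEquivalence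
  constructor
  · intro h
    exact Functor.isEquivalence_of_iso γ
  · intro h
    haveI : (Φ₁ ⋙ K).IsEquivalence := Functor.isEquivalence_of_iso γ.symm
    exact Functor.isEquivalence_of_comp_right Φ₁ K

end Groth.Agent.S15491
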