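import Groth.Statements.S15493
import Groth.Agent.ASt.FIsoPts
import Groth.Agent.ASt.Generic
import Groth.Agent.ASt.DiagRep
set_option backward.isDefEq.respectTransparency false
set_option backward.isDefEq.respectTransparency.types false

set_option autoImplicit false
universe u
open CategoryTheory AlgebraicGeometry
open IsoNat

namespace Groth.Agent.S15493

/-- The presheaf of isomorphism classes commutes with fibre products along an open immersion. Let f : 𝒳
→ 𝒴 be a morphism of algebraic stacks over a quasi-separated scheme S and i : 𝒴' → 𝒴 an open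
immersion of algebraic stacks (representable by open immersions of algebraic spaces). If two objects
of the 2-fibre product 𝒳 ×_𝒴 𝒴' over a scheme T have isomorphic images in 𝒳 over T and isomorphic
images in 𝒴' over T, then they are isomorphic over T. (Together with the evident surjectivity this
says that the natural map from the presheaf of isomorphism classes of 𝒳 ×_𝒴 𝒴' to the fibre product
of the presheaves of 𝒳 and 𝒴' over that of 𝒴 is an isomorphism; the published statement is for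
arbitrary stacks, this row takes them algebraic.) -/
theorem result
    (S : Scheme.{u}) [QuasiSeparatedSpace S]
    (𝒳 𝒴 𝒴' : AlgSt.Cat S)
    (h𝒳 : AlgSt.IsAlgStack Scheme.fppfPrecoverage 𝒳) (h𝒴 : AlgSt.IsAlgStack Scheme.fppfPrecoverage 𝒴)
    (h𝒴' : AlgSt.IsAlgStack Scheme.fppfPrecoverage 𝒴')
    (f : 𝒳 ⥤ᵇ 𝒴) (i : 𝒴' ⥤ᵇ 𝒴) (hi : AlgSt.IsOpenImm i)
    (T : Over S) (z₁ z₂ : (FibCat.fp f i).p.Fiber T)
    (h₁ : IsoNat.mapCls (FibCat.fpFst f i) T (IsoNat.cls z₁) = IsoNat.mapCls (FibCat.fpFst f i) T (IsoNat.cls z₂))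
    (h₂ : IsoNat.mapCls (FibCat.fpSnd f i) T (IsoNat.cls z₁) = IsoNat.mapCls (FibCat.fpSnd f i) T (IsoNat.cls z₂)) :
    IsoNat.cls z₁ = IsoNat.cls z₂ := by
  haveI := h𝒳.isStack.1
  haveI := h𝒴.isStack.1
  haveI := h𝒴'.isStack.1
  haveI : FibCat.IsFibGrpd (FibCat.fp f i).p := Groth.Agent.ASt.isFibGrpd_fp
  have hmono : AlgSt.IsMono i := Groth.Agent.ASt.repByAlgSpWith_mono
    (fun _ _ a _ _ h => Groth.Agent.ASp.mono_of_repWith (fun k hk => by have : IsOpenImmersion k := hk; infer_instance) h) hi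
  obtain ⟨hfull, -⟩ := Groth.Agent.ASt.full_faithful_of_isMono hmono
  obtain ⟨v, hv⟩ := Groth.Agent.ASt.exists_vert_of_cls_eq
    (a := (IsoNat.fibFun (FibCat.fpFst f i) T).obj z₁) (b := (IsoNat.fibFun (FibCat.fpFst f i) T).obj z₂) h₁
  let v' : z₁.1.obj.fst ⟶ z₂.1.obj.fst := v
  let γ : i.obj z₁.1.obj.snd ⟶ i.obj z₂.1.obj.snd :=
    z₁.1.obj.iso.inv ≫ f.map v' ≫ z₂.1.obj.iso.hom
  let β := i.toFunctor.preimage γ
  let m : z₁.1 ⟶ z₂.1 := Groth.Agent.ASt.fpHomMk v' β
    (by simp [β, γ])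
  haveI : (FibCat.fp f i).p.IsHomLift (𝟙 T) m :=
    Groth.Agent.ASt.isHomLift_id_of_map m z₁.2 (e := z₁.2.trans z₂.2.symm) hv
  haveI : IsIso m := Groth.Agent.ASt.isIso_of_vert m (e := z₁.2.trans z₂.2.symm) hv
  haveI : (FibCat.fp f i).p.IsHomLift (𝟙 T) (inv m) :=
    Groth.Agent.ASt.isHomLift_id_of_map (inv m) z₂.2 (e := z₂.2.trans z₁.2.symm) (by
      rw [Functor.map_inv]
      apply IsIso.inv_eq_of_hom_inv_id
      rw [show (FibCat.fp f i).p.map m = eqToHom (z₁.2.trans z₂.2.symm) from hv]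
      simp)
  exact Quotient.sound ⟨{ hom := Functor.Fiber.homMk (FibCat.fp f i).p T m
                          inv := Functor.Fiber.homMk (FibCat.fp f i).p T (inv m)
                          hom_inv_id := Functor.Fiber.hom_ext (IsIso.hom_inv_id m)
                          inv_hom_id := Functor.Fiber.hom_ext (IsIso.inv_hom_id m) }⟩

end Groth.Agent.S15493
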