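import Mathlib
import Groth.Statements.S15494

set_option autoImplicit false
universe u v
open Dieud

namespace Groth.Agent.S15494

/-- Let W be a commutative ring with a ring endomorphism σ, p a natural number, M a W-module and F an
additive self-map of M with F (w • m) = σ w • F m. Let d ≥ 1, c ≥ 1, h = d + c, and let e_1, …, e_h,
… be vectors of M on which F acts through a display matrix in normal form: F e_i = e_{i+1} for 1 ≤ i
< d; F e_d = Σ_{i=1}^{d} a_{i,d} e_i + e_{d+1}; F e_j = Σ_{i=1}^{d} p a_{i,j} e_i + p e_{j+1} for d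
< j < h; F e_h = Σ_{i=1}^{d} p a_{i,h} e_i. Then F^h e_1 = Σ_{i=1}^{d} Σ_{j=d}^{h} p^{j-d}
σ^{h-j}(a_{i,j}) F^{h+i-j-1} e_1. (The published statement is for the Dieudonné module of a
p-divisible group of dimension d and height h over the Witt ring of a field of characteristic p,
with σ the Frobenius and e_1, …, e_h a basis; this row keeps only the relations which the printed
computation uses, so W, σ, p and the vectors are arbitrary.) -/
theorem result
    (W : Type u) [CommRing W] (σ : W →+* W) (p : ℕ)
    (M : Type v) [AddCommGroup M] [Module W M]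
    (F : M →+ M) (hF : ∀ (w : W) (m : M), F (w • m) = σ w • F m)
    (d c : ℕ) (hd : 0 < d) (hc : 0 < c)
    (a : ℕ → ℕ → W) (e : ℕ → M)
    (h1 : ∀ i : ℕ, 1 ≤ i → i < d → F (e i) = e (i + 1))
    (h2 : F (e d) = (∑ i ∈ Finset.Icc 1 d, a i d • e i) + e (d + 1))
    (h3 : ∀ j : ℕ, d < j → j < d + c →
      F (e j) = (∑ i ∈ Finset.Icc 1 d, ((p : W) * a i j) • e i) + (p : W) • e (j + 1))
    (h4 : F (e (d + c)) = ∑ i ∈ Finset.Icc 1 d, ((p : W) * a i (d + c)) • e i) :
    (⇑F)^[d + c] (e 1) = ∑ i ∈ Finset.Icc 1 d, ∑ j ∈ Finset.Icc d (d + c),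
      ((p : W) ^ (j - d) * (⇑σ)^[d + c - j] (a i j)) • (⇑F)^[d + c + i - j - 1] (e 1) := by
  have hsum : ∀ (s : Finset ℕ) (f : ℕ → M), F (∑ i ∈ s, f i) = ∑ i ∈ s, F (f i) := fun s f => map_sum F f s
  have hiter : ∀ i, 1 ≤ i → i ≤ d → e i = (⇑F)^[i - 1] (e 1) := by
    intro i h1i
    induction i, h1i using Nat.le_induction with
    | base => intro _; rfl
    | succ i hi ih =>
      intro hid
      rw [← h1 i hi (by omega), ih (by omega), show i + 1 - 1 = (i - 1) + 1 by omega,
        Function.iterate_succ_apply']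
  let T : ℕ → M := fun m => ∑ i ∈ Finset.Icc 1 d, ∑ j ∈ Finset.Icc d (d + m),
    ((p : W) ^ (j - d) * (⇑σ)^[d + m - j] (a i j)) • (⇑F)^[d + m + i - j - 1] (e 1)
  have hstep : ∀ m, F (T m) + ∑ i ∈ Finset.Icc 1 d, ((p : W) ^ (m + 1) * a i (d + m + 1)) • e i =
      T (m + 1) := by
    intro m
    simp only [T, hsum, hF]
    rw [← Finset.sum_add_distrib]
    refine Finset.sum_congr rfl fun i hi => ?_
    obtain ⟨hi1, hid⟩ := Finset.mem_Icc.mp hi
    rw [show d + (m + 1) = d + m + 1 from rfl, Finset.sum_Icc_succ_top (by omega : d ≤ d + m + 1)]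
    congr 1
    · refine Finset.sum_congr rfl fun j hj => ?_
      obtain ⟨hj1, hj2⟩ := Finset.mem_Icc.mp hj
      rw [map_mul, map_pow, map_natCast, ← Function.iterate_succ_apply' (⇑σ),
        ← Function.iterate_succ_apply' (⇑F),
        show d + m + 1 - j = (d + m - j) + 1 by omega,
        show d + m + 1 + i - j - 1 = (d + m + i - j - 1) + 1 by omega]
    · rw [hiter i hi1 hid, Nat.sub_self, Function.iterate_zero_apply,
        show d + m + 1 - d = m + 1 by omega, show d + m + 1 + i - (d + m + 1) - 1 = i - 1 by omega]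
  have key : ∀ m, m < c → (⇑F)^[d + m] (e 1) = T m + (p : W) ^ m • e (d + m + 1) := by
    intro m hm
    induction m with
    | zero =>
      rw [Nat.add_zero, pow_zero, one_smul, show d = d - 1 + 1 by omega, Function.iterate_succ_apply',
        ← hiter d hd le_rfl, ← show d = d - 1 + 1 by omega, h2]
      congr 1
      refine Finset.sum_congr rfl fun i hi => ?_
      obtain ⟨hi1, hid⟩ := Finset.mem_Icc.mp hi
      rw [Nat.add_zero, Finset.Icc_self, Finset.sum_singleton, Nat.sub_self, pow_zero, one_mul,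
        Function.iterate_zero_apply, show d + i - d - 1 = i - 1 by omega, hiter i hi1 hid]
    | succ m ih =>
      rw [show d + (m + 1) = d + m + 1 from rfl, Function.iterate_succ_apply', ih (by omega), map_add,
        hF, map_pow, map_natCast, h3 (d + m + 1) (by omega) (by omega), smul_add, Finset.smul_sum,
        smul_smul, ← pow_succ, ← hstep m]
      simp only [smul_smul, ← mul_assoc, ← pow_succ]
      abel
  obtain ⟨m, rfl⟩ : ∃ m, c = m + 1 := ⟨c - 1, by omega⟩
  rw [show d + (m + 1) = d + m + 1 from rfl, Function.iterate_succ_apply', key m (by omega), map_add,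
    hF, map_pow, map_natCast, show d + m + 1 = d + (m + 1) from rfl, h4, Finset.smul_sum]
  simp only [smul_smul, ← mul_assoc, ← pow_succ]
  exact hstep m

end Groth.Agent.S15494
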