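import Groth.Statements.S15495
import Mathlib

set_option autoImplicit false
universe u
open CAlg

namespace Groth.Agent.S15495

/-- In an Artinian local ring R whose maximal ideal m contains the prime number p, the multiplicative
group 1 + m is annihilated under some power of p: there is n with (1 + x)^(p^n) = 1 for every x in
m. (The published text makes this assertion inside a proof, for Artinian local algebras over the
Witt ring of a perfect field of characteristic p; only p ∈ m and the nilpotence of m are used.) -/
theorem result
    (R : Type u) [CommRing R] [IsLocalRing R] [IsArtinianRing R]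
    (p : ℕ) (hp : p.Prime) (hpm : (p : R) ∈ IsLocalRing.maximalIdeal R) :
    ∃ n : ℕ, ∀ x ∈ IsLocalRing.maximalIdeal R, (1 + x) ^ (p ^ n) = 1 := by
  obtain ⟨N, hN⟩ := (isArtinianRing_iff_isNilpotent_maximalIdeal R).mp ‹_›
  refine ⟨N, fun x hx => ?_⟩
  have key : ∀ k, (1 + x) ^ (p ^ k) - 1 ∈ IsLocalRing.maximalIdeal R ^ (k+1) := by
    intro k; induction k with
    | zero => simpa using hx
    | succ k ih =>
      rw [pow_succ p, pow_mul]
      set y := (1 + x) ^ p ^ k
      have hy : y - 1 ∈ IsLocalRing.maximalIdeal R := Ideal.pow_le_self (by omega) ih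
      have hs : (∑ i ∈ Finset.range p, y ^ i) ∈ IsLocalRing.maximalIdeal R := by
        have : (∑ i ∈ Finset.range p, y ^ i) - p = ∑ i ∈ Finset.range p, (y ^ i - 1) := by simp
        have hm : ∑ i ∈ Finset.range p, (y ^ i - 1) ∈ IsLocalRing.maximalIdeal R :=
          sum_mem fun i _ => by rw [← geom_sum_mul y i]; exact Ideal.mul_mem_left _ _ hy
        rw [← this] at hm
        simpa using add_mem hm hpm
      rw [← geom_sum_mul y p, pow_succ' _ (k+1)]
      exact Ideal.mul_mem_mul hs ih
  have := key N
  rw [pow_succ, hN, zero_mul] at this
  exact sub_eq_zero.mp this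

end Groth.Agent.S15495
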