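import Groth.Statements.S15496
import Mathlib

set_option autoImplicit false
universe u
open CAlg

namespace Groth.Agent.S15496

/-- Let R be a local ring with maximal ideal m, p a prime number lying in m, and suppose the residue
field of R is perfect, i.e. every element is a p-th power; let n ≥ 0. Then every unit of R is the
product of a p^n-th power of a unit and an element of 1 + m, and an element of 1 + m which is a
p^n-th power of a unit is a p^n-th power of an element of 1 + m; so the inclusion of 1 + m in the
unit group induces a bijection between (1 + m)/(1 + m)^(p^n) and Rˣ/(Rˣ)^(p^n). (The published text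
derives this equality of quotients, inside a proof, from perfectness of the base field K for all
Artinian local algebras over its Witt ring, whose residue fields need not be perfect; this row
assumes the residue field of R perfect of characteristic p, which the equality needs, and does not
assume R Artinian.) -/
theorem result
    (R : Type u) [CommRing R] [IsLocalRing R] (p : ℕ) (hp : p.Prime)
    (hpm : (p : R) ∈ IsLocalRing.maximalIdeal R)
    (hperf : ∀ a : IsLocalRing.ResidueField R, ∃ b : IsLocalRing.ResidueField R, b ^ p = a)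
    (n : ℕ) :
    (∀ u : Rˣ, ∃ v : Rˣ, ∃ x ∈ IsLocalRing.maximalIdeal R, (u : R) = (v : R) ^ (p ^ n) * (1 + x)) ∧
    (∀ x ∈ IsLocalRing.maximalIdeal R, (∃ v : Rˣ, (v : R) ^ (p ^ n) = 1 + x) →
      ∃ y ∈ IsLocalRing.maximalIdeal R, (1 + y) ^ (p ^ n) = 1 + x) := by
  have hroot : ∀ (k : ℕ) (a : IsLocalRing.ResidueField R), ∃ b, b ^ (p ^ k) = a := by
    intro k; induction k with
    | zero => exact fun a => ⟨a, by simp⟩
    | succ k ih =>
      intro a
      obtain ⟨b, hb⟩ := hperf a
      obtain ⟨c, hc⟩ := ih b
      exact ⟨c, by rw [pow_succ, pow_mul, hc, hb]⟩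
  refine ⟨fun u => ?_, fun x hx ⟨v, hv⟩ => ?_⟩
  · obtain ⟨b, hb⟩ := hroot n (IsLocalRing.residue R u)
    obtain ⟨w, hw⟩ := Ideal.Quotient.mk_surjective b
    change IsLocalRing.residue R w = b at hw
    have hwu : IsUnit w := by
      by_contra h
      have : IsLocalRing.residue R w = 0 := (IsLocalRing.residue_eq_zero_iff w).mpr h
      rw [hw] at this
      rw [this, zero_pow (pow_ne_zero _ hp.ne_zero)] at hb
      exact (u.isUnit.map (IsLocalRing.residue R)).ne_zero hb.symm
    obtain ⟨v, rfl⟩ := hwu
    refine ⟨v, (u : R) * ((v⁻¹ : Rˣ) : R) ^ (p ^ n) - 1, ?_, ?_⟩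
    · rw [← IsLocalRing.residue_eq_zero_iff, map_sub, map_mul, map_pow, map_one, ← hb, ← mul_pow, ← hw, ← map_mul, Units.mul_inv, map_one, one_pow, sub_self]
    · rw [add_sub_cancel, mul_left_comm, ← mul_pow, Units.mul_inv, one_pow, mul_one]
  · refine ⟨(v : R) - 1, ?_, by rw [add_sub_cancel, hv]⟩
    have : Fact p.Prime := ⟨hp⟩
    have : CharP (IsLocalRing.ResidueField R) p := (CharP.charP_iff_prime_eq_zero hp).mpr (by
      rw [← map_natCast (IsLocalRing.residue R)]; exact (IsLocalRing.residue_eq_zero_iff _).mpr hpm)
    have h1 := congrArg (IsLocalRing.residue R) hv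
    rw [map_add, map_one, (IsLocalRing.residue_eq_zero_iff x).mpr hx, add_zero, map_pow] at h1
    rw [← IsLocalRing.residue_eq_zero_iff, map_sub, map_one]
    refine eq_zero_of_pow_eq_zero (n := p ^ n) ?_
    rw [sub_pow_char_pow, h1, one_pow, sub_self]

end Groth.Agent.S15496
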