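import Groth.Statements.S15498
import Mathlib
-- import your own Groth.Agent.* helpers here

set_option autoImplicit false
open NewtonPoly

namespace Groth.Agent.S15498

/-- Let m, n ≥ 1 be coprime, h = m + n, δ the segment from (0,0) to (h,m) (the isoclinic Newton polygon
of slope m/h) and ρ the ordinary polygon with n slopes 0 followed with m slopes 1, so ρ(i) = max(0,
i − n). The integer points (i,j), 0 ≤ i ≤ h, on or above ρ and strictly below δ — that is max(0, i −
n) ≤ j and j·h < i·m — are (m−1)(n−1)/2 + (m+n−1) in number (which equals mn − r for r =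
(m−1)(n−1)/2). (The published text works under m ≥ n > 0 coprime; the inequality m ≥ n is not used
and not assumed.) -/
theorem result
    (m n : ℕ) (hm : 0 < m) (hn : 0 < n) (hmn : Nat.Coprime m n) :
    ((Finset.range (m + n + 1) ×ˢ Finset.range (m + 1)).filter
      (fun ij : ℕ × ℕ => ij.1 ≤ ij.2 + n ∧ ij.2 * (m + n) < ij.1 * m)).card
      = (m - 1) * (n - 1) / 2 + (m + n - 1) := by
  have hlt : ∀ j, j < m → j * n / m < n := fun j hj =>
    (Nat.div_lt_iff_lt_mul hm).2 (by nlinarith)
  have hcount : ((Finset.range (m + n + 1) ×ˢ Finset.range (m + 1)).filter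
      (fun ij : ℕ × ℕ => ij.1 ≤ ij.2 + n ∧ ij.2 * (m + n) < ij.1 * m)).card
      = ∑ j ∈ Finset.range m, (n - j * n / m) := by
    have e : (Finset.range (m + n + 1) ×ˢ Finset.range (m + 1)).filter
        (fun ij : ℕ × ℕ => ij.1 ≤ ij.2 + n ∧ ij.2 * (m + n) < ij.1 * m) =
      ((Finset.range m).sigma fun j => Finset.Ioc (j + j * n / m) (j + n)).map
        ⟨fun s => (s.2, s.1), fun s t h => by
          obtain ⟨a, b⟩ := s; obtain ⟨c, d⟩ := t; simp_all⟩ := by
      ext ⟨i, j⟩
      simp only [Finset.mem_filter, Finset.mem_product, Finset.mem_range, Finset.mem_map,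
        Finset.mem_sigma, Finset.mem_Ioc, Function.Embedding.coeFn_mk, Prod.mk.injEq, Sigma.exists]
      have hd : j + j * n / m < i ↔ j * (m + n) < i * m := by
        have : j + j * n / m = (j * (m + n)) / m := by
          rw [mul_add, Nat.mul_comm j m, Nat.mul_add_div hm]
        rw [this]
        exact Nat.div_lt_iff_lt_mul hm
      constructor
      · rintro ⟨⟨h1, h2⟩, h3, h4⟩
        refine ⟨j, i, ⟨?_, hd.2 h4, h3⟩, by first | rfl | exact ⟨rfl, rfl⟩⟩
        rcases Nat.lt_or_ge j m with h | h
        · exact h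
        · exfalso; nlinarith
      · rintro ⟨a, b, ⟨h1, h2, h3⟩, he⟩
        first | (obtain ⟨rfl, rfl⟩ := he) | (cases he)
        try dsimp only at *
        exact ⟨⟨by omega, by omega⟩, h3, hd.1 h2⟩
    rw [e, Finset.card_map, Finset.card_sigma]
    refine Finset.sum_congr rfl fun j hj => ?_
    rw [Nat.card_Ioc]; omega
  have hgauss : 2 * ∑ j ∈ Finset.range m, j * n / m = (m - 1) * (n - 1) := by
    obtain ⟨M, rfl⟩ : ∃ M, m = M + 1 := ⟨m - 1, by omega⟩
    rw [Finset.sum_range_succ', zero_mul, Nat.zero_div, add_zero, two_mul]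
    nth_rewrite 2 [← Finset.sum_range_reflect]
    rw [← Finset.sum_add_distrib, Finset.sum_eq_card_nsmul (b := n - 1), Finset.card_range, smul_eq_mul]
    · simp
    intro j hj
    rw [Finset.mem_range] at hj
    have hsum : (j + 1) * n + (M - 1 - j + 1) * n = (M + 1) * n := by
      rw [← add_mul]; congr 1; omega
    have hnd : ¬ (M + 1) ∣ (j + 1) * n := by
      intro hd
      have := Nat.le_of_dvd (by omega) (hmn.dvd_of_dvd_mul_right hd)
      omega
    have h1 := Nat.div_add_mod ((j + 1) * n) (M + 1)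
    have h2 := Nat.div_add_mod ((M - 1 - j + 1) * n) (M + 1)
    have h3 := Nat.mod_lt ((j + 1) * n) (show M + 1 > 0 by omega)
    have h4 := Nat.mod_lt ((M - 1 - j + 1) * n) (show M + 1 > 0 by omega)
    have h5 : ((j + 1) * n) % (M + 1) ≠ 0 := fun h => hnd (Nat.dvd_of_mod_eq_zero h)
    generalize (j + 1) * n / (M + 1) = A at h1 ⊢
    generalize (M - 1 - j + 1) * n / (M + 1) = B at h2 ⊢
    have h6 : A + B < n := by
      by_contra hc
      have := Nat.mul_le_mul_left (M + 1) (not_lt.1 hc)
      rw [mul_add] at this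
      omega
    have h7 : n ≤ A + B + 1 := by
      by_contra hc
      have := Nat.mul_le_mul_left (M + 1) (show A + B + 2 ≤ n by omega)
      rw [mul_add, mul_add] at this
      omega
    omega
  have hsub : ∑ j ∈ Finset.range m, (n - j * n / m) + ∑ j ∈ Finset.range m, j * n / m = m * n := by
    rw [← Finset.sum_add_distrib, Finset.sum_eq_card_nsmul (b := n), Finset.card_range, smul_eq_mul]
    intro j hj
    have := hlt j (Finset.mem_range.1 hj)
    omega
  rw [hcount]
  generalize (∑ j ∈ Finset.range m, (n - j * n / m)) = S at hsub ⊢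
  generalize (∑ j ∈ Finset.range m, j * n / m) = G at hgauss hsub
  have : (m - 1) * (n - 1) + (m + n - 1) = m * n := by
    obtain ⟨a, rfl⟩ : ∃ a, m = a + 1 := ⟨m - 1, by omega⟩
    obtain ⟨b, rfl⟩ : ∃ b, n = b + 1 := ⟨n - 1, by omega⟩
    have : a + 1 + (b + 1) - 1 = a + b + 1 := by omega
    rw [this]; simp only [Nat.add_sub_cancel]; ring
  omega

end Groth.Agent.S15498
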