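import Groth.Statements.S15499
import Groth.Agent.HorrocksLib.Main
-- import your own Groth.Agent.* helpers here

set_option autoImplicit false
open Polynomial LaurentPolynomial
open scoped TensorProduct
universe u
open CAlg

namespace Groth.Agent.S15499

/-- Let S = Spec R be a smooth connected affine complex variety, so that R is a finitely generated
smooth ℂ-algebra and an integral domain, and let F be a locally free sheaf of finite rank on the
projective line over S, presented by its two standard charts: a finitely generated projective
R[X]-module P on the affine line over S, a finitely generated projective R[X]-module P' on the chart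
at infinity, and an identification of their base changes to R[X, X⁻¹] that is additive, bijective
and semilinear over the R-algebra involution X ↦ X⁻¹. Then S is covered by basic open sets D(g_1),
…, D(g_n) such that F restricted to the affine line over each D(g_i) is free: the localisation of P
at g_i is a free module over the localisation of R[X] at g_i. -/
theorem result
    (R : Type u) [CommRing R] [IsDomain R] [Algebra ℂ R] [Algebra.FiniteType ℂ R]
    [Algebra.Smooth ℂ R]
    (P : Type u) [AddCommGroup P] [Module R[X] P] [Module.Finite R[X] P]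
    [Module.Projective R[X] P]
    (P' : Type u) [AddCommGroup P'] [Module R[X] P'] [Module.Finite R[X] P']
    [Module.Projective R[X] P']
    (e : R[T;T⁻¹] ⊗[R[X]] P ≃+ R[T;T⁻¹] ⊗[R[X]] P')
    (he : ∀ (a : R[T;T⁻¹]) (m : R[T;T⁻¹] ⊗[R[X]] P),
      e (a • m) = LaurentPolynomial.invert a • e m) :
    ∃ (n : ℕ) (g : Fin n → R), Ideal.span (Set.range g) = ⊤ ∧
      ∀ i, Module.Free (Localization.Away (Polynomial.C (g i) : R[X]))
        (LocalizedModule (Submonoid.powers (Polynomial.C (g i) : R[X])) P) := by
  classical
  obtain ⟨P0, _, _, ⟨f⟩⟩ := HorrocksLib.extended_of_gluing (A := R) (M := P) (N := P')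
    { toFun := e, map_add' := e.map_add, map_smul' := he } e.bijective
  letI algev : Algebra R[X] R := (Polynomial.evalRingHom (0 : R)).toAlgebra
  haveI : IsScalarTower R R[X] R := IsScalarTower.of_algebraMap_eq fun a => by
    simp [RingHom.algebraMap_toAlgebra]
  let E : R ⊗[R[X]] P ≃ₗ[R] P0 := ((f.baseChange R[X] R).trans
    (TensorProduct.AlgebraTensorModule.cancelBaseChange R R[X] R R P0)).trans (TensorProduct.lid R P0)
  haveI : Module.Finite R P0 := Module.Finite.equiv E
  haveI : Module.Projective R P0 := Module.Projective.of_equiv E
  haveI : Module.FinitePresentation R P0 := Module.finitePresentation_of_projective R P0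
  have hcov : ∀ x : PrimeSpectrum R, ∃ r : R, r ∉ x.asIdeal ∧
      Module.Free (Localization.Away r) (LocalizedModule.Away r P0) := by
    intro x
    haveI : Module.Free (Localization.AtPrime x.asIdeal) (LocalizedModule x.asIdeal.primeCompl P0) :=
      Module.free_of_flat_of_isLocalRing
    obtain ⟨r, hr, hr', -⟩ := Module.FinitePresentation.exists_free_localizedModule_powers
      x.asIdeal.primeCompl (LocalizedModule.mkLinearMap x.asIdeal.primeCompl P0)
      (Localization.AtPrime x.asIdeal)
    exact ⟨r, hr, hr'⟩
  choose r hr hfree using hcov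
  have hspan : Ideal.span (Set.range r) = ⊤ := by
    by_contra hne
    obtain ⟨m, hm, hle⟩ := Ideal.exists_le_maximal _ hne
    exact hr ⟨m, hm.isPrime⟩ (hle (Ideal.subset_span ⟨_, rfl⟩))
  obtain ⟨s, hs, hs'⟩ := (Ideal.span_eq_top_iff_finite _).1 hspan
  let g : Fin s.card → R := fun i => (s.equivFin.symm i : R)
  refine ⟨s.card, g, eq_top_iff.2 (hs'.ge.trans (Ideal.span_mono fun y hy => ⟨s.equivFin ⟨y, hy⟩, by simp [g]⟩)), fun i => ?_⟩
  obtain ⟨x, hx⟩ := hs (s.equivFin.symm i).2
  haveI : Module.Free (Localization.Away (g i)) (LocalizedModule.Away (g i) P0) := by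
    have := hfree x
    rwa [hx] at this
  let a : R[X] := Polynomial.C (g i)
  let T := Localization.Away a
  have hu : IsUnit (algebraMap R T (g i)) := by
    rw [IsScalarTower.algebraMap_apply R R[X] T]
    exact IsLocalization.map_units T (⟨a, Submonoid.mem_powers a⟩ : Submonoid.powers a)
  letI : Algebra (Localization.Away (g i)) T := (IsLocalization.Away.lift (g i) (g := algebraMap R T) hu).toAlgebra
  haveI : IsScalarTower R (Localization.Away (g i)) T := IsScalarTower.of_algebraMap_eq fun y => by
    rw [RingHom.algebraMap_toAlgebra]
    exact (IsLocalization.Away.lift_eq (g i) hu y).symm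
  let e1 : T ⊗[R[X]] P ≃ₗ[T] T ⊗[R] P0 :=
    (f.baseChange R[X] T).trans (TensorProduct.AlgebraTensorModule.cancelBaseChange R R[X] T T P0)
  let e2 : T ⊗[Localization.Away (g i)] (LocalizedModule.Away (g i) P0) ≃ₗ[T] T ⊗[R] P0 :=
    (((IsLocalizedModule.isBaseChange (Submonoid.powers (g i)) (Localization.Away (g i))
      (LocalizedModule.mkLinearMap (Submonoid.powers (g i)) P0)).equiv).symm.baseChange (Localization.Away (g i)) T).trans
      (TensorProduct.AlgebraTensorModule.cancelBaseChange R (Localization.Away (g i)) T T P0)
  let e3 : T ⊗[R[X]] P ≃ₗ[T] LocalizedModule (Submonoid.powers a) P :=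
    (IsLocalizedModule.isBaseChange (Submonoid.powers a) T (LocalizedModule.mkLinearMap (Submonoid.powers a) P)).equiv
  exact Module.Free.of_equiv ((e2.trans e1.symm).trans e3)

end Groth.Agent.S15499
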