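import Groth.Statements.S15500
import Groth.Agent.AnFibLib.Affine
import Groth.Agent.BCLib.DVR

set_option autoImplicit false
open CategoryTheory AlgebraicGeometry
open An

namespace Groth.Agent.S15500

/-- An elementary fibration f : X → S of smooth complex varieties is affine and surjective, elementary
fibration being taken in the following sense: f factors as an open immersion j : X → X̄ followed by
f̄ : X̄ → S, where f̄ is smooth and is a closed subscheme of some projective space over S with
geometrically irreducible fibres of dimension one, the complement of j(X) is the image of a closed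
immersion Y → X̄ with Y finite, etale and surjective over S, and j(X) is dense in every fibre of f̄
(for smooth complex varieties the last clause is automatic, and this is the usual notion: a smooth
projective family of irreducible curves minus a finite etale multisection). -/
theorem result (X S : Scheme.{0})
    [X.Over An.SC] [Smooth (X ↘ An.SC)] [IsSeparated (X ↘ An.SC)] [QuasiCompact (X ↘ An.SC)]
    [S.Over An.SC] [Smooth (S ↘ An.SC)] [IsSeparated (S ↘ An.SC)] [QuasiCompact (S ↘ An.SC)]
    (f : X ⟶ S) [f.IsOver An.SC] (hf : An.IsElementaryFibration f) :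
    IsAffineHom f ∧ Surjective f := by
  obtain ⟨Xb, Y, j, fb, i, hjf, hj, hi, hr, hdense, hsm, ⟨n, c, hc, hcb⟩, hfib, hfin, het, hsurj⟩ := hf
  subst hjf
  haveI : IsProper fb := by
    haveI := Groth.Agent.BCLib.isProper_toBase n S
    rw [← hcb]; infer_instance
  refine ⟨?_, ⟨fun s => ?_⟩⟩
  · let I := i.ker
    have e : i.toImage ≫ i.ker.subschemeι = i := i.toImage_imageι
    haveI : IsIso i.toImage := inferInstance
    have e2 : I.subschemeι ≫ fb = inv i.toImage ≫ i ≫ fb :=
      (IsIso.eq_inv_comp i.toImage).2 (by rw [← Category.assoc]; exact congrArg (· ≫ fb) e)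
    haveI : IsFinite (I.subschemeι ≫ fb) := by rw [e2]; infer_instance
    haveI : Etale (I.subschemeι ≫ fb) := by rw [e2]; infer_instance
    have hs : Function.Surjective (I.subschemeι ≫ fb).base := fun s => by
      obtain ⟨y, hy⟩ := hsurj s
      refine ⟨i.toImage y, ?_⟩
      rw [← hy]
      show fb (I.subschemeι (i.toImage y)) = fb (i y)
      have h3 := congrArg (fun m : Y ⟶ Xb => m.base y) e
      exact congrArg fb.base h3
    have := Groth.Agent.AnFibLib.isAffineHom_compl fb hfib I hs j.opensRange (by
      show Set.range j.base = _
      rw [hr, Scheme.Hom.support_ker, i.isClosedEmbedding.isClosed_range.closure_eq])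
    have e3 : j ≫ fb = j.isoOpensRange.hom ≫ j.opensRange.ι ≫ fb := by
      rw [← Category.assoc, Scheme.Hom.isoOpensRange_hom_ι]
    rw [e3]
    infer_instance
  · haveI := Groth.Agent.AnFibLib.geometricallyConnected_of_irreducible fb (fun Ω _ _ σ => (hfib Ω σ).1)
    obtain ⟨x, hx⟩ := fb.surjective s
    obtain ⟨y, ⟨z, rfl⟩, hy⟩ := closure_nonempty_iff.1 (Set.Nonempty.mono (hdense s) ⟨x, hx⟩)
    exact ⟨z, hy⟩

end Groth.Agent.S15500
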