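import Groth.Statements.S15501
import Groth.Agent.AnFibLib.Fibre
import Groth.Agent.ProjBundleLib.HProj

set_option backward.isDefEq.respectTransparency false
set_option backward.isDefEq.respectTransparency.types false

set_option autoImplicit false
open CategoryTheory CategoryTheory.Limits AlgebraicGeometry
open An

namespace Groth.Agent.S15501

/-- The base change of an elementary fibration f : X → S of smooth complex varieties along any morphism
u : S' → S of smooth complex varieties is an elementary fibration X ×_S S' → S', elementary
fibration being taken in the following sense: f factors as an open immersion j : X → X̄ followed by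
f̄ : X̄ → S, where f̄ is smooth and is a closed subscheme of some projective space over S with
geometrically irreducible fibres of dimension one, the complement of j(X) is the image of a closed
immersion Y → X̄ with Y finite, etale and surjective over S, and j(X) is dense in every fibre of f̄
(for smooth complex varieties the last clause is automatic, and this is the usual notion: a smooth
projective family of irreducible curves minus a finite etale multisection). (The published statement
also treats rational and coordinatised elementary fibrations; this row states only the plain case.) -/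
theorem result (X S S' : Scheme.{0})
    [X.Over An.SC] [Smooth (X ↘ An.SC)] [IsSeparated (X ↘ An.SC)] [QuasiCompact (X ↘ An.SC)]
    [S.Over An.SC] [Smooth (S ↘ An.SC)] [IsSeparated (S ↘ An.SC)] [QuasiCompact (S ↘ An.SC)]
    [S'.Over An.SC] [Smooth (S' ↘ An.SC)] [IsSeparated (S' ↘ An.SC)] [QuasiCompact (S' ↘ An.SC)]
    (f : X ⟶ S) [f.IsOver An.SC] (u : S' ⟶ S) [u.IsOver An.SC]
    (hf : An.IsElementaryFibration f) :
    An.IsElementaryFibration (pullback.snd f u) := by
  obtain ⟨Xb, Y, j, fb, i, hjf, hj, hi, hr, hdense, hsm, hproj, hfib, hfin, het, hsurj⟩ := hf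
  subst hjf
  haveI := hj; haveI := hi; haveI := hsm; haveI := hfin; haveI := het
  let P := pullback fb u
  let p : P ⟶ Xb := pullback.fst fb u
  let q : P ⟶ S' := pullback.snd fb u
  have hP : IsPullback p q fb u := IsPullback.of_hasPullback _ _
  have hX : IsPullback (pullback.fst (j ≫ fb) u) (pullback.snd (j ≫ fb) u) (j ≫ fb) u := IsPullback.of_hasPullback _ _
  let j' : pullback (j ≫ fb) u ⟶ P :=
    hP.lift (pullback.fst (j ≫ fb) u ≫ j) (pullback.snd (j ≫ fb) u) (by rw [Category.assoc]; exact hX.w)
  have hj1 : j' ≫ p = pullback.fst (j ≫ fb) u ≫ j := hP.lift_fst _ _ _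
  have hj2 : j' ≫ q = pullback.snd (j ≫ fb) u := hP.lift_snd _ _ _
  have sqj : IsPullback (pullback.fst (j ≫ fb) u) j' j p :=
    IsPullback.of_bot (by rw [hj2]; exact hX) hj1.symm hP
  haveI : IsOpenImmersion j' := MorphismProperty.of_isPullback (P := @IsOpenImmersion) sqj ‹_›
  let Y' := pullback i p
  let i' : Y' ⟶ P := pullback.snd i p
  have sqi : IsPullback (pullback.fst i p) i' i p := IsPullback.of_hasPullback _ _
  haveI : IsClosedImmersion i' := MorphismProperty.of_isPullback (P := @IsClosedImmersion) sqi ‹_›
  have sqY : IsPullback (pullback.fst i p) (i' ≫ q) (i ≫ fb) u := sqi.paste_vert hP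
  have hrj : Set.range j'.base = p.base ⁻¹' Set.range j.base := Groth.Agent.AnFibLib.range_snd_of_isPullback sqj
  have hri : Set.range i'.base = p.base ⁻¹' Set.range i.base := Groth.Agent.AnFibLib.range_snd_of_isPullback sqi
  refine ⟨P, Y', j', q, i', hj2, inferInstance, inferInstance, ?_,
    Groth.Agent.AnFibLib.fibre_subset_closure hP (fun Ω _ _ σ => (hfib Ω σ).1) j' _ hrj hdense,
    MorphismProperty.of_isPullback (P := @Smooth) hP ‹_›, ?_, fun Ω _ _ σ => ?_,
    MorphismProperty.of_isPullback (P := @IsFinite) sqY ‹_›,
    MorphismProperty.of_isPullback (P := @Etale) sqY ‹_›,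
    Groth.Agent.AnFibLib.surjective_of_isPullback sqY hsurj⟩
  · rw [hrj, hri, hr, Set.preimage_compl]
  · obtain ⟨n, c, hc, hcb⟩ := hproj
    obtain ⟨n', c', hc', hcb'⟩ := Groth.Agent.ProjBundleLib.isHProjective_baseChange hP ⟨n, c, hc, hcb⟩
    exact ⟨n', c', hc', hcb'⟩
  · obtain ⟨h1, h2⟩ := hfib Ω (σ ≫ u)
    let e : pullback q σ ≅ pullback fb (σ ≫ u) :=
      ((IsPullback.of_hasPullback q σ).paste_horiz hP).isoPullback
    refine ⟨?_, (IsHomeomorph.topologicalKrullDim_eq _ (Scheme.Hom.homeomorph e.hom).isHomeomorph).trans h2⟩
    haveI := h1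
    exact (irreducibleSpace_def _).2 (by
      show IsIrreducible (Set.univ : Set ↥(pullback q σ))
      rw [← Set.range_eq_univ.2 e.inv.surjective, ← Set.image_univ]
      exact (IrreducibleSpace.isIrreducible_univ _).image _ e.inv.continuous.continuousOn)

end Groth.Agent.S15501
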