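import Groth.Statements.S15504
import Mathlib

set_option autoImplicit false
universe u v
open FrobAlg

namespace Groth.Agent.S15504

theorem fitting_semilinear {R : Type u} [CommRing R] {M : Type v} [AddCommGroup M] [Module R M]
    [IsNoetherian R M] [IsArtinian R M] {σ : R →+* R} (hσ : Function.Surjective σ) (hσi : Function.Injective σ) (φ : M →ₛₗ[σ] M) :
    ∃ Ms Mn : Submodule R M, IsCompl Ms Mn ∧
      Set.MapsTo φ Ms Ms ∧ Set.MapsTo φ Mn Mn ∧ Set.BijOn φ Ms Ms ∧
      ∃ r : ℕ, ∀ x ∈ Mn, (⇑φ)^[r] x = 0 := by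
  have hadd : ∀ n (x y : M), (⇑φ)^[n] (x + y) = (⇑φ)^[n] x + (⇑φ)^[n] y := fun n => iterate_map_add φ n
  have hzero : ∀ n, (⇑φ)^[n] (0 : M) = 0 := fun n => iterate_map_zero φ n
  have hsub : ∀ n (x y : M), (⇑φ)^[n] (x - y) = (⇑φ)^[n] x - (⇑φ)^[n] y := fun n => iterate_map_sub φ n
  have hsmul : ∀ n (c : R) (x : M), (⇑φ)^[n] (c • x) = (⇑σ)^[n] c • (⇑φ)^[n] x := fun n => by
    induction n with
    | zero => intros; rfl
    | succ n ih => intro c x; simp [Function.iterate_succ_apply', ih]
  let I : ℕ → Submodule R M := fun n =>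
    { carrier := Set.range ((⇑φ)^[n])
      add_mem' := by rintro _ _ ⟨a, rfl⟩ ⟨b, rfl⟩; exact ⟨a + b, hadd n a b⟩
      zero_mem' := ⟨0, hzero n⟩
      smul_mem' := by
        rintro c _ ⟨a, rfl⟩
        obtain ⟨d, rfl⟩ := (hσ.iterate n) c
        exact ⟨d • a, hsmul n d a⟩ }
  let K : ℕ → Submodule R M := fun n =>
    { carrier := {x | (⇑φ)^[n] x = 0}
      add_mem' := fun {a b} (ha : _ = 0) (hb : _ = 0) => by
        show (⇑φ)^[n] (a + b) = 0
        rw [hadd, ha, hb, add_zero]
      zero_mem' := hzero n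
      smul_mem' := fun c x (hx : _ = 0) => by
        show (⇑φ)^[n] (c • x) = 0
        rw [hsmul, hx, smul_zero] }
  have hImono : Antitone I := antitone_nat_of_succ_le fun n => by
    rintro _ ⟨a, rfl⟩
    exact ⟨φ a, (Function.iterate_succ_apply _ _ _).symm⟩
  have hKmono : Monotone K := monotone_nat_of_le_succ fun n x (hx : _ = 0) => by
    show (⇑φ)^[n + 1] x = 0
    rw [Function.iterate_succ_apply', hx, map_zero]
  obtain ⟨N₁, hN₁⟩ := IsArtinian.monotone_stabilizes (R := R) (M := M) ⟨fun n => OrderDual.toDual (I n), hImono⟩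
  obtain ⟨N₂, hN₂⟩ := monotone_stabilizes_iff_noetherian.2 (inferInstance : IsNoetherian R M) ⟨K, hKmono⟩
  let N := max N₁ N₂
  have hI : ∀ m ≥ N, I m = I N := fun m hm => by
    have h1 := congrArg OrderDual.ofDual (hN₁ m (le_trans (le_max_left _ _) hm))
    have h2 := congrArg OrderDual.ofDual (hN₁ N (le_max_left _ _))
    exact h1.symm.trans h2
  have hK : ∀ m ≥ N, K m = K N := fun m hm =>
    (hN₂ m (le_trans (le_max_right _ _) hm)).symm.trans (hN₂ N (le_max_right _ _))
  have hmapI : Set.MapsTo φ (I N) (I N) := fun x hx => by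
    obtain ⟨a, rfl⟩ := hx
    exact (hI (N + 1) (Nat.le_succ N)).le ⟨a, Function.iterate_succ_apply' _ _ _⟩
  have hmapK : Set.MapsTo φ (K N) (K N) := fun x (hx : _ = 0) => by
    show (⇑φ)^[N] (φ x) = 0
    rw [← Function.iterate_succ_apply, Function.iterate_succ_apply', hx, map_zero]
  have hdisj : ∀ x ∈ I N, (⇑φ)^[N] x = 0 → x = 0 := fun x hx h => by
    obtain ⟨a, rfl⟩ := hx
    have h1 : a ∈ K (N + N) := by show (⇑φ)^[N + N] a = 0; rw [Function.iterate_add_apply]; exact h
    rw [hK _ (Nat.le_add_right _ _)] at h1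
    exact h1
  refine ⟨I N, K N, ⟨Submodule.disjoint_def.2 fun x hx h => hdisj x hx h, codisjoint_iff.2 (eq_top_iff.2 fun x _ => ?_)⟩,
    hmapI, hmapK, ⟨hmapI, fun a ha b hb h => ?_, fun x hx => ?_⟩, N, fun x hx => hx⟩
  · have h1 : (⇑φ)^[N] x ∈ I (N + N) := by
      rw [hI _ (Nat.le_add_right _ _)]
      exact ⟨x, rfl⟩
    obtain ⟨b, hb⟩ := h1
    rw [Function.iterate_add_apply] at hb
    refine Submodule.mem_sup.2 ⟨(⇑φ)^[N] b, ⟨b, rfl⟩, x - (⇑φ)^[N] b, ?_, add_sub_cancel _ _⟩
    show (⇑φ)^[N] (x - (⇑φ)^[N] b) = 0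
    rw [hsub, hb, sub_self]
  · refine sub_eq_zero.1 (hdisj _ (sub_mem ha hb) ?_)
    have : (⇑φ)^[1] (a - b) = 0 := by rw [Function.iterate_one, map_sub, h, sub_self]
    by_cases hN : N = 0
    · have h1 : a - b ∈ K 1 := this
      rw [hK 1 (by omega)] at h1
      exact h1
    · exact (hKmono (Nat.one_le_iff_ne_zero.2 hN) this : a - b ∈ K N)
  · have h1 : x ∈ I (N + 1) := (hI (N + 1) (Nat.le_succ N)).ge hx
    obtain ⟨b, hb⟩ := h1
    exact ⟨(⇑φ)^[N] b, ⟨b, rfl⟩, by rw [← Function.iterate_succ_apply' (⇑φ)]; exact hb⟩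


/-- Let k be an algebraically closed field of characteristic p, W = W(k) the ring of p-typical Witt
vectors, M a finitely generated torsion W-module and φ a p⁻¹-linear endomorphism of M (additive,
with φ(a·m) = σ⁻¹(a)·φ(m) for the Frobenius automorphism σ of W). Then M = M_s ⊕ M_n for two
φ-stable submodules, with φ bijective on M_s and nilpotent on M_n (one iterate of φ kills M_n). -/
theorem result (p : ℕ) [Fact p.Prime]
    (k : Type u) [Field k] [CharP k p] [IsAlgClosed k]
    (M : Type v) [AddCommGroup M] [Module (WittVector p k) M] [Module.Finite (WittVector p k) M]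
    (hM : Module.IsTorsion (WittVector p k) M)
    (φ : M →ₛₗ[((WittVector.frobeniusEquiv p k).symm : WittVector p k →+* WittVector p k)] M) :
    ∃ Ms Mn : Submodule (WittVector p k) M, IsCompl Ms Mn ∧
      Set.MapsTo φ Ms Ms ∧ Set.MapsTo φ Mn Mn ∧ Set.BijOn φ Ms Ms ∧
      ∃ r : ℕ, ∀ x ∈ Mn, (⇑φ)^[r] x = 0 := by
  classical
  obtain ⟨s, hs⟩ := Module.Finite.fg_top (R := WittVector p k) (M := M)
  have hann : ∀ m : M, ∃ a : nonZeroDivisors (WittVector p k), (a : WittVector p k) • m = 0 := fun m => @hM m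
  choose a ha using hann
  let x : nonZeroDivisors (WittVector p k) := ∏ m ∈ s, a m
  have hx : ∀ m : M, (x : WittVector p k) • m = 0 := fun m => by
    have hm : m ∈ Submodule.span (WittVector p k) (s : Set M) := hs ▸ trivial
    induction hm using Submodule.span_induction with
    | mem y hy =>
      simp only [x, ← Finset.prod_erase_mul s a hy, Submonoid.coe_mul, mul_smul, ha, smul_zero]
    | zero => rw [smul_zero]
    | add u w _ _ hu hw => rw [smul_add, hu, hw, add_zero]
    | smul c u _ hu => rw [smul_comm, hu, smul_zero]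
  haveI : IsArtinian (WittVector p k) (WittVector p k ⧸ Ideal.span {(x : WittVector p k)}) :=
    (isFiniteLength_iff_isNoetherian_isArtinian.1 (isFiniteLength_quotient_span_singleton (WittVector p k) x.2)).2
  let g : s → (WittVector p k ⧸ Ideal.span {(x : WittVector p k)}) →ₗ[WittVector p k] M := fun m =>
    Submodule.liftQ _ (LinearMap.toSpanSingleton (WittVector p k) M (m : M)) (Submodule.span_le.2 (by
      rintro y rfl
      show (x : WittVector p k) • (m : M) = 0
      exact hx _))
  let G := LinearMap.lsum (WittVector p k) (fun _ : s => WittVector p k ⧸ Ideal.span {(x : WittVector p k)}) ℕ g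
  haveI : IsArtinian (WittVector p k) M := by
    refine isArtinian_of_surjective _ G fun m => ?_
    have hm : m ∈ Submodule.span (WittVector p k) (s : Set M) := hs ▸ trivial
    induction hm using Submodule.span_induction with
    | mem y hy =>
      refine ⟨Pi.single ⟨y, hy⟩ 1, ?_⟩
      rw [LinearMap.lsum_piSingle]
      exact one_smul _ y
    | zero => exact ⟨0, map_zero G⟩
    | add u w _ _ hu hw =>
      obtain ⟨u', rfl⟩ := hu
      obtain ⟨w', rfl⟩ := hw
      exact ⟨u' + w', map_add G _ _⟩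
    | smul c u _ hu =>
      obtain ⟨u', rfl⟩ := hu
      exact ⟨c • u', map_smul G _ _⟩
  haveI : IsNoetherian (WittVector p k) M := inferInstance
  exact fitting_semilinear (WittVector.frobeniusEquiv p k).symm.surjective (WittVector.frobeniusEquiv p k).symm.injective φ

end Groth.Agent.S15504
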