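import Groth.Statements.S15505
import Mathlib

set_option autoImplicit false
universe u v w
open FrobAlg

namespace Groth.Agent.S15505

/-- Let k be an algebraically closed field of characteristic p, V a k-vector space, φ a p⁻¹-linear
endomorphism of V (additive, φ(a·v) = a^{1/p}·φ(v)) and b a finite basis of V consisting of vectors
fixed by φ. Then the vectors fixed by φ are exactly the combinations of the b_i with coefficients in
the prime field: v is fixed if and only if v = Σ c_i·b_i with all c_i in the image of ℤ/p. -/
theorem result (p : ℕ) [Fact p.Prime]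
    (k : Type u) [Field k] [CharP k p] [IsAlgClosed k]
    (V : Type v) [AddCommGroup V] [Module k V]
    (φ : V →ₛₗ[((frobeniusEquiv k p).symm : k →+* k)] V)
    {ι : Type w} [Fintype ι] (b : Module.Basis ι k V) (hb : ∀ i, φ (b i) = b i) (v : V) :
    φ v = v ↔ ∃ c : ι → ZMod p, v = ∑ i, (ZMod.castHom (dvd_refl p) k (c i)) • b i := by
  classical
  have hfix : ∀ x : k, (frobeniusEquiv k p).symm x = x ↔ ∃ c : ZMod p, (ZMod.castHom (dvd_refl p) k) c = x := by
    intro x
    constructor
    · intro hx
      have h1 : x ^ p = x := by
        conv_lhs => rw [← hx]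
        exact frobeniusEquiv_symm_pow_p k p x
      let P : Polynomial k := Polynomial.X ^ p - Polynomial.X
      have hP : P ≠ 0 := FiniteField.X_pow_card_sub_X_ne_zero k (Fact.out : p.Prime).one_lt
      let s : Finset k := Finset.univ.image (ZMod.castHom (dvd_refl p) k)
      have hs : s ⊆ P.roots.toFinset := fun y hy => by
        obtain ⟨c, -, rfl⟩ := Finset.mem_image.1 hy
        rw [Multiset.mem_toFinset, Polynomial.mem_roots hP]
        simp only [P, Polynomial.IsRoot, Polynomial.eval_sub, Polynomial.eval_pow, Polynomial.eval_X]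
        rw [← map_pow, ZMod.pow_card, sub_self]
      have hcard : P.roots.toFinset.card ≤ s.card := by
        rw [Finset.card_image_of_injective _ (ZMod.castHom_injective k), Finset.card_univ, ZMod.card]
        refine (Multiset.toFinset_card_le _).trans ((Polynomial.card_roots' P).trans ?_)
        exact le_of_eq (FiniteField.X_pow_card_sub_X_natDegree_eq k (Fact.out : p.Prime).one_lt)
      have hx' : x ∈ s := by
        rw [Finset.eq_of_subset_of_card_le hs hcard, Multiset.mem_toFinset, Polynomial.mem_roots hP]
        simp [P, h1]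
      obtain ⟨c, -, hc⟩ := Finset.mem_image.1 hx'
      exact ⟨c, hc⟩
    · rintro ⟨c, rfl⟩
      refine frobenius_inj k p ?_
      rw [frobenius_apply_frobeniusEquiv_symm, frobenius_def, ← map_pow, ZMod.pow_card]
  have hφ : ∀ c : ι → k, φ (∑ i, c i • b i) = ∑ i, (frobeniusEquiv k p).symm (c i) • b i := fun c => by
    simp [map_sum, LinearMap.map_smulₛₗ, hb]
  constructor
  · intro hv
    have h1 : φ v = ∑ i, (frobeniusEquiv k p).symm (b.repr v i) • b i := by
      conv_lhs => rw [← b.sum_repr v]
      exact hφ _
    have h2 : ∀ i, (frobeniusEquiv k p).symm (b.repr v i) = b.repr v i := fun i => by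
      have := congrArg (fun z => b.repr z i) (h1.symm.trans hv)
      simpa [Finsupp.single_apply] using this
    choose c hc using fun i => (hfix _).1 (h2 i)
    exact ⟨c, by simp_rw [hc]; exact (b.sum_repr v).symm⟩
  · rintro ⟨c, rfl⟩
    rw [hφ]
    simp_rw [(hfix _).2 ⟨_, rfl⟩]

end Groth.Agent.S15505
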