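import Groth.Statements.S7407
import Mathlib
import Groth.Agent.EtaleSplit.GeomPoint

set_option autoImplicit false
universe u
open CategoryTheory AlgebraicGeometry
open Desc

namespace Groth.Agent.S7407

open AlgebraicGeometry CategoryTheory

theorem trdeg_eq_of_square {A B C A' : Type u} [Field A] [Field B] [Field C] [Field A']
    (p : A →+* B) (q : B →+* C) (r : A →+* A') (s : A' →+* C) (hq : q.Finite) (hr : r.Finite)
    (e : q.comp p = s.comp r) :
    @Algebra.trdeg A B _ _ p.toAlgebra = @Algebra.trdeg A' C _ _ s.toAlgebra := by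
  letI := p.toAlgebra
  letI := q.toAlgebra
  letI := r.toAlgebra
  letI := s.toAlgebra
  letI : Algebra A C := (q.comp p).toAlgebra
  haveI : IsScalarTower A B C := .of_algebraMap_eq fun _ => rfl
  haveI : IsScalarTower A A' C := .of_algebraMap_eq fun x => RingHom.congr_fun e x
  haveI : Module.Finite B C := hq
  haveI : Module.Finite A A' := hr
  have h1 : Algebra.trdeg A B + Algebra.trdeg B C = Algebra.trdeg A C := trdeg_add_eq _ _
  have h2 : Algebra.trdeg A A' + Algebra.trdeg A' C = Algebra.trdeg A C := trdeg_add_eq _ _
  rw [trdeg_eq_zero (R := B) (A := C), add_zero] at h1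
  rw [trdeg_eq_zero (R := A) (A := A'), zero_add] at h2
  rw [h1, h2]

theorem finite_residueFieldMap_of_etale {X Y : Scheme.{u}} (f : X ⟶ Y) [Etale f] (x : X) :
    (f.residueFieldMap x).hom.Finite := by
  haveI : LocallyQuasiFinite f := by
    rw [HasRingHomProperty.iff_appLE (P := @LocallyQuasiFinite)]
    intro U V e
    have hE : (f.appLE U.1 V.1 e).hom.Etale := HasRingHomProperty.appLE @Etale f inferInstance U V e
    algebraize [(f.appLE U.1 V.1 e).hom]
    exact RingHom.quasiFinite_algebraMap.2 inferInstance
  exact Groth.Agent.EtaleSplit.finite_residueFieldMap f x (f.quasiFiniteAt x)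

/-- The transcendence degree of the residue field extension `κ(x)/κ(s)` of a morphism of germs `(X, x) →
(S, s)` is étale local on the source-and-target: for a commutative square with horizontal maps `h' :
U' → V'`, `h : U → V`, étale vertical maps `a : U' → U`, `b : V' → V` and `u' ∈ U'` with `u =
a(u')`, the transcendence degree of `κ(u)` over `κ(h(u))` equals that of `κ(u')` over `κ(h'(u'))`. -/
theorem result {U U' V V' : Scheme.{u}} (h : U ⟶ V) (h' : U' ⟶ V') (a : U' ⟶ U)
    (b : V' ⟶ V) [Etale a] [Etale b] (comm : h' ≫ b = a ≫ h) (u' : U') :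
    @Algebra.trdeg (V.residueField (h (a u'))) (U.residueField (a u')) _ _ (h.residueFieldMap (a u')).hom.toAlgebra =
      @Algebra.trdeg (V'.residueField (h' u')) (U'.residueField u') _ _ (h'.residueFieldMap u').hom.toAlgebra := by
  have hb : b (h' u') = h (a u') := by
    rw [← Scheme.Hom.comp_apply, comm, Scheme.Hom.comp_apply]
  refine trdeg_eq_of_square (h.residueFieldMap (a u')).hom (a.residueFieldMap u').hom
    ((V.residueFieldCongr hb.symm).hom ≫ b.residueFieldMap (h' u')).hom (h'.residueFieldMap u').hom
    (finite_residueFieldMap_of_etale a u') ?_ ?_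
  · rw [CommRingCat.hom_comp]
    exact (finite_residueFieldMap_of_etale b _).comp
      (RingHom.Finite.of_surjective _ (ConcreteCategory.bijective_of_isIso (V.residueFieldCongr hb.symm).hom).2)
  · rw [← CommRingCat.hom_comp, ← CommRingCat.hom_comp, Category.assoc, ← Scheme.residueFieldMap_comp,
      ← Scheme.residueFieldMap_comp, Scheme.Hom.residueFieldMap_congr comm.symm u']
    rfl

end Groth.Agent.S7407
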