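import Groth.Statements.S15506
import Mathlib
import Groth.Agent.S7407

set_option autoImplicit false
universe u
open CategoryTheory AlgebraicGeometry
open EtBase

namespace Groth.Agent.S15506

/-- Let k be a field, K an algebraic closure of k (an algebraically closed field algebraic over k), Ω a
field containing K, and Z a scheme étale over Spec k. Composition with Spec Ω → Spec K is a
bijection from the k-morphisms Spec K → Z onto the k-morphisms Spec Ω → Z: two k-morphisms Spec K →
Z that agree on Spec Ω are equal, and every k-morphism Spec Ω → Z factors through Spec K. (The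
published statement is the case where k has characteristic zero with a chosen embedding of its
algebraic closure into the complex numbers, Ω = ℂ, and Z is the scheme of isomorphisms between two
K3 surfaces over k, known there to be étale over k; this row states the fact about an arbitrary
étale k-scheme that the argument establishes.) -/
theorem result
    (k K Ω : Type u) [Field k] [Field K] [Field Ω] [Algebra k K] [IsAlgClosed K] [Algebra.IsAlgebraic k K]
    [Algebra K Ω] [Algebra k Ω] [IsScalarTower k K Ω]
    (Z : Scheme.{u}) (f : Z ⟶ Spec (CommRingCat.of k)) [AlgebraicGeometry.Etale f] :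
    (∀ g₁ g₂ : Spec (CommRingCat.of K) ⟶ Z,
        g₁ ≫ f = Spec.map (CommRingCat.ofHom (algebraMap k K)) →
        g₂ ≫ f = Spec.map (CommRingCat.ofHom (algebraMap k K)) →
        Spec.map (CommRingCat.ofHom (algebraMap K Ω)) ≫ g₁ = Spec.map (CommRingCat.ofHom (algebraMap K Ω)) ≫ g₂ →
        g₁ = g₂) ∧
    (∀ h : Spec (CommRingCat.of Ω) ⟶ Z, h ≫ f = Spec.map (CommRingCat.ofHom (algebraMap k Ω)) →
        ∃ g : Spec (CommRingCat.of K) ⟶ Z, g ≫ f = Spec.map (CommRingCat.ofHom (algebraMap k K)) ∧
          Spec.map (CommRingCat.ofHom (algebraMap K Ω)) ≫ g = h) := by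
  have hι : Function.Injective (algebraMap K Ω) := RingHom.injective _
  constructor
  · intro g₁ g₂ _ _ e
    obtain ⟨⟨z₁, φ₁⟩, rfl⟩ := (Scheme.SpecToEquivOfField K Z).symm.surjective g₁
    obtain ⟨⟨z₂, φ₂⟩, rfl⟩ := (Scheme.SpecToEquivOfField K Z).symm.surjective g₂
    simp only [Scheme.SpecToEquivOfField_symm_apply, ← Spec.map_comp_assoc] at e
    have e' := (Scheme.SpecToEquivOfField Ω Z).symm.injective
      (a₁ := ⟨z₁, φ₁ ≫ CommRingCat.ofHom (algebraMap K Ω)⟩)
      (a₂ := ⟨z₂, φ₂ ≫ CommRingCat.ofHom (algebraMap K Ω)⟩) e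
    simp only [Sigma.mk.injEq] at e'
    obtain ⟨rfl, e''⟩ := e'
    obtain rfl : φ₁ = φ₂ := by
      ext a
      exact hι (congrArg (fun q => q a) (eq_of_heq e''))
    rfl
  · intro h hh
    obtain ⟨⟨z, ψ⟩, rfl⟩ := (Scheme.SpecToEquivOfField Ω Z).symm.surjective h
    simp only [Scheme.SpecToEquivOfField_symm_apply, Category.assoc] at hh ⊢
    set ρ : CommRingCat.of k ⟶ Z.residueField z :=
      Spec.preimage (Z.fromSpecResidueField z ≫ f) with hρdef
    have hρ : Spec.map ρ = Z.fromSpecResidueField z ≫ f := Spec.map_preimage _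
    have hψ : ρ ≫ ψ = CommRingCat.ofHom (algebraMap k Ω) := by
      apply Spec.map_injective
      rw [Spec.map_comp, hρ]
      exact hh
    have hfin : ρ.hom.Finite := by
      rw [← IsFinite.SpecMap_iff, hρ, ← Scheme.Hom.SpecMap_residueFieldMap_fromSpecResidueField]
      haveI : IsClosedImmersion ((Spec (CommRingCat.of k)).fromSpecResidueField (f z)) :=
        isClosed_singleton_iff_isClosedImmersion.1 (isClosed_discrete _)
      haveI : IsFinite (Spec.map (f.residueFieldMap z)) :=
        (IsFinite.SpecMap_iff _).2 (Groth.Agent.S7407.finite_residueFieldMap_of_etale f z)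
      infer_instance
    have hmem : ∀ a, ψ a ∈ (algebraMap K Ω).range := by
      intro a
      have h1 : IsIntegral k (ψ a) := by
        obtain ⟨p, hp, hp0⟩ := hfin.to_isIntegral a
        refine ⟨p, hp, ?_⟩
        have h2 : algebraMap k Ω = ψ.hom.comp ρ.hom := by
          rw [← CommRingCat.hom_comp, hψ]
          rfl
        rw [h2, ← Polynomial.hom_eval₂, hp0, map_zero]
      have h3 : IsIntegral K (ψ a) := h1.tower_top
      exact minpoly.mem_range_of_degree_eq_one K (ψ a)
        (IsAlgClosed.degree_eq_one_of_irreducible K (minpoly.irreducible h3))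
    let φ : Z.residueField z ⟶ CommRingCat.of K := CommRingCat.ofHom
      ((RingEquiv.ofBijective (algebraMap K Ω).rangeRestrict
          ⟨fun x y e => hι (congrArg Subtype.val e), RingHom.rangeRestrict_surjective _⟩).symm.toRingHom.comp
        (ψ.hom.codRestrict _ hmem))
    have hφ : φ ≫ CommRingCat.ofHom (algebraMap K Ω) = ψ := by
      ext a
      exact congrArg Subtype.val ((RingEquiv.ofBijective (algebraMap K Ω).rangeRestrict
          ⟨fun x y e => hι (congrArg Subtype.val e), RingHom.rangeRestrict_surjective _⟩).apply_symm_apply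
            (ψ.hom.codRestrict _ hmem a))
    refine ⟨Spec.map φ ≫ Z.fromSpecResidueField z, ?_, ?_⟩
    · rw [Category.assoc, ← hρ, ← Spec.map_comp]
      congr 1
      ext a
      refine hι ?_
      have h4 : φ.hom (ρ.hom a) = φ.hom (ρ.hom a) := rfl
      change (φ ≫ CommRingCat.ofHom (algebraMap K Ω)) (ρ a) = algebraMap K Ω (algebraMap k K a)
      rw [hφ, ← IsScalarTower.algebraMap_apply]
      exact congrArg (fun q => q a) hψ
    · rw [← Spec.map_comp_assoc, hφ]

end Groth.Agent.S15506
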