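import Groth.Statements.S15509
import Groth.Agent.S7789
import Groth.Agent.AVLib.GeomInt
import Groth.Agent.PurityLib.Normal
import Groth.Agent.QuotLib.Geom
-- import your own Groth.Agent.* helpers here

set_option autoImplicit false
universe u
open CategoryTheory CategoryTheory.Limits MonoidalCategory CartesianMonoidalCategory MonObj AlgebraicGeometry
open AbSch

namespace Groth.Agent.S15509

section
open CategoryTheory CategoryTheory.Limits MonoidalCategory CartesianMonoidalCategory MonObj GrpObj AlgebraicGeometry

/-- A point of a finite scheme over the fraction field of a normal domain extends. -/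
theorem exists_extend {R : Type u} [CommRing R] [IsDomain R] [IsIntegrallyClosed R] {P : Scheme.{u}}
    (q : P ⟶ Spec (CommRingCat.of R)) [IsFinite q]
    (a : Spec (CommRingCat.of (FractionRing R)) ⟶ P)
    (ha : a ≫ q = Spec.map (CommRingCat.ofHom (algebraMap R (FractionRing R)))) :
    ∃ b : Spec (CommRingCat.of R) ⟶ P, b ≫ q = 𝟙 _ ∧
      Spec.map (CommRingCat.ofHom (algebraMap R (FractionRing R))) ≫ b = a := by
  haveI : IsAffine P := isAffine_of_isAffineHom q
  obtain ⟨φ, hφ⟩ := Spec.map_surjective (P.isoSpec.inv ≫ q)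
  obtain ⟨ψ, hψ⟩ := Spec.map_surjective (a ≫ P.isoSpec.hom)
  have hc : φ ≫ ψ = CommRingCat.ofHom (algebraMap R (FractionRing R)) := by
    apply Spec.map_injective
    rw [Spec.map_comp, hφ, hψ, Category.assoc, Iso.hom_inv_id_assoc, ha]
  have hfin : φ.hom.IsIntegral := by
    haveI : IsFinite (Spec.map φ) := by rw [hφ]; infer_instance
    exact ((IsFinite.SpecMap_iff _).1 ‹_›).to_isIntegral
  have hmem : ∀ x, ψ.hom x ∈ (algebraMap R (FractionRing R)).range := fun x => by
    obtain ⟨p, hp, hpx⟩ := hfin x
    obtain ⟨y, hy⟩ := IsIntegrallyClosed.isIntegral_iff.1 (show IsIntegral R (ψ.hom x) from ⟨p, hp, by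
      have h : algebraMap R (FractionRing R) = ψ.hom.comp φ.hom := by
        rw [← CommRingCat.hom_comp, hc]; rfl
      rw [h, ← Polynomial.hom_eval₂, hpx, map_zero]⟩)
    exact ⟨y, hy⟩
  let χ : Γ(P, ⊤) →+* R := (RingEquiv.ofBijective (algebraMap R (FractionRing R)).rangeRestrict
    ⟨fun u v h => IsFractionRing.injective R (FractionRing R) (congrArg Subtype.val h),
      RingHom.rangeRestrict_surjective _⟩).symm.toRingHom.comp (ψ.hom.codRestrict _ hmem)
  have hχ : ∀ x, algebraMap R (FractionRing R) (χ x) = ψ.hom x := fun x => by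
    have h := (RingEquiv.ofBijective (algebraMap R (FractionRing R)).rangeRestrict
      ⟨fun u v h => IsFractionRing.injective R (FractionRing R) (congrArg Subtype.val h),
        RingHom.rangeRestrict_surjective _⟩).apply_symm_apply (ψ.hom.codRestrict _ hmem x)
    exact congrArg Subtype.val h
  have h₁ : φ ≫ CommRingCat.ofHom χ = 𝟙 _ := by
    ext r
    apply IsFractionRing.injective R (FractionRing R)
    show algebraMap R (FractionRing R) (χ (φ.hom r)) = algebraMap R (FractionRing R) r
    rw [hχ, ← CommRingCat.comp_apply, hc]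
    rfl
  have h₂ : CommRingCat.ofHom χ ≫ CommRingCat.ofHom (algebraMap R (FractionRing R)) = ψ := by
    ext x
    exact hχ x
  refine ⟨Spec.map (CommRingCat.ofHom χ) ≫ P.isoSpec.inv, ?_, ?_⟩
  · rw [Category.assoc, ← hφ, ← Spec.map_comp, h₁, Spec.map_id]
  · rw [← Spec.map_comp_assoc, h₂, hψ, Category.assoc, Iso.hom_inv_id, Category.comp_id]

/-- A finite scheme over an affine base has finitely many points with values in a field. -/
theorem finite_points {R k : Type u} [CommRing R] [Field k] (g : R →+* k) {P : Scheme.{u}}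
    (q : P ⟶ Spec (CommRingCat.of R)) [IsFinite q] :
    Finite {a : Spec (CommRingCat.of k) ⟶ P // a ≫ q = Spec.map (CommRingCat.ofHom g)} := by
  haveI : IsAffine P := isAffine_of_isAffineHom q
  obtain ⟨φ, hφ⟩ := Spec.map_surjective (P.isoSpec.inv ≫ q)
  letI : Algebra R k := g.toAlgebra
  letI : Algebra R Γ(P, ⊤) := φ.hom.toAlgebra
  haveI : IsFinite (Spec.map φ) := by rw [hφ]; infer_instance
  haveI : Module.Finite R Γ(P, ⊤) := (IsFinite.SpecMap_iff φ).1 inferInstance
  refine Finite.of_injective (β := Γ(P, ⊤) →ₐ[R] k) (fun a => ⟨(Spec.preimage (a.1 ≫ P.isoSpec.hom)).hom, fun r => ?_⟩) ?_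
  · show (φ ≫ Spec.preimage (a.1 ≫ P.isoSpec.hom)).hom r = g r
    have h : φ ≫ Spec.preimage (a.1 ≫ P.isoSpec.hom) = CommRingCat.ofHom g := by
      apply Spec.map_injective
      rw [Spec.map_comp, Spec.map_preimage, hφ, Category.assoc, Iso.hom_inv_id_assoc, a.2]
    rw [h]; rfl
  · intro a b h
    have h' : Spec.preimage (a.1 ≫ P.isoSpec.hom) = Spec.preimage (b.1 ≫ P.isoSpec.hom) :=
      CommRingCat.hom_ext (congrArg AlgHom.toRingHom h)
    apply Subtype.ext
    rw [← cancel_mono P.isoSpec.hom, ← Spec.map_preimage (a.1 ≫ P.isoSpec.hom), h', Spec.map_preimage]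

end

/-- Let R be a regular local ring which is a domain and contains the rational numbers, with fraction
field K and residue field k, and let A be an abelian scheme over Spec R of relative dimension g (a
commutative group scheme which is smooth and proper with geometrically connected fibres of dimension
g). Then for every integer m ≥ 1 the number of K-valued points of A over Spec R killed by m is at
most the number of k-valued points of A over Spec R killed by m: the m-torsion of the rational
points of the generic fibre is no larger than the m-torsion of the rational points of the closed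
fibre. (The published statement is for an arbitrary Noetherian regular local ring R inside a paper
whose standing setting is schemes over the complex numbers; this row keeps from that setting only
that R contains the rationals, which is what the printed argument uses to make the m-torsion
subgroup scheme étale over the base.) -/
theorem result
    (R : Type u) [CommRing R] [IsDomain R] [IsRegularLocalRing R] [Algebra ℚ R]
    (A : Over (Spec (CommRingCat.of R))) [GrpObj A] [IsCommMonObj A] (g : ℕ) (hA : AgPol.IsAbSch A g)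
    (m : ℕ) (hm : 1 ≤ m) :
    Nat.card (AbDual.torsPts A m (Over.mk (Spec.map (CommRingCat.ofHom (algebraMap R (FractionRing R)))))) ≤
      Nat.card (AbDual.torsPts A m (Over.mk (Spec.map (CommRingCat.ofHom (IsLocalRing.residue R))))) := by
  obtain ⟨hsm, hpr, hgc, -⟩ := hA
  haveI := hsm
  haveI := hpr
  haveI := hgc
  haveI := AVLib.geometricallyReduced_of_smooth A.hom
  haveI : IsIntegrallyClosed R := (PurityLib.isIntegrallyClosed_of_regular R).2
  have hu : IsUnit (((m : ℤ) : Γ(Spec (CommRingCat.of R), ⊤))) := by
    have h1 : IsUnit (algebraMap ℚ R (m : ℚ)) := (isUnit_iff_ne_zero.2 (Nat.cast_ne_zero.2 (by omega))).map _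
    rw [map_natCast] at h1
    have h2 : IsUnit ((Scheme.ΓSpecIso (CommRingCat.of R)).inv.hom (m : R)) := h1.map _
    rw [map_natCast] at h2
    rwa [Int.cast_natCast]
  obtain ⟨hfin, het⟩ := Groth.Agent.S7789.result A (m : ℤ) hu
  rw [zpow_natCast] at hfin het
  haveI := hfin
  haveI := het
  let K : Over (Spec (CommRingCat.of R)) := Over.mk (Spec.map (CommRingCat.ofHom (algebraMap R (FractionRing R))))
  let κ : Over (Spec (CommRingCat.of R)) := Over.mk (Spec.map (CommRingCat.ofHom (IsLocalRing.residue R)))
  let O : Over (Spec (CommRingCat.of R)) := 𝟙_ _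
  let gK : K ⟶ O := toUnit K
  let gκ : κ ⟶ O := toUnit κ
  let q := pullback.snd (𝟙 A ^ m : A ⟶ A).left η[A].left
  haveI : IsFinite q := MorphismProperty.pullback_snd _ _ hfin
  haveI : Etale q := MorphismProperty.pullback_snd _ _ het
  have hpow : ∀ {T : Over (Spec (CommRingCat.of R))} (b : T ⟶ A), b ≫ (𝟙 A ^ m : A ⟶ A) = b ^ m := fun b => by
    rw [MonObj.comp_pow, Category.comp_id]
  have hextend : ∀ a ∈ AbDual.torsPts A m K, ∃ b : O ⟶ A, b ^ m = 1 ∧ gK ≫ b = a := by
    intro a ha
    rw [AbDual.mem_torsPts] at ha
    have hw : a.left ≫ (𝟙 A ^ m : A ⟶ A).left = K.hom ≫ η[A].left := by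
      rw [← Over.comp_left, hpow, ha, Hom.one_def]
      rfl
    obtain ⟨b, hb, hba⟩ := exists_extend q (pullback.lift a.left K.hom hw) (pullback.lift_snd _ _ _)
    let bA : O ⟶ A := Over.homMk (b ≫ pullback.fst _ _) (by
      rw [Category.assoc]
      have h := (pullback.condition (f := (𝟙 A ^ m : A ⟶ A).left) (g := η[A].left)) =≫ A.hom
      rw [Category.assoc, Category.assoc, Over.w (𝟙 A ^ m : A ⟶ A), Over.w η[A]] at h
      rw [h]
      exact (congrArg (b ≫ ·) (Category.comp_id _)).trans hb)
    refine ⟨bA, ?_, ?_⟩
    · rw [← hpow, Hom.one_def, toUnit_unit, Category.id_comp]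
      apply Over.OverMorphism.ext
      show (b ≫ pullback.fst _ _) ≫ _ = _
      rw [Category.assoc, pullback.condition, ← Category.assoc, hb]
      exact Category.id_comp _
    · apply Over.OverMorphism.ext
      show K.hom ≫ b ≫ pullback.fst _ _ = a.left
      rw [← Category.assoc, show K.hom ≫ b = _ from hba, pullback.lift_fst]
  choose ext hext hres using hextend
  haveI : PreconnectedSpace ↥O.left := inferInstanceAs (PreconnectedSpace (PrimeSpectrum R))
  have hinj : ∀ b c : O ⟶ A, b ^ m = 1 → c ^ m = 1 → gκ ≫ b = gκ ≫ c → b = c := by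
    intro b c hb hc h
    apply Over.OverMorphism.ext
    haveI : Nonempty ↥κ.left := inferInstanceAs (Nonempty (PrimeSpectrum (IsLocalRing.ResidueField R)))
    refine QuotLib.eq_of_eq_at_point (𝟙 A ^ m : A ⟶ A).left b.left c.left ?_ gκ.left (congrArg Over.Hom.left h)
    rw [← Over.comp_left, ← Over.comp_left, hpow, hpow, hb, hc]
  have hfin' : Finite (AbDual.torsPts A m κ) := by
    haveI := finite_points (IsLocalRing.residue R) q
    refine Finite.of_injective (β := {a : Spec (CommRingCat.of (IsLocalRing.ResidueField R)) ⟶ _ //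
        a ≫ q = Spec.map (CommRingCat.ofHom (IsLocalRing.residue R))})
      (fun a => ⟨pullback.lift a.1.left κ.hom (by
        rw [← Over.comp_left, hpow, (AbDual.mem_torsPts A a.1).1 a.2, Hom.one_def]
        rfl), pullback.lift_snd _ _ _⟩) fun a b h => ?_
    apply Subtype.ext
    apply Over.OverMorphism.ext
    have := congrArg (fun z => z.1 ≫ pullback.fst _ _) h
    exact ((pullback.lift_fst _ _ _).symm.trans this).trans (pullback.lift_fst _ _ _)
  refine Nat.card_le_card_of_injective (fun a => ⟨gκ ≫ ext a.1 a.2, by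
    rw [AbDual.mem_torsPts, ← MonObj.comp_pow, hext, MonObj.comp_one]⟩) ?_
  intro a b h
  have h' := hinj _ _ (hext a.1 a.2) (hext b.1 b.2) (congrArg Subtype.val h)
  apply Subtype.ext
  rw [← hres a.1 a.2, h', hres b.1 b.2]

end Groth.Agent.S15509
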