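import Groth.Statements.S15510
import Groth.Agent.CurveRigid.Affine
import Groth.Agent.AVLib.GeomInt
import Mathlib.AlgebraicGeometry.SpreadingOut
import Mathlib
import Groth.Agent.GrpQuotLib.Descend

set_option autoImplicit false
universe u
open CategoryTheory CategoryTheory.Limits MonoidalCategory CartesianMonoidalCategory MonObj AlgebraicGeometry
open AbVar

namespace Groth.Agent.S15510

open CategoryTheory CategoryTheory.Limits AlgebraicGeometry

open Groth.Agent
set_option backward.isDefEq.respectTransparency false

/-- Let F be a field and A a principally polarized abelian variety over F: a commutative group scheme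
over Spec F, smooth and proper with geometrically connected fibres of dimension g, given together
with a commutative group scheme At, data φ presenting At as the dual of A for the fppf topology, and
a polarization lam : A ⟶ At which is an isomorphism. Let Q = F(t_1, …, t_n) be the field of rational
functions in n variables over F. Then base change from F to Q is a bijection from the F-rational
points of A onto the Q-valued points of A over Spec F: every Q-point of A comes from exactly one
F-point. -/
theorem result
    (F : Type u) [Field F]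
    (A At : Over (Spec (CommRingCat.of F))) [GrpObj A] [IsCommMonObj A] [GrpObj At] [IsCommMonObj At]
    (g : ℕ) (hA : AgPol.IsAbSch A g)
    (φ : AgPol.DualMap A At) (hdual : AbDual.IsDualAV Scheme.fppfPrecoverage A At φ)
    (lam : A ⟶ At) (hpol : AgPol.IsPolarization A At φ lam) (hiso : IsIso lam) (n : ℕ) :
    Function.Bijective (fun x : (Over.mk (𝟙 (Spec (CommRingCat.of F))) ⟶ A) =>
      (Over.homMk (Spec.map (CommRingCat.ofHom (algebraMap F (FractionRing (MvPolynomial (Fin n) F)))))
          (Category.comp_id _) :
        Over.mk (Spec.map (CommRingCat.ofHom (algebraMap F (FractionRing (MvPolynomial (Fin n) F))))) ⟶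
          Over.mk (𝟙 (Spec (CommRingCat.of F)))) ≫ x) := by
  haveI : Smooth A.hom := hA.smooth
  haveI : IsProper A.hom := hA.proper
  haveI : GeometricallyConnected A.hom := hA.geomConnected
  haveI : GeometricallyIntegral A.hom := AVLib.geometricallyIntegral_of_smooth A
  let R := MvPolynomial (Fin n) F
  let Q := FractionRing R
  let s : Spec (CommRingCat.of Q) ⟶ Spec (CommRingCat.of F) := Spec.map (CommRingCat.ofHom (algebraMap F Q))
  haveI : Subsingleton ↥(Spec (CommRingCat.of F)) := inferInstanceAs (Subsingleton (PrimeSpectrum F))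
  haveI : Flat s := (HasRingHomProperty.Spec_iff (P := @Flat)).2 (RingHom.flat_algebraMap_iff.2 inferInstance)
  haveI : Surjective s := ⟨fun y => ⟨IsLocalRing.closedPoint Q, Subsingleton.elim _ _⟩⟩
  haveI := SchDesc.IsFpqc.of_quasiCompact s
  refine ⟨fun x y e => Over.OverMorphism.ext ((cancel_epi s).1 (congrArg CommaMorphism.left e)), fun q => ?_⟩
  let P := Spec (CommRingCat.of R)
  let sP : P ⟶ Spec (CommRingCat.of F) := Spec.map (CommRingCat.ofHom (algebraMap F R))
  haveI : IsDomain ↑(CommRingCat.of R) := inferInstanceAs (IsDomain R)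
  letI : Algebra R P.functionField :=
    RingHom.toAlgebra (StructureSheaf.toStalk (CommRingCat.of R) (genericPoint P)).hom
  haveI : IsFractionRing R P.functionField :=
    AlgebraicGeometry.functionField_isFractionRing_of_affine (CommRingCat.of R)
  haveI : AlgebraicGeometry.IsIntegral P := inferInstanceAs (AlgebraicGeometry.IsIntegral (Spec (CommRingCat.of R)))
  let e : Q ≃ₐ[R] P.functionField := FractionRing.algEquiv R P.functionField
  let φ : Spec (P.presheaf.stalk (genericPoint P)) ⟶ A.left :=
    Spec.map (CommRingCat.ofHom e.toAlgHom.toRingHom) ≫ q.left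
  have hstalk : P.fromSpecStalk (genericPoint P) = Spec.map (CommRingCat.ofHom (algebraMap R P.functionField)) :=
    (Spec.fromSpecStalk_eq' (CommRingCat.of R) (genericPoint P)).trans rfl
  have hφ : φ ≫ A.hom = P.fromSpecStalk (genericPoint P) ≫ sP := by
    rw [hstalk, Category.assoc, Over.w q]
    show Spec.map _ ≫ Spec.map _ = Spec.map _ ≫ Spec.map _
    rw [← Spec.map_comp, ← Spec.map_comp]
    congr 1
    ext c
    show e (algebraMap F Q c) = algebraMap R P.functionField (algebraMap F R c)
    rw [IsScalarTower.algebraMap_apply F R Q, e.commutes]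
  obtain ⟨U, hU, g, hg, hgs⟩ := spread_out_of_isGermInjective' (sX := sP) (sY := A.hom) (x := genericPoint P) φ hφ
  let N := ULift.{u} (Fin n)
  let E := CurveRigid.affO F N
  haveI : Smooth E.hom := WittHomLib.smooth_affineSpace N _
  haveI : IsAffineHom E.hom :=
    inferInstanceAs (IsAffineHom (𝔸(N; Spec (CommRingCat.of F)) ↘ Spec (CommRingCat.of F)))
  haveI : GeometricallyIntegral E.hom :=
    inferInstanceAs (GeometricallyIntegral (𝔸(N; Spec (CommRingCat.of F)) ↘ Spec (CommRingCat.of F)))
  let r : R ≃ₐ[F] MvPolynomial N F := MvPolynomial.renameEquiv F Equiv.ulift.symm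
  let ε : E.left ≅ P := AffineSpace.SpecIso N (CommRingCat.of F) ≪≫
    Scheme.Spec.mapIso r.toRingEquiv.toCommRingCatIso.op
  have hε : ε.inv ≫ E.hom = sP := by
    simp only [ε, Iso.trans_inv, Functor.mapIso_inv, Iso.op_inv, Scheme.Spec_map, Quiver.Hom.unop_op,
      Category.assoc]
    rw [show E.hom = 𝔸(N; Spec (CommRingCat.of F)) ↘ Spec (CommRingCat.of F) from rfl, AffineSpace.SpecIso_inv_over,
      ← Spec.map_comp]
    congr 1
    ext1
    exact RingHom.ext fun c => r.symm.commutes c
  have hεh : ε.hom ≫ sP = E.hom := by rw [← hε, Iso.hom_inv_id_assoc]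
  obtain ⟨h, hh, hhU⟩ := Groth.Agent.S11992.result F E.left E.hom A (ε.hom ⁻¹ᵁ U)
    ⟨ε.inv (genericPoint P), by
      show ε.hom (ε.inv (genericPoint P)) ∈ U
      rw [← Scheme.Hom.comp_apply, Iso.inv_hom_id]
      exact hU⟩
    ((ε.hom ∣_ U) ≫ g) (by rw [Category.assoc, hgs, morphismRestrict_ι_assoc, hεh])
  obtain ⟨a, ha⟩ := CurveRigid.affineSpace_const N (Over.homMk h hh : E ⟶ A)
  refine ⟨a, Over.OverMorphism.ext ?_⟩
  have h1 : h = E.hom ≫ a.left := congrArg CommaMorphism.left ha
  haveI : IsIso (ε.hom ∣_ U) := inferInstance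
  have h2 : g = U.ι ≫ sP ≫ a.left := by
    rw [← cancel_epi (ε.hom ∣_ U), ← hhU, h1, morphismRestrict_ι_assoc, ← Category.assoc ε.hom, hεh]
  show s ≫ a.left = q.left
  have h3 : Spec.map (CommRingCat.ofHom e.toAlgHom.toRingHom) ≫ q.left =
      Spec.map (CommRingCat.ofHom e.toAlgHom.toRingHom) ≫ s ≫ a.left := by
    refine hg.trans ?_
    rw [h2, Scheme.Opens.fromSpecStalkOfMem_ι_assoc, ← Category.assoc, ← Category.assoc, ← hφ, Category.assoc φ]
    show (Spec.map _ ≫ q.left) ≫ A.hom ≫ a.left = _
    rw [Category.assoc, ← Category.assoc q.left, Over.w q, Category.assoc]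
    rfl
  haveI : IsIso (CommRingCat.ofHom e.toAlgHom.toRingHom) := e.toRingEquiv.toCommRingCatIso.isIso_hom
  exact ((cancel_epi _).1 h3).symm

end Groth.Agent.S15510
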