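import Groth.Statements.S15511
import Groth.Agent.AbDualLib.Lambda
-- import your own Groth.Agent.* helpers here

set_option autoImplicit false
universe u
open CategoryTheory CategoryTheory.Limits MonoidalCategory CartesianMonoidalCategory MonObj AlgebraicGeometry
open AbSch

namespace Groth.Agent.S15511

/-- Let S be a connected locally Noetherian scheme, A an abelian scheme over S (a commutative group
scheme which is smooth and proper with geometrically connected fibres of dimension g) given with a
commutative group scheme At and data φ presenting At as the dual of A for the fppf topology, L an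
invertible module on A, and lam : A ⟶ At the homomorphism attached to L through φ (the morphism
sending a point x to the class of the translate of L by x tensor the inverse of L). If for some
closed point s of S the base change of lam to the fibre over s is the trivial homomorphism (the
class of L restricted to the fibre A_s has vanishing attached homomorphism, i.e. is zero in the
Néron–Severi group), then lam itself is the trivial homomorphism, the structure morphism of A
followed by the unit section of At. (The published statement does not ask S to be connected; over a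
base with two connected components, L trivial over one component and relatively ample over the other
gives an attached homomorphism vanishing on a closed fibre without vanishing identically, and the
printed proof rests on the rigidity lemma, which needs a connected base. The base is also taken
locally Noetherian, the published setting being schemes locally of finite type over ℂ.) -/
theorem result
    (S : Scheme.{u}) [IsLocallyNoetherian S] [ConnectedSpace S]
    (A At : Over S) [GrpObj A] [IsCommMonObj A] [GrpObj At] [IsCommMonObj At]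
    (g : ℕ) (hA : AgPol.IsAbSch A g)
    (φ : AgPol.DualMap A At) (hdual : AbDual.IsDualAV Scheme.fppfPrecoverage A At φ)
    (L : A.left.Modules) (hL : PicF.IsInvertible L) (lam : A ⟶ At) (hlam : AgPol.IsLambda A At φ L lam)
    (s : S) (hs : IsClosed ({s} : Set S))
    (h : (Over.pullback (S.fromSpecResidueField s)).map lam = 1) :
    lam = 1 := by
  haveI := hA.smooth
  haveI := hA.proper
  haveI := hA.geomConnected
  haveI : GeometricallyIntegral A.hom := AbDualLib.geometricallyIntegral_of_smooth A
  obtain ⟨N, hN, hNL, rfl⟩ := hlam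
  show AbDualLib.ph φ A (PicLib.cls hN) = 1
  let π := PicF.XTproj A.hom A
  let η₀ : S ⟶ A.left := η[A].left
  have hη : η₀ ≫ A.hom = 𝟙 S := Over.w η[A]
  have eN : PicLib.cls hN * @PicLib.pull (PicF.XT A.hom A) A.left (fst A A).left (PicLib.cls hL) *
      @PicLib.pull (PicF.XT A.hom A) A.left (snd A A).left (PicLib.cls hL) =
      PicLib.pull (μ[A].left : PicF.XT A.hom A ⟶ A.left) (PicLib.cls hL) := by
    simp only [PicLib.pull_cls, ← PicLib.cls_tensor]
    exact (PicLib.cls_eq_cls _ _).2 hNL
  -- the two slices
  let U : Over S := Over.mk A.hom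
  let i₁ : A ⟶ A ⊗ A := lift (𝟙 A) 1
  let i₂ : A ⟶ A ⊗ A := lift 1 (𝟙 A)
  have h₂ : AbDualLib.eT A A = i₂.left := by
    apply pullback.hom_ext
    · rw [AbDualLib.eT_fst]
      exact (congrArg CommaMorphism.left (lift_fst (1 : A ⟶ A) (𝟙 A))).symm
    · rw [AbDualLib.eT_snd]
      exact (congrArg CommaMorphism.left (lift_snd (1 : A ⟶ A) (𝟙 A))).symm
  let c := PicLib.cls hN * PicLib.pull (π ≫ A.hom ≫ η₀) (PicLib.cls hL)
  have hone : (1 : A ⟶ A).left = A.hom ≫ η₀ := rfl
  have key : ∀ (i : A ⟶ A ⊗ A) (x y : A ⟶ A), i ≫ fst A A = x → i ≫ snd A A = y → x * y = 𝟙 A →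
      PicLib.pull i.left (PicLib.cls hN) *
        (PicLib.pull x.left (PicLib.cls hL) * PicLib.pull y.left (PicLib.cls hL)) = PicLib.cls hL := by
    intro i x y hx hy hxy
    have e := congrArg (PicLib.pull i.left) eN
    rw [map_mul, map_mul, _root_.mul_assoc, ← PicLib.pull_comp, ← PicLib.pull_comp, ← PicLib.pull_comp] at e
    erw [← Over.comp_left, ← Over.comp_left, ← Over.comp_left] at e
    rw [hx, hy] at e
    refine e.trans ?_
    have : i ≫ μ[A] = 𝟙 A := by
      rw [show i = lift x y from CartesianMonoidalCategory.hom_ext _ _ (hx.trans (lift_fst x y).symm)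
        (hy.trans (lift_snd x y).symm), ← Hom.mul_def, hxy]
    rw [this]
    exact PicLib.pull_id _
  have hc₂ : PicLib.pull (AbDualLib.eT A A) c = 1 := by
    have e := key i₂ 1 (𝟙 A) (lift_fst _ _) (lift_snd _ _) (_root_.one_mul _)
    rw [hone, show (𝟙 A : A ⟶ A).left = 𝟙 A.left from rfl, PicLib.pull_id, ← _root_.mul_assoc, mul_eq_right] at e
    show PicLib.pull (AbDualLib.eT A A) (_ * _) = 1
    rw [map_mul, ← PicLib.pull_comp, ← Category.assoc, AbDualLib.eT_snd, Category.id_comp, h₂]
    exact e
  have hi₁ : i₁.left ≫ π = A.hom ≫ η₀ := congrArg CommaMorphism.left (lift_snd (𝟙 A) (1 : A ⟶ A))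
  have hc₁ : PicLib.pull i₁.left c = 1 := by
    have e := key i₁ (𝟙 A) 1 (lift_fst _ _) (lift_snd _ _) (_root_.mul_one _)
    rw [hone, show (𝟙 A : A ⟶ A).left = 𝟙 A.left from rfl, PicLib.pull_id, ← _root_.mul_assoc,
      mul_right_comm, mul_eq_right] at e
    show PicLib.pull i₁.left (_ * _) = 1
    rw [map_mul, ← PicLib.pull_comp, reassoc_of% hi₁, reassoc_of% hη]
    exact e
  have hct : PicLib.pull (PicF.XTmap A.hom η[A]) c = 1 := by
    let p₁ : PicF.XT A.hom (𝟙_ (Over S)) ⟶ A.left := pullback.fst A.hom (𝟙 S)
    have : PicF.XTmap A.hom η[A] = p₁ ≫ i₁.left := by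
      apply pullback.hom_ext
      · rw [Category.assoc, show i₁.left ≫ pullback.fst A.hom A.hom = 𝟙 A.left from
          congrArg CommaMorphism.left (lift_fst (𝟙 A) (1 : A ⟶ A)), Category.comp_id]
        simp only [PicF.XTmap, p₁, pullback.lift_fst]
        exact Category.comp_id _
      · rw [Category.assoc, show i₁.left ≫ pullback.snd A.hom A.hom = A.hom ≫ η₀ from hi₁]
        simp only [PicF.XTmap, p₁]
        rw [pullback.lift_snd, ← Category.assoc, pullback.condition]
        simp [η₀]
    rw [this, PicLib.pull_comp, hc₁, map_one]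
  have hcpz : AbDualLib.IsPZ A A c := AbDualLib.isPZ_of_family η[A] hct
  have hlam_c : AbDualLib.ph φ A (PicLib.cls hN) = AbDualLib.ph φ A c := by
    rw [show c = PicLib.cls hN * PicLib.pull π (PicLib.pull (A.hom ≫ η₀) (PicLib.cls hL)) by
      rw [← PicLib.pull_comp]]
    rw [AbDualLib.ph_mul_base hdual]
    rw [show PicLib.cls hN = c * PicLib.pull π (PicLib.pull (A.hom ≫ η₀) (PicLib.cls hL))⁻¹ by
      rw [map_inv, ← PicLib.pull_comp, mul_inv_cancel_right]]
    exact AbDualLib.isPZ_mul_base hcpz _
  -- the fibre at `s`
  let ps := pullback.fst A.hom (S.fromSpecResidueField s)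
  let T₁ : Over S := Over.mk (ps ≫ A.hom)
  let g : T₁ ⟶ A := Over.homMk ps rfl
  have hg : g ≫ AbDualLib.ph φ A (PicLib.cls hN) = 1 := by
    have e := congrArg (fun a : (Over.pullback (S.fromSpecResidueField s)).obj A ⟶ _ => a.left ≫ pullback.fst _ _)
      (h.trans (Functor.map_one (F := Over.pullback (S.fromSpecResidueField s)) (X := A) (M := At)).symm)
    simp only [Over.pullback_map_left, pullback.lift_fst] at e
    refine Over.OverMorphism.ext (e.trans ?_)
    rw [Hom.one_def, Hom.one_def]
    show ps ≫ A.hom ≫ η[At].left = (ps ≫ A.hom) ≫ η[At].left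
    rw [Category.assoc]
  rw [hlam_c, ← AbDualLib.ph_natural hdual g hcpz,
    show (1 : T₁ ⟶ At) = AbDualLib.ph φ T₁ 1 by
      rw [← AbDualLib.ph_base hdual (1 : PicLib.Pic T₁.left) AbDualLib.isPZ_one, map_one]] at hg
  obtain ⟨R, hR, hinj⟩ := hdual.relPic.locallyInjective T₁ _ _ (AbDualLib.isPZ_pull_XTmap g hcpz)
    AbDualLib.isPZ_one hg
  -- trivial on the fibre
  haveI : IsProper (pullback.snd A.hom (S.fromSpecResidueField s)) := MorphismProperty.pullback_snd _ _ inferInstance
  haveI : GeometricallyIntegral (pullback.snd A.hom (S.fromSpecResidueField s)) :=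
    MorphismProperty.pullback_snd _ _ inferInstance
  haveI : IsIntegral T₁.left := by
    haveI : Subsingleton ↥(Spec (S.residueField s)) := inferInstanceAs (Subsingleton (PrimeSpectrum (S.residueField s)))
    exact GeometricallyIntegral.isIntegral_of_subsingleton (pullback.snd A.hom (S.fromSpecResidueField s))
  haveI : IsLocallyNoetherian T₁.left := LocallyOfFiniteType.isLocallyNoetherian (pullback.snd A.hom (S.fromSpecResidueField s))
  have hfib : PicLib.pull (PicF.XTmap A.hom g) c = 1 := by
    refine AbDualLib.eq_one_of_forall_fibre (AbDualLib.eT A T₁) (AbDualLib.eT_snd T₁) ?_ fun z => ?_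
    · rw [← PicLib.pull_comp, show AbDualLib.eT A T₁ ≫ PicF.XTmap A.hom g = g.left ≫ AbDualLib.eT A A by
        have e1 : PicF.XTmap A.hom g ≫ pullback.fst A.hom A.hom = pullback.fst A.hom T₁.hom :=
          (pullback.lift_fst _ _ _).trans (Category.comp_id _)
        have e2 : PicF.XTmap A.hom g ≫ pullback.snd A.hom A.hom = pullback.snd A.hom T₁.hom ≫ g.left :=
          pullback.lift_snd _ _ _
        apply pullback.hom_ext
        · rw [Category.assoc, Category.assoc, e1, AbDualLib.eT_fst, AbDualLib.eT_fst, ← Category.assoc]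
          rfl
        · rw [Category.assoc, Category.assoc, e2, ← Category.assoc (AbDualLib.eT A T₁)]
          exact (congrArg (· ≫ g.left) (AbDualLib.eT_snd T₁)).trans ((Category.id_comp _).trans
            ((Category.comp_id _).symm.trans (congrArg (g.left ≫ ·) (AbDualLib.eT_snd A).symm))), PicLib.pull_comp, hc₂, map_one]
    · change R ∈ Scheme.precoverage (@Flat ⊓ @LocallyOfFinitePresentation) _ at hR
      obtain ⟨W, w, hw, y, hy⟩ := Scheme.JointlySurjective.exists_eq R hR z
      have e := hinj w hw
      rw [← AbDualLib.toCl_pull, ← AbDualLib.toCl_pull] at e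
      have e' := (AbDualLib.toCl_injective e).trans (map_one _)
      rw [← hy]
      exact AbDualLib.pull_fiberι_eq_one_of_pull (AbDual.ovrHom T₁ w) e' y
  -- the cube
  obtain ⟨M, hM, hMc⟩ := PicLib.exists_cls c
  have htriv : CubeLib.Triv M := by
    refine CubeBaseLib.triv_of_fibre A.hom A.hom η₀ hη η₀ hη i₂.left
      (congrArg CommaMorphism.left (lift_fst (1 : A ⟶ A) (𝟙 A)))
      (congrArg CommaMorphism.left (lift_snd (1 : A ⟶ A) (𝟙 A))) i₁.left
      (congrArg CommaMorphism.left (lift_fst (𝟙 A) (1 : A ⟶ A)))
      (congrArg CommaMorphism.left (lift_snd (𝟙 A) (1 : A ⟶ A))) hM ?_ ?_ (z := s) ?_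
    · rw [← AbDualLib.eq_one_iff_triv (AmpleLib.isInvertible_pullback _ hM), ← PicLib.pull_cls _ hM, hMc, ← h₂, hc₂]
    · rw [← AbDualLib.eq_one_iff_triv (AmpleLib.isInvertible_pullback _ hM), ← PicLib.pull_cls _ hM, hMc, hc₁]
    · rw [← AbDualLib.eq_one_iff_triv (AmpleLib.isInvertible_pullback _ hM), ← PicLib.pull_cls _ hM, hMc]
      let f := pullback.fst A.hom A.hom ≫ A.hom
      let b : f.fiber s ⟶ T₁.left := pullback.lift (f.fiberι s ≫ pullback.snd A.hom A.hom) (f.fiberToSpecResidueField s) (by
        refine (Category.assoc _ _ _).trans ?_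
        exact (congrArg (f.fiberι s ≫ ·) pullback.condition.symm).trans pullback.condition)
      let l : f.fiber s ⟶ PicF.XT A.hom T₁ := pullback.lift (f.fiberι s ≫ pullback.fst A.hom A.hom) b (by
        show _ = b ≫ ps ≫ A.hom
        rw [← Category.assoc b, pullback.lift_fst, Category.assoc, Category.assoc, pullback.condition])
      have e1 : PicF.XTmap A.hom g ≫ pullback.fst A.hom A.hom = pullback.fst A.hom T₁.hom :=
        (pullback.lift_fst _ _ _).trans (Category.comp_id _)
      have e2 : PicF.XTmap A.hom g ≫ pullback.snd A.hom A.hom = pullback.snd A.hom T₁.hom ≫ g.left :=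
        pullback.lift_snd _ _ _
      have hl : l ≫ PicF.XTmap A.hom g = f.fiberι s := by
        apply pullback.hom_ext
        · rw [Category.assoc, e1]
          exact pullback.lift_fst _ _ _
        · rw [Category.assoc, e2, ← Category.assoc]
          exact (congrArg (· ≫ g.left) (pullback.lift_snd _ _ _)).trans (pullback.lift_fst _ _ _)
      refine (congrArg (fun m => PicLib.pull m c) hl.symm).trans ?_
      rw [PicLib.pull_comp, hfib, map_one]
  rw [hlam_c, ← hMc, (AbDualLib.eq_one_iff_triv hM).2 htriv,
    ← AbDualLib.ph_base hdual (1 : PicLib.Pic A.left) AbDualLib.isPZ_one, map_one]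

end Groth.Agent.S15511
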