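import Mathlib
import Groth.Agent.GorLib.ExtLoc
import Groth.Agent.RegLocal.Consequences
import Groth.Statements.S15512

set_option autoImplicit false
universe u
open CategoryTheory
open CAlg

namespace Groth.Agent.S15512

/-- Let A be a Noetherian ring which is regular (its localization at every maximal ideal is a regular
local ring) and of finite Krull dimension, M a finitely generated A-module and d a natural number.
If Ext^i_A(M, A) vanishes for every i > d, then the projective dimension of M is at most d. -/
theorem result (A : Type u) [CommRing A]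
    [IsNoetherianRing A] (hreg : ∀ m : MaximalSpectrum A, IsRegularLocalRing (Localization.AtPrime m.asIdeal))
    (hdim : ringKrullDim A < ⊤) (M : Type u) [AddCommGroup M] [Module A M] [Module.Finite A M] (d : ℕ)
    (h : ∀ i : ℕ, d < i → Subsingleton (Abelian.Ext (ModuleCat.of A M) (ModuleCat.of A A) i)) :
    HasProjectiveDimensionLT (ModuleCat.of A M) (d + 1) := by
  classical
  open CategoryTheory in
  refine ModuleCat.hasProjectiveDimensionLT_of_forall_finite _ (d + 1) fun L hL => ?_
  haveI := hL
  obtain ⟨L⟩ := L
  haveI : Module.Finite A L := hL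
  suffices hloc : ∀ (m : Ideal A) [m.IsMaximal], Subsingleton (LocalizedModule m.primeCompl
      (Abelian.Ext (ModuleCat.of A M) (ModuleCat.of A L) (d + 1))) by
    refine ⟨fun a b => ?_⟩
    refine Module.eq_of_localization_maximal (R := A)
      (fun m _ => LocalizedModule m.primeCompl (Abelian.Ext (ModuleCat.of A M) (ModuleCat.of A L) (d + 1)))
      (fun m _ => LocalizedModule.mkLinearMap m.primeCompl (Abelian.Ext (ModuleCat.of A M) (ModuleCat.of A L) (d + 1))) a b fun m hm => ?_
    haveI := hloc m
    exact Subsingleton.elim _ _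
  intro m _
  rw [Groth.Agent.GorLib.subsingleton_ext_localized_iff m.primeCompl (d + 1) M L]
  let B := Localization m.primeCompl
  haveI : IsRegularLocalRing B := hreg ⟨m, inferInstance⟩
  haveI : Module.Finite B (LocalizedModule m.primeCompl M) :=
    Module.Finite.of_isLocalizedModule m.primeCompl (LocalizedModule.mkLinearMap m.primeCompl M)
  obtain ⟨n, hn⟩ := Groth.Agent.RegLocal.exists_nat_ringKrullDim B
  let e : LocalizedModule m.primeCompl A ≃ₗ[B] B :=
    (IsLocalizedModule.iso m.primeCompl (Algebra.linearMap A B)).extendScalarsOfIsLocalization m.primeCompl B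
  haveI : HasProjectiveDimensionLT (ModuleCat.of B (LocalizedModule m.primeCompl M)) (d + 1) := by
    refine Groth.Agent.RegLocal.projDimLT_of_ext_vanish B (LocalizedModule m.primeCompl M) n hn d fun j hj _ => ?_
    haveI := h j hj
    have h1 : Subsingleton (LocalizedModule m.primeCompl (Abelian.Ext (ModuleCat.of A M) (ModuleCat.of A A) j)) :=
      LocalizedModule.subsingleton_iff.2 fun x => ⟨1, m.primeCompl.one_mem, Subsingleton.elim _ _⟩
    have h2 := (Groth.Agent.GorLib.subsingleton_ext_localized_iff m.primeCompl j M A).1 h1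
    refine ⟨fun a b => ?_⟩
    have inj : ∀ x : Abelian.Ext (ModuleCat.of B (LocalizedModule m.primeCompl M)) (ModuleCat.of B B) j, x = 0 := by
      intro x
      rw [← Abelian.Ext.comp_mk₀_id x, ← e.toModuleIso.inv_hom_id, ← Abelian.Ext.mk₀_comp_mk₀,
        ← Abelian.Ext.comp_assoc x _ _ (add_zero j) (add_zero 0) (by simp),
        h2.elim (x.comp (Abelian.Ext.mk₀ e.toModuleIso.inv) (add_zero j)) 0, Abelian.Ext.zero_comp]
    rw [inj a, inj b]
  exact ⟨fun a b => by
    rw [Abelian.Ext.eq_zero_of_hasProjectiveDimensionLT a (d + 1) le_rfl,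
      Abelian.Ext.eq_zero_of_hasProjectiveDimensionLT b (d + 1) le_rfl]⟩

end Groth.Agent.S15512
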