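import Groth.Statements.S15513
import Groth.Agent.ProjSerreLib.Codim
import Groth.Agent.FibreComp.DimSpace

set_option autoImplicit false
universe u
open CategoryTheory CategoryTheory.Limits AlgebraicGeometry
open ProjDual

namespace Groth.Agent.S15513

/-- Let k be a field, P = P^N_k, ι : X → P a closed immersion, r a natural number with dim X + r ≤ N (X
has codimension at least r), and E a finite locally free O_P-module. Then for every i < r the Ext
sheaf Ext^i_{O_P}(ι_* O_X, E) — the i-th right derived functor of the internal Hom functor Hom(ι_*
O_X, -) on O_P-modules (its existence and that of injective resolutions are the stated instance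
hypotheses, both true), evaluated at E — is zero. (The published statement takes N ≥ 1 and r = N -
dim X; the case N = 0 and smaller r are trivially included.) -/
theorem result (k : Type u) [Field k] (N : ℕ)
    {X : Scheme.{u}} (ι : X ⟶ CohB1.ProjSpace N k) [IsClosedImmersion ι] (r : ℕ)
    (hr : topologicalKrullDim ↥X + (r : WithBot ℕ∞) ≤ (N : WithBot ℕ∞))
    (E : (CohB1.ProjSpace N k).Modules) (hE : FlatMod.IsFinLocFree E)
    [ModSite.HasSheafHom (O := (CohB1.ProjSpace N k).sheaf) ((Scheme.Modules.pushforward ι).obj (Coh.structureModule X))]
    [HasInjectiveResolutions (ModSite.Mod (CohB1.ProjSpace N k).sheaf)] (i : ℕ) (hi : i < r) :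
    IsZero ((ModSite.extSh (O := (CohB1.ProjSpace N k).sheaf)
      ((Scheme.Modules.pushforward ι).obj (Coh.structureModule X)) i).obj E) := by
  haveI := Groth.Agent.CMRegLib.isNoetherian_projSpace (k := k) (n := N)
  haveI : JacobsonSpace (CohB1.ProjSpace N k) :=
    LocallyOfFiniteType.jacobsonSpace (CohB1.ProjSpace.toSpec N k)
  refine Groth.Agent.ProjSerreLib.isZero_extSh_lt_codim ι Groth.Agent.ProjSerreLib.regular_stalk r (fun x hx => ?_) _
    hE hi
  rw [Groth.Agent.ProjSerreLib.dim_closed_point (k := k) (n := N) (x := ι x) (by
    rw [← Set.image_singleton]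
    exact ι.isClosedEmbedding.isClosedMap _ hx)]
  exact (add_le_add (Groth.Agent.FibreComp.ringKrullDim_stalk_le_topologicalKrullDim x) le_rfl).trans hr

end Groth.Agent.S15513
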