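import Groth.Statements.S15515
import Groth.Agent.ProjSerreLib.CMVanish
import Groth.Agent.ProjSerreLib.SubExt

set_option autoImplicit false
universe u
open CategoryTheory AlgebraicGeometry
open ProjDual

namespace Groth.Agent.S15515

/-- (iii) ⇒ (i): let k be a field and X a k-scheme of dimension n with a closed immersion ι into P^N_k
over k. Let (ω, t) be a dualizing sheaf for X: ω is a coherent O_X-module and t : H^n(X, ω) → k a
k-linear map such that for every coherent F and every k-linear form ψ on H^n(X, F) there is exactly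
one φ : F → ω with ψ = t ∘ H^n(φ). Suppose that for every coherent O_X-module F and every i ≤ n, the
group Ext^i(F, ω) in the category of all O_X-modules (the Ext instance is the stated hypothesis; it
holds) vanishes if and only if H^(n-i)(X, F) vanishes. Then the local ring of X at every closed
point is Cohen–Macaulay of Krull dimension n. (The published statement assumes X connected and that
the duality maps Ext^i(F, ω) → H^(n-i)(X, F)' are bijective for all i and F, and concludes that X is
Cohen–Macaulay; the weaker vanishing hypothesis used here suffices for the published proof, which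
also yields the dimension of the local rings at closed points.) -/
theorem result
    (k : Type u) [Field k] (N n : ℕ) (X : Scheme.{u}) [X.Over (Spec (CommRingCat.of k))]
    (ι : X ⟶ CohB1.ProjSpace N k) [IsClosedImmersion ι]
    (hι : ι ≫ CohB1.ProjSpace.toSpec N k = X ↘ Spec (CommRingCat.of k))
    (hn : topologicalKrullDim ↥X = n) [HasExt.{u} X.Modules]
    (ω : X.Modules) (hω : Coh.IsCoh ω) (t : Coh.HH X ω n →ₗ[k] k)
    (hdual : ∀ F : X.Modules, Coh.IsCoh F → ∀ ψ : Coh.HH X F n →ₗ[k] k,
        ∃! φ : F ⟶ ω, ∀ x : Coh.HH X F n,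
          ψ x = t (Sheaf.H.map ((SheafOfModules.toSheaf X.ringCatSheaf).map φ) n x))
    (h : ∀ F : X.Modules, Coh.IsCoh F → ∀ i : ℕ, i ≤ n →
        (Subsingleton (Abelian.Ext F ω i) ↔ Subsingleton (Coh.HH X F (n - i)))) :
    ∀ x : X, IsClosed ({x} : Set ↥X) →
      LocCoh.IsCohenMacaulayLocalRing (X.presheaf.stalk x) ∧ ringKrullDim (X.presheaf.stalk x) = n := by
  haveI := Groth.Agent.ProjSerreLib.isProper_over ι hι
  haveI := Groth.Agent.ProjSerreLib.isNoetherian_sub ι
  choose d₀ hd using fun j : ℕ =>
    Groth.Agent.ProjSerreLib.eventually_subsingleton_ext ι hω (i := j + 1) (Nat.succ_pos j)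
  intro x hx
  have hd' : ∃ m₀ : ℤ, ∀ m : ℤ, m₀ ≤ m → ∀ j, j < n →
      Subsingleton (Coh.HH X (Pic13.twistOn k ι (Coh.structureModule X) (-m)) j) := by
    refine ⟨(Finset.range (n + 1)).sup' ⟨0, by simp⟩ d₀, fun m hm j hj => ?_⟩
    haveI := (h _ (Groth.Agent.CurveLib.isCoh_of_isInvertible (Groth.Agent.AmpleLib.isInvertible_pullback ι
      (Groth.Agent.CMRegLib.isInvertible_O (k := k) (n := N) (-m)))) (n - 1 - j + 1) (by omega)).1
      (hd (n - 1 - j) m ((Finset.le_sup' d₀ (Finset.mem_range.2 (show n - 1 - j < n + 1 by omega))).trans hm))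
    rw [show n - (n - 1 - j + 1) = j by omega] at this
    exact Groth.Agent.ProjCoh.subsingleton_of_iso (M := (Scheme.Modules.pullback ι).obj (Twist.twistProjSpace N k (-m)))
      (Groth.Agent.AmpleLib.unitL _).symm j
  have hdep := (Groth.Agent.ProjSerreLib.vanish_lt_iff_depth_sub ι
    (Groth.Agent.DevLib.isCoh_structureModule X) n).1 hd' x hx
  obtain ⟨e, he⟩ := Groth.Agent.ParaFLib.exists_stalk_gen (Groth.Agent.ParaFLib.isInvertible_structureModule (X := X)) x
  rw [← Groth.Agent.Depth.depth_congr (LinearEquiv.ofBijective (LinearMap.toSpanSingleton _ _ e) he)] at hdep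
  have h1 := Groth.Agent.QGorLib.depth_le_supportDim (R := X.presheaf.stalk x) (X.presheaf.stalk x)
  have h2 : ringKrullDim (X.presheaf.stalk x) ≤ (n : WithBot ℕ∞) :=
    (Groth.Agent.FibreComp.ringKrullDim_stalk_le_topologicalKrullDim x).trans hn.le
  rw [Module.supportDim_self_eq_ringKrullDim] at h1
  have h3 : ((n : ℕ∞) : WithBot ℕ∞) ≤ ((LocCoh.depth (X.presheaf.stalk x) (X.presheaf.stalk x) : ℕ∞) : WithBot ℕ∞) :=
    WithBot.coe_le_coe.2 hdep
  refine ⟨⟨?_⟩, le_antisymm h2 (h3.trans h1)⟩
  rw [Module.supportDim_self_eq_ringKrullDim]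
  exact le_antisymm (h2.trans h3) h1

end Groth.Agent.S15515
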