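import Groth.Statements.S15518
import Groth.Agent.ExtShLib.Sections


set_option autoImplicit false
universe u
open CategoryTheory CategoryTheory.Limits AlgebraicGeometry
open Coherent

namespace Groth.Agent.S15518

open CategoryTheory CategoryTheory.Limits AlgebraicGeometry

set_option backward.isDefEq.respectTransparency false

open CategoryTheory AlgebraicGeometry Opposite Groth.Agent.ExtShLib in
theorem aux (R : CommRingCat.{u}) [IsNoetherianRing R] (M N : ModuleCat.{u} R) [Module.Finite R M]
    [ModSite.HasSheafHom (O := (Spec R).sheaf) (tilde M)]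
    [HasInjectiveResolutions (ModSite.Mod (Spec R).sheaf)] (i : ℕ) :
    Nonempty (ExtVanLib.extS (X := Spec R) (tilde M) (tilde N) i ≅
      tilde (ModuleCat.of R (Abelian.Ext.{u} M N i))) := by
  have hFc : Coh.IsCoh (tilde M) := by
    haveI : Coh.IsQCoh (tilde M) := inferInstance
    let e := (tilde.isoTop M).toLinearEquiv
    haveI : Module.Finite R Γ(tilde M, ⊤) := Module.Finite.equiv e
    haveI : Module.Finite Γ(Spec R, ⊤) Γ(tilde M, ⊤) := Module.Finite.of_restrictScalars_finite R _ _
    exact ⟨inferInstance, QCohLib.isFiniteType_of_finite (tilde M)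
      (fun _ : PUnit.{u + 1} => (⊤ : (Spec R).Opens)) (fun _ => isAffineOpen_top _) (ciSup_const) fun _ => ‹_›⟩
  let σ : R ≃+* Γ(Spec R, ⊤) := (Scheme.ΓSpecIso R).symm.commRingCatIsoToRingEquiv
  have hsm : ∀ (P : ModuleCat.{u} R) (r : R) (x : Γ(tilde P, (⊤ : (Spec R).Opens))),
      r • x = σ r • x := fun P r x => by
    rw [Scheme.Modules.smul_Spec_def, Subsingleton.elim ((⊤ : (Spec R).Opens).leTop) (𝟙 _)]
    simp [σ]
    rfl
  let top : ∀ P : ModuleCat.{u} R, P ≃ₗ[R] Γ(tilde P, (⊤ : (Spec R).Opens)) := fun P =>
    (tilde.isoTop P).toLinearEquiv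
  let el : ∀ P : ModuleCat.{u} R,
      (ModuleCat.restrictScalars σ.toRingHom).obj ((gsec (X := Spec R)).obj (tilde P)) ≅ P := fun P =>
    LinearEquiv.toModuleIso (X₁ := ((ModuleCat.restrictScalars σ.toRingHom).obj ((gsec (X := Spec R)).obj (tilde P))))
      (X₂ := P) (g₁ := ((ModuleCat.restrictScalars σ.toRingHom).obj ((gsec (X := Spec R)).obj (tilde P))).isAddCommGroup)
      (m₁ := ((ModuleCat.restrictScalars σ.toRingHom).obj ((gsec (X := Spec R)).obj (tilde P))).isModule)
      { toFun := fun (x : Γ(tilde P, (⊤ : (Spec R).Opens))) => (top P).symm x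
        invFun := fun p => top P p
        map_add' := fun (x y : Γ(tilde P, (⊤ : (Spec R).Opens))) => map_add (top P).symm x y
        map_smul' := fun r (x : Γ(tilde P, (⊤ : (Spec R).Opens))) =>
          (congrArg (top P).symm (hsm P r x).symm).trans (map_smul (top P).symm r x)
        left_inv := fun (x : Γ(tilde P, (⊤ : (Spec R).Opens))) => (top P).apply_symm_apply x
        right_inv := fun p => (top P).symm_apply_apply p }
  obtain ⟨l⟩ := nonempty_gsec_extS (X := Spec R) (tilde M) hFc (tilde N) i
  obtain ⟨f, hf⟩ := exists_ext_ringEquiv σ ((gsec (X := Spec R)).obj (tilde M)) ((gsec (X := Spec R)).obj (tilde N)) i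
  -- transport along the identifications of the arguments
  let g : Abelian.Ext.{u} ((ModuleCat.restrictScalars σ.toRingHom).obj ((gsec (X := Spec R)).obj (tilde M)))
      ((ModuleCat.restrictScalars σ.toRingHom).obj ((gsec (X := Spec R)).obj (tilde N))) i ≃ₗ[R]
        Abelian.Ext.{u} M N i :=
    { toFun := fun x => ((Abelian.Ext.mk₀ (el M).inv).comp x (zero_add i)).comp (Abelian.Ext.mk₀ (el N).hom) (add_zero i)
      invFun := fun y => ((Abelian.Ext.mk₀ (el M).hom).comp y (zero_add i)).comp (Abelian.Ext.mk₀ (el N).inv) (add_zero i)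
      map_add' := fun x y => by simp
      map_smul' := fun r x => by simp
      left_inv := fun x => by simp
      right_inv := fun y => by simp }
  let t := top (ModuleCat.of R (Abelian.Ext.{u} M N i))
  haveI : Coh.IsQCoh (tilde (ModuleCat.of R (Abelian.Ext.{u} M N i))) := inferInstance
  haveI : Coh.IsQCoh (ExtVanLib.extS (X := Spec R) (tilde M) (tilde N) i) := isQCoh_extS _ hFc _ i
  let w : (gsec (X := Spec R)).obj (ExtVanLib.extS (X := Spec R) (tilde M) (tilde N) i) ≃ₗ[Γ(Spec R, ⊤)]
      (gsec (X := Spec R)).obj (tilde (ModuleCat.of R (Abelian.Ext.{u} M N i))) :=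
    { toAddEquiv := (l.toLinearEquiv.toAddEquiv.trans f).trans (g.trans t).toAddEquiv
      map_smul' := fun s x => by
        obtain ⟨r, rfl⟩ := σ.surjective s
        change t (g (f (l.toLinearEquiv (σ r • x)))) = σ r • t (g (f (l.toLinearEquiv x)))
        rw [map_smul, hf, map_smul, map_smul]
        exact hsm _ r _ }
  exact ⟨liftIso w.toModuleIso⟩

/-- Let A be a Noetherian ring, X = Spec A, M a finitely generated A-module and N an arbitrary A-module.
Then for every i the Ext sheaf Ext^i_{O_X}(M~, N~) — the i-th right derived functor of the internal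
Hom functor Hom(M~, -) on O_X-modules (its existence and that of injective resolutions are the
stated instance hypotheses, both true), evaluated at N~ — is isomorphic as an O_X-module to the
sheaf associated with the A-module Ext^i_A(M, N) (Ext in the category of A-modules, with its
A-linear structure). (Existence of an isomorphism only; the published identification is the natural
one.) -/
theorem result (A : Type u) [CommRing A] [IsNoetherianRing A]
    (M : Type u) [AddCommGroup M] [Module A M] [Module.Finite A M] (N : Type u) [AddCommGroup N] [Module A N]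
    [ModSite.HasSheafHom (O := (Spec (CommRingCat.of A)).sheaf) (tilde (R := CommRingCat.of A) (ModuleCat.of A M))]
    [HasInjectiveResolutions (ModSite.Mod (Spec (CommRingCat.of A)).sheaf)] (i : ℕ) :
    Nonempty (((ModSite.extSh (O := (Spec (CommRingCat.of A)).sheaf) (tilde (R := CommRingCat.of A) (ModuleCat.of A M)) i).obj
        (tilde (R := CommRingCat.of A) (ModuleCat.of A N))) ≅
      tilde (R := CommRingCat.of A) (ModuleCat.of A (Abelian.Ext (ModuleCat.of A M) (ModuleCat.of A N) i))) := by
  haveI : Module.Finite (CommRingCat.of A) (ModuleCat.of A M) := ‹Module.Finite A M›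
  exact aux (CommRingCat.of A) (ModuleCat.of A M) (ModuleCat.of A N) i

end Groth.Agent.S15518
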