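import Groth.Statements.S1552
import Groth.Agent.S2356
import Groth.Agent.DCohLib.FreeInd
import Groth.Agent.CurveLib.DegTensor
import Groth.Agent.InvDescLib.Sections
import Groth.Agent.ParaFLib.Glue

set_option autoImplicit false
universe u
open CategoryTheory CategoryTheory.Limits AlgebraicGeometry
open Variety

namespace Groth.Agent.S1552

open CategoryTheory CategoryTheory.Limits AlgebraicGeometry

open AlgebraicGeometry CategoryTheory CategoryTheory.Limits TopologicalSpace Opposite Groth.Agent.ParaFLib in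
theorem exists_frame {X Y : Scheme.{u}} (f : X ⟶ Y) [IsFinite f] (L : X.Modules) (hL : PicF.IsInvertible L)
    (y : Y) : ∃ (O : Y.Opens) (s : Γ(L, f ⁻¹ᵁ O)), y ∈ O ∧ Gen (f ⁻¹ᵁ O) s := by
  obtain ⟨_, ⟨W : Y.Opens, hW, rfl⟩, hyW, -⟩ :=
    Y.isBasis_affineOpens.exists_subset_of_mem_open (Set.mem_univ y) isOpen_univ
  obtain ⟨U, hZU, hUV, ⟨e⟩⟩ := Groth.Agent.S2356.result X 1 L
    (Groth.Agent.CurveLib.isFinLocFreeOfRank_one hL) (f ⁻¹' {y}) (f.finite_preimage_singleton y)
    (f ⁻¹ᵁ W) (hW.preimage f) (fun x hx => show f x ∈ W from (show f x = y from hx).symm ▸ hyW)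
  obtain ⟨s, hs⟩ := exists_gen_of_iso (e ≪≫ Groth.Agent.DCohLib.freeModOne _)
  let O : Y.Opens := ⟨(f '' (U : Set X)ᶜ)ᶜ, (f.isClosedMap _ U.2.isClosed_compl).isOpen_compl⟩
  have hO : f ⁻¹ᵁ O ≤ U.ι ''ᵁ ⊤ := fun x hx => by
    rw [U.ι_image_top]
    by_contra hxU
    exact hx ⟨x, hxU, rfl⟩
  exact ⟨O, _, fun ⟨x, hx, he⟩ => hx (hZU he), hs.res hO⟩

/-- Let f : X → Y be finite, and V ⊆ Y an open over which f is an isomorphism, with Y minus V a discrete
space. Then every invertible O_X-module is isomorphic to the pullback of an invertible O_Y-module. -/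
theorem result {X Y : Scheme.{u}} (f : X ⟶ Y) [IsFinite f]
    (V : Y.Opens) (hV : IsIso (f ∣_ V)) (hdisc : DiscreteTopology ((V : Set Y)ᶜ : Set Y))
    (L : X.Modules) (hL : PicF.IsInvertible L) :
    ∃ N : Y.Modules, PicF.IsInvertible N ∧ Nonempty ((Scheme.Modules.pullback f).obj N ≅ L) := by
  classical
  let T : Set Y := (V : Set Y)ᶜ
  have hT : IsClosed T := V.2.isClosed_compl
  have hsub : ∀ A : Set Y, A ⊆ T → IsClosed A := fun A hA => by
    have : A = ((↑) : T → Y) '' (((↑) : T → Y) ⁻¹' A) := by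
      rw [Subtype.image_preimage_coe]
      exact (Set.inter_eq_right.2 hA).symm
    rw [this]
    exact hT.isClosedEmbedding_subtypeVal.isClosedMap _ (@isClosed_discrete _ _ hdisc _)
  choose O₀ s₀ hyO hs₀ using exists_frame f L hL
  let M : Y → Y.Opens := fun y => if y ∈ V then V else ⟨(T \ {y})ᶜ, (hsub _ Set.diff_subset).isOpen_compl⟩
  have hyM : ∀ y, y ∈ M y := fun y => by
    by_cases hy : y ∈ V
    · simp only [M, if_pos hy]
      exact hy
    · simp only [M, if_neg hy]
      exact fun h => h.2 rfl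
  have hM : ∀ y z, z ∈ M y → z ∉ V → z = y := fun y z hz hzV => by
    by_cases hy : y ∈ V
    · simp only [M, if_pos hy] at hz
      exact absurd hz hzV
    · simp only [M, if_neg hy] at hz
      by_contra hne
      exact hz ⟨hzV, hne⟩
  let O : Y → Y.Opens := fun y => O₀ y ⊓ M y
  obtain ⟨s, hs⟩ : ∃ s : ∀ y, Γ(L, f ⁻¹ᵁ O y), ∀ y, Groth.Agent.ParaFLib.Gen (f ⁻¹ᵁ O y) (s y) :=
    ⟨fun y => L.presheaf.map (homOfLE (f.preimage_mono inf_le_left)).op (s₀ y), fun y => (hs₀ y).res _⟩
  have hov : ∀ a b, a ≠ b → O a ⊓ O b ≤ V := fun a b hab z hz => by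
    by_contra hzV
    exact hab ((hM a z hz.1.2 hzV).symm.trans (hM b z hz.2.2 hzV))
  have happ : ∀ A : Y.Opens, A ≤ V → IsIso (f.app A) := by
    intro A hA
    have e : V.ι ''ᵁ (V.ι ⁻¹ᵁ A) = A := by
      rw [Scheme.Hom.image_preimage_eq_opensRange_inf, Scheme.Opens.opensRange_ι, inf_eq_right.2 hA]
    have h : IsIso ((f ∣_ V).app (V.ι ⁻¹ᵁ A)) := inferInstance
    rw [morphismRestrict_app] at h
    rw [← e]
    exact @IsIso.of_isIso_comp_right _ _ _ _ _ _ _ (Functor.map_isIso _ _) h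
  have hη : ∀ a b, ∃ η : (Γ(Y, O a ⊓ O b))ˣ,
      L.presheaf.map (homOfLE (f.preimage_mono (inf_le_left : O a ⊓ O b ≤ O a))).op (s a) =
        f.app (O a ⊓ O b) (η : Γ(Y, O a ⊓ O b)) •
          L.presheaf.map (homOfLE (f.preimage_mono (inf_le_right : O a ⊓ O b ≤ O b))).op (s b) := by
    intro a b
    by_cases hab : a = b
    · subst hab
      exact ⟨1, by rw [Units.val_one, map_one, one_smul]⟩
    · obtain ⟨c, hc, hc'⟩ := ((hs a).res (f.preimage_mono (inf_le_left : O a ⊓ O b ≤ O a))).exists_unit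
        ((hs b).res (f.preimage_mono (inf_le_right : O a ⊓ O b ≤ O b)))
      haveI := happ _ (hov a b hab)
      have hu : IsUnit (inv (f.app (O a ⊓ O b)) c) := hc.map (inv (f.app (O a ⊓ O b))).hom
      refine ⟨hu.unit, ?_⟩
      have h1 : f.app (O a ⊓ O b) (inv (f.app (O a ⊓ O b)) c) = c := by
        rw [← CommRingCat.comp_apply, IsIso.inv_hom_id]
        rfl
      rw [IsUnit.unit_spec, h1, hc']
  choose η hη using hη
  have hinj : ∀ a b c (x y : Γ(Y, O a ⊓ O b ⊓ O c)), a ≠ b →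
      f.app _ x = f.app _ y → x = y := fun a b c x y hab h => by
    haveI := happ (O a ⊓ O b ⊓ O c) (inf_le_left.trans (hov a b hab))
    exact (ConcreteCategory.bijective_of_isIso (f.app (O a ⊓ O b ⊓ O c))).1 h
  let η' : ∀ a b, (Γ(Y, O a ⊓ O b))ˣ := fun a b => if a = b then 1 else η a b
  have hη' : ∀ a b, L.presheaf.map (homOfLE (f.preimage_mono (inf_le_left : O a ⊓ O b ≤ O a))).op (s a) =
        f.app (O a ⊓ O b) (η' a b : Γ(Y, O a ⊓ O b)) •
          L.presheaf.map (homOfLE (f.preimage_mono (inf_le_right : O a ⊓ O b ≤ O b))).op (s b) := by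
    intro a b
    by_cases hab : a = b
    · subst hab
      simp only [η', if_pos rfl, Units.val_one, map_one, one_smul]
    · simp only [η', if_neg hab]
      exact hη a b
  have hres : ∀ a b (A : Y.Opens) (hA : A ≤ O a ⊓ O b),
      L.presheaf.map (homOfLE (f.preimage_mono (hA.trans inf_le_left))).op (s a) =
        f.app A (Y.presheaf.map (homOfLE hA).op (η' a b : Γ(Y, O a ⊓ O b))) •
          L.presheaf.map (homOfLE (f.preimage_mono (hA.trans inf_le_right))).op (s b) := by
    intro a b A hA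
    have := congrArg (L.presheaf.map (homOfLE (f.preimage_mono hA)).op) (hη' a b)
    rw [L.map_smul, Groth.Agent.ParaFLib.res_res, Groth.Agent.ParaFLib.res_res] at this
    rw [this]
    congr 1
    exact (ConcreteCategory.congr_hom (f.naturality (homOfLE hA).op) _).symm
  have hcoc : Groth.Agent.ParaFLib.IsCocycle O η' := by
    intro a b c
    by_cases hab : a = b
    · subst hab
      simp only [η', if_pos rfl, Units.val_one, map_one, one_mul]
    · refine hinj a b c _ _ hab ((((hs c).res (f.preimage_mono inf_le_right)) _ le_rfl).1 ?_)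
      have e1 := hres a c (O a ⊓ O b ⊓ O c) (inf_le_inf_right (O c) inf_le_left)
      have e2 := hres a b (O a ⊓ O b ⊓ O c) inf_le_left
      have e3 := hres b c (O a ⊓ O b ⊓ O c) (inf_le_inf_right (O c) inf_le_right)
      show _ • _ = _ • _
      simp only [Groth.Agent.ParaFLib.res_res]
      rw [← e1, e2, e3, map_mul, mul_smul]
  have hO : iSup O = ⊤ := top_le_iff.1 fun y _ => TopologicalSpace.Opens.mem_iSup.2 ⟨y, hyO y, hyM y⟩
  obtain ⟨N, t, hN, ht, htt⟩ := Groth.Agent.ParaFLib.exists_invertible_of_cocycle O η' hO hcoc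
  refine ⟨N, hN, Groth.Agent.ParaFLib.nonempty_iso_of_bases (U := fun y => f ⁻¹ᵁ O y)
    (s := fun y => Groth.Agent.PullbackMod.pullMap f N le_rfl (t y)) (t := s) ?_
    (fun y => Groth.Agent.AmpleEmb.gen_pullMap f hN (ht y)) hs (fun a b => f.app (O a ⊓ O b) (η' a b : Γ(Y, O a ⊓ O b)))
    (fun a b => ?_) hη'⟩
  · exact top_le_iff.1 fun x _ => TopologicalSpace.Opens.mem_iSup.2 ⟨f x, hyO _, hyM _⟩
  · have h := Groth.Agent.InvDescLib.pullMap_smul_res f (inf_le_right : O a ⊓ O b ≤ O b) (htt a b).symm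
    refine Eq.trans ?_ h.symm
    exact (Groth.Agent.PullbackMod.pullMap_res f N le_rfl (inf_le_left : O a ⊓ O b ≤ O a) (f.preimage_mono inf_le_left) le_rfl (t a) :)


end Groth.Agent.S1552
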