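import Groth.Statements.S15522
import Groth.Agent.BCLib.Semi
-- import your own Groth.Agent.* helpers here

set_option autoImplicit false
universe u
attribute [local instance] HasDerivedCategory.standard
open Coherent

namespace Groth.Agent.S15522

open AlgebraicGeometry CategoryTheory in
/-- Let A be a reduced Noetherian ring, X a proper scheme over Spec A with structure morphism f, F a
coherent O_X-module flat over Spec A, and p a natural number such that the function y ↦ dim_{κ(y)}
H^p(X_y, F_y) is locally constant on Spec A. For each q write T^q for the functor M ↦ H^q(X, f^*(M~)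
⊗ F) from A-modules to abelian groups. Then T^p takes surjections to surjections, and so does
T^(p-1) when p ≥ 1; equivalently, every base-change map H^q(X, F) ⊗_A M → H^q(X, F ⊗_A M) is
bijective for q = p and q = p - 1. (The published statement also asserts that R^p f_*F is locally
free of finite rank; this row states the two exchange properties only, over an affine base.) -/
theorem result (A : Type u) [CommRing A]
    [IsNoetherianRing A] [IsReduced A] (X : Scheme.{u}) [X.Over (Spec (CommRingCat.of A))]
    [IsProper (X ↘ Spec (CommRingCat.of A))] (F : X.Modules) (hF : Coh.IsCoh F)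
    (hfl : FlatMod.IsFlatOver (X ↘ Spec (CommRingCat.of A)) F) (p : ℕ)
    (hconst : IsLocallyConstant (CohIII.fiberRank (X ↘ Spec (CommRingCat.of A)) F p)) :
    (CohIII.tensorAFunctor A F ⋙ CohIII.HAb X p).PreservesEpimorphisms ∧
      ∀ q : ℕ, q + 1 = p → (CohIII.tensorAFunctor A F ⋙ CohIII.HAb X q).PreservesEpimorphisms := by
  obtain ⟨Φ⟩ := Groth.Agent.BCLib.nonempty_fibModel hF hfl
  have h : IsLocallyConstant fun x : PrimeSpectrum A =>
      Groth.Agent.FlatCx.kdim (Φ.L.δ p) x.asIdeal.ResidueField := by
    have he : (fun x : PrimeSpectrum A => Groth.Agent.FlatCx.kdim (Φ.L.δ p) x.asIdeal.ResidueField) =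
        CohIII.fiberRank (X ↘ Spec (CommRingCat.of A)) F p := funext fun x => (Φ.fiberRank_eq p x).symm
    rw [he]
    exact hconst
  obtain ⟨h0, h1⟩ := Φ.L.flat_quot_of_kdim_isLocallyConstant Φ.finite Φ.flat p h
  refine ⟨Groth.Agent.BCLib.preservesEpi_of_flat Φ.toModel p h1, fun q hq => ?_⟩
  subst hq
  exact Groth.Agent.BCLib.preservesEpi_of_flat Φ.toModel q h0

end Groth.Agent.S15522
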