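import Groth.Statements.S15523
import Groth.Agent.NakaiLib.Hodge
import Groth.Agent.ASp.PropDescend
-- import your own Groth.Agent.* helpers here

set_option autoImplicit false
universe u
open CategoryTheory AlgebraicGeometry
open Zeta

namespace Groth.Agent.S15523

/-- Let S be a smooth, proper, geometrically irreducible surface over a field k, H an ample invertible
O_S-module and D any invertible O_S-module. Then (D·D)(H·H) ≤ (D·H)^2, where (A·B) denotes the
intersection number on S computed as the alternating sum of Euler characteristics χ(O_S) − χ(A) −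
χ(B) + χ(A ⊗ B). (The published statement is for divisors on the self-product of a smooth projective
geometrically irreducible curve over a finite field; the printed argument uses only the Hodge index
property of an ample class on a smooth projective surface, so the row is stated for any such
surface.) -/
theorem result (k : Type u) [Field k] (S : Scheme.{u})
    [S.Over (Spec (CommRingCat.of k))] [IsProper (S ↘ Spec (CommRingCat.of k))]
    [Smooth (S ↘ Spec (CommRingCat.of k))] [GeometricallyIrreducible (S ↘ Spec (CommRingCat.of k))]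
    (hdim : topologicalKrullDim S = 2) (D H : S.Modules) (hD : PicF.IsInvertible D)
    (hH : CohB1.IsAmple H) :
    FGA.intNum k S 2 ![D, D] (Coh.structureModule S) * FGA.intNum k S 2 ![H, H] (Coh.structureModule S) ≤
      FGA.intNum k S 2 ![D, H] (Coh.structureModule S) ^ 2 := by
  haveI := EulerIneqLib.isNoetherian_proper (X := S) k
  haveI : IrreducibleSpace S :=
    GeometricallyIrreducible.irreducibleSpace_of_subsingleton (S ↘ Spec (CommRingCat.of k))
  haveI : IsReduced S := Groth.Agent.ASp.isReduced_of_smooth (S ↘ Spec (CommRingCat.of k))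
  haveI : IsIntegral S := isIntegral_of_irreducibleSpace_of_isReduced S
  have hd2 : topologicalKrullDim S = ((2 : ℕ) : WithBot ℕ∞) := hdim
  obtain ⟨D', hD', ⟨eD⟩⟩ := AmpleEmb.exists_isInverseOf hD
  obtain ⟨H', hH', ⟨eH⟩⟩ := AmpleEmb.exists_isInverseOf hH.1
  have eD' := AmpleLib.comm D' D ≪≫ eD
  have eH' := AmpleLib.comm H' H ≪≫ eH
  rw [Nakai.intNum_two_eq k hdim hD' hD' eD' eD', Nakai.intNum_two_eq k hdim hH' hH' eH' eH',
    Nakai.intNum_two_eq k hdim hD' hH' eD' eH']
  show Nakai.form k _ _ * Nakai.form k _ _ ≤ Nakai.form k _ _ ^ 2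
  obtain ⟨u, hu, rfl⟩ : ∃ u, u ∈ Nakai.Aug S ∧ u = Nakai.cl hD' := ⟨_, Nakai.cl_mem hD', rfl⟩
  have hmem : Nakai.cl hH' - -Nakai.cl hH.1 ∈ Nakai.Aug S ^ 2 := by
    have h1 := Nakai.cl_mul_inverse_mem hH.1 hH' eH
    rw [Nakai.cl_eq_neg_dif hH']
    convert h1 using 1; ring
  have e1 : Nakai.form k (Nakai.cl hH') (Nakai.cl hH') = Nakai.form k (Nakai.cl hH.1) (Nakai.cl hH.1) := by
    rw [Nakai.form_congr k hd2 hmem (Nakai.cl_mem _), Nakai.form_comm k,
      Nakai.form_congr k hd2 hmem (neg_mem (Nakai.cl_mem _)), Nakai.form, neg_mul_neg]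
  have e2 : Nakai.form k (Nakai.cl hD') (Nakai.cl hH') = -Nakai.form k (Nakai.cl hD') (Nakai.cl hH.1) := by
    rw [Nakai.form_comm k, Nakai.form_congr k hd2 hmem hu, Nakai.form, neg_mul, map_neg, mul_comm]
  rw [e1, e2, neg_sq]
  have ha := Nakai.form_ample_pos k hd2 hH
  obtain ⟨a, hadef⟩ : ∃ a, a = Nakai.form k (Nakai.cl hH.1) (Nakai.cl hH.1) := ⟨_, rfl⟩
  obtain ⟨b, hbdef⟩ : ∃ b, b = Nakai.form k (Nakai.cl hD') (Nakai.cl hH.1) := ⟨_, rfl⟩
  obtain ⟨c, hcdef⟩ : ∃ c, c = Nakai.form k (Nakai.cl hD') (Nakai.cl hD') := ⟨_, rfl⟩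
  have key := Nakai.form_nonpos k hd2 hH (u := a • Nakai.cl hD' + (-b) • Nakai.cl hH.1)
    (add_mem (zsmul_mem hu _) (zsmul_mem (Nakai.cl_mem _) _))
    (by rw [Nakai.form_add_left, Nakai.form_smul_left, Nakai.form_smul_left, ← hadef, ← hbdef]; ring)
  simp only [Nakai.form_add_left, Nakai.form_smul_left, Nakai.form_add_right, Nakai.form_smul_right,
    Nakai.form_comm k (Nakai.cl hH.1) (Nakai.cl hD'), ← hadef, ← hbdef, ← hcdef] at key
  rw [← hadef, ← hbdef, ← hcdef]
  rw [← hadef] at ha
  by_contra hne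
  push Not at hne
  nlinarith [mul_pos ha (sub_pos.2 hne)]

end Groth.Agent.S15523
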