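import Groth.Statements.S15524
import Mathlib.Analysis.Complex.Basic
import Mathlib.Analysis.SpecialFunctions.Pow.Real
import Mathlib.Algebra.Polynomial.Eval.SMul
import Mathlib.Algebra.BigOperators.Field

set_option autoImplicit false
open Finset
open Zeta

namespace Groth.Agent.S15524

lemma norm_le_one_of_bounded (s : Finset ℂ) (c : ℂ → ℂ) (C : ℝ)
    (h : ∀ N : ℕ, 1 ≤ N → ‖∑ b ∈ s, c b * b ^ N‖ ≤ C) {b : ℂ} (hb : b ∈ s) (hc : c b ≠ 0) : ‖b‖ ≤ 1 := by
  classical
  set p : Polynomial ℂ := ∏ x ∈ s.erase b, (Polynomial.X - Polynomial.C x)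
  have hpb : p.eval b ≠ 0 := by
    rw [Polynomial.eval_prod, Finset.prod_ne_zero_iff]
    intro x hx
    simp [sub_ne_zero, (Finset.ne_of_mem_erase hx).symm]
  have key : ∀ N : ℕ, 1 ≤ N → ‖c b * p.eval b * b ^ N‖ ≤ (∑ j ∈ Finset.range (p.natDegree + 1), ‖p.coeff j‖) * C := by
    intro N hN
    have e : c b * p.eval b * b ^ N = ∑ j ∈ Finset.range (p.natDegree + 1), p.coeff j * ∑ x ∈ s, c x * x ^ (N + j) := by
      simp_rw [Finset.mul_sum]
      rw [Finset.sum_comm, Finset.sum_eq_single b]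
      · rw [Polynomial.eval_eq_sum_range, Finset.mul_sum, Finset.sum_mul]
        exact Finset.sum_congr rfl fun j _ => by ring
      · intro x hx hxb
        have hz : p.eval x = 0 := by
          rw [Polynomial.eval_prod]
          exact Finset.prod_eq_zero (Finset.mem_erase.2 ⟨hxb, hx⟩) (by simp)
        calc ∑ j ∈ Finset.range (p.natDegree + 1), p.coeff j * (c x * x ^ (N + j))
            = c x * x ^ N * p.eval x := by
              rw [Polynomial.eval_eq_sum_range, Finset.mul_sum]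
              exact Finset.sum_congr rfl fun j _ => by ring
          _ = 0 := by rw [hz, mul_zero]
      · exact fun h => absurd hb h
    rw [e, Finset.sum_mul]
    refine (norm_sum_le _ _).trans (Finset.sum_le_sum fun j _ => ?_)
    rw [norm_mul]
    exact mul_le_mul_of_nonneg_left (h _ (by omega)) (norm_nonneg _)
  by_contra hlt
  push Not at hlt
  obtain ⟨N, hN⟩ := pow_unbounded_of_one_lt ((∑ j ∈ Finset.range (p.natDegree + 1), ‖p.coeff j‖) * C / ‖c b * p.eval b‖) hlt
  have hpos : 0 < ‖c b * p.eval b‖ := norm_pos_iff.2 (mul_ne_zero hc hpb)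
  have := key (N + 1) (by omega)
  rw [norm_mul, norm_pow] at this
  rw [div_lt_iff₀ hpos] at hN
  have h2 : ‖b‖ ^ N ≤ ‖b‖ ^ (N + 1) := pow_le_pow_right₀ hlt.le (by omega)
  nlinarith [mul_le_mul_of_nonneg_left h2 hpos.le]

/-- Let q ≥ 1 and let α_1, …, α_{2g} be complex numbers permuted by α ↦ q/α, i.e. α_{σ(i)} α_i = q for a
permutation σ of the indices; these play the role of the inverse roots of the numerator of the zeta
function of a curve over a field with q elements, for which #X(F_{q^N}) = q^N + 1 − Σ_i α_i^N. If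
for some d ≥ 1 and real C one has |Σ_i α_i^{dN}| ≤ C q^{dN/2} for every N ≥ 1, then |α_i|^2 = q for
every i (the Riemann hypothesis for the curve). -/
theorem result {g : ℕ} (q : ℕ) (hq : 0 < q)
    (α : Fin (2 * g) → ℂ) (σ : Equiv.Perm (Fin (2 * g))) (hσ : ∀ i, α (σ i) * α i = q)
    (d : ℕ) (hd : 0 < d) (C : ℝ)
    (hC : ∀ N : ℕ, 1 ≤ N → ‖∑ i, α i ^ (d * N)‖ ≤ C * (q : ℝ) ^ ((d : ℝ) * N / 2))
    (i : Fin (2 * g)) : ‖α i‖ ^ 2 = q := by
  classical
  have hq' : (0 : ℝ) < q := by exact_mod_cast hq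
  set w : ℝ := Real.sqrt ((q : ℝ) ^ d)
  have hw : 0 < w := Real.sqrt_pos.2 (pow_pos hq' d)
  let β : Fin (2 * g) → ℂ := fun j => α j ^ d / (w : ℂ)
  have hle : ∀ j, ‖α j‖ ^ 2 ≤ q := by
    intro j
    have hb : ‖β j‖ ≤ 1 := by
      refine norm_le_one_of_bounded (Finset.univ.image β) (fun b => ((Finset.univ.filter fun i => β i = b).card : ℂ)) C
        (fun N hN => ?_) (Finset.mem_image_of_mem β (Finset.mem_univ j)) ?_
      · have e : ∑ b ∈ Finset.univ.image β, ((Finset.univ.filter fun i => β i = b).card : ℂ) * b ^ N = ∑ i, β i ^ N := by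
          rw [← Finset.sum_fiberwise_of_maps_to (g := β) (fun i _ => Finset.mem_image_of_mem β (Finset.mem_univ i))]
          refine Finset.sum_congr rfl fun b _ => ?_
          rw [Finset.sum_congr rfl fun i hi => by rw [(Finset.mem_filter.1 hi).2], Finset.sum_const, nsmul_eq_mul]
        have e2 : ∑ i, β i ^ N = (∑ i, α i ^ (d * N)) / (w : ℂ) ^ N := by
          rw [Finset.sum_div]
          exact Finset.sum_congr rfl fun i _ => by rw [div_pow, ← pow_mul]
        have e3 : (q : ℝ) ^ ((d : ℝ) * N / 2) = w ^ N := by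
          rw [show w = Real.sqrt ((q : ℝ) ^ d) from rfl, Real.sqrt_eq_rpow, ← Real.rpow_natCast (q : ℝ) d, ← Real.rpow_mul hq'.le, ← Real.rpow_natCast _ N, ← Real.rpow_mul hq'.le]
          congr 1; ring
        rw [e, e2, norm_div, norm_pow, Complex.norm_real, Real.norm_of_nonneg hw.le, div_le_iff₀ (pow_pos hw N), ← e3]
        exact hC N hN
      · exact Nat.cast_ne_zero.2 (Finset.card_ne_zero_of_mem (Finset.mem_filter.2 ⟨Finset.mem_univ j, rfl⟩))
    rw [norm_div, norm_pow, Complex.norm_real, Real.norm_of_nonneg hw.le, div_le_one hw] at hb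
    have h2 := pow_le_pow_left₀ (pow_nonneg (norm_nonneg _) d) hb 2
    rw [Real.sq_sqrt (pow_pos hq' d).le, ← pow_mul, mul_comm d 2, pow_mul] at h2
    exact le_of_pow_le_pow_left₀ hd.ne' hq'.le h2
  have hprod : ‖α (σ i)‖ * ‖α i‖ = q := by rw [← norm_mul, hσ, Complex.norm_natCast]
  refine le_antisymm (hle i) ?_
  have h3 := hle (σ i)
  nlinarith [mul_le_mul_of_nonneg_right h3 (sq_nonneg ‖α i‖)]

end Groth.Agent.S15524
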