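import Groth.Statements.S15525
import Mathlib.LinearAlgebra.Matrix.Charpoly.Coeff
import Mathlib.LinearAlgebra.Matrix.Charpoly.Eigs
import Mathlib.Analysis.Complex.Polynomial.Basic

set_option autoImplicit false
universe u
open Zeta

namespace Groth.Agent.S15525

/-- Let L be a field with a ring embedding ι into ℂ and M an r × r matrix over L all of whose
eigenvalues, the complex roots of its characteristic polynomial mapped along ι, have absolute value
1. Then every coefficient of the characteristic polynomial of the block-diagonal matrix with blocks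
M and the inverse transpose of M is mapped by ι into ℝ. This is the pointwise content of the
assertion that for a lisse sheaf F pure of weight 0 the sum of F and its dual is real, the Frobenius
of the dual acting by the inverse transpose. -/
theorem result (L : Type u) [Field L] (ι : L →+* ℂ)
    {r : ℕ} (M : Matrix (Fin r) (Fin r) L)
    (hM : ∀ z ∈ ((Matrix.charpoly M).map ι).roots, ‖z‖ = 1) (n : ℕ) :
    (ι ((Matrix.fromBlocks M 0 0 (M⁻¹).transpose).charpoly.coeff n)).im = 0 := by
  classical
  set N : Matrix (Fin r) (Fin r) ℂ := M.map ι
  set s := N.charpoly.roots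
  have hs : ∀ z ∈ s, ‖z‖ = 1 := fun z hz => hM z (by rw [← Matrix.charpoly_map]; exact hz)
  have hdet : N.det ≠ 0 := by
    rw [Matrix.det_eq_prod_roots_charpoly]
    exact Multiset.prod_ne_zero fun h0 => by simpa using hs 0 h0
  have hu : IsUnit N := (Matrix.isUnit_iff_isUnit_det N).2 hdet.isUnit
  have hsplit : N.charpoly = (s.map fun z => Polynomial.X - Polynomial.C z).prod :=
    (IsAlgClosed.splits N.charpoly).eq_prod_roots_of_monic (Matrix.charpoly_monic N)
  have hcard : Multiset.card s = r := by
    rw [← (IsAlgClosed.splits N.charpoly).natDegree_eq_card_roots, Matrix.charpoly_natDegree_eq_dim, Fintype.card_fin]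
  have hinv : N⁻¹.charpoly = (N.charpoly).map (starRingEnd ℂ) := by
    rw [Matrix.charpoly_inv N hu, ← Matrix.reverse_charpoly, Fintype.card_fin, Ring.inverse_eq_inv', hsplit,
      Polynomial.map_multiset_prod, Multiset.map_map, Matrix.det_eq_prod_roots_charpoly, show N.charpoly.roots = s from rfl]
    conv_lhs => arg 1; arg 1; rw [← hcard]
    clear hsplit hcard hu hdet
    clear_value s
    induction s using Multiset.induction with
    | empty => simp; rw [← Polynomial.C_1, Polynomial.reverse_C]
    | cons z t ih =>
      have hz : ‖z‖ = 1 := hs z (Multiset.mem_cons_self _ _)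
      have ih' := ih fun w hw => hs w (Multiset.mem_cons_of_mem hw)
      have hz0 : z ≠ 0 := fun h => by simp [h] at hz
      have hconj : starRingEnd ℂ z = z⁻¹ := by
        rw [Complex.inv_def, Complex.normSq_eq_norm_sq, hz]; simp
      simp only [Multiset.map_cons, Multiset.prod_cons, Multiset.card_cons, Function.comp_apply,
        Polynomial.map_sub, Polynomial.map_X, Polynomial.map_C, hconj] at *
      have hrev : (Polynomial.X - Polynomial.C z).reverse = 1 - Polynomial.C z * Polynomial.X := by
        rw [Polynomial.reverse, Polynomial.natDegree_X_sub_C, Polynomial.reflect_sub, Polynomial.reflect_C,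
          show (Polynomial.X : Polynomial ℂ) = Polynomial.X ^ 1 from (pow_one _).symm, Polynomial.reflect_monomial,
          Polynomial.revAt_le le_rfl]
        simp
      rw [Polynomial.reverse_mul_of_domain, hrev, pow_succ, mul_inv, map_mul, ← ih']
      have hzz : Polynomial.C z⁻¹ * Polynomial.C z = 1 := by rw [← Polynomial.C_mul, inv_mul_cancel₀ hz0, Polynomial.C_1]
      linear_combination ((-1) ^ Multiset.card t * Polynomial.C t.prod⁻¹ *
        (t.map fun a => Polynomial.X - Polynomial.C a).prod.reverse * Polynomial.X) * hzz
  have hLdet : IsUnit M.det := by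
    refine IsUnit.mk0 _ fun h => hdet ?_
    show (ι.mapMatrix M).det = 0
    rw [← RingHom.map_det, h, map_zero]
  have hmap : M⁻¹.map ι = N⁻¹ := by
    refine (Matrix.inv_eq_right_inv ?_).symm
    rw [show N = M.map ι from rfl, ← Matrix.map_mul, Matrix.mul_nonsing_inv M hLdet, Matrix.map_one _ (map_zero ι) (map_one ι)]
  rw [← Polynomial.coeff_map, Matrix.charpoly_fromBlocks_zero₂₁, Matrix.charpoly_transpose, Polynomial.map_mul,
    ← Matrix.charpoly_map, ← Matrix.charpoly_map, hmap, hinv, ← Complex.conj_eq_iff_im]
  have hfix : (N.charpoly * N.charpoly.map (starRingEnd ℂ)).map (starRingEnd ℂ) = N.charpoly * N.charpoly.map (starRingEnd ℂ) := by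
    rw [Polynomial.map_mul, Polynomial.map_map, show (starRingEnd ℂ).comp (starRingEnd ℂ) = RingHom.id ℂ from
      RingHom.ext fun w => Complex.conj_conj w, Polynomial.map_id, mul_comm]
  conv_rhs => rw [← hfix]
  rw [Polynomial.coeff_map]

end Groth.Agent.S15525
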