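import Mathlib
import Groth.Statements.S15526

set_option autoImplicit false
universe u
open MvPolynomial
open CAlg

namespace Groth.Agent.S15526

/-- Let R be a commutative ring, P ∈ R[x] a monic polynomial of degree 2g + 1, and A = R[x, y, z]/(y^2 −
P(x), yz − 1). Then every element of A is a finite sum Σ_n Q_n(x) y^n over integers n, negative
powers of y meaning powers of z, with each Q_n ∈ R[x] of degree at most 2g: the R-submodule of A
spanned by the classes of x^i y^n and x^i z^n with i ≤ 2g and n ≥ 0 is all of A. (The published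
statement takes for R the ring of Witt vectors of a finite field and for P a lift of a separable
polynomial; the argument uses only that P is monic of degree 2g + 1.) -/
theorem result (R : Type u) [CommRing R] (g : ℕ)
    (P : Polynomial R) (hP : P.Monic) (hdeg : P.natDegree = 2 * g + 1) :
    Submodule.span R {a : MvPolynomial (Fin 3) R ⧸
        Ideal.span ({X 1 ^ 2 - Polynomial.aeval (X 0 : MvPolynomial (Fin 3) R) P, X 1 * X 2 - 1} :
          Set (MvPolynomial (Fin 3) R)) |
        ∃ i n : ℕ, i ≤ 2 * g ∧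
          (a = Ideal.Quotient.mk _ (X 0 ^ i * X 1 ^ n) ∨ a = Ideal.Quotient.mk _ (X 0 ^ i * X 2 ^ n))} =
      ⊤ := by
  open MvPolynomial in
  classical
  set I := Ideal.span ({X 1 ^ 2 - Polynomial.aeval (X 0 : MvPolynomial (Fin 3) R) P, X 1 * X 2 - 1} :
    Set (MvPolynomial (Fin 3) R))
  set S := {a : MvPolynomial (Fin 3) R ⧸ I | ∃ i n : ℕ, i ≤ 2 * g ∧
    (a = Ideal.Quotient.mk I (X 0 ^ i * X 1 ^ n) ∨ a = Ideal.Quotient.mk I (X 0 ^ i * X 2 ^ n))}
  set V := Submodule.span R S
  set x := Ideal.Quotient.mk I (X 0)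
  set y := Ideal.Quotient.mk I (X 1)
  set z := Ideal.Quotient.mk I (X 2)
  have hyz : y * z = 1 := by
    rw [← sub_eq_zero, ← map_mul, ← map_one (Ideal.Quotient.mk I), ← map_sub, Ideal.Quotient.eq_zero_iff_mem]
    exact Ideal.subset_span (Or.inr rfl)
  have hy2 : y ^ 2 = Polynomial.aeval x P := by
    rw [show x = Ideal.Quotient.mkₐ R I (X 0) from rfl, Polynomial.aeval_algHom_apply, ← sub_eq_zero, ← map_pow,
      show Ideal.Quotient.mkₐ R I (Polynomial.aeval (X 0) P) = Ideal.Quotient.mk I (Polynomial.aeval (X 0) P) from rfl,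
      ← map_sub, Ideal.Quotient.eq_zero_iff_mem]
    exact Ideal.subset_span (Or.inl rfl)
  have hgy : ∀ i n, i ≤ 2 * g → x ^ i * y ^ n ∈ V := fun i n h =>
    Submodule.subset_span ⟨i, n, h, Or.inl (by rw [map_mul, map_pow, map_pow])⟩
  have hgz : ∀ i n, i ≤ 2 * g → x ^ i * z ^ n ∈ V := fun i n h =>
    Submodule.subset_span ⟨i, n, h, Or.inr (by rw [map_mul, map_pow, map_pow])⟩
  have closed : ∀ c, (∀ i n, i ≤ 2 * g → c * (x ^ i * y ^ n) ∈ V ∧ c * (x ^ i * z ^ n) ∈ V) →
      ∀ v ∈ V, c * v ∈ V := by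
    intro c hc v hv
    induction hv using Submodule.span_induction with
    | mem v hv =>
      obtain ⟨i, n, h, rfl | rfl⟩ := hv
      · rw [map_mul, map_pow, map_pow]; exact (hc i n h).1
      · rw [map_mul, map_pow, map_pow]; exact (hc i n h).2
    | zero => simp
    | add a b _ _ ha hb => rw [mul_add]; exact V.add_mem ha hb
    | smul r a _ ha => rw [mul_smul_comm]; exact V.smul_mem r ha
  have hcy : ∀ v ∈ V, y * v ∈ V := closed y fun i n h => by
    refine ⟨by simpa [pow_succ, mul_left_comm, mul_comm, mul_assoc] using hgy i (n + 1) h, ?_⟩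
    cases n with
    | zero => simpa [mul_comm] using hgy i 1 h
    | succ m =>
      rw [show y * (x ^ i * z ^ (m + 1)) = (y * z) * (x ^ i * z ^ m) by ring, hyz, one_mul]
      exact hgz i m h
  have hcz : ∀ v ∈ V, z * v ∈ V := closed z fun i n h => by
    refine ⟨?_, by simpa [pow_succ, mul_left_comm, mul_comm, mul_assoc] using hgz i (n + 1) h⟩
    cases n with
    | zero => simpa [mul_comm] using hgz i 1 h
    | succ m =>
      rw [show z * (x ^ i * y ^ (m + 1)) = (y * z) * (x ^ i * y ^ m) by ring, hyz, one_mul]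
      exact hgy i m h
  have hpow : x ^ (2 * g + 1) = y ^ 2 - ∑ j ∈ Finset.range (2 * g + 1), P.coeff j • x ^ j := by
    rw [hy2, Polynomial.aeval_eq_sum_range, hdeg, Finset.sum_range_succ (n := 2 * g + 1),
      show P.coeff (2 * g + 1) = 1 from hdeg ▸ hP.coeff_natDegree, one_smul, add_sub_cancel_left]
  have top : ∀ w, (∀ j, j ≤ 2 * g → x ^ j * w ∈ V) → y ^ 2 * w ∈ V → x ^ (2 * g + 1) * w ∈ V := by
    intro w h1 h2
    rw [hpow, sub_mul, Finset.sum_mul]
    refine V.sub_mem h2 (V.sum_mem fun j hj => ?_)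
    rw [smul_mul_assoc]
    exact V.smul_mem _ (h1 j (Nat.lt_succ_iff.1 (Finset.mem_range.1 hj)))
  have hcx : ∀ v ∈ V, x * v ∈ V := closed x fun i n h => by
    rw [← mul_assoc, ← mul_assoc, ← pow_succ']
    rcases h.lt_or_eq with h' | rfl
    · exact ⟨hgy _ n h', hgz _ n h'⟩
    · refine ⟨top _ (fun j hj => hgy j n hj) ?_, top _ (fun j hj => hgz j n hj) ?_⟩
      · rw [← pow_add]; simpa using hgy 0 (2 + n) (Nat.zero_le _)
      · rw [pow_two, mul_assoc]
        exact hcy _ (hcy _ (by simpa using hgz 0 n (Nat.zero_le _)))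
  suffices h : ∀ b, Ideal.Quotient.mk I b ∈ V by
    refine eq_top_iff.2 fun a _ => ?_
    obtain ⟨b, rfl⟩ := Ideal.Quotient.mk_surjective a
    exact h b
  intro b
  induction b using MvPolynomial.induction_on with
  | C r =>
    have := V.smul_mem r (hgy 0 0 (Nat.zero_le _))
    rw [pow_zero, pow_zero, one_mul, ← map_one (Ideal.Quotient.mkₐ R I), ← map_smul, MvPolynomial.smul_eq_C_mul,
      mul_one] at this
    exact this
  | add p q hp hq => rw [map_add]; exact V.add_mem hp hq
  | mul_X p i hp =>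
    rw [map_mul, mul_comm]
    fin_cases i
    · exact hcx _ hp
    · exact hcy _ hp
    · exact hcz _ hp

end Groth.Agent.S15526
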