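import Groth.Statements.S1553
import Groth.Agent.DimFormulaLib.Equidim
import Groth.Agent.S1554
import Mathlib
-- import your own Groth.Agent.* helpers here

set_option autoImplicit false
universe u
open CategoryTheory CategoryTheory.Limits AlgebraicGeometry
open Variety

namespace Groth.Agent.S1553

open Groth.Agent.DimFormulaLib in
theorem noeth_le {X Y : Scheme.{u}} (f : X ⟶ Y) [LocallyOfFiniteType f] [IsLocallyNoetherian Y] (x : X) (d : ℕ)
    (hgen : ∀ η : X, (∀ z : X, z ⤳ η → z = η) → η ⤳ x → f η ≠ f x ∧ FlatMor.fibreDimAt f η = d) :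
    FlatMor.fibreDimAt f x + 1 ≤ (d : WithBot ℕ∞) + ringKrullDim (Y.presheaf.stalk (f x)) := by
  obtain ⟨c⟩ := exists_chart f x
  haveI := c.isNoetherianRing
  haveI : IsNoetherianRing c.B := Algebra.FiniteType.isNoetherianRing c.A c.B
  obtain ⟨P, n, hP, hPp, hmin, hPn, hn⟩ := c.exists_component
  obtain ⟨I, hI, hIle⟩ := Ideal.exists_minimalPrimes_le (bot_le : (⊥ : Ideal c.B) ≤ P.asIdeal)
  let P0 : PrimeSpectrum c.B := ⟨I, hI.1.1⟩
  have hP0min : IsMin P0 := fun Q hQ => hI.2 ⟨Q.isPrime, bot_le⟩ hQ
  have hP0q : P0 ≤ c.q := le_trans (show P0 ≤ P from hIle) hP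
  have hmax : ∀ z : X, z ⤳ c.j P0 → z = c.j P0 := fun z hz => by
    obtain ⟨P', -, rfl⟩ := c.exists_le (hz.trans (c.specializes hP0q))
    exact congrArg (fun t : PrimeSpectrum c.B => c.j t) (le_antisymm (c.le_of_specializes hz) (hP0min (c.le_of_specializes hz)))
  obtain ⟨t, ht⟩ := exists_nat_trdeg_quotient_pair (A := c.A) P0
  obtain ⟨hne, hd0⟩ := hgen _ hmax (c.specializes hP0q)
  have htd : t = d := by
    exact_mod_cast ((c.fibreDimAt_of_minInFibre (c.minInFibre_of_isMin hP0min) t ht).1.symm.trans hd0)
  obtain ⟨a0, b0, d0, t', ha, hb, hd, ht', hloc, hqa, hpb, hle, hT⟩ := c.dims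
  obtain ⟨a, b, hab, hbb, hle', -⟩ := formula_component (A := c.A) (show P0 ≤ P from hIle) t n ht hPn
  have hba : b ≤ b0 := by
    have h3 := relHeight_le_height (P := PrimeSpectrum.comap (algebraMap c.A c.B) P0)
      (p := PrimeSpectrum.comap (algebraMap c.A c.B) P) (Ideal.comap_mono hIle)
    rw [hbb, hPp, hpb] at h3
    exact_mod_cast h3
  have ha0 : a ≠ 0 := by
    intro ha0
    subst ha0
    obtain ⟨m, s, hm, sh, sl, sn, -⟩ := exists_saturated_between (show P0 ≤ P from hIle)
    have hm0 : m = 0 := by exact_mod_cast hm.symm.trans hab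
    have : P0 = P := by
      rw [← sh, ← sl]
      exact congrArg s.toFun (Fin.ext (by simp only [Fin.val_zero, Fin.val_last]; omega))
    subst this
    refine hne ?_
    rw [c.apply_j, hPp]
    exact c.hp
  rw [hn, hb]
  exact_mod_cast (by omega : n + 1 ≤ d + b0)

/-- Let f : X → Y be locally of finite type, x a point with image y such that the local ring of Y at y
is Noetherian, and d a natural number such that at the generic points η of the irreducible
components of X passing through x we have f(η) ≠ y and local fibre dimension d. Then the local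
dimension at x of the fibre over y is at most d + dim O_{Y,y} - 1 (written additively). -/
theorem result {X Y : Scheme.{u}} (f : X ⟶ Y) [LocallyOfFiniteType f]
    (x : X) [IsNoetherianRing (Y.presheaf.stalk (f.base x))] (d : ℕ)
    (hgen : ∀ Z ∈ irreducibleComponents (X : Type u), x ∈ Z → ∀ η : X, IsGenericPoint η Z →
      f.base η ≠ f.base x ∧ FlatMor.fibreDimAt f η = d) :
    FlatMor.fibreDimAt f x + 1 ≤ (d : WithBot ℕ∞) + ringKrullDim (Y.presheaf.stalk (f.base x)) := by
  let R := Y.presheaf.stalk (f.base x)
  let g := Y.fromSpecStalk (f.base x)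
  haveI : IsLocallyNoetherian (Spec R) := inferInstance
  have h := IsPullback.of_hasPullback f g
  obtain ⟨w, hw1, hw2⟩ := Scheme.Pullback.exists_preimage_pullback (f := f) (g := g) x (IsLocalRing.closedPoint R)
    (Scheme.fromSpecStalk_closedPoint (X := Y) (x := f.base x)).symm
  have hdim : ringKrullDim ((Spec R).presheaf.stalk (pullback.snd f g w)) ≤ ringKrullDim R := by
    let z : PrimeSpectrum R := pullback.snd f g w
    rw [ringKrullDim_eq_of_ringEquiv (Spec.stalkIso R z).commRingCatIsoToRingEquiv,
      IsLocalization.AtPrime.ringKrullDim_eq_height z.asIdeal (Localization.AtPrime z.asIdeal)]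
    exact Ideal.height_le_ringKrullDim_of_ne_top z.isPrime.ne_top
  have hmain : FlatMor.fibreDimAt (pullback.snd f g) w + 1 ≤
      (d : WithBot ℕ∞) + ringKrullDim ((Spec R).presheaf.stalk (pullback.snd f g w)) := by
    refine noeth_le (pullback.snd f g) w d fun η hη hηw => ?_
    rw [← S1554.h9_fibreDim_bc h η]
    have hηx : pullback.fst f g η ⤳ x :=
      (hηw.map (pullback.fst f g).continuous).trans (specializes_of_eq hw1)
    have hmax : ∀ z : X, z ⤳ pullback.fst f g η → z = pullback.fst f g η := fun z hz => by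
      have h1 : z ∈ Set.range (pullback.fst f g) := by
        rw [Scheme.Pullback.range_fst, Scheme.range_fromSpecStalk]
        exact (hz.trans hηx).map f.continuous
      obtain ⟨z', rfl⟩ := h1
      exact congrArg (fun t => pullback.fst f g t) (hη z' ((pullback.fst f g).isEmbedding.isInducing.specializes_iff.1 hz))
    obtain ⟨hne, hd⟩ := hgen _ (Groth.Agent.DimFormulaLib.closure_mem_irreducibleComponents hmax)
      (specializes_iff_mem_closure.1 hηx) _ rfl
    refine ⟨fun he => hne ?_, hd⟩
    calc f (pullback.fst f g η) = g (pullback.snd f g η) := by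
          rw [← Scheme.Hom.comp_apply, pullback.condition, Scheme.Hom.comp_apply]
      _ = g (pullback.snd f g w) := by rw [he]
      _ = f (pullback.fst f g w) := by
          rw [← Scheme.Hom.comp_apply, ← pullback.condition, Scheme.Hom.comp_apply]
      _ = f x := by rw [hw1]
  rw [← hw1, S1554.h9_fibreDim_bc h w, hw1]
  exact hmain.trans (add_le_add le_rfl hdim)

end Groth.Agent.S1553
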