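import Groth.Statements.S15533
import Mathlib
import Groth.Agent.S9407
import Groth.Agent.OmegaUnivLib.Aff

set_option autoImplicit false
universe u
open OmegaSh

namespace Groth.Agent.S15533

open CategoryTheory CategoryTheory.Limits AlgebraicGeometry

open Polynomial TensorProduct in
theorem derivation_integral_eq_zero (k B M : Type u) [Field k] [CommRing B] [Algebra k B] [Algebra.Smooth k B]
    [AddCommGroup M] [Module k M] [Module B M] [IsScalarTower k B M] (D : Derivation k B M) (s : B)
    (hs : IsIntegral k s) : D s = 0 := by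
  classical
  let K := AlgebraicClosure k
  let P := minpoly k s
  haveI : _root_.IsReduced (K ⊗[k] B) := Groth.Agent.S9407.result K (K ⊗[k] B)
  have hP0 : P ≠ 0 := minpoly.ne_zero hs
  let t : K ⊗[k] B := 1 ⊗ₜ[k] s
  -- the powers of `t` below the degree stay independent
  have hli : LinearIndependent K fun i : Fin P.natDegree => t ^ (i : ℕ) := by
    have h0 : LinearIndependent k fun i : Fin P.natDegree => s ^ (i : ℕ) :=
      linearIndependent_pow s
    have h1 := Module.Flat.linearIndependent_one_tmul (S := K) h0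
    have he : (fun i : Fin P.natDegree => t ^ (i : ℕ)) = fun i : Fin P.natDegree => (1 : K) ⊗ₜ[k] (s ^ (i : ℕ)) := by
      funext i
      rw [Algebra.TensorProduct.tmul_pow, one_pow]
    rw [he]
    exact h1
  let r : K[X] := ∏ a ∈ (P.aroots K).toFinset, (X - C a)
  have hrdeg : r.natDegree = (P.aroots K).toFinset.card := natDegree_finset_prod_X_sub_C_eq_card _ _
  have hrmon : r.Monic := monic_prod_of_monic _ _ fun a _ => monic_X_sub_C a
  have hdvd : P.map (algebraMap k K) ∣ r ^ P.natDegree := by
    conv_lhs => rw [Splits.eq_prod_roots_of_monic (IsAlgClosed.splits _) ((minpoly.monic hs).map _)]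
    rw [Finset.prod_multiset_map_count, ← Finset.prod_pow]
    refine Finset.prod_dvd_prod_of_dvd _ _ fun a _ => pow_dvd_pow _ ?_
    calc Multiset.count a ((P.map (algebraMap k K)).roots) ≤ (P.map (algebraMap k K)).roots.card :=
          Multiset.count_le_card _ _
      _ ≤ (P.map (algebraMap k K)).natDegree := card_roots' _
      _ = P.natDegree := natDegree_map _
  have hPt : aeval t (P.map (algebraMap k K)) = 0 := by
    rw [aeval_map_algebraMap]
    show aeval ((Algebra.TensorProduct.includeRight : B →ₐ[k] K ⊗[k] B) s) P = 0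
    rw [aeval_algHom_apply, minpoly.aeval, map_zero]
  have hrt : aeval t r = 0 := by
    refine IsNilpotent.eq_zero ⟨P.natDegree, ?_⟩
    obtain ⟨c, hc⟩ := hdvd
    rw [← map_pow, hc, map_mul, hPt, zero_mul]
  have hle : P.natDegree ≤ r.natDegree := by
    by_contra hlt
    push Not at hlt
    have h1 : ∑ i : Fin P.natDegree, r.coeff i • t ^ (i : ℕ) = 0 := by
      rw [Fin.sum_univ_eq_sum_range (fun i => r.coeff i • t ^ i)]
      rw [aeval_eq_sum_range' hlt] at hrt
      exact hrt
    have h2 := Fintype.linearIndependent_iff.mp hli _ h1 ⟨r.natDegree, hlt⟩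
    exact one_ne_zero (hrmon.coeff_natDegree ▸ h2)
  have hsep : P.Separable := by
    refine (nodup_aroots_iff_of_splits (K := K) hP0 (IsAlgClosed.splits _)).mp ?_
    rw [← Multiset.toFinset_card_eq_card_iff_nodup]
    refine le_antisymm (Multiset.toFinset_card_le _) ?_
    calc (P.aroots K).card ≤ (P.map (algebraMap k K)).natDegree := card_roots' _
      _ = P.natDegree := natDegree_map _
      _ ≤ r.natDegree := hle
      _ = _ := hrdeg
  obtain ⟨a, b, hab⟩ := hsep
  have h1 : aeval s b * aeval s (derivative P) = 1 := by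
    have := congrArg (aeval s) hab
    rwa [map_add, map_mul, map_mul, minpoly.aeval, mul_zero, zero_add, map_one] at this
  have h2 : aeval s (derivative P) • D s = 0 := by
    rw [← Derivation.map_aeval, minpoly.aeval, map_zero]
  calc D s = (aeval s b * aeval s (derivative P)) • D s := by rw [h1, one_smul]
    _ = 0 := by rw [mul_smul, h2, smul_zero]


open CategoryTheory AlgebraicGeometry in
/-- For a field k and a smooth proper k-scheme X with structure morphism f, the derivation d : O_X →
Ω_{X/k} of f vanishes on global functions: d(s) = 0 in Γ(X, Ω_{X/k}) for every s ∈ Γ(X, O_X). -/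
theorem result (k : Type u) [Field k] (X : Scheme.{u})
    (f : X ⟶ Spec (CommRingCat.of k)) [IsProper f] [Smooth f] (s : Γ(X, ⊤)) :
    (OmegaSh.dOmega f).app ⊤ s = 0 := by
  let F := Omega.sheaf f
  let G : TopCat.Sheaf Ab.{u} X.carrier := ⟨F.presheaf, F.isSheaf⟩
  refine G.eq_of_locally_eq' (fun U : X.affineOpens => (U : X.Opens)) ⊤ (fun U => homOfLE le_top)
    (fun x _ => ?_) _ _ fun U => ?_
  · obtain ⟨_, ⟨U, hU, rfl⟩, hxU, -⟩ :=
      X.isBasis_affineOpens.exists_subset_of_mem_open (Set.mem_univ x) isOpen_univ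
    exact TopologicalSpace.Opens.mem_iSup.mpr ⟨⟨U, hU⟩, hxU⟩
  show F.presheaf.map (homOfLE le_top).op ((OmegaSh.dOmega f).app ⊤ s) =
    F.presheaf.map (homOfLE le_top).op (0 : Γ(F, ⊤))
  rw [← Groth.Agent.OmegaUnivLib.app_res, map_zero]
  let S₀ := Spec (CommRingCat.of k)
  let V : S₀.Opens := ⊤
  let ψ : CommRingCat.of k ⟶ Γ(X, U.1) := (Scheme.ΓSpecIso _).inv ≫ f.appLE V U.1 le_top
  letI : Algebra k Γ(X, U.1) := ψ.hom.toAlgebra
  haveI : Algebra.Smooth k Γ(X, U.1) := by
    rw [← RingHom.smooth_algebraMap]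
    have h1 : (f.appLE V U.1 le_top).hom.Smooth := f.smooth_appLE (isAffineOpen_top _) U.2 le_top
    exact RingHom.Smooth.comp (RingHom.Smooth.of_bijective
      (ConcreteCategory.bijective_of_isIso (Scheme.ΓSpecIso (CommRingCat.of k)).inv)) h1
  letI : Module k Γ(F, U.1) := Module.compHom _ ψ.hom
  haveI : IsScalarTower k Γ(X, U.1) Γ(F, U.1) := .of_algebraMap_smul fun _ _ => rfl
  let D : Derivation k Γ(X, U.1) Γ(F, U.1) := Derivation.mk'
    { toFun := fun a => (OmegaSh.dOmega f).app U.1 a
      map_add' := map_add _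
      map_smul' := fun r a => by
        show (OmegaSh.dOmega f).app U.1 (ψ r * a) = ψ r • (OmegaSh.dOmega f).app U.1 a
        rw [Groth.Agent.OmegaUnivLib.app_mul,
          show (OmegaSh.dOmega f).app U.1 (ψ r) = 0 from
            Groth.Agent.OmegaUnivLib.app_appLE (OmegaSh.dOmega f) V U.1 le_top ((Scheme.ΓSpecIso (CommRingCat.of k)).inv r),
          smul_zero, add_zero] }
    fun a b => Groth.Agent.OmegaUnivLib.app_mul (OmegaSh.dOmega f) U.1 a b
  refine derivation_integral_eq_zero k Γ(X, U.1) _ D _ ?_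
  -- global functions are integral over the field
  obtain ⟨p, hp, hps⟩ := isIntegral_appTop_of_universallyClosed f s
  refine ⟨p.map (Scheme.ΓSpecIso (CommRingCat.of k)).hom.hom, hp.map _, ?_⟩
  rw [Polynomial.eval₂_map]
  have e : (algebraMap k Γ(X, U.1)).comp (Scheme.ΓSpecIso (CommRingCat.of k)).hom.hom =
      (X.presheaf.map (homOfLE (le_top : U.1 ≤ ⊤)).op).hom.comp f.appTop.hom := by
    ext z
    show f.appLE V U.1 le_top ((Scheme.ΓSpecIso _).inv ((Scheme.ΓSpecIso _).hom z)) = _
    rw [show (Scheme.ΓSpecIso (CommRingCat.of k)).inv ((Scheme.ΓSpecIso _).hom z) = z from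
      congr($((Scheme.ΓSpecIso (CommRingCat.of k)).hom_inv_id) z)]
    rfl
  rw [e]
  refine (Polynomial.hom_eval₂ p f.appTop.hom (X.presheaf.map (homOfLE (le_top : U.1 ≤ ⊤)).op).hom s).symm.trans ?_
  rw [hps, map_zero]


end Groth.Agent.S15533
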