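import Groth.Statements.S15545
import Groth.Agent.DomLib.ProConsClosure
import Mathlib.AlgebraicGeometry.Morphisms.UniversallyOpen

set_option autoImplicit false
open CategoryTheory AlgebraicGeometry
universe u
open FDesc

namespace Groth.Agent.S15545

/-- Let f : X' ⟶ X be flat, quasi-compact and surjective, and Z a pro-constructible subset of X (locally
on X an intersection of locally constructible subsets) which is dense in X. Then the preimage of Z
under f is dense in X'. -/
theorem result {X' X : Scheme.{u}} (f : X' ⟶ X)
    [Flat f] [QuasiCompact f] [Surjective f] (Z : Set X) (hZ : ProCons.IsProConstructible Z)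
    (hd : Dense Z) : Dense (f.base ⁻¹' Z) := by
  intro x'
  obtain ⟨ξ, hξ⟩ := QuasiSober.sober (isIrreducible_irreducibleComponent (x := x')) isClosed_irreducibleComponent
  refine (hξ.specializes mem_irreducibleComponent).mem_closed isClosed_closure (subset_closure ?_)
  obtain ⟨z, hz, hzf⟩ := DomLib.exists_specializes_of_mem_closure hZ (hd (f ξ))
  obtain ⟨ξ', hξ', rfl⟩ := Flat.generalizingMap f hzf
  have hmax : closure ({ξ'} : Set X') ⊆ irreducibleComponent x' :=
    (irreducibleComponent_mem_irreducibleComponents x').2 isIrreducible_singleton.closure
      (hξ.def ▸ hξ'.closure_subset)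
  have he : ξ' = ξ := (hξ'.antisymm (hξ.specializes (hmax (subset_closure rfl)))).eq
  exact he ▸ hz

end Groth.Agent.S15545
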