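import Groth.Statements.S15546
import Mathlib
-- import your own Groth.Agent.* helpers here

set_option autoImplicit false
open scoped TensorProduct
universe u
open Unram

namespace Groth.Agent.S15546

/-- Let E be a finite extension of a field k which is not separable over k, and K an algebraic closure
of k. Then E ⊗_k K has a nonzero nilpotent element. -/
theorem result (k E K : Type u) [Field k] [Field E]
    [Algebra k E] [FiniteDimensional k E] [Field K] [Algebra k K] [IsAlgClosure k K]
    (h : ¬ Algebra.IsSeparable k E) : ∃ x : E ⊗[k] K, x ≠ 0 ∧ IsNilpotent x := by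
  by_contra hcon
  push Not at hcon
  haveI : IsReduced (K ⊗[k] E) := by
    refine ⟨fun x hx => ?_⟩
    by_contra h0
    exact hcon (Algebra.TensorProduct.comm k K E x) (fun h => h0 (by simpa using h)) (hx.map _)
  haveI : IsAlgClosed K := IsAlgClosure.isAlgClosed k
  haveI : IsArtinianRing (K ⊗[k] E) := isArtinian_of_tower K inferInstance
  haveI : Algebra.FormallyEtale K (K ⊗[k] E) := by
    refine (Algebra.FormallyEtale.iff_exists_algEquiv_prod K _).2
      ⟨MaximalSpectrum (K ⊗[k] E), inferInstance, fun I => (K ⊗[k] E) ⧸ I.asIdeal,
        fun I => Ideal.Quotient.field I.asIdeal, inferInstance,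
        (IsArtinianRing.equivPi (K ⊗[k] E)).restrictScalars K, fun I => ?_⟩
    letI := Ideal.Quotient.field I.asIdeal
    haveI : Module.Finite K ((K ⊗[k] E) ⧸ I.asIdeal) :=
      Module.Finite.of_surjective (Ideal.Quotient.mkₐ K I.asIdeal).toLinearMap Ideal.Quotient.mk_surjective
    infer_instance
  haveI : Algebra.FormallyUnramified k E :=
    Algebra.FormallyUnramified.of_formallyUnramified_tensorProduct_of_faithfullyFlat K
  exact h (Algebra.FormallyUnramified.isSeparable k E)

end Groth.Agent.S15546
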