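import Groth.Statements.S15547
import Mathlib

set_option autoImplicit false
open CategoryTheory AlgebraicGeometry TopologicalSpace
universe u
open Coherent

namespace Groth.Agent.S15547

open CategoryTheory CategoryTheory.Limits AlgebraicGeometry

/-- The ideal of sections over an affine open not invertible at a point. -/
noncomputable abbrev qAt {Y : Scheme.{u}} {U : Y.Opens} (y : Y) (hy : y ∈ U) : Ideal Γ(Y, U) :=
  Ideal.comap (Y.presheaf.germ U y hy).hom (IsLocalRing.maximalIdeal (Y.presheaf.stalk y))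

theorem mem_qAt {Y : Scheme.{u}} {U : Y.Opens} (y : Y) (hy : y ∈ U) (b : Γ(Y, U)) :
    b ∈ qAt y hy ↔ y ∉ Y.basicOpen b := by
  rw [Ideal.mem_comap, IsLocalRing.mem_maximalIdeal, mem_nonunits_iff, Y.mem_basicOpen b y hy]

theorem qAt_fromSpec {Y : Scheme.{u}} {U : Y.Opens} (hU : IsAffineOpen U) (P : PrimeSpectrum Γ(Y, U))
    (hy : hU.fromSpec P ∈ U) : qAt (hU.fromSpec P) hy = P.asIdeal := by
  ext b
  have h : P ∈ hU.fromSpec ⁻¹ᵁ Y.basicOpen b ↔ P ∈ PrimeSpectrum.basicOpen b := by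
    rw [hU.fromSpec_preimage_basicOpen b]; rfl
  rw [mem_qAt, show hU.fromSpec P ∈ Y.basicOpen b ↔ P ∈ PrimeSpectrum.basicOpen b from h]
  exact not_not

theorem qAt_injective {Y : Scheme.{u}} {U : Y.Opens} (hU : IsAffineOpen U) {y y' : Y} (hy : y ∈ U)
    (hy' : y' ∈ U) (h : qAt y hy = qAt y' hy') : y = y' := by
  obtain ⟨P, rfl⟩ : y ∈ Set.range hU.fromSpec := hU.range_fromSpec ▸ hy
  obtain ⟨P', rfl⟩ : y' ∈ Set.range hU.fromSpec := hU.range_fromSpec ▸ hy'
  rw [qAt_fromSpec, qAt_fromSpec] at h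
  exact congrArg _ (PrimeSpectrum.ext h)

theorem comap_app_qAt {Z X : Scheme.{u}} (g : Z ⟶ X) {U : X.Opens} (z : Z) (hz : g z ∈ U) :
    (qAt (U := g ⁻¹ᵁ U) z hz).comap (g.app U).hom = qAt (g z) hz := by
  ext a
  rw [Ideal.mem_comap, mem_qAt, mem_qAt, ← Scheme.preimage_basicOpen]
  rfl


/-- Let g : Z ⟶ X be a finite morphism of schemes (Z is the spectrum of the finite quasi-coherent
O_X-algebra C = g_*O_Z) and x a point of X. Then the points of Z over x correspond bijectively to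
the maximal ideals of the stalk C_x = (g_*O_Z)_x: the map sending z with g(z) = x to the preimage of
the maximal ideal of O_{Z,z} under the canonical map (g_*O_Z)_x ⟶ O_{Z,z} is a bijection from the
fibre onto the set of maximal ideals. -/
theorem result {Z X : Scheme.{u}} (g : Z ⟶ X)
    [IsFinite g] (x : X) :
    Set.BijOn (fun z : {z : Z // g.base z = x} =>
        Ideal.comap (((g.base _* Z.presheaf).stalkCongr (Inseparable.of_eq z.2)).inv ≫
            TopCat.Presheaf.stalkPushforward CommRingCat g.base Z.presheaf z.1).hom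
          (IsLocalRing.maximalIdeal (Z.presheaf.stalk z.1)))
      Set.univ {I : Ideal ((g.base _* Z.presheaf).stalk x) | I.IsMaximal} := by
  classical
  obtain ⟨U, hU, hxU, -⟩ := exists_isAffineOpen_mem_and_subset (TopologicalSpace.Opens.mem_top x)
  have hU' : IsAffineOpen (g ⁻¹ᵁ U) := hU.preimage g
  letI : Algebra Γ(X, U) Γ(Z, g ⁻¹ᵁ U) := (g.app U).hom.toAlgebra
  haveI : Module.Finite Γ(X, U) Γ(Z, g ⁻¹ᵁ U) := IsFinite.finite_app (f := g) U hU
  haveI : Algebra.IsIntegral Γ(X, U) Γ(Z, g ⁻¹ᵁ U) := Algebra.IsIntegral.of_finite _ _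
  let P : TopCat.Presheaf CommRingCat X := g.base _* Z.presheaf
  let ι : Γ(Z, g ⁻¹ᵁ U) →+* P.stalk x := (P.germ U x hxU).hom
  let φ : ∀ z : {z : Z // g.base z = x}, P.stalk x →+* Z.presheaf.stalk z.1 := fun z =>
    ((P.stalkCongr (Inseparable.of_eq z.2)).inv ≫
      TopCat.Presheaf.stalkPushforward CommRingCat g.base Z.presheaf z.1).hom
  have hφ : ∀ (z : {z : Z // g.base z = x}) (b : Γ(Z, g ⁻¹ᵁ U)),
      φ z (ι b) = Z.presheaf.germ (g ⁻¹ᵁ U) z.1 (show g z.1 ∈ U from z.2.symm ▸ hxU) b := by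
    rintro ⟨z, rfl⟩ b
    show (ConcreteCategory.hom (TopCat.Presheaf.stalkPushforward CommRingCat g.base Z.presheaf z))
      ((P.stalkCongr (Inseparable.of_eq rfl)).inv (P.germ U (g z) hxU b)) = _
    rw [TopCat.Presheaf.stalkCongr_inv, TopCat.Presheaf.germ_stalkSpecializes_apply]
    exact congrArg (fun F => F b)
      (TopCat.Presheaf.stalkPushforward_germ (C := CommRingCat) g.base Z.presheaf U z hxU)
  let I : {z : Z // g.base z = x} → Ideal (P.stalk x) := fun z =>
    Ideal.comap (φ z) (IsLocalRing.maximalIdeal _)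
  let q : {z : Z // g.base z = x} → Ideal Γ(Z, g ⁻¹ᵁ U) := fun z =>
    qAt (U := g ⁻¹ᵁ U) z.1 (show g z.1 ∈ U from z.2.symm ▸ hxU)
  have hιI : ∀ z, (I z).comap ι = q z := fun z => by
    ext b
    rw [Ideal.mem_comap, Ideal.mem_comap, hφ]
    rfl
  have hqp : ∀ z, (q z).under Γ(X, U) = qAt x hxU := by
    rintro ⟨z, rfl⟩
    exact comap_app_qAt g z hxU
  have hunit : ∀ a : Γ(X, U), a ∉ qAt x hxU → IsUnit (ι (g.app U a)) := by
    intro a ha
    have hxa : x ∈ X.basicOpen a := not_not.1 fun h => ha ((mem_qAt x hxU a).2 h)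
    have hu := ((X.toRingedSpace.isUnit_res_basicOpen a).map (g.app (X.basicOpen a)).hom).map
      (P.germ (X.basicOpen a) x hxa).hom
    convert hu using 1
    rw [← TopCat.Presheaf.germ_res_apply P (homOfLE (X.basicOpen_le a)) x hxa]
    congr 1
    exact (congrArg (fun F => F a) (g.naturality (homOfLE (X.basicOpen_le a)).op)).symm
  have hfrac : ∀ c : P.stalk x, ∃ (b : Γ(Z, g ⁻¹ᵁ U)) (u : P.stalk x), IsUnit u ∧ c * u = ι b := by
    intro c
    obtain ⟨V, hxV, s, rfl⟩ := P.exists_germ_eq c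
    obtain ⟨f, hfV, hxf⟩ := hU.exists_basicOpen_le (V := V) ⟨x, hxV⟩ hxU
    haveI := hU'.isLocalization_basicOpen (g.app U f)
    have e : Z.basicOpen (g.app U f) ≤ g ⁻¹ᵁ V := by
      rw [← Scheme.preimage_basicOpen]; exact g.preimage_mono hfV
    obtain ⟨⟨b, ⟨_, n, rfl⟩⟩, hb⟩ := IsLocalization.surj (Submonoid.powers (g.app U f))
      (Z.presheaf.map (homOfLE e).op s)
    refine ⟨b, ι (g.app U f) ^ n, (hunit f fun h => (mem_qAt x hxU f).1 h hxf).pow n, ?_⟩
    have e' : g ⁻¹ᵁ X.basicOpen f = Z.basicOpen (g.app U f) := Scheme.preimage_basicOpen g f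
    have hbD := congrArg (fun t => Z.presheaf.map (homOfLE e'.le).op t) hb
    simp only [RingHom.algebraMap_toAlgebra] at hbD
    rw [← map_pow, ← TopCat.Presheaf.germ_res_apply P (homOfLE hfV) x hxf s]
    show _ = P.germ U x hxU b
    rw [← TopCat.Presheaf.germ_res_apply P (homOfLE (X.basicOpen_le f)) x hxf b]
    show _ * P.germ U x hxU ((g.app U f) ^ n) = _
    rw [← TopCat.Presheaf.germ_res_apply P (homOfLE (X.basicOpen_le f)) x hxf, ← map_mul]
    congr 1
    rw [map_mul] at hbD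
    simp only [← CategoryTheory.comp_apply, ← Functor.map_comp, ← op_comp, homOfLE_comp] at hbD
    exact hbD
  have hdet : ∀ I₁ I₂ : Ideal (P.stalk x), I₁.comap ι ≤ I₂.comap ι → I₁ ≤ I₂ := by
    intro I₁ I₂ h c hc
    obtain ⟨b, u, hu, e⟩ := hfrac c
    have : ι b ∈ I₂ := h (show ι b ∈ I₁ from e ▸ I₁.mul_mem_right u hc)
    rw [← e] at this
    exact (Ideal.mul_unit_mem_iff_mem I₂ hu).1 this
  have hcontain : ∀ J : Ideal (P.stalk x), J.IsMaximal → ∃ z, J = I z := by
    intro J hJ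
    have hle : (J.comap ι).under Γ(X, U) ≤ qAt x hxU := by
      intro a ha
      by_contra h
      exact hJ.ne_top (J.eq_top_of_isUnit_mem ha (hunit a h))
    haveI : (qAt x hxU).IsPrime := Ideal.IsPrime.comap _
    obtain ⟨Q, hQJ, hQ, hQp⟩ :=
      Ideal.exists_ideal_over_prime_of_isIntegral (S := Γ(Z, g ⁻¹ᵁ U)) (qAt x hxU) (J.comap ι) hle
    let z := hU'.fromSpec ⟨Q, hQ⟩
    have hz : z ∈ g ⁻¹ᵁ U := hU'.range_fromSpec.le ⟨_, rfl⟩
    have hQz : qAt (U := g ⁻¹ᵁ U) z hz = Q := qAt_fromSpec hU' ⟨Q, hQ⟩ hz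
    have hzx : g.base z = x := qAt_injective hU hz hxU (by
      rw [← comap_app_qAt g z hz, hQz]
      exact hQp)
    refine ⟨⟨z, hzx⟩, hJ.eq_of_le (Ideal.comap_ne_top _ (IsLocalRing.maximalIdeal.isMaximal _).ne_top)
      (hdet _ _ ?_)⟩
    rw [hιI]
    exact hQJ.trans hQz.ge
  have hqinj : ∀ z z', q z ≤ q z' → z = z' := by
    intro z z' hle
    refine Subtype.ext (qAt_injective hU' (show g z.1 ∈ U from z.2.symm ▸ hxU) (show g z'.1 ∈ U from z'.2.symm ▸ hxU) ?_)
    haveI : (q z).IsPrime := Ideal.IsPrime.comap _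
    rcases hle.eq_or_lt with h | h
    · exact h
    · exfalso
      refine (Ideal.comap_lt_comap_of_integral_mem_sdiff (R := Γ(X, U)) hle
        ⟨(Set.exists_of_ssubset h).choose_spec.1, (Set.exists_of_ssubset h).choose_spec.2⟩
        (Algebra.IsIntegral.isIntegral _)).ne ?_
      exact (hqp z).trans (hqp z').symm
  have hmax : ∀ z, (I z).IsMaximal := by
    intro z
    obtain ⟨M, hM, hle⟩ := Ideal.exists_le_maximal (I z)
      (Ideal.comap_ne_top _ (IsLocalRing.maximalIdeal.isMaximal _).ne_top)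
    obtain ⟨z', rfl⟩ := hcontain M hM
    have := hqinj z z' (by rw [← hιI, ← hιI]; exact Ideal.comap_mono hle)
    exact this ▸ hM
  refine ⟨fun z _ => hmax z, fun z _ z' _ h => hqinj z z' ?_, fun J hJ => ?_⟩
  · rw [← hιI, ← hιI]; exact le_of_eq (congrArg (Ideal.comap ι) h)
  · obtain ⟨z, rfl⟩ := hcontain J hJ
    exact ⟨z, trivial, rfl⟩

end Groth.Agent.S15547
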