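import Mathlib
import Groth.Agent.TorLib.ShiftNat
import Groth.Statements.S15548

set_option autoImplicit false
universe u
open CategoryTheory
open CAlg

namespace Groth.Agent.S15548

/-- Let R be a Noetherian commutative ring, I an ideal of R and M a finitely generated R-module. Then
for every natural number n there is m ≥ n such that the map Tor_1^R(M, R/I^m) → Tor_1^R(M, R/I^n)
induced by the projection R/I^m → R/I^n is the zero map. Here Tor_1^R(M, -) is the first left
derived functor of M ⊗_R - (derived in the second variable). -/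
theorem result (R : Type u) [CommRing R] [IsNoetherianRing R] (I : Ideal R)
    (M : Type u) [AddCommGroup M] [Module R M] [Module.Finite R M] (n : ℕ) :
    ∃ m : ℕ, n ≤ m ∧ ∀ h : I ^ m ≤ I ^ n,
      ((CategoryTheory.Tor (ModuleCat.{u} R) 1).obj (ModuleCat.of R M)).map
        (ModuleCat.ofHom (Submodule.factor h)) = 0 := by
  classical
  obtain ⟨d, q, hq⟩ := Module.Finite.exists_fin' R M
  let F := Fin d → R
  let K : Submodule R F := LinearMap.ker q
  have hex : Function.Exact K.subtype q := by
    rw [LinearMap.exact_iff, Submodule.range_subtype]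
  have hS := TorLib.shortExact_mk (A := R) (K := K) (F := F) (M := M) K.subtype q K.injective_subtype hq hex
  obtain ⟨c, hc⟩ := Ideal.exists_pow_inf_eq_pow_smul I K
  refine ⟨n + c, by omega, fun h => ?_⟩
  have key : ∀ k : K, (k : F) ∈ I ^ (n + c) • (⊤ : Submodule R F) →
      k ∈ I ^ n • (⊤ : Submodule R K) := by
    intro k hk
    have h1 : (k : F) ∈ I ^ (n + c) • (⊤ : Submodule R F) ⊓ K := ⟨hk, k.2⟩
    rw [hc (n + c) (by omega), Nat.add_sub_cancel] at h1
    have h2 : (k : F) ∈ (I ^ n • (⊤ : Submodule R K)).map K.subtype := by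
      rw [Submodule.map_smul'', Submodule.map_top, Submodule.range_subtype]
      exact Submodule.smul_mono le_rfl inf_le_right h1
    obtain ⟨k', hk', hkk⟩ := h2
    rwa [← Subtype.ext (a1 := k') (a2 := k) hkk]
  let N := ModuleCat.of R (R ⧸ I ^ (n + c))
  let N' := ModuleCat.of R (R ⧸ I ^ n)
  let g : N ⟶ N' := ModuleCat.ofHom (Submodule.factor h)
  let P := projectiveResolution N
  let Q := projectiveResolution N'
  have : Module.Flat R F := inferInstance
  have hmono : Mono ((TorLib.torIso Q (ModuleCat.of R M) 1).hom ≫ TorLib.oneHom (P := Q) hS) := by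
    rw [← TorLib.oneIso_hom (P := Q) hS]
    have : Mono (ModuleCat.ofHom (LinearMap.ker
        (MonoidalCategory.whiskerRight (ModuleCat.ofHom K.subtype) N').hom).subtype) :=
      (ModuleCat.mono_iff_injective _).mpr Subtype.val_injective
    infer_instance
  change ((CategoryTheory.Tor (ModuleCat.{u} R) 1).obj (ModuleCat.of R M)).map g = 0
  rw [← cancel_mono ((TorLib.torIso Q (ModuleCat.of R M) 1).hom ≫ TorLib.oneHom (P := Q) hS),
    Limits.zero_comp, ← Category.assoc,
    TorLib.torIso_nat_left (P := P) (Q := Q) (ModuleCat.of R M) g (TorLib.liftMap g) (TorLib.liftMap_comm g),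
    Category.assoc,
    TorLib.oneHom_nat_left (P := P) (Q := Q) hS g (TorLib.liftMap g) (TorLib.liftMap_comm g),
    ← TorLib.oneIso_hom (P := P) hS]
  have hz : ∀ y : LinearMap.ker (K.subtype.rTensor (R ⧸ I ^ (n + c))),
      (Submodule.factor h).lTensor K (y : TensorProduct R K (R ⧸ I ^ (n + c))) = 0 := by
    rintro ⟨y, hy⟩
    obtain ⟨k, rfl⟩ : ∃ k : K, k ⊗ₜ[R] (1 : R ⧸ I ^ (n + c)) = y := by
      obtain ⟨k, hk⟩ := Submodule.Quotient.mk_surjective _ (TensorProduct.tensorQuotEquivQuotSMul K (I ^ (n + c)) y)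
      refine ⟨k, ?_⟩
      rw [← TensorProduct.tensorQuotEquivQuotSMul_symm_mk, hk, LinearEquiv.symm_apply_apply]
    rw [LinearMap.mem_ker, LinearMap.rTensor_tmul] at hy
    have h1 : (k : F) ∈ I ^ (n + c) • (⊤ : Submodule R F) := by
      have := congrArg (TensorProduct.tensorQuotEquivQuotSMul F (I ^ (n + c))) hy
      rw [map_zero, ← map_one (Ideal.Quotient.mk (I ^ (n + c))),
        TensorProduct.tensorQuotEquivQuotSMul_tmul_mk, one_smul, Submodule.Quotient.mk_eq_zero] at this
      exact this
    change k ⊗ₜ[R] Submodule.factor h 1 = 0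
    rw [show Submodule.factor h (1 : R ⧸ I ^ (n + c)) = Ideal.Quotient.mk (I ^ n) 1 from rfl]
    apply (TensorProduct.tensorQuotEquivQuotSMul K (I ^ n)).injective
    rw [TensorProduct.tensorQuotEquivQuotSMul_tmul_mk, one_smul, map_zero, Submodule.Quotient.mk_eq_zero]
    exact key k h1
  ext x
  exact hz ((TorLib.oneIso P hS).hom ((TorLib.torIso P (ModuleCat.of R M) 1).hom x))

end Groth.Agent.S15548
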