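import Groth.Statements.S15549
import Groth.Agent.GrModLib.Basic
-- import your own Groth.Agent.* helpers here

set_option autoImplicit false
set_option backward.isDefEq.respectTransparency false
universe u
open CategoryTheory AlgebraicGeometry
open LocCoh

namespace Groth.Agent.S15549

/-- Let R be a Noetherian commutative ring, positively graded by additive subgroups R_d, with irrelevant
ideal R_+ and X = Proj R, and let M be a graded R-module which is the direct sum of its pieces M_i,
i ≥ 0 (non-negatively graded here). For every i and every m ∈ M_i, the global section of M(i)~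
defined by m (the value m/1 at every point) is zero if and only if some power of R_+ annihilates m.
Equivalently, degree by degree, the kernel of the canonical map from M to the direct sum over all n
of Γ(X, M(n)~) is the R_+-power-torsion submodule H^0_{R_+}(M). -/
theorem result {R σ : Type u} [CommRing R] [IsNoetherianRing R] [SetLike σ R] [AddSubgroupClass σ R]
    (𝒜 : ℕ → σ) [GradedRing 𝒜] {M τ : Type u} [AddCommGroup M] [Module R M] [SetLike τ M] [AddSubgroupClass τ M]
    (ℳ : ℕ → τ) [SetLike.GradedSMul 𝒜 ℳ] [DirectSum.Decomposition ℳ]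
    (i : ℕ) (m : ℳ i) :
    GrMod.alpha 𝒜 ℳ i m = 0 ↔
      ∃ k : ℕ, ∀ r : R, r ∈ (HomogeneousIdeal.irrelevant 𝒜).toIdeal ^ k → r • (m : M) = 0 := by
  classical
  open Groth.Agent.GrModLib in
  constructor
  · intro h
    have hx : ∀ x : ProjectiveSpectrum 𝒜, ∃ t : R, t ∉ x.asHomogeneousIdeal ∧ t • (m : M) = 0 := fun x => by
      refine mk_eq_zero.1 (?_ : (LocalizedModule.mk (m : M) 1 : GrMod.LocMod 𝒜 (M := M) x) = 0)
      exact congrArg (fun s => valAt (ℳ := ℳ) (n := (i : ℤ)) (V := ⊤) s ⟨x, trivial⟩) h
    have hle : (HomogeneousIdeal.irrelevant 𝒜).toIdeal ≤ (annHom 𝒜 m).toIdeal.radical := by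
      intro a ha
      rw [← DirectSum.sum_support_decompose 𝒜 a]
      refine Ideal.sum_mem _ fun j _ => ?_
      rcases Nat.eq_zero_or_pos j with rfl | hj
      · rw [show (DirectSum.decompose 𝒜 a 0 : R) = 0 from (HomogeneousIdeal.mem_irrelevant_iff 𝒜 a).1 ha]
        exact zero_mem _
      · obtain ⟨N, hN⟩ := exists_pow_smul_eq_zero hj (DirectSum.decompose 𝒜 a j).2 m fun x _ => hx x
        exact ⟨N, mem_annHom.2 hN⟩
    obtain ⟨k, hk⟩ := Ideal.exists_pow_le_of_le_radical_of_fg hle (IsNoetherian.noetherian _)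
    exact ⟨k, fun r hr => mem_annHom.1 (hk hr)⟩
  · rintro ⟨k, hk⟩
    refine sect_ext fun x => ?_
    rw [valAt_zero]
    show (LocalizedModule.mk (m : M) 1 : GrMod.LocMod 𝒜 (M := M) x.1) = 0
    refine mk_eq_zero.2 ?_
    obtain ⟨g, hgI, hgx⟩ := Set.not_subset.1 x.1.not_irrelevant_le
    exact ⟨g ^ k, fun h => hgx (x.1.isPrime.mem_of_pow_mem k h), hk _ (Ideal.pow_mem_pow hgI k)⟩

end Groth.Agent.S15549
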