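import Groth.Statements.S15551
import Groth.Agent.BoundaryConn.Main
import Groth.Agent.FEtLib.Normal

set_option backward.isDefEq.respectTransparency false
set_option backward.isDefEq.respectTransparency.types false
set_option linter.style.haveILetI false

set_option autoImplicit false
universe u
open CategoryTheory CategoryTheory.Limits AlgebraicGeometry
open Pi1

namespace Groth.Agent.S15551

/-- Let k be an algebraically closed field and X an integral normal scheme (all local rings integrally
closed domains), proper over k and of dimension at least 2, with an ample invertible module L; let s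
be a nonzero global section of L, given as a monomorphism O_X → L, and D = Z(s) ⊆ X its zero scheme
(the support of an effective ample divisor). Then for every finite étale cover Y → X with Y
connected, the fibre product Y ×_X D is connected. This is the statement that the étale fundamental
group of D maps onto that of X. (The published statement takes X projective over k; this row takes X
proper over k with an ample invertible module, which is equivalent.) -/
theorem result (k : Type u) [Field k] [IsAlgClosed k]
    (X : Scheme.{u}) (f : X ⟶ Spec (CommRingCat.of k)) [IsProper f] [IsIntegral X] (hN : Pi1.IsNormalScheme X)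
    (hdim : (2 : WithBot ℕ∞) ≤ topologicalKrullDim X)
    (L : X.Modules) (hL : CohB1.IsAmple L) (s : Coh.structureModule X ⟶ L) (hs : Mono s)
    (Y : FEt.Cat X) [ConnectedSpace Y.left] :
    ConnectedSpace ↥(pullback Y.hom (PicF2.zeroScheme L s).subschemeι) := by
  haveI := hs
  haveI : IsIntegral Y.left := Groth.Agent.FEtLib.isIntegral_of_connected hN Y
  let π : Y.left ⟶ X := Y.hom
  haveI : IsFinite π := Y.prop.1
  haveI : Etale π := Y.prop.2
  have hsurj : Function.Surjective π := by
    have h1 : IsClopen (Set.range π) :=
      ⟨π.isClosedMap.isClosed_range, π.isOpenMap.isOpen_range⟩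
    exact Set.range_eq_univ.1 (h1.eq_univ (Set.range_nonempty _))
  haveI : Surjective π := ⟨hsurj⟩
  let W := CohB1.genLocus L s
  have hW : IsAffineOpen W := Groth.Agent.AmpleLib.isAffineOpen_genLocus_of_universallyClosed f hL s
  have hne : ((π ⁻¹ᵁ W : Y.left.Opens) : Set Y.left).Nonempty := by
    obtain ⟨y, hy⟩ := hsurj (genericPoint X)
    exact ⟨y, show π y ∈ W from hy.symm ▸ Groth.Agent.BoundaryConn.genericPoint_mem_genLocus hL.1 s⟩
  have hdim' : (2 : WithBot ℕ∞) ≤ topologicalKrullDim Y.left :=
    hdim.trans (Groth.Agent.BoundaryConn.dim_le_of_surjective π)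
  have hconn := Groth.Agent.BoundaryConn.isConnected_compl k (π ≫ f) hdim' (π ⁻¹ᵁ W) (hW.preimage π) hne
  have hset : (((π ⁻¹ᵁ W : Y.left.Opens) : Set Y.left)ᶜ) =
      Set.range (pullback.fst π (PicF2.zeroScheme L s).subschemeι) := by
    rw [Scheme.Pullback.range_fst, Scheme.IdealSheafData.range_subschemeι,
      Groth.Agent.BoundaryConn.support_zeroScheme hL.1 s, Set.preimage_compl]
    rfl
  rw [hset, ← Set.image_univ] at hconn
  have hemb := (pullback.fst π (PicF2.zeroScheme L s).subschemeι).isEmbedding
  exact connectedSpace_iff_univ.2
    ⟨Set.image_nonempty.1 hconn.1, hemb.isInducing.isPreconnected_image.1 hconn.2⟩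

end Groth.Agent.S15551
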