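import Groth.Statements.S15554
import Groth.Agent.BertiniProjLib.Basic

set_option autoImplicit false
set_option backward.isDefEq.respectTransparency false
set_option backward.isDefEq.respectTransparency.types false
set_option linter.style.haveILetI false
set_option maxHeartbeats 800000
universe u
open CategoryTheory CategoryTheory.Limits AlgebraicGeometry MvPolynomial Opposite TopologicalSpace
open Groth.Agent.AmpleEmb Groth.Agent.AmpleLib Groth.Agent.ParaFLib Groth.Agent.BertiniProjLib
open SmVar

noncomputable section

namespace Groth.Agent.S15554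

variable {k : Type u} [Field k] {n : ℕ}

local instance overSpec : (CohB1.ProjSpace n k).Over (Spec (CommRingCat.of k)) := ⟨CohB1.ProjSpace.toSpec n k⟩

theorem coordRatio_self (j : Fin (n + 1)) : coordRatio n k j j = 1 := by
  refine ((gen_coordSec n k j) _ le_rfl).1 ?_
  simp only [res_self]
  rw [coordRatio_smul, one_smul]

theorem chartEquiv_dehomVec (j i : Fin (n + 1)) :
    PicProjLib.chartEquiv n k j (PicProjLib.dehomVec n k j i) = coordRatio n k j i := by
  rcases Fin.eq_self_or_eq_succAbove j i with rfl | ⟨m, rfl⟩
  · simp [PicProjLib.dehomVec, coordRatio_self]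
  · simp [PicProjLib.dehomVec, PicProjLib.chartEquiv_X]

theorem chartEquiv_lin (j : Fin (n + 1)) (a : Fin (n + 1) → k) :
    PicProjLib.chartEquiv n k j (lin k n j a) =
      ∑ i, BertiniLib.α k (stdOpen n k j) (a i) * coordRatio n k j i := by
  rw [lin, map_sum]
  refine Finset.sum_congr rfl fun i _ => ?_
  rw [map_mul, chartEquiv_C, chartEquiv_dehomVec]
  rfl

/-- Let k be an infinite field and X ⊆ P^n_k a smooth projective variety, given as an integral scheme X
with a closed immersion ι into projective n-space over k through which X is smooth over k. Then X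
has a smooth hyperplane section defined over k: there is a global section s of the twisting sheaf
O(1) on P^n_k whose zero scheme H, a hyperplane defined over k, does not contain X and for which the
scheme-theoretic intersection X ∩ H = X ×_{P^n_k} H is smooth over k. (The published statement also
records that X ∩ H has dimension dim X − 1; that is automatic once X is integral and not contained
in H, so this row states smoothness together with X ⊄ H.) -/
theorem result (k : Type u) [Field k] [Infinite k] (n : ℕ)
    (X : Scheme.{u}) [IsIntegral X] (ι : X ⟶ CohB1.ProjSpace n k) [IsClosedImmersion ι]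
    [Smooth (ι ≫ CohB1.ProjSpace.toSpec n k)] :
    ∃ s : Coh.structureModule (CohB1.ProjSpace n k) ⟶ Twist.twistProjSpace n k 1,
      (∃ x : ↥X, ι.base x ∉ (PicF2.zeroScheme (Twist.twistProjSpace n k 1) s).support) ∧
      Smooth (pullback.fst ι (PicF2.zeroScheme (Twist.twistProjSpace n k 1) s).subschemeι ≫ ι ≫
        CohB1.ProjSpace.toSpec n k) := by
  classical
  obtain ⟨g, hg0, hg⟩ := exists_good ι
  obtain ⟨a, ha⟩ : ∃ a : Fin (n + 1) → k, MvPolynomial.eval a g ≠ 0 := by
    by_contra h
    push Not at h
    exact hg0 (MvPolynomial.funext fun a => by rw [h a, map_zero])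
  obtain ⟨hsm, j₀, hj₀, hne⟩ := hg a ha
  let L := Twist.twistProjSpace n k 1
  let s : Coh.structureModule (CohB1.ProjSpace n k) ⟶ L :=
    ∑ i, Formal.smulMod k (Coh.structureModule (CohB1.ProjSpace n k)) (a i) ≫ coordSec n k i
  have hL : PicF.IsInvertible L := isInvertible_twistOne n k
  have hsec : sec s = ∑ i, BertiniLib.α k (⊤ : (CohB1.ProjSpace n k).Opens) (a i) • sec (coordSec n k i) := by
    rw [BertiniLib.sec_sum]
    exact Finset.sum_congr rfl fun i _ => BertiniLib.sec_smulMod k (a i) _
  let I := PicF2.zeroScheme L s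
  have hI : ∀ j, I.ideal ⟨stdOpen n k j, isAffineOpen_stdOpen n k j⟩ =
      Ideal.span {PicProjLib.chartEquiv n k j (lin k n j a)} := fun j => by
    rw [ZeroSchemeLib.zeroScheme_ideal hL]
    refine ZeroSchemeLib.colonIdeal_of_gen s (gen_coordSec n k j) ?_
    rw [chartEquiv_lin, hsec]
    exact BertiniLib.resT_combine k _ _ _ _ (fun i => coordRatio_smul n k j i) a
  refine ⟨s, ⟨genericPoint X, fun hsupp => ?_⟩, ?_⟩
  · have h1 : ι.base (genericPoint X) ∈ (I.support : Set _) ∩ stdOpen n k j₀ := ⟨hsupp, hj₀⟩
    rw [I.coe_support_inter ⟨stdOpen n k j₀, isAffineOpen_stdOpen n k j₀⟩, hI, Scheme.zeroLocus_span,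
      Scheme.zeroLocus_singleton] at h1
    refine h1.1 (?_ : genericPoint X ∈ ι ⁻¹ᵁ (CohB1.ProjSpace n k).basicOpen _)
    rw [Scheme.preimage_basicOpen]
    refine ((genericPoint_spec X).mem_open_set_iff (X.basicOpen _).2).2 ?_
    by_contra hb
    refine hne ?_
    rw [Set.univ_inter, Set.not_nonempty_iff_eq_empty] at hb
    exact (basicOpen_eq_bot_iff _).1 (Opens.ext hb)
  · rw [← Category.assoc, ← Scheme.IdealSheafData.comapIso_inv_subschemeι]
    rw [Category.assoc, Category.assoc]
    refine (MorphismProperty.cancel_left_of_respectsIso @Smooth _ _).2 ?_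
    let J := I.comap ι
    let W : Fin (n + 1) → X.affineOpens := fun j => ⟨U ι j, isAffineOpen_U ι j⟩
    let idx : J.subscheme → Fin (n + 1) := fun x => (exists_mem_U ι (J.subschemeι x)).choose
    let 𝒰 : J.subscheme.AffineOpenCover :=
      { I₀ := ULift.{u} (Fin (n + 1))
        X := fun j => .of (Γ(X, (W j.down).1) ⧸ J.ideal (W j.down))
        f := fun j => J.subschemeCover.f (W j.down)
        idx := fun x => ⟨idx x⟩
        covers := fun x => (J.opensRange_subschemeCover_map _).ge (exists_mem_U ι (J.subschemeι x)).choose_spec }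
    refine (IsZariskiLocalAtSource.iff_of_openCover 𝒰.openCover).2 fun (j : ULift.{u} (Fin (n + 1))) => ?_
    show Smooth (J.subschemeCover.f (W j.down) ≫ J.subschemeι ≫ ι ≫ CohB1.ProjSpace.toSpec n k)
    have e1 : J.subschemeCover.f (W j.down) ≫ J.subschemeι ≫ ι ≫ CohB1.ProjSpace.toSpec n k =
        Spec.map (CommRingCat.ofHom ((Ideal.Quotient.mk (J.ideal (W j.down))).comp ((π ι j.down).comp C))) := by
      rw [← Category.assoc, J.subschemeCover_map_subschemeι, J.glueDataObjι_ι, Category.assoc,
        PlaneTwistLib.fromSpec_comp _ (W j.down).2, ← Spec.map_comp, π_C]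
      rfl
    have e2 : J.ideal (W j.down) = Ideal.span {π ι j.down (lin k n j.down a)} := by
      rw [IdealStalkLib.comap_ideal I ι (isAffineOpen_stdOpen n k j.down) (W j.down).2 le_rfl, hI, Ideal.map_span,
        Set.image_singleton]
      exact congrArg (fun z => Ideal.span {z}) (ConcreteCategory.congr_hom (Scheme.Hom.app_eq_appLE ι).symm _)
    rw [e1, HasRingHomProperty.Spec_iff (P := @Smooth), CommRingCat.hom_ofHom, e2]
    exact hsm j.down

end Groth.Agent.S15554
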