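import Groth.Statements.S15556
import Groth.Agent.PIChow.Basic

set_option autoImplicit false
universe u
open CategoryTheory AlgebraicGeometry
open CategoryTheory.Limits
open Cyc

namespace Groth.Agent.S15556

/-- Let k be a field of characteristic p > 0, E a finite purely inseparable field extension of k, X a
separated scheme of finite type over k, X' = X ×_k E with projection f : X' → X (any pullback
square), δ a dimension function on X making (X, δ) a cycle setup (X locally Noetherian with
universally catenary local rings) and δ' the induced dimension function on X' (so (X', δ') is a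
cycle setup and δ' is compatible with δ along f, which has relative dimension 0). Then flat pullback
of cycles along f induces a bijection of Chow groups of i-cycles after inverting p, in the following
two-sided sense: for every i-cycle β on X' there are an i-cycle α on X, an i-cycle α' on X' with the
flat-pullback coefficients of α, and an exponent s with [α'] = p^s · [β] in CH_i(X'); and for every
i-cycle α on X and every i-cycle α' on X' with the flat-pullback coefficients of α, if [α'] = 0 in
CH_i(X') then p^s · [α] = 0 in CH_i(X) for some s. (The published statement allows an arbitrary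
purely inseparable extension E of k; this row takes E finite over k, the case the printed argument
carries out.) -/
theorem result (k E : Type u) [Field k] [Field E] [Algebra k E] (p : ℕ) [Fact p.Prime] [CharP k p] [Module.Finite k E] [IsPurelyInseparable k E] (X X' : Scheme.{u}) (g : X ⟶ Spec (CommRingCat.of k)) [IsSeparated g] [LocallyOfFiniteType g] [QuasiCompact g] (f : X' ⟶ X) (g' : X' ⟶ Spec (CommRingCat.of E)) (hsq : IsPullback f g' g (Spec.map (CommRingCat.ofHom (algebraMap k E)))) (δ : X → ℤ) (δ' : X' → ℤ) (hX : Cyc.IsSetup X δ) (hX' : Cyc.IsSetup X' δ') (hδ : Cyc.DeltaCompat f δ' δ) (i : ℤ) : (∀ (β : AlgebraicCycle X' ℤ) (hβ : β ∈ Cyc.Zk X' δ' i), ∃ (α : AlgebraicCycle X ℤ) (hα : α ∈ Cyc.Zk X δ i) (α' : AlgebraicCycle X' ℤ) (hα' : α' ∈ Cyc.Zk X' δ' i) (s : ℕ), ⇑α' = Cyc.pullFun f δ' δ 0 ⇑α ∧ ChowOps.cl α' hα' = p ^ s • ChowOps.cl β hβ) ∧ (∀ (α : AlgebraicCycle X ℤ) (hα : α ∈ Cyc.Zk X δ i) (α' : AlgebraicCycle X' ℤ) (hα' : α' ∈ Cyc.Zk X' δ' i), ⇑α' = Cyc.pullFun f δ' δ 0 ⇑α → ChowOps.cl α' hα' = 0 → ∃ s : ℕ, p ^ s • ChowOps.cl α hα = 0) :=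 by
  haveI := hX.1
  haveI := hX'.1
  haveI : IsFinite (Spec.map (CommRingCat.ofHom (algebraMap k E))) :=
    (IsFinite.SpecMap_iff _).2 (RingHom.finite_algebraMap.2 inferInstance)
  haveI : Flat (Spec.map (CommRingCat.ofHom (algebraMap k E))) :=
    Flat.SpecMap_iff.2 (RingHom.flat_algebraMap_iff.2 inferInstance)
  haveI : Surjective (Spec.map (CommRingCat.ofHom (algebraMap k E))) := inferInstance
  haveI : UniversallyInjective (Spec.map (CommRingCat.ofHom (algebraMap k E))) :=
    Groth.Agent.GeomIrred.universallyInjective_specMap k E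
  haveI : IsFinite f := MorphismProperty.of_isPullback hsq.flip inferInstance
  haveI : Flat f := MorphismProperty.of_isPullback hsq.flip inferInstance
  haveI : Surjective f := MorphismProperty.of_isPullback hsq.flip inferInstance
  haveI : UniversallyInjective f := MorphismProperty.of_isPullback hsq.flip inferInstance
  haveI : ExpChar k p := ExpChar.prime Fact.out
  obtain ⟨n, hn⟩ := IsPurelyInseparable.finrank_eq_pow k E p
  have hN : ∀ y, f.finrank y = p ^ n := fun y => by
    rw [Scheme.Hom.finrank_of_isPullback g' f _ g hsq.flip y]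
    refine (Scheme.Hom.finrank_SpecMap_algebraMap k E (g y)).trans ?_
    rw [← hn]
    exact congrFun (Module.rankAtStalk_eq_finrank_of_free (R := k) (M := E)) _
  obtain ⟨h₁, h₂⟩ := Groth.Agent.PIChow.bijective_pull f (f.injective) (f.surjective) (p ^ n) hN hX hX' hδ i
  refine ⟨fun β hβ => ?_, fun α hα α' hα' e e0 => ⟨n, h₂ α hα α' hα' e e0⟩⟩
  obtain ⟨α, hα, α', hα', e, e'⟩ := h₁ β hβ
  exact ⟨α, hα, α', hα', n, e, e'⟩

end Groth.Agent.S15556
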