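import Groth.Statements.S15558
-- import your own Groth.Agent.* helpers here

set_option autoImplicit false
universe u v
open CategoryTheory AlgebraicGeometry
open Lim

namespace Groth.Agent.S15558

set_option backward.isDefEq.respectTransparency false

open Limits Opposite TopologicalSpace

noncomputable section

variable {Λ : Type v} [PartialOrder Λ] (hΛ : ∀ l : Λ, (Set.Iic l).Finite) (X : Λᵒᵖ ⥤ Scheme.{u})

/-- The transition morphism. -/
abbrev tr {a b : Λ} (h : a ≤ b) : X.obj (op b) ⟶ X.obj (op a) := X.map (homOfLE h).op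

/-- Open sets chosen at all indices below `m`. -/
abbrev Fam (m : Λ) := ∀ ν : Λ, ν ≤ m → (X.obj (op ν)).Opens

/-- A finite affine cover of a compact open. -/
def cov {Z : Scheme.{u}} (W : Z.Opens) : Set Z.Opens :=
  open Classical in
  if h : ∃ s : Set Z.Opens, s.Finite ∧ (∀ V ∈ s, IsAffineOpen V ∧ V ≤ W) ∧ ∀ x ∈ W, ∃ V ∈ s, x ∈ V
  then h.choose else ∅

theorem cov_finite {Z : Scheme.{u}} (W : Z.Opens) : (cov W).Finite := by
  unfold cov; split
  · next h => exact h.choose_spec.1
  · exact Set.finite_empty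

theorem cov_mem {Z : Scheme.{u}} {W V : Z.Opens} (h : V ∈ cov W) : IsAffineOpen V ∧ V ≤ W := by
  unfold cov at h; split at h
  · next h' => exact h'.choose_spec.2.1 V h
  · exact absurd h (Set.notMem_empty _)

theorem exists_mem_cov {Z : Scheme.{u}} {W : Z.Opens} (hW : IsCompact (W : Set Z)) {x : Z} (hx : x ∈ W) :
    ∃ V ∈ cov W, x ∈ V := by
  have h : ∃ s : Set Z.Opens, s.Finite ∧ (∀ V ∈ s, IsAffineOpen V ∧ V ≤ W) ∧ ∀ x ∈ W, ∃ V ∈ s, x ∈ V := by
    have loc : ∀ y ∈ W, ∃ U : Z.Opens, y ∈ U ∧ U ≤ W ∧ IsAffineOpen U := fun y hy => by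
      obtain ⟨_, ⟨U, hU, rfl⟩, hyU, hUW⟩ := Z.isBasis_affineOpens.exists_subset_of_mem_open hy W.2
      exact ⟨U, hyU, hUW, hU⟩
    choose U h1 h2 h3 using loc
    obtain ⟨t, ht⟩ := hW.elim_finite_subcover (fun y : ↥W => (U y.1 y.2 : Set Z)) (fun y => (U y.1 y.2).2)
      fun y hy => Set.mem_iUnion.2 ⟨⟨y, hy⟩, h1 y hy⟩
    refine ⟨(fun y : ↥W => U y.1 y.2) '' t, t.finite_toSet.image _, ?_, fun z hz => ?_⟩
    · rintro _ ⟨y, -, rfl⟩; exact ⟨h3 _ _, h2 _ _⟩
    · obtain ⟨y, hy, hzy⟩ := Set.mem_iUnion₂.1 (ht hz)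
      exact ⟨_, ⟨y, hy, rfl⟩, hzy⟩
  unfold cov; rw [dif_pos h]
  exact h.choose_spec.2.2 x hx

/-- The indices strictly below. -/
def below (m : Λ) : Finset Λ := ((hΛ m).subset Set.Iio_subset_Iic_self).toFinset

theorem mem_below {m ν : Λ} : ν ∈ below hΛ m ↔ ν < m := by simp [below]

/-- The open determined by the choices strictly below. -/
def meet (m : Λ) (c : ∀ ν, ν < m → (X.obj (op ν)).Opens) : (X.obj (op m)).Opens :=
  (below hΛ m).attach.inf fun ν =>
    tr X ((mem_below hΛ).1 ν.2).le ⁻¹ᵁ c ν.1 ((mem_below hΛ).1 ν.2)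

theorem mem_meet {m : Λ} {c : ∀ ν, ν < m → (X.obj (op ν)).Opens} {x : X.obj (op m)} :
    x ∈ meet hΛ X m c ↔ ∀ (ν : Λ) (h : ν < m), tr X h.le x ∈ c ν h := by
  rw [meet, ← SetLike.mem_coe, Opens.coe_finset_inf, Finset.inf_eq_iInf]
  simp only [Set.mem_iInter, Function.comp_apply, Set.iInf_eq_iInter, Finset.mem_attach, true_implies]
  exact ⟨fun H ν h => H ⟨ν, (mem_below hΛ).2 h⟩, fun H ν => H _ _⟩

include hΛ in
theorem wf : WellFounded ((· < ·) : Λ → Λ → Prop) :=
  Subrelation.wf (r := InvImage (· < ·) fun l => (hΛ l).toFinset.card)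
    (fun {a b} h => Finset.card_lt_card (Set.Finite.toFinset_ssubset_toFinset.2 (Set.Iic_ssubset_Iic.2 h)))
    (InvImage.wf _ wellFounded_lt)

/-- The components of the affine scheme lying over `X_l`. -/
def C (l : Λ) : Type (max u v) :=
  {c : Fam X l // ∀ (m : Λ) (h : m ≤ l), c m h ∈ cov (meet hΛ X m fun ν hν => c ν (hν.le.trans h))}

/-- Restriction of components. -/
def res {m l : Λ} (h : m ≤ l) (c : C hΛ X l) : C hΛ X m :=
  ⟨fun ν hν => c.1 ν (hν.trans h), fun ν hν => c.2 ν (hν.trans h)⟩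

theorem finite_C (l : Λ) : Finite (C hΛ X l) := by
  induction l using (wf hΛ).induction with
  | h l ih =>
    haveI : ∀ ν : Set.Iio l, Finite (C hΛ X ν.1) := fun ν => ih ν.1 ν.2
    haveI : Finite (Set.Iio l) := ((hΛ l).subset Set.Iio_subset_Iic_self).to_subtype
    let R := ∀ ν : Set.Iio l, C hΛ X ν.1
    let top : R → Set (X.obj (op l)).Opens := fun r => cov (meet hΛ X l fun ν hν => (r ⟨ν, hν⟩).1 ν le_rfl)
    haveI : ∀ r, Finite (top r) := fun r => (cov_finite _).to_subtype
    let Φ : C hΛ X l → Σ r : R, top r := fun c => ⟨fun ν => res hΛ X ν.2.le c, ⟨c.1 l le_rfl, c.2 l le_rfl⟩⟩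
    refine Finite.of_injective Φ fun c c' h => Subtype.ext (funext fun ν => funext fun hν => ?_)
    rcases hν.lt_or_eq with hlt | rfl
    · have h1 := congrArg (fun p : Σ r : R, top r => ((p.1 ⟨ν, hlt⟩).1 ν le_rfl)) h
      exact h1
    · exact congrArg (fun p : Σ r : R, top r => (p.2.1 : (X.obj (op ν)).Opens)) h

variable {X} in
theorem C_le {m l : Λ} (h : m ≤ l) (c : C hΛ X l) : c.1 l le_rfl ≤ tr X h ⁻¹ᵁ c.1 m h := by
  intro x hx
  rcases h.lt_or_eq with hlt | rfl
  · exact (mem_meet hΛ X).1 ((cov_mem (c.2 l le_rfl)).2 hx) m hlt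
  · show tr X h x ∈ c.1 m h
    rw [show tr X h = 𝟙 _ from X.map_id _]
    exact hx

theorem exists_C [∀ l : Λ, CompactSpace ↥(X.obj (op l))] [∀ l : Λ, QuasiSeparatedSpace ↥(X.obj (op l))]
    {l : Λ} (y : X.obj (op l)) : ∃ c : C hΛ X l, y ∈ c.1 l le_rfl := by
  classical
  let P := fun m : Λ => ∀ h : m ≤ l, {V : (X.obj (op m)).Opens // IsAffineOpen V ∧ tr X h y ∈ V}
  have step : ∀ m, (rec : ∀ ν, ν < m → P ν) → ∀ h : m ≤ l,
      ∃ V ∈ cov (meet hΛ X m fun ν hν => (rec ν hν (hν.le.trans h)).1), tr X h y ∈ V := by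
    intro m rec h
    refine exists_mem_cov ?_ ((mem_meet hΛ X).2 fun ν hν => ?_)
    · have : ∀ s : Finset ↥(below hΛ m), IsCompact ((s.inf fun ν =>
          tr X ((mem_below hΛ).1 ν.2).le ⁻¹ᵁ (rec ν.1 ((mem_below hΛ).1 ν.2) (((mem_below hΛ).1 ν.2).le.trans h)).1 :
            (X.obj (op m)).Opens) : Set (X.obj (op m))) := by
        intro s
        induction s using Finset.induction_on with
        | empty => simpa using isCompact_univ
        | insert a s ha ih =>
          rw [Finset.inf_insert, Opens.coe_inf]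
          haveI : QuasiCompact (tr X ((mem_below hΛ).1 a.2).le) :=
            quasiCompact_of_compactSpace _
          exact QuasiSeparatedSpace.inter_isCompact _ _
            ((rec a.1 ((mem_below hΛ).1 a.2) _).1.isOpen.preimage (Scheme.Hom.continuous _))
            (Scheme.Hom.isCompact_preimage _ (rec a.1 ((mem_below hΛ).1 a.2) _).2.1.isCompact)
            (Opens.isOpen _) ih
      exact this _
    · have := (rec ν hν (hν.le.trans h)).2.2
      have e : tr X (hν.le.trans h) y = tr X hν.le (tr X h y) := by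
        rw [← Scheme.Hom.comp_apply]; simp only [tr, ← Functor.map_comp]; rfl
      exact (congrArg (· ∈ (rec ν hν (hν.le.trans h)).1) e).mp this
  let F : ∀ m, (∀ ν, ν < m → P ν) → P m := fun m rec h =>
    ⟨(step m rec h).choose, (cov_mem (step m rec h).choose_spec.1).1, (step m rec h).choose_spec.2⟩
  let f : ∀ m, P m := (wf hΛ).fix F
  have hf : ∀ m, f m = F m fun ν _ => f ν := fun m => (wf hΛ).fix_eq F m
  refine ⟨⟨fun m h => (f m h).1, fun m h => ?_⟩, ?_⟩
  · show (f m h).1 ∈ _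
    rw [hf m]
    exact (step m (fun ν _ => f ν) h).choose_spec.1
  · have := (f l le_rfl).2.2
    have e : tr X (le_refl l) y = y := by rw [show tr X (le_refl l) = 𝟙 _ from X.map_id _]; rfl
    exact (congrArg (· ∈ (f l le_rfl).1) e).mp this

/-- Let Λ be a cofinite partially ordered set (every element has finitely many elements below it; Λ need
not be directed) and X : Λᵒᵖ ⥤ Scheme an inverse system of quasi-compact quasi-separated schemes.
Then there exist an inverse system Y : Λᵒᵖ ⥤ Scheme of affine schemes and a morphism of inverse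
systems π : Y ⟶ X such that each π_λ : Y_λ → X_λ is a Zariski covering: it is surjective and Y_λ is
covered by pairwise disjoint open subschemes each of which maps to X_λ by an open immersion. (The
published statement is for schemes over a fixed perfect field; the base field plays no role, and the
version for schemes over a base follows by composing with the structure morphisms.) -/
theorem result {Λ : Type v} [PartialOrder Λ]
    (hΛ : ∀ l : Λ, (Set.Iic l).Finite) (X : Λᵒᵖ ⥤ Scheme.{u})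
    (hqc : ∀ l : Λ, CompactSpace ↥(X.obj (Opposite.op l)))
    (hqs : ∀ l : Λ, QuasiSeparatedSpace ↥(X.obj (Opposite.op l))) :
    ∃ (Y : Λᵒᵖ ⥤ Scheme.{u}) (π : Y ⟶ X), ∀ l : Λ,
      IsAffine (Y.obj (Opposite.op l)) ∧ Surjective (π.app (Opposite.op l)) ∧
        ∃ (ι : Type u) (U : ι → (Y.obj (Opposite.op l)).Opens),
          Pairwise (fun i j => Disjoint (U i) (U j)) ∧ iSup U = ⊤ ∧
            ∀ i, IsOpenImmersion ((U i).ι ≫ π.app (Opposite.op l)) := by
  classical
  haveI := hqc
  haveI := hqs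
  haveI : ∀ l, Finite (C hΛ X l) := finite_C hΛ X
  let Yo : Λ → Scheme.{u} := fun l => ∐ fun c : C hΛ X l => (c.1 l le_rfl).toScheme
  let Ym : ∀ {m l : Λ}, m ≤ l → (Yo l ⟶ Yo m) := fun {m l} h =>
    Sigma.desc fun c => (tr X h).resLE (c.1 m h) (c.1 l le_rfl) (C_le hΛ h c) ≫
      Sigma.ι (fun c : C hΛ X m => (c.1 m le_rfl).toScheme) (res hΛ X h c)
  let Y : Λᵒᵖ ⥤ Scheme.{u} :=
    { obj := fun l => Yo l.unop
      map := fun f => Ym (leOfHom f.unop)
      map_id := fun l => by
        refine Sigma.hom_ext _ _ fun c => ?_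
        simp only [Ym, Sigma.ι_desc, Category.comp_id]
        have : tr X (le_refl l.unop) = 𝟙 _ := X.map_id _
        simp only [this, Scheme.Hom.resLE_id, Scheme.homOfLE_rfl]
        exact Category.id_comp _
      map_comp := fun {a b c} f g => by
        refine Sigma.hom_ext _ _ fun d => ?_
        simp only [Ym, Sigma.ι_desc, Sigma.ι_desc_assoc, Category.assoc]
        erw [Scheme.Hom.resLE_comp_resLE_assoc]
        simp [tr, ← Functor.map_comp]
        rfl }
  let π : Y ⟶ X :=
    { app := fun l => Sigma.desc fun c => (c.1 l.unop le_rfl).ι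
      naturality := fun a b f => by
        refine Sigma.hom_ext _ _ fun c => ?_
        simp only [Y, Ym, Sigma.ι_desc_assoc, Category.assoc, Sigma.ι_desc]
        exact Scheme.Hom.resLE_comp_ι _ _ }
  refine ⟨Y, π, fun l => ⟨?_, ?_, ?_⟩⟩
  · haveI : ∀ c : C hΛ X l, IsAffine (c.1 l le_rfl).toScheme := fun c => (cov_mem (c.2 l le_rfl)).1
    show IsAffine (Yo l)
    infer_instance
  · refine ⟨fun y => ?_⟩
    obtain ⟨c, hc⟩ := exists_C hΛ X y
    refine ⟨Sigma.ι (fun c : C hΛ X l => (c.1 l le_rfl).toScheme) c ⟨y, hc⟩, ?_⟩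
    rw [← Scheme.Hom.comp_apply]
    erw [Sigma.ι_desc]
    rfl
  · refine ⟨Shrink.{u, max u v} (C.{u, v} hΛ X l), fun i => (Sigma.ι (fun c : C hΛ X l => (c.1 l le_rfl).toScheme) ((equivShrink.{u, max u v} _).symm i)).opensRange,
      fun i j hij => disjoint_opensRange_sigmaι _ _ _ fun h => hij ((equivShrink.{u, max u v} _).symm.injective h), ?_, fun i => ?_⟩
    · refine eq_top_iff.2 fun x _ => ?_
      obtain ⟨c, z, hz⟩ := (sigmaOpenCover (fun c : C hΛ X l => (c.1 l le_rfl).toScheme)).exists_eq x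
      exact Opens.mem_iSup.2 ⟨equivShrink.{u, max u v} _ c, by
        rw [Equiv.symm_apply_apply]; exact ⟨z, hz⟩⟩
    · set c := (equivShrink.{u, max u v} (C hΛ X l)).symm i
      let ι' := Sigma.ι (fun c : C hΛ X l => (c.1 l le_rfl).toScheme) c
      have : ι'.isoOpensRange.inv ≫ (c.1 l le_rfl).ι = ι'.opensRange.ι ≫ π.app (op l) := by
        rw [← cancel_epi ι'.isoOpensRange.hom, Iso.hom_inv_id_assoc, Scheme.Hom.isoOpensRange_hom_ι_assoc]
        exact (Sigma.ι_desc (f := fun c : C hΛ X l => (c.1 l le_rfl).toScheme) (fun c => (c.1 l le_rfl).ι) c).symm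
      show IsOpenImmersion (ι'.opensRange.ι ≫ π.app (op l))
      rw [← this]
      infer_instance

end

end Groth.Agent.S15558
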