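import Groth.Statements.S15559
import Groth.Agent.PerfModelLib.Tower
import Groth.Agent.PerfSchLib.Maps
import Groth.Agent.S0591
import Groth.Agent.S2075

set_option autoImplicit false
universe u
open CategoryTheory AlgebraicGeometry
open FrobSch

namespace Groth.Agent.S15559

open CategoryTheory CategoryTheory.Limits AlgebraicGeometry

set_option backward.isDefEq.respectTransparency false
set_option backward.defeqAttrib.useBackward true
set_option linter.style.haveILetI false

open Opposite Groth.Agent.PerfModelLib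

theorem exists_tower_limit (p : ℕ) [Fact p.Prime] (X : Scheme.{u}) [FrobSch.IsCharP X p] :
    ∃ (D : (ULift.{u} ℕ)ᵒᵖ ⥤ Scheme.{u}) (_ : ∀ j, D.obj j = X) (c : Cone D) (_ : IsLimit c)
      (_ : FrobSch.IsCharP c.pt p) (e : ∀ j, D.obj j ≅ X),
      (∀ {i j} (a : i ⟶ j), IsAffineHom (D.map a)) ∧ FrobSch.IsPerfection (XP := c.pt) (c.π.app (op ⟨0⟩) ≫ (e _).hom) p ∧
        ∀ j, (c.π.app j ≫ (e j).hom) ≫ fp p X j.unop.down = c.π.app (op ⟨0⟩) ≫ (e _).hom := by
  let F : ULift.{u} ℕ ⥤ ℕ := Monotone.functor (f := fun n : ULift.{u} ℕ => n.down) fun _ _ h => h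
  let D : (ULift.{u} ℕ)ᵒᵖ ⥤ Scheme.{u} := F.op ⋙ tower p X
  haveI : ∀ {i j : (ULift.{u} ℕ)ᵒᵖ} (a : i ⟶ j), IsAffineHom (D.map a) := fun a =>
    inferInstanceAs (IsAffineHom (fp p X _))
  haveI : IsDirected (ULift.{u} ℕ) (· ≤ ·) := ⟨fun a b => ⟨⟨max a.down b.down⟩, le_max_left a.down b.down, le_max_right a.down b.down⟩⟩
  obtain ⟨c, hc, haff⟩ := AffLim.exists_isLimit D
  let π : ℕ → (c.pt ⟶ X) := fun n => c.π.app (op ⟨n⟩)
  haveI hP : FrobSch.IsCharP c.pt p := FrobSch.IsCharP.of_hom (π 0) p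
  have hstep : ∀ n, π (n + 1) ≫ FrobSch.frob X p = π n := fun n => by
    have h : (ULift.up n : ULift.{u} ℕ) ≤ ULift.up (n + 1) := Nat.le_succ n
    have h1 := c.w (homOfLE h).op
    rwa [show D.map (homOfLE h).op = FrobSch.frob X p from tower_map_succ p X n (homOfLE (Nat.le_succ n)).op] at h1
  have hpow : ∀ n m, π (n + m) ≫ fp p X m = π n := fun n m => by
    induction m with
    | zero => exact Category.comp_id _
    | succ m ih => rw [fp_succ', ← Category.assoc, ← Nat.add_assoc, hstep, ih]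
  have hext : ∀ {T : Scheme.{u}} (a b : T ⟶ c.pt), (∀ n, a ≫ π n = b ≫ π n) → a = b :=
    fun a b h => hc.hom_ext fun j => h j.unop.down
  let sh : Cone D :=
    { pt := c.pt
      π :=
        { app := fun j => π (j.unop.down + 1)
          naturality := fun j k f => by
            refine (Category.id_comp _).trans ?_
            have hle : k.unop.down ≤ j.unop.down := f.unop.le
            show π (k.unop.down + 1) = π (j.unop.down + 1) ≫ fp p X (j.unop.down - k.unop.down)
            rw [show j.unop.down + 1 = k.unop.down + 1 + (j.unop.down - k.unop.down) by omega, hpow] } }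
  have hs : ∀ n, hc.lift sh ≫ π n = π (n + 1) := fun n => hc.fac sh (op ⟨n⟩)
  have hperf : FrobSch.IsPerfect c.pt p := by
    refine ⟨hc.lift sh, hext _ _ fun n => ?_, hext _ _ fun n => ?_⟩
    · rw [Category.assoc, hs, Category.id_comp, FrobSch.frob_comp, hstep]
    · rw [Category.assoc, Category.id_comp, FrobSch.frob_comp, reassoc_of% (hs n), hstep]
  refine ⟨D, fun _ => rfl, c, hc, hP, fun _ => Iso.refl X, fun a => inferInstanceAs (IsAffineHom (fp p X _)), ?_, fun j => ?_⟩
  swap
  · show (π j.unop.down ≫ 𝟙 X) ≫ fp p X j.unop.down = π 0 ≫ 𝟙 X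
    rw [Category.comp_id, Category.comp_id]
    have := hpow 0 j.unop.down
    rwa [Nat.zero_add] at this
  show FrobSch.IsPerfection (π 0 ≫ 𝟙 X) p
  rw [Category.comp_id]
  refine ⟨hperf, fun Y _ hY => ⟨fun a b hab => ?_, fun g => ?_⟩⟩
  · refine hext _ _ fun n => ?_
    haveI := isIso_fp p Y (h := hY) n
    rw [← cancel_epi (fp p Y n), ← Category.assoc, ← Category.assoc]
    have e : ∀ t : Y ⟶ c.pt, (fp p Y n ≫ t) ≫ π n = t ≫ π 0 := fun t => by
      rw [fp_comp p Y t, Category.assoc, fp_comp p c.pt (π n)]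
      have := hpow 0 n
      rw [Nat.zero_add] at this
      rw [this]
    rw [e a, e b]
    exact hab
  · haveI : ∀ n, IsIso (fp p Y n) := isIso_fp p Y (h := hY)
    let cY : Cone D :=
      { pt := Y
        π :=
          { app := fun j => inv (fp p Y j.unop.down) ≫ g
            naturality := fun j k f => by
              refine (Category.id_comp _).trans ?_
              have hle : k.unop.down ≤ j.unop.down := f.unop.le
              show inv (fp p Y k.unop.down) ≫ g = (inv (fp p Y j.unop.down) ≫ g) ≫ fp p X (j.unop.down - k.unop.down)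
              rw [IsIso.inv_comp_eq, Category.assoc, ← fp_comp p Y g, ← Category.assoc, ← Category.assoc]
              refine (Category.id_comp g).symm.trans (congrArg (· ≫ g) ?_)
              rw [← cancel_epi (fp p Y (j.unop.down - k.unop.down)), Category.comp_id, ← Category.assoc, ← Category.assoc,
                ← fp_add, Nat.sub_add_cancel hle, IsIso.hom_inv_id, Category.id_comp] } }
    refine ⟨hc.lift cY, ?_⟩
    show hc.lift cY ≫ π 0 = g
    refine (hc.fac cY (op ⟨0⟩)).trans ?_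
    show inv (fp p Y 0) ≫ g = g
    rw [IsIso.inv_comp_eq]; exact (Category.id_comp g).symm

theorem isPerfection_of_twist (p : ℕ) [Fact p.Prime] {P X : Scheme.{u}} [FrobSch.IsCharP P p] [FrobSch.IsCharP X p]
    (π₀ π : P ⟶ X) (n : ℕ) (hn : π ≫ fp p X n = π₀) (h : FrobSch.IsPerfection π₀ p) :
    FrobSch.IsPerfection π p := by
  refine ⟨h.1, fun T _ hT => ?_⟩
  haveI := isIso_fp p T (h := hT) n
  have key : ∀ a : T ⟶ P, (fp p T n ≫ a) ≫ π = a ≫ π₀ := fun a => by
    rw [← hn, ← fp_comp p P π n, ← Category.assoc, ← fp_comp p T a n]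
  refine ⟨fun a b hab => ?_, fun g => ?_⟩
  · have ha := key (inv (fp p T n) ≫ a)
    have hb := key (inv (fp p T n) ≫ b)
    rw [← Category.assoc, IsIso.hom_inv_id, Category.id_comp] at ha hb
    exact (cancel_epi (inv (fp p T n))).1 ((h.2 T hT).1 (ha.symm.trans (hab.trans hb)))
  · obtain ⟨a, ha⟩ := (h.2 T hT).2 g
    exact ⟨fp p T n ≫ a, (key a).trans ha⟩

theorem isPerfection_of_isPullback (p : ℕ) [Fact p.Prime] {Z Z₀ W Y Y₀ : Scheme.{u}} [FrobSch.IsCharP Z p]
    [FrobSch.IsCharP Y p] (πZ : Z ⟶ Z₀) (hZ : FrobSch.IsPerfection πZ p) (q : Z₀ ⟶ W) (f : Z₀ ⟶ Y) (h : W ⟶ Y₀)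
    (π : Y ⟶ Y₀) (hπ : FrobSch.IsPerfection π p) (sq : IsPullback q f h π) :
    FrobSch.IsPerfection (πZ ≫ q) p := by
  refine ⟨hZ.1, fun T _ hT => ⟨fun a b hab => ?_, fun g => ?_⟩⟩
  · simp only at hab
    refine (hZ.2 T hT).1 (sq.hom_ext ?_ ?_)
    · simpa only [Category.assoc] using hab
    · refine (hπ.2 T hT).1 ?_
      simp only [Category.assoc, ← sq.w]
      simp only [← Category.assoc] at hab ⊢
      rw [hab]
  · obtain ⟨a, ha⟩ := (hπ.2 T hT).2 (g ≫ h)
    simp only at ha
    obtain ⟨b, hb⟩ := (hZ.2 T hT).2 (sq.lift g a ha.symm)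
    simp only at hb
    exact ⟨b, by simp only [← Category.assoc, hb, sq.lift_fst]⟩


/-- Call a morphism V → U of quasi-compact quasi-separated perfect schemes of characteristic p flat of
finite presentation in the perfect sense when it factors as V → V₀ → U with V → V₀ a perfection map
(V perfect and universal for morphisms from perfect schemes of characteristic p into V₀) and V₀ → U
flat, locally of finite presentation, quasi-compact and quasi-separated; faithfully flat of finite
presentation when moreover V₀ → U is surjective. If Z → Y and Y → X are flat of finite presentation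
in the perfect sense, so is the composite Z → X, and it is faithfully flat of finite presentation
when both are. Here the data are given as Y₀ → X with perfection map Y → Y₀ and Z₀ → Y with
perfection map Z → Z₀, and the conclusion produces W₀ → X with a perfection map Z → W₀ over X. (The
published proposition is stated for pro-objects of perfections of schemes of finite type over a
perfect field and also for morphisms flat of profinite presentation; this row is its case of
schemes, which its proof treats first, with the base field replaced by characteristic p.) -/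
theorem result (p : ℕ) [Fact p.Prime]
    {X Y Z Y₀ Z₀ : Scheme.{u}} [FrobSch.IsCharP X p] [FrobSch.IsCharP Y p] [FrobSch.IsCharP Z p]
    [FrobSch.IsCharP Y₀ p] [FrobSch.IsCharP Z₀ p]
    [CompactSpace ↥X] [QuasiSeparatedSpace ↥X] [CompactSpace ↥Y] [QuasiSeparatedSpace ↥Y]
    [CompactSpace ↥Z] [QuasiSeparatedSpace ↥Z] (hX : FrobSch.IsPerfect X p)
    (g₀ : Y₀ ⟶ X) [Flat g₀] [LocallyOfFinitePresentation g₀] [QuasiCompact g₀] [QuasiSeparated g₀]
    (πY : Y ⟶ Y₀) (hY : FrobSch.IsPerfection πY p)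
    (f₀ : Z₀ ⟶ Y) [Flat f₀] [LocallyOfFinitePresentation f₀] [QuasiCompact f₀] [QuasiSeparated f₀]
    (πZ : Z ⟶ Z₀) (hZ : FrobSch.IsPerfection πZ p) :
    ∃ (W₀ : Scheme.{u}) (h₀ : W₀ ⟶ X) (ϖ : Z ⟶ W₀),
      Flat h₀ ∧ LocallyOfFinitePresentation h₀ ∧ QuasiCompact h₀ ∧ QuasiSeparated h₀ ∧
        FrobSch.IsPerfection ϖ p ∧ ϖ ≫ h₀ = πZ ≫ f₀ ≫ πY ≫ g₀ ∧
          (Surjective g₀ → Surjective f₀ → Surjective h₀) := by
  haveI : CompactSpace ↥Y₀ := QuasiCompact.compactSpace_of_compactSpace g₀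
  haveI : QuasiSeparatedSpace ↥Y₀ := quasiSeparatedSpace_of_quasiSeparated g₀
  obtain ⟨D, hD, c, hc, hP, e, haff, hperf, hfac⟩ := exists_tower_limit p Y₀
  haveI := hP
  haveI : ∀ (i j : (ULift.{u} ℕ)ᵒᵖ) (f : i ⟶ j), IsAffineHom (D.map f) := fun _ _ f => haff f
  haveI : IsDirected (ULift.{u} ℕ) (· ≤ ·) := ⟨fun a b => ⟨⟨max a.down b.down⟩, le_max_left a.down b.down, le_max_right a.down b.down⟩⟩
  haveI : ∀ i, CompactSpace (D.obj i) := fun i => by rw [hD i]; infer_instance
  haveI : ∀ i, QuasiSeparatedSpace (D.obj i) := fun i => by rw [hD i]; infer_instance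
  obtain ⟨E, hE⟩ := PerfSchLib.IsPerfection.exists_iso hY hperf
  let f' : Z₀ ⟶ c.pt := f₀ ≫ E.hom
  obtain ⟨n, Z₁, f₁, g, hlfp, hqc, hqs, sq⟩ := S0591.result D c hc Z₀ f'
  haveI := hlfp; haveI := hqc; haveI := hqs
  haveI : CompactSpace ↥Z₁ := QuasiCompact.compactSpace_of_compactSpace f₁
  haveI : QuasiSeparatedSpace ↥Z₁ := quasiSeparatedSpace_of_quasiSeparated f₁
  obtain ⟨i, φ, Xi, Yi, fi, gi, pY, pX, hYi, hXi, hfl⟩ :=
    S2075.result D c hc n f₁ (𝟙 (D.obj n)) f' (𝟙 c.pt) (c.π.app n) g (IsPullback.of_id_snd) sq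
  haveI : IsIso gi := hYi.isIso_snd_of_isIso
  have hsq : IsPullback pX (fi ≫ gi) f₁ (D.map φ) :=
    hXi.of_iso (Iso.refl _) (Iso.refl _) (asIso gi) (Iso.refl _) (by simp) (by simp) (by simp)
      (by simpa using hYi.w)
  let h₁ : Xi ⟶ Y₀ := (fi ≫ gi) ≫ (e i).hom
  have hw : g ≫ f₁ = (f' ≫ c.π.app i) ≫ D.map φ := by rw [Category.assoc, c.w]; exact sq.w
  let q : Z₀ ⟶ Xi := hsq.lift g (f' ≫ c.π.app i) hw
  have sq' : IsPullback q f' (fi ≫ gi) (c.π.app i) := by
    refine IsPullback.of_right ?_ (hsq.lift_snd _ _ _) hsq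
    rw [hsq.lift_fst, c.w]
    exact sq
  let τ : c.pt ⟶ Y₀ := c.π.app i ≫ (e i).hom
  have sq'' : IsPullback q f' h₁ τ :=
    sq'.of_iso (Iso.refl _) (Iso.refl _) (Iso.refl _) (e i) (by simp) (by simp) (by simp [h₁]) (by simp [τ])
  have hτ : FrobSch.IsPerfection τ p := isPerfection_of_twist p _ τ i.unop.down (hfac i) hperf
  haveI : LocallyOfFinitePresentation (fi ≫ gi) := MorphismProperty.of_isPullback hsq hlfp
  haveI : QuasiCompact (fi ≫ gi) := MorphismProperty.of_isPullback hsq hqc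
  haveI : QuasiSeparated (fi ≫ gi) := MorphismProperty.of_isPullback hsq hqs
  haveI := hfl
  haveI : IsIso (fp p X i.unop.down) := isIso_fp p X (h := hX) _
  haveI : Flat (fi ≫ gi) := inferInstance
  haveI : Flat h₁ := inferInstanceAs (Flat ((fi ≫ gi) ≫ (e i).hom))
  haveI : LocallyOfFinitePresentation h₁ := inferInstanceAs (LocallyOfFinitePresentation ((fi ≫ gi) ≫ (e i).hom))
  haveI : QuasiCompact h₁ := inferInstanceAs (QuasiCompact ((fi ≫ gi) ≫ (e i).hom))
  haveI : QuasiSeparated h₁ := inferInstanceAs (QuasiSeparated ((fi ≫ gi) ≫ (e i).hom))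
  haveI : Flat (g₀ ≫ fp p X i.unop.down) := inferInstance
  refine ⟨Xi, h₁ ≫ g₀ ≫ fp p X i.unop.down, πZ ≫ q, inferInstance, inferInstance, inferInstance, inferInstance,
    isPerfection_of_isPullback p πZ hZ q f' h₁ τ hτ sq'', ?_, fun hg hf => ?_⟩
  · rw [Category.assoc, sq''.w_assoc, ← fp_comp p Y₀ g₀]
    show πZ ≫ (f₀ ≫ E.hom) ≫ τ ≫ fp p Y₀ i.unop.down ≫ g₀ = _
    rw [Category.assoc, ← Category.assoc τ, hfac i, ← Category.assoc E.hom, hE]
  · haveI := hg; haveI := hf
    haveI : Surjective τ := PerfSchLib.surjective hτ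
    haveI : Surjective f' := inferInstanceAs (Surjective (f₀ ≫ E.hom))
    haveI : Surjective (q ≫ h₁) := by rw [sq''.w]; infer_instance
    haveI : Surjective h₁ := Surjective.of_comp q h₁
    infer_instance

end Groth.Agent.S15559
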