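import Groth.Statements.S1556
import Groth.Agent.GeomRedPtLib.SmoothPt
import Groth.Agent.GeomRedPtLib.RegSep
import Groth.Agent.FibreComp.DimSpace
set_option backward.isDefEq.respectTransparency false
attribute [local instance] Curv2.stalkAlgebra
attribute [local instance 10] specializationOrder
-- import your own Groth.Agent.* helpers here

set_option autoImplicit false
universe u
open CategoryTheory CategoryTheory.Limits AlgebraicGeometry
attribute [local instance] Curv2.resAlgebra
open Variety

namespace Groth.Agent.S1556

/-- Let X be a curve over k (integral, separated, of finite type, of dimension one) and x a closed point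
whose residue field is separable over k. Then the local ring at x is a discrete valuation ring if
and only if x lies in the smooth locus of X → Spec k. -/
theorem result (k : Type u) [Field k] (X : Scheme.{u}) [X.Over (Spec (CommRingCat.of k))] [IsIntegral X]
    [IsSeparated (X ↘ (Spec (CommRingCat.of k)))] [LocallyOfFinitePresentation (X ↘ (Spec (CommRingCat.of k)))] [QuasiCompact (X ↘ (Spec (CommRingCat.of k)))]
    (hdim : topologicalKrullDim X = 1) (x : X) (hx : IsClosed ({x} : Set X))
    [Algebra.IsSeparable k (X.residueField x)] :
    IsDiscreteValuationRing (X.presheaf.stalk x) ↔ x ∈ (X ↘ (Spec (CommRingCat.of k))).smoothLocus := by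
  let A := X.presheaf.stalk x
  haveI : IsLocallyNoetherian X := LocallyOfFiniteType.isLocallyNoetherian (X ↘ Spec (CommRingCat.of k))
  rw [GeomRedPtLib.mem_smoothLocus_iff_formallySmooth_stalk, GeomRedPtLib.formallySmooth_stalk_iff_isGeometricallyRegular]
  haveI : Algebra.IsSeparable k (IsLocalRing.ResidueField A) := ‹Algebra.IsSeparable k (X.residueField x)›
  haveI : Algebra.FormallyEtale k (IsLocalRing.ResidueField A) := Algebra.FormallyEtale.of_isSeparable _ _
  haveI : Algebra.IsGeometricallyReduced k (IsLocalRing.ResidueField A) := S2451.result.1 inferInstance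
  constructor
  · intro h
    haveI : IsRegularLocalRing A := inferInstance
    exact GeomRedPtLib.isGeometricallyRegular_of_separable_residue
  · intro h
    haveI := h k inferInstance
    haveI : IsRegularRing A := IsRegularRing.of_ringEquiv (Algebra.TensorProduct.lid k A).toRingEquiv
    haveI : IsRegularLocalRing A := IsRegularLocalRing.of_isRegularRing_of_isLocalRing A
    have hle : ringKrullDim A ≤ 1 := hdim ▸ FibreComp.ringKrullDim_stalk_le_topologicalKrullDim x
    have hnf : ¬ IsField A := by
      intro hF
      have h0 : ringKrullDim A = 0 := ringKrullDim_eq_zero_of_isField hF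
      rw [ringKrullDim_stalk_eq_coheight, ← WithBot.coe_zero, WithBot.coe_inj, Order.coheight_eq_zero] at h0
      have hgp : x = genericPoint X :=
        ((h0 (genericPoint_specializes x)).antisymm (genericPoint_specializes x)).symm
      have huniv : (Set.univ : Set X) = {x} := by
        rw [← genericPoint_spec X |>.def, ← hgp, hx.closure_eq]
      haveI : Subsingleton X := ⟨fun a b => by
        have ha : a ∈ ({x} : Set X) := huniv ▸ Set.mem_univ a
        have hb : b ∈ ({x} : Set X) := huniv ▸ Set.mem_univ b
        rw [Set.mem_singleton_iff.1 ha, Set.mem_singleton_iff.1 hb]⟩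
      haveI : Nonempty X := ⟨x⟩
      have : topologicalKrullDim X ≤ 0 := topologicalKrullDim_zero_of_discreteTopology X
      rw [hdim] at this
      exact absurd this (not_le.2 zero_lt_one)
    refine ((IsDiscreteValuationRing.TFAE A hnf).out 0 4).2 ?_
    have h2 := IsRegularLocalRing.spanFinrank_maximalIdeal (R := A)
    rw [← h2] at hle
    have h3 : (IsLocalRing.maximalIdeal A).spanFinrank ≤ 1 := by exact_mod_cast hle
    rcases Nat.le_one_iff_eq_zero_or_eq_one.1 h3 with h4 | h4
    · rw [Submodule.spanFinrank_eq_zero_iff_eq_bot (IsNoetherian.noetherian _)] at h4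
      exact absurd (IsLocalRing.isField_iff_maximalIdeal_eq.2 h4) hnf
    · exact ((Submodule.spanFinrank_eq_one_iff _).1 h4).1

end Groth.Agent.S1556
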