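import Groth.Statements.S15568
import Mathlib
set_option backward.isDefEq.respectTransparency false
set_option backward.isDefEq.respectTransparency.types false

set_option autoImplicit false
universe u
open QuiverStab

namespace Groth.Agent.S15568

/-- Walls and chambers for stability weights of a quiver. Let I be the finite vertex set, d ∈ ℕ^I a
dimension vector, and call two weights θ₁, θ₂ ∈ ℝ^I orthogonal to d numerically equivalent when, for
every d′ ≤ d in ℕ^I, the numbers θ₁·d′ and θ₂·d′ are both positive, both negative or both zero. The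
walls are the hyperplanes W(d′) = {θ ⊥ d : θ·d′ = 0} of d^⊥ for d′ ≤ d such that d is not a multiple
of d′. Then θ₁ and θ₂ are numerically equivalent if and only if there is a set J₁ of such d′ for
which θ₁ and θ₂ lie in the same connected component of the locally closed subset of d^⊥ consisting
of the weights lying on W(d₁) for every d₁ ∈ J₁ and off W(d₂) for every other wall W(d₂). (Only the
quiver's vertex set enters; multiples are taken with natural-number factors.) -/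
theorem result
    (I : Type u) [Fintype I] (d : I → ℕ) (θ₁ θ₂ : I → ℝ)
    (h₁ : ∑ i, θ₁ i * (d i : ℝ) = 0) (h₂ : ∑ i, θ₂ i * (d i : ℝ) = 0) :
    (∀ d' : I → ℕ, d' ≤ d →
        SignType.sign (∑ i, θ₁ i * (d' i : ℝ)) = SignType.sign (∑ i, θ₂ i * (d' i : ℝ))) ↔
    ∃ J₁ : Set (I → ℕ), J₁ ⊆ {d' | d' ≤ d ∧ ¬ ∃ m : ℕ, d = m • d'} ∧
      θ₂ ∈ connectedComponentIn
        {θ : I → ℝ | ∑ i, θ i * (d i : ℝ) = 0 ∧ (∀ d₁ ∈ J₁, ∑ i, θ i * (d₁ i : ℝ) = 0) ∧
          ∀ d₂ : I → ℕ, d₂ ≤ d → (¬ ∃ m : ℕ, d = m • d₂) → d₂ ∉ J₁ →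
            ∑ i, θ i * (d₂ i : ℝ) ≠ 0} θ₁ := by
  classical
  let L : (I → ℕ) → (I → ℝ) → ℝ := fun d' θ => ∑ i, θ i * (d' i : ℝ)
  have hcont : ∀ d', Continuous (L d') := fun d' => by fun_prop
  constructor
  · intro h
    let J : Set (I → ℕ) := {d' | (d' ≤ d ∧ ¬ ∃ m : ℕ, d = m • d') ∧ L d' θ₁ = 0}
    refine ⟨J, fun x hx => hx.1, ?_⟩
    have hseg : IsPreconnected (segment ℝ θ₁ θ₂) := (convex_segment θ₁ θ₂).isPreconnected
    refine hseg.subset_connectedComponentIn (left_mem_segment ℝ θ₁ θ₂) ?_ (right_mem_segment ℝ θ₁ θ₂)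
    rintro θ ⟨s, t, hs, ht, hst, rfl⟩
    have hL : ∀ d', L d' (s • θ₁ + t • θ₂) = s * L d' θ₁ + t * L d' θ₂ := fun d' => by
      simp only [L, Pi.add_apply, Pi.smul_apply, smul_eq_mul, add_mul, Finset.sum_add_distrib, Finset.mul_sum, mul_assoc]
    refine ⟨by change L d _ = 0; rw [hL]; simp [L, h₁, h₂], fun d₁ hd₁ => ?_, fun d₂ hle hnm hJ => ?_⟩
    · change L d₁ _ = 0
      have hsgn := h d₁ hd₁.1.1
      change SignType.sign (L d₁ θ₁) = SignType.sign (L d₁ θ₂) at hsgn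
      rw [hd₁.2, sign_zero, eq_comm, sign_eq_zero_iff] at hsgn
      rw [hL, hd₁.2, hsgn]; simp
    · change L d₂ _ ≠ 0
      have hne : L d₂ θ₁ ≠ 0 := fun e => hJ ⟨⟨hle, hnm⟩, e⟩
      have hsgn := h d₂ hle
      change SignType.sign (L d₂ θ₁) = SignType.sign (L d₂ θ₂) at hsgn
      rw [hL]
      rcases lt_or_gt_of_ne hne with hneg | hpos
      · rw [sign_neg hneg, eq_comm, sign_eq_neg_one_iff] at hsgn
        rcases hs.lt_or_eq with hs' | rfl
        · exact ne_of_lt (by nlinarith [mul_neg_of_pos_of_neg hs' hneg])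
        · simp only [zero_add] at hst; subst hst; simpa using ne_of_lt hsgn
      · rw [sign_pos hpos, eq_comm, sign_eq_one_iff] at hsgn
        rcases hs.lt_or_eq with hs' | rfl
        · exact ne_of_gt (by nlinarith [mul_pos hs' hpos])
        · simp only [zero_add] at hst; subst hst; simpa using ne_of_gt hsgn
  · rintro ⟨J, -, hmem⟩ d' hle
    have h1m := connectedComponentIn_nonempty_iff.1 ⟨_, hmem⟩
    have h2m := connectedComponentIn_subset _ _ hmem
    change SignType.sign (L d' θ₁) = SignType.sign (L d' θ₂)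
    by_cases hm : ∃ m : ℕ, d = m • d'
    · obtain ⟨m, rfl⟩ := hm
      rcases Nat.eq_zero_or_pos m with rfl | hpos
      · have : d' = 0 := le_antisymm (by simpa using hle) (fun i => Nat.zero_le _)
        simp [L, this]
      · have hz : ∀ θ : I → ℝ, ∑ i, θ i * (((m • d') i : ℕ) : ℝ) = (m : ℝ) * L d' θ := fun θ => by
          simp only [L, Finset.mul_sum, Pi.smul_apply, smul_eq_mul, Nat.cast_mul]
          exact Finset.sum_congr rfl fun i _ => by ring
        have hm' : (m : ℝ) ≠ 0 := by positivity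
        rw [show L d' θ₁ = 0 from (mul_eq_zero.1 ((hz θ₁).symm.trans h₁)).resolve_left hm', show L d' θ₂ = 0 from (mul_eq_zero.1 ((hz θ₂).symm.trans h₂)).resolve_left hm']
    · by_cases hJ : d' ∈ J
      · rw [show L d' θ₁ = 0 from h1m.2.1 d' hJ, show L d' θ₂ = 0 from h2m.2.1 d' hJ]
      · have hne : ∀ θ ∈ connectedComponentIn
            {θ : I → ℝ | ∑ i, θ i * (d i : ℝ) = 0 ∧ (∀ d₁ ∈ J, ∑ i, θ i * (d₁ i : ℝ) = 0) ∧
              ∀ d₂ : I → ℕ, d₂ ≤ d → (¬ ∃ m : ℕ, d = m • d₂) → d₂ ∉ J →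
                ∑ i, θ i * (d₂ i : ℝ) ≠ 0} θ₁, L d' θ ≠ 0 := fun θ hθ => (connectedComponentIn_subset _ _ hθ).2.2 d' hle hm hJ
        have hself := mem_connectedComponentIn h1m
        have hiv := fun a b (ha : a ∈ connectedComponentIn {θ : I → ℝ | ∑ i, θ i * (d i : ℝ) = 0 ∧ (∀ d₁ ∈ J, ∑ i, θ i * (d₁ i : ℝ) = 0) ∧
              ∀ d₂ : I → ℕ, d₂ ≤ d → (¬ ∃ m : ℕ, d = m • d₂) → d₂ ∉ J →
                ∑ i, θ i * (d₂ i : ℝ) ≠ 0} θ₁) (hb : b ∈ connectedComponentIn {θ : I → ℝ | ∑ i, θ i * (d i : ℝ) = 0 ∧ (∀ d₁ ∈ J, ∑ i, θ i * (d₁ i : ℝ) = 0) ∧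
              ∀ d₂ : I → ℕ, d₂ ≤ d → (¬ ∃ m : ℕ, d = m • d₂) → d₂ ∉ J →
                ∑ i, θ i * (d₂ i : ℝ) ≠ 0} θ₁) =>
          isPreconnected_connectedComponentIn.intermediate_value ha hb (hcont d').continuousOn
        rcases lt_or_gt_of_ne (hne _ hself) with h1 | h1 <;> rcases lt_or_gt_of_ne (hne _ hmem) with h2 | h2
        · rw [sign_neg h1, sign_neg h2]
        · obtain ⟨θ, hθ, e⟩ := hiv _ _ hself hmem (show (0 : ℝ) ∈ _ from ⟨h1.le, h2.le⟩)
          exact absurd e (hne θ hθ)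
        · obtain ⟨θ, hθ, e⟩ := hiv _ _ hmem hself (show (0 : ℝ) ∈ _ from ⟨h2.le, h1.le⟩)
          exact absurd e (hne θ hθ)
        · rw [sign_pos h1, sign_pos h2]

end Groth.Agent.S15568
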