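import Groth.Statements.S1557
import Groth.Agent.DegDevLib.Deg

set_option autoImplicit false
universe u
open CategoryTheory CategoryTheory.Limits AlgebraicGeometry
open Variety

namespace Groth.Agent.S1557

/-- On a proper curve X over k with generic point ξ, for E finite locally free of rank n and F coherent
of generic rank r (the dimension of the stalk F_ξ over the field O_{X,ξ}), one has χ(X, E ⊗ F) = r ·
deg(E) + n · χ(X, F). -/
theorem result (k : Type u) [Field k] (X : Scheme.{u}) [X.Over (Spec (CommRingCat.of k))]
    [IsIntegral X] [IsProper (X ↘ (Spec (CommRingCat.of k)))] (hdim : topologicalKrullDim X = 1)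
    (n : ℕ) (E : X.Modules) (hE : FlatMod.IsFinLocFreeOfRank n E) (F : X.Modules) (hF : Coh.IsCoh F) :
    Curv2.euler k X (CohB1.tensorMod E F) =
      (Module.finrank (X.presheaf.stalk (genericPoint X)) (F.presheaf.stalk (genericPoint X)) : ℤ) * Curv2.deg k X E n +
        n * Curv2.euler k X F := by
  classical
  haveI := EulerIneqLib.isNoetherian_proper (X := X) k
  have hd : ∀ G : X.Modules, topologicalKrullDim (CohB1.support G) ≤ 1 := fun G =>
    (Topology.IsEmbedding.subtypeVal.isInducing.topologicalKrullDim_le).trans hdim.le
  have hη : topologicalKrullDim (closure ({genericPoint X} : Set X)) = 1 := by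
    rw [genericPoint_closure, (Homeomorph.Set.univ X).isHomeomorph.topologicalKrullDim_eq, hdim]
  have hsum : ∀ G : X.Modules, Coh.IsCoh G → DegDevLib.twEuler k n E G =
      ((Module.length (X.presheaf.stalk (genericPoint X)) (G.presheaf.stalk (genericPoint X))).toNat : ℤ) *
        DegDevLib.twEuler k n E (IntLib.compMod (genericPoint X)) := fun G hG => by
    rw [DegDevLib.twEuler_decomp k hE hG (hd G), finsum_eq_single _ (genericPoint X), if_pos hη]
    intro ξ hξ
    refine if_neg fun h => ?_
    refine IntLib.dim_closure_succ ((genericPoint_spec X).specializes trivial) (Ne.symm hξ) (r := 1)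
      (h.trans Nat.cast_one.symm) ?_
    rw [hη, Nat.cast_one]
  have hO := hsum _ (DevLib.isCoh_structureModule X)
  have h1 : Module.length (X.presheaf.stalk (genericPoint X))
      ((Coh.structureModule X).presheaf.stalk (genericPoint X)) = 1 := by
    rw [← (LinearEquiv.ofBijective (LinearMap.toSpanSingleton _ _ (CurveLib.uni X (genericPoint X)))
      (ParaFLib.bijective_oneG (genericPoint X))).length_eq]
    exact Module.length_eq_one (X.functionField) (X.functionField)
  rw [h1, DegDevLib.twEuler_structure] at hO
  have hF' := hsum F hF
  simp only [ENat.toNat_one, Nat.cast_one, one_mul] at hO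
  rw [← hO, DegDevLib.twEuler, CurveLib.euler_iso (K := k) (CurveLib.tmodComm F E), sub_eq_iff_eq_add] at hF'
  change Curv2.euler k X (CohB1.tensorMod E F) = _ at hF'
  rw [hF']
  congr 3
  haveI := hF.1
  haveI : Module.Finite (X.presheaf.stalk (genericPoint X)) (F.presheaf.stalk (genericPoint X)) :=
    PullbackMod.finite_stalk_of_isFT hF.2 _
  exact (congrArg ENat.toNat (Module.length_eq_finrank X.functionField _)).trans (ENat.toNat_coe _)

end Groth.Agent.S1557
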