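import Groth.Statements.S15573
import Groth.Agent.RInvLib.Basic
-- import your own Groth.Agent.* helpers here

set_option autoImplicit false
set_option backward.isDefEq.respectTransparency false
universe u v
open RInv

namespace Groth.Agent.S15573

/-- Let `R` be a commutative ring with an involution `lam` and let `S` be its fixed ring. If there is an
element `r` of `R` such that `r - lam r` is a unit, then `R` is a quadratic etale `S`-algebra. -/
theorem result (S : Type u) (R : Type v) [CommRing S] [CommRing R]
    [Algebra S R] (lam : R ≃+* R) (hlam : Function.Involutive lam) (hS : RInv.IsFixedRing S R lam)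
    (h : ∃ r : R, IsUnit (r - lam r)) : RInv.IsQuadEtale S R := by
  obtain ⟨r, hr⟩ := h
  exact Groth.Agent.RInvLib.isQuadEtale_of_isUnit_sub hlam hS hr

end Groth.Agent.S15573
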