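import Groth.Statements.S15575
import Groth.Agent.RInvLib.Basic
-- import your own Groth.Agent.* helpers here

set_option autoImplicit false
set_option backward.isDefEq.respectTransparency false
universe u v
open scoped TensorProduct
open RInv

namespace Groth.Agent.S15575

/-- Let `R` be a commutative ring with an involution `lam` and fixed ring `S` (no finiteness assumed).
If the localisation of `R` at a prime `p` of `S` is quadratic etale over `S_p`, then there is `s ∉
p` with `R[1/s]` quadratic etale over `S[1/s]`; in particular the set of such primes is open in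
`Spec S`. Localisations of `R` are written as base changes `S_p ⊗ R` and `S_s ⊗ R`. -/
theorem result (S : Type u) (R : Type v) [CommRing S] [CommRing R]
    [Algebra S R] (lam : R ≃+* R) (hlam : Function.Involutive lam) (hS : RInv.IsFixedRing S R lam)
    (p : PrimeSpectrum S)
    (hp : RInv.IsQuadEtale (Localization.AtPrime p.asIdeal) (Localization.AtPrime p.asIdeal ⊗[S] R)) :
    ∃ s : S, s ∉ p.asIdeal ∧
      RInv.IsQuadEtale (Localization.Away s) (Localization.Away s ⊗[S] R) := by
  obtain ⟨r, s, hsp, hs⟩ := (Groth.Agent.RInvLib.isQuadEtale_atPrime_iff hlam hS p).1 hp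
  haveI : Module.Flat S (Localization.Away s) := IsLocalization.flat (Localization.Away s) (Submonoid.powers s)
  have hS' := Groth.Agent.RInvLib.isFixedRing_bcInv hlam hS (Localization.Away s) (Or.inl inferInstance)
  refine ⟨s, hsp, Groth.Agent.RInvLib.isQuadEtale_of_isUnit_sub
    (Groth.Agent.RInvLib.bcInv_involutive hlam hS _) hS' (r := 1 ⊗ₜ r) ?_⟩
  rw [Groth.Agent.RInvLib.bcInv_tmul, ← TensorProduct.tmul_sub]
  refine isUnit_of_mul_isUnit_left (y := (1 : Localization.Away s) ⊗ₜ[S] lam (r - lam r)) ?_
  rw [Algebra.TensorProduct.tmul_mul_tmul, one_mul, ← hs,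
    show ((1 : Localization.Away s) ⊗ₜ[S] algebraMap S R s) = algebraMap (Localization.Away s) _ (algebraMap S (Localization.Away s) s) by
      rw [Algebra.TensorProduct.algebraMap_apply, Algebra.algebraMap_self, RingHom.id_apply,
        Algebra.algebraMap_eq_smul_one s, Algebra.algebraMap_eq_smul_one s, ← TensorProduct.smul_tmul]]
  exact (IsLocalization.Away.algebraMap_isUnit s).map _

end Groth.Agent.S15575
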