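import Groth.Statements.S15578
import Groth.Agent.Hensel.Idempotent
import Groth.Agent.Hensel.Local

set_option autoImplicit false
universe u v
open RInv

namespace Groth.Agent.S15578

theorem local_henselian_sepClosed (S : Type u) [CommRing S] [HenselianLocalRing S]
    [IsSepClosed (IsLocalRing.ResidueField S)] (T : Type v) [CommRing T] [IsLocalRing T] [Algebra S T]
    [Algebra.IsIntegral S T] : HenselianLocalRing T ∧ IsSepClosed (IsLocalRing.ResidueField T) := by
  have hcomap : Ideal.comap (algebraMap S T) (IsLocalRing.maximalIdeal T) = IsLocalRing.maximalIdeal S :=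
    IsLocalRing.eq_maximalIdeal (Ideal.isMaximal_comap_of_isIntegral_of_isMaximal _)
  haveI : IsLocalHom (algebraMap S T) := ((IsLocalRing.local_hom_TFAE (algebraMap S T)).out 4 0).1 hcomap
  refine ⟨?_, ?_⟩
  · haveI : HenselianRing S (IsLocalRing.maximalIdeal S) := Groth.Agent.Hensel.henselianRing_maximalIdeal_iff.2 inferInstance
    haveI := Groth.Agent.Hensel.of_isIntegral (I := IsLocalRing.maximalIdeal S) T
    refine Groth.Agent.Hensel.henselianRing_maximalIdeal_iff.1 ((Groth.Agent.Hensel.iff_of_radical_eq ?_).1 this)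
    refine le_antisymm ?_ ?_
    · rw [(IsLocalRing.maximalIdeal.isMaximal T).isPrime.isRadical.radical]
      refine (IsLocalRing.maximalIdeal.isMaximal T).isPrime.radical_le_iff.2 (Ideal.map_le_iff_le_comap.2 hcomap.ge)
    · rw [(IsLocalRing.maximalIdeal.isMaximal T).isPrime.isRadical.radical, Ideal.radical_eq_sInf]
      refine le_sInf fun P hP => ?_
      obtain ⟨hle, hP⟩ : (IsLocalRing.maximalIdeal S).map (algebraMap S T) ≤ P ∧ P.IsPrime := hP
      have h1 : Ideal.comap (algebraMap S T) P = IsLocalRing.maximalIdeal S :=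
        ((IsLocalRing.maximalIdeal.isMaximal S).eq_of_le (Ideal.IsPrime.comap _).ne_top (Ideal.map_le_iff_le_comap.1 hle)).symm
      haveI := hP
      have hPmax : P.IsMaximal := Ideal.isMaximal_of_isIntegral_of_isMaximal_comap P (by rw [h1]; exact IsLocalRing.maximalIdeal.isMaximal S)
      exact (IsLocalRing.eq_maximalIdeal hPmax).ge
  · haveI : Algebra.IsAlgebraic (IsLocalRing.ResidueField S) (IsLocalRing.ResidueField T) := by
      haveI : Algebra.IsIntegral (IsLocalRing.ResidueField S) (IsLocalRing.ResidueField T) := ⟨fun x => by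
        obtain ⟨t, rfl⟩ := IsLocalRing.residue_surjective x
        have h1 : IsIntegral S (IsLocalRing.residue T t) :=
          (Algebra.IsIntegral.isIntegral (R := S) t).map (IsScalarTower.toAlgHom S T (IsLocalRing.ResidueField T))
        exact h1.tower_top⟩
      exact Algebra.IsIntegral.isAlgebraic
    exact Algebra.IsAlgebraic.isSepClosed (F := IsLocalRing.ResidueField S)

/-- Let `R` be a commutative ring with an involution `lam` whose fixed ring `S` is strictly henselian
(henselian local with separably closed residue field). Then `R` is isomorphic to a product of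
finitely many strictly henselian local rings (existence of a ring isomorphism with such a product). -/
theorem result (S : Type u) (R : Type v) [CommRing S] [CommRing R]
    [Algebra S R] (lam : R ≃+* R) (hlam : Function.Involutive lam) (hS : RInv.IsFixedRing S R lam)
    [HenselianLocalRing S] [IsSepClosed (IsLocalRing.ResidueField S)] :
    ∃ (ι : Type) (_ : Fintype ι) (T : ι → Type v) (_ : ∀ i, CommRing (T i))
      (_ : ∀ i, HenselianLocalRing (T i)),
      (∀ i, IsSepClosed (IsLocalRing.ResidueField (T i))) ∧ Nonempty (R ≃+* (∀ i, T i)) := by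
  obtain ⟨hinj, hfix⟩ := hS
  have hmemS : ∀ r, lam r = r → ∃ s, algebraMap S R s = r := fun r hr => (hfix r).1 hr
  have hlamS : ∀ s, lam (algebraMap S R s) = algebraMap S R s := fun s => (hfix _).2 ⟨s, rfl⟩
  haveI : Algebra.IsIntegral S R := ⟨fun r => by
    obtain ⟨a, ha⟩ := hmemS (r + lam r) (by rw [map_add, hlam, add_comm])
    obtain ⟨b, hb⟩ := hmemS (r * lam r) (by rw [map_mul, hlam, mul_comm])
    refine ⟨Polynomial.X ^ 2 - Polynomial.C a * Polynomial.X + Polynomial.C b, by monicity!, ?_⟩
    simp [ha, hb]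
    ring⟩
  haveI : Nontrivial R := hinj.nontrivial
  have hover : ∀ q : Ideal R, q.IsMaximal → Ideal.comap (algebraMap S R) q = IsLocalRing.maximalIdeal S := fun q hq =>
    IsLocalRing.eq_maximalIdeal (Ideal.isMaximal_comap_of_isIntegral_of_isMaximal q)
  obtain ⟨q₀, hq₀⟩ := Ideal.exists_maximal R
  let q₁ := Ideal.comap lam.toRingHom q₀
  have hq₁ : q₁.IsMaximal := Ideal.comap_isMaximal_of_surjective _ lam.surjective
  have hcases : ∀ q : Ideal R, q.IsMaximal → q = q₀ ∨ q = q₁ := fun q hq => by
    have hsub : (q : Set R) ⊆ q₀ ∪ q₁ := fun x hx => by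
      obtain ⟨b, hb⟩ := hmemS (x * lam x) (by rw [map_mul, hlam, mul_comm])
      have h1 : b ∈ IsLocalRing.maximalIdeal S := by
        rw [← hover q hq, Ideal.mem_comap, hb]; exact q.mul_mem_right _ hx
      rw [← hover q₀ hq₀, Ideal.mem_comap, hb] at h1
      exact (hq₀.isPrime.mem_or_mem h1)
    rcases (Ideal.subset_union.1 hsub) with h | h
    · exact Or.inl (hq.eq_of_le hq₀.ne_top h)
    · exact Or.inr (hq.eq_of_le hq₁.ne_top h)
  have key : ∀ (T : Type v) [CommRing T] [IsLocalRing T] (f : R →+* T), Function.Surjective f →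
      HenselianLocalRing T ∧ IsSepClosed (IsLocalRing.ResidueField T) := fun T _ _ f hf => by
    letI : Algebra S T := (f.comp (algebraMap S R)).toAlgebra
    haveI : Algebra.IsIntegral S T := ⟨fun t => by
      obtain ⟨r, rfl⟩ := hf t
      exact (Algebra.IsIntegral.isIntegral (R := S) r).map ({ toRingHom := f, commutes' := fun _ => rfl } : R →ₐ[S] T)⟩
    exact local_henselian_sepClosed S T
  haveI : Finite (MaximalSpectrum R) := by
    refine Finite.of_injective (β := Bool) (fun q => decide (q.asIdeal = q₀)) fun q q' h => ?_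
    simp only [decide_eq_decide] at h
    refine MaximalSpectrum.ext ?_
    rcases hcases _ q.isMaximal with h1 | h1 <;> rcases hcases _ q'.isMaximal with h2 | h2
    · rw [h1, h2]
    · rw [h1, h.1 h1]
    · rw [h2, h.2 h2]
    · rw [h1, h2]
  -- idempotents separating the maximal ideals
  have hsep : ∀ M : MaximalSpectrum R, ∃ e : R, IsIdempotentElem e ∧ e ∉ M.asIdeal ∧
      ∀ N : MaximalSpectrum R, N ≠ M → e ∈ N.asIdeal := by
    intro M
    by_cases hall : ∀ N : MaximalSpectrum R, N = M
    · exact ⟨1, IsIdempotentElem.one, fun h => M.isMaximal.ne_top ((Ideal.eq_top_iff_one _).2 h),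
        fun N hN => absurd (hall N) hN⟩
    push Not at hall
    obtain ⟨M', hM'⟩ := hall
    have hne : M'.asIdeal ≠ M.asIdeal := fun h => hM' (MaximalSpectrum.ext h)
    have htwo : ∀ N : MaximalSpectrum R, N ≠ M → N = M' := fun N hN => by
      refine MaximalSpectrum.ext ?_
      have hNM : N.asIdeal ≠ M.asIdeal := fun h => hN (MaximalSpectrum.ext h)
      rcases hcases _ N.isMaximal with h1 | h1 <;> rcases hcases _ M'.isMaximal with h2 | h2
      · rw [h1, h2]
      · rcases hcases _ M.isMaximal with h3 | h3
        · exact absurd (h1.trans h3.symm) hNM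
        · exact absurd (h2.trans h3.symm) hne
      · rcases hcases _ M.isMaximal with h3 | h3
        · exact absurd (h2.trans h3.symm) hne
        · exact absurd (h1.trans h3.symm) hNM
      · rw [h1, h2]
    have hsw : ∀ x, x ∈ M'.asIdeal → lam x ∈ M.asIdeal := fun x hx => by
      rcases hcases _ M.isMaximal with h1 | h1 <;> rcases hcases _ M'.isMaximal with h2 | h2
      · exact absurd (h2.trans h1.symm) hne
      · rw [h2] at hx; rw [h1]; exact hx
      · rw [h2] at hx; rw [h1]; show lam (lam x) ∈ q₀; rw [hlam]; exact hx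
      · exact absurd (h2.trans h1.symm) hne
    obtain ⟨t', ht', t, ht, htt⟩ := Submodule.mem_sup.1 ((Ideal.eq_top_iff_one _).1
      (M.isMaximal.coprime_of_ne M'.isMaximal hne.symm))
    -- t ∈ M', 1 - t ∈ M
    have hlt : lam t ∈ M.asIdeal := hsw t ht
    obtain ⟨a, ha⟩ := hmemS (t + lam t) (by rw [map_add, hlam, add_comm])
    obtain ⟨b, hb⟩ := hmemS (t * lam t) (by rw [map_mul, hlam, mul_comm])
    have hbm : b ∈ IsLocalRing.maximalIdeal S := by
      rw [← hover _ M'.isMaximal, Ideal.mem_comap, hb]; exact M'.asIdeal.mul_mem_right _ ht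
    have ham : a - 1 ∈ IsLocalRing.maximalIdeal S := by
      rw [← hover _ M.isMaximal, Ideal.mem_comap, map_sub, map_one, ha, ← htt,
        show t + lam t - (t' + t) = lam t - t' by ring]
      exact sub_mem hlt ht'
    have hau : IsUnit a := by
      by_contra h
      exact (IsLocalRing.maximalIdeal.isMaximal S).ne_top ((Ideal.eq_top_iff_one _).2
        (sub_sub_cancel a 1 ▸ sub_mem (show a ∈ IsLocalRing.maximalIdeal S from h) ham))
    obtain ⟨u, hu, hu0⟩ := HenselianLocalRing.is_henselian (R := S)
      (Polynomial.X ^ 2 - Polynomial.C a * Polynomial.X + Polynomial.C b) (by monicity!) 0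
      (by simpa using hbm) (by simpa using hau)
    rw [sub_zero] at hu0
    have hu' : u ^ 2 - a * u + b = 0 := by simpa [Polynomial.IsRoot] using hu
    have hd : IsUnit (a - 2 * u) := by
      by_contra h
      refine (IsLocalRing.maximalIdeal.isMaximal S).ne_top ((Ideal.eq_top_iff_one _).2 ?_)
      have h1 := sub_mem (add_mem (show a - 2 * u ∈ IsLocalRing.maximalIdeal S from h) (Ideal.mul_mem_left _ 2 hu0)) ham
      rwa [show a - 2 * u + 2 * u - (a - 1) = 1 by ring] at h1
    obtain ⟨v, hv⟩ := hd
    refine ⟨(t - algebraMap S R u) * algebraMap S R (v⁻¹ : Sˣ).1, ?_, ?_, ?_⟩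
    · have h1 : algebraMap S R (a - 2 * u) * algebraMap S R (v⁻¹ : Sˣ).1 = 1 := by
        rw [← map_mul, ← hv, Units.mul_inv, map_one]
      have h2 := congrArg (algebraMap S R) hu'
      simp only [map_add, map_sub, map_mul, map_pow, map_zero, map_ofNat] at h2 h1
      rw [ha, hb] at h2
      rw [ha] at h1
      show _ * _ = _
      linear_combination (-((algebraMap S R) (v⁻¹ : Sˣ).1) ^ 2) * h2 + (t - algebraMap S R u) * ((algebraMap S R) (v⁻¹ : Sˣ).1) * h1
    · intro h
      rcases M.isMaximal.isPrime.mem_or_mem h with h1 | h1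
      · have h2 : algebraMap S R u ∈ M.asIdeal := by
          have := hover _ M.isMaximal ▸ hu0
          exact this
        refine M.isMaximal.ne_top ((Ideal.eq_top_iff_one _).2 ?_)
        have := add_mem (add_mem h1 h2) ht'
        rwa [sub_add_cancel, add_comm, htt] at this
      · exact M.isMaximal.ne_top (Ideal.eq_top_of_isUnit_mem _ h1 ((v⁻¹).isUnit.map _))
    · intro N hN
      rw [htwo N hN]
      have h2 : algebraMap S R u ∈ M'.asIdeal := by
        have := hover _ M'.isMaximal ▸ hu0
        exact this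
      exact M'.asIdeal.mul_mem_right _ (sub_mem ht h2)
  obtain ⟨ι, hι, T, hT, hloc, ⟨φ⟩⟩ := Groth.Agent.Hensel.exists_pi_local hsep
  let e := Fintype.equivFin ι
  have hk : ∀ i, HenselianLocalRing (T i) ∧ IsSepClosed (IsLocalRing.ResidueField (T i)) := fun i => by
    haveI := hloc i
    exact key (T i) ((Pi.evalRingHom T i).comp φ.toRingHom) ((Function.surjective_eval i).comp φ.surjective)
  exact ⟨Fin (Fintype.card ι), inferInstance, fun i => T (e.symm i), fun i => hT _, fun i => (hk _).1,
    fun i => (hk _).2, ⟨φ.trans (RingEquiv.piCongrLeft' T e)⟩⟩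

end Groth.Agent.S15578
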