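import Groth.Statements.S15582
import Mathlib
-- import your own Groth.Agent.* helpers here

set_option autoImplicit false
universe u
open CategoryTheory TopologicalSpace
open CohTop

namespace Groth.Agent.S15582

/-- Let `π : X → Y` be a continuous map such that every open set containing a fibre `π⁻¹(y)` contains
the preimage of an open neighbourhood of `y`, and such that every fibre is finite with its points
separated by pairwise disjoint open sets of `X`. Then the direct image of sheaves of sets along `π`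
preserves epimorphisms. -/
theorem result
    {X Y : TopCat.{u}} (π : X ⟶ Y)
    (h1 : ∀ (y : Y) (U : Set X), IsOpen U → π ⁻¹' {y} ⊆ U →
      ∃ V : Set Y, IsOpen V ∧ y ∈ V ∧ π ⁻¹' V ⊆ U)
    (h2 : ∀ y : Y, (π ⁻¹' {y}).Finite ∧ ∃ U : X → Set X,
      (∀ x ∈ π ⁻¹' {y}, IsOpen (U x) ∧ x ∈ U x) ∧ (π ⁻¹' {y}).PairwiseDisjoint U) :
    (TopCat.Sheaf.pushforward (Type u) π).PreservesEpimorphisms := by
  refine ⟨fun {F G} f hf => ?_⟩
  rw [← TopCat.Sheaf.isLocallySurjective_iff_epi, TopCat.Presheaf.isLocallySurjective_iff] at hf ⊢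
  intro V t y hy
  obtain ⟨-, U, hU, hdisj⟩ := h2 y
  have loc : ∀ x : ↥(π ⁻¹' {y}), ∃ (W : TopologicalSpace.Opens X) (hW : W ≤ (TopologicalSpace.Opens.map π).obj V),
      (W : Set X) ⊆ U x ∧ (x : X) ∈ W ∧
        ∃ s, f.hom.app (Opposite.op W) s = G.presheaf.map (homOfLE hW).op t := by
    intro x
    have hxV : (x : X) ∈ (TopologicalSpace.Opens.map π).obj V := by
      show π x.1 ∈ V
      rw [show π x.1 = y from x.2]
      exact hy
    obtain ⟨W, hW, ⟨s, hs⟩, hxW⟩ := hf _ t x.1 hxV
    let Ux : TopologicalSpace.Opens X := ⟨U x, (hU x x.2).1⟩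
    refine ⟨W ⊓ Ux, inf_le_left.trans hW, fun z hz => hz.2, ⟨hxW, (hU x x.2).2⟩,
      F.presheaf.map (homOfLE (inf_le_left : W ⊓ Ux ≤ W)).op s, ?_⟩
    rw [NatTrans.naturality_apply, hs]
    erw [← ConcreteCategory.comp_apply, ← Functor.map_comp]
    rfl
  choose W hWV hWU hxW s hs using loc
  have hcompat : TopCat.Presheaf.IsCompatible F.presheaf W s := by
    intro i j
    by_cases hij : i = j
    · subst hij
      rfl
    · have hbot : W i ⊓ W j ≤ iSup (fun z : PEmpty.{u + 1} => (⊥ : TopologicalSpace.Opens X)) := by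
        intro z hz
        exact absurd (hWU j hz.2)
          (Set.disjoint_left.1 (hdisj i.2 j.2 (fun e => hij (Subtype.ext e))) (hWU i hz.1))
      exact TopCat.Sheaf.eq_of_locally_eq' F _ (W i ⊓ W j) (fun z => z.elim) hbot _ _ (fun z => z.elim)
  obtain ⟨gl, hgl, -⟩ := F.existsUnique_gluing W s hcompat
  obtain ⟨V', hV'o, hyV', hV'⟩ := h1 y ((iSup W : TopologicalSpace.Opens X) : Set X) (iSup W).2
    (fun x hx => TopologicalSpace.Opens.mem_iSup.2 ⟨⟨x, hx⟩, hxW ⟨x, hx⟩⟩)
  let V'' : TopologicalSpace.Opens Y := ⟨V', hV'o⟩ ⊓ V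
  have hle : (TopologicalSpace.Opens.map π).obj V'' ≤ iSup W := fun z hz => hV' hz.1
  refine ⟨V'', inf_le_right, ⟨F.presheaf.map (homOfLE hle).op gl, ?_⟩, ⟨hyV', hy⟩⟩
  have hall : (TopologicalSpace.Opens.map π).obj V'' ≤ (TopologicalSpace.Opens.map π).obj V :=
    fun z hz => hz.2
  show f.hom.app _ (F.presheaf.map (homOfLE hle).op gl) = G.presheaf.map (homOfLE hall).op t
  refine TopCat.Sheaf.eq_of_locally_eq' G (fun i => W i ⊓ (TopologicalSpace.Opens.map π).obj V'')
    _ (fun i => homOfLE inf_le_right) (fun z hz => ?_) _ _ (fun i => ?_)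
  · obtain ⟨i, hi⟩ := TopologicalSpace.Opens.mem_iSup.1 (hle hz)
    exact TopologicalSpace.Opens.mem_iSup.2 ⟨i, hi, hz⟩
  · have natF : ∀ (A B : TopologicalSpace.Opens X) (h : B ≤ A) (w : ToType (F.presheaf.obj (Opposite.op A))),
        f.hom.app (Opposite.op B) (F.presheaf.map (homOfLE h).op w) =
          G.presheaf.map (homOfLE h).op (f.hom.app (Opposite.op A) w) :=
      fun A B h w => NatTrans.naturality_apply f.hom (homOfLE h).op w
    have compG : ∀ (A B C : TopologicalSpace.Opens X) (h : B ≤ A) (h' : C ≤ B)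
        (w : ToType (G.presheaf.obj (Opposite.op A))),
        G.presheaf.map (homOfLE h').op (G.presheaf.map (homOfLE h).op w) =
          G.presheaf.map (homOfLE (h'.trans h)).op w := fun A B C h h' w => by
      erw [← ConcreteCategory.comp_apply, ← Functor.map_comp]
      rfl
    have hl : W i ⊓ (TopologicalSpace.Opens.map π).obj V'' ≤ W i := inf_le_left
    have hr : W i ⊓ (TopologicalSpace.Opens.map π).obj V'' ≤ (TopologicalSpace.Opens.map π).obj V'' :=
      inf_le_right
    calc G.presheaf.map (homOfLE hr).op (f.hom.app _ (F.presheaf.map (homOfLE hle).op gl))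
        = G.presheaf.map (homOfLE hl).op (f.hom.app _ (s i)) := by
          rw [natF, compG, ← hgl i]
          erw [natF _ _ (le_iSup W i) gl]
          rw [compG]
      _ = G.presheaf.map (homOfLE hr).op (G.presheaf.map (homOfLE hall).op t) :=
          (congrArg _ (hs i)).trans ((compG _ _ _ (hWV i) hl t).trans (compG _ _ _ hall hr t).symm)

end Groth.Agent.S15582
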