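import Groth.Statements.S15583
import Groth.Agent.RInvLib.Hermitian
-- import your own Groth.Agent.* helpers here

set_option autoImplicit false
set_option backward.isDefEq.respectTransparency false
universe u v
open RInv

namespace Groth.Agent.S15583

/-- Let `A` be a commutative ring with an involution `lam` whose fixed ring `B` is local, let `ε = ±1`,
and let `h` be an invertible `n × n` matrix over `A` that is `(ε, lam)`-hermitian: `h` equals `ε`
times the transpose of `lam` applied entrywise to `h`. If `lam` is not the identity modulo the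
Jacobson radical of `A`, or `ε ≠ -1` modulo that radical, or `n` is odd, then `h` is congruent to a
diagonal matrix: there is an invertible `v` with `(lam v)ᵀ h v` diagonal. -/
theorem result (B : Type u) (A : Type v) [CommRing B] [CommRing A]
    [Algebra B A] (lam : A ≃+* A) (hlam : Function.Involutive lam) (hB : RInv.IsFixedRing B A lam)
    [IsLocalRing B] (n : ℕ) (ε : A) (hε : ε = 1 ∨ ε = -1) (h : Matrix (Fin n) (Fin n) A)
    (hh : IsUnit h) (herm : ε • (h.map lam).transpose = h)
    (hcase : (∃ a : A, lam a - a ∉ Ring.jacobson A) ∨ ε + 1 ∉ Ring.jacobson A ∨ Odd n) :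
    ∃ v : Matrix (Fin n) (Fin n) A, IsUnit v ∧
      ∃ d : Fin n → A, (v.map lam).transpose * h * v = Matrix.diagonal d := by
  classical
  haveI : Nontrivial A := hB.1.nontrivial
  have hε2 : ε * ε = 1 := by rcases hε with rfl | rfl <;> simp
  have hlε : lam ε = ε := by rcases hε with rfl | rfl <;> simp
  obtain ⟨q, hq, hgood⟩ : ∃ q : Ideal A, q.IsMaximal ∧
      (((∃ a : A, lam a - a ∉ q) ∨ ε + 1 ∉ q) ∨ n = 0 ∨ ∃ i, h i i ∉ q) := by
    rcases hcase with ⟨a, ha⟩ | he | ho
    · obtain ⟨q, hq, hqa⟩ := Groth.Agent.RInvLib.exists_notMem_of_notMem_jacobson ha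
      exact ⟨q, hq, Or.inl (Or.inl ⟨a, hqa⟩)⟩
    · obtain ⟨q, hq, hqe⟩ := Groth.Agent.RInvLib.exists_notMem_of_notMem_jacobson he
      exact ⟨q, hq, Or.inl (Or.inr hqe)⟩
    · obtain ⟨q, hq⟩ := Ideal.exists_maximal A
      refine ⟨q, hq, or_iff_not_imp_left.2 fun hA => Or.inr ?_⟩
      push Not at hA
      by_contra hd
      push Not at hd
      have hsk : ∀ i j, Ideal.Quotient.mk q (h j i) = -Ideal.Quotient.mk q (h i j) := fun i j => by
        have h1 : ε * lam (h i j) = h j i := congrArg (fun M => M j i) herm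
        rw [← h1, map_mul, Ideal.Quotient.eq.2 (hA.1 (h i j)),
          show Ideal.Quotient.mk q ε = -1 from eq_neg_of_add_eq_zero_left (by
            rw [← map_one (Ideal.Quotient.mk q), ← map_add]; exact Ideal.Quotient.eq_zero_iff_mem.2 hA.2),
          neg_one_mul]
      have h0 := Groth.Agent.RInvLib.det_alternating_odd (h.map (Ideal.Quotient.mk q))
        (by rwa [Fintype.card_fin]) (fun i => Ideal.Quotient.eq_zero_iff_mem.2 (hd i)) hsk
      rw [← RingHom.mapMatrix_apply, ← RingHom.map_det] at h0
      exact hq.ne_top (q.eq_top_of_isUnit_mem (Ideal.Quotient.eq_zero_iff_mem.1 h0)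
        ((Matrix.isUnit_iff_isUnit_det h).1 hh))
  haveI := hq
  obtain ⟨d, v, hv, hvd⟩ := Groth.Agent.RInvLib.diagonalizable_aux hlam q
    (fun x c hc hx => Groth.Agent.RInvLib.isUnit_of_notMem hlam hB q hc hx) hε2 hlε n h hh herm hgood
  exact ⟨v, hv, d, hvd⟩

end Groth.Agent.S15583
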