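import Groth.Statements.S15584
import Groth.Agent.RInvLib.Hermitian
-- import your own Groth.Agent.* helpers here

set_option autoImplicit false
set_option backward.isDefEq.respectTransparency false
universe u v
open RInv

namespace Groth.Agent.S15584

/-- Let `A` be a commutative ring with an involution `lam` whose fixed ring `B` is local; assume `lam`
is the identity modulo the Jacobson radical of `A`, that `2` is invertible in `A`, and that `h` is
an invertible `n × n` matrix with `h = -(lam h)ᵀ`. Then `n` is even and there is an invertible `v`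
such that `(lam v)ᵀ h v` is a block sum of `2 × 2` blocks on the index pairs `{2k, 2k+1}`, each
congruent to `[[0,1],[-1,0]]` modulo the Jacobson radical. (The published statement writes the
congruence with the plain transpose `vᵀ h v`; its proof computes the Gram matrix of the hermitian
form `(x, y) ↦ (lam x)ᵀ h y` in a new basis, which is `(lam v)ᵀ h v`, and that is what is stated
here.) -/
theorem result (B : Type u) (A : Type v) [CommRing B] [CommRing A]
    [Algebra B A] (lam : A ≃+* A) (hlam : Function.Involutive lam) (hB : RInv.IsFixedRing B A lam)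
    [IsLocalRing B] (n : ℕ) (hid : ∀ a : A, lam a - a ∈ Ring.jacobson A) (h2 : IsUnit (2 : A))
    (h : Matrix (Fin n) (Fin n) A) (hh : IsUnit h) (herm : -(h.map lam).transpose = h) :
    Even n ∧ ∃ v : Matrix (Fin n) (Fin n) A, IsUnit v ∧
      ∀ i j : Fin n,
        (i.val / 2 ≠ j.val / 2 → ((v.map lam).transpose * h * v) i j = 0) ∧
        (i.val / 2 = j.val / 2 → (Even i.val ↔ Even j.val) →
          ((v.map lam).transpose * h * v) i j ∈ Ring.jacobson A) ∧
        (i.val / 2 = j.val / 2 → Even i.val → ¬ Even j.val →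
          ((v.map lam).transpose * h * v) i j - 1 ∈ Ring.jacobson A) ∧
        (i.val / 2 = j.val / 2 → ¬ Even i.val → Even j.val →
          ((v.map lam).transpose * h * v) i j + 1 ∈ Ring.jacobson A) := by
  classical
  haveI := Groth.Agent.RInvLib.isLocalRing_of_trivial hlam hB hid
  obtain ⟨k, e, h', ⟨v, hv, hvh⟩, h0, hJ'⟩ := Groth.Agent.RInvLib.exists_symplectic hlam (IsLocalRing.maximalIdeal A)
    (fun a => Groth.Agent.RInvLib.mem_of_forall (hid a) _) h2 n h hh herm
  have hk : k * 2 = n := by simpa using Fintype.card_congr e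
  subst hk
  refine ⟨⟨k, by ring⟩, ?_⟩
  let σ : Fin (k * 2) ≃ Fin (k * 2) := finProdFinEquiv.symm.trans e
  refine ⟨v.submatrix id σ, ?_, fun i j => ?_⟩
  · have : v.submatrix id σ = v * (1 : Matrix (Fin (k * 2)) (Fin (k * 2)) A).submatrix id σ := by
      ext a b; simp [Matrix.mul_apply, Matrix.one_apply]
    rw [this]
    refine hv.mul ?_
    have : IsUnit ((1 : Matrix (Fin (k * 2)) (Fin (k * 2)) A).submatrix (Equiv.refl _) σ) :=
      (Matrix.isUnit_submatrix_equiv _ _).2 isUnit_one
    simpa using this
  have hent : ((v.submatrix id σ).map lam).transpose * h * v.submatrix id σ = h'.submatrix σ σ := by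
    rw [← hvh]; ext a b; simp [Matrix.mul_apply, Groth.Agent.RInvLib.ct]
  rw [hent]
  obtain ⟨⟨x, a⟩, rfl⟩ := finProdFinEquiv.surjective i
  obtain ⟨⟨y, b⟩, rfl⟩ := finProdFinEquiv.surjective j
  have hval : ∀ (x : Fin k) (a : Fin 2), (finProdFinEquiv (x, a)).val / 2 = x.val ∧
      (Even (finProdFinEquiv (x, a)).val ↔ a = 0) := fun x a => by
    rw [finProdFinEquiv_apply_val]
    fin_cases a <;> simp [parity_simps] <;> omega
  obtain ⟨hx, hxe⟩ := hval x a
  obtain ⟨hy, hye⟩ := hval y b
  have hmem : ∀ z, z ∈ IsLocalRing.maximalIdeal A → z ∈ Ring.jacobson A := fun z hz => by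
    rwa [IsLocalRing.ringJacobson_eq_maximalIdeal]
  simp only [hx, hy, hxe, hye, Matrix.submatrix_apply, σ, Equiv.trans_apply, Equiv.symm_apply_apply]
  refine ⟨fun hne => h0 _ _ fun he => hne (congrArg Fin.val he), fun he hab => ?_, fun he ha hb => ?_, fun he ha hb => ?_⟩ <;>
    obtain rfl := Fin.ext he <;> refine hmem _ ?_ <;> have := hJ' x a b <;>
    fin_cases a <;> fin_cases b <;> simp_all [Groth.Agent.RInvLib.J₂]

end Groth.Agent.S15584
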