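import Groth.Statements.S15585
import Groth.Agent.RInvLib.Basic
-- import your own Groth.Agent.* helpers here

set_option autoImplicit false
set_option backward.isDefEq.respectTransparency false
universe u v
open RInv

namespace Groth.Agent.S15585

/-- For a local ring `S` (maximal ideal `m`, residue field `k`) and a quadratic etale `S`-algebra `R`,
the ring `R/mR` is a field that is a separable extension of `k` of degree 2, or else it is
isomorphic as a `k`-algebra to `k × k`. -/
theorem result (S : Type u) (R : Type v) [CommRing S]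
    [CommRing R] [Algebra S R] [IsLocalRing S] (hq : RInv.IsQuadEtale S R) :
    (IsField (R ⧸ (IsLocalRing.maximalIdeal S).map (algebraMap S R)) ∧
      Module.finrank (S ⧸ IsLocalRing.maximalIdeal S)
        (R ⧸ (IsLocalRing.maximalIdeal S).map (algebraMap S R)) = 2 ∧
      Algebra.IsSeparable (S ⧸ IsLocalRing.maximalIdeal S)
        (R ⧸ (IsLocalRing.maximalIdeal S).map (algebraMap S R))) ∨
    Nonempty ((R ⧸ (IsLocalRing.maximalIdeal S).map (algebraMap S R)) ≃ₐ[S ⧸ IsLocalRing.maximalIdeal S]
      ((S ⧸ IsLocalRing.maximalIdeal S) × (S ⧸ IsLocalRing.maximalIdeal S))) := by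
  letI := Ideal.Quotient.field (IsLocalRing.maximalIdeal S)
  obtain ⟨hfin, hur, h2⟩ := Groth.Agent.RInvLib.fibre_props hq
  haveI := Groth.Agent.RInvLib.isReduced_fibre hq
  set J := (IsLocalRing.maximalIdeal S).map (algebraMap S R)
  haveI : IsArtinianRing (R ⧸ J) := IsArtinianRing.of_finite (S ⧸ IsLocalRing.maximalIdeal S) _
  by_cases hK : IsField (R ⧸ J)
  · refine Or.inl ⟨hK, h2, ?_⟩
    letI := hK.toField
    exact Algebra.FormallyUnramified.isSeparable _ _
  · refine Or.inr ?_
    haveI : Nontrivial (R ⧸ J) := Module.nontrivial_of_finrank_eq_succ h2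
    haveI : Fintype (MaximalSpectrum (R ⧸ J)) := Fintype.ofFinite _
    let e := ((IsArtinianRing.equivPi (R ⧸ J)).restrictScalars (S ⧸ IsLocalRing.maximalIdeal S))
    have hcard : 2 ≤ Fintype.card (MaximalSpectrum (R ⧸ J)) := by
      by_contra hc
      obtain ⟨M, hM⟩ := Ideal.exists_maximal (R ⧸ J)
      have hall : ∀ N : MaximalSpectrum (R ⧸ J), N = ⟨M, hM⟩ := fun N =>
        Fintype.card_le_one_iff.1 (by omega) _ _
      obtain ⟨P, hP, hPp⟩ := Ring.not_isField_iff_exists_prime.1 hK
      haveI := hPp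
      have hPM : P = M := congrArg MaximalSpectrum.asIdeal (hall ⟨P, IsArtinianRing.isMaximal_of_isPrime P⟩)
      refine hP ((eq_bot_iff).2 fun y hy => ?_)
      refine (Submodule.mem_bot _).2 ((IsArtinianRing.equivPi (R ⧸ J)).injective (funext fun N => ?_))
      rw [IsArtinianRing.equivPi_apply, map_zero]
      exact Ideal.Quotient.eq_zero_iff_mem.2 (by rw [hall N]; exact hPM ▸ hy)
    have hsum : (Finset.univ.sum fun N : MaximalSpectrum (R ⧸ J) =>
        Module.finrank (S ⧸ IsLocalRing.maximalIdeal S) ((R ⧸ J) ⧸ N.asIdeal)) = 2 := by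
      rw [← Module.finrank_pi_fintype, ← e.toLinearEquiv.finrank_eq, h2]
    have hpos : ∀ N : MaximalSpectrum (R ⧸ J),
        1 ≤ Module.finrank (S ⧸ IsLocalRing.maximalIdeal S) ((R ⧸ J) ⧸ N.asIdeal) := fun N => by
      haveI := Ideal.Quotient.nontrivial_iff.2 N.isMaximal.ne_top
      exact Module.finrank_pos
    have hle := Finset.card_nsmul_le_sum Finset.univ
      (fun N : MaximalSpectrum (R ⧸ J) => Module.finrank (S ⧸ IsLocalRing.maximalIdeal S) ((R ⧸ J) ⧸ N.asIdeal)) 1
      fun N _ => hpos N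
    rw [Finset.card_univ, smul_eq_mul, mul_one, hsum] at hle
    have hc2 : Fintype.card (MaximalSpectrum (R ⧸ J)) = 2 := le_antisymm hle hcard
    have hone : ∀ N : MaximalSpectrum (R ⧸ J),
        Module.finrank (S ⧸ IsLocalRing.maximalIdeal S) ((R ⧸ J) ⧸ N.asIdeal) = 1 := fun N => by
      have h := (Finset.sum_eq_sum_iff_of_le (f := fun _ => 1) (s := Finset.univ) fun M _ => hpos M).1
        (by simp [hsum, hc2]) N (Finset.mem_univ _)
      exact h.symm
    have hb : ∀ N : MaximalSpectrum (R ⧸ J), Function.Bijective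
        (Algebra.ofId (S ⧸ IsLocalRing.maximalIdeal S) ((R ⧸ J) ⧸ N.asIdeal)) := fun N => by
      haveI := Ideal.Quotient.nontrivial_iff.2 N.isMaximal.ne_top
      exact bijective_algebraMap_of_linearEquiv
        (LinearEquiv.ofFinrankEq _ _ ((Module.finrank_self _).trans (hone N).symm))
    let σ : Fin 2 ≃ MaximalSpectrum (R ⧸ J) := (Fintype.equivFinOfCardEq hc2).symm
    refine ⟨AlgEquiv.ofBijective
      (((Pi.evalAlgHom _ _ (σ 0)).comp e.toAlgHom |> (AlgEquiv.ofBijective _ (hb (σ 0))).symm.toAlgHom.comp).prod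
        ((Pi.evalAlgHom _ _ (σ 1)).comp e.toAlgHom |> (AlgEquiv.ofBijective _ (hb (σ 1))).symm.toAlgHom.comp))
      ⟨?_, ?_⟩⟩
    · intro a b hab
      refine e.injective (funext fun N => ?_)
      obtain ⟨i, rfl⟩ := σ.surjective N
      fin_cases i
      · exact (AlgEquiv.ofBijective _ (hb (σ 0))).symm.injective (congrArg Prod.fst hab)
      · exact (AlgEquiv.ofBijective _ (hb (σ 1))).symm.injective (congrArg Prod.snd hab)
    · rintro ⟨a, b⟩
      classical
      obtain ⟨x, hx⟩ := e.surjective (Function.update (Function.update 0 (σ 0) (algebraMap _ _ a)) (σ 1) (algebraMap _ _ b))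
      refine ⟨x, Prod.ext ?_ ?_⟩
      · show (AlgEquiv.ofBijective _ (hb (σ 0))).symm (e x (σ 0)) = a
        rw [hx, Function.update_of_ne (σ.injective.ne (by decide)), Function.update_self, AlgEquiv.commutes]
        rfl
      · show (AlgEquiv.ofBijective _ (hb (σ 1))).symm (e x (σ 1)) = b
        rw [hx, Function.update_self, AlgEquiv.commutes]
        rfl

end Groth.Agent.S15585
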