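import Groth.Statements.S15587
import Groth.Agent.RInvLib.Basic
-- import your own Groth.Agent.* helpers here

set_option autoImplicit false
set_option backward.isDefEq.respectTransparency false
universe u v
open scoped TensorProduct
open RInv

namespace Groth.Agent.S15587

/-- (b) ⇔ (d): let `R` be a commutative ring with an involution `lam` and fixed ring `S`, so that `Spec
R → Spec S` is a good quotient by the involution, and let `p` be a prime of `S`. Then `p` is a
branch point, i.e. the localisation `S_p ⊗_S R` is not quadratic etale over `S_p`, if and only if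
exactly one prime `q` of `R` lies over `p` and `lam` induces the identity on the residue field of
`q` (equivalently `lam r - r ∈ q` for all `r`). This is the affine-local form of the statement for a
good quotient of schemes, to which the general case reduces since such quotients are affine
morphisms. -/
theorem result (S : Type u) (R : Type v) [CommRing S] [CommRing R]
    [Algebra S R] (lam : R ≃+* R) (hlam : Function.Involutive lam) (hS : RInv.IsFixedRing S R lam)
    (p : PrimeSpectrum S) :
    ¬ RInv.IsQuadEtale (Localization.AtPrime p.asIdeal) (Localization.AtPrime p.asIdeal ⊗[S] R) ↔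
      ∃ q : PrimeSpectrum R, q.asIdeal.comap (algebraMap S R) = p.asIdeal ∧
        (∀ q' : PrimeSpectrum R, q'.asIdeal.comap (algebraMap S R) = p.asIdeal → q' = q) ∧
        ∀ r : R, lam r - r ∈ q.asIdeal := by
  haveI := Groth.Agent.RInvLib.isIntegral hlam hS
  constructor
  · intro hq
    obtain ⟨q, -, hq', hqp⟩ := Ideal.exists_ideal_over_prime_of_isIntegral p.asIdeal (⊥ : Ideal R)
      (fun x hx => by
        rw [Ideal.mem_comap, Ideal.mem_bot, ← (algebraMap S R).map_zero] at hx
        rw [hS.1 hx]; exact p.asIdeal.zero_mem)
    have hmem : ∀ r : R, r - lam r ∈ q := fun r => by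
      obtain ⟨s, hs⟩ := Groth.Agent.RInvLib.exists_mul_lam hlam hS (r - lam r)
      have hsp : s ∈ p.asIdeal := by
        by_contra hsp
        exact hq ((Groth.Agent.RInvLib.isQuadEtale_atPrime_iff hlam hS p).2 ⟨r, s, hsp, hs⟩)
      rw [← hqp, Ideal.mem_comap, hs, Groth.Agent.RInvLib.lam_sub_lam hlam, mul_neg, Ideal.neg_mem_iff] at hsp
      exact (hq'.mem_or_mem hsp).elim id id
    refine ⟨⟨q, hq'⟩, hqp, fun q' hq'' => PrimeSpectrum.ext ?_, fun r => by
      simpa using q.neg_mem (hmem r)⟩
    haveI := q'.2
    rcases Groth.Agent.RInvLib.eq_or_eq_comap hlam hS (q := q) (q' := q'.asIdeal) (hq''.trans hqp.symm) with h | h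
    · exact h
    · refine h.trans (Ideal.ext fun x => ?_)
      have hx := hmem x
      refine ⟨fun h1 => ?_, fun h1 => ?_⟩
      · simpa using q.add_mem hx (show lam x ∈ q from h1)
      · show lam x ∈ q
        simpa using q.sub_mem h1 hx
  · rintro ⟨q, hqp, -, hq⟩ hQ
    obtain ⟨r, s, hsp, hs⟩ := (Groth.Agent.RInvLib.isQuadEtale_atPrime_iff hlam hS p).1 hQ
    refine hsp ?_
    rw [← hqp, Ideal.mem_comap, hs]
    refine q.asIdeal.mul_mem_right _ ?_
    simpa using q.asIdeal.neg_mem (hq r)

end Groth.Agent.S15587
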