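import Groth.Statements.S15589
import Groth.Agent.RInvLib.Basic
-- import your own Groth.Agent.* helpers here

set_option autoImplicit false
set_option backward.isDefEq.respectTransparency false
universe u v
open scoped TensorProduct
open RInv

namespace Groth.Agent.S15589

/-- Let `R` be a commutative ring with an involution `lam` and fixed ring `S`, `W ⊆ Spec S` the branch
locus (primes `p` with `S_p ⊗_S R` not quadratic etale over `S_p`), `I` its vanishing ideal and `J =
rad(IR)`. Then `Spec(R/J) → Spec(S/I)` is a homeomorphism; if `2` is a unit of `S`, the ring map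
`S/I → R/J` is moreover bijective, so the reduced preimage of the branch locus maps isomorphically
onto it. Affine-local form of the statement for a good quotient of schemes by an involution (the
hypothesis `I ≤ J ∩ S` holds automatically and only serves to write down the map). -/
theorem result (S : Type u) (R : Type v) [CommRing S] [CommRing R]
    [Algebra S R] (lam : R ≃+* R) (hlam : Function.Involutive lam) (hS : RInv.IsFixedRing S R lam)
    (W : Set (PrimeSpectrum S))
    (hW : W = {p : PrimeSpectrum S | ¬ RInv.IsQuadEtale (Localization.AtPrime p.asIdeal) (Localization.AtPrime p.asIdeal ⊗[S] R)})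
    (J : Ideal R) (hJ : J = ((PrimeSpectrum.vanishingIdeal W).map (algebraMap S R)).radical)
    (hIJ : PrimeSpectrum.vanishingIdeal W ≤ J.comap (algebraMap S R)) :
    IsHomeomorph (PrimeSpectrum.comap (Ideal.quotientMap J (algebraMap S R) hIJ)) ∧
      (IsUnit (2 : S) → Function.Bijective (Ideal.quotientMap J (algebraMap S R) hIJ)) := by
  haveI := Groth.Agent.RInvLib.isIntegral hlam hS
  have hdiff : ∀ r : R, lam r - r ∈ J := fun r => by
    obtain ⟨s, hs⟩ := Groth.Agent.RInvLib.exists_mul_lam hlam hS (r - lam r)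
    rw [hJ]
    refine ⟨2, ?_⟩
    rw [show (lam r - r) ^ 2 = -algebraMap S R s by rw [hs, Groth.Agent.RInvLib.lam_sub_lam hlam]; ring]
    refine Ideal.neg_mem_iff _ |>.2 (Ideal.mem_map_of_mem _ ((PrimeSpectrum.mem_vanishingIdeal _ _).2 fun p hp => ?_))
    by_contra hsp
    rw [hW] at hp
    exact hp ((Groth.Agent.RInvLib.isQuadEtale_atPrime_iff hlam hS p).2 ⟨r, s, hsp, hs⟩)
  have hrad : (PrimeSpectrum.vanishingIdeal W).IsRadical := PrimeSpectrum.isRadical_vanishingIdeal W
  have hcomap : J.comap (algebraMap S R) = PrimeSpectrum.vanishingIdeal W := by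
    refine le_antisymm (fun s hs => ?_) hIJ
    rw [← hrad.radical, Ideal.radical_eq_sInf]
    refine Ideal.mem_sInf.2 fun {P} hP => ?_
    obtain ⟨hle, hP⟩ := hP
    haveI := hP
    obtain ⟨Q, -, hQ, hQP⟩ := Ideal.exists_ideal_over_prime_of_isIntegral P (⊥ : Ideal R)
      (fun x hx => by
        rw [Ideal.mem_comap, Ideal.mem_bot, ← (algebraMap S R).map_zero] at hx
        rw [hS.1 hx]; exact P.zero_mem)
    rw [← hQP, Ideal.mem_comap]
    rw [Ideal.mem_comap, hJ] at hs
    haveI := hQ
    exact hQ.radical_le_iff.2 (Ideal.map_le_iff_le_comap.2 (hQP ▸ hle)) hs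
  set f := Ideal.quotientMap J (algebraMap S R) hIJ with hf
  have hinj : Function.Injective f := Ideal.quotientMap_injective' hcomap.le
  have hint : f.IsIntegral := by
    intro x
    obtain ⟨r, rfl⟩ := Ideal.Quotient.mk_surjective x
    obtain ⟨P, hPm, hP⟩ := Algebra.IsIntegral.isIntegral (R := S) r
    refine ⟨P.map (Ideal.Quotient.mk _), hPm.map _, ?_⟩
    rw [Polynomial.eval₂_map, hf, Ideal.quotientMap_comp_mk, ← Polynomial.hom_eval₂, hP, map_zero]
  letI := f.toAlgebra
  haveI : Algebra.IsIntegral (S ⧸ PrimeSpectrum.vanishingIdeal W) (R ⧸ J) := ⟨hint⟩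
  refine ⟨?_, fun h2 => ⟨hinj, fun x => ?_⟩⟩
  · refine isHomeomorph_iff_continuous_isClosedMap_bijective.2 ⟨PrimeSpectrum.continuous_comap _,
      PrimeSpectrum.isClosedMap_comap_of_isIntegral f hint, fun Q Q' hQQ => ?_, fun P => ?_⟩
    · have e : ∀ Q : PrimeSpectrum (R ⧸ J), (Q.asIdeal.comap (Ideal.Quotient.mk J)).comap (algebraMap S R) =
          (Q.asIdeal.comap f).comap (Ideal.Quotient.mk _) := fun Q => by
        rw [Ideal.comap_comap, Ideal.comap_comap, hf, Ideal.quotientMap_comp_mk]
      have h1 := congrArg PrimeSpectrum.asIdeal hQQ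
      have h2 : (Q'.asIdeal.comap (Ideal.Quotient.mk J)).comap (algebraMap S R) =
          (Q.asIdeal.comap (Ideal.Quotient.mk J)).comap (algebraMap S R) := by
        rw [e, e]; exact congrArg (Ideal.comap _) h1.symm
      refine PrimeSpectrum.ext (Ideal.comap_injective_of_surjective _ Ideal.Quotient.mk_surjective ?_)
      rcases Groth.Agent.RInvLib.eq_or_eq_comap hlam hS h2 with h | h
      · exact h.symm
      · refine (h.trans (Ideal.ext fun x => ?_)).symm
        have hx : Ideal.Quotient.mk J (lam x) = Ideal.Quotient.mk J x := Ideal.Quotient.eq.2 (hdiff x)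
        show Ideal.Quotient.mk J (lam x) ∈ Q.asIdeal ↔ Ideal.Quotient.mk J x ∈ Q.asIdeal
        rw [hx]
    · obtain ⟨Q, -, hQ, hQP⟩ := Ideal.exists_ideal_over_prime_of_isIntegral P.asIdeal (⊥ : Ideal (R ⧸ J))
        (fun x hx => by
          rw [Ideal.mem_comap, Ideal.mem_bot, ← f.map_zero] at hx
          rw [hinj hx]; exact P.asIdeal.zero_mem)
      exact ⟨⟨Q, hQ⟩, PrimeSpectrum.ext hQP⟩
  · obtain ⟨r, rfl⟩ := Ideal.Quotient.mk_surjective x
    obtain ⟨w, hw⟩ := h2.exists_left_inv
    obtain ⟨t, ht⟩ := Groth.Agent.RInvLib.exists_add_lam hlam hS r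
    refine ⟨Ideal.Quotient.mk _ (w * t), ?_⟩
    rw [hf, Ideal.quotientMap_mk, map_mul, ht, Ideal.Quotient.eq]
    have hw' : algebraMap S R w * 2 = 1 := by rw [← map_ofNat (algebraMap S R) 2, ← map_mul, hw, map_one]
    rw [show algebraMap S R w * (r + lam r) - r = algebraMap S R w * (lam r - r) by linear_combination r * hw']
    exact J.mul_mem_left _ (hdiff r)

end Groth.Agent.S15589
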