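import Groth.Statements.S15590
import Mathlib

set_option autoImplicit false
universe u v
open CAlg

namespace Groth.Agent.S15590

/-- Let A → B be an injective homomorphism of commutative rings which makes B a finite flat A-module,
and suppose B is a Dedekind domain (Noetherian, integrally closed, of Krull dimension at most one; a
field is allowed). Then A is a Dedekind domain. -/
theorem result (A : Type u) (B : Type v)
    [CommRing A] [CommRing B] [Algebra A B] [IsDedekindDomain B]
    (hinj : Function.Injective (algebraMap A B)) [Module.Finite A B] [Module.Flat A B] :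
    IsDedekindDomain A := by
  have hA : IsDomain A := hinj.isDomain
  have hff : Module.FaithfullyFlat A B := Module.FaithfullyFlat.of_comap_surjective
    (RingHom.IsIntegral.comap_surjective (Algebra.IsIntegral.isIntegral (R := A) (A := B)) hinj)
  have hcm : ∀ I : Ideal A, (I.map (algebraMap A B)).comap (algebraMap A B) = I := fun I => Ideal.comap_map_eq_self_of_faithfullyFlat I
  have hN : IsNoetherianRing A := by
    rw [isNoetherianRing_iff, isNoetherian_iff']
    exact StrictMono.wellFoundedGT (f := fun I : Ideal A => I.map (algebraMap A B))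
      (fun I J hIJ => lt_of_le_of_ne (Ideal.map_mono hIJ.le) fun e => hIJ.ne (by rw [← hcm I, ← hcm J]; exact congrArg _ e))
  have hD : Ring.DimensionLEOne A := ⟨fun {p} hp hpp => by
    obtain ⟨P, hP⟩ := PrimeSpectrum.comap_surjective_of_faithfullyFlat (A := A) (B := B) ⟨p, hpp⟩
    have hPp : P.asIdeal.comap (algebraMap A B) = p := congrArg PrimeSpectrum.asIdeal hP
    have hP0 : P.asIdeal ≠ ⊥ := fun e => hp (by rw [← hPp, e, ← RingHom.ker_eq_comap_bot, (RingHom.injective_iff_ker_eq_bot _).mp hinj])
    have := P.isPrime.isMaximal hP0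
    rw [← hPp]
    exact Ideal.isMaximal_comap_of_isIntegral_of_isMaximal P.asIdeal⟩
  have hI : IsIntegrallyClosed A := by
    refine (isIntegrallyClosed_iff (FractionRing A)).mpr fun {x} hx => ?_
    obtain ⟨a, b, hb, rfl⟩ := IsFractionRing.div_surjective A x
    let L := FractionRing B
    let φ : FractionRing A →+* L := IsFractionRing.lift (g := (algebraMap B L).comp (algebraMap A B)) ((IsFractionRing.injective B L).comp hinj)
    have hφ : ∀ y, φ (algebraMap A (FractionRing A) y) = algebraMap B L (algebraMap A B y) := IsFractionRing.lift_algebraMap _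
    obtain ⟨P, hP, hPx⟩ := hx
    have hint : IsIntegral B (φ (algebraMap A _ a / algebraMap A _ b)) := by
      refine ⟨P.map (algebraMap A B), hP.map _, ?_⟩
      rw [Polynomial.eval₂_map, ← show φ.comp (algebraMap A _) = (algebraMap B L).comp (algebraMap A B) from RingHom.ext hφ, ← Polynomial.hom_eval₂, hPx, map_zero]
    obtain ⟨c, hc⟩ := IsIntegrallyClosed.isIntegral_iff.mp hint
    rw [map_div₀, hφ, hφ] at hc
    have hb0 : b ≠ 0 := nonZeroDivisors.ne_zero hb
    have hbL : algebraMap B L (algebraMap A B b) ≠ 0 := fun e => hb0 (hinj ((IsFractionRing.injective B L) (e.trans (map_zero (algebraMap B L)).symm) |>.trans (map_zero _).symm))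
    have hab : a ∈ Ideal.span ({b} : Set A) := by
      rw [← hcm (Ideal.span {b}), Ideal.mem_comap, Ideal.map_span, Set.image_singleton]
      refine Ideal.mem_span_singleton'.mpr ⟨c, IsFractionRing.injective B L ?_⟩
      rw [map_mul, hc, div_mul_cancel₀ _ hbL]
    obtain ⟨d, hd⟩ := Ideal.mem_span_singleton'.mp hab
    have hbK : algebraMap A (FractionRing A) b ≠ 0 := fun e => hb0 (IsFractionRing.injective A _ (e.trans (map_zero _).symm))
    exact ⟨d, by rw [← hd, map_mul, mul_div_assoc, div_self hbK, mul_one]⟩
  have : IsDedekindRing A := { }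
  exact { }

end Groth.Agent.S15590
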