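import Groth.Statements.S15592
import Groth.Agent.GaPoints.Basic
import Groth.Prelude.Def_GmPts
import Groth.Prelude.Def_Magnet4
import Mathlib.AlgebraicGeometry.ValuativeCriterion
import Mathlib.RingTheory.PowerSeries.Substitution
import Mathlib.RingTheory.PowerSeries.Inverse
import Mathlib.Algebra.Polynomial.Laurent

set_option autoImplicit false
universe u
open CategoryTheory MonoidalCategory CartesianMonoidalCategory MonObj GrpObj AlgebraicGeometry
open AlgGrp

namespace Groth.Agent.S15592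

open CategoryTheory CategoryTheory.Limits AlgebraicGeometry

open Groth.Agent CategoryTheory.MonoidalCategory CategoryTheory.CartesianMonoidalCategory CategoryTheory.MonObj
set_option backward.isDefEq.respectTransparency false
set_option linter.style.haveILetI false
set_option maxHeartbeats 1000000

noncomputable section

section

variable {k : Type u} [Field k]

local notation "𝒮" => Over (Spec (CommRingCat.of k))

/-- The spectrum of an algebra as an object over the base field. -/
abbrev SA (R : Type u) [CommRing R] [Algebra k R] : 𝒮 :=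
  Over.mk (Spec.map (CommRingCat.ofHom (algebraMap k R)))

/-- The morphism of spectra of an algebra homomorphism. -/
def sa {R R' : Type u} [CommRing R] [Algebra k R] [CommRing R'] [Algebra k R'] (φ : R →ₐ[k] R') :
    SA (k := k) R' ⟶ SA R :=
  Over.homMk (Spec.map (CommRingCat.ofHom φ.toRingHom)) (by
    show Spec.map _ ≫ Spec.map _ = Spec.map _
    rw [← Spec.map_comp, ← CommRingCat.ofHom_comp]
    exact congrArg (fun f => Spec.map (CommRingCat.ofHom f)) φ.comp_algebraMap)

theorem sa_comp {R R' R'' : Type u} [CommRing R] [Algebra k R] [CommRing R'] [Algebra k R'] [CommRing R''] [Algebra k R'']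
    (φ : R →ₐ[k] R') (ψ : R' →ₐ[k] R'') : sa ψ ≫ sa φ = sa (ψ.comp φ) := by
  apply Over.OverMorphism.ext
  simp only [sa, Over.comp_left, Over.homMk_left, ← Spec.map_comp]
  rfl

theorem sa_id {R : Type u} [CommRing R] [Algebra k R] : sa (AlgHom.id k R) = 𝟙 _ := by
  apply Over.OverMorphism.ext
  simp only [sa, Over.homMk_left, Over.id_left]
  exact Spec.map_id _

/-- The rational point of the base. -/
def unitPt : 𝟙_ 𝒮 ⟶ SA (k := k) k :=
  Over.homMk (𝟙 _) (by
    show 𝟙 _ ≫ Spec.map (CommRingCat.ofHom (RingHom.id k)) = _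
    exact (Category.id_comp _).trans (Spec.map_id _))

theorem toUnit_unitPt (R : Type u) [CommRing R] [Algebra k R] :
    toUnit (SA (k := k) R) ≫ unitPt = sa (Algebra.ofId k R) := by
  apply Over.OverMorphism.ext
  simp [unitPt, sa]

/-- Points over a domain with values in a separated scheme are determined by an injective extension. -/
theorem ext_of_injective {R R' : Type u} [CommRing R] [IsDomain R] [Algebra k R] [CommRing R'] [Algebra k R']
    (φ : R →ₐ[k] R') (hφ : Function.Injective φ) {X : 𝒮} [IsSeparated X.hom] {p q : SA (k := k) R ⟶ X}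
    (h : sa φ ≫ p = sa φ ≫ q) : p = q := by
  haveI : IsReduced (SA (k := k) R).left := inferInstanceAs (IsReduced (Spec (CommRingCat.of R)))
  haveI : IsDominant (sa φ).left := by
    refine ⟨?_⟩
    show DenseRange (PrimeSpectrum.comap φ.toRingHom)
    rw [PrimeSpectrum.denseRange_comap_iff_ker_le_nilRadical, (RingHom.injective_iff_ker_eq_bot φ.toRingHom).mp hφ]
    exact bot_le
  apply Over.OverMorphism.ext
  exact ext_of_isDominant_of_isSeparated X.hom ((Over.w p).trans (Over.w q).symm) (sa φ).left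
    (congrArg CommaMorphism.left h)

/-- The point with given ring of functions. -/
theorem exists_pt {P : Type u} [CommRing P] [Algebra k P] (T : 𝒮) (φ : P →+* Γ(T.left, ⊤))
    (hφ : φ.comp (algebraMap k P) = GaPoints.ringMap T.hom) :
    ∃ h : T ⟶ SA P, ∀ r : P, h.left.appTop ((Scheme.ΓSpecIso (CommRingCat.of P)).inv r) = φ r := by
  obtain ⟨q, hq⟩ := GaPoints.exists_ringMap (R := CommRingCat.of P) φ
  refine ⟨Over.homMk q (GaPoints.ringMap_injective (RingHom.ext fun r => ?_)), fun r => congr($hq r)⟩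
  show GaPoints.ringMap (q ≫ Spec.map (CommRingCat.ofHom (algebraMap k P))) r = _
  rw [GaPoints.ringMap_comp_SpecMap, hq, ← hφ]
  rfl

theorem sa_appTop {R R' : Type u} [CommRing R] [Algebra k R] [CommRing R'] [Algebra k R'] (φ : R →ₐ[k] R') (r : R) :
    (sa φ).left.appTop ((Scheme.ΓSpecIso (CommRingCat.of R)).inv r) =
      (Scheme.ΓSpecIso (CommRingCat.of R')).inv (φ r) :=
  (congr($(Scheme.ΓSpecIso_inv_naturality (CommRingCat.ofHom φ.toRingHom)) r)).symm

/-- The point of the additive group with given coordinate. -/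
def gaPt {R : Type u} [CommRing R] [Algebra k R] (r : R) : SA R ⟶ Red.Ga (Spec (CommRingCat.of k)) :=
  (GaPoints.gaFnEquiv _).symm ((Scheme.ΓSpecIso (CommRingCat.of R)).inv r)

theorem gaFn_gaPt {R : Type u} [CommRing R] [Algebra k R] (r : R) :
    Red.gaFn (gaPt (k := k) r) = (Scheme.ΓSpecIso (CommRingCat.of R)).inv r :=
  (GaPoints.gaFnEquiv (SA (k := k) R)).apply_symm_apply _

theorem gaPt_mul {R : Type u} [CommRing R] [Algebra k R] (r s : R) :
    gaPt (k := k) r * gaPt s = gaPt (r + s) := by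
  apply GaPoints.gaFn_injective
  rw [GaPoints.gaFn_mul, gaFn_gaPt, gaFn_gaPt, gaFn_gaPt, map_add]

theorem sa_gaPt {R R' : Type u} [CommRing R] [Algebra k R] [CommRing R'] [Algebra k R'] (φ : R →ₐ[k] R') (r : R) :
    sa φ ≫ gaPt r = gaPt (φ r) := by
  apply GaPoints.gaFn_injective
  rw [GaPoints.gaFn_comp, gaFn_gaPt, gaFn_gaPt, sa_appTop]

/-- The point of the multiplicative group with given coordinate. -/
def gmPt {R : Type u} [CommRing R] [Algebra k R] (v : Rˣ) : SA R ⟶ Red.Gm (Spec (CommRingCat.of k)) :=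
  GmPts.ptOfUnit (Units.map (Scheme.ΓSpecIso (CommRingCat.of R)).inv.hom.toMonoidHom v)

theorem gmFn_gmPt {R : Type u} [CommRing R] [Algebra k R] (v : Rˣ) :
    Red.gmFn (gmPt (k := k) v) = (Scheme.ΓSpecIso (CommRingCat.of R)).inv (v : R) :=
  GmPts.gmFn_ptOfUnit _

theorem gmPt_mul {R : Type u} [CommRing R] [Algebra k R] (v w : Rˣ) :
    gmPt (k := k) v * gmPt w = gmPt (v * w) := by
  apply GmPts.gmFn_injective
  show Red.gmFn _ = Red.gmFn _
  rw [GmPts.gmFn_mul, gmFn_gmPt, gmFn_gmPt, gmFn_gmPt, Units.val_mul, map_mul]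

theorem sa_gmPt {R R' : Type u} [CommRing R] [Algebra k R] [CommRing R'] [Algebra k R'] (φ : R →ₐ[k] R') (v : Rˣ) :
    sa φ ≫ gmPt v = gmPt (Units.map (φ : R →* R') v) := by
  apply GmPts.gmFn_injective
  show Red.gmFn _ = Red.gmFn _
  rw [GmPts.gmFn_comp, gmFn_gmPt, gmFn_gmPt, sa_appTop]
  rfl

/-- Substitution of a series without constant term, as a map to power series over an extension. -/
def sub {L : Type u} [Field L] [Algebra k L] (c : PowerSeries L) (hc : PowerSeries.constantCoeff c = 0) :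
    PowerSeries k →ₐ[k] PowerSeries L :=
  PowerSeries.substAlgHom (PowerSeries.HasSubst.of_constantCoeff_zero' hc)

theorem sub_X {L : Type u} [Field L] [Algebra k L] (c : PowerSeries L) (hc : PowerSeries.constantCoeff c = 0) :
    sub (k := k) c hc PowerSeries.X = c :=
  PowerSeries.substAlgHom_X _

/-- The constant coefficient as an algebra homomorphism. -/
def cc (L : Type u) [CommRing L] [Algebra k L] : PowerSeries L →ₐ[k] L :=
  { PowerSeries.constantCoeff with
    commutes' := fun r => by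
      show PowerSeries.constantCoeff (algebraMap k (PowerSeries L) r) = _
      rw [PowerSeries.algebraMap_apply, PowerSeries.constantCoeff_C] }

/-- The constants as an algebra homomorphism. -/
def cst (L : Type u) [CommRing L] [Algebra k L] : L →ₐ[k] PowerSeries L :=
  { PowerSeries.C with
    commutes' := fun r => (PowerSeries.algebraMap_apply (r := r)).symm }

theorem cc_sub {L : Type u} [Field L] [Algebra k L] (c : PowerSeries L) (hc : PowerSeries.constantCoeff c = 0) :
    (cc (k := k) L).comp (sub c hc) = (Algebra.ofId k L).comp (cc k) := by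
  refine AlgHom.ext fun f => ?_
  obtain ⟨g, hg⟩ := PowerSeries.X_dvd_iff.mpr
    (show PowerSeries.constantCoeff (f - algebraMap k (PowerSeries k) (PowerSeries.constantCoeff f)) = 0 by
      simp [PowerSeries.algebraMap_apply])
  rw [sub_eq_iff_eq_add] at hg
  rw [hg]
  simp only [AlgHom.comp_apply, map_add, map_mul, AlgHom.commutes, sub_X]
  show PowerSeries.constantCoeff c * _ + _ = algebraMap k L (PowerSeries.constantCoeff PowerSeries.X) * _ + _
  rw [hc, PowerSeries.constantCoeff_X, map_zero]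
  ring

theorem sub_injective {L : Type u} [Field L] [Algebra k L] (c : PowerSeries L) (hc : PowerSeries.constantCoeff c = 0)
    (hne : c ≠ 0) : Function.Injective (sub (k := k) c hc) := by
  refine (injective_iff_map_eq_zero _).mpr fun f hf => ?_
  by_contra h0
  obtain ⟨n, v, hfv⟩ := IsDiscreteValuationRing.eq_unit_mul_pow_irreducible h0 PowerSeries.X_irreducible
  rw [hfv, map_mul, map_pow, sub_X] at hf
  exact mul_ne_zero (v.isUnit.map (sub (k := k) c hc)).ne_zero (pow_ne_zero _ hne) hf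

/-- The map of fraction fields induced by a substitution. -/
def subF {L : Type u} [Field L] [Algebra k L] (c : PowerSeries L) (hc : PowerSeries.constantCoeff c = 0)
    (hne : c ≠ 0) : FractionRing (PowerSeries k) →ₐ[k] FractionRing (PowerSeries L) :=
  IsFractionRing.liftAlgHom (g := (IsScalarTower.toAlgHom k (PowerSeries L) (FractionRing (PowerSeries L))).comp (sub c hc))
    ((IsFractionRing.injective (PowerSeries L) (FractionRing (PowerSeries L))).comp (sub_injective c hc hne))

theorem subF_algebraMap {L : Type u} [Field L] [Algebra k L] (c : PowerSeries L) (hc : PowerSeries.constantCoeff c = 0)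
    (hne : c ≠ 0) (f : PowerSeries k) :
    subF (k := k) c hc hne (algebraMap _ (FractionRing (PowerSeries k)) f) =
      algebraMap _ (FractionRing (PowerSeries L)) (sub c hc f) :=
  IsLocalization.lift_eq _ _

/-- The generic point of the formal line. -/
def gen₀ (L : Type u) [CommRing L] [Algebra k L] : PowerSeries L →ₐ[k] FractionRing (PowerSeries L) :=
  IsScalarTower.toAlgHom k (PowerSeries L) (FractionRing (PowerSeries L))

theorem subF_gen₀ {L : Type u} [Field L] [Algebra k L] (c : PowerSeries L) (hc : PowerSeries.constantCoeff c = 0)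
    (hne : c ≠ 0) : (subF (k := k) c hc hne).comp (gen₀ k) = (gen₀ L).comp (sub c hc) :=
  AlgHom.ext fun f => subF_algebraMap c hc hne f


/-- An arc in a proper scheme extends. -/
theorem exists_arc {X : 𝒮} [IsProper X.hom] (o : SA (k := k) (FractionRing (PowerSeries k)) ⟶ X) :
    ∃ ψ : SA (k := k) (PowerSeries k) ⟶ X, sa (gen₀ k) ≫ ψ = o := by
  have hex : ValuativeCriterion.Existence X.hom :=
    ((UniversallyClosed.eq_valuativeCriterion.le _ _ _) inferInstance).1
  let Sq : ValuativeCommSq X.hom :=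
    { R := PowerSeries k, K := FractionRing (PowerSeries k), i₁ := o.left,
      i₂ := (SA (k := k) (PowerSeries k)).hom, commSq := ⟨(Over.w o).trans (Over.w (sa (gen₀ k))).symm⟩ }
  obtain ⟨⟨l, hl₁, hl₂⟩⟩ := (hex Sq).exists_lift
  exact ⟨Over.homMk l hl₂, Over.OverMorphism.ext hl₁⟩

/-- The limit of an orbit along an arc, in terms of arbitrary rings. -/
theorem fixed_abs {G X : 𝒮} [GrpObj G] [IsProper X.hom] {R F L R₀ F₀ : Type u} [CommRing R] [IsDomain R] [Algebra k R]
    [CommRing F] [Algebra k F] [CommRing L] [Algebra k L] [CommRing R₀] [Algebra k R₀] [CommRing F₀] [Algebra k F₀]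
    (ξ : R →ₐ[k] F) (hξ : Function.Injective ξ) (κ : R₀ →ₐ[k] F₀) (ε : R →ₐ[k] L) (ε₀ : R₀ →ₐ[k] k)
    (cs : L →ₐ[k] R) (hcs : ε.comp cs = AlgHom.id k L) (σ τ : R₀ →ₐ[k] R) (σF τF : F₀ →ₐ[k] F)
    (h1 : σF.comp κ = ξ.comp σ) (h2 : τF.comp κ = ξ.comp τ)
    (h3 : ε.comp σ = (Algebra.ofId k L).comp ε₀) (h4 : ε.comp τ = (Algebra.ofId k L).comp ε₀)
    (a : AlgGrp.Action G X) (x₀ : 𝟙_ 𝒮 ⟶ X) (q : SA F₀ ⟶ G) (ψ : SA R₀ ⟶ X)
    (hψ : sa κ ≫ ψ = lift q (toUnit _ ≫ x₀) ≫ a.act) (e : SA L ⟶ G)
    (heq : (sa ξ ≫ sa cs ≫ e) * (sa σF ≫ q) = sa τF ≫ q) :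
    lift e (toUnit _ ≫ unitPt ≫ sa ε₀ ≫ ψ) ≫ a.act = toUnit _ ≫ unitPt ≫ sa ε₀ ≫ ψ := by
  have hy : toUnit (SA (k := k) L) ≫ unitPt ≫ sa ε₀ ≫ ψ = sa ((Algebra.ofId k L).comp ε₀) ≫ ψ := by
    rw [← Category.assoc, toUnit_unitPt, ← Category.assoc, sa_comp]
  have hx : ∀ (φ : F₀ →ₐ[k] F), sa φ ≫ toUnit (SA F₀) ≫ x₀ = toUnit (SA F) ≫ x₀ := fun φ => by
    rw [← Category.assoc, toUnit_unique (sa φ ≫ toUnit (SA F₀)) (toUnit _)]
  have hσ : sa ξ ≫ sa σ ≫ ψ = lift (sa σF ≫ q) (toUnit (SA F) ≫ x₀) ≫ a.act := by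
    rw [← Category.assoc, sa_comp, ← h1, ← sa_comp, Category.assoc, hψ, comp_lift_assoc, hx]
  have hτ : sa ξ ≫ sa τ ≫ ψ = lift (sa τF ≫ q) (toUnit (SA F) ≫ x₀) ≫ a.act := by
    rw [← Category.assoc, sa_comp, ← h2, ← sa_comp, Category.assoc, hψ, comp_lift_assoc, hx]
  have hRF : lift (sa cs ≫ e) (sa σ ≫ ψ) ≫ a.act = sa τ ≫ ψ := by
    refine ext_of_injective ξ hξ ?_
    rw [comp_lift_assoc, hσ, hτ, ← heq]
    exact ((Magnet.MonAct.ofAction a).lift_mul_act (sa ξ ≫ sa cs ≫ e) (sa σF ≫ q) (toUnit (SA F) ≫ x₀)).symm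
  have h := congrArg (fun p => sa ε ≫ p) hRF
  simp only [comp_lift_assoc] at h
  rw [← Category.assoc (sa ε) (sa cs) e, sa_comp, hcs, sa_id, Category.id_comp, ← Category.assoc (sa ε) (sa σ) ψ,
    sa_comp, h3, ← Category.assoc (sa ε) (sa τ) ψ, sa_comp, h4] at h
  rw [hy]
  exact h

/-- The limit of an orbit along an arc is fixed by every generic element translating the arc to a
reparametrisation of itself. -/
theorem fixed_of_translate {G X : 𝒮} [GrpObj G] [IsProper X.hom] {L : Type u} [Field L] [Algebra k L] (a : AlgGrp.Action G X) (x₀ : 𝟙_ 𝒮 ⟶ X)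
    (q : SA (k := k) (FractionRing (PowerSeries k)) ⟶ G) (ψ : SA (k := k) (PowerSeries k) ⟶ X)
    (hψ : sa (gen₀ k) ≫ ψ = lift q (toUnit _ ≫ x₀) ≫ a.act)
    (e : SA L ⟶ G) (c : PowerSeries L) (hc : PowerSeries.constantCoeff c = 0) (hne : c ≠ 0)
    (heq : (sa (gen₀ L) ≫ sa (cst L) ≫ e) *
        (sa (subF PowerSeries.X PowerSeries.constantCoeff_X PowerSeries.X_ne_zero) ≫ q) = sa (subF c hc hne) ≫ q) :
    lift e (toUnit _ ≫ unitPt ≫ sa (cc k) ≫ ψ) ≫ a.act = toUnit _ ≫ unitPt ≫ sa (cc k) ≫ ψ :=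
  fixed_abs (gen₀ L) (IsFractionRing.injective _ _) (gen₀ k) (cc L) (cc k) (cst L)
    (AlgHom.ext fun r => PowerSeries.constantCoeff_C r)
    (sub PowerSeries.X PowerSeries.constantCoeff_X) (sub c hc)
    (subF PowerSeries.X PowerSeries.constantCoeff_X PowerSeries.X_ne_zero) (subF c hc hne)
    (subF_gen₀ _ _ _) (subF_gen₀ _ _ _) (cc_sub _ _) (cc_sub _ _) a x₀ q ψ hψ e heq

/-- A point fixed by the generic point of a group is fixed. -/
theorem isFixedPt_of_universal {G X : 𝒮} [GrpObj G] [IsProper X.hom] {P : Type u} [CommRing P] [IsDomain P] [Algebra k P] (a : AlgGrp.Action G X)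
    (y : 𝟙_ 𝒮 ⟶ X) (t : SA P ⟶ G) (huniv : ∀ (T : 𝒮) (g : T ⟶ G), ∃ h : T ⟶ SA P, h ≫ t = g)
    (hgen : lift (sa (IsScalarTower.toAlgHom k P (FractionRing P)) ≫ t) (toUnit _ ≫ y) ≫ a.act = toUnit _ ≫ y) :
    a.IsFixedPt y := by
  have h : lift t (toUnit _ ≫ y) ≫ a.act = toUnit _ ≫ y := by
    refine ext_of_injective (IsScalarTower.toAlgHom k P (FractionRing P)) (IsFractionRing.injective _ _) ?_
    rw [comp_lift_assoc, ← Category.assoc _ (toUnit _) y, toUnit_unique (_ ≫ toUnit _) (toUnit _)]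
    exact hgen
  intro T g
  obtain ⟨f, rfl⟩ := huniv T g
  have := congrArg (fun p => f ≫ p) h
  simpa only [comp_lift_assoc, ← Category.assoc f (toUnit _) y, toUnit_unique (f ≫ toUnit _) (toUnit _)] using this

theorem exists_fixed_Ga {G X : 𝒮} [GrpObj G] [IsProper X.hom] (a : AlgGrp.Action G X) (x₀ : 𝟙_ 𝒮 ⟶ X)
    (ei : Red.Ga (Spec (CommRingCat.of k)) ⟶ G) [IsMonHom ei]
    (hsurj : ∀ (T : 𝒮) (g : T ⟶ G), ∃ g' : T ⟶ Red.Ga (Spec (CommRingCat.of k)), g' ≫ ei = g) :
    ∃ y : 𝟙_ 𝒮 ⟶ X, a.IsFixedPt y := by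
  let F₀ := FractionRing (PowerSeries k)
  let X₀ : F₀ := algebraMap (PowerSeries k) F₀ PowerSeries.X
  obtain ⟨ψ, hψ⟩ := exists_arc (lift (gaPt X₀⁻¹ ≫ ei) (toUnit _ ≫ x₀) ≫ a.act)
  refine ⟨unitPt ≫ sa (cc k) ≫ ψ, isFixedPt_of_universal a _ (gaPt (Polynomial.X (R := k)) ≫ ei) (fun T g => ?_) ?_⟩
  · obtain ⟨g', rfl⟩ := hsurj T g
    obtain ⟨h, hh⟩ := exists_pt T (Polynomial.eval₂RingHom (GaPoints.ringMap T.hom) (Red.gaFn g'))
      (RingHom.ext fun r => by simp [Polynomial.algebraMap_eq])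
    refine ⟨h, ?_⟩
    rw [← Category.assoc]
    congr 1
    apply GaPoints.gaFn_injective
    rw [GaPoints.gaFn_comp, gaFn_gaPt, hh]
    simp
  · let L := FractionRing (Polynomial k)
    let t : L := algebraMap (Polynomial k) L Polynomial.X
    rw [← Category.assoc, sa_gaPt]
    let d : PowerSeries L := 1 + PowerSeries.C t * PowerSeries.X
    have hd : PowerSeries.constantCoeff d = 1 := by simp [d]
    have hd0 : PowerSeries.constantCoeff d ≠ 0 := hd.trans_ne one_ne_zero
    refine fixed_of_translate a x₀ _ ψ hψ _ (PowerSeries.X * d⁻¹) (by simp) ?_ ?_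
    · exact mul_ne_zero PowerSeries.X_ne_zero fun h => one_ne_zero (α := L) <| by
        have := PowerSeries.mul_inv_cancel d hd0
        rw [h, mul_zero] at this
        simpa using congrArg PowerSeries.constantCoeff this.symm
    · simp only [← Category.assoc, sa_gaPt, ← MonObj.mul_comp, gaPt_mul]
      congr 2
      show algebraMap _ (FractionRing (PowerSeries L)) (PowerSeries.C t) + subF _ _ _ X₀⁻¹ = subF _ _ _ X₀⁻¹
      have hs : ∀ (c : PowerSeries L) (hc : PowerSeries.constantCoeff c = 0) (hne : c ≠ 0),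
          subF (k := k) c hc hne X₀ = algebraMap (PowerSeries L) (FractionRing (PowerSeries L)) c :=
        fun c hc hne => (subF_algebraMap c hc hne PowerSeries.X).trans (congrArg _ (sub_X c hc))
      rw [map_inv₀, map_inv₀, hs, hs, map_mul]
      have hX : algebraMap (PowerSeries L) (FractionRing (PowerSeries L)) PowerSeries.X ≠ 0 :=
        (map_ne_zero_iff _ (IsFractionRing.injective _ _)).mpr PowerSeries.X_ne_zero
      have hdd : algebraMap (PowerSeries L) (FractionRing (PowerSeries L)) d⁻¹ =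
          (algebraMap (PowerSeries L) (FractionRing (PowerSeries L)) d)⁻¹ := by
        refine eq_inv_of_mul_eq_one_left ?_
        rw [← map_mul, PowerSeries.inv_mul_cancel d hd0, map_one]
      rw [hdd, _root_.mul_inv, _root_.inv_inv]
      simp only [d, map_add, map_mul, map_one]
      field_simp
      ring

theorem exists_fixed_Gm {G X : 𝒮} [GrpObj G] [IsProper X.hom] (a : AlgGrp.Action G X) (x₀ : 𝟙_ 𝒮 ⟶ X)
    (ei : Red.Gm (Spec (CommRingCat.of k)) ⟶ G) [IsMonHom ei]
    (hsurj : ∀ (T : 𝒮) (g : T ⟶ G), ∃ g' : T ⟶ Red.Gm (Spec (CommRingCat.of k)), g' ≫ ei = g) :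
    ∃ y : 𝟙_ 𝒮 ⟶ X, a.IsFixedPt y := by
  let F₀ := FractionRing (PowerSeries k)
  let X₀ : F₀ˣ := Units.mk0 (algebraMap (PowerSeries k) F₀ PowerSeries.X)
    ((map_ne_zero_iff _ (IsFractionRing.injective _ _)).mpr PowerSeries.X_ne_zero)
  obtain ⟨ψ, hψ⟩ := exists_arc (lift (gmPt X₀ ≫ ei) (toUnit _ ≫ x₀) ≫ a.act)
  let T₁ : (LaurentPolynomial k)ˣ := (LaurentPolynomial.isUnit_T 1).unit
  refine ⟨unitPt ≫ sa (cc k) ≫ ψ, isFixedPt_of_universal a _ (gmPt T₁ ≫ ei) (fun T g => ?_) ?_⟩
  · obtain ⟨g', rfl⟩ := hsurj T g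
    obtain ⟨h, hh⟩ := exists_pt (P := LaurentPolynomial k) T
      (LaurentPolynomial.eval₂ (GaPoints.ringMap T.hom) (GmPts.unitOfPt g')) (RingHom.ext fun r => by simp)
    refine ⟨h, ?_⟩
    rw [← Category.assoc]
    congr 1
    apply GmPts.gmFn_injective
    show Red.gmFn _ = Red.gmFn _
    rw [GmPts.gmFn_comp, gmFn_gmPt, hh]
    simpa [T₁, GmPts.val_unitOfPt] using
      LaurentPolynomial.eval₂_T_n (f := GaPoints.ringMap T.hom) (x := GmPts.unitOfPt g') 1
  · let L := FractionRing (LaurentPolynomial k)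
    rw [← Category.assoc, sa_gmPt]
    refine fixed_of_translate a x₀ _ ψ hψ _
      (PowerSeries.C (algebraMap (LaurentPolynomial k) L T₁) * PowerSeries.X) (by simp) ?_ ?_
    · exact mul_ne_zero ((map_ne_zero_iff _ PowerSeries.C_injective).mpr
        ((map_ne_zero_iff _ (IsFractionRing.injective _ _)).mpr T₁.ne_zero)) PowerSeries.X_ne_zero
    · simp only [← Category.assoc, sa_gmPt, ← MonObj.mul_comp, gmPt_mul]
      congr 2
      have hs : ∀ (c : PowerSeries L) (hc : PowerSeries.constantCoeff c = 0) (hne : c ≠ 0),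
          subF (k := k) c hc hne (X₀ : F₀) = algebraMap (PowerSeries L) (FractionRing (PowerSeries L)) c :=
        fun c hc hne => (subF_algebraMap c hc hne PowerSeries.X).trans (congrArg _ (sub_X c hc))
      apply Units.ext
      simp only [Units.val_mul, Units.coe_map, MonoidHom.coe_coe]
      rw [hs, hs, map_mul]
      rfl

end

end

/-- The case of a one-dimensional group. Let k be a field, X a proper k-scheme having a k-rational
point, and G a k-group scheme isomorphic, as a k-group scheme, to the additive group or to the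
multiplicative group over k. Then every action of G on X fixes some k-rational point of X: there is
a k-point x with g · x = x for all points g of G with values in any k-scheme. (This is the
one-dimensional case of the fixed point property of k-split solvable groups acting on proper
k-schemes with a rational point, to which the general case reduces by induction along a composition
series.) -/
theorem result (k : Type u) [Field k]
    (G X : Over (Spec (CommRingCat.of k))) [GrpObj G]
    (hG : Nonempty (Grp.mk G ≅ Grp.mk (Red.Ga (Spec (CommRingCat.of k)))) ∨ Nonempty (Grp.mk G ≅ Grp.mk (Red.Gm (Spec (CommRingCat.of k)))))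
    [IsProper X.hom] (x₀ : 𝟙_ (Over (Spec (CommRingCat.of k))) ⟶ X) (a : AlgGrp.Action G X) :
    ∃ x : 𝟙_ (Over (Spec (CommRingCat.of k))) ⟶ X, a.IsFixedPt x := by
  rcases hG with ⟨⟨e⟩⟩ | ⟨⟨e⟩⟩
  · exact exists_fixed_Ga a x₀ e.inv.hom.hom fun T g =>
      ⟨g ≫ e.hom.hom.hom, by rw [Category.assoc]; exact (congrArg (fun m => g ≫ m) (congrArg (fun f => f.hom.hom) e.hom_inv_id)).trans (Category.comp_id g)⟩
  · exact exists_fixed_Gm a x₀ e.inv.hom.hom fun T g =>
      ⟨g ≫ e.hom.hom.hom, by rw [Category.assoc]; exact (congrArg (fun m => g ≫ m) (congrArg (fun f => f.hom.hom) e.hom_inv_id)).trans (Category.comp_id g)⟩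

end Groth.Agent.S15592
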