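import Groth.Statements.S15593
import Groth.Agent.MonoFibre.HomFlat
import Groth.Agent.ASp.PropDescend
import Groth.Agent.FlatLocus.FibreCrit

set_option autoImplicit false
universe u
open CategoryTheory MonoidalCategory CartesianMonoidalCategory MonObj GrpObj AlgebraicGeometry
open AlgGrp

namespace Groth.Agent.S15593

/-- Let k be a field and f : G ⟶ G' a homomorphism of smooth k-group schemes of finite type. If f is
surjective (on underlying topological spaces) and has trivial kernel, that is, f is a monomorphism,
then f is an isomorphism. No flatness of f is assumed. -/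
theorem result (k : Type u) [Field k]
    (G G' : Over (Spec (CommRingCat.of k))) [GrpObj G] [GrpObj G']
    [Smooth G.hom] [QuasiCompact G.hom] [Smooth G'.hom] [QuasiCompact G'.hom]
    (f : G ⟶ G') [IsMonHom f] [Mono f] [Surjective f.left] : IsIso f := by
  haveI : IsReduced G'.left := ASp.isReduced_of_smooth G'.hom
  haveI : QuasiSeparatedSpace G'.left := GrpSchLib.quasiSeparatedSpace
  haveI : IsSeparated G'.hom := GrpSchLib.isSeparated_hom
  haveI : QuasiCompact (f.left ≫ G'.hom) := by rw [Over.w f]; infer_instance
  haveI : QuasiCompact f.left := QuasiCompact.of_comp f.left G'.hom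
  haveI : LocallyOfFinitePresentation (f.left ≫ G'.hom) := by rw [Over.w f]; infer_instance
  haveI : LocallyOfFinitePresentation f.left :=
    FlatLocus.locallyOfFinitePresentation_of_comp f.left G'.hom
  haveI : Flat f.left := MonoFibre.flat_of_denseRange f f.left.surjective.denseRange
  haveI := IsOpenImmersion.of_flat_of_mono f.left
  haveI : IsIso f.left := (isIso_iff_isOpenImmersion_and_surjective _).mpr ⟨inferInstance, inferInstance⟩
  haveI : IsIso ((Over.forget _).map f) := ‹IsIso f.left›
  exact isIso_of_reflects_iso f (Over.forget _)

end Groth.Agent.S15593
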