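import Groth.Statements.S15594
import Mathlib

set_option autoImplicit false
universe u
open TensorProduct
open AGF

namespace Groth.Agent.S15594

open Polynomial TensorProduct

/-- Affine form. Let k ⊆ K be a field extension, A a commutative k-algebra and S a set of k-algebra
homomorphisms A → k (rational points of Spec A). The ideal ⋂_{σ ∈ S} ker σ cuts out the Zariski
closure of S with its reduced structure, and its extension to K ⊗_k A equals ⋂_{σ ∈ S} ker σ_K,
where σ_K : K ⊗_k A → K is the K-algebra map induced by σ. In words: the closure of a set of
rational points is formed compatibly with extension of the ground field. (The published statement is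
for schemes locally of finite type; this affine row assumes no finiteness, which the argument does
not use.) -/
theorem result (k K A : Type u) [Field k] [Field K] [Algebra k K]
    [CommRing A] [Algebra k A] (S : Set (A →ₐ[k] k)) :
    Ideal.map (Algebra.TensorProduct.includeRight : A →ₐ[k] K ⊗[k] A) (⨅ σ ∈ S, RingHom.ker σ) =
      ⨅ σ ∈ S, RingHom.ker ((Algebra.TensorProduct.rid k K K).toAlgHom.comp
        (Algebra.TensorProduct.map (AlgHom.id K K) σ)) := by
  apply le_antisymm
  · rw [Ideal.map_le_iff_le_comap]
    intro a ha
    simp only [Ideal.mem_iInf, RingHom.mem_ker] at ha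
    simp only [Ideal.mem_comap, Ideal.mem_iInf, RingHom.mem_ker]
    intro σ hσ
    simp [ha σ hσ]
  · intro x hx
    obtain ⟨c, rfl⟩ := TensorProduct.eq_repr_basis_left (Module.Free.chooseBasis k K) x
    refine Ideal.sum_mem _ fun i _ => ?_
    have hc : c i ∈ ⨅ σ ∈ S, RingHom.ker σ := by
      simp only [Ideal.mem_iInf, RingHom.mem_ker] at hx ⊢
      intro σ hσ
      have h := hx σ hσ
      simp only [map_finsuppSum, AlgHom.comp_apply, Algebra.TensorProduct.map_tmul, AlgEquiv.toAlgHom_eq_coe, AlgHom.coe_coe,
        Algebra.TensorProduct.rid_tmul, AlgHom.id_apply] at h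
      have := linearIndependent_iff.1 (Module.Free.chooseBasis k K).linearIndependent
        (c.mapRange σ (map_zero σ))
        (by rw [Finsupp.linearCombination_apply, Finsupp.sum_mapRange_index (by simp)]; exact h)
      simpa using DFunLike.congr_fun this i
    have := Ideal.mul_mem_left _ ((Module.Free.chooseBasis k K i) ⊗ₜ[k] (1:A))
      (Ideal.mem_map_of_mem (Algebra.TensorProduct.includeRight : A →ₐ[k] K ⊗[k] A) hc)
    simpa using this

end Groth.Agent.S15594
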