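import Groth.Statements.S15595
import Groth.Agent.S2470

set_option autoImplicit false
universe u
open TensorProduct
attribute [local instance] RingHom.ker_isPrime
open CAlg

open TensorProduct
namespace Groth.Agent.S15595

/-- Let k ⊆ K be a field extension and A a Noetherian local k-algebra with residue field k, recorded by
a k-algebra map π : A → k whose kernel is the maximal ideal. Let π_K : K ⊗_k A → K be the induced
K-algebra map, m' its kernel, and A' the localization of K ⊗_k A at m'. Assume A' is Noetherian.
Then A is a regular local ring if and only if A' is a regular local ring. -/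
theorem result (k K A : Type u) [Field k] [Field K]
    [Algebra k K] [CommRing A] [Algebra k A] [IsLocalRing A] [IsNoetherianRing A]
    (π : A →ₐ[k] k) (hπ : RingHom.ker π = IsLocalRing.maximalIdeal A)
    [IsNoetherianRing (Localization.AtPrime (RingHom.ker
      ((Algebra.TensorProduct.rid k K K).toAlgHom.comp (Algebra.TensorProduct.map (AlgHom.id K K) π))))] :
    IsRegularLocalRing A ↔ IsRegularLocalRing (Localization.AtPrime (RingHom.ker
      ((Algebra.TensorProduct.rid k K K).toAlgHom.comp (Algebra.TensorProduct.map (AlgHom.id K K) π)))) := by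
  let πK := (Algebra.TensorProduct.rid k K K).toAlgHom.comp (Algebra.TensorProduct.map (AlgHom.id K K) π)
  let q := RingHom.ker πK
  let A' := Localization.AtPrime q
  have hπs : Function.Surjective π := fun c => ⟨algebraMap k A c, π.commutes c⟩
  have hq : q = (IsLocalRing.maximalIdeal A).map (Algebra.TensorProduct.includeRight : A →ₐ[k] K ⊗[k] A) := by
    have h := Algebra.TensorProduct.lTensor_ker (A := K) π hπs
    rw [← hπ]
    refine Eq.trans ?_ h
    ext x
    simp only [q, πK, RingHom.mem_ker, AlgHom.comp_apply]
    exact map_eq_zero_iff _ (Algebra.TensorProduct.rid k K K).injective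
  letI algT : Algebra A (K ⊗[k] A) := Algebra.TensorProduct.rightAlgebra
  have hmap : (IsLocalRing.maximalIdeal A).map (algebraMap A A') = IsLocalRing.maximalIdeal A' := by
    rw [IsScalarTower.algebraMap_eq A (K ⊗[k] A) A', ← Ideal.map_map, ← Localization.AtPrime.map_eq_maximalIdeal]
    exact congrArg (Ideal.map _) hq.symm
  haveI : IsLocalHom (algebraMap A A') := by
    refine ((IsLocalRing.local_hom_TFAE (algebraMap A A')).out 0 2 rfl rfl).2 ?_
    exact hmap.le
  haveI : Module.Flat A A' := by
    haveI : Module.Flat A (K ⊗[k] A) :=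
      Module.Flat.of_linearEquiv (Algebra.TensorProduct.commRight k A K).symm.toLinearEquiv
    exact Module.Flat.trans A (K ⊗[k] A) A'
  haveI : Nontrivial (A' ⧸ (IsLocalRing.maximalIdeal A).map (algebraMap A A')) :=
    Ideal.Quotient.nontrivial_iff.2 (hmap ▸ (IsLocalRing.maximalIdeal.isMaximal A').ne_top)
  haveI : IsLocalRing (A' ⧸ (IsLocalRing.maximalIdeal A).map (algebraMap A A')) :=
    IsLocalRing.of_surjective' (Ideal.Quotient.mk _) Ideal.Quotient.mk_surjective
  haveI : IsRegularLocalRing (A' ⧸ (IsLocalRing.maximalIdeal A).map (algebraMap A A')) :=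
    IsRegularLocalRing.of_ringEquiv (R := IsLocalRing.ResidueField A') (Ideal.quotEquivOfEq hmap.symm)
  have h := (Groth.Agent.S2470.result (A := A) (B := A')).out 1 2 rfl rfl
  exact ⟨fun hA => (h.2 ⟨hA, inferInstance, inferInstance⟩).1, fun hA => (h.1 ⟨hA, inferInstance, inferInstance⟩).1⟩

end Groth.Agent.S15595
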