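import Groth.Statements.S15596
-- import your own Groth.Agent.* helpers here

set_option autoImplicit false
set_option backward.isDefEq.respectTransparency false
universe u
open CategoryTheory MonoidalCategory CartesianMonoidalCategory MonObj GrpObj AlgebraicGeometry
open AlgGrp

namespace Groth.Agent.S15596

/-- Let k be an algebraically closed field, H a smooth k-group scheme of finite type, and U a dense open
subset of H. Then every k-rational point h of H is of the form u₂ · u₁⁻¹ for k-rational points u₁,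
u₂ of H whose underlying points lie in U. -/
theorem result (k : Type u) [Field k] [IsAlgClosed k]
    (H : Over (Spec (CommRingCat.of k))) [GrpObj H] [Smooth H.hom] [QuasiCompact H.hom]
    (U : H.left.Opens) (hU : Dense (U : Set ↥H.left)) (h : 𝟙_ (Over (Spec (CommRingCat.of k))) ⟶ H) :
    ∃ u₁ u₂ : 𝟙_ (Over (Spec (CommRingCat.of k))) ⟶ H,
      u₁.left.base (IsLocalRing.closedPoint k) ∈ U ∧ u₂.left.base (IsLocalRing.closedPoint k) ∈ U ∧
        h = u₂ * u₁⁻¹ := by
  classical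
  let φ : H ⟶ H := (toUnit H ≫ h) * 𝟙 H
  let ψ : H ⟶ H := (toUnit H ≫ h⁻¹) * 𝟙 H
  have hcomp : ∀ (a b : 𝟙_ (Over (Spec (CommRingCat.of k))) ⟶ H) (f : H ⟶ H),
      f ≫ ((toUnit H ≫ a) * 𝟙 H) = (toUnit H ≫ a) * f := by
    intro a b f
    rw [MonObj.comp_mul, Category.comp_id, ← Category.assoc, toUnit_unique (f ≫ toUnit H) (toUnit H)]
  have hφψ : φ ≫ ψ = 𝟙 H := by
    show φ ≫ ((toUnit H ≫ h⁻¹) * 𝟙 H) = _
    rw [hcomp h⁻¹ h φ]
    show (toUnit H ≫ h⁻¹) * ((toUnit H ≫ h) * 𝟙 H) = _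
    rw [← _root_.mul_assoc, ← MonObj.comp_mul, inv_mul_cancel, MonObj.comp_one, _root_.one_mul]
  have hψφ : ψ ≫ φ = 𝟙 H := by
    show ψ ≫ ((toUnit H ≫ h) * 𝟙 H) = _
    rw [hcomp h h ψ]
    show (toUnit H ≫ h) * ((toUnit H ≫ h⁻¹) * 𝟙 H) = _
    rw [← _root_.mul_assoc, ← MonObj.comp_mul, mul_inv_cancel, MonObj.comp_one, _root_.one_mul]
  have hsurj : Function.Surjective φ.left.base := fun y => ⟨ψ.left.base y, by
    rw [← Scheme.Hom.comp_apply, ← Over.comp_left, hψφ]
    rfl⟩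
  have hne : ((U : Set H.left) ∩ φ.left.base ⁻¹' (U : Set H.left)).Nonempty := by
    haveI : Nonempty H.left := ⟨η[H].left.base (IsLocalRing.closedPoint k)⟩
    obtain ⟨z, hz⟩ := hU.nonempty
    obtain ⟨x, hx⟩ := hsurj z
    have hV : IsOpen (φ.left.base ⁻¹' (U : Set H.left)) := U.2.preimage φ.left.base.hom.continuous
    obtain ⟨w, hw, hw'⟩ := hU.inter_open_nonempty _ hV ⟨x, show φ.left.base x ∈ U from hx ▸ hz⟩
    exact ⟨w, hw', hw⟩
  haveI := LocallyOfFiniteType.jacobsonSpace H.hom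
  obtain ⟨w, hw, hwc⟩ := nonempty_inter_closedPoints hne
    (IsOpen.isLocallyClosed (U.2.inter (U.2.preimage φ.left.base.hom.continuous)))
  let u₁ : 𝟙_ (Over (Spec (CommRingCat.of k))) ⟶ H :=
    Over.homMk (pointOfClosedPoint H.hom w hwc) (pointOfClosedPoint_comp H.hom w hwc)
  have hu₁ : u₁.left.base (IsLocalRing.closedPoint k) = w :=
    pointOfClosedPoint_apply H.hom w hwc _
  refine ⟨u₁, h * u₁, hu₁ ▸ hw.1, ?_, by group⟩
  have h2 : u₁ ≫ φ = h * u₁ := by
    show u₁ ≫ ((toUnit H ≫ h) * 𝟙 H) = _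
    rw [MonObj.comp_mul, Category.comp_id, ← Category.assoc, toUnit_unique (u₁ ≫ toUnit H) (𝟙 _),
      Category.id_comp]
  rw [← h2]
  show φ.left.base (u₁.left.base (IsLocalRing.closedPoint k)) ∈ U
  rw [hu₁]
  exact hw.2

end Groth.Agent.S15596
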