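import Groth.Statements.S15598
import Groth.Agent.MonoFibre.FlatOrbit
import Groth.Agent.MonoFibre.HomFlat
import Groth.Agent.ASp.PropDescend
-- import your own Groth.Agent.* helpers here

set_option autoImplicit false
universe u
open CategoryTheory MonoidalCategory CartesianMonoidalCategory MonObj GrpObj AlgebraicGeometry
open AlgGrp

namespace Groth.Agent.S15598

/-- Let k be an algebraically closed field, G a k-group scheme of finite type, and X a smooth connected
k-scheme with an action of G. Suppose that for some k-point x₀ of X the orbit map g ↦ g · x₀ from G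
to X is surjective, and that the stabilizer of x₀, a subgroup scheme H ⟶ G whose points are exactly
the points g of G with g · x₀ = x₀, is connected. Then G is connected. (Stated over an algebraically
closed field, to which the general case reduces since a k-group scheme of finite type is connected
exactly when it is geometrically connected.) -/
theorem result (k : Type u) [Field k] [IsAlgClosed k]
    (G X : Over (Spec (CommRingCat.of k))) [GrpObj G] [LocallyOfFiniteType G.hom] [QuasiCompact G.hom]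
    [Smooth X.hom] [ConnectedSpace ↥X.left] (a : AlgGrp.Action G X) (x₀ : 𝟙_ (Over (Spec (CommRingCat.of k))) ⟶ X)
    (hsurj : Surjective (a.orbitMap x₀).left)
    (H : Over (Spec (CommRingCat.of k))) [GrpObj H] (i : H ⟶ G) [IsMonHom i] [Mono i]
    (hH : ∀ (T : Over (Spec (CommRingCat.of k))) (g : T ⟶ G), (∃ h : T ⟶ H, h ≫ i = g) ↔ g ≫ a.orbitMap x₀ = toUnit T ≫ x₀)
    [ConnectedSpace ↥H.left] : ConnectedSpace ↥G.left := by
  haveI : IsReduced X.left := Groth.Agent.ASp.isReduced_of_smooth X.hom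
  haveI : Subsingleton ↥(Spec (CommRingCat.of k)) := inferInstanceAs (Subsingleton (PrimeSpectrum k))
  let pt : ↥(Spec (CommRingCat.of k)) := IsLocalRing.closedPoint k
  haveI : Flat G.hom := inferInstance
  let φ := a.orbitMap x₀
  haveI : Surjective φ.left := hsurj
  obtain ⟨ξ, -, hξ⟩ := Groth.Agent.MonoFibre.exists_isMaxPt (x₀.left pt)
  obtain ⟨γ₀, hγ₀⟩ := φ.left.surjective ξ
  haveI : Flat φ.left := Groth.Agent.MonoFibre.flat_orbitMap_of_flat_at a x₀ ⟨γ₀, by
    exact Groth.Agent.MonoFibre.flat_stalkMap_of_isPullback_maxPt (IsPullback.of_horiz_isIso (fst := 𝟙 G.left) (snd := φ.left) (f := φ.left) (g := 𝟙 X.left) ⟨by simp⟩) γ₀ (hγ₀ ▸ hξ)⟩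
  haveI : IsLocallyNoetherian X.left := LocallyOfFiniteType.isLocallyNoetherian X.hom
  haveI : LocallyOfFiniteType (φ.left ≫ X.hom) := by rw [Over.w]; infer_instance
  haveI : LocallyOfFiniteType φ.left := locallyOfFiniteType_of_comp φ.left X.hom
  haveI : LocallyOfFinitePresentation φ.left := inferInstance
  have hop : IsOpenMap φ.left := φ.left.isOpenMap
  haveI : JacobsonSpace G.left := LocallyOfFiniteType.jacobsonSpace G.hom
  haveI : JacobsonSpace X.left := LocallyOfFiniteType.jacobsonSpace X.hom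
  haveI : Nonempty G.left := ⟨η[G].left pt⟩
  haveI : PreconnectedSpace G.left := preconnectedSpace_iff_clopen.mpr fun U hU => by
    by_contra hc
    push_neg at hc
    have hUc : Uᶜ.Nonempty := Set.nonempty_compl.mpr hc.2
    obtain ⟨x, ⟨hxU, hxV⟩, hxc⟩ := nonempty_inter_closedPoints (Z := φ.left '' U ∩ φ.left '' Uᶜ) (by
      obtain ⟨y, -, hy⟩ := isPreconnected_univ (φ.left '' U) (φ.left '' Uᶜ) (hop _ hU.2) (hop _ hU.1.isOpen_compl)
        (by rw [← Set.image_union, Set.union_compl_self, Set.image_univ, φ.left.surjective.range_eq])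
        (by simpa using hc.1.image φ.left) (by simpa using hUc.image φ.left)
      exact ⟨y, hy⟩) ((hop _ hU.2).inter (hop _ hU.1.isOpen_compl)).isLocallyClosed
    have pick : ∀ W : Set G.left, IsClosed W → x ∈ φ.left '' W →
        ∃ g : 𝟙_ (Over (Spec (CommRingCat.of k))) ⟶ G, g.left pt ∈ W ∧ φ.left (g.left pt) = x := fun W hW ⟨w, hw, hwx⟩ => by
      obtain ⟨p, ⟨hp₁, hp₂⟩, hpc⟩ := nonempty_inter_closedPoints (Z := W ∩ φ.left ⁻¹' {x}) ⟨w, hw, hwx⟩
        (hW.inter (hxc.preimage φ.left.continuous)).isLocallyClosed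
      refine ⟨Over.homMk (pointOfClosedPoint G.hom p hpc) (pointOfClosedPoint_comp _ _ _), ?_, ?_⟩
      · show pointOfClosedPoint G.hom p hpc pt ∈ W
        rw [pointOfClosedPoint_apply]; exact hp₁
      · show φ.left (pointOfClosedPoint G.hom p hpc pt) = x
        rw [pointOfClosedPoint_apply]; exact hp₂
    obtain ⟨g, hg, hgx⟩ := pick U hU.1 hxU
    obtain ⟨g', hg', hgx'⟩ := pick Uᶜ hU.2.isClosed_compl hxV
    have hgg : g ≫ φ = g' ≫ φ := Over.OverMorphism.ext (ext_of_apply_closedPoint_eq X.hom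
      (Over.w (g ≫ φ)) (Over.w (g' ≫ φ)) (hgx.trans hgx'.symm))
    have hstab : (g⁻¹ * g') ≫ φ = toUnit _ ≫ x₀ := by
      rw [Groth.Agent.MonoFibre.orbitMap_apply, Groth.Agent.MonoFibre.act_mul,
        ← Groth.Agent.MonoFibre.orbitMap_apply, ← hgg, Groth.Agent.MonoFibre.orbitMap_apply,
        ← Groth.Agent.MonoFibre.act_mul, inv_mul_cancel, Groth.Agent.MonoFibre.act_one]
    obtain ⟨h, hh⟩ := (hH _ (g⁻¹ * g')).mpr hstab
    let τ : H ⟶ G := (toUnit H ≫ g) * i
    have hτ : ∀ s : 𝟙_ (Over (Spec (CommRingCat.of k))) ⟶ H, s ≫ τ = g * (s ≫ i) := fun s => by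
      rw [MonObj.comp_mul, ← Category.assoc, toUnit_unique (s ≫ toUnit H) (𝟙 _), Category.id_comp]
    obtain ⟨y, -, hy, hy'⟩ := (isPreconnected_range τ.left.continuous) U Uᶜ hU.2 hU.1.isOpen_compl
      (by rw [Set.union_compl_self]; exact Set.subset_univ _)
      ⟨g.left pt, ⟨η[H].left pt, by
        rw [← Scheme.Hom.comp_apply, ← Over.comp_left, hτ, IsMonHom.one_hom i,
          show η[G] = (1 : 𝟙_ (Over (Spec (CommRingCat.of k))) ⟶ G) by
            rw [Hom.one_def, toUnit_unique (toUnit (𝟙_ (Over (Spec (CommRingCat.of k))))) (𝟙 _), Category.id_comp],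
          _root_.mul_one]⟩, hg⟩
      ⟨g'.left pt, ⟨h.left pt, by rw [← Scheme.Hom.comp_apply, ← Over.comp_left, hτ, hh, mul_inv_cancel_left]⟩, hg'⟩
    exact hy' hy
  exact ⟨‹_›⟩

end Groth.Agent.S15598
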