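import Groth.Statements.S15599
import Groth.Agent.S8074
-- import your own Groth.Agent.* helpers here

set_option autoImplicit false
set_option linter.all false
set_option maxHeartbeats 1600000
set_option synthInstance.maxHeartbeats 400000
set_option backward.isDefEq.respectTransparency false
set_option backward.isDefEq.respectTransparency.types false
universe u
open CategoryTheory MonoidalCategory CartesianMonoidalCategory MonObj GrpObj AlgebraicGeometry
open AGF

namespace Groth.Agent.S15599

open Groth.Agent GenSubLib S8074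

/-- Let k be an algebraically closed field and G a smooth affine k-group scheme, not necessarily
connected, whose unipotent radical is trivial: every smooth connected normal closed subgroup scheme
of G containing no non-trivial subtorus is trivial. Let N ⟶ G be a smooth closed normal subgroup
scheme, not necessarily connected. Then N has the same property: every smooth connected closed
subgroup scheme of N which is normal in N and contains no non-trivial subtorus is trivial.
Reductivity, in this sense allowing disconnected groups, passes to smooth normal subgroups. (The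
published statement is over an arbitrary field, with reductivity defined after extension to an
algebraic closure; this row is the algebraically closed case.) -/
theorem result (k : Type u) [Field k] [IsAlgClosed k]
    (G N : Over (Spec (CommRingCat.of k))) [GrpObj G] [GrpObj N] [IsAffine G.left] [Smooth G.hom]
    (j : N ⟶ G) [IsMonHom j] (hj : IsClosedImmersion j.left) [Smooth N.hom] (hN : AlgGrp.IsNormalHom j)
    (hG : ∀ (U : Over (Spec (CommRingCat.of k))) [GrpObj U] (i : U ⟶ G) [IsMonHom i], IsClosedImmersion i.left → Smooth U.hom →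
        ConnectedSpace ↥U.left → AlgGrp.IsNormalHom i → Red.HasNoSubtorus k U → Red.IsTrivialGrp U) :
    ∀ (U : Over (Spec (CommRingCat.of k))) [GrpObj U] (i : U ⟶ N) [IsMonHom i], IsClosedImmersion i.left → Smooth U.hom →
        ConnectedSpace ↥U.left → AlgGrp.IsNormalHom i → Red.HasNoSubtorus k U → Red.IsTrivialGrp U := by
  intro U _ u _ hu hus huc hun hno
  haveI := hj
  haveI : LocallyOfFiniteType G.hom := inferInstance
  haveI : Mono j := Over.mono_of_mono_left j
  haveI : LocallyOfFiniteType N.hom := inferInstance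
  haveI : QuasiCompact N.hom := by rw [← Over.w j]; infer_instance
  haveI hNa : IsAffine N.left := isAffine_of_isAffineHom j.left
  let I₀ := Σ' (T : Over (Spec (CommRingCat.of k))) (_ : GrpObj T), T ⟶ N
  let p : I₀ → Prop := fun c => letI := c.2.1; IsMonHom c.2.2 ∧ IsClosedImmersion c.2.2.left ∧ Smooth c.1.hom ∧
    ConnectedSpace c.1.left ∧ AlgGrp.IsNormalHom c.2.2 ∧ Red.HasNoSubtorus k c.1
  obtain ⟨⟨R, hR, r0⟩, ⟨hj, hjc, hjs, hjcon, hjn, hRno⟩, hmax⟩ := exists_max (G := N) p
    ⟨⟨U, ‹GrpObj U›, u⟩, ‹IsMonHom u›, hu, hus, huc, hun, hno⟩ (fun c => Set.range c.2.2.left) (by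
      rintro ⟨H, hH, h⟩ ⟨hh, hhc, hhs, hhcon, -, -⟩
      letI := hH
      haveI : IsClosedImmersion h.left := hhc
      haveI : ConnectedSpace H.left := hhcon
      haveI : LocallyOfFiniteType H.hom := by rw [← Over.w h]; infer_instance
      haveI := GrpSchLib.irreducibleSpace_of_connectedSpace (G := H)
      refine ⟨h.left.isClosedEmbedding.isClosed_range, ?_⟩
      show IsIrreducible (Set.range h.left)
      rw [← Set.image_univ]
      exact (IrreducibleSpace.isIrreducible_univ _).image _ h.left.continuous.continuousOn)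
  letI := hR
  haveI : IsMonHom r0 := hj
  haveI : IsClosedImmersion r0.left := hjc
  haveI : Smooth R.hom := hjs
  haveI : ConnectedSpace R.left := hjcon
  haveI : Mono r0 := Over.mono_of_mono_left r0
  haveI : LocallyOfFiniteType R.hom := inferInstance
  haveI : QuasiCompact R.hom := by rw [← Over.w r0]; infer_instance
  haveI : IsAffine R.left := isAffine_of_isAffineHom r0.left
  have hlarge : ∀ (H' : Over (Spec (CommRingCat.of k))) [GrpObj H'] (r0' : H' ⟶ N) [IsMonHom r0'],
      IsClosedImmersion r0'.left → Smooth H'.hom → ConnectedSpace H'.left → AlgGrp.IsNormalHom r0' →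
      Red.HasNoSubtorus k H' → ∃ f : H' ⟶ R, f ≫ r0 = r0' := by
    intro H' _ r0' _ hc' hs' hcon' hn' hno'
    haveI := hc'
    haveI := hs'
    haveI := hcon'
    haveI : IsAffine H'.left := isAffine_of_isAffineHom r0'.left
    obtain ⟨M, hM, m, a', b', hm, hmc, hms, hmcon, hmn, ha', hb', hrange⟩ := exists_product r0 r0' hjn hn'
    letI := hM
    haveI := hm
    haveI := hmc
    haveI := hms
    haveI : Mono m := Over.mono_of_mono_left m
    have hMno : Red.HasNoSubtorus k M := hasNoSubtorus_product r0 r0' m hjn hrange hRno hno'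
    have hsub := hmax ⟨M, hM, m⟩ ⟨hm, hmc, hms, hmcon, hmn, hMno⟩ (by
      rintro _ ⟨z, rfl⟩
      exact ⟨a'.left z, by rw [← Scheme.Hom.comp_apply, ← Over.comp_left, ha']⟩)
    haveI : IsReduced H'.left := ASp.isReduced_of_smooth H'.hom
    refine exists_lift_of_range r0 r0' ?_
    rintro _ ⟨z, rfl⟩
    exact hsub ⟨b'.left z, by rw [← Scheme.Hom.comp_apply, ← Over.comp_left, hb']⟩
  haveI : IsClosedImmersion (r0 ≫ j).left := by rw [Over.comp_left]; infer_instance
  have hRG : AlgGrp.IsNormalHom (r0 ≫ j) := by
    refine S8075.normal_of_pts (r0 ≫ j) fun g x => ?_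
    have hα : ∀ g : (𝟙_ (Over (Spec (CommRingCat.of k)))) ⟶ G, ∃ α : N ⟶ N, ∀ {T : Over (Spec (CommRingCat.of k))} (y : T ⟶ N),
        (y ≫ α) ≫ j = (toUnit T ≫ g) * (y ≫ j) * (toUnit T ≫ g)⁻¹ := fun g => by
      obtain ⟨α, hα⟩ := hN N (toUnit N ≫ g) (𝟙 N)
      refine ⟨α, fun {T} y => ?_⟩
      rw [Category.assoc, ← hα]
      simp only [MonObj.comp_mul, GrpObj.comp_inv, Category.id_comp]
      rw [← Category.assoc, toUnit_unique (y ≫ toUnit N) (toUnit T)]
    choose α hα using hα
    have hmul : ∀ (g : (𝟙_ (Over (Spec (CommRingCat.of k)))) ⟶ G) {T : Over (Spec (CommRingCat.of k))} (a b : T ⟶ N),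
        (a * b) ≫ α g = (a ≫ α g) * (b ≫ α g) := fun g T a b => by
      rw [← cancel_mono j, MonObj.mul_comp _ _ j, hα, hα, hα, MonObj.mul_comp]
      group
    have hmon : ∀ g, IsMonHom (α g) := fun g => UnipIsogLib.isMonHom_of_upts (α g) (fun a b => hmul g a b)
    haveI := hmon g
    have hinv : ∀ g : (𝟙_ (Over (Spec (CommRingCat.of k)))) ⟶ G, α g ≫ α g⁻¹ = 𝟙 N := fun g => by
      rw [← cancel_mono j, hα g⁻¹ (α g)]
      conv_lhs => rw [← Category.id_comp (α g), hα g (𝟙 N)]
      simp only [GrpObj.comp_inv, Category.id_comp]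
      group
    haveI : IsIso (α g) := ⟨α g⁻¹, hinv g, by simpa using hinv g⁻¹⟩
    haveI : IsIso (α g).left := (Over.forget _).map_isIso (α g)
    haveI : IsClosedImmersion (r0 ≫ α g).left := by rw [Over.comp_left]; infer_instance
    have hn : AlgGrp.IsNormalHom (r0 ≫ α g) := by
      intro T a y
      obtain ⟨z, hz⟩ := hjn T (a ≫ inv (α g)) y
      refine ⟨z, ?_⟩
      have := congrArg (· ≫ α g) hz
      simpa [MonObj.mul_comp, GrpObj.inv_comp] using this
    obtain ⟨f, hf⟩ := hlarge R (r0 ≫ α g) inferInstance hjs hjcon hn hRno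
    refine ⟨x ≫ f, ?_⟩
    calc g * (x ≫ r0 ≫ j) * g⁻¹ = ((x ≫ r0) ≫ α g) ≫ j := by
          rw [hα g (x ≫ r0), toUnit_unique (toUnit (𝟙_ (Over (Spec (CommRingCat.of k))))) (𝟙 (𝟙_ (Over (Spec (CommRingCat.of k))))), Category.id_comp, Category.assoc]
      _ = (x ≫ f) ≫ r0 ≫ j := by
          rw [Category.assoc x r0, ← hf]; simp
  have hRtriv : Red.IsTrivialGrp R := hG R (r0 ≫ j) inferInstance hjs hjcon hRG hRno
  obtain ⟨f, hf⟩ := hlarge U u hu hus huc hun hno
  haveI : Mono u := Over.mono_of_mono_left u
  refine isTrivialGrp_of_mono_eq_one u ?_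
  rw [← hf, eq_one_of_isTrivialGrp hRtriv r0, MonObj.comp_one]

end Groth.Agent.S15599
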