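import Groth.Statements.S15600
import Groth.Agent.S8074
import Groth.Agent.GenSubLib.Universal
import Groth.Agent.GenSubLib.Conj
import Groth.Agent.GrpSchLib.Immersion
import Groth.Agent.CommSpreadLib.Field
import Groth.Agent.AVLib.GeomInt
-- import your own Groth.Agent.* helpers here

set_option autoImplicit false
set_option backward.isDefEq.respectTransparency false
set_option backward.isDefEq.respectTransparency.types false
set_option linter.all false
set_option maxHeartbeats 1600000
set_option synthInstance.maxHeartbeats 400000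
universe u
open CategoryTheory MonoidalCategory CartesianMonoidalCategory MonObj GrpObj AlgebraicGeometry
open AGF

namespace Groth.Agent.S15600

open Groth.Agent GenSubLib in
/-- The set generated by the conjugates of a connected subgroup is connected. -/
theorem isConnected_wordSet_conj {k : Type u} [Field k] {G U : Over (Spec (CommRingCat.of k))} [GrpObj G] [GrpObj U]
    [ConnectedSpace U.left] (a : U ⟶ G) [IsMonHom a] :
    _root_.IsConnected (wordSet (fun _ : PUnit.{1} => fst G U * (snd G U ≫ a) * (fst G U)⁻¹)) := by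
  haveI := geometricallyConnected_of_rational η[U]
  let f := fst G U * (snd G U ≫ a) * (fst G U)⁻¹
  let F : PUnit.{1} → (G ⊗ U ⟶ G) := fun _ => f
  have hone : ∀ {T : Over (Spec (CommRingCat.of k))} (y : T ⟶ G), lift y (1 : T ⟶ U) ≫ f = 1 := fun {T} y => by
    simp [f, MonObj.comp_mul, GrpObj.comp_inv, MonObj.one_comp]
  let p₀ : (𝟙_ (Over (Spec (CommRingCat.of k)))).left := IsLocalRing.closedPoint k
  let e₀ : G.left := η[G].left p₀
  refine ⟨⟨e₀, one_mem_wordSet _ p₀⟩, isPreconnected_of_forall e₀ fun z hz => ?_⟩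
  obtain ⟨l, hl⟩ := Set.mem_iUnion.1 hz
  clear hz
  induction l generalizing z with
  | nil =>
    refine ⟨Set.range (word F []).left,
      Set.subset_iUnion (fun l => Set.range (word F l).left) [],
      ⟨p₀, rfl⟩, hl, ?_⟩
    haveI : Subsingleton ↥(src (fun _ : PUnit.{1} => G ⊗ U) []).left := inferInstanceAs (Subsingleton (PrimeSpectrum k))
    exact (Set.subsingleton_of_subsingleton.image _).isPreconnected |> fun h => by
      rwa [Set.image_univ] at h
  | cons c l ih =>
    obtain ⟨q, rfl⟩ := hl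
    let Q := src (fun _ : PUnit.{1} => G ⊗ U) (c :: l)
    let T := pt Q q
    let i₀ : T ⟶ (G ⊗ U) ⊗ src (fun _ : PUnit.{1} => G ⊗ U) l := ptι Q q
    let t : T ⟶ src (fun _ : PUnit.{1} => G ⊗ U) l := i₀ ≫ snd _ _
    let y : T ⟶ G := i₀ ≫ fst _ _ ≫ fst G U
    let v : U ⊗ T ⟶ src (fun _ : PUnit.{1} => G ⊗ U) (c :: l) :=
      lift (lift (snd U T ≫ y) (fst U T)) (snd U T ≫ t)
    let u : U ⊗ T ⟶ G := v ≫ word F (c :: l)
    haveI : ConnectedSpace ↥(U ⊗ T).left := by
      haveI : Subsingleton ↥T.left := inferInstanceAs (Subsingleton (PrimeSpectrum (Q.left.residueField q)))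
      haveI : GeometricallyConnected (snd U T).left := MorphismProperty.pullback_snd _ _ ‹GeometricallyConnected U.hom›
      haveI : Nonempty ↥T.left := ⟨pt₀ Q q⟩
      exact GeometricallyConnected.connectedSpace_of_subsingleton (f := (snd U T).left)
    have hu : Set.range u.left ⊆ wordSet F := by
      rintro _ ⟨w, rfl⟩
      exact Set.mem_iUnion.2 ⟨c :: l, v.left w, rfl⟩
    have hq : (i₀.left) (pt₀ Q q) = q := ptι_apply Q q _
    have hzu : (word F (c :: l)).left q ∈ Set.range u.left := by
      refine ⟨(lift (i₀ ≫ fst _ _ ≫ snd G U) (𝟙 T)).left (pt₀ Q q), ?_⟩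
      have e : lift (i₀ ≫ fst _ _ ≫ snd G U) (𝟙 T) ≫ v = i₀ := by
        apply CartesianMonoidalCategory.hom_ext
        · apply CartesianMonoidalCategory.hom_ext <;> simp [v, y]
        · simp [v, t]
      show (v ≫ word F (c :: l)).left _ = _
      rw [← Scheme.Hom.comp_apply, ← Over.comp_left, ← Category.assoc, e]
      exact congrArg (word F (c :: l)).left hq
    have h1 : (t ≫ word F l).left (pt₀ Q q) ∈ Set.range u.left := by
      refine ⟨(lift (1 : T ⟶ U) (𝟙 T)).left (pt₀ Q q), ?_⟩
      have e0 : lift (1 : T ⟶ U) (𝟙 T) ≫ v = lift (lift y (1 : T ⟶ U)) t := by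
        apply CartesianMonoidalCategory.hom_ext
        · apply CartesianMonoidalCategory.hom_ext <;> simp [v]
        · simp [v]
      have e : lift (1 : T ⟶ U) (𝟙 T) ≫ u = t ≫ word F l := by
        rw [← Category.assoc, e0]
        refine (comp_word_cons F c l _ t).trans ?_
        unfold letter
        split
        · show (lift y 1 ≫ f) * _ = _
          rw [hone, _root_.one_mul]
        · show (lift y 1 ≫ f⁻¹) * _ = _
          rw [GrpObj.comp_inv, hone, inv_one, _root_.one_mul]
      rw [← Scheme.Hom.comp_apply, ← Over.comp_left, e]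
    obtain ⟨C, hC, heC, hzC, hCp⟩ := ih _ ⟨t.left (pt₀ Q q), rfl⟩
    exact ⟨Set.range u.left ∪ C, Set.union_subset hu hC, Or.inr heC, Or.inl hzu,
      (isPreconnected_range u.left.continuous).union _ h1 hzC hCp⟩

open Groth.Agent GenSubLib in
/-- The conjugates of a normal subgroup without subtori lie in one such subgroup which is normal in the ambient group. -/
theorem exists_big {K : Type u} [Field K] [IsAlgClosed K] {G N U : Over (Spec (CommRingCat.of K))}
    [GrpObj G] [GrpObj N] [GrpObj U] [IsAffine G.left] [Smooth G.hom]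
    (i : N ⟶ G) [IsMonHom i] [IsClosedImmersion i.left] [Smooth N.hom] (hN : AlgGrp.IsNormalHom i)
    (u : U ⟶ N) [IsMonHom u] (hu : IsClosedImmersion u.left) (hus : Smooth U.hom) (huc : ConnectedSpace U.left)
    (hun : AlgGrp.IsNormalHom u) (hno : Red.HasNoSubtorus K U) :
    ∃ (R : Over (Spec (CommRingCat.of K))) (_ : GrpObj R) (r : R ⟶ G) (t : U ⟶ R),
      IsMonHom r ∧ IsClosedImmersion r.left ∧ AlgGrp.IsNormalHom r ∧ Red.HasNoSubtorus K R ∧ t ≫ r = u ≫ i := by
  haveI : IsAffine N.left := isAffine_of_isAffineHom i.left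
  haveI : Mono i := Over.mono_of_mono_left i
  haveI : LocallyOfFiniteType N.hom := inferInstance
  haveI : QuasiCompact N.hom := by rw [← Over.w i]; infer_instance
  haveI : LocallyOfFiniteType G.hom := inferInstance
  let I₀ := Σ' (T : Over (Spec (CommRingCat.of K))) (_ : GrpObj T), T ⟶ N
  let p : I₀ → Prop := fun c => letI := c.2.1; IsMonHom c.2.2 ∧ IsClosedImmersion c.2.2.left ∧ Smooth c.1.hom ∧
    ConnectedSpace c.1.left ∧ AlgGrp.IsNormalHom c.2.2 ∧ Red.HasNoSubtorus K c.1
  obtain ⟨⟨R, hR, j⟩, ⟨hj, hjc, hjs, hjcon, hjn, hRno⟩, hmax⟩ := exists_max (G := N) p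
    ⟨⟨U, ‹GrpObj U›, u⟩, ‹IsMonHom u›, hu, hus, huc, hun, hno⟩ (fun c => Set.range c.2.2.left) (by
      rintro ⟨H, hH, h⟩ ⟨hh, hhc, hhs, hhcon, -, -⟩
      letI := hH
      haveI : IsClosedImmersion h.left := hhc
      haveI : ConnectedSpace H.left := hhcon
      haveI : LocallyOfFiniteType H.hom := by rw [← Over.w h]; infer_instance
      haveI := GrpSchLib.irreducibleSpace_of_connectedSpace (G := H)
      refine ⟨h.left.isClosedEmbedding.isClosed_range, ?_⟩
      show IsIrreducible (Set.range h.left)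
      rw [← Set.image_univ]
      exact (IrreducibleSpace.isIrreducible_univ _).image _ h.left.continuous.continuousOn)
  letI := hR
  haveI : IsMonHom j := hj
  haveI : IsClosedImmersion j.left := hjc
  haveI : Smooth R.hom := hjs
  haveI : ConnectedSpace R.left := hjcon
  haveI : Mono j := Over.mono_of_mono_left j
  haveI : LocallyOfFiniteType R.hom := inferInstance
  haveI : QuasiCompact R.hom := by rw [← Over.w j]; infer_instance
  haveI : IsAffine R.left := isAffine_of_isAffineHom j.left
  have hlarge : ∀ (H' : Over (Spec (CommRingCat.of K))) [GrpObj H'] (j' : H' ⟶ N) [IsMonHom j'],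
      IsClosedImmersion j'.left → Smooth H'.hom → ConnectedSpace H'.left → AlgGrp.IsNormalHom j' →
      Red.HasNoSubtorus K H' → ∃ f : H' ⟶ R, f ≫ j = j' := by
    intro H' _ j' _ hc' hs' hcon' hn' hno'
    haveI := hc'
    haveI := hs'
    haveI := hcon'
    haveI : IsAffine H'.left := isAffine_of_isAffineHom j'.left
    obtain ⟨M, hM, m, a', b', hm, hmc, hms, hmcon, hmn, ha', hb', hrange⟩ := exists_product j j' hjn hn'
    letI := hM
    haveI := hm
    haveI := hmc
    haveI := hms
    haveI : Mono m := Over.mono_of_mono_left m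
    have hMno : Red.HasNoSubtorus K M := S8074.hasNoSubtorus_product j j' m hjn hrange hRno hno'
    have hsub := hmax ⟨M, hM, m⟩ ⟨hm, hmc, hms, hmcon, hmn, hMno⟩ (by
      rintro _ ⟨z, rfl⟩
      exact ⟨a'.left z, by rw [← Scheme.Hom.comp_apply, ← Over.comp_left, ha']⟩)
    haveI : AlgebraicGeometry.IsReduced H'.left := ASp.isReduced_of_smooth H'.hom
    refine exists_lift_of_range j j' ?_
    rintro _ ⟨z, rfl⟩
    exact hsub ⟨b'.left z, by rw [← Scheme.Hom.comp_apply, ← Over.comp_left, hb']⟩
  haveI : IsClosedImmersion (j ≫ i).left := by rw [Over.comp_left]; infer_instance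
  have hRG : AlgGrp.IsNormalHom (j ≫ i) := by
    refine S8075.normal_of_pts (j ≫ i) fun g x => ?_
    have hα : ∀ g : 𝟙_ _ ⟶ G, ∃ α : N ⟶ N, ∀ {T : Over (Spec (CommRingCat.of K))} (y : T ⟶ N),
        (y ≫ α) ≫ i = (toUnit T ≫ g) * (y ≫ i) * (toUnit T ≫ g)⁻¹ := fun g => by
      obtain ⟨α, hα⟩ := hN N (toUnit N ≫ g) (𝟙 N)
      refine ⟨α, fun {T} y => ?_⟩
      rw [Category.assoc, ← hα]
      simp only [MonObj.comp_mul, GrpObj.comp_inv, Category.id_comp]
      rw [← Category.assoc, toUnit_unique (y ≫ toUnit N) (toUnit T)]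
    choose α hα using hα
    have hmul : ∀ (g : 𝟙_ _ ⟶ G) {T : Over (Spec (CommRingCat.of K))} (a b : T ⟶ N),
        (a * b) ≫ α g = (a ≫ α g) * (b ≫ α g) := fun g T a b => by
      rw [← cancel_mono i, MonObj.mul_comp _ _ i, hα, hα, hα, MonObj.mul_comp]
      group
    have hmon : ∀ g, IsMonHom (α g) := fun g => UnipIsogLib.isMonHom_of_upts (α g) (fun a b => hmul g a b)
    haveI := hmon g
    have hinv : ∀ g : 𝟙_ _ ⟶ G, α g ≫ α g⁻¹ = 𝟙 N := fun g => by
      rw [← cancel_mono i, hα g⁻¹ (α g)]
      conv_lhs => rw [← Category.id_comp (α g), hα g (𝟙 N)]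
      simp only [GrpObj.comp_inv, Category.id_comp]
      group
    haveI : IsIso (α g) := ⟨α g⁻¹, hinv g, by simpa using hinv g⁻¹⟩
    haveI : IsIso (α g).left := (Over.forget _).map_isIso (α g)
    haveI : IsClosedImmersion (j ≫ α g).left := by rw [Over.comp_left]; infer_instance
    have hn : AlgGrp.IsNormalHom (j ≫ α g) := by
      intro T a y
      obtain ⟨z, hz⟩ := hjn T (a ≫ CategoryTheory.inv (α g)) y
      refine ⟨z, ?_⟩
      have := congrArg (· ≫ α g) hz
      simpa [MonObj.mul_comp, GrpObj.inv_comp] using this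
    obtain ⟨f, hf⟩ := hlarge R (j ≫ α g) inferInstance hjs hjcon hn hRno
    refine ⟨x ≫ f, ?_⟩
    calc g * (x ≫ j ≫ i) * g⁻¹ = ((x ≫ j) ≫ α g) ≫ i := by
          rw [hα g (x ≫ j), toUnit_unique (toUnit (𝟙_ _)) (𝟙 _), Category.id_comp, Category.assoc]
      _ = (x ≫ f) ≫ j ≫ i := by
          rw [Category.assoc x j, ← hf]; simp
  obtain ⟨t, ht⟩ := hlarge U u hu hus huc hun hno
  exact ⟨R, hR, j ≫ i, t, inferInstance, inferInstance, hRG, hRno, by rw [← Category.assoc, ht]⟩

/-- Let k be a field, G a smooth affine k-group scheme and G⁰ ⟶ G its identity component, that is, an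
open subgroup scheme whose underlying space is connected. If U ⟶ G⁰ is the k-unipotent radical of G⁰
(the largest normal closed subgroup scheme of G⁰, smooth and quasi-compact over k, with connected
geometric fibre containing no non-trivial subtorus), then the composite U ⟶ G⁰ ⟶ G is the
k-unipotent radical of G. -/
theorem result (k : Type u) [Field k]
    (G G₀ U : Over (Spec (CommRingCat.of k))) [GrpObj G] [GrpObj G₀] [GrpObj U] [IsAffine G.left] [Smooth G.hom]
    (j : G₀ ⟶ G) [IsMonHom j] [IsOpenImmersion j.left] [ConnectedSpace ↥G₀.left]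
    (u : U ⟶ G₀) (hu : Par.IsUnipotentRadical u) : Par.IsUnipotentRadical (u ≫ j) := by
  classical
  obtain ⟨hum, huc, hun, hus, huq, hug, humax⟩ := hu
  haveI := hum
  haveI := huc
  haveI := hus
  haveI := huq
  haveI : Mono j := Over.mono_of_mono_left j
  haveI : Smooth G₀.hom := by rw [← Over.w j]; infer_instance
  haveI : IsClosedImmersion j.left :=
    IsClosedImmersion.of_isPreimmersion _ (Groth.Agent.GrpSchLib.isClosed_range_of_isImmersion j)
  haveI : IsAffine G₀.left := isAffine_of_isAffineHom j.left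
  haveI : Subsingleton ↥(Spec (CommRingCat.of k)) := inferInstanceAs (Subsingleton (PrimeSpectrum k))
  let s₀ : ↥(Spec (CommRingCat.of k)) := IsLocalRing.closedPoint k
  let σ := Red.geomPt s₀
  haveI : Surjective σ := ⟨fun z => ⟨IsLocalRing.closedPoint _, Subsingleton.elim _ _⟩⟩
  have hconn_of : ∀ (X : Over (Spec (CommRingCat.of k))), ConnectedSpace (Red.geomFibre s₀ X).left →
      ConnectedSpace X.left := fun X h => by
    haveI : ConnectedSpace ↥(Limits.pullback X.hom σ) := h
    exact (Limits.pullback.fst X.hom σ).surjective.connectedSpace (Limits.pullback.fst X.hom σ).continuous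
  haveI : ConnectedSpace U.left := hconn_of U (hug s₀).1
  haveI : GeometricallyConnected G₀.hom := Groth.Agent.GenSubLib.geometricallyConnected_of_rational η[G₀]
  have hjn : AlgGrp.IsNormalHom j := by
    let φ : G ⊗ G₀ ⟶ G := fst G G₀ * (snd G G₀ ≫ j) * (fst G G₀)⁻¹
    haveI : GeometricallyConnected (fst G G₀).left :=
      MorphismProperty.pullback_fst G.hom G₀.hom ‹GeometricallyConnected G₀.hom›
    have hrange : Set.range φ.left ⊆ Set.range j.left := by
      rintro _ ⟨z, rfl⟩
      let Z : Set (G ⊗ G₀).left := φ.left ⁻¹' Set.range j.left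
      have hZ : IsClopen Z := ⟨j.left.isClosedEmbedding.isClosed_range.preimage φ.left.continuous,
        j.left.isOpenEmbedding.isOpen_range.preimage φ.left.continuous⟩
      obtain ⟨a, ha⟩ : ∃ a, (fst G G₀).left z = a := ⟨_, rfl⟩
      have hF := (fst G G₀).left.isConnected_preimage_singleton a
      have hs : (lift (𝟙 G) (1 : G ⟶ G₀)).left a ∈ (fst G G₀).left ⁻¹' {a} ∩ Z := by
        refine ⟨?_, ?_⟩
        · show (fst G G₀).left ((lift (𝟙 G) (1 : G ⟶ G₀)).left a) = a
          rw [← Scheme.Hom.comp_apply, ← Over.comp_left, lift_fst]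
          rfl
        · show φ.left ((lift (𝟙 G) (1 : G ⟶ G₀)).left a) ∈ Set.range j.left
          refine ⟨(1 : G ⟶ G₀).left a, ?_⟩
          rw [← Scheme.Hom.comp_apply, ← Over.comp_left, ← Scheme.Hom.comp_apply, ← Over.comp_left]
          have e : lift (𝟙 G) (1 : G ⟶ G₀) ≫ φ = (1 : G ⟶ G₀) ≫ j := by
            simp [φ, MonObj.comp_mul, GrpObj.comp_inv, MonObj.one_comp]
          rw [e]
      exact hF.isPreconnected.subset_isClopen hZ ⟨_, hs⟩ (show z ∈ (fst G G₀).left ⁻¹' {a} from ha)
    let φ₀ : G ⊗ G₀ ⟶ G₀ := Over.homMk (IsOpenImmersion.lift j.left φ.left hrange) (by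
      rw [← Over.w j, ← Category.assoc, IsOpenImmersion.lift_fac, Over.w φ])
    have hφ₀ : φ₀ ≫ j = φ := Over.OverMorphism.ext (IsOpenImmersion.lift_fac _ _ _)
    intro T g n
    refine ⟨lift g n ≫ φ₀, ?_⟩
    rw [Category.assoc, hφ₀]
    simp [φ, MonObj.comp_mul, GrpObj.comp_inv]
  haveI : GeometricallyReduced G.hom := Groth.Agent.AVLib.geometricallyReduced_of_smooth G.hom
  haveI : GeometricallyReduced U.hom := Groth.Agent.AVLib.geometricallyReduced_of_smooth U.hom
  haveI : GeometricallyReduced (G ⊗ U).hom := Groth.Agent.GenSubLib.geometricallyReduced_tensor G U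
  let f : ∀ _ : PUnit.{1}, G ⊗ U ⟶ G := fun _ => fst G U * (snd G U ≫ u ≫ j) * (fst G U)⁻¹
  haveI : IsClosedImmersion (u ≫ j).left := by rw [Over.comp_left]; infer_instance
  obtain ⟨Γ, hΓ, i, hi, hci, -, hgr, hrangeΓ, hfac, -, hmin⟩ :=
    Groth.Agent.GenSubLib.exists_generated (X := fun _ : PUnit.{1} => G ⊗ U) f
  letI := hΓ
  haveI := hi
  haveI := hci
  haveI : Mono i := Over.mono_of_mono_left i
  haveI : LocallyOfFiniteType Γ.hom := by rw [← Over.w i]; infer_instance
  haveI : Smooth Γ.hom := @smooth_of_grpObj _ _ _ Γ.hom ‹LocallyOfFiniteType Γ.hom› hΓ hgr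
  haveI : QuasiCompact Γ.hom := by rw [← Over.w i]; infer_instance
  have hnorm : AlgGrp.IsNormalHom i := by
    refine Groth.Agent.GenSubLib.isNormalHom_of_min (X := fun _ : PUnit.{1} => G ⊗ U) f i hfac hmin fun T g _ y => ?_
    refine ⟨lift (g * (y ≫ fst G U)) (y ≫ snd G U), ?_⟩
    simp only [f, MonObj.comp_mul, GrpObj.comp_inv, lift_fst, lift_snd_assoc, Category.assoc]
    group
  obtain ⟨a, ha⟩ := hmin G₀ ‹_› j inferInstance inferInstance fun _ => by
    obtain ⟨q, hq⟩ := hjn (G ⊗ U) (fst G U) (snd G U ≫ u)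
    exact ⟨q, by rw [← hq]; simp [f]⟩
  haveI : IsMonHom a := Groth.Agent.CommGrpAbLib.isMonHom_of_mono j a i ha
  haveI : IsClosedImmersion a.left := by
    haveI : IsClosedImmersion (a.left ≫ j.left) := by rw [← Over.comp_left, ha]; exact hci
    exact IsClosedImmersion.of_comp a.left j.left
  have han : AlgGrp.IsNormalHom a := fun T g n => by
    obtain ⟨n', hn'⟩ := hnorm T (g ≫ j) n
    refine ⟨n', ?_⟩
    rw [← cancel_mono j, MonObj.mul_comp, MonObj.mul_comp, GrpObj.inv_comp, Category.assoc, Category.assoc, ha, ← hn']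
  haveI : IsClosedImmersion ((Over.pullback σ).map j).left :=
    MorphismProperty.overPullbackMap (P := @IsClosedImmersion) σ j inferInstance
  haveI : IsAffine ((Over.pullback σ).obj G).left := inferInstanceAs (IsAffine (Limits.pullback G.hom σ))
  haveI : Smooth ((Over.pullback σ).obj G).hom := MorphismProperty.pullback_snd _ _ ‹Smooth G.hom›
  haveI : Smooth ((Over.pullback σ).obj G₀).hom := MorphismProperty.pullback_snd _ _ ‹Smooth G₀.hom›
  obtain ⟨R, hR, r, t, hrm, hrc, hrn, hRno, ht⟩ := exists_big ((Over.pullback σ).map j)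
    (Groth.Agent.CommSpreadLib.isNormalHom_map σ j hjn) ((Over.pullback σ).map u)
    (MorphismProperty.overPullbackMap (P := @IsClosedImmersion) σ u huc)
    (MorphismProperty.pullback_snd _ _ hus) (hug s₀).1
    (Groth.Agent.CommSpreadLib.isNormalHom_map σ u hun) (hug s₀).2
  letI := hR
  haveI := hrm
  haveI := hrc
  haveI : Mono r := Over.mono_of_mono_left r
  obtain ⟨rK, hrK⟩ := Groth.Agent.GenSubLib.universal_of_min σ f i hfac hmin R r fun _ => by
    let π₁ := (Over.pullback σ).map (fst G U)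
    obtain ⟨q, hq⟩ := hrn _ π₁ ((Over.pullback σ).map (snd G U) ≫ t)
    refine ⟨q, hq.symm.trans ?_⟩
    rw [Category.assoc, ht, ← Functor.map_comp, ← Functor.map_comp, ← Functor.map_inv', ← Functor.map_mul,
      ← Functor.map_mul]
  haveI : IsMonHom rK := Groth.Agent.CommGrpAbLib.isMonHom_of_mono r rK _ hrK
  haveI : IsClosedImmersion ((Over.pullback σ).map i).left :=
    MorphismProperty.overPullbackMap (P := @IsClosedImmersion) σ i hci
  haveI : Mono ((Over.pullback σ).map i) := Over.mono_of_mono_left _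
  haveI : Mono rK := mono_of_mono_fac hrK
  have hΓK : Red.HasNoSubtorus _ ((Over.pullback σ).obj Γ) := fun T _ b _ _ hT => hRno T (b ≫ rK) hT
  haveI : ConnectedSpace Γ.left := by
    have h := (isConnected_wordSet_conj (G := G) (u ≫ j)).closure
    rw [← hrangeΓ, ← Set.image_univ] at h
    rw [connectedSpace_iff_univ]
    exact ⟨⟨η[Γ].left (IsLocalRing.closedPoint k), trivial⟩,
      i.left.isClosedEmbedding.isInducing.isPreconnected_image.1 h.isPreconnected⟩
  haveI : GeometricallyConnected Γ.hom := Groth.Agent.GenSubLib.geometricallyConnected_of_rational η[Γ]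
  obtain ⟨b, hb⟩ := humax Γ a inferInstance han ‹_› ‹_› fun s => by
    obtain rfl : s = s₀ := Subsingleton.elim _ _
    refine ⟨?_, hΓK⟩
    show ConnectedSpace ↥(Limits.pullback Γ.hom σ)
    infer_instance
  obtain ⟨q₀, hq₀⟩ := hfac PUnit.unit
  refine ⟨inferInstance, inferInstance, fun T g n => ⟨(lift g n ≫ q₀) ≫ b, ?_⟩, hus, huq, hug, ?_⟩
  · rw [Category.assoc _ b, show b ≫ u ≫ j = i by rw [← Category.assoc, hb, ha], Category.assoc, hq₀]
    simp [f, MonObj.comp_mul, GrpObj.comp_inv]
  · intro U' _ u' _ hu'c hu'n hu's hu'q hu'g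
    haveI := hu'c
    haveI := hu's
    haveI : ConnectedSpace U'.left := hconn_of U' (hu'g s₀).1
    have hsub : Set.range u'.left ⊆ Set.range j.left := by
      refine (isPreconnected_range u'.left.continuous).subset_isClopen
        ⟨j.left.isClosedEmbedding.isClosed_range, j.left.isOpenEmbedding.isOpen_range⟩
        ⟨u'.left (η[U'].left s₀), ⟨_, rfl⟩, ⟨η[G₀].left s₀, ?_⟩⟩
      rw [← Scheme.Hom.comp_apply, ← Scheme.Hom.comp_apply, ← Over.comp_left, ← Over.comp_left,
        IsMonHom.one_hom u', IsMonHom.one_hom j]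
    let v : U' ⟶ G₀ := Over.homMk (IsOpenImmersion.lift j.left u'.left hsub) (by
      rw [← Over.w j, ← Category.assoc, IsOpenImmersion.lift_fac, Over.w u'])
    have hv : v ≫ j = u' := Over.OverMorphism.ext (IsOpenImmersion.lift_fac _ _ _)
    haveI : IsMonHom v := Groth.Agent.CommGrpAbLib.isMonHom_of_mono j v u' hv
    haveI : IsClosedImmersion v.left := by
      haveI : IsClosedImmersion (v.left ≫ j.left) := by rw [← Over.comp_left, hv]; exact hu'c
      exact IsClosedImmersion.of_comp v.left j.left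
    obtain ⟨w, hw⟩ := humax U' v inferInstance (fun T g n => by
      obtain ⟨n', hn'⟩ := hu'n T (g ≫ j) n
      refine ⟨n', ?_⟩
      rw [← cancel_mono j, MonObj.mul_comp, MonObj.mul_comp, GrpObj.inv_comp, Category.assoc, Category.assoc, hv, ← hn'])
      hu's hu'q hu'g
    exact ⟨w, by rw [← Category.assoc, hw, hv]⟩

end Groth.Agent.S15600
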