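import Groth.Statements.S15601
import Groth.Agent.LieKolchin.Points
-- import your own Groth.Agent.* helpers here

set_option autoImplicit false
set_option backward.isDefEq.respectTransparency false
universe u v
open HopfRep

namespace Groth.Agent.S15601

/-- Let k be an algebraically closed field and G = Spec A a smooth connected affine k-group: A is a
finitely generated commutative Hopf algebra over k which is reduced and has no idempotents other
than 0 and 1. Suppose G is solvable, i.e. the group G(k) of k-algebra maps A → k under convolution
is solvable. Then the derived group of G is unipotent: every element of the commutator subgroup of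
G(k) acts in every finite-dimensional A-comodule by an operator u with u − 1 nilpotent. (Stated over
an algebraically closed field, where the derived group is determined by the commutators of k-points;
the case of a general field reduces to this one.) -/
theorem result (k : Type u) [Field k] [IsAlgClosed k]
    (A : Type v) [CommRing A] [HopfAlgebra k A] [Algebra.FiniteType k A] [IsReduced A]
    (hconn : ∀ e : A, IsIdempotentElem e → e = 0 ∨ e = 1)
    [Group.IsSolvable (WithConv (A →ₐ[k] k))]
    (g : WithConv (A →ₐ[k] k)) (hg : g ∈ commutator (WithConv (A →ₐ[k] k)))
    (V : Type v) [AddCommGroup V] [Module k V] [HopfRep.Comod k A V] [Module.Finite k V] :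
    IsNilpotent (HopfRep.Comod.act k A V g.ofConv - 1) := by
  rw [← LieKolchin.actHom_eq_act g]
  exact LieKolchin.isNilpotent_of_mem_commutator LieKolchin.wordClosed_regFun (LieKolchin.conn_top hconn)
    (LieKolchin.actHom k A V) LieKolchin.coef_mem hg

end Groth.Agent.S15601
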