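import Groth.Statements.S15604
import Groth.Agent.MonoFibre.SchemeImage
import Groth.Agent.ASp.PropDescend
-- import your own Groth.Agent.* helpers here

set_option autoImplicit false
universe u
open CategoryTheory MonoidalCategory CartesianMonoidalCategory MonObj GrpObj AlgebraicGeometry
open AlgGrp

namespace Groth.Agent.S15604

/-- Let k be a field and f : G ⟶ G' a homomorphism of k-group schemes of finite type, with G smooth over
k. The image of f is closed (not asserted here); with its reduced induced structure it is smooth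
over k: every reduced closed subscheme H of G' whose underlying set is the set-theoretic image of f
is smooth over k. -/
theorem result (k : Type u) [Field k]
    (G G' : Over (Spec (CommRingCat.of k))) [GrpObj G] [GrpObj G'] [Smooth G.hom] [QuasiCompact G.hom]
    [LocallyOfFiniteType G'.hom] [QuasiCompact G'.hom] (f : G ⟶ G') [IsMonHom f]
    (H : Scheme.{u}) (i : H ⟶ G'.left) [IsClosedImmersion i] [IsReduced H]
    (hH : Set.range i.base = Set.range f.left.base) : Smooth (i ≫ G'.hom) := by
  haveI : IsReduced G.left := Groth.Agent.ASp.isReduced_of_smooth G.hom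
  haveI : Surjective (Limits.pullback.fst f.left i) := ⟨fun x => by
    obtain ⟨y, hy⟩ : f.left x ∈ Set.range i := hH.symm ▸ ⟨x, rfl⟩
    obtain ⟨z, hz, -⟩ := Scheme.Pullback.exists_preimage_pullback (f := f.left) (g := i) x y hy.symm
    exact ⟨z, hz⟩⟩
  haveI : IsIso (Limits.pullback.fst f.left i) := isIso_of_isClosedImmersion_of_surjective _
  let K : Over (Spec (CommRingCat.of k)) := Over.mk (i ≫ G'.hom)
  let j : K ⟶ G' := Over.homMk i rfl
  let g₀ : G.left ⟶ H := inv (Limits.pullback.fst f.left i) ≫ Limits.pullback.snd f.left i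
  have hg₀ : g₀ ≫ i = f.left := by
    rw [Category.assoc, ← Limits.pullback.condition, IsIso.inv_hom_id_assoc]
  let g : G ⟶ K := Over.homMk g₀ (by show g₀ ≫ i ≫ G'.hom = G.hom; rw [reassoc_of% hg₀, Over.w])
  have hgi : g ≫ j = f := Over.OverMorphism.ext hg₀
  haveI : QuasiCompact g₀ := by
    haveI : IsSeparated G'.hom := Groth.Agent.GrpSchLib.isSeparated_hom
    haveI : QuasiCompact (f.left ≫ G'.hom) := by rw [Over.w]; infer_instance
    haveI : QuasiCompact f.left := QuasiCompact.of_comp f.left G'.hom
    haveI : QuasiCompact (g₀ ≫ i) := by rw [hg₀]; infer_instance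
    exact QuasiCompact.of_comp g₀ i
  haveI : Surjective g₀ := ⟨fun y => by
    obtain ⟨x, hx⟩ : i y ∈ Set.range f.left := hH ▸ ⟨y, rfl⟩
    exact ⟨x, i.isClosedEmbedding.injective (by rw [← Scheme.Hom.comp_apply, hg₀, hx])⟩⟩
  haveI hSTD : IsSchemeTheoreticallyDominant g₀ := IsSchemeTheoreticallyDominant.of_isDominant g₀
  haveI : IsSchemeTheoreticallyDominant g.left := hSTD
  haveI : IsClosedImmersion j.left := inferInstanceAs (IsClosedImmersion i)
  haveI : QuasiCompact f.left := by
    haveI : QuasiCompact (g₀ ≫ i) := inferInstance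
    rwa [← hg₀]
  obtain ⟨he, hd⟩ := Groth.Agent.MonoFibre.SchemeImage.exists_div f j g hgi
  obtain ⟨hK, -⟩ := Groth.Agent.MonoFibre.SchemeImage.exists_grpObj j he hd
  letI : GrpObj (Over.mk (i ≫ G'.hom)) := hK
  haveI : LocallyOfFiniteType (i ≫ G'.hom) := inferInstance
  haveI : GeometricallyReduced (i ≫ G'.hom) := by
    refine ⟨fun L _ y Z a b hP => ?_⟩
    haveI : Subsingleton ↥(Spec (CommRingCat.of k)) := inferInstanceAs (Subsingleton (PrimeSpectrum k))
    haveI : Flat y := inferInstance
    haveI : Flat a := MorphismProperty.of_isPullback (P := @Flat) hP.flip ‹_›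
    let l : Limits.pullback G.hom y ⟶ Z := hP.lift (Limits.pullback.fst G.hom y ≫ g₀) (Limits.pullback.snd G.hom y)
      (by rw [Category.assoc, reassoc_of% hg₀, Over.w, Limits.pullback.condition])
    have sq : IsPullback (Limits.pullback.fst G.hom y) l g₀ a := by
      refine IsPullback.of_bot ?_ (hP.lift_fst _ _ _).symm hP
      rw [hP.lift_snd]
      convert IsPullback.of_hasPullback G.hom y using 1
      rw [reassoc_of% hg₀, Over.w]
    haveI : IsSchemeTheoreticallyDominant l := IsSchemeTheoreticallyDominant.of_isPullback sq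
    haveI : QuasiCompact l := MorphismProperty.of_isPullback (P := @QuasiCompact) sq ‹_›
    haveI : IsReduced (Limits.pullback G.hom y) := Groth.Agent.ASp.isReduced_of_smooth (Limits.pullback.snd G.hom y)
    exact IsSchemeTheoreticallyDominant.isReduced l
  exact smooth_of_grpObj (i ≫ G'.hom)

end Groth.Agent.S15604
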