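import Groth.Statements.S15605
import Mathlib
-- import your own Groth.Agent.* helpers here

set_option autoImplicit false
set_option backward.isDefEq.respectTransparency false
universe u
open TensorProduct
open AGF

namespace Groth.Agent.S15605

/-- Affine form. Let k be a field, A and A' finitely generated commutative k-algebras and S, S' sets of
k-algebra homomorphisms A → k, A' → k. The closure of a set of rational points of Spec A is cut out
by the intersection of their kernels. Compatibility of these closures with products: in A ⊗_k A',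
the intersection over (σ, σ') ∈ S × S' of the kernels of σ ⊗ σ' : A ⊗_k A' → k equals the ideal
generated by the images of ⋂_{σ} ker σ and of ⋂_{σ'} ker σ'. -/
theorem result (k A A' : Type u) [Field k] [CommRing A] [Algebra k A]
    [Algebra.FiniteType k A] [CommRing A'] [Algebra k A'] [Algebra.FiniteType k A']
    (S : Set (A →ₐ[k] k)) (S' : Set (A' →ₐ[k] k)) :
    (⨅ σ ∈ S, ⨅ σ' ∈ S', RingHom.ker ((Algebra.TensorProduct.lmul' (S := k) k).comp
        (Algebra.TensorProduct.map σ σ'))) =
      Ideal.map (Algebra.TensorProduct.includeLeft : A →ₐ[k] A ⊗[k] A') (⨅ σ ∈ S, RingHom.ker σ) ⊔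
        Ideal.map (Algebra.TensorProduct.includeRight : A' →ₐ[k] A ⊗[k] A') (⨅ σ' ∈ S', RingHom.ker σ') := by
  classical
  set I : Ideal A := ⨅ σ ∈ S, RingHom.ker σ with hI
  set I' : Ideal A' := ⨅ σ' ∈ S', RingHom.ker σ' with hI'
  have hev : ∀ (σ : A →ₐ[k] k) (σ' : A' →ₐ[k] k) (a : A) (a' : A'),
      (Algebra.TensorProduct.lmul' (S := k) k).comp (Algebra.TensorProduct.map σ σ') (a ⊗ₜ[k] a') = σ a * σ' a' :=
    fun σ σ' a a' => by simp
  refine le_antisymm (fun x hx => ?_) (sup_le (Ideal.map_le_iff_le_comap.2 fun a ha => ?_) (Ideal.map_le_iff_le_comap.2 fun a ha => ?_))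
  · simp only [Ideal.mem_iInf, RingHom.mem_ker] at hx
    let P : Submodule k A' := I'.restrictScalars k
    obtain ⟨s, hs⟩ := P.mkQ.exists_rightInverse_of_surjective (LinearMap.range_eq_top.2 P.mkQ_surjective)
    let e := Module.Free.chooseBasis k (A' ⧸ P)
    let c := TensorProduct.equivFinsuppOfBasisRight e (LinearMap.lTensor A P.mkQ x)
    have hc : LinearMap.lTensor A P.mkQ x = c.sum fun i a => a ⊗ₜ[k] e i := by
      rw [← TensorProduct.equivFinsuppOfBasisRight_symm_apply e c, LinearEquiv.symm_apply_apply]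
    let y : A ⊗[k] A' := c.sum fun i a => a ⊗ₜ[k] s (e i)
    have hsq : ∀ v, P.mkQ (s v) = v := fun v => LinearMap.congr_fun hs v
    have hy : LinearMap.lTensor A P.mkQ y = LinearMap.lTensor A P.mkQ x := by
      rw [hc]
      simp only [y, Finsupp.sum, map_sum, LinearMap.lTensor_tmul, hsq]
    have hrest : x - y ∈ Ideal.map (Algebra.TensorProduct.includeRight : A' →ₐ[k] A ⊗[k] A') I' := by
      have hmem : x - y ∈ LinearMap.range (LinearMap.lTensor A P.subtype) := by
        rw [← LinearMap.exact_iff.1 (lTensor_exact A (LinearMap.exact_subtype_mkQ P) P.mkQ_surjective),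
          LinearMap.mem_ker, map_sub, hy, sub_self]
      obtain ⟨w, hw⟩ := hmem
      rw [← hw]
      clear hw
      induction w with
      | zero => rw [map_zero]; exact Ideal.zero_mem _
      | tmul a p =>
        rw [LinearMap.lTensor_tmul, show a ⊗ₜ[k] (P.subtype p) = (a ⊗ₜ[k] (1 : A')) *
          (Algebra.TensorProduct.includeRight : A' →ₐ[k] A ⊗[k] A') p.1 by simp]
        exact Ideal.mul_mem_left _ _ (Ideal.mem_map_of_mem _ p.2)
      | add u v hu hv => rw [map_add]; exact Ideal.add_mem _ hu hv
    have hkill : ∀ σ ∈ S, ∀ σ' ∈ S', (Algebra.TensorProduct.lmul' (S := k) k).comp (Algebra.TensorProduct.map σ σ') y = 0 := by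
      intro σ hσ σ' hσ'
      have h1 : (Algebra.TensorProduct.lmul' (S := k) k).comp (Algebra.TensorProduct.map σ σ') (x - y) = 0 := by
        refine (RingHom.mem_ker).1 ((Ideal.map_le_iff_le_comap.2 fun a ha => ?_) hrest)
        rw [Ideal.mem_comap, RingHom.mem_ker, Algebra.TensorProduct.includeRight_apply, hev]
        rw [show σ' a = 0 from (RingHom.mem_ker).1 (Ideal.mem_iInf.1 (Ideal.mem_iInf.1 ha σ') hσ'), mul_zero]
      rw [map_sub, hx σ hσ σ' hσ', zero_sub, neg_eq_zero] at h1
      exact h1
    have hcI : ∀ i, c i ∈ I := fun i => by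
      simp only [hI, Ideal.mem_iInf, RingHom.mem_ker]
      intro σ hσ
      let v : A' := c.sum fun j a => σ a • s (e j)
      have hv : v ∈ I' := by
        simp only [hI', Ideal.mem_iInf, RingHom.mem_ker]
        intro σ' hσ'
        rw [← hkill σ hσ σ' hσ']
        simp only [v, y, Finsupp.sum, map_sum, map_smul, hev, smul_eq_mul]
      have h0 : (c.sum fun j a => σ a • e j) = 0 := by
        have := (Submodule.Quotient.mk_eq_zero P).2 (hv : v ∈ P)
        rw [← Submodule.mkQ_apply] at this
        simpa only [v, Finsupp.sum, map_sum, map_smul, hsq] using this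
      by_cases hi : i ∈ c.support
      · exact linearIndependent_iff'.1 e.linearIndependent c.support (fun j => σ (c j)) h0 i hi
      · rw [Finsupp.notMem_support_iff.1 hi, map_zero]
    have hymem : y ∈ Ideal.map (Algebra.TensorProduct.includeLeft : A →ₐ[k] A ⊗[k] A') I := by
      refine Ideal.sum_mem _ fun i _ => ?_
      change c i ⊗ₜ[k] s (e i) ∈ _
      rw [show c i ⊗ₜ[k] s (e i) = (Algebra.TensorProduct.includeLeft : A →ₐ[k] A ⊗[k] A') (c i) * ((1 : A) ⊗ₜ[k] s (e i)) by simp]
      exact Ideal.mul_mem_right _ _ (Ideal.mem_map_of_mem _ (hcI i))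
    have := Ideal.add_mem (Ideal.map (Algebra.TensorProduct.includeLeft : A →ₐ[k] A ⊗[k] A') I ⊔
      Ideal.map (Algebra.TensorProduct.includeRight : A' →ₐ[k] A ⊗[k] A') I')
      (Ideal.mem_sup_left hymem) (Ideal.mem_sup_right hrest)
    rwa [add_sub_cancel] at this
  · simp only [Ideal.mem_comap, Ideal.mem_iInf, RingHom.mem_ker, hI] at ha ⊢
    intro σ hσ σ' _
    rw [Algebra.TensorProduct.includeLeft_apply, hev, ha σ hσ, zero_mul]
  · simp only [Ideal.mem_comap, Ideal.mem_iInf, RingHom.mem_ker, hI'] at ha ⊢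
    intro σ _ σ' hσ'
    rw [Algebra.TensorProduct.includeRight_apply, hev, ha σ' hσ', mul_zero]

end Groth.Agent.S15605
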