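import Groth.Statements.S15606
import Groth.Agent.FiniteKer.Main
import Groth.Agent.MonoFibre.HomFlat
import Groth.Agent.MonoFibre.AffineKernel
import Groth.Agent.GrpQuotLib.Descend
import Groth.Agent.ASp.PropDescend

set_option autoImplicit false
universe u
open CategoryTheory MonoidalCategory CartesianMonoidalCategory MonObj GrpObj AlgebraicGeometry
open AlgGrp

namespace Groth.Agent.S15606

set_option maxHeartbeats 1000000
set_option backward.isDefEq.respectTransparency false
open CategoryTheory.Limits MonObj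

/-- Two covering homomorphisms with the same kernel have isomorphic targets. -/
theorem exists_iso_of_kernel {S : Scheme.{u}} {G N A B : Over S} [GrpObj G] [GrpObj A] [GrpObj B] (n : N ⟶ G)
    (f : G ⟶ A) [IsMonHom f] [SchDesc.IsFpqc f.left] (g : G ⟶ B) [IsMonHom g] [SchDesc.IsFpqc g.left]
    (hf : AlgGrp.IsKernel n f) (hg : AlgGrp.IsKernel n g) : Nonempty (Grp.mk A ≅ Grp.mk B) := by
  have hd : ∀ {C D : Over S} [GrpObj C] [GrpObj D] (a : G ⟶ C) [IsMonHom a] (b : G ⟶ D) [IsMonHom b],
      AlgGrp.IsKernel n a → AlgGrp.IsKernel n b → [SchDesc.IsFpqc a.left] → ∃ w : C ⟶ D, a ≫ w = b := by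
    intro C D _ _ a _ b _ ha hb _
    refine GrpQuotLib.exists_desc a b fun T x y hxy => ?_
    have h1 : (x⁻¹ * y) ≫ a = 1 := by rw [MonObj.mul_comp, GrpObj.inv_comp, hxy, inv_mul_cancel]
    obtain ⟨m, hm⟩ : ∃ m : T ⟶ N, m ≫ n = x⁻¹ * y :=
      ⟨ha.lift _ (toUnit T) (by rw [h1, Hom.one_def]), ha.lift_fst _ _ _⟩
    have hnb : n ≫ b = 1 := by rw [hb.w, Hom.one_def]
    have h2 : (x⁻¹ * y) ≫ b = 1 := by rw [← hm, Category.assoc, hnb, MonObj.comp_one]
    rw [MonObj.mul_comp, GrpObj.inv_comp, inv_mul_eq_one] at h2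
    exact h2
  obtain ⟨w, hw⟩ := hd f g hf hg
  obtain ⟨v, hv⟩ := hd g f hg hf
  haveI : Epi f := GrpQuotLib.epi_of_isFpqc f
  haveI : Epi g := GrpQuotLib.epi_of_isFpqc g
  haveI : Epi (f ⊗ₘ f) := by
    haveI := GrpQuotLib.isFpqc_whiskerRight f G
    haveI := GrpQuotLib.isFpqc_whiskerLeft f A
    haveI := GrpQuotLib.epi_of_isFpqc (f ▷ G)
    haveI := GrpQuotLib.epi_of_isFpqc (A ◁ f)
    rw [MonoidalCategory.tensorHom_def]
    exact epi_comp _ _
  haveI : IsMonHom w := by
    refine ⟨?_, ?_⟩
    · rw [← IsMonHom.one_hom f, Category.assoc, hw, IsMonHom.one_hom]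
    · rw [← cancel_epi (f ⊗ₘ f), ← Category.assoc, ← IsMonHom.mul_hom, Category.assoc, hw, IsMonHom.mul_hom,
        ← Category.assoc, tensorHom_comp_tensorHom, hw]
  haveI : IsIso w := ⟨v, by rw [← cancel_epi f, reassoc_of% hw, hv, Category.comp_id],
    by rw [← cancel_epi g, reassoc_of% hv, hw, Category.comp_id]⟩
  haveI : IsMonHom (asIso w).hom := ‹IsMonHom w›
  exact ⟨Grp.mkIso' (asIso w)⟩

/-- Additive case. Let k be a field, H an affine smooth connected k-group scheme, and f a homomorphism
from the additive group over k to H which is finite and surjective (an isogeny onto H). Then H is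
isomorphic, as a k-group scheme, to the additive group. In particular every quotient of the additive
group by a finite k-subgroup scheme is isomorphic to the additive group over k itself, for any field
k. -/
theorem result (k : Type u) [Field k]
    (H : Over (Spec (CommRingCat.of k))) [GrpObj H] [IsAffine H.left] [Smooth H.hom] [ConnectedSpace ↥H.left]
    (f : Red.Ga (Spec (CommRingCat.of k)) ⟶ H) [IsMonHom f] [IsFinite f.left] [Surjective f.left] :
    Nonempty (Grp.mk H ≅ Grp.mk (Red.Ga (Spec (CommRingCat.of k)))) := by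
  obtain ⟨gN, hn⟩ := MonoFibre.exists_grpObj_kernel f
  let N := Limits.pullback f η[H]
  let n : N ⟶ Red.Ga (Spec (CommRingCat.of k)) := Limits.pullback.fst f η[H]
  letI : GrpObj N := gN
  haveI : IsMonHom n := hn
  have hN : IsPullback n (toUnit N) f η[H] := by
    rw [toUnit_unique (toUnit N) (Limits.pullback.snd f η[H])]
    exact IsPullback.of_hasPullback f η[H]
  haveI : Mono η[H] := SplitMono.mono ⟨toUnit H, toUnit_unique _ _⟩
  haveI : Mono n := hN.mono_fst_of_mono
  haveI : IsFinite N.hom := by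
    have h : IsFinite (toUnit N).left :=
      MorphismProperty.of_isPullback (P := @IsFinite) (hN.map (Over.forget _)) ‹IsFinite f.left›
    rw [show N.hom = (toUnit N).left ≫ (𝟙_ (Over (Spec (CommRingCat.of k)))).hom from (Over.w _).symm]
    haveI : IsIso (𝟙_ (Over (Spec (CommRingCat.of k)))).hom := inferInstanceAs (IsIso (𝟙 _))
    infer_instance
  obtain ⟨φ, hφ, hφk, hφf, hφs⟩ := FiniteKer.exists_endo_kernel (G := Red.Ga (Spec (CommRingCat.of k)))
    (Or.inl ⟨Iso.refl _⟩) n
  haveI := hφ
  haveI := hφf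
  haveI := hφs
  haveI : LocallyOfFiniteType (Red.Ga (Spec (CommRingCat.of k))).hom := by
    rw [← Over.w f]
    infer_instance
  haveI : IsLocallyNoetherian (Red.Ga (Spec (CommRingCat.of k))).left :=
    LocallyOfFiniteType.isLocallyNoetherian (Red.Ga (Spec (CommRingCat.of k))).hom
  haveI : IsReduced H.left := ASp.isReduced_of_smooth H.hom
  haveI : Flat f.left := MonoFibre.flat_of_surjective f
  haveI : LocallyOfFinitePresentation φ.left := by
    haveI : LocallyOfFiniteType (φ.left ≫ (Red.Ga (Spec (CommRingCat.of k))).hom) := by rw [Over.w]; infer_instance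
    haveI : LocallyOfFiniteType φ.left := locallyOfFiniteType_of_comp φ.left (Red.Ga (Spec (CommRingCat.of k))).hom
    infer_instance
  haveI : LocallyOfFinitePresentation f.left := by
    haveI : IsLocallyNoetherian H.left := LocallyOfFiniteType.isLocallyNoetherian H.hom
    infer_instance
  haveI : SchDesc.IsFpqc f.left := SchDesc.IsFpqc.of_locallyOfFinitePresentation _
  haveI : SchDesc.IsFpqc φ.left := SchDesc.IsFpqc.of_locallyOfFinitePresentation _
  exact exists_iso_of_kernel n f φ hN hφk

end Groth.Agent.S15606
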