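import Groth.Statements.S15607
import Groth.Agent.GmIsogLib.Main
import Groth.Agent.TorusField.Bridge
-- import your own Groth.Agent.* helpers here

set_option autoImplicit false
universe u
open CategoryTheory MonoidalCategory CartesianMonoidalCategory MonObj GrpObj AlgebraicGeometry
open AlgGrp

namespace Groth.Agent.S15607

/-- Multiplicative case. Let k be a field, H a smooth connected k-group scheme, and f a homomorphism
from H to the multiplicative group over k which is finite and surjective (an isogeny). Then H is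
isomorphic, as a k-group scheme, to the multiplicative group: a smooth connected k-group isogenous
to the multiplicative group over k is the split one-dimensional torus. -/
theorem result (k : Type u) [Field k]
    (H : Over (Spec (CommRingCat.of k))) [GrpObj H] [Smooth H.hom] [ConnectedSpace ↥H.left]
    (f : H ⟶ Red.Gm (Spec (CommRingCat.of k))) [IsMonHom f] [IsFinite f.left] [Surjective f.left] :
    Nonempty (Grp.mk H ≅ Grp.mk (Red.Gm (Spec (CommRingCat.of k)))) := by
  classical
  haveI : IsAffineHom (Red.Gm (Spec (CommRingCat.of k))).hom := FixedSmooth.isAffineHom_DS _ ℤ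
  haveI : IsAffineHom H.hom := by rw [← Over.w f]; infer_instance
  haveI : IsAffine H.left := isAffine_of_isAffineHom H.hom
  obtain ⟨A, _, _, ⟨e⟩⟩ := TorusField.exists_hopf k H
  let d := TorusField.dsIso k ℤ
  let F : Grp.mk H ⟶ Grp.mk (Red.Gm (Spec (CommRingCat.of k))) := Grp.homMk'' (A := Grp.mk H) (B := Grp.mk (Red.Gm (Spec (CommRingCat.of k)))) f
  let q : TorusField.specGrp k A ⟶ TorusField.specGrp k (MonoidAlgebra k (Multiplicative ℤ)) := e.hom ≫ F ≫ d.hom
  let gm := (hopfSpec.fullyFaithful (R := CommRingCat.of k)).preimage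
    (X := Opposite.op (CommHopfAlgCat.of k A)) (Y := Opposite.op (CommHopfAlgCat.of k (MonoidAlgebra k (Multiplicative ℤ)))) q
  have hgm : (hopfSpec (CommRingCat.of k)).map gm = q := Functor.FullyFaithful.map_preimage _ _
  let g : MonoidAlgebra k (Multiplicative ℤ) →ₐc[k] A := gm.unop.hom
  have hq : Spec.map (CommRingCat.ofHom (g : MonoidAlgebra k (Multiplicative ℤ) →+* A)) = q.hom.hom.left := by
    rw [← hgm]; rfl
  have hqf : q.hom.hom.left = e.hom.hom.hom.left ≫ f.left ≫ d.hom.hom.hom.left := rfl
  haveI hfin' : IsFinite (Spec.map (CommRingCat.ofHom (g : MonoidAlgebra k (Multiplicative ℤ) →+* A))) := by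
    rw [hq, hqf]
    refine MorphismProperty.comp_mem @IsFinite _ _ ?_ (MorphismProperty.comp_mem @IsFinite _ _ ‹IsFinite f.left› ?_)
    · exact MorphismProperty.of_isIso @IsFinite ((Over.forget _).mapIso ((Grp.forget _).mapIso e)).hom
    · exact MorphismProperty.of_isIso @IsFinite ((Over.forget _).mapIso ((Grp.forget _).mapIso d)).hom
  haveI hsurj' : Surjective (Spec.map (CommRingCat.ofHom (g : MonoidAlgebra k (Multiplicative ℤ) →+* A))) := by
    rw [hq, hqf]
    refine MorphismProperty.comp_mem @Surjective _ _ ?_ (MorphismProperty.comp_mem @Surjective _ _ ‹Surjective f.left› ?_)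
    · exact MorphismProperty.of_isIso @Surjective ((Over.forget _).mapIso ((Grp.forget _).mapIso e)).hom
    · exact MorphismProperty.of_isIso @Surjective ((Over.forget _).mapIso ((Grp.forget _).mapIso d)).hom
  have hfin : (g : MonoidAlgebra k (Multiplicative ℤ) →+* A).Finite := (IsFinite.SpecMap_iff _).mp hfin'
  have hinj : Function.Injective g := by
    have h := (PrimeSpectrum.denseRange_comap_iff_ker_le_nilRadical (g : MonoidAlgebra k (Multiplicative ℤ) →+* A)).mp
      hsurj'.surj.denseRange
    rw [nilradical_eq_zero] at h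
    exact (RingHom.injective_iff_ker_eq_bot (g : MonoidAlgebra k (Multiplicative ℤ) →+* A)).mpr (le_bot_iff.mp h)
  haveI : Algebra.Smooth k A := by
    haveI : Smooth (TorusField.specGrp k A).X.hom := by
      rw [← Over.w e.hom.hom.hom]
      show Smooth (e.hom.hom.hom.left ≫ H.hom)
      infer_instance
    exact RingHom.smooth_algebraMap.mp (HasRingHomProperty.Spec_iff.mp
      (this : Smooth (Spec.map (CommRingCat.ofHom (algebraMap k A)))))
  haveI : ConnectedSpace (PrimeSpectrum A) := by
    let φ := (Scheme.forgetToTop.mapIso (asIso e.hom.hom.hom.left)).symm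
    exact (TopCat.homeoOfIso φ).surjective.connectedSpace (TopCat.homeoOfIso φ).continuous
  have hconn : ∀ a : A, IsIdempotentElem a → a = 0 ∨ a = 1 := fun a ha => by
    rcases isClopen_iff.1 (PrimeSpectrum.isClopen_iff.2 ⟨a, ha, rfl⟩ :
      IsClopen (PrimeSpectrum.basicOpen a : Set (PrimeSpectrum A))) with h | h
    · exact Or.inl (ha.eq_zero_of_isNilpotent ((PrimeSpectrum.basicOpen_eq_bot_iff a).1 (TopologicalSpace.Opens.ext h)))
    · refine Or.inr ((IsIdempotentElem.iff_eq_one_of_isUnit ?_).1 ha)
      by_contra hnu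
      obtain ⟨m, hm, ham⟩ := exists_max_ideal_of_mem_nonunits hnu
      exact (show (⟨m, hm.isPrime⟩ : PrimeSpectrum A) ∈ (PrimeSpectrum.basicOpen a : Set (PrimeSpectrum A)) by rw [h]; trivial) ham
  obtain ⟨ψ⟩ := GmIsogLib.nonempty_bialgEquiv g hfin hinj hconn
  exact ⟨e.symm ≪≫ TorusField.specIso ψ.symm ≪≫ d.symm⟩

end Groth.Agent.S15607
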