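import Groth.Statements.S15609
import Groth.Agent.GrpSchLib.Component
import Groth.Agent.GrpPtsLib.Tangent
-- import your own Groth.Agent.* helpers here

set_option autoImplicit false
set_option backward.isDefEq.respectTransparency false
set_option backward.isDefEq.respectTransparency false
universe u
open CategoryTheory MonoidalCategory CartesianMonoidalCategory MonObj GrpObj AlgebraicGeometry
open AlgGrp Limits

namespace Groth.Agent.S15609

/-- The implication (ii) ⇒ (i). Let k be a field and f : G ⟶ G' a homomorphism of k-group schemes of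
finite type. Suppose that f is injective on K-points for every algebraically closed field K over k,
and that f is injective on tangent spaces at the identity: every point of G with values in the dual
numbers k[ε] which restricts to the identity at ε = 0 and is sent by f to the identity point of G'
is itself the identity point. Then f has trivial kernel: it is a monomorphism. (The published
statement assumes G smooth; this implication does not use it.) -/
theorem result (k : Type u) [Field k]
    (G G' : Over (Spec (CommRingCat.of k))) [GrpObj G] [GrpObj G'] [LocallyOfFiniteType G.hom] [QuasiCompact G.hom]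
    [LocallyOfFiniteType G'.hom] [QuasiCompact G'.hom] (f : G ⟶ G') [IsMonHom f]
    (hgeom : ∀ (K : Type u) [Field K] [IsAlgClosed K] [Algebra k K],
      Function.Injective (fun g : (Over.mk (Spec.map (CommRingCat.ofHom (algebraMap k K)))) ⟶ G => g ≫ f))
    (htan : ∀ g : (Over.mk (Spec.map (CommRingCat.ofHom (algebraMap k (DualNumber k))))) ⟶ G,
      (∀ x : 𝟙_ (Over (Spec (CommRingCat.of k))) ⟶ (Over.mk (Spec.map (CommRingCat.ofHom (algebraMap k (DualNumber k))))), x ≫ g = η[G]) →
        g ≫ f = toUnit _ ≫ η[G'] → g = toUnit _ ≫ η[G]) :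
    Mono f := by
  haveI : IsClosedImmersion η[G'].left := Groth.Agent.GrpSchLib.isClosedImmersion_unit
  let N : Over (Spec (CommRingCat.of k)) := Over.mk (pullback.fst f.left η[G'].left ≫ G.hom)
  let jN : N ⟶ G := Over.homMk (pullback.fst f.left η[G'].left) rfl
  haveI : IsClosedImmersion jN.left := inferInstanceAs (IsClosedImmersion (pullback.fst f.left η[G'].left))
  haveI : LocallyOfFiniteType N.hom := inferInstanceAs (LocallyOfFiniteType (pullback.fst f.left η[G'].left ≫ G.hom))
  have hone : ∀ {T : Over (Spec (CommRingCat.of k))}, T.hom ≫ η[G'].left = (1 : T ⟶ G').left := fun {T} => by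
    rw [Hom.one_def]; rfl
  have hjN : jN ≫ f = 1 := by
    apply Over.OverMorphism.ext
    rw [← hone]
    show pullback.fst f.left η[G'].left ≫ f.left = (pullback.fst f.left η[G'].left ≫ G.hom) ≫ η[G'].left
    have h1 : pullback.fst f.left η[G'].left ≫ G.hom = pullback.snd f.left η[G'].left := by
      rw [← Over.w f, pullback.condition_assoc, Over.w η[G']]
      exact Category.comp_id _
    rw [h1, pullback.condition]
  have hlift : ∀ {T : Over (Spec (CommRingCat.of k))} (g : T ⟶ G), g ≫ f = 1 → ∃ n : T ⟶ N, n ≫ jN = g := by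
    intro T g hg
    refine ⟨Over.homMk (pullback.lift g.left T.hom (by rw [hone, ← hg]; rfl)) ?_, ?_⟩
    · show pullback.lift _ _ _ ≫ pullback.fst _ _ ≫ G.hom = _
      rw [pullback.lift_fst_assoc, Over.w g]
    · exact Over.OverMorphism.ext (pullback.lift_fst _ _ _)
  obtain ⟨s, hs⟩ := hlift η[G] (by rw [IsMonHom.one_hom f, Hom.one_def]; simp)
  let o := IsLocalRing.closedPoint k
  haveI : Subsingleton N.left := by
    refine ⟨fun a b => ?_⟩
    suffices ∀ z : N.left, z = s.left o from (this a).trans (this b).symm
    intro z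
    let K := AlgebraicClosure (N.left.residueField z)
    let c : CommRingCat.of k ⟶ N.left.residueField z := Spec.preimage (N.left.fromSpecResidueField z ≫ N.hom)
    letI : Algebra k K := ((algebraMap (N.left.residueField z) K).comp c.hom).toAlgebra
    let P : Over (Spec (CommRingCat.of k)) := Over.mk (Spec.map (CommRingCat.ofHom (algebraMap k K)))
    let p : P ⟶ N := Over.homMk
      (Spec.map (CommRingCat.ofHom (algebraMap (N.left.residueField z) K)) ≫ N.left.fromSpecResidueField z) (by
        show (Spec.map (CommRingCat.ofHom (algebraMap (N.left.residueField z) K)) ≫ N.left.fromSpecResidueField z) ≫ N.hom =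
          Spec.map (CommRingCat.ofHom (algebraMap k K))
        rw [Category.assoc, ← Spec.map_preimage (N.left.fromSpecResidueField z ≫ N.hom), ← Spec.map_comp]
        rfl)
    have h1 : p ≫ jN = (toUnit P ≫ s) ≫ jN := by
      apply hgeom K
      show (p ≫ jN) ≫ f = ((toUnit P ≫ s) ≫ jN) ≫ f
      rw [Category.assoc, hjN, Category.assoc, hjN, MonObj.comp_one, MonObj.comp_one]
    have h2 := congrArg (fun m => m.left (IsLocalRing.closedPoint K)) h1
    apply jN.left.isClosedEmbedding.injective
    have h3 : p.left (IsLocalRing.closedPoint K) = z := Scheme.fromSpecResidueField_apply z _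
    rw [← h3]
    refine h2.trans ?_
    show jN.left (s.left _) = jN.left (s.left o)
    congr 2
    exact Subsingleton.elim (α := PrimeSpectrum k) _ _
  haveI : IsAffine N.left := inferInstance
  let A := Γ(N.left, ⊤)
  let e := N.left.isoSpec
  let φ₀ : CommRingCat.of k ⟶ A := Spec.preimage (e.inv ≫ N.hom)
  let ε₀ : A ⟶ CommRingCat.of k := Spec.preimage (s.left ≫ e.hom)
  have hεφ : φ₀ ≫ ε₀ = 𝟙 _ := Spec.map_injective (by
    rw [Spec.map_comp, Spec.map_preimage, Spec.map_preimage, Category.assoc, e.hom_inv_id_assoc, Over.w s, Spec.map_id]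
    rfl)
  letI : Algebra k A := φ₀.hom.toAlgebra
  let ε : A →ₐ[k] k := { ε₀.hom with commutes' := fun r => congrArg (fun g => g.hom r) hεφ }
  haveI : IsNoetherianRing A := by
    haveI : IsLocallyNoetherian N.left := LocallyOfFiniteType.isLocallyNoetherian N.hom
    exact IsLocallyNoetherian.component_noetherian ⟨⊤, isAffineOpen_top _⟩
  let m := RingHom.ker ε.toRingHom
  haveI : m.IsMaximal := RingHom.ker_isMaximal_of_surjective _ fun r => ⟨algebraMap k A r, ε.commutes r⟩
  haveI : Subsingleton (PrimeSpectrum A) := e.inv.isOpenEmbedding.injective.subsingleton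
  haveI : Nontrivial A := ε.toRingHom.domain_nontrivial
  haveI : IsLocalRing A := .of_unique_max_ideal ⟨m, ‹_›, fun J hJ => by
    exact congrArg PrimeSpectrum.asIdeal
      (Subsingleton.elim (⟨J, hJ.isPrime⟩ : PrimeSpectrum A) ⟨m, Ideal.IsMaximal.isPrime ‹_›⟩)⟩
  have hm : m = ⊥ := by
    have hmsq : m ≤ m * m := fun x hx => by
      by_contra hx2
      obtain ⟨ψ, hψ, hψx⟩ := Groth.Agent.GrpPtsLib.exists_dual_point ε x hx hx2
      let P : Over (Spec (CommRingCat.of k)) := Over.mk (Spec.map (CommRingCat.ofHom (algebraMap k (DualNumber k))))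
      let n : P ⟶ N := Over.homMk (Spec.map (CommRingCat.ofHom ψ.toRingHom) ≫ e.inv) (by
        show (Spec.map (CommRingCat.ofHom ψ.toRingHom) ≫ e.inv) ≫ N.hom = _
        rw [Category.assoc, ← Spec.map_preimage (e.inv ≫ N.hom), ← Spec.map_comp]
        exact congrArg Spec.map (CommRingCat.hom_ext ψ.comp_algebraMap))
      have hn1 : n ≫ jN = toUnit P ≫ η[G] := by
        refine htan (n ≫ jN) (fun x => ?_) ?_
        · rw [← hs, ← Category.assoc]
          congr 1
          apply Over.OverMorphism.ext
          show x.left ≫ Spec.map (CommRingCat.ofHom ψ.toRingHom) ≫ e.inv = s.left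
          rw [← Category.assoc, Iso.comp_inv_eq, ← Spec.map_preimage x.left, ← Spec.map_comp,
            ← Spec.map_preimage (s.left ≫ e.hom)]
          congr 1
          let χ₀ : CommRingCat.of (DualNumber k) ⟶ CommRingCat.of k := Spec.preimage x.left
          have hχ : ∀ r, χ₀.hom (algebraMap k (DualNumber k) r) = r := by
            intro r
            have h := Over.w x
            rw [show x.left = Spec.map χ₀ from (Spec.map_preimage _).symm] at h
            have h' : Spec.map (CommRingCat.ofHom (algebraMap k (DualNumber k)) ≫ χ₀) = Spec.map (𝟙 _) := by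
              rw [Spec.map_comp, Spec.map_id]; exact h
            exact congrArg (fun g => g.hom r) (Spec.map_injective h')
          ext a
          show χ₀.hom (ψ a) = ε a
          rw [← TrivSqZeroExt.inl_fst_add_inr_snd_eq (ψ a), hψ, map_add, ← TrivSqZeroExt.algebraMap_eq_inl, hχ,
            add_eq_left]
          exact (IsNilpotent.map ⟨2, by rw [pow_two, TrivSqZeroExt.inr_mul_inr]⟩ χ₀.hom).eq_zero
        · rw [Category.assoc, hjN, MonObj.comp_one, Hom.one_def]
      haveI : Mono jN := Over.mono_of_mono_left jN
      have hn2 : n = toUnit P ≫ s := by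
        rw [← cancel_mono jN, hn1, Category.assoc, hs]
      have hn3 := congrArg CommaMorphism.left hn2
      have h3 : Spec.map (CommRingCat.ofHom ψ.toRingHom) =
          Spec.map (ε₀ ≫ CommRingCat.ofHom (algebraMap k (DualNumber k))) := by
        rw [Spec.map_comp, Spec.map_preimage, ← Category.assoc, ← Iso.comp_inv_eq]
        exact hn3
      have h4 := congrArg (fun g => TrivSqZeroExt.snd (g.hom x)) (Spec.map_injective h3)
      exact hψx (h4.trans (by simp [TrivSqZeroExt.algebraMap_eq_inl]))
    exact Submodule.eq_bot_of_le_smul_of_le_jacobson_bot m m (IsNoetherian.noetherian m) hmsq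
      (IsLocalRing.le_maximalIdeal (Ideal.IsMaximal.ne_top ‹_›) |>.trans
        (IsLocalRing.maximalIdeal_le_jacobson ⊥))
  have hεinj : Function.Injective ε₀.hom := (RingHom.injective_iff_ker_eq_bot _).mpr hm
  haveI : IsIso ε₀ := ⟨φ₀, by
    ext a
    exact hεinj (congrArg (fun g => g.hom (ε₀.hom a)) hεφ), hεφ⟩
  haveI : IsIso s.left := by
    have : s.left = Spec.map ε₀ ≫ e.inv := by rw [Spec.map_preimage, Category.assoc, e.hom_inv_id, Category.comp_id]
    rw [this]; infer_instance
  haveI : IsIso ((Over.forget _).map s) := inferInstanceAs (IsIso s.left)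
  haveI : IsIso s := isIso_of_reflects_iso s (Over.forget _)
  refine ⟨fun {T} x y hxy => ?_⟩
  obtain ⟨n, hn⟩ := hlift (x * y⁻¹) (by
    rw [MonObj.mul_comp, hxy, show y⁻¹ ≫ f = (y ≫ f)⁻¹ from (IsMonHom.monoidHom f T).map_inv y, mul_inv_cancel])
  rw [← mul_inv_eq_one, ← hn, ← Category.comp_id n, ← IsIso.inv_hom_id s, Category.assoc, Category.assoc, hs,
    Hom.one_def, ← Category.assoc, toUnit_unique (n ≫ inv s) (toUnit T)]

end Groth.Agent.S15609
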