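import Groth.Statements.S1563
import Mathlib
import Groth.Agent.RegLocal.Consequences
import Groth.Agent.PullbackMod.Flat

set_option autoImplicit false
universe u
open CategoryTheory CategoryTheory.Limits AlgebraicGeometry
open Variety

namespace Groth.Agent.S1563

open CategoryTheory CategoryTheory.Limits AlgebraicGeometry

theorem isRegular_target_of_flat {A B : Type u} [CommRing A] [IsLocalRing A] [CommRing B] [Algebra A B]
    [IsLocalHom (algebraMap A B)] [Module.Flat A B] [IsRegularLocalRing B] : IsRegularLocalRing A := by
  haveI : Module.FaithfullyFlat A B := Module.FaithfullyFlat.of_flat_of_isLocalHom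
  haveI : IsNoetherianRing A := by
    have hinj : ∀ I J : Ideal A, I.map (algebraMap A B) = J.map (algebraMap A B) → I = J := fun I J h => by
      rw [← Ideal.comap_map_eq_self_of_faithfullyFlat (B := B) I, h, Ideal.comap_map_eq_self_of_faithfullyFlat]
    refine isNoetherianRing_iff.mpr (isNoetherian_iff'.mpr ?_)
    exact StrictMono.wellFoundedGT (f := fun I : Ideal A => I.map (algebraMap A B))
      fun I J h => lt_of_le_of_ne (Ideal.map_mono h.le) fun e => h.ne (hinj I J e)
  exact Groth.Agent.RegLocal.isRegularLocalRing_of_flat A B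


/-- Geometric regularity descends along a morphism f of locally Noetherian k-schemes which is flat at
the point x (the map of local rings at x is flat): if X has it at x then Y has it at f(x). -/
theorem result (k : Type u) [Field k] (X Y : Scheme.{u}) [X.Over (Spec (CommRingCat.of k))] [Y.Over (Spec (CommRingCat.of k))]
    [IsLocallyNoetherian X] [IsLocallyNoetherian Y] (f : X ⟶ Y) (hf : f ≫ (Y ↘ (Spec (CommRingCat.of k))) = X ↘ (Spec (CommRingCat.of k)))
    (x : X) (hflat : (f.stalkMap x).hom.Flat) (hx : Curv2.IsGeomRegularAt k X x) :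
    Curv2.IsGeomRegularAt k Y (f.base x) := by
  intro K _ _ hK y' hy'
  let T : Curv2.bc k X K ⟶ Curv2.bc k Y K :=
    pullback.map _ _ _ _ f (𝟙 _) (𝟙 _) (by rw [Category.comp_id, hf]) (by rw [Category.id_comp, Category.comp_id])
  have hsq : IsPullback T (Curv2.bcFst k X K) (Curv2.bcFst k Y K) f := by
    refine IsPullback.of_right ?_ (pullback.lift_fst _ _ _) (IsPullback.of_hasPullback _ _).flip
    rw [show T ≫ Curv2.bcSnd k Y K = Curv2.bcSnd k X K from (pullback.lift_snd _ _ _).trans (Category.comp_id _), hf]
    exact (IsPullback.of_hasPullback _ _).flip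
  obtain ⟨x', hx'T, hx'X⟩ := Scheme.exists_preimage_of_isPullback hsq y' x hy'
  subst hx'T
  subst hx'X
  haveI := hx K hK x' rfl
  have hflat' : (T.stalkMap x').hom.Flat := Groth.Agent.PullbackMod.flat_stalkMap_of_isPullback hsq x' hflat
  algebraize [(T.stalkMap x').hom]
  haveI : IsLocalHom (algebraMap ((Curv2.bc k Y K).presheaf.stalk (T x')) ((Curv2.bc k X K).presheaf.stalk x')) :=
    T.toLRSHom.prop x'
  exact isRegular_target_of_flat (B := (Curv2.bc k X K).presheaf.stalk x')


end Groth.Agent.S1563
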