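import Groth.Statements.S15630
import Groth.Agent.SchFinLib.Connected

set_option autoImplicit false
universe u
open SchFin SchFin.FEt

namespace Groth.Agent.S15630

open SchFin CategoryTheory in
/-- Over a well-connected schematic finite space, a morphism of étale covers from A to B which is
injective at every point, where the values of A and B have the same rank at every prime of the ring
of every point, is an isomorphism. (The published statement asks for equal degrees, which on a
well-connected space are constant and hence the same as the pointwise ranks.) (This row carries as a
hypothesis the local triviality of étale covers — for every étale cover A there are a quasi-coherent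
algebra B, finite and faithfully flat at every point, and a natural number n with B_p ⊗ A_p
isomorphic to B_p^n as a B_p-algebra at every point p — which holds for well-connected schematic
spaces, the published proof of that fact going by way of an equivalence of quasi-coherent modules
along qc-isomorphisms recalled without proof; the published statement does not carry it.) -/
theorem result (X : RSpace.{u}) (hX : X.IsSchematic)
    (hwc : X.IsWellConnected)
    (hlt : ∀ A : FEt X, ∃ (B : Alg X) (n : ℕ), B.IsCovering ∧
      ∀ p : X.pt, Nonempty (TensorProduct (X.ring p) (B.carrier p) (A.obj.carrier p) ≃ₐ[B.carrier p] (Fin n → B.carrier p)))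
    {A B : FEt X} (f : A ⟶ B) (hf : ∀ p : X.pt, Function.Injective (f.hom.app p))
    (hdeg : ∀ (p : X.pt) (P : PrimeSpectrum (X.ring p)),
      Module.rankAtStalk (A.obj.carrier p) P = Module.rankAtStalk (B.obj.carrier p) P) :
    IsIso f := by
  have hb : ∀ p, Function.Bijective (f.hom.app p) := fun p => by
    haveI := (A.property.2 p).1
    haveI := (A.property.2 p).2
    haveI := (B.property.2 p).1
    haveI := (B.property.2 p).2
    exact Groth.Agent.SchFinLib.bijective_of_injective_of_rank_eq (f.hom.app p) (hf p) (hdeg p)
  exact ⟨ObjectProperty.homMk (Groth.Agent.SchFinLib.invOfBijective f.hom hb),
    ObjectProperty.hom_ext _ (Groth.Agent.SchFinLib.comp_invOfBijective f.hom hb),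
    ObjectProperty.hom_ext _ (Groth.Agent.SchFinLib.invOfBijective_comp f.hom hb)⟩

end Groth.Agent.S15630
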