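import Groth.Statements.S1565
import Groth.Agent.CurveFF.SepFibre
import Groth.Agent.CurveFF.CanSep
import Groth.Agent.CurveLib.Finite
import Groth.Agent.S10830
import Mathlib.FieldTheory.Perfect

set_option autoImplicit false
universe u
open CategoryTheory CategoryTheory.Limits AlgebraicGeometry
attribute [local instance] Curv2.resAlgebra
open Curves

namespace Groth.Agent.S1565

attribute [local instance] Curv2.stalkAlgebra
attribute [local instance high] FunFld.Place.algRes
set_option maxHeartbeats 1000000
open scoped IntermediateField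
open Groth.Agent.CurveFF in
theorem core (k : Type u) [Field k] (X : Scheme.{u}) [X.Over (Spec (CommRingCat.of k))]
    [IsProper (X ↘ Spec (CommRingCat.of k))] [Smooth (X ↘ Spec (CommRingCat.of k))] [IsIntegral X]
    [VBLib.IsRegCurve X] (hdim : topologicalKrullDim X = 1)
    (h0 : Module.finrank k (Coh.HH X (Coh.structureModule X) 0) = 1) (hg : 2 ≤ Curv2.genus k X) :
    ∃ (y : X) (hy : IsClosed ({y} : Set X)), Algebra.IsSeparable k (X.residueField y) ∧
      (placeOf k hdim y hy).deg ≤ 2 * Curv2.genus k X - 2 := by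
  classical
  haveI := EulerIneqLib.isNoetherian_proper (X := X) k
  have hK := isFunctionField k hdim h0
  have hgen := genus_eq (k := k) hdim h0
  obtain ⟨C₀, hC₀⟩ := FF.exists_canonical hK
  obtain ⟨hl, hd⟩ := FF.canonical_deg hK hC₀
  obtain ⟨z, hz, hzL⟩ := FF.exists_ne_zero_of_ell_pos (D := C₀) (by omega)
  set C := C₀ + FunFld.div k z with hC
  have hC0 : 0 ≤ C := FF.le_add_div_of_mem_L hK hz hzL
  have hCd : C.deg = 2 * (Curv2.genus k X : ℤ) - 2 := by rw [hC, FF.deg_add, FF.deg_div hK, hd, hgen]; ring
  have hCl : Curv2.genus k X ≤ FunFld.ell C := by rw [hC, FF.ell_add_div hK _ hz, hl, hgen]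
  have hfin : ∀ (y : X) (hy : IsClosed ({y} : Set X)), Module.Finite k (X.residueField y) := fun y hy => by
    refine Module.finite_of_finrank_pos ?_
    rw [← deg_placeOf hdim hy]
    exact FF.deg_pos hK _
  by_cases hperf : PerfectField k
  · have hne : C ≠ 0 := fun h => by rw [h, FF.deg_zero] at hCd; omega
    obtain ⟨P, hP⟩ := Finsupp.ne_iff.1 hne
    obtain ⟨y, hy, rfl⟩ := placeOf_surjective hdim P
    haveI := hfin y hy
    refine ⟨y, hy, inferInstance, ?_⟩
    set P := placeOf k hdim y hy
    have h1 : (1 : ℤ) ≤ C P := by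
      have := hC0 P
      simp only [Finsupp.coe_zero, Pi.zero_apply] at this hP
      omega
    have h2 : Finsupp.single P (1 : ℤ) ≤ C := fun Q => by
      rcases eq_or_ne Q P with rfl | hQ
      · simpa using h1
      · simpa [Finsupp.single_eq_of_ne hQ] using hC0 Q
    have h3 := FF.deg_mono h2
    rw [FF.deg_single, one_mul, hCd] at h3
    omega
  haveI : Infinite k := by
    by_contra hfinite
    haveI := not_infinite_iff_finite.1 hfinite
    exact hperf inferInstance
  obtain ⟨p, hp⟩ := ExpChar.exists k
  cases hp with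
  | zero => exact absurd (inferInstance : PerfectField k) hperf
  | prime hprime =>
    haveI := Fact.mk hprime
    haveI : ExpChar k p := ExpChar.prime hprime
    obtain ⟨x, hxC, hxc, hsep⟩ := CanSep.exists_separable hdim h0 p hg hC0 hCd.le hCl
    have hx : Transcendental k x := FF.transcendental_of_not_mem hK hxc
    obtain ⟨U, hηU, hU⟩ := SepFibre.exists_open hdim h0 x hsep
    have hbad : ((U : Set X)ᶜ).Finite := by
      refine CurveLib.finite_of_dim_le_zero U.isOpen.isClosed_compl ?_
      have hne : (U : Set X)ᶜ ≠ Set.univ := fun h => (h.ge (Set.mem_univ (genericPoint X))) hηU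
      have hlt := S10830.result X (by rw [hdim]; exact ne_of_beq_false rfl) _ U.isOpen.isClosed_compl hne
      rw [hdim] at hlt
      exact ENat.WithBot.lt_add_one_iff.1 (by simpa using hlt)
    have hbadc : {c : k | ∃ (y : X) (hy : IsClosed ({y} : Set X)), y ∉ U ∧
        (placeOf k hdim y hy).1 (x - algebraMap k X.functionField c) < 1}.Finite := by
      refine (hbad.biUnion (t := fun y => {c : k | ∃ hy : IsClosed ({y} : Set X),
        (placeOf k hdim y hy).1 (x - algebraMap k X.functionField c) < 1}) fun y _ => ?_).subset ?_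
      · refine Set.Subsingleton.finite ?_
        rintro c₁ ⟨hy, h₁⟩ c₂ ⟨_, h₂⟩
        by_contra hne
        have h3 := lt_of_le_of_lt (Valuation.map_sub _ _ _) (max_lt h₁ h₂)
        rw [show x - algebraMap k X.functionField c₁ - (x - algebraMap k X.functionField c₂) =
          algebraMap k X.functionField (c₂ - c₁) by rw [map_sub]; ring, FF.v_algebraMap _ (sub_ne_zero.2 (Ne.symm hne))] at h3
        exact lt_irrefl _ h3
      · rintro c ⟨y, hy, hyU, hlt⟩
        exact Set.mem_biUnion hyU ⟨hy, hlt⟩
    obtain ⟨c, hc⟩ := hbadc.exists_notMem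
    set w := x - algebraMap k X.functionField c with hw
    have hwc : w ∉ Set.range (algebraMap k X.functionField) := fun ⟨d, hd⟩ =>
      hxc ⟨d + c, by rw [map_add, hd, hw]; ring⟩
    have hw' : Transcendental k w := FF.transcendental_of_not_mem hK hwc
    obtain ⟨P, hP⟩ := FF.exists_zero hK hw'
    obtain ⟨y, hy, rfl⟩ := placeOf_surjective hdim P
    set P := placeOf k hdim y hy
    have hw0 : w ≠ 0 := fun h => hw' (h ▸ isAlgebraic_zero)
    have hlt : P.1 w < 1 := hP
    have hord := (FF.v_lt_one_iff P hw0).1 hP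
    have hyU : y ∈ U := by
      by_contra h
      exact hc ⟨y, hy, h, hlt⟩
    refine ⟨y, hy, hU y hy hyU c hlt, ?_⟩
    have h1 : Finsupp.single P (1 : ℤ) ≤ FF.zeros (k := k) w := fun Q => by
      rw [FF.zeros_apply hK]
      rcases eq_or_ne Q P with rfl | hQ
      · rw [Finsupp.single_eq_same]; exact le_max_of_le_left hord
      · rw [Finsupp.single_eq_of_ne hQ]; exact le_max_right _ _
    have hwC : w ∈ FunFld.L C := Submodule.sub_mem _ hxC (by
      rw [Algebra.algebraMap_eq_smul_one]; exact Submodule.smul_mem _ _ (FF.one_mem_L hC0))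
    have hwi : Transcendental k w⁻¹ := fun h => hw' (by simpa using h.inv)
    have h2 : FF.zeros (k := k) w⁻¹ ≤ C := fun Q => by
      rw [FF.zeros_apply hK, FF.ord_inv]
      have := (FF.mem_L_iff_ord hw0).1 hwC Q
      have h4 := hC0 Q
      rw [Finsupp.coe_zero, Pi.zero_apply] at h4
      omega
    have h3 := FF.deg_mono h1
    rw [FF.deg_single, one_mul, FF.deg_zeros hK hw'] at h3
    have h5 := FF.deg_mono h2
    rw [FF.deg_zeros hK hwi, FF.adjoin_inv, hCd] at h5
    show P.deg ≤ _
    omega

/-- Let X be a smooth proper curve over a field k whose global functions are k, of genus g ≥ 2. Then X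
has a closed point whose residue field is a separable extension of k of degree at most 2g - 2. -/
theorem result (k : Type u) [Field k] (X : Scheme.{u}) [X.Over (Spec (CommRingCat.of k))]
    (hX : Curve.IsSmoothProperCurve k X (X ↘ (Spec (CommRingCat.of k)))) (h0 : Module.finrank k (Coh.HH X (Coh.structureModule X) 0) = 1) (hg : 2 ≤ Curv2.genus k X) :
    ∃ x : X, IsClosed ({x} : Set X) ∧ Algebra.IsSeparable k (X.residueField x) ∧
      Module.finrank k (X.residueField x) ≤ 2 * Curv2.genus k X - 2 ∧ FiniteDimensional k (X.residueField x) := by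
  classical
  obtain ⟨h1, h2, h3, hdim⟩ := hX
  haveI := h1
  haveI := h2
  haveI := h3
  haveI := Groth.Agent.VBLib.isRegCurve_of_smooth (X := X) k hdim.le
  obtain ⟨y, hy, hsep, hdeg⟩ := core k X hdim h0 hg
  have hd := Groth.Agent.CurveFF.deg_placeOf (k := k) hdim hy
  refine ⟨y, hy, hsep, ?_, ?_⟩
  · rw [hd] at hdeg; exact hdeg
  · refine Module.finite_of_finrank_pos ?_
    rw [← hd]
    exact Groth.Agent.FF.deg_pos (Groth.Agent.CurveFF.isFunctionField k hdim h0) _

end Groth.Agent.S1565
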