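import Groth.Statements.S15654
import Groth.Agent.PoincareLib.Semisimple
import Groth.Agent.CogenLib.Frob


set_option autoImplicit false
universe u
open CategoryTheory MonoidalCategory CartesianMonoidalCategory MonObj GrpObj AlgebraicGeometry
open AbVar

namespace Groth.Agent.S15654

open CategoryTheory CategoryTheory.Limits AlgebraicGeometry

open Groth.Agent
set_option backward.isDefEq.respectTransparency false

/-- First assertion: let A be an abelian variety over a finite field k with q elements (a proper,
geometrically integral commutative group scheme over k) and π_A its q-Frobenius endomorphism (the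
identity on points and the q-th power map on sections; a homomorphism). Then the ℚ-subalgebra ℚ[π_A]
of End⁰(A) = ℚ ⊗_ℤ End_k(A) (End_k(A) the ring of endomorphisms defined over k) generated by the
image 1 ⊗ π_A of the Frobenius endomorphism is a semisimple ring. -/
theorem result (k : Type u) [Field k] [Finite k]
    (A : Over (Spec (CommRingCat.of k)))
    [GrpObj A] [IsCommMonObj A] [IsProper A.hom] [GeometricallyIntegral A.hom]
    (πA : A ⟶ A) [IsMonHom πA] (hπAb : πA.left.base = 𝟙 _)
    (hπAle : ∀ U : A.left.Opens, U ≤ πA.left ⁻¹ᵁ U)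
    (hπAapp : ∀ (U : A.left.Opens) (s : Γ(A.left, U)), (πA.left.appLE U U (hπAle U)).hom s = s ^ Nat.card k) :
    IsSemisimpleRing (EndAV.QAdj (EndAV.End.of πA)) := by
  have hfr : CogenLib.IsQFrob (Nat.card k) πA.left := ⟨hπAb, hπAle, hπAapp⟩
  let π := EndAV.End.of πA
  have hcen : ∀ φ : EndAV.End A, π * φ = φ * π := fun φ => EndAV.End.ext (by
    rw [EndAV.End.toHom_mul, EndAV.End.toHom_mul]
    exact (CogenLib.comm_over hfr hfr φ.toHom).symm)
  have hle : EndAV.QAdj π ≤ Subalgebra.center ℚ (EndAV.End0 A) := Algebra.adjoin_le (by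
    rintro _ rfl
    refine Subalgebra.mem_center_iff.2 fun x => ?_
    obtain ⟨n, φ, hn, hx⟩ := AVHomLib.exists_den x
    have h1 : (n : ℚ) • (x * EndAV.toEnd0 π) = (n : ℚ) • (EndAV.toEnd0 π * x) := by
      rw [← smul_mul_assoc, hx, ← mul_smul_comm, hx, ← map_mul, ← map_mul, hcen]
    exact smul_right_injective _ (by exact_mod_cast hn.ne') h1)
  haveI := AVHomLib.finite_end0 A
  haveI : Module.Finite ℚ (EndAV.QAdj π) :=
    Module.Finite.of_injective (EndAV.QAdj π).val.toLinearMap Subtype.val_injective
  letI : CommRing (EndAV.QAdj π) := { (inferInstance : Ring (EndAV.QAdj π)) with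
    mul_comm := fun a b => Subtype.ext (Subalgebra.mem_center_iff.1 (hle b.2) a.1) }
  haveI : IsArtinianRing (EndAV.QAdj π) := IsArtinianRing.of_finite ℚ _
  haveI : _root_.IsReduced (EndAV.QAdj π) := ⟨fun x hx => Subtype.ext
    (PoincareLib.eq_zero_of_central_nilpotent A (fun z => (Subalgebra.mem_center_iff.1 (hle x.2) z).symm)
      (hx.map (EndAV.QAdj π).val))⟩
  exact IsArtinianRing.isSemisimpleRing_of_isReduced (EndAV.QAdj π)

end Groth.Agent.S15654
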