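import Groth.Statements.S15655
import Groth.Agent.AVHomLib.End0
import Groth.Agent.AVLib.MaxAbel
import Groth.Agent.MonoFibre.AntiAffinePart

set_option autoImplicit false
universe u
open CategoryTheory MonoidalCategory CartesianMonoidalCategory MonObj GrpObj AlgebraicGeometry
open AbVar

namespace Groth.Agent.S15655

open CategoryTheory CategoryTheory.Limits AlgebraicGeometry

open Groth.Agent
set_option backward.isDefEq.respectTransparency false

/-- Proof step: let A be a simple abelian variety over a field k — a proper, geometrically integral
commutative group scheme over k whose only abelian subvarieties over k (geometrically integral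
closed subgroup schemes) are the trivial subgroup and A itself. Then every non-zero element of
End⁰(A) = ℚ ⊗_ℤ End_k(A) (End_k(A) the ring of endomorphisms defined over k) is invertible: End⁰(A)
is a division algebra. (The published proposition is the semisimplicity of End⁰(A) for every abelian
variety; this row states the step of its proof for simple A.) -/
theorem result (k : Type u) [Field k]
    (A : Over (Spec (CommRingCat.of k)))
    [GrpObj A] [IsCommMonObj A] [IsProper A.hom] [GeometricallyIntegral A.hom]
    (hsimple : ∀ (B : Over (Spec (CommRingCat.of k))) [GrpObj B] [GeometricallyIntegral B.hom] (i : B ⟶ A) [IsMonHom i]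
      [IsClosedImmersion i.left], Subsingleton B.left ∨ IsIso i) :
    ∀ x : EndAV.End0 A, x ≠ 0 → IsUnit x := by
  haveI : IsIntegral A.left :=
    haveI : Subsingleton ↥(Spec (CommRingCat.of k)) := inferInstanceAs (Subsingleton (PrimeSpectrum k))
    GeometricallyIntegral.isIntegral_of_subsingleton A.hom
  have key : ∀ f : EndAV.End A, f ≠ 0 → Surjective f.toHom.left := by
    intro f hf
    haveI : Subsingleton ↥(Spec (CommRingCat.of k)) := inferInstanceAs (Subsingleton (PrimeSpectrum k))
    haveI : QuasiCompact f.toHom.left := by
      haveI : QuasiCompact (f.toHom.left ≫ A.hom) := by rw [Over.w f.toHom]; infer_instance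
      exact QuasiCompact.of_comp f.toHom.left A.hom
    obtain ⟨M, hM, i, g, hi, hic, hg, hgi, hgd, hgq, hgs⟩ := MonoFibre.AntiAffinePart.exists_schemeImage f.toHom
    letI := hM
    haveI := hi; haveI := hic; haveI := hgd; haveI := hgq; haveI := hgs
    haveI : GeometricallyIntegral M.hom := AVLib.geometricallyIntegral_of_dominant M.hom g.left (Over.w g)
    haveI : IsIntegral M.left := GeometricallyIntegral.isIntegral_of_subsingleton M.hom
    rcases hsimple M i with hs | hiso
    · exfalso
      haveI := hs
      haveI : IsSeparated M.hom := by rw [← Over.w i]; infer_instance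
      haveI : LocallyOfFiniteType M.hom := by rw [← Over.w i]; infer_instance
      haveI : IsClosedImmersion η[M].left := GrpSchLib.isClosedImmersion_unit
      haveI : Surjective η[M].left :=
        ⟨fun x => ⟨IsLocalRing.closedPoint k, Subsingleton.elim _ _⟩⟩
      haveI := isIso_of_isClosedImmersion_of_surjective η[M].left
      haveI : IsIso η[M] := by
        haveI : IsIso ((Over.forget _).map η[M]) := ‹IsIso η[M].left›
        exact isIso_of_reflects_iso η[M] (Over.forget _)
      refine hf (EndAV.End.ext ?_)
      have hg1 : g = 1 := by
        rw [Hom.one_def, ← cancel_mono (inv η[M]), Category.assoc, IsIso.hom_inv_id, Category.comp_id]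
        exact toUnit_unique _ _
      show f.toHom = 1
      rw [← hgi, hg1, MonObj.one_comp]
    · haveI := hiso
      haveI : IsIso i.left := inferInstanceAs (IsIso ((Over.forget _).map i))
      rw [← hgi, Over.comp_left]
      infer_instance
  refine AVHomLib.isUnit_of_noZeroDivisors fun φ ψ h => ?_
  refine or_iff_not_imp_right.2 fun hψ => EndAV.End.ext ?_
  haveI := key ψ hψ
  have h1 : ψ.toHom ≫ φ.toHom = ψ.toHom ≫ 1 := by
    rw [MonObj.comp_one, ← EndAV.End.toHom_mul, h]; rfl
  show φ.toHom = 1
  haveI : IsDominant ψ.toHom.left := ⟨ψ.toHom.left.surjective.denseRange⟩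
  exact Over.OverMorphism.ext (ext_of_isDominant_of_isSeparated A.hom ((Over.w _).trans (Over.w _).symm) ψ.toHom.left
    (congrArg CommaMorphism.left h1))


end Groth.Agent.S15655
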