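import Groth.Statements.S1568
import Mathlib
import Groth.Agent.AssLib.Structure


set_option autoImplicit false
universe u
open CategoryTheory CategoryTheory.Limits AlgebraicGeometry
open Divisors

namespace Groth.Agent.S1568

/-- Let X be locally Noetherian and D an effective Cartier divisor. At a point ξ of D that is maximal in
D under generisation (a generic point of a component of D), the local ring of X has dimension
exactly one. -/
theorem result (X : Scheme.{u}) [IsLocallyNoetherian X]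
    (D : X.IdealSheafData) (hD : BlowUp.IsEffCartierIdeal D) (ξ : X)
    (hξ : ξ ∈ (D.support : Set X)) (hgen : ∀ y ∈ (D.support : Set X), y ⤳ ξ → y = ξ) :
    ringKrullDim (X.presheaf.stalk ξ) = 1 := by
  obtain ⟨Uo, hxU, f, hreg, hf⟩ := hD ξ
  haveI := QCohLib.isNoetherianRing_section Uo.2
  letI : Algebra Γ(X, Uo.1) (X.presheaf.stalk ξ) := TopCat.Presheaf.algebra_section_stalk X.presheaf ⟨ξ, hxU⟩
  haveI := Uo.2.isLocalization_stalk ⟨ξ, hxU⟩
  have hmem : ∀ (y : X) (hy : y ∈ Uo.1), y ∈ (D.support : Set X) ↔ f ∈ AssLib.pr Uo.2 hy := fun y hy => by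
    rw [SetLike.mem_coe, Scheme.IdealSheafData.mem_support_iff_of_mem hy, hf, Scheme.zeroLocus_span]
    simp only [Scheme.mem_zeroLocus_iff, Set.mem_singleton_iff, forall_eq]
    exact (PullbackMod.primeCompl_primeIdealOf Uo.2 y hy f).not.symm.trans not_not
  have hmin : AssLib.pr Uo.2 hxU ∈ (Ideal.span {f}).minimalPrimes := by
    refine ⟨⟨inferInstance, (Ideal.span_singleton_le_iff_mem _).mpr ((hmem ξ hxU).mp hξ)⟩, fun q hq hle => ?_⟩
    haveI := hq.1
    let Q : PrimeSpectrum Γ(X, Uo.1) := ⟨q, inferInstance⟩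
    have hy := hgen _ ((hmem _ (AssLib.pt_mem Uo.2 Q)).mpr
      (by rw [AssLib.pr_pt]; exact (Ideal.span_singleton_le_iff_mem _).mp hq.2))
      ((AssLib.specializes_iff Uo.2 hxU (AssLib.pt_mem Uo.2 Q)).mpr (by rw [AssLib.pr_pt]; exact hle))
    change _ ≤ Q.asIdeal
    rw [← AssLib.pr_pt Uo.2 Q]
    simp only [hy, le_refl]
  rw [IsLocalization.AtPrime.ringKrullDim_eq_height (AssLib.pr Uo.2 hxU)]
  refine congrArg WithBot.some (le_antisymm (Ideal.height_le_one_of_isPrincipal_of_mem_minimalPrimes _ _ hmin) ?_)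
  rw [ENat.one_le_iff_ne_zero, Ne, Ideal.height_eq_zero_iff]
  exact fun h0 => Set.disjoint_left.mp (Ideal.disjoint_nonZeroDivisors_of_mem_minimalPrimes h0)
    ((hmem ξ hxU).mp hξ) hreg

end Groth.Agent.S1568
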