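import Groth.Statements.S15681
import Groth.Agent.VBLib.SlopeVanish
import Groth.Agent.VBLib.TwoSections
import Groth.Agent.S8914
-- import your own Groth.Agent.* helpers here

set_option autoImplicit false
universe u
open CategoryTheory CategoryTheory.Limits AlgebraicGeometry MonoidalCategory
open FreeSec

namespace Groth.Agent.S15681


set_option backward.isDefEq.respectTransparency false
set_option linter.style.haveILetI false
set_option maxHeartbeats 1000000

open Groth.Agent Groth.Agent.PullbackMod Groth.Agent.DevLib Groth.Agent.QCohLib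

/-- The rank at the generic point. -/
noncomputable def rankAt {X : Scheme.{u}} [IsIntegral X] (T : X.Modules) : ℕ :=
  Module.finrank (X.presheaf.stalk (genericPoint X)) (T.presheaf.stalk (genericPoint X))

theorem rankAt_eq {X : Scheme.{u}} [IsIntegral X] (T : X.Modules) [Coh.IsQCoh T] {U : X.Opens} {n : ℕ}
    (i : T.restrict U.ι ≅ FlatMod.freeMod (↑U) n) (h : genericPoint X ∈ U) : rankAt T = n := by
  obtain ⟨e⟩ := freeAt_of_restrict_iso T i h
  rw [rankAt, e.finrank_eq, Module.finrank_fin_fun]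

section
attribute [local irreducible] Groth.Agent.VBLib.dg Groth.Agent.VBLib.grk

variable (k : Type u) [Field k] [IsAlgClosed k] {X : Scheme.{u}} [X.Over (Spec (CommRingCat.of k))]
  [IsProper (X ↘ Spec (CommRingCat.of k))] [IsIntegral X] [IsNoetherian X] [VBLib.IsRegCurve X]
  (hdim : topologicalKrullDim X = 1)

omit [IsAlgClosed k] [IsProper (X ↘ Spec (CommRingCat.of k))] [IsIntegral X] [AlgebraicGeometry.IsNoetherian X] [VBLib.IsRegCurve X] in
theorem ses_ideal (J : X.IdealSheafData) :
    (ShortComplex.mk (ClSub.idealModι J) (ClSub.toSubscheme J) (kernel.condition _)).ShortExact := by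
  haveI : Epi (ClSub.toSubscheme J) := Groth.Agent.SerreAff.epi_unitToPush J.subschemeι
  haveI : Mono (ClSub.idealModι J) := inferInstanceAs (Mono (kernel.ι _))
  exact { exact := ShortComplex.exact_of_f_is_kernel _ (kernelIsKernel (ClSub.toSubscheme J)) }

include k in
/-- The quotient of an effective divisor. -/
theorem divisor_facts (hdim : topologicalKrullDim X = 1) {J : X.IdealSheafData} (hJ : BlowUp.IsEffCartierIdeal J) :
    PicF.IsInvertible (ClSub.idealMod J) ∧ Coh.IsCoh (ClSub.quotMod J) ∧ VBLib.grk (ClSub.quotMod J) = 0 ∧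
      Curv2.deg k X (ClSub.idealMod J) 1 = -(Module.finrank k (Coh.HH X (ClSub.quotMod J) 0) : ℤ) := by
  have hi : PicF.IsInvertible (ClSub.idealMod J) := (Groth.Agent.S8914.result J).2 hJ
  have hr := CurveLib.isFinLocFreeOfRank_one hi
  have hQ : Coh.IsCoh (ClSub.quotMod J) := IntLib.isCoh_quotMod J
  have hS := ses_ideal J
  have hg : VBLib.grk (Coh.structureModule X) = VBLib.grk (ClSub.idealMod J) + VBLib.grk (ClSub.quotMod J) :=
    VBLib.grk_add hS (CurveLib.isCoh_of_isInvertible hi) hQ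
  rw [(VBLib.dg_structureModule k (X := X)).1, VBLib.grk_of_rank hr] at hg
  have hg0 : VBLib.grk (ClSub.quotMod J) = 0 := by omega
  have hd : VBLib.dg k (Coh.structureModule X) = VBLib.dg k (ClSub.idealMod J) + VBLib.dg k (ClSub.quotMod J) :=
    VBLib.dg_add k hS (CurveLib.isCoh_of_isInvertible hi) (isCoh_structureModule X) hQ
  rw [(VBLib.dg_structureModule k (X := X)).2, VBLib.dg_eq k hr,
    (VBLib.dg_eq_finrank k hdim.le hQ hg0).1] at hd
  exact ⟨hi, hQ, hg0, by omega⟩

include k hdim in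
/-- An invertible sheaf has at most one more section than its degree. -/
theorem h0_line_le {L : X.Modules} (hL : PicF.IsInvertible L) :
    Module.finrank k (Coh.HH X L 0) ≤ (Curv2.deg k X L 1 + 1).toNat := by
  have hr := CurveLib.isFinLocFreeOfRank_one hL
  have hc := CurveLib.isCoh_of_isInvertible hL
  have hss : VBLib.SlopeLE k L (VBLib.dg k L) ((1 : ℕ) : ℤ) := fun G i hi hG hpos => by
    haveI := hi
    obtain ⟨-, h1, -⟩ := VBLib.coker_add k i hG hc
    rw [VBLib.grk_of_rank hr] at h1
    have hg : VBLib.grk G = 1 := by omega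
    have h := (VBLib.dg_le_of_mono k hdim.le i hG hc (by rw [hg, VBLib.grk_of_rank hr])).1
    rw [hg]
    simpa using h
  have h := VBLib.finrank_H0_le k hdim Nat.one_pos (Curv2.deg k X L 1 + 1).toNat L hr hss (by
    rw [VBLib.dg_eq k hr]
    have := Int.self_le_toNat (Curv2.deg k X L 1 + 1)
    push_cast
    omega)
  simpa using h

omit [IsAlgClosed k] [VBLib.IsRegCurve X] [X.Over (Spec (CommRingCat.of k))] [IsProper (X ↘ Spec (CommRingCat.of k))] [Field k] in
theorem grk_tmod_zero {T Q : X.Modules} (hT : Coh.IsCoh T) (hQ : Coh.IsCoh Q) (hQ0 : VBLib.grk Q = 0) :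
    VBLib.grk (DCohLib.tmod T Q) = 0 := by
  refine (VBLib.grk_eq_zero_iff (CurveLib.isCoh_tmod hT hQ)).2 fun hx => ?_
  haveI : Subsingleton (Q.presheaf.stalk (genericPoint X)) := not_not.1 ((VBLib.grk_eq_zero_iff hQ).1 hQ0)
  exact hx ((DCohLib.stalkTensor (genericPoint X) T Q).toEquiv.symm.subsingleton)

include k hdim in
/-- Surjectivity of restriction passes to quotients. -/
theorem surjective_image {T L Q : X.Modules} (hT : Coh.IsCoh T) (hL : Coh.IsCoh L) (hQ : Coh.IsCoh Q)
    (hQ0 : VBLib.grk Q = 0) (p : T ⟶ L) [Epi p] {q : Coh.structureModule X ⟶ Q}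
    (hsurj : Function.Surjective (CurveLib.hMap (k := k) ((VBLib.tensL T).map q) 0)) :
    Function.Surjective (CurveLib.hMap (k := k) ((VBLib.tensL L).map q) 0) := by
  have hπe : Epi ((CurveLib.tensR Q).map p) := inferInstance
  have hTQ : Coh.IsCoh (CohB1.tensorMod T Q) := CurveLib.isCoh_tmod hT hQ
  have hLQ : Coh.IsCoh (CohB1.tensorMod L Q) := CurveLib.isCoh_tmod hL hQ
  have hTQ0 : VBLib.grk (CohB1.tensorMod T Q) = 0 := grk_tmod_zero hT hQ hQ0
  obtain ⟨π, hπe, hπdef⟩ : ∃ (π : CohB1.tensorMod T Q ⟶ CohB1.tensorMod L Q) (_ : Epi π), π = (CurveLib.tensR Q).map p :=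
    ⟨(CurveLib.tensR Q).map p, hπe, rfl⟩
  haveI := hπe
  obtain ⟨hK, hKg, -⟩ := VBLib.kernel_add k π hTQ hLQ
  have hK0 : VBLib.grk (kernel π) = 0 := by omega
  obtain ⟨-, hKd⟩ := VBLib.dg_eq_finrank k hdim.le hK hK0
  haveI hK1 : Subsingleton (Coh.HH X (kernel π) 1) :=
    CurveLib.subsingleton_HH_of_support (kernel π) (DevLib.isClosed_support hK) subset_rfl (d := 0) hKd Nat.one_pos
  have hW : (ShortComplex.mk (kernel.ι π) π (kernel.condition π)).ShortExact :=
    { exact := ShortComplex.exact_of_f_is_kernel _ (kernelIsKernel π) }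
  have hπ : Function.Surjective (CurveLib.hMap (k := k) π 0) := fun z => by
    have hz : z ∈ LinearMap.ker (CurveLib.hδ (k := k) hW 0) := LinearMap.mem_ker.2 (Subsingleton.elim _ _)
    exact (CurveLib.range_hMap_g (k := k) hW 0).ge hz
  have hsq : (VBLib.tensL T).map q ≫ π =
      (CurveLib.tensR (Coh.structureModule X)).map p ≫ (VBLib.tensL L).map q :=
    by rw [hπdef]; exact ((DCoh.tensorBi (X := X)).map p).naturality q
  intro z
  obtain ⟨y, rfl⟩ := hπ z
  obtain ⟨x, rfl⟩ := hsurj y
  refine ⟨CurveLib.hMap (k := k) ((CurveLib.tensR (Coh.structureModule X)).map p) 0 x, ?_⟩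
  refine (VBLib.Dual.hMap_comp k _ _ 0 x).symm.trans ?_
  exact ((congrArg (fun f => CurveLib.hMap (k := k) f 0 x) hsq).symm).trans (VBLib.Dual.hMap_comp k _ π 0 x)

include k hdim in
/-- Vanishing from surjectivity of restriction to a large divisor. -/
theorem main {T : X.Modules} (hT : FlatMod.IsFinLocFree T) {D E : X.IdealSheafData}
    (hD : BlowUp.IsEffCartierIdeal D) (hE : BlowUp.IsEffCartierIdeal E)
    (hD1 : 1 ≤ Module.finrank k (Coh.HH X (ClSub.quotMod D) 0))
    (hsurj : Function.Surjective (CurveLib.hMap (k := k) ((VBLib.tensL T).map (ClSub.toSubscheme D)) 0))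
    (hdeg : Module.finrank k (Coh.HH X (ClSub.quotMod E) 0) + 2 * Curv2.genus k X =
      Module.finrank k (Coh.HH X (ClSub.quotMod D) 0)) :
    Subsingleton (Coh.HH X (CohB1.tensorMod T (ClSub.idealMod E)) 1) := by
  obtain ⟨hPi, -, -, hPd⟩ := divisor_facts k hdim hE
  obtain ⟨hJi, hQ, hQ0, hJd⟩ := divisor_facts k hdim hD
  -- the rank
  haveI := (CurveLib.isCoh_of_isFinLocFree hT).1
  obtain ⟨r, hTr⟩ : ∃ r, FlatMod.IsFinLocFreeOfRank r T := ⟨rankAt T, fun x => by
    obtain ⟨U, n, hx, ⟨i⟩⟩ := hT x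
    have e : rankAt T = n := rankAt_eq T i ((genericPoint_specializes x).mem_open U.2 hx)
    exact ⟨U, hx, ⟨e ▸ i⟩⟩⟩
  have hTc := VBLib.isCoh_of_rank hTr
  by_contra h
  have hTP := VBLib.isFinLocFreeOfRank_twist hTr hPi
  obtain ⟨φ, hφ⟩ := VBLib.Dual.exists_hom_ne_zero k hdim hTP h
  obtain ⟨N, hN, ⟨η⟩⟩ := AmpleEmb.exists_isInverseOf hPi
  -- untwist
  let P := ClSub.idealMod E
  let Ω := CurveFF.om k X
  have hΩ := CurveFF.omega_invertible k (X := X) hdim
  let M := CohB1.tensorMod Ω N
  have hM : PicF.IsInvertible M := AmpleLib.isInvertible_tensor hΩ hN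
  have hMr := CurveLib.isFinLocFreeOfRank_one hM
  haveI := VBLib.isEquivalence_tensR (AmpleLib.comm N P ≪≫ η)
  let ψ : T ⟶ M := ((VBLib.untwist η).app T).inv ≫ (CurveLib.tensR N).map φ
  have hψ : ψ ≠ 0 := fun h0 => hφ ((CurveLib.tensR N).map_injective (by
    rw [Functor.map_zero, ← cancel_epi ((VBLib.untwist η).app T).inv, comp_zero]
    exact h0))
  obtain ⟨L, p, b, hb, hp, hab, hL, -, -, -⟩ := VBLib.exists_image k ψ hTc (CurveLib.isCoh_of_isInvertible hM)
  haveI := hb
  haveI := hp
  have hL0 : VBLib.grk L ≠ 0 := fun h0 => hψ (by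
    rw [← hab, (VBLib.isZero_of_mono b hL hMr h0).eq_of_tgt p 0, zero_comp])
  obtain ⟨-, hLg, -⟩ := VBLib.coker_add k b hL (CurveLib.isCoh_of_isInvertible hM)
  rw [VBLib.grk_of_rank hMr] at hLg
  have hL1 : VBLib.grk L = 1 := by omega
  have hLr := VBLib.rank_of_mono b hL hMr
  rw [hL1] at hLr
  have hLi := VBLib.isInvertible_of_rank hLr
  -- its degree
  have hNd : Curv2.deg k X N 1 = -Curv2.deg k X P 1 := by
    have h1 : Curv2.deg k X (CohB1.tensorMod P N) 1 = Curv2.deg k X P 1 + (1 : ℕ) * Curv2.deg k X N 1 :=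
      CurveLib.deg_tensor_invertible (k := k) hdim.le (CurveLib.isFinLocFreeOfRank_one hPi) hN
    rw [CurveLib.deg_iso (k := k) η 1, CurveLib.deg_structureModule] at h1
    push_cast at h1
    linarith
  have hMd : Curv2.deg k X M 1 = 2 * (Curv2.genus k X : ℤ) - 2 + Module.finrank k (Coh.HH X (ClSub.quotMod E) 0) := by
    have h1 : Curv2.deg k X M 1 = Curv2.deg k X Ω 1 + (1 : ℕ) * Curv2.deg k X N 1 :=
      CurveLib.deg_tensor_invertible (k := k) hdim.le (CurveLib.isFinLocFreeOfRank_one hΩ) hN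
    rw [CurveFF.omega_deg k hdim, hNd, hPd] at h1
    push_cast at h1
    linarith
  have hLd := (VBLib.dg_le_of_mono k hdim.le b hL (CurveLib.isCoh_of_isInvertible hM)
    (by rw [hL1, VBLib.grk_of_rank hMr])).1
  rw [VBLib.dg_eq k hLr, VBLib.dg_eq k hMr, hMd] at hLd
  -- the restriction to the divisor
  let Q := ClSub.quotMod D
  let O := Coh.structureModule X
  let q : O ⟶ Q := ClSub.toSubscheme D
  let G : ShortComplex X.Modules :=
    (ShortComplex.mk (ClSub.idealModι D) (ClSub.toSubscheme D) (kernel.condition _)).map (VBLib.tensL L)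
  have hG : G.ShortExact := VBLib.shortExact_tensL (ses_ideal D) hLr
  have hG1 : Coh.IsCoh G.X₁ := CurveLib.isCoh_tmod hL (CurveLib.isCoh_of_isInvertible hJi)
  have hG2 : Coh.IsCoh G.X₂ := CurveLib.isCoh_tmod hL (isCoh_structureModule X)
  have hG3 : Coh.IsCoh G.X₃ := CurveLib.isCoh_tmod hL hQ
  let eG : G.X₂ ≅ L := (VBLib.unitR (X := X)).app L
  have h1r : FlatMod.IsFinLocFreeOfRank 1 G.X₁ := CurveLib.isFinLocFreeOfRank_one (AmpleLib.isInvertible_tensor hLi hJi)
  have hg3 : VBLib.grk G.X₃ = 0 := by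
    have h1 := VBLib.grk_add hG hG1 hG3
    rw [VBLib.grk_iso eG, hL1, VBLib.grk_of_rank h1r] at h1
    omega
  have hdim3 : (Module.finrank k (Coh.HH X G.X₃ 0) : ℤ) = Module.finrank k (Coh.HH X Q 0) := by
    have h1 := VBLib.dg_add k hG hG1 hG2 hG3
    rw [VBLib.dg_iso k eG, VBLib.dg_eq k hLr, VBLib.dg_eq k h1r, (VBLib.dg_eq_finrank k hdim.le hG3 hg3).1] at h1
    have h2 : Curv2.deg k X G.X₁ 1 = Curv2.deg k X L 1 + 1 * Curv2.deg k X (ClSub.idealMod D) 1 :=
      CurveLib.deg_tensor_invertible (k := k) hdim.le hLr hJi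
    rw [h2, hJd] at h1
    linarith
  have hLsurj : Function.Surjective (CurveLib.hMap (k := k) G.g 0) :=
    surjective_image k hdim hTc hL hQ hQ0 p hsurj
  haveI := EulerIneqLib.finite_HH (k := k) hG2 0
  haveI := EulerIneqLib.finite_HH (k := k) hG3 0
  have hle := LinearMap.finrank_le_finrank_of_injective (f := (CurveLib.hMap (k := k) G.g 0).dualMap)
    (LinearMap.dualMap_injective_of_surjective hLsurj)
  rw [Subspace.dual_finrank_eq, Subspace.dual_finrank_eq] at hle
  have hiso : Module.finrank k (Coh.HH X G.X₂ 0) = Module.finrank k (Coh.HH X L 0) := LinearEquiv.finrank_eq (LinearEquiv.ofBijective _ (CurveLib.hMap_bijective_iso (k := k) eG 0))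
  have hL0' := h0_line_le k hdim hLi
  have hD1' : 1 ≤ Module.finrank k (Coh.HH X Q 0) := hD1
  have hdeg' : Module.finrank k (Coh.HH X (ClSub.quotMod E) 0) + 2 * Curv2.genus k X =
      Module.finrank k (Coh.HH X Q 0) := hdeg
  omega

end

/-- Let X be a smooth proper integral curve of genus g over an algebraically closed field k, T a finite
locally free O_X-module and D an effective Cartier divisor on X of degree m = dim_k H^0(X, O_D),
with m ≥ 1 and m ≥ 2g. If the restriction map H^0(X, T) → H^0(X, T ⊗ O_D) (written on T ⊗ O_X ≅ T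
and induced by O_X → O_D) is surjective, then H^1(X, T ⊗ I_E) = 0 for every effective Cartier
divisor E on X of degree m - 2g, I_E its ideal sheaf. (The published statement is phrased for a
family of sections of a fibration over the curve, parametrised by a base scheme, with T the
pull-back of the relative tangent sheaf along the section; this row is the case of a single section
over an algebraically closed field, to which that statement reduces, with T any finite locally free
module, which is all the argument uses.) -/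
theorem result (k : Type u) [Field k] [IsAlgClosed k]
    (X : Scheme.{u}) [X.Over (Spec (CommRingCat.of k))]
    (hX : Curve.IsSmoothProperCurve k X (X ↘ (Spec (CommRingCat.of k))))
    (T : X.Modules) (hT : FlatMod.IsFinLocFree T)
    (D : X.IdealSheafData) (hD : BlowUp.IsEffCartierIdeal D)
    (hD1 : 1 ≤ Module.finrank k (Coh.HH X (ClSub.quotMod D) 0))
    (hDg : 2 * Curv2.genus k X ≤ Module.finrank k (Coh.HH X (ClSub.quotMod D) 0))
    (hsurj : Function.Surjective (Sheaf.H.map ((SheafOfModules.toSheaf X.ringCatSheaf).map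
      ((CohB1.sheafifyMod X).map (CohB1.toPMod T ◁ (ClSub.toSubscheme D).val) :
        CohB1.tensorMod T (Coh.structureModule X) ⟶ CohB1.tensorMod T (ClSub.quotMod D))) 0))
    (E : X.IdealSheafData) (hE : BlowUp.IsEffCartierIdeal E)
    (hdegE : Module.finrank k (Coh.HH X (ClSub.quotMod E) 0) + 2 * Curv2.genus k X =
      Module.finrank k (Coh.HH X (ClSub.quotMod D) 0)) :
    Subsingleton (Coh.HH X (CohB1.tensorMod T (ClSub.idealMod E)) 1) := by
  obtain ⟨hp, hs, hi, hdim⟩ := hX
  haveI := hp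
  haveI := hs
  haveI := hi
  haveI := Groth.Agent.EulerIneqLib.isNoetherian_proper (X := X) k
  haveI := Groth.Agent.VBLib.isRegCurve_of_smooth k (X := X) hdim.le
  exact main k hdim hT hD hE hD1 hsurj hdegE

end Groth.Agent.S15681
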