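import Groth.Statements.S15695
-- import your own Groth.Agent.* helpers here

set_option autoImplicit false
set_option backward.isDefEq.respectTransparency false
set_option maxHeartbeats 1000000
set_option linter.style.haveILetI false
universe u
open CategoryTheory AlgebraicGeometry
open RatVar

namespace Groth.Agent.S15695

open MvPolynomial TopologicalSpace

/-- A local scheme maps into every open containing the image of its closed point. -/
theorem range_subset_of_closedPoint {A : Type u} [CommRing A] [IsLocalRing A] {X : Scheme.{u}}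
    (g : Spec (CommRingCat.of A) ⟶ X) (U : X.Opens) (h : g (IsLocalRing.closedPoint A) ∈ U) :
    Set.range g ⊆ (U : Set X) := by
  rintro _ ⟨z, rfl⟩
  exact ((IsLocalRing.specializes_closedPoint z).map g.continuous).mem_open U.2 h

/-- Open subschemes of affine space have the lifting property. -/
theorem lift_of_open_affineSpace {k : Type u} [Field k] {n : ℕ}
    (Y : (Spec (CommRingCat.of (MvPolynomial (Fin n) k))).Opens)
    {A : Type u} [CommRing A] [IsLocalRing A] [Algebra k A]
    (g : Spec (CommRingCat.of (IsLocalRing.ResidueField A)) ⟶ (Y : Scheme.{u}))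
    (hg : g ≫ Y.ι ≫ Spec.map (CommRingCat.ofHom (algebraMap k (MvPolynomial (Fin n) k))) =
      Spec.map (CommRingCat.ofHom ((IsLocalRing.residue A).comp (algebraMap k A)))) :
    ∃ g' : Spec (CommRingCat.of A) ⟶ (Y : Scheme.{u}),
      Spec.map (CommRingCat.ofHom (IsLocalRing.residue A)) ≫ g' = g ∧
      g' ≫ Y.ι ≫ Spec.map (CommRingCat.ofHom (algebraMap k (MvPolynomial (Fin n) k))) =
        Spec.map (CommRingCat.ofHom (algebraMap k A)) := by
  let φ := (Spec.preimage (g ≫ Y.ι)).hom
  have hφ : CommRingCat.ofHom (algebraMap k (MvPolynomial (Fin n) k)) ≫ Spec.preimage (g ≫ Y.ι) =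
      CommRingCat.ofHom ((IsLocalRing.residue A).comp (algebraMap k A)) :=
    Spec.map_injective (by rw [Spec.map_comp, Spec.map_preimage, Category.assoc, hg])
  choose a ha using fun i => Ideal.Quotient.mk_surjective (φ (X i))
  let ψ : MvPolynomial (Fin n) k →ₐ[k] A := aeval a
  have hψ : CommRingCat.ofHom ψ.toRingHom ≫ CommRingCat.ofHom (IsLocalRing.residue A) = Spec.preimage (g ≫ Y.ι) := by
    refine CommRingCat.hom_ext (MvPolynomial.ringHom_ext (fun r => ?_) fun i => ?_)
    · show IsLocalRing.residue A (ψ (C r)) = _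
      rw [aeval_C]
      exact (RingHom.congr_fun (congrArg CommRingCat.Hom.hom hφ) r).symm
    · show IsLocalRing.residue A (ψ (X i)) = _
      rw [aeval_X]
      exact ha i
  let ρ := Spec.map (CommRingCat.ofHom (IsLocalRing.residue A))
  have hρ : ρ ≫ Spec.map (CommRingCat.ofHom ψ.toRingHom) = g ≫ Y.ι := by
    rw [← Spec.map_comp, hψ, Spec.map_preimage]
  have hmem : Spec.map (CommRingCat.ofHom ψ.toRingHom) (IsLocalRing.closedPoint A) ∈ Y := by
    have h1 : ρ ⟨⊥, inferInstance⟩ = IsLocalRing.closedPoint A :=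
      PrimeSpectrum.ext (Ideal.mk_ker (I := IsLocalRing.maximalIdeal A))
    rw [← h1, ← Scheme.Hom.comp_apply, hρ, Scheme.Hom.comp_apply]
    exact (g _).2
  refine ⟨IsOpenImmersion.lift Y.ι (Spec.map (CommRingCat.ofHom ψ.toRingHom))
    (by rw [Scheme.Opens.range_ι]; exact range_subset_of_closedPoint _ Y hmem), ?_, ?_⟩
  · rw [← cancel_mono Y.ι, Category.assoc, IsOpenImmersion.lift_fac, hρ]
  · rw [IsOpenImmersion.lift_fac_assoc, ← Spec.map_comp]
    exact congrArg Spec.map (CommRingCat.hom_ext ψ.comp_algebraMap)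

/-- From the lifting property of the generic point to a retraction from a basic open of affine space. -/
theorem exists_section {k B : Type u} [Field k] [CommRing B] [IsDomain B] [Algebra k B] {n : ℕ}
    (π : MvPolynomial (Fin n) k →ₐ[k] B) (hπ : Function.Surjective π) [(RingHom.ker π).IsPrime]
    (ψ : B →ₐ[k] Localization.AtPrime (RingHom.ker π))
    (hψ : ∀ x, IsLocalRing.residue _ (ψ (π x)) = IsLocalRing.residue _ (algebraMap _ _ x)) :
    ∃ (h : MvPolynomial (Fin n) k) (β : B →ₐ[k] Localization.Away h)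
      (α : Localization.Away h →ₐ[k] Localization.Away (π h)),
      π h ≠ 0 ∧ ∀ x, α (β x) = algebraMap B (Localization.Away (π h)) x := by
  classical
  let P := MvPolynomial (Fin n) k
  let A := Localization.AtPrime (RingHom.ker π)
  choose ps ps' hps using fun i => IsLocalization.exists_mk'_eq (RingHom.ker π).primeCompl (ψ (π (X i)))
  let h : P := ∏ i, (ps' i : P)
  have hh : π h ≠ 0 := by
    rw [map_prod]
    exact Finset.prod_ne_zero_iff.2 fun i _ hi => (ps' i).2 hi
  have hh0 : h ≠ 0 := fun h0 => hh (by rw [h0, map_zero])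
  have hu : ∀ y : Submonoid.powers h, IsUnit (algebraMap P A y) := by
    rintro ⟨_, m, rfl⟩
    exact IsLocalization.map_units A (⟨h ^ m, fun hm => hh (pow_eq_zero_iff'.1 ((map_pow π h m).symm.trans hm)).1⟩ :
      (RingHom.ker π).primeCompl)
  let κA : Localization.Away h →ₐ[k] A :=
    IsLocalization.liftAlgHom (M := Submonoid.powers h) (f := IsScalarTower.toAlgHom k P A) hu
  have hκA : ∀ x, κA (algebraMap P _ x) = algebraMap P A x := IsLocalization.lift_eq hu
  have hinj : Function.Injective κA := by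
    refine (IsLocalization.lift_injective_iff hu).2 fun x y => ?_
    rw [(IsLocalization.injective (Localization.Away h) (powers_le_nonZeroDivisors_of_noZeroDivisors hh0)).eq_iff]
    exact (IsLocalization.injective A (Ideal.primeCompl_le_nonZeroDivisors (RingHom.ker π))).eq_iff.symm
  let c : Fin n → Localization.Away h := fun i =>
    IsLocalization.mk' _ (ps i * ∏ l ∈ Finset.univ.erase i, (ps' l : P))
      (⟨h, Submonoid.mem_powers h⟩ : Submonoid.powers h)
  have hc : ∀ i, κA (c i) = ψ (π (X i)) := by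
    intro i
    rw [← hps i, IsLocalization.eq_mk'_iff_mul_eq]
    have h1 : c i * algebraMap P _ h = algebraMap P _ (ps i * ∏ l ∈ Finset.univ.erase i, (ps' l : P)) :=
      IsLocalization.mk'_spec _ _ _
    have h2 := congrArg κA h1
    have h' : algebraMap P A h = algebraMap P A (ps' i) * algebraMap P A (∏ l ∈ Finset.univ.erase i, (ps' l : P)) := by
      rw [← map_mul]
      exact congrArg _ (Finset.mul_prod_erase _ (fun l => (ps' l : P)) (Finset.mem_univ i)).symm
    rw [map_mul, hκA, hκA, h', map_mul, ← mul_assoc] at h2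
    refine (IsUnit.mul_left_injective ?_) h2
    rw [map_prod]
    exact Finset.prod_induction _ IsUnit (fun _ _ => IsUnit.mul) isUnit_one fun l _ =>
      IsLocalization.map_units A (ps' l)
  let β₀ : P →ₐ[k] Localization.Away h := aeval c
  have hβ₀ : κA.comp β₀ = ψ.comp π := MvPolynomial.algHom_ext fun i => by
    show κA (β₀ (X i)) = ψ (π (X i))
    rw [show β₀ (X i) = c i from aeval_X c i]
    exact hc i
  have hker : RingHom.ker π ≤ RingHom.ker β₀ := fun x hx => hinj (by
    rw [map_zero, ← AlgHom.comp_apply, hβ₀, AlgHom.comp_apply, RingHom.mem_ker.1 hx, map_zero])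
  let β : B →ₐ[k] Localization.Away h :=
    (Ideal.Quotient.liftₐ _ β₀ hker).comp (Ideal.quotientKerAlgEquivOfSurjective hπ).symm.toAlgHom
  have hβ : ∀ x, β (π x) = β₀ x := fun x => by
    show Ideal.Quotient.liftₐ _ β₀ hker ((Ideal.quotientKerAlgEquivOfSurjective hπ).symm (π x)) = _
    rw [show (Ideal.quotientKerAlgEquivOfSurjective hπ).symm (π x) = Ideal.Quotient.mk _ x from
      (AlgEquiv.symm_apply_eq _).2 rfl]
    rfl
  have hu' : ∀ y : Submonoid.powers h, IsUnit ((IsScalarTower.toAlgHom k B (Localization.Away (π h))).comp π y) := by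
    rintro ⟨_, m, rfl⟩
    simpa using (IsLocalization.Away.algebraMap_isUnit (π h)).pow m
  let α : Localization.Away h →ₐ[k] Localization.Away (π h) :=
    IsLocalization.liftAlgHom (M := Submonoid.powers h) (f := (IsScalarTower.toAlgHom k B _).comp π) hu'
  have hα : ∀ x, α (algebraMap P _ x) = algebraMap B _ (π x) := IsLocalization.lift_eq hu'
  refine ⟨h, β, α, hh, fun x => ?_⟩
  obtain ⟨x, rfl⟩ := hπ x
  rw [hβ]
  obtain ⟨⟨p, s⟩, hp⟩ := IsLocalization.surj (Submonoid.powers h) (β₀ x)
  simp only at hp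
  -- it is enough to compare residues
  have h1 : IsLocalRing.residue A (κA (β₀ x)) = IsLocalRing.residue A (algebraMap P A x) := by
    rw [← AlgHom.comp_apply, hβ₀]; exact hψ x
  have h2 : p - x * s ∈ RingHom.ker π := by
    rw [← IsLocalization.AtPrime.to_map_mem_maximal_iff A (RingHom.ker π), ← IsLocalRing.residue_eq_zero_iff,
      map_sub, map_mul, map_sub, map_mul, ← h1, ← hκA p, ← hp, map_mul, hκA, map_mul, sub_self]
  rw [RingHom.mem_ker, map_sub, map_mul, sub_eq_zero] at h2
  have h3 := congrArg α hp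
  rw [map_mul, hα, hα, h2, map_mul] at h3
  refine IsUnit.mul_left_injective ?_ h3
  exact hu' s

/-- Let X be an integral scheme of finite type over a field k. The following are equivalent. (i) There
are a non-empty open subscheme U of X, an open subscheme Y of an affine space Spec k[x_1, ..., x_n]
and k-morphisms U → Y → U whose composite is the identity of U. (ii) There is a non-empty open
subscheme V of X such that for every local k-algebra A with residue field κ, every k-morphism Spec κ
→ V lifts along Spec κ → Spec A to a k-morphism Spec A → V. (Local k-algebras are taken in the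
universe of k.) -/
theorem result (k : Type u) [Field k] (X : Scheme.{u})
    (f : X ⟶ Spec (CommRingCat.of k)) [IsIntegral X] [LocallyOfFiniteType f] [QuasiCompact f] :
    (∃ (U : X.Opens) (n : ℕ) (Y : (Spec (CommRingCat.of (MvPolynomial (Fin n) k))).Opens)
        (a : (U : Scheme.{u}) ⟶ (Y : Scheme.{u})) (b : (Y : Scheme.{u}) ⟶ (U : Scheme.{u})),
        (U : Set X).Nonempty ∧ a ≫ b = 𝟙 (U : Scheme.{u}) ∧
        a ≫ Y.ι ≫ Spec.map (CommRingCat.ofHom (algebraMap k (MvPolynomial (Fin n) k))) = U.ι ≫ f ∧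
        b ≫ U.ι ≫ f = Y.ι ≫ Spec.map (CommRingCat.ofHom (algebraMap k (MvPolynomial (Fin n) k)))) ↔
    (∃ V : X.Opens, (V : Set X).Nonempty ∧
      ∀ (A : Type u) [CommRing A] [IsLocalRing A] [Algebra k A]
        (g : Spec (CommRingCat.of (IsLocalRing.ResidueField A)) ⟶ (V : Scheme.{u})),
        g ≫ V.ι ≫ f = Spec.map (CommRingCat.ofHom ((IsLocalRing.residue A).comp (algebraMap k A))) →
        ∃ g' : Spec (CommRingCat.of A) ⟶ (V : Scheme.{u}),
          Spec.map (CommRingCat.ofHom (IsLocalRing.residue A)) ≫ g' = g ∧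
          g' ≫ V.ι ≫ f = Spec.map (CommRingCat.ofHom (algebraMap k A))) := by
  constructor
  · rintro ⟨U, n, Y, a, b, hU, hab, ha, hb⟩
    refine ⟨U, hU, fun A _ _ _ g hg => ?_⟩
    obtain ⟨g', h1, h2⟩ := lift_of_open_affineSpace Y (g ≫ a) (by rw [Category.assoc, ha, hg])
    exact ⟨g' ≫ b, by rw [reassoc_of% h1, hab, Category.comp_id], by rw [Category.assoc, hb, h2]⟩
  · rintro ⟨V, ⟨x, hxV⟩, hlift⟩
    haveI : Nonempty (V : Scheme.{u}) := ⟨⟨x, hxV⟩⟩
    obtain ⟨_, ⟨D, hD, rfl⟩, hxD, -⟩ := (V : Scheme.{u}).isBasis_affineOpens.exists_subset_of_mem_open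
      (Set.mem_univ (⟨x, hxV⟩ : (V : Scheme.{u}))) isOpen_univ
    let B := Γ((V : Scheme.{u}), D)
    let j : Spec B ⟶ (V : Scheme.{u}) := hD.fromSpec
    haveI : Nonempty (Spec B) := ⟨hD.primeIdealOf ⟨_, hxD⟩⟩
    haveI : IsIntegral (Spec B) := isIntegral_of_isOpenImmersion (j ≫ V.ι)
    haveI : IsDomain B := (affine_isIntegral_iff B).1 inferInstance
    let φ := Spec.preimage (j ≫ V.ι ≫ f)
    letI : Algebra k B := φ.hom.toAlgebra
    have hφ : Spec.map (CommRingCat.ofHom (algebraMap k B)) = j ≫ V.ι ≫ f := Spec.map_preimage _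
    haveI : Algebra.FiniteType k B := RingHom.finiteType_algebraMap.1
      ((HasRingHomProperty.Spec_iff (P := @LocallyOfFiniteType) (φ := CommRingCat.ofHom (algebraMap k B))).1 (by rw [hφ]; infer_instance))
    obtain ⟨n, π, hπ⟩ := Algebra.FiniteType.iff_quotient_mvPolynomial''.1 (inferInstance : Algebra.FiniteType k B)
    haveI : (RingHom.ker π).IsPrime := RingHom.ker_isPrime π
    let P := MvPolynomial (Fin n) k
    let A := Localization.AtPrime (RingHom.ker π)
    let r : P →ₐ[k] IsLocalRing.ResidueField A := IsScalarTower.toAlgHom k P _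
    have hr : RingHom.ker π ≤ RingHom.ker r := fun y hy => by
      show IsLocalRing.residue A (algebraMap P A y) = 0
      rw [IsLocalRing.residue_eq_zero_iff]
      exact (IsLocalization.AtPrime.to_map_mem_maximal_iff A (RingHom.ker π) y).2 hy
    let ιB : (B : Type u) →ₐ[k] IsLocalRing.ResidueField A :=
      (Ideal.Quotient.liftₐ _ r hr).comp (Ideal.quotientKerAlgEquivOfSurjective hπ).symm.toAlgHom
    have hιB : ∀ y, ιB (π y) = IsLocalRing.residue A (algebraMap P A y) := fun y => by
      show Ideal.Quotient.liftₐ _ r hr ((Ideal.quotientKerAlgEquivOfSurjective hπ).symm (π y)) = _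
      rw [show (Ideal.quotientKerAlgEquivOfSurjective hπ).symm (π y) = Ideal.Quotient.mk _ y from
        (AlgEquiv.symm_apply_eq _).2 rfl]
      rfl
    let g := Spec.map (CommRingCat.ofHom ιB.toRingHom) ≫ j
    obtain ⟨g', hg', hg'f⟩ := hlift A g (by
      simp only [g, Category.assoc]
      rw [← hφ, ← Spec.map_comp]
      exact congrArg Spec.map (CommRingCat.hom_ext ιB.comp_algebraMap))
    have hmem : g' (IsLocalRing.closedPoint A) ∈ j.opensRange := by
      have h1 : Spec.map (CommRingCat.ofHom (IsLocalRing.residue A)) ⟨⊥, inferInstance⟩ = IsLocalRing.closedPoint A :=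
        PrimeSpectrum.ext (Ideal.mk_ker (I := IsLocalRing.maximalIdeal A))
      rw [← h1, ← Scheme.Hom.comp_apply, hg']
      exact ⟨_, rfl⟩
    let g'' := IsOpenImmersion.lift j g' (range_subset_of_closedPoint g' _ hmem)
    let ψ₀ := Spec.preimage g''
    have hψk : CommRingCat.ofHom (algebraMap k B) ≫ ψ₀ = CommRingCat.ofHom (algebraMap k A) :=
      Spec.map_injective (by rw [Spec.map_comp, Spec.map_preimage, hφ, IsOpenImmersion.lift_fac_assoc, hg'f])
    let ψ : (B : Type u) →ₐ[k] A :=
      { ψ₀.hom with commutes' := fun y => RingHom.congr_fun (congrArg CommRingCat.Hom.hom hψk) y }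
    have hψr : ψ₀ ≫ CommRingCat.ofHom (IsLocalRing.residue A) = CommRingCat.ofHom ιB.toRingHom :=
      Spec.map_injective (by rw [Spec.map_comp, Spec.map_preimage, ← cancel_mono j, Category.assoc, IsOpenImmersion.lift_fac, hg'])
    obtain ⟨h, β, α, hh, hαβ⟩ := exists_section π hπ ψ fun y =>
      (RingHom.congr_fun (congrArg CommRingCat.Hom.hom hψr) (π y)).trans (hιB y)
    let lB := Spec.map (CommRingCat.ofHom (algebraMap B (Localization.Away (π h))))
    let lP := Spec.map (CommRingCat.ofHom (algebraMap P (Localization.Away h)))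
    let jX : Spec B ⟶ X := j ≫ V.ι
    let U : X.Opens := (lB ≫ jX).opensRange
    let eU : Spec (CommRingCat.of (Localization.Away (π h))) ≅ (U : Scheme.{u}) := (lB ≫ jX).isoOpensRange
    have heU : eU.hom ≫ U.ι = lB ≫ jX := Scheme.Hom.isoOpensRange_hom_ι _
    let b₀ := Spec.map (CommRingCat.ofHom β.toRingHom) ≫ jX
    have hab₀ : Spec.map (CommRingCat.ofHom α.toRingHom) ≫ b₀ = lB ≫ jX := by
      rw [← Category.assoc, ← Spec.map_comp]
      exact congrArg (· ≫ jX) (congrArg Spec.map (CommRingCat.hom_ext (RingHom.ext hαβ)))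
    let Y₁ := b₀ ⁻¹ᵁ U
    let a₁ : (U : Scheme.{u}) ⟶ Y₁ := eU.inv ≫ IsOpenImmersion.lift Y₁.ι (Spec.map (CommRingCat.ofHom α.toRingHom)) (by
      rw [Scheme.Opens.range_ι]
      rintro _ ⟨z, rfl⟩
      show b₀ (Spec.map (CommRingCat.ofHom α.toRingHom) z) ∈ U
      rw [← Scheme.Hom.comp_apply, hab₀]
      exact ⟨z, rfl⟩)
    let b₁ : (Y₁ : Scheme.{u}) ⟶ U := IsOpenImmersion.lift U.ι (Y₁.ι ≫ b₀) (by
      rw [Scheme.Opens.range_ι]; rintro _ ⟨z, rfl⟩; exact z.2)
    let jY := lP.isoImage Y₁
    haveI : Nonempty (Spec (CommRingCat.of (Localization.Away (π h)))) := by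
      haveI : Nontrivial (Localization.Away (π h)) :=
        (IsLocalization.injective (Localization.Away (π h)) (powers_le_nonZeroDivisors_of_noZeroDivisors hh)).nontrivial
      infer_instance
    have haU : U.ι ≫ f = eU.inv ≫ lB ≫ jX ≫ f := by rw [← reassoc_of% heU, Iso.inv_hom_id_assoc]
    have hβk : b₀ ≫ f = lP ≫ Spec.map (CommRingCat.ofHom (algebraMap k P)) := by
      simp only [b₀, jX, Category.assoc]
      rw [← hφ, ← Spec.map_comp, ← Spec.map_comp]
      exact congrArg Spec.map (CommRingCat.hom_ext (RingHom.ext fun y => (β.commutes y).trans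
        (IsScalarTower.algebraMap_apply k P (Localization.Away h) y)))
    have hαk : Spec.map (CommRingCat.ofHom α.toRingHom) ≫ b₀ ≫ f = lB ≫ jX ≫ f := by
      rw [reassoc_of% hab₀]
    refine ⟨U, n, lP ''ᵁ Y₁, a₁ ≫ jY.hom, jY.inv ≫ b₁, ⟨_, ⟨Classical.arbitrary _, rfl⟩⟩, ?_, ?_, ?_⟩
    · rw [Category.assoc, Iso.hom_inv_id_assoc, ← cancel_mono U.ι, Category.assoc, IsOpenImmersion.lift_fac,
        Category.assoc, IsOpenImmersion.lift_fac_assoc, hab₀, ← heU, Iso.inv_hom_id_assoc, Category.id_comp]
    · rw [Category.assoc, Scheme.Hom.isoImage_hom_ι_assoc, Category.assoc, IsOpenImmersion.lift_fac_assoc,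
        ← hβk, hαk, haU]
    · rw [Category.assoc, IsOpenImmersion.lift_fac_assoc, Category.assoc, hβk, Scheme.Hom.isoImage_inv_ι_assoc]

end Groth.Agent.S15695
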