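import Groth.Statements.S15697
import Groth.Agent.InvFldH7.Basic
-- import your own Groth.Agent.* helpers here

set_option autoImplicit false
set_option backward.isDefEq.respectTransparency false
universe u
open InvFld

namespace Groth.Agent.S15697

/-- Let k be a characteristic-zero field and suppose a finite group acts k-linearly on
finite-dimensional k-vector spaces V and W, faithfully on V. Then k(V ⊕ W)^G is purely
transcendental over k(V)^G, of transcendence degree dim W. Stated with V = k^n, W = k^m inside L =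
k(x_1, ..., x_n, y_1, ..., y_m): G is a finite group of k-algebra automorphisms of L sending each
x_i into the k-span of the x's and each y_j into the k-span of the y's, such that an element of G
fixing every x_i is trivial; F is the intersection of k(x_1, ..., x_n) with the fixed field of G;
then there are y'_1, ..., y'_m in L, algebraically independent over F, with F(y'_1, ..., y'_m) equal
to the fixed field of G. -/
theorem result (k : Type u) [Field k] [CharZero k] (n m : ℕ)
    (G : Subgroup (InvFld.Fld (Fin n ⊕ Fin m) k ≃ₐ[k] InvFld.Fld (Fin n ⊕ Fin m) k)) [Finite G]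
    (hx : ∀ σ ∈ G, ∀ i : Fin n, σ (InvFld.X (Sum.inl i)) ∈ Submodule.span k (Set.range fun j : Fin n => (InvFld.X (Sum.inl j) : InvFld.Fld (Fin n ⊕ Fin m) k)))
    (hy : ∀ σ ∈ G, ∀ i : Fin m, σ (InvFld.X (Sum.inr i)) ∈ Submodule.span k (Set.range fun j : Fin m => (InvFld.X (Sum.inr j) : InvFld.Fld (Fin n ⊕ Fin m) k)))
    (hfaith : ∀ σ ∈ G, (∀ i : Fin n, σ (InvFld.X (Sum.inl i)) = InvFld.X (Sum.inl i)) → σ = 1) :
    ∃ t : Fin m → InvFld.Fld (Fin n ⊕ Fin m) k,
      AlgebraicIndependent (↥(IntermediateField.adjoin k (Set.range fun j : Fin n => (InvFld.X (Sum.inl j) : InvFld.Fld (Fin n ⊕ Fin m) k)) ⊓ IntermediateField.fixedField G)) t ∧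
      IntermediateField.restrictScalars k (IntermediateField.adjoin (↥(IntermediateField.adjoin k (Set.range fun j : Fin n => (InvFld.X (Sum.inl j) : InvFld.Fld (Fin n ⊕ Fin m) k)) ⊓ IntermediateField.fixedField G)) (Set.range t)) =
        IntermediateField.fixedField G := by
  classical
  let L := InvFld.Fld (Fin n ⊕ Fin m) k
  let x : Fin n → L := fun i => InvFld.X (Sum.inl i)
  let y : Fin m → L := fun j => InvFld.X (Sum.inr j)
  let E := IntermediateField.adjoin k (Set.range x)
  have hall : AlgebraicIndependent k (InvFld.X : Fin n ⊕ Fin m → L) :=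
    (MvPolynomial.algebraicIndependent_X (Fin n ⊕ Fin m) k).map'
      (f := IsScalarTower.toAlgHom k (MvPolynomial (Fin n ⊕ Fin m) k) L)
      (IsFractionRing.injective (MvPolynomial (Fin n ⊕ Fin m) k) L)
  have hsum : AlgebraicIndependent k (Sum.elim y x) := by
    have := hall.comp Sum.swap Sum.swap_leftInverse.injective
    convert this using 1
    ext (i | i) <;> rfl
  have hyE : AlgebraicIndependent E y :=
    IntermediateField.algebraicIndependent_adjoin_iff.2 (AlgebraicIndependent.sumElim_iff.1 hsum).2
  have hpoly : ∀ p : MvPolynomial (Fin n ⊕ Fin m) k,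
      algebraMap _ L p ∈ Algebra.adjoin E (Set.range y) := by
    intro p
    induction p using MvPolynomial.induction_on with
    | C a =>
      rw [← MvPolynomial.algebraMap_eq, ← IsScalarTower.algebraMap_apply]
      exact Subalgebra.algebraMap_mem _ (⟨algebraMap k L a, E.algebraMap_mem a⟩ : E)
    | add a b ha hb => rw [map_add]; exact Subalgebra.add_mem _ ha hb
    | mul_X a i ha =>
      rw [map_mul]
      refine Subalgebra.mul_mem _ ha ?_
      rcases i with i | i
      · exact Subalgebra.algebraMap_mem _ (⟨x i, IntermediateField.subset_adjoin k _ ⟨i, rfl⟩⟩ : E)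
      · exact Algebra.subset_adjoin ⟨i, rfl⟩
  have hfrac : ∀ z : L, ∃ P ∈ Algebra.adjoin E (Set.range y), ∃ Q ∈ Algebra.adjoin E (Set.range y),
      Q ≠ 0 ∧ z * Q = P := by
    intro z
    obtain ⟨p, q, hq, rfl⟩ := IsFractionRing.div_surjective (A := MvPolynomial (Fin n ⊕ Fin m) k) z
    have hq0 : algebraMap _ L q ≠ 0 :=
      IsFractionRing.to_map_ne_zero_of_mem_nonZeroDivisors hq
    exact ⟨_, hpoly p, _, hpoly q, hq0, div_mul_cancel₀ _ hq0⟩
  refine InvFldH7.noName E y hyE hfrac G ?_ ?_ ?_
  · intro σ hσ e he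
    have hle : E ≤ (E.map (σ : L →ₐ[k] L)).comap (σ : L →ₐ[k] L) := fun z hz => ⟨z, hz, rfl⟩
    have hmap : E.map (σ : L →ₐ[k] L) ≤ E := by
      rw [IntermediateField.adjoin_map, IntermediateField.adjoin_le_iff]
      rintro _ ⟨_, ⟨i, rfl⟩, rfl⟩
      refine (show Submodule.span k (Set.range x) ≤ E.toSubalgebra.toSubmodule from
        Submodule.span_le.2 (IntermediateField.subset_adjoin k _)) (hx σ hσ i)
    exact hmap ⟨e, he, rfl⟩
  · intro σ hσ j
    exact Submodule.span_le_restrictScalars k E (Set.range y) (hy σ hσ j)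
  · intro σ hσ h
    exact hfaith σ hσ fun i => h _ (IntermediateField.subset_adjoin k _ ⟨i, rfl⟩)

end Groth.Agent.S15697
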