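import Groth.Statements.S15698
import Groth.Agent.InvFldH7.Stable
import Groth.Agent.InvFldH7.Perm
-- import your own Groth.Agent.* helpers here

set_option autoImplicit false
universe u
open InvFld

namespace Groth.Agent.S15698

/-- Let k be a characteristic-zero field; for each faithful finite-dimensional linear representation V
of the symmetric group S_n over k, the field of invariants k(V)^{S_n} is stably pure over k. Stated
with V = k^m: G is a finite group of k-algebra automorphisms of k(x_1, ..., x_m), each sending every
variable to a k-linear combination of the variables, isomorphic as an abstract group to the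
symmetric group on n letters; then for some r the rational function field in r variables over the
fixed field of G is generated over k by finitely many algebraically independent elements. -/
theorem result (k : Type u) [Field k] [CharZero k] (n m : ℕ)
    (G : Subgroup (InvFld.Fld (Fin m) k ≃ₐ[k] InvFld.Fld (Fin m) k)) [Finite G] (e : G ≃* Equiv.Perm (Fin n))
    (hG : ∀ σ ∈ G, ∀ i : Fin m, σ (InvFld.X i) ∈ Submodule.span k (Set.range fun j : Fin m => (InvFld.X j : InvFld.Fld (Fin m) k))) :
    ∃ (r N : ℕ) (t : Fin N → InvFld.Fld (Fin r) (IntermediateField.fixedField G)),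
      AlgebraicIndependent k t ∧ IntermediateField.adjoin k (Set.range t) = ⊤ := by
  obtain ⟨H, _, ⟨eH⟩, hH, ⟨eF⟩⟩ := InvFldH7.exists_perm_model (k := k) n
  obtain ⟨e₁⟩ := InvFldH7.stablyEquiv G H (e.trans eH) hG hH
  obtain ⟨e₂⟩ := InvFldH7.fld_map (k := k) (σ := Fin m) eF
  obtain ⟨t, ht, htop⟩ := InvFldH7.exists_pure (k := k) n m
  let E := e₁.trans e₂
  let E' : InvFld.Fld (Fin m) (InvFld.Fld (Fin n) k) →ₐ[k]
      InvFld.Fld (Fin n) (IntermediateField.fixedField G) := E.symm.toAlgHom
  refine ⟨n, n + m, E' ∘ t, ht.map' (f := E') E.symm.injective, ?_⟩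
  rw [Set.range_comp, ← IntermediateField.adjoin_map, htop, ← AlgHom.fieldRange_eq_map]
  exact AlgHom.fieldRange_eq_top.2 E.symm.surjective

end Groth.Agent.S15698
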