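import Groth.Statements.S15699
import Mathlib.Algebra.MvPolynomial.Funext

set_option autoImplicit false
set_option backward.isDefEq.respectTransparency false
set_option maxHeartbeats 1000000
set_option linter.style.haveILetI false
universe u
open CategoryTheory CategoryTheory.Limits AlgebraicGeometry
open RatVar

namespace Groth.Agent.S15699

open MvPolynomial TopologicalSpace

/-- If a nonempty basic open of an affine space is of finite type, finitely many variables suffice. -/
theorem finite_of_finiteType_away {k : Type u} [Field k] {σ : Type u} {h : MvPolynomial σ k} (hh : h ≠ 0)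
    (hft : Algebra.FiniteType k (Localization.Away h)) : Finite σ := by
  classical
  obtain ⟨G, hG⟩ := hft.out
  choose N p hp using fun g : Localization.Away h => IsLocalization.Away.surj h g
  let S : Finset σ := h.vars ∪ G.biUnion fun g => (p g).vars
  rcases finite_or_infinite σ with hfin | hinf
  · exact hfin
  obtain ⟨j, hj⟩ := Infinite.exists_notMem_finset S
  let φ : MvPolynomial σ k →ₐ[k] MvPolynomial σ k := aeval fun i => if i = j then X i + 1 else X i
  have hφ : ∀ q : MvPolynomial σ k, j ∉ q.vars → φ q = q := fun q hq => by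
    conv_rhs => rw [← aeval_X_left_apply (p := q)]
    refine eval₂Hom_congr' rfl (fun i hi _ => ?_) rfl
    simp [show i ≠ j from fun h => hq (h ▸ hi)]
  have hφh : φ h = h := hφ h fun h' => hj (Finset.mem_union_left _ h')
  let L := Localization.Away h
  let ι₀ := algebraMap (MvPolynomial σ k) L
  have hu : IsUnit ((ι₀.comp φ.toRingHom) h) := by
    show IsUnit (ι₀ (φ h))
    rw [hφh]; exact IsLocalization.Away.algebraMap_isUnit h
  let ψ₀ : L →+* L := IsLocalization.Away.lift h hu
  have hψ : ∀ a, ψ₀ (ι₀ a) = ι₀ (φ a) := IsLocalization.Away.lift_eq h hu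
  have hcomm : ∀ r : k, ψ₀ (algebraMap k L r) = algebraMap k L r := fun r => by
    rw [IsScalarTower.algebraMap_apply k (MvPolynomial σ k) L, hψ, AlgHom.commutes]
  let ψ : L →ₐ[k] L := { ψ₀ with commutes' := hcomm }
  have hid : ψ = AlgHom.id k L := AlgHom.ext_of_adjoin_eq_top hG fun g hg => by
    have h1 := hp g
    have h2 : ψ₀ g * ι₀ h ^ N g = ι₀ (p g) := by
      have := congrArg ψ₀ h1
      rw [map_mul, map_pow, hψ, hψ, hφh,
        hφ _ fun h' => hj (Finset.mem_union_right _ (Finset.mem_biUnion.2 ⟨g, hg, h'⟩))] at this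
      exact this
    exact ((IsLocalization.Away.algebraMap_isUnit h).pow (N g)).mul_left_injective (h2.trans h1.symm)
  have h3 : ι₀ (φ (X j)) = ι₀ (X j) := by rw [← hψ]; exact DFunLike.congr_fun hid (ι₀ (X j))
  have hinj : Function.Injective ι₀ :=
    IsLocalization.injective L (powers_le_nonZeroDivisors_of_noZeroDivisors hh)
  have h4 := hinj h3
  simp [φ] at h4

/-- An `IsRationalOver` scheme of finite type has an open of a finite dimensional affine space as chart. -/
theorem exists_chart (k : Type u) [Field k] {P : Scheme.{u}} (π : P ⟶ Spec (CommRingCat.of k))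
    [LocallyOfFiniteType π] [Nonempty P] [Scheme.IsRationalOver π] :
    ∃ (m : ℕ) (W : (Spec (CommRingCat.of (MvPolynomial (Fin m) k))).Opens) (c : (W : Scheme.{u}) ⟶ P),
      IsOpenImmersion c ∧ (W : Set ↑(Spec (CommRingCat.of (MvPolynomial (Fin m) k)))).Nonempty ∧
      c ≫ π = W.ι ≫ Spec.map (CommRingCat.ofHom (algebraMap k (MvPolynomial (Fin m) k))) := by
  classical
  obtain ⟨σ, F, hF⟩ := Scheme.IsRationalOver.exists_birationalOver_affineSpace π
  let e := AffineSpace.SpecIso σ (CommRingCat.of k)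
  let W₀ := e.inv ⁻¹ᵁ F.target
  let c₀ : (W₀ : Scheme.{u}) ⟶ P := (e.inv ∣_ F.target) ≫ F.iso.inv ≫ F.source.ι
  have hc₀ : c₀ ≫ π = W₀.ι ≫ Spec.map (CommRingCat.ofHom (C : k →+* MvPolynomial σ k)) := by
    simp only [c₀, Category.assoc, ← hF, Iso.inv_hom_id_assoc]
    rw [morphismRestrict_ι_assoc, AffineSpace.SpecIso_inv_over (n := σ) (R := CommRingCat.of k)]
  obtain ⟨p, hp⟩ : ∃ p, p ∈ W₀ := by
    obtain ⟨x, -, hx⟩ := F.dense_source.inter_open_nonempty Set.univ isOpen_univ Set.univ_nonempty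
    exact ⟨e.hom (F.target.ι (F.iso.hom ⟨x, hx⟩)), by
      show e.inv (e.hom _) ∈ F.target
      rw [← Scheme.Hom.comp_apply, Iso.hom_inv_id]
      exact (F.iso.hom ⟨x, hx⟩).2⟩
  obtain ⟨_, ⟨h, rfl⟩, hph, hle⟩ := PrimeSpectrum.isTopologicalBasis_basic_opens.exists_subset_of_mem_open hp W₀.2
  have hh : h ≠ 0 := fun h0 => hph (h0 ▸ Submodule.zero_mem _)
  let l := Spec.map (CommRingCat.ofHom (algebraMap (MvPolynomial σ k) (Localization.Away h)))
  let j := IsOpenImmersion.lift W₀.ι l (by
    rw [Scheme.Opens.range_ι]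
    exact (PrimeSpectrum.localization_away_comap_range (Localization.Away h) h).trans_subset hle)
  haveI : IsOpenImmersion j := by
    haveI : IsOpenImmersion (j ≫ W₀.ι) := by rw [IsOpenImmersion.lift_fac]; infer_instance
    exact IsOpenImmersion.of_comp j W₀.ι
  have hj : LocallyOfFiniteType (Spec.map (CommRingCat.ofHom (algebraMap k (Localization.Away h)))) := by
    have : (j ≫ c₀) ≫ π = Spec.map (CommRingCat.ofHom (algebraMap k (Localization.Away h))) := by
      rw [Category.assoc, hc₀, IsOpenImmersion.lift_fac_assoc, ← Spec.map_comp]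
      rfl
    rw [← this]; infer_instance
  haveI : Finite σ := finite_of_finiteType_away hh
    (RingHom.finiteType_algebraMap.1 ((HasRingHomProperty.Spec_iff (P := @LocallyOfFiniteType)).1 hj))
  obtain ⟨m, ⟨τ⟩⟩ := Finite.exists_equiv_fin σ
  let E : CommRingCat.of (MvPolynomial σ k) ≅ CommRingCat.of (MvPolynomial (Fin m) k) :=
    (renameEquiv k τ).toRingEquiv.toCommRingCatIso
  let ε := Scheme.Spec.mapIso E.op
  refine ⟨m, ε.hom ⁻¹ᵁ W₀, (ε.hom ∣_ W₀) ≫ c₀, inferInstance, ⟨ε.inv p, ?_⟩, ?_⟩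
  · show ε.hom (ε.inv p) ∈ W₀
    rw [← Scheme.Hom.comp_apply, Iso.inv_hom_id]
    exact hp
  · rw [Category.assoc, hc₀, morphismRestrict_ι_assoc]
    congr 1
    show Spec.map _ ≫ Spec.map _ = _
    rw [← Spec.map_comp]
    congr 1
    ext r
    exact congrArg _ ((renameEquiv k τ).commutes r)

/-- A direct factor of a k-rational variety is retract rational over k. Here k is an infinite field, X
and Y are integral schemes of finite type over k whose fibre product over k is integral and rational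
over k (birational over k, through dense open subschemes, to an affine space over k); the conclusion
is that some non-empty open subscheme U of X admits k-morphisms U → Y' → U with composite the
identity, Y' an open subscheme of an affine space Spec k[x_1, ..., x_n]. (The published statement
allows any field k; the argument picks a k-rational point of the given open set, so k is taken
infinite here.) -/
theorem result (k : Type u) [Field k] [Infinite k]
    (X Y : Scheme.{u}) (f : X ⟶ Spec (CommRingCat.of k)) (g : Y ⟶ Spec (CommRingCat.of k))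
    [IsIntegral X] [LocallyOfFiniteType f] [QuasiCompact f]
    [IsIntegral Y] [LocallyOfFiniteType g] [QuasiCompact g] [IsIntegral (pullback f g)]
    [Scheme.IsRationalOver (pullback.fst f g ≫ f)] :
    ∃ (U : X.Opens) (n : ℕ) (Y' : (Spec (CommRingCat.of (MvPolynomial (Fin n) k))).Opens)
        (a : (U : Scheme.{u}) ⟶ (Y' : Scheme.{u})) (b : (Y' : Scheme.{u}) ⟶ (U : Scheme.{u})),
        (U : Set X).Nonempty ∧ a ≫ b = 𝟙 (U : Scheme.{u}) ∧
        a ≫ Y'.ι ≫ Spec.map (CommRingCat.ofHom (algebraMap k (MvPolynomial (Fin n) k))) = U.ι ≫ f ∧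
        b ≫ U.ι ≫ f = Y'.ι ≫ Spec.map (CommRingCat.ofHom (algebraMap k (MvPolynomial (Fin n) k))) := by
  obtain ⟨m, W, c, hc, ⟨w, hw⟩, hcπ⟩ := exists_chart k (pullback.fst f g ≫ f)
  haveI := hc
  let Sm := Spec.map (CommRingCat.ofHom (algebraMap k (MvPolynomial (Fin m) k)))
  obtain ⟨_, ⟨h, rfl⟩, hph, hle⟩ := PrimeSpectrum.isTopologicalBasis_basic_opens.exists_subset_of_mem_open hw W.2
  obtain ⟨v, hv⟩ : ∃ v : Fin m → k, eval v h ≠ 0 := by
    by_contra! H
    exact hph ((MvPolynomial.funext (fun v => (H v).trans (map_zero _).symm) : h = 0) ▸ Submodule.zero_mem _)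
  let q := Spec.map (CommRingCat.ofHom (eval v))
  let q' := IsOpenImmersion.lift W.ι q (by
    rw [Scheme.Opens.range_ι]
    rintro _ ⟨z, rfl⟩
    refine hle ?_
    show eval v h ∉ z.asIdeal
    exact fun hz => z.isPrime.ne_top (Ideal.eq_top_of_isUnit_mem _ hz (Ne.isUnit hv)))
  have hq : q' ≫ c ≫ pullback.fst f g ≫ f = 𝟙 _ := by
    rw [hcπ, IsOpenImmersion.lift_fac_assoc, ← Spec.map_comp]
    exact (congrArg Spec.map (CommRingCat.hom_ext (RingHom.ext fun r => eval_C r))).trans (Spec.map_id _)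
  let y₀ : Spec (CommRingCat.of k) ⟶ Y := q' ≫ c ≫ pullback.snd f g
  have hy₀ : y₀ ≫ g = 𝟙 _ := by
    simp only [y₀, Category.assoc, ← pullback.condition]; exact hq
  let s : X ⟶ pullback f g := pullback.lift (𝟙 X) (f ≫ y₀) (by rw [Category.assoc, hy₀]; simp)
  let U : X.Opens := s ⁻¹ᵁ c.opensRange
  have hx₀ : (q' ≫ c ≫ pullback.fst f g) ≫ s = q' ≫ c := by
    ext1
    · simp [s]
    · simp only [s, Category.assoc, pullback.lift_snd]
      rw [reassoc_of% hq]
  let a₀ : (U : Scheme.{u}) ⟶ W := IsOpenImmersion.lift c (U.ι ≫ s) (by rintro _ ⟨z, rfl⟩; exact z.2)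
  have ha₀ : a₀ ≫ c ≫ pullback.fst f g = U.ι := by
    rw [IsOpenImmersion.lift_fac_assoc, Category.assoc, pullback.lift_fst, Category.comp_id]
  let Y₁ : (W : Scheme.{u}).Opens := (c ≫ pullback.fst f g) ⁻¹ᵁ U
  let a₁ : (U : Scheme.{u}) ⟶ Y₁ := IsOpenImmersion.lift Y₁.ι a₀ (by
    rw [Scheme.Opens.range_ι]
    rintro _ ⟨z, rfl⟩
    show (c ≫ pullback.fst f g) (a₀ z) ∈ U
    rw [← Scheme.Hom.comp_apply, ha₀]
    exact z.2)
  let b₁ : (Y₁ : Scheme.{u}) ⟶ U := IsOpenImmersion.lift U.ι (Y₁.ι ≫ c ≫ pullback.fst f g) (by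
    rw [Scheme.Opens.range_ι]; rintro _ ⟨z, rfl⟩; exact z.2)
  let j := W.ι.isoImage Y₁
  refine ⟨U, m, W.ι ''ᵁ Y₁, a₁ ≫ j.hom, j.inv ≫ b₁, ⟨(q' ≫ c ≫ pullback.fst f g) ⟨⊥, inferInstance⟩, ?_⟩, ?_, ?_, ?_⟩
  · show s ((q' ≫ c ≫ pullback.fst f g) _) ∈ c.opensRange
    rw [← Scheme.Hom.comp_apply, hx₀]
    exact ⟨_, rfl⟩
  · rw [Category.assoc, Iso.hom_inv_id_assoc, ← cancel_mono U.ι, Category.assoc, IsOpenImmersion.lift_fac,
      IsOpenImmersion.lift_fac_assoc, ha₀, Category.id_comp]
  · rw [Category.assoc, Scheme.Hom.isoImage_hom_ι_assoc, IsOpenImmersion.lift_fac_assoc, ← hcπ]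
    rw [reassoc_of% ha₀]
  · rw [Category.assoc, IsOpenImmersion.lift_fac_assoc, Category.assoc, Category.assoc, hcπ,
      Scheme.Hom.isoImage_inv_ι_assoc]

end Groth.Agent.S15699
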