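import Groth.Statements.S15700
import Groth.Agent.S4585
import Groth.Agent.DimFormulaLib.Field
import Groth.Agent.DimFormulaLib.LocalDim
import Mathlib

set_option autoImplicit false
universe u
open CategoryTheory AlgebraicGeometry
open RatVar

set_option maxHeartbeats 800000

namespace Groth.Agent.S15700

theorem tower_of_algHom {k B L : Type u} [CommRing k] [CommRing B] [CommRing L] [Algebra k B] [Algebra k L]
    (φ : B →ₐ[k] L) : letI := φ.toRingHom.toAlgebra; IsScalarTower k B L := by
  letI := φ.toRingHom.toAlgebra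
  exact IsScalarTower.of_algebraMap_eq fun r => (φ.commutes r).symm

open MvPolynomial in
/-- Setting a variable that is transcendental over `B` to a general constant keeps `B` injected. -/
theorem exists_specialisation (k : Type u) [Field k] [Infinite k] (B : Type u) [CommRing B] [IsDomain B]
    [Algebra k B] [Algebra.FiniteType k B] (n : ℕ) (h : MvPolynomial (Fin (n + 1)) k)
    (L : Type u) [CommRing L] [IsDomain L] [Algebra k L] [Algebra (MvPolynomial (Fin (n + 1)) k) L]
    [IsScalarTower k (MvPolynomial (Fin (n + 1)) k) L] [IsLocalization.Away h L] [Algebra B L] [IsScalarTower k B L]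
    (j : Fin (n + 1))
    (htr : Transcendental B (algebraMap (MvPolynomial (Fin (n + 1)) k) L (MvPolynomial.X j))) :
    ∃ (h' : MvPolynomial (Fin n) k) (φ' : B →ₐ[k] Localization.Away h'), h' ≠ 0 ∧ Function.Injective φ' := by
  let xj : L := algebraMap (MvPolynomial (Fin (n + 1)) k) L (X j)
  let α : Polynomial B →ₐ[B] L := Polynomial.aeval xj
  have hα : Function.Injective α := transcendental_iff_injective.1 htr
  haveI : Algebra.FiniteType k L :=
    Algebra.FiniteType.trans (R := k) (S := MvPolynomial (Fin (n + 1)) k) inferInstance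
      (IsLocalization.finiteType_of_monoid_fg (Submonoid.powers h) L)
  letI := α.toRingHom.toAlgebra
  haveI : IsScalarTower k (Polynomial B) L := IsScalarTower.of_algebraMap_eq fun r => by
    show _ = α (algebraMap k (Polynomial B) r)
    rw [IsScalarTower.algebraMap_apply k B (Polynomial B), AlgHom.commutes, ← IsScalarTower.algebraMap_apply]
  haveI : Algebra.FiniteType (Polynomial B) L := Algebra.FiniteType.of_restrictScalars_finiteType k _ _
  obtain ⟨g, hg, himg⟩ := S4585.exists_basicOpen_subset_range_of_domain (R := Polynomial B) (S := L) hα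
  obtain ⟨c, hc⟩ : ∃ c : k, g.eval (algebraMap k B c) ≠ 0 := by
    by_contra hcon
    push Not at hcon
    exact hg (g.eq_zero_of_infinite_isRoot ((Set.infinite_range_of_injective
      (FaithfulSMul.algebraMap_injective k B)).mono fun x hx => by obtain ⟨c, rfl⟩ := hx; exact hcon c))
  let Pc : PrimeSpectrum (Polynomial B) :=
    ⟨RingHom.ker (Polynomial.evalRingHom (algebraMap k B c)), RingHom.ker_isPrime _⟩
  obtain ⟨Q, hQ⟩ := himg Pc hc
  have hQ' : ∀ p : Polynomial B, α p ∈ Q.asIdeal ↔ p.eval (algebraMap k B c) = 0 := fun p =>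
    SetLike.ext_iff.1 (congrArg PrimeSpectrum.asIdeal hQ) p
  let ev : MvPolynomial (Fin (n + 1)) k →ₐ[k] MvPolynomial (Fin n) k :=
    aeval (Fin.insertNth j (C c) X)
  let li : MvPolynomial (Fin n) k →ₐ[k] MvPolynomial (Fin (n + 1)) k := rename j.succAbove
  have hev : (((Ideal.Quotient.mkₐ k Q.asIdeal).comp (IsScalarTower.toAlgHom k _ L)).comp li).comp ev =
      (Ideal.Quotient.mkₐ k Q.asIdeal).comp (IsScalarTower.toAlgHom k (MvPolynomial (Fin (n + 1)) k) L) := by
    refine MvPolynomial.algHom_ext fun i => ?_
    rcases Fin.eq_self_or_eq_succAbove j i with hi | ⟨l, hi⟩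
    · subst hi
      have h1 : α (Polynomial.X - Polynomial.C (algebraMap k B c)) ∈ Q.asIdeal := (hQ' _).2 (by simp)
      rw [map_sub, Polynomial.aeval_X, Polynomial.aeval_C, ← IsScalarTower.algebraMap_apply] at h1
      simp only [ev, li, AlgHom.comp_apply, aeval_X, Fin.insertNth_apply_same, rename_C,
        IsScalarTower.coe_toAlgHom', Ideal.Quotient.mkₐ_eq_mk]
      rw [eq_comm, ← MvPolynomial.algebraMap_eq, ← IsScalarTower.algebraMap_apply]
      exact Ideal.Quotient.eq.2 h1
    · subst hi
      simp only [ev, li, AlgHom.comp_apply, aeval_X, Fin.insertNth_apply_succAbove, rename_X]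
  have hmem : ∀ p, ev p = 0 → algebraMap (MvPolynomial (Fin (n + 1)) k) L p ∈ Q.asIdeal := fun p hp => by
    have := congrArg (fun f => f p) hev
    simp only [AlgHom.comp_apply, hp, map_zero] at this
    exact Ideal.Quotient.eq_zero_iff_mem.1 this.symm
  have hev0 : ev h ≠ 0 := fun e => Q.2.ne_top
    (Ideal.eq_top_of_isUnit_mem _ (hmem h e) (IsLocalization.Away.algebraMap_isUnit h))
  haveI : IsDomain (Localization.Away (ev h)) :=
    IsLocalization.isDomain_localization (powers_le_nonZeroDivisors_of_noZeroDivisors hev0)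
  obtain ⟨ev', hev'⟩ : ∃ ev' : L →ₐ[k] Localization.Away (ev h), ∀ p,
      ev' (algebraMap (MvPolynomial (Fin (n + 1)) k) L p) = algebraMap (MvPolynomial (Fin n) k) (Localization.Away (ev h)) (ev p) :=
    ⟨IsLocalization.liftAlgHom (M := Submonoid.powers h) (f := (IsScalarTower.toAlgHom k _ _).comp ev) (by
      rintro ⟨_, m, rfl⟩
      simpa using (IsLocalization.Away.algebraMap_isUnit (ev h)).pow m),
      fun p => IsLocalization.lift_eq _ p⟩
  refine ⟨ev h, ev'.comp (IsScalarTower.toAlgHom k B L), hev0, (injective_iff_map_eq_zero _).2 fun b hb => ?_⟩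
  obtain ⟨⟨p, s⟩, hps⟩ := IsLocalization.surj (Submonoid.powers h) (algebraMap B L b)
  have hp0 : algebraMap (MvPolynomial (Fin n) k) (Localization.Away (ev h)) (ev p) = 0 := by
    have := congrArg ev' hps
    rw [map_mul, show ev' (algebraMap B L b) = 0 from hb, zero_mul] at this
    rw [hev'] at this
    exact this.symm
  have hp : ev p = 0 := IsLocalization.injective (Localization.Away (ev h))
    (powers_le_nonZeroDivisors_of_noZeroDivisors hev0) (hp0.trans (map_zero _).symm)
  have hbQ : (algebraMap B L b) ∈ Q.asIdeal := (Ideal.mul_unit_mem_iff_mem _ (IsLocalization.map_units L s)).1 (by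
    rw [show (algebraMap B L b) * algebraMap _ L (s : MvPolynomial (Fin (n + 1)) k) = _ from hps]; exact hmem p hp)
  simpa using (hQ' (Polynomial.C b)).1 (by rw [Polynomial.aeval_C]; exact hbQ)

open MvPolynomial in
theorem trdeg_dim (k : Type u) [Field k] (B : Type u) [CommRing B] [IsDomain B]
    [Algebra k B] [Algebra.FiniteType k B] (n : ℕ) (h : MvPolynomial (Fin n) k) (hh : h ≠ 0)
    (L : Type u) [CommRing L] [IsDomain L] [Algebra k L] [Algebra (MvPolynomial (Fin n) k) L]
    [IsScalarTower k (MvPolynomial (Fin n) k) L] [IsLocalization.Away h L] [Algebra B L] [IsScalarTower k B L]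
    (hφ : Function.Injective (algebraMap B L))
    (hal : ∀ j, IsAlgebraic B (algebraMap (MvPolynomial (Fin n) k) L (MvPolynomial.X j))) :
    ringKrullDim B = n := by
  let P := MvPolynomial (Fin n) k
  let F := FractionRing P
  obtain ⟨l, hlP⟩ : ∃ l : L →ₐ[k] F, ∀ p : P, l (algebraMap P L p) = algebraMap P F p :=
    ⟨IsLocalization.liftAlgHom (M := Submonoid.powers h) (f := IsScalarTower.toAlgHom k P F) (by
    rintro ⟨_, m, rfl⟩
    exact IsUnit.mk0 _ fun e => pow_ne_zero m hh
      (IsFractionRing.injective P F (e.trans (map_zero _).symm))),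
      fun p => IsLocalization.lift_eq _ p⟩
  letI := (l.comp (IsScalarTower.toAlgHom k B L)).toRingHom.toAlgebra
  letI := l.toRingHom.toAlgebra
  haveI : IsScalarTower k B F := tower_of_algHom (l.comp (IsScalarTower.toAlgHom k B L))
  haveI : IsScalarTower B L F := IsScalarTower.of_algebraMap_eq (R := B) (S := L) (A := F) fun r => rfl
  have hlinj : Function.Injective l := (injective_iff_map_eq_zero _).2 fun z hz => by
    obtain ⟨⟨p, s⟩, hps⟩ := IsLocalization.surj (Submonoid.powers h) z
    have h1 := congrArg l hps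
    rw [map_mul, hz, zero_mul, hlP] at h1
    rw [IsFractionRing.injective P F (h1.symm.trans (map_zero _).symm), map_zero] at hps
    exact (IsUnit.mul_left_eq_zero (IsLocalization.map_units L s)).1 hps
  haveI : FaithfulSMul B F := (faithfulSMul_iff_algebraMap_injective B F).2 (hlinj.comp hφ)
  let E := Subalgebra.algebraicClosure B F
  have hX : ∀ p : P, algebraMap P F p ∈ E := fun p => by
    induction p using MvPolynomial.induction_on with
    | C a =>
      rw [show algebraMap P F (C a) = algebraMap B F (algebraMap k B a) by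
        rw [← IsScalarTower.algebraMap_apply, ← MvPolynomial.algebraMap_eq, ← IsScalarTower.algebraMap_apply]]
      exact E.algebraMap_mem _
    | add p q hp hq => rw [map_add]; exact E.add_mem hp hq
    | mul_X p j hp =>
      rw [map_mul, ← hlP (X j)]
      exact E.mul_mem hp ((hal j).algHom (IsScalarTower.toAlgHom B L F))
  haveI : Algebra.IsAlgebraic B F := ⟨fun z => by
    obtain ⟨a, b, hb, rfl⟩ := IsFractionRing.div_surjective (A := P) z
    rw [div_eq_mul_inv]
    exact (hX a).mul (IsAlgebraic.inv_iff.2 (hX b))⟩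
  refine DimFormulaLib.ringKrullDim_eq_trdeg k n ?_
  have h1 := trdeg_add_eq k B (A := F)
  rw [trdeg_eq_zero (R := B) (A := F), add_zero,
    ← DimFormulaLib.trdeg_eq_of_isFractionRing (k := k) (D := P) (K := F), MvPolynomial.trdeg_of_isDomain] at h1
  simpa using h1

open MvPolynomial in
theorem exists_injective_dim (k : Type u) [Field k] [Infinite k] (B : Type u) [CommRing B] [IsDomain B]
    [Algebra k B] [Algebra.FiniteType k B] : ∀ (n : ℕ) (h : MvPolynomial (Fin n) k), h ≠ 0 →
    ∀ φ : B →ₐ[k] Localization.Away h, Function.Injective φ →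
    ∃ (m : ℕ) (h' : MvPolynomial (Fin m) k) (φ' : B →ₐ[k] Localization.Away h'),
      h' ≠ 0 ∧ Function.Injective φ' ∧ ringKrullDim B = m := by
  intro n
  induction n with
  | zero =>
    intro h hh φ hφ
    letI := φ.toRingHom.toAlgebra
    haveI : IsScalarTower k B (Localization.Away h) := tower_of_algHom φ
    haveI : IsDomain (Localization.Away h) :=
      IsLocalization.isDomain_localization (powers_le_nonZeroDivisors_of_noZeroDivisors hh)
    exact ⟨0, h, φ, hh, hφ, trdeg_dim k B 0 h hh (Localization.Away h) hφ fun j => j.elim0⟩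
  | succ n ih =>
    intro h hh φ hφ
    letI := φ.toRingHom.toAlgebra
    haveI : IsScalarTower k B (Localization.Away h) := tower_of_algHom φ
    haveI : IsDomain (Localization.Away h) :=
      IsLocalization.isDomain_localization (powers_le_nonZeroDivisors_of_noZeroDivisors hh)
    by_cases hal : ∀ j, IsAlgebraic B (algebraMap (MvPolynomial (Fin (n + 1)) k) (Localization.Away h) (X j))
    · exact ⟨n + 1, h, φ, hh, hφ, trdeg_dim k B (n + 1) h hh (Localization.Away h) hφ hal⟩
    · push Not at hal
      obtain ⟨j, hj⟩ := hal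
      obtain ⟨h', φ', hh', hφ'⟩ := exists_specialisation k B n h (Localization.Away h) j hj
      exact ih h' hh' φ' hφ'

set_option backward.isDefEq.respectTransparency false
set_option backward.isDefEq.respectTransparency.types false

/-- Over an infinite field k, an integral scheme X of finite type over k that admits a dominant
k-morphism from a k-rational variety admits one from a k-rational variety of the same dimension as
X. Stated with open subschemes of affine spaces: if a non-empty open subscheme of Spec k[x_1, ...,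
x_n] maps dominantly to X over k, then some non-empty open subscheme of some Spec k[x_1, ..., x_m]
with m = dim X maps dominantly to X over k. -/
theorem result (k : Type u) [Field k] [Infinite k]
    (X : Scheme.{u}) (f : X ⟶ Spec (CommRingCat.of k)) [IsIntegral X] [LocallyOfFiniteType f] [QuasiCompact f]
    (n : ℕ) (W : (Spec (CommRingCat.of (MvPolynomial (Fin n) k))).Opens) (hW : (W : Set ↑(Spec (CommRingCat.of (MvPolynomial (Fin n) k)))).Nonempty)
    (φ : (W : Scheme.{u}) ⟶ X) [IsDominant φ] (hφ : φ ≫ f = W.ι ≫ Spec.map (CommRingCat.ofHom (algebraMap k (MvPolynomial (Fin n) k)))) :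
    ∃ (m : ℕ) (W' : (Spec (CommRingCat.of (MvPolynomial (Fin m) k))).Opens) (ψ : (W' : Scheme.{u}) ⟶ X),
      (W' : Set ↑(Spec (CommRingCat.of (MvPolynomial (Fin m) k)))).Nonempty ∧ IsDominant ψ ∧ ψ ≫ f = W'.ι ≫ Spec.map (CommRingCat.ofHom (algebraMap k (MvPolynomial (Fin m) k))) ∧
      (m : WithBot ℕ∞) = topologicalKrullDim X := by
  obtain ⟨V, hV, hVne⟩ : ∃ V : X.Opens, IsAffineOpen V ∧ genericPoint X ∈ V := by
    obtain ⟨V, hV, hx, -⟩ := exists_isAffineOpen_mem_and_subset (x := genericPoint X) (U := (⊤ : X.Opens)) trivial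
    exact ⟨V, hV, hx⟩
  haveI : IsAffine (V : Scheme.{u}) := hV
  haveI : Nonempty ↥(V : Scheme.{u}) := ⟨⟨_, hVne⟩⟩
  obtain ⟨ρ, hρ⟩ := Spec.map_surjective (hV.fromSpec ≫ f)
  letI := ρ.hom.toAlgebra
  let B := Γ(X, V)
  haveI : IsDomain B := IsIntegral.component_integral V
  haveI : LocallyOfFiniteType (hV.fromSpec ≫ f) := inferInstance
  haveI : Algebra.FiniteType k B := by
    have hl : LocallyOfFiniteType (Spec.map ρ) := by rw [hρ]; infer_instance
    rwa [HasRingHomProperty.Spec_iff (P := @LocallyOfFiniteType)] at hl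
  -- a basic open inside the preimage
  let P := MvPolynomial (Fin n) k
  let WV : (Spec (CommRingCat.of P)).Opens := W.ι ''ᵁ (φ ⁻¹ᵁ V)
  obtain ⟨w, hw⟩ := φ.denseRange.exists_mem_open V.2 ⟨_, hVne⟩
  obtain ⟨_, ⟨h, rfl⟩, hwh, hhW⟩ := PrimeSpectrum.isTopologicalBasis_basic_opens.exists_subset_of_mem_open
    (show W.ι w ∈ (WV : Set _) from ⟨w, hw, rfl⟩) WV.2
  have hh : h ≠ 0 := fun e => by
    have := hwh
    rw [e] at this
    exact this (Ideal.zero_mem _)
  let L := CommRingCat.of (Localization.Away h)
  let jL : Spec L ⟶ Spec (CommRingCat.of P) := Spec.map (CommRingCat.ofHom (algebraMap P (Localization.Away h)))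
  haveI : IsOpenImmersion jL := IsOpenImmersion.of_isLocalization h
  have hrange : Set.range jL.base ⊆ (WV : Set _) := by
    refine subset_trans (le_of_eq ?_) hhW
    exact PrimeSpectrum.localization_away_comap_range (Localization.Away h) h
  have hWVι : Set.range jL.base ⊆ Set.range W.ι.base := fun x hx => by
    obtain ⟨y, -, e⟩ := hrange hx
    exact ⟨y, e⟩
  let jW : Spec L ⟶ (W : Scheme.{u}) := IsOpenImmersion.lift W.ι jL hWVι
  have hjW : jW ≫ W.ι = jL := IsOpenImmersion.lift_fac _ _ _
  have hjV : Set.range (jW ≫ φ).base ⊆ Set.range hV.fromSpec.base := by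
    rintro _ ⟨z, rfl⟩
    obtain ⟨y, hy, e⟩ := hrange ⟨z, rfl⟩
    rw [← hjW, Scheme.Hom.comp_apply] at e
    rw [hV.range_fromSpec, Scheme.Hom.comp_apply, ← W.ι.isOpenEmbedding.injective e]
    exact hy
  let jB : Spec L ⟶ Spec B := IsOpenImmersion.lift hV.fromSpec (jW ≫ φ) hjV
  have hjB : jB ≫ hV.fromSpec = jW ≫ φ := IsOpenImmersion.lift_fac _ _ _
  obtain ⟨χ, hχ⟩ := Spec.map_surjective jB
  have hcomm : ρ ≫ χ = CommRingCat.ofHom (algebraMap k (Localization.Away h)) := by
    apply Spec.map_injective
    rw [Spec.map_comp, hχ, hρ, ← Category.assoc, hjB, Category.assoc, hφ, ← Category.assoc, hjW,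
      IsScalarTower.algebraMap_eq k P (Localization.Away h), CommRingCat.ofHom_comp, Spec.map_comp]
  let χ' : B →ₐ[k] Localization.Away h :=
    { χ.hom with commutes' := fun r => congrArg (fun m => m.hom r) hcomm }
  have hinj : Function.Injective χ' := by
    haveI : IsDominant jB := by
      haveI : IsDominant (jW ≫ φ) := by
        haveI : IsDominant jW := by
          haveI : IrreducibleSpace ↥(W : Scheme.{u}) := by
            haveI : IsIntegral (Spec (CommRingCat.of P)) := inferInstance
            haveI : Nonempty ↥(W : Scheme.{u}) := ⟨w⟩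
            haveI : IsIntegral (W : Scheme.{u}) := isIntegral_of_isOpenImmersion W.ι
            infer_instance
          refine ⟨(IsOpen.dense jW.isOpenEmbedding.isOpen_range ?_)⟩
          obtain ⟨z, hz⟩ : W.ι w ∈ Set.range jL.base := by
            rw [show Set.range jL.base = _ from PrimeSpectrum.localization_away_comap_range (Localization.Away h) h]
            exact hwh
          exact ⟨jW z, z, rfl⟩
        infer_instance
      rw [← hjB] at this
      exact IsDominant.of_comp_of_isOpenImmersion jB hV.fromSpec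
    have hd : DenseRange (PrimeSpectrum.comap χ.hom) := by
      have := jB.denseRange
      rw [← hχ] at this
      exact this
    rw [PrimeSpectrum.denseRange_comap_iff_ker_le_nilRadical, nilradical_eq_zero] at hd
    exact (RingHom.injective_iff_ker_eq_bot χ.hom).2 (le_bot_iff.1 hd)
  obtain ⟨m, h', φ', hh', hφ', hdim⟩ := exists_injective_dim k B n h hh χ' hinj
  let jL' : Spec (CommRingCat.of (Localization.Away h')) ⟶ Spec (CommRingCat.of (MvPolynomial (Fin m) k)) :=
    Spec.map (CommRingCat.ofHom (algebraMap _ (Localization.Away h')))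
  haveI : IsOpenImmersion jL' := IsOpenImmersion.of_isLocalization h'
  haveI : Nontrivial (Localization.Away h') :=
    (IsLocalization.isDomain_localization (powers_le_nonZeroDivisors_of_noZeroDivisors hh')).toNontrivial
  haveI : IsDominant (Spec.map (CommRingCat.ofHom φ'.toRingHom)) := ⟨by
    show DenseRange (PrimeSpectrum.comap φ'.toRingHom)
    rw [PrimeSpectrum.denseRange_comap_iff_ker_le_nilRadical, (RingHom.injective_iff_ker_eq_bot φ'.toRingHom).1 hφ']
    exact bot_le⟩
  haveI : IsDominant hV.fromSpec := ⟨IsOpen.dense hV.fromSpec.isOpenEmbedding.isOpen_range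
    ⟨genericPoint X, by rw [hV.range_fromSpec]; exact hVne⟩⟩
  refine ⟨m, jL'.opensRange, jL'.isoOpensRange.inv ≫ Spec.map (CommRingCat.ofHom φ'.toRingHom) ≫ hV.fromSpec,
    Set.range_nonempty _, inferInstance, ?_, ?_⟩
  · have e : CommRingCat.ofHom φ'.toRingHom = CommRingCat.ofHom φ'.toRingHom := rfl
    rw [Category.assoc, Category.assoc, ← hρ, ← Spec.map_comp, ← Scheme.Hom.isoOpensRange_inv_comp jL',
      Category.assoc, ← Spec.map_comp]
    congr 2
    ext r
    exact φ'.commutes r
  · rw [← hdim, ← DimFormulaLib.topologicalKrullDim_opens f V ⟨_, hVne⟩,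
      ← PrimeSpectrum.topologicalKrullDim_eq_ringKrullDim]
    exact (IsHomeomorph.topologicalKrullDim_eq _ (Scheme.homeoOfIso hV.isoSpec).isHomeomorph).symm

end Groth.Agent.S15700
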