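import Groth.Statements.S15702
import Groth.Agent.Comodule.ConnDomain
import Groth.Agent.GeomIrred.Basic

set_option autoImplicit false
universe u
open GLin

namespace Groth.Agent.S15702

open TensorProduct Groth.Agent.Comodule

set_option backward.isDefEq.respectTransparency false

/-- A semi-invariant of a connected group without characters acting on a variety is invariant. -/
theorem coact_eq_of_dvd {k : Type u} [Field k] [IsAlgClosed k] {A : Type u} [CommRing A] [HopfAlgebra k A]
    [Algebra.FiniteType k A] [IsDomain A] (hchar : ∀ a : A, IsGroupLikeElem k a → a = 1)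
    {B : Type u} [CommRing B] [Algebra k B] [Algebra.FiniteType k B] [IsDomain B]
    [HopfRep.Comod k A B] [GLin.IsCoactAlg k A B] {f : B} (hf : f ≠ 0)
    (hdvd : ∀ φ : A →ₐ[k] k, ∃ u : Bˣ, HopfRep.Comod.act k A B φ f = f * u) :
    ∀ φ : A →ₐ[k] k, HopfRep.Comod.act k A B φ f = f := by
  have hact : ∀ (φ : A →ₐ[k] k) (b : B), HopfRep.Comod.act k A B φ b =
      rcon φ.toLinearMap (HopfRep.Comod.coact (k := k) (A := A) b) := fun φ b => by
    simp only [HopfRep.Comod.act, LinearMap.comp_apply, rcon]
  -- the cocycle
  obtain ⟨U, hU⟩ : ∃ U : B ⊗[k] A, (f ⊗ₜ[k] (1 : A)) * U = HopfRep.Comod.coact (k := k) (A := A) f := by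
    let μ : B →ₗ[k] B := LinearMap.mulLeft k f
    let q : B →ₗ[k] B ⧸ LinearMap.range μ := (LinearMap.range μ).mkQ
    have hex : Function.Exact μ q := LinearMap.exact_map_mkQ_range μ
    have h0 : q.rTensor A (HopfRep.Comod.coact (k := k) (A := A) f) = 0 := by
      refine ext_lcon fun ψ => ?_
      rw [map_zero, lcon_rTensor]
      by_contra hne
      obtain ⟨φ, hφ⟩ := ConnDomain.exists_pt_of_not_isNilpotent (k := k)
        (fun hn => hne (isNilpotent_iff_eq_zero.1 hn))
      refine hφ ?_
      have e : ∀ z : B ⊗[k] A, φ (lcon (ψ ∘ₗ q) z) = ψ (q (rcon φ.toLinearMap z)) := by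
        intro z
        induction z with
        | zero => simp
        | add a b ha hb => simp only [map_add, ha, hb]
        | tmul a b => simp [lcon, rcon, mul_comm]
      obtain ⟨u, hu⟩ := hdvd φ
      rw [e, ← hact, hu, show q (f * u) = 0 from (Submodule.Quotient.mk_eq_zero _).2 ⟨(u : B), rfl⟩, map_zero]
    obtain ⟨U, hU⟩ := (rTensor_exact A hex (Submodule.mkQ_surjective _) _).1 h0
    refine ⟨U, ?_⟩
    rw [← hU]
    clear hU h0
    induction U with
    | zero => simp
    | add a b ha hb => simp only [mul_add, map_add, ha, hb]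
    | tmul a b => simp [μ, Algebra.TensorProduct.tmul_mul_tmul]
  let ev : ∀ φ : A →ₐ[k] k, B ⊗[k] A →ₐ[k] B := fun φ =>
    Algebra.TensorProduct.lift (AlgHom.id k B) ((Algebra.ofId k B).comp φ) fun _ _ => Commute.all _ _
  have hev : ∀ φ z, ev φ z = rcon φ.toLinearMap z := by
    intro φ z
    induction z with
    | zero => simp
    | add a b ha hb => simp only [map_add, ha, hb]
    | tmul a b => simp [ev, rcon, Algebra.smul_def, mul_comm]
  have hval : ∀ φ, f * ev φ U = HopfRep.Comod.act k A B φ f := fun φ => by
    rw [hact, ← hev, ← hU, map_mul]; simp [ev]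
  haveI : IsDomain (B ⊗[k] A) := Groth.Agent.GeomIrred.isDomain_tensor
  haveI : Algebra.FiniteType k (B ⊗[k] A) := Algebra.FiniteType.trans (S := B) inferInstance inferInstance
  have hunit : IsUnit U := by
    by_contra hn
    obtain ⟨q, hq, hUq⟩ := exists_max_ideal_of_mem_nonunits hn
    haveI := hq
    letI : Field ((B ⊗[k] A) ⧸ q) := Ideal.Quotient.field q
    haveI : Module.Finite k ((B ⊗[k] A) ⧸ q) := finite_of_finite_type_of_isJacobsonRing k _
    let e : k ≃ₐ[k] (B ⊗[k] A) ⧸ q :=
      AlgEquiv.ofBijective (Algebra.ofId k _) IsAlgClosed.algebraMap_bijective_of_isIntegral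
    let w : B ⊗[k] A →ₐ[k] k := e.symm.toAlgHom.comp (Ideal.Quotient.mkₐ k q)
    let b₀ : B →ₐ[k] k := w.comp Algebra.TensorProduct.includeLeft
    let φ₀ : A →ₐ[k] k := w.comp Algebra.TensorProduct.includeRight
    have hw : ∀ z, w z = b₀ (ev φ₀ z) := by
      intro z
      induction z with
      | zero => simp
      | add a b ha hb => simp only [map_add, ha, hb]
      | tmul a b =>
        have : a ⊗ₜ[k] b = (Algebra.TensorProduct.includeLeft : B →ₐ[k] B ⊗[k] A) a *
            (Algebra.TensorProduct.includeRight : A →ₐ[k] B ⊗[k] A) b := by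
          simp [Algebra.TensorProduct.tmul_mul_tmul]
        conv_lhs => rw [this, map_mul]
        show b₀ a * φ₀ b = b₀ (ev φ₀ (a ⊗ₜ[k] b))
        rw [show ev φ₀ (a ⊗ₜ[k] b) = a * algebraMap k B (φ₀ b) from
          Algebra.TensorProduct.lift_tmul _ _ _ _ _, map_mul, AlgHom.commutes]
        rfl
    obtain ⟨u, hu⟩ := hdvd φ₀
    have h1 : ev φ₀ U = u := mul_left_cancel₀ hf ((hval φ₀).trans hu)
    have h2 : w U = 0 := by simp [w, Ideal.Quotient.eq_zero_iff_mem.2 hUq]
    rw [hw, h1] at h2
    exact (u.isUnit.map b₀).ne_zero h2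
  have hε : ev (Bialgebra.counitAlgHom k A) U = 1 := by
    refine mul_left_cancel₀ hf ?_
    rw [hval, mul_one, hact]
    have hc := LinearMap.congr_fun (HopfRep.Comod.counit_comp (k := k) (A := A) (V := B)) f
    simp only [LinearMap.comp_apply] at hc
    simp only [rcon, LinearMap.comp_apply]
    rw [show (Bialgebra.counitAlgHom k A).toLinearMap = Coalgebra.counit from rfl, hc]
    simp
  obtain ⟨b₁, -⟩ := ClosedOrbit.exists_pt (k := k) (B := B) (I := ⊥) bot_ne_top
  let χ₀ : B ⊗[k] A →ₐ[k] A :=
    Algebra.TensorProduct.lift ((Algebra.ofId k A).comp b₁) (AlgHom.id k A) fun _ _ => Commute.all _ _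
  have hχε : Coalgebra.counit (R := k) (χ₀ U) = b₁ (ev (Bialgebra.counitAlgHom k A) U) := by
    generalize U = z
    induction z with
    | zero => simp
    | add a b ha hb => simp only [map_add, ha, hb]
    | tmul a b => simp [χ₀, ev, Algebra.smul_def, mul_comm]
  rw [hε, map_one] at hχε
  have hχ : χ₀ U = 1 := by
    have h := ConnDomain.comul_unit (k := k) (hunit.map χ₀).unit (by rw [(hunit.map χ₀).unit_spec]; exact hχε)
    rw [(hunit.map χ₀).unit_spec] at h
    exact hchar _ (IsGroupLikeElem.mk hχε h)
  have hone : hunit.unit = 1 :=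
    Groth.Agent.RosenlichtLib.unit_eq_one (A := B) (B := A) hunit.unit b₁ (Bialgebra.counitAlgHom k A)
      (by rw [hunit.unit_spec]; exact hε) (by rw [hunit.unit_spec]; exact hχ)
  intro φ
  rw [← hval, ← hunit.unit_spec, hone]
  simp


/-- Let k be algebraically closed of characteristic zero, let G be a connected linear algebraic group
over k without non-trivial characters acting on an integral affine k-variety Spec B of finite type
with B a unique factorisation domain; then the field of G-invariant rational functions is the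
fraction field of the ring of invariants B^G. In coordinate-ring form: A is a commutative Hopf
algebra of finite type over k, a domain, whose only group-like element is 1; B is a k-algebra of
finite type, a domain and a unique factorisation monoid, with a coaction of A that is an algebra
map; k-points φ : A →ₐ[k] k act on B through the coaction. If f, g ∈ B, g ≠ 0, satisfy (φ·f) g = f
(φ·g) for all φ, then f g' = f' g for some f', g' ∈ B fixed by all φ with g' ≠ 0. (The published
lemma allows G disconnected with character-free identity component; this row is the connected case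
treated first in its proof.) -/
theorem result (k : Type u) [Field k] [IsAlgClosed k] [CharZero k]
    (A : Type u) [CommRing A] [HopfAlgebra k A] [Algebra.FiniteType k A] [IsDomain A]
    (hchar : ∀ a : A, IsGroupLikeElem k a → a = 1)
    (B : Type u) [CommRing B] [Algebra k B] [Algebra.FiniteType k B] [IsDomain B] [UniqueFactorizationMonoid B]
    [HopfRep.Comod k A B] [GLin.IsCoactAlg k A B]
    (f g : B) (hg : g ≠ 0)
    (hinv : ∀ φ : A →ₐ[k] k, HopfRep.Comod.act k A B φ f * g = f * HopfRep.Comod.act k A B φ g) :
    ∃ f' g' : B, (∀ φ : A →ₐ[k] k, HopfRep.Comod.act k A B φ f' = f') ∧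
      (∀ φ : A →ₐ[k] k, HopfRep.Comod.act k A B φ g' = g') ∧ g' ≠ 0 ∧ f * g' = f' * g := by
  classical
  rcases eq_or_ne f 0 with rfl | hf
  · exact ⟨0, 1, fun φ => map_zero _, fun φ => by
      show HopfRep.Comod.act k A B φ 1 = 1
      simp [HopfRep.Comod.act, GLin.IsCoactAlg.coact_one, Algebra.TensorProduct.one_def], one_ne_zero, by simp⟩
  obtain ⟨a, b, c, hab, hca, hcb⟩ := UniqueFactorizationMonoid.exists_reduced_factors' f g hg
  have hc0 : c ≠ 0 := fun h => hg (by rw [← hcb, h, zero_mul])
  have ha0 : a ≠ 0 := fun h => hf (by rw [← hca, h, mul_zero])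
  have hb0 : b ≠ 0 := fun h => hg (by rw [← hcb, h, mul_zero])
  have hmul : ∀ (φ : A →ₐ[k] k) (x y : B), HopfRep.Comod.act k A B φ (x * y) =
      HopfRep.Comod.act k A B φ x * HopfRep.Comod.act k A B φ y := by
    intro φ x y
    simp only [HopfRep.Comod.act, LinearMap.comp_apply, GLin.IsCoactAlg.coact_mul]
    let E : B ⊗[k] A →ₐ[k] B :=
      Algebra.TensorProduct.lift (AlgHom.id k B) ((Algebra.ofId k B).comp φ) fun _ _ => Commute.all _ _
    have hE : ∀ z, E z = TensorProduct.rid k B (φ.toLinearMap.lTensor B z) := by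
      intro z
      induction z with
      | zero => simp
      | add p q hp hq => simp only [map_add, hp, hq]
      | tmul p q => simp [E, Algebra.smul_def, mul_comm]
    simp only [LinearEquiv.coe_coe, ← hE, map_mul]
  have hself : ∀ φ : A →ₐ[k] k, ∀ x : B, x ≠ 0 → HopfRep.Comod.act k A B φ x ≠ 0 := by
    intro φ x hx h0
    refine hx ?_
    have e : ∀ (ψ : A →ₐ[k] k) (z : B), HopfRep.Comod.act k A B ψ z = Groth.Agent.Comodule.dact ψ.toLinearMap z :=
      fun ψ z => by simp only [HopfRep.Comod.act, LinearMap.comp_apply, Groth.Agent.Comodule.dact,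
        Groth.Agent.Comodule.rcon]
    let ψ := φ.comp (HopfAlgebra.antipodeAlgHom k A)
    have h1 : HopfRep.Comod.act k A B ψ (HopfRep.Comod.act k A B φ x) = x := by
      rw [e, e, ← Groth.Agent.Comodule.dact_mul]
      have hh : (WithConv.toConv ψ.toLinearMap * WithConv.toConv φ.toLinearMap).ofConv =
          (1 : WithConv (A →ₗ[k] k)).ofConv := by
        refine LinearMap.ext fun d => ?_
        have := congrArg (fun z : WithConv (A →ₐ[k] k) => z.ofConv d) (Groth.Agent.Comodule.ConnDomain.comp_antipode φ).2
        simp only [AlgHom.convMul_apply, AlgHom.convOne_def, WithConv.ofConv_toConv] at this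
        rw [LinearMap.convMul_def, LinearMap.convOne_def]
        simp only [LinearMap.comp_apply, WithConv.ofConv_toConv]
        refine Eq.trans ?_ (this.trans (by simp))
        induction Coalgebra.comul (R := k) d with
        | zero => simp
        | add p q hp hq => simp only [map_add, hp, hq]
        | tmul p q => simp [ψ]
      rw [hh, Groth.Agent.Comodule.dact_one]
    rw [← h1, h0, map_zero]
  have hab' : ∀ φ, HopfRep.Comod.act k A B φ a * b = a * HopfRep.Comod.act k A B φ b := by
    intro φ
    refine mul_left_cancel₀ (mul_ne_zero hc0 (hself φ c hc0)) ?_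
    have := hinv φ
    rw [← hca, ← hcb, hmul, hmul] at this
    calc c * HopfRep.Comod.act k A B φ c * (HopfRep.Comod.act k A B φ a * b)
        = HopfRep.Comod.act k A B φ c * HopfRep.Comod.act k A B φ a * (c * b) := by ring
      _ = c * a * (HopfRep.Comod.act k A B φ c * HopfRep.Comod.act k A B φ b) := this
      _ = _ := by ring
  have hdvd : ∀ φ, a ∣ HopfRep.Comod.act k A B φ a := fun φ =>
    hab.dvd_of_dvd_mul_right ⟨HopfRep.Comod.act k A B φ b, hab' φ⟩
  have hunit : ∀ φ, ∃ u : Bˣ, HopfRep.Comod.act k A B φ a = a * u := by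
    intro φ
    obtain ⟨r, hr⟩ := hdvd φ
    have h2 := hab' φ
    rw [hr] at h2
    have hbr : HopfRep.Comod.act k A B φ b = r * b :=
      mul_left_cancel₀ ha0 (by rw [← h2]; ring)
    -- translating back shows that the cofactor is a unit
    let ψ := φ.comp (HopfAlgebra.antipodeAlgHom k A)
    obtain ⟨r', hr'⟩ := hdvd ψ
    have e : ∀ (ξ : A →ₐ[k] k) (z : B), HopfRep.Comod.act k A B ξ z = Groth.Agent.Comodule.dact ξ.toLinearMap z :=
      fun ξ z => by simp only [HopfRep.Comod.act, LinearMap.comp_apply, Groth.Agent.Comodule.dact,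
        Groth.Agent.Comodule.rcon]
    have h1 : HopfRep.Comod.act k A B ψ (HopfRep.Comod.act k A B φ a) = a := by
      rw [e, e, ← Groth.Agent.Comodule.dact_mul]
      have hh : (WithConv.toConv ψ.toLinearMap * WithConv.toConv φ.toLinearMap).ofConv =
          (1 : WithConv (A →ₗ[k] k)).ofConv := by
        refine LinearMap.ext fun d => ?_
        have := congrArg (fun z : WithConv (A →ₐ[k] k) => z.ofConv d) (Groth.Agent.Comodule.ConnDomain.comp_antipode φ).2
        simp only [AlgHom.convMul_apply, AlgHom.convOne_def, WithConv.ofConv_toConv] at this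
        rw [LinearMap.convMul_def, LinearMap.convOne_def]
        simp only [LinearMap.comp_apply, WithConv.ofConv_toConv]
        refine Eq.trans ?_ (this.trans (by simp))
        induction Coalgebra.comul (R := k) d with
        | zero => simp
        | add p q hp hq => simp only [map_add, hp, hq]
        | tmul p q => simp [ψ]
      rw [hh, Groth.Agent.Comodule.dact_one]
    rw [hr, hmul, hr'] at h1
    have hu : r' * HopfRep.Comod.act k A B ψ r = 1 := mul_left_cancel₀ ha0 (by rw [mul_one, ← mul_assoc]; exact h1)
    -- apply `φ` once more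
    have hu2 : IsUnit r := by
      have h3 := congrArg (HopfRep.Comod.act k A B φ) hu
      rw [hmul] at h3
      have h4 : HopfRep.Comod.act k A B φ (HopfRep.Comod.act k A B ψ r) = r := by
        rw [e, e, ← Groth.Agent.Comodule.dact_mul]
        have hh : (WithConv.toConv φ.toLinearMap * WithConv.toConv ψ.toLinearMap).ofConv =
            (1 : WithConv (A →ₗ[k] k)).ofConv := by
          refine LinearMap.ext fun d => ?_
          have := congrArg (fun z : WithConv (A →ₐ[k] k) => z.ofConv d) (Groth.Agent.Comodule.ConnDomain.comp_antipode φ).1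
          simp only [AlgHom.convMul_apply, AlgHom.convOne_def, WithConv.ofConv_toConv] at this
          rw [LinearMap.convMul_def, LinearMap.convOne_def]
          simp only [LinearMap.comp_apply, WithConv.ofConv_toConv]
          refine Eq.trans ?_ (this.trans (by simp))
          induction Coalgebra.comul (R := k) d with
          | zero => simp
          | add p q hp hq => simp only [map_add, hp, hq]
          | tmul p q => simp [ψ]
        rw [hh, Groth.Agent.Comodule.dact_one]
      rw [h4, show HopfRep.Comod.act k A B φ 1 = 1 by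
        simp [HopfRep.Comod.act, GLin.IsCoactAlg.coact_one, Algebra.TensorProduct.one_def]] at h3
      exact IsUnit.of_mul_eq_one _ (by rw [mul_comm]; exact h3)
    exact ⟨hu2.unit, by rw [hu2.unit_spec]; exact hr⟩
  have ha : ∀ φ, HopfRep.Comod.act k A B φ a = a := coact_eq_of_dvd hchar ha0 hunit
  refine ⟨a, b, ha, fun φ => ?_, hb0, by rw [← hca, ← hcb]; ring⟩
  exact (mul_left_cancel₀ ha0 (by rw [← hab' φ, ha φ])).symm

end Groth.Agent.S15702
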