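import Groth.Statements.S15704
import Groth.Agent.SpecialBirLib.Main
import Groth.Agent.S3279

set_option autoImplicit false
set_option backward.isDefEq.respectTransparency false
set_option backward.isDefEq.respectTransparency.types false
universe u
open CategoryTheory CategoryTheory.Limits MonoidalCategory CartesianMonoidalCategory MonObj GrpObj AlgebraicGeometry
open AGF

namespace Groth.Agent.S15704

/-- Let G be a linear algebraic group over a field k of characteristic zero, contained as a closed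
subgroup in two special groups G₁, G₂ whose underlying varieties are k-rational; then G₁/G and G₂/G
are stably k-birationally equivalent. Here G, G₁, G₂ are affine group schemes of finite type over k
with homomorphic closed immersions G → G_j; 'special' is spelled out: for every action of G_j on a
k-scheme X of finite type and every faithfully flat k-morphism p : X → Y to a k-scheme of finite
type such that (g, x) ↦ (g·x, x) makes G_j × X the fibre product X ×_Y X, every point of Y has an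
open neighbourhood over which p has a section; 'k-rational' is birationality over k with an affine
space; Q_j with its G_j-action and base point is a quotient G_j/G; the conclusion is that Q₁ ×_k
Spec k[x_1, ..., x_r] and Q₂ ×_k Spec k[x_1, ..., x_s] are birational over k for some r, s. -/
theorem result (k : Type u) [Field k] [CharZero k]
    (G G₁ G₂ : Over (Spec (CommRingCat.of k))) [GrpObj G] [GrpObj G₁] [GrpObj G₂]
    [IsAffine G.left] [IsAffine G₁.left] [IsAffine G₂.left]
    [LocallyOfFiniteType G.hom] [LocallyOfFiniteType G₁.hom] [LocallyOfFiniteType G₂.hom]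
    (i₁ : G ⟶ G₁) (i₂ : G ⟶ G₂) [IsMonHom i₁] [IsMonHom i₂]
    [IsClosedImmersion i₁.left] [IsClosedImmersion i₂.left]
    (hsp₁ : (∀ (X' Y' : Over (Spec (CommRingCat.of k))) (a : AlgGrp.Action G₁ X') (p : X' ⟶ Y'),
      LocallyOfFiniteType X'.hom → QuasiCompact X'.hom → LocallyOfFiniteType Y'.hom → QuasiCompact Y'.hom →
      Flat p.left → Surjective p.left → IsPullback a.act.left (snd G₁ X').left p.left p.left →
      ∀ y : ↥Y'.left, ∃ (W : Y'.left.Opens) (s : (W : Scheme.{u}) ⟶ X'.left), y ∈ W ∧ s ≫ p.left = W.ι))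
    (hsp₂ : (∀ (X' Y' : Over (Spec (CommRingCat.of k))) (a : AlgGrp.Action G₂ X') (p : X' ⟶ Y'),
      LocallyOfFiniteType X'.hom → QuasiCompact X'.hom → LocallyOfFiniteType Y'.hom → QuasiCompact Y'.hom →
      Flat p.left → Surjective p.left → IsPullback a.act.left (snd G₂ X').left p.left p.left →
      ∀ y : ↥Y'.left, ∃ (W : Y'.left.Opens) (s : (W : Scheme.{u}) ⟶ X'.left), y ∈ W ∧ s ≫ p.left = W.ι))
    [Scheme.IsRationalOver G₁.hom] [Scheme.IsRationalOver G₂.hom]
    (Q₁ Q₂ : Over (Spec (CommRingCat.of k))) (a₁ : AlgGrp.Action G₁ Q₁) (a₂ : AlgGrp.Action G₂ Q₂)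
    (o₁ : 𝟙_ (Over (Spec (CommRingCat.of k))) ⟶ Q₁) (o₂ : 𝟙_ (Over (Spec (CommRingCat.of k))) ⟶ Q₂)
    (hQ₁ : AGF.IsQuotient i₁ Q₁ a₁ o₁) (hQ₂ : AGF.IsQuotient i₂ Q₂ a₂ o₂) :
    ∃ r s : ℕ, Scheme.BirationalOver
      (pullback.fst Q₁.hom (Spec.map (CommRingCat.ofHom (algebraMap k (MvPolynomial (Fin r) k)))) ≫ Q₁.hom)
      (pullback.fst Q₂.hom (Spec.map (CommRingCat.ofHom (algebraMap k (MvPolynomial (Fin s) k)))) ≫ Q₂.hom) := by
  haveI : LocallyOfFiniteType (G₁ ⊗ G₂).hom := by
    rw [← Over.w (fst G₁ G₂)]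
    haveI : LocallyOfFiniteType (fst G₁ G₂).left :=
      MorphismProperty.pullback_fst (P := @LocallyOfFiniteType) G₁.hom G₂.hom ‹_›
    infer_instance
  haveI : IsAffine (G₁ ⊗ G₂).left :=
    inferInstanceAs (IsAffine (CategoryTheory.Limits.pullback G₁.hom G₂.hom))
  haveI : Mono i₁ := (Over.forget _).mono_of_mono_map (inferInstanceAs (Mono i₁.left))
  haveI : IsMonHom (lift i₁ i₂ : G ⟶ G₁ ⊗ G₂) := Groth.Agent.SpecialBir.isMonHom_lift i₁ i₂
  haveI : Mono (lift i₁ i₂ : G ⟶ G₁ ⊗ G₂) := by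
    have : Mono (lift i₁ i₂ ≫ fst G₁ G₂) := by rw [lift_fst]; infer_instance
    exact mono_of_mono (lift i₁ i₂) (fst G₁ G₂)
  obtain ⟨X, A, o, h1, h2, h3, h4, h5⟩ := Groth.Agent.S3279.result k (G₁ ⊗ G₂) G (lift i₁ i₂)
  haveI := h1; haveI := h2; haveI := h3; haveI := h4
  obtain ⟨r, hr⟩ := Groth.Agent.SpecialBir.birationalOver_quot i₁ i₂ hsp₂ A o h5 Q₁ a₁ o₁ hQ₁
  obtain ⟨A', h3', h4', h5'⟩ := Groth.Agent.SpecialBir.exists_swap i₁ i₂ A o h5
  haveI := h3'; haveI := h4'
  obtain ⟨s, hs⟩ := Groth.Agent.SpecialBir.birationalOver_quot i₂ i₁ hsp₁ A' o h5' Q₂ a₂ o₂ hQ₂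
  exact ⟨r, s, hr.symm.trans hs⟩

end Groth.Agent.S15704
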