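import Groth.Statements.S15705
import Groth.Agent.LieKolchin.Points
-- import your own Groth.Agent.* helpers here

set_option autoImplicit false
universe u
open GLin

namespace Groth.Agent.S15705

/-- Let k be algebraically closed of characteristic zero, G a linear algebraic group and X a factorial
affine G-variety with k[X]* = k*; then there is a G-invariant affine open U of X such that the field
of G-invariant rational functions is the fraction field of k[U]^G. In coordinate-ring form: A is a
commutative Hopf algebra of finite type over k coacting by an algebra map on B, a finitely generated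
k-algebra which is a domain and a unique factorisation monoid all of whose units are scalars;
k-points φ : A →ₐ[k] k of G act on B through the coaction. Conclusion: there is h ≠ 0 in B with D(h)
stable under every φ (φ·h divides a power of h) such that whenever a, b ∈ B, b ≠ 0, satisfy (φ·a) b
= a (φ·b) for all φ (the fraction a/b is invariant), there are c, d ∈ B and exponents r, t with d ≠
0, with c/h^r and d/h^t invariant in B[1/h] — that is (φ·c) h^r = c (φ·h)^r and (φ·d) h^t = d
(φ·h)^t for all φ — and a d h^r = b c h^t (so a/b = (c/h^r)/(d/h^t)). -/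
theorem result (k : Type u) [Field k] [IsAlgClosed k] [CharZero k]
    (A : Type u) [CommRing A] [HopfAlgebra k A] [Algebra.FiniteType k A]
    (B : Type u) [CommRing B] [Algebra k B] [Algebra.FiniteType k B] [IsDomain B] [UniqueFactorizationMonoid B]
    (hunits : ∀ u : Bˣ, ∃ c : k, algebraMap k B c = u)
    [HopfRep.Comod k A B] [GLin.IsCoactAlg k A B] :
    ∃ h : B, h ≠ 0 ∧ (∀ φ : A →ₐ[k] k, ∃ (N : ℕ) (u : B), HopfRep.Comod.act k A B φ h * u = h ^ N) ∧
      ∀ a b : B, b ≠ 0 → (∀ φ : A →ₐ[k] k, HopfRep.Comod.act k A B φ a * b = a * HopfRep.Comod.act k A B φ b) →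
        ∃ (c d : B) (r t : ℕ), d ≠ 0 ∧
          (∀ φ : A →ₐ[k] k, HopfRep.Comod.act k A B φ c * h ^ r = c * (HopfRep.Comod.act k A B φ h) ^ r) ∧
          (∀ φ : A →ₐ[k] k, HopfRep.Comod.act k A B φ d * h ^ t = d * (HopfRep.Comod.act k A B φ h) ^ t) ∧
          a * d * h ^ r = b * c * h ^ t := by
  classical
  let G := WithConv (A →ₐ[k] k)
  let ρ : G →* Module.End k B := Groth.Agent.LieKolchin.actHom k A B
  have hρ : ∀ (φ : A →ₐ[k] k) (b : B), HopfRep.Comod.act k A B φ b = ρ (WithConv.toConv φ) b := by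
    intro φ b
    rw [show ρ (WithConv.toConv φ) = HopfRep.Comod.act k A B φ from
      Groth.Agent.LieKolchin.actHom_eq_act _]
  -- the action is by ring maps
  have hact : ∀ (g : G) (b : B), ρ g b = Algebra.TensorProduct.lift (AlgHom.id k B)
      ((Algebra.ofId k B).comp g.ofConv) (fun _ _ => Commute.all _ _) (GLin.coactAlgHom k A B b) := by
    intro g b
    rw [show ρ g = HopfRep.Comod.act k A B g.ofConv from Groth.Agent.LieKolchin.actHom_eq_act g]
    simp only [HopfRep.Comod.act, LinearMap.comp_apply, GLin.coactAlgHom_apply]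
    induction HopfRep.Comod.coact (k := k) (A := A) b with
    | zero => simp
    | add p q hp hq => simp only [map_add, hp, hq]
    | tmul p q =>
      rw [Algebra.TensorProduct.lift_tmul]
      simp [Algebra.smul_def, Algebra.ofId_apply, mul_comm]
  have hmul : ∀ g a b, ρ g (a * b) = ρ g a * ρ g b := fun g a b => by
    simp only [hact, map_mul]
  have hone : ∀ g, ρ g 1 = 1 := fun g => by simp only [hact, map_one]
  have hpow : ∀ g b (n : ℕ), ρ g (b ^ n) = ρ g b ^ n := fun g b n => by simp only [hact, map_pow]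
  have hsplit : ∀ g b, ρ g⁻¹ (ρ g b) = b := fun g b => by
    rw [← Module.End.mul_apply, ← map_mul, inv_mul_cancel, map_one, Module.End.one_apply]
  have hinj : ∀ g b, b ≠ 0 → ρ g b ≠ 0 := fun g b hb h => hb (by
    rw [← hsplit g b, h, map_zero])
  -- weights
  let IsW : (G → k) → B → Prop := fun χ a => a ≠ 0 ∧ ∀ g, ρ g a = χ g • a
  have hWne : ∀ χ a, IsW χ a → ∀ g, χ g ≠ 0 := fun χ a h g h0 => hinj g a h.1 (by
    rw [h.2, h0, zero_smul])
  have hWmul : ∀ χ a χ' a', IsW χ a → IsW χ' a' → IsW (χ * χ') (a * a') := by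
    intro χ a χ' a' h h'
    refine ⟨mul_ne_zero h.1 h'.1, fun g => ?_⟩
    rw [hmul, h.2, h'.2, Pi.mul_apply, smul_mul_smul_comm]
  have hWone : IsW 1 1 := ⟨one_ne_zero, fun g => by rw [hone, Pi.one_apply, one_smul]⟩
  have hWpow : ∀ χ a, IsW χ a → ∀ n : ℕ, IsW (χ ^ n) (a ^ n) := by
    intro χ a h n
    induction n with
    | zero => simpa using hWone
    | succ n ih => rw [pow_succ, pow_succ]; exact hWmul _ _ _ _ ih h
  have hWprod : ∀ {r : ℕ} (x : Fin r → G → k) (s : Fin r → B), (∀ i, IsW (x i) (s i)) →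
      ∀ e : Fin r → ℕ, IsW (∏ i, x i ^ e i) (∏ i, s i ^ e i) := by
    intro r x s h e
    induction (Finset.univ : Finset (Fin r)) using Finset.induction_on with
    | empty => simpa using hWone
    | insert i t hi ih =>
      rw [Finset.prod_insert hi, Finset.prod_insert hi]
      exact hWmul _ _ _ _ (hWpow _ _ (h i) _) ih
  have hWhom : ∀ χ a, IsW χ a → ∃ f : G →* k, ⇑f = χ := by
    intro χ a h
    refine ⟨⟨⟨χ, smul_left_injective k h.1 ?_⟩, fun g g' => smul_left_injective k h.1 ?_⟩, rfl⟩
    · show χ 1 • a = (1 : k) • a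
      rw [← h.2, map_one, Module.End.one_apply, one_smul]
    · show χ (g * g') • a = (χ g * χ g') • a
      rw [← h.2, map_mul, Module.End.mul_apply, h.2 g', map_smul, h.2, smul_smul, mul_comm]
  let ev : A →ₐ[k] (G → k) := AlgHom.pi fun g => g.ofConv
  have hWev : ∀ χ a, IsW χ a → ∃ y : A, ev y = χ := by
    intro χ a h
    obtain ⟨l, hl⟩ := Module.Projective.exists_dual_ne_zero k h.1
    obtain ⟨y, hy⟩ := Groth.Agent.LieKolchin.coef_mem (k := k) (A := A) (V := B) ((l a)⁻¹ • l) a
    refine ⟨y, funext fun g => ?_⟩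
    have := congrFun hy g
    change g.ofConv y = ((l a)⁻¹ • l) (ρ g a) at this
    show g.ofConv y = χ g
    rw [this, h.2, map_smul, LinearMap.smul_apply, smul_eq_mul, smul_eq_mul,
      inv_mul_cancel₀ hl, mul_one]
  -- a bound for algebraically independent weights
  obtain ⟨n, f, hf⟩ := Algebra.FiniteType.iff_quotient_mvPolynomial''.mp
    (inferInstance : Algebra.FiniteType k A)
  have hbound : ∀ (r : ℕ) (x : Fin r → G → k) (s : Fin r → B), (∀ i, IsW (x i) (s i)) →
      AlgebraicIndependent k x → r ≤ n := by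
    intro r x s hs hx
    choose y hy using fun i => hWev _ _ (hs i)
    have h1 : AlgebraicIndependent k y := AlgebraicIndependent.of_comp ev (by
      have : (⇑ev ∘ y) = x := funext hy
      rw [this]; exact hx)
    have h2 := h1.lift_cardinalMk_le_trdeg
    have h3 := lift_trdeg_le_of_surjective f hf
    simp only [Cardinal.mk_fin, Cardinal.lift_natCast, MvPolynomial.trdeg_of_isDomain,
      Cardinal.lift_id', Cardinal.lift_id] at h2 h3
    exact_mod_cast h2.trans h3
  let P : ℕ → Prop := fun r => ∃ (x : Fin r → G → k) (s : Fin r → B),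
    (∀ i, IsW (x i) (s i)) ∧ AlgebraicIndependent k x
  have hP0 : P 0 := ⟨finZeroElim, finZeroElim, fun i => i.elim0,
    algebraicIndependent_empty_type_iff.mpr fun a b hab => congrFun hab 1⟩
  let r := Nat.findGreatest P n
  obtain ⟨x, s, hs, hx⟩ : P r := Nat.findGreatest_spec (Nat.zero_le n) hP0
  have hdep : ∀ χ a, IsW χ a → ∃ (N : ℕ) (u v : Fin r → ℕ), 1 ≤ N ∧
      χ ^ N * ∏ i, x i ^ u i = ∏ i, x i ^ v i := by
    intro χ a ha
    let x' : Fin (r + 1) → G → k := Fin.cons χ x
    let s' : Fin (r + 1) → B := Fin.cons a s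
    have hs' : ∀ i, IsW (x' i) (s' i) := Fin.cases ha hs
    have hnot : ¬ AlgebraicIndependent k x' := fun h => by
      have h1 : r + 1 ≤ n := hbound _ x' s' hs' h
      have h2 : r + 1 ≤ r := Nat.le_findGreatest h1 ⟨x', s', hs', h⟩
      omega
    obtain ⟨e, e', hne, he⟩ : ∃ e e' : Fin (r + 1) →₀ ℕ, e ≠ e' ∧
        (∏ i, x' i ^ e i) = ∏ i, x' i ^ e' i := by
      by_contra hc
      push Not at hc
      apply hnot
      rw [algebraicIndependent_iff]
      intro p hp
      choose F hF using fun e : Fin (r + 1) →₀ ℕ => hWhom _ _ (hWprod x' s' hs' e)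
      have hFinj : Function.Injective F := fun e e' h => by
        by_contra hee
        exact hc e e' hee (by rw [← hF e, ← hF e', h])
      have hli := (linearIndependent_monoidHom G k).comp F hFinj
      rw [linearIndependent_iff'] at hli
      have h0 := hli p.support (fun e => p.coeff e) (by
        rw [← hp, MvPolynomial.aeval_def, MvPolynomial.eval₂_eq']
        refine Finset.sum_congr rfl fun e _ => ?_
        rw [Function.comp_apply, hF, Algebra.smul_def])
      ext e
      by_cases hee : e ∈ p.support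
      · simpa using h0 e hee
      · simpa using hee
    rw [Fin.prod_univ_succ, Fin.prod_univ_succ] at he
    simp only [x', Fin.cons_zero, Fin.cons_succ] at he
    have key : ∀ e e' : Fin (r + 1) →₀ ℕ, e' 0 < e 0 →
        χ ^ e 0 * ∏ i : Fin r, x i ^ e i.succ = χ ^ e' 0 * ∏ i : Fin r, x i ^ e' i.succ →
        ∃ (N : ℕ) (u v : Fin r → ℕ), 1 ≤ N ∧ χ ^ N * ∏ i, x i ^ u i = ∏ i, x i ^ v i := by
      intro e e' hlt he
      refine ⟨e 0 - e' 0, fun (i : Fin r) => e i.succ, fun (i : Fin r) => e' i.succ, by omega, funext fun g => ?_⟩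
      have h1 := congrFun he g
      have h2 : χ g ^ e 0 = χ g ^ e' 0 * χ g ^ (e 0 - e' 0) := by
        rw [← pow_add]; congr 1; omega
      simp only [Pi.mul_apply, Pi.pow_apply, h2, mul_assoc] at h1 ⊢
      exact mul_left_cancel₀ (pow_ne_zero _ (hWne _ _ ha g)) h1
    rcases lt_trichotomy (e' 0) (e 0) with hlt | heq | hgt
    · exact key e e' hlt he
    · exfalso
      have h1 : (∏ i : Fin r, x i ^ e i.succ) = ∏ i : Fin r, x i ^ e' i.succ := funext fun g => by
        have := congrFun he g
        rw [heq] at this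
        simp only [Pi.mul_apply, Pi.pow_apply] at this ⊢
        exact mul_left_cancel₀ (pow_ne_zero _ (hWne _ _ ha g)) this
      have h2 : MvPolynomial.monomial (Finsupp.equivFunOnFinite.symm fun (i : Fin r) => e i.succ) (1 : k) =
          MvPolynomial.monomial (Finsupp.equivFunOnFinite.symm fun (i : Fin r) => e' i.succ) (1 : k) := by
        apply hx
        simp only [MvPolynomial.aeval_monomial, map_one, one_mul]
        rw [Finsupp.prod_fintype _ _ (fun i => pow_zero _), Finsupp.prod_fintype _ _ (fun i => pow_zero _)]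
        exact h1
      have h3 := MvPolynomial.monomial_left_injective one_ne_zero h2
      apply hne
      ext i
      refine Fin.cases heq.symm (fun j => ?_) i
      exact congrFun (Finsupp.equivFunOnFinite.symm.injective h3) j
    · exact key e' e hgt he.symm
  -- the open set
  set h : B := ∏ i, s i with hh
  have hhW : IsW (∏ i, x i) h := by simpa using hWprod x s hs (fun _ => 1)
  refine ⟨h, hhW.1, fun φ => ⟨1, algebraMap k B ((∏ i, x i) (WithConv.toConv φ))⁻¹, ?_⟩, ?_⟩
  · rw [hρ, hhW.2, pow_one, Algebra.smul_def, mul_comm, ← mul_assoc, ← map_mul,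
      inv_mul_cancel₀ (hWne _ _ hhW _), map_one, one_mul]
  intro a b hb hab
  by_cases ha : a = 0
  · refine ⟨0, 1, 0, 0, one_ne_zero, fun φ => by simp [hρ], fun φ => by simp [hρ, hone], by simp [ha]⟩
  obtain ⟨a', b', c', hrel, rfl, rfl⟩ :=
    UniqueFactorizationMonoid.exists_reduced_factors a ha b
  have hc' : c' ≠ 0 := left_ne_zero_of_mul ha
  have hb' : b' ≠ 0 := right_ne_zero_of_mul hb
  have ha' : a' ≠ 0 := right_ne_zero_of_mul ha
  have hinv : ∀ g, ρ g a' * b' = a' * ρ g b' := by
    intro g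
    have h1 := hab g.ofConv
    rw [hρ, hρ, WithConv.toConv_ofConv, hmul, hmul] at h1
    apply mul_left_cancel₀ (mul_ne_zero (hinj g c' hc') hc')
    linear_combination h1
  have hdvd : ∀ g, b' ∣ ρ g b' := fun g =>
    hrel.symm.dvd_of_dvd_mul_left ⟨ρ g a', by rw [← hinv, mul_comm]⟩
  have hsc : ∀ g, ∃ c : k, ρ g b' = c • b' := by
    intro g
    obtain ⟨w, hw⟩ := hdvd g
    obtain ⟨w', hw'⟩ := hdvd g⁻¹
    have h1 : b' * (w' * ρ g⁻¹ w) = b' * 1 := by
      rw [← mul_assoc, ← hw', ← hmul, ← hw, hsplit, mul_one]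
    have h2 : ρ g⁻¹⁻¹ (ρ g⁻¹ w) = w := hsplit _ _
    have h3 := congrArg (ρ g) (mul_left_cancel₀ hb' h1)
    rw [inv_inv] at h2
    rw [hmul, h2, hone] at h3
    obtain ⟨c, hc⟩ := hunits (Units.mkOfMulEqOne w (ρ g w') (by rw [mul_comm]; exact h3))
    exact ⟨c, by rw [hw, Algebra.smul_def, hc, mul_comm]; rfl⟩
  choose χ hχ using hsc
  have hbW : IsW χ b' := ⟨hb', hχ⟩
  have haW : IsW χ a' := ⟨ha', fun g => by
    apply mul_right_cancel₀ hb'
    rw [hinv, hχ, mul_smul_comm, smul_mul_assoc]⟩
  obtain ⟨N, u, v, hN, huv⟩ := hdep χ b' hbW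
  set t := Finset.univ.sup v with ht
  set e : Fin r → ℕ := fun i => u i + (t - v i) with he
  set E : B := ∏ i, s i ^ e i
  have hEW : IsW (∏ i, x i ^ e i) E := hWprod x s hs e
  have hw : χ ^ N * ∏ i, x i ^ e i = (∏ i, x i) ^ t := by
    rw [← Finset.prod_pow]
    simp only [he, pow_add, Finset.prod_mul_distrib]
    rw [← mul_assoc, huv, ← Finset.prod_mul_distrib]
    refine Finset.prod_congr rfl fun i hi => ?_
    rw [← pow_add]; congr 1
    have : v i ≤ t := Finset.le_sup hi
    omega
  have hfin : ∀ z, IsW ((∏ i, x i) ^ t) z → ∀ φ : A →ₐ[k] k,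
      HopfRep.Comod.act k A B φ z * h ^ t = z * (HopfRep.Comod.act k A B φ h) ^ t := by
    intro z hz φ
    rw [hρ, hρ, hz.2, hhW.2, smul_pow, smul_mul_assoc, mul_smul_comm]
    rfl
  have hN' : N = (N - 1) + 1 := by omega
  refine ⟨a' * b' ^ (N - 1) * E, b' ^ N * E, t, t, mul_ne_zero (pow_ne_zero _ hb') hEW.1,
    hfin _ ?_, hfin _ ?_, ?_⟩
  · rw [← hw]
    refine hWmul _ _ _ _ ?_ hEW
    rw [hN', pow_succ', Nat.add_sub_cancel]
    exact hWmul _ _ _ _ haW (hWpow _ _ hbW _)
  · rw [← hw]
    exact hWmul _ _ _ _ (hWpow _ _ hbW _) hEW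
  · conv_lhs => rw [hN', pow_succ]
    ring

end Groth.Agent.S15705
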