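import Groth.Statements.S15706
import Mathlib

set_option autoImplicit false
universe u
open CAlg

namespace Groth.Agent.S15706

/-- Let A be a Noetherian ring with Serre's property (S_1), stated here in the equivalent form that
every associated prime of A is a minimal prime of A. Let I be an ideal of A and b an element of A/I
which is regular (a non-zero-divisor) in A/I. Then b is the image of a regular element of A. -/
theorem result (A : Type u) [CommRing A]
    [IsNoetherianRing A] (hS1 : ∀ p ∈ associatedPrimes A A, p ∈ minimalPrimes A) (I : Ideal A)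
    (b : A ⧸ I) (hb : b ∈ nonZeroDivisors (A ⧸ I)) :
    ∃ a : A, a ∈ nonZeroDivisors A ∧ Ideal.Quotient.mk I a = b := by
  classical
  obtain ⟨b, rfl⟩ := Ideal.Quotient.mk_surjective b
  have hfin := minimalPrimes.finite_of_isNoetherianRing A
  let P := hfin.toFinset
  let S := P.filter fun p => b ∈ p
  let T := P.filter fun p => b ∉ p
  have hprime : ∀ p ∈ P, p.IsPrime := fun p hp => (hfin.mem_toFinset.mp hp).1.1
  have hI : ∀ p ∈ S, ¬ I ≤ p := by
    intro p hp hle
    obtain ⟨hpP, hbp⟩ := Finset.mem_filter.mp hp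
    have := hprime p hpP
    have hpm := hfin.mem_toFinset.mp hpP
    have hmin : p ∈ (Module.annihilator A (A ⧸ I)).minimalPrimes := by
      rw [Ideal.annihilator_quotient]
      exact ⟨⟨this, hle⟩, fun q hq hqp => hpm.2 ⟨hq.1, bot_le⟩ hqp⟩
    obtain ⟨-, xb, hx⟩ := isAssociatedPrime_iff.mp (Module.associatedPrimes.minimalPrimes_annihilator_subset_associatedPrimes A (A ⧸ I) hmin)
    rw [hx, Submodule.mem_colon_singleton, Submodule.mem_bot, Algebra.smul_def, Ideal.Quotient.algebraMap_eq] at hbp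
    have hx0 : xb = 0 := (mem_nonZeroDivisors_iff_right.mp hb) xb (by rw [mul_comm, hbp])
    exact this.ne_top ((Ideal.eq_top_iff_one _).mpr (by rw [hx, Submodule.mem_colon_singleton]; simp [hx0]))
  obtain ⟨J, hJdef⟩ : ∃ J : Ideal A, J = I * ∏ p ∈ T, p := ⟨_, rfl⟩
  have hJ : ∀ p ∈ S, ¬ J ≤ p := by
    intro p hp hle
    obtain ⟨hpP, hbp⟩ := Finset.mem_filter.mp hp
    have := hprime p hpP
    rw [hJdef] at hle
    rcases this.mul_le.mp hle with h | h
    · exact hI p hp h
    · obtain ⟨q, hq, hqp⟩ := this.prod_le.mp h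
      obtain ⟨hqP, hbq⟩ := Finset.mem_filter.mp hq
      exact hbq ((hfin.mem_toFinset.mp hpP).2 ⟨hprime q hqP, bot_le⟩ hqp hbp)
  obtain ⟨i, hiJ, hi⟩ : ∃ i ∈ J, ∀ p ∈ S, i ∉ p := by
    by_contra! hcon
    rcases S.eq_empty_or_nonempty with hS | ⟨p₀, hp₀⟩
    · obtain ⟨p, hp, -⟩ := hcon 0 (zero_mem _); simp [hS] at hp
    obtain ⟨p, hp, hle⟩ := (Ideal.subset_union_prime p₀ p₀ (fun p hp _ _ => hprime p (Finset.mem_filter.mp hp).1)).mp
      (show (J : Set A) ⊆ ⋃ p ∈ (S : Set (Ideal A)), (p : Set A) from fun x hx => by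
        obtain ⟨p, hp, hxp⟩ := hcon x hx; exact Set.mem_biUnion hp hxp)
    exact hJ p hp hle
  rw [hJdef] at hiJ
  have hiI : i ∈ I := (Ideal.mul_le_left : I * ∏ p ∈ T, p ≤ I) hiJ
  refine ⟨b + i, ?_, by rw [map_add, Ideal.Quotient.eq_zero_iff_mem.mpr hiI, add_zero]⟩
  have hnot : ∀ p ∈ P, b + i ∉ p := by
    intro p hp
    by_cases hbp : b ∈ p
    · intro h; exact hi p (Finset.mem_filter.mpr ⟨hp, hbp⟩) ((Ideal.add_mem_iff_right p hbp).mp h)
    · intro h
      have hpT : p ∈ T := Finset.mem_filter.mpr ⟨hp, hbp⟩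
      have hle : ∏ q ∈ T, q ≤ p := le_trans Ideal.prod_le_inf (Finset.inf_le hpT)
      have hip : i ∈ p := hle ((Ideal.mul_le_right : I * ∏ q ∈ T, q ≤ ∏ q ∈ T, q) hiJ)
      exact hbp ((Ideal.add_mem_iff_left p hip).mp h)
  by_contra hc
  obtain ⟨p, hp, hbi⟩ : ∃ p ∈ associatedPrimes A A, b + i ∈ p := by
    have : b + i ∈ ⋃ p ∈ associatedPrimes A A, (p : Set A) := by
      rw [biUnion_associatedPrimes_eq_compl_nonZeroDivisors]; exact hc
    simpa using this
  exact hnot p (hfin.mem_toFinset.mpr (hS1 p hp)) hbi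

end Groth.Agent.S15706
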