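import Groth.Statements.S15712
import Groth.Agent.RatDense.Basic
import Groth.Agent.FlatDepth.Basic
-- import your own Groth.Agent.* helpers here

set_option autoImplicit false
universe u
open CategoryTheory AlgebraicGeometry TopologicalSpace
open RatSing

namespace Groth.Agent.S15712

/-- Let X be a locally Noetherian scheme with Serre's property (S_1), i.e. every local ring O_{X,x} has
depth at least min(1, dim O_{X,x}) (for instance X Cohen–Macaulay), and let U ⊆ X be open. Then
scheme-theoretic density of U in X is equivalent to U being dense as a subset. (The published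
statement assumes every scheme excellent, in particular locally Noetherian.) -/
theorem result (X : Scheme.{u}) [IsLocallyNoetherian X]
    (hS1 : ∀ x : X, min (1 : WithBot ℕ∞) (ringKrullDim (X.presheaf.stalk x)) ≤
      ((LocCoh.depth (X.presheaf.stalk x) (X.presheaf.stalk x) : ℕ∞) : WithBot ℕ∞))
    (U : X.Opens) : CInt.IsSchematicallyDense U ↔ Dense (U : Set X) := by
  classical
  refine ⟨RatDense.dense_of_isSchematicallyDense, fun hd => RatDense.of_forall_affine fun x O hxO => ?_⟩
  obtain ⟨W, hW, hxW, hWO⟩ := exists_isAffineOpen_mem_and_subset (X := X) (x := x) (U := O) hxO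
  refine ⟨W, hxW, hWO, fun s hs => by_contra fun hne => ?_⟩
  haveI : IsNoetherianRing Γ(X, W) := IsLocallyNoetherian.component_noetherian ⟨W, hW⟩
  obtain ⟨q, hq, hsq⟩ := exists_le_isAssociatedPrime_of_isNoetherianRing Γ(X, W) s hne
  obtain ⟨hqp, a, ha⟩ := isAssociatedPrime_iff.mp hq
  haveI := hqp
  set η : X := hW.fromSpec ⟨q, hqp⟩ with hη
  have hηW : η ∈ W := hW.range_fromSpec.le ⟨_, rfl⟩
  letI : Algebra Γ(X, W) (X.presheaf.stalk η) := TopCat.Presheaf.algebra_section_stalk X.presheaf ⟨η, hηW⟩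
  haveI hloc : IsLocalization.AtPrime (X.presheaf.stalk η) q := hW.isLocalization_stalk' ⟨q, hqp⟩ hηW
  haveI : IsNoetherianRing (X.presheaf.stalk η) := IsLocalization.isNoetherianRing q.primeCompl _ inferInstance
  have hcol : ∀ r : Γ(X, W), r ∈ (⊥ : Submodule Γ(X, W) Γ(X, W)).colon {a} ↔ r * a = 0 := fun r => by
    rw [Submodule.mem_colon_singleton, Submodule.mem_bot, smul_eq_mul]
  -- depth zero at η, hence a minimal point
  have hdepth : LocCoh.depth (X.presheaf.stalk η) (X.presheaf.stalk η) = 0 := by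
    rw [FlatDepth.depth_eq_zero_iff]
    refine ⟨algebraMap Γ(X, W) _ a, ?_, fun r hr => ?_⟩
    · intro h0
      obtain ⟨u, hu⟩ := (IsLocalization.map_eq_zero_iff q.primeCompl _ a).mp h0
      exact u.2 (ha ▸ (hcol u).mpr hu)
    · rw [← IsLocalization.AtPrime.map_eq_maximalIdeal q (X.presheaf.stalk η)] at hr
      rw [smul_eq_mul]
      refine Submodule.span_induction (p := fun r _ => r * algebraMap Γ(X, W) (X.presheaf.stalk η) a = 0) ?_ (zero_mul _)
        (fun u v _ _ hu hv => by rw [add_mul, hu, hv, add_zero]) (fun c u _ hu => by rw [smul_eq_mul, mul_assoc, hu, mul_zero]) hr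
      rintro _ ⟨u, hu, rfl⟩
      rw [← map_mul, (hcol u).mp (ha ▸ hu), map_zero]
  have hdim : ringKrullDim (X.presheaf.stalk η) = (q.height : WithBot ℕ∞) :=
    IsLocalization.AtPrime.ringKrullDim_eq_height q _
  have hmin : q ∈ minimalPrimes Γ(X, W) := by
    rw [← Ideal.height_eq_zero_iff]
    have h := hS1 η
    rw [hdepth, hdim] at h
    by_contra h0
    have h1 : (1 : WithBot ℕ∞) ≤ (q.height : WithBot ℕ∞) := by
      rw [← WithBot.coe_one, WithBot.coe_le_coe]
      exact Order.one_le_iff_ne_zero.mpr h0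
    rw [min_eq_left h1] at h
    norm_cast at h
  -- a minimal point lies in every dense open
  have hηU : η ∈ U := by
    let Z : Set (PrimeSpectrum Γ(X, W)) := ⋃ q' ∈ minimalPrimes Γ(X, W) \ {q}, PrimeSpectrum.zeroLocus (q' : Set Γ(X, W))
    have hZ : IsClosed Z :=
      ((minimalPrimes.finite_of_isNoetherianRing Γ(X, W)).subset Set.diff_subset).isClosed_biUnion fun _ _ => PrimeSpectrum.isClosed_zeroLocus _
    have hqZ : (⟨q, hqp⟩ : PrimeSpectrum Γ(X, W)) ∈ Zᶜ := by
      simp only [Z, Set.mem_compl_iff, Set.mem_iUnion, not_exists]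
      intro q' hq' hle
      haveI := hq'.1.1.1
      exact hq'.2 (le_antisymm hle (hmin.2 hq'.1.1 hle))
    have hop := hW.fromSpec.isOpenEmbedding.isOpenMap _ hZ.isOpen_compl
    obtain ⟨_, ⟨z, hz, rfl⟩, hzU⟩ := hd.inter_open_nonempty _ hop ⟨η, _, hqZ, rfl⟩
    obtain ⟨q', hq', hq'le⟩ := Ideal.exists_minimalPrimes_le (I := (⊥ : Ideal Γ(X, W))) (J := z.asIdeal) bot_le
    have hqq : q' = q := by
      by_contra hne'
      refine hz ?_
      simp only [Z, Set.mem_iUnion]
      exact ⟨q', ⟨hq', hne'⟩, hq'le⟩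
    subst hqq
    have hsp : (⟨q', hqp⟩ : PrimeSpectrum Γ(X, W)) ⤳ z := (PrimeSpectrum.le_iff_specializes _ _).1 hq'le
    exact (hsp.map hW.fromSpec.continuous).mem_open U.2 hzU
  have h0 : algebraMap Γ(X, W) (X.presheaf.stalk η) s = 0 := by
    show X.presheaf.germ W η hηW s = 0
    rw [← X.presheaf.germ_res_apply (homOfLE (inf_le_left : W ⊓ U ≤ W)) η ⟨hηW, hηU⟩ s]
    show X.presheaf.germ _ η _ (RatDense.res (inf_le_left : W ⊓ U ≤ W) s) = 0
    rw [hs, map_zero]
  obtain ⟨u, hu⟩ := (IsLocalization.map_eq_zero_iff q.primeCompl _ s).mp h0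
  exact u.2 (hsq (by rw [Submodule.mem_colon_singleton, Submodule.mem_bot, smul_eq_mul, hu]))

end Groth.Agent.S15712
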