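import Groth.Statements.S15713
import Groth.Agent.BlowChartLib.Regular
import Groth.Agent.BlowChartLib.RegStalk
import Groth.Agent.CILib.SyntomicCMSk
import Groth.Agent.CILib.Scheme
import Groth.Agent.CMFlatLib.FlatLocal
import Groth.Agent.ShriekAlgLib.CMDual
import Groth.Agent.CMCat.Polynomial
-- import your own Groth.Agent.* helpers here

set_option autoImplicit false
universe u
open CategoryTheory AlgebraicGeometry TopologicalSpace
open RatSing

namespace Groth.Agent.S15713

/-- Let W be a Cohen–Macaulay scheme (excellent, as the published statement assumes throughout), I an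
ideal sheaf locally generated by a regular sequence, and π : T → W the blowing up of W in I. Then T
is Cohen–Macaulay. (The published statement also asserts that the closed subscheme V of I and the
exceptional divisor F are Cohen–Macaulay; this row states the assertion for T. The blowing up is
characterised by its universal property.) -/
theorem result (W T : Scheme.{u}) [IsLocallyNoetherian W]
    (hexc : ∀ U : W.affineOpens, EGA4.IsExcellent Γ(W, U.1))
    (hcm : ∀ w : W, LocCoh.IsCohenMacaulayLocalRing (W.presheaf.stalk w))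
    (I : W.IdealSheafData) (hI : RegImm.IsRegularIdeal RegImm.Kind.regular I)
    (π : T ⟶ W) (hπ : BlowUp.IsBlowUp π I) (t : T) :
    LocCoh.IsCohenMacaulayLocalRing (T.presheaf.stalk t) := by
  have hi : Mor2.IsRegularClosedImmersion I.subschemeι := by
    refine ⟨inferInstance, fun z => ?_⟩
    obtain ⟨U, hzU, rs, hrs, hk⟩ := hI (I.subschemeι z) (by
      rw [← SetLike.mem_coe, ← I.range_subschemeι]; exact Set.mem_range_self z)
    exact ⟨U.1, U.2, hzU, rs, hrs, by rw [Scheme.IdealSheafData.ker_subschemeι]; exact hk⟩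
  haveI : IsLocallyNoetherian I.subscheme := LocallyOfFiniteType.isLocallyNoetherian I.subschemeι
  haveI := Groth.Agent.BlowChartLib.isLocallyNoetherian_blowUp I π hπ
  by_cases ht : π t ∈ I.support
  swap
  · let U : T.Opens := (I.comap π).support.compl
    have hxU : t ∈ U := by
      show t ∉ (I.comap π).support
      rw [Scheme.IdealSheafData.support_comap]
      exact ht
    haveI := Groth.Agent.BlowCompLib.isOpenImmersion_off_exceptional I π hπ
    let e₁ := (asIso ((U.ι ≫ π).stalkMap ⟨t, hxU⟩)).commRingCatIsoToRingEquiv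
    let e₂ := (asIso (U.ι.stalkMap ⟨t, hxU⟩)).commRingCatIsoToRingEquiv
    haveI : LocCoh.IsCohenMacaulayLocalRing (W.presheaf.stalk ((U.ι ≫ π) ⟨t, hxU⟩)) := hcm _
    exact Groth.Agent.CMCat.isCohenMacaulayLocalRing_of_ringEquiv (e₁.trans e₂.symm)
  have hcmV : ∀ v : I.subscheme, LocCoh.IsCohenMacaulayLocalRing (I.subscheme.presheaf.stalk v) := by
    intro v
    obtain ⟨U, hU, hvU, rs, hrs, hk⟩ := hi.2 v
    let L := W.presheaf.stalk (I.subschemeι v)
    let γ := (W.presheaf.germ U (I.subschemeι v) hvU).hom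
    have hker : RingHom.ker (I.subschemeι.stalkMap v).hom = Ideal.ofList (rs.map γ) := by
      rw [Groth.Agent.RegIdealLib.ker_stalkMap I.subschemeι hU
        (IsZariskiLocalAtTarget.restrict (P := @IsClosedImmersion) (inferInstanceAs (IsClosedImmersion I.subschemeι)) U) v hvU,
        ← Scheme.Hom.ker_apply I.subschemeι ⟨U, hU⟩, hk, Ideal.map_ofList]
    have hw : RingTheory.Sequence.IsWeaklyRegular L (rs.map γ) := by
      letI : Algebra Γ(W, U) L := TopCat.Presheaf.algebra_section_stalk W.presheaf ⟨_, hvU⟩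
      haveI := hU.isLocalization_stalk ⟨_, hvU⟩
      haveI : Module.Flat Γ(W, U) L := IsLocalization.flat _ (hU.primeIdealOf ⟨_, hvU⟩).asIdeal.primeCompl
      exact hrs.toIsWeaklyRegular.of_flat
    haveI := hcm (I.subschemeι v)
    have hm : ∀ r ∈ rs.map γ, r ∈ IsLocalRing.maximalIdeal L := fun r hr =>
      IsLocalRing.le_maximalIdeal (RingHom.ker_ne_top (I.subschemeι.stalkMap v).hom) (hker ▸ Ideal.subset_span hr)
    haveI := Groth.Agent.ShriekAlgLib.isCohenMacaulayLocalRing_quot (rs.map γ) hm hw
    exact Groth.Agent.CMCat.isCohenMacaulayLocalRing_of_ringEquiv ((Ideal.quotEquivOfEq hker.symm).trans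
      (RingHom.quotientKerEquivOfSurjective (I.subschemeι.stalkMap_surjective v)))
  let D := BlowUp.exceptional π I
  let j := D.subschemeι
  obtain ⟨g, hg⟩ : ∃ g : D.subscheme ⟶ I.subscheme, g ≫ I.subschemeι = j ≫ π := by
    refine ⟨IsClosedImmersion.lift I.subschemeι (j ≫ π) ?_, IsClosedImmersion.lift_fac _ _ _⟩
    rw [Scheme.IdealSheafData.ker_subschemeι, ← Scheme.IdealSheafData.map_ker, Scheme.IdealSheafData.ker_subschemeι]
    exact Scheme.IdealSheafData.le_map_comap _ _
  haveI hgs : Smooth g := by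
    have key : ∀ (K : W.IdealSheafData), K = I → ∀ (h : BlowUp.IsBlowUp π K)
        (g' : (BlowUp.exceptional π K).subscheme ⟶ I.subscheme),
        I.subschemeι.ker = K → g' ≫ I.subschemeι = (BlowUp.exceptional π K).subschemeι ≫ π → Smooth g' := by
      intro K _ h g' hK hg'
      subst hK
      exact Groth.Agent.BlowChartLib.smooth_exceptional I.subschemeι hi π h g' hg'
    exact key I rfl hπ g (Scheme.IdealSheafData.ker_subschemeι I) hg
  obtain ⟨w, rfl⟩ : t ∈ Set.range j := by
    rw [Scheme.IdealSheafData.range_subschemeι, Scheme.IdealSheafData.support_comap]; exact ht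
  let F : ULift.{u} Bool → Σ Z : Scheme.{u}, Z ⟶ I.subscheme :=
    fun i => if i.down then ⟨D.subscheme, g⟩ else ⟨I.subscheme, 𝟙 _⟩
  have hcmD : LocCoh.IsCohenMacaulayLocalRing (D.subscheme.presheaf.stalk w) :=
    (((Groth.Agent.CILib.isCohenMacaulayLocalRing_stalk_iff_syntomic (X := fun i => (F i).1) (fun i => (F i).2)
      (fun v => ⟨⟨false⟩, v, rfl⟩) (fun i => by
        rcases i with ⟨_ | _⟩
        · exact Groth.Agent.CILib.isSyntomicMor_of_smooth (𝟙 I.subscheme)
        · exact Groth.Agent.CILib.isSyntomicMor_of_smooth g)).1 ⟨inferInstance, hcmV⟩) ⟨true⟩).2 w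
  obtain ⟨⟨V, hV⟩, hwV, a, ha, hIa⟩ := hπ.1 (j w)
  let B := T.presheaf.stalk (j w)
  let γ := (T.presheaf.germ V (j w) hwV).hom
  have hk : RingHom.ker (j.stalkMap w).hom = Ideal.span {γ a} := by
    rw [Groth.Agent.RegIdealLib.ker_stalkMap j hV
      (IsZariskiLocalAtTarget.restrict (P := @IsClosedImmersion) (inferInstanceAs (IsClosedImmersion j)) V) w hwV,
      Scheme.IdealSheafData.ker_subschemeι_app D ⟨V, hV⟩]
    show (D.ideal ⟨V, hV⟩).map γ = _
    rw [show D.ideal ⟨V, hV⟩ = Ideal.span {a} from hIa, Ideal.map_span, Set.image_singleton]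
  have hreg : IsSMulRegular B (γ a) := by
    rw [isSMulRegular_iff_right_eq_zero_of_smul]
    intro x hx
    letI : Algebra Γ(T, V) B := TopCat.Presheaf.algebra_section_stalk T.presheaf ⟨_, hwV⟩
    haveI := hV.isLocalization_stalk ⟨_, hwV⟩
    have hgn : γ a ∈ nonZeroDivisors B :=
      IsLocalization.map_nonZeroDivisors_le (hV.primeIdealOf ⟨_, hwV⟩).asIdeal.primeCompl _ ⟨a, ha, rfl⟩
    exact hgn.1 x (by rw [← smul_eq_mul]; exact hx)
  have hmem : γ a ∈ IsLocalRing.maximalIdeal B :=
    IsLocalRing.le_maximalIdeal (RingHom.ker_ne_top (j.stalkMap w).hom) (hk ▸ Ideal.mem_span_singleton_self _)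
  refine (Groth.Agent.CMFlatLib.cm_quot_iff (B := B) hmem hreg).2 ?_
  haveI := hcmD
  exact Groth.Agent.CMCat.isCohenMacaulayLocalRing_of_ringEquiv ((Ideal.quotEquivOfEq hk.symm).trans
      (RingHom.quotientKerEquivOfSurjective (j.stalkMap_surjective w))).symm

end Groth.Agent.S15713
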