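import Groth.Statements.S15715
import Groth.Agent.SepLib.MDense
import Mathlib
-- import your own Groth.Agent.* helpers here

set_option autoImplicit false
universe u
open CategoryTheory AlgebraicGeometry TopologicalSpace
open RatSing

namespace Groth.Agent.S15715

/-- Let X be a locally Noetherian scheme, φ : F → G a homomorphism of O_X-modules with F quasi-coherent
and torsion-free (over every affine open V, no nonzero section of F is killed by a regular element
of O_X(V)), and U a scheme-theoretically dense open subset of X such that the restriction of φ to U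
is injective. Then φ is injective. (The published statement allows an arbitrary O_X-module F; for
the skyscraper sheaf on the affine line over a field, placed at a closed point with value the local
ring at that point, which is torsion-free in this sense, the zero map to the zero module is
injective over the dense open complement of the point but not injective. This row takes F
quasi-coherent.) -/
theorem result (X : Scheme.{u})
    [IsLocallyNoetherian X] (F G : X.Modules) (hF : Coh.IsQCoh F)
    (htf : ∀ V : X.affineOpens, Submodule.torsion Γ(X, V.1) (F.val.obj (Opposite.op V.1)) = ⊥)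
    (φ : F ⟶ G) (U : X.Opens) (hU : CInt.IsSchematicallyDense U)
    (hφU : ∀ V : X.Opens, V ≤ U → Function.Injective ⇑(ConcreteCategory.hom (φ.val.app (Opposite.op V)))) (V : X.Opens) :
    Function.Injective ⇑(ConcreteCategory.hom (φ.val.app (Opposite.op V))) := by
  classical
  haveI := hF
  have key : ∀ {W : X.Opens}, IsAffineOpen W → ∀ m : Γ(F, W),
      F.presheaf.map (homOfLE (inf_le_left : W ⊓ U ≤ W)).op m = 0 → m = 0 := by
    intro W hW m hm
    haveI : IsNoetherianRing Γ(X, W) := IsLocallyNoetherian.component_noetherian ⟨W, hW⟩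
    have hadd : ∀ a b : Γ(X, W), X.basicOpen a ≤ U → X.basicOpen b ≤ U → X.basicOpen (a + b) ≤ U := by
      intro a b ha hb x hx
      have hxW : x ∈ W := X.basicOpen_le _ hx
      rw [Scheme.mem_basicOpen X _ x hxW, map_add] at hx
      rcases IsLocalRing.isUnit_or_isUnit_of_isUnit_add hx with h | h
      · exact ha ((Scheme.mem_basicOpen X _ x hxW).2 h)
      · exact hb ((Scheme.mem_basicOpen X _ x hxW).2 h)
    let J : Ideal Γ(X, W) :=
      { carrier := {r | X.basicOpen r ≤ U}
        add_mem' := fun {a b} ha hb => hadd a b ha hb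
        zero_mem' := by simp [Scheme.basicOpen_zero]
        smul_mem' := fun c r hr => by
          show X.basicOpen (c * r) ≤ U
          rw [X.basicOpen_mul]
          exact inf_le_right.trans hr }
    obtain ⟨r, hr, hrn⟩ : ∃ r ∈ J, r ∈ nonZeroDivisors Γ(X, W) := by
      by_contra hc
      push Not at hc
      have hsub : (J : Set Γ(X, W)) ⊆ ⋃ p ∈ associatedPrimes Γ(X, W) Γ(X, W), (p : Set Γ(X, W)) := by
        intro r hr
        rw [biUnion_associatedPrimes_eq_compl_nonZeroDivisors]
        exact hc r hr
      obtain ⟨p, hp, hle⟩ := (Ideal.subset_union_prime_finite (associatedPrimes.finite Γ(X, W) Γ(X, W))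
        ⊥ ⊥ fun p hp _ _ => (AssociatedPrimes.mem_iff.1 hp).isPrime).1 hsub
      obtain ⟨hpp, a, ha⟩ := isAssociatedPrime_iff.1 (AssociatedPrimes.mem_iff.1 hp)
      have hpa : ∀ g ∈ J, g * a = 0 := fun g hg => by
        have h := hle hg
        rw [ha, Submodule.mem_colon_singleton, Submodule.mem_bot, smul_eq_mul] at h
        exact h
      have ha0 : a = 0 := by
        refine hU W ?_
        rw [map_zero]
        refine X.IsSheaf.section_ext fun x hx => ?_
        obtain ⟨g, hxg⟩ := Groth.Agent.SepLib.exists_cut (U := U) hW x hx.1 hx.2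
        refine ⟨X.basicOpen g.1, le_inf (X.basicOpen_le _) g.2, hxg, ?_⟩
        have h := congrArg (X.presheaf.map (homOfLE (X.basicOpen_le g.1)).op) (hpa g.1 g.2)
        rw [map_mul, map_zero] at h
        rw [map_zero, ← ConcreteCategory.comp_apply, ← Functor.map_comp]
        exact ((X.toRingedSpace.isUnit_res_basicOpen g.1).mul_right_eq_zero).1 h
      subst ha0
      exact hpp.ne_top ((Ideal.eq_top_iff_one _).2 (ha.symm ▸ Submodule.mem_colon_singleton.2 (Submodule.mem_bot _ |>.2 (smul_zero _))))
    obtain ⟨n, hn⟩ := Groth.Agent.SepLib.exists_pow_smul_of_res_eq_zero F hW r m (by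
      rw [← Groth.Agent.SepLib.res_res inf_le_left (le_inf (X.basicOpen_le r) hr), hm, map_zero])
    have h0 := htf ⟨W, hW⟩
    rw [Submodule.eq_bot_iff] at h0
    exact h0 m ⟨⟨r ^ n, pow_mem hrn n⟩, hn⟩
  rw [injective_iff_map_eq_zero]
  intro s hs
  refine TopCat.Presheaf.section_ext ⟨F.presheaf, F.isSheaf⟩ V s 0 fun x hx => ?_
  obtain ⟨W, hW, hxW, hWV⟩ := exists_isAffineOpen_mem_and_subset (X := X) (x := x) (U := V) hx
  replace hWV : W ≤ V := hWV
  have hs' : F.presheaf.map (homOfLE hWV).op s = 0 := by
    refine key hW _ ?_
    refine hφU (W ⊓ U) inf_le_right ?_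
    refine Eq.trans ?_ (map_zero (ConcreteCategory.hom (φ.val.app (Opposite.op (W ⊓ U))))).symm
    have hnat := PresheafOfModules.naturality_apply φ.val
      ((homOfLE hWV).op ≫ (homOfLE (inf_le_left : W ⊓ U ≤ W)).op) s
    erw [Groth.Agent.SepLib.res_res hWV inf_le_left]
    refine hnat.trans ?_
    erw [hs, map_zero]
    rfl
  show F.presheaf.germ V x hx s = F.presheaf.germ V x hx 0
  rw [map_zero, ← TopCat.Presheaf.germ_res_apply F.presheaf (homOfLE hWV) x hxW s, hs', map_zero]

end Groth.Agent.S15715
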