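import Mathlib
import Groth.Agent.CMCat.Local
import Groth.Agent.HKLib.Dim
import Groth.Statements.S15717

set_option autoImplicit false
universe u
open CAlg

namespace Groth.Agent.S15717

/-- Let R be a Cohen–Macaulay local ring and I an ideal of R with R/I equidimensional (all minimal
primes p over I have the same dim R/p). Then there is a regular sequence r_1, ..., r_n in I such
that the closed subscheme V(r_1, ..., r_n) of Spec R, a local complete intersection, contains V(I),
has the same dimension as V(I), and has the irreducible components of V(I) among its irreducible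
components: dim R/(r_1, ..., r_n) = dim R/I and every minimal prime over I is a minimal prime over
(r_1, ..., r_n). The sequence is asked to be weakly regular (each r_i a non-zero-divisor modulo the
previous ones), which for I proper is the same as regular and which also covers I = R with the
sequence (1). -/
theorem result (R : Type u) [CommRing R]
    [LocCoh.IsCohenMacaulayLocalRing R] (I : Ideal R)
    (hI : ∀ p ∈ I.minimalPrimes, ringKrullDim (R ⧸ p) = ringKrullDim (R ⧸ I)) :
    ∃ rs : List R, RingTheory.Sequence.IsWeaklyRegular R rs ∧ Ideal.ofList rs ≤ I ∧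
      ringKrullDim (R ⧸ Ideal.ofList rs) = ringKrullDim (R ⧸ I) ∧
      I.minimalPrimes ⊆ (Ideal.ofList rs).minimalPrimes := by
  rcases eq_or_ne I ⊤ with rfl | hI1
  · refine ⟨[1], by simp, le_top, ?_, by simp [Ideal.minimalPrimes_top]⟩
    have h1 : Ideal.ofList [(1 : R)] = ⊤ := by simp [Ideal.ofList_singleton]
    rw [h1]
  classical
  obtain ⟨d, hd⟩ := Groth.Agent.RegLocal.exists_nat_ringKrullDim R
  obtain ⟨rs, hrs⟩ := Groth.Agent.Depth.exists_isMaxSeq (M := R) (Groth.Agent.S14424.smul_top_ne I hI1)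
  obtain ⟨hw, hm, x, hx, hx'⟩ := hrs
  set J : Ideal R := Ideal.ofList rs with hJdef
  have hJI : J ≤ I := Ideal.span_le.mpr hm
  have hJne : J ≠ ⊤ := fun h => hI1 (top_le_iff.mp (h ▸ hJI))
  haveI : Nontrivial (R ⧸ J) := Ideal.Quotient.nontrivial_iff.mpr hJne
  haveI : IsLocalRing (R ⧸ J) := Groth.Agent.RegLocal.isLocalRing_quot hJne
  have hmax : ∀ r ∈ rs, r ∈ IsLocalRing.maximalIdeal R := fun r hr => IsLocalRing.le_maximalIdeal hI1 (hm r hr)
  have hmne := Groth.Agent.S14424.smul_top_ne (IsLocalRing.maximalIdeal R) (Ideal.IsPrime.ne_top')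
  have hreg : RingTheory.Sequence.IsRegular R rs := Groth.Agent.Depth.isRegular_of_isWeaklyRegular hmne hw hmax
  have hdimJ : ringKrullDim (R ⧸ J) + rs.length = ringKrullDim R :=
    ringKrullDim_add_length_eq_ringKrullDim_of_isRegular rs hreg
  obtain ⟨e, he⟩ := Groth.Agent.RegLocal.exists_nat_ringKrullDim (R ⧸ J)
  have heg : e + rs.length = d := by rw [he, hd] at hdimJ; exact_mod_cast hdimJ
  obtain ⟨ys, hylen, hys, hrad⟩ := Groth.Agent.CotTLib.exists_sop_quot J hJne he
  have hall : ∀ r ∈ rs ++ ys, r ∈ IsLocalRing.maximalIdeal R :=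
    fun r hr => (List.mem_append.1 hr).elim (hmax r) (hys r)
  have hw2 : RingTheory.Sequence.IsWeaklyRegular R (rs ++ ys) := by
    refine Groth.Agent.DeformLib.isWeaklyRegular_of_ringKrullDim (rs ++ ys) hall ?_
    have hne : Ideal.ofList (rs ++ ys) ≠ ⊤ := fun h => (IsLocalRing.maximalIdeal.isMaximal R).ne_top
      (top_le_iff.mp (h ▸ Ideal.span_le.mpr hall))
    have hz : ringKrullDim (R ⧸ Ideal.ofList (rs ++ ys)) = 0 := by
      haveI : Nontrivial (R ⧸ Ideal.ofList (rs ++ ys)) := Ideal.Quotient.nontrivial_iff.mpr hne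
      refine le_antisymm ?_ ringKrullDim_nonneg_of_nontrivial
      rw [ringKrullDim_quotient]
      refine Order.krullDim_nonpos_iff_forall_isMax.mpr fun a b _ => ?_
      have hle : ∀ c : PrimeSpectrum.zeroLocus (Ideal.ofList (rs ++ ys) : Set R), c.1 = IsLocalRing.closedPoint R :=
        fun c => PrimeSpectrum.ext (le_antisymm (IsLocalRing.le_maximalIdeal c.1.isPrime.ne_top) (hrad.trans (by
          rw [← Ideal.ofList_append]
          exact c.1.isPrime.radical_le_iff.mpr c.2)))
      exact le_of_eq (Subtype.ext ((hle b).trans (hle a).symm))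
    rw [hz, zero_add, List.length_append, hylen, hd]
    exact_mod_cast (by omega : rs.length + e = d)
  have hne' := Groth.Agent.Depth.smul_top_quot_ne_top (M := R) (J := J) (Ideal.span_le.2 hmax) hmne
  haveI : Nontrivial (R ⧸ (Ideal.ofList rs • ⊤ : Submodule R R)) := by
    rw [show Ideal.ofList rs • (⊤ : Submodule R R) = J by simp [J, smul_eq_mul]]; infer_instance
  have hdepth : (e : ℕ∞) ≤ LocCoh.depth R (R ⧸ (Ideal.ofList rs • ⊤ : Submodule R R)) := by
    rw [LocCoh.depth, Groth.Agent.Depth.le_idealDepth_iff hne']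
    exact ⟨ys, hylen, hys, ((RingTheory.Sequence.isWeaklyRegular_append_iff R rs ys).1 hw2).2⟩
  obtain ⟨a, ha⟩ : ∃ a : ℕ, LocCoh.depth R (R ⧸ (Ideal.ofList rs • ⊤ : Submodule R R)) = a := by
    obtain ⟨rs', hrs'⟩ := Groth.Agent.Depth.exists_isMaxSeq hne'
    exact ⟨rs'.length, Groth.Agent.Depth.idealDepth_eq_length hne' hrs'⟩
  have hx0 : (Submodule.Quotient.mk x : R ⧸ (Ideal.ofList rs • ⊤ : Submodule R R)) ≠ 0 := fun h =>
    hx ((Submodule.Quotient.mk_eq_zero _).mp h)
  obtain ⟨P, hPass, hle⟩ := exists_le_isAssociatedPrime_of_isNoetherianRing (R := R) _ hx0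
  haveI := hPass.isPrime
  have hIP : I ≤ P := fun c hc => hle (Submodule.mem_colon_singleton.mpr (by
    rw [← Submodule.Quotient.mk_smul]
    exact (Submodule.mem_bot R).mpr ((Submodule.Quotient.mk_eq_zero _).mpr (hx' c hc))))
  have hP1 : (e : WithBot ℕ∞) ≤ ringKrullDim (R ⧸ P) := by
    refine le_trans ?_ (Groth.Agent.CMCat.depth_le_ringKrullDim_quotient ha hPass)
    rw [ha] at hdepth
    exact_mod_cast hdepth
  have hdimI : ringKrullDim (R ⧸ J) = ringKrullDim (R ⧸ I) :=
    le_antisymm (he.le.trans (hP1.trans (ringKrullDim_le_of_surjective (Ideal.Quotient.factor hIP)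
      (Ideal.Quotient.factor_surjective hIP))))
      (ringKrullDim_le_of_surjective (Ideal.Quotient.factor hJI) (Ideal.Quotient.factor_surjective hJI))
  refine ⟨rs, hw, hJI, hdimI, fun p hp => ?_⟩
  haveI := hp.1.1
  obtain ⟨q, hq, hqp⟩ := Ideal.exists_minimalPrimes_le (hJI.trans hp.1.2)
  haveI := hq.1.1
  rcases eq_or_lt_of_le hqp with rfl | hlt
  · exact hq
  · exfalso
    have h1 := (Groth.Agent.HKLib.ringKrullDim_quotient_lt hlt).trans
      (ringKrullDim_le_of_surjective (Ideal.Quotient.factor hq.1.2) (Ideal.Quotient.factor_surjective hq.1.2))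
    rw [hI p hp, ← hdimI, he] at h1
    have h2 : e + 1 ≤ e := by exact_mod_cast h1
    omega

end Groth.Agent.S15717
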