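import Groth.Statements.S15724
import Groth.Agent.InvHilbLib.Mono

set_option autoImplicit false
universe u
open W4c2invhilbsl2

namespace Groth.Agent.S15724

/-- Grade the polynomial ring k[X₀,…,X₄] over a field k by ℤ × ℤ/m, giving X₀ weight (1,0), X₁ and X₂
weight (−p,−1), and X₃ and X₄ weight (q,1), where 0 < p < q are coprime integers and m ≥ 1, and let
P be the principal ideal generated by the weight-zero element X₀^(q−p) − X₁X₄ + X₂X₃ (the equation
of an affine hypersurface). Then every polynomial homogeneous of the weight of X₁ is congruent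
modulo P to some a·X₁ + b·X₂ with a and b homogeneous of weight zero, and every polynomial
homogeneous of the weight of X₃ is congruent modulo P to some a·X₃ + b·X₄ with a and b homogeneous
of weight zero. Equivalently, in the coordinate ring of the hypersurface the weight pieces of the
weights of X₁ and of X₃ are generated over the weight-zero subring (the ring of invariants of the
diagonal action of a one-dimensional torus times the group of m-th roots of unity with these
weights) by X₁, X₂ and by X₃, X₄ respectively. (For the weight of X₁ the congruence is already an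
equality in the polynomial ring; for the weight of X₃ the hypersurface equation is needed, e.g.
X₀^(q+p)X₁ has that weight when m divides 2.) -/
theorem result (k : Type u) [Field k] (p q m : ℕ) (hp : 0 < p) (hpq : p < q) (hcop : Nat.Coprime p q) (hm : 0 < m) (f : MvPolynomial (Fin 5) k) :
    (f ∈ MvPolynomial.weightedHomogeneousSubmodule k (W4c2invhilbsl2.wt5 p q m) (W4c2invhilbsl2.wt5 p q m 1) →
      ∃ a b : MvPolynomial (Fin 5) k, a ∈ MvPolynomial.weightedHomogeneousSubmodule k (W4c2invhilbsl2.wt5 p q m) 0 ∧ b ∈ MvPolynomial.weightedHomogeneousSubmodule k (W4c2invhilbsl2.wt5 p q m) 0 ∧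
        f - (a * MvPolynomial.X (1 : Fin 5) + b * MvPolynomial.X (2 : Fin 5)) ∈ Ideal.span {MvPolynomial.X (0 : Fin 5) ^ (q - p) - MvPolynomial.X 1 * MvPolynomial.X 4 + MvPolynomial.X 2 * MvPolynomial.X 3}) ∧
    (f ∈ MvPolynomial.weightedHomogeneousSubmodule k (W4c2invhilbsl2.wt5 p q m) (W4c2invhilbsl2.wt5 p q m 3) →
      ∃ a b : MvPolynomial (Fin 5) k, a ∈ MvPolynomial.weightedHomogeneousSubmodule k (W4c2invhilbsl2.wt5 p q m) 0 ∧ b ∈ MvPolynomial.weightedHomogeneousSubmodule k (W4c2invhilbsl2.wt5 p q m) 0 ∧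
        f - (a * MvPolynomial.X (3 : Fin 5) + b * MvPolynomial.X (4 : Fin 5)) ∈ Ideal.span {MvPolynomial.X (0 : Fin 5) ^ (q - p) - MvPolynomial.X 1 * MvPolynomial.X 4 + MvPolynomial.X 2 * MvPolynomial.X 3}) := by
  classical
  set w := W4c2invhilbsl2.wt5 p q m
  set W := MvPolynomial.weightedHomogeneousSubmodule k w (0 : ℤ × ZMod m)
  set I := Ideal.span {MvPolynomial.X (0 : Fin 5) ^ (q - p) - MvPolynomial.X 1 * MvPolynomial.X 4 + MvPolynomial.X 2 * MvPolynomial.X 3 (R := k)}
  have step : ∀ (i j : Fin 5) (ν : ℤ × ZMod m),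
      (∀ d r, Finsupp.weight w d = ν → ∃ a b : MvPolynomial (Fin 5) k, a ∈ W ∧ b ∈ W ∧
        MvPolynomial.monomial d r - (a * MvPolynomial.X i + b * MvPolynomial.X j) ∈ I) →
      f ∈ MvPolynomial.weightedHomogeneousSubmodule k w ν →
      ∃ a b : MvPolynomial (Fin 5) k, a ∈ W ∧ b ∈ W ∧ f - (a * MvPolynomial.X i + b * MvPolynomial.X j) ∈ I := by
    intro i j ν hmon hf
    refine InvHilbLib.homog_induction w (P := fun f => ∃ a b : MvPolynomial (Fin 5) k, a ∈ W ∧ b ∈ W ∧
      f - (a * MvPolynomial.X i + b * MvPolynomial.X j) ∈ I) ?_ ?_ hmon hf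
    · exact ⟨0, 0, zero_mem _, zero_mem _, by simp⟩
    · rintro f g ⟨a, b, ha, hb, hI⟩ ⟨a', b', ha', hb', hI'⟩
      refine ⟨a + a', b + b', add_mem ha ha', add_mem hb hb', ?_⟩
      convert add_mem hI hI' using 1
      ring
  constructor
  · refine step 1 2 _ fun d r hd => ?_
    have hd' := hd
    rw [InvHilbLib.weight5, Prod.ext_iff] at hd'
    have h1 : (d 0 : ℤ) - p * (d 1 + d 2) + q * (d 3 + d 4) = -(p : ℤ) := hd'.1
    have h12 : 1 ≤ d 1 ∨ 1 ≤ d 2 := by
      by_contra h
      rw [show (d 1 : ℤ) + d 2 = 0 by omega, mul_zero] at h1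
      have : (0 : ℤ) ≤ (q : ℤ) * ((d 3 : ℤ) + d 4) := by positivity
      omega
    rcases h12 with h | h
    · obtain ⟨x, hx, he⟩ := InvHilbLib.split w r (InvHilbLib.E5_le (a := 0) (b := 1) (c := 0) (e := 0) (f := 0) (by omega) h (by omega) (by omega) (by omega)) hd
        (InvHilbLib.weight_E5 p q m 0 1 0 0 0)
      refine ⟨x, 0, ?_, zero_mem _, by rw [he, InvHilbLib.monomial_E5]; simp⟩
      refine InvHilbLib.mem_zero hx ?_
      show (-(p : ℤ), (-1 : ZMod m)) = _
      simp
    · obtain ⟨x, hx, he⟩ := InvHilbLib.split w r (InvHilbLib.E5_le (a := 0) (b := 0) (c := 1) (e := 0) (f := 0) (by omega) (by omega) h (by omega) (by omega)) hd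
        (InvHilbLib.weight_E5 p q m 0 0 1 0 0)
      refine ⟨0, x, zero_mem _, ?_, by rw [he, InvHilbLib.monomial_E5]; simp⟩
      refine InvHilbLib.mem_zero hx ?_
      show (-(p : ℤ), (-1 : ZMod m)) = _
      simp
  · refine step 3 4 _ fun d r hd => ?_
    have hd' := hd
    rw [InvHilbLib.weight5, Prod.ext_iff] at hd'
    have h1 : (d 0 : ℤ) - p * (d 1 + d 2) + q * (d 3 + d 4) = (q : ℤ) := hd'.1
    by_cases h3 : 1 ≤ d 3
    · obtain ⟨x, hx, he⟩ := InvHilbLib.split w r (InvHilbLib.E5_le (a := 0) (b := 0) (c := 0) (e := 1) (f := 0) (by omega) (by omega) (by omega) h3 (by omega)) hd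
        (InvHilbLib.weight_E5 p q m 0 0 0 1 0)
      refine ⟨x, 0, ?_, zero_mem _, by rw [he, InvHilbLib.monomial_E5]; simp⟩
      refine InvHilbLib.mem_zero hx ?_
      show ((q : ℤ), (1 : ZMod m)) = _
      simp
    by_cases h4 : 1 ≤ d 4
    · obtain ⟨x, hx, he⟩ := InvHilbLib.split w r (InvHilbLib.E5_le (a := 0) (b := 0) (c := 0) (e := 0) (f := 1) (by omega) (by omega) (by omega) (by omega) h4) hd
        (InvHilbLib.weight_E5 p q m 0 0 0 0 1)
      refine ⟨0, x, zero_mem _, ?_, by rw [he, InvHilbLib.monomial_E5]; simp⟩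
      refine InvHilbLib.mem_zero hx ?_
      show ((q : ℤ), (1 : ZMod m)) = _
      simp
    have h0 : q - p ≤ d 0 := by
      rw [show (d 3 : ℤ) + d 4 = 0 by omega, mul_zero] at h1
      have : (0 : ℤ) ≤ (p : ℤ) * ((d 1 : ℤ) + d 2) := by positivity
      omega
    obtain ⟨x, hx, he⟩ := InvHilbLib.split w r (InvHilbLib.E5_le h0 (b := 0) (c := 0) (e := 0) (f := 0) (by omega) (by omega) (by omega) (by omega)) hd
      (InvHilbLib.weight_E5 p q m (q - p) 0 0 0 0)
    have hmem : ∀ i : Fin 5, w i = (-(p : ℤ), -1) → x * MvPolynomial.X i ∈ W := by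
      intro i hwi
      have := MvPolynomial.IsWeightedHomogeneous.mul hx (MvPolynomial.isWeightedHomogeneous_X k w i)
      rw [hwi] at this
      refine (MvPolynomial.mem_weightedHomogeneousSubmodule _ _ _ _).2 ?_
      refine (?_ : _ = (0 : ℤ × ZMod m)) ▸ this
      show ((((q : ℤ), (1 : ZMod m)) - _) + _ : ℤ × ZMod m) = 0
      rw [Prod.ext_iff]; constructor <;> push_cast [Nat.cast_sub hpq.le] <;> simp
    refine ⟨-(x * MvPolynomial.X 2), x * MvPolynomial.X 1, neg_mem (hmem 2 rfl), hmem 1 rfl, ?_⟩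
    refine Ideal.mem_span_singleton.2 ⟨x, ?_⟩
    rw [he, InvHilbLib.monomial_E5]
    ring

end Groth.Agent.S15724
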