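import Groth.Statements.S15725
import Groth.Agent.InvHilbLib.Mono

set_option autoImplicit false
universe u
open W4c2invhilbsl2

namespace Groth.Agent.S15725

/-- Grade the polynomial ring k[X₀,X₁,X₂] over a field k by ℤ × ℤ/m, giving X₀ weight (1,0), X₁ weight
(−p,−1) and X₂ weight (q,1), where 0 < p < q are coprime integers and m ≥ 1 (this three-variable
ring stands for the subring k[X₀,X₁,Xⱼ], j = 3 or 4, of the five-variable ring with the same
weights). Then every polynomial homogeneous of weight (q−p, 0) can be written a·X₀^(q−p) + b·X₁X₂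
with a and b homogeneous of weight zero; in other words the weight-(q−p, 0) piece is generated by
X₀^(q−p) and X₁X₂ as a module over the weight-zero subring. -/
theorem result (k : Type u) [Field k] (p q m : ℕ) (hp : 0 < p) (hpq : p < q) (hcop : Nat.Coprime p q) (hm : 0 < m) (f : MvPolynomial (Fin 3) k)
    (hf : f ∈ MvPolynomial.weightedHomogeneousSubmodule k (W4c2invhilbsl2.wt3 p q m) ((q : ℤ) - (p : ℤ), (0 : ZMod m))) :
    ∃ a b : MvPolynomial (Fin 3) k, a ∈ MvPolynomial.weightedHomogeneousSubmodule k (W4c2invhilbsl2.wt3 p q m) 0 ∧ b ∈ MvPolynomial.weightedHomogeneousSubmodule k (W4c2invhilbsl2.wt3 p q m) 0 ∧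
      f = a * MvPolynomial.X (0 : Fin 3) ^ (q - p) + b * (MvPolynomial.X (1 : Fin 3) * MvPolynomial.X (2 : Fin 3)) := by
  classical
  set w := W4c2invhilbsl2.wt3 p q m
  set W := MvPolynomial.weightedHomogeneousSubmodule k w (0 : ℤ × ZMod m)
  refine InvHilbLib.homog_induction w (P := fun f => ∃ a b : MvPolynomial (Fin 3) k, a ∈ W ∧ b ∈ W ∧
      f = a * MvPolynomial.X (0 : Fin 3) ^ (q - p) + b * (MvPolynomial.X (1 : Fin 3) * MvPolynomial.X (2 : Fin 3))) ?_ ?_ ?_ hf
  · exact ⟨0, 0, zero_mem _, zero_mem _, by simp⟩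
  · rintro f g ⟨a, b, ha, hb, rfl⟩ ⟨a', b', ha', hb', rfl⟩
    exact ⟨a + a', b + b', add_mem ha ha', add_mem hb hb', by ring⟩
  · intro d r hd
    obtain ⟨h1, h2⟩ := InvHilbLib.dvd_of_weight3 p q m hd
    by_cases hdiv : 1 ≤ d 1 ∧ 1 ≤ d 2
    · obtain ⟨a, ha, he⟩ := InvHilbLib.split w r (InvHilbLib.E3_le (a := 0) (by omega) hdiv.1 hdiv.2) hd
        (InvHilbLib.weight_E3 p q m 0 1 1)
      refine ⟨0, a, zero_mem _, ?_, ?_⟩
      · refine InvHilbLib.mem_zero ha ?_; rw [Prod.ext_iff]; constructor <;> push_cast <;> simp <;> ring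
      · rw [he, InvHilbLib.monomial_E3]; ring
    · have h0 : q - p ≤ d 0 := by
        rcases eq_or_ne (d 1) 0 with h | h
        · have : d 2 = 0 := by
            by_contra h'
            have : (q : ℤ) ≤ q * d 2 := le_mul_of_one_le_right (by omega) (by omega)
            rw [h] at h1
            omega
          rw [h, this] at h1
          omega
        · have h' : d 2 = 0 := by omega
          rw [h'] at h1
          have : (0 : ℤ) ≤ (p : ℤ) * d 1 := by positivity
          omega
      obtain ⟨a, ha, he⟩ := InvHilbLib.split w r (InvHilbLib.E3_le (b := 0) (c := 0) h0 (by omega) (by omega)) hd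
        (InvHilbLib.weight_E3 p q m (q - p) 0 0)
      refine ⟨a, 0, ?_, zero_mem _, ?_⟩
      · refine InvHilbLib.mem_zero ha ?_; rw [Prod.ext_iff]; constructor <;> push_cast [Nat.cast_sub hpq.le] <;> simp
      · rw [he, InvHilbLib.monomial_E3]; ring

end Groth.Agent.S15725
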