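import Groth.Statements.S15726
import Groth.Agent.InvHilbLib.Mono

set_option autoImplicit false
universe u
open W4c2invhilbsl2

namespace Groth.Agent.S15726

/-- Grade the polynomial ring k[X₀,…,X₄] over a field k by ℤ × ℤ/m, giving X₀ weight (1,0), X₁ and X₂
weight (−p,−1), and X₃ and X₄ weight (q,1), where 0 < p < q are coprime integers and m ≥ 1. Then
modulo the principal ideal generated by the weight-zero element X₀^(q−p) − X₁X₄ + X₂X₃ (the equation
of an affine hypersurface), every polynomial homogeneous of weight (q−p, 0) is congruent to a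
combination a₁₃X₁X₃ + a₁₄X₁X₄ + a₂₃X₂X₃ + a₂₄X₂X₄ whose four coefficients are homogeneous of weight
zero. Equivalently, in the coordinate ring of the hypersurface the weight-(q−p, 0) piece is
generated over the weight-zero subring (the invariant ring of the diagonal action with these
weights) by the span of the four products XₐX_b with a ∈ {1,2} and b ∈ {3,4}. (The published
statement is over the complex numbers; this row takes any field.) -/
theorem result (k : Type u) [Field k] (p q m : ℕ) (hp : 0 < p) (hpq : p < q) (hcop : Nat.Coprime p q) (hm : 0 < m) (f : MvPolynomial (Fin 5) k)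
    (hf : f ∈ MvPolynomial.weightedHomogeneousSubmodule k (W4c2invhilbsl2.wt5 p q m) ((q : ℤ) - (p : ℤ), (0 : ZMod m))) :
    ∃ a₁₃ a₁₄ a₂₃ a₂₄ : MvPolynomial (Fin 5) k,
      a₁₃ ∈ MvPolynomial.weightedHomogeneousSubmodule k (W4c2invhilbsl2.wt5 p q m) 0 ∧ a₁₄ ∈ MvPolynomial.weightedHomogeneousSubmodule k (W4c2invhilbsl2.wt5 p q m) 0 ∧ a₂₃ ∈ MvPolynomial.weightedHomogeneousSubmodule k (W4c2invhilbsl2.wt5 p q m) 0 ∧ a₂₄ ∈ MvPolynomial.weightedHomogeneousSubmodule k (W4c2invhilbsl2.wt5 p q m) 0 ∧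
      f - (a₁₃ * (MvPolynomial.X (1 : Fin 5) * MvPolynomial.X 3) + a₁₄ * (MvPolynomial.X (1 : Fin 5) * MvPolynomial.X 4) +
          a₂₃ * (MvPolynomial.X (2 : Fin 5) * MvPolynomial.X 3) + a₂₄ * (MvPolynomial.X (2 : Fin 5) * MvPolynomial.X 4)) ∈
        Ideal.span {MvPolynomial.X (0 : Fin 5) ^ (q - p) - MvPolynomial.X 1 * MvPolynomial.X 4 + MvPolynomial.X 2 * MvPolynomial.X 3} := by
  classical
  set w := W4c2invhilbsl2.wt5 p q m
  set W := MvPolynomial.weightedHomogeneousSubmodule k w (0 : ℤ × ZMod m)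
  set I := Ideal.span {MvPolynomial.X (0 : Fin 5) ^ (q - p) - MvPolynomial.X 1 * MvPolynomial.X 4 + MvPolynomial.X 2 * MvPolynomial.X 3 (R := k)}
  refine InvHilbLib.homog_induction w (P := fun f => ∃ a₁₃ a₁₄ a₂₃ a₂₄ : MvPolynomial (Fin 5) k,
      a₁₃ ∈ W ∧ a₁₄ ∈ W ∧ a₂₃ ∈ W ∧ a₂₄ ∈ W ∧
      f - (a₁₃ * (MvPolynomial.X (1 : Fin 5) * MvPolynomial.X 3) + a₁₄ * (MvPolynomial.X (1 : Fin 5) * MvPolynomial.X 4) +
          a₂₃ * (MvPolynomial.X (2 : Fin 5) * MvPolynomial.X 3) + a₂₄ * (MvPolynomial.X (2 : Fin 5) * MvPolynomial.X 4)) ∈ I) ?_ ?_ ?_ hf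
  · exact ⟨0, 0, 0, 0, zero_mem _, zero_mem _, zero_mem _, zero_mem _, by simp⟩
  · rintro f g ⟨a, b, c, d, ha, hb, hc, hd, hI⟩ ⟨a', b', c', d', ha', hb', hc', hd', hI'⟩
    refine ⟨a + a', b + b', c + c', d + d', add_mem ha ha', add_mem hb hb', add_mem hc hc', add_mem hd hd', ?_⟩
    convert add_mem hI hI' using 1
    ring
  · intro d r hd
    obtain ⟨h1, -⟩ := InvHilbLib.dvd_of_weight5 p q m hd
    have hdvd : ∀ a b c e : ℕ, InvHilbLib.E5 0 a b c e ≤ d → a + b = 1 → c + e = 1 → ∃ x ∈ W, MvPolynomial.monomial d r = x *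
        (MvPolynomial.X 0 ^ 0 * MvPolynomial.X 1 ^ a * MvPolynomial.X 2 ^ b * MvPolynomial.X 3 ^ c * MvPolynomial.X 4 ^ e) := by
      intro a b c e h hab hce
      obtain ⟨x, hx, he⟩ := InvHilbLib.split w r h hd (InvHilbLib.weight_E5 p q m 0 a b c e)
      refine ⟨x, ?_, by rw [he, InvHilbLib.monomial_E5]⟩
      refine InvHilbLib.mem_zero hx ?_
      rw [show (a : ℤ) + b = 1 by omega, show (c : ℤ) + e = 1 by omega]
      simp; ring
    by_cases h13 : 1 ≤ d 1 ∧ 1 ≤ d 3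
    · obtain ⟨x, hx, he⟩ := hdvd 1 0 1 0 (InvHilbLib.E5_le (by omega) (by omega) (by omega) (by omega) (by omega)) rfl rfl
      exact ⟨x, 0, 0, 0, hx, zero_mem _, zero_mem _, zero_mem _, by rw [he]; simp [mul_assoc]⟩
    by_cases h14 : 1 ≤ d 1 ∧ 1 ≤ d 4
    · obtain ⟨x, hx, he⟩ := hdvd 1 0 0 1 (InvHilbLib.E5_le (by omega) (by omega) (by omega) (by omega) (by omega)) rfl rfl
      exact ⟨0, x, 0, 0, zero_mem _, hx, zero_mem _, zero_mem _, by rw [he]; simp [mul_assoc]⟩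
    by_cases h23 : 1 ≤ d 2 ∧ 1 ≤ d 3
    · obtain ⟨x, hx, he⟩ := hdvd 0 1 1 0 (InvHilbLib.E5_le (by omega) (by omega) (by omega) (by omega) (by omega)) rfl rfl
      exact ⟨0, 0, x, 0, zero_mem _, zero_mem _, hx, zero_mem _, by rw [he]; simp [mul_assoc]⟩
    by_cases h24 : 1 ≤ d 2 ∧ 1 ≤ d 4
    · obtain ⟨x, hx, he⟩ := hdvd 0 1 0 1 (InvHilbLib.E5_le (by omega) (by omega) (by omega) (by omega) (by omega)) rfl rfl
      exact ⟨0, 0, 0, x, zero_mem _, zero_mem _, zero_mem _, hx, by rw [he]; simp [mul_assoc]⟩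
    have h0 : q - p ≤ d 0 := by
      rcases (show d 1 + d 2 = 0 ∨ d 3 + d 4 = 0 by omega) with h | h
      · rw [show (d 1 : ℤ) + d 2 = 0 by omega, mul_zero] at h1
        by_cases h' : d 3 + d 4 = 0
        · rw [show (d 3 : ℤ) + d 4 = 0 by omega] at h1; omega
        · have : (q : ℤ) ≤ q * ((d 3 : ℤ) + d 4) := le_mul_of_one_le_right (by omega) (by omega)
          omega
      · rw [show (d 3 : ℤ) + d 4 = 0 by omega, mul_zero] at h1
        have : (0 : ℤ) ≤ (p : ℤ) * ((d 1 : ℤ) + d 2) := by positivity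
        omega
    obtain ⟨x, hx, he⟩ := InvHilbLib.split w r (InvHilbLib.E5_le h0 (b := 0) (c := 0) (e := 0) (f := 0) (by omega) (by omega) (by omega) (by omega)) hd
      (InvHilbLib.weight_E5 p q m (q - p) 0 0 0 0)
    have hxW : x ∈ W := by
      refine InvHilbLib.mem_zero hx ?_; rw [Prod.ext_iff]; constructor <;> push_cast [Nat.cast_sub hpq.le] <;> simp
    refine ⟨0, x, -x, 0, zero_mem _, hxW, neg_mem hxW, zero_mem _, ?_⟩
    refine Ideal.mem_span_singleton.2 ⟨x, ?_⟩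
    rw [he, InvHilbLib.monomial_E5]
    ring

end Groth.Agent.S15726
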