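import Groth.Statements.S15728
import Groth.Agent.InvHilbLib.Mono

set_option autoImplicit false
universe u
open W4c2invhilbsl2

namespace Groth.Agent.S15728

/-- Let k be an algebraically closed field, 0 < p < q coprime integers and m ≥ 1; put g = gcd(m, q−p)
and a = m/g, and grade k[X₀,…,X₄] by ℤ × ℤ/m, giving X₀ weight (1,0), X₁ and X₂ weight (−p,−1), and
X₃ and X₄ weight (q,1). For s ∈ k let J_s be the ideal (X₀^g, X₂, X₄, s − X₁^(aq)X₃^(ap)), whose
generators are homogeneous (the last one of weight zero). Then for every weight ν the image in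
k[X₀,…,X₄]/J_s of the homogeneous polynomials of weight ν is a k-vector space of dimension at most
1. (The published statement asserts that this dimension equals 1 for every ν and every s; this row
states the upper bound, the half obtained from the monomial analysis of the weight pieces, while the
lower bound there is drawn from the moduli interpretation of these ideals. The published statement
is over the complex numbers; this row takes any algebraically closed field, which is what the
reduction to s = 0, 1 by rescaling the variables uses.) -/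
theorem result (k : Type u) [Field k] [IsAlgClosed k] (p q m : ℕ) (hp : 0 < p) (hpq : p < q) (hcop : Nat.Coprime p q) (hm : 0 < m) (s : k) (ν : ℤ × ZMod m) :
    Module.rank k (W4c2invhilbsl2.piece k (W4c2invhilbsl2.wt5 p q m) (W4c2invhilbsl2.idealJ k p q m s) ν) ≤ 1 := by
  classical
  refine InvHilbLib.rank_piece_le_one _ _ _ fun d d' hd hd' => ?_
  set π := Ideal.Quotient.mkₐ k (W4c2invhilbsl2.idealJ k p q m s)
  have hgen : ∀ g ∈ ({MvPolynomial.X 0 ^ Nat.gcd m (q - p), MvPolynomial.X 2, MvPolynomial.X 4,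
      MvPolynomial.C s - MvPolynomial.X 1 ^ (m / Nat.gcd m (q - p) * q) * MvPolynomial.X 3 ^ (m / Nat.gcd m (q - p) * p)} :
        Set (MvPolynomial (Fin 5) k)), π g = 0 :=
    fun g hg => Ideal.Quotient.eq_zero_iff_mem.2 (Ideal.subset_span hg)
  have h1 : π (MvPolynomial.X 0) ^ Nat.gcd m (q - p) = 0 := by
    rw [← map_pow]; exact hgen _ (by simp)
  have h2 : π (MvPolynomial.X 2) = 0 := hgen _ (by simp)
  have h3 : π (MvPolynomial.X 4) = 0 := hgen _ (by simp)
  have h4 : π (MvPolynomial.X 1) ^ (m / Nat.gcd m (q - p) * q) * π (MvPolynomial.X 3) ^ (m / Nat.gcd m (q - p) * p) = algebraMap k _ s := by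
    have := hgen (MvPolynomial.C s - MvPolynomial.X 1 ^ (m / Nat.gcd m (q - p) * q) * MvPolynomial.X 3 ^ (m / Nat.gcd m (q - p) * p)) (by simp)
    rw [map_sub, sub_eq_zero, ← MvPolynomial.algebraMap_eq, AlgHom.commutes, map_mul, map_pow, map_pow] at this
    exact this.symm
  show ∃ r : k, π _ = r • π _ ∨ π _ = r • π _
  rw [InvHilbLib.monomial5 d, InvHilbLib.monomial5 d']
  simp only [map_mul, map_pow, h2, h3]
  by_cases hz : d 2 = 0 ∧ d 4 = 0
  swap
  · refine ⟨0, Or.inr ?_⟩
    rcases (show d 2 ≠ 0 ∨ d 4 ≠ 0 by omega) with h | h <;> simp [zero_pow h]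
  by_cases hz' : d' 2 = 0 ∧ d' 4 = 0
  swap
  · refine ⟨0, Or.inl ?_⟩
    rcases (show d' 2 ≠ 0 ∨ d' 4 ≠ 0 by omega) with h | h <;> simp [zero_pow h]
  rw [hz.1, hz.2, hz'.1, hz'.2]
  simp only [pow_zero, mul_one]
  have hdd := hd'.trans hd.symm
  rw [InvHilbLib.weight5, InvHilbLib.weight5, Prod.ext_iff, hz.1, hz.2, hz'.1, hz'.2] at hdd
  simp only [Nat.cast_zero, add_zero, zero_add] at hdd
  exact InvHilbLib.propJ_pair hp hpq hcop hm h1 h4 hdd.1
    (by rw [← ZMod.intCast_zmod_eq_zero_iff_dvd, Int.cast_sub, sub_eq_zero]; exact hdd.2)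

end Groth.Agent.S15728
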