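import Groth.Statements.S15729
import Groth.Agent.InvHilbLib.Mono

set_option autoImplicit false
universe u
open W4c2invhilbsl2

namespace Groth.Agent.S15729

/-- Let 0 < p < q be coprime integers and m ≥ 1 such that q − p does not divide m; put g = gcd(m, q−p),
b = (q−p)/g, α = ⌊mp/(q−p)⌋, β = the remainder of mp modulo q−p and t = (q−p−β)/g, so that 1 ≤ t <
b, and let b/t = c₁ − 1/(c₂ − 1/(⋯ − 1/c_r)) be the negative-regular (Hirzebruch–Jung) continued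
fraction expansion with every cᵢ ≥ 2; set P₀ = 0, P₁ = 1, Q₀ = −1, Q₁ = 0, Pᵢ = cᵢ₋₁Pᵢ₋₁ − Pᵢ₋₂, Qᵢ
= cᵢ₋₁Qᵢ₋₁ − Qᵢ₋₂ for 2 ≤ i ≤ r+1, and eᵢ = (α+1+m)Pᵢ − Qᵢ, lᵢ = (α+1)Pᵢ − Qᵢ, nᵢ = q·lᵢ − p·eᵢ,
which are non-negative integers for 0 ≤ i ≤ r+1. Grade the polynomial ring k[X₀,X₁,X₂] over a field
k by ℤ × ℤ/m with weights (1,0), (−p,−1), (q,1) (it stands for k[X₀,X₁,Xⱼ], j = 3 or 4, inside the
five-variable ring). Then for every 1 ≤ i ≤ r, every polynomial homogeneous of weight (nᵢ, 0) can be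
written a·X₀^(nᵢ) + b·X₁^(eᵢ)X₂^(lᵢ) with a and b homogeneous of weight zero; that is, the
weight-(nᵢ,0) piece is generated over the weight-zero subring by X₀^(nᵢ) and X₁^(eᵢ)X₂^(lᵢ). -/
theorem result (k : Type u) [Field k] (p q m : ℕ) (hp : 0 < p) (hpq : p < q) (hcop : Nat.Coprime p q) (hm : 0 < m) (hnt : ¬ (q - p ∣ m)) (c : List ℤ) (hc : W4c2invhilbsl2.IsHJDigits p q m c) (i : ℕ) (hi : 1 ≤ i) (hir : i ≤ c.length)
    (f : MvPolynomial (Fin 3) k) (hf : f ∈ MvPolynomial.weightedHomogeneousSubmodule k (W4c2invhilbsl2.wt3 p q m) (W4c2invhilbsl2.nN p q m c i, (0 : ZMod m))) :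
    ∃ a b : MvPolynomial (Fin 3) k, a ∈ MvPolynomial.weightedHomogeneousSubmodule k (W4c2invhilbsl2.wt3 p q m) 0 ∧ b ∈ MvPolynomial.weightedHomogeneousSubmodule k (W4c2invhilbsl2.wt3 p q m) 0 ∧
      f = a * MvPolynomial.X (0 : Fin 3) ^ (W4c2invhilbsl2.nN p q m c i).toNat +
        b * (MvPolynomial.X (1 : Fin 3) ^ (W4c2invhilbsl2.eE p q m c i).toNat * MvPolynomial.X (2 : Fin 3) ^ (W4c2invhilbsl2.lL p q m c i).toNat) := by
  classical
  have H : InvHilbLib.Hyp p q m c := ⟨hp, hpq, hcop, hm, hnt, hc⟩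
  set w := W4c2invhilbsl2.wt3 p q m
  set W := MvPolynomial.weightedHomogeneousSubmodule k w (0 : ℤ × ZMod m)
  set N := (W4c2invhilbsl2.nN p q m c i).toNat
  set E := (W4c2invhilbsl2.eE p q m c i).toNat
  set L := (W4c2invhilbsl2.lL p q m c i).toNat
  obtain ⟨hlpos, hepos⟩ := H.el_pos hir
  have hN : (N : ℤ) = W4c2invhilbsl2.nN p q m c i := Int.toNat_of_nonneg (H.n_nonneg (by omega))
  have hE : (E : ℤ) = W4c2invhilbsl2.eE p q m c i := Int.toNat_of_nonneg hepos.le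
  have hL : (L : ℤ) = W4c2invhilbsl2.lL p q m c i := Int.toNat_of_nonneg hlpos.le
  have hEL : (((L : ℤ) - E : ℤ) : ZMod m) = 0 := by
    rw [ZMod.intCast_zmod_eq_zero_iff_dvd, hE, hL, W4c2invhilbsl2.eE, W4c2invhilbsl2.lL]
    exact ⟨-W4c2invhilbsl2.hjP c i, by push_cast; ring⟩
  refine InvHilbLib.homog_induction w (P := fun f => ∃ a b : MvPolynomial (Fin 3) k, a ∈ W ∧ b ∈ W ∧
      f = a * MvPolynomial.X (0 : Fin 3) ^ N + b * (MvPolynomial.X (1 : Fin 3) ^ E * MvPolynomial.X (2 : Fin 3) ^ L)) ?_ ?_ ?_ hf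
  · exact ⟨0, 0, zero_mem _, zero_mem _, by simp⟩
  · rintro f g ⟨a, b, ha, hb, rfl⟩ ⟨a', b', ha', hb', rfl⟩
    exact ⟨a + a', b + b', add_mem ha ha', add_mem hb hb', by ring⟩
  · intro d r hd
    obtain ⟨h1, h2⟩ := InvHilbLib.dvd_of_weight3 p q m hd
    rcases H.split_weight hi hir (by omega) (by omega) (by omega) h1 h2 with h | ⟨h, h'⟩
    · obtain ⟨a, ha, he⟩ := InvHilbLib.split w r (InvHilbLib.E3_le (a := N) (b := 0) (c := 0) (by omega) (by omega) (by omega)) hd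
        (InvHilbLib.weight_E3 p q m N 0 0)
      refine ⟨a, 0, ?_, zero_mem _, ?_⟩
      · refine InvHilbLib.mem_zero ha ?_; rw [Prod.ext_iff]; simp [hN]
      · rw [he, InvHilbLib.monomial_E3]; ring
    · obtain ⟨a, ha, he⟩ := InvHilbLib.split w r (InvHilbLib.E3_le (a := 0) (b := E) (c := L) (by omega) (by omega) (by omega)) hd
        (InvHilbLib.weight_E3 p q m 0 E L)
      refine ⟨0, a, zero_mem _, ?_, ?_⟩
      · refine InvHilbLib.mem_zero ha ?_; rw [Prod.ext_iff]; simp only [hEL]; simp [hE, hL, W4c2invhilbsl2.nN]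
      · rw [he, InvHilbLib.monomial_E3]; ring

end Groth.Agent.S15729
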