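import Groth.Statements.S1573
import Mathlib
import Groth.Agent.AssLib.Structure


set_option autoImplicit false
universe u
open CategoryTheory CategoryTheory.Limits AlgebraicGeometry
open Divisors

namespace Groth.Agent.S1573

/-- Let X be locally Noetherian and U an open subscheme whose inclusion is an affine morphism. At every
point ξ outside U which is maximal under generisation among points outside U, the local ring of X
has dimension at most one; if U is dense the dimension equals one. -/
theorem result (X : Scheme.{u}) [IsLocallyNoetherian X]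
    (U : X.Opens) [IsAffineHom U.ι] (ξ : X) (hξ : ξ ∉ U) (hgen : ∀ y : X, y ∉ U → y ⤳ ξ → y = ξ) :
    ringKrullDim (X.presheaf.stalk ξ) ≤ 1 ∧ (Dense (U : Set X) → ringKrullDim (X.presheaf.stalk ξ) = 1) := by
  refine ⟨AssLib.ringKrullDim_stalk_le_one U hξ hgen, fun hd => ?_⟩
  refine le_antisymm (AssLib.ringKrullDim_stalk_le_one U hξ hgen) (le_of_not_gt fun hlt => hξ ?_)
  refine AssLib.mem_of_mem_closure_of_maximal (AssLib.maximal_of_ringKrullDim_le_zero ?_) (hd ξ)
  obtain ⟨n, hn⟩ := WithBot.ne_bot_iff_exists.mp (ringKrullDim_ne_bot (R := X.presheaf.stalk ξ))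
  rw [← hn] at hlt ⊢
  exact WithBot.coe_le_coe.mpr (ENat.lt_one_iff_eq_zero.mp (WithBot.coe_lt_coe.mp hlt)).le

end Groth.Agent.S1573
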