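import Groth.Statements.S15731
import Groth.Agent.InvHilbLib.Mono

set_option autoImplicit false
universe u
open W4c2invhilbsl2

namespace Groth.Agent.S15731

/-- Let 0 < p < q be coprime integers and m ≥ 1 such that q − p does not divide m; put g = gcd(m, q−p),
b = (q−p)/g, α = ⌊mp/(q−p)⌋, β = the remainder of mp modulo q−p and t = (q−p−β)/g, so that 1 ≤ t <
b, and let b/t = c₁ − 1/(c₂ − 1/(⋯ − 1/c_r)) be the negative-regular (Hirzebruch–Jung) continued
fraction expansion with every cᵢ ≥ 2; set P₀ = 0, P₁ = 1, Q₀ = −1, Q₁ = 0, Pᵢ = cᵢ₋₁Pᵢ₋₁ − Pᵢ₋₂, Qᵢ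
= cᵢ₋₁Qᵢ₋₁ − Qᵢ₋₂ for 2 ≤ i ≤ r+1, and eᵢ = (α+1+m)Pᵢ − Qᵢ, lᵢ = (α+1)Pᵢ − Qᵢ, nᵢ = q·lᵢ − p·eᵢ,
which are non-negative integers for 0 ≤ i ≤ r+1. Grade the polynomial ring k[X₀,X₁,X₂] over a field
k by ℤ × ℤ/m with weights (1,0), (−p,−1), (q,1) (it stands for k[X₀,X₁,Xⱼ], j = 3 or 4, inside the
five-variable ring), let K be the ideal generated by all weight-zero monomials other than 1, and for
1 ≤ i ≤ r let L⁽ⁱ⁾₁ be the ideal (X₀^(nᵢ₋₁), X₀^(nᵢ) − X₁^(eᵢ)X₂^(lᵢ)) + K, which is generated by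
homogeneous elements (X₀^(nᵢ) and X₁^(eᵢ)X₂^(lᵢ) both have weight (nᵢ, 0)). Then for every weight ν
the image in k[X₀,X₁,X₂]/L⁽ⁱ⁾₁ of the homogeneous polynomials of weight ν is a k-vector space of
dimension at most 1. (The published statement is over the complex numbers; this row takes any
field.) -/
theorem result (k : Type u) [Field k] (p q m : ℕ) (hp : 0 < p) (hpq : p < q) (hcop : Nat.Coprime p q) (hm : 0 < m) (hnt : ¬ (q - p ∣ m)) (c : List ℤ) (hc : W4c2invhilbsl2.IsHJDigits p q m c) (i : ℕ) (hi : 1 ≤ i) (hir : i ≤ c.length)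
    (ν : ℤ × ZMod m) :
    Module.rank k (W4c2invhilbsl2.piece k (W4c2invhilbsl2.wt3 p q m) (W4c2invhilbsl2.idealL k p q m c i 1) ν) ≤ 1 := by
  classical
  have H : InvHilbLib.Hyp p q m c := ⟨hp, hpq, hcop, hm, hnt, hc⟩
  refine InvHilbLib.rank_piece_le_one _ _ _ fun d d' hd hd' => ?_
  set π := Ideal.Quotient.mkₐ k (W4c2invhilbsl2.idealL k p q m c i (1 : k))
  have hgen : ∀ g ∈ W4c2invhilbsl2.idealL k p q m c i (1 : k), π g = 0 :=
    fun g hg => Ideal.Quotient.eq_zero_iff_mem.2 hg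
  have h1 : π (MvPolynomial.X 0) ^ (W4c2invhilbsl2.nN p q m c (i - 1)).toNat = 0 := by
    rw [← map_pow]; exact hgen _ (Ideal.mem_sup_left (Ideal.subset_span (by simp)))
  have h2 : π (MvPolynomial.X 1) ^ (W4c2invhilbsl2.eE p q m c i).toNat * π (MvPolynomial.X 2) ^ (W4c2invhilbsl2.lL p q m c i).toNat =
      (1 : k) • π (MvPolynomial.X 0) ^ (W4c2invhilbsl2.nN p q m c i).toNat := by
    have := hgen (MvPolynomial.C (1 : k) * MvPolynomial.X 0 ^ (W4c2invhilbsl2.nN p q m c i).toNat -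
      MvPolynomial.X 1 ^ (W4c2invhilbsl2.eE p q m c i).toNat * MvPolynomial.X 2 ^ (W4c2invhilbsl2.lL p q m c i).toNat)
      (Ideal.mem_sup_left (Ideal.subset_span (Or.inr rfl)))
    rw [map_sub, sub_eq_zero, ← MvPolynomial.algebraMap_eq, map_mul, AlgHom.commutes, map_mul, map_pow, map_pow, map_pow,
      ← Algebra.smul_def] at this
    exact this.symm
  have h3 : ∀ a b e : ℕ, 0 < b → (a : ℤ) - p * b + q * e = 0 → (m : ℤ) ∣ (e : ℤ) - b →
      π (MvPolynomial.X 0) ^ a * π (MvPolynomial.X 1) ^ b * π (MvPolynomial.X 2) ^ e = 0 := by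
    intro a b e hb hw hdvd
    rw [← map_pow, ← map_pow, ← map_pow, ← map_mul, ← map_mul, ← InvHilbLib.monomial_E3]
    refine hgen _ (Ideal.mem_sup_right (Ideal.subset_span ⟨InvHilbLib.E3 a b e, ?_, ?_, rfl⟩))
    · intro h
      have := DFunLike.congr_fun h (1 : Fin 3)
      simp [InvHilbLib.E3] at this
      omega
    · rw [InvHilbLib.weight_E3, Prod.ext_iff]
      exact ⟨hw, (ZMod.intCast_zmod_eq_zero_iff_dvd _ _).2 hdvd⟩
  show ∃ r : k, π _ = r • π _ ∨ π _ = r • π _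
  rw [InvHilbLib.monomial3 d, InvHilbLib.monomial3 d']
  simp only [map_mul, map_pow]
  have hdd := hd'.trans hd.symm
  rw [InvHilbLib.weight3, InvHilbLib.weight3, Prod.ext_iff] at hdd
  exact InvHilbLib.propL_pair H hi hir h1 h2 h3 hdd.1
    (by rw [← ZMod.intCast_zmod_eq_zero_iff_dvd, Int.cast_sub, sub_eq_zero]; exact hdd.2)

end Groth.Agent.S15731
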