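import Groth.Statements.S15732
import Groth.Agent.InvHilbLib.Mono

set_option autoImplicit false
universe u
open W4c2invhilbsl2

namespace Groth.Agent.S15732

/-- Let 0 < p < q be coprime integers and m ≥ 1 such that q − p does not divide m; put g = gcd(m, q−p),
b = (q−p)/g, α = ⌊mp/(q−p)⌋, β = the remainder of mp modulo q−p and t = (q−p−β)/g, so that 1 ≤ t <
b, and let b/t = c₁ − 1/(c₂ − 1/(⋯ − 1/c_r)) be the negative-regular (Hirzebruch–Jung) continued
fraction expansion with every cᵢ ≥ 2; set P₀ = 0, P₁ = 1, Q₀ = −1, Q₁ = 0, Pᵢ = cᵢ₋₁Pᵢ₋₁ − Pᵢ₋₂, Qᵢ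
= cᵢ₋₁Qᵢ₋₁ − Qᵢ₋₂ for 2 ≤ i ≤ r+1, and eᵢ = (α+1+m)Pᵢ − Qᵢ, lᵢ = (α+1)Pᵢ − Qᵢ, nᵢ = q·lᵢ − p·eᵢ,
which are non-negative integers for 0 ≤ i ≤ r+1. Grade the polynomial ring k[X₀,…,X₄] over a field k
by ℤ × ℤ/m, giving X₀ weight (1,0), X₁ and X₂ weight (−p,−1), and X₃ and X₄ weight (q,1). Then for
every 1 ≤ i ≤ r, modulo the principal ideal generated by the weight-zero element X₀^(q−p) − X₁X₄ +
X₂X₃, every polynomial homogeneous of weight (nᵢ, 0) is congruent to a combination a₀·X₀^(nᵢ) + Σ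
a_{e,l}·X₁^(eᵢ−e)X₂^e X₃^(lᵢ−l)X₄^l (sum over 0 ≤ e ≤ eᵢ, 0 ≤ l ≤ lᵢ) whose coefficients a₀, a_{e,l}
are homogeneous of weight zero. Equivalently, in the coordinate ring of the hypersurface the
weight-(nᵢ,0) piece is generated over the weight-zero subring (the invariant ring) by X₀^(nᵢ)
together with the products of a degree-eᵢ monomial in X₁, X₂ and a degree-lᵢ monomial in X₃, X₄.
(The published statement is over the complex numbers; this row takes any field.) -/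
theorem result (k : Type u) [Field k] (p q m : ℕ) (hp : 0 < p) (hpq : p < q) (hcop : Nat.Coprime p q) (hm : 0 < m) (hnt : ¬ (q - p ∣ m)) (c : List ℤ) (hc : W4c2invhilbsl2.IsHJDigits p q m c) (i : ℕ) (hi : 1 ≤ i) (hir : i ≤ c.length)
    (f : MvPolynomial (Fin 5) k) (hf : f ∈ MvPolynomial.weightedHomogeneousSubmodule k (W4c2invhilbsl2.wt5 p q m) (W4c2invhilbsl2.nN p q m c i, (0 : ZMod m))) :
    ∃ (a₀ : MvPolynomial (Fin 5) k) (a : ℕ → ℕ → MvPolynomial (Fin 5) k),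
      a₀ ∈ MvPolynomial.weightedHomogeneousSubmodule k (W4c2invhilbsl2.wt5 p q m) 0 ∧ (∀ e l : ℕ, a e l ∈ MvPolynomial.weightedHomogeneousSubmodule k (W4c2invhilbsl2.wt5 p q m) 0) ∧
      f - (a₀ * MvPolynomial.X (0 : Fin 5) ^ (W4c2invhilbsl2.nN p q m c i).toNat +
          ∑ e ∈ Finset.range ((W4c2invhilbsl2.eE p q m c i).toNat + 1), ∑ l ∈ Finset.range ((W4c2invhilbsl2.lL p q m c i).toNat + 1),
            a e l * (MvPolynomial.X (1 : Fin 5) ^ ((W4c2invhilbsl2.eE p q m c i).toNat - e) * MvPolynomial.X (2 : Fin 5) ^ e *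
              MvPolynomial.X (3 : Fin 5) ^ ((W4c2invhilbsl2.lL p q m c i).toNat - l) * MvPolynomial.X (4 : Fin 5) ^ l)) ∈
        Ideal.span {MvPolynomial.X (0 : Fin 5) ^ (q - p) - MvPolynomial.X 1 * MvPolynomial.X 4 + MvPolynomial.X 2 * MvPolynomial.X 3} := by
  classical
  have H : InvHilbLib.Hyp p q m c := ⟨hp, hpq, hcop, hm, hnt, hc⟩
  set w := W4c2invhilbsl2.wt5 p q m
  set W := MvPolynomial.weightedHomogeneousSubmodule k w (0 : ℤ × ZMod m)
  set I := Ideal.span {MvPolynomial.X (0 : Fin 5) ^ (q - p) - MvPolynomial.X 1 * MvPolynomial.X 4 + MvPolynomial.X 2 * MvPolynomial.X 3 (R := k)}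
  set N := (W4c2invhilbsl2.nN p q m c i).toNat
  set E := (W4c2invhilbsl2.eE p q m c i).toNat
  set L := (W4c2invhilbsl2.lL p q m c i).toNat
  obtain ⟨hlpos, hepos⟩ := H.el_pos hir
  have hN : (N : ℤ) = W4c2invhilbsl2.nN p q m c i := Int.toNat_of_nonneg (H.n_nonneg (by omega))
  have hE : (E : ℤ) = W4c2invhilbsl2.eE p q m c i := Int.toNat_of_nonneg hepos.le
  have hL : (L : ℤ) = W4c2invhilbsl2.lL p q m c i := Int.toNat_of_nonneg hlpos.le
  have hEL : (((L : ℤ) - E : ℤ) : ZMod m) = 0 := by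
    rw [ZMod.intCast_zmod_eq_zero_iff_dvd, hE, hL, W4c2invhilbsl2.eE, W4c2invhilbsl2.lL]
    exact ⟨-W4c2invhilbsl2.hjP c i, by push_cast; ring⟩
  let Φ : MvPolynomial (Fin 5) k → (ℕ → ℕ → MvPolynomial (Fin 5) k) → MvPolynomial (Fin 5) k := fun a₀ a =>
    a₀ * MvPolynomial.X (0 : Fin 5) ^ N +
          ∑ e ∈ Finset.range (E + 1), ∑ l ∈ Finset.range (L + 1),
            a e l * (MvPolynomial.X (1 : Fin 5) ^ (E - e) * MvPolynomial.X (2 : Fin 5) ^ e *
              MvPolynomial.X (3 : Fin 5) ^ (L - l) * MvPolynomial.X (4 : Fin 5) ^ l)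
  refine InvHilbLib.homog_induction w (P := fun f => ∃ (a₀ : MvPolynomial (Fin 5) k) (a : ℕ → ℕ → MvPolynomial (Fin 5) k),
      a₀ ∈ W ∧ (∀ e l : ℕ, a e l ∈ W) ∧ f - Φ a₀ a ∈ I) ?_ ?_ ?_ hf
  · exact ⟨0, 0, zero_mem _, fun _ _ => zero_mem _, by simp [Φ]⟩
  · rintro f g ⟨a, b, ha, hb, hI⟩ ⟨a', b', ha', hb', hI'⟩
    refine ⟨a + a', b + b', add_mem ha ha', fun e l => add_mem (hb e l) (hb' e l), ?_⟩
    convert add_mem hI hI' using 1
    simp only [Φ, Pi.add_apply, add_mul, Finset.sum_add_distrib]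
    ring
  · intro d r hd
    obtain ⟨h1, h2⟩ := InvHilbLib.dvd_of_weight5 p q m hd
    rcases H.split_weight hi hir (d0 := (d 0 : ℤ)) (d1 := (d 1 : ℤ) + d 2) (d2 := (d 3 : ℤ) + d 4)
      (by omega) (by omega) (by omega) h1 h2 with h | ⟨h, h'⟩
    · obtain ⟨x, hx, he⟩ := InvHilbLib.split w r (InvHilbLib.E5_le (a := N) (b := 0) (c := 0) (e := 0) (f := 0) (by omega) (by omega) (by omega) (by omega) (by omega)) hd
        (InvHilbLib.weight_E5 p q m N 0 0 0 0)
      refine ⟨x, 0, ?_, fun _ _ => zero_mem _, ?_⟩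
      · refine InvHilbLib.mem_zero hx ?_; rw [Prod.ext_iff]; simp [hN]
      · convert I.zero_mem
        rw [he, InvHilbLib.monomial_E5]; simp [Φ]
    · set e₀ := min (d 2) E
      set l₀ := min (d 4) L
      obtain ⟨x, hx, he⟩ := InvHilbLib.split w r (InvHilbLib.E5_le (a := 0) (b := E - e₀) (c := e₀) (e := L - l₀) (f := l₀) (by omega) (by omega) (by omega) (by omega) (by omega)) hd
        (InvHilbLib.weight_E5 p q m 0 (E - e₀) e₀ (L - l₀) l₀)
      have hxW : x ∈ W := by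
        refine InvHilbLib.mem_zero hx ?_
        rw [show ((E - e₀ : ℕ) : ℤ) + e₀ = E by omega, show ((L - l₀ : ℕ) : ℤ) + l₀ = L by omega, Prod.ext_iff]
        simp only [hEL]; simp [hE, hL, W4c2invhilbsl2.nN]
      refine ⟨0, fun e l => if e = e₀ ∧ l = l₀ then x else 0, zero_mem _, fun e l => ?_, ?_⟩
      · show (if e = e₀ ∧ l = l₀ then x else 0) ∈ W
        split_ifs
        · exact hxW
        · exact zero_mem _
      · convert I.zero_mem
        simp only [Φ, zero_mul, zero_add]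
        rw [Finset.sum_eq_single e₀, Finset.sum_eq_single l₀, if_pos ⟨rfl, rfl⟩, he, InvHilbLib.monomial_E5]
        · ring
        · intro l _ hl; rw [if_neg (fun h => hl h.2), zero_mul]
        · intro hl; exact absurd (Finset.mem_range.2 (by omega)) hl
        · intro e _ he'; exact Finset.sum_eq_zero fun l _ => by rw [if_neg (fun h => he' h.1), zero_mul]
        · intro he'; exact absurd (Finset.mem_range.2 (by omega)) he'

end Groth.Agent.S15732
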