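import Groth.Statements.S15733
import Groth.Agent.InvHilbLib.HJ

set_option autoImplicit false
open W4c2invhilbsl2

namespace Groth.Agent.S15733

theorem emod_eq {a d r k : ℤ} (h0 : 0 ≤ r) (h1 : r < d) (h : a = r + d * k) : a % d = r := by
  rw [h, Int.add_mul_emod_self_left]
  exact Int.emod_eq_of_lt h0 h1

/-- Let 0 < p < q be coprime integers and m ≥ 1 such that q − p does not divide m; put g = gcd(m, q−p),
b = (q−p)/g, α = ⌊mp/(q−p)⌋, β = the remainder of mp modulo q−p and t = (q−p−β)/g, so that 1 ≤ t <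
b, and let b/t = c₁ − 1/(c₂ − 1/(⋯ − 1/c_r)) be the negative-regular (Hirzebruch–Jung) continued
fraction expansion with every cᵢ ≥ 2; set P₀ = 0, P₁ = 1, Q₀ = −1, Q₁ = 0, Pᵢ = cᵢ₋₁Pᵢ₋₁ − Pᵢ₋₂, Qᵢ
= cᵢ₋₁Qᵢ₋₁ − Qᵢ₋₂ for 2 ≤ i ≤ r+1, and eᵢ = (α+1+m)Pᵢ − Qᵢ, lᵢ = (α+1)Pᵢ − Qᵢ, nᵢ = q·lᵢ − p·eᵢ,
which are non-negative integers for 0 ≤ i ≤ r+1. Then for every 1 < i ≤ r and every integer x with 0
< x < Pᵢ, the remainder of pmx + nᵢ on division by q − p equals nᵢ plus the remainder of pmx on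
division by q − p (in particular nᵢ + (pmx mod (q−p)) < q − p). -/
theorem result (p q m : ℕ) (hp : 0 < p) (hpq : p < q) (hcop : Nat.Coprime p q) (hm : 0 < m) (hnt : ¬ (q - p ∣ m)) (c : List ℤ) (hc : W4c2invhilbsl2.IsHJDigits p q m c) (i : ℕ) (hi : 1 < i) (hir : i ≤ c.length)
    (x : ℤ) (hx0 : 0 < x) (hx : x < W4c2invhilbsl2.hjP c i) :
    Int.emod ((p : ℤ) * m * x + W4c2invhilbsl2.nN p q m c i) ((q : ℤ) - p) = W4c2invhilbsl2.nN p q m c i + Int.emod ((p : ℤ) * m * x) ((q : ℤ) - p) := by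
  have H : InvHilbLib.Hyp p q m c := ⟨hp, hpq, hcop, hm, hnt, hc⟩
  obtain ⟨j, rfl⟩ : ∃ j, i = j + 1 := ⟨i - 1, by omega⟩
  set b : ℤ := (W4c2invhilbsl2.bB p q m : ℤ) with hb
  set t : ℤ := (W4c2invhilbsl2.tT p q m : ℤ) with ht
  have hbpos : 0 < b := H.tpos.trans H.tlt
  set y := t * x / b with hy
  set ρ := t * x - b * y with hρ
  have h0 : 0 ≤ ρ := by have := Int.emod_nonneg (t * x) hbpos.ne'; rw [Int.emod_def] at this; exact this
  have h1 : ρ < b := by have := Int.emod_lt_of_pos (t * x) hbpos; rw [Int.emod_def] at this; exact this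
  have hT := H.T_facts.1 j (by omega)
  have hT0 := H.T_nonneg (j + 1) (by omega)
  have hlow : InvHilbLib.T p q m c j ≤ ρ := by
    rcases H.gap (j := j) (by omega) hx0 hx (y := y) with h | h
    · exact h
    · linarith
  have hg := H.gpos
  have hgb := H.gb
  rw [H.nN_eq]
  set g : ℤ := (W4c2invhilbsl2.gcdK p q m : ℤ) with hgdef
  have r2 : ((p : ℤ) * m * x) % ((q : ℤ) - p) = ((q : ℤ) - p) - g * ρ := by
    refine emod_eq (k := ((W4c2invhilbsl2.alpha p q m : ℤ) + 1) * x - y - 1) ?_ ?_ ?_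
    · rw [← hgb]; nlinarith
    · nlinarith
    · linear_combination x * H.mp_eq - y * hgb
  show ((p : ℤ) * m * x + g * InvHilbLib.T p q m c (j + 1)) % ((q : ℤ) - p) = _ + ((p : ℤ) * m * x) % ((q : ℤ) - p)
  rw [r2]
  refine emod_eq (k := ((W4c2invhilbsl2.alpha p q m : ℤ) + 1) * x - y - 1) ?_ ?_ ?_
  · rw [← hgb]; nlinarith
  · nlinarith
  · linear_combination x * H.mp_eq - y * hgb

end Groth.Agent.S15733
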