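import Groth.Statements.S15734
import Groth.Agent.InvHilbLib.HJ

set_option autoImplicit false
open W4c2invhilbsl2

namespace Groth.Agent.S15734

/-- Let 0 < p < q be coprime integers and m ≥ 1 such that q − p does not divide m; put g = gcd(m, q−p),
b = (q−p)/g, α = ⌊mp/(q−p)⌋, β = the remainder of mp modulo q−p and t = (q−p−β)/g, so that 1 ≤ t <
b, and let b/t = c₁ − 1/(c₂ − 1/(⋯ − 1/c_r)) be the negative-regular (Hirzebruch–Jung) continued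
fraction expansion with every cᵢ ≥ 2; set P₀ = 0, P₁ = 1, Q₀ = −1, Q₁ = 0, Pᵢ = cᵢ₋₁Pᵢ₋₁ − Pᵢ₋₂, Qᵢ
= cᵢ₋₁Qᵢ₋₁ − Qᵢ₋₂ for 2 ≤ i ≤ r+1, and eᵢ = (α+1+m)Pᵢ − Qᵢ, lᵢ = (α+1)Pᵢ − Qᵢ, nᵢ = q·lᵢ − p·eᵢ,
which are non-negative integers for 0 ≤ i ≤ r+1; moreover g divides every nᵢ, and write tᵢ = nᵢ/g
(so t₁ = t). Then (a) for every 1 ≤ i ≤ r the remainder of t·Pᵢ on division by b equals tᵢ, and (b)
for every 1 < i ≤ r and every integer x with 0 < x < Pᵢ the remainder ρ of t·x on division by b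
satisfies tᵢ₋₁ ≤ ρ ≤ b + tᵢ − tᵢ₋₁. -/
theorem result (p q m : ℕ) (hp : 0 < p) (hpq : p < q) (hcop : Nat.Coprime p q) (hm : 0 < m) (hnt : ¬ (q - p ∣ m)) (c : List ℤ) (hc : W4c2invhilbsl2.IsHJDigits p q m c) :
    (∀ i : ℕ, 1 ≤ i → i ≤ c.length →
      Int.emod ((W4c2invhilbsl2.tT p q m : ℤ) * W4c2invhilbsl2.hjP c i) (W4c2invhilbsl2.bB p q m : ℤ) = W4c2invhilbsl2.nN p q m c i / (W4c2invhilbsl2.gcdK p q m : ℤ)) ∧
    (∀ i : ℕ, 1 < i → i ≤ c.length → ∀ x : ℤ, 0 < x → x < W4c2invhilbsl2.hjP c i →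
      W4c2invhilbsl2.nN p q m c (i - 1) / (W4c2invhilbsl2.gcdK p q m : ℤ) ≤ Int.emod ((W4c2invhilbsl2.tT p q m : ℤ) * x) (W4c2invhilbsl2.bB p q m : ℤ) ∧
      Int.emod ((W4c2invhilbsl2.tT p q m : ℤ) * x) (W4c2invhilbsl2.bB p q m : ℤ) ≤
        (W4c2invhilbsl2.bB p q m : ℤ) + W4c2invhilbsl2.nN p q m c i / (W4c2invhilbsl2.gcdK p q m : ℤ) - W4c2invhilbsl2.nN p q m c (i - 1) / (W4c2invhilbsl2.gcdK p q m : ℤ)) := by
  have H : InvHilbLib.Hyp p q m c := ⟨hp, hpq, hcop, hm, hnt, hc⟩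
  have hdiv : ∀ j, W4c2invhilbsl2.nN p q m c j / (W4c2invhilbsl2.gcdK p q m : ℤ) = InvHilbLib.T p q m c j := fun j => by
    rw [H.nN_eq, Int.mul_ediv_cancel_left _ H.gpos.ne']
  set b : ℤ := (W4c2invhilbsl2.bB p q m : ℤ) with hb
  set t : ℤ := (W4c2invhilbsl2.tT p q m : ℤ) with ht
  have hbpos : 0 < b := H.tpos.trans H.tlt
  refine ⟨fun i hi hir => ?_, fun i hi hir x hx0 hx => ?_⟩
  · rw [hdiv]
    have h0 := H.T_nonneg i (by omega)
    have h1 := H.T_lt_b hi (by omega)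
    show (t * W4c2invhilbsl2.hjP c i) % b = _
    rw [show t * W4c2invhilbsl2.hjP c i = InvHilbLib.T p q m c i + b * W4c2invhilbsl2.hjQ c i by
      rw [InvHilbLib.T]; ring, Int.add_mul_emod_self_left]
    exact Int.emod_eq_of_lt h0 h1
  · obtain ⟨j, rfl⟩ : ∃ j, i = j + 1 := ⟨i - 1, by omega⟩
    rw [Nat.add_sub_cancel, hdiv, hdiv]
    show _ ≤ (t * x) % b ∧ (t * x) % b ≤ _
    have e := Int.emod_def (t * x) b
    have h0 := Int.emod_nonneg (t * x) hbpos.ne'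
    have h1 := Int.emod_lt_of_pos (t * x) hbpos
    have hT := H.T_facts.1 j (by omega)
    have hTb := H.T_le_b j (by omega)
    have hT0 := H.T_nonneg (j + 1) (by omega)
    constructor
    · rcases H.gap (j := j) (by omega) hx0 hx (y := t * x / b) with h | h
      · linarith
      · linarith
    · rcases H.gap (j := j) (by omega) hx0 hx (y := t * x / b + 1) with h | h
      · rw [mul_add, mul_one] at h; linarith
      · rw [mul_add, mul_one] at h; linarith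

end Groth.Agent.S15734
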