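import Groth.Statements.S15737
import Mathlib.Tactic.Linarith
import Mathlib.Tactic.Ring
import Mathlib.Tactic.LinearCombination

set_option autoImplicit false
open W4c2invhilbsl2

namespace Groth.Agent.S15737

/-- For a monomial X₀^d₀X₁^d₁X₂^d₂ of the polynomial ring in X₀, X₁, X₂ (X₂ standing for Xⱼ, j = 3 or 4,
of the five-variable ring) put n = d₀ − p·d₁ + q·d₂ (its weight for the torus diag(t, t^(−p), t^q)),
c = d₁ − d₂ and ω = p·d₁ − q·d₂, so that d₀ = n + ω; here 0 < p < q are coprime integers. Then n + ω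
< q − p, that is d₀ < q − p, holds if and only if ω is the least value of ω among all monomials with
the same pair (n, c). -/
theorem result (p q : ℕ) (hp : 0 < p) (hpq : p < q) (hcop : Nat.Coprime p q) (d0 d1 d2 : ℕ) :
    d0 < q - p ↔
      ∀ e0 e1 e2 : ℕ, (e0 : ℤ) - (p : ℤ) * e1 + (q : ℤ) * e2 = (d0 : ℤ) - (p : ℤ) * d1 + (q : ℤ) * d2 → (e1 : ℤ) - e2 = (d1 : ℤ) - d2 →
        (p : ℤ) * d1 - (q : ℤ) * d2 ≤ (p : ℤ) * e1 - (q : ℤ) * e2 := by
  constructor
  · intro h e0 e1 e2 hn hc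
    have hk : (e1 : ℤ) - d1 ≤ 0 := by
      by_contra hk
      push Not at hk
      have h' : (d0 : ℤ) < (q : ℤ) - p := by omega
      have h1 : (e0 : ℤ) = d0 - ((q : ℤ) - p) * ((e1 : ℤ) - d1) := by
        linear_combination hn + (q : ℤ) * hc
      nlinarith [Int.natCast_nonneg e0, mul_le_mul_of_nonneg_left (by omega : (1 : ℤ) ≤ (e1 : ℤ) - d1) (by omega : (0 : ℤ) ≤ (q : ℤ) - p)]
    have h2 : ((p : ℤ) * e1 - q * e2) - ((p : ℤ) * d1 - q * d2) = ((q : ℤ) - p) * ((d1 : ℤ) - e1) := by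
      linear_combination (q : ℤ) * hc
    nlinarith [mul_nonneg (by omega : (0 : ℤ) ≤ (q : ℤ) - p) (by omega : (0 : ℤ) ≤ (d1 : ℤ) - e1)]
  · intro h
    by_contra hd
    push Not at hd
    have := h (d0 - (q - p)) (d1 + 1) (d2 + 1) (by push_cast [Nat.cast_sub hd, Nat.cast_sub hpq.le]; ring) (by push_cast; ring)
    push_cast at this
    linarith

end Groth.Agent.S15737
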