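import Groth.Statements.S15738
import Mathlib

set_option autoImplicit false
universe u
open W4c2invhilbsl2

namespace Groth.Agent.S15738

theorem monomial_congr {R : Type*} [CommRing R] (a b c : R) (p q : ℕ) (hpq : p < q) (d0 d1 d2 e0 e1 e2 : ℕ)
    (hn : (e0 : ℤ) - (p : ℤ) * e1 + (q : ℤ) * e2 = (d0 : ℤ) - (p : ℤ) * d1 + (q : ℤ) * d2)
    (hc : (d1 : ℤ) - d2 = (e1 : ℤ) - e2) :
    a ^ (q - p) - b * c ∣ a ^ d0 * b ^ d1 * c ^ d2 - a ^ e0 * b ^ e1 * c ^ e2 := by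
  rcases le_total d1 e1 with h | h
  · obtain ⟨s, rfl⟩ := Nat.exists_eq_add_of_le h
    obtain rfl : e2 = d2 + s := by omega
    have h0 : (d0 : ℤ) = e0 + ((q - p : ℕ) : ℤ) * s := by
      push_cast [Nat.cast_sub hpq.le] at hn ⊢
      linarith
    have h0' : d0 = e0 + (q - p) * s := by exact_mod_cast h0
    obtain ⟨w, hw⟩ := sub_dvd_pow_sub_pow (a ^ (q - p)) (b * c) s
    refine ⟨a ^ e0 * b ^ d1 * c ^ d2 * w, ?_⟩
    rw [mul_pow] at hw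
    rw [h0', pow_add, pow_add, pow_add, pow_mul]
    linear_combination (a ^ e0 * b ^ d1 * c ^ d2) * hw
  · obtain ⟨s, rfl⟩ := Nat.exists_eq_add_of_le h
    obtain rfl : d2 = e2 + s := by omega
    have h0 : (e0 : ℤ) = d0 + ((q - p : ℕ) : ℤ) * s := by
      push_cast [Nat.cast_sub hpq.le] at hn ⊢
      linarith
    have h0' : e0 = d0 + (q - p) * s := by exact_mod_cast h0
    obtain ⟨w, hw⟩ := sub_dvd_pow_sub_pow (a ^ (q - p)) (b * c) s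
    refine ⟨-(a ^ d0 * b ^ e1 * c ^ e2 * w), ?_⟩
    rw [mul_pow] at hw
    rw [h0', pow_add, pow_add, pow_add, pow_mul]
    linear_combination -(a ^ d0 * b ^ e1 * c ^ e2) * hw

theorem monomial_shift {R : Type*} [CommRing R] (a b c : R) (p q m : ℕ) (hpq : p < q) (d0 d1 d2 e0 e1 e2 : ℕ)
    (hn : (e0 : ℤ) - (p : ℤ) * e1 + (q : ℤ) * e2 = (d0 : ℤ) - (p : ℤ) * d1 + (q : ℤ) * d2) (t : ℕ)
    (hc : (d1 : ℤ) - d2 = (e1 : ℤ) - e2 + m * t) :
    a ^ (q - p) - b * c ∣ a ^ d0 * b ^ d1 * c ^ d2 - a ^ e0 * b ^ e1 * c ^ e2 * (a ^ (m * p) * b ^ m) ^ t := by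
  have := monomial_congr a b c p q hpq d0 d1 d2 (e0 + m * p * t) (e1 + m * t) e2
    (by push_cast; linarith) (by push_cast; linarith)
  convert this using 2
  rw [pow_add, pow_add, pow_mul, pow_mul, mul_pow]
  ring

/-- Let k be a field and m ≥ 1; for a monomial X₀^d₀X₁^d₁X₂^d₂ of the polynomial ring in X₀, X₁, X₂ (X₂
standing for Xⱼ, j = 3 or 4, of the five-variable ring) put n = d₀ − p·d₁ + q·d₂ (its weight for the
torus diag(t, t^(−p), t^q)), c = d₁ − d₂ and ω = p·d₁ − q·d₂, so that d₀ = n + ω; here 0 < p < q are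
coprime integers. Take two monomials X₀^d₀X₁^d₁X₂^d₂ and X₀^e₀X₁^e₁X₂^e₂ with the same n and with
values c, c' of c congruent modulo m (so both lie in the same ℤ × ℤ/m-weight piece for the weights
(1,0), (−p,−1), (q,1)). Then: (i) if c = c', the difference of the two monomials lies in the
principal ideal (X₀^(q−p) − X₁X₂); (ii) if c' < c, the monomial X₀^d₀X₁^d₁X₂^d₂ lies in the ideal
(X₀^(q−p) − X₁X₂, X₀^(mp)X₁^m); (iii) in all cases the difference lies in the ideal (X₀^(q−p) −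
X₁X₂, 1 − X₀^(mp)X₁^m). -/
theorem result (k : Type u) [Field k] (p q m : ℕ) (hp : 0 < p) (hpq : p < q) (hcop : Nat.Coprime p q) (hm : 0 < m)
    (d0 d1 d2 e0 e1 e2 : ℕ) (hn : (e0 : ℤ) - (p : ℤ) * e1 + (q : ℤ) * e2 = (d0 : ℤ) - (p : ℤ) * d1 + (q : ℤ) * d2)
    (hc : (m : ℤ) ∣ ((d1 : ℤ) - d2) - ((e1 : ℤ) - e2)) :
    ((d1 : ℤ) - d2 = (e1 : ℤ) - e2 →
      (MvPolynomial.X (0 : Fin 3) ^ d0 * MvPolynomial.X (1 : Fin 3) ^ d1 * MvPolynomial.X (2 : Fin 3) ^ d2 - MvPolynomial.X (0 : Fin 3) ^ e0 * MvPolynomial.X (1 : Fin 3) ^ e1 * MvPolynomial.X (2 : Fin 3) ^ e2 : MvPolynomial (Fin 3) k) ∈ Ideal.span {MvPolynomial.X (0 : Fin 3) ^ (q - p) - MvPolynomial.X (1 : Fin 3) * MvPolynomial.X (2 : Fin 3)}) ∧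
    ((e1 : ℤ) - e2 < (d1 : ℤ) - d2 →
      (MvPolynomial.X (0 : Fin 3) ^ d0 * MvPolynomial.X (1 : Fin 3) ^ d1 * MvPolynomial.X (2 : Fin 3) ^ d2 : MvPolynomial (Fin 3) k) ∈ Ideal.span {MvPolynomial.X (0 : Fin 3) ^ (q - p) - MvPolynomial.X (1 : Fin 3) * MvPolynomial.X (2 : Fin 3), MvPolynomial.X (0 : Fin 3) ^ (m * p) * MvPolynomial.X (1 : Fin 3) ^ m}) ∧
    ((MvPolynomial.X (0 : Fin 3) ^ d0 * MvPolynomial.X (1 : Fin 3) ^ d1 * MvPolynomial.X (2 : Fin 3) ^ d2 - MvPolynomial.X (0 : Fin 3) ^ e0 * MvPolynomial.X (1 : Fin 3) ^ e1 * MvPolynomial.X (2 : Fin 3) ^ e2 : MvPolynomial (Fin 3) k) ∈ Ideal.span {MvPolynomial.X (0 : Fin 3) ^ (q - p) - MvPolynomial.X (1 : Fin 3) * MvPolynomial.X (2 : Fin 3), 1 - MvPolynomial.X (0 : Fin 3) ^ (m * p) * MvPolynomial.X (1 : Fin 3) ^ m}) := by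
  set a : MvPolynomial (Fin 3) k := MvPolynomial.X 0
  set b : MvPolynomial (Fin 3) k := MvPolynomial.X 1
  set c : MvPolynomial (Fin 3) k := MvPolynomial.X 2
  refine ⟨fun h => Ideal.mem_span_singleton.2 (monomial_congr a b c p q hpq d0 d1 d2 e0 e1 e2 hn h),
    fun h => ?_, ?_⟩
  · obtain ⟨t, ht⟩ := hc
    have htpos : 0 < t := by
      by_contra hneg
      push Not at hneg
      nlinarith
    lift t to ℕ using htpos.le
    obtain ⟨t, rfl⟩ : ∃ t', t = t' + 1 := ⟨t - 1, by omega⟩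
    obtain ⟨w, hw⟩ := monomial_shift a b c p q m hpq d0 d1 d2 e0 e1 e2 hn (t + 1) (by linarith)
    rw [Ideal.mem_span_pair]
    exact ⟨w, a ^ e0 * b ^ e1 * c ^ e2 * (a ^ (m * p) * b ^ m) ^ t, by linear_combination -hw⟩
  · obtain ⟨t, ht⟩ := hc
    rw [Ideal.mem_span_pair]
    rcases le_total 0 t with h | h
    · lift t to ℕ using h
      obtain ⟨w, hw⟩ := monomial_shift a b c p q m hpq d0 d1 d2 e0 e1 e2 hn t (by linarith)
      obtain ⟨v, hv⟩ := sub_dvd_pow_sub_pow (1 : MvPolynomial (Fin 3) k) (a ^ (m * p) * b ^ m) t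
      rw [one_pow] at hv
      exact ⟨w, -(a ^ e0 * b ^ e1 * c ^ e2 * v), by linear_combination -hw + (a ^ e0 * b ^ e1 * c ^ e2) * hv⟩
    · obtain ⟨t, rfl⟩ : ∃ s : ℕ, t = -(s : ℤ) := ⟨(-t).toNat, by omega⟩
      obtain ⟨w, hw⟩ := monomial_shift a b c p q m hpq e0 e1 e2 d0 d1 d2 hn.symm t (by linarith)
      obtain ⟨v, hv⟩ := sub_dvd_pow_sub_pow (1 : MvPolynomial (Fin 3) k) (a ^ (m * p) * b ^ m) t
      rw [one_pow] at hv
      exact ⟨-w, a ^ d0 * b ^ d1 * c ^ d2 * v, by linear_combination hw - (a ^ d0 * b ^ d1 * c ^ d2) * hv⟩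

end Groth.Agent.S15738
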