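import Groth.Statements.S15739
import Mathlib

set_option autoImplicit false
universe u
open W4c2invhilbsl2

namespace Groth.Agent.S15739

/-- Let k be a field and m ≥ 1, put g = gcd(m, q−p), a = m/g and b = (q−p)/g; for a monomial
X₀^d₀X₁^d₁X₂^d₂ of the polynomial ring in X₀, X₁, X₂ (X₂ standing for Xⱼ, j = 3 or 4, of the
five-variable ring) put n = d₀ − p·d₁ + q·d₂ (its weight for the torus diag(t, t^(−p), t^q)), c = d₁
− d₂ and ω = p·d₁ − q·d₂, so that d₀ = n + ω; here 0 < p < q are coprime integers. Take two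
monomials X₀^d₀X₁^d₁X₂^d₂ and X₀^e₀X₁^e₁X₂^e₂ with the same n, where 0 ≤ n < q − p, whose values c
and c' of c are both divisible by m, and with d₀ < g and e₀ < g (so each has the least ω for its
pair (n, c), as g ≤ q − p). Then: (i) d₀ = e₀, i.e. the two values of ω agree, and m·b divides c −
c'; (ii) if c < c', then X₀^e₀X₁^e₁X₂^e₂ is a multiple of X₀^d₀X₁^d₁X₂^d₂ · X₁^(aq)X₂^(ap); (iii)
the difference of the two monomials lies in the principal ideal (1 − X₁^(aq)X₂^(ap)). -/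
theorem result (k : Type u) [Field k] (p q m : ℕ) (hp : 0 < p) (hpq : p < q) (hcop : Nat.Coprime p q) (hm : 0 < m)
    (d0 d1 d2 e0 e1 e2 : ℕ) (hn : (e0 : ℤ) - (p : ℤ) * e1 + (q : ℤ) * e2 = (d0 : ℤ) - (p : ℤ) * d1 + (q : ℤ) * d2)
    (hn0 : 0 ≤ (d0 : ℤ) - (p : ℤ) * d1 + (q : ℤ) * d2) (hnq : (d0 : ℤ) - (p : ℤ) * d1 + (q : ℤ) * d2 < (q : ℤ) - p)
    (hcd : (m : ℤ) ∣ (d1 : ℤ) - d2) (hce : (m : ℤ) ∣ (e1 : ℤ) - e2)
    (hd0 : d0 < Nat.gcd m (q - p)) (he0 : e0 < Nat.gcd m (q - p)) :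
    (d0 = e0 ∧ ((m : ℤ) * ((q - p) / Nat.gcd m (q - p) : ℕ)) ∣ ((d1 : ℤ) - d2) - ((e1 : ℤ) - e2)) ∧
    ((d1 : ℤ) - d2 < (e1 : ℤ) - e2 →
      (MvPolynomial.X (0 : Fin 3) ^ d0 * MvPolynomial.X (1 : Fin 3) ^ d1 * MvPolynomial.X (2 : Fin 3) ^ d2 * (MvPolynomial.X (1 : Fin 3) ^ (m / Nat.gcd m (q - p) * q) * MvPolynomial.X (2 : Fin 3) ^ (m / Nat.gcd m (q - p) * p)) : MvPolynomial (Fin 3) k) ∣ MvPolynomial.X (0 : Fin 3) ^ e0 * MvPolynomial.X (1 : Fin 3) ^ e1 * MvPolynomial.X (2 : Fin 3) ^ e2) ∧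
    ((MvPolynomial.X (0 : Fin 3) ^ e0 * MvPolynomial.X (1 : Fin 3) ^ e1 * MvPolynomial.X (2 : Fin 3) ^ e2 - MvPolynomial.X (0 : Fin 3) ^ d0 * MvPolynomial.X (1 : Fin 3) ^ d1 * MvPolynomial.X (2 : Fin 3) ^ d2 : MvPolynomial (Fin 3) k) ∈
      Ideal.span {(1 : MvPolynomial (Fin 3) k) - MvPolynomial.X (1 : Fin 3) ^ (m / Nat.gcd m (q - p) * q) * MvPolynomial.X (2 : Fin 3) ^ (m / Nat.gcd m (q - p) * p)}) := by
  set g := Nat.gcd m (q - p) with hg
  set a := m / g with ha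
  set b := (q - p) / g with hb
  have hgpos : 0 < g := Nat.gcd_pos_of_pos_left _ hm
  have hma : m = g * a := (Nat.mul_div_cancel' (Nat.gcd_dvd_left _ _)).symm
  have hqb : q - p = g * b := (Nat.mul_div_cancel' (Nat.gcd_dvd_right _ _)).symm
  have hqz : (q : ℤ) = p + g * b := by
    have : q = p + g * b := by omega
    exact_mod_cast this
  have hmz : (m : ℤ) = g * a := by exact_mod_cast hma
  obtain ⟨u, hu⟩ := hcd
  obtain ⟨v, hv⟩ := hce
  have hdiff : (d0 : ℤ) - e0 = (g : ℤ) * (p * a * (u - v) - b * ((d2 : ℤ) - e2)) := by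
    linear_combination -hn + (p : ℤ) * hu - (p : ℤ) * hv + (p : ℤ) * (u - v) * hmz - ((d2 : ℤ) - e2) * hqz
  have hde : (d0 : ℤ) = e0 := by
    have h1 : ((d0 : ℤ) - e0) = 0 := by
      refine Int.eq_zero_of_abs_lt_dvd ⟨_, hdiff⟩ ?_
      rw [abs_lt]; omega
    omega
  have hde' : d0 = e0 := by exact_mod_cast hde
  have hz : (p : ℤ) * a * (u - v) - b * ((d2 : ℤ) - e2) = 0 := by
    rw [hde, sub_self] at hdiff
    exact (mul_eq_zero.1 hdiff.symm).resolve_left (by omega)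
  have hcop1 : IsCoprime (b : ℤ) ((p : ℤ) * a) := by
    rw [← Nat.cast_mul, Int.isCoprime_iff_nat_coprime]
    simp only [Int.natAbs_natCast]
    have hab : Nat.Coprime a b := Nat.coprime_div_gcd_div_gcd hgpos
    have hqp : Nat.Coprime p (q - p) := by
      rw [Nat.coprime_sub_self_right hpq.le]; exact hcop
    refine Nat.Coprime.mul_right ?_ hab.symm
    rw [hqb] at hqp
    exact (Nat.Coprime.coprime_mul_left_right hqp).symm
  obtain ⟨t, ht⟩ : (b : ℤ) ∣ u - v := hcop1.dvd_of_dvd_mul_left ⟨(d2 : ℤ) - e2, by linarith⟩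
  have hb0 : (b : ℤ) ≠ 0 := by
    intro h
    have : b = 0 := by exact_mod_cast h
    rw [this, mul_zero] at hqb; omega
  have hw : (d2 : ℤ) - e2 = p * a * t := by
    apply mul_left_cancel₀ hb0
    linear_combination -hz + (p : ℤ) * a * ht
  have hcc : ((d1 : ℤ) - d2) - ((e1 : ℤ) - e2) = (m : ℤ) * b * t := by
    linear_combination hu - hv + (m : ℤ) * ht
  have hd1 : (d1 : ℤ) - e1 = (a : ℤ) * q * t := by
    linear_combination hcc + hw + (b : ℤ) * t * hmz - (a : ℤ) * t * hqz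
  set B : MvPolynomial (Fin 3) k := MvPolynomial.X 1
  set Cc : MvPolynomial (Fin 3) k := MvPolynomial.X 2
  set A : MvPolynomial (Fin 3) k := MvPolynomial.X 0
  have hpos : ∀ s : ℕ, t = -(s : ℤ) → e1 = d1 + a * q * s ∧ e2 = d2 + a * p * s := by
    intro s hs
    subst hs
    constructor
    · have : (e1 : ℤ) = d1 + a * q * s := by linarith
      exact_mod_cast this
    · have : (e2 : ℤ) = d2 + a * p * s := by linarith
      exact_mod_cast this
  refine ⟨⟨hde', t, hcc⟩, fun hlt => ?_, ?_⟩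
  · have htneg : t < 0 := by
      by_contra h
      push Not at h
      have : (0 : ℤ) ≤ (m : ℤ) * b * t := by positivity
      linarith
    obtain ⟨s, hs⟩ : ∃ s : ℕ, t = -((s + 1 : ℕ) : ℤ) := ⟨(-t).toNat - 1, by omega⟩
    obtain ⟨h1, h2⟩ := hpos (s + 1) hs
    rw [h1, h2, hde']
    exact ⟨B ^ (a * q * s) * Cc ^ (a * p * s), by ring⟩
  · rw [Ideal.mem_span_singleton]
    rcases le_total t 0 with h | h
    · obtain ⟨s, hs⟩ : ∃ s : ℕ, t = -(s : ℤ) := ⟨(-t).toNat, by omega⟩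
      obtain ⟨h1, h2⟩ := hpos s hs
      obtain ⟨w, hw⟩ := sub_dvd_pow_sub_pow (1 : MvPolynomial (Fin 3) k) (B ^ (a * q) * Cc ^ (a * p)) s
      rw [one_pow] at hw
      refine ⟨-(A ^ e0 * B ^ d1 * Cc ^ d2 * w), ?_⟩
      rw [h1, h2, hde', pow_add, pow_add, pow_mul B (a * q), pow_mul Cc (a * p)]
      linear_combination -(A ^ e0 * B ^ d1 * Cc ^ d2) * hw
    · lift t to ℕ using h
      have h1 : d1 = e1 + a * q * t := by
        have : (d1 : ℤ) = e1 + a * q * t := by linarith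
        exact_mod_cast this
      have h2 : d2 = e2 + a * p * t := by
        have : (d2 : ℤ) = e2 + a * p * t := by linarith
        exact_mod_cast this
      obtain ⟨w, hw⟩ := sub_dvd_pow_sub_pow (1 : MvPolynomial (Fin 3) k) (B ^ (a * q) * Cc ^ (a * p)) t
      rw [one_pow] at hw
      refine ⟨A ^ e0 * B ^ e1 * Cc ^ e2 * w, ?_⟩
      rw [h1, h2, hde', pow_add, pow_add, pow_mul B (a * q), pow_mul Cc (a * p)]
      linear_combination (A ^ e0 * B ^ e1 * Cc ^ e2) * hw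

end Groth.Agent.S15739
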