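import Groth.Statements.S1574
import Groth.Agent.PurityLib.NotAffine

set_option autoImplicit false
universe u
open CategoryTheory CategoryTheory.Limits AlgebraicGeometry
open Divisors

namespace Groth.Agent.S1574

/-- For a Noetherian local ring A, the punctured spectrum (Spec A minus the closed point, as an open
subscheme) is affine if and only if dim A ≤ 1. -/
theorem result (A : Type u) [CommRing A] [IsLocalRing A] [IsNoetherianRing A] :
    IsAffine (FEt.puncturedSpec A : Scheme.{u}) ↔ ringKrullDim A ≤ 1 := by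
  have hmem : ∀ P : PrimeSpectrum A, P ∈ FEt.puncturedSpec A ↔ P ≠ IsLocalRing.closedPoint A :=
    fun P => Iff.rfl
  refine ⟨fun h => Groth.Agent.PurityLib.ringKrullDim_le_one_of_isAffineOpen A _
    (fun P hP => (hmem P).mpr hP) (fun hh => (hmem _).mp hh rfl) h, fun hd => ?_⟩
  -- the punctured spectrum is `D(x)` for `x ∈ m` avoiding the other minimal primes
  have : Ring.KrullDimLE 1 A := Ring.krullDimLE_iff.mpr hd
  let S : Set (Ideal A) := {p | p ∈ minimalPrimes A ∧ p ≠ IsLocalRing.maximalIdeal A}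
  have hS : S.Finite := (minimalPrimes.finite_of_isNoetherianRing A).subset fun p hp => hp.1
  obtain ⟨x, hxm, hx⟩ : ∃ x ∈ IsLocalRing.maximalIdeal A, ∀ p ∈ S, x ∉ p := by
    by_contra hcon
    push Not at hcon
    have hsub : (IsLocalRing.maximalIdeal A : Set A) ⊆ ⋃ p ∈ (hS.toFinset : Set (Ideal A)), (p : Set A) := by
      intro y hy
      obtain ⟨p, hp, hyp⟩ := hcon y hy
      exact Set.mem_iUnion₂.mpr ⟨p, by simpa using hp, hyp⟩
    obtain ⟨p, hp, hle⟩ := (Ideal.subset_union_prime (f := id) ⊤ ⊤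
      (fun p hp _ _ => Ideal.minimalPrimes_isPrime ((hS.mem_toFinset.mp hp).1))).mp hsub
    have hp' := hS.mem_toFinset.mp hp
    exact hp'.2 (le_antisymm (IsLocalRing.le_maximalIdeal (Ideal.minimalPrimes_isPrime hp'.1).ne_top) hle)
  have heq : FEt.puncturedSpec A =
      (Spec (CommRingCat.of A)).basicOpen ((Scheme.ΓSpecIso (CommRingCat.of A)).inv x) := by
    rw [basicOpen_eq_of_affine]
    ext P
    refine ⟨fun hP => ?_, fun hP e => ?_⟩
    · refine hx _ ⟨?_, fun e => (hmem P).mp hP (PrimeSpectrum.ext e)⟩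
      rcases Ring.krullDimLE_one_iff.mp ‹_› P.asIdeal P.isPrime with h1 | h1
      · exact h1
      · exact absurd (PrimeSpectrum.ext (IsLocalRing.eq_maximalIdeal h1)) ((hmem P).mp hP)
    · exact hP (by rw [e]; exact hxm)
  rw [heq]
  exact (isAffineOpen_top _).basicOpen _

end Groth.Agent.S1574
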