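import Groth.Statements.S15743
import Mathlib
import Groth.Agent.SecTwistBridge.Basic

set_option autoImplicit false
universe u
open QCohSup

namespace Groth.Agent.S15743

open CategoryTheory CategoryTheory.Limits AlgebraicGeometry

open CategoryTheory Opposite TopologicalSpace
open Groth.Agent.ParaFLib Groth.Agent.PullbackMod Groth.Agent.DCohLib Groth.Agent.AmpleLib Groth.Agent.SecTwistBridge
open AlgebraicGeometry in
open CategoryTheory in
open Opposite in
/-- Let `X` be a scheme whose underlying space is quasi-compact, `L` an invertible `O_X`-module, `s` a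
global section of `L` and `X_s` the open where `s` generates `L`, `F` a quasi-coherent `O_X`-module
and `t` a global section of `F` whose restriction to `X_s` is zero. Then `t ⊗ s^{⊗ n} = 0` in `Γ(X,
F ⊗ L^{⊗ n})` for some integer `n > 0`. (The published statement assumes the underlying space
Noetherian, or the scheme separated with quasi-compact underlying space; the published proof of this
part uses only quasi-compactness, so only that is assumed here.) -/
theorem result
    (X : Scheme.{u}) [CompactSpace X] (L : X.Modules) (hL : PicF.IsInvertible L)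
    (s : Coh.structureModule X ⟶ L) (F : X.Modules) [Coh.IsQCoh F]
    (t : F.val.obj (op ⊤))
    (ht : F.val.map (homOfLE (le_top : CohB1.genLocus L s ≤ ⊤)).op t = 0) :
    ∃ n : ℕ, 0 < n ∧ SecTwist.twist s n F ⊤ t = 0 := by
  classical
  obtain ⟨c, W, e, hWe, hcov⟩ := exists_affine_gen_cover hL (O := (⊤ : X.Opens)) isCompact_univ
  have loc : ∀ x ∈ c, ∃ J, ∀ n, J ≤ n →
      pairS F (CohB1.tensorPow L n) (resT (L := F) t (W x)) (powLoc (resT (sec s) (W x)) n) = 0 := by
    intro x hx
    obtain ⟨hW, -, he⟩ := hWe x hx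
    obtain ⟨a, ha⟩ := (he (W x) le_rfl).2 (resT (sec s) (W x))
    simp only [res_self] at ha
    have hle : X.basicOpen a ≤ CohB1.genLocus L s := (genLocus_inf_eq_basicOpen s he ha).ge.trans inf_le_left
    have h0 : F.presheaf.map (homOfLE (X.basicOpen_le a)).op (resT (L := F) t (W x)) = 0 := by
      have h1 : F.presheaf.map (homOfLE (le_top : CohB1.genLocus L s ≤ ⊤)).op t = 0 := ht
      have h2 := congrArg (F.presheaf.map (homOfLE hle).op) h1
      rw [map_zero] at h2
      rw [resT, res_res]
      exact (res_res _ _ _).symm.trans h2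
    obtain ⟨J, hJ⟩ := (Groth.Agent.QCohLib.locAt F hW).kill a _ h0
    rw [Groth.Agent.QCohLib.sc_le_rfl] at hJ
    refine ⟨J, fun j hj => ?_⟩
    obtain ⟨i, rfl⟩ := Nat.exists_eq_add_of_le hj
    have hzero : pairS F (CohB1.tensorPow L (J + i)) (0 : Γ(F, W x)) (powLoc (e x) (J + i)) = 0 := by
      conv_lhs => rw [← zero_smul Γ(X, W x) (0 : Γ(F, W x))]
      rw [pairS_smul_left, zero_smul]
    rw [← ha, powLoc_smul, pairS_smul_right, ← pairS_smul_left, add_comm J i, pow_add, mul_smul, hJ,
      smul_zero, add_comm i J, hzero]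
  choose J hJ using loc
  refine ⟨(c.attach.sup fun x => J x.1 x.2) + 1, Nat.succ_pos _, ?_⟩
  rw [twist_eq]
  let G : TopCat.Sheaf Ab.{u} X.carrier := ⟨(tmod F (CohB1.tensorPow L ((c.attach.sup fun x => J x.1 x.2) + 1))).presheaf,
    (tmod F (CohB1.tensorPow L ((c.attach.sup fun x => J x.1 x.2) + 1))).isSheaf⟩
  refine G.eq_of_locally_eq' (fun x : {x // x ∈ c} => W x.1) ⊤ (fun x => homOfLE le_top)
    (fun y hy => by
      obtain ⟨x, hx, hyx⟩ := Set.mem_iUnion₂.1 (hcov hy)
      exact Opens.mem_iSup.2 ⟨⟨x, hx⟩, hyx⟩) _ _ fun x => ?_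
  refine Eq.trans ?_ (map_zero _).symm
  refine (res_pairS le_top _ _).trans ?_
  rw [powLoc_res, res_res]
  exact hJ x.1 x.2 _ ((Finset.le_sup (f := fun x : {x // x ∈ c} => J x.1 x.2) (Finset.mem_attach c x)).trans (Nat.le_succ _))

end Groth.Agent.S15743
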