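import Groth.Statements.S15745
import Mathlib
import Groth.Agent.SecTwistBridge.Basic

set_option autoImplicit false
universe u
open QCohSup

namespace Groth.Agent.S15745

open CategoryTheory CategoryTheory.Limits AlgebraicGeometry

open CategoryTheory Opposite TopologicalSpace
open Groth.Agent.ParaFLib Groth.Agent.PullbackMod Groth.Agent.DCohLib Groth.Agent.AmpleLib Groth.Agent.SecTwistBridge
open AlgebraicGeometry in
open CategoryTheory in
/-- Let `X` be a scheme, `L` and `L'` invertible `O_X`-modules, `f` a global section of `L` and `g` a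
global section of `L'`. Then the open `X_{f ⊗ g}` where `f ⊗ g` generates `L ⊗ L'` is the
intersection of the open `X_f` where `f` generates `L` and the open `X_g` where `g` generates `L'`.
(The published statement is for a locally ringed space; this row is its case of a scheme.) -/
theorem result
    (X : Scheme.{u}) (L L' : X.Modules) (hL : PicF.IsInvertible L) (hL' : PicF.IsInvertible L')
    (f : Coh.structureModule X ⟶ L) (g : Coh.structureModule X ⟶ L') :
    CohB1.genLocus (CohB1.tensorMod L L') (SecTwist.tmulHom f g) =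
      CohB1.genLocus L f ⊓ CohB1.genLocus L' g := by
  have hs : sec (SecTwist.tmulHom f g) = pairS L L' (sec f) (sec g) := by
    have h := SecTwist.val_tmulHom f g ⊤
    rw [tmul_eq, val_eq, val_eq, val_eq] at h
    simp only [resT, res_self] at h
    exact h
  refine Opens.ext (Set.ext fun x => ?_)
  obtain ⟨W, e, hxW, he⟩ := exists_gen_nhd hL x
  obtain ⟨W', e', hxW', he'⟩ := exists_gen_nhd hL' x
  set V := W ⊓ W'
  have hxV : x ∈ V := ⟨hxW, hxW'⟩
  have h1 := he.res (inf_le_left : V ≤ W)
  have h2 := he'.res (inf_le_right : V ≤ W')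
  set e1 := L.presheaf.map (homOfLE (inf_le_left : V ≤ W)).op e
  set e2 := L'.presheaf.map (homOfLE (inf_le_right : V ≤ W')).op e'
  obtain ⟨a, ha⟩ := (h1 V le_rfl).2 (resT (sec f) V)
  obtain ⟨b, hb⟩ := (h2 V le_rfl).2 (resT (sec g) V)
  simp only [res_self] at ha hb
  have hab : (a * b) • pairS L L' e1 e2 = resT (sec (SecTwist.tmulHom f g)) V := by
    rw [hs]
    refine Eq.trans ?_ (res_pairS le_top _ _).symm
    change _ = pairS L L' (resT (sec f) V) (resT (sec g) V)
    rw [← ha, ← hb, pairS_smul_left, pairS_smul_right, smul_smul]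
  have hf := genLocus_inf_eq_basicOpen f h1 ha
  have hg := genLocus_inf_eq_basicOpen g h2 hb
  have hfg := genLocus_inf_eq_basicOpen (SecTwist.tmulHom f g) (gen_pairS h1 h2) hab
  rw [Scheme.basicOpen_mul, ← hf, ← hg] at hfg
  constructor
  · intro hx
    have : x ∈ (CohB1.genLocus L f ⊓ V) ⊓ (CohB1.genLocus L' g ⊓ V) := hfg ▸ ⟨hx, hxV⟩
    exact ⟨this.1.1, this.2.1⟩
  · rintro ⟨hx, hx'⟩
    have : x ∈ CohB1.genLocus _ (SecTwist.tmulHom f g) ⊓ V := hfg.symm ▸ ⟨⟨hx, hxV⟩, hx', hxV⟩
    exact this.1

end Groth.Agent.S15745
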