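import Groth.Statements.S15749
import Mathlib

set_option autoImplicit false
universe u
open CAlg

namespace Groth.Agent.S15749

/-- For an arbitrary commutative ring R, every idempotent of the ring of formal Laurent series R((t)) is
the constant series attached to a unique idempotent of R. Equivalently, the structure map R → R((t))
induces a bijection on idempotents, so that the spectrum of R((t)) is connected if and only if the
spectrum of R is. No reducedness is assumed. -/
theorem result (R : Type u) [CommRing R]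
    (e : LaurentSeries R) (he : IsIdempotentElem e) :
    ∃! r : R, IsIdempotentElem r ∧ HahnSeries.C r = e := by
  classical
  let φ : ∀ J : Ideal R, LaurentSeries R →+* LaurentSeries (R ⧸ J) := fun J =>
    { toFun := fun x => x.map (Ideal.Quotient.mk J)
      map_one' := HahnSeries.map_one (Ideal.Quotient.mk J).toMonoidWithZeroHom
      map_mul' := fun x y => HahnSeries.map_mul (Ideal.Quotient.mk J).toNonUnitalRingHom
      map_zero' := by ext; simp
      map_add' := fun x y => by ext; simp }
  have hφ : ∀ J x k, (φ J x).coeff k = Ideal.Quotient.mk J (x.coeff k) := fun J x k => rfl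
  have hnil : ∀ k : ℤ, k ≠ 0 → IsNilpotent (e.coeff k) := by
    intro k hk
    rw [← mem_nilradical, nilradical_eq_sInf, Ideal.mem_sInf]
    intro p hp
    have : p.IsPrime := hp
    rw [← Ideal.Quotient.eq_zero_iff_mem, ← hφ]
    rcases IsIdempotentElem.iff_eq_zero_or_one.mp (he.map (φ p)) with h | h <;> rw [h]
    · rfl
    · rw [HahnSeries.coeff_one, if_neg hk]
  have he0 : IsNilpotent (e.coeff 0 * e.coeff 0 - e.coeff 0) := by
    rw [← mem_nilradical, nilradical_eq_sInf, Ideal.mem_sInf]
    intro p hp
    have : p.IsPrime := hp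
    rw [← Ideal.Quotient.eq_zero_iff_mem, map_sub, map_mul, ← hφ]
    rcases IsIdempotentElem.iff_eq_zero_or_one.mp (he.map (φ p)) with h | h <;> simp [h]
  obtain ⟨r, hr, hr0⟩ := exists_isIdempotentElem_eq_of_ker_isNilpotent (Ideal.Quotient.mk (nilradical R))
    (fun x hx => by rwa [Ideal.mk_ker, mem_nilradical] at hx) (Ideal.Quotient.mk _ (e.coeff 0)) ⟨_, rfl⟩
    (by rw [IsIdempotentElem, ← map_mul, Ideal.Quotient.eq, mem_nilradical]; exact he0)
  suffices hre : HahnSeries.C r = e from ⟨r, ⟨hr, hre⟩, fun s hs => HahnSeries.C_injective (hs.2.trans hre.symm)⟩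
  set d := e - HahnSeries.C r with hd
  have hdn : ∀ k, IsNilpotent (d.coeff k) := by
    intro k
    by_cases hk : k = 0
    · subst hk
      simp only [hd, HahnSeries.coeff_sub, HahnSeries.C_apply, HahnSeries.coeff_single_same]
      rw [← mem_nilradical, ← Ideal.Quotient.eq, hr0]
    · simp only [hd, HahnSeries.coeff_sub, HahnSeries.C_apply, HahnSeries.coeff_single_of_ne hk, sub_zero]
      exact hnil k hk
  have hd3 : d * d * d = d := by
    have h1 : e * e = e := he
    have h2 : HahnSeries.C r * HahnSeries.C r = (HahnSeries.C r : LaurentSeries R) := by rw [← map_mul, hr.eq]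
    rw [hd]
    linear_combination (e + 1 - 3 * HahnSeries.C r) * h1 + (3 * e - HahnSeries.C r - 1) * h2
  obtain ⟨N, hN⟩ : ∃ N : ℕ, ∀ k < -(N:ℤ), d.coeff k = 0 :=
    ⟨(-d.order).toNat, fun k hk => HahnSeries.coeff_eq_zero_of_lt_order (by omega)⟩
  let s : Finset R := (Finset.Ico (-(N:ℤ)) 0).image fun k => d.coeff k
  let J : Ideal R := Ideal.span (s : Set R)
  have hJnil : IsNilpotent J := by
    have hfgJ : J.FG := ⟨s, rfl⟩
    refine hfgJ.isNilpotent_iff_le_nilradical.mpr ?_
    refine Ideal.span_le.mpr fun x hx => ?_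
    obtain ⟨k, -, rfl⟩ := Finset.mem_image.mp hx
    exact hdn k
  have hJd : ∀ k, d.coeff k ∈ J := by
    have hneg : ∀ k < 0, d.coeff k ∈ J := fun k hk => by
      by_cases h : k < -(N:ℤ)
      · rw [hN k h]; exact zero_mem _
      · exact Ideal.subset_span (Finset.mem_image.mpr ⟨k, Finset.mem_Ico.mpr ⟨by omega, hk⟩, rfl⟩)
    let q : PowerSeries (R ⧸ J) := PowerSeries.mk fun n => Ideal.Quotient.mk J (d.coeff n)
    have hq : φ J d = HahnSeries.ofPowerSeries ℤ _ q := by
      ext k
      rw [hφ, PowerSeries.coeff_coe]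
      split_ifs with hk
      · exact Ideal.Quotient.eq_zero_iff_mem.mpr (hneg k hk)
      · rw [PowerSeries.coeff_mk]; congr 2; omega
    have h3 : q * q * q = q := HahnSeries.ofPowerSeries_injective (by
      rw [(HahnSeries.ofPowerSeries ℤ (R ⧸ J)).map_mul, (HahnSeries.ofPowerSeries ℤ (R ⧸ J)).map_mul, ← hq, ← (φ J).map_mul, ← (φ J).map_mul, hd3])
    have hu : IsUnit (q * q - 1) := by
      rw [PowerSeries.isUnit_iff_constantCoeff, map_sub, map_mul, map_one]
      refine IsNilpotent.isUnit_sub_one ?_
      have : IsNilpotent (PowerSeries.constantCoeff q) := by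
        rw [← PowerSeries.coeff_zero_eq_constantCoeff_apply, PowerSeries.coeff_mk]
        exact (hdn _).map _
      exact Commute.isNilpotent_mul_left (Commute.all _ _) this
    have hq0 : q = 0 := (hu.mul_left_eq_zero).mp (by rw [mul_sub, mul_one, ← mul_assoc, h3, sub_self])
    intro k
    rw [← Ideal.Quotient.eq_zero_iff_mem, ← hφ, hq, hq0, map_zero, HahnSeries.coeff_zero]
  have hmul : ∀ (I K : Ideal R) (a b : LaurentSeries R), (∀ k, a.coeff k ∈ I) → (∀ k, b.coeff k ∈ K) → ∀ k, (a * b).coeff k ∈ I * K :=
    fun I K a b ha hb k => by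
      rw [HahnSeries.coeff_mul]; exact sum_mem fun ij _ => Ideal.mul_mem_mul (ha _) (hb _)
  have hpow : ∀ n : ℕ, ∀ k, d.coeff k ∈ J ^ (n + 1) := by
    intro n; induction n with
    | zero => simpa using hJd
    | succ n ih =>
      intro k
      rw [← hd3, mul_assoc, pow_succ]
      refine Ideal.mul_mono le_rfl ?_ (hmul _ _ _ _ ih (hmul _ _ _ _ hJd hJd) k)
      exact Ideal.mul_le_left
  obtain ⟨M, hM⟩ := hJnil
  have hd0 : d = 0 := by
    ext k
    have := Ideal.pow_le_pow_right M.le_succ (hpow M k)
    rw [hM] at this; exact this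
  exact (sub_eq_zero.mp hd0).symm

end Groth.Agent.S15749
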