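import Groth.Statements.S15750
import Mathlib

set_option autoImplicit false
universe u
open CAlg

namespace Groth.Agent.S15750

/-- Let R be a nonzero reduced commutative ring with no idempotents other than 0 and 1. Then every unit
of the Laurent series ring R((t)) is t^n · u for a unique integer n and a unique unit u of the power
series ring R[[t]]. (The published statement is for an arbitrary torus T over a reduced ring R, with
n replaced by a locally constant integer-valued function on Spec R, i.e. a point of the cocharacter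
lattice; this row is the case where T is the multiplicative group and Spec R is connected, to which
the published proof reduces.) -/
theorem result (R : Type u) [CommRing R]
    [IsReduced R] [Nontrivial R] (hconn : ∀ e : R, IsIdempotentElem e → e = 0 ∨ e = 1)
    (f : (LaurentSeries R)ˣ) :
    ∃! p : ℤ × (PowerSeries R)ˣ,
      (f : LaurentSeries R) = HahnSeries.single p.1 (1 : R) * HahnSeries.ofPowerSeries ℤ R (p.2 : PowerSeries R) := by
  classical
  have key : ∀ p : Ideal R, p.IsPrime → ∃ n : ℤ, (∀ k < n, f.val.coeff k ∈ p) ∧ (∀ k < -n, f.inv.coeff k ∈ p) ∧ f.val.coeff n * f.inv.coeff (-n) - 1 ∈ p := by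
    intro p hp
    let a : LaurentSeries (R ⧸ p) := f.val.map (Ideal.Quotient.mk p)
    let b : LaurentSeries (R ⧸ p) := f.inv.map (Ideal.Quotient.mk p)
    have hab : a * b = 1 := by
      refine (HahnSeries.map_mul (Ideal.Quotient.mk p).toNonUnitalRingHom).symm.trans ?_
      rw [f.val_inv]
      exact HahnSeries.map_one (Ideal.Quotient.mk p).toMonoidWithZeroHom
    have ha : a ≠ 0 := left_ne_zero_of_mul_eq_one hab
    have hb : b ≠ 0 := right_ne_zero_of_mul_eq_one hab
    have hord : a.order + b.order = 0 := by rw [← HahnSeries.order_mul ha hb, hab, HahnSeries.order_one]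
    refine ⟨a.order, fun k hk => ?_, fun k hk => ?_, ?_⟩
    · exact Ideal.Quotient.eq_zero_iff_mem.mp (HahnSeries.coeff_eq_zero_of_lt_order hk)
    · exact Ideal.Quotient.eq_zero_iff_mem.mp (HahnSeries.coeff_eq_zero_of_lt_order (show k < b.order by omega))
    · have h1 := HahnSeries.coeff_mul_order_add_order a b
      rw [hab, hord, HahnSeries.coeff_one, if_pos rfl, HahnSeries.leadingCoeff_eq, HahnSeries.leadingCoeff_eq] at h1
      rw [← Ideal.Quotient.eq, map_mul, map_one, show -a.order = b.order by omega]
      exact h1.symm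
  let c : ℤ → R := fun n => f.val.coeff n * f.inv.coeff (-n)
  have hc : ∀ p : Ideal R, p.IsPrime → ∀ m, (∀ k < m, f.val.coeff k ∈ p) → (∀ k < -m, f.inv.coeff k ∈ p) → ∀ n, n ≠ m → c n ∈ p := by
    intro p hp m h1 h2 n hn
    rcases lt_or_gt_of_ne hn with h | h
    · exact Ideal.mul_mem_right _ _ (h1 n h)
    · exact Ideal.mul_mem_left _ _ (h2 _ (by omega))
  have h01 : ∀ n, c n = 0 ∨ c n = 1 := fun n => hconn _ (by
    have : c n * (c n - 1) ∈ nilradical R := by
      rw [nilradical_eq_sInf, Ideal.mem_sInf]
      intro p hp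
      obtain ⟨m, h1, h2, h3⟩ := key p hp
      by_cases hn : n = m
      · exact Ideal.mul_mem_left _ _ (hn ▸ h3)
      · exact Ideal.mul_mem_right _ _ (hc p hp m h1 h2 n hn)
    rw [nilradical_eq_zero, Ideal.zero_eq_bot, Ideal.mem_bot] at this
    exact sub_eq_zero.mp (by linear_combination this))
  obtain ⟨P, hP⟩ := Ideal.exists_maximal R
  obtain ⟨n, -, -, hn3⟩ := key P hP.isPrime
  have hn : c n = 1 := (h01 n).resolve_left fun h => by
    have : c n - 1 ∈ P := hn3
    rw [h, zero_sub, neg_mem_iff] at this
    exact hP.ne_top ((Ideal.eq_top_iff_one _).mpr this)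
  have hlow : ∀ k < n, f.val.coeff k = 0 := by
    intro k hk
    have : f.val.coeff k ∈ nilradical R := by
      rw [nilradical_eq_sInf, Ideal.mem_sInf]
      intro p hp
      obtain ⟨m, h1, h2, -⟩ := key p hp
      have : n = m := by
        by_contra hne
        have := hc p hp m h1 h2 n hne
        rw [hn] at this
        exact (hp : p.IsPrime).ne_top ((Ideal.eq_top_iff_one _).mpr this)
      exact h1 k (this ▸ hk)
    rwa [nilradical_eq_zero, Ideal.zero_eq_bot, Ideal.mem_bot] at this
  let u : PowerSeries R := PowerSeries.mk fun i => f.val.coeff (n + i)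
  have hu : IsUnit u := by
    rw [PowerSeries.isUnit_iff_constantCoeff, ← PowerSeries.coeff_zero_eq_constantCoeff_apply, PowerSeries.coeff_mk]
    exact IsUnit.of_mul_eq_one (f.inv.coeff (-n)) (by simpa [c] using hn)
  have hf : (f : LaurentSeries R) = HahnSeries.single n (1 : R) * HahnSeries.ofPowerSeries ℤ R u := by
    ext k
    rw [HahnSeries.coeff_single_mul, one_mul, PowerSeries.coeff_coe]
    split_ifs with h
    · exact hlow k (by omega)
    · rw [PowerSeries.coeff_mk]; congr 1; omega
  refine ⟨(n, hu.unit), hf, fun ⟨m, v⟩ hv => ?_⟩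
  have hmn : ∀ (m n : ℤ) (u v : (PowerSeries R)ˣ), (f : LaurentSeries R) = HahnSeries.single m (1:R) * HahnSeries.ofPowerSeries ℤ R u →
      (f : LaurentSeries R) = HahnSeries.single n (1:R) * HahnSeries.ofPowerSeries ℤ R v → ¬ m < n := by
    intro m n u v h1 h2 hlt
    have := congrArg (fun x => HahnSeries.coeff x m) (h1.symm.trans h2)
    simp only [HahnSeries.coeff_single_mul, one_mul, PowerSeries.coeff_coe] at this
    rw [if_neg (by omega), if_pos (by omega), sub_self, Int.natAbs_zero, PowerSeries.coeff_zero_eq_constantCoeff] at this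
    exact ((u.isUnit.map PowerSeries.constantCoeff)).ne_zero this
  obtain rfl : m = n := le_antisymm (not_lt.mp (hmn n m hu.unit v hf hv)) (not_lt.mp (hmn m n v hu.unit hv hf))
  congr 1
  ext1
  have hs : IsUnit (HahnSeries.single m (1:R) : LaurentSeries R) := IsUnit.of_mul_eq_one (HahnSeries.single (-m) 1) (by simp)
  exact HahnSeries.ofPowerSeries_injective (hs.mul_left_cancel (hv.symm.trans hf))

end Groth.Agent.S15750
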