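import Groth.Statements.S15752
import Groth.Agent.WeierHensLib.Prep

set_option autoImplicit false
universe u
open Polynomial
open CAlg

namespace Groth.Agent.S15752

/-- Let R be a Henselian local ring with maximal ideal m and let B be a henselization of R[t] along (t).
Every f ∈ B outside mB factors as f = P · u for a unique pair (P, u) with P ∈ R[t] monic whose
non-leading coefficients lie in m and u a unit of B; moreover the natural map R[t]/(P) → B/(f) is
bijective, stated as: every element of B is congruent to (the image of) a polynomial modulo f, and a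
polynomial whose image lies in fB lies in P·R[t]. -/
theorem result (R : Type u) [CommRing R]
    [HenselianLocalRing R] (B : Type u) [CommRing B] [Algebra R B] [Algebra R[X] B]
    [IsScalarTower R R[X] B] (hB : Hens2.IsPairHenselization R[X] (Ideal.span {(X : R[X])}) B)
    (f : B) (hf : f ∉ (IsLocalRing.maximalIdeal R).map (algebraMap R B)) :
    (∃! Pu : R[X] × Bˣ, Pu.1.Monic ∧ (∀ i : ℕ, i < Pu.1.natDegree → Pu.1.coeff i ∈ IsLocalRing.maximalIdeal R) ∧
        f = algebraMap R[X] B Pu.1 * (Pu.2 : B)) ∧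
    (∀ (P : R[X]) (u : Bˣ), P.Monic → (∀ i : ℕ, i < P.natDegree → P.coeff i ∈ IsLocalRing.maximalIdeal R) →
        f = algebraMap R[X] B P * (u : B) →
      (∀ b : B, ∃ q : R[X], algebraMap R[X] B q - b ∈ Ideal.span {f}) ∧
      (∀ q : R[X], algebraMap R[X] B q ∈ Ideal.span {f} → q ∈ Ideal.span {P})) := by
  have key : ∀ (P P' : R[X]) (u u' : Bˣ), WeierHensLib.Dist P →
      algebraMap R[X] B P * (u : B) = algebraMap R[X] B P' * (u' : B) → P ∣ P' := by
    intro P P' u u' hP h
    refine (WeierHensLib.dist_quotient hB hP).2 P' (Ideal.mem_span_singleton'.2 ⟨(u : B) * ↑u'⁻¹, ?_⟩)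
    rw [← Units.mul_inv_eq_iff_eq_mul] at h
    linear_combination h
  refine ⟨?_, fun P u hP hPm hfe => ?_⟩
  · obtain ⟨P, u, hP, hfe⟩ := WeierHensLib.exists_dist hB hf
    refine ⟨(P, u), ⟨hP.1, hP.2, hfe⟩, ?_⟩
    rintro ⟨P', u'⟩ ⟨hP'1, hP'2, hfe'⟩
    have h : algebraMap R[X] B P * (u : B) = algebraMap R[X] B P' * (u' : B) := hfe.symm.trans hfe'
    obtain ⟨c, hc⟩ := key P P' u u' hP h
    obtain ⟨d, hd⟩ := key P' P u' u ⟨hP'1, hP'2⟩ h.symm
    have hcd : c * d = 1 := by
      have : P * (c * d) = P * 1 := by rw [← mul_assoc, ← hc, ← hd, mul_one]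
      exact hP.1.isRegular.left this
    have hcm : c.Monic := hP.1.of_mul_monic_left (hc ▸ hP'1)
    have hPP : P = P' := by
      rw [hc, hcm.eq_one_of_isUnit (IsUnit.of_mul_eq_one _ hcd), mul_one]
    subst hPP
    have h0 := WeierHensLib.isSMulRegular_dist hB hP.1 (b := (u : B) - u') (by rw [mul_sub, h, sub_self])
    rw [Units.ext (sub_eq_zero.1 h0)]
  · have hspan : Ideal.span {f} = Ideal.span {algebraMap R[X] B P} := by
      rw [hfe, Ideal.span_singleton_mul_right_unit u.isUnit]
    obtain ⟨h1, h2⟩ := WeierHensLib.dist_quotient hB (P := P) ⟨hP, hPm⟩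
    rw [hspan]
    exact ⟨h1, fun q hq => Ideal.mem_span_singleton.2 (h2 q hq)⟩

end Groth.Agent.S15752
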