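import Groth.Statements.S15754
import Groth.Agent.MonicDescLib.Laurent

set_option autoImplicit false
universe u
open TensorProduct
open CAlg

namespace Groth.Agent.S15754

/-- For an arbitrary commutative ring R, non-isomorphic finitely generated projective R-modules cannot
become isomorphic over the Laurent series ring R((t)): for an R-algebra L that is R-isomorphic to
R((t)), if L ⊗_R M ≅ L ⊗_R N as L-modules then M ≅ N. (L is R((t)) up to an R-algebra isomorphism;
it is kept abstract only so that the L-module structure on L ⊗_R M elaborates.) -/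
theorem result (R : Type u) [CommRing R]
    (L : Type u) [CommRing L] [Algebra R L] (eL : L ≃ₐ[R] LaurentSeries R)
    (M N : Type u) [AddCommGroup M] [Module R M] [Module.Finite R M] [Module.Projective R M]
    [AddCommGroup N] [Module R N] [Module.Finite R N] [Module.Projective R N]
    (e : L ⊗[R] M ≃ₗ[L] L ⊗[R] N) :
    Nonempty (M ≃ₗ[R] N) := by
  classical
  obtain ⟨n, x, φ, hx⟩ := HorrocksLib.exists_dualBasis R M
  obtain ⟨m, y, ψ, hy⟩ := HorrocksLib.exists_dualBasis R N
  have hS := (MonicDescLib.mequiv_of_baseChange x φ hx y ψ hy e).map eL.toRingEquiv.toRingHom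
  have hmap : ∀ {p q : Type} (E : Matrix p q R),
      (E.map (algebraMap R L)).map eL.toRingEquiv.toRingHom = E.map (algebraMap R (LaurentSeries R)) :=
    fun E => by
      ext1 i j
      exact eL.commutes _
  rw [hmap, hmap] at hS
  refine MonicDescLib.linearEquiv_of_mequiv x φ hx y ψ hy (MonicDescLib.equiv_of_laurent _ _ ?_ ?_ hS)
  · ext1 i j
    simp only [Matrix.mul_apply, Matrix.of_apply]
    conv_rhs => rw [← hx (x j), map_sum]
    exact Finset.sum_congr rfl fun l _ => by rw [map_smul, smul_eq_mul, mul_comm]
  · ext1 i j
    simp only [Matrix.mul_apply, Matrix.of_apply]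
    conv_rhs => rw [← hy (y j), map_sum]
    exact Finset.sum_congr rfl fun l _ => by rw [map_smul, smul_eq_mul, mul_comm]

end Groth.Agent.S15754
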