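import Mathlib
import Groth.Agent.ArtinApproxLib.Functor
import Groth.Statements.S15755

set_option autoImplicit false
universe u
open CategoryTheory CategoryTheory.Limits
open CAlg

namespace Groth.Agent.S15755

/-- Let (A, I) be a Henselian pair with A Noetherian whose map to the I-adic completion Â is a regular
ring homomorphism, and let F be a set-valued functor on commutative A-algebras preserving filtered
colimits. Then F(A) → F(Â) is injective, and an element of F(A/I) is in the image of F(A) if and
only if it is in the image of F(Â) under the canonical A-algebra map Â → A/I. -/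
theorem result (A : Type u) [CommRing A]
    [IsNoetherianRing A] (I : Ideal A) [HenselianRing A I]
    (hreg : CAlg.IsRegularHom A (AdicCompletion I A))
    (F : CommAlgCat.{u} A ⥤ Type u) [PreservesFilteredColimitsOfSize.{u, u} F] :
    Function.Injective (F.map (CommAlgCat.ofHom (Algebra.ofId A (AdicCompletion I A)))) ∧
    ∀ xbar : F.obj (CommAlgCat.of A (A ⧸ I)),
      (∃ x : F.obj (CommAlgCat.of A A), F.map (CommAlgCat.ofHom (Ideal.Quotient.mkₐ A I)) x = xbar) ↔
      (∃ y : F.obj (CommAlgCat.of A (AdicCompletion I A)),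
        F.map (CommAlgCat.ofHom (AdicCompletion.evalOneₐ I)) y = xbar) := by
  let G : Under (CommRingCat.of A) ⥤ Type u := (commAlgCatEquivUnder (CommRingCat.of A)).inverse ⋙ F
  have hGF : ∀ (J : Type u) [SmallCategory J] [IsFiltered J], PreservesColimitsOfShape J G :=
    fun J _ _ => inferInstanceAs (PreservesColimitsOfShape J
      ((commAlgCatEquivUnder (CommRingCat.of A)).inverse ⋙ F))
  let toG : ∀ (C : Type u) [CommRing C] [Algebra A C], CommAlgCat.of A C ⟶
      (commAlgCatEquivUnder (CommRingCat.of A)).inverse.obj (Under.mk (CommRingCat.ofHom (algebraMap A C))) :=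
    fun C _ _ => (commAlgCatEquivUnder (CommRingCat.of A)).unitIso.hom.app (CommAlgCat.of A C)
  let ofG : ∀ (C : Type u) [CommRing C] [Algebra A C],
      (commAlgCatEquivUnder (CommRingCat.of A)).inverse.obj (Under.mk (CommRingCat.ofHom (algebraMap A C))) ⟶
      CommAlgCat.of A C :=
    fun C _ _ => (commAlgCatEquivUnder (CommRingCat.of A)).unitIso.inv.app (CommAlgCat.of A C)
  have key : ∀ (C D : Type u) [CommRing C] [CommRing D] [Algebra A C] [Algebra A D] (f : C →ₐ[A] D),
      ofG C ≫ CommAlgCat.ofHom f =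
        (commAlgCatEquivUnder (CommRingCat.of A)).inverse.map (ArtinApproxLib.underHom f) ≫ ofG D := by
    intros; rfl
  have key' : ∀ (C D : Type u) [CommRing C] [CommRing D] [Algebra A C] [Algebra A D] (f : C →ₐ[A] D),
      toG C ≫ (commAlgCatEquivUnder (CommRingCat.of A)).inverse.map (ArtinApproxLib.underHom f) =
        CommAlgCat.ofHom f ≫ toG D := by
    intros; rfl
  have key2 : ∀ (C : Type u) [CommRing C] [Algebra A C], toG C ≫ ofG C = 𝟙 _ :=
    fun C _ _ => Iso.hom_inv_id_app _ _
  haveI := RegLocal.isNoetherianRing_completion A I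
  have iA : Under.mk (CommRingCat.ofHom (algebraMap A A)) = Under.mk (𝟙 (CommRingCat.of A)) := rfl
  refine ⟨fun x x' hxx' => ?_, fun xbar => ⟨?_, ?_⟩⟩
  · obtain ⟨J, _, _, D, c, hc, hfp, ⟨e⟩⟩ := S9183.result A (AdicCompletion I A)
    obtain ⟨i⟩ := (IsFiltered.nonempty : Nonempty J)
    let ιA : ∀ T : Under (CommRingCat.of A), Under.mk (CommRingCat.ofHom (algebraMap A A)) ⟶ T := fun T =>
      Under.homMk T.hom (Category.id_comp _)
    have hι : ∀ {T T' : Under (CommRingCat.of A)} (u : T ⟶ T'), ιA T ≫ u = ιA T' := fun u =>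
      Under.UnderMorphism.ext (Under.w u)
    haveI := hGF J
    have Gcomp : ∀ {T₁ T₂ T₃ : Under (CommRingCat.of A)} (u : T₁ ⟶ T₂) (v : T₂ ⟶ T₃) (z : G.obj T₁),
        G.map v (G.map u z) = G.map (u ≫ v) z := fun u v z => by
      rw [Functor.map_comp]; rfl
    have eA : ∀ (C : Type u) [CommRing C] [Algebra A C] (f : A →ₐ[A] C) (z : F.obj (CommAlgCat.of A A)),
        G.map (ArtinApproxLib.underHom f) (F.map (toG A) z) = F.map (toG C) (F.map (CommAlgCat.ofHom f) z) := by
      intro C _ _ f z
      show F.map _ (F.map _ z) = F.map _ (F.map _ z)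
      simp only [← ConcreteCategory.comp_apply, ← Functor.map_comp]
      rw [key']
    obtain ⟨X, hXdef⟩ : ∃ X : G.obj (Under.mk (CommRingCat.ofHom (algebraMap A A))), X = F.map (toG A) x := ⟨_, rfl⟩
    obtain ⟨X', hXdef'⟩ : ∃ X : G.obj (Under.mk (CommRingCat.ofHom (algebraMap A A))), X = F.map (toG A) x' := ⟨_, rfl⟩
    have hιA : ιA c.pt = ArtinApproxLib.underHom (Algebra.ofId A (AdicCompletion I A)) ≫ e.inv := by
      rw [← hι e.inv]
      congr 1
    have hX : G.map (ιA c.pt) X = G.map (ιA c.pt) X' := by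
      rw [hXdef, hXdef', hιA, ← Gcomp, ← Gcomp, eA, eA, hxx']
    have hXi : (G.mapCocone c).ι.app i (G.map (ιA (D.obj i)) X) = (G.mapCocone c).ι.app i (G.map (ιA (D.obj i)) X') := by
      have h0 : ∀ z, (G.mapCocone c).ι.app i (G.map (ιA (D.obj i)) z) = G.map (ιA c.pt) z := fun z =>
        (Gcomp (ιA (D.obj i)) (c.ι.app i) z).trans (by rw [hι]; rfl)
      rw [h0, h0, hX]
    obtain ⟨k, f, hk⟩ := (Types.FilteredColimit.isColimit_eq_iff' (isColimitOfPreserves G hc) _ _).1 hXi
    replace hk : G.map (ιA (D.obj k)) X = G.map (ιA (D.obj k)) X' := by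
      have := hk
      change G.map (D.map f) _ = G.map (D.map f) _ at this
      rw [Gcomp, Gcomp, hι] at this
      exact this
    letI : Algebra A (D.obj k).right := (D.obj k).hom.hom.toAlgebra
    haveI : Algebra.FinitePresentation A (D.obj k).right := hfp k
    let p : (D.obj k).right →ₐ[A] AdicCompletion I A :=
      { (c.ι.app k ≫ e.hom).right.hom with
        commutes' := fun a => congr($(Under.w (c.ι.app k ≫ e.hom)).hom a) }
    obtain ⟨B, _, _, hB, g, h, -⟩ := SmoothingLib.indSmooth_of_isRegularHom hreg (D.obj k).right inferInstance p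
    haveI := hB
    obtain ⟨τ, -⟩ := Hensel.exists_algHom_of_smooth (A := A) (I := I) ((AdicCompletion.evalOneₐ I).comp h)
    let r : D.obj k ⟶ Under.mk (CommRingCat.ofHom (algebraMap A A)) :=
      Under.homMk (CommRingCat.ofHom (τ.comp g).toRingHom) (CommRingCat.hom_ext (RingHom.ext (τ.comp g).commutes))
    have h1 := congrArg (G.map r) hk
    have hid : ∀ z : G.obj (Under.mk (CommRingCat.ofHom (algebraMap A A))), G.map r (G.map (ιA (D.obj k)) z) = z :=
      fun z => by
        rw [Gcomp, hι,
          show ιA (Under.mk (CommRingCat.ofHom (algebraMap A A))) = 𝟙 _ from Under.UnderMorphism.ext rfl]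
        simp
    rw [hid, hid] at h1
    have h2 := congrArg (F.map (ofG A)) h1
    simp only [hXdef, hXdef', ← ConcreteCategory.comp_apply, ← Functor.map_comp, key2] at h2
    simpa using h2
  · rintro ⟨x, rfl⟩
    refine ⟨F.map (CommAlgCat.ofHom (Algebra.ofId A (AdicCompletion I A))) x, ?_⟩
    rw [← ConcreteCategory.comp_apply, ← Functor.map_comp]
    congr 3
  · rintro ⟨y, rfl⟩
    obtain ⟨B, _, _, hB, q, ξB, hξ⟩ :=
      ArtinApproxLib.exists_smooth_element hreg G hGF (F.map (toG (AdicCompletion I A)) y)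
    haveI := hB
    obtain ⟨τ, hτ⟩ := Hensel.exists_algHom_of_smooth (A := A) (I := I) ((AdicCompletion.evalOneₐ I).comp q)
    refine ⟨F.map (CommAlgCat.ofHom τ) (F.map (ofG B) ξB), ?_⟩
    have hy : y = F.map (CommAlgCat.ofHom q) (F.map (ofG B) ξB) := by
      have h1 := congrArg (F.map (ofG (AdicCompletion I A))) hξ
      change F.map _ (F.map _ _) = _ at h1
      simp only [← ConcreteCategory.comp_apply, ← Functor.map_comp, key2] at h1
      rw [← ConcreteCategory.comp_apply, ← Functor.map_comp, key]
      simpa using h1.symm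
    subst hy
    simp only [← ConcreteCategory.comp_apply, ← Functor.map_comp]
    congr 2
    rw [Category.assoc, Category.assoc]
    congr 1
    refine CommAlgCat.hom_ext ?_
    exact congrArg (fun w => w.comp (ofG B).hom) hτ

end Groth.Agent.S15755
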