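import Groth.Statements.S15758
import Groth.Agent.SchDesc.TorsorDesc
import Groth.Agent.FpqcDesc.Basic
import Groth.Agent.ASp.Fpqc
import Groth.Agent.SmoothApproxLib.Section

set_option backward.isDefEq.respectTransparency.types false

set_option autoImplicit false
universe u
open CategoryTheory MonoidalCategory CartesianMonoidalCategory MonObj GrpObj AlgebraicGeometry Polynomial
open NonAbH1

namespace Groth.Agent.S15758

/-- The Laurent-series instance, kernel form, for an affine smooth group: let R be a ring, B = R{t} a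
henselization of R[t] along (t), ψ : B → R[[t]] the canonical R[t]-algebra map, and χ : B[1/t] →
R((t)) the induced map. For an affine smooth B[1/t]-group scheme G, an fppf G-torsor over Spec
B[1/t] which acquires a section over Spec R((t)) has a section. (The published statement is a
bijection H¹(R{t}[1/t], G) ≅ H¹(R((t)), G) for quasi-affine smooth G and an injection for smooth
quasi-separated G; this row is the triviality of the kernel for affine smooth G.) -/
theorem result (R : Type u) [CommRing R]
    (B : Type u) [CommRing B] [Algebra R[X] B] (hB : Hens2.IsPairHenselization R[X] (Ideal.span {(X : R[X])}) B)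
    (ψ : B →ₐ[R[X]] PowerSeries R)
    (χ : Localization.Away (algebraMap R[X] B X) →+* LaurentSeries R)
    (hχ : χ.comp (algebraMap B (Localization.Away (algebraMap R[X] B X))) =
      (HahnSeries.ofPowerSeries ℤ R).comp ψ.toRingHom)
    (G : Over (Spec (CommRingCat.of (Localization.Away (algebraMap R[X] B X))))) [GrpObj G]
    [IsAffine G.left] [Smooth G.hom]
    (P : Over (Spec (CommRingCat.of (Localization.Away (algebraMap R[X] B X))))) (a : AlgGrp.Action G P)
    (hP : NonAbH1.IsTorsorFor Scheme.fppfPrecoverage a)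
    (hsec : NonAbH1.HasSectionOver P (Spec.map (CommRingCat.ofHom χ))) :
    NonAbH1.HasSectionOver P (𝟙 (Spec (CommRingCat.of (Localization.Away (algebraMap R[X] B X))))) := by
  obtain ⟨hpt, R₁, hR, hRsec⟩ := hP
  obtain ⟨T, σ, hT, hX⟩ := TorsorDesc.exists_trivializing a
    ⟨hpt, R₁, Scheme.fppfPrecoverage_le_fpqcPrecoverage _ hR, hRsec⟩
  haveI : SchDesc.IsFpqc T.hom := hT
  haveI : IsZariskiLocalAtTarget (@Smooth : MorphismProperty Scheme.{u}) :=
    HasRingHomProperty.instIsZariskiLocalAtTarget _
  haveI : IsAffineHom G.hom := isAffineHom_of_isAffine _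
  haveI : IsAffineHom P.hom := TorsorDesc.prop_of_isFpqc (@IsAffineHom : MorphismProperty Scheme.{u})
    FpqcDesc.isAffineHom_descends P.hom T.hom (hX _ ‹_›)
  haveI : Smooth P.hom := TorsorDesc.prop_of_isFpqc (@Smooth : MorphismProperty Scheme.{u})
    inferInstance P.hom T.hom (hX _ ‹_›)
  haveI : IsAffine P.left := isAffine_of_isAffineHom P.hom
  let e := P.left.isoSpec
  let φ := Spec.preimage (e.inv ≫ P.hom)
  have hφ : Spec.map φ = e.inv ≫ P.hom := Spec.map_preimage _
  have hsm : φ.hom.Smooth := by
    have : Smooth (Spec.map φ) := by rw [hφ]; infer_instance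
    exact (HasRingHomProperty.Spec_iff (P := @Smooth)).1 this
  letI : Algebra (Localization.Away (algebraMap R[X] B X)) Γ(P.left, ⊤) := φ.hom.toAlgebra
  haveI : Algebra.Smooth (Localization.Away (algebraMap R[X] B X)) Γ(P.left, ⊤) := hsm
  obtain ⟨s, hs⟩ := hsec
  let ψ' := Spec.preimage (s ≫ e.hom)
  have hψ' : φ ≫ Spec.preimage (s ≫ e.hom) = CommRingCat.ofHom χ := by
    apply Spec.map_injective
    rw [Spec.map_comp, Spec.map_preimage, hφ, Category.assoc, Iso.hom_inv_id_assoc, hs]
  haveI := ApproxAwayLib.henselianRing_span hB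
  have S := ApproxAwayLib.setup_henselian (L := Localization.Away (algebraMap R[X] B X)) hB ψ χ
    (RingEquiv.refl (LaurentSeries R)) (fun b => RingHom.congr_fun hχ b)
  have hfl : Module.Flat R[X] B := PairHens.flat_of_isPairHenselization hB
  have hX : ∀ x : B, algebraMap R[X] B X * x = 0 → x = 0 := fun x hx => by
    have hreg : IsSMulRegular R[X] (X : R[X]) :=
      fun p q h => (Polynomial.monic_X (R := R)).isRegular.left h
    have h1 := hreg.of_flat (S := B)
    exact h1 (by simpa [Algebra.smul_def] using hx)
  have hbd : ∃ N : ℕ, ∀ a : B, (∃ m : ℕ, algebraMap R[X] B X ^ m * a = 0) →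
      algebraMap R[X] B X ^ N * a = 0 := by
    have hpow : ∀ (m : ℕ) (x : B), algebraMap R[X] B X ^ m * x = 0 → x = 0 := by
      intro m
      induction m with
      | zero => intro x hm; simpa using hm
      | succ m ih =>
        intro x hm
        refine hX x (ih _ ?_)
        rw [← _root_.mul_assoc, ← pow_succ]
        exact hm
    refine ⟨0, fun x ⟨m, hm⟩ => ?_⟩
    rw [hpow m x hm, mul_zero]
  obtain ⟨τ⟩ := SmoothApproxLib.exists_section_setup S hbd ψ'.hom (CommRingCat.hom_ext_iff.1 hψ')
  refine ⟨Spec.map (CommRingCat.ofHom τ.toRingHom) ≫ e.inv, ?_⟩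
  rw [Category.assoc, ← hφ, ← Spec.map_comp]
  have : φ ≫ CommRingCat.ofHom τ.toRingHom = 𝟙 _ := CommRingCat.hom_ext τ.comp_algebraMap
  rw [this, Spec.map_id]

end Groth.Agent.S15758
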