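import Groth.Statements.S15759
import Groth.Agent.ApproxAwayLib.Modules
import Groth.Agent.ApproxAwayLib.Setups

set_option autoImplicit false
universe u
open Polynomial TensorProduct
open CAlg

namespace Groth.Agent.S15759

/-- Let R be a ring, L = R(t) the localisation of R[t] at the monoid generated by t and the polynomials
with constant term 1 (that is, (R[t]_{1+tR[t]})[1/t]), and L' an L-algebra identified with R((t))
compatibly with R[t] → R((t)). Then (b) finitely generated projective L-modules that become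
isomorphic over L' are isomorphic, and (c) every stably free L'-module is the base change of a
stably free L-module. -/
theorem result (R : Type u) [CommRing R]
    (L : Type u) [CommRing L] [Algebra R[X] L]
    [IsLocalization (Submonoid.closure ({f : R[X] | f.coeff 0 = 1} ∪ {X})) L]
    (L' : Type u) [CommRing L'] [Algebra L L'] (e : L' ≃+* LaurentSeries R)
    (he : ∀ p : R[X], e (algebraMap L L' (algebraMap R[X] L p)) =
      HahnSeries.ofPowerSeries ℤ R (Polynomial.coeToPowerSeries.ringHom p)) :
    (∀ (M N : Type u) [AddCommGroup M] [Module L M] [Module.Finite L M] [Module.Projective L M]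
        [AddCommGroup N] [Module L N] [Module.Finite L N] [Module.Projective L N],
        Nonempty (L' ⊗[L] M ≃ₗ[L'] L' ⊗[L] N) → Nonempty (M ≃ₗ[L] N)) ∧
    (∀ (M' : Type u) [AddCommGroup M'] [Module L' M'] [Module.Finite L' M'],
        (∃ n m : ℕ, Nonempty ((M' × (Fin n → L')) ≃ₗ[L'] (Fin m → L'))) →
        ∃ (M : Type u) (_ : AddCommGroup M) (_ : Module L M), Module.Finite L M ∧
          (∃ n m : ℕ, Nonempty ((M × (Fin n → L)) ≃ₗ[L] (Fin m → L))) ∧
          Nonempty (L' ⊗[L] M ≃ₗ[L'] M')) := by
  let A := Localization (ApproxAwayLib.unitsAtZero R)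
  have hu : ∀ f : ApproxAwayLib.unitsAtZero R, IsUnit ((algebraMap R[X] L) f.1) := fun f =>
    IsLocalization.map_units L (⟨f.1, Submonoid.subset_closure (Or.inl f.2)⟩ :
      Submonoid.closure ({f : R[X] | f.coeff 0 = 1} ∪ {X}))
  have hXu : IsUnit (algebraMap R[X] L X) :=
    IsLocalization.map_units L (⟨X, Submonoid.subset_closure (Or.inr rfl)⟩ :
      Submonoid.closure ({f : R[X] | f.coeff 0 = 1} ∪ {X}))
  have hp : ∀ f : ApproxAwayLib.unitsAtZero R, IsUnit ((Polynomial.coeToPowerSeries.ringHom : R[X] →+* PowerSeries R) f.1) := fun f => by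
    rw [PowerSeries.isUnit_iff_constantCoeff, ← PowerSeries.coeff_zero_eq_constantCoeff_apply,
      Polynomial.coeToPowerSeries.ringHom_apply, Polynomial.coeff_coe, show f.1.coeff 0 = 1 from f.2]
    exact isUnit_one
  let i : A →+* L := IsLocalization.lift hu
  let g : A →+* PowerSeries R := IsLocalization.lift hp
  have he' : (e.toRingHom.comp (algebraMap L L')).comp i = (HahnSeries.ofPowerSeries ℤ R).comp g := by
    refine IsLocalization.ringHom_ext (ApproxAwayLib.unitsAtZero R) (RingHom.ext fun f => ?_)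
    show e (algebraMap L L' (i (algebraMap R[X] A f))) = HahnSeries.ofPowerSeries ℤ R (g (algebraMap R[X] A f))
    rw [IsLocalization.lift_eq, IsLocalization.lift_eq, he]
  have hiX : i (algebraMap R[X] A X) = algebraMap R[X] L X := IsLocalization.lift_eq hu X
  have S := ApproxAwayLib.setup_laurent i (algebraMap L L') e g (fun f => by simp [g, A, IsLocalization.lift_eq])
    (fun b => RingHom.congr_fun he' b) (hiX ▸ hXu) ?_ ?_ ?_
  · exact ⟨fun M N _ _ _ _ _ _ _ _ h => ApproxAwayLib.linearEquiv_descend S M N h,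
      fun M' _ _ _ h => ApproxAwayLib.exists_stablyFree_descend S M' h⟩
  · intro x
    obtain ⟨f, ⟨s, hs⟩, rfl⟩ := IsLocalization.exists_mk'_eq (Submonoid.closure ({f : R[X] | f.coeff 0 = 1} ∪ {X})) x
    have hdec : ∃ (k : ℕ) (u : ApproxAwayLib.unitsAtZero R), s = X ^ k * u.1 := by
      induction hs using Submonoid.closure_induction with
      | mem y hy =>
        rcases hy with hy | hy
        · exact ⟨0, ⟨y, hy⟩, by simp⟩
        · exact ⟨1, 1, by rw [Set.mem_singleton_iff.1 hy]; simp⟩
      | one => exact ⟨0, 1, by simp⟩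
      | mul a b _ _ ha hb =>
        obtain ⟨k, u, rfl⟩ := ha
        obtain ⟨l, v, rfl⟩ := hb
        exact ⟨k + l, u * v, by rw [Submonoid.coe_mul, pow_add]; ring⟩
    obtain ⟨k, u, rfl⟩ := hdec
    refine ⟨k, IsLocalization.mk' A f u, (hu u).mul_left_cancel ?_⟩
    rw [hiX]
    have h1 := IsLocalization.mk'_spec' L f (⟨X ^ k * u.1, hs⟩ : Submonoid.closure ({f : R[X] | f.coeff 0 = 1} ∪ {X}))
    have h2 := congrArg i (IsLocalization.mk'_spec' A f u)
    rw [map_mul, IsLocalization.lift_eq, IsLocalization.lift_eq] at h2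
    rw [h2, ← h1, map_mul, map_pow]
    ring
  · rw [Ideal.mem_jacobson_bot]
    intro y
    obtain ⟨f, s, rfl⟩ := IsLocalization.exists_mk'_eq (ApproxAwayLib.unitsAtZero R) y
    have h1 : IsUnit (algebraMap R[X] A (X * f + s.1)) := IsLocalization.map_units A (⟨X * f + s.1, by
      show (X * f + s.1).coeff 0 = 1
      rw [coeff_add, mul_coeff_zero, coeff_X_zero, zero_mul, zero_add]
      exact s.2⟩ : ApproxAwayLib.unitsAtZero R)
    refine isUnit_of_mul_isUnit_left (y := algebraMap R[X] A s.1) ?_
    rw [add_mul, one_mul, mul_assoc, IsLocalization.mk'_spec, ← map_mul, ← map_add]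
    exact h1
  · intro n b
    obtain ⟨f, s, rfl⟩ := IsLocalization.exists_mk'_eq (ApproxAwayLib.unitsAtZero R) b
    obtain ⟨h, hh⟩ : ∃ h : R[X], X ^ n ∣ f - s.1 * h := by
      obtain ⟨u, hu'⟩ := hp s
      obtain ⟨h, hh⟩ := ApproxAwayLib.ps_approx n ((f : PowerSeries R) * ((u⁻¹ : (PowerSeries R)ˣ) : PowerSeries R))
      refine ⟨h, ApproxAwayLib.ps_refl n _ ?_⟩
      have h2 := Ideal.mul_mem_left _ (s.1 : PowerSeries R) hh
      rw [Polynomial.coe_sub, Polynomial.coe_mul]
      rw [Polynomial.coeToPowerSeries.ringHom_apply] at hu'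
      rwa [mul_sub, mul_left_comm, ← hu', Units.mul_inv, mul_one, hu'] at h2
    refine ⟨h, ?_⟩
    obtain ⟨c, hc⟩ := hh
    rw [Ideal.mem_span_singleton, ← IsUnit.dvd_mul_left (IsLocalization.map_units A s), mul_sub,
      IsLocalization.mk'_spec', ← map_mul, ← map_sub, hc, map_mul, map_pow]
    exact dvd_mul_right _ _

end Groth.Agent.S15759
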