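import Groth.Statements.S15763
import Groth.Agent.EtStrLib.Equiv

set_option backward.isDefEq.respectTransparency.types false

set_option autoImplicit false
universe u
open CategoryTheory AlgebraicGeometry Polynomial
open FEt

namespace Groth.Agent.S15763

/-- The instance R{t}[1/t] → R((t)): for any ring R, base change along the canonical map from the
Henselian Laurent series ring R{t}[1/t] (R{t} a henselization of R[t] along (t), ψ its map to
R[[t]], χ the induced map to R((t))) to R((t)) is an equivalence between finite étale schemes over
Spec R{t}[1/t] and over Spec R((t)). (The published statement is for any topological ring with a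
Henselian open nonunital subring whose induced topology has a neighbourhood base of zero consisting
of ideals, and its completion; this row is the case R{t}[1/t] → R((t)), which the published
statement singles out.) -/
theorem result (R : Type u) [CommRing R]
    (B : Type u) [CommRing B] [Algebra R[X] B] (hB : Hens2.IsPairHenselization R[X] (Ideal.span {(X : R[X])}) B)
    (ψ : B →ₐ[R[X]] PowerSeries R)
    (χ : Localization.Away (algebraMap R[X] B X) →+* LaurentSeries R)
    (hχ : χ.comp (algebraMap B (Localization.Away (algebraMap R[X] B X))) =
      (HahnSeries.ofPowerSeries ℤ R).comp ψ.toRingHom) :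
    (FEt.restrict (Spec.map (CommRingCat.ofHom χ))).IsEquivalence := by
  haveI := ApproxAwayLib.henselianRing_span hB
  have S := ApproxAwayLib.setup_henselian (L := Localization.Away (algebraMap R[X] B X)) hB ψ χ
    (RingEquiv.refl (LaurentSeries R)) (fun b => RingHom.congr_fun hχ b)
  have hfl : Module.Flat R[X] B := PairHens.flat_of_isPairHenselization hB
  have hreg : IsSMulRegular R[X] (X : R[X]) :=
    fun p q h => (Polynomial.monic_X (R := R)).isRegular.left h
  have hX : IsSMulRegular B (algebraMap R[X] B X) := hreg.of_flat
  refine EtStrLib.restrict_isEquivalence S ?_ ⟨0, fun x ⟨m, hm⟩ => ?_⟩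
  · have hψX : ψ.toRingHom (algebraMap R[X] B X) = PowerSeries.X :=
      (ψ.commutes X).trans (by simp [PowerSeries.algebraMap_apply'])
    rw [hψX]
    infer_instance
  · have h1 : x = 0 := (hX.pow m) (by simpa [smul_eq_mul] using hm)
    rw [h1, mul_zero]

end Groth.Agent.S15763
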