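import Groth.Statements.S15765
import Mathlib
-- import your own Groth.Agent.* helpers here

set_option autoImplicit false
universe u
open CategoryTheory AlgebraicGeometry
open CAlg

namespace Groth.Agent.S15765

/-- Let B be a topological ring in which the units form an open subset, B₀ → B a ring map with dense
image and X a quasi-affine scheme over B₀. Then the image of any B-point Spec B → X over B₀ is
contained in an affine open of X. (The published statement allows X ind-quasi-affine, i.e. with all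
quasi-compact opens quasi-affine; since a B-point lands in a quasi-compact open, this row's
quasi-affine case carries the content.) -/
theorem result (B : Type u) [CommRing B] [TopologicalSpace B]
    [IsTopologicalRing B] (hB : IsOpen {b : B | IsUnit b})
    (B₀ : Type u) [CommRing B₀] (φ : B₀ →+* B) (hφ : DenseRange φ)
    (X : Scheme.{u}) [X.IsQuasiAffine] (p : X ⟶ Spec (CommRingCat.of B₀))
    (f : Spec (CommRingCat.of B) ⟶ X) (hf : f ≫ p = Spec.map (CommRingCat.ofHom φ)) :
    ∃ U : X.Opens, IsAffineOpen U ∧ Set.range f.base ⊆ (U : Set X) := by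
  classical
  let χ : Γ(X, ⊤) →+* B := (f.appTop ≫ (Scheme.ΓSpecIso (CommRingCat.of B)).hom).hom
  let ψ : B₀ →+* Γ(X, ⊤) := ((Scheme.ΓSpecIso (CommRingCat.of B₀)).inv ≫ p.appTop).hom
  have hψ : χ.comp ψ = φ := by
    have e : ((Scheme.ΓSpecIso (CommRingCat.of B₀)).inv ≫ p.appTop) ≫ f.appTop ≫ (Scheme.ΓSpecIso (CommRingCat.of B)).hom
        = CommRingCat.ofHom φ := by
      rw [Category.assoc, ← Category.assoc p.appTop, ← Scheme.Hom.comp_appTop, hf, Scheme.ΓSpecIso_naturality,
        Iso.inv_hom_id_assoc]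
    exact congrArg CommRingCat.Hom.hom e
  have hpre : ∀ g : Γ(X, ⊤), f ⁻¹ᵁ X.basicOpen g = PrimeSpectrum.basicOpen (χ g) := fun g => by
    rw [Scheme.preimage_basicOpen_top]
    exact basicOpen_eq_of_affine' (f.appTop g)
  let G : Set Γ(X, ⊤) := {r | IsAffineOpen (X.basicOpen r)}
  have hspan : Ideal.span (χ '' G) = ⊤ := by
    rw [← PrimeSpectrum.zeroLocus_empty_iff_eq_top, PrimeSpectrum.zeroLocus_span, Set.eq_empty_iff_forall_notMem]
    intro P hP
    obtain ⟨_, ⟨r, hr, rfl⟩, hPr, -⟩ :=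
      (Scheme.IsQuasiAffine.isBasis_basicOpen X).exists_subset_of_mem_open (Set.mem_univ (f.base P)) isOpen_univ
    obtain ⟨r', hr', hrr⟩ := hr
    have h : P ∈ f ⁻¹ᵁ X.basicOpen r' := by
      show f.base P ∈ X.basicOpen r'
      rw [hrr]; exact hPr
    rw [hpre] at h
    exact h (hP ⟨r', hr', rfl⟩)
  obtain ⟨T, hT, h1⟩ := Submodule.mem_span_finite_of_mem_span ((Ideal.eq_top_iff_one _).1 hspan)
  obtain ⟨T', hT', rfl⟩ := Finset.subset_set_image_iff.1 hT
  obtain ⟨b, hb⟩ : ∃ b : T' → B, ∑ i, b i * χ (i : Γ(X, ⊤)) = 1 := by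
    rw [Finset.coe_image, show (χ '' (T' : Set Γ(X, ⊤))) = Set.range (fun i : T' => χ (i : Γ(X, ⊤))) by ext x; simp] at h1
    exact Ideal.mem_span_range_iff_exists_fun.1 h1
  have hcont : Continuous fun c : T' → B => ∑ i, c i * χ (i : Γ(X, ⊤)) :=
    continuous_finsetSum _ fun i _ => (continuous_apply i).mul continuous_const
  obtain ⟨c, hc⟩ := (DenseRange.piMap fun _ : T' => hφ).exists_mem_open (hB.preimage hcont)
    ⟨b, by show IsUnit (∑ i, b i * χ (i : Γ(X, ⊤))); rw [hb]; exact isUnit_one⟩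
  let g : Γ(X, ⊤) := ∑ i, ψ (c i) * (i : Γ(X, ⊤))
  have hg : IsUnit (χ g) := by
    rw [map_sum]
    simp only [map_mul, ← RingHom.comp_apply χ, hψ]
    exact hc
  refine ⟨X.basicOpen g, ?_, ?_⟩
  · refine isAffineOpen_of_isAffineOpen_basicOpen _
      (Set.range fun i : T' => X.presheaf.map (homOfLE (X.basicOpen_le g)).op (i : Γ(X, ⊤))) ?_ ?_
    · refine Ideal.eq_top_of_isUnit_mem _ ?_
        (RingedSpace.isUnit_res_basicOpen X.toLocallyRingedSpace.toRingedSpace g)
      show X.presheaf.map (homOfLE (X.basicOpen_le g)).op g ∈ _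
      rw [map_sum]
      refine sum_mem fun i _ => ?_
      rw [map_mul]
      exact Ideal.mul_mem_left _ _ (Ideal.subset_span ⟨i, rfl⟩)
    · rintro _ ⟨i, rfl⟩
      rw [Scheme.basicOpen_res, inf_comm, ← Scheme.basicOpen_res _ _ (homOfLE (X.basicOpen_le (i : Γ(X, ⊤)))).op]
      exact IsAffineOpen.basicOpen (hT' i.2) _
  · rintro _ ⟨P, rfl⟩
    have h : P ∈ f ⁻¹ᵁ X.basicOpen g := by
      rw [hpre]
      exact fun hP => P.2.ne_top (Ideal.eq_top_of_isUnit_mem _ hP hg)
    exact h

end Groth.Agent.S15765
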