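import Groth.Statements.S15766
import Mathlib.RingTheory.LaurentSeries
import Mathlib.RingTheory.Henselian
import Mathlib.RingTheory.RootsOfUnity.AlgebraicallyClosed
import Mathlib.RingTheory.Noetherian.Nilpotent

set_option autoImplicit false
universe u
open CategoryTheory CategoryTheory.Limits AlgebraicGeometry
open FEt

namespace Groth.Agent.S15766

open CategoryTheory CategoryTheory.Limits AlgebraicGeometry

set_option backward.isDefEq.respectTransparency false
open CategoryTheory.Limits HahnSeries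

section Idem

variable {R : Type u} [CommRing R]

/-- The map on Laurent series induced coefficientwise by a ring map. -/
noncomputable def mapL {S : Type u} [CommRing S] (f : R →+* S) : LaurentSeries R →+* LaurentSeries S where
  toFun x := x.map f
  map_one' := HahnSeries.map_one f.toMonoidWithZeroHom
  map_mul' x y := HahnSeries.map_mul (f : R →ₙ+* S)
  map_zero' := by ext; simp
  map_add' x y := by ext; simp

@[simp] lemma mapL_coeff {S : Type u} [CommRing S] (f : R →+* S) (x : LaurentSeries R) (i : ℤ) :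
    (mapL f x).coeff i = f (x.coeff i) := rfl

/-- An idempotent Laurent series with no terms in degree `≤ 0` is zero. -/
lemma eq_zero_of_nonpos (e : LaurentSeries R) (he : e * e = e)
    (h : ∀ i ≤ 0, e.coeff i = 0) : e = 0 := by
  by_contra hne
  have hm : e.coeff e.order ≠ 0 := fun h0 => hne (HahnSeries.coeff_order_eq_zero.1 h0)
  have hpos : 0 < e.order := by
    by_contra hle
    exact hm (h _ (not_lt.1 hle))
  apply hm
  nth_rw 1 [← he]
  rw [HahnSeries.coeff_mul]
  refine Finset.sum_eq_zero fun ij hij => ?_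
  rw [Finset.mem_antidiagonal] at hij
  obtain ⟨h1, h2, h3⟩ := hij
  have := HahnSeries.order_le_of_coeff_ne_zero h1
  have := HahnSeries.order_le_of_coeff_ne_zero h2
  omega

lemma eq_zero_of_coeff_zero_nilpotent (e : LaurentSeries R) (he : e * e = e)
    (hnil : ∀ i, IsNilpotent (e.coeff i)) : e = 0 := by
  classical
  let n := e.order
  let a : Ideal R := Ideal.span (((Finset.Icc n 0).image e.coeff : Finset R) : Set R)
  have ha : a ≤ nilradical R := Ideal.span_le.2 fun x hx => by
    obtain ⟨i, -, rfl⟩ := Finset.mem_image.1 hx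
    exact mem_nilradical.2 (hnil i)
  have hfg : a.FG := ⟨_, rfl⟩
  obtain ⟨m, hm⟩ := Ideal.FG.isNilpotent_iff_le_nilradical hfg |>.2 ha
  -- all coefficients lie in `a`
  have h0 : mapL (Ideal.Quotient.mk a) e = 0 := by
    refine eq_zero_of_nonpos _ (by rw [← map_mul, he]) fun i hi => ?_
    rw [mapL_coeff, Ideal.Quotient.eq_zero_iff_mem]
    by_cases hn : n ≤ i
    · exact Ideal.subset_span (Finset.mem_image.2 ⟨i, Finset.mem_Icc.2 ⟨hn, hi⟩, rfl⟩)
    · rw [HahnSeries.coeff_eq_zero_of_lt_order (not_le.1 hn)]; exact zero_mem _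
  have h1 : ∀ k : ℕ, ∀ i, e.coeff i ∈ a ^ (k + 1) := by
    intro k
    induction k with
    | zero =>
      intro i
      rw [pow_one, ← Ideal.Quotient.eq_zero_iff_mem, ← mapL_coeff, h0, HahnSeries.coeff_zero]
    | succ k ih =>
      intro i
      rw [← he, HahnSeries.coeff_mul, pow_succ]
      refine Ideal.sum_mem _ fun ij _ => Ideal.mul_mem_mul (ih _) ?_
      have := ih ij.2
      exact Ideal.pow_le_self (Nat.succ_ne_zero k) this
  ext i
  have := Ideal.pow_le_pow_right (Nat.le_succ m) (h1 m i)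
  rw [hm] at this
  simpa using this

/-- The Laurent series ring of a local ring has no nontrivial idempotent. -/
lemma idem_trivial [IsLocalRing R] (e : LaurentSeries R) (he : e * e = e) : e = 0 ∨ e = 1 := by
  have key : ∀ f : LaurentSeries R, f * f = f → ∀ (P : Ideal R) [P.IsPrime],
      (∀ i, f.coeff i ∈ P) ∨ (∀ i, (1 - f).coeff i ∈ P) := by
    intro f hf P hP
    have h1 : mapL (Ideal.Quotient.mk P) f * (1 - mapL (Ideal.Quotient.mk P) f) = 0 := by
      rw [mul_sub, mul_one, ← map_mul, hf, sub_self]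
    rcases mul_eq_zero.1 h1 with h | h
    · left; intro i
      rw [← Ideal.Quotient.eq_zero_iff_mem, ← mapL_coeff, h, HahnSeries.coeff_zero]
    · right; intro i
      rw [← Ideal.Quotient.eq_zero_iff_mem, ← mapL_coeff, map_sub, map_one, h, HahnSeries.coeff_zero]
  have main : ∀ f : LaurentSeries R, f * f = f →
      (∀ i, f.coeff i ∈ IsLocalRing.maximalIdeal R) → f = 0 := by
    intro f hf hm
    refine eq_zero_of_coeff_zero_nilpotent f hf fun i => ?_
    rw [← mem_nilradical, nilradical_eq_sInf]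
    refine Submodule.mem_sInf.2 fun (P : Ideal R) (hP : P.IsPrime) => ?_
    rcases key f hf P with h | h
    · exact h i
    · exfalso
      have h2 := IsLocalRing.le_maximalIdeal hP.ne_top (h 0)
      have h3 := add_mem h2 (hm 0)
      rw [HahnSeries.coeff_sub, sub_add_cancel, HahnSeries.coeff_one, if_pos rfl] at h3
      exact (Ideal.ne_top_iff_one _).1 (IsLocalRing.maximalIdeal.isMaximal R).ne_top h3
  rcases key e he (IsLocalRing.maximalIdeal R) with h | h
  · exact Or.inl (main e he h)
  · refine Or.inr (sub_eq_zero.1 (main (1 - e) ?_ h)).symm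
    linear_combination he

instance connected [IsLocalRing R] :
    PreconnectedSpace (PrimeSpectrum (LaurentSeries R)) := by
  refine preconnectedSpace_iff_clopen.2 fun s hs => ?_
  obtain ⟨e, he, rfl⟩ := PrimeSpectrum.isClopen_iff.1 hs
  rcases idem_trivial e he with rfl | rfl
  · left; simp
  · right; simp

end Idem

/-- A morphism from a connected scheme to a coproduct of copies of `T`. -/
lemma exists_index {n : ℕ} {T T' : Scheme.{u}} [PreconnectedSpace T'] [Nonempty T'] (h : T' ⟶ T)
    (g : T' ⟶ ∐ fun _ : Fin n => T) (hg : g ≫ Sigma.desc (fun _ : Fin n => 𝟙 T) = h) :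
    ∃ i : Fin n, g = h ≫ Sigma.ι (fun _ : Fin n => T) i := by
  obtain ⟨t⟩ := ‹Nonempty T'›
  let c := sigmaOpenCover.{u} (fun _ : Fin n => T)
  obtain ⟨i, y, hy⟩ := c.exists_eq (g t)
  refine ⟨i, ?_⟩
  have hsub : Set.range g ⊆ Set.range (Sigma.ι (fun _ : Fin n => T) i) := by
    have hcl : IsClopen (g ⁻¹' Set.range (Sigma.ι (fun _ : Fin n => T) i)) := by
      refine ⟨?_, (Scheme.Hom.opensRange (Sigma.ι (fun _ : Fin n => T) i)).2.preimage g.continuous⟩
      refine IsClosed.preimage g.continuous ?_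
      rw [← isOpen_compl_iff]
      have : (Set.range (Sigma.ι (fun _ : Fin n => T) i))ᶜ =
          ⋃ j : {j // j ≠ i}, Set.range (Sigma.ι (fun _ : Fin n => T) j.1) := by
        ext z
        constructor
        · intro hz
          obtain ⟨j, w, hw⟩ := c.exists_eq z
          refine Set.mem_iUnion.2 ⟨⟨j, fun e => hz ?_⟩, ⟨w, hw⟩⟩
          subst e; exact ⟨w, hw⟩
        · intro hz hz'
          obtain ⟨⟨j, hj⟩, w, hw⟩ := Set.mem_iUnion.1 hz
          exact (disjoint_opensRange_sigmaι (fun _ : Fin n => T) j i hj).le_bot ⟨⟨w, hw⟩, hz'⟩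
      rw [this]
      exact isOpen_iUnion fun j => (Scheme.Hom.opensRange (Sigma.ι (fun _ : Fin n => T) j.1)).2
    have hu := hcl.eq_univ ⟨t, y, hy⟩
    rintro _ ⟨x, rfl⟩
    exact (Set.eq_univ_iff_forall.1 hu x)
  let l := IsOpenImmersion.lift (Sigma.ι (fun _ : Fin n => T) i) g hsub
  have hl : l ≫ Sigma.ι (fun _ : Fin n => T) i = g := IsOpenImmersion.lift_fac _ _ _
  have : l = h := by rw [← hg, ← hl]; simp
  rw [← this, hl]

/-- The comparison of points of a split cover over a connected base and over a nonempty scheme. -/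
lemma index_lift {n : ℕ} {T S X T' : Scheme.{u}} [PreconnectedSpace T] [PreconnectedSpace T'] [Nonempty T']
    (p : X ⟶ S) (q : T ⟶ S) (e : pullback p q ≅ ∐ fun _ : Fin n => T)
    (he : e.hom ≫ Sigma.desc (fun _ : Fin n => 𝟙 T) = pullback.snd p q) (h : T' ⟶ T) :
    (∀ s₁ s₂ : T ⟶ X, s₁ ≫ p = q → s₂ ≫ p = q → h ≫ s₁ = h ≫ s₂ → s₁ = s₂) ∧
    (∀ s' : T' ⟶ X, s' ≫ p = h ≫ q → ∃ s : T ⟶ X, s ≫ p = q ∧ h ≫ s = s') := by
  haveI : Nonempty T := ⟨h (Classical.arbitrary T')⟩
  constructor
  · intro s₁ s₂ h₁ h₂ h12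
    let g₁ := pullback.lift s₁ (𝟙 T) (by rw [h₁, Category.id_comp]) ≫ e.hom
    let g₂ := pullback.lift s₂ (𝟙 T) (by rw [h₂, Category.id_comp]) ≫ e.hom
    obtain ⟨i, hi⟩ := exists_index (𝟙 T) g₁ (by simp [g₁, he])
    obtain ⟨j, hj⟩ := exists_index (𝟙 T) g₂ (by simp [g₂, he])
    rw [Category.id_comp] at hi hj
    have e12 : h ≫ g₁ = h ≫ g₂ := by
      simp only [g₁, g₂, ← Category.assoc, cancel_mono]
      apply pullback.hom_ext <;> simp [h12]
    rw [hi, hj] at e12
    obtain ⟨t⟩ := ‹Nonempty T'›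
    have hij : i = j := by
      by_contra hne
      exact (disjoint_opensRange_sigmaι (fun _ : Fin n => T) i j hne).le_bot
        ⟨⟨h t, rfl⟩, ⟨h t, by rw [← Scheme.Hom.comp_apply, ← e12, Scheme.Hom.comp_apply]⟩⟩
    have hg : g₁ = g₂ := by rw [hi, hj, hij]
    have := (cancel_mono e.hom).1 hg
    have := congrArg (· ≫ pullback.fst p q) this
    simpa using this
  · intro s' hs'
    obtain ⟨i, hi⟩ := exists_index h (pullback.lift s' h hs' ≫ e.hom) (by simp [he])
    refine ⟨Sigma.ι (fun _ : Fin n => T) i ≫ e.inv ≫ pullback.fst p q, ?_, ?_⟩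
    · simp only [Category.assoc, pullback.condition]
      rw [← he]
      simp
    · rw [← Category.assoc, ← hi]
      simp

/-- An injective ring map cancels against morphisms to an affine scheme. -/
lemma cancel {A B : Type u} [CommRing A] [CommRing B] (φ : A →+* B) (hφ : Function.Injective φ)
    {X : Scheme.{u}} [IsAffine X] (a b : Spec (CommRingCat.of A) ⟶ X)
    (h : Spec.map (CommRingCat.ofHom φ) ≫ a = Spec.map (CommRingCat.ofHom φ) ≫ b) : a = b := by
  rw [← cancel_mono X.isoSpec.hom]
  obtain ⟨f, hf⟩ := Spec.map_surjective (a ≫ X.isoSpec.hom)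
  obtain ⟨g, hg⟩ := Spec.map_surjective (b ≫ X.isoSpec.hom)
  rw [← hf, ← hg]
  have h' : Spec.map (f ≫ CommRingCat.ofHom φ) = Spec.map (g ≫ CommRingCat.ofHom φ) := by
    rw [Spec.map_comp, Spec.map_comp, hf, hg, reassoc_of% h]
  congr 1
  ext x
  exact hφ (congrArg (fun m => m.hom x) (Spec.map_injective h'))

section Twist

variable {R : Type u} [CommRing R]

/-- The twist `t ↦ ζ t`. -/
noncomputable def twist (ζ : Rˣ) : LaurentSeries R →+* LaurentSeries R where
  toFun x := ⟨fun i => ((ζ ^ i : Rˣ) : R) * x.coeff i,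
    x.isPWO_support.mono fun i hi h0 => hi (by simp [h0])⟩
  map_one' := by
    ext i
    by_cases h : i = 0 <;> simp [HahnSeries.coeff_one, h]
  map_mul' x y := by
    ext i
    simp only [HahnSeries.coeff_mul]
    rw [Finset.mul_sum]
    refine Finset.sum_congr ?_ fun ij hij => ?_
    · ext ij
      simp [Finset.mem_antidiagonal]
    · rw [Finset.mem_antidiagonal] at hij
      rw [← hij.2.2, zpow_add, Units.val_mul]
      ring
  map_zero' := by ext; simp
  map_add' x y := by ext; simp [mul_add]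

@[simp] lemma twist_coeff (ζ : Rˣ) (x : LaurentSeries R) (i : ℤ) :
    (twist ζ x).coeff i = ((ζ ^ i : Rˣ) : R) * x.coeff i := rfl

end Twist

/-- Let R be a strictly Henselian local ring with residue field k, let d > 0 be invertible in R, and let
X → Spec R((t)) be finite étale and split (a trivial finite cover) after base change along the
substitution t ↦ t^d. Then every k((t))-point of X over R((t)) comes from a unique R((t))-section of
X; here ρ : R((t)) → k((t)) is the coefficientwise residue map, pinned on power series. (The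
published statement is for a finite étale group scheme G of order invertible in R that becomes
constant over a finite étale cover of R((t)) tamely ramified relative to R, in the form H⁰(R((t)),
G) ≅ H⁰(k((t)), G); the covers t ↦ t^d with d invertible in R are cofinal among such tame covers,
and the group structure plays no role in the H⁰ statement, so this row states it for any finite
étale X split by such a cover.) -/
theorem result (R : Type u) [CommRing R]
    [HenselianLocalRing R] [IsSepClosed (IsLocalRing.ResidueField R)]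
    (d : ℕ) (hd : 0 < d) (hdu : IsUnit (d : R))
    (hinj : Function.Injective (AddMonoidHom.mulLeft (d : ℤ)))
    (hmono : ∀ g g' : ℤ, AddMonoidHom.mulLeft (d : ℤ) g ≤ AddMonoidHom.mulLeft (d : ℤ) g' ↔ g ≤ g')
    (ρ : LaurentSeries R →+* LaurentSeries (IsLocalRing.ResidueField R))
    (hρ : ρ.comp (HahnSeries.ofPowerSeries ℤ R) =
      (HahnSeries.ofPowerSeries ℤ (IsLocalRing.ResidueField R)).comp (PowerSeries.map (IsLocalRing.residue R)))
    (X : Scheme.{u}) (p : X ⟶ Spec (CommRingCat.of (LaurentSeries R))) [IsFinite p] [Etale p]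
    (hsplit : ∃ (n : ℕ) (e : pullback p (Spec.map (CommRingCat.ofHom
        (HahnSeries.embDomainRingHom (R := R) (AddMonoidHom.mulLeft (d : ℤ)) hinj hmono))) ≅
        (∐ fun _ : Fin n => Spec (CommRingCat.of (LaurentSeries R)))),
      e.hom ≫ Sigma.desc (fun _ : Fin n => 𝟙 (Spec (CommRingCat.of (LaurentSeries R)))) =
        pullback.snd p (Spec.map (CommRingCat.ofHom
          (HahnSeries.embDomainRingHom (R := R) (AddMonoidHom.mulLeft (d : ℤ)) hinj hmono)))) :
    (∀ s₁ s₂ : Spec (CommRingCat.of (LaurentSeries R)) ⟶ X,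
        s₁ ≫ p = 𝟙 _ → s₂ ≫ p = 𝟙 _ →
        Spec.map (CommRingCat.ofHom ρ) ≫ s₁ = Spec.map (CommRingCat.ofHom ρ) ≫ s₂ → s₁ = s₂) ∧
    (∀ s' : Spec (CommRingCat.of (LaurentSeries (IsLocalRing.ResidueField R))) ⟶ X,
        s' ≫ p = Spec.map (CommRingCat.ofHom ρ) →
        ∃ s : Spec (CommRingCat.of (LaurentSeries R)) ⟶ X, s ≫ p = 𝟙 _ ∧ Spec.map (CommRingCat.ofHom ρ) ≫ s = s') := by
  classical
  let Φ : LaurentSeries R →+* LaurentSeries R :=
    HahnSeries.embDomainRingHom (R := R) (AddMonoidHom.mulLeft (d : ℤ)) hinj hmono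
  let k := IsLocalRing.ResidueField R
  let Φk : LaurentSeries k →+* LaurentSeries k :=
    HahnSeries.embDomainRingHom (R := k) (AddMonoidHom.mulLeft (d : ℤ)) hinj hmono
  haveI : IsAffine X := isAffine_of_isAffineHom p
  obtain ⟨n, e, he⟩ := hsplit
  have hΦmem : ∀ (x : LaurentSeries R) (i : ℤ), (Φ x).coeff ((d : ℤ) * i) = x.coeff i :=
    fun x i => HahnSeries.embDomain_coeff (f := ⟨⟨_, hinj⟩, hmono _ _⟩) (a := i)
  have hΦout : ∀ (x : LaurentSeries R) (i : ℤ), ¬ (d : ℤ) ∣ i → (Φ x).coeff i = 0 :=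
    fun x i hi => HahnSeries.embDomain_of_notMem_range fun ⟨j, hj⟩ => hi ⟨j, hj.symm⟩
  have hΦkmem : ∀ (x : LaurentSeries k) (i : ℤ), (Φk x).coeff ((d : ℤ) * i) = x.coeff i :=
    fun x i => HahnSeries.embDomain_coeff (f := ⟨⟨_, hinj⟩, hmono _ _⟩) (a := i)
  have hΦkout : ∀ (x : LaurentSeries k) (i : ℤ), ¬ (d : ℤ) ∣ i → (Φk x).coeff i = 0 :=
    fun x i hi => HahnSeries.embDomain_of_notMem_range fun ⟨j, hj⟩ => hi ⟨j, hj.symm⟩
  have hΦinj : Function.Injective Φ := fun x y h => by
    ext i; rw [← hΦmem x i, ← hΦmem y i, h]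
  have hΦkinj : Function.Injective Φk := fun x y h => by
    ext i; rw [← hΦkmem x i, ← hΦkmem y i, h]
  -- the residue map is coefficientwise
  have hρ' : ρ = mapL (IsLocalRing.residue R) := by
    refine IsLocalization.ringHom_ext (Submonoid.powers (PowerSeries.X : PowerSeries R)) ?_
    refine RingHom.ext fun f => ?_
    show ρ (HahnSeries.ofPowerSeries ℤ R f) = mapL (IsLocalRing.residue R) (HahnSeries.ofPowerSeries ℤ R f)
    rw [show ρ (HahnSeries.ofPowerSeries ℤ R f) = _ from RingHom.congr_fun hρ f]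
    ext i
    by_cases hi : 0 ≤ i
    · lift i to ℕ using hi
      simp [k]
    · rw [mapL_coeff, RingHom.comp_apply, HahnSeries.ofPowerSeries_apply, HahnSeries.ofPowerSeries_apply,
        HahnSeries.embDomain_of_notMem_range, HahnSeries.embDomain_of_notMem_range, map_zero] <;>
      · rintro ⟨j, hj⟩
        exact hi (hj ▸ Int.natCast_nonneg j)
  have hcomm : ρ.comp Φ = Φk.comp ρ := by
    ext x i
    show (ρ (Φ x)).coeff i = (Φk (ρ x)).coeff i
    rw [hρ', mapL_coeff]
    by_cases hi : (d : ℤ) ∣ i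
    · obtain ⟨j, rfl⟩ := hi
      rw [hΦmem, hΦkmem, mapL_coeff]
    · rw [hΦout _ _ hi, hΦkout _ _ hi, map_zero]
  -- a primitive root
  haveI : NeZero (d : k) := ⟨by
    have := hdu.map (IsLocalRing.residue R)
    rw [map_natCast] at this
    exact this.ne_zero⟩
  obtain ⟨z, hz⟩ := HasEnoughRootsOfUnity.exists_primitiveRoot k d
  obtain ⟨z₀, hz₀⟩ := IsLocalRing.residue_surjective z
  have hres : ∀ x : R, x ∈ IsLocalRing.maximalIdeal R ↔ IsLocalRing.residue R x = 0 :=
    fun x => (IsLocalRing.residue_eq_zero_iff x).symm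
  obtain ⟨ζ₀, hroot, hζ₀⟩ := HenselianLocalRing.is_henselian (R := R)
    (Polynomial.X ^ d - Polynomial.C 1) (Polynomial.monic_X_pow_sub_C 1 hd.ne') z₀
    (by rw [hres]; simp [hz₀, hz.pow_eq_one])
    (by
      refine IsLocalRing.notMem_maximalIdeal.1 fun hm => ?_
      rw [hres] at hm
      simp only [Polynomial.derivative_sub, Polynomial.derivative_X_pow, Polynomial.derivative_C,
        sub_zero, Polynomial.eval_mul, Polynomial.eval_C, Polynomial.eval_pow, Polynomial.eval_X, Polynomial.eval_natCast,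
        map_mul, map_natCast, map_pow, hz₀] at hm
      exact mul_ne_zero (NeZero.ne (d : k)) (pow_ne_zero _ (hz.ne_zero hd.ne')) hm)
  have hζd : ζ₀ ^ d = 1 := by
    have : ζ₀ ^ d - 1 = 0 := by simpa using hroot
    exact sub_eq_zero.1 this
  let ζ : Rˣ := Units.ofPowEqOne ζ₀ d hζd hd.ne'
  have hζk : Units.map (IsLocalRing.residue R : R →* k) ζ = (hz.isUnit hd.ne').unit := by
    ext
    show IsLocalRing.residue R ζ₀ = z
    rw [← hz₀, ← sub_eq_zero, ← map_sub, IsLocalRing.residue_eq_zero_iff]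
    exact hζ₀
  let σ := twist ζ
  let zk : kˣ := (hz.isUnit hd.ne').unit
  let σk := twist zk
  have hζpow : ∀ j : ℤ, ζ ^ ((d : ℤ) * j) = 1 := fun j => by
    rw [zpow_mul, zpow_natCast, show ζ ^ d = 1 from Units.ext hζd, one_zpow]
  have hzk : IsPrimitiveRoot zk d := IsPrimitiveRoot.coe_units_iff.1 hz
  have hσΦ : σ.comp Φ = Φ := by
    ext x i
    show ((ζ ^ i : Rˣ) : R) * _ = _
    by_cases hi : (d : ℤ) ∣ i
    · obtain ⟨j, rfl⟩ := hi
      rw [hζpow, Units.val_one, one_mul]
    · simp only [hΦout _ _ hi, mul_zero]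
  have hσkΦ : σk.comp Φk = Φk := by
    ext x i
    show ((zk ^ i : kˣ) : k) * _ = _
    by_cases hi : (d : ℤ) ∣ i
    · rw [(hzk.zpow_eq_one_iff_dvd i).2 hi, Units.val_one, one_mul]
    · simp only [hΦkout _ _ hi, mul_zero]
  have hρσ : ρ.comp σ = σk.comp ρ := by
    ext x i
    show (ρ (σ x)).coeff i = (σk (ρ x)).coeff i
    simp only [hρ', mapL_coeff, σ, σk, twist_coeff, map_mul]
    congr 1
    rw [show zk = Units.map (IsLocalRing.residue R : R →* k) ζ from hζk.symm, ← map_zpow]
    rfl
  -- translate to schemes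
  let T := Spec (CommRingCat.of (LaurentSeries R))
  let T' := Spec (CommRingCat.of (LaurentSeries k))
  let q : T ⟶ T := Spec.map (CommRingCat.ofHom Φ)
  let qk : T' ⟶ T' := Spec.map (CommRingCat.ofHom Φk)
  let r : T' ⟶ T := Spec.map (CommRingCat.ofHom ρ)
  have hrq : r ≫ q = qk ≫ r := by
    simp only [r, q, qk, ← Spec.map_comp, ← CommRingCat.ofHom_comp, hcomm]
  haveI : PreconnectedSpace T := connected (R := R)
  haveI : PreconnectedSpace T' := connected (R := k)
  haveI : Nonempty T' := inferInstanceAs (Nonempty (PrimeSpectrum (LaurentSeries k)))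
  obtain ⟨huniq, hex⟩ := index_lift p q e he r
  constructor
  · intro s₁ s₂ h₁ h₂ h12
    refine cancel Φ hΦinj s₁ s₂ (huniq (q ≫ s₁) (q ≫ s₂) ?_ ?_ ?_)
    · rw [Category.assoc, h₁, Category.comp_id]
    · rw [Category.assoc, h₂, Category.comp_id]
    · rw [reassoc_of% hrq, reassoc_of% hrq]
      exact congrArg (qk ≫ ·) h12
  · intro s' hs'
    obtain ⟨sL, hsL, hsL'⟩ := hex (qk ≫ s') (by rw [Category.assoc, hs']; exact hrq.symm)
    have hinv : Spec.map (CommRingCat.ofHom σ) ≫ sL = sL := by
      refine huniq _ _ ?_ hsL ?_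
      · rw [Category.assoc, hsL]
        simp only [q, ← Spec.map_comp, ← CommRingCat.ofHom_comp, hσΦ]
      · have h1 : r ≫ Spec.map (CommRingCat.ofHom σ) = Spec.map (CommRingCat.ofHom σk) ≫ r := by
          simp only [r, ← Spec.map_comp, ← CommRingCat.ofHom_comp, hρσ]
        rw [reassoc_of% h1, hsL', ← Category.assoc]
        simp only [qk, ← Spec.map_comp, ← CommRingCat.ofHom_comp, hσkΦ]
    obtain ⟨f, hf⟩ := Spec.map_surjective (sL ≫ X.isoSpec.hom)
    have hσf : ∀ b, σ (f.hom b) = f.hom b := by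
      intro b
      have : Spec.map (f ≫ CommRingCat.ofHom σ) = Spec.map f := by
        rw [Spec.map_comp, hf, reassoc_of% hinv]
      exact congrArg (fun m => m.hom b) (Spec.map_injective this)
    have hrange : ∀ b, ∃ y, Φ y = f.hom b := by
      intro b
      have hzero : ∀ i, ¬ (d : ℤ) ∣ i → (f.hom b).coeff i = 0 := by
        intro i hi
        have h1 : ((ζ ^ i : Rˣ) : R) * (f.hom b).coeff i = (f.hom b).coeff i := by
          conv_rhs => rw [← hσf b]
          rfl
        have hu : IsUnit (((ζ ^ i : Rˣ) : R) - 1) := by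
          refine IsLocalRing.notMem_maximalIdeal.1 fun hm => hi ?_
          rw [hres, map_sub, map_one, sub_eq_zero] at hm
          refine (hzk.zpow_eq_one_iff_dvd i).1 ?_
          ext
          rw [show zk = Units.map (IsLocalRing.residue R : R →* k) ζ from hζk.symm, ← map_zpow]
          exact hm
        exact hu.mul_right_eq_zero.1 (by rw [sub_mul, one_mul, h1, sub_self])
      refine ⟨⟨fun j => (f.hom b).coeff ((d : ℤ) * j), ?_⟩, ?_⟩
      · exact (HahnSeries.forallLTEqZero_supp_BddBelow _ (min 0 (f.hom b).order) fun m hm =>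
          HahnSeries.coeff_eq_zero_of_lt_order (by
            rcases le_or_gt 0 (f.hom b).order with h0 | h0
            · rw [min_eq_left h0] at hm
              nlinarith
            · rw [min_eq_right h0.le] at hm
              nlinarith)).isWF.isPWO
      · ext i
        by_cases hi : (d : ℤ) ∣ i
        · obtain ⟨j, rfl⟩ := hi
          rw [hΦmem]
        · rw [hΦout _ _ hi, hzero i hi]
    choose g hg using hrange
    let gh : Γ(X, ⊤) →+* LaurentSeries R :=
      { toFun := g
        map_one' := hΦinj (by rw [hg, map_one, map_one])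
        map_mul' := fun a b => hΦinj (by rw [hg, map_mul, map_mul, hg, hg])
        map_zero' := hΦinj (by rw [hg, map_zero, map_zero])
        map_add' := fun a b => hΦinj (by rw [hg, map_add, map_add, hg, hg]) }
    let s : T ⟶ X := Spec.map (CommRingCat.ofHom gh) ≫ X.isoSpec.inv
    have hqs : q ≫ s = sL := by
      rw [← cancel_mono X.isoSpec.hom, ← hf]
      simp only [q, s, Category.assoc, Iso.inv_hom_id, Category.comp_id, ← Spec.map_comp, ← CommRingCat.ofHom_comp]
      congr 1
      exact CommRingCat.hom_ext (RingHom.ext fun b => hg b)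
    refine ⟨s, cancel Φ hΦinj _ _ ?_, cancel Φk hΦkinj _ _ ?_⟩
    · show q ≫ s ≫ p = q ≫ 𝟙 T
      rw [reassoc_of% hqs, hsL, Category.comp_id]
    · show qk ≫ r ≫ s = qk ≫ s'
      rw [← hsL', ← hqs, reassoc_of% hrq]

end Groth.Agent.S15766
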