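import Groth.Statements.S15768
import Groth.Agent.ApproxAwayLib.Modules
import Groth.Agent.ApproxAwayLib.Setups
import Groth.Agent.S15749

set_option autoImplicit false
universe u
open Polynomial
open CAlg

namespace Groth.Agent.S15768

/-- For any ring R and a henselization B of R[t] along (t), every idempotent of B[1/t] comes from a
unique idempotent of R under R → R[t] → B → B[1/t]. -/
theorem result (R : Type u) [CommRing R]
    (B : Type u) [CommRing B] [Algebra R[X] B] (hB : Hens2.IsPairHenselization R[X] (Ideal.span {(X : R[X])}) B)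
    (e : Localization.Away (algebraMap R[X] B X)) (he : IsIdempotentElem e) :
    ∃! r : R, IsIdempotentElem r ∧
      algebraMap B (Localization.Away (algebraMap R[X] B X)) (algebraMap R[X] B (Polynomial.C r)) = e := by
  classical
  have scalar : ∀ {M : Type u} [CommRing M] (a b : Matrix (Fin 1) (Fin 1) M), MonicDescLib.MEquiv a b → a = b := by
    rintro M _ a b ⟨c, d, rfl, rfl⟩
    ext i j
    fin_cases i; fin_cases j
    simp [Matrix.mul_apply, mul_comm]
  obtain ⟨ψ₀, hψ₀, -⟩ := hB.2 (PowerSeries R) (Ideal.span {(PowerSeries.X : PowerSeries R)})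
    (Polynomial.coeToPowerSeries.ringHom) inferInstance (by rw [Ideal.map_span, Set.image_singleton]; simp)
  let ψ : B →ₐ[R[X]] PowerSeries R :=
    { ψ₀ with commutes' := fun f => (RingHom.congr_fun hψ₀ f).trans (by simp [PowerSeries.algebraMap_apply']) }
  let L := Localization.Away (algebraMap R[X] B X)
  have hu : IsUnit ((HahnSeries.ofPowerSeries ℤ R).comp ψ.toRingHom (algebraMap R[X] B X)) := by
    show IsUnit (HahnSeries.ofPowerSeries ℤ R (ψ (algebraMap R[X] B X)))
    rw [ψ.commutes, show (algebraMap R[X] (PowerSeries R) X) = PowerSeries.X by simp [PowerSeries.algebraMap_apply']]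
    have := IsLocalization.map_units (LaurentSeries R) (⟨PowerSeries.X, Submonoid.mem_powers _⟩ : Submonoid.powers (PowerSeries.X : PowerSeries R))
    rwa [LaurentSeries.coe_algebraMap] at this
  let gL : L →+* LaurentSeries R := IsLocalization.Away.lift (algebraMap R[X] B X) hu
  have hgL : ∀ b, gL (algebraMap B L b) = HahnSeries.ofPowerSeries ℤ R (ψ b) := fun b =>
    IsLocalization.Away.lift_eq (algebraMap R[X] B X) hu b
  have S := ApproxAwayLib.setup_henselian hB ψ gL (RingEquiv.refl _) hgL
  obtain ⟨r, ⟨hr, hrC⟩, hru⟩ := Groth.Agent.S15749.result R (gL e) (he.map gL)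
  have hC : ∀ a : R, gL (algebraMap B L (algebraMap R[X] B (Polynomial.C a))) = HahnSeries.C a := fun a => by
    rw [hgL, ψ.commutes]
    simp [PowerSeries.algebraMap_apply']
  have hcmp : ∀ y z : L, IsIdempotentElem y → IsIdempotentElem z → gL y = gL z → y = z := by
    intro y z hy hz h
    have key := ApproxAwayLib.mequiv_descend S (Matrix.of fun (_ _ : Fin 1) => y) (Matrix.of fun (_ _ : Fin 1) => z)
      (by ext i j; simp [Matrix.mul_apply, hy.eq]) (by ext i j; simp [Matrix.mul_apply, hz.eq]) (by
        have e1 : ((Matrix.of fun (_ _ : Fin 1) => y).map gL) = (Matrix.of fun (_ _ : Fin 1) => z).map gL := by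
          ext i j; simp [h]
        rw [e1]
        refine ⟨(Matrix.of fun (_ _ : Fin 1) => z).map gL, (Matrix.of fun (_ _ : Fin 1) => z).map gL, ?_, ?_⟩ <;>
          (ext i j; simp [Matrix.mul_apply, (hz.map gL).eq]))
    exact congrFun (congrFun (scalar _ _ key) 0) 0
  refine ⟨r, ⟨hr, hcmp _ _ (((hr.map Polynomial.C).map _).map _) he ((hC r).trans hrC)⟩, fun y hy => ?_⟩
  exact hru y ⟨hy.1, (hC y).symm.trans (congrArg gL hy.2)⟩

end Groth.Agent.S15768
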