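import Groth.Statements.S15770
import Mathlib

set_option autoImplicit false
universe u
open CAlg

namespace Groth.Agent.S15770

/-- Let B be a topological ring with Bˣ ⊂ B open and M, M' finitely generated projective B-modules, and
endow Hom_B(M, M') with the module topology (the canonical topology of a finite module). Then the
set of surjective B-linear maps M → M' is open. -/
theorem result (B : Type u) [CommRing B] [TopologicalSpace B]
    [IsTopologicalRing B] (hB : IsOpen {b : B | IsUnit b})
    (M M' : Type u) [AddCommGroup M] [Module B M] [Module.Finite B M] [Module.Projective B M]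
    [AddCommGroup M'] [Module B M'] [Module.Finite B M'] [Module.Projective B M']
    [TopologicalSpace (M →ₗ[B] M')] [IsModuleTopology B (M →ₗ[B] M')] :
    IsOpen {f : M →ₗ[B] M' | Function.Surjective f} := by
  classical
  rw [isOpen_iff_forall_mem_open]
  intro f hf
  obtain ⟨s, hs⟩ := Module.projective_lifting_property f LinearMap.id hf
  obtain ⟨k, π, ι, -, -, hπι⟩ := Module.Finite.exists_comp_eq_id_of_projective B M'
  let c : (Fin k → B) →ₗ[B] (Fin k → B) := LinearMap.id - ι.comp π
  let L : (M →ₗ[B] M') →ₗ[B] Matrix (Fin k) (Fin k) B :=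
    { toFun := fun g => LinearMap.toMatrix' (ι.comp ((g.comp s).comp π))
      map_add' := fun g h => by rw [LinearMap.add_comp, LinearMap.add_comp, LinearMap.comp_add, map_add]
      map_smul' := fun r g => by rw [LinearMap.smul_comp, LinearMap.smul_comp, LinearMap.comp_smul, map_smul]; rfl }
  let D : (M →ₗ[B] M') → B := fun g => (L g + LinearMap.toMatrix' c).det
  have hL : Continuous L := IsModuleTopology.continuous_of_linearMap L
  have hD : Continuous D := (hL.add continuous_const).matrix_det
  have hD' : ∀ g, D g = LinearMap.det (ι.comp ((g.comp s).comp π) + c) := fun g => by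
    rw [← LinearMap.det_toMatrix', map_add]; rfl
  refine ⟨D ⁻¹' {b | IsUnit b}, fun g hg => ?_, hB.preimage hD, ?_⟩
  · intro y
    have hu : IsUnit (ι.comp ((g.comp s).comp π) + c) := LinearMap.isUnit_iff_isUnit_det _ |>.mpr (by rw [← hD']; exact hg)
    obtain ⟨x, hx⟩ := ((Module.End.isUnit_iff _).mp hu).2 (ι y)
    refine ⟨s (π x), ?_⟩
    have h1 := congrArg π hx
    have h2 : ∀ z, π (ι z) = z := fun z => LinearMap.congr_fun hπι z
    simp only [LinearMap.add_apply, LinearMap.comp_apply, c, LinearMap.sub_apply, LinearMap.id_apply, map_add, map_sub, h2, sub_self, add_zero] at h1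
    exact h1
  · show IsUnit (D f)
    rw [hD']
    have h1 : ι.comp ((f.comp s).comp π) + c = LinearMap.id := by
      rw [hs, LinearMap.id_comp]; simp [c]
    rw [h1, LinearMap.det_id]; exact isUnit_one

end Groth.Agent.S15770
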