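import Groth.Statements.S15774
import Groth.Agent.ApproxAwayLib.Modules
import Groth.Agent.ApproxAwayLib.Setups

set_option autoImplicit false
universe u
open CAlg

namespace Groth.Agent.S15774

/-- The instance A[1/t] → Â[1/t]: if (A, tA) is a Henselian pair and the t-power torsion of A is
bounded, then every idempotent of Â[1/t] (Â the t-adic completion) comes from a unique idempotent of
A[1/t]. -/
theorem result (A : Type u) [CommRing A] (t : A) [HenselianRing A (Ideal.span {t})]
    (hbd : ∃ N : ℕ, ∀ a : A, (∃ m : ℕ, t ^ m * a = 0) → t ^ N * a = 0)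
    (e : Localization.Away (algebraMap A (AdicCompletion (Ideal.span {t}) A) t)) (he : IsIdempotentElem e) :
    ∃! e₀ : Localization.Away t, IsIdempotentElem e₀ ∧ Localization.awayMap (algebraMap A (AdicCompletion (Ideal.span {t}) A)) t e₀ = e := by
  classical
  have scalar : ∀ {M : Type u} [CommRing M] (a b : Matrix (Fin 1) (Fin 1) M), MonicDescLib.MEquiv a b → a = b := by
    rintro M _ a b ⟨c, d, rfl, rfl⟩
    ext i j
    fin_cases i; fin_cases j
    simp [Matrix.mul_apply, mul_comm]
  have S := ApproxAwayLib.setup_adicCompletion A t (HenselianRing.jac (I := Ideal.span {t}) (Ideal.mem_span_singleton_self t))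
  have hidem : (Matrix.of fun (_ _ : Fin 1) => e) * (Matrix.of fun (_ _ : Fin 1) => e) = Matrix.of fun _ _ => e := by
    ext i j; simp [Matrix.mul_apply, he.eq]
  obtain ⟨P, hP, hPe⟩ := ApproxAwayLib.exists_idempotent_descend S ‹_› _ hidem
  have hPe' := congrFun (congrFun (scalar _ _ hPe) 0) 0
  have hP00 : IsIdempotentElem (P 0 0) := by
    have := congrFun (congrFun hP 0) 0
    simpa [Matrix.mul_apply, IsIdempotentElem] using this
  refine ⟨P 0 0, ⟨hP00, hPe'⟩, fun y hy => ?_⟩
  have hy' : (Matrix.of fun (_ _ : Fin 1) => y) * (Matrix.of fun (_ _ : Fin 1) => y) = Matrix.of fun _ _ => y := by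
    ext i j; simp [Matrix.mul_apply, hy.1.eq]
  have hh : MonicDescLib.MEquiv ((Matrix.of fun (_ _ : Fin 1) => y).map
      (Localization.awayMap (algebraMap A (AdicCompletion (Ideal.span {t}) A)) t))
      (P.map (Localization.awayMap (algebraMap A (AdicCompletion (Ideal.span {t}) A)) t)) := by
    convert hPe.symm using 1
    ext i j; simp [hy.2]
  exact congrFun (congrFun (scalar _ _ (ApproxAwayLib.mequiv_descend S _ _ hy' hP hh)) 0) 0

end Groth.Agent.S15774
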