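import Groth.Statements.S15777
import Groth.Agent.SchDesc.TorsorDesc
import Groth.Agent.FpqcDesc.Basic
import Groth.Agent.ASp.Fpqc
import Groth.Agent.SmoothApproxLib.Section

set_option backward.isDefEq.respectTransparency.types false

set_option autoImplicit false
universe u
open CategoryTheory MonoidalCategory CartesianMonoidalCategory MonObj GrpObj AlgebraicGeometry
open NonAbH1

namespace Groth.Agent.S15777

/-- The instance A[1/t] → Â[1/t], kernel form, for an affine smooth group: if (A, tA) is a Henselian
pair with bounded t-power torsion and Â is the t-adic completion, then an fppf torsor under an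
affine smooth A[1/t]-group scheme which becomes trivial over Â[1/t] is trivial. (The published
statement is a bijection H¹(A[1/t], G) ≅ H¹(Â[1/t], G) for quasi-affine smooth G; this row is the
triviality of the kernel for affine smooth G.) -/
theorem result (A : Type u) [CommRing A] (t : A) [HenselianRing A (Ideal.span {t})]
    (hbd : ∃ N : ℕ, ∀ a : A, (∃ m : ℕ, t ^ m * a = 0) → t ^ N * a = 0)
    (G : Over (Spec (CommRingCat.of (Localization.Away t)))) [GrpObj G] [IsAffine G.left] [Smooth G.hom]
    (P : Over (Spec (CommRingCat.of (Localization.Away t)))) (a : AlgGrp.Action G P)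
    (hP : NonAbH1.IsTorsorFor Scheme.fppfPrecoverage a)
    (hsec : NonAbH1.HasSectionOver P (Spec.map (CommRingCat.ofHom (Localization.awayMap (algebraMap A (AdicCompletion (Ideal.span {t}) A)) t)))) :
    NonAbH1.HasSectionOver P (𝟙 (Spec (CommRingCat.of (Localization.Away t)))) := by
  obtain ⟨hpt, R, hR, hRsec⟩ := hP
  obtain ⟨T, σ, hT, hX⟩ := TorsorDesc.exists_trivializing a
    ⟨hpt, R, Scheme.fppfPrecoverage_le_fpqcPrecoverage _ hR, hRsec⟩
  haveI : SchDesc.IsFpqc T.hom := hT
  haveI : IsZariskiLocalAtTarget (@Smooth : MorphismProperty Scheme.{u}) :=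
    HasRingHomProperty.instIsZariskiLocalAtTarget _
  haveI : IsAffineHom G.hom := isAffineHom_of_isAffine _
  haveI : IsAffineHom P.hom := TorsorDesc.prop_of_isFpqc (@IsAffineHom : MorphismProperty Scheme.{u})
    FpqcDesc.isAffineHom_descends P.hom T.hom (hX _ ‹_›)
  haveI : Smooth P.hom := TorsorDesc.prop_of_isFpqc (@Smooth : MorphismProperty Scheme.{u})
    inferInstance P.hom T.hom (hX _ ‹_›)
  haveI : IsAffine P.left := isAffine_of_isAffineHom P.hom
  let e := P.left.isoSpec
  let φ := Spec.preimage (e.inv ≫ P.hom)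
  have hφ : Spec.map φ = e.inv ≫ P.hom := Spec.map_preimage _
  have hsm : φ.hom.Smooth := by
    have : Smooth (Spec.map φ) := by rw [hφ]; infer_instance
    exact (HasRingHomProperty.Spec_iff (P := @Smooth)).1 this
  letI : Algebra (Localization.Away t) Γ(P.left, ⊤) := φ.hom.toAlgebra
  haveI : Algebra.Smooth (Localization.Away t) Γ(P.left, ⊤) := hsm
  obtain ⟨s, hs⟩ := hsec
  let ψ := Spec.preimage (s ≫ e.hom)
  have hψ : φ ≫ ψ = CommRingCat.ofHom
      (Localization.awayMap (algebraMap A (AdicCompletion (Ideal.span {t}) A)) t) := by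
    apply Spec.map_injective
    rw [Spec.map_comp, Spec.map_preimage, hφ, Category.assoc, Iso.hom_inv_id_assoc, hs]
  obtain ⟨τ⟩ := SmoothApproxLib.exists_section t hbd ψ.hom (CommRingCat.hom_ext_iff.1 hψ)
  refine ⟨Spec.map (CommRingCat.ofHom τ.toRingHom) ≫ e.inv, ?_⟩
  rw [Category.assoc, ← hφ, ← Spec.map_comp]
  have : φ ≫ CommRingCat.ofHom τ.toRingHom = 𝟙 _ := CommRingCat.hom_ext τ.comp_algebraMap
  rw [this, Spec.map_id]

end Groth.Agent.S15777
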