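import Groth.Statements.S15779
import Groth.Agent.WeierHensLib.Zariski

set_option autoImplicit false
universe u
open Polynomial
open CAlg

namespace Groth.Agent.S15779

/-- For a Henselian local ring (R, m), L the localisation of R[t] at the monoid generated by t and the
polynomials with constant term 1, and ψ : R[s] → L the R-algebra map with s ↦ t⁻¹, extension and
contraction along ψ are mutually inverse bijections between the ideals of R[s] comaximal with mR[s]
and the ideals of L comaximal with mL, and R[s]/I → L/IL is bijective for every such I. -/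
theorem result (R : Type u) [CommRing R]
    [HenselianLocalRing R] (L : Type u) [CommRing L] [Algebra R[X] L]
    [IsLocalization (Submonoid.closure ({f : R[X] | f.coeff 0 = 1} ∪ {X})) L]
    [Algebra R L] [IsScalarTower R R[X] L]
    (ψ : R[X] →ₐ[R] L) (hψ : ψ X * algebraMap R[X] L X = 1) :
    (∀ I : Ideal R[X], I ⊔ (IsLocalRing.maximalIdeal R).map (algebraMap R R[X]) = ⊤ →
        (I.map ψ.toRingHom).comap ψ.toRingHom = I ∧
        I.map ψ.toRingHom ⊔ (IsLocalRing.maximalIdeal R).map (algebraMap R L) = ⊤ ∧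
        Function.Bijective (Ideal.quotientMap (I.map ψ.toRingHom) ψ.toRingHom Ideal.le_comap_map)) ∧
    (∀ J : Ideal L, J ⊔ (IsLocalRing.maximalIdeal R).map (algebraMap R L) = ⊤ →
        (J.comap ψ.toRingHom).map ψ.toRingHom = J ∧
        J.comap ψ.toRingHom ⊔ (IsLocalRing.maximalIdeal R).map (algebraMap R R[X]) = ⊤) := by
  let S : Submonoid R[X] := Submonoid.closure ({f : R[X] | f.coeff 0 = 1} ∪ {X})
  have hdec : ∀ s ∈ S, ∃ (k : ℕ) (u : R[X]), u.coeff 0 = 1 ∧ s = X ^ k * u := by
    intro s hs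
    induction hs using Submonoid.closure_induction with
    | mem y hy =>
      rcases hy with hy | hy
      · exact ⟨0, y, hy, by simp⟩
      · exact ⟨1, 1, by simp, by rw [Set.mem_singleton_iff.1 hy]; simp⟩
    | one => exact ⟨0, 1, by simp, by simp⟩
    | mul a b _ _ ha hb =>
      obtain ⟨k, u, hu, rfl⟩ := ha
      obtain ⟨l, v, hv, rfl⟩ := hb
      exact ⟨k + l, u * v, by rw [mul_coeff_zero, hu, hv, one_mul], by rw [pow_add]; ring⟩
  have hunit : ∀ P : R[X], WeierHensLib.Dist P → ∀ u : R[X], u.coeff 0 = 1 →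
      IsUnit (Ideal.Quotient.mk (Ideal.span {P}) u) := by
    intro P hP u hu
    have h1 := Ideal.mem_jacobson_bot.1 hP.X_mem_jacobson (Ideal.Quotient.mk _ u.divX)
    rwa [← map_mul, ← map_one (Ideal.Quotient.mk (Ideal.span {P})), ← map_add, ← C_1, ← hu,
      Polynomial.X_mul_divX_add] at h1
  refine WeierHensLib.correspond ψ hψ ?_ ?_ ?_
  · intro P hP l
    obtain ⟨f, ⟨s, hs⟩, rfl⟩ := IsLocalization.exists_mk'_eq S l
    obtain ⟨k, u, hu, rfl⟩ := hdec s hs
    obtain ⟨c, hc⟩ := (hunit P hP u hu).exists_right_inv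
    obtain ⟨v, rfl⟩ := Ideal.Quotient.mk_surjective c
    rw [← map_mul, ← map_one (Ideal.Quotient.mk (Ideal.span {P})), Ideal.Quotient.eq] at hc
    obtain ⟨d, hd⟩ := Ideal.mem_span_singleton'.1 hc
    refine ⟨k, f * v, ?_⟩
    have hu' : IsUnit (algebraMap R[X] L u) :=
      IsLocalization.map_units L (⟨u, Submonoid.subset_closure (Or.inl hu)⟩ : S)
    rw [← Ideal.mul_unit_mem_iff_mem _ hu', sub_mul, mul_assoc, ← map_pow, ← map_mul, ← map_mul,
      show IsLocalization.mk' L f (⟨X ^ k * u, hs⟩ : S) * algebraMap R[X] L (X ^ k * u) = algebraMap R[X] L f from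
        IsLocalization.mk'_spec L f (⟨X ^ k * u, hs⟩ : S), ← map_sub, Ideal.mem_span_singleton']
    refine ⟨algebraMap R[X] L (-(f * d)), ?_⟩
    rw [← map_mul]
    congr 1
    linear_combination (-f) * hd
  · intro P hP q hq
    obtain ⟨l, hl⟩ := Ideal.mem_span_singleton'.1 hq
    obtain ⟨g, ⟨s, hs⟩, rfl⟩ := IsLocalization.exists_mk'_eq S l
    obtain ⟨k, u, hu, rfl⟩ := hdec s hs
    have h1 : algebraMap R[X] L (g * P) = algebraMap R[X] L (X ^ k * u * q) := by
      rw [map_mul, map_mul _ (X ^ k * u) q, ← hl, ← mul_assoc]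
      congr 1
      exact (IsLocalization.mk'_spec' L g (⟨X ^ k * u, hs⟩ : S)).symm
    obtain ⟨⟨s', hs'⟩, h2⟩ := (IsLocalization.eq_iff_exists S L).1 h1
    obtain ⟨k', u', hu', rfl⟩ := hdec s' hs'
    refine ⟨k' + k, ?_⟩
    have h3 : Ideal.Quotient.mk (Ideal.span {P}) (X ^ (k' + k) * q) * Ideal.Quotient.mk _ (u' * u) = 0 := by
      rw [← map_mul, Ideal.Quotient.eq_zero_iff_mem, Ideal.mem_span_singleton]
      exact ⟨X ^ k' * u' * g, by simp only at h2; rw [pow_add]; linear_combination (-1 : R[X]) * h2⟩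
    have h4 := (hunit P hP (u' * u) (by rw [mul_coeff_zero, hu', hu, one_mul])).mul_left_eq_zero.1 h3
    rwa [Ideal.Quotient.eq_zero_iff_mem, Ideal.mem_span_singleton] at h4
  · intro J hJ
    obtain ⟨a, haJ, m, hm, ham⟩ := Submodule.mem_sup.1 ((Ideal.eq_top_iff_one _).1 hJ)
    rw [IsScalarTower.algebraMap_eq R R[X] L, ← Ideal.map_map] at hm
    obtain ⟨⟨⟨g, hg⟩, ⟨s, hs⟩⟩, hgs⟩ := (IsLocalization.mem_map_algebraMap_iff S L).1 hm
    have hsJ : algebraMap R[X] L (s - g) ∈ J := by
      have := J.mul_mem_right (algebraMap R[X] L s) haJ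
      rw [show a = 1 - m by rw [← ham]; ring, sub_mul, one_mul, hgs, ← map_sub] at this
      exact this
    obtain ⟨k, u, hu, rfl⟩ := hdec s hs
    have hred : (X ^ k * u - g).map (IsLocalRing.residue R) = X ^ k * u.map (IsLocalRing.residue R) := by
      have h0 : g.map (IsLocalRing.residue R) = 0 := by
        ext i
        rw [coeff_map, coeff_zero, IsLocalRing.residue_eq_zero_iff]
        rw [Polynomial.algebraMap_eq, Ideal.mem_map_C_iff] at hg
        exact hg i
      rw [Polynomial.map_sub, h0, sub_zero, Polynomial.map_mul, Polynomial.map_pow, map_X]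
    obtain ⟨P, h, hPh, hP, hh⟩ := WeierHensLib.exists_dist_factor _ k _ (by rw [coeff_map, hu, map_one]) hred
    refine ⟨P, hP, ?_⟩
    rw [hPh, map_mul] at hsJ
    refine (Ideal.mul_unit_mem_iff_mem J ?_).1 hsJ
    have hsplit : h = C (h.coeff 0) * (C ((hh.unit⁻¹ : Rˣ) : R) * h) := by
      rw [← mul_assoc, ← C_mul, hh.mul_val_inv, C_1, one_mul]
    rw [hsplit, map_mul, ← Polynomial.algebraMap_eq, ← IsScalarTower.algebraMap_apply]
    exact (hh.map _).mul (IsLocalization.map_units L (⟨C ((hh.unit⁻¹ : Rˣ) : R) * h, Submonoid.subset_closure (Or.inl (by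
      show (C ((hh.unit⁻¹ : Rˣ) : R) * h).coeff 0 = 1
      rw [coeff_C_mul]; exact hh.val_inv_mul))⟩ : S))

end Groth.Agent.S15779
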