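import Groth.Statements.S1578
import Mathlib


set_option autoImplicit false
universe u
open CategoryTheory CategoryTheory.Limits AlgebraicGeometry
open Divisors

namespace Groth.Agent.S1578

/-- Let M be a module over a ring A, F the associated quasi-coherent module on Spec A, and p a prime of
A. If p is an associated prime of M then p is an associated point of F; the converse holds when p is
finitely generated. -/
theorem result (A : CommRingCat.{u}) (M : ModuleCat.{u} A)
    (p : Spec A) :
    (p.asIdeal ∈ associatedPrimes A M → Curv2.IsAssPoint (tilde M) p) ∧
    (p.asIdeal.FG → Curv2.IsAssPoint (tilde M) p → p.asIdeal ∈ associatedPrimes A M) := by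
  letI : Algebra A ((Spec A).presheaf.stalk p) := StructureSheaf.stalkAlgebra A p
  haveI : IsLocalization.AtPrime ((Spec A).presheaf.stalk p) p.asIdeal := StructureSheaf.IsLocalization.to_stalk A p
  haveI : IsScalarTower A ((Spec A).presheaf.stalk p) (ModuleCat.of A ((tilde M).presheaf.stalk p)) :=
    inferInstanceAs (IsScalarTower A ((structurePresheafInCommRingCat A).stalk p)
      ↑(TopCat.Presheaf.stalk (moduleStructurePresheaf A M).presheaf p))
  have hc : Ideal.comap (algebraMap A ((Spec A).presheaf.stalk p)) (IsLocalRing.maximalIdeal _) = p.asIdeal :=
    IsLocalization.AtPrime.under_maximalIdeal ((Spec A).presheaf.stalk p) p.asIdeal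
  constructor
  · intro h
    exact Module.associatedPrimes.mem_associatedPrimes_of_comap_mem_associatedPrimes_of_isLocalizedModule
      p.asIdeal.primeCompl (tilde.toStalk M p).hom _ (by rw [hc]; exact h)
  · intro hfg h
    rw [← hc]
    exact Module.associatedPrimes.comap_mem_associatedPrimes_of_mem_associatedPrimes_of_isLocalizedModule_of_fg
      p.asIdeal.primeCompl (tilde.toStalk M p).hom _ h (by rw [hc]; exact hfg)

end Groth.Agent.S1578
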