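import Mathlib
import Groth.Statements.S15784

set_option autoImplicit false
universe u
open Neron

namespace Groth.Agent.S15784

/-- Let O be a discrete valuation ring with fraction field L and uniformizer ϖ', let ϖ be an element of
the maximal ideal of O, let q = u·ϖ'^n with u a unit of O and n ≥ 1, and let m ≥ 1 be a divisor of
n. Then the following are equivalent: (i) there is a nonzero element z = w·ϖ'^a of L, with w a unit
of O and a an integer congruent to n/m modulo n, and an integer j such that z^m·q^j lies in 1 + ϖO;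
(ii) ϖ'^n/q is an m-th power in the group of units of O/ϖO, that is, u·(y^m + ϖ·r) = 1 for some y, r
∈ O. (The published statement phrases (i) geometrically, as the existence of a point of order m in
the special fibre of the Néron model of the Weil restriction of the Tate curve with parameter q from
L down to a subfield over which L is totally ramified with ϖ a uniformizer of the subfield, whose
image in the component group also has order m; this row states the equivalence between (i) and (ii)
that the printed argument establishes.) -/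
theorem result
    (O : Type u) [CommRing O] [IsDomain O] [IsDiscreteValuationRing O]
    (L : Type u) [Field L] [Algebra O L] [IsFractionRing O L]
    (ϖ' : O) (hϖ' : Irreducible ϖ') (ϖ : O) (hϖ : ϖ ∈ IsLocalRing.maximalIdeal O)
    (n : ℕ) (hn : 1 ≤ n) (u : Oˣ) (q : O) (hq : q = u * ϖ' ^ n)
    (m : ℕ) (hm : 1 ≤ m) (hmn : m ∣ n) :
    (∃ (w : Oˣ) (a j t : ℤ) (r : O), a = (n / m : ℕ) + t * n ∧
        (algebraMap O L w * algebraMap O L ϖ' ^ a) ^ m * algebraMap O L q ^ j = algebraMap O L (1 + ϖ * r)) ↔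
      ∃ y r : O, (u : O) * (y ^ m + ϖ * r) = 1 := by
  obtain ⟨k, rfl⟩ := hmn
  rw [Nat.mul_div_cancel_left k (by omega : 0 < m)]
  have hπ : algebraMap O L ϖ' ≠ 0 := fun h => hϖ'.ne_zero (IsFractionRing.injective O L (h.trans (map_zero _).symm))
  have hu : algebraMap O L (u : O) ≠ 0 := (u.isUnit.map _).ne_zero
  have hzero : ∀ (U V : Oˣ) (z : ℤ), algebraMap O L (U : O) * algebraMap O L ϖ' ^ z = algebraMap O L (V : O) → z = 0 := by
    intro U V z hz
    rcases Int.eq_nat_or_neg z with ⟨l, rfl | rfl⟩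
    · rw [zpow_natCast, ← map_pow, ← map_mul] at hz
      by_contra hl
      have hl' : l ≠ 0 := by simpa using hl
      exact hϖ'.not_isUnit ((isUnit_pow_iff hl').mp
        (isUnit_of_mul_isUnit_right (IsFractionRing.injective O L hz ▸ V.isUnit)))
    · rw [zpow_neg, zpow_natCast, mul_inv_eq_iff_eq_mul₀ (pow_ne_zero _ hπ), ← map_pow, ← map_mul] at hz
      by_contra hl
      have hl' : l ≠ 0 := by simpa using hl
      exact hϖ'.not_isUnit ((isUnit_pow_iff hl').mp
        (isUnit_of_mul_isUnit_right (IsFractionRing.injective O L hz ▸ U.isUnit)))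
  have h1r : ∀ r : O, IsUnit (1 + ϖ * r) := fun r => by
    by_contra hne
    have h := Ideal.sub_mem _ ((IsLocalRing.mem_maximalIdeal _).mpr hne) (Ideal.mul_mem_right r _ hϖ)
    rw [add_sub_cancel_right] at h
    exact (IsLocalRing.mem_maximalIdeal _).mp h isUnit_one
  have hq' : algebraMap O L q = algebraMap O L (u : O) * algebraMap O L ϖ' ^ ((m * k : ℕ) : ℤ) := by
    rw [hq, map_mul, map_pow, zpow_natCast]
  have hcast : ∀ (U : Oˣ) (z : ℤ), algebraMap O L ((U ^ z : Oˣ) : O) = algebraMap O L (U : O) ^ z := fun U z => by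
    have h := map_zpow (Units.map (algebraMap O L : O →* L)) U z
    have h2 := congrArg Units.val h
    rw [Units.val_zpow_eq_zpow_val] at h2
    exact h2
  constructor
  · rintro ⟨w, a, j, t, r, ha, h⟩
    rw [mul_pow, hq', mul_zpow, ← zpow_natCast (algebraMap O L ϖ' ^ a) m, ← zpow_mul, ← zpow_mul,
      mul_mul_mul_comm, ← zpow_add₀ hπ, ← map_pow, ← hcast u j, ← map_mul] at h
    have hz := hzero (w ^ m * u ^ j) (h1r r).unit (a * (m : ℤ) + ((m * k : ℕ) : ℤ) * j) (by simpa using h)
    rw [hz, zpow_zero, mul_one] at h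
    have h' : (w : O) ^ m * ((u ^ j : Oˣ) : O) = 1 + ϖ * r := IsFractionRing.injective O L h
    have hj : j = -(1 + t * m) := by
      have : ((m * k : ℕ) : ℤ) * (1 + t * m + j) = 0 := by rw [← hz, ha]; push_cast; ring
      rcases mul_eq_zero.mp this with h0 | h0
      · exfalso; have := Int.natCast_eq_zero.mp h0; omega
      · omega
    have hU : (h1r r).unit = w ^ m * u ^ j := Units.ext (by simpa using h'.symm)
    refine ⟨((w⁻¹ * u ^ t : Oˣ) : O), r * (((w⁻¹ * u ^ t) ^ m : Oˣ) : O), ?_⟩
    have hkey : u * (w⁻¹ * u ^ t) ^ m * (h1r r).unit = 1 := by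
      rw [hU, hj, mul_pow, ← zpow_natCast (u ^ t) m, ← zpow_mul, zpow_neg, zpow_add, zpow_one, inv_pow]
      have habc : ∀ a b c : Oˣ, a * (b * c) * (b⁻¹ * (a * c)⁻¹) = 1 := fun a b c => by
        rw [show a * (b * c) * (b⁻¹ * (a * c)⁻¹) = (a * c) * (a * c)⁻¹ * (b * b⁻¹) by ac_rfl,
          mul_inv_cancel, mul_inv_cancel, one_mul]
      simpa only [inv_inv] using habc u (w ^ m)⁻¹ (u ^ (t * (m : ℤ)))
    have := congrArg Units.val hkey
    simp only [Units.val_mul, Units.val_pow_eq_pow_val, IsUnit.unit_spec, Units.val_one] at this ⊢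
    linear_combination this
  · rintro ⟨y, r, h⟩
    have hy : IsUnit y := by
      by_contra hne
      have hmem : (u : O) * (y ^ m + ϖ * r) ∈ IsLocalRing.maximalIdeal O :=
        Ideal.mul_mem_left _ _ (Ideal.add_mem _ (Ideal.pow_mem_of_mem _ ((IsLocalRing.mem_maximalIdeal _).mpr hne) m (by omega))
          (Ideal.mul_mem_right r _ hϖ))
      rw [h] at hmem
      exact (IsLocalRing.mem_maximalIdeal _).mp hmem isUnit_one
    refine ⟨hy.unit⁻¹, k, -1, 0, r * ((hy.unit⁻¹ : Oˣ) : O) ^ m, by push_cast; ring, ?_⟩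
    have hiy : ((hy.unit⁻¹ : Oˣ) : O) * y = 1 := hy.val_inv_mul
    have hiy' : ((hy.unit⁻¹ : Oˣ) : O) ^ m * y ^ m = 1 := by rw [← mul_pow, hiy, one_pow]
    have e : ((hy.unit⁻¹ : Oˣ) : O) ^ m = (u : O) * (1 + ϖ * (r * ((hy.unit⁻¹ : Oˣ) : O) ^ m)) := by
      linear_combination (-((hy.unit⁻¹ : Oˣ) : O) ^ m) * h + (u : O) * hiy'
    rw [hq', mul_pow, zpow_neg_one, ← map_pow]
    conv_lhs => rw [e, map_mul, zpow_natCast, zpow_natCast, ← pow_mul, mul_comm k m]
    field_simp

end Groth.Agent.S15784
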