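import Groth.Statements.S15789
import Groth.Agent.WildQuotLib.Family2
open Groth.Agent.WildQuotLib

set_option autoImplicit false
universe u
open WildQuot

namespace Groth.Agent.S15789

open MvPolynomial in
/-- Let `k` be a field of characteristic `p > 0`, `n ≥ 2`, `R = k[[x_1, …, x_n]]`, `a_1, …, a_n ∈ R`
nonzero with zero constant term, and `A = R[u_1, …, u_n] / (u_i ^ p - a_i ^ (p-1) u_i - x_i : i =
1..n)`. Then the group of `R`-algebra automorphisms of `A` has exactly `p ^ n` elements, is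
commutative and every element has `p`-th power the identity (it is the elementary abelian group
generated by the substitutions `u_i ↦ u_i + a_i`), and an element of `A` is fixed by every
`R`-algebra automorphism if and only if it comes from `R`. (The published statement says that
`Frac(A)/Frac(R)` is Galois with group `(ℤ/pℤ)^n` and `R = A^H`; this row states it through the
`R`-algebra automorphisms of `A`.) -/
theorem result
    (p : ℕ) [Fact p.Prime] (k : Type u) [Field k] [CharP k p] (n : ℕ) (hn : 2 ≤ n)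
    (a : Fin n → MvPowerSeries (Fin n) k)
    (ha0 : ∀ i, a i ≠ 0) (ham : ∀ i, MvPowerSeries.constantCoeff (a i) = 0) :
    let R := MvPowerSeries (Fin n) k
    let I : Ideal (MvPolynomial (Fin n) R) :=
      Ideal.span (Set.range fun i : Fin n =>
        X i ^ p - C (a i ^ (p - 1)) * X i - C (MvPowerSeries.X i))
    Nat.card ((MvPolynomial (Fin n) R ⧸ I) ≃ₐ[R] (MvPolynomial (Fin n) R ⧸ I)) = p ^ n ∧
      (∀ σ τ : (MvPolynomial (Fin n) R ⧸ I) ≃ₐ[R] (MvPolynomial (Fin n) R ⧸ I), σ * τ = τ * σ) ∧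
      (∀ σ : (MvPolynomial (Fin n) R ⧸ I) ≃ₐ[R] (MvPolynomial (Fin n) R ⧸ I), σ ^ p = 1) ∧
      (∀ b : MvPolynomial (Fin n) R ⧸ I,
        (∀ σ : (MvPolynomial (Fin n) R ⧸ I) ≃ₐ[R] (MvPolynomial (Fin n) R ⧸ I), σ b = b) ↔
          b ∈ Set.range (algebraMap R (MvPolynomial (Fin n) R ⧸ I))) := by
  intro R I
  have hI : I = Groth.Agent.WildQuotLib.monicIdeal (Groth.Agent.WildQuotLib.asPoly p a MvPowerSeries.X) :=
    (monicIdeal_asPoly p a MvPowerSeries.X).symm
  clear_value I
  subst hI
  haveI := isDomain_PS (p := p) a ham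
  haveI : CharP R p := charP_of_injective_ringHom (MvPowerSeries.C_injective (σ := Fin n) (R := k)) p
  haveI := charP_AS (p := p) a (MvPowerSeries.X : Fin n → R)
  set d : Fin n → R := MvPowerSeries.X
  let A := ASRing p a d
  have hc : ∀ i, algebraMap R A (a i) ≠ 0 := fun i h =>
    ha0 i (algebraMap_injective_AS a d (h.trans (map_zero _).symm))
  have hs : ∀ (j : Fin n → Fin p) i, (((j i : ℕ) : R) * a i) ^ p = a i ^ (p - 1) * (((j i : ℕ) : R) * a i) := fun j i => by
    rw [mul_pow, ← frobenius_def, map_natCast, mul_left_comm (a i ^ (p - 1)), ← pow_succ,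
      Nat.sub_add_cancel (Fact.out : p.Prime).one_le]
  choose Φ hΦ using fun j => exists_shift (p := p) a d (fun i => ((j i : ℕ) : R) * a i) (hs j)
  have hext : ∀ σ τ : A ≃ₐ[R] A, (∀ i, σ (gen (asPoly p a d) i) = τ (gen (asPoly p a d) i)) → σ = τ := fun σ τ h =>
    AlgEquiv.coe_toAlgHom_injective (hom_ext (φ := (σ : A →ₐ[R] A)) (ψ := (τ : A →ₐ[R] A)) _ h)
  have hbij : Function.Bijective Φ := by
    refine ⟨fun j j' h => funext fun i => ?_, fun σ => ?_⟩
    · have h1 := congrArg (fun τ : A ≃ₐ[R] A => τ (gen (asPoly p a d) i)) h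
      simp only [hΦ, add_right_inj, map_mul, map_natCast] at h1
      exact Fin.ext (CharP.natCast_injOn_Iio A p (j i).2 (j' i).2 (mul_right_cancel₀ (hc i) h1))
    · have hroot : ∀ i, ∃ j : ℕ, j < p ∧
          σ (gen (asPoly p a d) i) = gen (asPoly p a d) i + (j : A) * algebraMap R A (a i) := fun i => by
        refine (root_iff a d i (hc i) _).1 ?_
        rw [show σ (gen (asPoly p a d) i) = (σ : A →ₐ[R] A) (gen (asPoly p a d) i) from rfl,
          Polynomial.aeval_algHom_apply, aeval_gen, map_zero]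
      choose j hj hσ using hroot
      exact ⟨fun i => ⟨j i, hj i⟩, hext _ _ fun i => by rw [hΦ, hσ, map_mul, map_natCast]⟩
  have hshift : ∀ σ : A ≃ₐ[R] A, ∀ i, ∃ c : R, σ (gen (asPoly p a d) i) = gen (asPoly p a d) i + algebraMap R A c :=
    fun σ i => by
      obtain ⟨j, rfl⟩ := hbij.2 σ
      exact ⟨_, hΦ j i⟩
  refine ⟨?_, fun σ τ => hext _ _ fun i => ?_, fun σ => hext _ _ fun i => ?_, fun b => ⟨fun hb => ?_, ?_⟩⟩
  · rw [← Nat.card_eq_of_bijective Φ hbij, Nat.card_eq_fintype_card, Fintype.card_fun, Fintype.card_fin, Fintype.card_fin]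
  · obtain ⟨c, hc⟩ := hshift σ i
    obtain ⟨e, he⟩ := hshift τ i
    rw [AlgEquiv.mul_apply, AlgEquiv.mul_apply, hc, he, map_add, map_add, AlgEquiv.commutes, AlgEquiv.commutes, hc, he]
    ring
  · obtain ⟨c, hc⟩ := hshift σ i
    have hm : ∀ m : ℕ, (σ ^ m) (gen (asPoly p a d) i) = gen (asPoly p a d) i + (m : A) * algebraMap R A c := by
      intro m
      induction m with
      | zero => simp
      | succ m ih =>
        rw [pow_succ', AlgEquiv.mul_apply, ih, map_add, map_mul, map_natCast, AlgEquiv.commutes, hc]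
        push_cast; ring
    rw [hm, CharP.cast_eq_zero, zero_mul, add_zero]
    rfl
  · refine mem_range_of_fixed a d ha0
      (fun i => (Φ (fun j => if j = i then ⟨1, (Fact.out : p.Prime).one_lt⟩ else ⟨0, (Fact.out : p.Prime).pos⟩) : A →ₐ[R] A))
      (fun i => by simp [hΦ]) (fun i j hj => by simp [hΦ, hj]) b (fun i => hb _)
  · rintro ⟨r, rfl⟩ σ
    exact σ.commutes r

end Groth.Agent.S15789
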