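import Groth.Statements.S1579
import Groth.Agent.AssLib.Push

set_option autoImplicit false
universe u
open CategoryTheory CategoryTheory.Limits AlgebraicGeometry
open Divisors

namespace Groth.Agent.S1579

open CategoryTheory CategoryTheory.Limits AlgebraicGeometry

set_option backward.isDefEq.respectTransparency false
set_option linter.style.haveILetI false
open Groth.Agent.AssLib Groth.Agent.WeakAssLib TopologicalSpace in
theorem exists_minimal_push {A B : Type u} [CommRing A] [CommRing B] [Algebra A B] [Module.Finite A B]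
    {N : Type u} [AddCommGroup N] [Module B N] (q : Ideal B) [q.IsPrime] (t : N) (ht : Wit q t) :
    ∃ t' : N, q.comap (algebraMap A B) ∈ ((Submodule.span B {t'}).annihilator.comap (algebraMap A B)).minimalPrimes := by
  classical
  let p := q.comap (algebraMap A B)
  have hfin : (p.primesOver B \ {q}).Finite := (Algebra.QuasiFinite.finite_primesOver p).subset Set.diff_subset
  have hnot : ¬ (q : Set B) ⊆ ⋃ r ∈ (hfin.toFinset : Finset (Ideal B)), (r : Set B) := by
    intro h
    obtain ⟨r, hr, hqr⟩ := (Ideal.subset_union_prime (f := fun r => r) (⊥ : Ideal B) ⊥ (s := hfin.toFinset)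
      (fun i hi _ _ => ((hfin.mem_toFinset.1 hi).1).1)).1 h
    rw [hfin.mem_toFinset] at hr
    haveI := hr.1.1
    haveI : Algebra.IsIntegral A B := Algebra.IsIntegral.of_finite A B
    refine hr.2 (eq_of_le_of_not_lt hqr fun hlt => ?_).symm
    have h2 := Ideal.IsIntegral.comap_lt_comap (R := A) hlt
    exact h2.ne hr.1.2.over
  obtain ⟨y, hyq, hy⟩ := Set.not_subset.1 hnot
  obtain ⟨g, hg, n, hn⟩ := ht.pow y hyq
  refine ⟨g • t, ?_⟩
  have hle : (Submodule.span B {g • t}).annihilator ≤ q := fun a ha => by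
    rw [Submodule.mem_annihilator_span_singleton, ← mul_smul] at ha
    exact ((inferInstance : q.IsPrime).mem_or_mem (ht.le _ ha)).resolve_right hg
  refine ⟨⟨inferInstance, Ideal.comap_mono hle⟩, fun p' hp' hp'p => ?_⟩
  obtain ⟨hp'1, hp'2⟩ := hp'
  haveI := hp'1
  haveI : Algebra.IsIntegral A B := Algebra.IsIntegral.of_finite A B
  obtain ⟨q', hq'a, hq'p, hq'c⟩ := Ideal.exists_ideal_over_prime_of_isIntegral p' _ hp'2
  haveI := hq'p
  obtain ⟨q'', hq''a, hq''p, hq''c⟩ := Ideal.exists_ideal_over_prime_of_isIntegral p q'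
    (by rw [hq'c]; exact hp'p)
  by_cases hq : q'' = q
  · subst hq
    obtain ⟨-, hmin⟩ := ((mem_minimalPrimes_iff q'' t).mpr ⟨inferInstance, ht⟩)
    have hqq' : q'' ≤ q' := hmin ⟨hq'p, fun a ha => hq'a (by
      rw [Submodule.mem_annihilator_span_singleton] at ha ⊢
      rw [smul_comm, ha, smul_zero])⟩ hq''a
    exact (Ideal.comap_mono hqq').trans hq'c.le
  · exfalso
    have hyn : y ^ n ∈ q'' := hq''a (hq'a (by
      rw [Submodule.mem_annihilator_span_singleton, ← mul_smul, mul_comm]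
      exact hn))
    refine hy (Set.mem_iUnion₂.2 ⟨q'', hfin.mem_toFinset.2 ⟨⟨hq''p, ⟨hq''c.symm⟩⟩, hq⟩, ?_⟩)
    exact hq''p.mem_of_pow_mem n hyn

open Groth.Agent.AssLib Groth.Agent.WeakAssLib TopologicalSpace in
theorem isWeakAssPoint_push_finite {X S : Scheme.{u}} (f : X ⟶ S) [IsFinite f] (M : X.Modules) [Coh.IsQCoh M]
    {x : X} (hx : Curv2.IsWeakAssPoint M x) : Curv2.IsWeakAssPoint ((Coh.push f).obj M) (f x) := by
  haveI := QCohLib.isQCoh_pushforward M f
  obtain ⟨_, ⟨W : S.Opens, (hW : IsAffineOpen W), rfl⟩, hxW, -⟩ :=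
    S.isBasis_affineOpens.exists_subset_of_mem_open (Set.mem_univ (f x)) isOpen_univ
  have hV : IsAffineOpen (f ⁻¹ᵁ W) := hW.preimage f
  have hxV : x ∈ f ⁻¹ᵁ W := hxW
  obtain ⟨t, ht⟩ := (Groth.Agent.AssLib.isWeakAssPoint_iff hV hxV).mp hx
  letI := (f.app W).hom.toAlgebra
  haveI : Module.Finite Γ(S, W) Γ(X, f ⁻¹ᵁ W) := IsFinite.finite_app f W hW
  obtain ⟨t', ht'⟩ := exists_minimal_push (A := Γ(S, W)) (pr hV hxV) t ht
  have hc := comap_appLE_pr f hW hV le_rfl hxV
  rw [Scheme.Hom.appLE_eq_app] at hc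
  let u : Γ((Coh.push f).obj M, W) := t'
  refine (Groth.Agent.AssLib.isWeakAssPoint_iff hW hxW).mpr ⟨u, ((mem_minimalPrimes_iff (pr hW hxW) u).mp ?_).2⟩
  have e : (Submodule.span Γ(S, W) {u}).annihilator =
      (Submodule.span Γ(X, f ⁻¹ᵁ W) {t'}).annihilator.comap (algebraMap Γ(S, W) Γ(X, f ⁻¹ᵁ W)) := by
    ext a
    rw [Ideal.mem_comap, Submodule.mem_annihilator_span_singleton, Submodule.mem_annihilator_span_singleton]
    exact Iff.rfl
  rw [e, ← hc]
  exact ht'

/-- Let f : X → S be finite and F quasi-coherent on X. Then the weakly associated points of f_* F are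
precisely the images under f of the weakly associated points of F. -/
theorem result {X S : Scheme.{u}} (f : X ⟶ S) [IsFinite f] (F : X.Modules) (hF : Coh.IsQCoh F) :
    {s : S | Curv2.IsWeakAssPoint ((Coh.push f).obj F) s} = f.base '' {x : X | Curv2.IsWeakAssPoint F x} := by
  haveI := hF
  ext s
  refine ⟨fun hs => ?_, ?_⟩
  · obtain ⟨x, hx, hx'⟩ := Groth.Agent.AssLib.exists_isWeakAssPoint_of_push f F hs
    exact ⟨x, hx', hx⟩
  · rintro ⟨x, hx, rfl⟩
    exact isWeakAssPoint_push_finite f F hx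

end Groth.Agent.S1579
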