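import Groth.Statements.S15793
import Groth.Agent.WildQuotLib.RamOrigin
open Groth.Agent.WildQuotLib IsLocalRing

set_option autoImplicit false
universe u v w
open WildQuot

namespace Groth.Agent.S15793

/-- Let `A` be a complete regular local ring of Krull dimension at least `2` and prime characteristic
`p`, with maximal ideal `m`; let `k` be a field with a ring map `k → A` whose composite with `A →
A/m` is onto (a field of representatives); let `G` be a group of order `p` acting on `A` by ring
automorphisms that fix the image of `k`, ramified precisely at the origin: for every prime `P ≠ m`,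
the inertia subgroup of `P` (the elements of `G` fixing every element of `A` modulo `P`) is trivial.
Then no element of `m` outside `m ^ 2` is fixed by every element of `G`; in particular the action is
not linear in any regular system of parameters. -/
theorem result
    (p : ℕ) [Fact p.Prime] (A : Type u) [CommRing A] [IsRegularLocalRing A] [CharP A p]
    [IsAdicComplete (IsLocalRing.maximalIdeal A) A] (hdim : 2 ≤ ringKrullDim A)
    (k : Type v) [Field k] [Algebra k A]
    (hk : Function.Surjective (IsLocalRing.residue A ∘ algebraMap k A))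
    (G : Type w) [Group G] [Finite G] [MulSemiringAction G A] (hcard : Nat.card G = p)
    (hGk : ∀ (σ : G) (c : k), σ • algebraMap k A c = algebraMap k A c)
    (hram : ∀ P : Ideal A, P.IsPrime → P ≠ IsLocalRing.maximalIdeal A → P.inertia G = ⊥)
    (v : A) (hv : v ∈ IsLocalRing.maximalIdeal A) (hv2 : v ∉ IsLocalRing.maximalIdeal A ^ 2) :
    ∃ σ : G, σ • v ≠ v := by
  classical
  by_contra! hfix
  obtain ⟨γ, hγ1, -⟩ := exists_gen (G := G) hcard
  obtain ⟨d, hd'⟩ : ∃ d, d = (maximalIdeal A).spanFinrank := ⟨_, rfl⟩
  obtain ⟨y, i, hyi, hy⟩ := RegLocal.exists_generators_extending hv hv2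
  subst hd'
  have hd : ringKrullDim A = (maximalIdeal A).spanFinrank := ((isRegularLocalRing_iff A).1 inferInstance).symm
  let s : Finset (Fin (maximalIdeal A).spanFinrank) := Finset.univ.erase i
  let J : Ideal A := Ideal.span ((fun l => γ • y l - y l) '' s)
  have hJgen : ∀ l, γ • y l - y l ∈ J := fun l => by
    rcases eq_or_ne l i with hl | hl
    · rw [hl, hyi, hfix, sub_self]; exact J.zero_mem
    · exact Ideal.subset_span ⟨l, by simp [s, hl], rfl⟩
  have hJ : J ≠ ⊤ := fun h => (maximalIdeal.isMaximal A).ne_top (top_le_iff.1 (h ▸ Ideal.span_le.2 (by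
    rintro _ ⟨l, -, rfl⟩
    exact smul_sub_mem_maximalIdeal hk hGk γ (y l))))
  obtain ⟨P, hP⟩ := Ideal.nonempty_minimalPrimes hJ
  haveI : P.IsPrime := hP.1.1
  have hPm : P ≠ maximalIdeal A := by
    rintro rfl
    have h3 : (maximalIdeal A).height ≤ (s.card : ℕ∞) := by
      refine (Ideal.height_le_card_of_mem_minimalPrimes_span (Set.toFinite _) hP).trans (Nat.cast_le.2 ?_)
      exact (Set.ncard_image_le (Set.toFinite _)).trans (by simp)
    have h4 : ((maximalIdeal A).height : WithBot ℕ∞) = (maximalIdeal A).spanFinrank := IsLocalRing.maximalIdeal_height_eq_ringKrullDim.trans hd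
    have h5 : ((maximalIdeal A).spanFinrank : ℕ∞) ≤ (s.card : ℕ∞) := by
      have : ((maximalIdeal A).height : WithBot ℕ∞) = (((maximalIdeal A).spanFinrank : ℕ∞) : WithBot ℕ∞) := h4
      exact (WithBot.coe_inj.1 this) ▸ h3
    have h6 : (maximalIdeal A).spanFinrank ≤ s.card := by exact_mod_cast h5
    simp [s] at h6
    have := i.2
    omega
  have h := hram P inferInstance hPm
  have hγ : γ ∈ P.inertia G := fun a => hP.1.2 (smul_sub_mem_of_generators hk hGk y hy γ J hJgen a)
  rw [h, Subgroup.mem_bot] at hγ
  exact hγ1 hγ

end Groth.Agent.S15793
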