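import Groth.Statements.S15796
import Mathlib

set_option autoImplicit false
universe u v
open WildQuot

namespace Groth.Agent.S15796

/-- Let `A` be a Noetherian local ring of Krull dimension `n` whose maximal ideal `m` is generated by
`u_1, …, u_n`, and let a finite group `G` act on `A` by ring automorphisms. If some `σ ∈ G` maps
some `u_i` into the ideal generated by the `u_j` with `j ≠ i`, then the system `u` is not weakly
admissible: for some choice `σ_1, …, σ_n ∈ G` the radical of `(σ_1 u_1, …, σ_n u_n)` does not
contain `m`. (The published statement is for a linear action on `k[[u_1, …, u_n]]` whose matrix has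
a zero diagonal entry; this row assumes instead that some `σ u_i` lies in the ideal generated by the
other `u_j`.) -/
theorem result
    (A : Type u) [CommRing A] [IsLocalRing A] [IsNoetherianRing A]
    (G : Type v) [Group G] [Finite G] [MulSemiringAction G A]
    (n : ℕ) (hn : ringKrullDim A = n) (u : Fin n → A)
    (hu : Ideal.span (Set.range u) = IsLocalRing.maximalIdeal A)
    (σ : G) (i : Fin n) (hσ : σ • u i ∈ Ideal.span (u '' {j | j ≠ i})) :
    ∃ τ : Fin n → G,
      ¬ IsLocalRing.maximalIdeal A ≤ (Ideal.span (Set.range fun j => τ j • u j)).radical := by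
  classical
  refine ⟨fun j => if j = i then σ else 1, fun hle => ?_⟩
  set I := Ideal.span (u '' {j | j ≠ i})
  have hsub : Ideal.span (Set.range fun j => (if j = i then σ else 1) • u j) ≤ I := Ideal.span_le.2 (by
    rintro _ ⟨j, rfl⟩
    by_cases hj : j = i
    · subst hj; simpa using hσ
    · simp only [hj, if_false, one_smul]; exact Ideal.subset_span ⟨j, hj, rfl⟩)
  have hIm : I ≤ IsLocalRing.maximalIdeal A := hu ▸ Ideal.span_mono (Set.image_subset_range _ _)
  have hmin : IsLocalRing.maximalIdeal A ∈ I.minimalPrimes :=
    ⟨⟨inferInstance, hIm⟩, fun q ⟨hq, hqI⟩ _ => hle.trans (hq.radical_le_iff.2 (hsub.trans hqI))⟩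
  have h1 := Ideal.height_le_spanRank_toENat_of_mem_minimalPrimes _ _ hmin
  have h2 : I.spanRank.toENat ≤ ((n - 1 : ℕ) : ℕ∞) := by
    refine (OrderHomClass.mono Cardinal.toENat (Submodule.spanRank_span_le_card _)).trans ?_
    rw [← Finset.coe_filter_univ, ← Finset.coe_image]
    have hc : Cardinal.mk ((Finset.univ.filter fun j => j ≠ i).image u : Set A) =
        ((Finset.univ.filter fun j => j ≠ i).image u).card := Cardinal.mk_coe_finset
    rw [hc, Cardinal.toENat_nat]
    refine Nat.cast_le.2 (Finset.card_image_le.trans_eq ?_)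
    rw [Finset.filter_ne', Finset.card_erase_of_mem (Finset.mem_univ i), Finset.card_univ, Fintype.card_fin]
  have h4 : (n : ℕ∞) ≤ ((n - 1 : ℕ) : ℕ∞) := by
    have h5 := IsLocalRing.maximalIdeal_height_eq_ringKrullDim (R := A)
    rw [hn] at h5
    exact le_trans (le_of_eq (by exact_mod_cast h5.symm)) (h1.trans h2)
  have h6 : n ≤ n - 1 := by exact_mod_cast h4
  have := i.2
  omega

end Groth.Agent.S15796
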