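import Groth.Statements.S15799
import Groth.Agent.WildQuotLib.Split
open Groth.Agent.WildQuotLib IsLocalRing

set_option autoImplicit false
universe u v w
open WildQuot

namespace Groth.Agent.S15799

/-- Let `A` be a complete regular local ring of Krull dimension `n ≥ 2` and prime characteristic `p`,
`k` a field with `k → A` mapping onto the residue field, and `G` a group of order `p` acting on `A`
by `k`-algebra automorphisms, ramified precisely at the origin (for every non-maximal prime `P`, the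
inertia subgroup of `P` (the elements of `G` fixing every element modulo `P`) is trivial). Let `u_1,
…, u_n` be an admissible regular system of parameters (for every choice `σ_1, …, σ_n ∈ G`, the
elements `σ_i u_i` generate the maximal ideal) and let `φ : k[[X_1, …, X_n]] → A` be the `k`-algebra
map with `φ X_i = x_i = ∏_{σ} σ u_i`, whose image is the norm subring `R`. Then `Frac(A^G)` is not
purely inseparable over `Frac(R)`; equivalently (as `A` is integral over the integrally closed `R`),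
some `G`-invariant `y ∈ A` has no iterated `p`-th power `y ^ (p ^ e)` in `R`. -/
theorem result
    (p : ℕ) [Fact p.Prime] (A : Type u) [CommRing A] [IsRegularLocalRing A] [CharP A p]
    [IsAdicComplete (IsLocalRing.maximalIdeal A) A] (n : ℕ) (hn : ringKrullDim A = n) (h2 : 2 ≤ n)
    (k : Type v) [Field k] [Algebra k A]
    (hk : Function.Surjective (IsLocalRing.residue A ∘ algebraMap k A))
    (G : Type w) [Group G] [Fintype G] [MulSemiringAction G A] (hcard : Fintype.card G = p)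
    [SMulCommClass G k A]
    (hram : ∀ P : Ideal A, P.IsPrime → P ≠ IsLocalRing.maximalIdeal A → P.inertia G = ⊥)
    (u : Fin n → A)
    (hu : ∀ τ : Fin n → G,
      Ideal.span (Set.range fun i => τ i • u i) = IsLocalRing.maximalIdeal A)
    (φ : MvPowerSeries (Fin n) k →ₐ[k] A) (hφ : ∀ i, φ (MvPowerSeries.X i) = ∏ σ : G, σ • u i) :
    ∃ y : A, (∀ σ : G, σ • y = y) ∧ ∀ e : ℕ, y ^ p ^ e ∉ Set.range φ := by
  classical
  by_contra! hcon
  haveI := RegLocal.isDomain A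
  have hp := (Fact.out : p.Prime)
  have hGk : ∀ (σ : G) (c : k), σ • algebraMap k A c = algebraMap k A c := fun σ c => smul_algebraMap σ c
  haveI : CharP k p := (algebraMap k A).charP (RingHom.injective _) p
  obtain ⟨γ, hγ, -⟩ := exists_gen (G := G) (p := p) (by rwa [Nat.card_eq_fintype_card])
  -- the parameters
  have hum : ∀ i, u i ∈ maximalIdeal A := fun i => hu (fun _ => 1) ▸ Ideal.subset_span ⟨i, one_smul G _⟩
  have hxm : ∀ i, φ (MvPowerSeries.X i) ∈ maximalIdeal A := fun i => by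
    rw [hφ]; exact Ideal.prod_mem _ (Finset.mem_univ (1 : G)) (by rw [one_smul]; exact hum i)
  have hxfix : ∀ i (σ : G), σ • φ (MvPowerSeries.X i) = φ (MvPowerSeries.X i) := fun i σ => by
    rw [hφ, Finset.smul_prod']
    simp only [← mul_smul]
    exact Fintype.prod_bijective (σ * ·) (Group.mulLeft_bijective σ) _ _ fun _ => rfl
  have hrad : ∀ E : Fin n → ℕ, (∀ i, 0 < E i) →
      (Ideal.span (Set.range fun i => φ (MvPowerSeries.X i) ^ E i)).radical = maximalIdeal A := by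
    intro E hE
    refine le_antisymm ?_ ?_
    · rw [← (maximalIdeal.isMaximal A).isPrime.radical]
      exact Ideal.radical_mono (Ideal.span_le.2 (by
        rintro _ ⟨i, rfl⟩; exact Ideal.pow_mem_of_mem _ (hxm i) _ (hE i)))
    · rw [Ideal.radical_eq_sInf]
      refine le_sInf ?_
      rintro P ⟨hQP, hP⟩
      have h1 : ∀ i, ∏ σ : G, σ • u i ∈ P := fun i => hφ i ▸ hP.mem_of_pow_mem _ (hQP (Ideal.subset_span ⟨i, rfl⟩))
      choose τ hτ using fun i => hP.prod_mem_iff.1 (h1 i)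
      rw [← hu τ, Ideal.span_le]
      rintro _ ⟨i, rfl⟩
      exact (hτ i).2
  obtain ⟨d, b, -, hb⟩ := exists_basis_ps hn hk (fun i => φ (MvPowerSeries.X i))
    (by simpa using hrad (fun _ => 1) (fun _ => one_pos)) φ (fun _ => rfl)
  have hinj : Function.Injective φ := by
    intro r r' h
    have hd : 0 < d := by
      rcases Nat.eq_zero_or_pos d with rfl | hd
      · obtain ⟨c, hc⟩ := hb.2 1; simp at hc
      · exact hd
    exact congrFun (hb.1 (a₁ := fun _ => r) (a₂ := fun _ => r') (by simp [h])) ⟨0, hd⟩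
  set i₀ : Fin n := ⟨0, by omega⟩ with hi₀
  set i₁ : Fin n := ⟨1, by omega⟩ with hi₁
  obtain ⟨N₁, w₁, hN₁, hw₁⟩ := exists_translate_pow hk hGk hcard hram hγ (hxm i₀) (hxfix i₀)
  obtain ⟨N₂, w₂, hN₂, hw₂⟩ := exists_translate_pow hk hGk hcard hram hγ (hxm i₁) (hxfix i₁)
  set s₁ := φ (MvPowerSeries.X i₀) ^ N₁ with hs₁
  set s₂ := φ (MvPowerSeries.X i₁) ^ N₂ with hs₂
  have hs₁f : γ • s₁ = s₁ := by rw [hs₁, smul_pow', hxfix]
  have hs₂f : γ • s₂ = s₂ := by rw [hs₂, smul_pow', hxfix]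
  -- pick an exponent
  obtain ⟨eD, hD⟩ := hcon (w₁ * s₂ - w₂ * s₁) (fixed_of_gen hcard hγ (by
    rw [smul_sub, smul_mul', smul_mul', hs₁f, hs₂f, hw₁, hw₂]; ring))
  obtain ⟨e₁, he₁⟩ := hcon (w₁ ^ p - w₁ * s₁ ^ (p - 1)) (fixed_of_gen hcard hγ (smul_as hs₁f hw₁))
  obtain ⟨e₂, he₂⟩ := hcon (w₂ ^ p - w₂ * s₂ ^ (p - 1)) (fixed_of_gen hcard hγ (smul_as hs₂f hw₂))
  have hup : ∀ (y : A) (e e' : ℕ), e ≤ e' → y ^ p ^ e ∈ Set.range φ → y ^ p ^ e' ∈ Set.range φ := by
    rintro y e e' hle ⟨r, hr⟩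
    obtain ⟨j, rfl⟩ := Nat.exists_eq_add_of_le hle
    exact ⟨r ^ p ^ j, by rw [map_pow, hr, ← pow_mul, ← pow_add]⟩
  set e := eD + e₁ + e₂ with he
  obtain ⟨g, hg⟩ := hup _ eD e (by omega) hD
  obtain ⟨h₁, hh₁⟩ := hup _ e₁ e (by omega) he₁
  obtain ⟨h₂, hh₂⟩ := hup _ e₂ e (by omega) he₂
  set q := p ^ e with hq
  have hq0 : 0 < q := pow_pos hp.pos e
  simp only [sub_pow_char_pow, mul_pow, hq] at hg hh₁ hh₂
  rw [← hq] at hg hh₁ hh₂
  set t₁ : MvPowerSeries (Fin n) k := MvPowerSeries.X i₀ ^ (N₁ * q) with ht₁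
  set t₂ : MvPowerSeries (Fin n) k := MvPowerSeries.X i₁ ^ (N₂ * q) with ht₂
  have hT₁ : φ t₁ = s₁ ^ q := by rw [ht₁, hs₁, map_pow, pow_mul]
  have hT₂ : φ t₂ = s₂ ^ q := by rw [ht₂, hs₂, map_pow, pow_mul]
  have ht₁0 : t₁ ≠ 0 := by
    refine pow_ne_zero _ fun h => ?_
    have := congrArg (MvPowerSeries.coeff (Finsupp.single i₀ 1)) h
    rw [MvPowerSeries.coeff_X, if_pos rfl, map_zero] at this
    exact one_ne_zero this
  obtain ⟨m, hm⟩ : ∃ m, p = m + 1 := ⟨p - 1, by have := hp.one_lt; omega⟩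
  have key : g ^ p - g * (t₁ * t₂) ^ (p - 1) = -h₂ * t₁ ^ p + h₁ * t₂ ^ p := by
    refine hinj ?_
    have e1 : ((w₁ * s₂ - w₂ * s₁) ^ q) = w₁ ^ q * s₂ ^ q - w₂ ^ q * s₁ ^ q := by
      rw [hq, sub_pow_char_pow, mul_pow, mul_pow]
    simp only [map_sub, map_add, map_mul, map_pow, map_neg, hg, hh₁, hh₂, hT₁, hT₂]
    rw [sub_pow_char, mul_pow, mul_pow]
    rw [← pow_mul (s₁) (p - 1), mul_comm (p - 1) q, pow_mul, ← pow_mul (s₂) (p - 1), mul_comm (p - 1) q, pow_mul,
      ← pow_mul w₁ p q, mul_comm p q, pow_mul w₁, ← pow_mul w₂ p q, mul_comm p q, pow_mul w₂, hm, Nat.add_sub_cancel]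
    ring
  obtain ⟨α, β, hαβ⟩ := mem_span_pair_of_frob t₁ t₂ g (-h₂) h₁ ht₁0 key
  have hD' : w₁ ^ q * s₂ ^ q - w₂ ^ q * s₁ ^ q = φ α * s₁ ^ q + φ β * s₂ ^ q := by
    rw [← hg, hαβ, map_add, map_mul, map_mul, hT₁, hT₂]
  -- regularity
  let E : Fin n → ℕ := fun i => if i = i₀ then N₁ * q else if i = i₁ then N₂ * q else 1
  have hE : ∀ i, 0 < E i := fun i => by simp only [E]; split_ifs <;> positivity
  have hi01 : i₁ ≠ i₀ := by simp [hi₀, hi₁, Fin.ext_iff]
  have hset : {l : Fin n | l < i₁} = {i₀} := by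
    ext l; simp [hi₀, hi₁, Fin.lt_def, Fin.ext_iff]
  have hreg := prefix_regular hn (fun i => φ (MvPowerSeries.X i) ^ E i) (hrad E hE) i₁
    (a := w₁ ^ q - φ β)
  simp only [hset, Set.image_singleton, E, if_neg hi01, if_pos, Ideal.mem_span_singleton'] at hreg
  rw [pow_mul, pow_mul, ← hs₁, ← hs₂] at hreg
  obtain ⟨Z, hZ⟩ := hreg ⟨w₂ ^ q + φ α, by linear_combination -hD'⟩
  have hs10 : s₁ ^ q ≠ 0 := by
    rw [← hT₁]; exact fun h => ht₁0 (hinj (h.trans (map_zero φ).symm))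
  have hβ : γ • φ β = φ β := by
    let S : A →ₐ[k] A := { MulSemiringAction.toRingHom G A γ with commutes' := fun c => hGk γ c }
    exact DFunLike.congr_fun (psHom_ext (g := S.comp φ) (g' := φ) (maximalIdeal A)
      (fun i => by show γ • φ _ ∈ _; rw [hxfix]; exact hxm i) (fun i => hxfix i γ)) β
  have hγZ := congrArg (γ • ·) hZ
  simp only [smul_mul', smul_sub, smul_pow', hβ, hs₁f, hw₁] at hγZ
  rw [show (w₁ - s₁) ^ q = w₁ ^ q - s₁ ^ q by rw [hq, sub_pow_char_pow]] at hγZ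
  have h1 : γ • Z - Z + 1 = 0 := by
    refine (mul_eq_zero.1 (?_ : (γ • Z - Z + 1) * s₁ ^ q = 0)).resolve_right hs10
    linear_combination hγZ - hZ
  have h2 := smul_sub_mem_maximalIdeal hk hGk γ Z
  rw [eq_neg_of_add_eq_zero_left h1, neg_mem_iff] at h2
  exact (maximalIdeal.isMaximal A).ne_top ((Ideal.eq_top_iff_one _).2 h2)

end Groth.Agent.S15799
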