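import Groth.Statements.S15802
import Groth.Agent.PurityLib.InertiaGen

set_option autoImplicit false
universe u v w
open WildQuot

namespace Groth.Agent.S15802

/-- Let `R` be a regular local ring and `A` a normal local domain, finite over `R` (with `R → A`
injective) and with the same residue field; let a finite group `H` act faithfully on `A` by
`R`-algebra automorphisms with ring of invariants exactly `R` (so `Frac(A)/Frac(R)` is Galois with
group `H`). Then `H` is generated by the inertia subgroups of the height-one prime ideals `P` of `A`
(the elements acting trivially on `A/P`). (The published statement is for `A` a complete regular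
local ring with an action ramified precisely at the origin, `R = k[[x_1, …, x_n]]` a norm subring
and `H` the Galois group of `Frac(A)/Frac(R)`, when that extension is Galois; this row assumes only
the hypotheses listed above.) -/
theorem result
    (R : Type u) [CommRing R] [IsRegularLocalRing R]
    (A : Type v) [CommRing A] [IsDomain A] [IsIntegrallyClosed A] [IsLocalRing A]
    [Algebra R A] [Module.Finite R A] (hinj : Function.Injective (algebraMap R A))
    (hres : Function.Surjective (IsLocalRing.residue A ∘ algebraMap R A))
    (H : Type w) [Group H] [Finite H] [MulSemiringAction H A] [SMulCommClass H R A] [FaithfulSMul H A]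
    (hfix : ∀ a : A, (∀ h : H, h • a = a) → a ∈ Set.range (algebraMap R A)) :
    (⨆ P : {P : Ideal A // P.IsPrime ∧ P.height = 1}, P.1.inertia H) = ⊤ := by
  let R' := (algebraMap R A).range
  let e : R ≃+* R' := RingEquiv.ofBijective (algebraMap R A).rangeRestrict
    ⟨fun x y h => hinj (congrArg Subtype.val h), (algebraMap R A).rangeRestrict_surjective⟩
  haveI : IsRegularLocalRing R' := IsRegularLocalRing.of_ringEquiv e
  letI : Algebra R R' := (algebraMap R A).rangeRestrict.toAlgebra
  haveI : IsScalarTower R R' A := IsScalarTower.of_algebraMap_eq fun _ => rfl
  haveI : Module.Finite R' A := Module.Finite.of_restrictScalars_finite R R' A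
  haveI : SMulCommClass H R' A := ⟨fun h r a => by
    obtain ⟨_, x, rfl⟩ := r
    show h • (algebraMap R A x * a) = algebraMap R A x * h • a
    rw [← Algebra.smul_def, ← Algebra.smul_def, smul_comm]⟩
  refine Groth.Agent.PurityLib.iSup_inertia_eq_top (R := R') (fun y => ?_) fun a ha => ?_
  · obtain ⟨r, hr⟩ := hres y
    exact ⟨⟨algebraMap R A r, r, rfl⟩, hr⟩
  · obtain ⟨r, hr⟩ := hfix a ha
    exact ⟨⟨algebraMap R A r, r, rfl⟩, hr⟩

end Groth.Agent.S15802
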