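import Groth.Statements.S15803
import Groth.Agent.S15802

set_option autoImplicit false
universe u v w
open WildQuot

namespace Groth.Agent.S15803

/-- Let `R` be a regular local ring and `A` a normal local domain, finite over `R` (with `R → A`
injective) and with the same residue field; let a finite group `H` act faithfully on `A` by
`R`-algebra automorphisms with ring of invariants exactly `R` (so `Frac(A)/Frac(R)` is Galois with
group `H`); let `p` be a prime and suppose that every nontrivial inertia subgroup of a height-one
prime of `A` has order `p` and is normal in `H`. Then `H` is commutative and every element satisfies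
`h ^ p = 1`: `H` is an elementary abelian `p`-group (of order the degree of `Frac(A)` over
`Frac(R)`). (The published statement is for `A` a complete regular local ring with an action
ramified precisely at the origin, `R = k[[x_1, …, x_n]]` a norm subring and `H` the Galois group of
`Frac(A)/Frac(R)`, when that extension is Galois; this row assumes only the hypotheses listed
above.) -/
theorem result
    (p : ℕ) [Fact p.Prime] (R : Type u) [CommRing R] [IsRegularLocalRing R]
    (A : Type v) [CommRing A] [IsDomain A] [IsIntegrallyClosed A] [IsLocalRing A]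
    [Algebra R A] [Module.Finite R A] (hinj : Function.Injective (algebraMap R A))
    (hres : Function.Surjective (IsLocalRing.residue A ∘ algebraMap R A))
    (H : Type w) [Group H] [Finite H] [MulSemiringAction H A] [SMulCommClass H R A] [FaithfulSMul H A]
    (hfix : ∀ a : A, (∀ h : H, h • a = a) → a ∈ Set.range (algebraMap R A))
    (hMR2 : ∀ P : Ideal A, P.IsPrime → P.height = 1 → P.inertia H ≠ ⊥ →
      Nat.card (P.inertia H) = p ∧ (P.inertia H).Normal) :
    (∀ g h : H, g * h = h * g) ∧ ∀ h : H, h ^ p = 1 := by
  have hgen := Groth.Agent.S15802.result R A hinj hres H hfix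
  let X : Set H := {h | ∃ P : Ideal A, P.IsPrime ∧ P.height = 1 ∧ h ∈ P.inertia H}
  have hclos : Subgroup.closure X = ⊤ := by
    rw [eq_top_iff, ← hgen]
    exact iSup_le fun P h hh => Subgroup.subset_closure ⟨P.1, P.2.1, P.2.2, hh⟩
  have hcomm : ∀ x ∈ X, ∀ y ∈ X, x * y = y * x := by
    rintro x ⟨P, hP, hP1, hx⟩ y ⟨Q, hQ, hQ1, hy⟩
    by_cases hxb : P.inertia H = ⊥
    · rw [hxb, Subgroup.mem_bot] at hx; rw [hx, one_mul, mul_one]
    by_cases hyb : Q.inertia H = ⊥
    · rw [hyb, Subgroup.mem_bot] at hy; rw [hy, one_mul, mul_one]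
    obtain ⟨hcP, hnP⟩ := hMR2 P hP hP1 hxb
    obtain ⟨hcQ, hnQ⟩ := hMR2 Q hQ hQ1 hyb
    haveI : Fact (Nat.card (P.inertia H)).Prime := ⟨by rw [hcP]; exact Fact.out⟩
    by_cases hd : P.inertia H ⊓ Q.inertia H = ⊥
    · exact Subgroup.commute_of_normal_of_disjoint _ _ hnP hnQ (disjoint_iff.2 hd) x y hx hy
    · have hle : P.inertia H ≤ Q.inertia H := by
        rcases Subgroup.eq_bot_or_eq_top_of_prime_card ((Q.inertia H).subgroupOf (P.inertia H)) with h | h
        · exact absurd (by rw [Subgroup.subgroupOf_eq_bot, disjoint_comm, disjoint_iff] at h; exact h) hd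
        · exact Subgroup.subgroupOf_eq_top.1 h
      haveI : IsCyclic (Q.inertia H) := isCyclic_of_prime_card (p := p) hcQ
      letI := IsCyclic.commGroup (α := Q.inertia H)
      exact congrArg Subtype.val (mul_comm (⟨x, hle hx⟩ : Q.inertia H) ⟨y, hy⟩)
  have hall : ∀ g h : H, g * h = h * g := by
    intro g h
    letI := Subgroup.closureCommGroupOfComm hcomm
    exact congrArg Subtype.val (mul_comm (⟨g, hclos ▸ Subgroup.mem_top g⟩ : Subgroup.closure X)
      ⟨h, hclos ▸ Subgroup.mem_top h⟩)
  refine ⟨hall, fun h => ?_⟩
  have hh : h ∈ Subgroup.closure X := hclos ▸ Subgroup.mem_top h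
  induction hh using Subgroup.closure_induction with
  | mem x hx =>
    obtain ⟨P, hP, hP1, hx⟩ := hx
    by_cases hxb : P.inertia H = ⊥
    · rw [hxb, Subgroup.mem_bot] at hx; rw [hx, one_pow]
    have h1 := pow_card_eq_one' (G := P.inertia H) (x := ⟨x, hx⟩)
    rw [(hMR2 P hP hP1 hxb).1] at h1
    exact congrArg Subtype.val h1
  | one => exact one_pow p
  | mul x y _ _ hx hy =>
    rw [(show Commute x y from hall x y).mul_pow, hx, hy, one_mul]
  | inv x _ hx => rw [inv_pow, hx, inv_one]

end Groth.Agent.S15803
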