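import Groth.Statements.S15804
import Groth.Agent.S15802

set_option autoImplicit false
universe u v w
open WildQuot

namespace Groth.Agent.S15804

/-- Let `R` be a regular local ring and `A` a normal local domain, finite over `R` (with `R → A`
injective) and with the same residue field; let a finite group `H` act faithfully on `A` by
`R`-algebra automorphisms with ring of invariants exactly `R` (so `Frac(A)/Frac(R)` is Galois with
group `H`); assume `A` has Krull dimension `2`, `H` has order `p ^ 2` for a prime `p`, and `Γ ≤ H`
is a subgroup of order `p` whose intersection with the inertia subgroup of every non-maximal prime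
of `A` is trivial (the action of `Γ` is ramified precisely at the origin). Then every nontrivial
inertia subgroup of a height-one prime of `A` has order `p`, and `H` is commutative with every
element satisfying `h ^ p = 1`, i.e. elementary abelian of order `p ^ 2`. (The published statement
is for `A` a complete regular local ring with an action ramified precisely at the origin, `R =
k[[x_1, …, x_n]]` a norm subring and `H` the Galois group of `Frac(A)/Frac(R)`, when that extension
is Galois; this row assumes only the hypotheses listed above.) -/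
theorem result
    (p : ℕ) [Fact p.Prime] (R : Type u) [CommRing R] [IsRegularLocalRing R]
    (A : Type v) [CommRing A] [IsDomain A] [IsIntegrallyClosed A] [IsLocalRing A]
    [Algebra R A] [Module.Finite R A] (hinj : Function.Injective (algebraMap R A))
    (hres : Function.Surjective (IsLocalRing.residue A ∘ algebraMap R A))
    (H : Type w) [Group H] [Finite H] [MulSemiringAction H A] [SMulCommClass H R A] [FaithfulSMul H A]
    (hfix : ∀ a : A, (∀ h : H, h • a = a) → a ∈ Set.range (algebraMap R A))
    (hdim : ringKrullDim A = 2) (hcard : Nat.card H = p ^ 2)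
    (Γ : Subgroup H) (hΓ : Nat.card Γ = p)
    (hram : ∀ P : Ideal A, P.IsPrime → P ≠ IsLocalRing.maximalIdeal A → P.inertia H ⊓ Γ = ⊥) :
    (∀ P : Ideal A, P.IsPrime → P.height = 1 → P.inertia H ≠ ⊥ → Nat.card (P.inertia H) = p) ∧
      (∀ g h : H, g * h = h * g) ∧ ∀ h : H, h ^ p = 1 := by
  have hgen := Groth.Agent.S15802.result R A hinj hres H hfix
  haveI : IsNoetherianRing A := IsNoetherianRing.of_finite R A
  have hp : p.Prime := Fact.out
  have hne : ∀ P : Ideal A, P.height = 1 → P ≠ IsLocalRing.maximalIdeal A := fun P hP he => by
    have h := IsLocalRing.maximalIdeal_height_eq_ringKrullDim (R := A)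
    rw [← he, hP, hdim] at h
    exact absurd h (by decide)
  have hΓne : Γ ≠ ⊥ := fun h => by
    rw [h, Subgroup.card_bot] at hΓ
    exact hp.ne_one hΓ.symm
  have hfirst : ∀ P : Ideal A, P.IsPrime → P.height = 1 → P.inertia H ≠ ⊥ → Nat.card (P.inertia H) = p := by
    intro P hP hP1 hI
    have hdvd : Nat.card (P.inertia H) ∣ p ^ 2 := hcard ▸ Subgroup.card_subgroup_dvd_card _
    obtain ⟨k, hk, hk'⟩ := (Nat.dvd_prime_pow hp).1 hdvd
    interval_cases k
    · exact absurd (Subgroup.card_eq_one.1 (by simpa using hk')) hI
    · simpa using hk'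
    · have htop : P.inertia H = ⊤ := Subgroup.eq_top_of_card_eq _ (hk'.trans hcard.symm)
      have h0 := hram P hP (hne P hP1)
      rw [htop, top_inf_eq] at h0
      exact absurd h0 hΓne
  have hcomm : ∀ g h : H, g * h = h * g := by
    letI := IsPGroup.commGroupOfCardEqPrimeSq hcard
    exact fun g h => mul_comm g h
  refine ⟨hfirst, hcomm, fun h => ?_⟩
  by_contra hh
  have hord : orderOf h = p ^ 2 := by
    obtain ⟨k, hk, hk'⟩ := (Nat.dvd_prime_pow hp).1 (hcard ▸ orderOf_dvd_natCard h)
    interval_cases k
    · exact (hh (by rw [(orderOf_eq_one_iff (x := h)).1 (by simpa using hk'), one_pow])).elim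
    · exact (hh (by rw [← orderOf_dvd_iff_pow_eq_one, hk', pow_one])).elim
    · exact hk'
  haveI : IsCyclic H := isCyclic_of_orderOf_eq_card h (hord.trans hcard.symm)
  letI := IsCyclic.commGroup (α := H)
  classical
  haveI := Fintype.ofFinite H
  have huniq : ∀ K : Subgroup H, Nat.card K = p → K = Γ := fun K hK => by
    refine (IsCyclic.card_pow_eq_one_le (α := H) hp.pos) |> fun hle => ?_
    classical
    have key : ∀ K : Subgroup H, Nat.card K = p → (K : Set H).toFinset = Finset.univ.filter fun a : H => a ^ p = 1 := by
      intro K hK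
      refine Finset.eq_of_subset_of_card_le (fun a ha => ?_) ?_
      · rw [Set.mem_toFinset] at ha
        rw [Finset.mem_filter]
        have h1 := pow_card_eq_one' (G := K) (x := ⟨a, ha⟩)
        rw [hK] at h1
        exact ⟨Finset.mem_univ a, congrArg Subtype.val h1⟩
      · rw [Set.toFinset_card, ← Nat.card_eq_fintype_card]
        exact le_of_le_of_eq hle hK.symm
    exact SetLike.coe_injective (Set.toFinset_inj.1 ((key K hK).trans (key Γ hΓ).symm))
  have hall : ∀ P : {P : Ideal A // P.IsPrime ∧ P.height = 1}, P.1.inertia H = ⊥ := fun P => by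
    by_contra hI
    have h0 := hram P.1 P.2.1 (hne P.1 P.2.2)
    rw [huniq _ (hfirst P.1 P.2.1 P.2.2 hI), inf_idem] at h0
    exact hΓne h0
  rw [iSup_congr hall, iSup_bot] at hgen
  exact hΓne (le_bot_iff.1 (hgen ▸ le_top))

end Groth.Agent.S15804
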