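import Groth.Statements.S15805
import Groth.Agent.WildQuotLib.Family2
import Mathlib.Algebra.SkewMonoidAlgebra.Basic
open Groth.Agent.WildQuotLib

set_option autoImplicit false
universe u v
open WildQuot

namespace Groth.Agent.S15805

theorem skew_symmetric {R : Type u} {A : Type u} [CommRing R] [CommRing A] [Algebra R A] {G : Type v} [Group G] [Finite G]
    [MulSemiringAction G A] [SMulCommClass G R A] (τ : A →ₗ[R] R) (hτ : ∀ (g : G) y, τ (g • y) = τ y)
    (hinj : ∀ y, (∀ x, τ (x * y) = 0) → y = 0) (hsurj : ∀ l : A →ₗ[R] R, ∃ y, ∀ x, l x = τ (x * y)) :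
    ∃ φ : SkewMonoidAlgebra A G →ₗ[R] R,
        (∀ x y : SkewMonoidAlgebra A G, φ (x * y) = φ (y * x)) ∧
        Function.Injective (fun y : SkewMonoidAlgebra A G => fun x : SkewMonoidAlgebra A G => φ (x * y)) ∧
        ∀ ψ : SkewMonoidAlgebra A G →ₗ[R] R, ∃ y : SkewMonoidAlgebra A G, ∀ x, ψ x = φ (x * y) := by
  classical
  let φ : SkewMonoidAlgebra A G →ₗ[R] R :=
    { toFun := fun x => τ (x.coeff 1)
      map_add' := fun x y => by rw [SkewMonoidAlgebra.coeff_add, Finsupp.add_apply, map_add]
      map_smul' := fun r x => by rw [SkewMonoidAlgebra.coeff_smul, Finsupp.smul_apply, map_smul, RingHom.id_apply] }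
  have hφs : ∀ (g h : G) (a b : A), φ (SkewMonoidAlgebra.single g a * SkewMonoidAlgebra.single h b) =
      if g * h = 1 then τ (a * g • b) else 0 := by
    intro g h a b
    rw [SkewMonoidAlgebra.mul_def, SkewMonoidAlgebra.sum_single_index (by simp),
      SkewMonoidAlgebra.sum_single_index (by simp)]
    show τ ((SkewMonoidAlgebra.single (g * h) (a * g • b)).coeff 1) = _
    rw [SkewMonoidAlgebra.coeff_single_apply]
    split_ifs <;> simp
  -- pairing with a monomial
  have hpair : ∀ (h : G) (a : A) (y : SkewMonoidAlgebra A G),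
      φ (SkewMonoidAlgebra.single h a * y) = τ (a * h • y.coeff h⁻¹) := by
    intro h a y
    induction y with
    | single g b =>
      rw [hφs, SkewMonoidAlgebra.coeff_single_apply]
      by_cases hg : g = h⁻¹
      · rw [if_pos (by rw [hg, mul_inv_cancel]), if_pos hg]
      · rw [if_neg (fun h' => hg (eq_inv_of_mul_eq_one_right h')), if_neg hg, smul_zero, mul_zero, map_zero]
    | add y y' hy hy' =>
      rw [mul_add, map_add, hy, hy', SkewMonoidAlgebra.coeff_add, Finsupp.add_apply, smul_add, mul_add, map_add]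
  refine ⟨φ, ?_, ?_, ?_⟩
  · intro x y
    induction x with
    | single g a =>
      induction y with
      | single h b =>
        rw [hφs, hφs]
        by_cases hgh : g * h = 1
        · obtain rfl : h = g⁻¹ := eq_inv_of_mul_eq_one_right hgh
          rw [if_pos hgh, if_pos (inv_mul_cancel g), ← hτ g (b * g⁻¹ • a), smul_mul', smul_inv_smul, mul_comm]
        · rw [if_neg hgh, if_neg (fun h' => hgh (by rw [eq_inv_of_mul_eq_one_left h', mul_inv_cancel]))]
      | add y y' hy hy' => rw [mul_add, add_mul, map_add, map_add, hy, hy']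
    | add x x' hx hx' => rw [mul_add, add_mul, map_add, map_add, hx, hx']
  · intro y y' h
    refine SkewMonoidAlgebra.ext fun g => sub_eq_zero.1 ?_
    have h2 : g⁻¹ • (y.coeff g - y'.coeff g) = 0 := hinj _ fun x => by
      have := congrFun h (SkewMonoidAlgebra.single g⁻¹ x)
      simp only [hpair, inv_inv] at this
      rw [smul_sub, mul_sub, map_sub, this, sub_self]
    exact (smul_eq_zero_iff_eq g⁻¹).1 h2
  · intro ψ
    let L : G → (A →ₗ[R] R) := fun h =>
      { toFun := fun a => ψ (SkewMonoidAlgebra.single h a)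
        map_add' := fun a b => by rw [SkewMonoidAlgebra.single_add, map_add]
        map_smul' := fun r a => by rw [← SkewMonoidAlgebra.smul_single, map_smul, RingHom.id_apply] }
    choose z hz using fun h => hsurj (L h)
    haveI := Fintype.ofFinite G
    refine ⟨∑ h : G, SkewMonoidAlgebra.single h⁻¹ (h⁻¹ • z h), fun x => ?_⟩
    have hcoeff : ∀ h : G, (∑ h' : G, SkewMonoidAlgebra.single h'⁻¹ (h'⁻¹ • z h')).coeff h⁻¹ = h⁻¹ • z h := by
      intro h
      rw [show (∑ h' : G, SkewMonoidAlgebra.single h'⁻¹ (h'⁻¹ • z h')).coeff = ∑ h' : G, (SkewMonoidAlgebra.single h'⁻¹ (h'⁻¹ • z h')).coeff from map_sum SkewMonoidAlgebra.coeffAddEquiv _ _, Finsupp.finsetSum_apply, Finset.sum_eq_single h]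
      · simp
      · intro h' _ hne; simp [SkewMonoidAlgebra.coeff_single_apply, hne]
      · simp
    induction x with
    | single h a => rw [hpair, hcoeff, smul_inv_smul]; exact hz h a
    | add x x' hx hx' => rw [map_add, add_mul, map_add, hx, hx']

section Top

variable {R : Type u} [CommRing R] [Nontrivial R] {n p : ℕ} [hp : Fact p.Prime] (a d : Fin n → R)

theorem repr_prod (b : Module.Basis (Fin n → Fin p) R (ASRing p a d))
    (hb : ∀ e, b e = ∏ i, gen (asPoly p a d) i ^ (e i : ℕ))
    (g : Fin n → Polynomial R) (e : Fin n → Fin p) :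
    b.repr (∏ i, Polynomial.aeval (gen (asPoly p a d) i) (g i)) e = ∏ i, (g i %ₘ asPoly p a d i).coeff (e i : ℕ) := by
  classical
  have hm : ∀ i, Polynomial.aeval (gen (asPoly p a d) i) (g i) =
      ∑ l : Fin p, (g i %ₘ asPoly p a d i).coeff (l : ℕ) • gen (asPoly p a d) i ^ (l : ℕ) := by
    intro i
    have hdeg : (g i %ₘ asPoly p a d i).natDegree < p := by
      have h := natDegree_asPoly hp.out a d i
      conv_rhs => rw [← h]
      exact Polynomial.natDegree_modByMonic_lt _ (monic_asPoly hp.out a d i)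
        (fun h' => by rw [h', Polynomial.natDegree_one] at h; exact hp.out.ne_zero h.symm)
    rw [Fin.sum_univ_eq_sum_range (fun l => (g i %ₘ asPoly p a d i).coeff l • gen (asPoly p a d) i ^ l) p,
      ← Polynomial.aeval_eq_sum_range' hdeg]
    conv_lhs => rw [← Polynomial.modByMonic_add_div (g i) (asPoly p a d i)]
    simp [aeval_gen]
  simp only [hm]
  rw [Finset.prod_univ_sum, map_sum, Finsupp.finsetSum_apply, Finset.sum_eq_single e]
  · rw [Finset.prod_smul, ← hb, map_smul, b.repr_self]; simp
  · intro f _ hf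
    rw [Finset.prod_smul, ← hb, map_smul, b.repr_self]; simp [hf]
  · simp

theorem coeff_modByMonic_of_lt (i : Fin n) (g : Polynomial R) (hg : g.natDegree < p) :
    g %ₘ asPoly p a d i = g := by
  refine (Polynomial.modByMonic_eq_self_iff (monic_asPoly hp.out a d i)).2 ?_
  rw [Polynomial.degree_eq_natDegree (monic_asPoly hp.out a d i).ne_zero, natDegree_asPoly hp.out]
  exact lt_of_le_of_lt Polynomial.degree_le_natDegree (by exact_mod_cast hg)

theorem exists_form : ∃ τ : ASRing p a d →ₗ[R] R,
    (∀ φ : ASRing p a d →ₐ[R] ASRing p a d,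
      (∀ i, φ (gen (asPoly p a d) i) = gen (asPoly p a d) i + algebraMap R _ (a i)) → ∀ y, τ (φ y) = τ y) ∧
    (∀ y, (∀ x, τ (x * y) = 0) → y = 0) ∧ (∀ l : ASRing p a d →ₗ[R] R, ∃ y, ∀ x, l x = τ (x * y)) := by
  classical
  obtain ⟨b, hb⟩ := exists_basis_AS (p := p) a d
  have hp1 : p - 1 < p := Nat.sub_lt hp.out.pos one_pos
  let top : Fin n → Fin p := fun _ => ⟨p - 1, hp1⟩
  let τ : ASRing p a d →ₗ[R] R := b.coord top
  have hτ : ∀ g : Fin n → Polynomial R, τ (∏ i, Polynomial.aeval (gen (asPoly p a d) i) (g i)) =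
      ∏ i, (g i %ₘ asPoly p a d i).coeff (p - 1) := fun g => repr_prod a d b hb g top
  have hmon : ∀ m : Fin n → ℕ, τ (∏ i, gen (asPoly p a d) i ^ m i) =
      ∏ i, (Polynomial.X ^ m i %ₘ asPoly p a d i).coeff (p - 1) := fun m => by
    rw [← hτ]; simp
  have hsurj : ∀ (N : ℕ) (e : Fin n → Fin p), (∑ i, (p - 1 - (e i : ℕ))) = N → ∃ y, ∀ x, b.coord e x = τ (x * y) := by
    intro N
    induction N using Nat.strong_induction_on with
    | _ N ih =>
      intro e he
      let y₀ : ASRing p a d := ∏ i, gen (asPoly p a d) i ^ (p - 1 - (e i : ℕ))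
      let r : (Fin n → Fin p) → R := fun f => τ (b f * y₀)
      have hr : ∀ f, r f = ∏ i, (Polynomial.X ^ ((f i : ℕ) + (p - 1 - (e i : ℕ))) %ₘ asPoly p a d i).coeff (p - 1) := by
        intro f
        rw [← hmon]
        show τ (b f * y₀) = _
        rw [hb, ← Finset.prod_mul_distrib]
        simp only [← pow_add]
      have hre : r e = 1 := by
        rw [hr]
        refine Finset.prod_eq_one fun i _ => ?_
        rw [show (e i : ℕ) + (p - 1 - (e i : ℕ)) = p - 1 by have := (e i).2; omega,
          coeff_modByMonic_of_lt a d i _ ((Polynomial.natDegree_X_pow_le _).trans_lt hp1), Polynomial.coeff_X_pow_self]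
      have hr0 : ∀ f, f ≠ e → r f ≠ 0 → (∑ i, (p - 1 - (f i : ℕ))) < N := by
        intro f hf hf0
        have hle : ∀ i, (e i : ℕ) ≤ f i := by
          intro i
          by_contra hlt
          refine hf0 ((hr f).trans (Finset.prod_eq_zero (Finset.mem_univ i) ?_))
          have := (e i).2
          rw [coeff_modByMonic_of_lt a d i _ ((Polynomial.natDegree_X_pow_le _).trans_lt (by omega)),
            Polynomial.coeff_X_pow, if_neg (by omega)]
        obtain ⟨i, hi⟩ : ∃ i, f i ≠ e i := by
          by_contra! h; exact hf (funext h)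
        rw [← he]
        refine Finset.sum_lt_sum (fun j _ => by have := hle j; omega) ⟨i, Finset.mem_univ i, ?_⟩
        have := hle i; have h3 : (f i : ℕ) ≠ e i := fun h => hi (Fin.ext h); have := (f i).2
        omega
      have hex : ∀ f, ∃ y, f ≠ e → r f ≠ 0 → ∀ x, b.coord f x = τ (x * y) := fun f => by
        by_cases h : f ≠ e ∧ r f ≠ 0
        · obtain ⟨y, hy⟩ := ih _ (hr0 f h.1 h.2) f rfl
          exact ⟨y, fun _ _ => hy⟩
        · exact ⟨0, fun h1 h2 => absurd ⟨h1, h2⟩ h⟩
      choose y hy using hex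
      refine ⟨y₀ - ∑ f ∈ Finset.univ.erase e, r f • y f, fun x => ?_⟩
      suffices b.coord e = τ ∘ₗ LinearMap.mulRight R (y₀ - ∑ f ∈ Finset.univ.erase e, r f • y f) from DFunLike.congr_fun this x
      refine b.ext fun h => ?_
      simp only [LinearMap.coe_comp, Function.comp_apply, LinearMap.mulRight_apply, mul_sub, map_sub, Finset.mul_sum,
        map_sum, mul_smul_comm, map_smul, smul_eq_mul]
      have hsum : ∑ f ∈ Finset.univ.erase e, r f * τ (b h * y f) = ∑ f ∈ Finset.univ.erase e, if h = f then r f else 0 := by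
        refine Finset.sum_congr rfl fun f hf => ?_
        by_cases hf0 : r f = 0
        · simp [hf0]
        · rw [← hy f (Finset.ne_of_mem_erase hf) hf0 (b h), Module.Basis.coord_apply, b.repr_self, Finsupp.single_apply]
          split_ifs <;> simp
      rw [hsum, Finset.sum_ite_eq, Module.Basis.coord_apply, b.repr_self, Finsupp.single_apply]
      by_cases hhe : h = e
      · subst hhe; simp only [if_pos, Finset.mem_erase]; simp [show τ (b h * y₀) = 1 from hre]
      · rw [if_neg hhe, if_pos (Finset.mem_erase.2 ⟨hhe, Finset.mem_univ h⟩)]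
        exact (sub_self (r h)).symm
  have hsurj' : ∀ l : ASRing p a d →ₗ[R] R, ∃ y, ∀ x, l x = τ (x * y) := by
    intro l
    choose y hy using fun e => hsurj _ e rfl
    refine ⟨∑ e, l (b e) • y e, fun x => ?_⟩
    simp only [Finset.mul_sum, map_sum, mul_smul_comm, map_smul, smul_eq_mul, ← hy]
    conv_lhs => rw [← b.sum_repr x, map_sum]
    refine Finset.sum_congr rfl fun e _ => ?_
    rw [map_smul, smul_eq_mul, Module.Basis.coord_apply, mul_comm]
  refine ⟨τ, ?_, ?_, hsurj'⟩
  · intro φ hφ y
    suffices τ ∘ₗ φ.toLinearMap = τ from DFunLike.congr_fun this y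
    refine b.ext fun e => ?_
    show τ (φ (b e)) = τ (b e)
    rw [hb, map_prod, hmon]
    have h1 := hτ (fun i => (Polynomial.X + Polynomial.C (a i)) ^ (e i : ℕ))
    simp only [map_pow, map_add, Polynomial.aeval_X, Polynomial.aeval_C] at h1
    rw [Finset.prod_congr rfl (fun i _ => by rw [map_pow, hφ]), h1]
    refine Finset.prod_congr rfl fun i _ => ?_
    rw [coeff_modByMonic_of_lt a d i _ (by rw [Polynomial.Monic.natDegree_pow (Polynomial.monic_X_add_C _), Polynomial.natDegree_X_add_C, mul_one]; exact (e i).2),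
      coeff_modByMonic_of_lt a d i _ ((Polynomial.natDegree_X_pow_le _).trans_lt (e i).2), Polynomial.coeff_X_pow,
      Polynomial.coeff_X_add_C_pow]
    split_ifs with he
    · rw [← he]; simp
    · rw [Nat.choose_eq_zero_of_lt (by have := (e i).2; omega)]; simp
  · intro y hy
    let T : ASRing p a d →ₗ[R] (ASRing p a d →ₗ[R] R) := LinearMap.compr₂ (LinearMap.mul R (ASRing p a d)).flip τ
    haveI : Module.Finite R (ASRing p a d) := Module.Finite.of_basis b
    have hT : Function.Surjective (b.toDualEquiv.symm.toLinearMap ∘ₗ T) := b.toDualEquiv.symm.surjective.comp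
      (fun l => (hsurj' l).imp fun y hy => LinearMap.ext fun x => (hy x).symm)
    refine OrzechProperty.injective_of_surjective_endomorphism _ hT ?_
    have : T y = 0 := LinearMap.ext hy
    simp [this]

end Top

open MvPolynomial in
/-- Let `k` be a field of characteristic `p > 0`, `R = k[[x_1, …, x_n]]`, `a_1, …, a_n ∈ R` with zero
constant term and not all zero, and `A = R[u_1, …, u_n] / (u_i ^ p - a_i ^ (p-1) u_i - x_i : i =
1..n)`. Let `G` be a group of order `p` acting on `A` by `R`-algebra automorphisms, generated by an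
element `g` acting by `u_i ↦ u_i + a_i`. Then the skew group ring `A∗G` (free `A`-module on `G` with
`(a g)(b h) = a g(b) gh`) is a symmetric `R`-algebra: there is an `R`-linear form `φ : A∗G → R` with
`φ(xy) = φ(yx)` for all `x, y`, such that `y ↦ (x ↦ φ(x y))` is injective and reaches every
`R`-linear form on `A∗G` (so `Hom_R(A∗G, R) ≅ A∗G` as bimodules). -/
theorem result
    (p : ℕ) [Fact p.Prime] (k : Type u) [Field k] [CharP k p] (n : ℕ)
    (a : Fin n → MvPowerSeries (Fin n) k)
    (ham : ∀ i, MvPowerSeries.constantCoeff (a i) = 0) (hne : ∃ i, a i ≠ 0) :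
    let R := MvPowerSeries (Fin n) k
    let I : Ideal (MvPolynomial (Fin n) R) :=
      Ideal.span (Set.range fun i : Fin n =>
        X i ^ p - C (a i ^ (p - 1)) * X i - C (MvPowerSeries.X i))
    let A := MvPolynomial (Fin n) R ⧸ I
    ∀ (G : Type v) [Group G] [Finite G] [MulSemiringAction G A] [SMulCommClass G R A]
      (g : G), Nat.card G = p → (∀ h : G, h ∈ Subgroup.zpowers g) →
      (∀ i, g • (Ideal.Quotient.mk I (X i)) = Ideal.Quotient.mk I (X i) + algebraMap R A (a i)) →
      ∃ φ : SkewMonoidAlgebra A G →ₗ[R] R,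
        (∀ x y : SkewMonoidAlgebra A G, φ (x * y) = φ (y * x)) ∧
        Function.Injective (fun y : SkewMonoidAlgebra A G => fun x : SkewMonoidAlgebra A G => φ (x * y)) ∧
        ∀ ψ : SkewMonoidAlgebra A G →ₗ[R] R, ∃ y : SkewMonoidAlgebra A G, ∀ x, ψ x = φ (x * y) := by
  intro R I
  classical
  have hI : I = monicIdeal (asPoly p a MvPowerSeries.X) := (monicIdeal_asPoly p a MvPowerSeries.X).symm
  clear_value I
  subst hI
  intro A G _ _ _ _ g _hcard hgen hg
  obtain ⟨τ, hτ, hinj, hsurj⟩ := exists_form (p := p) a (MvPowerSeries.X : Fin n → R)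
  refine skew_symmetric τ (fun h y => ?_) hinj hsurj
  have hgstep : ∀ z, τ (g • z) = τ z := hτ (MulSemiringAction.toAlgHom R A g) hg
  obtain ⟨m, rfl⟩ := Subgroup.mem_zpowers_iff.1 (hgen h)
  induction m using Int.induction_on generalizing y with
  | zero => simp
  | succ m ih => rw [zpow_add_one, mul_smul, ih, hgstep]
  | pred m ih =>
    rw [zpow_sub_one, mul_smul, ih]
    conv_rhs => rw [← smul_inv_smul g y, hgstep]

end Groth.Agent.S15805
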