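import Groth.Statements.S19997
import Groth.Agent.WildQuotLib.Family2
open Groth.Agent.WildQuotLib

set_option autoImplicit false
universe u
open WildQuot

namespace Groth.Agent.S19997

open MvPolynomial in
/-- Let `k` be a field of characteristic `p > 0`, `n ≥ 2`, `R = k[[x_1, …, x_n]]`, `a_1, …, a_n ∈ R`
with zero constant term and pairwise coprime, `μ ∈ R` nonzero and coprime to each `a_i`, `A = R[u_1,
…, u_n] / (u_i ^ p - (μ a_i) ^ (p-1) u_i - x_i : i = 1..n)`, and `σ` the `R`-algebra automorphism of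
`A` with `σ u_i = u_i + μ a_i` for every `i` (it generates a group `G` of order `p`). Fix an index
`i₀` and let `A_ci ⊆ A` be the `R`-subalgebra generated by the minor elements `z_j = a_{i₀} u_j -
a_j u_{i₀}`, `j ≠ i₀` (these are `σ`-invariant). Then `A_ci[1/(μ a_{i₀})] = A^G[1/(μ a_{i₀})]`: for
every `σ`-invariant `t ∈ A` some power `(μ a_{i₀}) ^ N t` lies in `A_ci`. (The published statement
uses the first index for `i₀`.) -/
theorem result
    (p : ℕ) [Fact p.Prime] (k : Type u) [Field k] [CharP k p] (n : ℕ) (hn : 2 ≤ n)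
    (a : Fin n → MvPowerSeries (Fin n) k) (μ : MvPowerSeries (Fin n) k)
    (ham : ∀ i, MvPowerSeries.constantCoeff (a i) = 0) (hcop : ∀ i j, i ≠ j → IsRelPrime (a i) (a j))
    (hμ : μ ≠ 0) (hμa : ∀ i, IsRelPrime μ (a i)) (i₀ : Fin n) :
    let R := MvPowerSeries (Fin n) k
    let I : Ideal (MvPolynomial (Fin n) R) :=
      Ideal.span (Set.range fun i : Fin n =>
        X i ^ p - C ((μ * a i) ^ (p - 1)) * X i - C (MvPowerSeries.X i))
    let A := MvPolynomial (Fin n) R ⧸ I
    let u : Fin n → A := fun i => Ideal.Quotient.mk I (X i)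
    let z : {j : Fin n // j ≠ i₀} → A := fun j =>
      algebraMap R A (a i₀) * u j.1 - algebraMap R A (a j.1) * u i₀
    ∀ σ : A ≃ₐ[R] A, (∀ i, σ (u i) = u i + algebraMap R A (μ * a i)) →
      ∀ t : A, σ t = t →
        ∃ N : ℕ, algebraMap R A (μ * a i₀) ^ N * t ∈ Algebra.adjoin R (Set.range z) := by
  intro R I
  have hI : I = monicIdeal (asPoly p (fun i => μ * a i) MvPowerSeries.X) :=
    (monicIdeal_asPoly p (fun i => μ * a i) MvPowerSeries.X).symm
  clear_value I
  subst hI
  intro A u z σ hσ t ht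
  have hb0 : ∀ i, MvPowerSeries.constantCoeff (μ * a i) = 0 := fun i => by rw [map_mul, ham, mul_zero]
  haveI := isDomain_PS (p := p) (fun i => μ * a i) hb0
  haveI : CharP R p := charP_of_injective_ringHom (MvPowerSeries.C_injective (σ := Fin n) (R := k)) p
  haveI := charP_AS (p := p) (fun i => μ * a i) (MvPowerSeries.X : Fin n → R)
  set S := Algebra.adjoin R (Set.range z)
  have hz : ∀ x ∈ S, σ x = x := fun x hx => by
    refine (AlgHom.eqOn_adjoin_iff (φ := (σ : A →ₐ[R] A)) (ψ := AlgHom.id R A)).2 ?_ hx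
    rintro _ ⟨j, rfl⟩
    show σ (z j) = z j
    simp only [z, map_sub, map_mul, AlgEquiv.commutes, hσ]
    ring
  set c := algebraMap R A (a i₀)
  set v := u i₀
  -- every element is, up to a power of `c`, a polynomial in `v` over `S`
  have hexp : ∀ x : A, ∃ (N : ℕ) (g : Fin p → A), (∀ k, g k ∈ S) ∧ c ^ N * x = ∑ k, g k * v ^ (k : ℕ) := by
    have hp0 : 0 < p := (Fact.out : p.Prime).pos
    have hred : ∀ m : ℕ, ∃ g : Fin p → A, (∀ k, g k ∈ S) ∧ v ^ m = ∑ k, g k * v ^ (k : ℕ) := by
      intro m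
      induction m using Nat.strong_induction_on with
      | _ m ih =>
        rcases Nat.lt_or_ge m p with hm | hm
        · exact ⟨fun k => if (k : ℕ) = m then 1 else 0, fun k => by dsimp only; split_ifs <;> simp [S.one_mem, S.zero_mem],
            by rw [Finset.sum_eq_single ⟨m, hm⟩] <;> simp +contextual [Fin.ext_iff]⟩
        · obtain ⟨m, rfl⟩ : ∃ l, m = l + p := ⟨m - p, by omega⟩
          obtain ⟨g, hg, hge⟩ := ih (m + 1) (by have := (Fact.out : p.Prime).two_le; omega)
          obtain ⟨g', hg', hge'⟩ := ih m (by omega)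
          refine ⟨fun k => algebraMap R A ((μ * a i₀) ^ (p - 1)) * g k + algebraMap R A (MvPowerSeries.X i₀) * g' k,
            fun k => add_mem (S.mul_mem (S.algebraMap_mem _) (hg k)) (S.mul_mem (S.algebraMap_mem _) (hg' k)), ?_⟩
          rw [pow_add, show v ^ p = _ from gen_rel p (fun i => μ * a i) MvPowerSeries.X i₀]
          simp only [add_mul, mul_assoc, Finset.sum_add_distrib, ← Finset.mul_sum, ← hge, ← hge']
          show v ^ m * (algebraMap R A ((μ * a i₀) ^ (p - 1)) * v + algebraMap R A (MvPowerSeries.X i₀)) = _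
          ring
    intro x
    have hmem : x ∈ Algebra.adjoin R (Set.range u) := by
      have := adjoin_gen (asPoly p (fun i => μ * a i) (MvPowerSeries.X : Fin n → R))
      exact this.symm ▸ trivial
    induction hmem using Algebra.adjoin_induction with
    | mem y hy =>
      obtain ⟨j, rfl⟩ := hy
      by_cases hj : j = i₀
      · subst hj
        obtain ⟨g, hg, hge⟩ := hred 1
        exact ⟨0, g, hg, by simpa using hge⟩
      · obtain ⟨g, hg, hge⟩ := hred 1
        refine ⟨1, fun k => z ⟨j, hj⟩ * (if (k : ℕ) = 0 then 1 else 0) + algebraMap R A (a j) * g k,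
          fun k => add_mem (S.mul_mem (Algebra.subset_adjoin ⟨_, rfl⟩) (by split_ifs <;> simp [S.one_mem, S.zero_mem]))
            (S.mul_mem (S.algebraMap_mem _) (hg k)), ?_⟩
        simp only [add_mul, mul_assoc, Finset.sum_add_distrib, ← Finset.mul_sum, ← hge]
        rw [Finset.sum_eq_single ⟨0, hp0⟩ (fun b _ hb => by rw [if_neg (fun h => hb (Fin.ext h))]; simp) (by simp), if_pos rfl]
        simp only [z, v, c, pow_one, pow_zero, mul_one, one_mul]
        ring
    | algebraMap r =>
      obtain ⟨g, hg, hge⟩ := hred 0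
      exact ⟨0, fun k => algebraMap R A r * g k, fun k => S.mul_mem (S.algebraMap_mem _) (hg k), by
        simp only [mul_assoc, ← Finset.mul_sum]; rw [← hge]; simp⟩
    | add y y' _ _ hy hy' =>
      obtain ⟨N, g, hg, hge⟩ := hy
      obtain ⟨N', g', hg', hge'⟩ := hy'
      refine ⟨N + N', fun k => c ^ N' * g k + c ^ N * g' k,
        fun k => add_mem (S.mul_mem (S.pow_mem (S.algebraMap_mem _) _) (hg k))
          (S.mul_mem (S.pow_mem (S.algebraMap_mem _) _) (hg' k)), ?_⟩
      simp only [add_mul, mul_assoc, Finset.sum_add_distrib, ← Finset.mul_sum, ← hge, ← hge', pow_add]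
      ring
    | mul y y' _ _ hy hy' =>
      obtain ⟨N, g, hg, hge⟩ := hy
      obtain ⟨N', g', hg', hge'⟩ := hy'
      choose G hG hGe using hred
      refine ⟨N + N', fun k => ∑ i : Fin p, ∑ j : Fin p, g i * g' j * G ((i : ℕ) + j) k,
        fun k => sum_mem fun i _ => sum_mem fun j _ => S.mul_mem (S.mul_mem (hg i) (hg' j)) (hG _ k), ?_⟩
      rw [show c ^ (N + N') * (y * y') = (c ^ N * y) * (c ^ N' * y') by rw [pow_add]; ring, hge, hge', Finset.sum_mul_sum]
      simp only [Finset.sum_mul]
      rw [eq_comm, Finset.sum_comm (γ := Fin p)]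
      refine Finset.sum_congr rfl fun i _ => ?_
      rw [Finset.sum_comm (γ := Fin p)]
      refine Finset.sum_congr rfl fun j _ => ?_
      rw [eq_comm]
      rw [show g i * v ^ (i : ℕ) * (g' j * v ^ (j : ℕ)) = g i * g' j * v ^ ((i : ℕ) + j) by rw [pow_add]; ring,
        hGe, Finset.mul_sum]
      simp only [mul_assoc]
  by_cases ha0 : a i₀ = 0
  · refine ⟨1, ?_⟩
    rw [ha0, mul_zero, map_zero, zero_pow one_ne_zero, zero_mul]
    exact S.zero_mem
  obtain ⟨N, g, hg, hge⟩ := hexp t
  refine ⟨N, ?_⟩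
  have hcv : algebraMap R A (μ * a i₀) ≠ 0 := fun h => mul_ne_zero hμ ha0
    (algebraMap_injective_AS (p := p) (fun i => μ * a i) (MvPowerSeries.X : Fin n → R) (h.trans (map_zero _).symm))
  have h1 := eq_coeff_zero_of_fixed σ hcv (hσ i₀) (σ.commutes _) g (fun k => hz _ (hg k)) (by
    rw [← hge, map_mul, map_pow, AlgEquiv.commutes, ht])
  have h2 : algebraMap R A (μ * a i₀) ^ N * t = algebraMap R A μ ^ N * (c ^ N * t) := by
    rw [← mul_assoc]; simp only [c, map_mul]; ring
  rw [h2]
  refine S.mul_mem (S.pow_mem (S.algebraMap_mem _) _) ?_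
  rw [hge, h1]
  exact hg _

end Groth.Agent.S19997
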