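import Groth.Statements.S15808
import Groth.Agent.WildQuotLib.Family2
import Groth.Agent.WildQuotLib.MinorCI
import Groth.Agent.RegLocal.UFD
import Groth.Agent.S15807
import Groth.Agent.S19997
open Groth.Agent.WildQuotLib

set_option autoImplicit false
universe u
open WildQuot

namespace Groth.Agent.S15808

/-- A localisation of a ring of invariants of a normal domain is normal. -/
theorem isIntegrallyClosed_away_of_fixed {B A : Type u} [CommRing B] [IsDomain B] [CommRing A] [IsDomain A]
    [IsIntegrallyClosed A] (φ : B →+* A) (hφ : Function.Injective φ) (σ : A →+* A) (hσ : ∀ b, σ (φ b) = φ b)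
    (g : B) (hg : g ≠ 0) (hfix : ∀ t, σ t = t → ∃ N : ℕ, φ g ^ N * t ∈ Set.range φ) :
    IsIntegrallyClosed (Localization.Away g) := by
  let L := Localization.Away g
  have hM : Submonoid.powers g ≤ nonZeroDivisors B := powers_le_nonZeroDivisors_of_noZeroDivisors hg
  haveI : IsDomain L := IsLocalization.isDomain_localization hM
  let K := FractionRing B
  letI : Algebra L K := IsLocalization.localizationAlgebraOfSubmonoidLe L K (Submonoid.powers g) (nonZeroDivisors B) hM
  haveI : IsScalarTower B L K := IsLocalization.localization_isScalarTower_of_submonoid_le L K _ _ hM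
  haveI : IsFractionRing L K := IsFractionRing.isFractionRing_of_isDomain_of_isLocalization (Submonoid.powers g) L K
  refine (isIntegrallyClosed_iff K).2 fun {x} hx => ?_
  obtain ⟨⟨m, hm⟩, hmx⟩ := hx.exists_multiple_integral_of_isLocalization (Submonoid.powers g) x
  rw [Submonoid.smul_def, Algebra.smul_def] at hmx
  obtain ⟨b, c, hc, hbc⟩ := IsFractionRing.div_surjective (A := B) (algebraMap B K m * x)
  letI : Algebra B A := φ.toAlgebra
  -- the image in the fraction field of `A`
  let F := FractionRing A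
  let Φ : K →+* F := IsFractionRing.map (A := B) (B := A) (j := φ) hφ
  have hΦ : ∀ b, Φ (algebraMap B K b) = algebraMap A F (φ b) := fun b => IsLocalization.map_eq _ b
  have hint : IsIntegral A (Φ (algebraMap B K m * x)) := by
    obtain ⟨P, hP, hPx⟩ := hmx
    refine ⟨P.map φ, hP.map φ, ?_⟩
    rw [Polynomial.eval₂_map]
    have h2 : (algebraMap A F).comp φ = Φ.comp (algebraMap B K) := RingHom.ext fun b => (hΦ b).symm
    rw [h2, ← Polynomial.hom_eval₂]
    rw [hPx, map_zero]
  obtain ⟨t, ht⟩ := IsIntegrallyClosed.isIntegral_iff.1 hint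
  have ht0 := ht
  rw [← hbc, map_div₀, hΦ, hΦ] at ht
  have hc0 : φ c ≠ 0 := fun h => nonZeroDivisors.ne_zero hc (hφ (h.trans (map_zero φ).symm))
  have htc : t * φ c = φ b := IsFractionRing.injective A F (by
    rw [map_mul, ht, div_mul_cancel₀]
    exact fun h => hc0 (IsFractionRing.injective A F (h.trans (map_zero _).symm)))
  have hσt : σ t = t := by
    have h := congrArg σ htc
    rw [map_mul, hσ, hσ, ← htc] at h
    exact mul_right_cancel₀ hc0 h
  obtain ⟨N, b', hb'⟩ := hfix t hσt
  obtain ⟨k, rfl⟩ := hm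
  refine ⟨IsLocalization.mk' L b' (⟨g ^ (N + k), N + k, rfl⟩ : Submonoid.powers g), ?_⟩
  have hne : algebraMap B K (g ^ (N + k)) ≠ 0 := fun h => pow_ne_zero _ hg (IsFractionRing.injective B K (h.trans (map_zero _).symm))
  refine mul_left_cancel₀ hne ?_
  rw [IsScalarTower.algebraMap_apply B L K (g ^ (N + k)), ← map_mul, mul_comm (algebraMap B L _),
    IsLocalization.mk'_spec, ← IsScalarTower.algebraMap_apply B L K]
  refine Φ.injective ?_
  rw [map_mul Φ, hΦ] at ht0
  rw [map_mul Φ, ← IsScalarTower.algebraMap_apply B L K, hΦ, hΦ, hb', map_mul (algebraMap A F), ht0, map_pow φ, map_pow φ, map_pow, map_pow, map_pow, pow_add]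
  ring

open MvPolynomial in
/-- Let `k` be a field of characteristic `p > 0`, `n ≥ 2`, `R = k[[x_1, …, x_n]]`, `a_1, …, a_n ∈ R`
with zero constant term and pairwise coprime, `μ ∈ R` nonzero and coprime to each `a_i`; fix an
index `i₀` and let `B = R[Z_j : j ≠ i₀] / (Z_j ^ p - (μ a_{i₀} a_j) ^ (p-1) Z_j - (a_{i₀} ^ p x_j -
a_j ^ p x_{i₀}) : j ≠ i₀)`, the complete-intersection ring of the minor elements through `u_{i₀}`.
Then `B` is a free `R`-module of rank `p ^ (n-1)`, `B` is an integral domain, and the localisation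
`B[1/(μ a_{i₀})]` is integrally closed. (The published statement uses the first index for `i₀`; this
row allows any index.) -/
theorem result
    (p : ℕ) [Fact p.Prime] (k : Type u) [Field k] [CharP k p] (n : ℕ) (hn : 2 ≤ n)
    (a : Fin n → MvPowerSeries (Fin n) k) (μ : MvPowerSeries (Fin n) k)
    (ham : ∀ i, MvPowerSeries.constantCoeff (a i) = 0) (hcop : ∀ i j, i ≠ j → IsRelPrime (a i) (a j))
    (hμ : μ ≠ 0) (hμa : ∀ i, IsRelPrime μ (a i)) (i₀ : Fin n) :
    let R := MvPowerSeries (Fin n) k
    let r : {j : Fin n // j ≠ i₀} → MvPolynomial {j : Fin n // j ≠ i₀} R := fun j =>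
      X j ^ p - C ((μ * a i₀ * a j.1) ^ (p - 1)) * X j
        - C (a i₀ ^ p * MvPowerSeries.X j.1 - a j.1 ^ p * MvPowerSeries.X i₀)
    let B := MvPolynomial {j : Fin n // j ≠ i₀} R ⧸ Ideal.span (Set.range r)
    Module.Free R B ∧ Module.finrank R B = p ^ (n - 1) ∧ IsDomain B ∧
      IsIntegrallyClosed (Localization.Away (algebraMap R B (μ * a i₀))) := by
  intro R r
  classical
  have hI : Ideal.span (Set.range r) = monicIdeal (asPoly p (minorA a μ i₀) (minorD p a MvPowerSeries.X i₀)) :=
    (monicIdeal_asPoly p (minorA a μ i₀) (minorD p a MvPowerSeries.X i₀)).symm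
  clear_value r
  rw [hI]
  have hb0 : ∀ i, MvPowerSeries.constantCoeff (μ * a i) = 0 := fun i => by rw [map_mul, ham, mul_zero]
  haveI := isDomain_PS (p := p) (fun i => μ * a i) hb0
  haveI := isRegularLocalRing_PS (p := p) (fun i => μ * a i) hb0
  haveI : CharP R p := charP_of_injective_ringHom (MvPowerSeries.C_injective (σ := Fin n) (R := k)) p
  haveI : IsRegularLocalRing R := isRegularLocalRing (k := k) n
  haveI : IsDomain R := RegLocal.isDomain R
  have ha := S15807.ne_zero_of_coprime hn a ham hcop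
  haveI hBdom := isDomain_minorCI (p := p) a μ (MvPowerSeries.X : Fin n → R) i₀ hμ ha
  refine ⟨(free_AS (p := p) _ _).1, ?_, hBdom, ?_⟩
  · rw [finrank_AS, Fintype.card_subtype_compl, Fintype.card_fin, Fintype.card_subtype_eq]
  haveI : UniqueFactorizationMonoid (ASRing p (fun i => μ * a i) (MvPowerSeries.X : Fin n → R)) := RegLocal.ufd _
  obtain ⟨σ, hσ⟩ := exists_shift (p := p) (fun i => μ * a i) (MvPowerSeries.X : Fin n → R) (fun i => μ * a i)
    (fun i => by rw [← pow_succ, Nat.sub_add_cancel (Fact.out : p.Prime).one_le])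
  let φ := minorHom (p := p) a μ (MvPowerSeries.X : Fin n → R) i₀
  have hφσ : (σ.toAlgHom).comp φ = φ := hom_ext _ fun j => by
    show σ (φ (gen _ j)) = φ (gen _ j)
    rw [show φ (gen _ j) = minor (p := p) a μ _ i₀ j from minorHom_gen a μ _ i₀ j, minor]
    simp only [map_sub, map_mul, AlgEquiv.commutes, hσ]
    ring
  have hinj := algebraMap_injective_AS (p := p) (minorA a μ i₀) (minorD p a (MvPowerSeries.X : Fin n → R) i₀)
  refine isIntegrallyClosed_away_of_fixed φ.toRingHom (minorHom_injective (p := p) a μ _ i₀ hμ ha)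
    σ.toAlgHom.toRingHom (fun b => DFunLike.congr_fun hφσ b) _
    (fun h => mul_ne_zero hμ (ha i₀) (hinj (h.trans (map_zero _).symm))) ?_
  intro t ht
  have hI' : (Ideal.span (Set.range fun i : Fin n =>
        MvPolynomial.X i ^ p - MvPolynomial.C ((μ * a i) ^ (p - 1)) * MvPolynomial.X i
          - MvPolynomial.C (MvPowerSeries.X i : R))) = monicIdeal (asPoly p (fun i => μ * a i) MvPowerSeries.X) :=
    (monicIdeal_asPoly p (fun i => μ * a i) MvPowerSeries.X).symm
  have h97 := S19997.result p k n hn a μ ham hcop hμ hμa i₀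
  simp only at h97
  rw [hI'] at h97
  obtain ⟨N, hN⟩ := h97 σ hσ t ht
  refine ⟨N, ?_⟩
  show φ (algebraMap R _ (μ * a i₀)) ^ N * t ∈ φ.range
  rw [AlgHom.commutes, range_minorHom a μ _ i₀ hμ ha]
  exact hN

end Groth.Agent.S15808
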