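import Groth.Statements.S15809
import Groth.Agent.Codim1Iso.Scheme

set_option autoImplicit false
universe u
open CategoryTheory MonoidalCategory CartesianMonoidalCategory AlgebraicGeometry Limits
open WildQuot

namespace Groth.Agent.S15809

/-- Let `S` be a Noetherian scheme, `G` a finite flat `S`-group scheme and `Y` a finite flat `S`-scheme
with an action of `G`; let `Ψ : G ×_S Y → Y ×_S Y` be `(g, y) ↦ (g y, y)`. Suppose that for every
point `s ∈ S` of codimension at most `1` (local ring of dimension `≤ 1`) the fibre `Y_s` is a torsor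
under `G_s`: it is nonempty and the base change of `Ψ` to `Spec κ(s)` is an isomorphism. Then `Y` is
a `G`-torsor: `Ψ` is an isomorphism and `Y → S` is surjective (so the finite flat cover `Y → S`
itself trivialises `Y`). -/
theorem result
    (S : Scheme.{u}) [AlgebraicGeometry.IsNoetherian S]
    (G Y : Over S) [GrpObj G]
    [AlgebraicGeometry.IsFinite G.hom] [AlgebraicGeometry.Flat G.hom]
    [AlgebraicGeometry.IsFinite Y.hom] [AlgebraicGeometry.Flat Y.hom]
    (a : AlgGrp.Action G Y)
    (hfib : ∀ s : S, ringKrullDim (S.presheaf.stalk s) ≤ 1 →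
      s ∈ Set.range Y.hom.base ∧
      IsIso (pullback.map (G ⊗ Y).hom (S.fromSpecResidueField s) (Y ⊗ Y).hom (S.fromSpecResidueField s)
        (CartesianMonoidalCategory.lift a.act (CartesianMonoidalCategory.snd G Y)).left
        (𝟙 _) (𝟙 S)
        ((Category.comp_id _).trans
          (Over.w (CartesianMonoidalCategory.lift a.act (CartesianMonoidalCategory.snd G Y))).symm)
        ((Category.comp_id _).trans (Category.id_comp _).symm))) :
    IsIso (CartesianMonoidalCategory.lift a.act (CartesianMonoidalCategory.snd G Y)).left ∧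
      Function.Surjective Y.hom.base := by
  have hfin : ∀ A B : Over S, AlgebraicGeometry.IsFinite A.hom → AlgebraicGeometry.Flat A.hom →
      AlgebraicGeometry.IsFinite B.hom → AlgebraicGeometry.Flat B.hom →
      AlgebraicGeometry.IsFinite (A ⊗ B).hom ∧ AlgebraicGeometry.Flat (A ⊗ B).hom := by
    intro A B _ _ _ _
    rw [Over.tensorObj_hom]
    exact ⟨inferInstance, inferInstance⟩
  obtain ⟨_, _⟩ := hfin G Y inferInstance inferInstance inferInstance inferInstance
  obtain ⟨_, _⟩ := hfin Y Y inferInstance inferInstance inferInstance inferInstance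
  refine ⟨Groth.Agent.Codim1Iso.isIso_of_fibres (G ⊗ Y).hom (Y ⊗ Y).hom _ (Over.w _) fun s hs => (hfib s hs).2, fun s => ?_⟩
  obtain ⟨V, hV, hsV, -⟩ := (TopologicalSpace.Opens.isBasis_iff_nbhd.1 S.isBasis_affineOpens)
    (show s ∈ (⊤ : S.Opens) from trivial)
  obtain ⟨y, hy⟩ : ∃ y : PrimeSpectrum Γ(S, V), hV.fromSpec y = s := by
    have h0 : s ∈ Set.range hV.fromSpec := by rw [hV.range_fromSpec]; exact hsV
    exact h0
  obtain ⟨q, hq, hqy⟩ := Ideal.exists_minimalPrimes_le (I := (⊥ : Ideal Γ(S, V))) (J := y.asIdeal) bot_le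
  haveI := hq.1.1
  let x : PrimeSpectrum Γ(S, V) := ⟨q, hq.1.1⟩
  have hx : hV.fromSpec x ∈ V := by
    have h0 : hV.fromSpec x ∈ Set.range hV.fromSpec := ⟨x, rfl⟩
    rwa [hV.range_fromSpec] at h0
  letI := TopCat.Presheaf.algebra_section_stalk S.presheaf ⟨hV.fromSpec x, hx⟩
  haveI hloc : IsLocalization.AtPrime (S.presheaf.stalk (hV.fromSpec x)) x.asIdeal := hV.isLocalization_stalk' x hx
  have hdim : ringKrullDim (S.presheaf.stalk (hV.fromSpec x)) ≤ 1 := by
    rw [IsLocalization.AtPrime.ringKrullDim_eq_height x.asIdeal (S.presheaf.stalk (hV.fromSpec x)),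
      Ideal.height_eq_zero_iff.2 (show x.asIdeal ∈ minimalPrimes Γ(S, V) from hq)]
    exact zero_le_one
  have hsp : hV.fromSpec x ⤳ s := hy ▸ ((PrimeSpectrum.le_iff_specializes x y).1 hqy).map hV.fromSpec.continuous
  exact hsp.mem_closed Y.hom.isClosedMap.isClosed_range (hfib _ hdim).1

end Groth.Agent.S15809
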