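import Groth.Statements.S15810
import Groth.Agent.WildQuotLib.Family2
import Groth.Agent.RegLocal.UFD
open Groth.Agent.WildQuotLib

set_option autoImplicit false
universe u
open WildQuot

namespace Groth.Agent.S15810

open MvPolynomial in
theorem repr_aeval {R : Type u} [CommRing R] {A : Type u} [CommRing A] [Algebra R A] {n p : ℕ} (u : Fin n → A)
    (b : Module.Basis (Fin n → Fin p) R A)
    (hb : ∀ e, b e = ∏ i, u i ^ (e i : ℕ)) (P : MvPolynomial (Fin n) R)
    (hP : ∀ e ∈ P.support, ∀ i, e i < p) (e' : Fin n → Fin p) :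
    b.repr (MvPolynomial.aeval u P) e' = P.coeff (Finsupp.equivFunOnFinite.symm fun i => (e' i : ℕ)) := by
  classical
  let B : (Fin n →₀ ℕ) → A := fun e =>
    if he : ∀ i, e i < p then P.coeff e • b (fun i => ⟨e i, he i⟩) else 0
  have hB : ∀ e ∈ P.support, MvPolynomial.aeval u (monomial e (P.coeff e)) = B e := by
    intro e he
    simp only [B, dif_pos (hP e he)]
    rw [hb, aeval_monomial, Finsupp.prod_fintype _ _ (fun i => pow_zero _), Algebra.smul_def]
  conv_lhs => rw [P.as_sum, map_sum, Finset.sum_congr rfl hB, map_sum, Finsupp.finsetSum_apply]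
  rw [Finset.sum_eq_single (Finsupp.equivFunOnFinite.symm fun i => (e' i : ℕ))]
  · rw [dif_pos (fun i => by simp), map_smul, b.repr_self]
    simp
  · intro e _ hne
    split_ifs with h'
    · rw [map_smul, b.repr_self, Finsupp.smul_apply, Finsupp.single_eq_of_ne, smul_zero]
      intro heq
      exact hne (Finsupp.ext fun i => by simp [heq])
    · simp
  · intro hns
    rw [MvPolynomial.notMem_support_iff.1 hns]
    split_ifs <;> simp

open MvPolynomial in
theorem coeff_linear_pow {R : Type u} [CommRing R] {n : ℕ} (w : Fin n → R) (i : Fin n) :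
    ∀ l k : ℕ, ((∑ j, C (w j) * X j) ^ l).coeff (Finsupp.single i k) = if l = k then w i ^ k else 0 := by
  classical
  intro l
  induction l with
  | zero =>
    intro k
    rw [pow_zero, coeff_one]
    by_cases hk : 0 = k
    · subst hk; simp
    · rw [if_neg hk, if_neg]
      intro h; exact hk (by simpa using congrArg (fun f : Fin n →₀ ℕ => f i) h)
  | succ l ih =>
    intro k
    rw [pow_succ, Finset.mul_sum, coeff_sum]
    simp only [mul_left_comm _ (C _), coeff_C_mul, coeff_mul_X']
    rw [Finset.sum_eq_single i (fun j _ hj => by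
      rw [if_neg (fun h => by simp [Finsupp.single_eq_of_ne hj] at h), mul_zero]) (by simp)]
    rcases k with _ | k
    · simp
    · rw [if_pos (by simp), ← Finsupp.single_tsub, Nat.add_sub_cancel, ih k]
      by_cases hlk : l = k
      · rw [if_pos hlk, if_pos (by omega), pow_succ, mul_comm]
      · rw [if_neg hlk, if_neg (by omega), mul_zero]

theorem dvd_of_dvd_mul_forall {R : Type u} [CommRing R] [IsDomain R] [UniqueFactorizationMonoid R] {ι : Type*}
    (x : ι → R) (hx : ∀ q : R, Prime q → ∃ i, ¬ q ∣ x i) :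
    ∀ (D : R), D ≠ 0 → ∀ g : R, (∀ i, D ∣ g * x i) → D ∣ g := by
  intro D
  induction D using UniqueFactorizationMonoid.induction_on_prime with
  | h₁ => intro h; exact absurd rfl h
  | h₂ u hu => intro _ g _; exact hu.dvd
  | h₃ D q hD hq ih =>
    intro _ g hg
    obtain ⟨i, hi⟩ := hx q hq
    obtain ⟨g', rfl⟩ := (hq.dvd_or_dvd ((dvd_mul_right q D).trans (hg i))).resolve_right hi
    exact mul_dvd_mul_left q (ih hD g' fun j => (mul_dvd_mul_iff_left hq.ne_zero).1 (by rw [← mul_assoc]; exact hg j))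

open MvPolynomial in
theorem main {p : ℕ} [Fact p.Prime] {R A : Type u} [CommRing R] [IsDomain R] [UniqueFactorizationMonoid R] [CharP R p]
    [CommRing A] [IsDomain A] [CharP A p] [Algebra R A] (hinj : Function.Injective (algebraMap R A))
    {n : ℕ} (a : Fin n → R) (μ : R) (x : Fin n → R) (ha0 : ∀ i, a i ≠ 0) (hcop : ∀ i j, i ≠ j → IsRelPrime (a i) (a j))
    (hμ : μ ≠ 0) (u : Fin n → A)
    (hrel : ∀ i, u i ^ p = algebraMap R A ((μ * a i) ^ (p - 1)) * u i + algebraMap R A (x i))
    (b : Module.Basis (Fin n → Fin p) R A) (hb : ∀ e, b e = ∏ i, u i ^ (e i : ℕ))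
    (hext : ∀ g g' : A ≃ₐ[R] A, (∀ j, g (u j) = g' (u j)) → ∀ t, g t = g' t)
    (ψ : ZMod p →+* R) (s : Fin n → ZMod p) (hs : s ≠ 0) (σ : Fin n → (A ≃ₐ[R] A))
    (hσ : ∀ i j, σ i (u j) = u j + (if i = j then algebraMap R A (μ * a i) else 0))
    (hfixed : ∀ t, (∀ i, σ i t = t) → t ∈ Set.range (algebraMap R A))
    (c : Fin n → R) (hc : ∀ i, c i = ψ (s i))
    (α : R) (hαdef : α = ∏ i ∈ Finset.univ.filter (fun i => s i ≠ 0), a i)
    (αi : Fin n → R) (hαidef : ∀ i, αi i = ∏ j ∈ (Finset.univ.filter (fun j => s j ≠ 0)).erase i, a j)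
    (z : A) (hzdef : z = ∑ i ∈ Finset.univ.filter (fun i => s i ≠ 0), algebraMap R A (c i * αi i) * u i)
    (f : Polynomial R) (hfdef : f = Polynomial.X ^ p - Polynomial.C ((μ * α) ^ (p - 1)) * Polynomial.X
      - Polynomial.C (∑ i ∈ Finset.univ.filter (fun i => s i ≠ 0), c i * αi i ^ p * x i)) :
      (∀ t : A, (∀ ν : Fin n → ZMod p, ∑ i, ν i * s i = 0 →
          (List.ofFn (fun i : Fin n => σ i ^ (ν i).val)).prod t = t) ↔
        t ∈ (Polynomial.aeval z : Polynomial R →ₐ[R] A).range) ∧
      RingHom.ker (Polynomial.aeval z : Polynomial R →ₐ[R] A) = Ideal.span {f} := by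
  classical
  have hp := (Fact.out : p.Prime)
  set S := Finset.univ.filter (fun i => s i ≠ 0) with hSdef
  obtain ⟨i₀, hi₀⟩ : ∃ i, s i ≠ 0 := by
    by_contra! h; exact hs (funext h)
  have hcp : ∀ i, c i ^ p = c i := fun i => by rw [hc, ← map_pow, ZMod.pow_card]
  let δ : R := μ * α
  have hδ0 : δ ≠ 0 := mul_ne_zero hμ (hαdef ▸ Finset.prod_ne_zero_iff.2 fun i _ => ha0 i)
  have hαai : ∀ i ∈ S, αi i * a i = α := fun i hi => by rw [hαidef, hαdef]; exact Finset.prod_erase_mul S a hi
  have hcα : ∀ i, c i * αi i * (μ * a i) = c i * δ := by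
    intro i
    by_cases hi : s i = 0
    · rw [hc, hi, map_zero]; ring
    · rw [show δ = μ * α from rfl, ← hαai i (by simp [S, hi])]; ring
  have hz : z = ∑ i, algebraMap R A (c i * αi i) * u i := by
    rw [hzdef]
    refine Finset.sum_filter_of_ne fun i _ h hi => h ?_
    rw [hc, hi, map_zero, zero_mul, map_zero, zero_mul]
  let L : MvPolynomial (Fin n) R := ∑ j, C (c j * αi j) * X j
  have hzL : z = MvPolynomial.aeval u L := by
    rw [hz, map_sum]; simp
  -- the polynomial `f`
  let d : R := ∑ i ∈ S, c i * αi i ^ p * x i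
  have hf : f = asPoly p (fun _ : Unit => δ) (fun _ => d) () := hfdef
  have hfm : f.Monic := hf ▸ monic_asPoly hp _ _ _
  have hfd : f.natDegree = p := hf ▸ natDegree_asPoly hp _ _ _
  have hfz : Polynomial.aeval z f = 0 := by
    rw [hf]
    refine (aeval_asPoly p (fun _ : Unit => δ) (fun _ => d) () z).trans ?_
    have hd : d = ∑ i, c i * αi i ^ p * x i := by
      refine Finset.sum_filter_of_ne fun i _ h hi => h ?_
      rw [hc, hi, map_zero, zero_mul, zero_mul]
    rw [hz, sum_pow_char p, hd, map_sum, Finset.mul_sum, ← Finset.sum_sub_distrib, ← Finset.sum_sub_distrib]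
    refine Finset.sum_eq_zero fun i _ => ?_
    rw [mul_pow, show u i ^ p = _ from hrel i]
    show algebraMap R A (c i * αi i) ^ p * (algebraMap R A ((μ * a i) ^ (p - 1)) * u i + algebraMap R A (x i))
      - algebraMap R A (δ ^ (p - 1)) * (algebraMap R A (c i * αi i) * u i)
      - algebraMap R A (c i * αi i ^ p * x i) = 0
    have h1 : (c i * αi i) ^ p * (μ * a i) ^ (p - 1) = δ ^ (p - 1) * (c i * αi i) := by
      obtain ⟨q, hq⟩ : ∃ q, p = q + 1 := ⟨p - 1, by have := hp.one_lt; omega⟩
      have hq' : p - 1 = q := by omega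
      calc (c i * αi i) ^ p * (μ * a i) ^ (p - 1) = (c i * αi i * (μ * a i)) ^ q * (c i * αi i) := by
            rw [hq', hq, mul_pow (c i * αi i), pow_succ]; ring
        _ = (c i * δ) ^ q * (c i * αi i) := by rw [hcα]
        _ = c i ^ p * (δ ^ (p - 1) * αi i) := by rw [hq', hq, mul_pow, pow_succ]; ring
        _ = _ := by rw [hcp]; ring
    have h2 : (c i * αi i) ^ p = c i * αi i ^ p := by rw [mul_pow, hcp]
    have h1' := congrArg (algebraMap R A) h1
    have h2' := congrArg (algebraMap R A) h2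
    simp only [map_mul, map_pow] at h1' h2' ⊢
    linear_combination (u i) * h1' + algebraMap R A (x i) * h2'
  -- coefficients
  have hrepr : ∀ (g : Polynomial R), g.natDegree < p → ∀ (kk : Fin p) (i : Fin n),
      b.repr (Polynomial.aeval z g) (Pi.single (M := fun _ => Fin p) i kk) = g.coeff kk * (c i * αi i) ^ (kk : ℕ) := by
    intro g hg kk i
    rw [Polynomial.aeval_eq_sum_range' hg, map_sum, Finsupp.finsetSum_apply,
      Finset.sum_eq_single (kk : ℕ)]
    rotate_left
    · intro l hl hne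
      rw [map_smul, Finsupp.smul_apply, hzL, ← map_pow, repr_aeval u b hb _ ?_ _,
        show (Finsupp.equivFunOnFinite.symm fun j => ((Pi.single (M := fun _ => Fin p) i kk j : Fin p) : ℕ)) = Finsupp.single i (kk : ℕ) from ?_,
        coeff_linear_pow, if_neg hne, smul_zero]
      · ext j; rcases eq_or_ne j i with rfl | hj <;> simp [*]
      · intro e he j
        have h1 : (L ^ l).totalDegree ≤ l := (totalDegree_pow _ _).trans (by
          calc l * L.totalDegree ≤ l * 1 := Nat.mul_le_mul_left _ ((totalDegree_finsetSum_le fun j _ =>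
                (totalDegree_mul _ _).trans (by rw [totalDegree_C, totalDegree_X])))
            _ = l := mul_one l)
        have h2 := le_totalDegree he
        have h3 : e j ≤ e.sum fun _ x => x := by
          rw [Finsupp.sum_fintype _ _ (fun _ => rfl)]
          exact Finset.single_le_sum (f := fun x => e x) (fun _ _ => Nat.zero_le _) (Finset.mem_univ j)
        exact lt_of_le_of_lt ((h3.trans h2).trans h1) (Finset.mem_range.1 hl)
    · intro h; exact absurd (Finset.mem_range.2 kk.2) h
    rw [map_smul, Finsupp.smul_apply, hzL, ← map_pow, repr_aeval u b hb _ ?_ _,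
      show (Finsupp.equivFunOnFinite.symm fun j => ((Pi.single (M := fun _ => Fin p) i kk j : Fin p) : ℕ)) = Finsupp.single i (kk : ℕ) from ?_,
      coeff_linear_pow, if_pos rfl, smul_eq_mul]
    · ext j; rcases eq_or_ne j i with rfl | hj <;> simp [*]
    · intro e he j
      have h1 : (L ^ (kk : ℕ)).totalDegree ≤ kk := (totalDegree_pow _ _).trans (by
        calc (kk : ℕ) * L.totalDegree ≤ (kk : ℕ) * 1 := Nat.mul_le_mul_left _ ((totalDegree_finsetSum_le fun j _ =>
              (totalDegree_mul _ _).trans (by rw [totalDegree_C, totalDegree_X])))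
          _ = kk := mul_one _)
      have h2 := le_totalDegree he
      have h3 : e j ≤ e.sum fun _ x => x := by
        rw [Finsupp.sum_fintype _ _ (fun _ => rfl)]
        exact Finset.single_le_sum (f := fun x => e x) (fun _ _ => Nat.zero_le _) (Finset.mem_univ j)
      exact lt_of_le_of_lt ((h3.trans h2).trans h1) kk.2
  have hmod : ∀ Q : Polynomial R, Polynomial.aeval z (Q %ₘ f) = Polynomial.aeval z Q ∧ (Q %ₘ f).natDegree < p := by
    intro Q
    refine ⟨?_, ?_⟩
    · conv_rhs => rw [← Polynomial.modByMonic_add_div Q f]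
      simp [hfz]
    · rw [← hfd]
      exact Polynomial.natDegree_modByMonic_lt Q hfm (fun h => by rw [h, Polynomial.natDegree_one] at hfd; exact hp.ne_zero hfd.symm)
  refine ⟨fun t => ?_, ?_⟩
  swap
  · -- the kernel
    refine le_antisymm (fun Q hQ => ?_) ((Ideal.span_singleton_le_iff_mem _).2 hfz)
    rw [RingHom.mem_ker] at hQ
    obtain ⟨h1, h2⟩ := hmod Q
    have h3 : Q %ₘ f = 0 := by
      refine Polynomial.ext fun l => ?_
      rcases Nat.lt_or_ge l p with hl | hl
      · have := hrepr _ h2 ⟨l, hl⟩ i₀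
        rw [h1, hQ, map_zero, Finsupp.coe_zero, Pi.zero_apply, eq_comm, mul_eq_zero] at this
        refine this.resolve_right (pow_ne_zero _ (mul_ne_zero ?_ (hαidef i₀ ▸ Finset.prod_ne_zero_iff.2 fun j _ => ha0 j)))
        rw [hc]; exact (map_ne_zero_iff _ (RingHom.injective _)).2 hi₀
      · rw [Polynomial.coeff_zero]; exact Polynomial.coeff_eq_zero_of_natDegree_lt (lt_of_lt_of_le h2 hl)
    rw [Ideal.mem_span_singleton]
    exact (Polynomial.modByMonic_eq_zero_iff_dvd hfm).1 h3
  -- the group action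
  let ρ : (Fin n → ZMod p) → (A ≃ₐ[R] A) := fun ν => (List.ofFn fun i => σ i ^ (ν i).val).prod
  have hσpow : ∀ (i j : Fin n) (e : ℕ), (σ i ^ e) (u j) = u j + (if i = j then (e : A) else 0) * algebraMap R A (μ * a j) := by
    intro i j e
    induction e with
    | zero => simp
    | succ e ih =>
      rw [pow_succ', AlgEquiv.mul_apply, ih]
      rcases eq_or_ne i j with rfl | hij
      · simp [hσ, map_natCast]; ring
      · simp [hσ, hij]
  have hρ : ∀ ν j, ρ ν (u j) = u j + algebraMap R A (ψ (ν j) * (μ * a j)) := by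
    intro ν j
    have key : ∀ l : List (Fin n), ((l.map fun i => σ i ^ (ν i).val).prod) (u j) =
        u j + ((l.count j * (ν j).val : ℕ) : A) * algebraMap R A (μ * a j) := by
      intro l
      induction l with
      | nil => simp
      | cons i l ih =>
        rw [List.map_cons, List.prod_cons, AlgEquiv.mul_apply, ih, map_add, map_mul, map_natCast, AlgEquiv.commutes, hσpow]
        rcases eq_or_ne i j with rfl | hij
        · rw [if_pos rfl, List.count_cons_self]; push_cast; ring
        · rw [if_neg hij, List.count_cons_of_ne hij]; ring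
    show ((List.ofFn fun i => σ i ^ (ν i).val).prod) (u j) = _
    rw [List.ofFn_eq_map, key, List.count_eq_one_of_mem (List.nodup_finRange n) (List.mem_finRange j), one_mul,
      ← map_natCast (algebraMap R A), ← map_mul]
    congr 2
    rw [← map_natCast ψ, ZMod.natCast_zmod_val]
  have hρz : ∀ ν : Fin n → ZMod p, ρ ν z = z + algebraMap R A (ψ (∑ i, ν i * s i) * δ) := by
    intro ν
    rw [hz, map_sum, map_sum ψ, Finset.sum_mul, map_sum, ← Finset.sum_add_distrib]
    refine Finset.sum_congr rfl fun i _ => ?_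
    rw [map_mul, AlgEquiv.commutes, hρ, mul_add, ← map_mul]
    congr 2
    rw [map_mul, mul_assoc _ (ψ (s i)), ← hc, ← hcα]; ring
  refine ⟨fun ht => ?_, ?_⟩
  swap
  · rintro ⟨Q, rfl⟩ ν hν
    show ρ ν (Polynomial.aeval z Q) = Polynomial.aeval z Q
    rw [← AlgEquiv.coe_algHom, ← Polynomial.aeval_algHom_apply]
    congr
    show ρ ν z = z
    rw [hρz, hν, map_zero, zero_mul, map_zero, add_zero]
  let νm : ZMod p → Fin n → ZMod p := fun m => Pi.single i₀ (m / s i₀)
  have hνm : ∀ m, ∑ i, νm m i * s i = m := fun m => by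
    rw [Finset.sum_eq_single i₀ (fun j _ hj => by simp [νm, Pi.single_eq_of_ne hj]) (by simp)]
    simp [νm, div_mul_cancel₀ _ hi₀]
  let E : ZMod p → A := fun m => ρ (νm m) t
  have hdep : ∀ ν, ρ ν t = E (∑ i, ν i * s i) := by
    intro ν
    have h := hext (ρ ν) (ρ (νm (∑ i, ν i * s i)) * ρ (ν - νm (∑ i, ν i * s i))) (fun j => ?_) t
    · rw [h, AlgEquiv.mul_apply]
      congr 1
      refine ht _ ?_
      simp only [Pi.sub_apply, sub_mul, Finset.sum_sub_distrib, hνm, sub_self]
    · rw [AlgEquiv.mul_apply, hρ, hρ, map_add, AlgEquiv.commutes, hρ, Pi.sub_apply, map_sub, sub_mul, map_sub]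
      ring
  have hE0 : E 0 = t := by
    refine ht _ ?_
    exact hνm 0
  have hσE : ∀ i m, σ i (E m) = E (m + s i) := by
    intro i m
    have h := hext (σ i * ρ (νm m)) (ρ (νm m + Pi.single i 1)) (fun j => ?_) t
    · rw [AlgEquiv.mul_apply] at h
      rw [show σ i (E m) = ρ (νm m + Pi.single i 1) t from h, hdep]
      congr 1
      simp only [Pi.add_apply, add_mul, Finset.sum_add_distrib, hνm]
      congr 1
      rw [Finset.sum_eq_single i (fun j _ hj => by simp [Pi.single_eq_of_ne hj]) (by simp)]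
      simp
    · rw [AlgEquiv.mul_apply, hρ, hρ, map_add, AlgEquiv.commutes, hσ, Pi.add_apply, map_add ψ, add_mul, map_add]
      rcases eq_or_ne i j with rfl | hij
      · simp; ring
      · simp [hij, Pi.single_eq_of_ne (Ne.symm hij)]
  have hσz : ∀ i, σ i z = z + algebraMap R A (c i * δ) := by
    intro i
    have h := hext (σ i) (ρ (Pi.single i 1)) (fun j => ?_) z
    · rw [h, hρz, Finset.sum_eq_single i (fun j _ hj => by simp [Pi.single_eq_of_ne hj]) (by simp)]
      simp [hc]
    · rw [hρ, hσ]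
      rcases eq_or_ne i j with rfl | hij
      · simp
      · simp [hij, Pi.single_eq_of_ne (Ne.symm hij)]
  let δA : A := algebraMap R A δ
  let P : Polynomial A := ∑ m : ZMod p, (Polynomial.C (δA ^ (p - 1)) -
    (Polynomial.X - Polynomial.C (z + algebraMap R A (ψ m * δ))) ^ (p - 1)) * Polynomial.C (E m)
  have hPfix : ∀ i, P.map (σ i : A →+* A) = P := by
    intro i
    rw [Polynomial.map_sum]
    refine Fintype.sum_equiv (Equiv.addRight (s i)) _ _ fun m => ?_
    have h1 : σ i (z + algebraMap R A (ψ m * δ)) = z + algebraMap R A (ψ (m + s i) * δ) := by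
      rw [map_add, hσz, AlgEquiv.commutes, map_add ψ, add_mul, map_add, ← hc]; ring
    simp only [Polynomial.map_mul, Polynomial.map_sub, Polynomial.map_pow, Polynomial.map_C, Polynomial.map_X,
      RingHom.coe_coe, map_pow, hσE, h1, Equiv.coe_addRight, δA, AlgEquiv.commutes]
  have hcoeff : ∀ l, P.coeff l ∈ Set.range (algebraMap R A) := fun l =>
    hfixed _ (fun i => by
      have := congrArg (fun q => Polynomial.coeff q l) (hPfix i)
      simpa [Polynomial.coeff_map] using this)
  have hlifts : P ∈ Polynomial.lifts (algebraMap R A) := (Polynomial.lifts_iff_coeff_lifts _).2 hcoeff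
  obtain ⟨Q, hQ⟩ := (Polynomial.mem_lifts _).1 hlifts
  have hval : δA ^ (p - 1) * t = Polynomial.aeval z Q := by
    rw [Polynomial.aeval_def, Polynomial.eval₂_eq_eval_map, hQ]
    simp only [P, Polynomial.eval_finsetSum, Polynomial.eval_mul, Polynomial.eval_sub, Polynomial.eval_pow,
      Polynomial.eval_C, Polynomial.eval_X, sub_add_cancel_left]
    rw [Finset.sum_eq_single 0]
    · simp [hE0, zero_pow (show p - 1 ≠ 0 by have := hp.one_lt; omega)]
    · intro m _ hm
      rw [show -algebraMap R A (ψ m * δ) = algebraMap R A (ψ (-m) * δ) by rw [map_neg ψ, neg_mul, map_neg],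
        show algebraMap R A (ψ (-m) * δ) ^ (p - 1) = δA ^ (p - 1) by
          rw [map_mul, mul_pow, ← map_pow, ← map_pow ψ, ZMod.pow_card_sub_one_eq_one (neg_ne_zero.2 hm),
            map_one, map_one, one_mul]]
      simp [δA]
    · simp
  obtain ⟨h1, h2⟩ := hmod Q
  set g := Q %ₘ f
  have hdiv : ∀ l, δ ^ (p - 1) ∣ g.coeff l := by
    intro l
    rcases Nat.lt_or_ge l p with hl | hl
    swap
    · rw [Polynomial.coeff_eq_zero_of_natDegree_lt (lt_of_lt_of_le h2 hl)]; exact dvd_zero _
    have hrel : ∀ i : {i // i ∈ S}, δ ^ (p - 1) ∣ g.coeff l * αi i.1 ^ l := by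
      rintro ⟨i, hi⟩
      have hu : IsUnit (c i ^ l) := by
        rw [hc, ← map_pow]
        exact ((isUnit_iff_ne_zero.2 (by simpa [S] using hi)).pow l).map ψ
      rw [← hu.dvd_mul_right, mul_assoc, mul_comm (αi i ^ l), ← mul_pow, ← hrepr g h2 ⟨l, hl⟩ i, h1, ← hval,
        show δA ^ (p - 1) * t = (δ ^ (p - 1)) • t by rw [Algebra.smul_def, map_pow], map_smul,
        Finsupp.smul_apply, smul_eq_mul]
      exact dvd_mul_right _ _
    refine dvd_of_dvd_mul_forall _ (fun q hq => ?_) _ (pow_ne_zero _ hδ0) _ hrel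
    by_contra! hall
    have hall' : ∀ i ∈ S, q ∣ ∏ j ∈ S.erase i, a j := fun i hi => hαidef i ▸ hq.dvd_of_dvd_pow (hall ⟨i, hi⟩)
    obtain ⟨j, hj, hqj⟩ := (Prime.dvd_finsetProd_iff hq a).1 (hall' i₀ (by simp [S, hi₀]))
    obtain ⟨l', hl', hql⟩ := (Prime.dvd_finsetProd_iff hq a).1 (hall' j (Finset.mem_of_mem_erase hj))
    exact hq.not_isUnit (hcop l' j (Finset.ne_of_mem_erase hl') hql hqj)
  choose g' hg' using hdiv
  refine ⟨∑ l ∈ Finset.range p, Polynomial.C (g' l) * Polynomial.X ^ l, ?_⟩
  refine mul_left_cancel₀ (pow_ne_zero (p - 1) (fun h => hδ0 (hinj (h.trans (map_zero _).symm)) : δA ≠ 0)) ?_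
  show δA ^ (p - 1) * Polynomial.aeval z _ = δA ^ (p - 1) * t
  rw [hval, ← h1, Polynomial.aeval_eq_sum_range' h2 z, map_sum, Finset.mul_sum]
  refine Finset.sum_congr rfl fun l _ => ?_
  rw [map_mul, Polynomial.aeval_C, map_pow, Polynomial.aeval_X, hg', Algebra.smul_def, map_mul, map_pow, mul_assoc]


set_option maxHeartbeats 4000000 in
open MvPolynomial in
/-- Let `k` be a field of characteristic `p > 0`, `n ≥ 2`, `R = k[[x_1, …, x_n]]`, `a_1, …, a_n ∈ R`
with zero constant term and pairwise coprime, `μ ∈ R` nonzero and coprime to each `a_i`, `A = R[u_1,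
…, u_n] / (u_i ^ p - (μ a_i) ^ (p-1) u_i - x_i : i = 1..n)`, and `σ_1, …, σ_n` the `R`-algebra
automorphisms of `A` with `σ_i u_j = u_j + δ_{ij} μ a_i` (they generate an elementary abelian group
`H` of order `p ^ n`). For a nonzero vector `s ∈ (ℤ/p)^n` let `H_s = {ν : Σ ν_i s_i = 0}`, `α =
∏_{s_i ≠ 0} a_i`, `α_i = ∏_{j ≠ i, s_j ≠ 0} a_j`, `z_s = Σ_{s_i ≠ 0} s_i α_i u_i` and `f_s(T) = T ^
p - (μ α) ^ (p-1) T - Σ_{s_i ≠ 0} s_i α_i ^ p x_i`. Then an element of `A` is fixed by `∏_i σ_i ^
{ν_i}` for every `ν ∈ H_s` if and only if it is a polynomial over `R` in `z_s`, and the kernel of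
`R[T] → A`, `T ↦ z_s`, is generated by `f_s`: the ring of invariants of `H_s` is `R[T]/(f_s)`, in
particular free of rank `p` over `R`. -/
theorem result
    (p : ℕ) [Fact p.Prime] (k : Type u) [Field k] [CharP k p] (n : ℕ) (hn : 2 ≤ n)
    (a : Fin n → MvPowerSeries (Fin n) k) (μ : MvPowerSeries (Fin n) k)
    (ham : ∀ i, MvPowerSeries.constantCoeff (a i) = 0) (hcop : ∀ i j, i ≠ j → IsRelPrime (a i) (a j))
    (hμ : μ ≠ 0) (hμa : ∀ i, IsRelPrime μ (a i))
    (s : Fin n → ZMod p) (hs : s ≠ 0) :
    let R := MvPowerSeries (Fin n) k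
    let I : Ideal (MvPolynomial (Fin n) R) :=
      Ideal.span (Set.range fun i : Fin n =>
        X i ^ p - C ((μ * a i) ^ (p - 1)) * X i - C (MvPowerSeries.X i))
    let A := MvPolynomial (Fin n) R ⧸ I
    let u : Fin n → A := fun i => Ideal.Quotient.mk I (X i)
    let c : Fin n → R := fun i => algebraMap k R (ZMod.castHom (dvd_refl p) k (s i))
    let α : R := ∏ i ∈ Finset.univ.filter (fun i => s i ≠ 0), a i
    let αi : Fin n → R := fun i => ∏ j ∈ (Finset.univ.filter (fun j => s j ≠ 0)).erase i, a j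
    let z : A := ∑ i ∈ Finset.univ.filter (fun i => s i ≠ 0), algebraMap R A (c i * αi i) * u i
    let f : Polynomial R := Polynomial.X ^ p - Polynomial.C ((μ * α) ^ (p - 1)) * Polynomial.X
      - Polynomial.C (∑ i ∈ Finset.univ.filter (fun i => s i ≠ 0), c i * αi i ^ p * MvPowerSeries.X i)
    ∀ σ : Fin n → (A ≃ₐ[R] A),
      (∀ i j, σ i (u j) = u j + (if i = j then algebraMap R A (μ * a i) else 0)) →
      (∀ t : A, (∀ ν : Fin n → ZMod p, ∑ i, ν i * s i = 0 →
          (List.ofFn (fun i : Fin n => σ i ^ (ν i).val)).prod t = t) ↔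
        t ∈ (Polynomial.aeval z : Polynomial R →ₐ[R] A).range) ∧
      RingHom.ker (Polynomial.aeval z : Polynomial R →ₐ[R] A) = Ideal.span {f} := by
  intro R I
  classical
  have hI : I = monicIdeal (asPoly p (fun i => μ * a i) MvPowerSeries.X) :=
    (monicIdeal_asPoly p (fun i => μ * a i) MvPowerSeries.X).symm
  clear_value I
  subst hI
  intro A u c α αi z f σ hσ
  have hb0 : ∀ i, MvPowerSeries.constantCoeff (μ * a i) = 0 := fun i => by rw [map_mul, ham, mul_zero]
  haveI := isDomain_PS (p := p) (fun i => μ * a i) hb0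
  haveI : IsRegularLocalRing R := isRegularLocalRing (k := k) n
  haveI : IsDomain R := RegLocal.isDomain R
  haveI : UniqueFactorizationMonoid R := RegLocal.ufd R
  haveI : CharP R p := charP_of_injective_ringHom (MvPowerSeries.C_injective (σ := Fin n) (R := k)) p
  haveI := charP_AS (p := p) (fun i => μ * a i) (MvPowerSeries.X : Fin n → R)
  have ha0 : ∀ i, a i ≠ 0 := by
    intro i hi
    obtain ⟨j, hj⟩ : ∃ j : Fin n, j ≠ i := by
      haveI : Nontrivial (Fin n) := Fin.nontrivial_iff_two_le.2 hn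
      exact exists_ne i
    have h := hcop i j hj.symm
    rw [hi, isRelPrime_zero_left] at h
    have := MvPowerSeries.isUnit_constantCoeff _ h
    rw [ham j] at this
    exact not_isUnit_zero this
  obtain ⟨b, hb⟩ := exists_basis_AS (p := p) (fun i => μ * a i) (MvPowerSeries.X : Fin n → R)
  refine main (p := p) (R := R) (A := A)
    (algebraMap_injective_AS (p := p) (fun i => μ * a i) (MvPowerSeries.X : Fin n → R))
    a μ MvPowerSeries.X ha0 hcop hμ u (fun i => gen_rel p (fun i => μ * a i) MvPowerSeries.X i) b hb ?_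
    ((algebraMap k R).comp (ZMod.castHom (dvd_refl p) k)) s hs σ hσ ?_ c (fun _ => rfl) α rfl αi (fun _ => rfl) z rfl f rfl
  · intro g g' h t
    have h' : g.toAlgHom = g'.toAlgHom := @hom_ext R _ (Fin n) (asPoly p (fun i => μ * a i) MvPowerSeries.X) A _ _
      g.toAlgHom g'.toAlgHom h
    exact DFunLike.congr_fun h' t
  · intro t ht
    exact mem_range_of_fixed (fun i => μ * a i) MvPowerSeries.X (fun i => mul_ne_zero hμ (ha0 i))
      (fun i => (σ i).toAlgHom)
      (fun i => by show σ i (u i) = _; rw [hσ, if_pos rfl]; rfl)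
      (fun i j hj => by show σ i (u j) = u j; rw [hσ, if_neg (Ne.symm hj), add_zero]) t ht

end Groth.Agent.S15810
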