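import Groth.Statements.S15811
import Mathlib

set_option autoImplicit false
universe u
open WildQuot

namespace Groth.Agent.S15811

theorem separable_aux {K : Type u} [Field K] (p : ℕ) [CharP K p] (c : K) (hc : c ≠ 0) :
    (Polynomial.X ^ p - Polynomial.C c * Polynomial.X).Separable := by
  rw [Polynomial.separable_def']
  refine ⟨0, Polynomial.C (-c⁻¹), ?_⟩
  rw [Polynomial.derivative_sub, Polynomial.derivative_X_pow, Polynomial.derivative_C_mul, Polynomial.derivative_X,
    CharP.cast_eq_zero K p, zero_mul, zero_add, mul_one, map_zero, zero_mul, zero_sub, map_neg, neg_mul_neg,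
    ← Polynomial.C_mul, inv_mul_cancel₀ hc, Polynomial.C_1]

/-- Let `R` be an integrally closed domain of prime characteristic `p` with fraction field `K`, and `α ∈
R`. Then `α ≠ 0` and the polynomial `T ^ p - α T` splits into linear factors over `K` — which says
that the finite flat group scheme `Spec R[T]/(T ^ p - α T)` of order `p` has constant generic fibre
(its `p` roots are then distinct) — if and only if `α = a ^ (p-1)` for some nonzero `a ∈ R`. (The
published statement is that the generic fibre of the finite flat group scheme of order `p` with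
parameters `α, β` satisfying `α β = 0`, whose underlying scheme is `Spec R[T]/(T ^ p - α T)`, is
constant if and only if `β = 0` and `α` is the `(p-1)`-th power of a nonzero element of `R`; this
row states the polynomial condition, in which `α ≠ 0` already forces `β = 0` over a domain.) -/
theorem result
    (p : ℕ) [Fact p.Prime] (R : Type u) [CommRing R] [IsDomain R] [IsIntegrallyClosed R]
    [CharP R p] (α : R) :
    (α ≠ 0 ∧ (Polynomial.map (algebraMap R (FractionRing R))
        (Polynomial.X ^ p - Polynomial.C α * Polynomial.X)).Splits) ↔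
      ∃ a : R, a ≠ 0 ∧ α = a ^ (p - 1) := by
  classical
  have hp : p.Prime := Fact.out
  set K := FractionRing R
  haveI : CharP K p := charP_of_injective_algebraMap (IsFractionRing.injective R K) p
  have hdeg : ∀ c : K, (Polynomial.X ^ p - Polynomial.C c * Polynomial.X).natDegree = p := fun c => by
    refine Polynomial.natDegree_eq_of_degree_eq_some ?_
    rw [Polynomial.degree_sub_eq_left_of_degree_lt] <;> rw [Polynomial.degree_X_pow]
    exact lt_of_le_of_lt ((Polynomial.degree_mul_le _ _).trans
      (add_le_add Polynomial.degree_C_le Polynomial.degree_X_le)) (by simpa using hp.one_lt)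
  rw [Polynomial.map_sub, Polynomial.map_pow, Polynomial.map_mul, Polynomial.map_X, Polynomial.map_C]
  set c := algebraMap R K α
  constructor
  · rintro ⟨hα, hs⟩
    have hc : c ≠ 0 := (map_ne_zero_iff _ (IsFractionRing.injective R K)).2 hα
    have hsep : (Polynomial.X ^ p - Polynomial.C c * Polynomial.X).Separable := separable_aux p c hc
    have hcard : (Polynomial.X ^ p - Polynomial.C c * Polynomial.X).roots.toFinset.card = p := by
      rw [Multiset.toFinset_card_of_nodup (Polynomial.nodup_roots hsep), ← hs.natDegree_eq_card_roots, hdeg]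
    obtain ⟨b, hb, hb0⟩ := Finset.exists_mem_ne (hcard.symm ▸ hp.one_lt) (0 : K)
    rw [Multiset.mem_toFinset, Polynomial.mem_roots', Polynomial.IsRoot.def] at hb
    obtain ⟨-, hb⟩ := hb
    simp only [Polynomial.eval_sub, Polynomial.eval_pow, Polynomial.eval_X, Polynomial.eval_mul, Polynomial.eval_C,
      sub_eq_zero] at hb
    have hb' : b ^ (p - 1) = c := by
      refine mul_right_cancel₀ hb0 ?_
      rw [← pow_succ, Nat.sub_add_cancel hp.one_le, hb]
    have hint : IsIntegral R b := ⟨Polynomial.X ^ (p - 1) - Polynomial.C α,
      Polynomial.monic_X_pow_sub_C α (by have := hp.two_le; omega), by simp [hb', c, sub_self]⟩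
    obtain ⟨a, ha⟩ := IsIntegrallyClosed.isIntegral_iff.1 hint
    refine ⟨a, fun h => hb0 (by rw [← ha, h, map_zero]), IsFractionRing.injective R K ?_⟩
    rw [map_pow, ha, hb']
  · rintro ⟨a, ha, rfl⟩
    refine ⟨pow_ne_zero _ ha, ?_⟩
    set a' := algebraMap R K a
    have ha' : a' ≠ 0 := (map_ne_zero_iff _ (IsFractionRing.injective R K)).2 ha
    have hroots : ∀ i : ZMod p, (ZMod.castHom (dvd_refl p) K i * a') ∈
        (Polynomial.X ^ p - Polynomial.C c * Polynomial.X).roots := fun i => by
      rw [Polynomial.mem_roots (fun h => by have := hdeg c; rw [h, Polynomial.natDegree_zero] at this; exact hp.ne_zero this.symm),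
        Polynomial.IsRoot.def]
      simp only [Polynomial.eval_sub, Polynomial.eval_pow, Polynomial.eval_X, Polynomial.eval_mul, Polynomial.eval_C]
      rw [mul_pow, ← map_pow, ZMod.pow_card, show c = a' ^ (p - 1) from map_pow _ _ _,
        show a' ^ (p - 1) * (ZMod.castHom (dvd_refl p) K i * a') = ZMod.castHom (dvd_refl p) K i * (a' ^ (p - 1) * a') by
          ring, ← pow_succ, Nat.sub_add_cancel hp.one_le, sub_self]
    refine Polynomial.splits_iff_card_roots.2 (le_antisymm (Polynomial.card_roots' _) ?_)
    rw [hdeg]
    have hinj : Function.Injective fun i : ZMod p => ZMod.castHom (dvd_refl p) K i * a' := fun i j hij =>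
      (ZMod.castHom (dvd_refl p) K).injective (mul_right_cancel₀ ha' hij)
    calc p = (Finset.univ.image fun i : ZMod p => ZMod.castHom (dvd_refl p) K i * a').card := by
          rw [Finset.card_image_of_injective _ hinj, Finset.card_univ, ZMod.card]
      _ ≤ (Polynomial.X ^ p - Polynomial.C c * Polynomial.X).roots.toFinset.card :=
          Finset.card_le_card fun x hx => by
            obtain ⟨i, -, rfl⟩ := Finset.mem_image.1 hx
            exact Multiset.mem_toFinset.2 (hroots i)
      _ ≤ _ := Multiset.toFinset_card_le _

end Groth.Agent.S15811
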