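import Groth.Statements.S15812
import Groth.Agent.PurityLib.WildProductMain

set_option autoImplicit false
universe u v w
open WildQuot

namespace Groth.Agent.S15812

/-- Let `R` be a regular local ring and `A` a normal local domain, finite over `R` (with `R → A`
injective) and with the same residue field; let a finite group `H` act faithfully on `A` by
`R`-algebra automorphisms with ring of invariants exactly `R` (so `Frac(A)/Frac(R)` is Galois with
group `H`); assume `H` is commutative of order `p ^ n` (`p` prime) and let `G_1, …, G_n ≤ H` be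
subgroups of order `p` generating `H`, each the inertia subgroup of some height-one prime of `A`,
such that every nontrivial inertia subgroup of a height-one prime of `A` is one of the `G_i`. Put
`G_i^⊥ =` the subgroup generated by the `G_j` with `j ≠ i`, and assume each invariant ring
`A^{G_i^⊥}` is a free `R`-module (the published statement asks them to be Cohen–Macaulay, which for
a finite algebra over the regular local ring `R` is the same). Then the subalgebras `A^{G_1^⊥}, …,
A^{G_n^⊥}` generate `A` over `R`. (The published conclusion is that the product map `A^{G_1^⊥} ⊗_R ⋯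
⊗_R A^{G_n^⊥} → A` is an isomorphism; as each factor is then free of rank `p` and `A` has rank `p ^
n` over `R`, that is equivalent to the generation statement given here. The published statement is
for `A` a complete regular local ring with an action ramified precisely at the origin, `R = k[[x_1,
…, x_n]]` a norm subring and `H` the Galois group of `Frac(A)/Frac(R)`, when that extension is
Galois; this row assumes only the hypotheses listed above.) -/
theorem result
    (p : ℕ) [Fact p.Prime] (R : Type u) [CommRing R] [IsRegularLocalRing R]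
    (A : Type v) [CommRing A] [IsDomain A] [IsIntegrallyClosed A] [IsLocalRing A]
    [Algebra R A] [Module.Finite R A] (hinj : Function.Injective (algebraMap R A))
    (hres : Function.Surjective (IsLocalRing.residue A ∘ algebraMap R A))
    (H : Type w) [Group H] [Finite H] [MulSemiringAction H A] [SMulCommClass H R A] [FaithfulSMul H A]
    (hfix : ∀ a : A, (∀ h : H, h • a = a) → a ∈ Set.range (algebraMap R A))
    (hcomm : ∀ g h : H, g * h = h * g)
    (n : ℕ) (hcard : Nat.card H = p ^ n) (Gi : Fin n → Subgroup H)
    (hGi : ∀ i, Nat.card (Gi i) = p) (hsup : (⨆ i, Gi i) = ⊤)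
    (hinert : ∀ i, ∃ P : Ideal A, P.IsPrime ∧ P.height = 1 ∧ P.inertia H = Gi i)
    (hMR3 : ∀ P : Ideal A, P.IsPrime → P.height = 1 → P.inertia H ≠ ⊥ → ∃ i, P.inertia H = Gi i)
    (hMR4 : ∀ i, Module.Free R
      (FixedPoints.subalgebra R A ↥(⨆ j ∈ (Finset.univ.erase i : Finset (Fin n)), Gi j : Subgroup H))) :
    (⨆ i, FixedPoints.subalgebra R A ↥(⨆ j ∈ (Finset.univ.erase i : Finset (Fin n)), Gi j : Subgroup H)) = ⊤ := by
  let R' := (algebraMap R A).range
  let e : R ≃+* R' := RingEquiv.ofBijective (algebraMap R A).rangeRestrict
    ⟨fun x y h => hinj (congrArg Subtype.val h), (algebraMap R A).rangeRestrict_surjective⟩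
  haveI : IsRegularLocalRing R' := IsRegularLocalRing.of_ringEquiv e
  letI : Algebra R R' := (algebraMap R A).rangeRestrict.toAlgebra
  haveI : IsScalarTower R R' A := IsScalarTower.of_algebraMap_eq fun _ => rfl
  haveI : Module.Finite R' A := Module.Finite.of_restrictScalars_finite R R' A
  haveI : SMulCommClass H R' A := ⟨fun h r a => by
    obtain ⟨_, x, rfl⟩ := r
    show h • (algebraMap R A x * a) = algebraMap R A x * h • a
    rw [← Algebra.smul_def, ← Algebra.smul_def, smul_comm]⟩
  have hfix' : ∀ a : A, (∀ h : H, h • a = a) → a ∈ Set.range (algebraMap R' A) := fun a ha => by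
    obtain ⟨r, hr⟩ := hfix a ha
    exact ⟨⟨algebraMap R A r, r, rfl⟩, hr⟩
  let K : Fin n → Subgroup H := fun i => ⨆ j ∈ (Finset.univ.erase i : Finset (Fin n)), Gi j
  have hfree : ∀ i, Module.Free R' (FixedPoints.subalgebra R' A ↥(K i)) := fun i => by
    haveI : Module.Free R (FixedPoints.subalgebra R A ↥(K i)) := hMR4 i
    let g : FixedPoints.subalgebra R A ↥(K i) ≃+ FixedPoints.subalgebra R' A ↥(K i) :=
      { toFun := fun z => ⟨z.1, z.2⟩, invFun := fun z => ⟨z.1, z.2⟩, left_inv := fun _ => rfl,
        right_inv := fun _ => rfl, map_add' := fun _ _ => rfl }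
    haveI := RingHomInvPair.of_ringEquiv e
    haveI : RingHomInvPair (e.symm : R' →+* R) (e : R →+* R') := RingHomInvPair.of_ringEquiv e.symm
    exact Module.Free.of_equiv (σ := (e : R →+* R')) (σ' := (e.symm : R' →+* R))
      ({ g with map_smul' := fun r z => Subtype.ext (Algebra.smul_def r (z : A)) } :
        FixedPoints.subalgebra R A ↥(K i) ≃ₛₗ[(e : R →+* R')] FixedPoints.subalgebra R' A ↥(K i))
  have h := Groth.Agent.PurityLib.iSup_fixed_eq_top (R := R') (A := A) (fun x y hxy => Subtype.ext hxy) hfix' hcomm p n
    hcard Gi hGi hsup hMR3 hfree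
  refine top_le_iff.1 fun z _ => ?_
  let S0 := ⨆ i, FixedPoints.subalgebra R A ↥(K i)
  let S' : Subalgebra R' A :=
    { S0.toSubsemiring with
      algebraMap_mem' := fun r => by
        obtain ⟨_, x, rfl⟩ := r
        exact S0.algebraMap_mem x }
  have hle : (⨆ i, FixedPoints.subalgebra R' A ↥(K i)) ≤ S' := iSup_le fun i a ha =>
    (le_iSup (fun i => FixedPoints.subalgebra R A ↥(K i)) i) (show a ∈ FixedPoints.subalgebra R A ↥(K i) from ha)
  exact hle (h.ge (Algebra.mem_top (x := z)))

end Groth.Agent.S15812
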