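import Groth.Statements.S15813
import Groth.Agent.WildQuotLib.Break
open Groth.Agent.WildQuotLib

set_option autoImplicit false
universe u
open WildQuot

namespace Groth.Agent.S15813

/-- Let `k` be a field of characteristic `p > 0`, `A = k[[u]]`, and `σ` a `k`-algebra automorphism of
`A` of order exactly `p`, with ramification break `m`: `σ u - u` has order `m + 1`. Let `x = ∏_{i <
p} σ^i u` be the norm of `u`, let `f ∈ A` be `σ`-invariant with nonzero constant term (a unit of the
invariant ring `k[[x]]`), let `μ > 0` be prime to `p`, and let `z ∈ Frac(A)` satisfy the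
Artin–Schreier equation `z ^ p - z = f / x ^ μ`. Then `μ = m`. (The published statement also records
that `Frac(A) = Frac(A^σ)(z)`; that follows from the equation since `p` does not divide `μ`, so it
is not repeated as a hypothesis.) -/
theorem result
    (p : ℕ) [Fact p.Prime] (k : Type u) [Field k] [CharP k p]
    (σ : PowerSeries k ≃ₐ[k] PowerSeries k) (hσp : σ ^ p = 1) (hσ1 : σ ≠ 1)
    (m : ℕ) (hm : (σ PowerSeries.X - PowerSeries.X).order = ((m + 1 : ℕ) : ℕ∞))
    (f : PowerSeries k) (hfσ : σ f = f) (hf0 : PowerSeries.constantCoeff f ≠ 0)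
    (μ : ℕ) (hμ : 0 < μ) (hpμ : ¬ p ∣ μ)
    (z : FractionRing (PowerSeries k))
    (hz : z ^ p - z = algebraMap (PowerSeries k) (FractionRing (PowerSeries k)) f /
      algebraMap (PowerSeries k) (FractionRing (PowerSeries k))
        (∏ i ∈ Finset.range p, (σ ^ i) PowerSeries.X) ^ μ) :
    μ = m := by
  classical
  obtain ⟨hxfix, hxord⟩ := norm_X σ hσp hm
  set x := ∏ i ∈ Finset.range p, (σ ^ i) PowerSeries.X with hxdef
  have hp := (Fact.out : p.Prime)
  obtain ⟨q, hq⟩ : ∃ q, p = q + 1 := ⟨p - 1, by have := hp.one_lt; omega⟩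
  let K := FractionRing (PowerSeries k)
  have hx0 : x ≠ 0 := fun h => by simp [h] at hxord
  have hxK : algebraMap (PowerSeries k) K x ≠ 0 :=
    fun h => hx0 (IsFractionRing.injective _ K (h.trans (map_zero _).symm))
  set X' := algebraMap (PowerSeries k) K x ^ μ with hX'
  have hX'0 : X' ≠ 0 := pow_ne_zero _ hxK
  have hz' : z ^ p * X' - z * X' = algebraMap (PowerSeries k) K f := by
    rw [← sub_mul, hz, div_mul_cancel₀ _ hX'0]
  set W := z * X'
  have hW : W ^ p - X' ^ q * W = algebraMap (PowerSeries k) K f * X' ^ q := by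
    rw [← hz']
    simp only [W, hq, pow_succ]
    ring
  have hint : IsIntegral (PowerSeries k) W := by
    refine ⟨Polynomial.X ^ p - (Polynomial.C ((x ^ μ) ^ q) * Polynomial.X + Polynomial.C (f * (x ^ μ) ^ q)),
      Polynomial.monic_X_pow_sub (lt_of_le_of_lt (Polynomial.degree_add_le _ _) (max_lt ?_ ?_)), ?_⟩
    · exact lt_of_le_of_lt ((Polynomial.degree_mul_le _ _).trans (add_le_add Polynomial.degree_C_le Polynomial.degree_X_le))
        (by simpa using hp.one_lt)
    · exact lt_of_le_of_lt Polynomial.degree_C_le (by simpa using hp.pos)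
    · simp only [Polynomial.eval₂_sub, Polynomial.eval₂_pow, Polynomial.eval₂_X, Polynomial.eval₂_add, Polynomial.eval₂_mul,
        Polynomial.eval₂_C, map_mul, map_pow]
      rw [sub_eq_zero]
      linear_combination hW
  obtain ⟨w, hw⟩ := IsIntegrallyClosed.isIntegral_iff.1 hint
  have heq : w ^ p - (x ^ μ) ^ q * w = f * (x ^ μ) ^ q := by
    refine IsFractionRing.injective (PowerSeries k) K ?_
    simp only [map_sub, map_mul, map_pow]
    erw [hw]
    exact hW
  have hf : f.order = ((0 : ℕ) : ℕ∞) := by
    have := order_X_pow_mul (k := k) (o := 0) hf0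
    simpa using this
  have hxq : ((x ^ μ) ^ q).order = ((q * (μ * p) : ℕ) : ℕ∞) := by
    rw [PowerSeries.order_pow, PowerSeries.order_pow, hxord, nsmul_eq_mul, nsmul_eq_mul]
    push_cast; rfl
  have hrhs : (f * (x ^ μ) ^ q).order = ((q * (μ * p) : ℕ) : ℕ∞) := by
    rw [PowerSeries.order_mul, hf, hxq]; simp
  have hw0 : w ≠ 0 := fun h => by
    rw [h, zero_pow hp.ne_zero, mul_zero, sub_zero] at heq
    rw [← heq, PowerSeries.order_zero] at hrhs
    exact ENat.top_ne_coe _ hrhs
  obtain ⟨o, ho⟩ : ∃ o : ℕ, w.order = (o : ℕ∞) := ⟨_, (PowerSeries.coe_toNat_order hw0).symm⟩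
  have h1 : (w ^ p).order = ((p * o : ℕ) : ℕ∞) := by rw [PowerSeries.order_pow, ho, nsmul_eq_mul]; push_cast; rfl
  have h2 : (-((x ^ μ) ^ q * w)).order = ((q * (μ * p) + o : ℕ) : ℕ∞) := by
    rw [PowerSeries.order_neg, PowerSeries.order_mul, hxq, ho]; push_cast; rfl
  have hoq : o = q * μ := by
    have hqp : 1 ≤ q := by have := hp.two_le; omega
    by_cases hne : p * o = q * (μ * p) + o
    · exfalso
      have hle : ((p * o : ℕ) : ℕ∞) ≤ (w ^ p + -((x ^ μ) ^ q * w)).order := by
        refine le_trans ?_ (PowerSeries.min_order_le_order_add _ _)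
        rw [h1, h2, ← hne, min_self]
      rw [← sub_eq_add_neg, heq, hrhs, hne] at hle
      have hle' : q * (μ * p) + o ≤ q * (μ * p) := by exact_mod_cast hle
      have : 0 < q * (μ * p) := Nat.mul_pos hqp (Nat.mul_pos hμ hp.pos)
      obtain rfl : o = 0 := by omega
      simp at hne
      omega
    · have hne' : (w ^ p).order ≠ (-((x ^ μ) ^ q * w)).order := by
        rw [h1, h2]; exact_mod_cast hne
      have h3 := PowerSeries.order_add_of_order_ne _ _ hne'
      rw [← sub_eq_add_neg, heq, hrhs, h1, h2] at h3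
      have h4 : q * (μ * p) = min (p * o) (q * (μ * p) + o) := by
        rcases le_total (p * o) (q * (μ * p) + o) with hle | hle
        · rw [min_eq_left (Nat.cast_le.2 hle)] at h3
          rw [min_eq_left hle]; exact_mod_cast h3
        · rw [min_eq_right (Nat.cast_le.2 hle)] at h3
          rw [min_eq_right hle]; exact_mod_cast h3
      rcases le_total (p * o) (q * (μ * p) + o) with hle | hle
      · rw [min_eq_left hle, ← mul_assoc, mul_comm (q * μ) p] at h4
        exact (Nat.eq_of_mul_eq_mul_left hp.pos h4).symm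
      · rw [min_eq_right hle] at h4
        obtain rfl : o = 0 := by omega
        have : 0 < q * (μ * p) := Nat.mul_pos hqp (Nat.mul_pos hμ hp.pos)
        simp at hle
        omega
  have hpo : ¬ p ∣ o := by
    rw [hoq]
    intro h
    rcases (hp.dvd_mul).1 h with h | h
    · have h5 := Nat.le_of_dvd (by have := hp.two_le; omega) h; omega
    · exact hpμ h
  haveI : CharP (PowerSeries k) p := charP_of_injective_ringHom (PowerSeries.C_injective (R := k)) p
  have hord := (order_sub σ hσp hm ho).2 hpo
  have h5 : (σ w - w) ^ p = (x ^ μ) ^ q * (σ w - w) := by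
    have h6 := congrArg σ heq
    simp only [map_sub, map_mul, map_pow, hfσ, hxfix] at h6
    rw [sub_pow_char]
    linear_combination h6 - heq
  have h7 := congrArg PowerSeries.order h5
  rw [PowerSeries.order_mul, PowerSeries.order_pow, hord, hxq, nsmul_eq_mul] at h7
  have h8 : p * (o + m) = q * (μ * p) + (o + m) := by exact_mod_cast h7
  rw [hq, hoq] at h8
  have hqp : 0 < q := by have := hp.two_le; omega
  have h9 : q * (q * μ + m) = q * (μ * (q + 1)) := by nlinarith
  have h10 := Nat.eq_of_mul_eq_mul_left hqp h9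
  nlinarith

end Groth.Agent.S15813
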