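import Groth.Statements.S15817
import Mathlib

set_option autoImplicit false
universe u v
open CategoryTheory
open CAlg

namespace Groth.Agent.S15817
open CategoryTheory.Limits

/-- Let A be a commutative ring, M an A-module and P, Q submodules of M. Then the commuting square of
quotient projections with corners M/(P ∩ Q), M/P, M/Q and M/(P + Q) is cartesian in the category of
A-modules: M/(P ∩ Q) is the fibre product of M/P and M/Q over M/(P + Q). -/
theorem result (A : Type u) [CommRing A] (M : Type v) [AddCommGroup M] [Module A M]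
    (P Q : Submodule A M) :
    IsPullback (ModuleCat.ofHom (Submodule.factor (inf_le_left : P ⊓ Q ≤ P)))
      (ModuleCat.ofHom (Submodule.factor (inf_le_right : P ⊓ Q ≤ Q)))
      (ModuleCat.ofHom (Submodule.factor (le_sup_left : P ≤ P ⊔ Q)))
      (ModuleCat.ofHom (Submodule.factor (le_sup_right : Q ≤ P ⊔ Q))) := by
  refine IsPullback.of_map (forget (ModuleCat.{v} A)) ?_ ((Types.isPullback_iff _ _ _ _).mpr ⟨?_, ?_, ?_⟩)
  · ext x
    rfl
  · ext x
    obtain ⟨x, rfl⟩ := Submodule.Quotient.mk_surjective (P ⊓ Q) x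
    rfl
  · intro x y h
    obtain ⟨x, rfl⟩ := Submodule.Quotient.mk_surjective (P ⊓ Q) x
    obtain ⟨y, rfl⟩ := Submodule.Quotient.mk_surjective (P ⊓ Q) y
    exact (Submodule.Quotient.eq _).mpr ⟨(Submodule.Quotient.eq P).mp h.1, (Submodule.Quotient.eq Q).mp h.2⟩
  · intro x y h
    obtain ⟨x, rfl⟩ := Submodule.Quotient.mk_surjective P x
    obtain ⟨y, rfl⟩ := Submodule.Quotient.mk_surjective Q y
    obtain ⟨a, ha, b, hb, hab⟩ := Submodule.mem_sup.mp ((Submodule.Quotient.eq (P ⊔ Q)).mp h)
    refine ⟨Submodule.Quotient.mk (x - a), (Submodule.Quotient.eq P).mpr ?_, (Submodule.Quotient.eq Q).mpr ?_⟩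
    · show x - a - x ∈ P
      rw [sub_sub_cancel_left]; exact neg_mem ha
    · show x - a - y ∈ Q
      replace hab : a + b = x - y := hab
      rw [show x - a - y = (x - y) - a by abel, ← hab, add_sub_cancel_left]; exact hb

end Groth.Agent.S15817
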