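import Groth.Statements.S15818
import Mathlib
open scoped Pointwise
-- import your own Groth.Agent.* helpers here

set_option autoImplicit false
universe u
open CategoryTheory
open Koszul

namespace Groth.Agent.S15818

/-- Let A be a commutative ring, f = (f_1, …, f_n) a finite sequence in A with Koszul complex K = K(f)
(mapping-cone model) and differentials ∂, q an integer, Z = Ker(∂^q) and B = Im(∂^{q-1}), so B ⊆ Z
inside K^q (this inclusion is carried as the hypothesis hBZ). Let x be a non-zero-divisor of A which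
moreover acts injectively on the cohomology module Z/B (for Noetherian A this says that x lies in no
associated prime of Z/B, which is how the published statement phrases it; the published argument
uses exactly the injectivity). Then the commuting square of quotient projections with corners Z/xB
(top left; it is isomorphic to the q-th cohomology of the Koszul complex of (x f_1, …, x f_n)), Z/xZ
= Z ⊗ A/(x) (top right), Z/B (bottom left) and Z/(B + xZ) = (Z/B) ⊗ A/(x) (bottom right) is
cartesian in the category of A-modules. All four corners are written as quotients of Z by the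
preimages of the submodules xB, xZ, B, B + xZ of K^q. -/
theorem result (A : Type u) [CommRing A] (l : List A) (q : ℤ)
    (K : CochainComplex (ModuleCat.{u} A) ℤ) (hK : K = Koszul.koszul A l)
    (hBZ : LinearMap.range (K.d (q - 1) q).hom ≤ LinearMap.ker (K.d q (q + 1)).hom)
    (x : A) (hx : x ∈ nonZeroDivisors A)
    (hxH : IsSMulRegular (↥(LinearMap.ker (K.d q (q + 1)).hom) ⧸ Submodule.comap (LinearMap.ker (K.d q (q + 1)).hom).subtype (LinearMap.range (K.d (q - 1) q).hom)) x) :
    IsPullback
      (ModuleCat.ofHom (Submodule.factor (Submodule.comap_mono (Submodule.smul_mono le_rfl hBZ) :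
        Submodule.comap (LinearMap.ker (K.d q (q + 1)).hom).subtype (Ideal.span {x} • LinearMap.range (K.d (q - 1) q).hom) ≤
          Submodule.comap (LinearMap.ker (K.d q (q + 1)).hom).subtype (Ideal.span {x} • LinearMap.ker (K.d q (q + 1)).hom))))
      (ModuleCat.ofHom (Submodule.factor (Submodule.comap_mono (Submodule.smul_le_right) :
        Submodule.comap (LinearMap.ker (K.d q (q + 1)).hom).subtype (Ideal.span {x} • LinearMap.range (K.d (q - 1) q).hom) ≤
          Submodule.comap (LinearMap.ker (K.d q (q + 1)).hom).subtype (LinearMap.range (K.d (q - 1) q).hom))))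
      (ModuleCat.ofHom (Submodule.factor (Submodule.comap_mono le_sup_right :
        Submodule.comap (LinearMap.ker (K.d q (q + 1)).hom).subtype (Ideal.span {x} • LinearMap.ker (K.d q (q + 1)).hom) ≤
          Submodule.comap (LinearMap.ker (K.d q (q + 1)).hom).subtype (LinearMap.range (K.d (q - 1) q).hom ⊔ Ideal.span {x} • LinearMap.ker (K.d q (q + 1)).hom))))
      (ModuleCat.ofHom (Submodule.factor (Submodule.comap_mono le_sup_left :
        Submodule.comap (LinearMap.ker (K.d q (q + 1)).hom).subtype (LinearMap.range (K.d (q - 1) q).hom) ≤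
          Submodule.comap (LinearMap.ker (K.d q (q + 1)).hom).subtype (LinearMap.range (K.d (q - 1) q).hom ⊔ Ideal.span {x} • LinearMap.ker (K.d q (q + 1)).hom)))) := by
  have general : ∀ {W P Q R : Type u} [AddCommGroup W] [AddCommGroup P] [AddCommGroup Q] [AddCommGroup R]
      [Module A W] [Module A P] [Module A Q] [Module A R] (f : W →ₗ[A] P) (g : W →ₗ[A] Q) (h : P →ₗ[A] R) (k : Q →ₗ[A] R),
      h ∘ₗ f = k ∘ₗ g → (∀ w, f w = 0 → g w = 0 → w = 0) → (∀ a b, h a = k b → ∃ w, f w = a ∧ g w = b) →
      IsPullback (ModuleCat.ofHom f) (ModuleCat.ofHom g) (ModuleCat.ofHom h) (ModuleCat.ofHom k) := by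
    intro W P Q R _ _ _ _ _ _ _ _ f g h k hc hinj hsur
    have hι : Function.Injective (f.prod g) := by
      rw [injective_iff_map_eq_zero]
      intro w hw
      exact hinj w (congrArg Prod.fst hw) (congrArg Prod.snd hw)
    refine IsPullback.mk' (ModuleCat.hom_ext hc) (fun T φ ψ h1 h2 => ModuleCat.hom_ext (LinearMap.ext fun t => hι ?_))
      (fun T a b hab => ?_)
    · exact Prod.ext (congrArg (fun m => m.hom t) h1) (congrArg (fun m => m.hom t) h2)
    · have hmem : ∀ t, (a.hom.prod b.hom) t ∈ LinearMap.range (f.prod g) := fun t => by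
        obtain ⟨w, hw1, hw2⟩ := hsur (a.hom t) (b.hom t) (congrArg (fun m => m.hom t) hab)
        exact ⟨w, Prod.ext hw1 hw2⟩
      let l := (LinearEquiv.ofInjective (f.prod g) hι).symm.toLinearMap ∘ₗ LinearMap.codRestrict _ (a.hom.prod b.hom) hmem
      have hl : ∀ t, (f.prod g) (l t) = (a.hom t, b.hom t) := fun t =>
        congrArg Subtype.val ((LinearEquiv.ofInjective (f.prod g) hι).apply_symm_apply _)
      exact ⟨ModuleCat.ofHom l, ModuleCat.hom_ext (LinearMap.ext fun t => congrArg Prod.fst (hl t)),
        ModuleCat.hom_ext (LinearMap.ext fun t => congrArg Prod.snd (hl t))⟩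
  let Z := LinearMap.ker (K.d q (q + 1)).hom
  let B := LinearMap.range (K.d (q - 1) q).hom
  have hmem : ∀ (N : Submodule A (K.X q)) (z : K.X q), z ∈ Ideal.span {x} • N ↔ ∃ n ∈ N, x • n = z := by
    intro N z
    rw [Submodule.ideal_span_singleton_smul, Submodule.mem_smul_pointwise_iff_exists]
  refine general _ _ _ _ ?_ ?_ ?_
  · refine LinearMap.ext fun w => ?_
    obtain ⟨w, rfl⟩ := Submodule.Quotient.mk_surjective _ w
    rfl
  · intro w h1 h2
    obtain ⟨w, rfl⟩ := Submodule.Quotient.mk_surjective _ w
    rw [Submodule.Quotient.mk_eq_zero]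
    have h1a : w ∈ (Ideal.span {x} • Z).comap Z.subtype := (Submodule.Quotient.mk_eq_zero _).1 h1
    have h2a : w ∈ B.comap Z.subtype := (Submodule.Quotient.mk_eq_zero _).1 h2
    have h1' : w.1 ∈ Ideal.span {x} • Z := h1a
    have h2' : w.1 ∈ B := h2a
    obtain ⟨z, hz, hzw⟩ := (hmem _ _).1 h1'
    show w.1 ∈ Ideal.span {x} • B
    refine (hmem _ _).2 ⟨z, ?_, hzw⟩
    have : x • (Submodule.Quotient.mk (⟨z, hz⟩ : Z) : Z ⧸ B.comap Z.subtype) = 0 := by
      rw [← Submodule.Quotient.mk_smul, Submodule.Quotient.mk_eq_zero]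
      show x • z ∈ B
      rw [hzw]
      exact h2'
    have h3 : (⟨z, hz⟩ : Z) ∈ B.comap Z.subtype := (Submodule.Quotient.mk_eq_zero _).1 (hxH.right_eq_zero_of_smul this)
    exact h3
  · intro a b hab
    obtain ⟨a, rfl⟩ := Submodule.Quotient.mk_surjective _ a
    obtain ⟨b, rfl⟩ := Submodule.Quotient.mk_surjective _ b
    have ha : a - b ∈ (B ⊔ Ideal.span {x} • Z).comap Z.subtype := (Submodule.Quotient.eq _).1 hab
    have h : a.1 - b.1 ∈ B ⊔ Ideal.span {x} • Z := ha
    obtain ⟨c, hc, d, hd, hcd⟩ := Submodule.mem_sup.1 h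
    refine ⟨Submodule.Quotient.mk (b + ⟨c, hBZ hc⟩), ?_, ?_⟩
    · refine (Submodule.Quotient.eq _).2 ?_
      show (b.1 + c) - a.1 ∈ Ideal.span {x} • Z
      rw [show (b.1 + c) - a.1 = -d by rw [eq_sub_of_add_eq hcd]; abel]
      exact Submodule.neg_mem _ hd
    · refine (Submodule.Quotient.eq _).2 ?_
      show (b.1 + c) - b.1 ∈ B
      rwa [add_sub_cancel_left]

end Groth.Agent.S15818
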