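import Groth.Statements.S15824
import Mathlib
import Groth.Agent.LciH1Lib.Basic
import Groth.Agent.RegIdealLib.Immersion

set_option autoImplicit false
universe u
open CategoryTheory AlgebraicGeometry
open RegImm

namespace Groth.Agent.S15824

open RingTheory.Sequence in
theorem dim_zero_of_cm {A B : Type u} [CommRing A] [CommRing B] [IsLocalRing A] [IsLocalRing B] [IsNoetherianRing A]
    (hA : LocCoh.IsCohenMacaulayModule A A) (φ : A →+* B) (hφ : Function.Surjective φ) (rs : List A)
    (hrs : IsWeaklyRegular A rs) (hker : RingHom.ker φ = Ideal.ofList rs) [IsNoetherianRing B]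
    (hz : IsAssociatedPrime (IsLocalRing.maximalIdeal B) B) : ringKrullDim B = 0 := by
  have hJ : Ideal.ofList rs ≤ IsLocalRing.maximalIdeal A := by
    rw [← hker]
    exact IsLocalRing.le_maximalIdeal (RingHom.ker_ne_top φ)
  have hcm := LciH1Lib.cm_quot_of_isWeaklyRegular rs A hA (fun r hr => hJ (Ideal.subset_span hr)) hrs
  let J : Submodule A A := Ideal.ofList rs • ⊤
  have hJe : J = RingHom.ker φ := by rw [hker]; simp [J]
  haveI : IsLocalHom φ := hφ.isLocalHom
  have hass : IsLocalRing.maximalIdeal A ∈ associatedPrimes A (A ⧸ J) := by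
    obtain ⟨-, g, hg⟩ := (isAssociatedPrime_iff_exists_injective_linearMap _ _).1 hz
    obtain ⟨a, ha⟩ := hφ (g (Submodule.Quotient.mk 1))
    refine (isAssociatedPrime_iff_exists_injective_linearMap _ _).2 ⟨inferInstance, ?_⟩
    let l : A →ₗ[A] A ⧸ J := LinearMap.toSpanSingleton A _ (Submodule.Quotient.mk a)
    have hl : ∀ r, l r = 0 ↔ r ∈ IsLocalRing.maximalIdeal A := fun r => by
      show r • (Submodule.Quotient.mk a : A ⧸ J) = 0 ↔ _
      rw [← Submodule.Quotient.mk_smul, Submodule.Quotient.mk_eq_zero, hJe, RingHom.mem_ker, smul_eq_mul, map_mul, ha,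
        ← smul_eq_mul, ← map_smul, map_eq_zero_iff _ hg, ← Submodule.Quotient.mk_smul,
        Submodule.Quotient.mk_eq_zero, smul_eq_mul, mul_one]
      exact ⟨fun h hu => h (hu.map φ), fun h hu => h (IsUnit.of_map φ r hu)⟩
    refine ⟨Submodule.liftQ _ l fun r hr => (hl r).2 hr, ?_⟩
    rw [← LinearMap.ker_eq_bot]
    exact Submodule.ker_liftQ_eq_bot _ _ _ fun r hr => (hl r).1 hr
  have h := CMSeqLib.ringKrullDim_quotient_eq hcm hass
  letI := Ideal.Quotient.field (IsLocalRing.maximalIdeal A)
  rw [ringKrullDim_eq_zero_of_field] at h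
  rw [h, show Module.supportDim A (A ⧸ J) = ringKrullDim (A ⧸ RingHom.ker φ) by
    rw [hJe]; exact Module.supportDim_quotient_eq_ringKrullDim _]
  exact (ringKrullDim_eq_of_ringEquiv (RingHom.quotientKerEquivOfSurjective hφ)).symm

/-- Let X be a locally Noetherian scheme all of whose local rings are Cohen–Macaulay, and i : Z → X a
closed immersion which is regular (around every point, on some affine open of X the ideal of Z is
generated by a regular sequence). Then Z has no embedded points (each associated point of Z is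
generic in an irreducible component): for every point z of Z, if the maximal ideal of O_{Z,z} is an
associated prime of O_{Z,z} (as a module over itself), then O_{Z,z} has Krull dimension 0. (The
published statement takes X Noetherian and Z a local complete intersection subscheme; the assertion
is local on X and uses only that the ideal of Z is locally generated by a regular sequence.) -/
theorem result {X Z : Scheme.{u}}
    [IsLocallyNoetherian X] (hCM : ∀ x : X, LocCoh.IsCohenMacaulayLocalRing (X.presheaf.stalk x))
    (i : Z ⟶ X) [IsClosedImmersion i] (hi : RegImm.IsRegularImmersion RegImm.Kind.regular i) (z : Z)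
    (hz : IsAssociatedPrime (IsLocalRing.maximalIdeal (Z.presheaf.stalk z)) (Z.presheaf.stalk z)) :
    ringKrullDim (Z.presheaf.stalk z) = 0 := by
  obtain ⟨U, hzU, hc, rs, hrs, hker⟩ := hi.2 z
  haveI := hCM (i z)
  letI : Algebra Γ(X, U.1) (X.presheaf.stalk (i z)) := TopCat.Presheaf.algebra_section_stalk X.presheaf ⟨i z, hzU⟩
  haveI := U.2.isLocalization_stalk ⟨i z, hzU⟩
  haveI : IsLocallyNoetherian Z := LocallyOfFiniteType.isLocallyNoetherian i
  haveI : Module.Flat Γ(X, U.1) (X.presheaf.stalk (i z)) :=
    IsLocalization.flat _ (U.2.primeIdealOf ⟨i z, hzU⟩).asIdeal.primeCompl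
  refine dim_zero_of_cm (LocCoh.IsCohenMacaulayLocalRing.supportDim_eq_depth) (i.stalkMap z).hom (i.stalkMap_surjective z)
    (rs.map (algebraMap Γ(X, U.1) (X.presheaf.stalk (i z))))
    hrs.toIsWeaklyRegular.of_flat ?_ hz
  rw [RegIdealLib.ker_stalkMap i U.2 hc z hzU, hker, Ideal.map_ofList]
  rfl

end Groth.Agent.S15824
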