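import Groth.Statements.S15825
import Groth.Agent.CMInterLib.Scheme

set_option autoImplicit false
set_option backward.isDefEq.respectTransparency false
universe u
open CategoryTheory CategoryTheory.Limits AlgebraicGeometry
open RegImm

namespace Groth.Agent.S15825

/-- Let X be a locally Noetherian scheme all of whose local rings are Cohen–Macaulay, and let iY : Y → X
and iZ : Z → X be closed immersions which are regular of constant codimension a and b respectively
(around every point, on some affine open of X the ideal is generated by a regular sequence of length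
a, resp. b). Let W = Y ×_X Z be the scheme-theoretic intersection, with closed immersion w = pr_1 ≫
iY : W → X, and suppose W has the expected codimension: at every point of W the local ring of X has
Krull dimension at least a + b. Then w is a regular immersion of codimension a + b (so W is again a
local complete intersection in X), and the fibre square formed by W, Y, Z, X is Tor-independent: for
every affine open U of X and every i > 0 the module Tor_i over Γ(X, U) of Γ(Y, iY⁻¹U) and Γ(Z,
iZ⁻¹U) (module structures through iY and iZ; Tor computed by resolving the second argument) is zero.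
(The published statement is phrased with local complete intersections in a Cohen–Macaulay scheme and
the global codimension of Y ∩ Z; regular sequences of the stated lengths and the pointwise dimension
bound express the same hypotheses, and the vanishing of these Tor modules on affine opens is
equivalent to the vanishing of the stalkwise Tor groups at the points of W.) -/
theorem result {X Y Z : Scheme.{u}}
    [IsLocallyNoetherian X] (hCM : ∀ x : X, LocCoh.IsCohenMacaulayLocalRing (X.presheaf.stalk x))
    (iY : Y ⟶ X) (iZ : Z ⟶ X) [IsClosedImmersion iY] [IsClosedImmersion iZ] (a b : ℕ)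
    (hY : RegImm.IsRegularImmersionOfCodim RegImm.Kind.regular a iY)
    (hZ : RegImm.IsRegularImmersionOfCodim RegImm.Kind.regular b iZ)
    (hcodim : ∀ w : ↥(pullback iY iZ), ((a + b : ℕ) : WithBot ℕ∞) ≤
      ringKrullDim (X.presheaf.stalk ((pullback.fst iY iZ ≫ iY).base w))) :
    RegImm.IsRegularImmersionOfCodim RegImm.Kind.regular (a + b) (pullback.fst iY iZ ≫ iY) ∧
      ∀ (U : X.Opens), IsAffineOpen U → ∀ (i : ℕ), 0 < i →
        Subsingleton (@DRing.Tor Γ(X, U) _ i Γ(Y, iY ⁻¹ᵁ U) Γ(Z, iZ ⁻¹ᵁ U) _ (iY.app U).hom.toModule _ (iZ.app U).hom.toModule) := by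
  refine ⟨Groth.Agent.CMInterLib.regularImmersion_inter iY iZ hCM hY hZ hcodim, fun U hU i hi => ?_⟩
  obtain ⟨n, rfl⟩ : ∃ n, i = n + 1 := ⟨i - 1, by omega⟩
  letI : Module Γ(X, U) Γ(Y, iY ⁻¹ᵁ U) := (iY.app U).hom.toModule
  letI : Module Γ(X, U) Γ(Z, iZ ⁻¹ᵁ U) := (iZ.app U).hom.toModule
  obtain ⟨eY⟩ := Groth.Agent.CMInterLib.nonempty_quot_equiv (iY.app U).hom
    (Groth.Agent.RegIdealLib.affine_and_surjective iY hU (Groth.Agent.CMInterLib.isClosedImmersion_res iY U)).2
  obtain ⟨eZ⟩ := Groth.Agent.CMInterLib.nonempty_quot_equiv (iZ.app U).hom
    (Groth.Agent.RegIdealLib.affine_and_surjective iZ hU (Groth.Agent.CMInterLib.isClosedImmersion_res iZ U)).2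
  haveI := Groth.Agent.CMInterLib.subsingleton_tor_inter iY iZ hCM hY hZ hcodim hU n
  exact (Groth.Agent.FlatCx.torCongr eY.toModuleIso eZ.toModuleIso (n + 1)).symm.toLinearEquiv.subsingleton

end Groth.Agent.S15825
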