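import Groth.Statements.S15826
import Groth.Agent.GrassRepLib.MapEpi
import Groth.Agent.ObsLiftLib.LocFree
import Groth.Agent.ProjBundleLib.EpiClosed
import Groth.Agent.RelDivLib.ImmBC
import Groth.Agent.RegIdealLib.Immersion
import Groth.Agent.ConormalLib.Trans

set_option autoImplicit false
set_option backward.isDefEq.respectTransparency false
universe u
open CategoryTheory AlgebraicGeometry Opposite
open RegImm

namespace Groth.Agent.S15826

/-- Let X be a scheme, E a finite locally free O_X-module of rank n and s : E → O_X a regular section,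
meaning that around every point of X there is an affine open U and a basis e_1, …, e_n of E(U) over
Γ(X, U) such that s(e_1), …, s(e_n) is a weakly regular sequence in Γ(X, U) (each a non-zero-divisor
modulo the previous ones). Let i : Y → X be a closed immersion whose ideal sheaf I_Y is the image of
s: t : E → I_Y is an epimorphism of O_X-modules with t followed by the inclusion I_Y → O_X equal to
s. Then the pulled-back map i^*t : i^*E → i^*I_Y is an isomorphism of O_Y-modules; its target is the
conormal sheaf C_{Y/X} = I_Y/I_Y², so E|_Y ≅ C_{Y/X} via s and, dually, N_{Y/X} ≅ E^∨|_Y. (The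
published statement calls s regular when its image is a regular ideal sheaf locally generated by
rank-many sections; the local bases mapping to regular sequences used here are how the published
proofs read that condition.) -/
theorem result {X Y : Scheme.{u}} (n : ℕ) (E : X.Modules)
    (hE : FlatMod.IsFinLocFreeOfRank n E) (s : E ⟶ Coh.structureModule X)
    (hs : ∀ x : X, ∃ U : X.affineOpens, x ∈ U.1 ∧
      ∃ b : Module.Basis (Fin n) Γ(X, U.1) (E.val.obj (op U.1)),
        @RingTheory.Sequence.IsWeaklyRegular Γ(X, U.1) Γ(X, U.1) _ _ _ (List.ofFn fun k => (s.val.app (op U.1)).hom (b k)))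
    (i : Y ⟶ X) [IsClosedImmersion i] (t : E ⟶ ClSub.idealMod i.ker) [Epi t]
    (hts : t ≫ ClSub.idealModι i.ker = s) :
    IsIso ((Scheme.Modules.pullback i).map t) := by
  have hEq : Coh.IsQCoh E :=
    (Groth.Agent.PullbackMod.isQCoh_and_isFP_of_isFinLocFree E fun x => ⟨(hE x).choose, n, (hE x).choose_spec⟩).1
  haveI := Groth.Agent.OmegaAffLib.isQCoh_idealMod i.ker
  have hC : FlatMod.IsFinLocFreeOfRank n (Omega.conormal i) := by
    intro z
    obtain ⟨U, hzU, b, hb⟩ := hs (i z)
    let f : Fin n → Γ(X, U.1) := fun k => (s.val.app (op U.1)).hom (b k)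
    have hsurj : Function.Surjective (i.app U.1) := by
      exact (Groth.Agent.RegIdealLib.affine_and_surjective i U.2
        (IsZariskiLocalAtTarget.restrict (P := @IsClosedImmersion) ‹IsClosedImmersion i› U.1)).2
    have haff : IsAffineOpen (i ⁻¹ᵁ U.1) := U.2.preimage i
    have T : Groth.Agent.ConormalLib.Tower i (𝟙 X) U.1 :=
      ⟨U.2, U.2, haff, fun c => ⟨c, rfl⟩, hsurj⟩
    have hf : CAlgX.IsH1Regular f := by
      have h1 : RegImm.Kind.h1.Seq Γ(X, U.1) (List.ofFn f) :=
        Groth.Agent.ObsLiftLib.isH1Regular_of_isWeaklyRegular _ hb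
      exact (Groth.Agent.RelDivLib.seq_ofFn RegImm.Kind.h1 (Or.inl rfl) f).1 h1
    have hts' : ∀ e : Γ(E, U.1), OmegaSh.idealSect i.ker U.1 (t.app U.1 e) = (s.val.app (op U.1)).hom e := by
      intro e
      rw [← hts]
      rfl
    have hker : RingHom.ker (i.app U.1).hom = Ideal.span (Set.range f) := by
      refine le_antisymm (fun x hx => ?_) (Ideal.span_le.2 ?_)
      · obtain ⟨m, rfl⟩ := Groth.Agent.ConormalLib.exists_idealSect_eq i U.1 x hx
        obtain ⟨e, rfl⟩ := Groth.Agent.ProjBundleLib.surjective_app_of_epi hEq inferInstance t U.2 m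
        rw [hts']
        have he : e = ∑ k, b.repr e k • b k := (b.sum_repr e).symm
        rw [he]
        erw [map_sum]
        refine Ideal.sum_mem _ fun k _ => ?_
        erw [map_smul]
        exact Ideal.mul_mem_left _ _ (Ideal.subset_span ⟨k, rfl⟩)
      · rintro _ ⟨k, rfl⟩
        rw [SetLike.mem_coe, RingHom.mem_ker]
        refine Eq.trans ?_ (Groth.Agent.ConormalLib.app_idealSect i U.1 (t.app U.1 (b k)))
        rw [hts']
    exact ⟨i ⁻¹ᵁ U.1, hzU, T.nonempty_free hf hker⟩
  haveI : Epi ((Scheme.Modules.pullback i).map t) := Grass.epi_pullback_map i t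
  exact Groth.Agent.GrassRepLib.isIso_of_epi_rank _ (Groth.Agent.FlagLib.rank_pullback i E hE) hC

end Groth.Agent.S15826
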