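import Groth.Statements.S15832
import Mathlib

set_option autoImplicit false
universe u
open TopGrp

namespace Groth.Agent.S15832

open CategoryTheory CategoryTheory.Limits AlgebraicGeometry

open Topology TopologicalSpace

theorem mem_basic {T : Type u} [Group T] (Γ : Subgroup T) (x y : T) {z : T} :
    z ∈ (fun g : T => x * g * y) '' (Γ : Set T) ↔ x⁻¹ * z * y⁻¹ ∈ Γ := by
  constructor
  · rintro ⟨g, hg, rfl⟩
    simpa [mul_assoc] using hg
  · exact fun h => ⟨_, h, by simp [mul_assoc]⟩


/-- Translates of a family of subgroups generate a non-archimedean group topology. -/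
theorem nonarchimedean_generateFrom {T : Type u} [Group T] (𝒢 : Set (Subgroup T)) :
    @NonarchimedeanGroup T _ (TopologicalSpace.generateFrom
      {S : Set T | ∃ Γ ∈ 𝒢, ∃ x y : T, S = (fun g : T => x * g * y) '' (Γ : Set T)}) := by
  letI : TopologicalSpace T := TopologicalSpace.generateFrom
    {S : Set T | ∃ Γ ∈ 𝒢, ∃ x y : T, S = (fun g : T => x * g * y) '' (Γ : Set T)}
  have hopen : ∀ Γ ∈ 𝒢, ∀ x y : T, IsOpen {z | x⁻¹ * z * y⁻¹ ∈ Γ} := fun Γ hΓ x y =>
    TopologicalSpace.GenerateOpen.basic _ ⟨Γ, hΓ, x, y, (Set.ext fun _ => mem_basic Γ x y).symm⟩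
  haveI : ContinuousMul T := ⟨continuous_generateFrom_iff.2 fun s hs => by
    obtain ⟨Γ, hΓ, x, y, rfl⟩ := hs
    rw [isOpen_prod_iff]
    intro a b hab
    rw [Set.mem_preimage, mem_basic Γ] at hab
    refine ⟨{z | a⁻¹ * z * 1 ∈ {w | (b * y⁻¹)⁻¹ * w * (b * y⁻¹) ∈ Γ}}, {z | (b * y⁻¹)⁻¹ * z * y⁻¹ ∈ Γ},
      ?_, hopen Γ hΓ (b * y⁻¹) y, ?_, ?_, ?_⟩
    · have := hopen Γ hΓ (a * (b * y⁻¹)) (b * y⁻¹)⁻¹
      convert this using 1
      ext z
      simp [mul_assoc]
    · simp
    · simp [mul_assoc]
    · rintro ⟨z, w⟩ ⟨hz, hw⟩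
      simp only [Set.mem_setOf_eq] at hz hw
      rw [Set.mem_preimage, mem_basic Γ]
      convert mul_mem hab (mul_mem hz hw) using 1
      simp [mul_assoc]⟩
  haveI : ContinuousInv T := ⟨continuous_generateFrom_iff.2 fun s hs => by
    obtain ⟨Γ, hΓ, x, y, rfl⟩ := hs
    convert hopen Γ hΓ y⁻¹ x⁻¹ using 1
    ext z
    rw [Set.mem_preimage, mem_basic Γ, Set.mem_setOf_eq, ← inv_mem_iff]
    simp [mul_assoc]⟩
  haveI : IsTopologicalGroup T := ⟨⟩
  refine ⟨fun U hU => ?_⟩
  obtain ⟨V, hVU, hV, hV1⟩ := mem_nhds_iff.1 hU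
  suffices key : ∀ W : Set T, IsOpen W → ∀ z ∈ W, ∃ K : OpenSubgroup T, (fun g => z * g) '' (K : Set T) ⊆ W by
    obtain ⟨K, hK⟩ := key V hV 1 hV1
    exact ⟨K, fun g hg => hVU (hK ⟨g, hg, one_mul g⟩)⟩
  intro W hW
  induction hW with
  | basic s hs =>
    obtain ⟨Γ, hΓ, x, y, rfl⟩ := hs
    intro z hz
    rw [mem_basic Γ] at hz
    let K : Subgroup T := {
      carrier := {g | y * g * y⁻¹ ∈ Γ}
      one_mem' := by simp
      mul_mem' := fun {g g'} h h' => by
        simp only [Set.mem_setOf_eq] at h h' ⊢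
        convert mul_mem h h' using 1
        simp [mul_assoc]
      inv_mem' := fun {g} h => by
        simp only [Set.mem_setOf_eq] at h ⊢
        convert inv_mem h using 1
        simp [mul_assoc] }
    refine ⟨⟨K, by convert hopen Γ hΓ y⁻¹ y using 1; ext g; simp [K]⟩, ?_⟩
    rintro _ ⟨g, hg, rfl⟩
    rw [mem_basic Γ]
    convert mul_mem hz (show y * g * y⁻¹ ∈ Γ from hg) using 1
    simp [mul_assoc]
  | univ => exact fun z _ => ⟨⊤, Set.subset_univ _⟩
  | inter s t _ _ ihs iht =>
    rintro z ⟨hzs, hzt⟩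
    obtain ⟨K, hK⟩ := ihs z hzs
    obtain ⟨L, hL⟩ := iht z hzt
    exact ⟨K ⊓ L, Set.image_subset_iff.2 fun g hg => ⟨hK ⟨g, hg.1, rfl⟩, hL ⟨g, hg.2, rfl⟩⟩⟩
  | sUnion S _ ih =>
    rintro z ⟨s, hs, hzs⟩
    obtain ⟨K, hK⟩ := ih s hs z hzs
    exact ⟨K, hK.trans (Set.subset_sUnion_of_mem hs)⟩

/-- For a group T with a topology, let B be the family of two-sided translates x Γ y, where Γ runs over
the subgroups of T open in the given topology and x, y over T; the topology generated by B makes T a
topological group in which every neighbourhood of the identity contains a subgroup open for that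
topology. (The published statement is for the free topological product of two Noohi groups whose
open subgroups form a basis of neighbourhoods of the identity; the argument uses only the group
structure and the chosen family of subgroups, so the row is stated for an arbitrary group with a
topology. The published conventions include Hausdorffness in the word topological group; this row
does not assert it, and the published argument does not prove it.) -/
theorem result (T : Type u) [Group T]
    [TopologicalSpace T] :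
    @NonarchimedeanGroup T _ (TopologicalSpace.generateFrom
      {S : Set T | ∃ (Γ : OpenSubgroup T) (x y : T), S = (fun g : T => x * g * y) '' (Γ : Set T)}) := by
  convert nonarchimedean_generateFrom {Γ : Subgroup T | IsOpen (Γ : Set T)} using 2
  ext S
  constructor
  · rintro ⟨Γ, x, y, rfl⟩
    exact ⟨Γ.toSubgroup, Γ.isOpen, x, y, rfl⟩
  · rintro ⟨Γ, hΓ, x, y, rfl⟩
    exact ⟨⟨Γ, hΓ⟩, x, y, rfl⟩

end Groth.Agent.S15832
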