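import Groth.Statements.S15833
import Mathlib

set_option autoImplicit false
universe u
open EtBase

namespace Groth.Agent.S15833

open CategoryTheory CategoryTheory.Limits AlgebraicGeometry in
/-- Let i : X₀ ⟶ X be a surjective closed immersion of schemes and f : Y ⟶ X a morphism. Then f
satisfies the valuative criterion (existence and uniqueness of a lift in every valuative square,
over arbitrary valuation rings) if and only if its base change Y ×_X X₀ ⟶ X₀ does. (The published
statement takes X locally Noetherian and connected, X₀ the reduced closed subscheme with the same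
underlying space and f étale, and combines this step with the equivalence between étale schemes over
X and over X₀ to identify the geometric coverings, i.e. the étale morphisms satisfying the valuative
criterion, of X and of X₀; the argument for this step uses only that X₀ ⟶ X is a surjective closed
immersion and that valuation rings are reduced.) -/
theorem result {X X₀ Y : Scheme.{u}} (i : X₀ ⟶ X)
    [IsClosedImmersion i] [Surjective i] (f : Y ⟶ X) :
    ValuativeCriterion f ↔ ValuativeCriterion (pullback.snd f i) := by
  constructor
  · intro h S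
    let S' : ValuativeCommSq f := ⟨S.R, S.K, S.i₁ ≫ pullback.fst f i, S.i₂ ≫ i,
      ⟨by rw [Category.assoc, pullback.condition, ← Category.assoc, S.commSq.w, Category.assoc]⟩⟩
    obtain ⟨hu⟩ := h S'
    have hd := hu.default
    refine ⟨⟨⟨pullback.lift hd.l S.i₂ hd.fac_right, pullback.hom_ext ?_ ?_, pullback.lift_snd _ _ _⟩⟩, fun l => ?_⟩
    · rw [Category.assoc, pullback.lift_fst]; exact hd.fac_left
    · rw [Category.assoc, pullback.lift_snd]; exact S.commSq.w.symm
    · refine CommSq.LiftStruct.ext (pullback.hom_ext ?_ ?_)
      · refine Eq.trans ?_ (pullback.lift_fst hd.l S.i₂ hd.fac_right).symm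
        exact congrArg CommSq.LiftStruct.l (@Subsingleton.elim _ (@Unique.instSubsingleton _ hu) ⟨l.l ≫ pullback.fst f i,
          by show _ ≫ l.l ≫ pullback.fst f i = _; rw [← Category.assoc, l.fac_left],
          by show (l.l ≫ pullback.fst f i) ≫ f = _; rw [Category.assoc, pullback.condition, ← Category.assoc, l.fac_right]⟩ hd)
      · exact l.fac_right.trans (pullback.lift_snd hd.l S.i₂ hd.fac_right).symm
  · intro h S
    haveI : IsClosedImmersion (pullback.snd i S.i₂) := MorphismProperty.pullback_snd _ _ ‹_›
    haveI : Surjective (pullback.snd i S.i₂) := MorphismProperty.pullback_snd _ _ ‹_›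
    haveI : IsIso (pullback.snd i S.i₂) := isIso_of_isClosedImmersion_of_surjective _
    let σ := inv (pullback.snd i S.i₂) ≫ pullback.fst i S.i₂
    have hσ : σ ≫ i = S.i₂ := by simp only [σ, Category.assoc, pullback.condition, IsIso.inv_hom_id_assoc]
    let S' : ValuativeCommSq (pullback.snd f i) := ⟨S.R, S.K,
      pullback.lift S.i₁ (Spec.map (CommRingCat.ofHom (algebraMap S.R S.K)) ≫ σ) (by rw [Category.assoc, hσ, S.commSq.w]),
      σ, ⟨pullback.lift_snd _ _ _⟩⟩
    obtain ⟨hu⟩ := h S'
    have hd := hu.default
    refine ⟨⟨⟨hd.l ≫ pullback.fst f i, ?_, ?_⟩⟩, fun l => ?_⟩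
    · rw [← Category.assoc, hd.fac_left]; exact pullback.lift_fst _ _ _
    · rw [Category.assoc, pullback.condition, ← Category.assoc, hd.fac_right]; exact hσ
    · refine CommSq.LiftStruct.ext ?_
      have e := congrArg (fun t => CommSq.LiftStruct.l t ≫ pullback.fst f i) (@Subsingleton.elim _ (@Unique.instSubsingleton _ hu) ⟨pullback.lift l.l σ (by rw [l.fac_right, hσ]),
        pullback.hom_ext (by rw [Category.assoc, pullback.lift_fst, l.fac_left]; exact (pullback.lift_fst _ _ _).symm)
          (by rw [Category.assoc, pullback.lift_snd]; exact (pullback.lift_snd _ _ _).symm), pullback.lift_snd _ _ _⟩ hd)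
      exact (pullback.lift_fst _ _ _).symm.trans e

end Groth.Agent.S15833
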