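import Groth.Statements.S15835
import Mathlib

set_option autoImplicit false
universe u
open SprIso

namespace Groth.Agent.S15835

open Polynomial

/-- Over a commutative ring R of prime characteristic p, let n ≥ 1 and let p^m be the largest power of p
dividing n. The locus of n × n matrices with characteristic polynomial t^n is stable under adding a
scalar matrix a·1 with n·a = 0 exactly when a^(p^m) = 0: for X with characteristic polynomial t^n
and such an a, the matrix X + a·1 has characteristic polynomial t^n if and only if a^(p^m) = 0.
(Stated on points with values in an arbitrary ring of characteristic p; the scheme-theoretic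
assertion about the nilpotent scheme of SL_n is this statement for all such rings.) -/
theorem result (p : ℕ) [Fact p.Prime] (R : Type u) [CommRing R]
    [CharP R p] (n : ℕ) (hn : 0 < n) (X : Matrix (Fin n) (Fin n) R) (hX : X.charpoly = Polynomial.X ^ n)
    (a : R) (ha : (n : R) * a = 0) :
    (X + Matrix.scalar (Fin n) a).charpoly = Polynomial.X ^ n ↔ a ^ (p ^ padicValNat p n) = 0 := by
  have h1 : (X + Matrix.scalar (Fin n) a).charpoly = (Polynomial.X - C a) ^ n := by
    have := Matrix.charpoly_sub_scalar X (-a)
    simpa [hX, pow_comp, sub_eq_add_neg] using this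
  obtain ⟨q, hq⟩ := pow_padicValNat_dvd (p := p) (n := n)
  have hnd := pow_succ_padicValNat_not_dvd (p := p) hn.ne'
  set m := p ^ padicValNat p n
  have hpq : ¬ p ∣ q := by
    intro h; apply hnd; rw [pow_succ]; exact (mul_dvd_mul_left _ h).trans (dvd_of_eq hq.symm)
  have hqu : IsUnit (q : R) := (CharP.isUnit_natCast_iff (Fact.out : p.Prime)).2 hpq
  have h2 : (Polynomial.X - C a) ^ n = (Polynomial.X ^ m - C (a^m)) ^ q := by
    rw [hq, pow_mul, sub_pow_char_pow, map_pow]
  rw [h1, h2]
  constructor
  · intro h
    have hm : 0 < m := pow_pos (Fact.out : p.Prime).pos _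
    have h3 : ((Polynomial.X - C (a^m))^q) = (Polynomial.X : R[X]) ^ q := by
      apply Polynomial.expand_injective hm
      simp only [map_pow, map_sub, expand_X, expand_C]
      rw [← pow_mul, ← hq]; simpa [map_pow] using h
    have hq0 : 1 ≤ q := Nat.one_le_iff_ne_zero.2 fun h0 => by simp [h0] at hpq
    have h4 := congrArg (fun f => coeff f (q-1)) h3
    simp only [sub_eq_add_neg, ← map_neg, coeff_X_add_C_pow, coeff_X_pow] at h4
    rw [if_neg (by omega), show q - (q-1) = 1 by omega, pow_one,
      show q.choose (q-1) = q by rw [Nat.choose_symm (by omega : 1 ≤ q), Nat.choose_one_right],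
      hqu.mul_left_eq_zero] at h4
    simpa using h4
  · intro h; simp [h, hq, pow_mul]

end Groth.Agent.S15835
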