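import Groth.Statements.S15836
import Mathlib
import Groth.Agent.JetLib.Basic
import Groth.Agent.PicPolyLib.Basic

set_option autoImplicit false
universe u
open SprIso

namespace Groth.Agent.S15836

/-- Let k be a field and C a closed subscheme of affine n-space over k which is stable under the scaling
action of the affine line, i.e. C = Spec A with A = k[x_1, …, x_n]/I for an ideal I generated by
homogeneous polynomials, and assume C is normal (A is an integrally closed domain). Then Pic(C) = 0:
every invertible A-module is free. -/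
theorem result (k : Type u) [Field k] (n : ℕ)
    (I : Ideal (MvPolynomial (Fin n) k))
    (hI : ∃ s : Set (MvPolynomial (Fin n) k), (∀ f ∈ s, ∃ d : ℕ, f.IsHomogeneous d) ∧ I = Ideal.span s)
    [IsDomain (MvPolynomial (Fin n) k ⧸ I)] [IsIntegrallyClosed (MvPolynomial (Fin n) k ⧸ I)]
    (M : Type u) [AddCommGroup M] [Module (MvPolynomial (Fin n) k ⧸ I) M]
    [Module.Invertible (MvPolynomial (Fin n) k ⧸ I) M] :
    Module.Free (MvPolynomial (Fin n) k ⧸ I) M := by
  classical
  obtain ⟨s, hs, rfl⟩ := hI
  let A := MvPolynomial (Fin n) k ⧸ Ideal.span s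
  let π : MvPolynomial (Fin n) k →ₐ[k] A := Ideal.Quotient.mkₐ k (Ideal.span s)
  let a : Fin n → A := fun i => π (MvPolynomial.X i)
  have hπ : MvPolynomial.aeval a = π := MvPolynomial.algHom_ext fun i => by simp [a]
  -- the homotopy
  let σ : A →ₐ[k] Polynomial A := Ideal.Quotient.liftₐ (Ideal.span s)
    (MvPolynomial.aeval fun i => Polynomial.X * Polynomial.C (a i)) (by
      intro f hf
      induction hf using Submodule.span_induction with
      | mem f hf =>
        obtain ⟨d, hd⟩ := hs f hf
        rw [Groth.Agent.JetLib.aeval_mul_of_isHomogeneous (S := Polynomial A) f hd Polynomial.X (fun i => Polynomial.C (a i))]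
        have h0 : MvPolynomial.aeval (fun i => Polynomial.C (a i)) f =
            (IsScalarTower.toAlgHom k A (Polynomial A)) (π f) := by
          rw [← hπ, ← AlgHom.comp_apply]
          exact AlgHom.congr_fun (MvPolynomial.algHom_ext fun i => by simp) f
        have hf0 : π f = 0 := Ideal.Quotient.eq_zero_iff_mem.mpr (Ideal.subset_span hf)
        rw [h0, hf0, map_zero, mul_zero]
      | zero => exact map_zero _
      | add x y _ _ hx hy => rw [map_add, hx, hy, add_zero]
      | smul c x _ hx => rw [smul_eq_mul, map_mul, hx, mul_zero])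
  have hσ : ∀ f, σ (π f) = MvPolynomial.aeval (fun i => Polynomial.X * Polynomial.C (a i)) f :=
    fun f => rfl
  -- the origin
  let c : A →ₐ[k] k := Ideal.Quotient.liftₐ (Ideal.span s) (MvPolynomial.aeval fun _ => (0 : k)) (by
      intro f hf
      induction hf using Submodule.span_induction with
      | mem f hf =>
        obtain ⟨d, hd⟩ := hs f hf
        rcases Nat.eq_zero_or_pos d with rfl | hd0
        · obtain ⟨r, rfl⟩ : ∃ r : k, f = MvPolynomial.C r :=
            ⟨f.coeff 0, MvPolynomial.totalDegree_eq_zero_iff_eq_C.mp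
              (Nat.le_zero.mp hd.totalDegree_le)⟩
          by_cases hr : r = 0
          · subst hr; simp
          · exfalso
            have h1 : (Ideal.span s : Ideal (MvPolynomial (Fin n) k)) = ⊤ :=
              Ideal.eq_top_of_isUnit_mem _ (Ideal.subset_span hf)
                ((isUnit_iff_ne_zero.mpr hr).map MvPolynomial.C)
            exact (Ideal.Quotient.nontrivial_iff.mp (inferInstance : Nontrivial A)) h1
        · have h := Groth.Agent.JetLib.aeval_mul_of_isHomogeneous (S := k) f hd 0 (fun _ => 0)
          rw [zero_pow hd0.ne', zero_mul] at h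
          simpa using h
      | zero => exact map_zero _
      | add x y _ _ hx hy => rw [map_add, hx, hy, add_zero]
      | smul c x _ hx => rw [smul_eq_mul, map_mul, hx, mul_zero])
  let e0 := Polynomial.evalRingHom (0 : A)
  let e1 := Polynomial.evalRingHom (1 : A)
  have h1 : e1.comp σ.toRingHom = RingHom.id A := by
    refine Ideal.Quotient.ringHom_ext (MvPolynomial.ringHom_ext (fun r => ?_) (fun i => ?_))
    · show Polynomial.eval 1 (σ (π (MvPolynomial.C r))) = π (MvPolynomial.C r)
      rw [hσ, MvPolynomial.aeval_C, Polynomial.algebraMap_apply, Polynomial.eval_C]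
      exact (π.commutes r).symm
    · show Polynomial.eval 1 (σ (π (MvPolynomial.X i))) = π (MvPolynomial.X i)
      rw [hσ, MvPolynomial.aeval_X, Polynomial.eval_mul, Polynomial.eval_X, Polynomial.eval_C, one_mul]
  have h0 : e0.comp σ.toRingHom = (algebraMap k A).comp c.toRingHom := by
    refine Ideal.Quotient.ringHom_ext (MvPolynomial.ringHom_ext (fun r => ?_) (fun i => ?_))
    · show Polynomial.eval 0 (σ (π (MvPolynomial.C r))) = algebraMap k A (c (π (MvPolynomial.C r)))
      rw [hσ, MvPolynomial.aeval_C, Polynomial.algebraMap_apply, Polynomial.eval_C]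
      show _ = algebraMap k A (MvPolynomial.aeval (fun _ => (0 : k)) (MvPolynomial.C r))
      rw [MvPolynomial.aeval_C]
      rfl
    · show Polynomial.eval 0 (σ (π (MvPolynomial.X i))) = algebraMap k A (c (π (MvPolynomial.X i)))
      rw [hσ, MvPolynomial.aeval_X, Polynomial.eval_mul, Polynomial.eval_X, zero_mul]
      show _ = algebraMap k A (MvPolynomial.aeval (fun _ => (0 : k)) (MvPolynomial.X i))
      rw [MvPolynomial.aeval_X, map_zero]
  let P := CommRing.Pic.mk A M
  have key := Groth.Agent.PicPolyLib.pic_eq A (CommRing.Pic.mapRingHom σ.toRingHom P)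
  have hX : CommRing.Pic.mapRingHom e0 (CommRing.Pic.mapRingHom σ.toRingHom P) = 1 := by
    rw [CommRing.Pic.mapRingHom_mapRingHom, h0, ← CommRing.Pic.mapRingHom_mapRingHom,
      Subsingleton.elim (CommRing.Pic.mapRingHom c.toRingHom P) 1, map_one]
  rw [hX, map_one] at key
  have hP : P = 1 := by
    rw [← CommRing.Pic.mapRingHom_id_apply (M := P), ← h1, ← CommRing.Pic.mapRingHom_mapRingHom, key,
      map_one]
  exact CommRing.Pic.mk_eq_one_iff_free.mp hP

end Groth.Agent.S15836
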