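import Groth.Statements.S15838
import Mathlib
set_option backward.isDefEq.respectTransparency false
set_option backward.isDefEq.respectTransparency.types false

set_option autoImplicit false
universe u
open scoped TensorProduct
open SprIso

namespace Groth.Agent.S15838

/-- General linear group case: this is the case G = GL(V), to which the general case reduces along a
closed embedding. Let k be a perfect field and V a finite-dimensional k-vector space. If an
invertible endomorphism g of V has multiplicative Jordan decomposition g = t u (t semisimple, u
unipotent, t and u commuting), then the scheme-theoretic centralizer of g in GL(V) is the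
centralizer of u inside the centralizer of t: for every commutative k-algebra R, an R-linear
endomorphism h of R ⊗ V commutes with g_R if and only if it commutes with both t_R and u_R.
Likewise, if an endomorphism X of V has additive Jordan decomposition X = Y + N (Y semisimple, N
nilpotent, commuting), then h commutes with X_R if and only if it commutes with both Y_R and N_R. -/
theorem result (k : Type u) [Field k] [PerfectField k]
    (V : Type u) [AddCommGroup V] [Module k V] [FiniteDimensional k V]
    (R : Type u) [CommRing R] [Algebra k R] (h : Module.End R (R ⊗[k] V)) :
    (∀ (g t u : Module.End k V), IsUnit g → t.IsSemisimple → IsNilpotent (u - 1) → Commute t u → g = t * u →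
      (Commute h (g.baseChange R) ↔ Commute h (t.baseChange R) ∧ Commute h (u.baseChange R))) ∧
    (∀ (X Y N : Module.End k V), Y.IsSemisimple → IsNilpotent N → Commute Y N → X = Y + N →
      (Commute h (X.baseChange R) ↔ Commute h (Y.baseChange R) ∧ Commute h (N.baseChange R))) := by
  have add : ∀ (X Y N : Module.End k V), Y.IsSemisimple → IsNilpotent N → Commute Y N → X = Y + N →
      (Commute h (X.baseChange R) ↔ Commute h (Y.baseChange R) ∧ Commute h (N.baseChange R)) := by
    intro X Y N hY hN hc hX
    subst hX
    obtain ⟨n, hn, s, hs, hn', hs', he⟩ := (Y + N).exists_isNilpotent_isSemisimple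
    have hns : Commute n s := Algebra.commute_of_mem_adjoin_singleton_of_commute hs
      (Algebra.commute_of_mem_adjoin_self hn).symm
    obtain ⟨e1, e2⟩ := Module.End.isNilpotent_isSemisimple_unique hN hY hn' hs' hc.symm hns
      (by rw [add_comm, ← he])
    constructor
    · intro hh
      have key : ∀ q ∈ Algebra.adjoin k {Y + N}, Commute h (q.baseChange R) := by
        intro q hq
        induction hq using Algebra.adjoin_induction with
        | mem z hz => rw [Set.mem_singleton_iff.mp hz]; exact hh
        | algebraMap c =>
          rw [Algebra.algebraMap_eq_smul_one, LinearMap.baseChange_smul]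
          refine Commute.smul_right ?_ c
          rw [Module.End.one_eq_id, LinearMap.baseChange_id, ← Module.End.one_eq_id]
          exact Commute.one_right h
        | add p q _ _ hp hq => rw [LinearMap.baseChange_add]; exact hp.add_right hq
        | mul p q _ _ hp hq => rw [LinearMap.baseChange_mul]; exact hp.mul_right hq
      exact ⟨key Y (e2 ▸ hs), key N (e1 ▸ hn)⟩
    · rintro ⟨h1, h2⟩
      rw [LinearMap.baseChange_add]
      exact h1.add_right h2
  refine ⟨fun g t u hgu ht hu hc hg => ?_, add⟩
  have hcomm : Commute t (t * (u - 1)) := (Commute.refl t).mul_right (hc.sub_right (Commute.one_right t))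
  have hnil : IsNilpotent (t * (u - 1)) := (hc.sub_right (Commute.one_right t)).isNilpotent_mul_left hu
  constructor
  · intro hh
    obtain ⟨h1, -⟩ := (add g t (t * (u - 1)) ht hnil hcomm (by rw [hg, mul_sub, mul_one]; abel)).mp hh
    refine ⟨h1, ?_⟩
    have htu : IsUnit t := by
      obtain ⟨v, rfl⟩ : IsUnit u := by simpa using hu.isUnit_one_add
      exact (Units.isUnit_mul_units t v).mp (hg ▸ hgu)
    obtain ⟨v, rfl⟩ := htu
    have hv : Commute h ((↑v⁻¹ : Module.End k V).baseChange R) :=
      Commute.units_inv_right (u := Units.map (Module.End.baseChangeHom k R V).toMonoidHom v) h1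
    have := hv.mul_right hh
    rw [← LinearMap.baseChange_mul, hg, Units.inv_mul_cancel_left] at this
    exact this
  · rintro ⟨h1, h2⟩
    rw [hg, LinearMap.baseChange_mul]
    exact h1.mul_right h2

end Groth.Agent.S15838
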