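import Groth.Statements.S15839
import Groth.Agent.S4599
import Mathlib.AlgebraicGeometry.Morphisms.Separated
set_option backward.isDefEq.respectTransparency false
set_option backward.isDefEq.respectTransparency.types false

set_option autoImplicit false
universe u
open CategoryTheory MonoidalCategory CartesianMonoidalCategory MonObj GrpObj AlgebraicGeometry
open SprIso

namespace Groth.Agent.S15839

/-- Let S be a scheme, G an S-group scheme which is affine and of finite presentation over S, and g a
section of G over S. Then the centralizer of g — the subfunctor of G whose points with values in an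
S-scheme T are the points x of G with x g_T = g_T x — is represented by a closed subscheme of G
whose inclusion is of finite presentation. -/
theorem result (S : Scheme.{u}) (G : Over S) [GrpObj G]
    [IsAffineHom G.hom] [LocallyOfFinitePresentation G.hom] (g : 𝟙_ (Over S) ⟶ G) :
    ∃ (Z : Over S) (j : Z ⟶ G), IsClosedImmersion j.left ∧ LocallyOfFinitePresentation j.left ∧
      ∀ (T : Over S) (x : T ⟶ G), (∃ z : T ⟶ Z, z ≫ j = x) ↔
        x * (toUnit T ≫ g) = (toUnit T ≫ g) * x := by
  let c : G ⟶ G := toUnit G ≫ g
  let f₁ : G ⟶ G := 𝟙 G * c
  let f₂ : G ⟶ G := c * 𝟙 G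
  refine ⟨Limits.equalizer f₁ f₂, Limits.equalizer.ι f₁ f₂, inferInstance, ?_, fun T x => ?_⟩
  · refine MorphismProperty.of_isPullback
      ((Limits.isPullback_equalizer_prod f₁ f₂).map (Over.forget _)).flip ?_
    rw [← MorphismProperty.cancel_right_of_respectsIso @LocallyOfFinitePresentation _
      (Over.prodLeftIsoPullback G G).hom]
    convert! (Groth.Agent.S4599.result G.hom : LocallyOfFinitePresentation (Limits.pullback.diagonal G.hom))
    ext1 <;> simp [← Over.comp_left]
  · have hc : x ≫ c = toUnit T ≫ g := by simp [c]
    constructor
    · rintro ⟨z, rfl⟩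
      have h := congrArg (z ≫ ·) (Limits.equalizer.condition f₁ f₂)
      simp only [f₁, f₂, ← Category.assoc, MonObj.comp_mul, Category.comp_id, hc] at h
      exact h
    · intro h
      have hcond : x ≫ f₁ = x ≫ f₂ := by simp only [f₁, f₂, MonObj.comp_mul, Category.comp_id, hc]; exact h
      exact ⟨Limits.equalizer.lift x hcond, Limits.equalizer.lift_ι _ _⟩

end Groth.Agent.S15839
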