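import Groth.Statements.S1584
import Mathlib
import Groth.Agent.ConnImgLib.Orbit

set_option autoImplicit false
universe u
open CategoryTheory CategoryTheory.Limits AlgebraicGeometry
open Variety

namespace Groth.Agent.S1584

/-- Let K be a Galois extension of k (possibly infinite) and X a scheme over k. A closed subset of X_K
which is mapped onto itself by the action of every k-automorphism of K is the inverse image of a
closed subset of X. -/
theorem result (k : Type u) [Field k] (X : Scheme.{u}) [X.Over (Spec (CommRingCat.of k))] (K : Type u) [Field K] [Algebra k K] [IsGalois k K]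
    (T' : Set (Curv2.bc k X K)) (hT' : IsClosed T') (hinv : ∀ σ : K ≃ₐ[k] K, (Curv2.galAct k X K σ).base '' T' = T') :
    ∃ T : Set X, IsClosed T ∧ (Curv2.bcFst k X K).base ⁻¹' T = T' := by
  refine ⟨(Curv2.bcFst k X K).base '' T', Groth.Agent.ConnImgLib.isClosedMap_fst (X ↘ Spec (CommRingCat.of k)) K _ hT', ?_⟩
  refine Set.Subset.antisymm ?_ (Set.subset_preimage_image _ _)
  exact Groth.Agent.ConnImgLib.preimage_subset_of_invariant (X ↘ Spec (CommRingCat.of k)) K hinv subset_rfl


end Groth.Agent.S1584
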