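import Groth.Statements.S15840
import Mathlib

set_option autoImplicit false
universe u
open SprIso

namespace Groth.Agent.S15840

open Polynomial

/-- For G = SL_n (n = r + 1) over a field of characteristic p > 0, write n = m p^e with m prime to p, so
that the identity component of the centre of G is μ_{p^e} embedded diagonally. The character of the
i-th exterior power of the standard representation takes the value C(n, i) α^i at a point α of
μ_{p^e}, and this is constant: for every commutative ring R of characteristic p and every α in R
with α^(p^e) = 1 one has C(n, i) α^i = C(n, i) in R, for all i. -/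
theorem result (p : ℕ) [Fact p.Prime] (R : Type u) [CommRing R]
    [CharP R p] (n : ℕ) (hn : 0 < n) (α : R) (hα : α ^ (p ^ padicValNat p n) = 1) (i : ℕ) :
    (n.choose i : R) * α ^ i = (n.choose i : R) := by
  obtain ⟨q, hq⟩ := pow_padicValNat_dvd (p := p) (n := n)
  have key : ((1 : R[X]) + C α * X) ^ n = (1 + X) ^ n := by
    conv_lhs => rw [hq, pow_mul, add_pow_char_pow, mul_pow, ← map_pow, hα, map_one, one_pow, one_mul]
    conv_rhs => rw [hq, pow_mul, add_pow_char_pow, one_pow]
  have h2 := congrArg (fun f => coeff f i) key
  simp only [coeff_one_add_X_pow] at h2
  rw [show ((1:R[X]) + C α * X) ^ n = ((1+X)^n).comp (C α * X) by simp [pow_comp],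
    comp_C_mul_X_coeff, coeff_one_add_X_pow] at h2
  exact h2

end Groth.Agent.S15840
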