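import Groth.Statements.S15841
import Mathlib.LinearAlgebra.TensorProduct.Tower
import Mathlib.RingTheory.TensorProduct.Basic
set_option backward.isDefEq.respectTransparency false
set_option backward.isDefEq.respectTransparency.types false

set_option autoImplicit false
universe u
open scoped TensorProduct
open SprIso

namespace Groth.Agent.S15841

/-- For a connected reductive group G with maximal torus T whose derived group is simply connected, and
a Coxeter element w (the product of the simple reflections, each once, in any order), an element of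
Lie T = k ⊗ X_*(T) fixed by Ad(w) is killed by the differential of every simple root, i.e. lies in
the centre of Lie G. In root-datum form: let P be a root pairing over ℤ with character lattice M and
cocharacter lattice N, b a base, and suppose each simple coroot has a dual character ω_i in M with
⟨ω_i, α_i^∨⟩ = 1 and ⟨ω_i, α_j^∨⟩ = 0 for every other simple j (the simply connected derived group
hypothesis). If l lists the simple roots without repetition, w^∨ is the composite of the
coreflections along l acting on N, k is a field and H in k ⊗ N satisfies w^∨_k H = H, then (α_i)_k H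
= 0 for every simple root α_i, where (α_i)_k is the base change to k of the functional ⟨α_i, −⟩ on
N. (Stated for an arbitrary field k; the published setting is an algebraically closed field, and the
argument does not depend on k.) -/
theorem result {ι M N : Type u} [AddCommGroup M] [AddCommGroup N]
    (P : RootPairing ι ℤ M N) (b : P.Base)
    (hsc : ∀ i ∈ b.support, ∃ ω : M, P.coroot' i ω = 1 ∧ ∀ j ∈ b.support, j ≠ i → P.coroot' j ω = 0)
    (l : List ι) (hl : l.Nodup) (hlb : ∀ i : ι, i ∈ l ↔ i ∈ b.support)
    (k : Type u) [Field k] (H : k ⊗[ℤ] N)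
    (hH : ((l.map (fun i => ((P.coreflection i : N ≃ₗ[ℤ] N) : N →ₗ[ℤ] N))).prod).baseChange k H = H) :
    ∀ i ∈ b.support, (P.root' i).baseChange k H = 0 := by
  classical
  let w : List ι → Module.End k (k ⊗[ℤ] N) := fun l =>
    ((l.map (fun i => ((P.coreflection i : N ≃ₗ[ℤ] N) : N →ₗ[ℤ] N))).prod).baseChange k
  let sp : ι → (k ⊗[ℤ] ℤ) →ₗ[k] k ⊗[ℤ] N := fun i => (LinearMap.toSpanSingleton ℤ N (P.coroot i)).baseChange k
  let A : ι → (k ⊗[ℤ] N) →ₗ[k] k ⊗[ℤ] ℤ := fun i => (P.root' i).baseChange k
  have hcons : ∀ i l x, w (i :: l) x = w l x - sp i (A i (w l x)) := by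
    intro i l x
    simp only [w, sp, A, List.map_cons, List.prod_cons, Module.End.mul_eq_comp, LinearMap.baseChange_comp,
      LinearMap.comp_apply]
    have e : ((P.coreflection i : N ≃ₗ[ℤ] N) : N →ₗ[ℤ] N) =
        LinearMap.id - (LinearMap.toSpanSingleton ℤ N (P.coroot i)).comp (P.root' i) := by
      ext n
      simp [RootPairing.coreflection_apply]
    rw [e, LinearMap.baseChange_sub, LinearMap.baseChange_comp, LinearMap.baseChange_id]
    rfl
  have hdual : ∀ i ∈ b.support, ∃ Ω : (k ⊗[ℤ] N) →ₗ[k] k ⊗[ℤ] ℤ,
      (∀ z, Ω (sp i z) = z) ∧ ∀ j ∈ b.support, j ≠ i → ∀ z, Ω (sp j z) = 0 := by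
    intro i hi
    obtain ⟨ω, h1, h0⟩ := hsc i hi
    refine ⟨(P.toLinearMap ω).baseChange k, fun z => ?_, fun j hj hne z => ?_⟩
    · rw [← LinearMap.comp_apply, ← LinearMap.baseChange_comp]
      rw [show (P.toLinearMap ω).comp (LinearMap.toSpanSingleton ℤ N (P.coroot i)) = LinearMap.id from
        LinearMap.ext_ring (by simpa using h1)]
      simp [LinearMap.baseChange_id]
    · rw [← LinearMap.comp_apply, ← LinearMap.baseChange_comp]
      rw [show (P.toLinearMap ω).comp (LinearMap.toSpanSingleton ℤ N (P.coroot j)) = 0 from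
        LinearMap.ext_ring (by simpa using h0 j hj hne)]
      simp
  have hinv : ∀ (Ω : (k ⊗[ℤ] N) →ₗ[k] k ⊗[ℤ] ℤ) (l : List ι), (∀ j ∈ l, ∀ z, Ω (sp j z) = 0) →
      ∀ x, Ω (w l x) = Ω x := by
    intro Ω l
    induction l with
    | nil => intro _ x; simp [w, Module.End.one_eq_id, LinearMap.baseChange_id]
    | cons j l ih =>
      intro h x
      rw [hcons, map_sub, h j (by simp), sub_zero, ih (fun a ha => h a (List.mem_cons_of_mem _ ha))]
  have key : ∀ l : List ι, l.Nodup → (∀ i ∈ l, i ∈ b.support) → ∀ x, w l x = x → ∀ i ∈ l, A i x = 0 := by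
    intro l
    induction l with
    | nil => intros; simp_all
    | cons i l ih =>
      intro hnd hsub x hx
      rw [List.nodup_cons] at hnd
      obtain ⟨Ω, hΩ1, hΩ0⟩ := hdual i (hsub i (by simp))
      have e := congrArg Ω hx
      rw [hcons, map_sub, hΩ1, hinv Ω l (fun j hj => hΩ0 j (hsub j (List.mem_cons_of_mem _ hj))
        (fun h => hnd.1 (h ▸ hj))), sub_eq_self] at e
      have hwx : w l x = x := by
        rw [hcons, e, map_zero, sub_zero] at hx
        exact hx
      rw [hwx] at e
      intro j hj
      rcases List.mem_cons.mp hj with rfl | hj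
      · exact e
      · exact ih hnd.2 (fun a ha => hsub a (List.mem_cons_of_mem _ ha)) x hwx j hj
  exact fun i hi => key l hl (fun a ha => (hlb a).mp ha) H hH i ((hlb i).mpr hi)

end Groth.Agent.S15841
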