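import Groth.Statements.S15845
import Mathlib
set_option backward.isDefEq.respectTransparency false
set_option backward.isDefEq.respectTransparency.types false

set_option autoImplicit false
universe u
open SprIso

namespace Groth.Agent.S15845

/-- General linear group case: this is the case G = GL_n with its upper-triangular Borel subgroup B
(derived group SL_n simply connected, all primes good, so the hypotheses on the characteristic
hold), together with the companion statement for a regular nilpotent element of Lie B. Let k be a
field and u an n × n upper-triangular matrix over k whose diagonal entries are all equal and whose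
superdiagonal entries u_{i,i+1} are all non-zero — for diagonal 1 this is a regular unipotent
element of B(k), for diagonal 0 a regular nilpotent element of Lie B. Then the centralizer of u in
GL_n is contained in B and is the product of the centre with the centralizer in the unipotent
radical: for every commutative k-algebra R and every invertible x ∈ M_n(R) commuting with u_R, x is
upper triangular and its diagonal entries are all equal. (The smoothness of the centralizer in the
unipotent radical, also part of the published statement, is not stated here.) -/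
theorem result (k : Type u) [Field k] (n : ℕ)
    (u : Matrix (Fin n) (Fin n) k) (htri : ∀ i j : Fin n, j < i → u i j = 0) (hdiag : ∀ i j : Fin n, u i i = u j j)
    (hreg : ∀ (i j : Fin n), j.val = i.val + 1 → u i j ≠ 0)
    (R : Type u) [CommRing R] [Algebra k R] (x : Matrix (Fin n) (Fin n) R) (hx : IsUnit x)
    (hxu : x * u.map (algebraMap k R) = u.map (algebraMap k R) * x) :
    (∀ i j : Fin n, j < i → x i j = 0) ∧ (∀ i j : Fin n, x i i = x j j) := by
  have hnil : ∀ a b : Fin n, b ≤ a → a ≠ b → u a b = 0 := fun a b hab hne => htri a b (lt_of_le_of_ne hab (Ne.symm hne))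
  have hunit : ∀ a b : Fin n, (b : ℕ) = a + 1 → IsUnit (algebraMap k R (u a b)) := fun a b h =>
    (IsUnit.mk0 _ (hreg a b h)).map _
  have hoff : ∀ a b : Fin n, ∑ c ∈ Finset.univ.erase b, x a c * algebraMap k R (u c b) =
      ∑ c ∈ Finset.univ.erase a, algebraMap k R (u a c) * x c b := by
    intro a b
    have h := congr_fun₂ hxu a b
    simp only [Matrix.mul_apply, Matrix.map_apply] at h
    rw [← Finset.add_sum_erase _ _ (Finset.mem_univ b), ← Finset.add_sum_erase _ _ (Finset.mem_univ a),
      hdiag b a, _root_.mul_comm (x a b)] at h
    exact add_left_cancel h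
  have step : ∀ d : ℕ, (∀ a b : Fin n, (b : ℕ) + d < a → x a b = 0) → ∀ (i j : Fin n), (i : ℕ) + 1 < n + 0 →
      (i : ℕ) + 1 = j + d → ∀ (i' : Fin n), (i' : ℕ) = i + 1 →
      (∀ j' : Fin n, (j' : ℕ) + 1 = j → x i j' * algebraMap k R (u j' j) = algebraMap k R (u i i') * x i' j) ∧
        ((j : ℕ) = 0 → algebraMap k R (u i i') * x i' j = 0) := by
    intro d IH i j _ hij i' hi'
    have h := hoff i j
    have hR : ∑ c ∈ Finset.univ.erase i, algebraMap k R (u i c) * x c j = algebraMap k R (u i i') * x i' j := by
      refine Finset.sum_eq_single_of_mem i' (Finset.mem_erase.mpr ⟨by intro h; have := congrArg Fin.val h; omega, Finset.mem_univ _⟩) ?_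
      intro c hc hne
      rw [Finset.mem_erase] at hc
      rcases lt_or_gt_of_ne hc.1 with hlt | hgt
      · rw [htri i c hlt, map_zero, zero_mul]
      · rw [IH c j (by have := Fin.val_ne_iff.mpr hne; change (i : ℕ) < c at hgt; omega), mul_zero]
    rw [hR] at h
    constructor
    · intro j' hj'
      rw [← h]
      symm
      refine Finset.sum_eq_single_of_mem j' (Finset.mem_erase.mpr ⟨by intro h; have := congrArg Fin.val h; omega, Finset.mem_univ _⟩) ?_
      intro c hc hne
      rw [Finset.mem_erase] at hc
      rcases lt_or_gt_of_ne hc.1 with hlt | hgt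
      · rw [IH i c (by have := Fin.val_ne_iff.mpr hne; change (c : ℕ) < j at hlt; omega), zero_mul]
      · rw [htri c j hgt, map_zero, mul_zero]
    · intro hj
      rw [← h, Finset.sum_eq_zero]
      intro c hc
      rw [Finset.mem_erase] at hc
      have hgt : j < c := by have := Fin.val_ne_iff.mpr hc.1; change (j : ℕ) < c; omega
      rw [htri c j hgt, map_zero, mul_zero]
  have lower : ∀ (m d : ℕ), n ≤ d + m → ∀ a b : Fin n, (b : ℕ) + d < a → x a b = 0 := by
    intro m
    induction m with
    | zero => intro d hd a b h; omega
    | succ m IH =>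
      intro d hd a b hab
      by_cases hlast : (b : ℕ) + (d + 1) < a
      · exact IH (d + 1) (by omega) a b hlast
      · have hab' : (a : ℕ) = b + (d + 1) := by omega
        clear hlast
        suffices hh : ∀ (b a : ℕ) (ha : a < n) (hb : b < n), a = b + (d + 1) → x ⟨a, ha⟩ ⟨b, hb⟩ = 0 from
          hh b a a.2 b.2 hab'
        clear hab hab' a b
        intro b
        induction b with
        | zero =>
          intro a ha hb hab'
          have := (step (d + 1) (IH (d + 1) (by omega)) ⟨a - 1, by omega⟩ ⟨0, hb⟩ (by simp; omega) (by simp; omega)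
            ⟨a, ha⟩ (by simp; omega)).2 rfl
          exact (hunit ⟨a - 1, by omega⟩ ⟨a, ha⟩ (by simp; omega)).mul_right_eq_zero.mp this
        | succ b IHb =>
          intro a ha hb hab'
          have h := (step (d + 1) (IH (d + 1) (by omega)) ⟨a - 1, by omega⟩ ⟨b + 1, hb⟩ (by simp; omega) (by simp; omega)
            ⟨a, ha⟩ (by simp; omega)).1 ⟨b, by omega⟩ rfl
          rw [IHb (a - 1) (by omega) (by omega) (by omega), zero_mul] at h
          exact (hunit ⟨a - 1, by omega⟩ ⟨a, ha⟩ (by simp; omega)).mul_right_eq_zero.mp h.symm
  have low : ∀ a b : Fin n, b < a → x a b = 0 := fun a b h => lower n 0 (by omega) a b (by simpa using h)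
  refine ⟨low, ?_⟩
  suffices h : ∀ (c : ℕ) (hc : c < n), x ⟨c, hc⟩ ⟨c, hc⟩ = x ⟨0, by omega⟩ ⟨0, by omega⟩ from
    fun i j => (h i i.2).trans (h j j.2).symm
  intro c
  induction c with
  | zero => intro hc; rfl
  | succ c IHc =>
    intro hc
    have h := (step 0 (fun a b hab => low a b (by simpa using hab)) ⟨c, by omega⟩ ⟨c + 1, hc⟩ (by simp; omega) rfl
      ⟨c + 1, hc⟩ rfl).1 ⟨c, by omega⟩ rfl
    rw [← IHc (by omega)]
    rw [_root_.mul_comm] at h
    exact (hunit ⟨c, by omega⟩ ⟨c + 1, hc⟩ rfl).mul_left_cancel h |>.symm

end Groth.Agent.S15845
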