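import Groth.Statements.S15851
import Groth.Agent.ExtStabLib.CurveBidual
import Groth.Agent.TwistShriek.SurfCan
import Groth.Agent.ASBunKS.RankOne
import Groth.Agent.LazMukLib.Num
-- import your own Groth.Agent.* helpers here

set_option autoImplicit false
set_option backward.isDefEq.respectTransparency false
set_option maxHeartbeats 800000
set_option synthInstance.maxHeartbeats 200000
universe u
open CategoryTheory CategoryTheory.Limits AlgebraicGeometry
attribute [local instance] HasDerivedCategory.standard
open Surf

namespace Groth.Agent.S15851

open Groth.Agent CategoryTheory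
set_option backward.isDefEq.respectTransparency false
set_option maxHeartbeats 800000
set_option synthInstance.maxHeartbeats 200000

/-- Let k be an algebraically closed field of characteristic zero, S a smooth projective surface over k
(integral, smooth over k, of dimension two, with a closed immersion over k into some projective
space) and ω an O_S-module which is a second exterior power of the sheaf of differentials of S over
k (the canonical sheaf). Let j : C → S be a closed immersion with C integral of dimension one and A
a coherent O_C-module with torsion-free stalks and one-dimensional generic stalk (a rank-one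
torsion-free sheaf on C). Put A^* = Ext^1_{O_S}(j_*A, ω), the value at ω of the first right derived
functor of the sheaf Hom functor Hom_{O_S}(j_*A, -) (taken as the right adjoint of j_*A ⊗ -). Then
Ext^1_{O_S}(A^*, ω) is isomorphic to j_*A: the operation A ↦ A^* is an involution up to isomorphism
(existence of an isomorphism only). (The instance binders on sheaf Hom functors and injective
resolutions always hold.) -/
theorem result
    (k : Type u) [Field k] [IsAlgClosed k] [CharZero k]
    (S : Scheme.{u}) [S.Over (Spec (CommRingCat.of k))] [IsIntegral S]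
    [Smooth (S ↘ Spec (CommRingCat.of k))] (hdim : topologicalKrullDim S = 2)
    [IsProper (S ↘ Spec (CommRingCat.of k))]
    (hproj : ∃ (n : ℕ) (ι : S ⟶ CohB1.ProjSpace n k), IsClosedImmersion ι ∧
      ι ≫ CohB1.ProjSpace.toSpec n k = S ↘ Spec (CommRingCat.of k))
    [HasInjectiveResolutions S.Modules]
    (ω : S.Modules) (hω : Canon.IsTopDiff (S ↘ Spec (CommRingCat.of k)) 2 ω)
    (C : Scheme.{u}) (j : C ⟶ S) [IsClosedImmersion j] [IsIntegral C]
    (hC : topologicalKrullDim C = 1)
    (M : C.Modules) (hM : Coh.IsCoh M) (hMtf : TorSh.IsTorsionFree M)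
    (hrk : Module.finrank (C.presheaf.stalk (genericPoint C)) (M.presheaf.stalk (genericPoint C)) = 1)
    [DCoh.HasSheafHom ((Coh.push j).obj M)] [(DCoh.sheafHom ((Coh.push j).obj M)).Additive]
    [DCoh.HasSheafHom (((DCoh.sheafHom ((Coh.push j).obj M)).rightDerived 1).obj ω)]
    [(DCoh.sheafHom (((DCoh.sheafHom ((Coh.push j).obj M)).rightDerived 1).obj ω)).Additive] :
    Nonempty (((DCoh.sheafHom (((DCoh.sheafHom ((Coh.push j).obj M)).rightDerived 1).obj ω)).rightDerived 1).obj ω ≅ (Coh.push j).obj M) := by
  haveI := EulerIneqLib.isNoetherian_proper (X := S) k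
  haveI : IsLocallyNoetherian C := LocallyOfFiniteType.isLocallyNoetherian j
  have hη : genericPoint S ∉ Set.range j := by
    intro hm
    have hu : Set.range j = Set.univ := Set.eq_univ_iff_forall.2 fun y =>
      (genericPoint_specializes y).mem_closed j.isClosedEmbedding.isClosed_range hm
    have h := (j.isEmbedding.toHomeomorph.isHomeomorph).topologicalKrullDim_eq
    rw [hC, hu, (Homeomorph.Set.univ S).isHomeomorph.topologicalKrullDim_eq, hdim] at h
    exact absurd h (by norm_num)
  have hFc : Coh.IsCoh ((Coh.push j).obj M) := DevLib.isCoh_pushforward_closed j hM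
  haveI := hFc.1
  obtain ⟨hωi, -, -⟩ := TwistShriek.canonical_data_proper k hdim hω
  obtain ⟨H, hH⟩ := TwistShriek.exists_ample_of_smooth (k := k) (X := S) hdim
  obtain ⟨F, f, hF, hf⟩ := S1108.result S H hH ((Coh.push j).obj M) hFc.1 hFc.2
  haveI := hf
  have hK := S15848.result k S hdim C j hC M hM hMtf F hF f
  obtain ⟨a⟩ := ExtStab.nonempty_double_iso ((Coh.push j).obj M) ω
  obtain ⟨b⟩ := ExtStab.nonempty_extSh_bidual (S := ShortComplex.mk (kernel.ι f) f (kernel.condition f))
    (ShortComplex.ShortExact.mk' (ShortComplex.exact_of_f_is_kernel _ (kernelIsKernel f)) inferInstance hf)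
    hK hF hFc (DCohLib.subsingleton_stalk_pushforward j M _ hη) hωi
  exact ⟨a ≪≫ b⟩

end Groth.Agent.S15851
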