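import Groth.Statements.S15854
import Groth.Agent.ExtStabLib.Section
-- import your own Groth.Agent.* helpers here

set_option autoImplicit false
set_option backward.isDefEq.respectTransparency false
set_option maxHeartbeats 800000
set_option synthInstance.maxHeartbeats 200000
universe u
open CategoryTheory CategoryTheory.Limits AlgebraicGeometry Polynomial
open ShStab

namespace Groth.Agent.S15854

open Groth.Agent CategoryTheory
set_option backward.isDefEq.respectTransparency false
set_option maxHeartbeats 800000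
set_option synthInstance.maxHeartbeats 200000

/-- Let k be an algebraically closed field of characteristic zero and S a K3 surface over k — a smooth
projective surface (integral, smooth over k, of dimension two, with a closed immersion over k into
some projective space) whose structure sheaf is a second exterior power of its sheaf of
differentials and with H^1(S, O_S) = 0 — whose Picard group is infinite cyclic, generated by the
class of an ample invertible sheaf L. Let V be a locally free O_S-module of rank two, stable of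
dimension two with respect to L, with Hilbert polynomial P, P(m) = χ(V ⊗ L^m), such that the
coefficients of m and m^2 in P agree (c_1(V)·L = L^2, i.e. the first Chern class of V is the class
of L), and let n be a natural number with P(n) = χ(V ⊗ L^n) ≥ 1 (by Riemann–Roch this is the bound
c_2(V) ≤ (n^2 + n + 1/2) L^2 + 3). Then V is an extension of type m for some m ≤ n: there are a
natural number m ≤ n, an invertible O_S-module M whose class is the inverse of the class of L^{⊗m},
a coherent subsheaf N ⊆ L^{⊗(m+1)} whose quotient is supported in dimension at most zero (N is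
L^{⊗(m+1)} twisted by the ideal of a finite subscheme Z_m), and a short exact sequence 0 → M → V → N
→ 0. (The published statement also records the length of Z_m as c_2 + m(m+1)L^2; that Chern-class
bookkeeping is not restated here. The published statement also assumes the lower bound c_2 >
((n-1)^2 + (n-1) + 1/2) L^2 + 3 with n ≥ 1; the argument uses only the upper bound, and neither the
lower bound nor n ≥ 1 is assumed here.) -/
theorem result
    (k : Type u) [Field k] [IsAlgClosed k] [CharZero k]
    (S : Scheme.{u}) [S.Over (Spec (CommRingCat.of k))] [IsIntegral S]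
    [Smooth (S ↘ Spec (CommRingCat.of k))] (hdim : topologicalKrullDim S = 2)
    [IsProper (S ↘ Spec (CommRingCat.of k))]
    (hproj : ∃ (n : ℕ) (ι : S ⟶ CohB1.ProjSpace n k), IsClosedImmersion ι ∧
      ι ≫ CohB1.ProjSpace.toSpec n k = S ↘ Spec (CommRingCat.of k))
    (hK : Canon.IsTopDiff (S ↘ Spec (CommRingCat.of k)) 2 (Coh.structureModule S))
    (hq : Module.finrank k (Coh.HH S (Coh.structureModule S) 1) = 0)
    (L : S.Modules) (hLi : PicF.IsInvertible L) (hLa : CohB1.IsAmple L)
    [PicGrp.Law S] (hgen : ∀ c : PicLoc.PicSet S, ∃ n : ℤ, c = PicGrp.cls L hLi ^ n)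
    (hfree : ∀ n : ℤ, PicGrp.cls L hLi ^ n = 1 → n = 0)
    (V : S.Modules) (hV : FlatMod.IsFinLocFreeOfRank 2 V)
    (hst : ShStab.IsStable k S L V 2)
    (P : ℚ[X]) (hP : ShStab.IsHilbPoly k S L V P) (hc1 : P.coeff 1 = P.coeff 2)
    (n : ℕ) (hn : 1 ≤ P.eval (n : ℚ)) :
    ∃ (m : ℕ) (_ : m ≤ n) (M : S.Modules) (hM : PicF.IsInvertible M)
      (_ : PicGrp.cls M hM * PicGrp.cls L hLi ^ m = 1)
      (N : S.Modules) (ι : N ⟶ CohB1.tensorPow L (m + 1)) (_ : Mono ι) (_ : Coh.IsCoh N)
      (_ : topologicalKrullDim (CohB1.support (cokernel ι)) ≤ 0)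
      (a : M ⟶ V) (b : V ⟶ N) (w : a ≫ b = 0),
      (ShortComplex.mk a b w).ShortExact := by
  classical
  haveI := EulerIneqLib.isNoetherian_proper (X := S) k
  have hμ := ExtStab.isMuSemistable_of_isStable k hLa hst
  obtain ⟨PO, -, hPO⟩ := ShStabLib.exists_hp k hLa (DevLib.isCoh_structureModule S) (d := 2)
    (lt_of_le_of_lt (Topology.IsInducing.subtypeVal.topologicalKrullDim_le.trans hdim.le)
      (by exact_mod_cast Nat.lt_succ_self 2))
  have ha := ExtStab.alpha_one_structure k hdim hLa hK hPO
  have hV2 : StabCat.alpha 2 P = 2 * (Nakai.form k (Nakai.cl hLa.1) (Nakai.cl hLa.1) : ℚ) := by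
    rw [ExtStab.alpha_two_eq k hdim hLa hμ.1 hP, VBLib.grk_of_rank hV, Nat.cast_ofNat]
  have hV1 : StabCat.alpha 1 P =
      2 * StabCat.alpha 1 PO + (Nakai.form k (Nakai.cl hLa.1) (Nakai.cl hLa.1) : ℚ) := by
    have e1 : StabCat.alpha 1 P = P.coeff 1 := by simp [StabCat.alpha]
    have e2 : StabCat.alpha 2 P = 2 * P.coeff 2 := by norm_num [StabCat.alpha]
    rw [ha, e1, hc1]
    linarith
  obtain ⟨T, hT, hTc, j, hj⟩ := ExtStab.exists_hom_of_euler k hdim hLa hK hgen hμ hP hPO hV2 hV1 n hn
  obtain ⟨m, hm1, hm2, M, hM, hMc, L', hL', hLc, N, ι, hι, hN, hfin, a, b, w, hS⟩ :=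
    ExtStab.exists_ext_of_section k hdim hLa hgen (TFCurvSSLib.isTorsionFree_flf hV) hμ hP hPO hV2 hV1 hT _ hTc
      (Or.inl (LazMuk.isReflexive_flf' hV)) j hj
  obtain ⟨q, rfl⟩ : ∃ q : ℕ, m = -(q : ℤ) := ⟨(-m).toNat, by omega⟩
  have hpow : PicGrp.cls L' hL' =
      PicGrp.cls (CohB1.tensorPow L (q + 1)) (AmpleLib.isInvertible_tensorPow hLi (q + 1)) := by
    rw [hLc, show (1 : ℤ) - -(q : ℤ) = ((q + 1 : ℕ) : ℤ) by omega, zpow_natCast]
    exact Subtype.ext (PicGrp.cls_pow_val hLi (q + 1))
  obtain ⟨eL⟩ := (PicGrp.cls_eq_cls_iff _ _).1 hpow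
  obtain ⟨ι', hι', hfin'⟩ := ExtStab.exists_comp_iso ι hι hfin eL
  refine ⟨q, by omega, M, hM, ?_, N, ι', hι', hN, hfin', a, b, w, hS⟩
  rw [hMc, zpow_neg, zpow_natCast, inv_mul_cancel]

end Groth.Agent.S15854
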