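import Groth.Statements.S1586
import Groth.Agent.NodalLib.FieldChange
import Groth.Agent.GeomIrred.CurvPoint
import Mathlib.FieldTheory.Normal.Basic


set_option autoImplicit false
universe u
open CategoryTheory CategoryTheory.Limits AlgebraicGeometry
open Curves

namespace Groth.Agent.S1586

open CategoryTheory CategoryTheory.Limits AlgebraicGeometry

open Groth.Agent
set_option backward.isDefEq.respectTransparency false

/-- Let X be of finite type over k of dimension one and x a node of X. Then every point of the base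
change of X to an algebraic closure of k lying over x is an ordinary double point (its complete
local ring is the quotient of the power series ring in two variables by their product). -/
theorem result (k : Type u) [Field k] (X : Scheme.{u}) [X.Over (Spec (CommRingCat.of k))]
    [LocallyOfFiniteType (X ↘ (Spec (CommRingCat.of k)))] [QuasiCompact (X ↘ (Spec (CommRingCat.of k)))] (hdim : topologicalKrullDim X = 1)
    (x : X) (hx : Curv2.IsNode k X x) (xb : Curv2.bc k X (AlgebraicClosure k)) (hxb : Curv2.bcFst k X (AlgebraicClosure k) xb = x) :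
    @Curv2.IsOrdDoublePt (AlgebraicClosure k) _ ((Curv2.bc k X (AlgebraicClosure k)).presheaf.stalk xb) _
      (@Curv2.stalkAlgebra (AlgebraicClosure k) _ (Curv2.bc k X (AlgebraicClosure k)) ⟨Curv2.bcSnd k X (AlgebraicClosure k)⟩ xb) _ := by
  obtain ⟨hxc, z, hz, h⟩ := hx
  let K := AlgebraicClosure k
  letI : (Curv2.bc k X K).Over (Spec (CommRingCat.of K)) := ⟨Curv2.bcSnd k X K⟩
  haveI : LocallyOfFiniteType (Curv2.bcSnd k X K) :=
    inferInstanceAs (LocallyOfFiniteType (pullback.snd (X ↘ Spec (CommRingCat.of k)) _))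
  letI := Curv2.resAlgebra k X x
  -- geometric points over `x`
  have point : ∀ w : Curv2.bc k X K, Curv2.bcFst k X K w = x → ∃ (p : Spec (CommRingCat.of K) ⟶ Curv2.bc k X K)
      (e : X.residueField x →ₐ[k] K), p ≫ Curv2.bcSnd k X K = 𝟙 _ ∧ p (IsLocalRing.closedPoint K) = w ∧
        p ≫ Curv2.bcFst k X K = Spec.map (CommRingCat.ofHom e.toRingHom) ≫ X.fromSpecResidueField x := by
    intro w hw
    have hwc : IsClosed ({w} : Set (Curv2.bc k X K)) := NodalLib.closed_over hxc w hw
    let p := pointOfClosedPoint (Curv2.bcSnd k X K) w hwc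
    have hp : p ≫ Curv2.bcSnd k X K = 𝟙 _ := pointOfClosedPoint_comp _ _ _
    have hpw : p (IsLocalRing.closedPoint K) = w := pointOfClosedPoint_apply _ _ _ _
    obtain ⟨x', e', he'⟩ : ∃ (x' : X) (e' : X.residueField x' ⟶ CommRingCat.of K),
        Spec.map e' ≫ X.fromSpecResidueField x' = p ≫ Curv2.bcFst k X K :=
      ⟨_, _, (Scheme.SpecToEquivOfField K X).symm_apply_apply (p ≫ Curv2.bcFst k X K)⟩
    obtain rfl : x' = x := by
      have := congrArg (fun φ : Spec (CommRingCat.of K) ⟶ X => φ (IsLocalRing.closedPoint K)) he'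
      simpa [Scheme.fromSpecResidueField_apply, hpw, hw] using this
    have hk : CommRingCat.ofHom (Curv2.resMap k X x') ≫ e' = CommRingCat.ofHom (algebraMap k K) := by
      refine Spec.map_injective ?_
      rw [Spec.map_comp, GeomIrred.spec_resMap, ← Category.assoc, he', Category.assoc,
        show Curv2.bcFst k X K ≫ (X ↘ Spec (CommRingCat.of k)) =
          Curv2.bcSnd k X K ≫ Spec.map (CommRingCat.ofHom (algebraMap k K)) from pullback.condition,
        ← Category.assoc, hp, Category.id_comp]
    exact ⟨p, { e'.hom with commutes' := fun c => RingHom.congr_fun (congrArg CommRingCat.Hom.hom hk) c },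
      hp, hpw, he'.symm⟩
  obtain ⟨p, e₁, hp, hpz, hp1⟩ := point z hz
  obtain ⟨p', e₂, hp', hpz', hp2⟩ := point xb hxb
  -- a conjugation
  let θ : e₁.fieldRange ≃ₐ[k] e₂.fieldRange :=
    (AlgEquiv.ofInjectiveField e₁).symm.trans (AlgEquiv.ofInjectiveField e₂)
  let σ : K ≃ₐ[k] K := θ.liftNormal K
  have hσ : ∀ a, σ (e₁ a) = e₂ a := fun a => by
    have h := θ.liftNormal_commutes K (AlgEquiv.ofInjectiveField e₁ a)
    exact h.trans (congrArg (fun y => ((AlgEquiv.ofInjectiveField e₂) y : K)) ((AlgEquiv.ofInjectiveField e₁).symm_apply_apply a))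
  obtain ⟨j, hj, hj2, hord⟩ := NodalLib.ordPt_compare k (k' := k) (X := X)
    (by rw [Algebra.algebraMap_self, CommRingCat.ofHom_id, Spec.map_id, Category.comp_id]) σ
  let t : Spec (CommRingCat.of K) ⟶ Spec (CommRingCat.of K) := Spec.map (CommRingCat.ofHom σ.toRingEquiv.toRingHom)
  have hpp : p' ≫ j = t ≫ p := by
    refine pullback.hom_ext ?_ ?_
    · rw [Category.assoc, hj, hp2, Category.assoc, hp1, ← Category.assoc, ← Spec.map_comp]
      congr 2
      ext a
      exact (hσ a).symm
    · rw [Category.assoc, hj2, ← Category.assoc, hp', Category.id_comp, Category.assoc, hp, Category.comp_id]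
  have hjz : j xb = z := by
    rw [← hpz', ← Scheme.Hom.comp_apply, hpp, Scheme.Hom.comp_apply]
    exact (congrArg p (Subsingleton.elim _ _)).trans hpz
  refine (hord xb (NodalLib.closed_over hxc xb hxb)).1 ?_
  rw [hjz]
  exact h


end Groth.Agent.S1586
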