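import Groth.Statements.S15866
import Groth.Agent.MultDegLib.Basic
import Groth.Agent.IMultLib.MultOne
import Groth.Agent.InfNbhdLib.Scheme
import Groth.Agent.EtAlgEasy.ConormalStalk
import Groth.Agent.RelPurLib.RegPairs
import Groth.Agent.CurveFF.Point2
-- import your own Groth.Agent.* helpers here

set_option autoImplicit false
set_option backward.isDefEq.respectTransparency false
set_option backward.isDefEq.respectTransparency.types false
open CategoryTheory CategoryTheory.Limits AlgebraicGeometry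
open SurfBl

namespace Groth.Agent.S15866

/-- Let S be a smooth projective surface over the complex numbers (integral, smooth of relative
dimension 2 over C) with a closed immersion ι over C into some projective space P^n, H = ι^*O(1) the
very ample invertible module, C ⊆ S an integral curve (an integral closed subscheme of dimension
one, closed immersion j over C), P a closed point of S with ideal m_P, and m a natural number such
that the ideal of C is contained in m_P^m, i.e. C has multiplicity at least m at P. Then H·C ≥ m,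
where H·C is the degree of H|_C on C, written χ(C, j^*H) − χ(C, O_C). (The published statement is
for a curve C ⊆ S; this row takes C integral.) -/
theorem result
    (S : Scheme.{0}) [S.Over (Spec (CommRingCat.of ℂ))] [IsIntegral S]
    [SmoothOfRelativeDimension 2 (S ↘ Spec (CommRingCat.of ℂ))]
    (n : ℕ) (ι : S ⟶ CohB1.ProjSpace n ℂ) [IsClosedImmersion ι]
    (hι : ι ≫ CohB1.ProjSpace.toSpec n ℂ = S ↘ Spec (CommRingCat.of ℂ))
    (C : Scheme.{0}) [C.Over (Spec (CommRingCat.of ℂ))] [IsIntegral C] (hdimC : topologicalKrullDim ↥C = 1)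
    (j : C ⟶ S) [IsClosedImmersion j] (hj : j ≫ (S ↘ Spec (CommRingCat.of ℂ)) = C ↘ Spec (CommRingCat.of ℂ))
    (P : ↥S) (hP : IsClosed ({P} : Set ↥S)) (m : ℕ)
    (hm : j.ker ≤ Scheme.IdealSheafData.vanishingIdeal ⟨{P}, hP⟩ ^ m) :
    (m : ℤ) ≤ Curv2.deg ℂ C ((Scheme.Modules.pullback j).obj
      ((Scheme.Modules.pullback ι).obj (Twist.twistProjSpace n ℂ 1))) 1 := by
  classical
  haveI : Smooth (S ↘ Spec (CommRingCat.of ℂ)) := SmoothOfRelativeDimension.smooth 2 _
  have hn : IsLocallyNoetherian S := LocallyOfFiniteType.isLocallyNoetherian (S ↘ Spec (CommRingCat.of ℂ))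
  haveI : IsProper (S ↘ Spec (CommRingCat.of ℂ)) := by rw [← hι]; infer_instance
  haveI : IsProper (C ↘ Spec (CommRingCat.of ℂ)) := by rw [← hj]; infer_instance
  obtain ⟨Q, hQ, hQP⟩ : ∃ Q : C, IsClosed ({Q} : Set C) ∧ (0 < m → j Q = P) := by
    rcases Nat.eq_zero_or_pos m with rfl | hm0
    · haveI : IsNoetherian C := Groth.Agent.EulerIneqLib.isNoetherian_proper ℂ
      obtain ⟨Q, -, hQ⟩ := (isClosed_univ (X := C)).exists_closed_singleton Set.univ_nonempty
      exact ⟨Q, hQ, fun h => absurd h (lt_irrefl 0)⟩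
    · have h1 : P ∈ Set.range j := by
        by_contra hP'
        have h2 := Groth.Agent.IMultLib.stalkIdeal_mono hm P
        rw [Groth.Agent.HilbObsLib.stalkIdeal_eq_top j.ker (by
            rw [Scheme.IdealSheafData.range_subschemeι, Scheme.Hom.support_ker,
              IsClosed.closure_eq j.isClosedEmbedding.isClosed_range]
            exact hP'), Groth.Agent.InfNbhdLib.stalkIdeal_pow,
          (Groth.Agent.CurveFF.stalkIdeal_point hP).1] at h2
        exact (Ideal.pow_le_self hm0.ne').trans_lt (lt_top_iff_ne_top.2 (IsLocalRing.maximalIdeal.isMaximal _).ne_top)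
          |>.ne (top_le_iff.1 h2)
      obtain ⟨Q, hQP⟩ := h1
      refine ⟨Q, ?_, fun _ => hQP⟩
      rw [show ({Q} : Set C) = j ⁻¹' {P} from Set.ext fun y => ⟨fun h => by rw [h]; exact hQP,
        fun h => j.isClosedEmbedding.injective (h.trans hQP.symm)⟩]
      exact hP.preimage j.continuous
  have hL₁ := Groth.Agent.AmpleLib.isInvertible_pullback ι (Groth.Agent.AmpleEmb.isInvertible_twistOne n ℂ)
  have hL := Groth.Agent.AmpleLib.isInvertible_pullback j hL₁
  let s := fun a => Groth.Agent.RelVALib.pullSec j (Groth.Agent.RelVALib.pullSec ι (Groth.Agent.AmpleEmb.coordSec n ℂ a))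
  have hs : ∀ a, CohB1.genLocus _ (s a) = j ⁻¹ᵁ (ι ⁻¹ᵁ Groth.Agent.AmpleEmb.stdOpen n ℂ a) := fun a => by
    rw [← Groth.Agent.AmpleEmb.genLocus_coordSec, ← Groth.Agent.RelVALib.genLocus_pullSec ι
      (Groth.Agent.AmpleEmb.isInvertible_twistOne n ℂ), ← Groth.Agent.RelVALib.genLocus_pullSec j hL₁]
  obtain ⟨t, r, ht, hr, e, he, hte⟩ := Groth.Agent.MultDeg.exists_sec_vanishing ℂ
    (by rw [hdimC]; exact not_le.2 zero_lt_one) hL s (fun x => by
      have : ι (j x) ∈ ⨆ a, Groth.Agent.AmpleEmb.stdOpen n ℂ a := by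
        rw [Groth.Agent.AmpleEmb.iSup_stdOpen]; trivial
      obtain ⟨a, ha⟩ := TopologicalSpace.Opens.mem_iSup.1 this
      exact ⟨a, by rw [hs]; exact ha⟩)
    (fun a => by rw [hs]; exact ((Groth.Agent.AmpleEmb.isAffineOpen_stdOpen n ℂ a).preimage ι).preimage j) hQ
  haveI : Mono t := Groth.Agent.CurveLib.mono_of_ne_zero Groth.Agent.ParaFLib.isInvertible_structureModule hL ht
  let q := Groth.Agent.PullbackMod.stalkLin (cokernel.π t) Q
  -- the image of `r • e` vanishes, `e` survives
  have hker : ∀ v : C.presheaf.stalk Q, q (v • e) = 0 ↔ v ∈ Ideal.span {r} := by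
    intro v
    refine (Groth.Agent.DevLib.coker_exact t Q _).trans ?_
    constructor
    · rintro ⟨w, hw⟩
      obtain ⟨u, rfl⟩ := (Groth.Agent.ParaFLib.bijective_oneG Q).2 w
      rw [map_smul, hte, smul_smul] at hw
      exact Ideal.mem_span_singleton'.2 ⟨u, he.1 hw⟩
    · intro hv
      obtain ⟨u, rfl⟩ := Ideal.mem_span_singleton'.1 hv
      exact ⟨u • Groth.Agent.ParaFLib.oneG Q, by rw [map_smul, hte, smul_smul]⟩
  have hsupp : ¬ Subsingleton ((cokernel t).presheaf.stalk Q) := fun h => by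
    have := (hker 1).1 (Subsingleton.elim _ _)
    exact (IsLocalRing.maximalIdeal.isMaximal _).ne_top ((Ideal.eq_top_iff_one _).2
      ((Ideal.span_singleton_le_iff_mem _).2 hr this))
  obtain ⟨hfin, hle⟩ := Groth.Agent.MultDeg.finrank_stalk_coker_le_deg ℂ hdimC.le hL ht hsupp
  refine le_trans (Int.ofNat_le.2 ?_) hle
  rcases Nat.eq_zero_or_pos m with rfl | hm0
  · exact Nat.zero_le _
  have hPQ := hQP hm0
  subst hPQ
  let π := (j.stalkMap Q).hom
  obtain ⟨G, hG⟩ := j.stalkMap_surjective Q r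
  have hGm : G ∈ IsLocalRing.maximalIdeal (S.presheaf.stalk (j Q)) := by
    refine fun hu => hr ?_
    rw [← hG]
    exact hu.map _
  have hkm : RingHom.ker π ≤ IsLocalRing.maximalIdeal (S.presheaf.stalk (j Q)) ^ m := by
    rw [← Groth.Agent.EtAlgEasy.ConormalStalk.stalkIdeal_ker j Q,
      ← (Groth.Agent.CurveFF.stalkIdeal_point hP).1, ← Groth.Agent.InfNbhdLib.stalkIdeal_pow]
    exact Groth.Agent.IMultLib.stalkIdeal_mono hm (j Q)
  let V := Groth.Agent.CurveLib.KStalk ℂ (cokernel t) Q
  let ψ : S.presheaf.stalk (j Q) →+ V :=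
    { toFun := fun v => q (π v • e)
      map_zero' := by rw [map_zero, zero_smul, map_zero]
      map_add' := fun a b => by rw [map_add, add_smul, map_add] }
  have hψs : ∀ (c : ℂ) v, c • ψ v =
      ψ (S.presheaf.germ ⊤ (j Q) trivial (Coh.toGlobal (S ↘ Spec (CommRingCat.of ℂ)) c) * v) := by
    intro c v
    have hc : π (S.presheaf.germ ⊤ (j Q) trivial (Coh.toGlobal (S ↘ Spec (CommRingCat.of ℂ)) c)) =
        C.presheaf.germ ⊤ Q trivial (Coh.toGlobal (C ↘ Spec (CommRingCat.of ℂ)) c) := by
      refine (Scheme.Hom.germ_stalkMap_apply j ⊤ Q trivial _).trans (congrArg (C.presheaf.germ ⊤ Q trivial) ?_)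
      simp only [Coh.toGlobal, ← hj, Scheme.Hom.comp_appTop]
      rfl
    show _ = q (π (_ * v) • e)
    rw [map_mul, hc, mul_smul, map_smul]
    rfl
  let W : ℕ → Submodule ℂ V := fun i =>
    { carrier := ψ '' (IsLocalRing.maximalIdeal (S.presheaf.stalk (j Q)) ^ i : Ideal _)
      add_mem' := by
        rintro _ _ ⟨a, ha, rfl⟩ ⟨b, hb, rfl⟩
        exact ⟨a + b, Ideal.add_mem _ ha hb, map_add ψ a b⟩
      zero_mem' := ⟨0, zero_mem _, map_zero ψ⟩
      smul_mem' := by
        rintro c _ ⟨a, ha, rfl⟩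
        exact ⟨_, Ideal.mul_mem_left _ _ ha, (hψs c a).symm⟩ }
  haveI : Module.Finite ℂ V := hfin
  refine Groth.Agent.MultDeg.le_finrank_of_chain W m fun i hi => lt_of_le_not_ge ?_ fun hge => ?_
  · rintro _ ⟨a, ha, rfl⟩
    exact ⟨a, Ideal.pow_le_pow_right (Nat.le_succ i) ha, rfl⟩
  · haveI := hn
    refine Groth.Agent.MultDeg.not_pow_le (by
      rw [Groth.Agent.RelPurLib.ringKrullDim_stalk_of_isClosed (S ↘ Spec (CommRingCat.of ℂ)) 2 (j Q) hP]
      exact_mod_cast one_lt_two) hGm i fun a ha => ?_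
    obtain ⟨b, hb, hab⟩ := hge ⟨a, ha, rfl⟩
    have h0 : q (π (a - b) • e) = 0 := by
      rw [map_sub, sub_smul, map_sub, sub_eq_zero]
      exact hab.symm
    obtain ⟨u, hu⟩ := Ideal.mem_span_singleton'.1 ((hker _).1 h0)
    obtain ⟨U, rfl⟩ := j.stalkMap_surjective Q u
    have hk : a - b - U * G ∈ RingHom.ker π := by
      rw [RingHom.mem_ker, map_sub, map_mul, sub_eq_zero]
      show _ = π U * (j.stalkMap Q).hom G
      exact hu.symm.trans (congrArg (π U * ·) hG.symm)
    rw [show a = U * G + (b + (a - b - U * G)) by ring]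
    exact Submodule.add_mem_sup (Ideal.mul_mem_left _ _ (Ideal.mem_span_singleton_self G))
      (Ideal.add_mem _ hb (Ideal.pow_le_pow_right hi (hkm hk)))

end Groth.Agent.S15866
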