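import Groth.Statements.S15870
import Groth.Agent.EtFinRefine.Basic
import Groth.Agent.EtFinRefine.Torsor
import Groth.Agent.S0412

set_option autoImplicit false
set_option backward.isDefEq.respectTransparency false
set_option backward.isDefEq.respectTransparency.types false
universe u
open CategoryTheory MonoidalCategory CartesianMonoidalCategory MonObj GrpObj AlgebraicGeometry
open NonAbH1

namespace Groth.Agent.S15870

/-- Let π : S' → S be finite locally free (finite, flat, locally of finite presentation), G a smooth
S'-group scheme and E an fppf G-torsor over S'. Then E trivializes fppf locally on S: some fppf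
covering family of S consists of morphisms U → S such that E has a section over U ×_S S' → S'. (The
published statement is for a variable S-scheme T, torsors over S' ×_S T and G a group algebraic
space; this row is the case T = S with G a scheme, to which the general case reduces by base change
of π.) -/
theorem result
    {S S' : Scheme.{u}} (π : S' ⟶ S) [IsFinite π] [Flat π] [LocallyOfFinitePresentation π]
    (G : Over S') [GrpObj G] [Smooth G.hom]
    (E : NonAbH1.TorsorSch G Scheme.fppfPrecoverage) :
    ∃ R ∈ Scheme.fppfPrecoverage S, ∀ ⦃U : Scheme.{u}⦄ (g : U ⟶ S), R g →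
      NonAbH1.HasSectionOver E.X (Limits.pullback.snd g π) := by
  obtain ⟨⟨hps, R, hR, hsec⟩⟩ : PLift (NonAbH1.IsTorsorFor Scheme.fppfPrecoverage E.act) := ⟨E.isTorsor⟩
  haveI : Smooth E.X.hom := EtFinRefine.smooth_of_torsor E.act hps R hR hsec
  have hsurj : Function.Surjective E.X.hom := EtFinRefine.surjective_of_torsor R hR hsec
  choose V v v₀ hv hv₀ kk hkk using fun x : S' => S0412.result E.X.hom x (hsurj x)
  haveI : ∀ x, Etale (v x) := hv
  haveI : Etale (Limits.Sigma.desc v) := IsZariskiLocalAtSource.sigmaDesc (P := @Etale) hv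
  haveI : Surjective (Limits.Sigma.desc v) := ⟨fun x => ⟨Limits.Sigma.ι V x (v₀ x), by
    rw [← Scheme.Hom.comp_apply, Limits.Sigma.ι_desc]; exact hv₀ x⟩⟩
  choose T g hg hy ψ hψ using fun y : S => EtFinRefine.exists_etale_refine π (Limits.Sigma.desc v) y
  refine ⟨Presieve.ofArrows T g, ?_, ?_⟩
  · refine (Scheme.ofArrows_mem_precoverage_iff _).2 ⟨fun y => ⟨y, hy y⟩, fun y => ?_⟩
    haveI := hg y
    exact ⟨inferInstance, inferInstance⟩
  · rintro W _ ⟨y⟩
    exact ⟨ψ y ≫ Limits.Sigma.desc kk, by
      rw [Category.assoc, show Limits.Sigma.desc kk ≫ E.X.hom = Limits.Sigma.desc v from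
        Limits.Sigma.hom_ext _ _ fun x => by rw [Limits.Sigma.ι_desc_assoc, Limits.Sigma.ι_desc]; exact hkk x]
      exact hψ y⟩

end Groth.Agent.S15870
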