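import Groth.Statements.S15875
import Groth.Agent.MonoFibre.KernelFibre
import Groth.Agent.FpqcDesc.Basic

set_option autoImplicit false
set_option linter.style.haveILetI false
set_option backward.isDefEq.respectTransparency.types false
universe u
open CategoryTheory MonoidalCategory CartesianMonoidalCategory MonObj GrpObj AlgebraicGeometry
open AGF

namespace Groth.Agent.S15875

open Groth.Agent

open CategoryTheory.Limits in
/-- A surjective open morphism with quasi-compact self-base-change is quasi-compact. -/
theorem quasiCompact_of_self {X Y P : Scheme.{u}} (q : X ⟶ Y) (a b : P ⟶ X) (sq : IsPullback a b q q)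
    [QuasiCompact b] [Surjective q] [Flat q] [LocallyOfFinitePresentation q] : QuasiCompact q := by
  rw [quasiCompact_iff_forall_isAffineOpen]
  intro V hV
  have hcov : ∀ y : V, ∃ W : X.Opens, IsCompact (W : Set X) ∧ W ≤ q ⁻¹ᵁ V ∧ (y : Y) ∈ q '' (W : Set X) := fun y => by
    obtain ⟨x, hx⟩ := q.surjective (y : Y)
    obtain ⟨W, hW, hxW, hle⟩ := exists_isAffineOpen_mem_and_subset (X := X) (x := x) (U := q ⁻¹ᵁ V)
      (show q x ∈ V by rw [hx]; exact y.2)
    exact ⟨W, hW.isCompact, hle, x, hxW, hx⟩
  choose W hW hle hmem using hcov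
  obtain ⟨t, ht⟩ := hV.isCompact.elim_finite_subcover (fun y => q '' (W y : Set X))
    (fun y => q.isOpenMap _ (W y).isOpen) fun y hy => Set.mem_iUnion.2 ⟨⟨y, hy⟩, hmem ⟨y, hy⟩⟩
  let W' : X.Opens := ⨆ y ∈ t, W y
  have hW' : IsCompact (W' : Set X) := by
    simp only [W', TopologicalSpace.Opens.coe_iSup]
    exact t.isCompact_biUnion fun y _ => hW y
  have hb : IsCompact (b ⁻¹' (W' : Set X)) := (quasiCompact_iff b).1 inferInstance _ W'.isOpen hW'
  have hc : IsCompact (a '' (b ⁻¹' (W' : Set X))) := hb.image a.continuous
  have he : ((q ⁻¹ᵁ V : X.Opens) : Set X) = a '' (b ⁻¹' (W' : Set X)) := by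
    have hle' : W' ≤ q ⁻¹ᵁ V := iSup₂_le fun y _ => hle y
    ext x
    constructor
    · intro hx
      obtain ⟨y, hy, hxy⟩ := Set.mem_iUnion₂.1 (ht (show q x ∈ (V : Set Y) from hx))
      obtain ⟨w, hw, hwx⟩ := hxy
      obtain ⟨z, hz₁, hz₂⟩ := Scheme.Pullback.exists_preimage_pullback (f := q) (g := q) x w hwx.symm
      refine ⟨sq.isoPullback.inv z, ?_, ?_⟩
      · show b (sq.isoPullback.inv z) ∈ W'
        rw [← Scheme.Hom.comp_apply, IsPullback.isoPullback_inv_snd, hz₂]
        simp only [W', TopologicalSpace.Opens.mem_iSup]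
        exact ⟨y, hy, hw⟩
      · rw [← Scheme.Hom.comp_apply, IsPullback.isoPullback_inv_fst, hz₁]
    · rintro ⟨z, hz, rfl⟩
      show q (a z) ∈ V
      rw [← Scheme.Hom.comp_apply, sq.w, Scheme.Hom.comp_apply]
      exact hle' hz
  rw [he]
  exact hc


/-- Let k'/k be a finite purely inseparable field extension, G a k-group locally of finite type, q :
G_{k'} → Ḡ a faithfully flat homomorphism onto a k'-group Ḡ locally of finite type with
quasi-compact kernel N, and (R, q_R) a Weil restriction of Ḡ to k carrying a group structure for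
which q_R is a homomorphism. Then the comparison morphism i : G → R corresponding to q is
quasi-compact. (The published statement allows any finite extension k'/k and adds that the kernel of
i is quasi-compact as well; the published proof goes through the purely inseparable case of the
kernel of the counit of Weil restriction, so k'/k is taken purely inseparable here.) -/
theorem result (k k' : Type u) [Field k] [Field k'] [Algebra k k']
    [Module.Finite k k'] [IsPurelyInseparable k k']
    (G : Over (Spec (CommRingCat.of k))) [GrpObj G] [LocallyOfFiniteType G.hom]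
    (Gbar : Over (Spec (CommRingCat.of k'))) [GrpObj Gbar] [LocallyOfFiniteType Gbar.hom]
    (q : Red.bc (Spec.map (CommRingCat.ofHom (algebraMap k k'))) G ⟶ Gbar) [IsMonHom q] [Surjective q.left] [Flat q.left]
    (N : Over (Spec (CommRingCat.of k'))) (iN : N ⟶ Red.bc (Spec.map (CommRingCat.ofHom (algebraMap k k'))) G) (hN : AlgGrp.IsKernel iN q) [CompactSpace N.left]
    (R : Over (Spec (CommRingCat.of k))) [GrpObj R] (qR : Red.bc (Spec.map (CommRingCat.ofHom (algebraMap k k'))) R ⟶ Gbar) [IsMonHom qR]
    (hR : WeilRes.IsWeilRes (Spec.map (CommRingCat.ofHom (algebraMap k k'))) Gbar R qR) :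
    QuasiCompact (hR.lift G q).left := by
  let f : Spec (CommRingCat.of k') ⟶ Spec (CommRingCat.of k) := Spec.map (CommRingCat.ofHom (algebraMap k k'))
  haveI : LocallyOfFiniteType (Red.bc f G).hom :=
    MorphismProperty.pullback_snd (P := @LocallyOfFiniteType) G.hom f inferInstance
  haveI : QuasiCompact N.hom := (quasiCompact_iff_compactSpace N.hom).2 inferInstance
  haveI : LocallyOfFinitePresentation q.left := MonoFibre.KernelFibre.locallyOfFinitePresentation_left q
  haveI : QuasiCompact (fst (Red.bc f G) N).left :=
    MorphismProperty.of_isPullback (P := @QuasiCompact)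
      (IsPullback.of_hasPullback (Red.bc f G).hom N.hom).flip inferInstance
  haveI : QuasiCompact q.left := quasiCompact_of_self q.left _ _ (MonoFibre.KernelFibre.isPullback_torsor q iN hN)
  haveI : IsSeparated (Red.bc f R).hom := GrpSchLib.isSeparated_hom
  haveI : IsSeparated (qR.left ≫ Gbar.hom) := by rw [Over.w]; infer_instance
  haveI : IsSeparated qR.left := IsSeparated.of_comp qR.left Gbar.hom
  let i : G ⟶ R := hR.lift G q
  have hi : ((Over.pullback f).map i).left ≫ qR.left = q.left :=
    congrArg Over.Hom.left (hR.restr_lift G q)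
  haveI : QuasiCompact (((Over.pullback f).map i).left ≫ qR.left) := by rw [hi]; infer_instance
  haveI hqc : QuasiCompact ((Over.pullback f).map i).left := QuasiCompact.of_comp _ qR.left
  haveI : Surjective f := ⟨fun x => ⟨IsLocalRing.closedPoint k', Subsingleton.elim (α := PrimeSpectrum k) _ _⟩⟩
  haveI : Flat f := by
    rw [HasRingHomProperty.Spec_iff (P := @Flat)]
    exact RingHom.flat_algebraMap_iff.2 inferInstance
  have hsq : IsPullback (Limits.pullback.fst G.hom f) ((Over.pullback f).map i).left i.left
      (Limits.pullback.fst R.hom f) :=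
    IsPullback.flip (IsPullback.of_right
      (by
        rw [show ((Over.pullback f).map i).left ≫ Limits.pullback.snd R.hom f = Limits.pullback.snd G.hom f from
          Limits.pullback.lift_snd _ _ _, Over.w i]
        exact (IsPullback.of_hasPullback G.hom f).flip)
      (Limits.pullback.lift_fst _ _ _) (IsPullback.of_hasPullback R.hom f).flip)
  haveI := FpqcDesc.quasiCompact_descends.{u}
  exact MorphismProperty.of_isPullback_of_descendsAlong (P := @QuasiCompact)
    (Q := @Surjective ⊓ @Flat ⊓ @QuasiCompact) hsq.flip ⟨⟨MorphismProperty.pullback_fst _ _ ‹Surjective f›,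
      MorphismProperty.pullback_fst _ _ ‹Flat f›⟩, MorphismProperty.pullback_fst _ _ (inferInstanceAs (QuasiCompact f))⟩ hqc

end Groth.Agent.S15875
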