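import Groth.Statements.S15876
import Groth.Agent.WeilKerLib.Conn
import Groth.Agent.WittHomLib.Torus

set_option autoImplicit false
universe u
open CategoryTheory MonoidalCategory CartesianMonoidalCategory MonObj GrpObj AlgebraicGeometry
open AGF

namespace Groth.Agent.S15876

attribute [-instance] CategoryTheory.Hom.commGroup

/-- Let k'/k be a finite purely inseparable extension, G' a k'-group locally of finite type, (R, q) a
Weil restriction of G' to k with a group structure making q : R_{k'} → G' a homomorphism, and K the
kernel of q. Then K is affine and quasi-compact with no non-trivial subtorus in its geometric fibre,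
and when G' is smooth K is moreover smooth and connected. (The published statement says that K is
unipotent, and split unipotent when G' is smooth; unipotent k'-groups are affine of finite type with
no geometric subtori and split ones are in addition smooth and connected, which is what this row
records, a weaker conclusion.) -/
theorem result (k k' : Type u) [Field k] [Field k']
    [Algebra k k'] [Module.Finite k k'] [IsPurelyInseparable k k']
    (G' : Over (Spec (CommRingCat.of k'))) [GrpObj G'] [LocallyOfFiniteType G'.hom]
    (R : Over (Spec (CommRingCat.of k))) [GrpObj R] (q : Red.bc (Spec.map (CommRingCat.ofHom (algebraMap k k'))) R ⟶ G') [IsMonHom q]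
    (hR : WeilRes.IsWeilRes (Spec.map (CommRingCat.ofHom (algebraMap k k'))) G' R q)
    (K : Over (Spec (CommRingCat.of k'))) [GrpObj K] (iK : K ⟶ Red.bc (Spec.map (CommRingCat.ofHom (algebraMap k k'))) R) [IsMonHom iK]
    (hK : AlgGrp.IsKernel iK q) :
    (IsAffine K.left ∧ CompactSpace ↥K.left ∧ (∀ s : ↥(Spec (CommRingCat.of k')), Red.HasNoSubtorus (AlgebraicClosure ((Spec (CommRingCat.of k')).residueField s)) (Red.geomFibre s K))) ∧
    (Smooth G'.hom → Smooth K.hom ∧ ConnectedSpace ↥K.left) := by
  obtain ⟨D⟩ := WeilKerLib.exists_data hR hK
  haveI := D.isAffine.1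
  obtain ⟨M, hM0, hM⟩ := D.exists_pow hR hK
  refine ⟨⟨inferInstance, inferInstance, fun s T _ j _ _ hT => ?_⟩, fun _ => ⟨D.smooth, D.connected⟩⟩
  let g := Red.geomPt s
  have hmap : ∀ n : ℕ, (Over.pullback g).map ((𝟙 K) ^ n) = (𝟙 (Red.bc g K)) ^ n := by
    intro n
    induction n with
    | zero => rw [pow_zero, pow_zero, Functor.map_one]
    | succ n ih => rw [pow_succ, pow_succ, Functor.map_mul, ih, CategoryTheory.Functor.map_id]
  have hbc : (𝟙 (Red.geomFibre s K)) ^ M = 1 := by rw [← hmap, hM, Functor.map_one]
  refine Groth.Agent.WittHomLib.isTrivialGrp_of_pow hT hM0 ((cancel_mono j).1 ?_)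
  rw [MonObj.pow_comp, Category.id_comp, MonObj.one_comp, ← Category.comp_id j, ← MonObj.comp_pow, hbc,
    MonObj.comp_one]

end Groth.Agent.S15876
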