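import Groth.Statements.S15878
import Groth.Agent.WeilKerLib.Quot
import Groth.Agent.WittHomLib.Torus

set_option autoImplicit false
universe u
open CategoryTheory MonoidalCategory CartesianMonoidalCategory MonObj GrpObj AlgebraicGeometry
open AGF

namespace Groth.Agent.S15878

attribute [-instance] CategoryTheory.Hom.commGroup

/-- With k'/k finite purely inseparable, G a k-group locally of finite type, q : G_{k'} → Ḡ a faithfully
flat homomorphism with quasi-compact kernel onto a commutative k'-group locally of finite type, (R,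
q_R) a Weil restriction of Ḡ to k with q_R a homomorphism, H the image of the comparison
homomorphism i : G → R (H a closed subgroup of R through which i factors by a faithfully flat
homomorphism), and π : R → Q the fppf quotient group of R by H: Q is affine and its geometric fibre
has no non-trivial subtorus. (The published statement says that Q is a commutative unipotent
k-group; the absence of geometric subtori is the weaker property recorded here, and commutativity is
inherited from R.) -/
theorem result (k k' : Type u) [Field k] [Field k']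
    [Algebra k k'] [Module.Finite k k'] [IsPurelyInseparable k k']
    (G : Over (Spec (CommRingCat.of k))) [GrpObj G] [LocallyOfFiniteType G.hom]
    (Gbar : Over (Spec (CommRingCat.of k'))) [GrpObj Gbar] [LocallyOfFiniteType Gbar.hom]
    (q : Red.bc (Spec.map (CommRingCat.ofHom (algebraMap k k'))) G ⟶ Gbar) [IsMonHom q] [Surjective q.left] [Flat q.left]
    (N : Over (Spec (CommRingCat.of k'))) (iN : N ⟶ Red.bc (Spec.map (CommRingCat.ofHom (algebraMap k k'))) G) (hN : AlgGrp.IsKernel iN q) [CompactSpace N.left]
    (R : Over (Spec (CommRingCat.of k))) [GrpObj R] (qR : Red.bc (Spec.map (CommRingCat.ofHom (algebraMap k k'))) R ⟶ Gbar) [IsMonHom qR]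
    (hR : WeilRes.IsWeilRes (Spec.map (CommRingCat.ofHom (algebraMap k k'))) Gbar R qR)
    (H : Over (Spec (CommRingCat.of k))) [GrpObj H] (j : H ⟶ R) [IsMonHom j] [IsClosedImmersion j.left]
    (p : G ⟶ H) [IsMonHom p] [Surjective p.left] [Flat p.left] (hfac : p ≫ j = hR.lift G q)
    [IsCommMonObj Gbar]
    (Q : Over (Spec (CommRingCat.of k))) [GrpObj Q] (π : R ⟶ Q) [IsMonHom π] (hQ : RedSub.IsQuotient j π) :
    IsAffine Q.left ∧ (∀ s : ↥(Spec (CommRingCat.of k)), Red.HasNoSubtorus (AlgebraicClosure ((Spec (CommRingCat.of k)).residueField s)) (Red.geomFibre s Q)) := by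
  obtain ⟨hπs, hπf, -, hπ⟩ := hQ
  have hc : (Over.pullback (Spec.map (CommRingCat.ofHom (algebraMap k k')))).map (p ≫ j) ≫ qR = q := by
    rw [hfac]
    exact (Equiv.ofBijective _ (hR G)).apply_symm_apply q
  have hj : j ≫ π = 1 := by
    have h := congrArg (fun t => lift (1 : H ⟶ R) (𝟙 H) ≫ t) hπ.w
    rw [← Category.assoc, lift_fst, MonObj.one_comp, ← Category.assoc, ← Category.assoc, lift_whiskerLeft,
      Category.id_comp, ← Hom.mul_def, _root_.one_mul] at h
    exact h.symm
  have hcπ : (p ≫ j) ≫ π = 1 := by rw [Category.assoc, hj, MonObj.comp_one]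
  obtain ⟨haff, M, hM0, hM⟩ := WeilKerLib.quotient_props hR (p ≫ j) hc π hcπ
  refine ⟨haff, fun s T _ i _ _ hT => ?_⟩
  let g := Red.geomPt s
  have hmap : ∀ n : ℕ, (Over.pullback g).map ((𝟙 Q) ^ n) = (𝟙 (Red.bc g Q)) ^ n := by
    intro n
    induction n with
    | zero => rw [pow_zero, pow_zero, Functor.map_one]
    | succ n ih => rw [pow_succ, pow_succ, Functor.map_mul, ih, CategoryTheory.Functor.map_id]
  have hbc : (𝟙 (Red.geomFibre s Q)) ^ M = 1 := by rw [← hmap, hM, Functor.map_one]
  refine Groth.Agent.WittHomLib.isTrivialGrp_of_pow hT hM0 ((cancel_mono i).1 ?_)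
  rw [MonObj.pow_comp, Category.id_comp, MonObj.one_comp, ← Category.comp_id i, ← MonObj.comp_pow, hbc,
    MonObj.comp_one]

end Groth.Agent.S15878
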