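import Mathlib
import Groth.Agent.DPLatticeLib.Orbits
import Groth.Statements.S15905

set_option autoImplicit false
open Surf

namespace Groth.Agent.S15905

open Groth.Agent.DPLatticeLib

open W4c3severiratdp in
/-- Work in the lattice of vectors (a; b_1, …, b_δ), standing for divisor classes a ℓ − Σ b_i e_i on the
blow-up of the projective plane at δ points written in a standard basis, with intersection form a a'
− Σ b_i b_i' and canonical class K = (−3; −1, …, −1); a conic class is a class Q with Q·Q = 0 and
K·Q = −2. Then the number of conic classes is 2160 for δ = 8, 126 for δ = 7, 27 for δ = 6, 10 for δ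
= 5, 5 for δ = 4, 3 for δ = 3 and 2 for δ = 2. -/
theorem result :
    {v : DP 8 | IsConic v}.ncard = 2160 ∧ {v : DP 7 | IsConic v}.ncard = 126 ∧
      {v : DP 6 | IsConic v}.ncard = 27 ∧ {v : DP 5 | IsConic v}.ncard = 10 ∧
      {v : DP 4 | IsConic v}.ncard = 5 ∧ {v : DP 3 | IsConic v}.ncard = 3 ∧
      {v : DP 2 | IsConic v}.ncard = 2 := by
  have key : ∀ d : ℕ, d ≤ 8 → {v : DP d | IsConic v}.ncard =
      (vecs (List.replicate d false) 0 (-2)).length := by
    intro d hd
    have himg : toL '' {v : DP d | IsConic v} = {l | l ∈ vecs (List.replicate d false) 0 (-2)} := by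
      ext l
      constructor
      · rintro ⟨v, hv, rfl⟩
        have := mem_vecs hd (fun _ : Fin d => false) (Or.inl ⟨rfl, rfl⟩) v hv.1 hv.2 (by simp)
        simpa using this
      · intro hl
        obtain ⟨hlen, a, t, rfl, hs, hq⟩ := of_mem_vecs (l := l) hl
        have ht : t.length = d := by simpa using hlen
        subst ht
        refine ⟨Fin.cases a fun i => t[(i : ℕ)], ?_, ?_⟩
        · have e1 : ∑ i : Fin t.length, t[(i : ℕ)] = t.sum := by
            rw [← List.sum_ofFn, List.ofFn_getElem]
          have e2 : ∑ i : Fin t.length, t[(i : ℕ)] * t[(i : ℕ)] = (t.map fun b => b * b).sum := by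
            rw [← List.sum_ofFn]
            congr 1
            conv_rhs => rw [show t = List.ofFn fun i : Fin t.length => t[(i : ℕ)] from List.ofFn_getElem.symm,
              List.map_ofFn]
            rfl
          refine ⟨?_, ?_⟩
          · simp only [form, Fin.cases_zero, Fin.cases_succ]
            rw [e2, hq]; ring
          · simp only [form, canon, Fin.cases_zero, Fin.cases_succ, neg_mul, one_mul,
              Finset.sum_neg_distrib]
            rw [e1, hs]; ring
        · simp [toL]
    rw [← Set.ncard_image_of_injective _ toL_injective, himg,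
      show {l | l ∈ vecs (List.replicate d false) 0 (-2)} = ↑(vecs (List.replicate d false) 0 (-2)).toFinset by
        ext; simp,
      Set.ncard_coe_finset, List.toFinset_card_of_nodup (nodup_vecs _ _ _)]
  refine ⟨?_, ?_, ?_, ?_, ?_, ?_, ?_⟩ <;> rw [key _ (by norm_num)] <;> decide +kernel

end Groth.Agent.S15905
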