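import Mathlib
import Groth.Agent.DPLatticeLib.Orbits
import Groth.Statements.S15906

set_option autoImplicit false
open Surf

namespace Groth.Agent.S15906

open Groth.Agent.DPLatticeLib

open W4c3severiratdp in
/-- Work in the lattice of vectors (a; b_1, …, b_δ), standing for divisor classes a ℓ − Σ b_i e_i on the
blow-up of the projective plane at δ points written in a standard basis, with intersection form a a'
− Σ b_i b_i' and canonical class K = (−3; −1, …, −1); a conic class is a class Q with Q·Q = 0 and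
K·Q = −2, an exceptional class (the class of a (−1)-curve) is a class E with E·E = −1 and K·E = −1,
and the Weyl group W_δ is the group of additive automorphisms of the lattice preserving the form and
fixing K. For δ = 8, a class (a; b_1, …, b_8) is a conic class if and only if, up to a permutation
of b_1, …, b_8, it is one of the fifteen vectors (1; 1, 0, 0, 0, 0, 0, 0, 0), (2; 1, 1, 1, 1, 0, 0,
0, 0), (3; 2, 1, 1, 1, 1, 1, 0, 0), (4; 2, 2, 2, 1, 1, 1, 1, 0), (4; 3, 1, 1, 1, 1, 1, 1, 1), (5; 2,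
2, 2, 2, 2, 2, 1, 0), (5; 3, 2, 2, 2, 1, 1, 1, 1), (6; 3, 3, 2, 2, 2, 2, 1, 1), (7; 3, 3, 3, 3, 2,
2, 2, 1), (7; 4, 3, 2, 2, 2, 2, 2, 2), (8; 4, 3, 3, 3, 3, 2, 2, 2), (8; 3, 3, 3, 3, 3, 3, 3, 1), (9;
4, 4, 3, 3, 3, 3, 3, 2), (10; 4, 4, 4, 4, 3, 3, 3, 3), (11; 4, 4, 4, 4, 4, 4, 4, 3). (One line of
the published table is illegible in the available copy; the fifteen vectors here are the complete
solution set of the two defining equations a² = Σ b_i², 3a − Σ b_i = 2.) -/
theorem result (v : DP 8) :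
    IsConic v ↔
      ∃ t ∈ ({![1, 1, 0, 0, 0, 0, 0, 0, 0],
        ![2, 1, 1, 1, 1, 0, 0, 0, 0],
        ![3, 2, 1, 1, 1, 1, 1, 0, 0],
        ![4, 2, 2, 2, 1, 1, 1, 1, 0],
        ![4, 3, 1, 1, 1, 1, 1, 1, 1],
        ![5, 2, 2, 2, 2, 2, 2, 1, 0],
        ![5, 3, 2, 2, 2, 1, 1, 1, 1],
        ![6, 3, 3, 2, 2, 2, 2, 1, 1],
        ![7, 3, 3, 3, 3, 2, 2, 2, 1],
        ![7, 4, 3, 2, 2, 2, 2, 2, 2],
        ![8, 4, 3, 3, 3, 3, 2, 2, 2],
        ![8, 3, 3, 3, 3, 3, 3, 3, 1],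
        ![9, 4, 4, 3, 3, 3, 3, 3, 2],
        ![10, 4, 4, 4, 4, 3, 3, 3, 3],
        ![11, 4, 4, 4, 4, 4, 4, 4, 3]} : Set (DP 8)),
        ∃ σ : Equiv.Perm (Fin 8), v 0 = t 0 ∧ ∀ i : Fin 8, v (σ i).succ = t i.succ := by
  constructor
  · intro hv
    let σ : Equiv.Perm (Fin 8) := Tuple.sort fun i : Fin 8 => -v i.succ
    let w : DP 8 := Fin.cases (v 0) fun i => v (σ i).succ
    have hw : IsConic w := by
      refine ⟨?_, ?_⟩
      · rw [← hv.1]
        simp only [form, w, Fin.cases_zero, Fin.cases_succ]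
        rw [Equiv.sum_comp σ (fun i => v i.succ * v i.succ)]
      · rw [← hv.2]
        simp only [form, w, canon, Fin.cases_zero, Fin.cases_succ]
        rw [Equiv.sum_comp σ (fun i => -1 * v i.succ)]
    have hm : toL w ∈ vecs (flags 8 0 8) 0 (-2) := by
      refine mem_vecs le_rfl _ (Or.inl ⟨rfl, rfl⟩) w hw.1 hw.2 fun i hi => ?_
      simp only [decide_eq_true_eq] at hi
      rw [dif_neg (by omega)]
      have := Tuple.monotone_sort (fun i : Fin 8 => -v i.succ)
        (show (⟨(i : ℕ) - 1, by omega⟩ : Fin 8) ≤ i from Fin.le_def.mpr (Nat.sub_le _ _))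
      simpa [w, σ] using this
    have hd : ∀ l ∈ vecs (flags 8 0 8) 0 (-2), l ∈ ([[1, 1, 0, 0, 0, 0, 0, 0, 0],
        [2, 1, 1, 1, 1, 0, 0, 0, 0], [3, 2, 1, 1, 1, 1, 1, 0, 0], [4, 2, 2, 2, 1, 1, 1, 1, 0],
        [4, 3, 1, 1, 1, 1, 1, 1, 1], [5, 2, 2, 2, 2, 2, 2, 1, 0], [5, 3, 2, 2, 2, 1, 1, 1, 1],
        [6, 3, 3, 2, 2, 2, 2, 1, 1], [7, 3, 3, 3, 3, 2, 2, 2, 1], [7, 4, 3, 2, 2, 2, 2, 2, 2],
        [8, 4, 3, 3, 3, 3, 2, 2, 2], [8, 3, 3, 3, 3, 3, 3, 3, 1], [9, 4, 4, 3, 3, 3, 3, 3, 2],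
        [10, 4, 4, 4, 4, 3, 3, 3, 3], [11, 4, 4, 4, 4, 4, 4, 4, 3]] : List (List ℤ)) := by
      decide +kernel
    refine ⟨w, ?_, σ, rfl, fun i => rfl⟩
    have := hd _ hm
    simp only [List.mem_cons, List.not_mem_nil, or_false] at this
    simp only [Set.mem_insert_iff, Set.mem_singleton_iff]
    revert this
    refine fun h => ?_
    rcases h with h | h | h | h | h | h | h | h | h | h | h | h | h | h | h
    all_goals
      repeat (first | exact Or.inl (toL_injective (h.trans (by rfl)))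
                    | exact toL_injective (h.trans (by rfl))
                    | apply Or.inr)
  · rintro ⟨t, ht, σ, h0, hs⟩
    have htc : IsConic t := by
      simp only [Set.mem_insert_iff, Set.mem_singleton_iff] at ht
      rcases ht with rfl | rfl | rfl | rfl | rfl | rfl | rfl | rfl | rfl | rfl | rfl | rfl | rfl | rfl | rfl
      all_goals unfold IsConic; decide +kernel
    refine ⟨?_, ?_⟩
    · rw [← htc.1]
      simp only [form, h0, ← hs]
      rw [Equiv.sum_comp σ (fun i => v i.succ * v i.succ)]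
    · rw [← htc.2]
      simp only [form, canon, h0, ← hs, Fin.cases_zero, Fin.cases_succ]
      rw [Equiv.sum_comp σ (fun i => -1 * v i.succ)]

end Groth.Agent.S15906
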