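import Mathlib
import Groth.Agent.DPLatticeLib.Orbits
import Groth.Statements.S15907

set_option autoImplicit false
open Surf

namespace Groth.Agent.S15907

open Groth.Agent.DPLatticeLib

open W4c3severiratdp in
/-- Work in the lattice of vectors (a; b_1, …, b_δ), standing for divisor classes a ℓ − Σ b_i e_i on the
blow-up of the projective plane at δ points written in a standard basis, with intersection form a a'
− Σ b_i b_i' and canonical class K = (−3; −1, …, −1); a conic class is a class Q with Q·Q = 0 and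
K·Q = −2, an exceptional class (the class of a (−1)-curve) is a class E with E·E = −1 and K·E = −1,
and the Weyl group W_δ is the group of additive automorphisms of the lattice preserving the form and
fixing K. For 2 ≤ δ ≤ 8 the intersection product Q_1·Q_2 determines the W_δ-orbit of an ordered pair
(Q_1, Q_2) of conic classes, the only exception being δ = 8 with Q_1·Q_2 = 4: if (Q_1, Q_2) and
(Q_1', Q_2') are ordered pairs of conic classes with Q_1·Q_2 = Q_1'·Q_2', and not both δ = 8 and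
Q_1·Q_2 = 4, then some element of W_δ carries Q_1 to Q_1' and Q_2 to Q_2'. -/
theorem result (δ : ℕ) (h2 : 2 ≤ δ) (h8 : δ ≤ 8)
    (v₁ v₂ w₁ w₂ : DP δ) (hv₁ : IsConic v₁) (hv₂ : IsConic v₂) (hw₁ : IsConic w₁) (hw₂ : IsConic w₂)
    (heq : form v₁ v₂ = form w₁ w₂) (hexc : ¬ (δ = 8 ∧ form v₁ v₂ = 4)) :
    ∃ g : DP δ ≃ₗ[ℤ] DP δ, IsWeyl g ∧ g v₁ = w₁ ∧ g v₂ = w₂ := by
  have hd : ∀ d : ℕ, d < 9 → 2 ≤ d → (IsRootList [conicBase d] (roots d 1 d) ∧
      ∀ l ∈ chamberList d 1 d 0 (-2), ∀ l' ∈ chamberList d 1 d 0 (-2),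
        ¬ (d = 8 ∧ formL l (toL (conicBase d)) = 4) →
          formL l (toL (conicBase d)) = formL l' (toL (conicBase d)) → l = l') := by
    decide +kernel
  obtain ⟨hr, hl⟩ := hd δ (by omega) h2
  obtain ⟨a, ha, hav⟩ := exists_to_conicBase h2 h8 v₁ hv₁
  obtain ⟨b, hb, hbw⟩ := exists_to_conicBase h2 h8 w₁ hw₁
  have e1 : form (a v₂) (conicBase δ) = form v₁ v₂ := by rw [← hav, ha.1, form_comm]
  have e2 : form (b w₂) (conicBase δ) = form w₁ w₂ := by rw [← hbw, hb.1, form_comm]
  obtain ⟨g, hg, hgb, hgv⟩ := exists_map h8 (conicBase δ) 1 δ (Or.inl ⟨rfl, rfl⟩) hr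
    (fun c => ¬ (δ = 8 ∧ c = 4)) hl (a v₂) (b w₂) (isConic_map ha hv₂).1 (isConic_map ha hv₂).2
    (isConic_map hb hw₂).1 (isConic_map hb hw₂).2 (by rw [e1, e2, heq]) (by rw [e1]; exact hexc)
  refine ⟨(a.trans g).trans b.symm, isWeyl_trans (isWeyl_trans ha hg) (isWeyl_symm hb), ?_, ?_⟩
  · simp only [LinearEquiv.trans_apply]
    rw [hav, hgb, ← hbw, LinearEquiv.symm_apply_apply]
  · simp only [LinearEquiv.trans_apply]
    rw [hgv, LinearEquiv.symm_apply_apply]

end Groth.Agent.S15907
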