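import Mathlib
import Groth.Agent.DPLatticeLib.Orbits
import Groth.Statements.S15908

set_option autoImplicit false
open Surf

namespace Groth.Agent.S15908

open Groth.Agent.DPLatticeLib

open W4c3severiratdp in
/-- Work in the lattice of vectors (a; b_1, …, b_δ), standing for divisor classes a ℓ − Σ b_i e_i on the
blow-up of the projective plane at δ points written in a standard basis, with intersection form a a'
− Σ b_i b_i' and canonical class K = (−3; −1, …, −1); a conic class is a class Q with Q·Q = 0 and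
K·Q = −2, an exceptional class (the class of a (−1)-curve) is a class E with E·E = −1 and K·E = −1,
and the Weyl group W_δ is the group of additive automorphisms of the lattice preserving the form and
fixing K. For δ = 8 the ordered pairs (Q_1, Q_2) of conic classes with Q_1·Q_2 = 4 form exactly two
W_8-orbits: there are two such pairs that no element of W_8 carries one to the other, and every such
pair is carried by an element of W_8 to one of these two. -/
theorem result :
    ∃ p₁ p₂ q₁ q₂ : DP 8, IsConic p₁ ∧ IsConic p₂ ∧ IsConic q₁ ∧ IsConic q₂ ∧ form p₁ p₂ = 4 ∧ form q₁ q₂ = 4 ∧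
      (¬ ∃ g : DP 8 ≃ₗ[ℤ] DP 8, IsWeyl g ∧ g p₁ = q₁ ∧ g p₂ = q₂) ∧
      ∀ v₁ v₂ : DP 8, IsConic v₁ → IsConic v₂ → form v₁ v₂ = 4 →
        ∃ g : DP 8 ≃ₗ[ℤ] DP 8, IsWeyl g ∧ ((g v₁ = p₁ ∧ g v₂ = p₂) ∨ (g v₁ = q₁ ∧ g v₂ = q₂)) := by
  let A : DP 8 := ![4, 0, 2, 2, 2, 1, 1, 1, 1]
  let B : DP 8 := ![5, 1, 2, 2, 2, 2, 2, 2, 0]
  have hd : IsRootList [conicBase 8] (roots 8 1 8) ∧
      ∀ l ∈ chamberList 8 1 8 0 (-2), formL l (toL (conicBase 8)) = 4 →
        l = toL (![4, 0, 2, 2, 2, 1, 1, 1, 1] : DP 8) ∨ l = toL (![5, 1, 2, 2, 2, 2, 2, 2, 0] : DP 8) := by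
    decide +kernel
  refine ⟨conicBase 8, A, conicBase 8, B, ?_, ?_, ?_, ?_, ?_, ?_, ?_, ?_⟩
  · unfold IsConic; decide +kernel
  · unfold IsConic; decide +kernel
  · unfold IsConic; decide +kernel
  · unfold IsConic; decide +kernel
  · decide +kernel
  · decide +kernel
  · rintro ⟨g, -, hg₁, hg₂⟩
    have hB : conicBase 8 + B = (2 : ℤ) • (![3, 1, 1, 1, 1, 1, 1, 1, 0] : DP 8) := by decide +kernel
    have hA : g.symm ((2 : ℤ) • (![3, 1, 1, 1, 1, 1, 1, 1, 0] : DP 8)) = conicBase 8 + A := by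
      rw [LinearEquiv.symm_apply_eq, map_add, hg₁, hg₂, hB]
    rw [map_smul] at hA
    have h0 := congrFun hA 0
    simp [A, conicBase] at h0
    omega
  · intro v₁ v₂ hv₁ hv₂ h4
    obtain ⟨a, ha, hav⟩ := exists_to_conicBase (by norm_num) le_rfl v₁ hv₁
    obtain ⟨g, hg, hgb, hc⟩ := exists_rep le_rfl [conicBase 8] 1 8 (Or.inl ⟨rfl, rfl⟩) hd.1 (a v₂)
      (isConic_map ha hv₂).1 (isConic_map ha hv₂).2
    have hgb' := hgb _ (List.mem_singleton.mpr rfl)
    have e : form (g (a v₂)) (conicBase 8) = 4 := by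
      rw [← hgb', hg.1, ← hav, ha.1, form_comm, h4]
    refine ⟨a.trans g, isWeyl_trans ha hg, ?_⟩
    simp only [LinearEquiv.trans_apply, hav, hgb', true_and]
    rcases hd.2 _ hc (by rw [formL_toL, e]) with h | h
    · exact Or.inl (toL_injective h)
    · exact Or.inr (toL_injective h)

end Groth.Agent.S15908
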