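import Mathlib
import Groth.Agent.DPLatticeLib.Orbits
import Groth.Statements.S15910

set_option autoImplicit false
open Surf

namespace Groth.Agent.S15910

open Groth.Agent.DPLatticeLib

open W4c3severiratdp in
/-- Work in the lattice of vectors (a; b_1, …, b_δ), standing for divisor classes a ℓ − Σ b_i e_i on the
blow-up of the projective plane at δ points written in a standard basis, with intersection form a a'
− Σ b_i b_i' and canonical class K = (−3; −1, …, −1); a conic class is a class Q with Q·Q = 0 and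
K·Q = −2, an exceptional class (the class of a (−1)-curve) is a class E with E·E = −1 and K·E = −1,
and the Weyl group W_δ is the group of additive automorphisms of the lattice preserving the form and
fixing K. Let δ = 8 and let L be an exceptional class. Let B be the set of unordered triples {λ_1,
λ_2, λ_3} of exceptional classes (repetitions allowed) with λ_1 + λ_2 + λ_3 = −2K + L. Then the
stabilizer of L in W_8 has exactly four orbits on B. Triples are written as maps Fin 3 → lattice and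
compared up to reordering: there are four members of B, no two of which are identified by an element
of the stabilizer followed by a reordering, and every member of B is so identified with one of the
four. -/
theorem result (L : DP 8) (hL : IsExc L) :
    ∃ r : Fin 4 → (Fin 3 → DP 8),
      (∀ j, (∀ i, IsExc (r j i)) ∧ r j 0 + r j 1 + r j 2 = L - 2 • canon 8) ∧
      (∀ j j', (∃ g : DP 8 ≃ₗ[ℤ] DP 8, IsWeyl g ∧ g L = L ∧ ∃ σ : Equiv.Perm (Fin 3), ∀ i, g (r j (σ i)) = r j' i) → j = j') ∧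
      ∀ t : Fin 3 → DP 8, (∀ i, IsExc (t i)) → t 0 + t 1 + t 2 = L - 2 • canon 8 →
        ∃ j, ∃ g : DP 8 ≃ₗ[ℤ] DP 8, IsWeyl g ∧ g L = L ∧ ∃ σ : Equiv.Perm (Fin 3), ∀ i, g (t (σ i)) = r j i := by
  let s₀ : Fin 4 → Fin 3 → DP 8 :=
    ![![![0, 0, 0, 0, 0, 0, 0, 0, -1], ![0, 0, 0, 0, 0, 0, 0, 0, -1], ![6, 2, 2, 2, 2, 2, 2, 2, 3]],
      ![![0, 0, 0, 0, 0, 0, 0, 0, -1], ![0, 0, 0, 0, 0, 0, 0, -1, 0], ![6, 2, 2, 2, 2, 2, 2, 3, 2]],
      ![![0, 0, 0, 0, 0, 0, 0, 0, -1], ![1, 1, 0, 0, 0, 0, 0, 0, 1], ![5, 1, 2, 2, 2, 2, 2, 2, 1]],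
      ![![0, 0, 0, 0, 0, 0, 0, -1, 0], ![1, 1, 0, 0, 0, 0, 0, 1, 0], ![5, 1, 2, 2, 2, 2, 2, 2, 1]]]
  have hs₀ : ∀ j, (∀ i, form (s₀ j i) (s₀ j i) = -1 ∧ form (canon 8) (s₀ j i) = -1) ∧
      s₀ j 0 + s₀ j 1 + s₀ j 2 = excBase 8 - (2 : ℤ) • canon 8 := by
    decide +kernel
  have hinv : ∀ j j', ∑ i, form (s₀ j i) (excBase 8) ^ 2 = ∑ i, form (s₀ j' i) (excBase 8) ^ 2 → j = j' := by
    decide +kernel
  let b₀ : DP 8 := excBase 8
  let b₁ : DP 8 := ![0, 0, 0, 0, 0, 0, 0, -1, 0]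
  -- classification of normalised triples
  have hroots : IsRootList [excBase 8] (roots 8 0 7) ∧ IsRootList [excBase 8, excBase 8] (roots 8 0 7) ∧
      IsRootList [excBase 8, (![0, 0, 0, 0, 0, 0, 0, -1, 0] : DP 8)] (roots 8 0 6) := by decide +kernel
  have hfirst : ∀ l ∈ chamberList 8 0 7 (-1) (-1),
      (formL l (toL (excBase 8)) ≤ 0 → (l = toL (excBase 8) ∨ l = toL (![0, 0, 0, 0, 0, 0, 0, -1, 0] : DP 8))) := by
    decide +kernel
  have hsecondA : ∀ l ∈ chamberList 8 0 7 (-1) (-1), formL l (toL (excBase 8)) ≤ 1 →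
      (l = toL (![0, 0, 0, 0, 0, 0, 0, 0, -1] : DP 8) ∨ l = toL (![0, 0, 0, 0, 0, 0, 0, -1, 0] : DP 8) ∨
        l = toL (![1, 1, 0, 0, 0, 0, 0, 0, 1] : DP 8)) := by
    decide +kernel
  have hsecondB : ∀ l ∈ chamberList 8 0 6 (-1) (-1),
      formL l (toL (excBase 8)) = 0 →
        formL l (toL (![0, 0, 0, 0, 0, 0, 0, -1, 0] : DP 8)) = 1 →
        l = toL (![1, 1, 0, 0, 0, 0, 0, 1, 0] : DP 8) := by
    decide +kernel
  obtain ⟨g₀, hg₀, hgL⟩ := exists_to_excBase L hL
  have hgK : g₀ ((2 : ℤ) • canon 8) = (2 : ℤ) • canon 8 := by rw [map_smul, hg₀.2]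
  have hgL' : g₀.symm (excBase 8) = L := by rw [LinearEquiv.symm_apply_eq, hgL]
  have h2z : (2 : ℕ) • canon 8 = (2 : ℤ) • canon 8 := by rw [← natCast_zsmul]; rfl
  refine ⟨fun j i => g₀.symm (s₀ j i), fun j => ⟨fun i => isExc_map (isWeyl_symm hg₀) ((hs₀ j).1 i), ?_⟩,
    ?_, ?_⟩
  · rw [← map_add, ← map_add, (hs₀ j).2, map_sub, hgL', map_smul, (isWeyl_symm hg₀).2, h2z]
  · rintro j j' ⟨g, hg, hgl, σ, hσ⟩
    replace hσ : ∀ i, g (g₀.symm (s₀ j (σ i))) = g₀.symm (s₀ j' i) := hσ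
    refine hinv j j' ?_
    have key : ∀ i, form (s₀ j' i) (excBase 8) = form (s₀ j (σ i)) (excBase 8) := fun i => by
      have h1 := (isWeyl_symm hg₀).1 (s₀ j' i) (excBase 8)
      rw [hgL', ← hσ i] at h1
      conv at h1 => lhs; arg 2; rw [← hgl]
      rw [hg.1, ← hgL', (isWeyl_symm hg₀).1] at h1
      exact h1.symm
    simp only [key]
    exact (Equiv.sum_comp σ (fun i => form (s₀ j i) (excBase 8) ^ 2)).symm
  · intro t ht hsum
    let σ : Equiv.Perm (Fin 3) := Tuple.sort fun i => form (g₀ (t i)) (excBase 8)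
    have hmono := Tuple.monotone_sort fun i => form (g₀ (t i)) (excBase 8)
    let u : Fin 3 → DP 8 := fun i => g₀ (t (σ i))
    have hu : ∀ i, IsExc (u i) := fun i => isExc_map hg₀ (ht _)
    have husum : u 0 + u 1 + u 2 = excBase 8 - (2 : ℤ) • canon 8 := by
      have h1 : ∑ i, u i = ∑ i, g₀ (t i) := Equiv.sum_comp σ fun i => g₀ (t i)
      simp only [Fin.sum_univ_three] at h1
      rw [h1, ← map_add, ← map_add, hsum, map_sub, hgL, h2z, hgK]
    have h01 : form (u 0) (excBase 8) ≤ form (u 1) (excBase 8) := hmono (show (0 : Fin 3) ≤ 1 by decide)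
    have h12 : form (u 1) (excBase 8) ≤ form (u 2) (excBase 8) := hmono (show (1 : Fin 3) ≤ 2 by decide)
    have htot : form (u 0) (excBase 8) + form (u 1) (excBase 8) + form (u 2) (excBase 8) = 1 := by
      have h1 : form (u 0) (excBase 8) + form (u 1) (excBase 8) + form (u 2) (excBase 8) =
          form (u 0 + u 1 + u 2) (excBase 8) := by
        simp only [form, Pi.add_apply, add_mul, Finset.sum_add_distrib]; ring
      rw [h1, husum]
      decide +kernel
    -- move the first class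
    obtain ⟨g₁, hg₁, hg₁F, hc₁⟩ := exists_rep le_rfl [excBase 8] 0 7 (Or.inr ⟨rfl, rfl⟩) hroots.1 (u 0)
      (hu 0).1 (hu 0).2
    have hg₁b := hg₁F _ (List.mem_singleton.mpr rfl)
    have hm : ∀ i, form (g₁ (u i)) (excBase 8) = form (u i) (excBase 8) := fun i => by
      conv_lhs => rw [← hg₁b, hg₁.1]
    have finish : ∀ (g₂ : DP 8 ≃ₗ[ℤ] DP 8), IsWeyl g₂ → g₂ (excBase 8) = excBase 8 → ∀ j,
        g₂ (g₁ (u 0)) = s₀ j 0 → g₂ (g₁ (u 1)) = s₀ j 1 →
        ∃ j, ∃ g : DP 8 ≃ₗ[ℤ] DP 8, IsWeyl g ∧ g L = L ∧ ∃ σ : Equiv.Perm (Fin 3), ∀ i,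
          g (t (σ i)) = g₀.symm (s₀ j i) := by
      intro g₂ hg₂ hg₂b j h0 h1
      refine ⟨j, ((g₀.trans g₁).trans g₂).trans g₀.symm,
        isWeyl_trans (isWeyl_trans (isWeyl_trans hg₀ hg₁) hg₂) (isWeyl_symm hg₀), ?_, σ, ?_⟩
      · simp only [LinearEquiv.trans_apply]
        rw [hgL, hg₁b, hg₂b, hgL']
      · have h2 : g₂ (g₁ (u 2)) = s₀ j 2 := by
          have e := congrArg (fun z => g₂ (g₁ z)) husum
          simp only [map_add, map_sub, map_smul, hg₁b, hg₂b, hg₁.2, hg₂.2, h0, h1] at e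
          rw [← (hs₀ j).2] at e
          exact add_left_cancel e
        intro i
        simp only [LinearEquiv.trans_apply]
        congr 1
        fin_cases i
        exacts [h0, h1, h2]
    have hc₁v := hfirst _ hc₁ (by rw [formL_toL, hm]; omega)
    rcases hc₁v with hA | hB
    · have hA' : g₁ (u 0) = excBase 8 := toL_injective hA
      have hu0 : form (u 0) (excBase 8) = -1 := by rw [← hm, hA']; decide +kernel
      obtain ⟨g₂, hg₂, hg₂F, hc₂⟩ := exists_rep le_rfl [excBase 8, excBase 8] 0 7 (Or.inr ⟨rfl, rfl⟩)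
        hroots.2.1 (g₁ (u 1)) (isExc_map hg₁ (hu 1)).1 (isExc_map hg₁ (hu 1)).2
      have hg₂b := hg₂F _ List.mem_cons_self
      have e : form (g₂ (g₁ (u 1))) (excBase 8) = form (u 1) (excBase 8) := by
        conv_lhs => rw [← hg₂b, hg₂.1, hm]
      rcases hsecondA _ hc₂ (by rw [formL_toL, e]; omega) with h | h | h
      · exact finish g₂ hg₂ hg₂b 0 (by rw [hA', hg₂b]; decide +kernel) (toL_injective h)
      · exact finish g₂ hg₂ hg₂b 1 (by rw [hA', hg₂b]; decide +kernel) (toL_injective h)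
      · exact finish g₂ hg₂ hg₂b 2 (by rw [hA', hg₂b]; decide +kernel) (toL_injective h)
    · have hB' : g₁ (u 0) = b₁ := toL_injective hB
      have hu0 : form (u 0) (excBase 8) = 0 := by rw [← hm, hB']; decide +kernel
      obtain ⟨g₂, hg₂, hg₂F, hc₂⟩ := exists_rep le_rfl [excBase 8, b₁] 0 6 (Or.inr ⟨rfl, rfl⟩)
        hroots.2.2 (g₁ (u 1)) (isExc_map hg₁ (hu 1)).1 (isExc_map hg₁ (hu 1)).2
      have hg₂b := hg₂F _ List.mem_cons_self
      have hg₂b₁ := hg₂F b₁ (List.mem_cons_of_mem _ (List.mem_singleton.mpr rfl))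
      have e : form (g₂ (g₁ (u 1))) (excBase 8) = 0 := by
        conv_lhs => rw [← hg₂b, hg₂.1, hm]
        omega
      have e1 : form (g₂ (g₁ (u 1))) b₁ = form (u 1) (u 0) := by
        conv_lhs => rw [← hg₂b₁, hg₂.1, ← hB', hg₁.1]
      -- `u 0 · u 1 = 1`, from the norm of the third class
      have hrel : form (u 0) (u 1) = 1 := by
        have e2 : u 2 = (excBase 8 - (2 : ℤ) • canon 8) + (-1 : ℤ) • (u 0 + u 1) := by
          rw [← husum]; simp only [neg_smul, one_smul]; abel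
        have h4 : form (u 2) (u 2) =
            form (excBase 8 - (2 : ℤ) • canon 8) (excBase 8 - (2 : ℤ) • canon 8) -
            2 * (form (u 0) (excBase 8) - 2 * form (canon 8) (u 0) + form (u 1) (excBase 8) -
              2 * form (canon 8) (u 1)) + form (u 0) (u 0) + 2 * form (u 0) (u 1) + form (u 1) (u 1) := by
          rw [e2]
          simp only [form, Pi.add_apply, Pi.sub_apply, Pi.smul_apply, smul_eq_mul, mul_add, add_mul, mul_sub,
            sub_mul, Finset.sum_add_distrib, Finset.sum_sub_distrib]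
          simp only [Fin.sum_univ_eight]
          ring
        have h5 : form (excBase 8 - (2 : ℤ) • canon 8) (excBase 8 - (2 : ℤ) • canon 8) = 7 := by decide +kernel
        have h6 : form (u 1) (excBase 8) = 0 := by omega
        rw [(hu 2).1, h5, hu0, h6, (hu 0).2, (hu 1).2, (hu 0).1, (hu 1).1] at h4
        omega
      refine finish g₂ hg₂ hg₂b 3 (by rw [hB', hg₂b₁]; rfl) (toL_injective (hsecondB _ hc₂ ?_ ?_))
      · rw [formL_toL, e]
      · rw [formL_toL, e1, form_comm, hrel]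

end Groth.Agent.S15910
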