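import Groth.Statements.S15916
import Groth.Agent.TwistShriek.SurfFibred
import Groth.Agent.NakaiLib.ProperKleiman
import Groth.Agent.TwistShriek.SurfSec
-- import your own Groth.Agent.* helpers here

set_option autoImplicit false
set_option backward.isDefEq.respectTransparency false
set_option maxHeartbeats 800000
set_option synthInstance.maxHeartbeats 200000
universe u
open CategoryTheory CategoryTheory.Limits AlgebraicGeometry TopologicalSpace
open Surf
open Groth.Agent Groth.Agent.TwistShriek

namespace Groth.Agent.S15916

/-- Let k be an algebraically closed field of characteristic zero and X a smooth projective surface over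
k (integral, proper and smooth over k of dimension 2, with a closed immersion over k into some
projective space); intersection numbers of invertible modules are (L·M) = χ(O_X) − χ(L) − χ(M) + χ(L
⊗ M), and for an integral closed one-dimensional subscheme C ⊆ X write (L·C) = χ(O_C ⊗ L) − χ(O_C);
an invertible module is nef when (L·C) ≥ 0 for all such C. Let D be an invertible module generated
by its global sections, nef, with (D·D) > 0, and let N be a nef invertible module with (D·N) = 0.
Then N is numerically trivial: (N·C) = 0 for every integral curve C ⊆ X. (The published statement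
concludes that N is zero in Pic X; on the product of an elliptic curve with the projective line, the
pull-back N of a non-trivial degree-zero class of the elliptic curve is nef, orthogonal to an ample
base-point-free D, and non-zero, while the printed proof establishes numerical triviality, which is
what this row states.) -/
theorem result (k : Type u) [Field k] [IsAlgClosed k]
    [CharZero k] (X : Scheme.{u}) [X.Over (Spec (CommRingCat.of k))] [IsIntegral X] [IsProper (X ↘ (Spec (CommRingCat.of k)))] [Smooth (X ↘ (Spec (CommRingCat.of k)))]
    (hdim : topologicalKrullDim X = 2)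
    (hproj : ∃ (n : ℕ) (ι : X ⟶ CohB1.ProjSpace n k), IsClosedImmersion ι ∧ ι ≫ CohB1.ProjSpace.toSpec n k = (X ↘ (Spec (CommRingCat.of k))))
    (D N : X.Modules) (hDi : PicF.IsInvertible D) (hNi : PicF.IsInvertible N)
    (hDgg : Curv2.IsGloballyGenerated D)
    (hDnef : ∀ C : X.IdealSheafData, IsIntegral C.subscheme → topologicalKrullDim (C.support : Set X) = 1 → 0 ≤ (Curv2.euler k X (CohB1.tensorMod (ClSub.quotMod C) D) - Curv2.euler k X (ClSub.quotMod C)))
    (hD2 : 0 < FGA.intNum k X 2 ![D, D] (Coh.structureModule X))
    (hNnef : ∀ C : X.IdealSheafData, IsIntegral C.subscheme → topologicalKrullDim (C.support : Set X) = 1 → 0 ≤ (Curv2.euler k X (CohB1.tensorMod (ClSub.quotMod C) N) - Curv2.euler k X (ClSub.quotMod C)))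
    (hDN : FGA.intNum k X 2 ![D, N] (Coh.structureModule X) = 0) :
    ∀ C : X.IdealSheafData, IsIntegral C.subscheme → topologicalKrullDim (C.support : Set X) = 1 → (Curv2.euler k X (CohB1.tensorMod (ClSub.quotMod C) N) - Curv2.euler k X (ClSub.quotMod C)) = 0 := by
    haveI := EulerIneqLib.isNoetherian_proper (X := X) k
    have hn : Nakai.NefP k hNi := Nakai.nefP_of_quotMod k hNi hNnef
    have h2 := Nakai.kleiman k hn (DevLib.isCoh_structureModule X) (d := 2)
      (lt_of_le_of_lt (Topology.IsEmbedding.subtypeVal.isInducing.topologicalKrullDim_le.trans hdim.le)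
        (by exact_mod_cast Nat.lt_succ_self 2))
    rw [pow_two] at h2
    rw [intNum_eq_form k hdim.le hDi hDi] at hD2
    rw [intNum_eq_form k hdim.le hDi hNi, Nakai.form_comm] at hDN
    intro C hC hCd
    haveI := hC
    have hd' : topologicalKrullDim C.subscheme = 1 := by
      rw [← hCd, ← Scheme.IdealSheafData.range_subschemeι]
      exact (C.subschemeι.isEmbedding.toHomeomorph).isHomeomorph.topologicalKrullDim_eq
    obtain ⟨hξ, -⟩ := intNum_curve k (by exact_mod_cast hdim.le : topologicalKrullDim X ≤ ((2 : ℕ) : WithBot ℕ∞)) hNi C.subschemeι hd'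
    have h0 := Nakai.hodge_proper k (by exact_mod_cast hdim) (Nakai.cl_mem hNi) (Nakai.cl_mem hDi) hD2 hDN h2 hξ
    rw [← Nakai.pairing_cl k _ hNi, ← h0]
    refine Nakai.pairing_piece k (d := 1) (DevLib.isPiece_pushUnit C.subschemeι) (IntLib.isPiece_compMod _) ?_
      (by rw [pow_one]; exact Nakai.cl_mem hNi)
    rw [hξ]; exact_mod_cast Nat.lt_succ_self 1

end Groth.Agent.S15916
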