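import Groth.Statements.S15917
import Groth.Agent.SubAdjLib.FlfSplit

set_option autoImplicit false
universe u
open CategoryTheory CategoryTheory.Limits AlgebraicGeometry TopologicalSpace
open Curves

namespace Groth.Agent.S15917

open CategoryTheory CategoryTheory.Limits AlgebraicGeometry

set_option backward.isDefEq.respectTransparency false
set_option backward.isDefEq.respectTransparency.types false
set_option linter.style.haveILetI false
set_option maxHeartbeats 1000000
open Groth.Agent.SubAdjLib Groth.Agent.CliffCurveLib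
attribute [local instance] HasDerivedCategory.standard

/-- Let k be an algebraically closed field of characteristic zero and C a rational tree over k: a
connected, reduced scheme, proper over k of dimension one, with at-worst-nodal singularities and
H¹(C, O_C) = 0 (equivalently, all components are smooth rational curves and the dual graph is a
tree). Let F be a finite locally free O_C-module and R ⊆ C a closed subscheme that is reduced and
connected and whose support is a union of irreducible components of C. If for every irreducible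
component Z of C not contained in R (taken with its reduced structure, i.e. every integral closed
one-dimensional subscheme Z whose support is not inside R) the restriction F|_Z is generated by
global sections, then h¹(C, F) = h¹(R, F|_R). -/
theorem result (k : Type u) [Field k] [IsAlgClosed k] [CharZero k]
    (C : Scheme.{u}) [C.Over (Spec (CommRingCat.of k))] [IsProper (C ↘ (Spec (CommRingCat.of k)))] [IsReduced C] [ConnectedSpace C]
    (hdim : topologicalKrullDim C = 1) (hnodal : Curv2.AtWorstNodal k C)
    (hg : Subsingleton (Coh.HH C (Coh.structureModule C) 1))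
    (F : C.Modules) (hF : FlatMod.IsFinLocFree F)
    (R : C.IdealSheafData) [IsReduced R.subscheme] [ConnectedSpace R.subscheme]
    (hRunion : ∀ x ∈ (R.support : Set C), ∃ Z : C.IdealSheafData, IsIntegral Z.subscheme ∧
      topologicalKrullDim (Z.support : Set C) = 1 ∧ (Z.support : Set C) ⊆ R.support ∧ x ∈ (Z.support : Set C))
    (hgg : ∀ Z : C.IdealSheafData, IsIntegral Z.subscheme → topologicalKrullDim (Z.support : Set C) = 1 →
      ¬ ((Z.support : Set C) ⊆ R.support) → Curv2.IsGloballyGenerated ((Scheme.Modules.pullback Z.subschemeι).obj F)) :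
    letI : R.subscheme.Over (Spec (CommRingCat.of k)) := ⟨R.subschemeι ≫ (C ↘ (Spec (CommRingCat.of k)))⟩
    Module.finrank k (Coh.HH C F 1) =
      Module.finrank k (Coh.HH R.subscheme ((Scheme.Modules.pullback R.subschemeι).obj F) 1) := by
  haveI := EulerIneqLib.isNoetherian_proper (X := C) k
  have hg0 : Curv2.genus k C = 0 := by
    haveI := hg
    exact Module.finrank_zero_of_subsingleton
  obtain ⟨S₀, hR⟩ : ∃ S₀ : Closeds C, R = vI S₀ := ⟨R.support, by
    show R = Scheme.IdealSheafData.vanishingIdeal R.support
    rw [Scheme.IdealSheafData.vanishingIdeal_support, radical_eq]⟩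
  subst hR
  have hsupp : ((vI S₀).support : Set C) = S₀ := Scheme.IdealSheafData.coe_support_vanishingIdeal _
  have hc0 : _root_.IsConnected (S₀ : Set C) := by
    rw [← hsupp, ← Scheme.IdealSheafData.range_subschemeι, ← Set.image_univ]
    exact isConnected_univ.image _ (vI S₀).subschemeι.continuous.continuousOn
  have hS₀ : IsSub S₀ := ⟨hc0, fun h => by
    obtain ⟨x, hx⟩ := hc0.1
    obtain ⟨Z, -, hZd, hZs, -⟩ := hRunion x (hsupp.symm ▸ hx)
    have h1 := CliffCurveLib.dim_mono (hZs.trans hsupp.le) h
    rw [hZd] at h1
    exact absurd h1 (by decide)⟩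
  have key : ∀ n : ℕ, ∀ S : Closeds C, IsSub S → S₀ ≤ S →
      {Z ∈ irreducibleComponents (C : Type u) | ¬ Z ⊆ S}.ncard ≤ n →
      Module.finrank k (Coh.HH C (H1ZeroLib.LJ (vI S) F) 1) = Module.finrank k (Coh.HH C F 1) := by
    intro n
    induction n with
    | zero =>
      intro S hS h0 hn
      have hfin : {Z ∈ irreducibleComponents (C : Type u) | ¬ Z ⊆ S}.Finite :=
        NoetherianSpace.finite_irreducibleComponents.subset fun Z hZ => hZ.1
      have he := (Set.ncard_eq_zero hfin).1 (Nat.le_zero.1 hn)
      have htop : S = ⊤ := SetLike.coe_injective (Set.eq_univ_of_forall fun x => by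
        by_contra hx
        exact he.le (show irreducibleComponent x ∈ {Z ∈ irreducibleComponents (C : Type u) | ¬ Z ⊆ S} from
          ⟨irreducibleComponent_mem_irreducibleComponents x, fun hs => hx (hs mem_irreducibleComponent)⟩))
      subst htop
      exact (LinearEquiv.ofBijective _ (CurveLib.hMap_bijective_iso (k := k)
        (eqToIso (congrArg (fun J => H1ZeroLib.LJ J F) (vI_top (X := C))) ≪≫ ljBot F) 1)).finrank_eq
    | succ n ih =>
      intro S hS h0 hn
      have hfin : {Z ∈ irreducibleComponents (C : Type u) | ¬ Z ⊆ S}.Finite :=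
        NoetherianSpace.finite_irreducibleComponents.subset fun Z hZ => hZ.1
      by_cases he : {Z ∈ irreducibleComponents (C : Type u) | ¬ Z ⊆ S}.ncard ≤ n
      · exact ih S hS h0 he
      obtain ⟨Z₁, hZ₁⟩ := Set.nonempty_of_ncard_ne_zero
        (show {Z ∈ irreducibleComponents (C : Type u) | ¬ Z ⊆ S}.ncard ≠ 0 by omega)
      obtain ⟨z, hz, hzS⟩ := Set.not_subset.1 hZ₁.2
      obtain ⟨s, hs⟩ := hS.1.1
      obtain ⟨y, -, hy1, hy2⟩ := isPreconnected_closed_iff.1 isPreconnected_univ (S : Set C)
        (⋃ Z ∈ {Z ∈ irreducibleComponents (C : Type u) | ¬ Z ⊆ S}, Z) S.isClosed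
        (hfin.isClosed_biUnion fun Z hZ => isClosed_of_mem_irreducibleComponents Z hZ.1)
        (fun x _ => (em (x ∈ S)).imp id fun hx => Set.mem_biUnion
          (show irreducibleComponent x ∈ {Z ∈ irreducibleComponents (C : Type u) | ¬ Z ⊆ S} from
            ⟨irreducibleComponent_mem_irreducibleComponents x, fun h => hx (h mem_irreducibleComponent)⟩)
          mem_irreducibleComponent)
        ⟨s, trivial, hs⟩ ⟨z, trivial, Set.mem_biUnion hZ₁ hz⟩
      obtain ⟨Z, hZ, hyZ⟩ := Set.mem_iUnion₂.1 hy2
      let Zc : Closeds C := ⟨Z, isClosed_of_mem_irreducibleComponents Z hZ.1⟩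
      have hS' : IsSub (S ⊔ Zc) := ⟨by
        rw [Closeds.coe_sup]
        exact hS.1.union ⟨y, hy1, hyZ⟩ ⟨hZ.1.1.1, hZ.1.1.2.isPreconnected⟩,
        fun h => hS.2 (CliffCurveLib.dim_mono (fun x hx => Or.inl hx) h)⟩
      have hZd := TwistShriek.dim_irreducibleComponent k hdim hZ.1
      haveI hint : IsIntegral (vI Zc).subscheme := CurveLib.isIntegral_vanishingIdeal Zc.isClosed hZ.1.1
      have hgg' : Curv2.IsGloballyGenerated ((Scheme.Modules.pullback (vI Zc).subschemeι).obj F) := by
        refine hgg (vI Zc) hint ?_ ?_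
        · rw [Scheme.IdealSheafData.coe_support_vanishingIdeal]; exact hZd
        · rw [Scheme.IdealSheafData.coe_support_vanishingIdeal, Scheme.IdealSheafData.coe_support_vanishingIdeal]
          exact fun h => hZ.2 (h.trans h0)
      have hgS : gS k (S ⊔ Zc) = 0 := by
        have := gS_le_genus (k := k) hdim.le (S ⊔ Zc)
        omega
      rw [← finrank_H1_peel hdim.le hS hS' le_sup_left le_rfl hgS hF hgg']
      refine ih _ hS' (h0.trans le_sup_left) ?_
      have hlt : {W ∈ irreducibleComponents (C : Type u) | ¬ W ⊆ (S ⊔ Zc : Closeds C)}.ncard <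
          {W ∈ irreducibleComponents (C : Type u) | ¬ W ⊆ S}.ncard := by
        refine Set.ncard_lt_ncard ⟨fun W hW => ⟨hW.1, fun h => hW.2 (h.trans fun x hx => Or.inl hx)⟩,
          fun h => (h hZ).2 fun x hx => Or.inr hx⟩ hfin
      omega
  rw [← key _ S₀ hS₀ le_rfl le_rfl]
  letI : (vI S₀).subscheme.Over (Spec (CommRingCat.of k)) := ⟨(vI S₀).subschemeι ≫ (C ↘ (Spec (CommRingCat.of k)))⟩
  haveI : Coh.IsQCoh ((Scheme.Modules.pullback (vI S₀).subschemeι).obj F) :=
    ((PullbackMod.isFinLocFree_iff _).1 (PullbackMod.isFinLocFree_pullback _ F hF)).1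
  exact (LinearEquiv.ofBijective _ (CurveLib.hMap_bijective_iso (k := k) (ljIso F S₀) 1)).finrank_eq.trans
    (IntLib.finrank_push k (vI S₀).subschemeι rfl _ 1)

end Groth.Agent.S15917
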