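import Groth.Statements.S15918
import Groth.Agent.SubAdjLib.PeelVan

set_option autoImplicit false
universe u
open CategoryTheory CategoryTheory.Limits AlgebraicGeometry TopologicalSpace
open Curves

namespace Groth.Agent.S15918

open CategoryTheory CategoryTheory.Limits AlgebraicGeometry

set_option backward.isDefEq.respectTransparency false
set_option backward.isDefEq.respectTransparency.types false
set_option linter.style.haveILetI false
set_option maxHeartbeats 1000000
open Groth.Agent.SubAdjLib Groth.Agent.CliffCurveLib Groth.Agent.DCohLib Groth.Agent.CurveLib Groth.Agent.H1ZeroLib Groth.Agent.PullbackMod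
open TopologicalSpace
open scoped TensorProduct
attribute [local instance] HasDerivedCategory.standard

/-- Let k be an algebraically closed field of characteristic zero and C a rational tree over k: a
connected, reduced scheme, proper over k of dimension one, with at-worst-nodal singularities and
H¹(C, O_C) = 0. Let F be a finite locally free O_C-module. Suppose C = C_1 ∪ C_2 with C_1, C_2
reduced closed subschemes whose supports are unions of irreducible components of C having no
irreducible component in common, and let P = C_1 ∩ C_2 be the finite set of nodes where they meet,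
taken as a reduced closed subscheme of C_1 with ideal I_P. If H¹(C_1, F|_{C_1} ⊗ I_P) = 0 then h¹(C,
F) = h¹(C_2, F|_{C_2}). -/
theorem result (k : Type u) [Field k] [IsAlgClosed k] [CharZero k]
    (C : Scheme.{u}) [C.Over (Spec (CommRingCat.of k))] [IsProper (C ↘ (Spec (CommRingCat.of k)))] [IsReduced C] [ConnectedSpace C]
    (hdim : topologicalKrullDim C = 1) (hnodal : Curv2.AtWorstNodal k C)
    (hg : Subsingleton (Coh.HH C (Coh.structureModule C) 1))
    (F : C.Modules) (hF : FlatMod.IsFinLocFree F)
    (C₁ C₂ : C.IdealSheafData) [IsReduced C₁.subscheme] [IsReduced C₂.subscheme]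
    (hunion₁ : ∀ x ∈ (C₁.support : Set C), ∃ Z : C.IdealSheafData, IsIntegral Z.subscheme ∧
      topologicalKrullDim (Z.support : Set C) = 1 ∧ (Z.support : Set C) ⊆ C₁.support ∧ x ∈ (Z.support : Set C))
    (hunion₂ : ∀ x ∈ (C₂.support : Set C), ∃ Z : C.IdealSheafData, IsIntegral Z.subscheme ∧
      topologicalKrullDim (Z.support : Set C) = 1 ∧ (Z.support : Set C) ⊆ C₂.support ∧ x ∈ (Z.support : Set C))
    (hcover : (C₁.support : Set C) ∪ C₂.support = Set.univ)
    (hnocommon : ∀ Z : C.IdealSheafData, IsIntegral Z.subscheme → topologicalKrullDim (Z.support : Set C) = 1 →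
      ¬ ((Z.support : Set C) ⊆ C₁.support ∧ (Z.support : Set C) ⊆ C₂.support))
    (P : C₁.subscheme.IdealSheafData) [IsReduced P.subscheme]
    (hP : ∀ x : C₁.subscheme, x ∈ (P.support : Set C₁.subscheme) ↔ C₁.subschemeι x ∈ (C₂.support : Set C))
    (hvan : Subsingleton (Coh.HH C₁.subscheme
        (CohB1.tensorMod ((Scheme.Modules.pullback C₁.subschemeι).obj F) (ClSub.idealMod P)) 1)) :
    letI : C₂.subscheme.Over (Spec (CommRingCat.of k)) := ⟨C₂.subschemeι ≫ (C ↘ (Spec (CommRingCat.of k)))⟩
    Module.finrank k (Coh.HH C F 1) =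
      Module.finrank k (Coh.HH C₂.subscheme ((Scheme.Modules.pullback C₂.subschemeι).obj F) 1) := by
  haveI := EulerIneqLib.isNoetherian_proper (X := C) k
  obtain ⟨T, rfl⟩ : ∃ T : Closeds C, C₁ = vI T := ⟨C₁.support, by
    show C₁ = Scheme.IdealSheafData.vanishingIdeal C₁.support
    rw [Scheme.IdealSheafData.vanishingIdeal_support, radical_eq]⟩
  obtain ⟨Z, rfl⟩ : ∃ Z : Closeds C, C₂ = vI Z := ⟨C₂.support, by
    show C₂ = Scheme.IdealSheafData.vanishingIdeal C₂.support
    rw [Scheme.IdealSheafData.vanishingIdeal_support, radical_eq]⟩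
  rw [Scheme.IdealSheafData.coe_support_vanishingIdeal, Scheme.IdealSheafData.coe_support_vanishingIdeal] at hcover
  have dense : ∀ T Z : Closeds C, (∀ x ∈ ((vI T).support : Set C), ∃ W : C.IdealSheafData, IsIntegral W.subscheme ∧
      topologicalKrullDim (W.support : Set C) = 1 ∧ (W.support : Set C) ⊆ (vI T).support ∧ x ∈ (W.support : Set C)) →
      (∀ W : C.IdealSheafData, IsIntegral W.subscheme → topologicalKrullDim (W.support : Set C) = 1 →
        ¬ ((W.support : Set C) ⊆ (vI T).support ∧ (W.support : Set C) ⊆ (vI Z).support)) →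
      (T : Set C) ⊆ closure ((T : Set C) \ Z) := by
    intro T Z hu hn x hx
    obtain ⟨W, hW, hWd, hWT, hxW⟩ := hu x (mem_support_vI.2 hx)
    haveI := hW
    obtain ⟨η, hη⟩ := QuasiSober.sober (show IsIrreducible (W.support : Set C) by
      rw [← Scheme.IdealSheafData.range_subschemeι, ← Set.image_univ]
      exact (IrreducibleSpace.isIrreducible_univ _).image _ W.subschemeι.continuous.continuousOn) W.support.isClosed
    have hηT : η ∈ T := mem_support_vI.1 (hWT hη.mem)
    refine closure_mono (t := (T : Set C) \ Z) (Set.singleton_subset_iff.2 ⟨hηT, fun hηZ => hn W hW hWd ⟨hWT, ?_⟩⟩) (hη.def.ge hxW)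
    rw [Scheme.IdealSheafData.coe_support_vanishingIdeal, ← hη.def]
    exact closure_minimal (Set.singleton_subset_iff.2 hηZ) Z.isClosed
  have hTd := dense T Z hunion₁ hnocommon
  have hZd := dense Z T hunion₂ fun W a b h => hnocommon W a b ⟨h.2, h.1⟩
  have hZc : Z = SubAdjLib.compl T := SetLike.coe_injective (by
    refine subset_antisymm (fun x hx => closure_mono (show (Z : Set C) \ T ⊆ (T : Set C)ᶜ from fun y hy => hy.2) (hZd hx)) ?_
    exact closure_minimal (fun y hy => ((Set.ext_iff.1 hcover y).2 trivial).resolve_left hy) Z.isClosed)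
  have hun : T ⊔ Z = ⊤ := SetLike.coe_injective (by rw [Closeds.coe_sup, hcover, Closeds.coe_top])
  have hsup : vI T ⊔ vI Z = vI (T ⊓ Z) := by
    rw [hZc] at hTd ⊢
    exact vI_sup_compl_of_dense k hdim hnodal hTd
  obtain ⟨eI⟩ := nonempty_idealMod_iso hun hsup P fun w => by
    rw [hP w, Scheme.IdealSheafData.coe_support_vanishingIdeal]
  letI : (vI Z).subscheme.Over (Spec (CommRingCat.of k)) := ⟨(vI Z).subschemeι ≫ (C ↘ (Spec (CommRingCat.of k)))⟩
  haveI hqT : Coh.IsQCoh ((Scheme.Modules.pullback (vI T).subschemeι).obj F) :=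
    ((PullbackMod.isFinLocFree_iff _).1 (PullbackMod.isFinLocFree_pullback _ F hF)).1
  haveI hqZ : Coh.IsQCoh ((Scheme.Modules.pullback (vI Z).subschemeι).obj F) :=
    ((PullbackMod.isFinLocFree_iff _).1 (PullbackMod.isFinLocFree_pullback _ F hF)).1
  let i := (vI T).subschemeι
  let F₁ := (Scheme.Modules.pullback i).obj F
  haveI : Coh.IsQCoh (ClSub.idealMod P) := OmegaAffLib.isQCoh_idealMod P
  haveI : Coh.IsQCoh (tmod F₁ (ClSub.idealMod P)) := BCLib.isQCoh_tmod _ _
  haveI h1 : Subsingleton (Coh.HH C ((Scheme.Modules.pushforward i).obj (tmod F₁ (ClSub.idealMod P))) 1) := by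
    obtain ⟨e, -⟩ := ProperFin.exists_pushEquiv i (M := tmod F₁ (ClSub.idealMod P))
      (fun _ hV m => CohBase.affine_vanishing _ (hV.preimage i) m) 1
    haveI : Subsingleton (Coh.HH (vI T).subscheme (tmod F₁ (ClSub.idealMod P)) 1) := hvan
    exact e.symm.toEquiv.subsingleton
  haveI hK : Subsingleton (Coh.HH C (tmod (ClSub.idealMod (vI Z)) F) 1) :=
    ProjCoh.subsingleton_of_iso ((Scheme.Modules.pushforward i).mapIso (tmodComm F₁ (ClSub.idealMod P)) ≪≫
      (projIso i (ClSub.idealMod P) F).symm ≪≫ (((DCoh.tensorBi (X := C)).mapIso eI).app F).symm) 1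
  have hq : ∀ x, Function.Surjective (stalkLin (ClSub.toSubscheme (vI Z)) x) :=
    (epi_iff_stalk _).1 (HilbObsLib.epi_toSubscheme _)
  have hse := kerSeq_shortExact (ClSub.toSubscheme (vI Z)) hq
  have hse' : ((kerSeq (ClSub.toSubscheme (vI Z))).map (tensR F)).ShortExact := by
    haveI := hse.epi_g
    haveI := hse.mono_f
    refine { exact := hse.exact.map_of_epi_of_preservesCokernel _ hse.epi_g inferInstance
             mono_f := (mono_iff_stalk _).2 fun x a b hab => ?_
             epi_g := (inferInstance : Epi ((tensR F).map (kerSeq (ClSub.toSubscheme (vI Z))).g)) }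
    obtain ⟨a, rfl⟩ := (stalkTensor x (ClSub.idealMod (vI Z)) F).surjective a
    obtain ⟨b, rfl⟩ := (stalkTensor x (ClSub.idealMod (vI Z)) F).surjective b
    haveI := (free_finite_stalk_of_flf hF x).1
    have hab' := (stalkTensor_natural_left x (kerSeq (ClSub.toSubscheme (vI Z))).f a).symm.trans
      (hab.trans (stalkTensor_natural_left x (kerSeq (ClSub.toSubscheme (vI Z))).f b))
    exact congrArg _ (Module.Flat.rTensor_preserves_injective_linearMap _
      ((mono_iff_stalk (kerSeq (ClSub.toSubscheme (vI Z))).f).1 hse.mono_f x) ((stalkTensor x _ F).injective hab'))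
  have hinj : Function.Injective (hMap (k := k) ((kerSeq (ClSub.toSubscheme (vI Z))).map (tensR F)).g 1) := by
    rw [injective_iff_map_eq_zero]
    intro z hz
    obtain ⟨y, rfl⟩ := (range_hMap_f (k := k) hse' 1).ge hz
    rw [Subsingleton.elim (α := Coh.HH C (tmod (ClSub.idealMod (vI Z)) F) 1) y 0, map_zero]
  have hsur : Function.Surjective (hMap (k := k) ((kerSeq (ClSub.toSubscheme (vI Z))).map (tensR F)).g 1) :=
    hMap_one_surjective (k := k) hdim.le _ isClosed_empty (topologicalKrullDim_zero_of_discreteTopology (∅ : Set C))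
      fun x _ => (epi_iff_stalk _).1 hse'.epi_g x
  exact ((LinearEquiv.ofBijective _ (hMap_bijective_iso (k := k) (tmodUnit F) 1)).symm.trans
    ((LinearEquiv.ofBijective _ ⟨hinj, hsur⟩).trans
      (LinearEquiv.ofBijective _ (hMap_bijective_iso (k := k) (ljIso F Z) 1)))).finrank_eq.trans
    (IntLib.finrank_push k (vI Z).subschemeι rfl _ 1)

end Groth.Agent.S15918
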