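import Groth.Statements.S15921
import Groth.Agent.SubAdjLib.Nodes

set_option autoImplicit false
universe u
open CategoryTheory CategoryTheory.Limits AlgebraicGeometry
attribute [local instance] HasDerivedCategory.standard
open Curves

namespace Groth.Agent.S15921

open CategoryTheory CategoryTheory.Limits AlgebraicGeometry

set_option backward.isDefEq.respectTransparency false
set_option backward.isDefEq.respectTransparency.types false
set_option linter.style.haveILetI false
set_option maxHeartbeats 1000000
open Groth.Agent.SubAdjLib Groth.Agent.CliffCurveLib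
attribute [local instance] HasDerivedCategory.standard

/-- Let k be an algebraically closed field and X a nodal curve over k (proper over k, of dimension one,
with H^0(X, O_X) = k and at-worst-nodal singularities), ω_X its dualizing module (the degree -1
cohomology sheaf of f^! O for f : X → Spec k, assuming Rf_* on D_QCoh and its right adjoint exist),
and Y ⊊ X a connected reduced closed subscheme of dimension one (a connected proper subcurve). Let
δ_Y be the number of points of Y lying in the closure of X ∖ Y. Then deg(ω_X|_Y) = -2χ(Y, O_Y) +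
δ_Y, that is, 2g_Y - 2 + δ_Y where g_Y = 1 - χ(Y, O_Y). -/
theorem result (k : Type u) [Field k] [IsAlgClosed k] (X : Scheme.{u}) [X.Over (Spec (CommRingCat.of k))] [IsProper (X ↘ (Spec (CommRingCat.of k)))] (hdim : topologicalKrullDim X = 1)
    (h0 : Module.finrank k (Coh.HH X (Coh.structureModule X) 0) = 1) (hX : Curv2.AtWorstNodal k X)
    [DCoh.HasRpush (X ↘ (Spec (CommRingCat.of k)))] (h : DCoh.RpushPreservesQCoh (X ↘ (Spec (CommRingCat.of k)))) [DCoh.HasShriek (X ↘ (Spec (CommRingCat.of k))) h]
    (OY : DCoh.DQCoh (Spec (CommRingCat.of k))) (hOY : Nonempty (OY.obj ≅ DCoh.inD (Spec (CommRingCat.of k)) (Coh.structureModule (Spec (CommRingCat.of k)))))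
    (J : X.IdealSheafData) [IsReduced J.subscheme] [ConnectedSpace J.subscheme]
    (hJ1 : topologicalKrullDim J.subscheme = 1) (hJne : J ≠ ⊥) :
    @Curv2.deg k _ J.subscheme ⟨J.subschemeι ≫ (X ↘ (Spec (CommRingCat.of k)))⟩ ((Scheme.Modules.pullback J.subschemeι).obj (DCoh.dualizingMod (X ↘ (Spec (CommRingCat.of k))) h OY 1)) 1 =
      -2 * @Curv2.euler k _ J.subscheme ⟨J.subschemeι ≫ (X ↘ (Spec (CommRingCat.of k)))⟩ (Coh.structureModule J.subscheme) +
        (Nat.card ((J.support : Set X) ∩ closure ((J.support : Set X)ᶜ) : Set X) : ℤ) := by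
  haveI := (nodal_setup k hdim h0 hX).1
  haveI := (nodal_setup k hdim h0 hX).2
  haveI := EulerIneqLib.isNoetherian_proper (X := X) k
  have hGor := isInvertible_dualizingMod_nodal h OY hOY hdim hX
  obtain ⟨S, hS, rfl⟩ := exists_closeds J inferInstance inferInstance hJ1
  rw [deg_eq_degS k hGor, degS_omega k hdim h OY hOY hGor hS, kc_eq_card k hdim hX hS]
  have he : @Curv2.euler k _ (vI S).subscheme ⟨(vI S).subschemeι ≫ (X ↘ (Spec (CommRingCat.of k)))⟩
      (Coh.structureModule (vI S).subscheme) = 1 - (gS k S : ℤ) := by
    letI : (vI S).subscheme.Over (Spec (CommRingCat.of k)) := ⟨(vI S).subschemeι ≫ (X ↘ Spec (CommRingCat.of k))⟩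
    haveI : Coh.IsQCoh (Coh.structureModule (vI S).subscheme) := CohBase.isQCoh_structureModule
    exact (IntLib.euler_push k (vI S).subschemeι rfl (Coh.structureModule (vI S).subscheme)).symm.trans
      (euler_quot k hdim.le hS)
  rw [he]
  have hset : ((vI S).support : Set X) ∩ closure (((vI S).support : Set X)ᶜ) = (S : Set X) ∩ SubAdjLib.compl S := by
    rw [show ((vI S).support : Set X) = (S : Set X) from Scheme.IdealSheafData.coe_support_vanishingIdeal S]
    rfl
  rw [hset]
  ring

end Groth.Agent.S15921
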