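import Groth.Statements.S15922
import Groth.Agent.VBLib.Point
import Groth.Agent.DimFormulaLib.Misc

set_option autoImplicit false
universe u
open CategoryTheory CategoryTheory.Limits AlgebraicGeometry
open Curves

namespace Groth.Agent.S15922

/-- Let k be an algebraically closed field, X a curve over k (proper over k, reduced, connected, every
irreducible component of dimension one) and P a closed point of X, with m_P the ideal sheaf of the
reduced point P viewed as an O_X-module. Then m_P is a torsion-free sheaf of rank one and degree -1: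
regular elements of each local ring O_{X,x} act injectively on the stalk of m_P at x, the stalk at
every generic point of an irreducible component has dimension one over the local ring there, and
χ(X, m_P) - χ(X, O_X) = -1. -/
theorem result (k : Type u) [Field k] [IsAlgClosed k] (X : Scheme.{u}) [X.Over (Spec (CommRingCat.of k))] [IsProper (X ↘ (Spec (CommRingCat.of k)))] [IsReduced X] [ConnectedSpace X]
    (hequi : ∀ Z ∈ irreducibleComponents (X : Type u), topologicalKrullDim Z = 1)
    (P : X) (hP : IsClosed ({P} : Set X)) :
    TorSh.IsTorsionFree (ClSub.idealMod (Scheme.IdealSheafData.vanishingIdeal ⟨{P}, hP⟩)) ∧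
    (∀ η : X, closure ({η} : Set X) ∈ irreducibleComponents (X : Type u) →
      Module.finrank (X.presheaf.stalk η) ((ClSub.idealMod (Scheme.IdealSheafData.vanishingIdeal ⟨{P}, hP⟩)).presheaf.stalk η) = 1) ∧
    Curv2.deg k X (ClSub.idealMod (Scheme.IdealSheafData.vanishingIdeal ⟨{P}, hP⟩)) 1 = -1 := by
  let J := Scheme.IdealSheafData.vanishingIdeal (⟨{P}, hP⟩ : TopologicalSpace.Closeds X)
  haveI := Groth.Agent.EulerIneqLib.isNoetherian_proper (X := X) k
  let i : ClSub.idealMod J ⟶ Coh.structureModule X := ClSub.idealModι J
  haveI : Mono i := inferInstanceAs (Mono (kernel.ι _))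
  have hinj := fun x : X => (Groth.Agent.PullbackMod.mono_iff_stalk i).1 inferInstance x
  haveI := Groth.Agent.SerreAff.epi_unitToPush J.subschemeι
  let q : Coh.structureModule X ⟶ ClSub.quotMod J := ClSub.toSubscheme J
  haveI : Epi q := inferInstanceAs (Epi (ClSub.toSubscheme J))
  let one : ∀ x : X, X.presheaf.stalk x ≃ₗ[X.presheaf.stalk x] (Coh.structureModule X).presheaf.stalk x := fun x =>
    LinearEquiv.ofBijective (LinearMap.toSpanSingleton _ _ _) (Groth.Agent.ParaFLib.bijective_oneG x)
  let S : ShortComplex X.Modules := ShortComplex.mk (kernel.ι q) q (kernel.condition q)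
  have hS : S.ShortExact :=
    ShortComplex.ShortExact.mk' (ShortComplex.exact_of_f_is_kernel _ (kernelIsKernel q)) inferInstance inferInstance
  refine ⟨fun x => ?_, fun η hη => ?_, ?_⟩
  · exact Function.Injective.moduleIsTorsionFree ((one x).symm ∘ Groth.Agent.PullbackMod.stalkLin i x)
      ((one x).symm.injective.comp (hinj x)) fun r m => by simp
  · have hne : η ≠ P := fun h => by
      have hd := hequi _ hη
      rw [h, hP.closure_eq] at hd
      haveI : Subsingleton ({P} : Set X) := ⟨fun a b => Subtype.ext (a.2.trans b.2.symm)⟩
      have : topologicalKrullDim ({P} : Set X) ≤ 0 := topologicalKrullDim_zero_of_discreteTopology _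
      rw [hd] at this
      exact absurd this (by norm_num)
    haveI : Subsingleton ((ClSub.quotMod J).presheaf.stalk η) := by
      by_contra h
      have h1 := Groth.Agent.IntLib.support_quotMod_subset J (show η ∈ CohB1.support (ClSub.quotMod J) from h)
      rw [Scheme.IdealSheafData.coe_support_vanishingIdeal] at h1
      exact hne h1
    have hsur : Function.Surjective (Groth.Agent.PullbackMod.stalkLin i η) := fun z =>
      (Groth.Agent.DevLib.stalk_exact hS η z).1 (Subsingleton.elim _ _)
    rw [((LinearEquiv.ofBijective _ ⟨hinj η, hsur⟩).trans (one η).symm).finrank_eq, Module.finrank_self]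
  · let Z := J.subscheme
    let g : Z ⟶ X := J.subschemeι
    haveI hZ : IsIntegral Z := Groth.Agent.CurveLib.isIntegral_vanishingIdeal hP isIrreducible_singleton
    letI : Z.Over (Spec (CommRingCat.of k)) := ⟨g ≫ (X ↘ Spec (CommRingCat.of k))⟩
    haveI : IsProper (Z ↘ Spec (CommRingCat.of k)) := inferInstanceAs (IsProper (g ≫ (X ↘ Spec (CommRingCat.of k))))
    haveI : IsLocallyNoetherian Z := LocallyOfFiniteType.isLocallyNoetherian g
    haveI : Coh.IsQCoh (Coh.structureModule Z) := (Groth.Agent.DevLib.isCoh_structureModule Z).1
    have hdimX : topologicalKrullDim X ≤ 1 :=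
      Groth.Agent.DimFormulaLib.topologicalKrullDim_le_of_components 1 fun η hη => by
        obtain ⟨Z, hZ, hle⟩ := exists_mem_irreducibleComponents_subset_of_isIrreducible (closure ({η} : Set X))
          isIrreducible_singleton.closure
        obtain ⟨ξ, hξ⟩ := QuasiSober.sober hZ.1 (isClosed_of_mem_irreducibleComponents Z hZ)
        obtain rfl := hη ξ (hξ.specializes (hle (subset_closure rfl)))
        rw [hξ.def]
        exact (hequi _ hZ).le
    have hdimZ : topologicalKrullDim Z ≤ 0 := by
      haveI : Subsingleton Z := ⟨fun a b => g.isClosedEmbedding.injective (by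
        have ha : g a ∈ (J.support : Set X) := J.range_subschemeι ▸ ⟨a, rfl⟩
        have hb : g b ∈ (J.support : Set X) := J.range_subschemeι ▸ ⟨b, rfl⟩
        rw [Scheme.IdealSheafData.coe_support_vanishingIdeal] at ha hb
        exact ha.trans hb.symm)⟩
      exact topologicalKrullDim_zero_of_discreteTopology _
    haveI := Groth.Agent.EulerIneqLib.isNoetherian_proper (X := Z) k
    haveI hZ1 := Groth.Agent.CurveLib.subsingleton_HH_of_dim (Coh.structureModule Z) (d := 0) hdimZ (p := 1) Nat.one_pos
    have hQ : Curv2.euler k X (ClSub.quotMod J) = 1 := by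
      have h0 := Groth.Agent.IntLib.finrank_push k g rfl (Coh.structureModule Z) 0
      have h1 := Groth.Agent.IntLib.finrank_push k g rfl (Coh.structureModule Z) 1
      rw [Groth.Agent.CurveLib.finrank_H0_structure] at h0
      rw [Module.finrank_zero_of_subsingleton (M := Coh.HH Z (Coh.structureModule Z) 1)] at h1
      rw [Groth.Agent.CurveLib.euler_eq_sub (k := k) hdimX]
      change ((Module.finrank k (Coh.HH X ((Scheme.Modules.pushforward g).obj (Coh.structureModule Z)) 0) : ℕ) : ℤ) -
        ((Module.finrank k (Coh.HH X ((Scheme.Modules.pushforward g).obj (Coh.structureModule Z)) 1) : ℕ) : ℤ) = 1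
      rw [h0, h1]
      rfl
    have hO : Coh.IsCoh (Coh.structureModule X) := Groth.Agent.DevLib.isCoh_structureModule X
    have hQc := Groth.Agent.IntLib.isCoh_quotMod J
    have hK : Coh.IsCoh S.X₁ := (Groth.Agent.QCohLib.isCoh_kernel_cokernel q hO hQc).1
    have h := Groth.Agent.CurveLib.euler_shortExact (K := k) hS hK hO hQc
    change Curv2.euler k X (Coh.structureModule X) = Curv2.euler k X (ClSub.idealMod J) + Curv2.euler k X (ClSub.quotMod J) at h
    rw [hQ] at h
    change Curv2.euler k X (ClSub.idealMod J) - ((1 : ℕ) : ℤ) * Curv2.euler k X (Coh.structureModule X) = -1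
    omega

end Groth.Agent.S15922
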