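import Groth.Statements.S15923
import Groth.Agent.DeltaBCLib.Genus
import Groth.Agent.S8914
import Groth.Agent.S1570
import Groth.Agent.CliffCurveLib.Sections
import Groth.Agent.FinBirLib.Smooth
import Groth.Agent.EtAlgEasy.SmoothStalk
import Groth.Agent.FlatLocus.PointScheme

set_option autoImplicit false
universe u
open CategoryTheory CategoryTheory.Limits AlgebraicGeometry
open Curves

namespace Groth.Agent.S15923

open CategoryTheory CategoryTheory.Limits AlgebraicGeometry

open Groth.Agent
set_option backward.isDefEq.respectTransparency false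

/-- Let k be an algebraically closed field, X a curve over k (proper over k, reduced, connected, every
irreducible component of dimension one) and P a closed point of X, with m_P the ideal sheaf of the
reduced point P as an O_X-module. Then m_P is invertible (locally on X isomorphic to the structure
sheaf) exactly when some open neighbourhood of P is smooth over k. -/
theorem result (k : Type u) [Field k] [IsAlgClosed k] (X : Scheme.{u}) [X.Over (Spec (CommRingCat.of k))] [IsProper (X ↘ (Spec (CommRingCat.of k)))] [IsReduced X] [ConnectedSpace X]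
    (hequi : ∀ Z ∈ irreducibleComponents (X : Type u), topologicalKrullDim Z = 1)
    (P : X) (hP : IsClosed ({P} : Set X)) :
    PicF.IsInvertible (ClSub.idealMod (Scheme.IdealSheafData.vanishingIdeal ⟨{P}, hP⟩)) ↔
      ∃ U : X.Opens, P ∈ U ∧ Smooth (U.ι ≫ (X ↘ (Spec (CommRingCat.of k)))) := by
  haveI := EulerIneqLib.isNoetherian_proper (X := X) k
  let s := X ↘ (Spec (CommRingCat.of k))
  haveI : LocallyOfFinitePresentation s := LocallyOfFinitePresentation.iff_locallyOfFiniteType.mpr inferInstance
  have hd := DeltaBC.dim_stalk_eq_one hequi hP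
  obtain ⟨hJP, hJy⟩ := CliffCurveLib.stalkIdeal_point hP
  rw [S8914.result]
  constructor
  · intro h
    obtain ⟨U, hPU, f, -, hfU⟩ := h P
    have hm : IsLocalRing.maximalIdeal (X.presheaf.stalk P) = Ideal.span {X.presheaf.germ U P hPU f} := by
      rw [← hJP, IdealStalkLib.stalkIdeal_eq _ U P hPU, hfU, Ideal.map_span, Set.image_singleton]
    haveI : IsRegularLocalRing (X.presheaf.stalk P) := IsRegularLocalRing.of_spanFinrank_maximalIdeal_le _ (by
      rw [hd, hm]
      exact_mod_cast (Submodule.spanFinrank_span_le_ncard_of_finite (Set.finite_singleton _)).trans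
        (Set.ncard_singleton _).le)
    exact (FlatLocus.exists_smooth_nhd_iff s P).2 (FinBirLib.mem_smoothLocus_of_regular_algClosed s P hP)
  · intro hs
    haveI := NodePtLib.regular_of_smooth_nhd hs
    refine S1570.result X _ fun x hx U hxU => ?_
    have hxP : x = P := by
      rw [← SetLike.mem_coe, Scheme.IdealSheafData.coe_support_vanishingIdeal] at hx
      exact hx
    subst hxP
    rw [← IdealStalkLib.stalkIdeal_eq _ U x hxU, hJP]
    obtain ⟨d, hd'⟩ : ∃ d : ℕ, ringKrullDim (X.presheaf.stalk x) = d :=
      ⟨_, (IsRegularLocalRing.spanFinrank_maximalIdeal (R := X.presheaf.stalk x)).symm⟩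
    haveI : IsDomain (X.presheaf.stalk x) := RegLocal.isDomain_aux d _ hd'
    have h1 : (IsLocalRing.maximalIdeal (X.presheaf.stalk x)).spanFinrank = 1 := by
      have := IsRegularLocalRing.spanFinrank_maximalIdeal (R := X.presheaf.stalk x)
      rw [hd] at this
      exact_mod_cast this
    have hfg : (IsLocalRing.maximalIdeal (X.presheaf.stalk x)).FG :=
      (IsLocalRing.maximalIdeal _).fg_of_isNoetherianRing
    obtain ⟨t, hcard, hspan⟩ : ∃ t : Set (X.presheaf.stalk x), t.ncard = 1 ∧
        Ideal.span t = IsLocalRing.maximalIdeal (X.presheaf.stalk x) :=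
      ⟨_, (Submodule.FG.generators_ncard hfg).trans h1, Submodule.span_generators _⟩
    obtain ⟨g, rfl⟩ := Set.ncard_eq_one.1 hcard
    refine ⟨g, mem_nonZeroDivisors_of_ne_zero fun hg => ?_, hspan.symm⟩
    have hf : IsField (X.presheaf.stalk x) := IsLocalRing.isField_iff_maximalIdeal_eq.2 (by rw [← hspan, hg]; simp)
    rw [ringKrullDim_eq_zero_of_isField hf] at hd
    exact zero_ne_one hd

end Groth.Agent.S15923
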