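import Groth.Statements.S15924
import Groth.Agent.DeltaBCLib.SepNode

set_option autoImplicit false
universe u
open CategoryTheory CategoryTheory.Limits AlgebraicGeometry
open Curves

namespace Groth.Agent.S15924

open CategoryTheory CategoryTheory.Limits AlgebraicGeometry

open Groth.Agent
set_option backward.isDefEq.respectTransparency false

/-- Let k be an algebraically closed field, X a curve over k (proper over k, reduced, connected, every
irreducible component of dimension one) and P a separating node of X, i.e. a closed point which is a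
node and whose complement X ∖ {P} is not connected. Then the ideal sheaf m_P of the reduced point P,
as an O_X-module, is not simple: it admits an idempotent endomorphism other than 0 and the identity.
(The converse, simplicity of m_P when P is not a separating node, also holds but is not part of this
statement.) -/
theorem result (k : Type u) [Field k] [IsAlgClosed k] (X : Scheme.{u}) [X.Over (Spec (CommRingCat.of k))] [IsProper (X ↘ (Spec (CommRingCat.of k)))] [IsReduced X] [ConnectedSpace X]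
    (hequi : ∀ Z ∈ irreducibleComponents (X : Type u), topologicalKrullDim Z = 1)
    (P : X) (hP : IsClosed ({P} : Set X)) (hnode : Curv2.IsNode k X P) (hsep : ¬ IsPreconnected (({P} : Set X)ᶜ)) :
    ∃ e : ClSub.idealMod (Scheme.IdealSheafData.vanishingIdeal ⟨{P}, hP⟩) ⟶ ClSub.idealMod (Scheme.IdealSheafData.vanishingIdeal ⟨{P}, hP⟩),
      e ≫ e = e ∧ e ≠ 0 ∧ e ≠ 𝟙 _ := by
  haveI := EulerIneqLib.isNoetherian_proper (X := X) k
  have hn : ∃ u v : Set X, IsOpen u ∧ IsOpen v ∧ ({P} : Set X)ᶜ ⊆ u ∪ v ∧ (({P} : Set X)ᶜ ∩ u).Nonempty ∧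
      (({P} : Set X)ᶜ ∩ v).Nonempty ∧ ¬ (({P} : Set X)ᶜ ∩ (u ∩ v)).Nonempty := by
    rw [_root_.IsPreconnected] at hsep
    push Not at hsep
    obtain ⟨u, v, h1, h2, h3, h4, h5, h6⟩ := hsep
    exact ⟨u, v, h1, h2, h3, h4, h5, by rw [h6]; exact Set.not_nonempty_empty⟩
  obtain ⟨u, v, hu, hv, huv, hune, hvne, hdis⟩ := hn
  let A : Set X := ({P} : Set X)ᶜ ∩ u
  let B : Set X := ({P} : Set X)ᶜ ∩ v
  have hAo : IsOpen A := hP.isOpen_compl.inter hu
  have hBo : IsOpen B := hP.isOpen_compl.inter hv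
  have hAB : ∀ x, x ∈ A → x ∉ B := fun x h h' => hdis ⟨x, h.1, h.2, h'.2⟩
  have hcov : ∀ x, x ≠ P → x ∈ A ∨ x ∈ B := fun x hx => (huv hx).imp (fun h => ⟨hx, h⟩) fun h => ⟨hx, h⟩
  have hcl : ∀ S T : Set X, IsOpen S → IsOpen T → S.Nonempty → T.Nonempty → (∀ x, x ∈ S → x ∉ T) → (∀ x, x ≠ P → x ∈ S ∨ x ∈ T) →
      P ∉ S → P ∉ T → Tᶜ = closure S := by
    intro S T hS hT hSne hTne hST hc hPS hPT
    have h1 : closure S ⊆ Tᶜ := closure_minimal (fun x hx => hST x hx) hT.isClosed_compl
    refine Set.Subset.antisymm (fun x hx => ?_) h1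
    by_cases hxP : x = P
    · by_contra hxc
      rw [hxP] at hxc
      have hSc : IsClosed S := by
        refine closure_subset_iff_isClosed.1 fun y hy => ?_
        rcases eq_or_ne y P with rfl | hy'
        · exact absurd hy hxc
        · exact (hc y hy').resolve_right (h1 hy)
      rcases isClopen_iff.1 ⟨hSc, hS⟩ with h | h
      · exact hSne.ne_empty h
      · obtain ⟨t, ht⟩ := hTne
        exact hST t (h ▸ Set.mem_univ t) ht
    · exact subset_closure ((hc x hxP).resolve_right hx)
  have hPA : P ∉ A := fun h => h.1 rfl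
  have hPB : P ∉ B := fun h => h.1 rfl
  have h1 := hcl A B hAo hBo hune hvne hAB hcov hPA hPB
  have h2 := hcl B A hBo hAo hvne hune (fun x h h' => hAB x h' h) (fun x hx => (hcov x hx).symm) hPB hPA
  refine DeltaBC.exists_idempotent (ZA := ⟨Bᶜ, hBo.isClosed_compl⟩) (ZB := ⟨Aᶜ, hAo.isClosed_compl⟩) P hP ?_ ?_ ?_ ?_ ?_ ?_ ?_
    (DeltaBC.deltaInv_node k hequi hnode)
  · intro η hη hηP
    have h := hequi _ (DimFormulaLib.closure_mem_irreducibleComponents hη)
    rw [hηP, hP.closure_eq] at h
    haveI : Subsingleton ↥({P} : Set X) := ⟨fun a b => Subtype.ext (a.2.trans b.2.symm)⟩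
    have h0 := h ▸ topologicalKrullDim_zero_of_discreteTopology ↥({P} : Set X)
    exact absurd h0 (by simp)
  · refine Set.eq_univ_of_forall fun x => ?_
    by_cases hx : x ∈ B
    · exact Or.inr fun h => hAB x h hx
    · exact Or.inl hx
  · ext x
    refine ⟨fun ⟨hx, hx'⟩ => by_contra fun hxP => (hcov x hxP).elim hx' hx, fun hx => ?_⟩
    rw [show x = P from hx]
    exact ⟨hPB, hPA⟩
  · show Bᶜ = closure (Aᶜ)ᶜ
    rw [compl_compl]; exact h1
  · show Aᶜ = closure (Bᶜ)ᶜ
    rw [compl_compl]; exact h2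
  · intro h
    obtain ⟨t, ht⟩ := hvne
    exact (h.ge (Set.mem_univ t) : t ∈ Bᶜ) ht
  · intro h
    obtain ⟨t, ht⟩ := hune
    exact (h.ge (Set.mem_univ t) : t ∈ Aᶜ) ht

end Groth.Agent.S15924
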