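import Groth.Statements.S15925
import Groth.Agent.TFInterpNodeLib.RankOneMain

set_option backward.isDefEq.respectTransparency false
set_option backward.isDefEq.respectTransparency.types false

set_option autoImplicit false
universe u
open CategoryTheory CategoryTheory.Limits AlgebraicGeometry
open Curves
open Groth.Agent

namespace Groth.Agent.S15925

/-- Let k be an algebraically closed field, X a nodal curve over k (proper over k, connected, every
irreducible component of dimension one, at-worst-nodal singularities) and L a coherent torsion-free
O_X-module of rank one (regular elements of each local ring act injectively on the stalk; the stalk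
at each generic point of an irreducible component has dimension one). Let S be the set of points of
X at which L is not invertible, i.e. which have no open neighbourhood on which L is isomorphic to
the structure sheaf. Then there is an invertible O_X-module M with L ≅ I_S ⊗ M, where I_S is the
ideal sheaf of the reduced closed subscheme on the closure of S, viewed as an O_X-module. (S is a
finite set of nodes P_1, …, P_m, so I_S ⊗ M is the tensor product m_{P_1} ⊗ ⋯ ⊗ m_{P_m} ⊗ M of the
ideal sheaves of these points with M, which is the published form; existence of an isomorphism
only.) -/
theorem result (k : Type u) [Field k] [IsAlgClosed k] (X : Scheme.{u}) [X.Over (Spec (CommRingCat.of k))] [IsProper (X ↘ (Spec (CommRingCat.of k)))] [ConnectedSpace X]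
    (hequi : ∀ Z ∈ irreducibleComponents (X : Type u), topologicalKrullDim Z = 1) (hX : Curv2.AtWorstNodal k X)
    (L : X.Modules) (hLc : Coh.IsCoh L) (hLt : TorSh.IsTorsionFree L)
    (hrk : ∀ η : X, closure ({η} : Set X) ∈ irreducibleComponents (X : Type u) → Module.finrank (X.presheaf.stalk η) (L.presheaf.stalk η) = 1) :
    ∃ M : X.Modules, PicF.IsInvertible M ∧
      Nonempty (L ≅ CohB1.tensorMod (ClSub.idealMod (Scheme.IdealSheafData.vanishingIdeal
        ⟨closure {P : X | ¬ ∃ U : X.Opens, P ∈ U ∧ Nonempty (L.restrict U.ι ≅ Coh.structureModule (↑U : Scheme.{u}))}, isClosed_closure⟩)) M) := by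
  exact TFInterpNodeLib.exists_rankOne k hequi hX hLc hLt hrk

end Groth.Agent.S15925
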