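import Groth.Statements.S15936
import Groth.Agent.SeesawVB.TrivFibres
import Groth.Agent.SeesawVB.Unit
import Groth.Agent.CurveLib.TensorExact

set_option autoImplicit false
universe u
open CategoryTheory CategoryTheory.Limits AlgebraicGeometry
open Canon

namespace Groth.Agent.S15936

/-- Let S be a locally Noetherian scheme and f : X ⟶ S a locally projective morphism, smooth of relative
dimension n, whose fibres are non-empty and geometrically connected; let ω be an n-th exterior power
of the sheaf of relative differentials of f (the relative canonical sheaf K_{X/S}) and let m ≥ 1 be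
an integer such that the evaluation map f^* f_* K^{⊗m} ⟶ K^{⊗m}, the counit of the adjunction
between pullback and pushforward of modules, is an isomorphism. Then the direct image f_* K^{⊗m} is
an invertible O_S-module: finite locally free of rank one. (The published statement has f projective
and smooth, of possibly varying relative dimension, and also asserts that the formation of f_*
K^{⊗m} commutes with base change; this row takes f locally projective of constant relative dimension
n and states the invertibility only.) -/
theorem result
    {X S : Scheme.{u}} [IsLocallyNoetherian S] (f : X ⟶ S)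
    (hproj : RedSub.IsLocallyProjective (Over.mk f))
    (n : ℕ) [SmoothOfRelativeDimension n f] [GeometricallyConnected f]
    (ω : X.Modules) (hω : Canon.IsTopDiff f n ω) (m : ℕ) (hm : 1 ≤ m)
    (hev : IsIso ((Scheme.Modules.pullbackPushforwardAdjunction f).counit.app (CohB1.tensorPow ω m))) :
    FlatMod.IsFinLocFreeOfRank 1 ((Scheme.Modules.pushforward f).obj (CohB1.tensorPow ω m)) := by
  haveI := Groth.Agent.SeesawVB.isProper_of_isLocallyProjective f hproj
  haveI : Smooth f := SmoothOfRelativeDimension.smooth n f
  haveI := Groth.Agent.AVLib.geometricallyReduced_of_smooth f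
  have hL := Groth.Agent.AmpleLib.isInvertible_tensorPow (Groth.Agent.SeesawVB.isInvertible_topDiff f n hω) m
  obtain ⟨hP, hfr⟩ := Groth.Agent.SeesawVB.hasFrames_of_isIso_counit f
    (Groth.Agent.CurveLib.isFinLocFree_of_isInvertible hL) hev
  haveI := (Groth.Agent.PullbackMod.isQCoh_and_isFP_of_isFinLocFree _ hP).1
  refine (Groth.Agent.PullbackMod.isFinLocFreeOfRank_iff_freeAt _
    (Groth.Agent.PullbackMod.isQCoh_and_isFP_of_isFinLocFree _ hP).2 1).2 fun s => ?_
  obtain ⟨U, k, σ, hs, hσ, hσ'⟩ := hfr.exists_push_frame (Groth.Agent.SeesawVB.univStein_of_geometric f) s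
  obtain ⟨x, hx⟩ := f.surjective s
  haveI : Coh.IsQCoh (CohB1.tensorPow ω m) := Groth.Agent.InvExt.isQCoh_of_isInvertible hL
  obtain rfl : k = 1 := Groth.Agent.PullbackMod.freeAt_unique _
    (Groth.Agent.SeesawVB.freeAt_of_frame hσ (x := x) (show f x ∈ U by rw [hx]; exact hs))
    (Groth.Agent.CurveLib.freeAt_one_of_isInvertible hL x)
  exact Groth.Agent.SeesawVB.freeAt_of_frame hσ' hs

end Groth.Agent.S15936
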