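import Mathlib
import Groth.Statements.S15939
-- import your own Groth.Agent.* helpers here

set_option autoImplicit false
universe u
open CAlg

namespace Groth.Agent.S15939

open Polynomial in
/-- Let κ be a field and A a commutative κ-algebra whose only κ-subalgebras are the image of κ and A
itself, these two being different. Then A is finite-dimensional over κ, and A is isomorphic as a
κ-algebra to the dual numbers over κ, or to κ × κ, or A is a field which is either separable over κ
or isomorphic to κ[X]/(X^p - a) with p the (positive) characteristic of κ and a an element of κ that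
is not a p-th power. (The published statement also records that these four cases exclude one
another; that part is not restated.) -/
theorem result (κ A : Type u) [Field κ] [CommRing A] [Algebra κ A]
    (h : IsSimpleOrder (Subalgebra κ A)) :
    FiniteDimensional κ A ∧
    (Nonempty (A ≃ₐ[κ] DualNumber κ) ∨ Nonempty (A ≃ₐ[κ] (κ × κ)) ∨
      (IsField A ∧ (Algebra.IsSeparable κ A ∨
        ∃ (p : ℕ) (a : κ), p.Prime ∧ CharP κ p ∧ (∀ b : κ, b ^ p ≠ a) ∧
          Nonempty (A ≃ₐ[κ] AdjoinRoot (X ^ p - C a))))) := by
  classical
  have hbt : (⊥ : Subalgebra κ A) ≠ ⊤ := bot_ne_top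
  obtain ⟨x, hx⟩ : ∃ x : A, x ∉ (⊥ : Subalgebra κ A) := by
    by_contra hc; push Not at hc
    exact hbt (top_le_iff.mp fun y _ => hc y)
  haveI : Nontrivial A := by
    by_contra hn
    rw [not_nontrivial_iff_subsingleton] at hn
    exact hx (by rw [Subsingleton.elim x 0]; exact zero_mem _)
  have key : ∀ {y : A}, y ∉ (⊥ : Subalgebra κ A) → Algebra.adjoin κ {y} = ⊤ := fun {y} hy =>
    (IsSimpleOrder.eq_bot_or_eq_top (Algebra.adjoin κ {y})).resolve_left
      fun hc => hy (hc ▸ Algebra.self_mem_adjoin_singleton κ y)
  have keyHom : ∀ {B : Type u} [Semiring B] [Algebra κ B] (φ : B →ₐ[κ] A) (b : B),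
      φ b ∉ (⊥ : Subalgebra κ A) → Function.Surjective φ := by
    intro B _ _ φ b hb
    rw [← AlgHom.range_eq_top]
    exact (IsSimpleOrder.eq_bot_or_eq_top φ.range).resolve_left
      fun hc => hb (hc ▸ ⟨b, rfl⟩)
  have hint : IsIntegral κ x := by
    rw [← isAlgebraic_iff_isIntegral]
    by_contra htr
    rw [← Transcendental] at htr
    have hx2 : x ^ 2 ∉ (⊥ : Subalgebra κ A) := by
      rw [Algebra.mem_bot]
      rintro ⟨c, hc⟩
      exact htr ⟨X ^ 2 - C c, X_pow_sub_C_ne_zero two_pos c, by simp [hc]⟩
    have hm : x ∈ Algebra.adjoin κ {x ^ 2} := by rw [key hx2]; trivial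
    rw [Algebra.adjoin_singleton_eq_range_aeval] at hm
    obtain ⟨P, hP⟩ := hm
    have hP2 : P.comp (X ^ 2) = X := by
      apply transcendental_iff_injective.mp htr
      rw [aeval_comp, aeval_X]
      simpa using hP
    have := congrArg natDegree hP2
    rw [natDegree_comp, natDegree_X_pow, natDegree_X] at this
    omega
  have hfd : FiniteDimensional κ A := by
    have := hint.fg_adjoin_singleton
    rw [key hx, Algebra.top_toSubmodule] at this
    exact ⟨this⟩
  refine ⟨hfd, ?_⟩
  by_cases hF : IsField A
  · refine Or.inr (Or.inr ⟨hF, ?_⟩)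
    letI : Field A := hF.toField
    rcases IsSimpleOrder.eq_bot_or_eq_top (separableClosure κ A).toSubalgebra with hb | ht
    · right
      haveI hpi : IsPurelyInseparable κ A := by
        rw [isPurelyInseparable_iff]
        intro y
        refine ⟨IsIntegral.of_finite κ y, fun hy => ?_⟩
        have : y ∈ (⊥ : Subalgebra κ A) :=
          hb ▸ (mem_separableClosure_iff.mpr hy : y ∈ separableClosure κ A)
        exact Algebra.mem_bot.mp this
      obtain ⟨q, hq⟩ := ExpChar.exists κ
      haveI := hq
      have hxr : x ∉ (algebraMap κ A).range := fun hh => hx (Algebra.mem_bot.mpr hh)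
      obtain ⟨n, hn⟩ := IsPurelyInseparable.pow_mem κ q x
      rcases hq with _ | hqp
      · simp only [one_pow, pow_one] at hn
        exact absurd hn hxr
      · have hex : ∃ m, x ^ q ^ m ∈ (algebraMap κ A).range := ⟨n, hn⟩
        obtain ⟨m, hm⟩ : ∃ m, Nat.find hex = m + 1 := by
          refine ⟨Nat.find hex - 1, ?_⟩
          have : Nat.find hex ≠ 0 := fun h0 => hxr (by
            have := Nat.find_spec hex; rw [h0] at this; simpa using this)
          omega
        set y := x ^ q ^ m with hy
        have hyb : y ∉ (algebraMap κ A).range := Nat.find_min hex (by omega)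
        obtain ⟨a, ha⟩ : y ^ q ∈ (algebraMap κ A).range := by
          rw [hy, ← pow_mul, ← pow_succ, ← hm]; exact Nat.find_spec hex
        haveI : Fact q.Prime := ⟨hqp⟩
        haveI : CharP A q := charP_of_injective_algebraMap (algebraMap κ A).injective q
        have hna : ∀ b : κ, b ^ q ≠ a := by
          intro b hba
          apply hyb
          refine ⟨b, ?_⟩
          apply frobenius_inj A q
          simp only [frobenius_def]
          rw [← map_pow, hba, ha]
        refine ⟨q, a, hqp, inferInstance, hna, ?_⟩
        haveI := Fact.mk (X_pow_sub_C_irreducible_of_prime hqp hna)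
        let φ : AdjoinRoot (X ^ q - C a) →ₐ[κ] A :=
          AdjoinRoot.liftAlgHom (X ^ q - C a) (Algebra.ofId κ A) y (by simp [← ha])
        refine ⟨(AlgEquiv.ofBijective φ ⟨φ.toRingHom.injective, keyHom φ (AdjoinRoot.root _) ?_⟩).symm⟩
        rw [Algebra.mem_bot]
        simpa [φ] using hyb
    · left
      rw [← separableClosure.eq_top_iff]
      exact IntermediateField.toSubalgebra_injective (by rw [ht, IntermediateField.top_toSubalgebra])
  · obtain ⟨z, hz0, hzu⟩ : ∃ z : A, z ≠ 0 ∧ ¬ IsUnit z :=
      Ring.exists_not_isUnit_of_not_isField hF |>.imp fun z hz => ⟨hz.1, hz.2⟩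
    by_cases hnil : IsNilpotent z
    · left
      obtain ⟨e, he0, he2⟩ : ∃ e : A, e ≠ 0 ∧ e * e = 0 := by
        have hk : z ^ nilpotencyClass z = 0 := pow_nilpotencyClass hnil
        have hpos := pos_nilpotencyClass_iff.mpr hnil
        refine ⟨z ^ (nilpotencyClass z - 1), ?_, ?_⟩
        · exact pow_pred_nilpotencyClass hnil
        · have h2 : 2 ≤ nilpotencyClass z := by
            by_contra hlt
            have : nilpotencyClass z = 1 := by omega
            rw [this, pow_one] at hk
            exact hz0 hk
          rw [← pow_add]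
          exact pow_eq_zero_of_le (by omega) hk
      have heb : e ∉ (⊥ : Subalgebra κ A) := by
        rw [Algebra.mem_bot]
        rintro ⟨c, rfl⟩
        rw [← map_mul, ← map_zero (algebraMap κ A)] at he2
        have := (algebraMap κ A).injective he2
        exact he0 (by rw [mul_self_eq_zero.mp this, map_zero])
      let φ : DualNumber κ →ₐ[κ] A :=
        DualNumber.lift ⟨(Algebra.ofId κ A, e), he2, fun _ => Commute.all _ _⟩
      have hφe : φ DualNumber.eps = e := DualNumber.lift_apply_eps _
      refine ⟨(AlgEquiv.ofBijective φ ⟨?_, keyHom φ DualNumber.eps (hφe.symm ▸ heb)⟩).symm⟩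
      rw [injective_iff_map_eq_zero]
      intro d hd
      have hd' : algebraMap κ A d.fst + algebraMap κ A d.snd * e = 0 := by
        simpa [φ, DualNumber.lift_apply_apply] using hd
      have h1 : algebraMap κ A d.fst * e = 0 := by
        linear_combination e * hd' - algebraMap κ A d.snd * he2
      have hf0 : d.fst = 0 := by
        by_contra hne
        exact he0 ((IsUnit.mul_right_eq_zero ((Ne.isUnit hne).map (algebraMap κ A))).mp h1)
      have hs0 : d.snd = 0 := by
        by_contra hne
        rw [hf0, map_zero, zero_add] at hd'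
        exact he0 ((IsUnit.mul_right_eq_zero ((Ne.isUnit hne).map (algebraMap κ A))).mp hd')
      exact TrivSqZeroExt.ext hf0 hs0
    · right; left
      haveI : IsArtinianRing A := IsArtinianRing.of_finite κ A
      obtain ⟨n, y, hy⟩ := IsArtinian.exists_pow_succ_smul_dvd z (1 : A)
      simp only [smul_eq_mul, mul_one, Nat.succ_eq_add_one] at hy
      have hstep : ∀ k, z ^ n = z ^ (n + k) * y ^ k := by
        intro k
        induction k with
        | zero => simp
        | succ k ih =>
          calc z ^ n = z ^ (n + k) * y ^ k := ih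
            _ = z ^ n * (z ^ k * y ^ k) := by ring
            _ = (z ^ (n + 1) * y) * (z ^ k * y ^ k) := by rw [hy]
            _ = z ^ (n + (k + 1)) * y ^ (k + 1) := by ring
      set m := n + 1 with hm
      set e := z ^ m * y ^ m with he
      have hzm : z ^ m = z ^ (m + m) * y ^ m := by
        calc z ^ m = z * z ^ n := by ring
          _ = z * (z ^ (n + m) * y ^ m) := by rw [← hstep m]
          _ = z ^ (m + m) * y ^ m := by rw [hm]; ring
      have hee : e * e = e := by
        calc e * e = (z ^ (m + m) * y ^ m) * y ^ m := by rw [he]; ring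
          _ = e := by rw [← hzm, he]
      have he0 : e ≠ 0 := fun h0 => hnil ⟨m, by
        rw [hzm, pow_add, mul_assoc, ← he, h0, mul_zero]⟩
      have he1 : e ≠ 1 := fun h1 => hzu (IsUnit.of_mul_eq_one (z ^ n * y ^ m) (by
        rw [← h1, he, hm]; ring))
      have heb : e ∉ (⊥ : Subalgebra κ A) := by
        rw [Algebra.mem_bot]
        rintro ⟨c, hc⟩
        rw [← hc, ← map_mul] at hee
        have := (algebraMap κ A).injective hee
        rcases eq_or_ne c 0 with h0 | h0
        · exact he0 (by rw [← hc, h0, map_zero])
        · exact he1 (by rw [← hc, mul_left_eq_self₀.mp this |>.resolve_right h0, map_one])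
      let g : κ × κ →ₗ[κ] A :=
        (LinearMap.toSpanSingleton κ A e).coprod (LinearMap.toSpanSingleton κ A (1 - e))
      have hg : ∀ u : κ × κ, g u = u.1 • e + u.2 • (1 - e) := fun u => rfl
      let φ : κ × κ →ₐ[κ] A := AlgHom.ofLinearMap g (by simp [hg]) (by
        intro u v
        simp only [hg, Prod.fst_mul, Prod.snd_mul, Algebra.smul_def, map_mul]
        linear_combination (-(algebraMap κ A u.1 - algebraMap κ A u.2) *
          (algebraMap κ A v.1 - algebraMap κ A v.2)) * hee)
      have hφ : φ (1, 0) = e := by simp [φ, hg]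
      refine ⟨(AlgEquiv.ofBijective φ ⟨?_, keyHom φ (1, 0) (hφ.symm ▸ heb)⟩).symm⟩
      rw [injective_iff_map_eq_zero]
      rintro ⟨a, b⟩ hab
      have hab' : algebraMap κ A a * e + algebraMap κ A b * (1 - e) = 0 := by
        rw [← hab]; simp [φ, hg, Algebra.smul_def]
      have ha0 : a = 0 := by
        by_contra hne
        apply he0
        refine (IsUnit.mul_right_eq_zero ((Ne.isUnit hne).map (algebraMap κ A))).mp ?_
        linear_combination e * hab' - (algebraMap κ A a - algebraMap κ A b) * hee
      have hb0 : b = 0 := by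
        by_contra hne
        apply he1
        rw [ha0, map_zero, zero_mul, zero_add] at hab'
        exact (sub_eq_zero.mp
          ((IsUnit.mul_right_eq_zero ((Ne.isUnit hne).map (algebraMap κ A))).mp hab')).symm
      simp [ha0, hb0]

end Groth.Agent.S15939
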