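import Groth.Statements.S1594
import Groth.Agent.NodePtLib.Family
import Groth.Agent.ASp.Fpqc
import Mathlib.AlgebraicGeometry.Morphisms.LocalFlatDescent

set_option autoImplicit false
universe u
open CategoryTheory CategoryTheory.Limits AlgebraicGeometry
open Curves

namespace Groth.Agent.S1594

open CategoryTheory CategoryTheory.Limits AlgebraicGeometry

open Groth.Agent
set_option backward.isDefEq.respectTransparency false

/-- (2) implies (1), for a covering by one flat quasi-compact surjective morphism: let f : X → S and g :
S' → S flat, quasi-compact and surjective. If the base change X ×_S S' → S' is at-worst-nodal of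
relative dimension one then so is f. -/
theorem result {X S S' : Scheme.{u}} (f : X ⟶ S) (g : S' ⟶ S) [Flat g] [QuasiCompact g] [Surjective g]
    (h : Curv2.IsNodalFamily (pullback.snd f g)) : Curv2.IsNodalFamily f := by
  obtain ⟨hflat, hlfp, hfib⟩ := h
  have hQ : (@Surjective ⊓ @Flat ⊓ @QuasiCompact : MorphismProperty Scheme.{u}) g := ⟨⟨inferInstance, inferInstance⟩, inferInstance⟩
  haveI : Flat f := MorphismProperty.of_pullback_snd_of_descendsAlong
    (Q := @Surjective ⊓ @Flat ⊓ @QuasiCompact) hQ hflat
  haveI : LocallyOfFinitePresentation f := MorphismProperty.of_pullback_snd_of_descendsAlong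
    (Q := @Surjective ⊓ @Flat ⊓ @QuasiCompact) hQ hlfp
  refine ⟨inferInstance, inferInstance, fun s => ?_⟩
  obtain ⟨s', rfl⟩ := g.surjective s
  exact (NodePtLib.fibre_nodal_iff f g s').1 ⟨(hfib s').1, (hfib s').2⟩

end Groth.Agent.S1594
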