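import Groth.Statements.S15941
import Groth.Agent.AWNLib.Basic
-- import your own Groth.Agent.* helpers here

set_option autoImplicit false
universe u
open HTop

namespace Groth.Agent.S15941

/-- An integrally closed integral domain is a seminormal ring, that is, whenever x^3 = y^2 there is
exactly one element a with x = a^2 and y = a^3. (The published statement is for a normal Noetherian
scheme and reduces at once to this affine integral case; the Noetherian hypothesis plays no role.) -/
theorem result (A : Type u) [CommRing A] [IsDomain A]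
    [IsIntegrallyClosed A] : HTop.IsSeminormalRing A := by
  intro x y hxy
  have hu : ∀ a b : A, a ^ 2 = b ^ 2 → a ^ 3 = b ^ 3 → a = b := fun a b => AWNLib.eq_of_sq_eq_of_cube_eq
  suffices ∃ a : A, x = a ^ 2 ∧ y = a ^ 3 by
    obtain ⟨a, ha⟩ := this
    exact ⟨a, ha, fun b hb => hu b a (hb.1.symm.trans ha.1) (hb.2.symm.trans ha.2)⟩
  by_cases hx : x = 0
  · subst hx
    rw [zero_pow three_ne_zero] at hxy
    exact ⟨0, (zero_pow two_ne_zero).symm, by rw [(pow_eq_zero_iff two_ne_zero).1 hxy.symm, zero_pow three_ne_zero]⟩
  let K := FractionRing A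
  have hi := IsFractionRing.injective A K
  have hx' : algebraMap A K x ≠ 0 := fun e => hx (hi (by rw [e, map_zero]))
  have hxy' : algebraMap A K x ^ 3 = algebraMap A K y ^ 2 := by rw [← map_pow, hxy, map_pow]
  let q : K := algebraMap A K y / algebraMap A K x
  have hq : q ^ 2 = algebraMap A K x := by
    rw [div_pow, div_eq_iff (pow_ne_zero 2 hx'), ← hxy']; ring
  obtain ⟨a, ha⟩ := IsIntegrallyClosed.algebraMap_eq_of_integral (R := A)
    (IsIntegral.of_pow two_pos (hq ▸ isIntegral_algebraMap) : IsIntegral A q)
  refine ⟨a, hi ?_, hi ?_⟩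
  · rw [map_pow, ha, hq]
  · rw [map_pow, ha, pow_succ, hq, mul_div_cancel₀ _ hx']

end Groth.Agent.S15941
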