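import Groth.Statements.S15942
import Groth.Agent.NeronMapLib.Basic
import Groth.Agent.BlowChartLib.RegStalk
import Groth.Agent.ASp.PropDescend
import Groth.Agent.AffLim.Integral
import Groth.Agent.RegLocal.Basic
-- import your own Groth.Agent.* helpers here

set_option autoImplicit false
universe u
open Neron

namespace Groth.Agent.S15942

set_option backward.isDefEq.respectTransparency false
open Groth.Agent
open CategoryTheory CategoryTheory.Limits AlgebraicGeometry TopologicalSpace

open CategoryTheory AlgebraicGeometry in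
/-- Let S be a Dedekind scheme (integral, Noetherian, separated, of dimension one, with regular local
rings), K its function field with generic point η : Spec K → S, and G → S a smooth separated
S-scheme. Suppose that for every closed point p of S the base change G_p = G ×_S Spec O_{S,p} is a
Néron lft-model of its generic fibre over Spec O_{S,p}: for every smooth scheme Y over Spec O_{S,p},
restricting to generic fibres is a bijection from morphisms Y → G_p over Spec O_{S,p} onto morphisms
of generic fibres over K. Then G is a Néron lft-model of its generic fibre over S: for every smooth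
S-scheme Y, restriction along η is a bijection from S-morphisms Y → G onto K-morphisms Y_η → G_η.
(The published statement is for a smooth separated group scheme; the group structure plays no part
in the property or in its proof and is not assumed here.) -/
theorem result
    {S : Scheme.{u}} [IsIntegral S] [IsNoetherian S] [S.IsSeparated]
    (hreg : ∀ s : S, IsRegularLocalRing (S.presheaf.stalk s)) (hdim : topologicalKrullDim S = 1)
    (G : Over S) [Smooth G.hom] [IsSeparated G.hom]
    (hloc : ∀ p : S, IsClosed ({p} : Set S) →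
      ∀ Y : Over (Spec (S.presheaf.stalk p)), Smooth Y.hom →
        Function.Bijective (fun g : Y ⟶ (Over.pullback (S.fromSpecStalk p)).obj G =>
          (Over.pullback (Spec.map (S.presheaf.stalkSpecializes (genericPoint_specializes p)))).map g)) :
    ∀ Y : Over S, Smooth Y.hom →
      Function.Bijective (fun g : Y ⟶ G => (Over.pullback (S.fromSpecStalk (genericPoint S))).map g) := by
  intro Y hY
  haveI := hY
  let η := genericPoint S
  let g0 := S.fromSpecStalk η
  refine (NeronMapLib.bijective_iff g0 Y G (IsPullback.of_hasPullback Y.hom g0)).2 fun w hw => ?_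
  haveI : IsLocallyNoetherian Y.left := LocallyOfFiniteType.isLocallyNoetherian Y.hom
  haveI : IsReduced Y.left := ASp.isReduced_of_smooth Y.hom
  haveI : Subsingleton ↥(Spec (S.presheaf.stalk η)) := inferInstanceAs (Subsingleton (PrimeSpectrum S.functionField))
  haveI : IsDominant g0 := ⟨fun z => closure_mono
    (Set.singleton_subset_iff.2 (show η ∈ Set.range g0 from ⟨IsLocalRing.closedPoint _, Scheme.fromSpecStalk_closedPoint⟩))
    (specializes_iff_mem_closure.1 (genericPoint_specializes z))⟩
  have hdom : ∀ {Z : Scheme.{u}} (pZ : Z ⟶ S), Smooth pZ → IsDominant (pullback.fst pZ g0) := by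
    intro Z pZ hZ
    haveI := hZ
    rw [isDominant_iff, DenseRange]
    show Dense (Set.range _)
    rw [Scheme.Pullback.range_fst]
    exact (IsDominant.denseRange (f := g0)).preimage pZ.isOpenMap
  -- local extensions
  have hloc' : ∀ y : Y.left, ∃ (V : Y.left.Opens) (v : (V : Scheme.{u}) ⟶ G.left), y ∈ V ∧
      v ≫ G.hom = V.ι ≫ Y.hom ∧ pullback.fst (V.ι ≫ Y.hom) g0 ≫ v =
        pullback.map (V.ι ≫ Y.hom) g0 Y.hom g0 V.ι (𝟙 _) (𝟙 _) (by simp) (by simp) ≫ w := by
    intro y
    obtain ⟨p, hp, hpc⟩ := IsClosed.exists_closed_singleton (isClosed_closure (s := ({Y.hom y} : Set S)))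
      ⟨Y.hom y, subset_closure rfl⟩
    have hsp : Y.hom y ⤳ p := specializes_iff_mem_closure.2 hp
    let fp := S.fromSpecStalk p
    let j := Spec.map (S.presheaf.stalkSpecializes (genericPoint_specializes p))
    have hj : j ≫ fp = g0 := Scheme.SpecMap_stalkSpecializes_fromSpecStalk _
    let Yp : Over (Spec (S.presheaf.stalk p)) := Over.mk (pullback.snd Y.hom fp)
    haveI : Smooth Yp.hom := inferInstanceAs (Smooth (pullback.snd Y.hom fp))
    let q : pullback Yp.hom j ⟶ pullback Y.hom g0 :=
      pullback.lift (pullback.fst Yp.hom j ≫ pullback.fst Y.hom fp) (pullback.snd Yp.hom j) (by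
        rw [Category.assoc, pullback.condition, ← hj, ← Category.assoc, ← Category.assoc]
        congr 1
        exact pullback.condition)
    let hin : pullback Yp.hom j ⟶ ((Over.pullback fp).obj G).left :=
      pullback.lift (q ≫ w) (pullback.snd Yp.hom j ≫ j) (by
        rw [Category.assoc, hw, pullback.lift_fst_assoc, Category.assoc, pullback.condition (f := Y.hom),
          ← Category.assoc]
        congr 1
        exact pullback.condition)
    obtain ⟨hp', ⟨hhp, hhpq⟩, -⟩ := (NeronMapLib.bijective_iff j Yp ((Over.pullback fp).obj G)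
      (IsPullback.of_hasPullback Yp.hom j)).1 (hloc p hpc Yp inferInstance) hin
      (by rw [pullback.condition]; exact pullback.lift_snd _ _ _)
    let ly : Spec (Y.left.presheaf.stalk y) ⟶ Yp.left :=
      pullback.lift (Y.left.fromSpecStalk y)
        (Spec.map (Y.hom.stalkMap y) ≫ Spec.map (S.presheaf.stalkSpecializes hsp)) (by
          rw [Category.assoc, Scheme.SpecMap_stalkSpecializes_fromSpecStalk, Scheme.SpecMap_stalkMap_fromSpecStalk])
    let φ : Spec (Y.left.presheaf.stalk y) ⟶ G.left := ly ≫ hp' ≫ pullback.fst G.hom fp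
    have hφ : φ ≫ G.hom = Y.left.fromSpecStalk y ≫ Y.hom := by
      simp only [φ, Category.assoc, pullback.condition]
      rw [show hp' ≫ pullback.snd G.hom fp ≫ fp = (hp' ≫ ((Over.pullback fp).obj G).hom) ≫ fp from
        (Category.assoc _ _ _).symm, hhp]
      show ly ≫ pullback.snd Y.hom fp ≫ fp = _
      rw [← pullback.condition, pullback.lift_fst_assoc]
    obtain ⟨V₀, hyV₀, v₀, hv₀, hv₀'⟩ := spread_out_of_isGermInjective' Y.hom G.hom φ hφ
    haveI := BlowChartLib.regular_stalk_of_smooth Y.hom y (hreg _)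
    haveI : IsDomain (Y.left.presheaf.stalk y) := RegLocal.isDomain _
    obtain ⟨W, hyW, hW⟩ := AffLim.exists_isIntegral_nhd (X := Y.left) y
    let V := V₀ ⊓ W
    have hyV : y ∈ V := ⟨hyV₀, hyW⟩
    haveI : Nonempty (V : Scheme.{u}) := ⟨⟨y, hyV⟩⟩
    haveI := hW
    haveI : IsIntegral (V : Scheme.{u}) := isIntegral_of_isOpenImmersion (Y.left.homOfLE (inf_le_right : V ≤ W))
    let v := Y.left.homOfLE (inf_le_left : V ≤ V₀) ≫ v₀
    refine ⟨V, v, hyV, by rw [Category.assoc, hv₀', ← Category.assoc, Y.left.homOfLE_ι], ?_⟩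
    -- the generic point of `V`
    let ξ : (V : Scheme.{u}) := genericPoint ↥V.toScheme
    have hξy : V.ι ξ ⤳ y := (genericPoint_specializes (α := ↥V.toScheme) ⟨y, hyV⟩).map V.ι.continuous
    haveI : Smooth (V.ι ≫ Y.hom) := inferInstance
    haveI := hdom (V.ι ≫ Y.hom) inferInstance
    have hξη : Y.hom (V.ι ξ) = η := by
      obtain ⟨z, -⟩ := (IsDominant.denseRange (f := pullback.fst (V.ι ≫ Y.hom) g0)).exists_mem_open isOpen_univ
        ⟨ξ, trivial⟩
      have h1 : (V.ι ≫ Y.hom) (pullback.fst (V.ι ≫ Y.hom) g0 z) = η := by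
        rw [← Scheme.Hom.comp_apply, pullback.condition, Scheme.Hom.comp_apply,
          Subsingleton.elim (pullback.snd (V.ι ≫ Y.hom) g0 z) (IsLocalRing.closedPoint _)]
        exact Scheme.fromSpecStalk_closedPoint
      have h2 : (V.ι ≫ Y.hom) ξ ⤳ η := h1 ▸ (genericPoint_specializes _).map (V.ι ≫ Y.hom).continuous
      exact (h2.antisymm (genericPoint_specializes _)).eq
    let m : Spec (Y.left.presheaf.stalk (V.ι ξ)) ⟶ Spec (S.presheaf.stalk η) :=
      Spec.map (Y.hom.stalkMap (V.ι ξ)) ≫ Spec.map (S.presheaf.stalkSpecializes (specializes_of_eq hξη))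
    have hm : m ≫ g0 = Y.left.fromSpecStalk (V.ι ξ) ≫ Y.hom := by
      rw [Category.assoc, Scheme.SpecMap_stalkSpecializes_fromSpecStalk, Scheme.SpecMap_stalkMap_fromSpecStalk]
    let l : Spec (Y.left.presheaf.stalk (V.ι ξ)) ⟶ pullback (V.ι ≫ Y.hom) g0 :=
      pullback.lift (V.fromSpecStalkOfMem (V.ι ξ) ξ.2) m
        (by rw [hm, ← Category.assoc, Scheme.Opens.fromSpecStalkOfMem_ι])
    haveI : IsDominant l := by
      refine ⟨fun z => ?_⟩
      have h1 : l (IsLocalRing.closedPoint _) ⤳ z := by
        refine (pullback.fst (V.ι ≫ Y.hom) g0).isEmbedding.isInducing.specializes_iff.1 ?_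
        have e : pullback.fst (V.ι ≫ Y.hom) g0 (l (IsLocalRing.closedPoint _)) = ξ := by
          rw [← Scheme.Hom.comp_apply, pullback.lift_fst]
          refine V.ι.isOpenEmbedding.injective ?_
          rw [← Scheme.Hom.comp_apply, Scheme.Opens.fromSpecStalkOfMem_ι, Scheme.fromSpecStalk_closedPoint]
        rw [e]
        exact genericPoint_specializes _
      exact closure_mono (Set.singleton_subset_iff.2 (Set.mem_range_self _)) h1.mem_closure
    haveI : IsReduced (pullback (V.ι ≫ Y.hom) g0) := by
      haveI : IsReduced (Spec (S.presheaf.stalk η)) := inferInstanceAs (IsReduced (Spec (CommRingCat.of S.functionField)))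
      exact ASp.isReduced_of_smooth (pullback.snd (V.ι ≫ Y.hom) g0)
    refine ext_of_isDominant_of_isSeparated G.hom ?_ l ?_
    · rw [Category.assoc, Category.assoc, Category.assoc, hv₀', ← Category.assoc (Y.left.homOfLE _),
        Y.left.homOfLE_ι, hw, pullback.lift_fst_assoc, Category.assoc]
    · -- both sides come from `Yp`
      let l' : Spec (Y.left.presheaf.stalk (V.ι ξ)) ⟶ Yp.left :=
        Spec.map (Y.left.presheaf.stalkSpecializes hξy) ≫ ly
      have hl'1 : l' ≫ pullback.fst Y.hom fp = Y.left.fromSpecStalk (V.ι ξ) := by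
        rw [Category.assoc, pullback.lift_fst, Scheme.SpecMap_stalkSpecializes_fromSpecStalk]
      have hl'2 : l' ≫ pullback.snd Y.hom fp = m ≫ j := by
        rw [← cancel_mono fp, Category.assoc m, hj, Category.assoc, ← pullback.condition (f := Y.hom),
          ← Category.assoc, hl'1, hm]
      let l'' : Spec (Y.left.presheaf.stalk (V.ι ξ)) ⟶ pullback Yp.hom j := pullback.lift l' m hl'2
      have hl''q : l'' ≫ q = l ≫ pullback.map (V.ι ≫ Y.hom) g0 Y.hom g0 V.ι (𝟙 _) (𝟙 _) (by simp) (by simp) := by
        apply pullback.hom_ext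
        · rw [Category.assoc, pullback.lift_fst, pullback.lift_fst_assoc, hl'1, Category.assoc, pullback.lift_fst,
            pullback.lift_fst_assoc, Scheme.Opens.fromSpecStalkOfMem_ι]
        · rw [Category.assoc, pullback.lift_snd, pullback.lift_snd, Category.assoc, pullback.lift_snd,
            Category.comp_id, pullback.lift_snd]
      have e1 : V.fromSpecStalkOfMem (V.ι ξ) ξ.2 ≫ Y.left.homOfLE (inf_le_left : V ≤ V₀) =
          Spec.map (Y.left.presheaf.stalkSpecializes hξy) ≫ V₀.fromSpecStalkOfMem y hyV₀ := by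
        rw [← cancel_mono V₀.ι, Category.assoc, Y.left.homOfLE_ι, Category.assoc,
          Scheme.Opens.fromSpecStalkOfMem_ι, Scheme.Opens.fromSpecStalkOfMem_ι,
          Scheme.SpecMap_stalkSpecializes_fromSpecStalk]
      have e2 : q ≫ w = pullback.fst Yp.hom j ≫ hp' ≫ pullback.fst G.hom fp := by
        rw [← Category.assoc, hhpq]
        exact (pullback.lift_fst _ _ _).symm
      rw [pullback.lift_fst_assoc, ← reassoc_of% hl''q, e2, pullback.lift_fst_assoc, ← Category.assoc,
        e1, Category.assoc, ← hv₀]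
      simp only [φ, l', Category.assoc]
  choose V v hyV hv hvw using hloc'
  let 𝒰 := Y.left.openCoverOfIsOpenCover V (eq_top_iff.2 fun t _ => Opens.mem_iSup.2 ⟨t, hyV t⟩)
  have hglue : ∀ i k, pullback.fst (𝒰.f i) (𝒰.f k) ≫ v i = pullback.snd (𝒰.f i) (𝒰.f k) ≫ v k := by
    intro i k
    let pZ : pullback (V i).ι (V k).ι ⟶ S := pullback.fst (V i).ι (V k).ι ≫ (V i).ι ≫ Y.hom
    have h2 : pullback.snd (V i).ι (V k).ι ≫ (V k).ι ≫ Y.hom = pZ := (pullback.condition_assoc _).symm
    haveI : Smooth pZ := inferInstanceAs (Smooth (_ ≫ _ ≫ _))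
    haveI := hdom pZ inferInstance
    haveI : IsReduced (pullback (V i).ι (V k).ι) := ASp.isReduced_of_smooth pZ
    show pullback.fst (V i).ι (V k).ι ≫ v i = pullback.snd (V i).ι (V k).ι ≫ v k
    refine ext_of_isDominant_of_isSeparated G.hom ?_ (pullback.fst pZ g0) ?_
    · show (pullback.fst (V i).ι (V k).ι ≫ v i) ≫ G.hom = (pullback.snd (V i).ι (V k).ι ≫ v k) ≫ G.hom
      rw [Category.assoc, hv, Category.assoc, hv, h2]
    show pullback.fst pZ g0 ≫ pullback.fst (V i).ι (V k).ι ≫ v i =
      pullback.fst pZ g0 ≫ pullback.snd (V i).ι (V k).ι ≫ v k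
    let a : pullback pZ g0 ⟶ pullback ((V i).ι ≫ Y.hom) g0 :=
      pullback.lift (pullback.fst _ _ ≫ pullback.fst (V i).ι (V k).ι) (pullback.snd _ _)
        (by rw [Category.assoc]; exact pullback.condition)
    let b : pullback pZ g0 ⟶ pullback ((V k).ι ≫ Y.hom) g0 :=
      pullback.lift (pullback.fst _ _ ≫ pullback.snd (V i).ι (V k).ι) (pullback.snd _ _)
        (by rw [Category.assoc, h2]; exact pullback.condition)
    have ha : a ≫ pullback.fst _ _ = pullback.fst _ _ ≫ pullback.fst (V i).ι (V k).ι := pullback.lift_fst _ _ _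
    have hb : b ≫ pullback.fst _ _ = pullback.fst _ _ ≫ pullback.snd (V i).ι (V k).ι := pullback.lift_fst _ _ _
    rw [← reassoc_of% ha, ← reassoc_of% hb, hvw, hvw, ← Category.assoc, ← Category.assoc]
    congr 1
    apply pullback.hom_ext <;> simp [a, b, pullback.condition]
  have hG : ∀ i, 𝒰.f i ≫ 𝒰.glueMorphisms v hglue = v i := fun i => 𝒰.ι_glueMorphisms v hglue i
  have hwY : 𝒰.glueMorphisms v hglue ≫ G.hom = Y.hom := 𝒰.hom_ext _ _ fun i => by
    rw [← Category.assoc, hG]; exact hv i
  have hGu : pullback.fst Y.hom g0 ≫ 𝒰.glueMorphisms v hglue = w := by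
    refine Scheme.Cover.hom_ext (𝒰.pullback₁ (pullback.fst Y.hom g0)) _ _ fun i => ?_
    let q : pullback (pullback.fst Y.hom g0) (V i).ι ⟶ pullback ((V i).ι ≫ Y.hom) g0 :=
      pullback.lift (pullback.snd _ _) (pullback.fst _ _ ≫ pullback.snd _ _) (by
        rw [← pullback.condition_assoc, Category.assoc, pullback.condition])
    have hq : q ≫ pullback.map _ _ _ _ (V i).ι (𝟙 _) (𝟙 _) (by simp) (by simp) =
        pullback.fst (pullback.fst Y.hom g0) (V i).ι := by
      apply pullback.hom_ext <;> simp [q, pullback.condition]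
    show pullback.fst (pullback.fst Y.hom g0) (V i).ι ≫ _ = pullback.fst (pullback.fst Y.hom g0) (V i).ι ≫ w
    rw [← reassoc_of% hq, ← reassoc_of% hq, ← hvw, pullback.lift_fst_assoc, Category.assoc]
    exact congrArg (fun m => q ≫ pullback.fst _ _ ≫ m) (hG i)
  haveI := hdom Y.hom inferInstance
  exact ⟨𝒰.glueMorphisms v hglue, ⟨hwY, hGu⟩, fun g' hg' =>
    ext_of_isDominant_of_isSeparated G.hom (hg'.1.trans hwY.symm) (pullback.fst Y.hom g0)
      (hg'.2.trans hGu.symm)⟩

end Groth.Agent.S15942
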