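import Groth.Statements.S15944
import Groth.Agent.FerrandPush.Finite

set_option autoImplicit false
set_option linter.style.haveILetI false
universe u
open Pinch

namespace Groth.Agent.S15944

open CategoryTheory AlgebraicGeometry in
/-- Let Y be a scheme, f : X → Y a morphism, t : T → Y a scheme affine over Y, ξ : Z → T a morphism with
Z affine over Y via ξ followed by t, and ι : Z → X a closed immersion over Y; assume every point of
Y has an affine open neighbourhood U together with an affine open V of X inside the preimage of U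
containing the image under ι of the part of Z over U; assume moreover that Y is locally Noetherian,
f and t are of finite type and ξ is finite, and let X → P ← T be a push-out of ι and ξ in the
category of schemes, with p : P → Y the induced morphism. Then p is of finite type, and if X and T
are proper over Y then so is P. -/
theorem result {X Y T Z : Scheme.{u}} (f : X ⟶ Y) (t : T ⟶ Y) (ξ : Z ⟶ T) (ι : Z ⟶ X)
    [IsAffineHom t] [IsAffineHom (ξ ≫ t)] [IsClosedImmersion ι] (hsq : ι ≫ f = ξ ≫ t)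
    (hstd : ∀ y : Y, ∃ U : Y.Opens, IsAffineOpen U ∧ y ∈ U ∧ ∃ V : X.Opens, IsAffineOpen V ∧
      V ≤ f ⁻¹ᵁ U ∧ ∀ z : Z, (ξ ≫ t).base z ∈ U → ι.base z ∈ V)
    [IsLocallyNoetherian Y] [LocallyOfFiniteType f] [QuasiCompact f] [LocallyOfFiniteType t] [QuasiCompact t]
    [IsFinite ξ] {P : Scheme.{u}} (a : X ⟶ P) (b : T ⟶ P) (hP : IsPushout ι ξ a b)
    (p : P ⟶ Y) (hap : a ≫ p = f) (hbp : b ≫ p = t) :
    (LocallyOfFiniteType p ∧ QuasiCompact p) ∧ (IsProper f → IsProper t → IsProper p) := by
  haveI : IsAffineHom ξ := IsAffineHom.of_comp ξ t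
  have hT : ∀ p : T, ∃ α : FerrandPush.Chart ι ξ, p ∈ α.V := by
    intro p
    obtain ⟨U, hU, hyU, V, hV, hVU, hz⟩ := hstd (t p)
    refine ⟨⟨(⟨V, hV⟩, ⟨t ⁻¹ᵁ U, hU.preimage t⟩), ?_⟩, hyU⟩
    refine TopologicalSpace.Opens.ext (Set.ext fun z => ⟨fun h => ?_, fun h => hz z h⟩)
    show (ξ ≫ t) z ∈ U
    rw [← hsq]
    exact hVU h
  have hX : ∀ x : X, ∃ α : FerrandPush.Chart ι ξ, x ∈ α.U := by
    intro x
    by_cases hx : x ∈ Set.range ι
    · obtain ⟨z, rfl⟩ := hx
      obtain ⟨α, hα⟩ := hT (ξ z)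
      exact ⟨α, (SetLike.ext_iff.mp α.2 z).mpr hα⟩
    · exact FerrandPush.exists_chart_of_notMem ι ξ hx
  obtain ⟨hb, -, hsurj, hQ⟩ := FerrandPush.props_of_charts hX hT hP
  haveI hb' := hb
  haveI : IsFinite a := hQ @IsFinite FerrandPush.isFinite_iA'
  subst hap hbp
  haveI := FerrandPush.quasiCompact_of_jointly_surjective hsurj p
  haveI := FerrandPush.locallyOfFiniteType_of_isPushout hP p
  refine ⟨⟨inferInstance, inferInstance⟩, fun hf ht => ?_⟩
  haveI := FerrandPush.universallyClosed_of_jointly_surjective hsurj p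
  let Aa : Limits.pullback (a ≫ p) (a ≫ p) ⟶ Limits.pullback p p :=
    Limits.pullback.map _ _ _ _ a a (𝟙 Y) (Category.comp_id _) (Category.comp_id _)
  let Bb : Limits.pullback (b ≫ p) (b ≫ p) ⟶ Limits.pullback p p :=
    Limits.pullback.map _ _ _ _ b b (𝟙 Y) (Category.comp_id _) (Category.comp_id _)
  have eA : Limits.pullback.diagonal (a ≫ p) ≫ Aa = a ≫ Limits.pullback.diagonal p := by
    apply Limits.pullback.hom_ext <;> simp only [Aa, Category.assoc, Limits.pullback.lift_fst, Limits.pullback.lift_snd, Limits.pullback.diagonal_fst, Limits.pullback.diagonal_snd, Limits.pullback.diagonal_fst_assoc, Limits.pullback.diagonal_snd_assoc, Category.comp_id]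
  have eB : Limits.pullback.diagonal (b ≫ p) ≫ Bb = b ≫ Limits.pullback.diagonal p := by
    apply Limits.pullback.hom_ext <;> simp only [Bb, Category.assoc, Limits.pullback.lift_fst, Limits.pullback.lift_snd, Limits.pullback.diagonal_fst, Limits.pullback.diagonal_snd, Limits.pullback.diagonal_fst_assoc, Limits.pullback.diagonal_snd_assoc, Category.comp_id]
  haveI hA : IsIntegralHom Aa :=
    MorphismProperty.pullbackMap (P := @IsIntegralHom) inferInstance inferInstance rfl rfl
  haveI hB : IsIntegralHom Bb :=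
    MorphismProperty.pullbackMap (P := @IsIntegralHom) inferInstance inferInstance rfl rfl
  have hrange : Set.range (Limits.pullback.diagonal p) =
      Aa '' Set.range (Limits.pullback.diagonal (a ≫ p)) ∪ Bb '' Set.range (Limits.pullback.diagonal (b ≫ p)) := by
    ext z
    constructor
    · rintro ⟨w, rfl⟩
      rcases hsurj w with ⟨x, rfl⟩ | ⟨y, rfl⟩
      · exact Or.inl ⟨_, ⟨x, rfl⟩, by rw [← Scheme.Hom.comp_apply, eA]; rfl⟩
      · exact Or.inr ⟨_, ⟨y, rfl⟩, by rw [← Scheme.Hom.comp_apply, eB]; rfl⟩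
    · rintro (⟨_, ⟨x, rfl⟩, rfl⟩ | ⟨_, ⟨y, rfl⟩, rfl⟩)
      · exact ⟨a x, by rw [← Scheme.Hom.comp_apply, ← eA]; rfl⟩
      · exact ⟨b y, by rw [← Scheme.Hom.comp_apply, ← eB]; rfl⟩
  haveI : IsSeparated p := ⟨IsClosedImmersion.of_isPreimmersion _ (by
    rw [hrange]
    exact (Aa.isClosedMap _ (Limits.pullback.diagonal (a ≫ p)).isClosedEmbedding.isClosed_range).union
      (Bb.isClosedMap _ (Limits.pullback.diagonal (b ≫ p)).isClosedEmbedding.isClosed_range))⟩
  exact IsProper.mk

end Groth.Agent.S15944
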