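import Groth.Statements.S15946
import Groth.Agent.PrimePushLib.Main
-- import your own Groth.Agent.* helpers here

set_option autoImplicit false
universe u
open Curves

namespace Groth.Agent.S15946

open CategoryTheory AlgebraicGeometry in
/-- Let κ be a field, X and X' reduced schemes of finite type over κ whose irreducible components all
have dimension one, and β : X → X' a finite morphism over κ which is scheme-theoretically dominant
and an isomorphism over an open subset of X' with finite complement. If β is not an isomorphism,
then β is a finite composite of morphisms X = X_0 → X_1 → ⋯ → X_n = X' each of which is obtained by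
a push-out along a prime algebra: for each step there are a point x of X_{i+1}, a commutative
κ(x)-algebra A whose only κ(x)-subalgebras are the image of κ(x) and A (these two being different),
and a closed immersion Spec A → X_i such that X_{i+1} is the push-out, in the category of schemes,
of X_i and Spec κ(x) along Spec A. -/
theorem result {κ : Type u} [Field κ] {X X' : Scheme.{u}}
    (g : X ⟶ Spec (CommRingCat.of κ)) [LocallyOfFiniteType g] [QuasiCompact g] [IsReduced X]
    (hdimX : ∀ W ∈ irreducibleComponents (X : Type u), topologicalKrullDim W = 1)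
    (g' : X' ⟶ Spec (CommRingCat.of κ)) [LocallyOfFiniteType g'] [QuasiCompact g'] [IsReduced X']
    (hdimX' : ∀ W ∈ irreducibleComponents (X' : Type u), topologicalKrullDim W = 1)
    (β : X ⟶ X') [IsFinite β] (hβ : β ≫ g' = g) [IsSchemeTheoreticallyDominant β]
    (hiso : ∃ U : X'.Opens, (Uᶜ : Set X').Finite ∧ IsIso (β ∣_ U)) (hne : ¬ IsIso β) :
    ∃ (n : ℕ) (F : ComposableArrows Scheme.{u} n) (e : F.left ≅ X) (e' : F.right ≅ X'),
      e.inv ≫ F.hom ≫ e'.hom = β ∧
      ∀ i : Fin n, ∃ (x : F.obj i.succ) (A : Type u) (_ : CommRing A) (_ : Algebra ((F.obj i.succ).residueField x) A)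
        (_ : IsSimpleOrder (Subalgebra ((F.obj i.succ).residueField x) A))
        (j : Spec (CommRingCat.of A) ⟶ F.obj i.castSucc), IsClosedImmersion j ∧
        IsPushout j (Spec.map (CommRingCat.ofHom (algebraMap ((F.obj i.succ).residueField x) A)))
          (F.map (homOfLE (Fin.castSucc_lt_succ (i := i)).le)) ((F.obj i.succ).fromSpecResidueField x) := by
  haveI : JacobsonSpace X' := LocallyOfFiniteType.jacobsonSpace g'
  haveI : IsLocallyNoetherian X' := LocallyOfFiniteType.isLocallyNoetherian g'
  haveI : CompactSpace X' := QuasiCompact.compactSpace_of_compactSpace g'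
  obtain ⟨U, hU, hUiso⟩ := hiso
  haveI := hUiso
  obtain ⟨n, F, hl, e', hβ', hF⟩ :=
    Groth.Agent.PrimePushLib.hasChain β (Groth.Agent.PrimePushLib.good_of_iso_off_finite β U hU)
  exact ⟨n, F, eqToIso hl, e', by simpa using hβ', hF⟩

end Groth.Agent.S15946
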