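import Groth.Statements.S15948
import Groth.Agent.FerrandPush.BaseChange
import Groth.Agent.FinBirLib.Smooth
import Groth.Agent.PurityLib.Normal
import Groth.Agent.RegLocal.Basic
import Groth.Agent.Codim1Iso.Scheme
import Groth.Agent.AWNLib.Basic
import Groth.Agent.ASp.LiftDim
import Groth.Agent.FibreComp.DimSpace

set_option autoImplicit false
universe u
open Curves

namespace Groth.Agent.S15948

open CategoryTheory CategoryTheory.Limits AlgebraicGeometry

set_option backward.isDefEq.respectTransparency false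
set_option backward.defeqAttrib.useBackward true
set_option linter.style.haveILetI false

set_option maxHeartbeats 1000000
set_option linter.unusedSectionVars false
open TopologicalSpace Opposite
open scoped TensorProduct nonZeroDivisors

section Algebra

variable {A B : Type u} [CommRing A] [CommRing B] [Algebra A B]

variable (A B) in
/-- The conductor of `A` in `B`, inside `B`. -/
def condB : Ideal B where
  carrier := {x | ∀ b : B, x * b ∈ Set.range (algebraMap A B)}
  add_mem' := by
    rintro x y hx hy b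
    obtain ⟨a, ha⟩ := hx b
    obtain ⟨a', ha'⟩ := hy b
    exact ⟨a + a', by rw [map_add, ha, ha', add_mul]⟩
  zero_mem' := fun b => ⟨0, by simp⟩
  smul_mem' := by
    intro c x hx b
    obtain ⟨a, ha⟩ := hx (c * b)
    exact ⟨a, by rw [ha, smul_eq_mul]; ring⟩

theorem condB_isRadical [IsReduced B] (hinj : Function.Injective (algebraMap A B))
    (hA : HTop.IsSeminormalRing A) : (condB A B).IsRadical := by
  have h2 : ∀ x : B, x ^ 2 ∈ condB A B → x ∈ condB A B := by
    intro x hx b
    obtain ⟨a₂, ha₂⟩ := hx (b ^ 2)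
    obtain ⟨a₃, ha₃⟩ := hx (x * b ^ 3)
    obtain ⟨a, ⟨ha, ha'⟩, -⟩ := hA a₂ a₃ (hinj (by rw [map_pow, map_pow, ha₂, ha₃]; ring))
    refine ⟨a, AWNLib.eq_of_sq_eq_of_cube_eq ?_ ?_⟩
    · rw [← map_pow, ← ha, ha₂]; ring
    · rw [← map_pow, ← ha', ha₃]; ring
  rintro x ⟨n, hn⟩
  induction n using Nat.strong_induction_on generalizing x with
  | _ n ih =>
    rcases n with _ | _ | n
    · rw [pow_zero] at hn
      exact (Ideal.eq_top_iff_one _).2 hn ▸ Submodule.mem_top
    · simpa using hn
    · refine ih (n + 1) (by omega) (h2 _ ?_)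
      rw [← pow_mul, show (n + 1) * 2 = n + 2 + n by ring, pow_add]
      exact Ideal.mul_mem_right _ _ hn

theorem exists_eq_of_mem_condB {x : B} (hx : x ∈ condB A B) :
    ∃ a, algebraMap A B a = x ∧ a ∈ (condB A B).comap (algebraMap A B) := by
  obtain ⟨a, ha⟩ := hx 1
  rw [mul_one] at ha
  exact ⟨a, ha, by rw [Ideal.mem_comap, ha]; exact hx⟩

/-- A single denominator suffices. -/
theorem not_le_cond [Module.Finite A B] (p : Ideal A) [hp : p.IsPrime]
    (h : ∀ b : B, ∃ t ∉ p, algebraMap A B t * b ∈ Set.range (algebraMap A B)) :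
    ¬ (condB A B).comap (algebraMap A B) ≤ p := by
  classical
  obtain ⟨s, hspan⟩ := (Module.Finite.fg_top : (⊤ : Submodule A B).FG)
  choose t ht a ha using h
  let T := ∏ b ∈ s, t b
  have hT : T ∉ p := by
    intro h1
    obtain ⟨b, -, hb⟩ := (hp.prod_mem_iff).1 h1
    exact ht b hb
  refine fun hle => hT (hle ?_)
  intro b
  show algebraMap A B T * b ∈ _
  have hb : b ∈ Submodule.span A (s : Set B) := hspan ▸ Submodule.mem_top
  induction hb using Submodule.span_induction with
  | mem x hx =>
    refine ⟨(∏ b ∈ s.erase x, t b) * a x, ?_⟩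
    rw [map_mul, ha, ← mul_assoc, ← map_mul, Finset.prod_erase_mul _ _ (Finset.mem_coe.1 hx)]
  | zero => exact ⟨0, by simp⟩
  | add x y _ _ hx hy =>
    obtain ⟨a, ha⟩ := hx
    obtain ⟨a', ha'⟩ := hy
    exact ⟨a + a', by rw [map_add, ha, ha', mul_add]⟩
  | smul r x _ hx =>
    obtain ⟨a, ha⟩ := hx
    exact ⟨r * a, by rw [map_mul, ha, Algebra.smul_def]; ring⟩

/-- A prime with a single prime above it and surjective local map is outside the conductor. -/
theorem not_le_cond_of_surjective [Module.Finite A B] (p : Ideal A) [p.IsPrime] (q : Ideal B) [q.IsPrime]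
    (huniq : ∀ Q : Ideal B, Q.IsPrime → Q.comap (algebraMap A B) = p → Q = q)
    (hsurj : ∀ b : B, ∃ a s : A, s ∉ p ∧ ∃ u ∉ q, u * (algebraMap A B s * b - algebraMap A B a) = 0) :
    ¬ (condB A B).comap (algebraMap A B) ≤ p := by
  refine not_le_cond p fun b => ?_
  obtain ⟨a, s, hs, u, hu, h⟩ := hsurj b
  let y := algebraMap A B s * b - algebraMap A B a
  let Ann : Ideal B := Ideal.span {z | z * y = 0}
  have hann : ∀ z ∈ Ann, z * y = 0 := by
    intro z hz
    induction hz using Submodule.span_induction with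
    | mem x hx => exact hx
    | zero => exact zero_mul y
    | add x x' _ _ hx hx' => rw [add_mul, hx, hx', add_zero]
    | smul c x _ hx => rw [smul_eq_mul, mul_assoc, hx, mul_zero]
  have hnle : ¬ Ann.comap (algebraMap A B) ≤ p := by
    intro hle
    obtain ⟨Q, hQ, hQp, hQc⟩ := Ideal.exists_ideal_over_prime_of_isIntegral p Ann hle
    rw [huniq Q hQp hQc] at hQ
    exact hu (hQ (Ideal.subset_span h))
  obtain ⟨t, ht, htp⟩ := SetLike.not_le_iff_exists.1 hnle
  refine ⟨t * s, fun h1 => (Ideal.IsPrime.mem_or_mem ‹p.IsPrime› h1).elim htp hs, t * a, ?_⟩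
  have h2 := hann _ ht
  rw [map_mul, map_mul]
  linear_combination -h2

/-- A fibre ring without nilpotents, from a denominator criterion. -/
theorem isReduced_tensor {A B K : Type u} [CommRing A] [CommRing B] [Field K] [Algebra A B] [Algebra A K]
    (p : Ideal A) [p.IsPrime] (hp : ∀ a, algebraMap A K a = 0 ↔ a ∈ p)
    (hden : ∀ z : K, ∃ a s : A, s ∉ p ∧ z * algebraMap A K s = algebraMap A K a)
    (hred : ∀ (b : B) (n : ℕ), b ^ n ∈ p.map (algebraMap A B) → ∃ t ∉ p, algebraMap A B t * b ∈ p.map (algebraMap A B)) :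
    _root_.IsReduced (B ⊗[A] K) := by
  let I := p.map (algebraMap A B)
  let M : Submonoid (B ⧸ I) := p.primeCompl.map ((Ideal.Quotient.mk I).comp (algebraMap A B))
  let R' := Localization M
  let f : A →+* R' := ((algebraMap (B ⧸ I) R').comp (Ideal.Quotient.mk I)).comp (algebraMap A B)
  have hf : ∀ a, algebraMap A R' a = f a := fun a => IsScalarTower.algebraMap_apply A (B ⧸ I) R' a
  letI : Algebra (A ⧸ p) K := (Ideal.Quotient.lift p (algebraMap A K) fun a ha => (hp a).2 ha).toAlgebra
  haveI : FaithfulSMul (A ⧸ p) K := (faithfulSMul_iff_algebraMap_injective _ _).2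
    (by
      refine (injective_iff_map_eq_zero _).2 fun z hz => ?_
      obtain ⟨a, rfl⟩ := Ideal.Quotient.mk_surjective z
      exact Ideal.Quotient.eq_zero_iff_mem.2 ((hp a).1 hz))
  haveI : IsFractionRing (A ⧸ p) K := IsFractionRing.of_field _ _ fun z => by
    obtain ⟨a, s, hs, h⟩ := hden z
    refine ⟨Ideal.Quotient.mk p a, Ideal.Quotient.mk p s, ?_⟩
    show z = algebraMap A K a / algebraMap A K s
    rw [eq_div_iff fun h0 => hs ((hp s).1 h0), h]
  let f' : A ⧸ p →+* R' := Ideal.Quotient.lift p f fun a ha => by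
    show algebraMap (B ⧸ I) R' (Ideal.Quotient.mk I (algebraMap A B a)) = 0
    rw [Ideal.Quotient.eq_zero_iff_mem.2 (Ideal.mem_map_of_mem _ ha), map_zero]
  let L : K →+* R' := IsLocalization.lift (M := (A ⧸ p)⁰) (g := f') fun y => by
    obtain ⟨a, ha⟩ := Ideal.Quotient.mk_surjective (y : A ⧸ p)
    have hap : a ∉ p := fun h => nonZeroDivisors.ne_zero y.2 (by rw [← ha]; exact Ideal.Quotient.eq_zero_iff_mem.2 h)
    rw [← ha]
    exact IsLocalization.map_units R' (⟨_, a, hap, rfl⟩ : M)
  let L' : K →ₐ[A] R' := { L with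
    commutes' := fun a => by
      show L (algebraMap (A ⧸ p) K (Ideal.Quotient.mk p a)) = algebraMap A R' a
      rw [hf]
      rw [IsLocalization.lift_eq]
      rfl }
  let e : B →ₐ[A] R' := { (algebraMap (B ⧸ I) R').comp (Ideal.Quotient.mk I) with commutes' := fun a => (hf a).symm }
  let Φ : B ⊗[A] K →ₐ[A] R' := Algebra.TensorProduct.lift e L' fun _ _ => Commute.all _ _
  have hker : ∀ b : B, b ⊗ₜ[A] (1 : K) = 0 → ∃ t ∉ p, algebraMap A B t * b ∈ I := by
    intro b hb
    have h1 := congrArg Φ hb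
    rw [map_zero] at h1
    simp only [Φ, Algebra.TensorProduct.lift_tmul, map_one, mul_one] at h1
    obtain ⟨⟨_, t, ht, rfl⟩, h2⟩ := (IsLocalization.map_eq_zero_iff M R' _).1 h1
    refine ⟨t, ht, Ideal.Quotient.eq_zero_iff_mem.1 ?_⟩
    rw [map_mul]
    exact h2
  have hunit : ∀ s ∉ p, IsUnit ((1 : B) ⊗ₜ[A] algebraMap A K s) := fun s hs =>
    (IsUnit.mk0 _ fun h => hs ((hp s).1 h)).map (Algebra.TensorProduct.includeRight : K →ₐ[A] B ⊗[A] K)
  have hzero : ∀ (b : B) (t : A), t ∉ p → algebraMap A B t * b ∈ I → b ⊗ₜ[A] (1 : K) = 0 := by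
    intro b t ht hb
    have h0 : ∀ w ∈ I, w ⊗ₜ[A] (1 : K) = 0 := by
      intro w hw
      induction hw using Submodule.span_induction with
      | mem x hx =>
        obtain ⟨a, ha, rfl⟩ := hx
        rw [Algebra.algebraMap_eq_smul_one, TensorProduct.smul_tmul, ← Algebra.algebraMap_eq_smul_one, (hp a).2 ha,
          TensorProduct.tmul_zero]
      | zero => exact TensorProduct.zero_tmul _ _
      | add x y _ _ hx hy => rw [TensorProduct.add_tmul, hx, hy, add_zero]
      | smul r x _ hx =>
        rw [smul_eq_mul, show (r * x) ⊗ₜ[A] (1 : K) = (r ⊗ₜ[A] (1 : K)) * (x ⊗ₜ[A] (1 : K)) by simp, hx, mul_zero]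
    refine (hunit t ht).mul_left_eq_zero.1 ?_
    rw [Algebra.TensorProduct.tmul_mul_tmul, mul_one, one_mul, Algebra.algebraMap_eq_smul_one, ← TensorProduct.smul_tmul,
      Algebra.smul_def]
    exact h0 _ hb
  refine ⟨fun z hnil => ?_⟩
  obtain ⟨n, hn⟩ := hnil
  obtain ⟨b, s, hs, hz⟩ : ∃ (b : B) (s : A), s ∉ p ∧ z * ((1 : B) ⊗ₜ[A] algebraMap A K s) = b ⊗ₜ[A] (1 : K) := by
    clear hn
    induction z using TensorProduct.induction_on with
    | zero => exact ⟨0, 1, fun h => ‹p.IsPrime›.ne_top ((Ideal.eq_top_iff_one _).2 h), by simp⟩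
    | tmul b k =>
      obtain ⟨a, s, hs, h⟩ := hden k
      refine ⟨a • b, s, hs, ?_⟩
      rw [Algebra.TensorProduct.tmul_mul_tmul, mul_one, h, TensorProduct.smul_tmul, Algebra.algebraMap_eq_smul_one]
    | add x y hx hy =>
      obtain ⟨b, s, hs, hx⟩ := hx
      obtain ⟨b', s', hs', hy⟩ := hy
      refine ⟨s' • b + s • b', s * s', fun h => (Ideal.IsPrime.mem_or_mem ‹p.IsPrime› h).elim hs hs', ?_⟩
      have e1 : (1 : B) ⊗ₜ[A] algebraMap A K (s * s') = ((1 : B) ⊗ₜ[A] algebraMap A K s) * ((1 : B) ⊗ₜ[A] algebraMap A K s') := by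
        rw [Algebra.TensorProduct.tmul_mul_tmul, one_mul, map_mul]
      rw [add_mul, e1, ← mul_assoc, hx, mul_comm ((1 : B) ⊗ₜ[A] algebraMap A K s), ← mul_assoc, hy,
        Algebra.TensorProduct.tmul_mul_tmul, Algebra.TensorProduct.tmul_mul_tmul, mul_one, mul_one, one_mul, one_mul,
        TensorProduct.add_tmul, TensorProduct.smul_tmul, TensorProduct.smul_tmul, Algebra.algebraMap_eq_smul_one,
        Algebra.algebraMap_eq_smul_one]
  have h1 : (b ^ n) ⊗ₜ[A] (1 : K) = 0 := by
    have := congrArg (· ^ n) hz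
    simp only [mul_pow, hn, zero_mul, Algebra.TensorProduct.tmul_pow, one_pow] at this
    exact this.symm
  obtain ⟨t, ht, htb⟩ := hker _ h1
  have h2 : (algebraMap A B t * b) ^ (n + 1) ∈ I := by
    rw [show (algebraMap A B t * b) ^ (n + 1) = algebraMap A B t ^ n * b * (algebraMap A B t * b ^ n) by ring]
    exact Ideal.mul_mem_left _ _ htb
  obtain ⟨t', ht', htb'⟩ := hred _ _ h2
  have h3 := hzero b (t' * t) (fun h => (Ideal.IsPrime.mem_or_mem ‹p.IsPrime› h).elim ht' ht)
    (by rw [map_mul, mul_assoc]; exact htb')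
  rw [h3] at hz
  exact (hunit s hs).mul_left_eq_zero.1 hz

end Algebra

attribute [local instance 10] specializationOrder in
/-- The dimension of a space covered by closed sets. -/
theorem dim_le_of_closed_cover {X : Type u} [TopologicalSpace X] [QuasiSober X] [T0Space X] {N : WithBot ℕ∞}
    (hC : ∀ W ∈ irreducibleComponents X, topologicalKrullDim W ≤ N) : topologicalKrullDim X ≤ N := by
  rw [Groth.Agent.ASp.topologicalKrullDim_eq_krullDim, Order.krullDim]
  refine iSup_le fun p => ?_
  let W := irreducibleComponent p.last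
  have hW : IsClosed W := isClosed_irreducibleComponent
  have hd := hC W (irreducibleComponent_mem_irreducibleComponents _)
  have : QuasiSober W := hW.isClosedEmbedding_subtypeVal.quasiSober
  rw [Groth.Agent.ASp.topologicalKrullDim_eq_krullDim] at hd
  have hmem : ∀ i, p i ∈ W := fun i => by
    have hs : p.last ⤳ p i := p.monotone (Fin.le_last i)
    exact hs.mem_closed hW mem_irreducibleComponent
  let q : @LTSeries W (specializationOrder W).toPreorder :=
    @LTSeries.mk W (specializationOrder W).toPreorder p.length (fun i => ⟨p i, hmem i⟩) (fun i i' hij => by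
      have h1 : p i < p i' := p.strictMono hij
      refine @lt_of_le_not_ge W (specializationOrder W).toPreorder _ _
        ((subtype_specializes_iff _ _).2 h1.le) (fun h2 => h1.not_ge ?_)
      exact (subtype_specializes_iff _ _).1 h2)
  exact le_trans (@Order.LTSeries.length_le_krullDim W (specializationOrder W).toPreorder q) hd

/-- A dense open contains the minimal primes. -/
theorem minimal_mem_of_dense {A : Type u} [CommRing A] [IsNoetherianRing A] (U : Set (PrimeSpectrum A))
    (hU : IsOpen U) (hd : Dense U) (p : PrimeSpectrum A) (hp : p.asIdeal ∈ minimalPrimes A) : p ∈ U := by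
  classical
  have hfin : (minimalPrimes A).Finite := minimalPrimes.finite_of_isNoetherianRing A
  let S := hfin.toFinset.erase p.asIdeal
  have h1 : ¬ (⨅ q ∈ S, q) ≤ p.asIdeal := by
    intro h
    rw [← Finset.inf_eq_iInf] at h
    obtain ⟨q, hq, hqp⟩ := (Ideal.IsPrime.inf_le' p.2).1 h
    obtain ⟨hne, hqm⟩ := Finset.mem_erase.1 hq
    exact hne (le_antisymm hqp (hp.2 ⟨(hfin.mem_toFinset.1 hqm).1.1, bot_le⟩ hqp))
  obtain ⟨g, hg, hgp⟩ := SetLike.not_le_iff_exists.1 h1
  obtain ⟨z, hzg, hzU⟩ := hd.inter_open_nonempty _ (PrimeSpectrum.basicOpen g).isOpen ⟨p, hgp⟩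
  obtain ⟨q, hq, hqz⟩ := Ideal.exists_minimalPrimes_le (bot_le : ⊥ ≤ z.asIdeal)
  have hqp : q = p.asIdeal := by
    by_contra hne
    refine hzg (hqz ?_)
    have := Submodule.mem_iInf _ |>.1 hg q
    exact Submodule.mem_iInf _ |>.1 this (Finset.mem_erase.2 ⟨hne, hfin.mem_toFinset.2 hq⟩)
  exact ((PrimeSpectrum.le_iff_specializes p z).1 (show p.asIdeal ≤ z.asIdeal from hqp ▸ hqz)).mem_open hU hzU

/-- Stalks at points of an isomorphism locus. -/
theorem bijective_stalkMap {X Y : Scheme.{u}} (f : X ⟶ Y) (U : Y.Opens) [IsIso (f ∣_ U)] (y : X) (hy : f y ∈ U) :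
    Function.Bijective (f.stalkMap y) := by
  haveI : IsOpenImmersion ((f ⁻¹ᵁ U).ι ≫ f) := by rw [← morphismRestrict_ι]; infer_instance
  let y' : (f ⁻¹ᵁ U).toScheme := ⟨y, hy⟩
  have h := Scheme.Hom.stalkMap_comp (f ⁻¹ᵁ U).ι f y'
  have h1 : IsIso (((f ⁻¹ᵁ U).ι ≫ f).stalkMap y') := inferInstance
  rw [h] at h1
  haveI := h1
  haveI : IsIso (f.stalkMap ((f ⁻¹ᵁ U).ι y')) := IsIso.of_isIso_comp_right _ ((f ⁻¹ᵁ U).ι.stalkMap y')
  exact ConcreteCategory.bijective_of_isIso (f.stalkMap ((f ⁻¹ᵁ U).ι y'))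


open CategoryTheory AlgebraicGeometry Limits in
/-- Let κ be a field, C a seminormal reduced scheme of finite type over κ whose irreducible components
all have dimension one, and ν : C̃ → C its normalisation (C̃ has integrally closed local domains, ν
is finite over κ and restricts to an isomorphism over a dense open subset of C whose preimage is
dense in C̃). Let D → C be the reduced closed subscheme whose underlying set is the set of points at
which the local ring of C is not regular. Then the square with vertices C̃ ×_C D, C̃, D and C is a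
push-out in the category of schemes, and moreover every fibre of ν is a reduced scheme. -/
theorem result {κ : Type u} [Field κ] {C Cn D : Scheme.{u}}
    (g : C ⟶ Spec (CommRingCat.of κ)) [LocallyOfFiniteType g] [QuasiCompact g] [IsReduced C]
    (hdimC : ∀ W ∈ irreducibleComponents (C : Type u), topologicalKrullDim W = 1)
    (hsn : HTop.IsSeminormal C)
    (ν : Cn ⟶ C) [IsFinite ν] (hn : Pi1.IsNormalScheme Cn)
    (hbir : ∃ U : C.Opens, Dense (U : Set C) ∧ Dense ((ν ⁻¹ᵁ U : Cn.Opens) : Set Cn) ∧ IsIso (ν ∣_ U))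
    (d : D ⟶ C) [IsClosedImmersion d] [IsReduced D]
    (hd : Set.range d.base = {x : C | ¬ IsRegularLocalRing (C.presheaf.stalk x)}) :
    IsPushout (pullback.fst ν d) (pullback.snd ν d) ν d ∧ ∀ x : C, IsReduced (ν.fiber x) := by
  classical
  haveI : IsLocallyNoetherian C := LocallyOfFiniteType.isLocallyNoetherian g
  haveI : IsReduced Cn := by
    haveI : ∀ y : Cn, _root_.IsReduced (Cn.presheaf.stalk y) := fun y => by
      haveI := (hn y).1
      infer_instance
    exact isReduced_of_isReduced_stalk _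
  have hdim : topologicalKrullDim C ≤ 1 := dim_le_of_closed_cover fun W hW => (hdimC W hW).le
  obtain ⟨U₀, hU₀, hU₀', hiso⟩ := hbir
  haveI := hiso
  -- everything on an affine chart
  have chart : ∀ (U : C.Opens) (hU : IsAffineOpen U), HTop.IsSeminormalRing Γ(C, U) →
      letI := (ν.app U).hom.toAlgebra
      Function.Injective (ν.app U) ∧
      RingHom.ker (d.app U).hom = (condB Γ(C, U) Γ(Cn, ν ⁻¹ᵁ U)).comap (ν.app U).hom ∧
      ∀ (p : PrimeSpectrum Γ(C, U)) (b : Γ(Cn, ν ⁻¹ᵁ U)) (n : ℕ),
        b ^ n ∈ p.asIdeal.map (ν.app U).hom → ∃ t ∉ p.asIdeal, ν.app U t * b ∈ p.asIdeal.map (ν.app U).hom := by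
    intro U hU hsA
    let A := Γ(C, U)
    let B := Γ(Cn, ν ⁻¹ᵁ U)
    letI : Algebra A B := (ν.app U).hom.toAlgebra
    haveI : Module.Finite A B := ν.finite_app U hU
    haveI : IsNoetherianRing A := IsLocallyNoetherian.component_noetherian ⟨U, hU⟩
    haveI : IsNoetherianRing B := IsNoetherianRing.of_finite A B
    haveI : _root_.IsReduced A := AWNLib.isReduced_of_isSeminormalRing hsA
    have hV : IsAffineOpen (ν ⁻¹ᵁ U) := hU.preimage ν
    let cA : Ideal A := (condB A B).comap (algebraMap A B)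
    have hpb := Codim1Iso.isPullback_fromSpec ν hU
    have hmemU : ∀ p : PrimeSpectrum A, hU.fromSpec p ∈ U := fun p => by
      have h0 : hU.fromSpec p ∈ Set.range hU.fromSpec := ⟨p, rfl⟩
      rwa [hU.range_fromSpec] at h0
    have hmemV : ∀ q : PrimeSpectrum B, hV.fromSpec q ∈ ν ⁻¹ᵁ U := fun q => by
      have h0 : hV.fromSpec q ∈ Set.range hV.fromSpec := ⟨q, rfl⟩
      rwa [hV.range_fromSpec] at h0
    have hcomm : ∀ q : PrimeSpectrum B, ν (hV.fromSpec q) = hU.fromSpec (PrimeSpectrum.comap (algebraMap A B) q) :=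
      fun q => congrArg (fun k : Spec Γ(Cn, ν ⁻¹ᵁ U) ⟶ C => k q) hpb.w
    -- points of the isomorphism locus are outside the conductor
    have hL1 : ∀ p : PrimeSpectrum A, hU.fromSpec p ∈ U₀ → ¬ cA ≤ p.asIdeal ∧ ∃ q : PrimeSpectrum B, PrimeSpectrum.comap (algebraMap A B) q = p := by
      intro p hp
      obtain ⟨y, hy⟩ := (ν ∣_ U₀).surjective (⟨hU.fromSpec p, hp⟩ : U₀.toScheme)
      have hy' : ν y.1 = hU.fromSpec p := by
        rw [← show (U₀.ι (⟨hU.fromSpec p, hp⟩ : U₀.toScheme)) = hU.fromSpec p from rfl, ← hy, ← Scheme.Hom.comp_apply,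
          morphismRestrict_ι]
        rfl
      obtain ⟨q, hq⟩ : y.1 ∈ Set.range hV.fromSpec := by
        rw [hV.range_fromSpec]; show ν y.1 ∈ U; rw [hy']; exact hmemU p
      have hqp : PrimeSpectrum.comap (algebraMap A B) q = p :=
        hU.fromSpec.isOpenEmbedding.injective (by rw [← hcomm, hq, hy'])
      refine ⟨?_, q, hqp⟩
      refine not_le_cond_of_surjective p.asIdeal q.asIdeal (fun Q hQ hQp => ?_) fun b => ?_
      · let Q' : PrimeSpectrum B := ⟨Q, hQ⟩
        have h1 : PrimeSpectrum.comap (algebraMap A B) Q' = p := PrimeSpectrum.ext hQp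
        have h2 : ν (hV.fromSpec Q') = hU.fromSpec p := by rw [hcomm, h1]
        let z₁ : (ν ⁻¹ᵁ U₀).toScheme := ⟨hV.fromSpec Q', show ν _ ∈ U₀ by rw [h2]; exact hp⟩
        have h3 : (ν ∣_ U₀) z₁ = (ν ∣_ U₀) y := by
          apply Subtype.ext
          rw [morphismRestrict_base_coe, morphismRestrict_base_coe]
          exact h2.trans hy'.symm
        have h4 : hV.fromSpec Q' = hV.fromSpec q :=
          (congrArg Subtype.val ((ν ∣_ U₀).isOpenEmbedding.injective h3)).trans hq.symm
        exact congrArg PrimeSpectrum.asIdeal (hV.fromSpec.isOpenEmbedding.injective h4)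
      · have hq' := hmemV q
        letI := TopCat.Presheaf.algebra_section_stalk Cn.presheaf ⟨hV.fromSpec q, hq'⟩
        haveI := hV.isLocalization_stalk' q hq'
        have hνq : ν (hV.fromSpec q) ∈ U := hq'
        letI := TopCat.Presheaf.algebra_section_stalk C.presheaf ⟨ν (hV.fromSpec q), hνq⟩
        have hq₀ : ν (hV.fromSpec q) ∈ U₀ := by rw [hcomm, hqp]; exact hp
        obtain ⟨e, he⟩ := (bijective_stalkMap ν U₀ (hV.fromSpec q) hq₀).2
          (Cn.presheaf.germ (ν ⁻¹ᵁ U) _ hq' b)
        haveI : IsLocalization.AtPrime (C.presheaf.stalk (ν (hV.fromSpec q))) p.asIdeal := by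
          have h1 := hU.isLocalization_stalk ⟨ν (hV.fromSpec q), hνq⟩
          convert h1
          exact (hU.fromSpec.isOpenEmbedding.injective
            ((hU.fromSpec_primeIdealOf ⟨ν (hV.fromSpec q), hνq⟩).trans ((hcomm q).trans (congrArg _ hqp)))).symm
        obtain ⟨⟨a, s⟩, has⟩ := IsLocalization.surj p.asIdeal.primeCompl e
        refine ⟨a, s, s.2, ?_⟩
        have h5 : algebraMap B (Cn.presheaf.stalk (hV.fromSpec q)) (algebraMap A B s * b) =
            algebraMap B (Cn.presheaf.stalk (hV.fromSpec q)) (algebraMap A B a) := by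
          have h6 := congrArg (ν.stalkMap (hV.fromSpec q)) has
          rw [map_mul, he] at h6
          show Cn.presheaf.germ (ν ⁻¹ᵁ U) _ hq' (ν.app U (s : A) * b) = Cn.presheaf.germ (ν ⁻¹ᵁ U) _ hq' (ν.app U a)
          rw [map_mul, ← Scheme.Hom.germ_stalkMap_apply, ← Scheme.Hom.germ_stalkMap_apply, mul_comm]
          exact h6
        obtain ⟨⟨u, hu⟩, hu'⟩ := (IsLocalization.eq_iff_exists q.asIdeal.primeCompl _).1 h5
        exact ⟨u, hu, by rw [mul_sub, sub_eq_zero]; exact hu'⟩
    have hdA : Dense (hU.fromSpec ⁻¹' (U₀ : Set C)) := hU₀.preimage hU.fromSpec.isOpenEmbedding.isOpenMap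
    have hdB : Dense (hV.fromSpec ⁻¹' ((ν ⁻¹ᵁ U₀ : Cn.Opens) : Set Cn)) :=
      hU₀'.preimage hV.fromSpec.isOpenEmbedding.isOpenMap
    have hminA : ∀ p : PrimeSpectrum A, p.asIdeal ∈ minimalPrimes A → hU.fromSpec p ∈ U₀ := fun p hp =>
      minimal_mem_of_dense _ (U₀.isOpen.preimage hU.fromSpec.continuous) hdA p hp
    have hminB : ∀ q : PrimeSpectrum B, q.asIdeal ∈ minimalPrimes B →
        hU.fromSpec (PrimeSpectrum.comap (algebraMap A B) q) ∈ U₀ := fun q hq => by
      rw [← hcomm]
      exact minimal_mem_of_dense _ ((ν ⁻¹ᵁ U₀).isOpen.preimage hV.fromSpec.continuous) hdB q hq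
    have hinj : Function.Injective (algebraMap A B) := by
      refine (injective_iff_map_eq_zero _).2 fun a ha => IsReduced.eq_zero _ (mem_nilradical.1 ?_)
      rw [nilradical, ← Ideal.sInf_minimalPrimes, Submodule.mem_sInf]
      intro P hP
      have hP' : Ideal.IsPrime P := hP.1.1
      obtain ⟨q, hq⟩ := (hL1 ⟨P, hP'⟩ (hminA ⟨P, hP'⟩ hP)).2
      rw [← show q.asIdeal.comap (algebraMap A B) = P from congrArg PrimeSpectrum.asIdeal hq, Ideal.mem_comap, ha]
      exact zero_mem _
    have hrad := condB_isRadical hinj hsA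
    have hradA : cA.IsRadical := hrad.comap _
    obtain ⟨s, hsc, hsB⟩ : ∃ s ∈ cA, ∀ q : Ideal B, q ∈ minimalPrimes B → algebraMap A B s ∉ q := by
      have hfin : (minimalPrimes B).Finite := minimalPrimes.finite_of_isNoetherianRing B
      by_contra! h
      have hsub : (cA : Set A) ⊆ ⋃ q ∈ (hfin.toFinset : Set (Ideal B)), (q.comap (algebraMap A B) : Set A) := fun a ha => by
        obtain ⟨q, hq, haq⟩ := h a ha
        exact Set.mem_biUnion (hfin.mem_toFinset.2 hq) haq
      obtain ⟨q, hq, hle⟩ := (Ideal.subset_union_prime (f := fun q : Ideal B => q.comap (algebraMap A B)) ⊥ ⊥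
        (fun q hq _ _ => by haveI : q.IsPrime := (hfin.mem_toFinset.1 hq).1.1; exact inferInstance)).1 hsub
      have hq' : q.IsPrime := (hfin.mem_toFinset.1 hq).1.1
      exact (hL1 _ (hminB ⟨q, hq'⟩ (hfin.mem_toFinset.1 hq))).1 hle
    have hsNZD : ∀ y : B, algebraMap A B s * y = 0 → y = 0 := by
      intro y hy
      refine IsReduced.eq_zero _ (mem_nilradical.1 ?_)
      rw [nilradical, ← Ideal.sInf_minimalPrimes, Submodule.mem_sInf]
      intro q hq
      have hq' : Ideal.IsPrime q := hq.1.1
      exact (hq'.mem_or_mem (hy ▸ q.zero_mem)).resolve_left (hsB q hq)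
    have hkey : ∀ p : PrimeSpectrum A, IsRegularLocalRing (C.presheaf.stalk (hU.fromSpec p)) ↔ ¬ cA ≤ p.asIdeal := by
      intro p
      letI := TopCat.Presheaf.algebra_section_stalk C.presheaf ⟨hU.fromSpec p, hmemU p⟩
      haveI : IsLocalization.AtPrime (C.presheaf.stalk (hU.fromSpec p)) p.asIdeal := hU.isLocalization_stalk' p (hmemU p)
      constructor
      · intro hreg
        haveI := hreg
        haveI : IsDomain (C.presheaf.stalk (hU.fromSpec p)) := RegLocal.isDomain _
        haveI : IsIntegrallyClosed (C.presheaf.stalk (hU.fromSpec p)) := (PurityLib.isIntegrallyClosed_of_regular _).2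
        refine not_le_cond p.asIdeal fun b => ?_
        let R := C.presheaf.stalk (hU.fromSpec p)
        let K := FractionRing R
        obtain ⟨a, ha⟩ := hsc b
        obtain ⟨P, hPm, hP0⟩ := Algebra.IsIntegral.isIntegral (R := A) b
        have hroot : (P.scaleRoots s).eval a = 0 := by
          apply hinj
          rw [map_zero, ← Polynomial.eval₂_at_apply, ha, Polynomial.scaleRoots_eval₂_mul, hP0, mul_zero]
        have hs0 : algebraMap A R s ≠ 0 := by
          intro h0
          obtain ⟨⟨t, ht⟩, ht0⟩ := (IsLocalization.map_eq_zero_iff p.asIdeal.primeCompl _ _).1 h0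
          have h1 : algebraMap A B t = 0 := hsNZD _ (by rw [← map_mul, mul_comm, show t * s = 0 from ht0, map_zero])
          exact ht (by rw [hinj (h1.trans (map_zero _).symm)]; exact zero_mem _)
        let ι := (algebraMap R K).comp (algebraMap A R)
        have hι : ι s ≠ 0 := (map_ne_zero_iff _ (IsFractionRing.injective R K)).2 hs0
        have hint : IsIntegral R (ι a / ι s) := by
          refine ⟨P.map (algebraMap A R), hPm.map _, ?_⟩
          rw [Polynomial.eval₂_map]
          have h1 := congrArg ι hroot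
          rw [map_zero, ← Polynomial.eval₂_at_apply] at h1
          have h2 : ι a = ι s * (ι a / ι s) := (mul_div_cancel₀ _ hι).symm
          rw [h2, Polynomial.scaleRoots_eval₂_mul] at h1
          exact (mul_eq_zero.1 h1).resolve_left (pow_ne_zero _ hι)
        obtain ⟨r, hr⟩ := IsIntegrallyClosed.isIntegral_iff.1 hint
        obtain ⟨⟨a', ⟨t, ht⟩⟩, hr'⟩ := IsLocalization.surj p.asIdeal.primeCompl r
        have h3 : algebraMap A R (a * t) = algebraMap A R (s * a') := by
          apply IsFractionRing.injective R K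
          rw [map_mul, map_mul, map_mul, map_mul, ← hr', map_mul, hr]
          show ι a * _ = ι s * (ι a / ι s * _)
          rw [← mul_assoc, mul_div_cancel₀ _ hι]
        obtain ⟨⟨t', ht'⟩, h4⟩ := (IsLocalization.eq_iff_exists p.asIdeal.primeCompl _).1 h3
        refine ⟨t' * t, fun h => (p.2.mem_or_mem h).elim ht' ht, t' * a', ?_⟩
        refine sub_eq_zero.1 (hsNZD _ ?_)
        have h5 := congrArg (algebraMap A B) h4
        simp only [map_mul] at h5 ⊢
        linear_combination -h5 + algebraMap A B t' * algebraMap A B t * ha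
      · intro hc
        obtain ⟨t, htc, htp⟩ := SetLike.not_le_iff_exists.1 hc
        haveI : Algebra.IsIntegral A B := inferInstance
        obtain ⟨Q, -, hQ, hQp⟩ := Ideal.exists_ideal_over_prime_of_isIntegral p.asIdeal (⊥ : Ideal B)
          (by rw [Ideal.comap_bot_of_injective _ hinj]; exact bot_le)
        let q : PrimeSpectrum B := ⟨Q, hQ⟩
        have hqp : PrimeSpectrum.comap (algebraMap A B) q = p := PrimeSpectrum.ext hQp
        have hy : ν (hV.fromSpec q) = hU.fromSpec p := by rw [hcomm, hqp]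
        rw [← hy]
        have hq' := hmemV q
        letI := TopCat.Presheaf.algebra_section_stalk Cn.presheaf ⟨hV.fromSpec q, hq'⟩
        haveI := hV.isLocalization_stalk' q hq'
        have hνq : ν (hV.fromSpec q) ∈ U := hq'
        letI := TopCat.Presheaf.algebra_section_stalk C.presheaf ⟨ν (hV.fromSpec q), hνq⟩
        haveI : IsLocalization.AtPrime (C.presheaf.stalk (ν (hV.fromSpec q))) p.asIdeal := by
          have h1 := hU.isLocalization_stalk ⟨ν (hV.fromSpec q), hνq⟩
          convert h1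
          exact (hU.fromSpec.isOpenEmbedding.injective
            ((hU.fromSpec_primeIdealOf ⟨ν (hV.fromSpec q), hνq⟩).trans hy)).symm
        let φ := ν.stalkMap (hV.fromSpec q)
        have hφ : ∀ x : A, φ (algebraMap A (C.presheaf.stalk (ν (hV.fromSpec q))) x) =
            algebraMap B (Cn.presheaf.stalk (hV.fromSpec q)) (algebraMap A B x) := fun x => by
          show φ (C.presheaf.germ U _ hνq x) = Cn.presheaf.germ (ν ⁻¹ᵁ U) _ hq' (ν.app U x)
          exact Scheme.Hom.germ_stalkMap_apply ν U (hV.fromSpec q) hνq x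
        have hmem : ∀ x : A, x ∉ p.asIdeal → algebraMap A B x ∉ Q := fun x hx h => hx (hQp ▸ h)
        have hbij : Function.Bijective φ := by
          constructor
          · refine (injective_iff_map_eq_zero φ.hom).2 fun z hz => ?_
            obtain ⟨⟨x, w⟩, hxw⟩ := IsLocalization.surj p.asIdeal.primeCompl z
            have h1 : algebraMap B (Cn.presheaf.stalk (hV.fromSpec q)) (algebraMap A B x) = 0 := by
              rw [← hφ, ← hxw, map_mul, show φ z = 0 from hz, zero_mul]
            obtain ⟨⟨u, hu⟩, hu0⟩ := (IsLocalization.map_eq_zero_iff q.asIdeal.primeCompl _ _).1 h1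
            obtain ⟨a'', ha''⟩ := htc u
            have hp'' : a'' ∉ p.asIdeal := fun h => by
              have : algebraMap A B t * u ∈ Q := by rw [← ha'', ← Ideal.mem_comap, hQp]; exact h
              exact (hQ.mem_or_mem this).elim (hmem t htp) hu
            have h2 : a'' * x = 0 := hinj (by rw [map_mul, ha'', map_zero, mul_assoc, show u * algebraMap A B x = 0 from hu0, mul_zero])
            have h3 : algebraMap A (C.presheaf.stalk (ν (hV.fromSpec q))) x = 0 :=
              (IsLocalization.map_eq_zero_iff p.asIdeal.primeCompl _ _).2 ⟨⟨a'', hp''⟩, h2⟩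
            exact (IsLocalization.map_units _ w).mul_left_eq_zero.1 (hxw.trans h3)
          · intro z
            obtain ⟨⟨b, u, hu⟩, hbu⟩ := IsLocalization.surj q.asIdeal.primeCompl z
            obtain ⟨a₁, ha₁⟩ := htc b
            obtain ⟨a₂, ha₂⟩ := htc u
            have hp₂ : a₂ ∉ p.asIdeal := fun h => by
              have : algebraMap A B t * u ∈ Q := by rw [← ha₂, ← Ideal.mem_comap, hQp]; exact h
              exact (hQ.mem_or_mem this).elim (hmem t htp) hu
            refine ⟨IsLocalization.mk' _ a₁ (⟨a₂, hp₂⟩ : p.asIdeal.primeCompl), ?_⟩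
            refine ((IsLocalization.map_units _ (⟨a₂, hp₂⟩ : p.asIdeal.primeCompl)).map φ.hom).mul_left_injective ?_
            show φ _ * φ _ = z * φ _
            rw [← map_mul, IsLocalization.mk'_spec, hφ, hφ, ha₁, ha₂, map_mul, map_mul]
            show _ = z * (_ * _)
            linear_combination -(algebraMap B (Cn.presheaf.stalk (hV.fromSpec q)) (algebraMap A B t)) * hbu
        let ee := RingEquiv.ofBijective φ.hom hbij
        haveI := (hn (hV.fromSpec q)).1
        haveI := (hn (hV.fromSpec q)).2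
        haveI : IsDomain (C.presheaf.stalk (ν (hV.fromSpec q))) := MulEquiv.isDomain _ ee.toMulEquiv
        haveI : IsIntegrallyClosed (C.presheaf.stalk (ν (hV.fromSpec q))) := IsIntegrallyClosed.of_equiv ee.symm
        haveI : Ring.KrullDimLE 1 (C.presheaf.stalk (ν (hV.fromSpec q))) :=
          Ring.krullDimLE_iff.2 ((FibreComp.ringKrullDim_stalk_le_topologicalKrullDim _).trans hdim)
        exact FinBirLib.isRegularLocalRing_of_normal_dimLE_one _
    have hker : RingHom.ker (d.app U).hom = cA := by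
      haveI : IsAffineHom d := inferInstance
      have hs := d.app_surjective U hU
      have hkr : (RingHom.ker (d.app U).hom).IsRadical := (RingHom.ker_isRadical_iff_reduced_of_surjective hs).2 inferInstance
      have hz : PrimeSpectrum.zeroLocus (RingHom.ker (d.app U).hom : Set A) = PrimeSpectrum.zeroLocus (cA : Set A) := by
        ext p
        rw [← range_comap_of_surjective _ _ hs, PrimeSpectrum.mem_zeroLocus, SetLike.coe_subset_coe]
        refine Iff.trans ?_ ((hkey p).not.trans not_not)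
        have hpd := Codim1Iso.isPullback_fromSpec d hU
        have h1 : hU.fromSpec p ∈ Set.range d.base ↔ p ∈ Set.range (Spec.map (d.app U)) := by
          have hw : ∀ q, d ((hU.preimage d).fromSpec q) = hU.fromSpec (Spec.map (d.app U) q) := fun q =>
            congrArg (fun k : Spec Γ(D, d ⁻¹ᵁ U) ⟶ C => k q) hpd.w
          constructor
          · rintro ⟨z, hz⟩
            obtain ⟨q, hq⟩ : z ∈ Set.range (hU.preimage d).fromSpec := by
              rw [(hU.preimage d).range_fromSpec]
              show d z ∈ U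
              rw [show d z = hU.fromSpec p from hz]
              exact hmemU p
            refine ⟨q, hU.fromSpec.isOpenEmbedding.injective ?_⟩
            rw [← hw, hq]
            exact hz
          · rintro ⟨q, rfl⟩
            exact ⟨_, hw q⟩
        rw [hd] at h1
        exact h1.symm
      rw [← hkr.radical, ← hradA.radical, ← PrimeSpectrum.vanishingIdeal_zeroLocus_eq_radical,
        ← PrimeSpectrum.vanishingIdeal_zeroLocus_eq_radical, hz]
    refine ⟨hinj, hker, fun p b n hbn => ?_⟩
    show ∃ t ∉ p.asIdeal, algebraMap A B t * b ∈ p.asIdeal.map (algebraMap A B)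
    by_cases hp : cA ≤ p.asIdeal
    · -- the prime is minimal over the conductor
      have hmin : ∀ P : Ideal A, P.IsPrime → cA ≤ P → P ≤ p.asIdeal → P = p.asIdeal := by
        intro P hP hcP hPp
        by_contra hne
        obtain ⟨P₀, hP₀, hP₀P⟩ := Ideal.exists_minimalPrimes_le (bot_le : ⊥ ≤ P)
        have hP₀ne : P₀ ≠ P := fun h => (hL1 ⟨P₀, hP₀.1.1⟩ (hminA _ hP₀)).1 (h ▸ hcP)
        have hA1 : ringKrullDim A ≤ 1 := by
          rw [← PrimeSpectrum.topologicalKrullDim_eq_ringKrullDim]
          exact (hU.fromSpec.isOpenEmbedding.isInducing.topologicalKrullDim_le).trans hdim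
        haveI : Ring.KrullDimLE 1 A := Ring.krullDimLE_iff.2 hA1
        haveI := hP
        rcases Ring.krullDimLE_one_iff.1 ‹Ring.KrullDimLE 1 A› P hP with h | h
        · exact hP₀ne (le_antisymm hP₀P (h.2 ⟨hP₀.1.1, bot_le⟩ hP₀P))
        · exact hne (h.eq_of_le p.2.ne_top hPp)
      have hden : ∀ g ∈ p.asIdeal, ∃ t ∉ p.asIdeal, t * g ∈ cA := by
        intro g hg
        let J := Submodule.colon cA ({g} : Set A)
        by_contra! h
        have hle : J ≤ p.asIdeal := fun t ht => by
          by_contra htp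
          exact h t htp (by simpa [J, Submodule.mem_colon] using ht)
        obtain ⟨P, hP, hPp⟩ := Ideal.exists_minimalPrimes_le hle
        have hcJ : cA ≤ J := fun t ht => by
          simpa [J, Submodule.mem_colon] using cA.mul_mem_right g ht
        have hPe := hmin P hP.1.1 (hcJ.trans hP.1.2) hPp
        obtain ⟨t, htm, hts⟩ : ∃ t, t ∉ p.asIdeal ∧ ∀ P' ∈ cA.minimalPrimes, P' ≠ p.asIdeal → t ∈ P' := by
          have hfin := Ideal.finite_minimalPrimes_of_isNoetherianRing A cA
          have h1 : ¬ (hfin.toFinset.erase p.asIdeal).inf id ≤ p.asIdeal := by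
            intro h2
            obtain ⟨q, hq, hqp⟩ := (Ideal.IsPrime.inf_le' p.2).1 h2
            obtain ⟨hne, hqm⟩ := Finset.mem_erase.1 hq
            have hqm' := hfin.mem_toFinset.1 hqm
            exact hne (hmin q hqm'.1.1 hqm'.1.2 hqp)
          obtain ⟨t, ht, htp⟩ := SetLike.not_le_iff_exists.1 h1
          exact ⟨t, htp, fun P' hP' hne => Finset.inf_le (f := id) (Finset.mem_erase.2 ⟨hne, hfin.mem_toFinset.2 hP'⟩) ht⟩
        refine h t htm ?_
        rw [← hradA.radical, ← Ideal.sInf_minimalPrimes, Submodule.mem_sInf]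
        intro P' hP'
        by_cases hne : P' = p.asIdeal
        · exact hne ▸ Ideal.mul_mem_left _ t hg
        · exact Ideal.mul_mem_right g _ (hts P' hP' hne)
      obtain ⟨s', hspan⟩ := IsNoetherian.noetherian p.asIdeal
      choose T hT hTc using hden
      let T₀ := ∏ g ∈ s'.attach, T g.1 (hspan ▸ Submodule.subset_span g.2)
      have hT₀ : T₀ ∉ p.asIdeal := fun h => by
        obtain ⟨g, -, hg⟩ := (p.2.prod_mem_iff).1 h
        exact hT _ _ hg
      have hT₁ : ∀ x ∈ p.asIdeal, T₀ * x ∈ cA := by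
        intro x hx
        rw [← hspan] at hx
        induction hx using Submodule.span_induction with
        | mem x hx =>
          show (∏ g ∈ s'.attach, T g.1 _) * x ∈ cA
          rw [← Finset.prod_erase_mul _ _ (Finset.mem_attach s' ⟨x, hx⟩), mul_assoc]
          exact Ideal.mul_mem_left _ _ (hTc x _)
        | zero => simp
        | add x y _ _ hx hy => rw [mul_add]; exact add_mem hx hy
        | smul r x _ hx => rw [smul_eq_mul, mul_left_comm]; exact Ideal.mul_mem_left _ _ hx
      have h2 : algebraMap A B T₀ * b ^ n ∈ condB A B := by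
        rw [mul_comm]
        generalize b ^ n = w at hbn ⊢
        induction hbn using Submodule.span_induction with
        | mem x hx =>
          obtain ⟨a, ha, rfl⟩ := hx
          show algebraMap A B a * _ ∈ _
          rw [← map_mul, mul_comm]
          exact hT₁ a ha
        | zero => simp
        | add x y _ _ hx hy => rw [add_mul]; exact add_mem hx hy
        | smul r x _ hx => rw [smul_eq_mul, mul_assoc]; exact Ideal.mul_mem_left _ _ hx
      have h3 : algebraMap A B T₀ * b ∈ condB A B := by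
        refine hrad ⟨n + 1, ?_⟩
        rw [show (algebraMap A B T₀ * b) ^ (n + 1) = (algebraMap A B T₀) ^ n * b * (algebraMap A B T₀ * b ^ n) by ring]
        exact Ideal.mul_mem_left _ _ h2
      obtain ⟨a, ha, hac⟩ := exists_eq_of_mem_condB h3
      refine ⟨T₀, hT₀, ?_⟩
      rw [← ha]
      exact Ideal.mem_map_of_mem _ (hp hac)
    · obtain ⟨t, htc, htp⟩ := SetLike.not_le_iff_exists.1 hp
      obtain ⟨a, ha⟩ := htc b
      refine ⟨t, htp, ?_⟩
      rw [← ha]
      refine Ideal.mem_map_of_mem _ ?_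
      obtain ⟨Q, -, hQ, hQp⟩ := Ideal.exists_ideal_over_prime_of_isIntegral p.asIdeal (⊥ : Ideal B)
        (by rw [Ideal.comap_bot_of_injective _ hinj]; exact bot_le)
      rw [← hQp, Ideal.mem_comap]
      refine hQ.mem_of_pow_mem n ?_
      rw [ha, mul_pow]
      refine Ideal.mul_mem_left _ _ (Ideal.map_le_iff_le_comap.2 hQp.ge hbn)
  refine ⟨?_, fun x => ?_⟩
  · let K := {U : C.affineOpens // HTop.IsSeminormalRing Γ(C, U)}
    have hd' : ∀ k : K, Function.Surjective (d.app k.1.1) := fun k => d.app_surjective k.1.1 k.1.2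
    have hinj : ∀ k : K, Function.Injective (ν.app k.1.1) := fun k => (chart k.1.1 k.1.2 k.2).1
    letI alg : ∀ k : K, Algebra Γ(C, k.1.1) Γ(Cn, ν ⁻¹ᵁ k.1.1) := fun k => (ν.app k.1.1).hom.toAlgebra
    let J := fun k : K => condB Γ(C, k.1.1) Γ(Cn, ν ⁻¹ᵁ k.1.1)
    have hker : ∀ k : K, RingHom.ker (d.app k.1.1).hom = (J k).comap (ν.app k.1.1).hom := fun k => (chart k.1.1 k.1.2 k.2).2.1
    let qh : ∀ k : K, Γ(D, d ⁻¹ᵁ k.1.1) →+* (Γ(Cn, ν ⁻¹ᵁ k.1.1) ⧸ J k) := fun k =>
      (d.app k.1.1).hom.liftOfSurjective (hd' k) ⟨(Ideal.Quotient.mk (J k)).comp (ν.app k.1.1).hom, fun a ha => by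
        rw [hker k] at ha
        exact Ideal.Quotient.eq_zero_iff_mem.2 ha⟩
    have hqh : ∀ (k : K) (a : Γ(C, k.1.1)), qh k (d.app k.1.1 a) = Ideal.Quotient.mk (J k) (ν.app k.1.1 a) := fun k a =>
      RingHom.liftOfRightInverse_comp_apply _ _ _ _ _
    let cart : ∀ k : K, FerrandPush.Cart Γ(C, k.1.1) Γ(D, d ⁻¹ᵁ k.1.1) Γ(Cn, ν ⁻¹ᵁ k.1.1) (Γ(Cn, ν ⁻¹ᵁ k.1.1) ⧸ J k) := fun k =>
      { fst := (d.app k.1.1).hom
        snd := (ν.app k.1.1).hom
        p := Ideal.Quotient.mk (J k)
        q := qh k
        surj := Ideal.Quotient.mk_surjective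
        w := hqh k
        ext' := fun a a' _ h => hinj k h
        lift' := fun b a h => by
          obtain ⟨a₀, rfl⟩ := hd' k b
          rw [hqh, Ideal.Quotient.eq] at h
          obtain ⟨a₁, ha₁, hmem⟩ := exists_eq_of_mem_condB h
          refine ⟨a₀ - a₁, ?_, ?_⟩
          · have h0 : a₁ ∈ RingHom.ker (d.app k.1.1).hom := by rw [hker k]; exact hmem
            rw [map_sub, show (d.app k.1.1).hom a₁ = 0 from h0, sub_zero]
          · rw [map_sub, show (ν.app k.1.1).hom a₁ = _ from ha₁]; abel }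
    refine FerrandPush.isPushout_of_cover pullback.condition (fun k : K => Γ(C, k.1.1)) (fun k => Γ(D, d ⁻¹ᵁ k.1.1))
      (fun k => Γ(Cn, ν ⁻¹ᵁ k.1.1)) (fun k => Γ(Cn, ν ⁻¹ᵁ k.1.1) ⧸ J k) cart (fun k => k.1.2.fromSpec) (fun y => ?_)
      (fun k => (k.1.2.preimage ν).fromSpec) (fun k => (k.1.2.preimage d).fromSpec)
      (fun k => pullback.lift (Spec.map (CommRingCat.ofHom (cart k).p) ≫ (k.1.2.preimage ν).fromSpec)
        (Spec.map (CommRingCat.ofHom (cart k).q) ≫ (k.1.2.preimage d).fromSpec) ?_)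
      (fun k => (Codim1Iso.isPullback_fromSpec ν k.1.2).flip) (fun k => (Codim1Iso.isPullback_fromSpec d k.1.2).flip)
      (fun k => (pullback.lift_fst _ _ _).symm) (fun k => (pullback.lift_snd _ _ _).symm)
    · obtain ⟨U, hy, hU⟩ := hsn y
      exact ⟨⟨U, hU⟩, U.2.range_fromSpec.symm ▸ hy⟩
    · rw [Category.assoc, Category.assoc, (Codim1Iso.isPullback_fromSpec ν k.1.2).w,
        (Codim1Iso.isPullback_fromSpec d k.1.2).w, ← Category.assoc, ← Category.assoc, ← Spec.map_comp, ← Spec.map_comp]
      congr 2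
      exact CommRingCat.hom_ext (RingHom.ext fun a => (hqh k a).symm)
  · obtain ⟨U, hx, hsA⟩ := hsn x
    obtain ⟨U, hU⟩ := U
    letI : Algebra Γ(C, U) Γ(Cn, ν ⁻¹ᵁ U) := (ν.app U).hom.toAlgebra
    letI := TopCat.Presheaf.algebra_section_stalk C.presheaf ⟨x, hx⟩
    haveI := hU.isLocalization_stalk ⟨x, hx⟩
    let P := hU.primeIdealOf ⟨x, hx⟩
    let αK : Γ(C, U) ⟶ C.residueField x := C.presheaf.germ U x hx ≫ C.residue x
    letI : Algebra Γ(C, U) (C.residueField x) := αK.hom.toAlgebra
    haveI : _root_.IsReduced (Γ(Cn, ν ⁻¹ᵁ U) ⊗[Γ(C, U)] C.residueField x) := by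
      refine isReduced_tensor P.asIdeal (fun a => ?_) (fun z => ?_) ((chart U hU hsA).2.2 P)
      · show IsLocalRing.residue _ (algebraMap Γ(C, U) (C.presheaf.stalk x) a) = 0 ↔ _
        rw [IsLocalRing.residue_eq_zero_iff]
        exact IsLocalization.AtPrime.to_map_mem_maximal_iff (C.presheaf.stalk x) P.asIdeal a
      · obtain ⟨w, rfl⟩ := IsLocalRing.residue_surjective (R := C.presheaf.stalk x) z
        obtain ⟨⟨a, t⟩, hat⟩ := IsLocalization.surj P.asIdeal.primeCompl w
        refine ⟨a, t, t.2, ?_⟩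
        show IsLocalRing.residue _ w * IsLocalRing.residue _ (algebraMap Γ(C, U) (C.presheaf.stalk x) t) = _
        rw [← map_mul, hat]
        rfl
    have hfr : C.fromSpecResidueField x = Spec.map αK ≫ hU.fromSpec := by
      rw [Spec.map_comp, Category.assoc]
      show Spec.map (C.residue x) ≫ C.fromSpecStalk x = _
      rw [← hU.fromSpecStalk_eq_fromSpecStalk hx]
      rfl
    haveI : IsReduced (pullback (Spec.map (ν.app U)) (Spec.map αK)) :=
      isReduced_of_isOpenImmersion (pullbackSpecIso Γ(C, U) Γ(Cn, ν ⁻¹ᵁ U) (C.residueField x)).hom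
    have h1 := ((IsPullback.of_hasPullback (Spec.map (ν.app U)) (Spec.map αK)).flip.paste_vert
      (Codim1Iso.isPullback_fromSpec ν hU).flip).flip
    rw [← hfr] at h1
    exact isReduced_of_isOpenImmersion h1.isoPullback.inv

end Groth.Agent.S15948
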