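import Groth.Statements.S15947
import Groth.Agent.DualChainLib.Step
import Groth.Agent.UnivHomeo.Basic
import Groth.Agent.AWNLib.Basic
import Groth.Agent.S15948

set_option autoImplicit false
universe u
open Curves

namespace Groth.Agent.S15947

open CategoryTheory CategoryTheory.Limits AlgebraicGeometry

open CategoryTheory CategoryTheory.Limits AlgebraicGeometry TopologicalSpace
open DualChainLib

set_option backward.isDefEq.respectTransparency false
set_option backward.defeqAttrib.useBackward true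
set_option linter.style.haveILetI false
set_option linter.unusedSectionVars false
set_option maxHeartbeats 1000000

/-- The length of the cokernel of sections. -/
noncomputable def qlen {X C : Scheme.{u}} (β : X ⟶ C) (U : C.Opens) : ℕ∞ :=
  letI := (β.app U).hom.toAlgebra
  Module.length Γ(C, U) (Γ(X, β ⁻¹ᵁ U) ⧸ LinearMap.range (Algebra.linearMap Γ(C, U) Γ(X, β ⁻¹ᵁ U)))

theorem qlen_ne_top {X C : Scheme.{u}} [IsReduced X] [IsReduced C] [IsLocallyNoetherian C] (β : X ⟶ C) [IsFinite β]
    [Surjective β] (hβ : IsSubHom β) {U : C.Opens} (hU : IsAffineOpen U) [Ring.KrullDimLE 1 Γ(C, U)] :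
    qlen β U ≠ ⊤ := by
  let A := Γ(C, U)
  let B := Γ(X, β ⁻¹ᵁ U)
  letI : Algebra A B := (β.app U).hom.toAlgebra
  haveI : Module.Finite A B := β.finite_app U hU
  haveI : IsNoetherianRing A := IsLocallyNoetherian.component_noetherian ⟨U, hU⟩
  haveI : IsArtinian A (B ⧸ LinearMap.range (Algebra.linearMap A B)) := isArtinian_coker (isSub_app β hβ hU)
  exact Module.length_ne_top

theorem qlen_le {X P C : Scheme.{u}} (a : X ⟶ P) [IsSchemeTheoreticallyDominant a] [QuasiCompact a] (γ : P ⟶ C)
    (U : C.Opens) :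
    qlen γ U ≤ qlen (a ≫ γ) U ∧
      (¬ Function.Surjective (a.app (γ ⁻¹ᵁ U)) → qlen (a ≫ γ) U ≠ ⊤ → qlen γ U < qlen (a ≫ γ) U) := by
  let A := Γ(C, U)
  let Bp := Γ(P, γ ⁻¹ᵁ U)
  let Bx := Γ(X, (a ≫ γ) ⁻¹ᵁ U)
  letI : Algebra A Bp := (γ.app U).hom.toAlgebra
  letI : Algebra A Bx := ((a ≫ γ).app U).hom.toAlgebra
  let f : Bp →ₐ[A] Bx :=
    { (a.app (γ ⁻¹ᵁ U)).hom with
      commutes' := fun r => by
        show a.app (γ ⁻¹ᵁ U) (γ.app U r) = (a ≫ γ).app U r
        rw [Scheme.Hom.comp_app]; rfl }
  have hfi : Function.Injective f := a.app_injective _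
  let Sp := LinearMap.range (Algebra.linearMap A Bp)
  let Sx := LinearMap.range (Algebra.linearMap A Bx)
  have hle : Sp ≤ Sx.comap f.toLinearMap := by
    rintro _ ⟨r, rfl⟩
    exact ⟨r, (f.commutes r).symm⟩
  let m : Bp ⧸ Sp →ₗ[A] Bx ⧸ Sx := Submodule.mapQ Sp Sx f.toLinearMap hle
  have hm : Function.Injective m := by
    refine (injective_iff_map_eq_zero m).2 fun z hz => ?_
    obtain ⟨x, rfl⟩ := Submodule.Quotient.mk_surjective Sp z
    rw [Submodule.mapQ_apply, Submodule.Quotient.mk_eq_zero] at hz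
    obtain ⟨r, hr⟩ := hz
    rw [Submodule.Quotient.mk_eq_zero]
    exact ⟨r, hfi ((f.commutes r).trans hr)⟩
  refine ⟨Module.length_le_of_injective m hm, fun hns hfin => ?_⟩
  show Module.length A (Bp ⧸ Sp) < Module.length A (Bx ⧸ Sx)
  rw [(LinearEquiv.ofInjective m hm).length_eq]
  obtain ⟨_, _⟩ := isFiniteLength_iff_isNoetherian_isArtinian.1 (Module.length_ne_top_iff.1 hfin)
  refine Submodule.length_lt fun h => hns fun (y : Bx) => ?_
  have h1 : Submodule.Quotient.mk (p := Sx) y ∈ LinearMap.range m := by rw [h]; trivial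
  obtain ⟨z, hz⟩ := h1
  obtain ⟨x, rfl⟩ := Submodule.Quotient.mk_surjective Sp z
  rw [Submodule.mapQ_apply, Submodule.Quotient.eq] at hz
  obtain ⟨r, hr⟩ := hz
  refine ⟨x - algebraMap A Bp r, ?_⟩
  show f (x - algebraMap A Bp r) = y
  rw [map_sub, f.commutes, show algebraMap A Bx r = f x - y from hr, sub_sub_cancel]

/-- The map of dual numbers. -/
noncomputable def dualMap {R S : Type u} [CommRing R] [CommRing S] (φ : R →+* S) :
    DualNumber R →+* DualNumber S where
  toFun z := TrivSqZeroExt.inl (φ z.fst) + TrivSqZeroExt.inr (φ z.snd)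
  map_one' := by apply TrivSqZeroExt.ext <;> simp
  map_mul' x y := by apply TrivSqZeroExt.ext <;> simp
  map_zero' := by apply TrivSqZeroExt.ext <;> simp
  map_add' x y := by apply TrivSqZeroExt.ext <;> simp

theorem dualMap_bijective {R S : Type u} [CommRing R] [CommRing S] {φ : R →+* S} (h : Function.Bijective φ) :
    Function.Bijective (dualMap φ) := by
  refine ⟨fun x y hxy => TrivSqZeroExt.ext (h.1 ?_) (h.1 ?_), fun z => ?_⟩
  · simpa [dualMap] using congrArg TrivSqZeroExt.fst hxy
  · simpa [dualMap] using congrArg TrivSqZeroExt.snd hxy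
  · obtain ⟨r, hr⟩ := h.2 z.fst
    obtain ⟨r', hr'⟩ := h.2 z.snd
    exact ⟨TrivSqZeroExt.inl r + TrivSqZeroExt.inr r', by apply TrivSqZeroExt.ext <;> simp [dualMap, hr, hr']⟩

/-- A step of the chain. -/
def IsStep {X Y : Scheme.{u}} (f : X ⟶ Y) : Prop :=
  ∃ (x : Y) (_ : IsClosed ({x} : Set Y)) (j : Spec (CommRingCat.of (DualNumber (Y.residueField x))) ⟶ X),
    IsClosedImmersion j ∧
    IsPushout j (Spec.map (CommRingCat.ofHom (algebraMap (Y.residueField x) (DualNumber (Y.residueField x)))))
      f (Y.fromSpecResidueField x)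

theorem isStep_of {X Y : Scheme.{u}} {κ : Type u} [Field κ] (i : Spec (CommRingCat.of (DualNumber κ)) ⟶ X)
    [IsClosedImmersion i] (b : Spec (CommRingCat.of κ) ⟶ Y) [IsClosedImmersion b] (f : X ⟶ Y)
    (hP : IsPushout i (Spec.map (CommRingCat.ofHom (algebraMap κ (DualNumber κ)))) f b) : IsStep f := by
  obtain ⟨⟨x, φ⟩, rfl⟩ := (Scheme.SpecToEquivOfField κ Y).symm.surjective b
  rw [Scheme.SpecToEquivOfField_symm_apply] at *
  haveI : IsClosedImmersion (Spec.map φ ≫ Y.fromSpecResidueField x) := ‹_›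
  haveI : IsClosedImmersion (Spec.map φ) := IsClosedImmersion.of_comp (Spec.map φ) (Y.fromSpecResidueField x)
  have hφ : Function.Bijective φ.hom := by
    refine ⟨φ.hom.injective, ?_⟩
    have h1 : Function.Surjective (Spec.map φ).appTop :=
      (IsClosedImmersion.isAffine_surjective_of_isAffine (Spec.map φ)).2
    haveI := RingHom.toMorphismProperty_respectsIso_iff.1 RingHom.surjective_respectsIso
    exact ((MorphismProperty.arrow_mk_iso_iff (RingHom.toMorphismProperty fun f => Function.Surjective f)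
      (arrowIsoΓSpecOfIsAffine φ)).2 h1)
  haveI : IsIso φ := (ConcreteCategory.isIso_iff_bijective φ).2 hφ
  let δ : CommRingCat.of (DualNumber (Y.residueField x)) ⟶ CommRingCat.of (DualNumber κ) :=
    CommRingCat.ofHom (dualMap φ.hom)
  haveI : IsIso δ := (ConcreteCategory.isIso_iff_bijective δ).2 (dualMap_bijective hφ)
  refine ⟨x, ?_, inv (Spec.map δ) ≫ i, inferInstance, ?_⟩
  · have h1 := (Spec.map φ ≫ Y.fromSpecResidueField x).isClosedEmbedding.isClosed_range
    convert h1 using 1
    ext y
    constructor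
    · intro hy
      rw [Set.mem_singleton_iff.1 hy]
      exact ⟨default, Y.fromSpecResidueField_apply x _⟩
    · rintro ⟨z, rfl⟩
      exact Y.fromSpecResidueField_apply x _
  · refine hP.of_iso (asIso (Spec.map δ)) (Iso.refl _) (asIso (Spec.map φ)) (Iso.refl _) ?_ ?_ ?_ ?_
    · simp
    · simp only [asIso_hom, ← Spec.map_comp]
      congr 1
      refine CommRingCat.hom_ext (RingHom.ext fun r => ?_)
      apply TrivSqZeroExt.ext <;> simp [δ, dualMap, TrivSqZeroExt.algebraMap_eq_inl]
    · simp
    · simp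

theorem precomp_hom {n : ℕ} (G : ComposableArrows Scheme.{u} n) {X : Scheme.{u}} (f : X ⟶ G.left) :
    (G.precomp f).hom = f ≫ G.hom := by
  cases n with
  | zero =>
    show f = _
    rw [show G.hom = 𝟙 _ from G.map_id _, Category.comp_id]
  | succ k => rfl

/-- The chain, by induction on the lengths. -/
theorem exists_chain {C : Scheme.{u}} [IsReduced C] [IsLocallyNoetherian C] [JacobsonSpace C]
    (t : Finset C.affineOpens) (ht : ∀ x : C, ∃ U ∈ t, x ∈ (U : C.Opens))
    (hdim : ∀ U : C.affineOpens, Ring.KrullDimLE 1 Γ(C, U)) :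
    ∀ (N : ℕ) (X : Scheme.{u}) [IsReduced X] (β : X ⟶ C) [IsFinite β] [Surjective β], IsSubHom β →
      ∑ U ∈ t, (qlen β U).toNat ≤ N →
      ∃ (n : ℕ) (F : ComposableArrows Scheme.{u} n) (e : F.left ≅ X) (e' : F.right ≅ C),
        e.inv ≫ F.hom ≫ e'.hom = β ∧
          ∀ i : Fin n, IsStep (F.map (homOfLE (Fin.castSucc_lt_succ (i := i)).le)) := by
  classical
  intro N
  induction N using Nat.strong_induction_on with
  | _ N ih =>
    intro X _ β _ _ hβ hN
    haveI := hdim
    by_cases hall : ∀ U ∈ t, Function.Surjective (β.app (U : C.Opens))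
    · haveI : IsIso β := by
        have hsup : ⨆ U : t, ((U : C.affineOpens) : C.Opens) = ⊤ := by
          refine eq_top_iff.2 fun x _ => ?_
          obtain ⟨U, hU, hxU⟩ := ht x
          exact Opens.mem_iSup.2 ⟨⟨U, hU⟩, hxU⟩
        haveI : IsClosedImmersion β := by
          rw [HasAffineProperty.iff_of_iSup_eq_top (P := @IsClosedImmersion) _ hsup]
          intro U
          refine ⟨(U : C.affineOpens).2.preimage β, ?_⟩
          rw [morphismRestrict_appTop]
          have key : Function.Surjective (β.app (((U : C.affineOpens) : C.Opens).ι ''ᵁ ⊤)) := by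
            rw [Scheme.Opens.ι_image_top]
            exact hall _ U.2
          exact ((ConcreteCategory.bijective_of_isIso
            (X.presheaf.map (eqToHom (image_morphismRestrict_preimage β _ ⊤)).op)).2.comp key :)
        exact isIso_of_isClosedImmersion_of_surjective β
      exact ⟨0, ComposableArrows.mk₀ X, Iso.refl _, asIso β, by simp, fun i => i.elim0⟩
    · push Not at hall
      obtain ⟨V, hVt, hns⟩ := hall
      haveI : JacobsonSpace C := inferInstance
      obtain ⟨P, a, γ, rfl, hγ, hγs, hPr, hγsub, hastd, haqc, ⟨κ, _, i0, b, hi, hb, hP⟩, hans⟩ :=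
        exists_step β hβ V.2 hns
      haveI := hγ; haveI := hγs; haveI := hPr; haveI := hastd; haveI := haqc; haveI := hi; haveI := hb
      have hfin : ∀ U : C.affineOpens, qlen (a ≫ γ) U ≠ ⊤ := fun U => qlen_ne_top (a ≫ γ) hβ U.2
      have hlt : ∑ U ∈ t, (qlen γ U).toNat < ∑ U ∈ t, (qlen (a ≫ γ) U).toNat :=
        Finset.sum_lt_sum (fun U _ => ENat.toNat_le_toNat (qlen_le a γ U).1 (hfin U))
          ⟨V, hVt, (ENat.coe_lt_coe.1 (by rw [ENat.coe_toNat (qlen_ne_top γ hγsub V.2), ENat.coe_toNat (hfin V)]; exact (qlen_le a γ V).2 hans (hfin V)))⟩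
      obtain ⟨n, G, e, e', hG, hstep⟩ := ih _ (lt_of_lt_of_le hlt hN) P γ hγsub le_rfl
      refine ⟨n + 1, G.precomp (a ≫ e.inv), Iso.refl _, e', ?_, fun i => ?_⟩
      · refine (Category.id_comp _).trans ?_
        rw [precomp_hom]
        simp only [Category.assoc]
        exact congrArg (a ≫ ·) hG
      · obtain ⟨_ | i, hi'⟩ := i
        · show IsStep (a ≫ e.inv)
          exact isStep_of i0 (b ≫ e.inv) (a ≫ e.inv)
            (hP.of_iso (Iso.refl _) (Iso.refl _) (Iso.refl _) e.symm (by simp) (by simp) (by simp) (by simp))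
        · exact hstep ⟨i, by omega⟩


open CategoryTheory AlgebraicGeometry in
/-- Let κ be a field, C a reduced scheme of finite type over κ whose irreducible components all have
dimension one, and ς : C' → C a seminormalization of C: C' is seminormal and ς is a universal
homeomorphism inducing isomorphisms on residue fields, initial among such morphisms to C. If C is
not seminormal, then ς is a finite composite C' = C_0 → C_1 → ⋯ → C_n = C in which each step C_i →
C_{i+1} is the push-out, in the category of schemes, of C_i and Spec κ(x) along a closed immersion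
of the dual numbers Spec κ(x)[ε]/(ε²) into C_i, for some closed point x of C_{i+1}. -/
theorem result {κ : Type u} [Field κ] {C C' : Scheme.{u}}
    (g : C ⟶ Spec (CommRingCat.of κ)) [LocallyOfFiniteType g] [QuasiCompact g] [IsReduced C]
    (hdimC : ∀ W ∈ irreducibleComponents (C : Type u), topologicalKrullDim W = 1)
    (hC : ¬ HTop.IsSeminormal C) (ς : C' ⟶ C) (hς : HTop.IsSeminormalization ς) (hC' : HTop.IsSeminormal C') :
    ∃ (n : ℕ) (F : ComposableArrows Scheme.{u} n) (e : F.left ≅ C') (e' : F.right ≅ C),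
      e.inv ≫ F.hom ≫ e'.hom = ς ∧
      ∀ i : Fin n, ∃ (x : F.obj i.succ) (_ : IsClosed ({x} : Set (F.obj i.succ)))
        (j : Spec (CommRingCat.of (DualNumber ((F.obj i.succ).residueField x))) ⟶ F.obj i.castSucc),
        IsClosedImmersion j ∧
        IsPushout j (Spec.map (CommRingCat.ofHom (algebraMap ((F.obj i.succ).residueField x) (DualNumber ((F.obj i.succ).residueField x)))))
          (F.map (homOfLE (Fin.castSucc_lt_succ (i := i)).le)) ((F.obj i.succ).fromSpecResidueField x) := by
  classical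
  haveI : IsLocallyNoetherian C := LocallyOfFiniteType.isLocallyNoetherian g
  haveI : JacobsonSpace C := LocallyOfFiniteType.jacobsonSpace g
  haveI : CompactSpace C := QuasiCompact.compactSpace_of_compactSpace g
  haveI : IsReduced C' := by
    haveI : ∀ y : C', _root_.IsReduced (C'.presheaf.stalk y) := fun y => by
      obtain ⟨U, hy, hU⟩ := hC' y
      haveI : _root_.IsReduced Γ(C', U) := AWNLib.isReduced_of_isSeminormalRing hU
      letI := TopCat.Presheaf.algebra_section_stalk C'.presheaf ⟨y, hy⟩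
      haveI := U.2.isLocalization_stalk ⟨y, hy⟩
      exact isReduced_localizationPreserves (U.2.primeIdealOf ⟨y, hy⟩).asIdeal.primeCompl _ inferInstance
    exact isReduced_of_isReduced_stalk _
  have hdim1 : topologicalKrullDim C ≤ 1 := S15948.dim_le_of_closed_cover fun W hW => (hdimC W hW).le
  have hdim : ∀ U : C.affineOpens, Ring.KrullDimLE 1 Γ(C, U) := fun U => by
    rw [Ring.krullDimLE_iff, ← PrimeSpectrum.topologicalKrullDim_eq_ringKrullDim]
    exact (U.2.fromSpec.isOpenEmbedding.isInducing.topologicalKrullDim_le).trans hdim1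
  haveI := UnivHomeo.isIntegralHom hς.1.1
  haveI := UnivHomeo.surjective hς.1.1
  have hsub : IsSubHom ς := ⟨(UnivHomeo.isHomeomorph hς.1.1).injective, fun y => by
    haveI := hς.1.2 y
    exact (ConcreteCategory.bijective_of_isIso _).2⟩
  haveI : IsFinite ς := by
    refine ⟨fun U hU => ?_⟩
    letI : Algebra Γ(C, U) Γ(C', ς ⁻¹ᵁ U) := (ς.app U).hom.toAlgebra
    let s : κ →+* Γ(C, U) :=
      ((Scheme.ΓSpecIso (CommRingCat.of κ)).inv ≫ g.appLE ⊤ U le_top).hom
    letI : Algebra κ Γ(C, U) := s.toAlgebra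
    haveI : Algebra.FiniteType κ Γ(C, U) :=
      (g.finiteType_appLE (isAffineOpen_top _) hU le_top).comp
        (RingHom.FiniteType.of_surjective _ (ConcreteCategory.bijective_of_isIso (Scheme.ΓSpecIso (CommRingCat.of κ)).inv).2)
    haveI : Algebra.IsIntegral Γ(C, U) Γ(C', ς ⁻¹ᵁ U) := ⟨ς.isIntegral_app U hU⟩
    exact RingHom.finite_algebraMap.2 (DualChainLib.finite κ (isSub_app ς hsub hU))
  obtain ⟨t, ht⟩ := isCompact_univ.elim_finite_subcover (fun U : C.affineOpens => ((U : C.Opens) : Set C))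
    (fun U => (U : C.Opens).2) (fun x _ => by
      obtain ⟨U, hU, hx, -⟩ := exists_isAffineOpen_mem_and_subset (X := C) (x := x) (U := ⊤) trivial
      exact Set.mem_iUnion.2 ⟨⟨U, hU⟩, hx⟩)
  obtain ⟨n, F, e, e', h1, h2⟩ := exists_chain t (fun x => by simpa using ht (Set.mem_univ x)) hdim _ C' ς hsub le_rfl
  exact ⟨n, F, e, e', h1, h2⟩

end Groth.Agent.S15947
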