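import Groth.Statements.S15954
import Groth.Agent.PinchBC.Coker
-- import your own Groth.Agent.* helpers here

set_option autoImplicit false
universe u
open Pinch

open Groth.Agent CategoryTheory.Limits
set_option backward.isDefEq.respectTransparency false
namespace Groth.Agent.S15954

open CategoryTheory AlgebraicGeometry in
/-- Let Y be a scheme, f : X → Y a morphism, t : T → Y a scheme affine over Y, ξ : Z → T a morphism with
Z affine over Y via ξ followed by t, and ι : Z → X a closed immersion over Y; assume every point of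
Y has an affine open neighbourhood U together with an affine open V of X inside the preimage of U
containing the image under ι of the part of Z over U; assume moreover that Y is locally Noetherian,
f and t are of finite type and ξ is finite, and let X → P ← T be a push-out of ι and ξ in the
category of schemes; assume finally that ξ is faithfully flat and that over every affine open U of Y
the cokernel of the map from functions on t⁻¹(U) to functions on the part of Z over U is a
projective module over the functions on U. Let p : P → Y be the induced morphism. Then the push-out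
commutes with every base change: for every morphism Y' → Y the square obtained by pulling back Z →
X, Z → T, X → P and T → P along Y' → Y is a push-out square in the category of schemes. -/
theorem result {X Y T Z : Scheme.{u}} (f : X ⟶ Y) (t : T ⟶ Y) (ξ : Z ⟶ T) (ι : Z ⟶ X)
    [IsAffineHom t] [IsAffineHom (ξ ≫ t)] [IsClosedImmersion ι] (hsq : ι ≫ f = ξ ≫ t)
    (hstd : ∀ y : Y, ∃ U : Y.Opens, IsAffineOpen U ∧ y ∈ U ∧ ∃ V : X.Opens, IsAffineOpen V ∧
      V ≤ f ⁻¹ᵁ U ∧ ∀ z : Z, (ξ ≫ t).base z ∈ U → ι.base z ∈ V)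
    [IsLocallyNoetherian Y] [LocallyOfFiniteType f] [QuasiCompact f] [LocallyOfFiniteType t] [QuasiCompact t]
    [IsFinite ξ] {P : Scheme.{u}} (a : X ⟶ P) (b : T ⟶ P) (hP : IsPushout ι ξ a b)
    [Flat ξ] [Surjective ξ]
    (hv : ∀ U : Y.affineOpens, @Pinch.CokerProjective Γ(Y, U) Γ(Z, (ξ ≫ t) ⁻¹ᵁ U) Γ(T, t ⁻¹ᵁ U) _ _ _
      ((ξ ≫ t).app U).hom.toAlgebra (ξ.app (t ⁻¹ᵁ U)).hom)
    (p : P ⟶ Y) (hap : a ≫ p = f) (hbp : b ≫ p = t) {Y' : Scheme.{u}} (g : Y' ⟶ Y) :
    IsPushout ((Over.pullback g).map (Over.homMk ι hsq : Over.mk (ξ ≫ t) ⟶ Over.mk f)).left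
      ((Over.pullback g).map (Over.homMk ξ rfl : Over.mk (ξ ≫ t) ⟶ Over.mk t)).left
      ((Over.pullback g).map (Over.homMk a hap : Over.mk f ⟶ Over.mk p)).left
      ((Over.pullback g).map (Over.homMk b hbp : Over.mk t ⟶ Over.mk p)).left := by
  haveI : IsSeparated t := inferInstance
  haveI : IsAffineHom ξ := inferInstance
  have haff : ∀ y : T, ∃ V : X.Opens, IsAffineOpen V ∧ ξ ⁻¹' {y} ⊆ ι ⁻¹' (V : Set X) := by
    intro y
    obtain ⟨U, hU, hyU, V, hV, hVU, hz⟩ := hstd (t y)
    refine ⟨V, hV, fun z hz' => hz z ?_⟩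
    show t (ξ z) ∈ U
    rw [show ξ z = y from hz']
    exact hyU
  obtain ⟨ha, hb, -, -⟩ := FerrandPush.props_of_isPushout haff hP
  haveI := ha; haveI := hb
  have hcomp : (ι ≫ a) ≫ p = ξ ≫ t := by rw [Category.assoc, hap, hsq]
  have hbot : ∀ {A B : Scheme.{u}} (m : A ⟶ B) (sA : A ⟶ Y) (sB : B ⟶ Y) (w : m ≫ sB = sA),
      IsPullback (pullback.fst sA g)
        ((Over.pullback g).map (Over.homMk m w : Over.mk sA ⟶ Over.mk sB)).left m (pullback.fst sB g) := by
    intro A B m sA sB w
    refine (IsPullback.of_right ?_ ?_ (IsPullback.of_hasPullback sB g).flip).flip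
    · subst w
      simpa using (IsPullback.of_hasPullback (m ≫ sB) g).flip
    · simp
  refine FerrandPush.isPushout_baseChange' hP p g (Or.inr (Or.inr ?_))
    (pP := pullback.fst p g) (sPT := pullback.snd p g) (IsPullback.of_hasPullback p g)
    (pX := pullback.fst f g) (hbot a f p hap)
    (pY := pullback.fst t g) (hbot b t p hbp)
    (pZ := pullback.fst (ξ ≫ t) g) (hbot ι (ξ ≫ t) f hsq) ?_ ?_
  · intro α S₀ hS₀ hle hleV
    have hV : α.V ≤ t ⁻¹ᵁ S₀ := by rw [← hbp]; exact hleV
    have hleW : α.W ≤ (ξ ≫ t) ⁻¹ᵁ S₀ := by rw [← hcomp]; exact hle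
    refine ⟨PinchBC.injective_appLE ξ α.hV α.W_eq, ?_⟩
    have hproj := hv ⟨S₀, hS₀⟩
    have key := PinchBC.flat_coker ξ t hS₀ α.hV hV α.W_eq hleW (by
      letI := ((ξ ≫ t).app S₀).hom.toAlgebra
      haveI : Module.Projective Γ(Y, S₀) _ := hproj
      exact Module.Flat.of_projective)
    have e : ((ι ≫ a) ≫ p).appLE S₀ α.W hle = (ξ ≫ t).appLE S₀ α.W hleW := by
      congr 1
    rw [e]
    exact key
  · simp
  · rw [← Over.comp_left, ← Over.comp_left, ← Functor.map_comp, ← Functor.map_comp]
    congr 2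
    ext
    exact hP.w.symm

end Groth.Agent.S15954
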