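import Groth.Statements.S1596
import Groth.Agent.GenBCLib.SteinUnit
import Groth.Agent.GenBCLib.Helpers
import Groth.Agent.GenBCLib.RankPush
import Groth.Agent.GenBCLib.Near
import Groth.Agent.PicTrivLib.Fiber
import Groth.Agent.PicTrivLib.Const
import Groth.Agent.DimFormulaLib.Misc
import Groth.Agent.NodePtLib.Gor
import Groth.Agent.FPModelLib.Fibre

set_option autoImplicit false
universe u
open CategoryTheory CategoryTheory.Limits AlgebraicGeometry
open Curves

namespace Groth.Agent.S1596

open CategoryTheory CategoryTheory.Limits AlgebraicGeometry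

open Groth.Agent
set_option backward.isDefEq.respectTransparency false

/-- Let f : X → S be a proper morphism of schemes that is at-worst-nodal of relative dimension one with
geometrically connected fibres. Then R¹f_*O_X is a finite locally free O_S-module and R^q f_*O_X = 0
for every q ≥ 2. The published statement also includes the compatibility of these direct images with
base change, which is not asserted here. (Existence of injective resolutions in the category of
O_X-modules is carried as an instance binder.) -/
theorem result {X S : Scheme.{u}} (f : X ⟶ S) [IsProper f] (hf : Curv2.IsNodalFamily f)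
    [GeometricallyConnected f] [HasInjectiveResolutions X.Modules] :
    FlatMod.IsFinLocFree ((Coh.Rpush f 1).obj (Coh.structureModule X)) ∧
      ∀ q : ℕ, 2 ≤ q → IsZero ((Coh.Rpush f q).obj (Coh.structureModule X)) := by
  obtain ⟨hflat, hlfp, hfib⟩ := hf
  haveI := hflat
  haveI := hlfp
  haveI : GeometricallyReduced f := by
    refine FPModelLib.geometricallyReduced_of_fibres ?_
    intro s
    letI : (f.fiber s).Over (Spec (CommRingCat.of (S.residueField s))) := ⟨f.fiberToSpecResidueField s⟩
    haveI : LocallyOfFiniteType ((f.fiber s) ↘ Spec (CommRingCat.of (S.residueField s))) :=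
      inferInstanceAs (LocallyOfFiniteType (pullback.snd f _))
    exact NodePtLib.geometricallyReduced_of_atWorstNodal (k := S.residueField s) (X := f.fiber s) (hfib s).1 (hfib s).2
  haveI : Coh.IsQCoh (Coh.structureModule X) := (DevLib.isCoh_structureModule X).1
  have hdim : ∀ s : S, topologicalKrullDim ↥(f.fiber s) ≤ 1 := fun s =>
    DimFormulaLib.topologicalKrullDim_le_of_components 1 fun η hη =>
      ((hfib s).1 _ (DimFormulaLib.closure_mem_irreducibleComponents hη)).le
  have hb := PicTrivLib.bijective_fiber f
  refine ⟨GenBCLib.isFinLocFree_of_nhds _ fun s => ?_, fun q hq => GenBCLib.isZero_of_nhds _ fun s => ?_⟩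
  · obtain ⟨V, D, hs⟩ := GenBCLib.exists_dat_at (FlatStage.isFP_structureModule X)
      (BCLib.isFlatOver_structureModule f) s
    obtain ⟨b, hb', -, hsb, -⟩ := D.exists_vanish hs (n := 2)
      (GenBCLib.subsingleton_fiberH_of_dim f (Coh.structureModule X) 1 s (hdim s) one_lt_two)
    obtain ⟨a, ha, hga⟩ := D.exists_good hs (D.surjAt_zero_structure hs (hb s))
    exact ⟨_, (by rw [S.basicOpen_mul]; exact ⟨ha, hb'⟩ : s ∈ S.basicOpen (a * b)),
      D.isFinLocFree_basicOpen (hsb.mul_left a) (hga.mul_right b)⟩
  · obtain ⟨V, D, hs⟩ := GenBCLib.exists_dat_at (FlatStage.isFP_structureModule X)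
      (BCLib.isFlatOver_structureModule f) s
    obtain ⟨b, hb', -, -, hk⟩ := D.exists_vanish hs (n := q)
      (GenBCLib.subsingleton_fiberH_of_dim f (Coh.structureModule X) 1 s (hdim s) hq)
    exact ⟨_, hb', D.isZero_basicOpen le_rfl hk⟩

end Groth.Agent.S1596
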