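import Groth.Statements.S15961
import Groth.Agent.AWNLib.Scheme3
-- import your own Groth.Agent.* helpers here

set_option autoImplicit false
universe u
open HTop

namespace Groth.Agent.S15961

open CategoryTheory AlgebraicGeometry in
/-- Let ν : X' → X be a seminormalization of the scheme X (X' seminormal, ν a universal homeomorphism
inducing isomorphisms on residue fields and initial among such morphisms to X) and let U be an open
subscheme of X. Then the restriction of ν over U, ν⁻¹(U) → U, is a seminormalization of U. (The
published lemma also treats U → X a localisation; that case is not restated.) -/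
theorem result {X' X : Scheme.{u}} (ν : X' ⟶ X)
    (hν : HTop.IsSeminormalization ν) (hX' : HTop.IsSeminormal X') (U : X.Opens) :
    HTop.IsSeminormalization (ν ∣_ U) := by
  have hu : FlatMor.IsUnivHomeo (ν ∣_ U) :=
    MorphismProperty.of_isPullback (P := (FlatMor.IsUnivHomeo : MorphismProperty Scheme.{u}))
      (isPullback_morphismRestrict ν U).flip hν.1.1
  refine AWNLib.isSeminormalization_of_isSeminormal _ (AWNLib.isSeminormal_of_isOpenImmersion (ν ⁻¹ᵁ U).ι hX') hu ?_
  haveI := UnivHomeo.surjective hν.1.1
  haveI := UnivHomeo.universallyInjective hu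
  refine AWNLib.residueFieldsIso_of_exists_lift _ fun x => ?_
  obtain ⟨l, hl⟩ := AWNLib.exists_lift_of_residueFieldsIso ν hν.1.2 _
    (Scheme.fromSpecResidueField _ x ≫ U.ι)
  exact ⟨(isPullback_morphismRestrict ν U).lift (Scheme.fromSpecResidueField _ x) l hl.symm,
    IsPullback.lift_fst _ _ _ _⟩

end Groth.Agent.S15961
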