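import Groth.Statements.S15963
import Groth.Agent.AWNLib.Scheme3
-- import your own Groth.Agent.* helpers here

set_option autoImplicit false
universe u
open HTop

namespace Groth.Agent.S15963

open CategoryTheory AlgebraicGeometry in
/-- Let S be a reduced Noetherian scheme, π : S̃ → S its normalisation (S̃ has integrally closed local
domains, π is integral and an isomorphism over a dense open subset of S with dense preimage), ν : X'
→ S a seminormalization of S (X' seminormal, ν a universal homeomorphism with residue-field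
isomorphisms, initial among such) and g : S̃ → X' a morphism with g followed by ν equal to π. Then ν
and g are scheme-theoretically dominant (the structure sheaf maps injectively into the direct
image), and if π is finite then so are ν and g. -/
theorem result {S Sn X' : Scheme.{u}}
    [IsNoetherian S] [IsReduced S]
    (π : Sn ⟶ S) [IsIntegralHom π] (hn : Pi1.IsNormalScheme Sn)
    (hbir : ∃ U : S.Opens, Dense (U : Set S) ∧ Dense ((π ⁻¹ᵁ U : Sn.Opens) : Set Sn) ∧ IsIso (π ∣_ U))
    (ν : X' ⟶ S) (hν : HTop.IsSeminormalization ν) (hX' : HTop.IsSeminormal X')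
    (g : Sn ⟶ X') (hg : g ≫ ν = π) :
    (IsSchemeTheoreticallyDominant ν ∧ IsSchemeTheoreticallyDominant g) ∧
      (IsFinite π → IsFinite ν ∧ IsFinite g) := by
  haveI := UnivHomeo.isIntegralHom hν.1.1
  haveI := UnivHomeo.surjective hν.1.1
  haveI := AWNLib.isReduced_of_isSeminormal hX'
  haveI : IsIntegralHom (g ≫ ν) := by rw [hg]; infer_instance
  haveI : IsIntegralHom g := IsIntegralHom.of_comp g ν
  obtain ⟨U, hUd, -, hU⟩ := hbir
  have hUr : (U : Set S) ⊆ Set.range π := by
    intro s hs
    obtain ⟨x, hx⟩ := (π ∣_ U).surjective ⟨s, hs⟩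
    refine ⟨(π ⁻¹ᵁ U).ι x, ?_⟩
    rw [← Scheme.Hom.comp_apply, ← morphismRestrict_ι, Scheme.Hom.comp_apply, hx]
    rfl
  haveI : IsDominant g := ⟨by
    have hh := UnivHomeo.isHomeomorph hν.1.1
    have h1 : Dense (Set.range π) := hUd.mono hUr
    have h2 : Set.range g = ν ⁻¹' Set.range π := by
      rw [← hg, Scheme.Hom.comp_base, TopCat.coe_comp, Set.range_comp, Set.preimage_image_eq _ hh.injective]
    show Dense (Set.range g)
    rw [h2]
    exact h1.preimage hh.isOpenMap⟩
  haveI hsg : IsSchemeTheoreticallyDominant g := .of_isDominant g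
  refine ⟨⟨.of_isDominant ν, hsg⟩, fun hfin => ?_⟩
  haveI hgf : IsFinite g := by
    haveI : IsFinite (g ≫ ν) := by rw [hg]; infer_instance
    exact IsFinite.of_comp g ν
  refine ⟨⟨fun V hV => ?_⟩, hgf⟩
  haveI : IsNoetherianRing Γ(S, V) := IsLocallyNoetherian.component_noetherian ⟨V, hV⟩
  letI := (ν.app V).hom.toAlgebra
  letI := ((g ≫ ν).app V).hom.toAlgebra
  haveI : Module.Finite Γ(S, V) Γ(Sn, (g ≫ ν) ⁻¹ᵁ V) := by
    haveI : IsFinite (g ≫ ν) := by rw [hg]; infer_instance
    exact (g ≫ ν).finite_app V hV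
  let φ : Γ(X', ν ⁻¹ᵁ V) →ₐ[Γ(S, V)] Γ(Sn, (g ≫ ν) ⁻¹ᵁ V) :=
    { (g.app (ν ⁻¹ᵁ V)).hom with commutes' := fun r => rfl }
  exact Module.Finite.of_injective φ.toLinearMap (g.app_injective (ν ⁻¹ᵁ V))

end Groth.Agent.S15963
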