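import Groth.Statements.S1597
import Groth.Agent.RegLocal.Completion
import Groth.Agent.RegLocal.Consequences
import Groth.Agent.RegLocLib.Basic

set_option autoImplicit false
universe u
open CategoryTheory CategoryTheory.Limits AlgebraicGeometry
open Resolve

namespace Groth.Agent.S1597

open IsLocalRing TensorProduct

/-- Regularity passes to a flat extension with the same closed fibre. -/
theorem regular_localization_of_map_eq {R S : Type u} [CommRing R] [CommRing S] [IsNoetherianRing R]
    [IsNoetherianRing S] [Algebra R S] [Module.Flat R S] (P : Ideal R) [P.IsPrime] (Q : Ideal S) [Q.IsPrime]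
    [Q.LiesOver P] (h : Q = P.map (algebraMap R S)) [IsRegularLocalRing (Localization.AtPrime P)] :
    IsRegularLocalRing (Localization.AtPrime Q) := by
  haveI : IsNoetherianRing (Localization.AtPrime Q) := IsLocalization.isNoetherianRing Q.primeCompl _ inferInstance
  refine IsRegularLocalRing.of_spanFinrank_maximalIdeal_le (R := Localization.AtPrime Q) ?_
  have hh := Ideal.height_eq_height_add_of_liesOver_of_hasGoingDown P Q
  have h0 : (Q.map (Ideal.Quotient.mk (P.map (algebraMap R S)))).height = 0 := by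
    rw [← h, Ideal.map_quotient_self]
    haveI : Nontrivial (S ⧸ Q) := Ideal.Quotient.nontrivial_iff.mpr (Ideal.IsPrime.ne_top ‹_›)
    exact Ideal.height_bot
  rw [h0, add_zero] at hh
  let g := Localization.localRingHom P Q (algebraMap R S) (Ideal.LiesOver.over (P := Q) (p := P))
  have hm : (maximalIdeal (Localization.AtPrime P)).map g = maximalIdeal (Localization.AtPrime Q) := by
    rw [← Localization.AtPrime.map_eq_maximalIdeal, Ideal.map_map,
      show g.comp (algebraMap R (Localization.AtPrime P)) =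
        (algebraMap S (Localization.AtPrime Q)).comp (algebraMap R S) from
          RingHom.ext fun x => Localization.localRingHom_to_map P Q (algebraMap R S) (Ideal.LiesOver.over (P := Q) (p := P)) x,
      ← Ideal.map_map, ← h, Localization.AtPrime.map_eq_maximalIdeal]
  have hle : (maximalIdeal (Localization.AtPrime Q)).spanFinrank ≤
      (maximalIdeal (Localization.AtPrime P)).spanFinrank := by
    rw [← hm]
    exact Ideal.spanFinrank_map_le_of_fg _ (IsNoetherian.noetherian _)
  rw [IsLocalization.AtPrime.ringKrullDim_eq_height Q, hh,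
    ← IsLocalization.AtPrime.ringKrullDim_eq_height P (Localization.AtPrime P),
    ← IsRegularLocalRing.spanFinrank_maximalIdeal]
  exact_mod_cast hle

theorem exists_sub_mem (A : Type u) [CommRing A] [IsLocalRing A] [IsNoetherianRing A]
    (b : Curv2.cpl A) : ∃ a : A, b - algebraMap A (Curv2.cpl A) a ∈
      (maximalIdeal A).map (algebraMap A (Curv2.cpl A)) := by
  obtain ⟨a, ha⟩ := Ideal.Quotient.mk_surjective (AdicCompletion.evalOneₐ (maximalIdeal A) b)
  refine ⟨a, ?_⟩
  rw [← AdicCompletion.ker_evalOneₐ_eq_map (maximalIdeal A) (IsNoetherian.noetherian _), RingHom.mem_ker, map_sub,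
    sub_eq_zero]
  refine ha.symm.trans ?_
  rfl

theorem regular_tensor_completion (A : Type u) [CommRing A] [IsLocalRing A] [IsNoetherianRing A]
    (R : Type u) [CommRing R] [Algebra A R] [Algebra.FiniteType A R] (Q : Ideal (R ⊗[A] Curv2.cpl A)) [Q.IsPrime]
    (hm : maximalIdeal A ≤ (Q.comap (algebraMap R (R ⊗[A] Curv2.cpl A))).comap (algebraMap A R))
    [IsRegularLocalRing (Localization.AtPrime (Q.comap (algebraMap R (R ⊗[A] Curv2.cpl A))))] :
    IsRegularLocalRing (Localization.AtPrime Q) := by
  haveI : IsNoetherianRing R := Algebra.FiniteType.isNoetherianRing A R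
  haveI : IsNoetherianRing (Curv2.cpl A) := RegLocal.isNoetherianRing_completion A _
  haveI : Module.FaithfullyFlat A (Curv2.cpl A) :=
    RegLocal.faithfullyFlat_completion A _ (maximalIdeal.isMaximal A).ne_top
  haveI : IsNoetherianRing (R ⊗[A] Curv2.cpl A) := by
    haveI : IsNoetherianRing (Curv2.cpl A ⊗[A] R) :=
      Algebra.FiniteType.isNoetherianRing (Curv2.cpl A) _
    exact isNoetherianRing_of_ringEquiv _ (Algebra.TensorProduct.comm A (Curv2.cpl A) R).toRingEquiv
  set P := Q.comap (algebraMap R (R ⊗[A] Curv2.cpl A))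
  haveI : Q.LiesOver P := ⟨rfl⟩
  refine regular_localization_of_map_eq P Q (le_antisymm ?_ Ideal.map_comap_le)
  have key : ∀ s : R ⊗[A] Curv2.cpl A, ∃ r : R,
      s - algebraMap R _ r ∈ P.map (algebraMap R (R ⊗[A] Curv2.cpl A)) := by
    intro s
    induction s using TensorProduct.induction_on with
    | zero => exact ⟨0, by simp⟩
    | add s t hs ht =>
      obtain ⟨r, hr⟩ := hs
      obtain ⟨r', hr'⟩ := ht
      exact ⟨r + r', by rw [map_add, add_sub_add_comm]; exact add_mem hr hr'⟩
    | tmul r b =>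
      obtain ⟨a, ha⟩ := exists_sub_mem A b
      refine ⟨a • r, ?_⟩
      have e : r ⊗ₜ[A] b - algebraMap R (R ⊗[A] Curv2.cpl A) (a • r) =
          r ⊗ₜ[A] (b - algebraMap A (Curv2.cpl A) a) := by
        rw [TensorProduct.tmul_sub, Algebra.TensorProduct.algebraMap_apply, Algebra.algebraMap_self,
          RingHom.id_apply, TensorProduct.smul_tmul, ← Algebra.algebraMap_eq_smul_one]
      rw [e]
      have h1 : ((maximalIdeal A).map (algebraMap A (Curv2.cpl A))).map
          (Algebra.TensorProduct.includeRight : Curv2.cpl A →ₐ[A] R ⊗[A] Curv2.cpl A) ≤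
            P.map (algebraMap R (R ⊗[A] Curv2.cpl A)) := by
        erw [Ideal.map_map, Algebra.TensorProduct.includeRight.comp_algebraMap,
          IsScalarTower.algebraMap_eq A R (R ⊗[A] Curv2.cpl A), ← Ideal.map_map]
        exact Ideal.map_mono (Ideal.map_le_iff_le_comap.2 hm)
      rw [show r ⊗ₜ[A] (b - algebraMap A (Curv2.cpl A) a) = (r ⊗ₜ[A] (1 : Curv2.cpl A)) *
        ((1 : R) ⊗ₜ[A] (b - algebraMap A (Curv2.cpl A) a)) by simp]
      exact Ideal.mul_mem_left _ _ (h1 (Ideal.mem_map_of_mem _ ha))
  intro s hs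
  obtain ⟨r, hr⟩ := key s
  have hrP : r ∈ P := by
    have h2 : s - (s - algebraMap R _ r) ∈ Q := Q.sub_mem hs (Ideal.map_comap_le hr)
    rwa [sub_sub_cancel] at h2
  rw [← sub_add_cancel s (algebraMap R _ r)]
  exact add_mem hr (Ideal.mem_map_of_mem _ hrP)

/-- Regularity of a scheme at a point of an affine chart. -/
theorem stalk_regular_iff_of_immersion {R : CommRingCat.{u}} {X : Scheme.{u}} (j : Spec R ⟶ X) [IsOpenImmersion j]
    (w : Spec R) : IsRegularLocalRing (X.presheaf.stalk (j w)) ↔ IsRegularLocalRing (Localization.AtPrime w.asIdeal) := by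
  let e₁ : X.presheaf.stalk (j w) ≅ (Spec R).presheaf.stalk w := asIso (j.stalkMap w)
  let e₂ : (Spec R).presheaf.stalk w ≅ CommRingCat.of (Localization.AtPrime w.asIdeal) :=
    Spec.stalkIso R w
  let e := (e₁ ≪≫ e₂).commRingCatIsoToRingEquiv
  exact ⟨fun h => IsRegularLocalRing.of_ringEquiv e, fun h => IsRegularLocalRing.of_ringEquiv e.symm⟩

theorem regular_stalk_of_specializes {X : Scheme.{u}} {x y : X} (h : x ⤳ y)
    (hy : IsRegularLocalRing (X.presheaf.stalk y)) : IsRegularLocalRing (X.presheaf.stalk x) := by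
  obtain ⟨U, hU, hyU, -⟩ := exists_isAffineOpen_mem_and_subset (X := X) (U := ⊤) (x := y) trivial
  have hxU : x ∈ U := h.mem_open U.2 hyU
  obtain ⟨q, rfl⟩ : x ∈ Set.range hU.fromSpec := by rw [hU.range_fromSpec]; exact hxU
  obtain ⟨p, rfl⟩ : y ∈ Set.range hU.fromSpec := by rw [hU.range_fromSpec]; exact hyU
  rw [stalk_regular_iff_of_immersion hU.fromSpec] at hy ⊢
  have h' := (PrimeSpectrum.le_iff_specializes q p).2 ((hU.fromSpec.isOpenEmbedding.isInducing.specializes_iff (x := q) (y := p)).1 h)
  exact RegLocLib.mem_regLocus_of_le (p := p) (q := q) h' hy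

/-- Let A be a Noetherian local ring with completion A^, X a scheme proper over Spec A and Y its base
change to Spec A^. Then all local rings of X are regular if and only if all local rings of Y are
regular. -/
theorem result (A : Type u) [CommRing A] [IsLocalRing A] [IsNoetherianRing A]
    (X : Scheme.{u}) (f : X ⟶ Spec (CommRingCat.of A)) [IsProper f] :
    (∀ x : X, IsRegularLocalRing (X.presheaf.stalk x)) ↔
      ∀ y : Curv2.bcCpl A f, IsRegularLocalRing ((Curv2.bcCpl A f).presheaf.stalk y) := by
  haveI : IsNoetherianRing (Curv2.cpl A) := RegLocal.isNoetherianRing_completion A _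
  have hI : maximalIdeal A ≠ ⊤ := (maximalIdeal.isMaximal A).ne_top
  haveI : IsLocalRing (Curv2.cpl A) := RegLocal.isLocalRing_completion A _ hI
  haveI : Module.FaithfullyFlat A (Curv2.cpl A) := RegLocal.faithfullyFlat_completion A _ hI
  haveI : Flat (Spec.map (CommRingCat.ofHom (algebraMap A (Curv2.cpl A)))) := by
    rw [HasRingHomProperty.Spec_iff (P := @Flat)]
    exact RingHom.flat_algebraMap_iff.2 inferInstance
  haveI : Surjective (Spec.map (CommRingCat.ofHom (algebraMap A (Curv2.cpl A)))) :=
    ⟨PrimeSpectrum.comap_surjective_of_faithfullyFlat (A := A) (B := Curv2.cpl A)⟩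
  haveI : IsLocallyNoetherian X := LocallyOfFiniteType.isLocallyNoetherian f
  haveI : IsProper (Curv2.bcCplSnd A f) := inferInstance
  haveI : IsLocallyNoetherian (Curv2.bcCpl A f) := LocallyOfFiniteType.isLocallyNoetherian (Curv2.bcCplSnd A f)
  constructor
  · intro hX y
    haveI : CompactSpace (Curv2.bcCpl A f) := QuasiCompact.compactSpace_of_compactSpace (Curv2.bcCplSnd A f)
    obtain ⟨z, hz, hzc⟩ := (isClosed_closure (s := {y})).exists_closed_singleton
      ⟨y, subset_closure rfl⟩
    refine regular_stalk_of_specializes (specializes_iff_mem_closure.2 hz) ?_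
    -- the closed point lies over the closed point
    have hcl : Curv2.bcCplSnd A f z = IsLocalRing.closedPoint (Curv2.cpl A) := by
      have h1 := (Curv2.bcCplSnd A f).isClosedMap _ hzc
      rw [Set.image_singleton] at h1
      exact PrimeSpectrum.ext (eq_maximalIdeal ((PrimeSpectrum.isClosed_singleton_iff_isMaximal _).1 h1))
    let x := Curv2.bcCplFst A f z
    obtain ⟨U, hU, hxU, -⟩ := exists_isAffineOpen_mem_and_subset (X := X) (U := ⊤) (x := x) trivial
    let φ := Spec.preimage (hU.fromSpec ≫ f)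
    have hφ : Spec.map φ = hU.fromSpec ≫ f := Spec.map_preimage _
    letI : Algebra A Γ(X, U) := φ.hom.toAlgebra
    haveI : Algebra.FiniteType A Γ(X, U) := by
      have h1 : LocallyOfFiniteType (Spec.map φ) := hφ ▸ inferInstance
      exact (HasRingHomProperty.Spec_iff (P := @LocallyOfFiniteType)).1 h1
    let m := Limits.pullback.map (Spec.map φ) (Spec.map (CommRingCat.ofHom (algebraMap A (Curv2.cpl A)))) f
      (Spec.map (CommRingCat.ofHom (algebraMap A (Curv2.cpl A)))) hU.fromSpec (𝟙 _) (𝟙 _)
      (by rw [Category.comp_id, hφ]) (by simp)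
    let j : Spec (CommRingCat.of (Γ(X, U) ⊗[A] Curv2.cpl A)) ⟶ Curv2.bcCpl A f :=
      (pullbackSpecIso A Γ(X, U) (Curv2.cpl A)).inv ≫ m
    obtain ⟨w, hw⟩ : z ∈ Set.range j := by
      have : z ∈ Set.range m := by
        rw [Scheme.Pullback.range_map]
        exact ⟨by rw [Set.mem_preimage, hU.range_fromSpec]; exact hxU, by simp⟩
      obtain ⟨v, hv⟩ := this
      obtain ⟨w, rfl⟩ := (pullbackSpecIso A Γ(X, U) (Curv2.cpl A)).inv.surjective v
      exact ⟨w, by rw [← hv]; exact Scheme.Hom.comp_apply _ _ _⟩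
    rw [← hw, stalk_regular_iff_of_immersion j]
    have e1 : j ≫ Curv2.bcCplFst A f =
        Spec.map (CommRingCat.ofHom (algebraMap Γ(X, U) (Γ(X, U) ⊗[A] Curv2.cpl A))) ≫ hU.fromSpec := by
      rw [Category.assoc]
      erw [pullback.lift_fst]
      rw [← Category.assoc]
      erw [pullbackSpecIso_inv_fst']
    have e2 : hU.fromSpec (PrimeSpectrum.comap (algebraMap Γ(X, U) (Γ(X, U) ⊗[A] Curv2.cpl A)) w) = x := by
      show _ = Curv2.bcCplFst A f z
      rw [← hw, ← Scheme.Hom.comp_apply, e1, Scheme.Hom.comp_apply]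
      rfl
    haveI : IsRegularLocalRing (Localization.AtPrime
        (w.asIdeal.comap (algebraMap Γ(X, U) (Γ(X, U) ⊗[A] Curv2.cpl A)))) :=
      (stalk_regular_iff_of_immersion hU.fromSpec
        (PrimeSpectrum.comap (algebraMap Γ(X, U) (Γ(X, U) ⊗[A] Curv2.cpl A)) w)).1 (hX _)
    refine regular_tensor_completion A Γ(X, U) w.asIdeal (le_of_eq ?_)
    have h2 : f x = Spec.map (CommRingCat.ofHom (algebraMap A (Curv2.cpl A))) (IsLocalRing.closedPoint (Curv2.cpl A)) := by
      rw [← hcl, ← Scheme.Hom.comp_apply, ← Scheme.Hom.comp_apply, pullback.condition]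
    have h3 : PrimeSpectrum.comap φ.hom (PrimeSpectrum.comap (algebraMap Γ(X, U) (Γ(X, U) ⊗[A] Curv2.cpl A)) w) = f x := by
      rw [← e2, ← Scheme.Hom.comp_apply, ← hφ]
      rfl
    rw [h2] at h3
    refine Eq.trans ?_ (congrArg PrimeSpectrum.asIdeal h3).symm
    haveI : IsLocalHom (algebraMap A (Curv2.cpl A)) := by
      refine ((IsLocalRing.local_hom_TFAE _).out 0 2).mpr ?_
      rw [RegLocal.maximalIdeal_completion A _ hI]
    exact (IsLocalRing.maximalIdeal_comap (algebraMap A (Curv2.cpl A))).symm
  · intro hY x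
    obtain ⟨y, rfl⟩ := (Curv2.bcCplFst A f).surjective x
    haveI := hY y
    have hfl := Flat.stalkMap (Curv2.bcCplFst A f) y
    letI := ((Curv2.bcCplFst A f).stalkMap y).hom.toAlgebra
    haveI : Module.Flat (X.presheaf.stalk (Curv2.bcCplFst A f y)) ((Curv2.bcCpl A f).presheaf.stalk y) := hfl
    haveI : IsLocalHom (algebraMap (X.presheaf.stalk (Curv2.bcCplFst A f y)) ((Curv2.bcCpl A f).presheaf.stalk y)) :=
      inferInstanceAs (IsLocalHom ((Curv2.bcCplFst A f).stalkMap y).hom)
    exact RegLocal.isRegularLocalRing_of_flat _ ((Curv2.bcCpl A f).presheaf.stalk y)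

end Groth.Agent.S1597
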