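import Groth.Statements.S15976
import Groth.Agent.AmpleLib.GenLocus
import Groth.Agent.AssLib.Morph
import Groth.Agent.AssLib.Push
import Groth.Agent.AssLib.Noetherian
import Groth.Agent.ParHilbLib.Basic
import Groth.Agent.DCohLib.TensorPerf
-- import your own Groth.Agent.* helpers here

set_option autoImplicit false
universe u
open IntSh

namespace Groth.Agent.S15976


section

open CategoryTheory CategoryTheory.Limits AlgebraicGeometry Opposite

open Groth.Agent Groth.Agent.PullbackMod Groth.Agent.ParaFLib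

/-- Vectors over a local ring with infinite residue field avoiding finitely many nonzero linear forms. -/
theorem exists_avoid {A : Type u} [CommRing A] [IsLocalRing A] [IsNoetherianRing A]
    (hA : Infinite (IsLocalRing.ResidueField A)) {n : ℕ} {ι : Type*} [Finite ι]
    (K : ι → Submodule A (Fin n → A)) (hK : ∀ z, K z ≠ ⊤) : ∃ a : Fin n → A, ∀ z, a ∉ K z := by
  haveI : RingHomSurjective (IsLocalRing.residue A) := ⟨Ideal.Quotient.mk_surjective⟩
  let π : (Fin n → A) →ₛₗ[IsLocalRing.residue A] (Fin n → IsLocalRing.ResidueField A) :=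
    { toFun := fun a i => IsLocalRing.residue A (a i)
      map_add' := fun a b => funext fun i => map_add _ _ _
      map_smul' := fun c a => funext fun i => map_mul _ _ _ }
  have hπ : ∀ b, ∃ a, π a = b := fun b => by
    choose a ha using fun i => Ideal.Quotient.mk_surjective (b i)
    exact ⟨a, funext ha⟩
  have hne : ∀ z, (K z).map π ≠ ⊤ := fun z h => hK z <| by
    rw [eq_top_iff]
    refine Submodule.le_of_le_smul_of_le_jacobson_bot Module.Finite.fg_top
      (IsLocalRing.maximalIdeal_le_jacobson ⊥) fun a _ => ?_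
    obtain ⟨b, hb, hb'⟩ := h.symm ▸ (Submodule.mem_top (x := π a))
    refine Submodule.mem_sup.2 ⟨b, hb, a - b, ?_, add_sub_cancel b a⟩
    have h0 : ∀ i, (a - b) i ∈ IsLocalRing.maximalIdeal A := fun i => by
      refine (IsLocalRing.residue_eq_zero_iff _).1 ?_
      rw [Pi.sub_apply, map_sub, sub_eq_zero]
      exact (congrFun hb' i).symm
    rw [pi_eq_sum_univ' (a - b)]
    exact sum_mem fun i _ => Submodule.smul_mem_smul (h0 i) trivial
  haveI := hA
  obtain ⟨x, hx⟩ := Submodule.exists_forall_notMem_of_forall_ne_top (fun z => (K z).map π) hne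
  obtain ⟨a, rfl⟩ := hπ x
  exact ⟨a, fun z ha => hx z ⟨a, ha, rfl⟩⟩

theorem finite_assPoints' {X : Scheme.{u}} [IsLocallyNoetherian X] [CompactSpace X] {F : X.Modules} (hF : Coh.IsCoh F) :
    {x : X | Curv2.IsAssPoint F x}.Finite := by
  obtain ⟨S, hS⟩ := isCompact_univ.elim_finite_subcover (fun V : X.affineOpens => (V.1 : Set X))
    (fun V => V.1.isOpen) fun x _ => by
      obtain ⟨V, hV, hxV, -⟩ := exists_isAffineOpen_mem_and_subset (x := x) (U := ⊤) trivial
      exact Set.mem_iUnion.2 ⟨⟨V, hV⟩, hxV⟩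
  refine (Set.Finite.biUnion S.finite_toSet fun V _ => AssLib.finite_ass_affine hF V.2).subset fun x hx => ?_
  obtain ⟨V, hV, hxV⟩ := Set.mem_iUnion₂.1 (hS (Set.mem_univ x))
  exact Set.mem_iUnion₂.2 ⟨V, hV, hxV, hx⟩

theorem bijective_stalkLin_of_mem {X : Scheme.{u}} {L : X.Modules} (hL : PicF.IsInvertible L)
    (s : Coh.structureModule X ⟶ L) {x : X} (hx : x ∈ CohB1.genLocus L s) :
    Function.Bijective (stalkLin s x) := by
  have h1 := (AmpleLib.mem_genLocus_iff hL).1 hx
  have h2 : ((stalkLin s x : _ → _) ∘ fun r : X.presheaf.stalk x => r • oneG x) =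
      fun r => r • L.presheaf.germ ⊤ x trivial (AmpleLib.sec s) := funext fun r => by
    show stalkLin s x (r • oneG x) = _
    rw [map_smul]
    exact congrArg (r • ·) (stalkLin_germ s (U := ⊤) x trivial _)
  exact (Function.Bijective.of_comp_iff _ (bijective_oneG x)).1 (h2 ▸ h1)

theorem mono_tensor {X : Scheme.{u}} {L : X.Modules} (hL : PicF.IsInvertible L) (s : Coh.structureModule X ⟶ L)
    (F : X.Modules) [Coh.IsQCoh F] (h : ∀ x, Curv2.IsAssPoint F x → x ∈ CohB1.genLocus L s) :
    Mono (((DCoh.tensorBi (X := X)).obj F).map s) := by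
  let e := DCohLib.tensorStructureIso F
  let φ := e.inv ≫ ((DCoh.tensorBi (X := X)).obj F).map s
  have hinj : ∀ V, Function.Injective (φ.app V) := AssLib.app_injective_of φ fun x => by
    by_cases hx : Curv2.IsWeakAssPoint F x
    · left
      show Function.Injective (stalkLin (e.inv ≫ ((DCoh.tensorBi (X := X)).obj F).map s) x)
      rw [stalkLin_comp, LinearMap.coe_comp]
      refine Function.Injective.comp ?_ ?_
      · exact (ParHilbLib.bijective_stalk_tensor_right s F
          (bijective_stalkLin_of_mem hL s (h x ((AssLib.isWeakAssPoint_iff_isAssPoint F x).1 hx)))).1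
      · exact (mono_iff_stalk e.inv).1 inferInstance x
    · exact Or.inr hx
  haveI : Mono φ.mapPresheaf := by
    rw [NatTrans.mono_iff_mono_app]
    exact fun U => (AddCommGrpCat.mono_iff_injective _).2 (hinj U.unop)
  haveI : Mono φ := (Scheme.Modules.toPresheaf X).mono_of_mono_map (f := φ) ‹Mono φ.mapPresheaf›
  have h2 : ((DCoh.tensorBi (X := X)).obj F).map s = e.hom ≫ φ := (e.hom_inv_id_assoc _).symm
  rw [h2]
  infer_instance

theorem exists_form {A : Type u} [CommRing A] {X : Scheme.{u}} (ρ : A →+* Γ(X, ⊤)) {L : X.Modules}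
    (hL : PicF.IsInvertible L) {n : ℕ} (σ : Fin n → (Coh.structureModule X ⟶ L)) {x : X}
    (hgen : ∃ i, x ∈ CohB1.genLocus L (σ i)) :
    ∃ K : Submodule A (Fin n → A), K ≠ ⊤ ∧ ∀ a, a ∉ K →
      x ∈ CohB1.genLocus L (DCohLib.secHom L (∑ i, ρ (a i) • AmpleLib.sec (σ i))) := by
  obtain ⟨e, he⟩ := exists_stalk_gen hL x
  let g : Γ(X, ⊤) →+* X.presheaf.stalk x := (X.presheaf.germ ⊤ x trivial).hom
  choose c hc using fun i => he.2 (L.presheaf.germ ⊤ x trivial (AmpleLib.sec (σ i)))
  have hunit : ∀ (u : X.presheaf.stalk x) (s : Coh.structureModule X ⟶ L),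
      L.presheaf.germ ⊤ x trivial (AmpleLib.sec s) = u • e → (x ∈ CohB1.genLocus L s ↔ IsUnit u) := fun u s hu => by
    rw [AmpleLib.mem_genLocus_iff hL, hu]
    constructor
    · intro hb
      obtain ⟨r, hr⟩ := hb.2 e
      refine IsUnit.of_mul_eq_one r (he.1 ?_)
      show (u * r) • e = (1 : X.presheaf.stalk x) • e
      rw [one_smul, mul_comm, mul_smul]; exact hr
    · intro hu'
      simp only [smul_smul]
      exact he.comp (hu'.unit.mulRight).bijective
  refine ⟨{ carrier := {a | ∑ i, g (ρ (a i)) * c i ∈ IsLocalRing.maximalIdeal _}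
            add_mem' := fun {a b} ha hb => ?_
            zero_mem' := by simp
            smul_mem' := fun r a ha => ?_ }, fun h => ?_, fun a ha => ?_⟩
  · rw [Set.mem_ofPred_eq] at ha hb ⊢
    simp only [Pi.add_apply, map_add, add_mul, Finset.sum_add_distrib]
    exact Ideal.add_mem _ ha hb
  · rw [Set.mem_ofPred_eq] at ha ⊢
    simp only [Pi.smul_apply, smul_eq_mul, map_mul, mul_assoc]
    rw [← Finset.sum_congr rfl (fun i _ => rfl)]
    convert Ideal.mul_mem_left (IsLocalRing.maximalIdeal _) (g (ρ r)) ha using 1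
    rw [Finset.mul_sum]
  · obtain ⟨i, hi⟩ := hgen
    have hu := (hunit (c i) (σ i) (hc i).symm).1 hi
    have h1 : Pi.single i (1 : A) ∈ ({a | ∑ j, g (ρ (a j)) * c j ∈ IsLocalRing.maximalIdeal _} : Set (Fin n → A)) :=
      (SetLike.ext_iff.1 h _).2 trivial
    simp only [Set.mem_setOf_eq] at h1
    rw [Finset.sum_eq_single i (fun j _ hj => by simp [Pi.single_eq_of_ne hj]) (by simp),
      Pi.single_eq_same, map_one, map_one, one_mul] at h1
    exact (IsLocalRing.mem_maximalIdeal _).1 h1 hu
  · refine (hunit (∑ i, g (ρ (a i)) * c i) _ ?_).2 (by by_contra hn; exact ha ((IsLocalRing.mem_maximalIdeal _).2 hn))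
    rw [AmpleLib.sec_secHom, map_sum, Finset.sum_smul]
    refine Finset.sum_congr rfl fun i _ => ?_
    refine (germ_smul' (U := ⊤) x trivial (ρ (a i)) (AmpleLib.sec (σ i))).trans ?_
    rw [mul_smul]
    exact congrArg (g (ρ (a i)) • ·) (hc i).symm

end

open CategoryTheory CategoryTheory.Limits AlgebraicGeometry Opposite in
/-- Let A be a Noetherian local ring with infinite residue field, V a Noetherian scheme over Spec A, L
an invertible O_V-module generated by finitely many global sections σ_0, …, σ_N (at every point some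
σ_i generates L), and F_1, …, F_m coherent O_V-modules. Then some A-linear combination σ of the σ_i
is F_j-regular for every j, regularity of a global section σ of L with respect to F meaning that the
map F ⊗ O_V → F ⊗ L induced by σ is injective. The combination is expressed through the global
sections σ(1), σ_i(1) ∈ Γ(V, L) and the images in Γ(V, O_V) of the coefficients from A. -/
theorem result
    {A : Type u} [CommRing A] [IsNoetherianRing A] [IsLocalRing A]
    (hA : Infinite (IsLocalRing.ResidueField A))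
    {V : Scheme.{u}} [IsNoetherian V] (f : V ⟶ Spec (CommRingCat.of A))
    (L : V.Modules) (hL : PicF.IsInvertible L)
    {N : ℕ} (σ : Fin (N + 1) → (Coh.structureModule V ⟶ L))
    (hgen : ∀ x : V, ∃ i, x ∈ CohB1.genLocus L (σ i))
    {m : ℕ} (F : Fin m → V.Modules) (hF : ∀ j, Coh.IsCoh (F j)) :
    ∃ (τ : Coh.structureModule V ⟶ L) (a : Fin (N + 1) → A),
      τ.val.app (op ⊤) (1 : V.ringCatSheaf.obj.obj (op ⊤)) =
        ∑ i, f.appTop ((Scheme.ΓSpecIso (CommRingCat.of A)).inv (a i)) •
          (σ i).val.app (op ⊤) (1 : V.ringCatSheaf.obj.obj (op ⊤)) ∧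
      ∀ j, Mono (((DCoh.tensorBi (X := V)).obj (F j)).map τ) := by
  classical
  haveI : ∀ j, Coh.IsQCoh (F j) := fun j => (hF j).1
  let ρ : A →+* Γ(V, ⊤) := ((Scheme.ΓSpecIso (CommRingCat.of A)).inv ≫ f.appTop).hom
  let Z : Set V := ⋃ j, {x | Curv2.IsAssPoint (F j) x}
  have hZ : Z.Finite := Set.finite_iUnion fun j => finite_assPoints' (hF j)
  haveI := hZ.to_subtype
  choose K hK hK' using fun z : Z => exists_form ρ hL σ (hgen z.1)
  obtain ⟨a, ha⟩ := exists_avoid hA K hK
  refine ⟨Groth.Agent.DCohLib.secHom L (∑ i, ρ (a i) • Groth.Agent.AmpleLib.sec (σ i)), a,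
    Groth.Agent.AmpleLib.sec_secHom _, fun j => mono_tensor hL _ (F j) fun x hx => ?_⟩
  exact hK' ⟨x, Set.mem_iUnion.2 ⟨j, hx⟩⟩ a (ha _)

end Groth.Agent.S15976
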