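import Groth.Statements.S15977
import Groth.Agent.RelResLib.CoresMain
import Groth.Agent.ProjBundleLib.ProjMor
-- import your own Groth.Agent.* helpers here

set_option autoImplicit false
universe u
open IntSh
set_option backward.isDefEq.respectTransparency false
set_option linter.style.haveILetI false

namespace Groth.Agent.S15977

open CategoryTheory CategoryTheory.Limits AlgebraicGeometry in
/-- Let π : X → Y be a projective morphism of Noetherian schemes, F a coherent O_X-module flat over Y
whose support meets every fibre of π in a set of Krull dimension at most d, and assume that π is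
flat or that Y carries an ample invertible module. Then every finite locally free O_X-module E has a
resolution 0 → E → E_0 → ⋯ → E_d → 0 by finite locally free modules E_i with R^p π_*(F ⊗ E_i) = 0
for all p > 0 and all i. (The published statement takes Y connected and d equal to the constant
relative dimension of the support of F; this row asks only that the fibres of the support have
dimension at most d.) The resolution is written as an exact cochain complex C with C^0 ≅ E, C^{i+1}
= E_i and C^i = 0 for i > d + 1. -/
theorem result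
    {X Y : Scheme.{u}} [IsNoetherian X] [IsNoetherian Y] (π : X ⟶ Y)
    (hπ : RelProj.IsProjective π)
    [HasInjectiveResolutions X.Modules]
    (F : X.Modules) (hF : Coh.IsCoh F) (hFf : FlatMod.IsFlatOver π F)
    (d : ℕ) (hd : ∀ y : Y, topologicalKrullDim ↥{x : X | x ∈ CohB1.support F ∧ π.base x = y} ≤ d)
    (hAB : Flat π ∨ ∃ H : Y.Modules, CohB1.IsAmple H)
    (E : X.Modules) (hE : FlatMod.IsFinLocFree E) :
    ∃ (C : CochainComplex X.Modules ℕ) (e : C.X 0 ≅ E),
      C.Acyclic ∧ (∀ i, d + 1 < i → IsZero (C.X i)) ∧ (∀ i, FlatMod.IsFinLocFree (C.X i)) ∧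
      ∀ i, 1 ≤ i → ∀ p, 0 < p →
        IsZero ((Coh.Rpush π p).obj (((DCoh.tensorBi (X := X)).obj F).obj (C.X i))) := by
  obtain ⟨hp, -, -, L, hL⟩ := Groth.Agent.ProjBundleLib.isProper_of_isProjective hπ
  haveI := hp
  haveI : LocallyOfFinitePresentation π := inferInstance
  obtain ⟨K, i, w, hi, hex, hK, hzero, hflf, hgood⟩ := Groth.Agent.RelResLib.exists_cores π hF hFf
    (fun Z hZ => Groth.Agent.RelResLib.exists_step π hL hF hFf hAB Z hZ) d E hE
    (Groth.Agent.RelResLib.van_of_support π hF d hd hE)
  haveI := hi
  let C := CochainComplex.augment K i w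
  refine ⟨C, Iso.refl _, fun n => ?_, fun n hn => ?_, fun n => ?_, fun n hn p hp0 => ?_⟩
  · rcases n with _ | _ | n
    · rw [HomologicalComplex.exactAt_iff' _ 0 0 1 (by simp) (by simp)]
      exact (ShortComplex.exact_iff_mono _ (C.shape 0 0 (by simp))).2 hi
    · rw [HomologicalComplex.exactAt_iff' _ 0 1 2 (by simp) (by simp)]
      exact ShortComplex.exact_of_iso (ShortComplex.isoMk (Iso.refl _) (Iso.refl _) (Iso.refl _)
        (by simp [C]) (by simp [C])) hex
    · rw [HomologicalComplex.exactAt_iff' _ (n + 1) (n + 2) (n + 3) (by simp) (by simp)]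
      have hq := hK n
      rw [HomologicalComplex.exactAt_iff' _ n (n + 1) (n + 2) (by simp) (by simp)] at hq
      exact ShortComplex.exact_of_iso (ShortComplex.isoMk (Iso.refl _) (Iso.refl _) (Iso.refl _)
        (by simp [C]) (by simp [C])) hq
  · obtain ⟨j, rfl⟩ : ∃ j, n = j + 1 := ⟨n - 1, by omega⟩
    exact hzero j (by omega)
  · rcases n with _ | n
    · exact hE
    · exact hflf n
  · obtain ⟨j, rfl⟩ : ∃ j, n = j + 1 := ⟨n - 1, by omega⟩
    have hfp := Groth.Agent.UnifFibLib.isFP_tensor_flf ((Groth.Agent.QCohLib.isCoh_iff_isFP F).1 hF) (hflf j)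
    have hfl := Groth.Agent.FibVanLib.isFlatOver_tensor_flf π (hflf j) hFf
    refine (Groth.Agent.UnifFibLib.rpush_zero_and_push_flf π hfp hfl fun q hq s => ?_).1 p hp0
    haveI : Subsingleton (Coh.HH (π.fiber s) ((Scheme.Modules.pullback (π.fiberι s)).obj (CohB1.tensorMod (K.X j) F)) q) :=
      hgood j s q hq
    exact Groth.Agent.ProjCoh.subsingleton_of_iso
      ((Scheme.Modules.pullback (π.fiberι s)).mapIso (Groth.Agent.AmpleLib.comm F (K.X j))).symm q

end Groth.Agent.S15977
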