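import Groth.Statements.S1598
import Groth.Agent.S1597

set_option autoImplicit false
universe u
open CategoryTheory CategoryTheory.Limits AlgebraicGeometry
open Resolve

namespace Groth.Agent.S1598

open IsLocalRing TensorProduct

/-- Let A be a Noetherian local ring with completion A^, X locally of finite type over Spec A, Y its
base change to Spec A^, and y a point of Y lying over the closed point of Spec A^ with image x in X.
Then the local ring of Y at y is regular if and only if the local ring of X at x is regular. -/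
theorem result (A : Type u) [CommRing A] [IsLocalRing A] [IsNoetherianRing A]
    (X : Scheme.{u}) (f : X ⟶ Spec (CommRingCat.of A)) [LocallyOfFiniteType f]
    (y : Curv2.bcCpl A f) (hy : (Curv2.bcCplSnd A f).base y = IsLocalRing.closedPoint (Curv2.cpl A)) :
    IsRegularLocalRing ((Curv2.bcCpl A f).presheaf.stalk y) ↔
      IsRegularLocalRing (X.presheaf.stalk ((Curv2.bcCplFst A f).base y)) := by
  haveI : IsNoetherianRing (Curv2.cpl A) := RegLocal.isNoetherianRing_completion A _
  have hI : IsLocalRing.maximalIdeal A ≠ ⊤ := (IsLocalRing.maximalIdeal.isMaximal A).ne_top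
  haveI : IsLocalRing (Curv2.cpl A) := RegLocal.isLocalRing_completion A _ hI
  haveI : Module.FaithfullyFlat A (Curv2.cpl A) := RegLocal.faithfullyFlat_completion A _ hI
  haveI : Flat (Spec.map (CommRingCat.ofHom (algebraMap A (Curv2.cpl A)))) := by
    rw [HasRingHomProperty.Spec_iff (P := @Flat)]
    exact RingHom.flat_algebraMap_iff.2 inferInstance
  haveI : IsLocallyNoetherian X := LocallyOfFiniteType.isLocallyNoetherian f
  constructor
  swap
  · intro hX
    let z := y
    let x := Curv2.bcCplFst A f z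
    obtain ⟨U, hU, hxU, -⟩ := exists_isAffineOpen_mem_and_subset (X := X) (U := ⊤) (x := x) trivial
    let φ := Spec.preimage (hU.fromSpec ≫ f)
    have hφ : Spec.map φ = hU.fromSpec ≫ f := Spec.map_preimage _
    letI : Algebra A Γ(X, U) := φ.hom.toAlgebra
    haveI : Algebra.FiniteType A Γ(X, U) := by
      have h1 : LocallyOfFiniteType (Spec.map φ) := hφ ▸ inferInstance
      exact (HasRingHomProperty.Spec_iff (P := @LocallyOfFiniteType)).1 h1
    let m := Limits.pullback.map (Spec.map φ) (Spec.map (CommRingCat.ofHom (algebraMap A (Curv2.cpl A)))) f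
      (Spec.map (CommRingCat.ofHom (algebraMap A (Curv2.cpl A)))) hU.fromSpec (𝟙 _) (𝟙 _)
      (by rw [Category.comp_id, hφ]) (by simp)
    let j : Spec (CommRingCat.of (Γ(X, U) ⊗[A] Curv2.cpl A)) ⟶ Curv2.bcCpl A f :=
      (pullbackSpecIso A Γ(X, U) (Curv2.cpl A)).inv ≫ m
    obtain ⟨w, hw⟩ : z ∈ Set.range j := by
      have : z ∈ Set.range m := by
        rw [Scheme.Pullback.range_map]
        exact ⟨by rw [Set.mem_preimage, hU.range_fromSpec]; exact hxU, by simp⟩
      obtain ⟨v, hv⟩ := this
      obtain ⟨w, rfl⟩ := (pullbackSpecIso A Γ(X, U) (Curv2.cpl A)).inv.surjective v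
      exact ⟨w, by rw [← hv]; exact Scheme.Hom.comp_apply _ _ _⟩
    show IsRegularLocalRing ((Curv2.bcCpl A f).presheaf.stalk z)
    rw [← hw, Groth.Agent.S1597.stalk_regular_iff_of_immersion j]
    have e1 : j ≫ Curv2.bcCplFst A f =
        Spec.map (CommRingCat.ofHom (algebraMap Γ(X, U) (Γ(X, U) ⊗[A] Curv2.cpl A))) ≫ hU.fromSpec := by
      rw [Category.assoc]
      erw [pullback.lift_fst]
      rw [← Category.assoc]
      erw [pullbackSpecIso_inv_fst']
    have e2 : hU.fromSpec (PrimeSpectrum.comap (algebraMap Γ(X, U) (Γ(X, U) ⊗[A] Curv2.cpl A)) w) = x := by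
      show _ = Curv2.bcCplFst A f z
      rw [← hw, ← Scheme.Hom.comp_apply, e1, Scheme.Hom.comp_apply]
      rfl
    haveI : IsRegularLocalRing (Localization.AtPrime
        (w.asIdeal.comap (algebraMap Γ(X, U) (Γ(X, U) ⊗[A] Curv2.cpl A)))) :=
      (Groth.Agent.S1597.stalk_regular_iff_of_immersion hU.fromSpec
        (PrimeSpectrum.comap (algebraMap Γ(X, U) (Γ(X, U) ⊗[A] Curv2.cpl A)) w)).1 (e2.symm ▸ hX)
    refine Groth.Agent.S1597.regular_tensor_completion A Γ(X, U) w.asIdeal (le_of_eq ?_)
    have h2 : f x = Spec.map (CommRingCat.ofHom (algebraMap A (Curv2.cpl A))) (IsLocalRing.closedPoint (Curv2.cpl A)) := by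
      rw [← (show Curv2.bcCplSnd A f z = _ from hy), ← Scheme.Hom.comp_apply, ← Scheme.Hom.comp_apply, pullback.condition]
    have h3 : PrimeSpectrum.comap φ.hom (PrimeSpectrum.comap (algebraMap Γ(X, U) (Γ(X, U) ⊗[A] Curv2.cpl A)) w) = f x := by
      rw [← e2, ← Scheme.Hom.comp_apply, ← hφ]
      rfl
    rw [h2] at h3
    refine Eq.trans ?_ (congrArg PrimeSpectrum.asIdeal h3).symm
    haveI : IsLocalHom (algebraMap A (Curv2.cpl A)) := by
      refine ((IsLocalRing.local_hom_TFAE _).out 0 2).mpr ?_
      rw [RegLocal.maximalIdeal_completion A _ hI]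
    exact (IsLocalRing.maximalIdeal_comap (algebraMap A (Curv2.cpl A))).symm
  · intro hY
    haveI := hY
    have hfl := Flat.stalkMap (Curv2.bcCplFst A f) y
    letI := ((Curv2.bcCplFst A f).stalkMap y).hom.toAlgebra
    haveI : Module.Flat (X.presheaf.stalk (Curv2.bcCplFst A f y)) ((Curv2.bcCpl A f).presheaf.stalk y) := hfl
    haveI : IsLocalHom (algebraMap (X.presheaf.stalk (Curv2.bcCplFst A f y)) ((Curv2.bcCpl A f).presheaf.stalk y)) :=
      inferInstanceAs (IsLocalHom ((Curv2.bcCplFst A f).stalkMap y).hom)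
    exact RegLocal.isRegularLocalRing_of_flat _ ((Curv2.bcCpl A f).presheaf.stalk y)

end Groth.Agent.S1598
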