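import Groth.Statements.S15983
import Mathlib

set_option autoImplicit false
universe u v
open W4c3dlvarstrsh

namespace Groth.Agent.S15983

open Matrix

variable {F : Type u} [Field F] {m : ℕ}

/-- Coordinate subspace. -/
def U (i : ℕ) : Submodule F (Fin (m + 1) → F) where
  carrier := {x | ∀ j : Fin (m + 1), i ≤ j.val → x j = 0}
  zero_mem' := fun _ _ => rfl
  add_mem' := fun hx hy j hj => by simp [hx j hj, hy j hj]
  smul_mem' := fun a x hx j hj => by simp [hx j hj]

theorem mem_U {i : ℕ} {x : Fin (m + 1) → F} : x ∈ U i ↔ ∀ j : Fin (m + 1), i ≤ j.val → x j = 0 := Iff.rfl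

theorem U_mono {i j : ℕ} (h : i ≤ j) : (U i : Submodule F (Fin (m + 1) → F)) ≤ U j :=
  fun _ hx l hl => hx l (h.trans hl)

/-- Steps of the flag of a matrix. -/
noncomputable def V (g : GL (Fin (m + 1)) F) (i : ℕ) : Submodule F (Fin (m + 1) → F) :=
  (U i).map (Matrix.mulVecLin (g : Matrix (Fin (m + 1)) (Fin (m + 1)) F))

theorem V_mono (g : GL (Fin (m + 1)) F) {i j : ℕ} (h : i ≤ j) : V g i ≤ V g j := Submodule.map_mono (U_mono h)

theorem mem_V {g : GL (Fin (m + 1)) F} {i : ℕ} {x : Fin (m + 1) → F} :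
    x ∈ V g i ↔ (↑g⁻¹ : Matrix (Fin (m + 1)) (Fin (m + 1)) F) *ᵥ x ∈ U i := by
  constructor
  · rintro ⟨y, hy, rfl⟩
    rw [mulVecLin_apply, mulVec_mulVec, Units.inv_mul, one_mulVec]; exact hy
  · intro h
    exact ⟨_, h, by rw [mulVecLin_apply, mulVec_mulVec, Units.mul_inv, one_mulVec]⟩

/-- Pivots. -/
def piv (W : Submodule F (Fin (m + 1) → F)) : Set (Fin (m + 1)) :=
  {t | ∃ x ∈ W, x t ≠ 0 ∧ ∀ j, t < j → x j = 0}

theorem piv_mono {W W' : Submodule F (Fin (m + 1) → F)} (h : W ≤ W') : piv W ⊆ piv W' :=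
  fun _ ⟨x, hx, hx'⟩ => ⟨x, h hx, hx'⟩

theorem mem_of_piv {W : Submodule F (Fin (m + 1) → F)} :
    ∀ (N : ℕ) (x : Fin (m + 1) → F), (∀ j : Fin (m + 1), N ≤ j.val → x j = 0) →
      (∀ y : Fin (m + 1) → F, ∀ t : Fin (m + 1), t.val < N → y - x ∈ W → y t ≠ 0 → (∀ j, t < j → y j = 0) → t ∈ piv W) →
      x ∈ W := by
  intro N
  induction N with
  | zero => intro x hx _; rw [show x = 0 from funext fun j => hx j (Nat.zero_le _)]; exact zero_mem _
  | succ N ih =>
    intro x hx hp
    by_cases hN : N < m + 1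
    · by_cases hx0 : x ⟨N, hN⟩ = 0
      · refine ih x (fun j hj => ?_) (fun y t ht => hp y t (by omega))
        rcases eq_or_lt_of_le hj with e | e
        · rw [show j = ⟨N, hN⟩ from Fin.ext e.symm]; exact hx0
        · exact hx j e
      · obtain ⟨z, hz, hz0, hz1⟩ := hp x ⟨N, hN⟩ (by simp) (by simp) hx0 fun j hj => hx j (Fin.lt_def.mp hj)
        set a := x ⟨N, hN⟩ / z ⟨N, hN⟩
        have : x - a • z ∈ W := by
          refine ih _ (fun j hj => ?_) (fun y t ht hy => hp y t (by omega) ?_)
          · rcases eq_or_lt_of_le hj with e | e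
            · rw [show j = ⟨N, hN⟩ from Fin.ext e.symm]
              simp [a, div_mul_cancel₀ _ hz0]
            · simp [hx j e, hz1 j (Fin.lt_def.mpr e)]
          · have h2 := W.sub_mem hy (W.smul_mem a hz)
            rwa [show y - (x - a • z) - a • z = y - x by abel] at h2
        simpa using W.add_mem this (W.smul_mem a hz)
    · exact ih x (fun j hj => absurd j.2 (by omega)) fun y t ht => hp y t (by omega)

theorem le_of_piv_le {W W' : Submodule F (Fin (m + 1) → F)} (hWW : W ≤ W') (h : piv W' ⊆ piv W) : W' ≤ W :=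
  fun x hx => mem_of_piv (m + 1) x (fun j hj => absurd j.2 (by omega)) fun y t _ hy hy0 hy1 =>
    h ⟨y, by simpa using W'.add_mem (hWW hy) hx, hy0, hy1⟩

theorem col_mem (g : GL (Fin (m + 1)) F) (i : Fin (m + 1)) :
    (g : Matrix (Fin (m + 1)) (Fin (m + 1)) F) *ᵥ Pi.single i 1 ∈ V g (i.val + 1) ∧
      (g : Matrix (Fin (m + 1)) (Fin (m + 1)) F) *ᵥ Pi.single i 1 ∉ V g i.val := by
  refine ⟨⟨_, fun j hj => by rw [Pi.single_apply, if_neg (fun e => by subst e; omega)], rfl⟩, fun h => ?_⟩
  rw [mem_V, mulVec_mulVec, Units.inv_mul, one_mulVec] at h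
  simpa using h i le_rfl

theorem exists_pivot (g : GL (Fin (m + 1)) F) (i : Fin (m + 1)) :
    ∃! t, t ∈ piv (V g (i.val + 1)) ∧ t ∉ piv (V g i.val) := by
  have hex : ∃ t, t ∈ piv (V g (i.val + 1)) ∧ t ∉ piv (V g i.val) := by
    by_contra h
    push Not at h
    exact (col_mem g i).2 (le_of_piv_le (V_mono g (Nat.le_succ _)) h (col_mem g i).1)
  have hle : ∀ t t', t ∈ piv (V g (i.val + 1)) ∧ t ∉ piv (V g i.val) →
      t' ∈ piv (V g (i.val + 1)) ∧ t' ∉ piv (V g i.val) → ¬ t' < t := by
    rintro t t' ⟨⟨x, hx, hx0, hx1⟩, ht⟩ ⟨⟨y, hy, hy0, hy1⟩, ht'⟩ hlt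
    have hx' := mem_V.mp hx
    have hy' := mem_V.mp hy
    set a := ((↑g⁻¹ : Matrix (Fin (m + 1)) (Fin (m + 1)) F) *ᵥ x) i with ha
    set b := ((↑g⁻¹ : Matrix (Fin (m + 1)) (Fin (m + 1)) F) *ᵥ y) i with hb
    have hb0 : b ≠ 0 := fun h0 => ht' ⟨y, mem_V.mpr fun j hj => by
      rcases eq_or_lt_of_le hj with e | e
      · rw [← Fin.ext e, ← hb, h0]
      · exact hy' j e, hy0, hy1⟩
    refine ht ⟨b • x - a • y, mem_V.mpr fun j hj => ?_, ?_, fun j hj => ?_⟩
    · rw [mulVec_sub, mulVec_smul, mulVec_smul]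
      rcases eq_or_lt_of_le hj with e | e
      · obtain rfl : i = j := Fin.ext e
        rw [Pi.sub_apply, Pi.smul_apply, Pi.smul_apply, smul_eq_mul, smul_eq_mul, ← ha, ← hb, mul_comm, sub_self]
      · rw [Pi.sub_apply, Pi.smul_apply, Pi.smul_apply, hx' j e, hy' j e]; simp
    · simp [hy1 t hlt, hb0, hx0]
    · simp [hx1 j hj, hy1 j (hlt.trans hj)]
  obtain ⟨t, ht⟩ := hex
  refine ⟨t, ht, fun t' ht' => ?_⟩
  exact le_antisymm (not_lt.mp (hle t' t ht' ht)) (not_lt.mp (hle t t' ht ht'))

/-- The pivot of a step. -/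
noncomputable def pv (g : GL (Fin (m + 1)) F) (i : Fin (m + 1)) : Fin (m + 1) := (exists_pivot g i).exists.choose

theorem pv_spec (g : GL (Fin (m + 1)) F) (i : Fin (m + 1)) :
    pv g i ∈ piv (V g (i.val + 1)) ∧ pv g i ∉ piv (V g i.val) := (exists_pivot g i).exists.choose_spec

theorem pv_unique (g : GL (Fin (m + 1)) F) (i : Fin (m + 1)) {t : Fin (m + 1)}
    (h : t ∈ piv (V g (i.val + 1))) (h' : t ∉ piv (V g i.val)) : t = pv g i :=
  (exists_pivot g i).unique ⟨h, h'⟩ (pv_spec g i)

theorem piv_V (g : GL (Fin (m + 1)) F) : ∀ i, i ≤ m + 1 → ∀ t, t ∈ piv (V g i) ↔ ∃ j : Fin (m + 1), j.val < i ∧ pv g j = t := by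
  intro i
  induction i with
  | zero =>
    intro _ t
    constructor
    · rintro ⟨x, hx, hx0, -⟩
      have : x = 0 := by
        have h0 : (↑g⁻¹ : Matrix (Fin (m + 1)) (Fin (m + 1)) F) *ᵥ x = 0 := funext fun j => mem_V.mp hx j (Nat.zero_le _)
        simpa [mulVec_mulVec] using congrArg ((g : Matrix (Fin (m + 1)) (Fin (m + 1)) F) *ᵥ ·) h0
      exact absurd (by simp [this]) hx0
    · rintro ⟨j, hj, -⟩; omega
  | succ i ih =>
    intro hi t
    constructor
    · intro ht
      by_cases h : t ∈ piv (V g i)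
      · obtain ⟨j, hj, e⟩ := (ih (by omega) t).mp h
        exact ⟨j, by omega, e⟩
      · exact ⟨⟨i, by omega⟩, by simp, (pv_unique g ⟨i, by omega⟩ ht h).symm⟩
    · rintro ⟨j, hj, rfl⟩
      exact piv_mono (V_mono g (by omega)) (pv_spec g j).1

theorem pv_injective (g : GL (Fin (m + 1)) F) : Function.Injective (pv g) := by
  intro a b h
  by_contra hne
  wlog hab : a < b generalizing a b
  · exact this h.symm (Ne.symm hne) (lt_of_le_of_ne (not_lt.mp hab) (Ne.symm hne))
  exact (pv_spec g b).2 ((piv_V g b.val (by omega) _).mpr ⟨a, hab, h⟩)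

/-- The weight of the flag. -/
noncomputable def wt (g : GL (Fin (m + 1)) F) : ℕ := by
  classical
  exact ∑ i ∈ Finset.range (m + 2), ∑ t ∈ Finset.univ.filter (fun t => t ∈ piv (V g i)), t.val

theorem wt_le (g : GL (Fin (m + 1)) F) : wt g ≤ (m + 2) * ((m + 1) * (m + 1)) := by
  classical
  unfold wt
  refine (Finset.sum_le_card_nsmul _ _ ((m + 1) * (m + 1)) fun i _ => ?_).trans (by simp)
  refine (Finset.sum_le_card_nsmul _ _ (m + 1) fun t _ => t.2.le).trans ?_
  rw [smul_eq_mul]
  exact Nat.mul_le_mul_right _ ((Finset.card_le_univ _).trans (by simp))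

/-- The pivots increase along the reflections in `J`. -/
def Good (J : Finset (Fin m)) (g : GL (Fin (m + 1)) F) : Prop := ∀ k ∈ J, pv g k.castSucc < pv g k.succ

theorem mem_par {J : Finset (Fin m)} {p : GL (Fin (m + 1)) F} :
    p ∈ parabolic F J ↔ ∀ k, k ∉ J → ∀ x ∈ (U (k.val + 1) : Submodule F (Fin (m + 1) → F)),
      (p : Matrix (Fin (m + 1)) (Fin (m + 1)) F) *ᵥ x ∈ U (k.val + 1) := by
  constructor
  · intro hp k hk x hx r hr
    simp only [mulVec, dotProduct]
    refine Finset.sum_eq_zero fun c _ => ?_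
    by_cases hc : k.val + 1 ≤ c.val
    · simp [hx c hc]
    · have hlt : blockOf J c < blockOf J r := by
        refine Finset.card_lt_card (Finset.ssubset_iff_of_subset (fun l hl => ?_) |>.mpr ⟨k, ?_, ?_⟩)
        · simp only [Finset.mem_filter, Finset.mem_univ, true_and] at hl ⊢
          exact ⟨by omega, hl.2⟩
        · simpa using ⟨by omega, hk⟩
        · simp; omega
      have h0 : (p : Matrix (Fin (m + 1)) (Fin (m + 1)) F) r c = 0 := hp hlt
      simp [h0]
  · intro h r c hlt
    have : ∃ k, k ∉ J ∧ k.val < r.val ∧ c.val ≤ k.val := by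
      by_contra hcon
      push Not at hcon
      refine absurd hlt (not_lt.mpr (Finset.card_le_card fun l hl => ?_))
      simp only [Finset.mem_filter, Finset.mem_univ, true_and] at hl ⊢
      exact ⟨hcon l hl.2 hl.1, hl.2⟩
    obtain ⟨k, hk, h1, h2⟩ := this
    have h3 := h k hk (Pi.single c 1) (fun j hj => by rw [Pi.single_apply, if_neg (fun e => by subst e; omega)]) r (by omega)
    simpa using h3

theorem par_mono {J J' : Finset (Fin m)} (h : J ⊆ J') : parabolic F J ≤ parabolic F J' :=
  fun _ hp => mem_par.mpr fun k hk => mem_par.mp hp k fun h' => hk (h h')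

theorem V_coset {J : Finset (Fin m)} {g h : GL (Fin (m + 1)) F} :
    g⁻¹ * h ∈ parabolic F J ↔ ∀ k, k ∉ J → V g (k.val + 1) = V h (k.val + 1) := by
  have key : ∀ a b : GL (Fin (m + 1)) F, a⁻¹ * b ∈ parabolic F J ↔ ∀ k, k ∉ J → V b (k.val + 1) ≤ V a (k.val + 1) := by
    intro a b
    rw [mem_par]
    refine forall₂_congr fun k _ => ⟨fun hp => ?_, fun hp x hx => ?_⟩
    · rintro _ ⟨x, hx, rfl⟩
      rw [mem_V, mulVecLin_apply, mulVec_mulVec]
      simpa using hp x hx
    · have := mem_V.mp (hp ⟨x, hx, rfl⟩)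
      rw [mulVecLin_apply, mulVec_mulVec] at this
      simpa using this
  constructor
  · intro hgh k hk
    refine le_antisymm ((key h g).mp ?_ k hk) ((key g h).mp hgh k hk)
    simpa using (parabolic F J).inv_mem hgh
  · exact fun hh => (key g h).mpr fun k hk => (hh k hk).ge

theorem V_top (g : GL (Fin (m + 1)) F) {i : ℕ} (h : m + 1 ≤ i) : V g i = ⊤ :=
  eq_top_iff.mpr fun x _ => mem_V.mpr fun j hj => absurd j.2 (by omega)

theorem V_bot (g : GL (Fin (m + 1)) F) : V g 0 = ⊥ := by
  rw [V, show (U 0 : Submodule F (Fin (m + 1) → F)) = ⊥ from eq_bot_iff.mpr fun x hx => funext fun j => hx j (Nat.zero_le _), Submodule.map_bot]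

theorem V_eq_of_B {g h : GL (Fin (m + 1)) F} (hgh : g⁻¹ * h ∈ parabolic F (∅ : Finset (Fin m))) (i : ℕ) : V g i = V h i := by
  rcases Nat.eq_zero_or_pos i with rfl | hi
  · rw [V_bot, V_bot]
  by_cases hm : m + 1 ≤ i
  · rw [V_top g hm, V_top h hm]
  · have := V_coset.mp hgh ⟨i - 1, by omega⟩ (by simp)
    rwa [show i - 1 + 1 = i by omega] at this

theorem pv_congr {g h : GL (Fin (m + 1)) F} (hV : ∀ i, V g i = V h i) (i : Fin (m + 1)) : pv g i = pv h i :=
  pv_unique h i (by rw [← hV]; exact (pv_spec g i).1) (by rw [← hV]; exact (pv_spec g i).2)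

theorem wt_congr {g h : GL (Fin (m + 1)) F} (hV : ∀ i, V g i = V h i) : wt g = wt h := by
  classical
  unfold wt
  exact Finset.sum_congr rfl fun i _ => Finset.sum_congr (Finset.filter_congr fun t _ => by rw [hV]) fun _ _ => rfl

theorem exchange {g : GL (Fin (m + 1)) F} {k : Fin m} (hk : pv g k.succ < pv g k.castSucc) :
    ∃ p ∈ parabolic F ({k} : Finset (Fin m)), wt (g * p) < wt g := by
  classical
  obtain ⟨v, hv, hv0, hv1⟩ := (pv_spec g k.succ).1
  set q := pv g k.succ with hq
  set c := (↑g⁻¹ : Matrix (Fin (m + 1)) (Fin (m + 1)) F) *ᵥ v with hc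
  have hcU : ∀ j : Fin (m + 1), k.val + 2 ≤ j.val → c j = 0 := fun j hj => mem_V.mp hv j (by simp only [Fin.val_succ]; omega)
  have hcs : c k.succ ≠ 0 := fun h0 => (pv_spec g k.succ).2 ⟨v, mem_V.mpr fun j hj => by
    rcases eq_or_lt_of_le hj with e | e
    · rw [← Fin.ext e]; exact h0
    · exact hcU j (by simp only [Fin.val_succ] at e; omega), hv0, hv1⟩
  let e : Fin (m + 1) → (Fin (m + 1) → F) := fun i => Pi.single i 1
  let L : (Fin (m + 1) → F) →ₗ[F] (Fin (m + 1) → F) :=
    { toFun := fun x j => x k.castSucc * c j + (if j = k.castSucc then x k.succ else if j = k.succ then 0 else x j)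
      map_add' := fun x y => funext fun j => by simp only [Pi.add_apply]; split_ifs <;> ring
      map_smul' := fun a x => funext fun j => by simp only [Pi.smul_apply, smul_eq_mul, RingHom.id_apply]; split_ifs <;> ring }
  have hL : ∀ x j, L x j = x k.castSucc * c j + (if j = k.castSucc then x k.succ else if j = k.succ then 0 else x j) := fun _ _ => rfl
  have hne : k.succ ≠ k.castSucc := k.castSucc_lt_succ.ne'
  have hinj : Function.Injective L := by
    rw [injective_iff_map_eq_zero]
    intro x hx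
    have h1 : x k.castSucc = 0 := by
      have := congrFun hx k.succ
      rw [hL, if_neg hne, if_pos rfl, add_zero] at this
      simpa [hcs] using this
    funext j
    have := congrFun hx j
    rw [hL, h1, zero_mul, zero_add] at this
    by_cases hj : j = k.castSucc
    · subst hj; exact h1
    by_cases hj' : j = k.succ
    · subst hj'
      have h3 := congrFun hx k.castSucc
      rw [hL, h1, zero_mul, zero_add, if_pos rfl] at h3
      exact h3
    · rwa [if_neg hj, if_neg hj'] at this
  have hu : IsUnit (LinearMap.toMatrix' L) := by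
    rw [← Matrix.mulVec_injective_iff_isUnit]
    intro a b hab
    exact hinj (by simpa only [LinearMap.toMatrix'_mulVec] using hab)
  let p : GL (Fin (m + 1)) F := hu.unit
  have hpL : ∀ x, (p : Matrix (Fin (m + 1)) (Fin (m + 1)) F) *ᵥ x = L x := fun x => by
    rw [IsUnit.unit_spec, LinearMap.toMatrix'_mulVec]
  have hp : p ∈ parabolic F ({k} : Finset (Fin m)) := by
    refine mem_par.mpr fun l hl x hx j hj => ?_
    rw [hpL, hL]
    have hlk : l.val ≠ k.val := fun h => hl (by simp [Fin.ext h])
    rcases lt_or_gt_of_ne hlk with h | h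
    · rw [hx k.castSucc (by simp; omega), zero_mul, zero_add]
      split_ifs with a b
      · exact hx _ (by simp; omega)
      · rfl
      · exact hx j hj
    · rw [hcU j (by omega), mul_zero, zero_add]
      split_ifs with a b
      · exact hx _ (by subst a; simp at hj ⊢; omega)
      · rfl
      · exact hx j hj
  refine ⟨p, hp, ?_⟩
  have hVe : ∀ i, i ≠ k.val + 1 → V (g * p) i = V g i := by
    intro i hi
    rcases Nat.eq_zero_or_pos i with rfl | hi0
    · rw [V_bot, V_bot]
    by_cases hm : m + 1 ≤ i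
    · rw [V_top _ hm, V_top _ hm]
    · have h := (V_coset (g := g) (h := g * p)).mp (by simpa using hp) ⟨i - 1, by omega⟩ (by simp [Fin.ext_iff]; omega)
      rw [show i - 1 + 1 = i by omega] at h
      exact h.symm
  have hvm : v ∈ V (g * p) (k.val + 1) := by
    refine ⟨Pi.single k.castSucc 1, fun j hj => by rw [Pi.single_apply, if_neg (fun e => by subst e; simp at hj)], ?_⟩
    rw [mulVecLin_apply, Units.val_mul, ← mulVec_mulVec, hpL]
    have : L (Pi.single k.castSucc 1) = c := funext fun j => by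
      rw [hL]
      by_cases hj : j = k.castSucc
      · simp [hj, hne]
      · simp [hj, Pi.single_eq_of_ne hj]
    rw [this, hc, mulVec_mulVec, Units.mul_inv, one_mulVec]
  have hq0 : q ∉ piv (V g k.val) := fun h => by
    obtain ⟨j, hj, e'⟩ := (piv_V g k.val (by omega) q).mp h
    have := congrArg Fin.val (pv_injective g e')
    simp at this; omega
  have hpk : q = pv (g * p) k.castSucc :=
    pv_unique _ _ (by simpa using ⟨v, hvm, hv0, hv1⟩) (by rw [Fin.val_castSucc, hVe _ (by omega)]; exact hq0)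
  have hset : ∀ t, t ∈ piv (V (g * p) (k.val + 1)) ↔ (t ∈ piv (V g k.val) ∨ t = q) := fun t => by
    constructor
    · intro ht
      by_cases h : t ∈ piv (V (g * p) k.val)
      · exact Or.inl (by rwa [hVe _ (by omega)] at h)
      · exact Or.inr ((pv_unique (g * p) k.castSucc (by simpa using ht) (by simpa using h)).trans hpk.symm)
    · rintro (h | rfl)
      · rw [← hVe k.val (by omega)] at h; exact piv_mono (V_mono _ (by omega)) h
      · exact ⟨v, hvm, hv0, hv1⟩
  have hset' : ∀ t, t ∈ piv (V g (k.val + 1)) ↔ (t ∈ piv (V g k.val) ∨ t = pv g k.castSucc) := fun t => by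
    constructor
    · intro ht
      by_cases h : t ∈ piv (V g k.val)
      · exact Or.inl h
      · exact Or.inr (pv_unique g k.castSucc (by simpa using ht) (by simpa using h))
    · rintro (h | rfl)
      · exact piv_mono (V_mono _ (by omega)) h
      · simpa using (pv_spec g k.castSucc).1
  unfold wt
  refine Finset.sum_lt_sum (fun i _ => ?_) ⟨k.val + 1, by simp, ?_⟩
  · by_cases hi : i = k.val + 1
    · subst hi
      have e1 : (Finset.univ.filter fun t => t ∈ piv (V (g * p) (k.val + 1))) =
          insert q (Finset.univ.filter fun t => t ∈ piv (V g k.val)) := by ext t; simp [hset t, or_comm]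
      have e2 : (Finset.univ.filter fun t => t ∈ piv (V g (k.val + 1))) =
          insert (pv g k.castSucc) (Finset.univ.filter fun t => t ∈ piv (V g k.val)) := by ext t; simp [hset' t, or_comm]
      rw [e1, e2, Finset.sum_insert (by simpa using hq0),
        Finset.sum_insert (by simpa using (pv_spec g k.castSucc).2)]
      exact Nat.add_le_add_right (Fin.le_def.mp hk.le) _
    · rw [hVe i hi]
  · have e1 : (Finset.univ.filter fun t => t ∈ piv (V (g * p) (k.val + 1))) =
        insert q (Finset.univ.filter fun t => t ∈ piv (V g k.val)) := by ext t; simp [hset t, or_comm]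
    have e2 : (Finset.univ.filter fun t => t ∈ piv (V g (k.val + 1))) =
        insert (pv g k.castSucc) (Finset.univ.filter fun t => t ∈ piv (V g k.val)) := by ext t; simp [hset' t, or_comm]
    rw [e1, e2, Finset.sum_insert (by simpa using hq0),
      Finset.sum_insert (by simpa using (pv_spec g k.castSucc).2)]
    exact Nat.add_lt_add_right (Fin.lt_def.mp hk) _

theorem good_unique {J : Finset (Fin m)} {g h : GL (Fin (m + 1)) F} (hgh : g⁻¹ * h ∈ parabolic F J)
    (hg : Good J g) (hh : Good J h) : g⁻¹ * h ∈ parabolic F (∅ : Finset (Fin m)) := by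
  classical
  refine V_coset.mpr fun k _ => ?_
  suffices ∀ i, V g i = V h i from this _
  intro i
  induction i with
  | zero => rw [V_bot, V_bot]
  | succ i ih =>
    by_cases hi : m ≤ i
    · rw [V_top g (by omega), V_top h (by omega)]
    push Not at hi
    let P : ℕ → Prop := fun b => i + 1 ≤ b ∧ (b = m + 1 ∨ ∃ l : Fin m, l ∉ J ∧ b = l.val + 1)
    have hex : ∃ b, P b := ⟨m + 1, by omega, Or.inl rfl⟩
    obtain ⟨b, ⟨hb1, hb2⟩, hb3, hbmin⟩ : ∃ b, P b ∧ b ≤ m + 1 ∧ ∀ l, l < b → ¬ P l :=
      ⟨_, Nat.find_spec hex, Nat.find_le ⟨by omega, Or.inl rfl⟩, fun l hl => Nat.find_min hex hl⟩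
    have hVb : V g b = V h b := by
      rcases hb2 with e | ⟨l, hl, e⟩
      · rw [show b = m + 1 from e, V_top g le_rfl, V_top h le_rfl]
      · rw [show b = l.val + 1 from e]; exact V_coset.mp hgh l hl
    have inc : ∀ a : GL (Fin (m + 1)) F, Good J a → ∀ j : Fin (m + 1), i ≤ j.val → j.val < b →
        pv a ⟨i, by omega⟩ ≤ pv a j := by
      intro a ha j
      induction j using Fin.induction with
      | zero => intro h1 _; rw [show (⟨i, by omega⟩ : Fin (m + 1)) = 0 from Fin.ext (by simp at h1; simpa using h1)]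
      | succ l ihl =>
        intro h1 h2
        rcases eq_or_lt_of_le h1 with e | e
        · exact le_of_eq (congrArg (pv a) (Fin.ext e))
        · simp only [Fin.val_succ] at e h2
          have hl : l ∈ J := by
            by_contra hl
            exact hbmin _ h2 ⟨by omega, Or.inr ⟨l, hl, rfl⟩⟩
          exact (ihl (by simp; omega) (by simp; omega)).trans (ha l hl).le
    have one : ∀ a a' : GL (Fin (m + 1)) F, Good J a → V a b = V a' b → V a i = V a' i →
        pv a ⟨i, by omega⟩ ≤ pv a' ⟨i, by omega⟩ := by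
      intro a a' ha e1 e2
      have h1 : pv a' ⟨i, by omega⟩ ∈ piv (V a b) := by
        rw [e1]
        have h0 := (pv_spec a' ⟨i, Nat.lt_succ_of_lt hi⟩).1
        exact piv_mono (V_mono a' hb1) h0
      obtain ⟨j, hj, e⟩ := (piv_V a b hb3 _).mp h1
      rw [← e]
      refine inc a ha j ?_ hj
      by_contra hj'
      apply (pv_spec a' ⟨i, by omega⟩).2
      show pv a' _ ∈ piv (V a' i)
      rw [← e2, ← e]
      exact (piv_V a i (by omega) _).mpr ⟨j, by omega, rfl⟩
    have sub : ∀ a a' : GL (Fin (m + 1)) F, Good J a → Good J a' → V a b = V a' b → V a i = V a' i →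
        V a' (i + 1) ≤ V a (i + 1) := by
      intro a a' ha ha' e1 e2
      have et : pv a ⟨i, by omega⟩ = pv a' ⟨i, by omega⟩ :=
        le_antisymm (one a a' ha e1 e2) (one a' a ha' e1.symm e2.symm)
      obtain ⟨v', hv', hv0, hv1⟩ := (pv_spec a' ⟨i, by omega⟩).1
      set t := pv a' ⟨i, by omega⟩
      have hvm : v' ∈ V a (i + 1) := by
        have hle : V a (i + 1) ⊓ U (t.val + 1) ≤ V a b ⊓ U (t.val + 1) := inf_le_inf_right _ (V_mono _ hb1)
        refine (Submodule.mem_inf.mp (le_of_piv_le hle ?_ ⟨?_, fun j hj => hv1 j (Fin.lt_def.mpr (by omega))⟩)).1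
        · rintro s ⟨x, ⟨hx, hxU⟩, hx0, hx1⟩
          have hst : s ≤ t := by
            by_contra hcon
            exact hx0 (hxU s (by rw [not_le, Fin.lt_def] at hcon; omega))
          have hs : s ∈ piv (V a (i + 1)) := by
            obtain ⟨j, hj, e⟩ := (piv_V a b hb3 s).mp ⟨x, hx, hx0, hx1⟩
            refine (piv_V a (i + 1) (by omega) s).mpr ⟨j, ?_, e⟩
            by_contra hj'
            have h2 := inc a ha j (by omega) hj
            rw [e, et] at h2
            have := congrArg Fin.val (pv_injective a (e.trans ((le_antisymm hst h2).trans et.symm)))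
            simp at this; omega
          obtain ⟨y, hy, hy0, hy1⟩ := hs
          exact ⟨y, ⟨hy, fun j hj => hy1 j (Fin.lt_def.mpr (by have := Fin.le_def.mp hst; omega))⟩, hy0, hy1⟩
        · rw [e1]; exact V_mono a' hb1 hv'
      intro x hx
      obtain ⟨c', hc'⟩ : ∃ c' : F, x - c' • v' ∈ V a' i := by
        have h1 := mem_V.mp hv'
        have hz : ((↑a'⁻¹ : Matrix (Fin (m + 1)) (Fin (m + 1)) F) *ᵥ v') ⟨i, by omega⟩ ≠ 0 := fun h0 =>
          (pv_spec a' ⟨i, by omega⟩).2 ⟨v', mem_V.mpr fun j hj => by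
            rcases eq_or_lt_of_le hj with e | e
            · rw [← Fin.ext e]; exact h0
            · exact h1 j e, hv0, hv1⟩
        refine ⟨((↑a'⁻¹ : Matrix (Fin (m + 1)) (Fin (m + 1)) F) *ᵥ x) ⟨i, by omega⟩ /
          ((↑a'⁻¹ : Matrix (Fin (m + 1)) (Fin (m + 1)) F) *ᵥ v') ⟨i, by omega⟩, mem_V.mpr fun j hj => ?_⟩
        rw [mulVec_sub, mulVec_smul]
        rcases eq_or_lt_of_le hj with e | e
        · rw [show j = ⟨i, by omega⟩ from Fin.ext e.symm, Pi.sub_apply, Pi.smul_apply, smul_eq_mul, div_mul_cancel₀ _ hz, sub_self]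
        · rw [Pi.sub_apply, Pi.smul_apply, mem_V.mp hx j e, h1 j e]; simp
      rw [← e2] at hc'
      simpa using (V a (i + 1)).add_mem (V_mono a (Nat.le_succ i) hc') ((V a (i + 1)).smul_mem c' hvm)
    exact le_antisymm (sub h g hh hg hVb.symm ih.symm) (sub g h hg hh hVb ih)

theorem exists_min (J : Finset (Fin m)) (y : GL (Fin (m + 1)) F) :
    ∃ x, x⁻¹ * y ∈ parabolic F J ∧ Good J x ∧ ∀ z, z⁻¹ * y ∈ parabolic F J → wt x ≤ wt z := by
  classical
  have hex : ∃ n, ∃ x, x⁻¹ * y ∈ parabolic F J ∧ wt x = n := ⟨_, y, by simp [one_mem], rfl⟩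
  obtain ⟨x, hx, hn⟩ := Nat.find_spec hex
  refine ⟨x, hx, fun k hk => ?_, fun z hz => hn ▸ Nat.find_le ⟨z, hz, rfl⟩⟩
  rcases lt_trichotomy (pv x k.castSucc) (pv x k.succ) with h | h | h
  · exact h
  · exact absurd (pv_injective x h) k.castSucc_lt_succ.ne
  · obtain ⟨p, hp, hlt⟩ := exchange h
    refine absurd ⟨x * p, ?_, rfl⟩ (Nat.find_min hex (hn ▸ hlt))
    rw [_root_.mul_inv_rev, mul_assoc]
    exact mul_mem ((parabolic F J).inv_mem (par_mono (by simpa using hk) hp)) hx

theorem good_min {J : Finset (Fin m)} {x y : GL (Fin (m + 1)) F} (hx : Good J x)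
    (h : x⁻¹ * y ∈ parabolic F J) : wt x ≤ wt y := by
  obtain ⟨z, hz, hg, hmin⟩ := exists_min J y
  have hxz : x⁻¹ * z ∈ parabolic F J := by
    simpa [mul_assoc] using mul_mem h ((parabolic F J).inv_mem hz)
  rw [wt_congr (V_eq_of_B (good_unique hxz hx hg))]
  exact hmin y (by simp [one_mem])

section
variable {R : Type v} [CommRing R] {r : ℕ}

theorem sgn_sq (T : Finset (Fin r)) (a : Fin r) : (sgn T a : R) * (sgn T a : R) = 1 := by
  unfold sgn; push_cast; rw [← pow_add, ← two_mul, pow_mul]; simp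

theorem sgn_id {T : Finset (Fin r)} {a a0 : Fin r} (h0 : a0 ∈ T) (ha : a ∉ T) (hlt : a0 < a)
    (hmin : ∀ t ∈ T, a0 ≤ t) :
    (sgn T a : R) * (sgn ((insert a T).erase a0) a0 : R) = - ((sgn (T.erase a0) a : R) * (sgn (T.erase a0) a0 : R)) := by
  classical
  have e1 : (T.filter (fun t => t < a)).card = ((T.erase a0).filter (fun t => t < a)).card + 1 := by
    rw [Finset.filter_erase]
    exact (Finset.card_erase_add_one (Finset.mem_filter.mpr ⟨h0, hlt⟩)).symm
  have e2 : (((insert a T).erase a0).filter (fun t => t < a0)).card = 0 := by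
    rw [Finset.card_eq_zero, Finset.filter_eq_empty_iff]
    intro t ht
    rw [Finset.mem_erase, Finset.mem_insert] at ht
    rcases ht.2 with rfl | h
    · exact not_lt.mpr hlt.le
    · exact not_lt.mpr (hmin t h)
  have e3 : ((T.erase a0).filter (fun t => t < a0)).card = 0 := by
    rw [Finset.card_eq_zero, Finset.filter_eq_empty_iff]
    exact fun t ht => not_lt.mpr (hmin t (Finset.mem_of_mem_erase ht))
  unfold sgn
  rw [e1, e2, e3]
  push_cast
  ring

theorem delta_delta {c : ℕ} (φ : Finset (Fin r) → R) {D : Finset (Fin r)} {a0 : Fin r} (ha0 : a0 ∈ D)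
    (hmin : ∀ a ∈ D, a0 ≤ a) (hsupp : ∀ T, ¬ T ⊆ D → φ T = 0)
    (hd : ∀ U : Finset (Fin r), U.card = c → ∑ a : Fin r, (if a ∉ U then (sgn U a : R) * φ (insert a U) else 0) = 0)
    (T : Finset (Fin r)) (hT : T.card = c + 1) :
    ∑ a : Fin r, (if a ∉ T then (sgn T a : R) *
      (if a0 ∈ insert a T ∧ insert a T ⊆ D then (sgn ((insert a T).erase a0) a0 : R) * φ ((insert a T).erase a0) else 0)
      else 0) = φ T := by
  classical
  by_cases hTD : T ⊆ D
  swap
  · rw [hsupp T hTD]
    refine Finset.sum_eq_zero fun a _ => ?_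
    split_ifs with h1 h2 <;> simp_all
    exact absurd ((Finset.subset_insert a T).trans h2.2) hTD
  by_cases h0 : a0 ∈ T
  swap
  · rw [Finset.sum_eq_single a0 (fun a _ hne => ?_) (by simp)]
    · rw [if_pos h0, if_pos ⟨Finset.mem_insert_self _ _, Finset.insert_subset ha0 hTD⟩,
        Finset.erase_insert h0, ← mul_assoc, sgn_sq, one_mul]
    · simp [Finset.mem_insert, h0, Ne.symm hne]
  set U := T.erase a0 with hU
  have hUc : U.card = c := by rw [hU, Finset.card_erase_of_mem h0, hT]; simp
  have ha0U : a0 ∉ U := Finset.notMem_erase _ _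
  have h1 := hd U hUc
  rw [← Finset.add_sum_erase _ _ (Finset.mem_univ a0), if_pos ha0U, hU, Finset.insert_erase h0] at h1
  rw [← Finset.add_sum_erase _ _ (Finset.mem_univ a0), if_neg (by simpa using h0), zero_add]
  have h2 : ∀ a ∈ (Finset.univ : Finset (Fin r)).erase a0,
      (if a ∉ T then (sgn T a : R) * (if a0 ∈ insert a T ∧ insert a T ⊆ D then
        (sgn ((insert a T).erase a0) a0 : R) * φ ((insert a T).erase a0) else 0) else 0) =
      - ((sgn (T.erase a0) a0 : R) * (if a ∉ T.erase a0 then (sgn (T.erase a0) a : R) * φ (insert a (T.erase a0)) else 0)) := by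
    intro a ha
    have hne : a ≠ a0 := (Finset.mem_erase.mp ha).1
    by_cases haT : a ∈ T
    · rw [if_neg (by simpa using haT), if_neg (by simp [haT, hne]), mul_zero, neg_zero]
    rw [if_pos haT, if_pos (show a ∉ T.erase a0 by simp [haT])]
    by_cases haD : a ∈ D
    · rw [if_pos ⟨Finset.mem_insert_of_mem h0, Finset.insert_subset haD hTD⟩, ← mul_assoc,
        sgn_id h0 haT (lt_of_le_of_ne (hmin a haD) (Ne.symm hne)) (fun t ht => hmin t (hTD ht)),
        Finset.erase_insert_of_ne (Ne.symm hne).symm]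
      ring
    · rw [if_neg (fun h => haD (h.2 (Finset.mem_insert_self _ _))), hsupp _ (fun h => haD (h (Finset.mem_insert_self _ _)))]
      simp
  rw [Finset.sum_congr rfl h2, Finset.sum_neg_distrib, ← Finset.mul_sum]
  rw [eq_neg_of_add_eq_zero_right h1, mul_neg, neg_neg, ← mul_assoc, sgn_sq, one_mul]

variable (ω : Fin r ↪ Fin m)

/-- The letters that are ascents of the flag. -/
noncomputable def DD (x : GL (Fin (m + 1)) F) : Finset (Fin r) :=
  Finset.univ.filter fun a => pv x (ω a).castSucc < pv x (ω a).succ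

theorem subset_DD {x : GL (Fin (m + 1)) F} {T : Finset (Fin r)} : T ⊆ DD ω x ↔ Good (T.map ω) x := by
  simp [DD, Good, Finset.subset_iff]

/-- An extension of a family along one cell. -/
noncomputable def hh {c : ℕ} (f : Cochain F R (m := m) r (c + 1)) (T' : {T : Finset (Fin r) // T.card = c + 2})
    (x : GL (Fin (m + 1)) F) : R :=
  if h : ∃ a0 ∈ T'.1, a0 ∈ DD ω x ∧ ∀ a ∈ DD ω x, a0 ≤ a then
    (sgn (T'.1.erase h.choose) h.choose : R) *
      f ⟨T'.1.erase h.choose, by rw [Finset.card_erase_of_mem h.choose_spec.1, T'.2]; rfl⟩ x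
  else 0

theorem lift_step {c n : ℕ} (f : Cochain F R (m := m) r (c + 1)) (hf : IsInduced ω f) (hd : delta c f = 0)
    (hlow : ∀ T x, wt x < n → f T x = 0) :
    ∃ g : Cochain F R (m := m) r (c + 2), IsInduced ω g ∧
      ∀ T x, wt x ≤ n → delta (c + 1) g T x = f T x := by
  classical
  have hinv : ∀ T x x', x⁻¹ * x' ∈ parabolic F (∅ : Finset (Fin m)) → f T x' = f T x := fun T x x' h => by
    simpa using hf T x _ (par_mono (Finset.empty_subset _) h)
  have hDD : ∀ x x', x⁻¹ * x' ∈ parabolic F (∅ : Finset (Fin m)) → DD ω x' = DD ω x := fun x x' h => by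
    simp only [DD, pv_congr (V_eq_of_B h)]
  let cnd : Finset (Fin r) → GL (Fin (m + 1)) F → GL (Fin (m + 1)) F → Prop := fun T y x =>
    Good (T.map ω) x ∧ wt x = n ∧ x⁻¹ * y ∈ parabolic F (T.map ω)
  have hval : ∀ (T' : {T : Finset (Fin r) // T.card = c + 2}) y x x', cnd T'.1 y x → cnd T'.1 y x' →
      hh ω f T' x = hh ω f T' x' := by
    rintro T' y x x' ⟨g1, -, h1⟩ ⟨g2, -, h2⟩
    have hxx : x⁻¹ * x' ∈ parabolic F (T'.1.map ω) := by
      simpa [mul_assoc] using mul_mem h1 ((parabolic F _).inv_mem h2)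
    have hB := good_unique hxx g1 g2
    unfold hh
    simp only [hDD x x' hB, hinv _ x x' hB]
  let g : Cochain F R (m := m) r (c + 2) := fun T' y =>
    if h : ∃ x, cnd T'.1 y x then hh ω f T' h.choose else 0
  refine ⟨g, fun T' y p hp => ?_, fun T x hx => ?_⟩
  · have e : ∀ x, cnd T'.1 (y * p) x ↔ cnd T'.1 y x := fun x => by
      simp only [cnd]; rw [← mul_assoc, Subgroup.mul_mem_cancel_right _ hp]
    by_cases h : ∃ x, cnd T'.1 y x
    · have h' : ∃ x, cnd T'.1 (y * p) x := h.imp fun x hx => (e x).mpr hx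
      simp only [g, dif_pos h, dif_pos h']
      exact hval T' y _ _ ((e _).mp h'.choose_spec) h.choose_spec
    · have h' : ¬ ∃ x, cnd T'.1 (y * p) x := fun h' => h (h'.imp fun x hx => (e x).mp hx)
      simp only [g, dif_neg h, dif_neg h']
  · have hg : ∀ T' : {T : Finset (Fin r) // T.card = c + 2}, g T' x =
        if wt x = n ∧ T'.1 ⊆ DD ω x then hh ω f T' x else 0 := by
      intro T'
      split_ifs with h
      · have hc : cnd T'.1 x x := ⟨(subset_DD ω).mp h.2, h.1, by simp [one_mem]⟩
        simp only [g, dif_pos (⟨x, hc⟩ : ∃ z, cnd T'.1 x z)]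
        exact hval T' x _ _ (Exists.choose_spec (⟨x, hc⟩ : ∃ z, cnd T'.1 x z)) hc
      · refine dif_neg ?_
        rintro ⟨z, gz, wz, hz⟩
        have h1 : wt x = n := le_antisymm hx (wz ▸ good_min gz hz)
        refine h ⟨h1, (subset_DD ω).mpr ?_⟩
        obtain ⟨x', hx', gx', mx'⟩ := exists_min (T'.1.map ω) x
        have hzx : z⁻¹ * x' ∈ parabolic F (T'.1.map ω) := by
          simpa [mul_assoc] using mul_mem hz ((parabolic F _).inv_mem hx')
        have hw : wt z = wt x' := wt_congr (V_eq_of_B (good_unique hzx gz gx'))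
        intro k hk
        by_contra hlt
        rcases lt_trichotomy (pv x k.castSucc) (pv x k.succ) with h' | h' | h'
        · exact hlt h'
        · exact absurd (pv_injective x h') k.castSucc_lt_succ.ne
        · obtain ⟨p, hp, hp'⟩ := exchange h'
          have := good_min gz (y := x * p) (by
            rw [← mul_assoc]; exact mul_mem hz (par_mono (by simpa using hk) hp))
          omega
    have hzero : ∀ T : {T : Finset (Fin r) // T.card = c + 1}, ¬ T.1 ⊆ DD ω x → f T x = 0 := by
      intro T hT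
      rw [subset_DD] at hT
      simp only [Good, not_forall] at hT
      obtain ⟨k, hk, hlt⟩ := hT
      rcases lt_trichotomy (pv x k.castSucc) (pv x k.succ) with h' | h' | h'
      · exact absurd h' hlt
      · exact absurd (pv_injective x h') k.castSucc_lt_succ.ne
      · obtain ⟨p, hp, hp'⟩ := exchange h'
        rw [← hf T x p (par_mono (by simpa using hk) hp)]
        exact hlow T _ (by omega)
    rcases eq_or_lt_of_le hx with hxn | hxn
    swap
    · rw [hlow T x hxn]
      refine Finset.sum_eq_zero fun a _ => ?_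
      by_cases ha : a ∈ T.1
      · rw [dif_neg (by simpa using ha)]
      · rw [dif_pos ha, hg, if_neg (fun h => by omega), mul_zero]
    by_cases hD : (DD ω x).Nonempty
    swap
    · have hnot : ∀ S : Finset (Fin r), S.card ≠ 0 → ¬ S ⊆ DD ω x := fun S hS h => hS (by
        rw [Finset.not_nonempty_iff_eq_empty.mp hD, Finset.subset_empty] at h; simp [h])
      rw [hzero T (hnot _ (by rw [T.2]; omega))]
      refine Finset.sum_eq_zero fun a _ => ?_
      by_cases ha : a ∈ T.1
      · rw [dif_neg (by simpa using ha)]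
      · rw [dif_pos ha, hg, if_neg (fun h => hnot _ (by simp) h.2), mul_zero]
    set a0 := (DD ω x).min' hD with ha0
    have ha0m : a0 ∈ DD ω x := Finset.min'_mem _ hD
    have hle : ∀ a ∈ DD ω x, a0 ≤ a := fun a ha => Finset.min'_le _ a ha
    let φ : Finset (Fin r) → R := fun S => if h : S.card = c + 1 then f ⟨S, h⟩ x else 0
    have := delta_delta (c := c) φ ha0m hle (fun S hS => ?_) (fun U hU => ?_) T.1 T.2
    · refine (Finset.sum_congr rfl fun a _ => ?_).trans (this.trans (dif_pos T.2))
      by_cases ha : a ∈ T.1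
      · rw [dif_neg (by simpa using ha), if_neg (by simpa using ha)]
      rw [dif_pos ha, if_pos ha, hg]
      congr 1
      by_cases hins : insert a T.1 ⊆ DD ω x
      swap
      · rw [if_neg (fun h => hins h.2), if_neg (fun h => hins h.2)]
      rw [if_pos ⟨hxn, hins⟩]
      unfold hh
      by_cases h0 : a0 ∈ insert a T.1
      · have hex : ∃ b ∈ insert a T.1, b ∈ DD ω x ∧ ∀ a ∈ DD ω x, b ≤ a := ⟨a0, h0, ha0m, hle⟩
        rw [dif_pos hex, if_pos ⟨h0, hins⟩]
        have he : hex.choose = a0 := le_antisymm (hex.choose_spec.2.2 _ ha0m) (hle _ hex.choose_spec.2.1)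
        have hc : ((insert a T.1).erase a0).card = c + 1 := by
          rw [Finset.card_erase_of_mem h0, Finset.card_insert_of_notMem ha, T.2]; rfl
        simp only [φ, dif_pos hc, he]
      · rw [dif_neg (fun ⟨b, hb, hb1, hb2⟩ => h0 (le_antisymm (hb2 _ ha0m) (hle _ hb1) ▸ hb)), if_neg (fun h => h0 h.1)]
    · simp only [φ]; split_ifs with h
      · exact hzero ⟨S, h⟩ hS
      · rfl
    · have := congrFun (congrFun hd ⟨U, hU⟩) x
      refine Eq.trans (Finset.sum_congr rfl fun a _ => ?_) this
      by_cases ha : a ∈ U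
      · rw [dif_neg (by simpa using ha), if_neg (by simpa using ha)]
      · rw [dif_pos ha, if_pos ha]
        simp only [φ, dif_pos (show (insert a U).card = c + 1 by rw [Finset.card_insert_of_notMem ha, hU])]

theorem delta_add {c : ℕ} (f g : Cochain F R (m := m) r (c + 1)) : delta c (f + g) = delta c f + delta c g := by
  funext T x
  simp only [delta, Pi.add_apply, ← Finset.sum_add_distrib]
  exact Finset.sum_congr rfl fun a _ => by split_ifs <;> simp [mul_add]

theorem exact_main {c : ℕ} (f : Cochain F R (m := m) r (c + 1)) (hf : IsInduced ω f) (hd : delta c f = 0)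
    (hdd : ∀ g : Cochain F R (m := m) r (c + 2), delta c (delta (c + 1) g) = 0) :
    ∀ n, ∃ g : Cochain F R (m := m) r (c + 2), IsInduced ω g ∧ ∀ T x, wt x < n → delta (c + 1) g T x = f T x := by
  intro n
  induction n with
  | zero => exact ⟨0, fun T g p _ => rfl, fun T x h => absurd h (Nat.not_lt_zero _)⟩
  | succ n ih =>
    obtain ⟨g, hg, hgf⟩ := ih
    have hdg : IsInduced ω (delta (c + 1) g) := fun T y p hp => by
      refine Finset.sum_congr rfl fun a _ => ?_
      by_cases ha : a ∈ T.1
      · rw [dif_neg (by simpa using ha), dif_neg (by simpa using ha)]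
      · rw [dif_pos ha, dif_pos ha]
        have hsub : T.1.map ω ⊆ (insert a T.1).map ω := Finset.map_subset_map.mpr (Finset.subset_insert _ _)
        rw [hg ⟨insert a T.1, by rw [Finset.card_insert_of_notMem ha, T.2]⟩ y p (par_mono hsub hp)]
    obtain ⟨g', hg', hgf'⟩ := lift_step (n := n) ω (f - delta (c + 1) g)
      (fun T y p hp => by simp only [Pi.sub_apply, hf T y p hp, hdg T y p hp])
      (by
        have := delta_add (f - delta (c + 1) g) (delta (c + 1) g)
        rw [sub_add_cancel, hd, hdd, add_zero] at this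
        exact this.symm)
      (fun T x h => by simp only [Pi.sub_apply, hgf T x h, sub_self])
    refine ⟨g + g', fun T y p hp => by simp only [Pi.add_apply, hg T y p hp, hg' T y p hp], fun T x h => ?_⟩
    rw [delta_add, Pi.add_apply, Pi.add_apply, hgf' T x (by omega), Pi.sub_apply, Pi.sub_apply, add_sub_cancel]

theorem dd_zero {c : ℕ} (g : Cochain F R (m := m) r (c + 2)) : delta c (delta (c + 1) g) = 0 := by
  classical
  funext U x
  show (∑ a : Fin r, _) = (0 : R)
  let G : Finset (Fin r) → R := fun S => if h : S.card = c + 2 then g ⟨S, h⟩ x else 0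
  have e : ∀ a : Fin r, (if h : a ∉ U.1 then (sgn U.1 a : R) *
      delta (c + 1) g ⟨insert a U.1, by rw [Finset.card_insert_of_notMem h, U.2]⟩ x else 0) =
      ∑ b : Fin r, (if a ∉ U.1 ∧ b ∉ U.1 ∧ a ≠ b then
        (sgn U.1 a : R) * (sgn (insert a U.1) b : R) * G (insert b (insert a U.1)) else 0) := by
    intro a
    by_cases ha : a ∈ U.1
    · rw [dif_neg (by simpa using ha)]
      exact (Finset.sum_eq_zero fun b _ => if_neg (fun h => h.1 ha)).symm
    rw [dif_pos ha]
    show (sgn U.1 a : R) * (∑ b : Fin r, _) = _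
    rw [Finset.mul_sum]
    refine Finset.sum_congr rfl fun b _ => ?_
    by_cases hb : b ∈ insert a U.1
    · rw [dif_neg (fun h => h hb), mul_zero, if_neg]
      rintro ⟨-, h2, h3⟩
      rcases Finset.mem_insert.mp hb with h | h
      · exact h3 h.symm
      · exact h2 h
    · have hb' := hb
      rw [Finset.mem_insert, not_or] at hb'
      have hc : (insert b (insert a U.1)).card = c + 2 := by
        rw [Finset.card_insert_of_notMem hb, Finset.card_insert_of_notMem ha, U.2]
      rw [dif_pos hb, if_pos ⟨ha, hb'.2, fun h => hb'.1 h.symm⟩]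
      simp only [G, dif_pos hc, mul_assoc]
  rw [Finset.sum_congr rfl (fun a _ => e a), ← Fintype.sum_prod_type']
  refine Finset.sum_involution (fun p _ => (p.2, p.1)) ?_ ?_ (fun _ _ => Finset.mem_univ _) (fun _ _ => rfl)
  · rintro ⟨a, b⟩ -
    dsimp only
    by_cases h : a ∉ U.1 ∧ b ∉ U.1 ∧ a ≠ b
    swap
    · rw [if_neg h, if_neg (fun h' => h ⟨h'.2.1, h'.1, h'.2.2.symm⟩), add_zero]
    rw [if_pos h, if_pos ⟨h.2.1, h.1, h.2.2.symm⟩, Finset.insert_comm b a]
    obtain ⟨ha, hb, hne⟩ := h
    rw [← add_mul]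
    convert zero_mul (G _)
    wlog hab : a < b generalizing a b
    · rw [add_comm]; exact this b a hb ha hne.symm (lt_of_le_of_ne (not_lt.mp hab) hne.symm)
    have e1 : ((insert a U.1).filter (fun t => t < b)).card = (U.1.filter (fun t => t < b)).card + 1 := by
      rw [Finset.filter_insert, if_pos hab, Finset.card_insert_of_notMem (by simp [ha])]
    have e2 : ((insert b U.1).filter (fun t => t < a)).card = (U.1.filter (fun t => t < a)).card := by
      rw [Finset.filter_insert, if_neg (not_lt.mpr hab.le)]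
    unfold sgn
    rw [e1, e2]
    push_cast
    ring
  · rintro ⟨a, b⟩ - h heq
    simp only [Prod.mk.injEq] at heq
    exact h (if_neg fun h' => h'.2.2 heq.2)

end

/-- Let F be a finite field, R a commutative ring, and ω a word of r pairwise distinct simple
reflections of GL_{m+1}. For each level ℓ, consider the families, indexed by the subwords of ω with
ℓ letters, of R-valued functions on GL_{m+1}(F), each invariant under right translation by the
standard parabolic subgroup of its subword (the permutation module of that parabolic over R), and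
the differential lowering the level by one given by the alternating sum of the inclusions (a letter
is deleted with the sign of its position). Then for every c with c + 1 ≤ r, every such invariant
family at level c + 1 killed by the differential is the differential of an invariant family at level
c + 2; when c + 1 = r this is injectivity of the first differential, and when c + 1 < r it is
exactness of the complex at its middle terms. (The published statement has coefficients the integers
modulo a prime power; the same argument gives any commutative coefficient ring, as stated here. Its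
description of the cokernel at the last term is definitional in this formulation and is not
restated.) -/
theorem result
    (F : Type u) [Field F] [Fintype F] (R : Type v) [CommRing R]
    (m r : ℕ) (ω : Fin r ↪ Fin m) (c : ℕ) (hc : c + 1 ≤ r)
    (f : W4c3dlvarstrsh.Cochain F R (m := m) r (c + 1))
    (hf : W4c3dlvarstrsh.IsInduced ω f) (hd : W4c3dlvarstrsh.delta c f = 0) :
    ∃ g : W4c3dlvarstrsh.Cochain F R (m := m) r (c + 2),
      W4c3dlvarstrsh.IsInduced ω g ∧ W4c3dlvarstrsh.delta (c + 1) g = f := by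
  obtain ⟨g, hg, hgf⟩ := exact_main ω f hf hd dd_zero ((m + 2) * ((m + 1) * (m + 1)) + 1)
  exact ⟨g, hg, funext fun T => funext fun x => hgf T x (Nat.lt_succ_of_le (wt_le x))⟩

end Groth.Agent.S15983
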