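import Groth.Statements.S15987

-- import your own Groth.Agent.* helpers here

set_option autoImplicit false
universe u v
open Deform

namespace Groth.Agent.S15987

open TrivSqZeroExt in
open TrivSqZeroExt
open TrivSqZeroExt

theorem aut_mul {k A : Type*} [CommRing k] [CommRing A] [Algebra k A] (φ : DualNumber A ≃ₐ[k] DualNumber A)
    (hfst : ∀ x, (φ x).fst = x.fst) (a b : A) :
    (φ (inl (a * b))).snd = a * (φ (inl b)).snd + b * (φ (inl a)).snd := by
  rw [inl_mul (R := A) (M := A) a b, map_mul φ, snd_mul, hfst, hfst]
  simp [smul_eq_mul, mul_comm]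

theorem aut_apply {k A : Type*} [CommRing k] [CommRing A] [Algebra k A] (φ : DualNumber A ≃ₐ[k] DualNumber A)
    (heps : φ DualNumber.eps = DualNumber.eps) (hfst : ∀ x, (φ x).fst = x.fst) (x : DualNumber A) :
    (φ x).snd = x.snd + (φ (inl x.fst)).snd := by
  have hx : x = inl x.fst + inl x.snd * DualNumber.eps := by
    ext <;> simp [-DualNumber.inr_eq_smul_eps]
  conv_lhs => rw [hx]
  rw [map_add φ, map_mul φ, heps, snd_add, snd_mul, hfst]
  simp [-DualNumber.inr_eq_smul_eps, add_comm]

/-- The automorphism of a derivation. -/
def autOf {k A : Type*} [CommRing k] [CommRing A] [Algebra k A] (D : Derivation k A A) :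
    DualNumber A ≃ₐ[k] DualNumber A where
  toFun x := inl x.fst + inr (x.snd + D x.fst)
  invFun x := inl x.fst + inr (x.snd - D x.fst)
  left_inv x := by ext <;> simp
  right_inv x := by ext <;> simp
  map_mul' x y := by
    ext
    · simp
    · simp [snd_mul, smul_eq_mul, MulOpposite.smul_eq_mul_unop]; ring
  map_add' x y := by
    ext
    · simp
    · simp; ring
  commutes' c := by
    ext
    · simp
    · simp [algebraMap_eq_inl']

open TrivSqZeroExt in

/-- Let k be a field, A a commutative k-algebra and q_i : A → k (i ∈ ι) k-algebra maps (marked k-points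
of Spec A). The k-algebra automorphisms φ of the ring of dual numbers A[ε] that fix ε (so are
k[ε]-linear), are the identity modulo ε, and satisfy q_i((φ x)_ε) = q_i(x_ε) for all i and x
(compatibility with the trivial lifts A[ε] → k[ε] of the marked points) are in bijection with the
k-derivations D : A → A such that q_i ∘ D = 0 for every i, the bijection sending φ to a ↦ (φ(a))_ε.
(The source identifies the right-hand side with the global vector fields vanishing at the marked
points; the condition the computation yields is q_i ∘ D = 0, which is the same for Spec A smooth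
over k but is weaker in general, e.g. for A = k[x]/(x^2) with 2 invertible in k.) -/
theorem result
    (k : Type u) [Field k] (A : Type u) [CommRing A] [Algebra k A] {ι : Type v} (q : ι → (A →ₐ[k] k)) :
    ∃ e : {φ : DualNumber A ≃ₐ[k] DualNumber A //
            φ DualNumber.eps = DualNumber.eps ∧ (∀ x, (φ x).fst = x.fst) ∧
              ∀ i x, q i (φ x).snd = q i x.snd} ≃
          {D : Derivation k A A // ∀ i a, q i (D a) = 0},
      ∀ φ (a : A), (e φ).1 a = (φ.1 (inl a : DualNumber A)).snd := by
  refine ⟨{ toFun := fun φ => ⟨Derivation.mk'
              { toFun := fun a => (φ.1 (inl a : DualNumber A)).snd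
                map_add' := fun a b => by rw [inl_add, map_add φ.1, snd_add]
                map_smul' := fun c a => by rw [inl_smul, map_smul φ.1, snd_smul]; rfl }
              (fun a b => aut_mul φ.1 φ.2.2.1 a b), fun i a => ?_⟩
            invFun := fun D => ⟨autOf D.1, ?_, ?_, ?_⟩
            left_inv := ?_
            right_inv := ?_ }, fun φ a => rfl⟩
  · have := φ.2.2.2 i (inl a : DualNumber A)
    simp only [snd_inl, map_zero] at this
    exact this
  · ext <;> simp [autOf, -DualNumber.inr_eq_smul_eps]
  · intro x
    simp [autOf]
  · intro i x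
    simp [autOf, D.2 i]
  · intro φ
    apply Subtype.ext
    apply AlgEquiv.ext
    intro x
    refine TrivSqZeroExt.ext ?_ ?_
    · simp [autOf, φ.2.2.1 x]
    · simp [autOf, aut_apply φ.1 φ.2.1 φ.2.2.1 x]
  · intro D
    apply Subtype.ext
    apply Derivation.ext
    intro a
    simp [autOf]

end Groth.Agent.S15987
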