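import Groth.Statements.S15988
import Mathlib

set_option autoImplicit false
universe u v
open Deform

namespace Groth.Agent.S15988
namespace Helper

open TrivSqZeroExt

theorem key (k : Type u) [Field k] (A : Type u) [CommRing A] [Algebra k A] [Algebra.Smooth k A]
    {ι : Type v} [Finite ι] (q : ι → (A →ₐ[k] k)) (hq : Function.Injective q)
    (q' : ι → (DualNumber A →ₐ[k] DualNumber k))
    (hε : ∀ i, q' i DualNumber.eps = DualNumber.eps) (hq' : ∀ i x, (q' i x).fst = q i x.fst) :
    ∃ φ : DualNumber A ≃ₐ[k] DualNumber A,
      φ DualNumber.eps = DualNumber.eps ∧ (∀ x, (φ x).fst = x.fst) ∧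
        ∀ i x, (q' i (φ x)).fst = q i x.fst ∧ (q' i (φ x)).snd = q i x.snd := by
  classical
  haveI := Fintype.ofFinite ι
  let ev : A →ₐ[k] (ι → k) := Pi.algHom k (fun _ => k) q
  letI : Algebra A (ι → k) := ev.toRingHom.toAlgebra
  haveI : IsScalarTower k A (ι → k) := IsScalarTower.of_algebraMap_eq fun c => (ev.commutes c).symm
  have hsurj : Function.Surjective ev := by
    have he : ∀ i, ∃ e : A, ∀ j, q j e = if j = i then 1 else 0 := by
      intro i
      have hsep : ∀ j, ∃ a : A, q i a = 1 ∧ (j ≠ i → q j a = 0) := fun j => by
        by_cases h : j = i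
        · exact ⟨1, map_one _, fun hh => absurd h hh⟩
        · obtain ⟨a, ha⟩ : ∃ a, q i a ≠ q j a := by
            by_contra hh
            exact h (hq (AlgHom.ext fun a => (not_not.1 (not_exists.1 hh a)).symm))
          refine ⟨(q i a - q j a)⁻¹ • (a - algebraMap k A (q j a)), ?_, fun _ => ?_⟩
          · rw [map_smul, map_sub, AlgHom.commutes, smul_eq_mul]
            exact inv_mul_cancel₀ (sub_ne_zero.2 ha)
          · rw [map_smul, map_sub, AlgHom.commutes]
            simp
      choose a ha1 ha2 using hsep
      refine ⟨∏ j, a j, fun j => ?_⟩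
      rw [map_prod]
      split_ifs with h
      · subst h; exact Finset.prod_eq_one fun l _ => ha1 l
      · exact Finset.prod_eq_zero (Finset.mem_univ j) (ha2 j h)
    choose e he using he
    intro v
    refine ⟨∑ i, v i • e i, funext fun j => ?_⟩
    show q j (∑ i, v i • e i) = v j
    simp [map_sum, map_smul, he]
  have hsnd : ∀ i (x : DualNumber A), (q' i x).snd = (q' i (inl x.fst)).snd + q i x.snd := fun i x => by
    conv_lhs => rw [← inl_fst_add_inr_snd_eq x]
    rw [show (inr x.snd : DualNumber A) = inl x.snd * DualNumber.eps by ext <;> simp,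
      map_add, map_mul, hε, snd_add, snd_mul, hq']
    simp
  let δ : Derivation k A (ι → k) := Derivation.mk'
    { toFun := fun a i => -(q' i (inl a)).snd
      map_add' := fun a b => funext fun i => by simp [inl_add, map_add, neg_add, add_comm]
      map_smul' := fun c a => funext fun i => by
        rw [RingHom.id_apply, Pi.smul_apply, inl_smul, map_smul, snd_smul, smul_neg] }
    (fun a b => funext fun i => by
      show -(q' i (inl (a * b))).snd = q i a * -(q' i (inl b)).snd + q i b * -(q' i (inl a)).snd
      rw [inl_mul, map_mul, snd_mul, hq', hq', fst_inl, fst_inl, smul_eq_mul, MulOpposite.smul_eq_mul_unop,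
        MulOpposite.unop_op]
      ring)
  obtain ⟨L, hL⟩ := Module.projective_lifting_property (Algebra.linearMap A (ι → k))
    δ.liftKaehlerDifferential hsurj
  let D : Derivation k A A := L.compDer (KaehlerDifferential.D k A)
  have hD : ∀ i a, q i (D a) = -(q' i (inl a)).snd := fun i a => by
    have h1 := LinearMap.congr_fun hL (KaehlerDifferential.D k A a)
    rw [Derivation.liftKaehlerDifferential_comp_D] at h1
    exact congrFun h1 i
  let f : Derivation k A A → (DualNumber A →ₐ[k] DualNumber A) := fun E =>
    { toFun := fun x => inl x.fst + inr (x.snd + E x.fst)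
      map_one' := by ext <;> simp
      map_mul' := fun x y => by
        refine TrivSqZeroExt.ext ?_ ?_
        · simp
        · simp [Derivation.leibniz]; ring
      map_zero' := by ext <;> simp
      map_add' := fun x y => by
        refine TrivSqZeroExt.ext ?_ ?_
        · simp
        · simp; ring
      commutes' := fun c => by ext <;> simp [algebraMap_eq_inl'] }
  have hf : ∀ E E', ∀ x, (f E) ((f E') x) = inl x.fst + inr (x.snd + E' x.fst + E x.fst) := fun E E' x => by
    simp [f]
  let φ : DualNumber A ≃ₐ[k] DualNumber A := AlgEquiv.ofAlgHom (f D) (f (-D))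
    (AlgHom.ext fun x => by
      rw [AlgHom.comp_apply, hf, AlgHom.id_apply]
      refine TrivSqZeroExt.ext (by simp) (by simp))
    (AlgHom.ext fun x => by
      rw [AlgHom.comp_apply, hf, AlgHom.id_apply]
      refine TrivSqZeroExt.ext (by simp) (by simp))
  have hφ : ∀ x, φ x = inl x.fst + inr (x.snd + D x.fst) := fun x => rfl
  refine ⟨φ, ?_, fun x => ?_, fun i x => ⟨?_, ?_⟩⟩
  · rw [hφ]; refine TrivSqZeroExt.ext (by simp) (by simp)
  · rw [hφ]; simp
  · rw [hq', hφ]; simp
  · rw [hsnd, hφ]
    simp [hD]

end Helper


open TrivSqZeroExt in
/-- Let k be a field, A a smooth commutative k-algebra, q_i : A → k (i ∈ ι, ι finite) pairwise distinct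
k-algebra maps, and q'_i : A[ε] → k[ε] k-algebra maps with q'_i(ε) = ε which reduce to q_i modulo ε
(marked points of a first-order deformation with underlying trivial deformation). Then some
k-algebra automorphism φ of A[ε] with φ(ε) = ε and φ = id modulo ε carries every q'_i to the trivial
lift of q_i: q'_i(φ x) = (q_i(x_0), q_i(x_ε)) for all i and x. Together with the triviality of
first-order deformations of a smooth affine scheme this gives the source's statement that
first-order deformations of a smooth affine scheme with marked points are trivial. (The published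
statement does not say that the finitely many marked points are distinct; for two coincident points
with different lifts no such automorphism exists, so the points are taken pairwise distinct here,
and the source's non-singular is read as smooth over k.) -/
theorem result
    (k : Type u) [Field k] (A : Type u) [CommRing A] [Algebra k A] [Algebra.Smooth k A]
    {ι : Type v} [Finite ι] (q : ι → (A →ₐ[k] k)) (hq : Function.Injective q)
    (q' : ι → (DualNumber A →ₐ[k] DualNumber k))
    (hε : ∀ i, q' i DualNumber.eps = DualNumber.eps) (hq' : ∀ i x, (q' i x).fst = q i x.fst) :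
    ∃ φ : DualNumber A ≃ₐ[k] DualNumber A,
      φ DualNumber.eps = DualNumber.eps ∧ (∀ x, (φ x).fst = x.fst) ∧
        ∀ i x, (q' i (φ x)).fst = q i x.fst ∧ (q' i (φ x)).snd = q i x.snd := by
  exact Helper.key k A q hq q' hε hq'

end Groth.Agent.S15988
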