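import Groth.Statements.S15989
import Groth.Agent.PlaneTwistLib.Cubic
-- import your own Groth.Agent.* helpers here

set_option autoImplicit false
set_option backward.isDefEq.respectTransparency false
universe u
open ModFun

namespace Groth.Agent.S15989

set_option backward.isDefEq.respectTransparency false
set_option backward.isDefEq.respectTransparency.types false
set_option maxHeartbeats 800000

open AlgebraicGeometry CategoryTheory CategoryTheory.Limits PlaneTwistLib in
theorem flat_surjective_field {K L : Type u} [Field K] [Field L] (φ : K →+* L) :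
    Flat (Spec.map (CommRingCat.ofHom φ)) ∧ Surjective (Spec.map (CommRingCat.ofHom φ)) := by
  refine ⟨?_, ?_⟩
  · refine (HasRingHomProperty.Spec_iff (P := @Flat)).2 ?_
    letI := φ.toAlgebra
    show RingHom.Flat (algebraMap K L)
    rw [RingHom.flat_algebraMap_iff]
    infer_instance
  · haveI : Subsingleton (Spec (CommRingCat.of K)) := inferInstanceAs (Subsingleton (PrimeSpectrum K))
    exact ⟨fun x => ⟨Nonempty.some (inferInstanceAs (Nonempty (PrimeSpectrum L))), Subsingleton.elim _ _⟩⟩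

open Polynomial in
theorem descent (k : Type u) [Field k] (c : k) : ∀ (n : ℕ) (a b d : k[X]), a.natDegree + b.natDegree + d.natDegree ≤ n →
    a ^ 3 + X * b ^ 3 + X ^ 2 * d ^ 3 + C c * X * (a * b * d) = 0 → a = 0 ∧ b = 0 ∧ d = 0 := by
  intro n
  induction n with
  | zero =>
    intro a b d hn h
    obtain ⟨a, rfl⟩ : ∃ r, C r = a := ⟨_, (eq_C_of_natDegree_eq_zero (show a.natDegree = 0 by omega)).symm⟩
    obtain ⟨b, rfl⟩ : ∃ r, C r = b := ⟨_, (eq_C_of_natDegree_eq_zero (show b.natDegree = 0 by omega)).symm⟩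
    obtain ⟨d, rfl⟩ : ∃ r, C r = d := ⟨_, (eq_C_of_natDegree_eq_zero (show d.natDegree = 0 by omega)).symm⟩
    have hh : C (a ^ 3) + C (b ^ 3 + c * (a * b * d)) * X + C (d ^ 3) * X ^ 2 = 0 := by
      simp only [map_add, map_mul, map_pow]
      linear_combination h
    have h0 : a ^ 3 = 0 := by simpa only [coeff_add, coeff_C_mul, coeff_C_zero, coeff_X_zero, coeff_X_pow, mul_zero, add_zero, coeff_zero, show (0 : ℕ) ≠ 2 by norm_num, if_false] using congrArg (fun p : k[X] => p.coeff 0) hh
    have h1 : b ^ 3 + c * (a * b * d) = 0 := by simpa only [coeff_add, coeff_C_mul, coeff_C_succ, coeff_X_one, coeff_X_pow, mul_zero, mul_one, add_zero, zero_add, coeff_zero, show (1 : ℕ) ≠ 2 by norm_num, if_false] using congrArg (fun p : k[X] => p.coeff 1) hh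
    have h2 : d ^ 3 = 0 := by simpa only [coeff_add, coeff_C_mul, coeff_C_succ, coeff_X_of_ne_one (show (2 : ℕ) ≠ 1 by norm_num), coeff_X_pow, mul_zero, mul_one, add_zero, zero_add, coeff_zero, if_true] using congrArg (fun p : k[X] => p.coeff 2) hh
    obtain rfl : a = 0 := pow_eq_zero_iff (by norm_num) |>.1 h0
    obtain rfl : d = 0 := pow_eq_zero_iff (by norm_num) |>.1 h2
    obtain rfl : b = 0 := pow_eq_zero_iff (n := 3) (by norm_num) |>.1 (by linear_combination h1)
    simp
  | succ n ih =>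
    intro a b d hn h
    obtain ⟨a', rfl⟩ : X ∣ a := prime_X.dvd_of_dvd_pow (n := 3) ⟨-(b ^ 3 + X * d ^ 3 + C c * (a * b * d)), by linear_combination h⟩
    have h' : X ^ 2 * a' ^ 3 + b ^ 3 + X * d ^ 3 + C c * X * (a' * b * d) = 0 :=
      mul_left_cancel₀ X_ne_zero (b := _) (c := (0 : k[X])) (by linear_combination h)
    obtain ⟨b', rfl⟩ : X ∣ b := prime_X.dvd_of_dvd_pow (n := 3) ⟨-(X * a' ^ 3 + d ^ 3 + C c * (a' * b * d)), by linear_combination h'⟩
    have h'' : X * a' ^ 3 + X ^ 2 * b' ^ 3 + d ^ 3 + C c * X * (a' * b' * d) = 0 :=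
      mul_left_cancel₀ X_ne_zero (b := _) (c := (0 : k[X])) (by linear_combination h')
    obtain ⟨d', rfl⟩ : X ∣ d := prime_X.dvd_of_dvd_pow (n := 3) ⟨-(a' ^ 3 + X * b' ^ 3 + C c * (a' * b' * d)), by linear_combination h''⟩
    have h3 : a' ^ 3 + X * b' ^ 3 + X ^ 2 * d' ^ 3 + C c * X * (a' * b' * d') = 0 :=
      mul_left_cancel₀ X_ne_zero (b := _) (c := (0 : k[X])) (by linear_combination h'')
    by_cases hz : a' = 0 ∧ b' = 0 ∧ d' = 0
    · obtain ⟨rfl, rfl, rfl⟩ := hz
      simp
    · have hdeg : ∀ p : k[X], (p = 0 ∧ (X * p).natDegree = 0 ∧ p.natDegree = 0) ∨ (X * p).natDegree = p.natDegree + 1 := by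
        intro p
        rcases eq_or_ne p 0 with rfl | hp
        · simp
        · exact Or.inr (by rw [natDegree_X_mul hp])
      have hle : a'.natDegree + b'.natDegree + d'.natDegree ≤ n := by
        rcases hdeg a' with ⟨ha, h1, h1'⟩ | h1 <;> rcases hdeg b' with ⟨hb, h2, h2'⟩ | h2 <;>
          rcases hdeg d' with ⟨hd, h3, h3'⟩ | h3 <;> first | omega | exact absurd ⟨ha, hb, hd⟩ hz
      obtain ⟨rfl, rfl, rfl⟩ := ih a' b' d' hle h3
      simp

open Polynomial AlgebraicGeometry CategoryTheory PlaneTwistLib in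
theorem no_point (k : Type u) [Field k] (c : k) (v : Fin (2 + 1) → FractionRing k[X])
    (h : MvPolynomial.eval v (cubic (algebraMap k[X] (FractionRing k[X]) X) (algebraMap k[X] (FractionRing k[X]) (Polynomial.C c))).1 = 0) :
    v = 0 := by
  obtain ⟨m, hm⟩ := IsLocalization.exist_integer_multiples_of_finite (nonZeroDivisors k[X]) v
  choose w hw using hm
  have hm0 : algebraMap k[X] (FractionRing k[X]) (m : k[X]) ≠ 0 :=
    IsFractionRing.to_map_ne_zero_of_mem_nonZeroDivisors m.2
  have hw' : ∀ i, algebraMap k[X] (FractionRing k[X]) (w i) = algebraMap k[X] (FractionRing k[X]) (m : k[X]) * v i :=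
    fun i => (hw i).trans (Algebra.smul_def _ _)
  rw [eval_cubic] at h
  have h' : algebraMap k[X] (FractionRing k[X]) (w 0 ^ 3 + X * w 1 ^ 3 + X ^ 2 * w 2 ^ 3 +
      Polynomial.C c * X * (w 0 * w 1 * w 2)) = 0 := by
    simp only [map_add, map_mul, map_pow, hw']
    linear_combination (algebraMap k[X] (FractionRing k[X]) (m : k[X])) ^ 3 * h
  obtain ⟨h0, h1, h2⟩ := descent k c _ (w 0) (w 1) (w 2) le_rfl
    (IsFractionRing.injective k[X] (FractionRing k[X]) (h'.trans (map_zero _).symm))
  funext i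
  rcases mul_eq_zero.1 ((hw' i).symm.trans ((congrArg _ (show w i = 0 by fin_cases i <;> assumption)).trans (map_zero _))) with hz | hz
  · exact absurd hz hm0
  · exact hz

open AlgebraicGeometry CategoryTheory in
/-- Over an algebraically closed field k, the moduli problem of curves of genus 1 (proper smooth
geometrically irreducible C → T with one-dimensional geometric fibres of genus 1, modulo isomorphism
over T, on all k-schemes T) is not representable: no k-scheme M carries a universal family. (The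
published statement asserts non-representability for every genus g and every number n of marked
points, which fails for g = 0 and n = 3: three disjoint sections identify every family with the
projective line over the base marked at 0, 1 and ∞, so that functor is represented by a point; its
argument is carried out in genus 1 with one marked point, and the unpointed genus-1 case stated here
is what that argument, with the same isotrivial family, proves.) -/
theorem result (k : Type u) [Field k] [IsAlgClosed k]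
    (M : Over (Spec (CommRingCat.of k))) :
    ¬ ModFun.IsFineModuli ⊤ (ModFun.Mg (Spec (CommRingCat.of k)) 1) M := by
  rintro ⟨ξ, hξ, hu⟩
  obtain ⟨c, hc⟩ : ∃ c : k, PlaneTwistLib.Good c := by
    by_cases h3 : (3 : k) = 0
    · exact ⟨1, Or.inr ⟨rfl, h3⟩⟩
    · exact ⟨0, Or.inl ⟨rfl, h3⟩⟩
  let K := FractionRing (Polynomial k)
  let ι₀ : k →+* K := (algebraMap (Polynomial k) K).comp Polynomial.C
  let t : K := algebraMap (Polynomial k) K Polynomial.X
  have ht : t ≠ 0 := fun h => Polynomial.X_ne_zero (IsFractionRing.injective (Polynomial k) K (h.trans (map_zero _).symm))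
  have hex : Function.Injective (Polynomial.expand k 3) := Polynomial.expand_injective (by norm_num)
  let φ : K →+* K := IsFractionRing.map (K := K) (L := K) (j := (Polynomial.expand k 3).toRingHom) hex
  have hφ : ∀ p, φ (algebraMap (Polynomial k) K p) = algebraMap (Polynomial k) K (Polynomial.expand k 3 p) := fun p =>
    IsLocalization.map_eq _ p
  have hφt : φ t = t ^ 3 := (hφ _).trans (by rw [Polynomial.expand_X, map_pow])
  have hφc : φ (ι₀ c) = ι₀ c := (hφ _).trans (congrArg _ (Polynomial.expand_C _ _))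
  obtain ⟨hflat, hsurj⟩ := flat_surjective_field φ
  let T : Over (Spec (CommRingCat.of k)) := Over.mk (Spec.map (CommRingCat.ofHom ι₀))
  let T' : Over (Spec (CommRingCat.of k)) := Over.mk (Spec.map (CommRingCat.ofHom φ) ≫ T.hom)
  let π : T' ⟶ T := Over.homMk (Spec.map (CommRingCat.ofHom φ)) rfl
  let fam : K → Over T.left := fun s => Over.mk ((LefPen.hypIdeal (PlaneTwistLib.cubic s (ι₀ c))).subschemeι ≫ CohB1.ProjSpace.toSpec 2 K)
  have hok : ∀ s : K, s ≠ 0 → (ModFun.Mg (Spec (CommRingCat.of k)) 1).ok T (fam s) := fun s hs =>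
    ⟨trivial, PlaneTwistLib.isCurveOfGenus_cubic hs (PlaneTwistLib.good_map ι₀ hc)⟩
  obtain ⟨g₁, ⟨e₁⟩, -⟩ := hu T (fam t) trivial (hok t ht)
  obtain ⟨g₂, ⟨e₂⟩, -⟩ := hu T (fam 1) trivial (hok 1 one_ne_zero)
  let fam' : Over T'.left := Over.mk ((LefPen.hypIdeal (PlaneTwistLib.cubic (1 : K) (ι₀ c))).subschemeι ≫ CohB1.ProjSpace.toSpec 2 K)
  have hok' : (ModFun.Mg (Spec (CommRingCat.of k)) 1).ok T' fam' :=
    ⟨trivial, PlaneTwistLib.isCurveOfGenus_cubic (one_ne_zero (α := K)) (PlaneTwistLib.good_map ι₀ hc)⟩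
  obtain ⟨g', -, hg'⟩ := hu T' fam' trivial hok'
  have key : ∀ (s : K) (g : T ⟶ M) (w : Fin (2 + 1) → Kˣ),
      PlaneTwistLib.substForm φ w (PlaneTwistLib.cubic s (ι₀ c)) = PlaneTwistLib.cubic (1 : K) (ι₀ c) →
      ((Over.pullback g.left).obj ξ ≅ fam s) → π ≫ g = g' := by
    intro s g w hs e
    refine hg' _ ?_
    obtain ⟨q, hq⟩ := PlaneTwistLib.exists_isPullback_str φ w _ (PlaneTwistLib.cubic_ne_zero s (ι₀ c)) _
      (PlaneTwistLib.cubic_ne_zero (1 : K) (ι₀ c)) hs
    refine ⟨?_⟩
    refine (Over.pullbackComp π.left g.left).app ξ ≪≫ (Over.pullback π.left).mapIso e ≪≫ ?_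
    exact Over.isoMk hq.isoPullback.symm hq.isoPullback_inv_snd
  let u : Kˣ := Units.mk0 t ht
  have hg₁ := key t g₁ ![1, u⁻¹, (u ^ 2)⁻¹]
    ((PlaneTwistLib.substForm_cubic φ _ t (ι₀ c) rfl 1
      (by simp [hφt, u]; exact mul_inv_cancel₀ (pow_ne_zero 3 ht))
      (by simp [hφt, u]; rw [← pow_mul, ← pow_mul]; exact mul_inv_cancel₀ (pow_ne_zero _ ht))
      (by simp [hφt, u]; rw [mul_assoc, ← mul_inv, ← pow_succ']; exact mul_inv_cancel₀ (pow_ne_zero _ ht))).trans (by rw [hφc])) e₁
  have hg₂ := key 1 g₂ (fun _ => 1)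
    ((PlaneTwistLib.substForm_cubic φ _ 1 (ι₀ c) rfl 1 (by simp) (by simp) (by simp)).trans (by rw [hφc])) e₂
  haveI : Epi (Spec.map (CommRingCat.ofHom φ)) := by
    haveI := hflat
    haveI := hsurj
    exact Flat.epi_of_flat_of_surjective _
  have hg : g₁ = g₂ := Over.OverMorphism.ext
    ((cancel_epi (Spec.map (CommRingCat.ofHom φ))).1 (congrArg CommaMorphism.left (hg₁.trans hg₂.symm)))
  let e : fam 1 ≅ fam t := e₂.symm ≪≫ eqToIso (by rw [hg]) ≪≫ e₁
  obtain ⟨s, hs⟩ := PlaneTwistLib.exists_section_of_zero (PlaneTwistLib.cubic (1 : K) (ι₀ c))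
    (PlaneTwistLib.cubic_ne_zero _ _) 0 ![-1, 0] (by
      rw [PlaneTwistLib.eval_cubic]
      have h1 : Fin.insertNth (α := fun _ => K) 0 1 ![-1, 0] = ![1, -1, 0] := by
        funext j; fin_cases j <;> rfl
      rw [h1]
      simp only [Matrix.cons_val_zero, Matrix.cons_val_one, Matrix.cons_val]
      ring)
  have hew : e.hom.left ≫ (fam t).hom = (fam 1).hom := Over.w e.hom
  obtain ⟨v, hv, hv0⟩ := PlaneTwistLib.exists_zero_of_section (PlaneTwistLib.cubic t (ι₀ c))
    (PlaneTwistLib.cubic_ne_zero _ _) (s ≫ e.hom.left) (by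
      rw [Category.assoc]
      exact (congrArg (s ≫ ·) hew).trans hs)
  exact hv (no_point k c v hv0)

end Groth.Agent.S15989
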