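import Groth.Statements.S1599
import Groth.Agent.NormalDescCompl.Compl
import Groth.Agent.NormalDescCompl.Core
import Groth.Agent.NodeComplLib.Basic
-- import your own Groth.Agent.* helpers here

set_option autoImplicit false
universe u
open CategoryTheory CategoryTheory.Limits AlgebraicGeometry
open Resolve

open scoped TensorProduct

namespace Groth.Agent.S1599

/-- Let A be a Noetherian local ring with maximal ideal m and B ⊆ C finite A-algebras. If B is a normal
ring and the m-adic completion of C is a normal ring, then the m-adic completion of B is a normal
ring. -/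
theorem result (A : Type u) [CommRing A] [IsLocalRing A] [IsNoetherianRing A]
    (B C : Type u) [CommRing B] [CommRing C] [Algebra A B] [Algebra A C] [Algebra B C] [IsScalarTower A B C]
    [Module.Finite A B] [Module.Finite A C] (hinj : Function.Injective (algebraMap B C))
    (hB : EGA4.IsNormalRing B)
    (hC : EGA4.IsNormalRing (AdicCompletion ((IsLocalRing.maximalIdeal A).map (algebraMap A C)) C)) :
    EGA4.IsNormalRing (AdicCompletion ((IsLocalRing.maximalIdeal A).map (algebraMap A B)) B) := by
  letI m := IsLocalRing.maximalIdeal A
  haveI : IsNoetherianRing B := IsNoetherianRing.of_finite A B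
  haveI : Module.Finite B C := Module.Finite.of_restrictScalars_finite A B C
  haveI : IsNoetherianRing (AdicCompletion m A) := Groth.Agent.NodeComplLib.isNoetherianRing_completion A
  haveI : Module.Flat A (AdicCompletion m A) := AdicCompletion.flat_of_isNoetherian m
  haveI : IsNoetherianRing (B ⊗[A] AdicCompletion m A) :=
    haveI : IsNoetherianRing (AdicCompletion m A ⊗[A] B) := IsNoetherianRing.of_finite (AdicCompletion m A) _
    isNoetherianRing_of_ringEquiv _ (Algebra.TensorProduct.comm A (AdicCompletion m A) B).toRingEquiv
  exact Groth.Agent.NormalTensor.isNormalRing_of_ringEquiv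
    (Groth.Agent.NormalDescCompl.baseEquiv m B).toRingEquiv
    (Groth.Agent.NormalDescCompl.isNormalRing_tensor A B C (AdicCompletion m A) hinj hB
      (Groth.Agent.NormalTensor.isNormalRing_of_ringEquiv
        (Groth.Agent.NormalDescCompl.baseEquiv m C).toRingEquiv.symm hC))
end Groth.Agent.S1599
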