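import Groth.Statements.S15991
import Groth.Agent.DefExtLib.Tangent
import Mathlib.RingTheory.Smooth.Basic
-- import your own Groth.Agent.* helpers here

set_option autoImplicit false
set_option backward.isDefEq.respectTransparency false
set_option backward.isDefEq.respectTransparency.types false
universe u v
open Deform

namespace Groth.Agent.S15991

namespace Aux15991

open AlgebraicGeometry CategoryTheory CategoryTheory.Limits TopologicalSpace
open Groth.Agent Groth.Agent.DefExtLib Groth.Agent.DefGlueLib Groth.Agent.DefClassLib Groth.Agent.LocHilbGlueLib Groth.Agent.RigidLib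
open ArtFun ArtFun.Art

theorem exists_hom {X Y : Scheme.{u}} [IsAffine X] (θ : Γ(X, ⊤) ⟶ Γ(Y, ⊤)) : ∃ r : Y ⟶ X, r.appTop = θ := by
  refine ⟨Y.toSpecΓ ≫ Spec.map θ ≫ X.isoSpec.inv, ?_⟩
  have h := congrArg Scheme.Hom.appTop X.isoSpec.hom_inv_id
  simp [Scheme.isoSpec, Scheme.toSpecΓ_appTop] at h ⊢

theorem exists_chart_top {k : Type u} [Field k] {X : Scheme.{u}} {x : X ⟶ specPt k} [Smooth x] [IsAffine X]
    {A : Art k k} (ξ : DefSch X x A) :
    ∃ θ : Γ(X, ⊤) ⟶ Γ(ξ.total, ⊤), θ ≫ ξ.i.appTop = 𝟙 _ ∧
      algR x ⊤ ≫ θ = CommRingCat.ofHom (algebraMap k A) ≫ strU ξ ⊤ := by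
  obtain ⟨c⟩ := exists_chart ξ (Category.id_comp x) (isAffineOpen_top X)
  have e : (⊤ : ξ.total.Opens) ≤ imU ξ (𝟙 X ⁻¹ᵁ ⊤) := (eq_imU ξ ⊤).ge
  refine ⟨c.θ ≫ ξ.total.presheaf.map (homOfLE e).op, ?_, ?_⟩
  · have h := c.π
    simp only [piU] at h
    rw [Category.assoc, show ξ.i.appTop = ξ.i.appLE ⊤ ⊤ le_top from (Scheme.Hom.appLE_eq_app _).symm,
      Scheme.Hom.map_appLE]
    exact h.trans (Scheme.Hom.id_app _)
  · rw [← Category.assoc, c.alg, Category.assoc]
    simp [strU, Scheme.Hom.appLE_map]

variable {k : Type u} [Field k] {B : Type u} [CommRing B] [Algebra k B] {ι : Type v} [Finite ι]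

theorem exists_separating (a : ι → B →ₐ[k] k) (ha : Function.Injective a) :
    Function.Surjective (Pi.algHom k (fun _ : ι => k) a) := by
  classical
  haveI := Fintype.ofFinite ι
  have h2 : ∀ i j, i ≠ j → ∃ e : B, a j e = 1 ∧ a i e = 0 := fun i j hij => by
    obtain ⟨b, hb⟩ : ∃ b, a j b ≠ a i b := by
      by_contra h
      push_neg at h
      exact hij (ha (AlgHom.ext fun b => (h b).symm))
    refine ⟨algebraMap k B (a j b - a i b)⁻¹ * (b - algebraMap k B (a i b)), ?_, ?_⟩
    · rw [map_mul, map_sub, AlgHom.commutes, AlgHom.commutes]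
      exact inv_mul_cancel₀ (sub_ne_zero.2 hb)
    · rw [map_mul, map_sub, AlgHom.commutes, AlgHom.commutes]
      simp
  have h3 : ∀ i j, ∃ e : B, a j e = 1 ∧ (i ≠ j → a i e = 0) := fun i j => by
    by_cases hij : i = j
    · exact ⟨1, map_one _, fun h => absurd hij h⟩
    · obtain ⟨e, h1, h2⟩ := h2 i j hij; exact ⟨e, h1, fun _ => h2⟩
  choose e he1 he2 using h3
  intro f
  refine ⟨∑ j, algebraMap k B (f j) * ∏ i, e i j, funext fun l => ?_⟩
  show a l _ = f l
  rw [map_sum, Finset.sum_eq_single l]
  · simp [map_prod, he1]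
  · intro j _ hj
    rw [map_mul, map_prod, Finset.prod_eq_zero (Finset.mem_univ l) (he2 l j (Ne.symm hj)), mul_zero]
  · exact fun h => absurd (Finset.mem_univ l) h

theorem exists_derivation [Algebra.FormallySmooth k B] (a : ι → B →ₐ[k] k) (ha : Function.Injective a)
    (d : ι → B →ₗ[k] k) (hd : ∀ j x y, d j (x * y) = a j x * d j y + a j y * d j x) :
    ∃ D : Derivation k B B, ∀ j x, a j (D x) = d j x := by
  let Φ := Pi.algHom k (fun _ : ι => k) a
  letI := Φ.toRingHom.toAlgebra
  haveI : IsScalarTower k B (ι → k) := IsScalarTower.of_algebraMap_eq fun c => (Φ.commutes c).symm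
  have hone : ∀ j, d j 1 = 0 := fun j => by
    have h := hd j 1 1
    simp only [mul_one, map_one, one_mul] at h
    exact add_eq_left.mp h.symm
  let δ : Derivation k B (ι → k) :=
    { toLinearMap := LinearMap.pi d
      map_one_eq_zero' := funext fun j => hone j
      leibniz' := fun x y => funext fun j => hd j x y }
  obtain ⟨L, hL⟩ := Module.projective_lifting_property (Algebra.linearMap B (ι → k)) δ.liftKaehlerDifferential
    (exists_separating a ha)
  refine ⟨L.compDer (KaehlerDifferential.D k B), fun j x => ?_⟩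
  have h := congrFun (LinearMap.congr_fun hL (KaehlerDifferential.D k B x)) j
  rw [Derivation.liftKaehlerDifferential_comp_D] at h
  exact h

end Aux15991

open AlgebraicGeometry CategoryTheory in
/-- Let k be a field and X an affine scheme smooth over k, with finitely many pairwise distinct
k-rational points p_j (j ∈ ι). Let X' → Spec k[ε] be flat, i : X → X' a morphism making X the fibre
over the closed point Spec k → Spec k[ε] (cartesian square), and p'_j : Spec k[ε] → X' sections
restricting to the p_j. Then there is an isomorphism φ : X' ≅ X ×_{Spec k} Spec k[ε] over Spec k[ε]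
such that i followed by φ is the inclusion of X at the closed point (its first component is the
identity of X) and each p'_j followed by φ is the constant section through p_j: every first-order
deformation of a smooth affine scheme with marked points is trivial. (The source says non-singular;
smooth over k is assumed here, and the marked points are taken pairwise distinct and finite in
number.) -/
theorem result
    (k : Type u) [Field k] (X : Scheme.{u}) (hX : X ⟶ Spec (CommRingCat.of k)) [IsAffine X] [Smooth hX]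
    {ι : Type v} [Finite ι] (p : ι → (Spec (CommRingCat.of k) ⟶ X)) (hp : ∀ j, p j ≫ hX = 𝟙 _)
    (hinj : Function.Injective p)
    (X' : Scheme.{u}) (g : X' ⟶ Spec (CommRingCat.of (DualNumber k))) [Flat g] (i : X ⟶ X')
    (hsq : IsPullback i hX g
      (Spec.map (CommRingCat.ofHom (TrivSqZeroExt.fstHom k k k).toRingHom)))
    (p' : ι → (Spec (CommRingCat.of (DualNumber k)) ⟶ X')) (hp' : ∀ j, p' j ≫ g = 𝟙 _)
    (hpp' : ∀ j, p j ≫ i = Spec.map (CommRingCat.ofHom (TrivSqZeroExt.fstHom k k k).toRingHom) ≫ p' j) :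
    ∃ φ : X' ≅ Limits.pullback hX (Spec.map (CommRingCat.ofHom (algebraMap k (DualNumber k)))),
      φ.hom ≫ Limits.pullback.snd hX (Spec.map (CommRingCat.ofHom (algebraMap k (DualNumber k)))) = g ∧
        i ≫ φ.hom ≫ Limits.pullback.fst hX (Spec.map (CommRingCat.ofHom (algebraMap k (DualNumber k)))) = 𝟙 X ∧
          ∀ j, p' j ≫ φ.hom ≫
              Limits.pullback.fst hX (Spec.map (CommRingCat.ofHom (algebraMap k (DualNumber k)))) =
            Spec.map (CommRingCat.ofHom (algebraMap k (DualNumber k))) ≫ p j := by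
  haveI : IsSeparated hX := inferInstance
  let ξ : ArtFun.DefSch X hX (ArtFun.Art.dual (Λ := k) (k := k)) :=
    { total := X', f := g, flat := ‹Flat g›, i := i, isPullback := hsq }
  obtain ⟨θ, hθπ, hθc⟩ := Aux15991.exists_chart_top ξ
  let B := Γ(X, ⊤)
  letI : Algebra k B := LocHilbGlueLib.algV hX ⊤
  haveI : Algebra.Smooth k B := by
    have h1 := hX.smooth_appLE (isAffineOpen_top _) (isAffineOpen_top X) (le_top : (⊤ : X.Opens) ≤ hX ⁻¹ᵁ ⊤)
    exact RingHom.Smooth.respectsIso.2 (f := (hX.appLE ⊤ ⊤ le_top).hom)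
      (Scheme.ΓSpecIso (CommRingCat.of k)).symm.commRingCatIsoToRingEquiv h1
  let ev : ∀ {R : Type u} [CommRing R] (q : Spec (CommRingCat.of R) ⟶ X), B →+* R :=
    fun {R} _ q => (q.appTop ≫ (Scheme.ΓSpecIso (CommRingCat.of R)).hom).hom
  let P : ι → Γ(X', ⊤) →+* DualNumber k := fun j =>
    ((p' j).appTop ≫ (Scheme.ΓSpecIso (CommRingCat.of (DualNumber k))).hom).hom
  let s : DualNumber k →+* Γ(X', ⊤) :=
    ((Scheme.ΓSpecIso (CommRingCat.of (DualNumber k))).inv ≫ g.appTop).hom
  have hPs : ∀ j c, P j (s c) = c := fun j c => by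
    have h := congrArg Scheme.Hom.appTop (hp' j)
    rw [Scheme.Hom.comp_appTop] at h
    show (Scheme.ΓSpecIso _).hom ((p' j).appTop (g.appTop ((Scheme.ΓSpecIso _).inv c))) = c
    rw [← CommRingCat.comp_apply g.appTop, h]
    simp
  have halg : (LocHilbGlueLib.algR hX ⊤) = (Scheme.ΓSpecIso (CommRingCat.of k)).inv ≫ hX.appTop :=
    congrArg ((Scheme.ΓSpecIso (CommRingCat.of k)).inv ≫ ·) (Scheme.Hom.appLE_eq_app hX)
  let a : ι → B →ₐ[k] k := fun j =>
    { ev (p j) with
      commutes' := fun c => by
        have h := congrArg Scheme.Hom.appTop (hp j)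
        rw [Scheme.Hom.comp_appTop] at h
        show (Scheme.ΓSpecIso _).hom ((p j).appTop (LocHilbGlueLib.algR hX ⊤ c)) = c
        rw [halg, CommRingCat.comp_apply, ← CommRingCat.comp_apply hX.appTop, h]
        simp }
  have hinja : Function.Injective a := fun j j' e => hinj (ext_of_isAffine (by
    rw [← cancel_mono (Scheme.ΓSpecIso (CommRingCat.of k)).hom]
    exact CommRingCat.hom_ext (congrArg AlgHom.toRingHom e)))
  have hπs : ∀ c, i.appTop (s c) = algebraMap k B (TrivSqZeroExt.fst c) := fun c => by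
    have h := congrArg Scheme.Hom.appTop hsq.w
    rw [Scheme.Hom.comp_appTop, Scheme.Hom.comp_appTop] at h
    show i.appTop (g.appTop ((Scheme.ΓSpecIso _).inv c)) = LocHilbGlueLib.algR hX ⊤ (TrivSqZeroExt.fst c)
    rw [halg, CommRingCat.comp_apply, ← CommRingCat.comp_apply g.appTop, h, CommRingCat.comp_apply]
    exact congrArg _ (ConcreteCategory.congr_hom (Scheme.ΓSpecIso_inv_naturality
      (CommRingCat.ofHom (TrivSqZeroExt.fstHom k k k).toRingHom)) c).symm
  have hfst : ∀ j r, TrivSqZeroExt.fst (P j r) = a j (i.appTop r) := fun j r => by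
    have h := congrArg Scheme.Hom.appTop (hpp' j)
    rw [Scheme.Hom.comp_appTop, Scheme.Hom.comp_appTop] at h
    show _ = (Scheme.ΓSpecIso _).hom ((p j).appTop (i.appTop r))
    rw [← CommRingCat.comp_apply i.appTop, h, CommRingCat.comp_apply]
    exact (ConcreteCategory.congr_hom (Scheme.ΓSpecIso_naturality
      (CommRingCat.ofHom (TrivSqZeroExt.fstHom k k k).toRingHom)) _).symm
  have hθa : ∀ j b, TrivSqZeroExt.fst (P j (θ b)) = a j b := fun j b =>
    (hfst j _).trans (congrArg (a j) (ConcreteCategory.congr_hom hθπ b))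
  have hθs : ∀ c, θ (algebraMap k B c) = s (algebraMap k (DualNumber k) c) := fun c =>
    (ConcreteCategory.congr_hom hθc c).trans (ConcreteCategory.congr_hom
      (congrArg ((Scheme.ΓSpecIso (CommRingCat.of (DualNumber k))).inv ≫ ·) (Scheme.Hom.appLE_eq_app g)) _)
  let d : ι → B →ₗ[k] k := fun j =>
    { toFun := fun b => -TrivSqZeroExt.snd (P j (θ b))
      map_add' := fun x y => by simp only [map_add, TrivSqZeroExt.snd_add, neg_add]
      map_smul' := fun c y => by
        rw [Algebra.smul_def, map_mul, map_mul, hθs, hPs, TrivSqZeroExt.snd_mul]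
        simp [TrivSqZeroExt.algebraMap_eq_inl] }
  obtain ⟨D, hD⟩ := Aux15991.exists_derivation a hinja d fun j x y => by
    show -TrivSqZeroExt.snd (P j (θ (x * y))) = _
    rw [map_mul, map_mul, TrivSqZeroExt.snd_mul, hθa, hθa]
    show -(a j x • _ + MulOpposite.op (a j y) • _) = a j x * -_ + a j y * -_
    rw [op_smul_eq_smul, smul_eq_mul, smul_eq_mul]
    ring
  have hεε : s DualNumber.eps * s DualNumber.eps = 0 := by rw [← map_mul, DualNumber.eps_mul_eps, map_zero]
  let θ' : B →+* Γ(X', ⊤) :=
    { toFun := fun b => θ b + s DualNumber.eps * θ (D b)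
      map_one' := by simp
      map_mul' := fun x y => by
        simp only [D.leibniz, smul_eq_mul, map_mul, map_add]
        linear_combination (-(θ (D x) * θ (D y))) * hεε
      map_zero' := by simp
      map_add' := fun x y => by simp only [map_add]; ring }
  obtain ⟨r, hr⟩ := Aux15991.exists_hom (CommRingCat.ofHom θ')
  have hir : i ≫ r = 𝟙 X := ext_of_isAffine (by
    rw [Scheme.Hom.comp_appTop, hr, Scheme.Hom.id_appTop]
    refine CommRingCat.hom_ext (RingHom.ext fun b => ?_)
    show i.appTop (θ b + s DualNumber.eps * θ (D b)) = b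
    rw [map_add, map_mul, hπs, DualNumber.fst_eps, map_zero, zero_mul, add_zero]
    exact ConcreteCategory.congr_hom hθπ b)
  have hrg : r ≫ hX = g ≫ Spec.map (CommRingCat.ofHom (algebraMap k (DualNumber k))) := ext_of_isAffine (by
    rw [Scheme.Hom.comp_appTop, Scheme.Hom.comp_appTop, hr,
      ← cancel_epi (Scheme.ΓSpecIso (CommRingCat.of k)).inv, ← Category.assoc, ← halg, ← Category.assoc,
      ← Scheme.ΓSpecIso_inv_naturality, Category.assoc]
    refine CommRingCat.hom_ext (RingHom.ext fun c => ?_)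
    show θ (algebraMap k B c) + s DualNumber.eps * θ (D (algebraMap k B c)) = s (algebraMap k _ c)
    rw [D.map_algebraMap, map_zero, mul_zero, add_zero, hθs])
  have hrp : ∀ j, p' j ≫ r = Spec.map (CommRingCat.ofHom (algebraMap k (DualNumber k))) ≫ p j := fun j =>
    ext_of_isAffine (by
      rw [Scheme.Hom.comp_appTop, Scheme.Hom.comp_appTop, hr,
        ← cancel_mono (Scheme.ΓSpecIso (CommRingCat.of (DualNumber k))).hom, Category.assoc, Category.assoc,
        Scheme.ΓSpecIso_naturality, ← Category.assoc (p j).appTop]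
      refine CommRingCat.hom_ext (RingHom.ext fun b => ?_)
      show P j (θ b + s DualNumber.eps * θ (D b)) = algebraMap k _ (a j b)
      rw [map_add, map_mul, hPs]
      ext
      · simp [TrivSqZeroExt.algebraMap_eq_inl, hθa]
      · simp [TrivSqZeroExt.algebraMap_eq_inl, hθa, hD, d, TrivSqZeroExt.snd_mul])
  let η := DefExtLib.triv hX (ArtFun.Art.dual (Λ := k) (k := k))
  let m : DefGlueLib.Mor (𝟙 _) η ξ :=
    { ψ := Limits.pullback.lift r g hrg
      w := by
        rw [ArtFun.Art.specMap_id, Category.comp_id]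
        exact Limits.pullback.lift_snd _ _ _
      i := by
        apply Limits.pullback.hom_ext
        · rw [Category.assoc, Limits.pullback.lift_fst]
          exact hir.trans (ArtFun.DefSch.baseChange_i_fst (ArtFun.DefSch.self X hX DefExtLib.flat_x) _).symm
        · rw [Category.assoc, Limits.pullback.lift_snd]
          exact ξ.isPullback.w.trans η.isPullback.w.symm |>.trans rfl }
  haveI := m.isIso
  refine ⟨asIso m.ψ, Limits.pullback.lift_snd _ _ _, ?_, fun j => ?_⟩
  · rw [asIso_hom]
    exact (congrArg (i ≫ ·) (Limits.pullback.lift_fst _ _ _)).trans hir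
  · rw [asIso_hom]
    exact (congrArg (p' j ≫ ·) (Limits.pullback.lift_fst _ _ _)).trans (hrp j)

end Groth.Agent.S15991
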