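import Groth.Statements.S15994
import Groth.Statements.S15994
import Groth.Agent.EtHullLib.Sup


set_option autoImplicit false
open CategoryTheory AlgebraicGeometry
universe u
open EtHull

namespace Groth.Agent.S15994

/-- Let S be a Noetherian scheme all of whose local rings are geometrically unibranch and whose
structure sheaf has no embedded associated points, and let f : X → S be flat, surjective and of
finite presentation. Then there is a factorization X → E₀ → S of f with E₀ → S étale and affine and
X → E₀ schematically dominant (the étale affine hull of X over S), and it is initial among all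
factorizations of f through étale affine S-schemes: for every factorization X → E → S of f with E →
S étale and affine there is a unique morphism E₀ → E compatible with the maps from X and to S. In
particular it is the largest factorization with X → E schematically dominant. (The source allows X
to be an algebraic space; X is a scheme here.) -/
theorem result {X S : Scheme.{u}} [IsNoetherian S]
    (hS : ∀ s : S, CAlg2.IsGeomUnibranch (S.presheaf.stalk s))
    (hemb : AssSch.NoEmbedded (Coh.structureModule S))
    (f : X ⟶ S) [Flat f] [Surjective f] [LocallyOfFinitePresentation f] [QuasiCompact f]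
    [QuasiSeparated f] :
    ∃ (E₀ : Scheme.{u}) (g₀ : E₀ ⟶ S) (u₀ : X ⟶ E₀), Etale g₀ ∧ IsAffineHom g₀ ∧
      IsSchemeTheoreticallyDominant u₀ ∧ u₀ ≫ g₀ = f ∧
      ∀ (E : Scheme.{u}) (g : E ⟶ S) (u : X ⟶ E), Etale g → IsAffineHom g → u ≫ g = f →
        ∃! v : E₀ ⟶ E, u₀ ≫ v = u ∧ v ≫ g = g₀ := by
  haveI : IsSchemeTheoreticallyDominant f := Groth.Agent.EtHullLib.isSchemeTheoreticallyDominant_of_flat f
  obtain ⟨M, -, hM⟩ := Groth.Agent.EtHullLib.exists_greatest (fun _ : Groth.Agent.EtHullLib.Fac f => True)
    ⟨⟨S, 𝟙 S, f, inferInstance, inferInstance, inferInstance, Category.comp_id f⟩, trivial⟩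
    (fun A B _ _ => by
      obtain ⟨C, hA, hB, -⟩ := Groth.Agent.EtHullLib.exists_sup hS hemb f A B
      exact ⟨C, trivial, hA, hB⟩)
  refine ⟨M.E, M.g, M.u, M.et, M.aff, M.dom, M.w, fun E g u _ _ hu => ?_⟩
  haveI : QuasiCompact u := by
    haveI : QuasiCompact (u ≫ g) := by rw [hu]; infer_instance
    exact QuasiCompact.of_comp u g
  haveI : Flat u := Groth.Agent.EtHullLib.flat_of_comp_etale u g (by rw [hu]; infer_instance)
  haveI : LocallyOfFinitePresentation u := by
    haveI : LocallyOfFiniteType (u ≫ g) := by rw [hu]; infer_instance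
    haveI : LocallyOfFiniteType u := locallyOfFiniteType_of_comp u g
    haveI : IsLocallyNoetherian E := LocallyOfFiniteType.isLocallyNoetherian g
    exact LocallyOfFinitePresentation.iff_locallyOfFiniteType.mpr inferInstance
  obtain ⟨C, hC, v, hv, hvu⟩ := Groth.Agent.EtHullLib.exists_clopen_image g hS hemb u
  haveI : IsClosedImmersion C.ι := by
    refine IsClosedImmersion.iff_isPreimmersion.mpr ⟨inferInstance, ?_⟩
    rw [Scheme.Opens.range_ι]; exact hC
  obtain ⟨w, hwu, hwg⟩ := hM ⟨C, C.ι ≫ g, v, inferInstance, inferInstance, hv, by rw [reassoc_of% hvu, hu]⟩ trivial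
  have h1 : M.u ≫ w ≫ C.ι = u := by rw [reassoc_of% hwu, hvu]
  have h2 : (w ≫ C.ι) ≫ g = M.g := by rw [Category.assoc]; exact hwg
  refine ⟨w ≫ C.ι, ⟨h1, h2⟩, fun v' hv' => ?_⟩
  exact Groth.Agent.EtHullLib.eq_of_dominant M.u v' (w ≫ C.ι) g (hv'.2.trans h2.symm) (hv'.1.trans h1.symm)

end Groth.Agent.S15994
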