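import Groth.Statements.S15995


set_option autoImplicit false
open CategoryTheory AlgebraicGeometry
universe u
open FrobSch

namespace Groth.Agent.S15995

open CategoryTheory CategoryTheory.Limits AlgebraicGeometry

theorem isPullback_of_isIso_relFrob (p : ℕ) [Fact p.Prime] {X S : Scheme.{u}} [FrobSch.IsCharP S p]
    [FrobSch.IsCharP X p] (f : X ⟶ S) (h : IsIso (FrobSch.relFrob f p)) :
    IsPullback (FrobSch.frob X p) f f (FrobSch.frob S p) :=
  IsPullback.of_iso_pullback ⟨FrobSch.frob_comp p f⟩ (asIso (FrobSch.relFrob f p))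
    (by simp) (by simp)

theorem isIso_relFrob_of_isPullback (p : ℕ) [Fact p.Prime] {X S : Scheme.{u}} [FrobSch.IsCharP S p]
    [FrobSch.IsCharP X p] (f : X ⟶ S) (h : IsPullback (FrobSch.frob X p) f f (FrobSch.frob S p)) :
    IsIso (FrobSch.relFrob f p) := by
  have e : FrobSch.relFrob f p = h.isoPullback.hom := by
    ext <;> simp
  rw [e]; infer_instance


/-- Coperfection commutes with base restriction. Let S and T be schemes of characteristic p and f : T →
S a relatively perfect morphism (its relative Frobenius T → T^(p/S) is an isomorphism). Let g : X →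
T and let c : X → X' be a T-morphism to a relatively perfect T-scheme π : X' → T which is a
coperfection of X over T: for every relatively perfect T-scheme Y, every T-morphism X → Y factors
uniquely through c. Then X' with structure map π ≫ f is relatively perfect over S and c is a
coperfection of X over S: every S-morphism from X to a relatively perfect S-scheme factors uniquely
through c. (The source works with algebraic spaces; schemes here.) -/
theorem result (p : ℕ) [Fact p.Prime] {X X' T S : Scheme.{u}}
    [FrobSch.IsCharP S p] [FrobSch.IsCharP T p] (f : T ⟶ S) (hf : IsIso (FrobSch.relFrob f p))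
    (g : X ⟶ T) (π : X' ⟶ T) (hπ : IsIso (FrobSch.relFrob π p)) (c : X ⟶ X') (hc : c ≫ π = g)
    (huniv : ∀ (Y : Scheme.{u}) (q : Y ⟶ T), IsIso (FrobSch.relFrob q p) →
      ∀ k : X ⟶ Y, k ≫ q = g → ∃! h : X' ⟶ Y, h ≫ q = π ∧ c ≫ h = k) :
    IsIso (FrobSch.relFrob (π ≫ f) p) ∧
      ∀ (Y : Scheme.{u}) (r : Y ⟶ S), IsIso (FrobSch.relFrob r p) →
        ∀ k : X ⟶ Y, k ≫ r = g ≫ f → ∃! h : X' ⟶ Y, h ≫ r = π ≫ f ∧ c ≫ h = k := by
  haveI : FrobSch.IsCharP X' p := FrobSch.IsCharP.of_hom π p
  have hT := isPullback_of_isIso_relFrob p f hf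
  have hX := isPullback_of_isIso_relFrob p π hπ
  refine ⟨isIso_relFrob_of_isPullback p _ (hX.paste_vert hT), ?_⟩
  intro Y r hr k hk
  haveI : FrobSch.IsCharP Y p := FrobSch.IsCharP.of_hom r p
  let YT : Scheme.{u} := Limits.pullback r f
  haveI : FrobSch.IsCharP YT p := FrobSch.IsCharP.of_hom (Limits.pullback.snd r f) p
  have hY := isPullback_of_isIso_relFrob p r hr
  have h1 : IsPullback (Limits.pullback.fst r f) (Limits.pullback.snd r f) r f :=
    IsPullback.of_hasPullback r f
  have h2 := h1.paste_horiz hY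
  rw [← FrobSch.frob_comp p (Limits.pullback.fst r f), ← FrobSch.frob_comp p f] at h2
  have h3 : IsPullback (FrobSch.frob YT p) (Limits.pullback.snd r f) (Limits.pullback.snd r f)
      (FrobSch.frob T p) :=
    IsPullback.of_right h2 (FrobSch.frob_comp p _) h1
  obtain ⟨h', ⟨hq, hc'⟩, hu⟩ := huniv YT (Limits.pullback.snd r f)
    (isIso_relFrob_of_isPullback p _ h3) (Limits.pullback.lift k g hk) (Limits.pullback.lift_snd _ _ _)
  refine ⟨h' ≫ Limits.pullback.fst r f, ⟨?_, ?_⟩, ?_⟩
  · rw [Category.assoc, Limits.pullback.condition, reassoc_of% hq]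
  · rw [reassoc_of% hc', Limits.pullback.lift_fst]
  · rintro h ⟨hr', hk'⟩
    have := hu (Limits.pullback.lift h π hr') ⟨Limits.pullback.lift_snd _ _ _,
      Limits.pullback.hom_ext
        (by rw [Category.assoc, Limits.pullback.lift_fst, Limits.pullback.lift_fst, hk'])
        (by rw [Category.assoc, Limits.pullback.lift_snd, Limits.pullback.lift_snd, hc])⟩
    rw [← this, Limits.pullback.lift_fst]

end Groth.Agent.S15995
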