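-- Copy of Groth/Templates/S15996.lean.txt with the sorry replaced.
import Groth.Statements.S15996
import Groth.Agent.EtaleSplit.GeomPoint
import Groth.Agent.ASp.UnramDiag
import Groth.Agent.RatDense.Hartogs
import Groth.Agent.SerreLib.Normal
import Groth.Agent.RegLocal.UFD
import Groth.Agent.CyclicRootLib.Regular
import Mathlib

set_option autoImplicit false
open CategoryTheory AlgebraicGeometry
universe u

namespace Groth.Agent.S15996

/-- A prime of height at most one which is locally principal: witnesses at every prime. -/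
theorem exists_principal_witness {A : Type u} [CommRing A] [IsRegularRing A] (P : Ideal A) [P.IsPrime]
    (hP : P.height ≤ 1) (e : Ideal A) [e.IsPrime] :
    ∃ s ∉ e, ∃ f ∈ P, ∀ p ∈ P, s * p ∈ Ideal.span {f} := by
  classical
  by_cases hPe : P ≤ e
  swap
  · obtain ⟨s, hsP, hse⟩ := SetLike.not_le_iff_exists.mp hPe
    exact ⟨s, hse, s, hsP, fun p _ => Ideal.mem_span_singleton.mpr (dvd_mul_right s p)⟩
  let L := Localization.AtPrime e
  haveI : IsRegularLocalRing L := IsRegularRing.isRegularLocalRing_localization e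
  haveI : IsDomain L := RegLocal.isDomain (R := L)
  haveI : UniqueFactorizationMonoid L := RegLocal.ufd L
  have hdisj : Disjoint (e.primeCompl : Set A) P := Set.disjoint_left.mpr fun x hx hxP => hx (hPe hxP)
  let Q : Ideal L := P.map (algebraMap A L)
  haveI hQ : Q.IsPrime := IsLocalization.isPrime_of_isPrime_disjoint e.primeCompl L P ‹_› hdisj
  have hht : Q.height ≤ 1 := by
    rw [← IsLocalization.height_under e.primeCompl Q, IsLocalization.under_map_of_isPrime_disjoint e.primeCompl L ‹_› hdisj]
    exact hP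
  obtain ⟨q, hqQ, hQq⟩ : ∃ q ∈ Q, Q ≤ Ideal.span {q} := by
    rcases eq_or_ne Q ⊥ with h | h
    · exact ⟨0, zero_mem _, h ▸ bot_le⟩
    obtain ⟨q, hqQ, hq⟩ := Ideal.IsPrime.exists_mem_prime_of_ne_bot hQ h
    refine ⟨q, hqQ, ?_⟩
    haveI : (Ideal.span {q}).IsPrime := (Ideal.span_singleton_prime hq.ne_zero).mpr hq
    by_contra hne
    have hlt : Ideal.span {q} < Q := lt_of_le_not_ge ((Ideal.span_singleton_le_iff_mem _).mpr hqQ) hne
    have h0 : (⊥ : Ideal L) < Ideal.span {q} := bot_lt_iff_ne_bot.mpr (by simpa using hq.ne_zero)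
    have h1 := Ideal.height_strict_mono_of_isPrime h0
    have h2 := Ideal.height_strict_mono_of_isPrime hlt
    rw [Ideal.height_bot] at h1
    exact absurd (lt_of_lt_of_le h2 hht) (not_lt.mpr (Order.one_le_iff_pos.mpr h1))
  obtain ⟨⟨⟨f, hfP⟩, t⟩, hft⟩ := (IsLocalization.mem_map_algebraMap_iff e.primeCompl L).mp hqQ
  have key : ∀ p ∈ P, ∃ s ∉ e, s * p ∈ Ideal.span {f} := by
    intro p hp
    obtain ⟨c, hc⟩ := Ideal.mem_span_singleton'.mp (hQq (Ideal.mem_map_of_mem _ hp))
    obtain ⟨⟨a, b⟩, hab⟩ := IsLocalization.surj e.primeCompl c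
    have h : algebraMap A L (↑b * ↑t * p) = algebraMap A L (a * f) := by
      dsimp only at hft hab
      rw [map_mul, map_mul, map_mul, ← hab, ← hft, ← hc]; ring
    obtain ⟨w, hw⟩ := (IsLocalization.eq_iff_exists e.primeCompl L).mp h
    exact ⟨↑w * (↑b * ↑t), (w * (b * t)).2, Ideal.mem_span_singleton'.mpr ⟨↑w * a, by rw [mul_assoc (w : A) a f, ← hw]; ring⟩⟩
  choose s hs hsp using key
  obtain ⟨T, hT⟩ := (IsNoetherian.noetherian P : P.FG)
  have hTP : ∀ p ∈ T, p ∈ P := fun p hp => hT ▸ Ideal.subset_span hp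
  refine ⟨∏ p ∈ T.attach, s p.1 (hTP _ p.2), ?_, f, hfP, ?_⟩
  · exact (Ideal.IsPrime.prod_mem_iff (p := e)).not.mpr fun ⟨p, _, hp⟩ => hs _ _ hp
  intro p hp
  rw [← hT] at hp
  induction hp using Submodule.span_induction with
  | mem x hx =>
    obtain ⟨c, hc⟩ : s x (hTP _ hx) ∣ ∏ p ∈ T.attach, s p.1 (hTP _ p.2) :=
      Finset.dvd_prod_of_mem (fun p : T => s p.1 (hTP _ p.2)) (Finset.mem_attach T ⟨x, hx⟩)
    rw [hc, mul_right_comm]
    exact Ideal.mul_mem_right _ _ (hsp x _)
  | zero => simp
  | add x y _ _ hx hy => rw [mul_add]; exact add_mem hx hy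
  | smul a x _ hx => rw [smul_eq_mul, mul_left_comm]; exact Ideal.mul_mem_left _ _ hx

/-- The complement of the closed set of a prime. -/
def compl {A : CommRingCat.{u}} (P : Ideal A) : (Spec A).Opens :=
  ⟨(PrimeSpectrum.zeroLocus (P : Set A))ᶜ, (PrimeSpectrum.isClosed_zeroLocus _).isOpen_compl⟩

theorem mem_compl {A : CommRingCat.{u}} (P : Ideal A) (x : Spec A) :
    x ∈ compl P ↔ ¬ P ≤ x.asIdeal := Iff.rfl

/-- In a regular ring the complement of an irreducible closed set of codimension at most one is affine. -/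
theorem isAffineOpen_compl {A : CommRingCat.{u}} [IsRegularRing A] (P : Ideal A) [P.IsPrime]
    (hP : P.height ≤ 1) : IsAffineOpen (compl P) := by
  let S : Set A := {s | ∃ f ∈ P, ∀ p ∈ P, s * p ∈ Ideal.span {f}}
  have hS : Ideal.span S = ⊤ := by
    by_contra h
    obtain ⟨m, hm, hle⟩ := Ideal.exists_le_maximal _ h
    obtain ⟨s, hse, f, hf, hsp⟩ := exists_principal_witness P hP m
    exact hse (hle (Ideal.subset_span ⟨f, hf, hsp⟩))
  let r : A →+* Γ(Spec A, compl P) :=
    (((Scheme.ΓSpecIso A).inv ≫ (Spec A).presheaf.map (homOfLE (le_top : compl P ≤ ⊤)).op)).hom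
  refine isAffineOpen_of_isAffineOpen_basicOpen (compl P) (r '' S) ?_ ?_
  · rw [← Ideal.map_span, hS, Ideal.map_top]
  rintro _ ⟨s, ⟨f, hf, hsp⟩, rfl⟩
  have hb : (Spec A).basicOpen (r s) = PrimeSpectrum.basicOpen (s * f) := by
    show (Spec A).basicOpen ((Spec A).presheaf.map (homOfLE (le_top : compl P ≤ ⊤)).op ((Scheme.ΓSpecIso A).inv s)) = _
    rw [Scheme.basicOpen_res, basicOpen_eq_of_affine, ← basicOpen_eq_of_affine (s * f), basicOpen_eq_of_affine]
    refine TopologicalSpace.Opens.ext (Set.ext fun x => ?_)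
    show (x ∈ compl P ∧ s ∉ x.asIdeal) ↔ s * f ∉ x.asIdeal
    refine ⟨fun ⟨h1, h2⟩ h => ?_, fun h => ⟨fun hPx => h (Ideal.mul_mem_left _ _ (hPx hf)),
      fun hs => h (Ideal.mul_mem_right _ _ hs)⟩⟩
    refine h1 fun p hp => ?_
    obtain ⟨c, hc⟩ := Ideal.mem_span_singleton'.mp (hsp p hp)
    have hfx := (x.isPrime.mem_or_mem h).resolve_left h2
    exact (x.isPrime.mem_or_mem (hc ▸ Ideal.mul_mem_left _ c hfx : s * p ∈ x.asIdeal)).resolve_left h2
  rw [hb]
  exact IsAffineOpen.Spec_basicOpen _

/-- An open of a regular affine scheme has the same functions as an affine open containing it. -/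
theorem exists_affine_hull {A : CommRingCat.{u}} [IsRegularRing A] (U : (Spec A).Opens) :
    ∃ (V : (Spec A).Opens) (h : U ≤ V), IsAffineOpen V ∧
      Function.Bijective ((Spec A).presheaf.map (homOfLE h).op) := by
  classical
  let I : Ideal A := PrimeSpectrum.vanishingIdeal (U : Set (Spec A))ᶜ
  have hI : ∀ x : Spec A, x ∉ U ↔ I ≤ x.asIdeal := fun x => by
    have := (PrimeSpectrum.zeroLocus_vanishingIdeal_eq_closure (U : Set (Spec A))ᶜ).trans U.isOpen.isClosed_compl.closure_eq
    exact (Set.ext_iff.mp this x).symm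
  let S : Finset (Ideal A) := (I.finite_minimalPrimes_of_isNoetherianRing A).toFinset.filter fun P => P.height ≤ 1
  have hSp : ∀ P ∈ S, P.IsPrime ∧ I ≤ P ∧ P.height ≤ 1 := fun P hP => by
    simp only [S, Finset.mem_filter, Set.Finite.mem_toFinset] at hP
    exact ⟨hP.1.1.1, hP.1.1.2, hP.2⟩
  have hmem : ∀ (T : Finset (Ideal A)) (x : Spec A), x ∈ T.inf compl ↔ ∀ P ∈ T, ¬ P ≤ x.asIdeal := by
    intro T x
    induction T using Finset.induction with
    | empty => simp
    | insert P T _ ih =>
      rw [Finset.inf_insert, Finset.forall_mem_insert, ← ih, ← mem_compl]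
      exact Iff.rfl
  have haff : ∀ T : Finset (Ideal A), T ⊆ S → IsAffineOpen (T.inf compl) := by
    intro T hT
    induction T using Finset.induction with
    | empty => simpa using isAffineOpen_top (Spec A)
    | insert P T _ ih =>
      rw [Finset.insert_subset_iff] at hT
      rw [Finset.inf_insert]
      haveI := (hSp P hT.1).1
      exact (isAffineOpen_compl P (hSp P hT.1).2.2).inf (ih hT.2)
  have hUV : U ≤ S.inf compl := fun x hx => (hmem S x).mpr fun P hP hPx =>
    (hI x).mpr ((hSp P hP).2.1.trans hPx) hx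
  refine ⟨S.inf compl, hUV, haff S subset_rfl, ?_⟩
  have hd : ∀ x : Spec A, x ∈ S.inf compl → x ∉ U →
      (2 : ℕ∞) ≤ LocCoh.depth ((Spec A).presheaf.stalk x) ((Spec A).presheaf.stalk x) := by
    intro x hxV hx
    haveI := x.isPrime
    letI : Algebra A ((Spec A).presheaf.stalk x) := StructureSheaf.stalkAlgebra A x
    haveI : IsLocalization.AtPrime ((Spec A).presheaf.stalk x) x.asIdeal :=
      StructureSheaf.IsLocalization.to_stalk A x
    haveI : IsRegularLocalRing ((Spec A).presheaf.stalk x) :=
      haveI := IsRegularRing.isRegularLocalRing_localization x.asIdeal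
      IsRegularLocalRing.of_ringEquiv (IsLocalization.algEquiv x.asIdeal.primeCompl (Localization.AtPrime x.asIdeal) ((Spec A).presheaf.stalk x)).toRingEquiv
    haveI : IsDomain ((Spec A).presheaf.stalk x) := RegLocal.isDomain (R := (Spec A).presheaf.stalk x)
    haveI : UniqueFactorizationMonoid ((Spec A).presheaf.stalk x) := RegLocal.ufd _
    refine SerreLib.two_le_depth_of_normal ?_
    rw [IsLocalization.AtPrime.ringKrullDim_eq_height x.asIdeal ((Spec A).presheaf.stalk x),
      ← WithBot.coe_one, WithBot.coe_lt_coe]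
    by_contra hle
    rw [not_lt] at hle
    obtain ⟨P, hPmin, hPx⟩ := Ideal.exists_minimalPrimes_le ((hI x).mp hx)
    have hPS : P ∈ S := by
      simp only [S, Finset.mem_filter, Set.Finite.mem_toFinset]
      exact ⟨hPmin, (Ideal.height_mono hPx).trans hle⟩
    exact (hmem S x).mp hxV P hPS hPx
  refine ⟨(injective_iff_map_eq_zero _).2 fun a ha =>
    RatDense.dense_of_depth_pos (fun x hx hxU => le_trans (by norm_num) (hd x hx hxU)) a
      (RatDense.res_eq_zero_mono hUV inf_le_right ha), fun s => RatDense.exists_extend_section hUV hd s⟩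

theorem res_bijective_congr {X : Scheme.{u}} {a b c d : X.Opens} (hb : a = c) (hd : b = d) (h : b ≤ a) (h' : d ≤ c)
    (H : Function.Bijective (X.presheaf.map (homOfLE h).op)) :
    Function.Bijective (X.presheaf.map (homOfLE h').op) := by
  subst hb hd; exact H

open EtHull in
/-- Let R be a Noetherian ring whose localizations at all prime ideals are regular local rings, S = Spec
R, and q : U → S an étale, separated and quasi-compact morphism of schemes. The following are
equivalent: (1) there is an open immersion of U into a scheme E which is étale and affine over S,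
compatible with q; (2) the affine hull Spec Γ(U, O_U) → S of U over S is étale. (The source states
this for a locally Noetherian algebraic space S all of whose étale atlases are locally ℚ-factorial;
this row is the case of an affine regular Noetherian base, a regular scheme being locally
ℚ-factorial.) -/
theorem result {R : Type u} [CommRing R]
    [IsNoetherianRing R] (hreg : ∀ (P : Ideal R) [P.IsPrime], IsRegularLocalRing (Localization.AtPrime P))
    {U : Scheme.{u}} (q : U ⟶ Spec (CommRingCat.of R)) [Etale q] [IsSeparated q] [QuasiCompact q] :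
    (∃ (E : Scheme.{u}) (j : U ⟶ E) (g : E ⟶ Spec (CommRingCat.of R)),
        IsOpenImmersion j ∧ Etale g ∧ IsAffineHom g ∧ j ≫ g = q) ↔
      Etale (Spec.map q.appTop ≫ (Spec (CommRingCat.of R)).isoSpec.inv) := by
  constructor
  · rintro ⟨E, j, g, _, _, _, rfl⟩
    haveI : IsRegularRing R := isRegularRing_iff.2 fun P _ => hreg P
    haveI : IsAffine E := isAffine_of_isAffineHom g
    obtain ⟨φ, hφ⟩ := Spec.map_surjective (E.isoSpec.inv ≫ g)
    haveI het : Etale (Spec.map φ) := by rw [hφ]; infer_instance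
    have hφe : φ.hom.Etale := (HasRingHomProperty.Spec_iff (P := @Etale)).mp het
    algebraize [φ.hom]
    haveI : Algebra.Etale R Γ(E, ⊤) := hφe
    haveI : IsRegularRing Γ(E, ⊤) := CyclicRootLib.isRegularRing_of_etale R _
    let j' : U ⟶ Spec Γ(E, ⊤) := j ≫ E.isoSpec.hom
    have hj : j ≫ g = j' ≫ Spec.map φ := by rw [hφ, Category.assoc, Iso.hom_inv_id_assoc]
    obtain ⟨V, hUV, hV, hbij⟩ := exists_affine_hull j'.opensRange
    let k : U ⟶ (V : Scheme.{u}) := j'.isoOpensRange.hom ≫ (Spec Γ(E, ⊤)).homOfLE hUV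
    have hk : k ≫ V.ι = j' := by simp [k]
    haveI : IsIso k.appTop := by
      rw [Scheme.Hom.comp_appTop, Scheme.homOfLE_appTop]
      haveI : IsIso j'.isoOpensRange.hom.appTop := inferInstanceAs (IsIso (j'.isoOpensRange.hom.app _))
      refine @IsIso.comp_isIso _ _ _ _ _ _ _ ?_ inferInstance
      exact (ConcreteCategory.isIso_iff_bijective _).2
        (res_bijective_congr V.ι_image_top.symm j'.opensRange.ι_image_top.symm hUV _ hbij)
    haveI : IsAffine (V : Scheme.{u}) := hV
    rw [hj, ← hk, Category.assoc, Scheme.Hom.comp_appTop k, Spec.map_comp, Category.assoc,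
      Scheme.isoSpec_inv_naturality]
    infer_instance
  · intro h
    haveI : CompactSpace U := QuasiCompact.compactSpace_of_compactSpace q
    haveI : LocallyQuasiFinite q := Unibranch.locallyQuasiFinite_of_etale q
    haveI : IsAffine q.normalization := isAffine_of_isAffineHom q.fromNormalization
    haveI : U.IsQuasiAffine := Scheme.IsQuasiAffine.of_isImmersion q.toNormalization
    refine ⟨Spec Γ(U, ⊤), U.toSpecΓ, _, inferInstance, h, inferInstance, ?_⟩
    rw [← Category.assoc, ← Scheme.toSpecΓ_naturality, Category.assoc]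
    simp [Scheme.isoSpec]

end Groth.Agent.S15996
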