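import Groth.Statements.S16002
import Groth.Agent.VBLib.Max
import Groth.Agent.VBLib.Twist
-- import your own Groth.Agent.* helpers here

set_option autoImplicit false
open CategoryTheory AlgebraicGeometry CategoryTheory.Limits
open VBCurve

namespace Groth.Agent.S16002
open CategoryTheory CategoryTheory.Limits AlgebraicGeometry

/-- Let X be a smooth proper integral curve over the complex numbers and (L_i)_{i ∈ ι} a family of
invertible O_X-modules. A tuple is a finite locally free O_X-module E of rank r ≥ 1 with maps φ_i :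
E → E ⊗ L_i; a submodule j : G → E (a monomorphism) is invariant when for every i some χ : G → G ⊗
L_i followed by j ⊗ L_i equals j followed by φ_i; the tuple is semistable when deg G · r ≤ deg E · n
for every invariant finite locally free submodule G of rank n ≥ 1, degrees being χ − rank · χ(O_X).
If (E, φ) and (F, ψ) are semistable tuples of ranks r ≥ 1 and s ≥ 1 over the same family (L_i) and f
: E → F is a nonzero module map with f followed by ψ_i equal to φ_i followed by f ⊗ L_i for every i,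
then the slope of E is at most that of F: deg E · s ≤ deg F · r. (The published lemma has finitely
many pairwise commuting twisting maps and morphisms compatible up to one nonzero scalar; the
commutation is not used, the index set is arbitrary here, and the scalar case reduces to this one by
rescaling the ψ_i.) -/
theorem result
    (X : Scheme.{0}) [X.Over (Spec (CommRingCat.of ℂ))] [IsIntegral X]
    [IsProper (X ↘ Spec (CommRingCat.of ℂ))] [Smooth (X ↘ Spec (CommRingCat.of ℂ))]
    (hdim : topologicalKrullDim X = 1)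
    (ι : Type) (L : ι → X.Modules) (hL : ∀ i, PicF.IsInvertible (L i))
    (r s : ℕ) (hr : 0 < r) (hs : 0 < s)
    (E F : X.Modules) (hE : FlatMod.IsFinLocFreeOfRank r E) (hF : FlatMod.IsFinLocFreeOfRank s F)
    (φ : ∀ i, E ⟶ CohB1.tensorMod E (L i)) (ψ : ∀ i, F ⟶ CohB1.tensorMod F (L i))
    (hEss : (∀ (G : X.Modules) (n : ℕ) (j : G ⟶ E), Mono j → 0 < n → FlatMod.IsFinLocFreeOfRank n G →
      (∀ i, ∃ χ : G ⟶ CohB1.tensorMod G (L i), χ ≫ (CohB1.sheafifyMod X).map (MonoidalCategoryStruct.whiskerRight (C := CohB1.PMod X) j.val (CohB1.toPMod (L i))) = j ≫ φ i) →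
      Curv2.deg ℂ X G n * (r : ℤ) ≤ Curv2.deg ℂ X E r * (n : ℤ)))
    (hFss : (∀ (G : X.Modules) (n : ℕ) (j : G ⟶ F), Mono j → 0 < n → FlatMod.IsFinLocFreeOfRank n G →
      (∀ i, ∃ χ : G ⟶ CohB1.tensorMod G (L i), χ ≫ (CohB1.sheafifyMod X).map (MonoidalCategoryStruct.whiskerRight (C := CohB1.PMod X) j.val (CohB1.toPMod (L i))) = j ≫ ψ i) →
      Curv2.deg ℂ X G n * (s : ℤ) ≤ Curv2.deg ℂ X F s * (n : ℤ)))
    (f : E ⟶ F) (hf : ∀ i, f ≫ ψ i = φ i ≫ (CohB1.sheafifyMod X).map (MonoidalCategoryStruct.whiskerRight (C := CohB1.PMod X) f.val (CohB1.toPMod (L i)))) (hne : f ≠ 0) :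
    Curv2.deg ℂ X E r * (s : ℤ) ≤ Curv2.deg ℂ X F s * (r : ℤ) := by
  haveI := VBLib.isRegCurve_of_smooth ℂ (X := X) hdim.le
  haveI := EulerIneqLib.isNoetherian_proper (X := X) ℂ
  have hEc := VBLib.isCoh_of_rank hE
  have hFc := VBLib.isCoh_of_rank hF
  obtain ⟨I, p, j, hj, hp, hpj, hI, hK, h1, h2⟩ := VBLib.exists_image ℂ f hEc hFc
  haveI := hj
  haveI := hp
  have hS : (ShortComplex.mk (kernel.ι f) f (kernel.condition f)).Exact :=
    ShortComplex.exact_of_f_is_kernel _ (kernelIsKernel f)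
  have hp0 : kernel.ι f ≫ p = 0 := by
    rw [← cancel_mono j, Category.assoc, hpj, kernel.condition, zero_comp]
  have hker : (ShortComplex.mk (kernel.ι f) p hp0).ShortExact :=
    ShortComplex.ShortExact.mk' (ShortComplex.exact_of_f_is_kernel _
      (KernelFork.IsLimit.ofι' _ hp0 fun {A} g hg => ⟨kernel.lift f g (by rw [← hpj, ← Category.assoc, hg, zero_comp]),
        kernel.lift_ι _ _ _⟩)) inferInstance hp
  have hmono : ∀ i, Mono ((CurveLib.tensR (L i)).map j) := fun i =>
    CurveLib.mono_tmap j fun x => CurveLib.freeAt_one_of_isInvertible (hL i) x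
  have hw : ∀ i, kernel.ι f ≫ φ i ≫ (CurveLib.tensR (L i)).map p = 0 := fun i => by
    haveI := hmono i
    rw [← cancel_mono ((CurveLib.tensR (L i)).map j), zero_comp]
    erw [Category.assoc, Category.assoc, ← Functor.map_comp]
    rw [hpj]
    erw [← hf i]
    exact (Category.assoc _ _ _).symm.trans ((congrArg (· ≫ ψ i) (kernel.condition f)).trans zero_comp)
  have hKinv : ∀ i, ∃ χ : kernel f ⟶ CohB1.tensorMod (kernel f) (L i),
      χ ≫ (CurveLib.tensR (L i)).map (kernel.ι f) = kernel.ι f ≫ φ i := fun i => by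
    have hT := CurveLib.shortExact_tensR hker fun x => CurveLib.freeAt_one_of_isInvertible (hL i) x
    haveI := hT.mono_f
    exact ⟨hT.fIsKernel.lift (KernelFork.ofι (kernel.ι f ≫ φ i) (by rw [Category.assoc]; exact hw i)),
      hT.fIsKernel.fac _ WalkingParallelPair.zero⟩
  have hIinv : ∀ i, ∃ χ : I ⟶ CohB1.tensorMod I (L i), χ ≫ (CurveLib.tensR (L i)).map j = j ≫ ψ i := fun i => by
    haveI := hker.epi_g
    let χ : I ⟶ CohB1.tensorMod I (L i) :=
      hker.gIsCokernel.desc (CokernelCofork.ofπ (φ i ≫ (CurveLib.tensR (L i)).map p) (hw i))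
    have hχ : p ≫ χ = φ i ≫ (CurveLib.tensR (L i)).map p := hker.gIsCokernel.fac _ WalkingParallelPair.one
    refine ⟨χ, ?_⟩
    rw [← cancel_epi p, ← Category.assoc, hχ]
    erw [Category.assoc, ← Functor.map_comp]
    rw [hpj]
    exact (hf i).symm.trans ((congrArg (· ≫ ψ i) hpj.symm).trans (Category.assoc _ _ _))
  have hI0 : 0 < VBLib.grk I := Nat.pos_of_ne_zero fun h0 => hne (by
    rw [← hpj, (VBLib.isZero_of_mono j hI hF h0).eq_of_tgt p 0, zero_comp])
  have hIr := VBLib.rank_of_mono j hI hF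
  have hKr := VBLib.rank_of_mono (kernel.ι f) hK hE
  have a2 : VBLib.dg ℂ I * s ≤ Curv2.deg ℂ X F s * VBLib.grk I := by
    rw [VBLib.dg_eq ℂ hIr]
    exact hFss I _ j hj hI0 hIr hIinv
  have a1 : VBLib.dg ℂ (kernel f) * r ≤ Curv2.deg ℂ X E r * VBLib.grk (kernel f) := by
    rcases Nat.eq_zero_or_pos (VBLib.grk (kernel f)) with h0 | h0
    · rw [h0, (VBLib.dg_isZero ℂ (VBLib.isZero_of_mono (kernel.ι f) hK hE h0)).2]
      simp
    · rw [VBLib.dg_eq ℂ hKr]
      exact hEss _ _ (kernel.ι f) inferInstance h0 hKr hKinv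
  rw [VBLib.grk_of_rank hE] at h1
  rw [VBLib.dg_eq ℂ hE] at h2
  have er : (r : ℤ) = VBLib.grk (kernel f) + VBLib.grk I := by exact_mod_cast h1
  have q1 := congrArg (Curv2.deg ℂ X E r * ·) er
  have q2 := congrArg (· * (r : ℤ)) h2
  try dsimp only at q1 q2
  have h3 : Curv2.deg ℂ X E r * VBLib.grk I ≤ VBLib.dg ℂ I * r := by linarith
  refine le_of_mul_le_mul_right ?_ (show (0 : ℤ) < VBLib.grk I by exact_mod_cast hI0)
  have q3 := mul_le_mul_of_nonneg_right h3 (Int.natCast_nonneg s)
  have q4 := mul_le_mul_of_nonneg_right a2 (Int.natCast_nonneg r)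
  linarith

end Groth.Agent.S16002
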