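import Groth.Statements.S16003
import Groth.Agent.VBLib.Max
import Groth.Agent.VBLib.Twist
-- import your own Groth.Agent.* helpers here

set_option autoImplicit false
open CategoryTheory AlgebraicGeometry CategoryTheory.Limits
open VBCurve

namespace Groth.Agent.S16003
open CategoryTheory CategoryTheory.Limits AlgebraicGeometry

/-- Let X be a smooth proper integral curve over the complex numbers and L an invertible O_X-module; an
L-valued pair is a finite locally free O_X-module E of rank r ≥ 1 with a map φ : E → E ⊗ L; a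
submodule j : G → E (a monomorphism) is φ-invariant when some χ : G → G ⊗ L followed by j ⊗ L equals
j followed by φ; the pair is semistable when deg G · r ≤ deg E · n for every φ-invariant finite
locally free submodule G of rank n ≥ 1, degrees being χ − rank · χ(O_X). If (E, φ) is a semistable
pair and φ is not zero, then L has non-negative degree. (The published statement is for tuples of
finitely many commuting twisting maps; this is the assertion for the one map φ.) -/
theorem result
    (X : Scheme.{0}) [X.Over (Spec (CommRingCat.of ℂ))] [IsIntegral X]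
    [IsProper (X ↘ Spec (CommRingCat.of ℂ))] [Smooth (X ↘ Spec (CommRingCat.of ℂ))]
    (hdim : topologicalKrullDim X = 1)
    (L : X.Modules) (hL : PicF.IsInvertible L)
    (r : ℕ) (hr : 0 < r) (E : X.Modules) (hE : FlatMod.IsFinLocFreeOfRank r E)
    (φ : E ⟶ CohB1.tensorMod E L)
    (hss : (∀ (G : X.Modules) (n : ℕ) (j : G ⟶ E) (χ : G ⟶ CohB1.tensorMod G L), Mono j → 0 < n →
      FlatMod.IsFinLocFreeOfRank n G →
      χ ≫ (CohB1.sheafifyMod X).map (MonoidalCategoryStruct.whiskerRight (C := CohB1.PMod X) j.val (CohB1.toPMod L)) = j ≫ φ →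
      Curv2.deg ℂ X G n * (r : ℤ) ≤ Curv2.deg ℂ X E r * (n : ℤ)))
    (hφ : φ ≠ 0) :
    0 ≤ Curv2.deg ℂ X L 1 := by
  haveI := VBLib.isRegCurve_of_smooth ℂ (X := X) hdim.le
  haveI := EulerIneqLib.isNoetherian_proper (X := X) ℂ
  have hEc := VBLib.isCoh_of_rank hE
  have hEL : Coh.IsCoh (CohB1.tensorMod E L) := CurveLib.isCoh_tmod hEc (CurveLib.isCoh_of_isInvertible hL)
  obtain ⟨I, p, i, hi, hp, hpi, hI, hK, h1, h2⟩ := VBLib.exists_image ℂ φ hEc hEL
  haveI := hi
  obtain ⟨G, j, e, hj, hG, hje⟩ := VBLib.exists_untwist hL i hI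
  have hGr := VBLib.rank_of_mono j hG hE
  have hg : VBLib.grk I = VBLib.grk G := (VBLib.grk_iso e).symm.trans (VBLib.grk_twist hL G)
  have hd : VBLib.dg ℂ I = Curv2.deg ℂ X G (VBLib.grk G) + VBLib.grk G * Curv2.deg ℂ X L 1 := by
    rw [← VBLib.dg_iso ℂ e, VBLib.dg, VBLib.grk_twist hL G]
    exact CurveLib.deg_tensor_invertible (k := ℂ) hdim.le hGr hL
  have hG0 : 0 < VBLib.grk G := Nat.pos_of_ne_zero fun h0 => hφ (by
    have hz := VBLib.isZero_of_mono j hG hE h0
    have hzI : IsZero I := ((CurveLib.tensR L).map_isZero hz).of_iso e.symm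
    rw [← hpi, hzI.eq_of_tgt p 0, zero_comp])
  have hGs := hss G (VBLib.grk G) j (j ≫ p ≫ e.inv) hj hG0 hGr
    (by
      show _ ≫ (CurveLib.tensR L).map j = _
      rw [hje]
      erw [Category.assoc, Category.assoc, e.inv_hom_id_assoc]
      exact congrArg (j ≫ ·) hpi)
  have hKr := VBLib.rank_of_mono (kernel.ι φ) hK hE
  have hKs : VBLib.dg ℂ (kernel φ) * r ≤ Curv2.deg ℂ X E r * VBLib.grk (kernel φ) := by
    rcases Nat.eq_zero_or_pos (VBLib.grk (kernel φ)) with h0 | h0
    · rw [h0, (VBLib.dg_isZero ℂ (VBLib.isZero_of_mono (kernel.ι φ) hK hE h0)).2]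
      simp
    · rw [VBLib.dg_eq ℂ hKr]
      exact hss (kernel φ) _ (kernel.ι φ) 0 inferInstance h0 hKr (zero_comp.trans (kernel.condition φ).symm)
  rw [VBLib.grk_of_rank hE, hg] at h1
  rw [VBLib.dg_eq ℂ hE, hd] at h2
  have er : (r : ℤ) = VBLib.grk (kernel φ) + VBLib.grk G := by exact_mod_cast h1
  have q1 := congrArg (Curv2.deg ℂ X E r * ·) er
  have q2 := congrArg (· * (r : ℤ)) h2
  try dsimp only at q1 q2
  have h3 : 0 ≤ (VBLib.grk G : ℤ) * Curv2.deg ℂ X L 1 * r := by linarith
  have h4 : (0 : ℤ) < VBLib.grk G := by exact_mod_cast hG0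
  exact nonneg_of_mul_nonneg_right (nonneg_of_mul_nonneg_left h3 (by exact_mod_cast hr)) h4

end Groth.Agent.S16003
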