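import Groth.Statements.S16004
import Groth.Agent.VBLib.Max
import Groth.Agent.VBLib.Twist
-- import your own Groth.Agent.* helpers here

set_option autoImplicit false
open CategoryTheory AlgebraicGeometry CategoryTheory.Limits
open VBCurve

namespace Groth.Agent.S16004
open CategoryTheory CategoryTheory.Limits AlgebraicGeometry

/-- Let X be a smooth proper integral curve over the complex numbers and L an invertible O_X-module of
degree 0; an L-valued pair is a finite locally free O_X-module E of rank r ≥ 1 with a map φ : E → E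
⊗ L; a submodule j : G → E (a monomorphism) is φ-invariant when some χ : G → G ⊗ L followed by j ⊗ L
equals j followed by φ; the pair is semistable when deg G · r ≤ deg E · n for every φ-invariant
finite locally free submodule G of rank n ≥ 1, degrees being χ − rank · χ(O_X). If (E, φ) is a
semistable pair then E is slope-semistable as a module of rank r: deg G · r ≤ deg E · n for every
finite locally free submodule G of rank n ≥ 1, invariant or not. (The published statement deletes
one degree-zero twisting map from a tuple of finitely many commuting ones; this is the case of a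
single map.) -/
theorem result
    (X : Scheme.{0}) [X.Over (Spec (CommRingCat.of ℂ))] [IsIntegral X]
    [IsProper (X ↘ Spec (CommRingCat.of ℂ))] [Smooth (X ↘ Spec (CommRingCat.of ℂ))]
    (hdim : topologicalKrullDim X = 1)
    (L : X.Modules) (hL : PicF.IsInvertible L) (hL0 : Curv2.deg ℂ X L 1 = 0)
    (r : ℕ) (hr : 0 < r) (E : X.Modules) (hE : FlatMod.IsFinLocFreeOfRank r E)
    (φ : E ⟶ CohB1.tensorMod E L)
    (hss : (∀ (G : X.Modules) (n : ℕ) (j : G ⟶ E) (χ : G ⟶ CohB1.tensorMod G L), Mono j → 0 < n →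
      FlatMod.IsFinLocFreeOfRank n G →
      χ ≫ (CohB1.sheafifyMod X).map (MonoidalCategoryStruct.whiskerRight (C := CohB1.PMod X) j.val (CohB1.toPMod L)) = j ≫ φ →
      Curv2.deg ℂ X G n * (r : ℤ) ≤ Curv2.deg ℂ X E r * (n : ℤ))) :
    ∀ (G : X.Modules) (n : ℕ) (j : G ⟶ E), Mono j → 0 < n → FlatMod.IsFinLocFreeOfRank n G →
      Curv2.deg ℂ X G n * (r : ℤ) ≤ Curv2.deg ℂ X E r * (n : ℤ) := by
  haveI := VBLib.isRegCurve_of_smooth ℂ (X := X) hdim.le
  haveI := EulerIneqLib.isNoetherian_proper (X := X) ℂ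
  intro G n j hj hn hG
  have hEc := VBLib.isCoh_of_rank hE
  obtain ⟨E₁, i, hi, hc, h0, hmax⟩ := VBLib.exists_maxSlope ℂ hdim.le hEc (by rw [VBLib.grk_of_rank hE]; exact hr)
  haveI := hi
  have hr1 := VBLib.rank_of_mono i hc hE
  obtain ⟨hC, hC1, hC2⟩ := VBLib.coker_add ℂ i hc hEc
  have hCr := VBLib.rank_coker_of_max ℂ hdim.le i hc hEc fun P a ha hP hPr => by
    have h := (hmax P a ha hP (by rw [hPr]; exact h0)).1
    rw [hPr] at h
    exact le_of_mul_le_mul_right h (by exact_mod_cast h0)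
  have hCL : Coh.IsCoh (CohB1.tensorMod (cokernel i) L) := CurveLib.isCoh_tmod hC (CurveLib.isCoh_of_isInvertible hL)
  let f : E₁ ⟶ CohB1.tensorMod (cokernel i) L := i ≫ φ ≫ (CurveLib.tensR L).map (cokernel.π i)
  have hf : f = 0 := by
    by_contra hne
    obtain ⟨I, p, q, hq, hp, hpq, hI, hK, h1, h2⟩ := VBLib.exists_image ℂ f hc hCL
    haveI := hq
    obtain ⟨Q, b, e, hb, hQ, -⟩ := VBLib.exists_untwist hL q hI
    haveI := hb
    have hQr := VBLib.rank_of_mono b hQ hCr
    have hg : VBLib.grk I = VBLib.grk Q := (VBLib.grk_iso e).symm.trans (VBLib.grk_twist hL Q)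
    have hd : VBLib.dg ℂ I = VBLib.dg ℂ Q := by
      rw [← VBLib.dg_iso ℂ e, VBLib.dg, VBLib.grk_twist hL Q, VBLib.dg_eq ℂ hQr]
      refine (CurveLib.deg_tensor_invertible (k := ℂ) hdim.le hQr hL).trans ?_
      rw [hL0]; ring
    have hQ0 : 0 < VBLib.grk Q := Nat.pos_of_ne_zero fun hz => hne (by
      have hzI : IsZero I := ((CurveLib.tensR L).map_isZero (VBLib.isZero_of_mono b hQ hCr hz)).of_iso e.symm
      rw [← hpq, hzI.eq_of_tgt p 0, zero_comp])
    obtain ⟨P, a, ha, hP, hP1, hP2⟩ := VBLib.exists_preimage ℂ i hc hEc b hQ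
    obtain ⟨m1, m2⟩ := hmax P a ha hP (by omega)
    have a1 : VBLib.dg ℂ (kernel f) * VBLib.grk E₁ ≤ VBLib.dg ℂ E₁ * VBLib.grk (kernel f) := by
      rcases Nat.eq_zero_or_pos (VBLib.grk (kernel f)) with hz | hz
      · rw [hz, (VBLib.dg_isZero ℂ (VBLib.isZero_of_mono (kernel.ι f) hK hr1 hz)).2]
        simp
      · exact (hmax _ (kernel.ι f ≫ i) (mono_comp _ _) hK hz).1
    rw [hg] at h1
    rw [hd] at h2
    have er : (VBLib.grk E₁ : ℤ) = VBLib.grk (kernel f) + VBLib.grk Q := by exact_mod_cast h1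
    have q1 := congrArg (VBLib.dg ℂ E₁ * ·) er
    have q2 := congrArg (· * (VBLib.grk E₁ : ℤ)) h2
    try dsimp only at q1 q2
    rw [hP1, hP2] at m1 m2
    push_cast at m1 m2
    have := m2 (by linarith)
    omega
  have hT := CurveLib.shortExact_tensR (DevLib.cokerSeq_shortExact i) fun x => CurveLib.freeAt_one_of_isInvertible hL x
  haveI := hT.mono_f
  let χ : E₁ ⟶ CohB1.tensorMod E₁ L := hT.fIsKernel.lift (KernelFork.ofι (i ≫ φ) (by
    rw [Category.assoc]; exact hf))
  have hχ : χ ≫ (CurveLib.tensR L).map i = i ≫ φ := hT.fIsKernel.fac _ WalkingParallelPair.zero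
  have h1 := hss E₁ _ i χ hi h0 hr1 hχ
  have h2 := (hmax G j hj (VBLib.isCoh_of_rank hG) (by rw [VBLib.grk_of_rank hG]; exact hn)).1
  rw [VBLib.grk_of_rank hG, VBLib.dg_eq ℂ hG, VBLib.dg_eq ℂ hr1] at h2
  refine le_of_mul_le_mul_right ?_ (show (0 : ℤ) < VBLib.grk E₁ by exact_mod_cast h0)
  have q3 := mul_le_mul_of_nonneg_right h2 (Int.natCast_nonneg r)
  have q4 := mul_le_mul_of_nonneg_right h1 (Int.natCast_nonneg n)
  linarith

end Groth.Agent.S16004
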