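import Groth.Statements.S16009
import Groth.Agent.HodgePnLib.EndTriv

set_option autoImplicit false
open CategoryTheory AlgebraicGeometry CategoryTheory.Limits
open VBPn

namespace Groth.Agent.S16009

open CategoryTheory CategoryTheory.Limits AlgebraicGeometry

set_option backward.isDefEq.respectTransparency false
set_option maxHeartbeats 1000000

local instance hasHFX {X : Scheme.{0}} (M : X.Modules) : ModSite.HasSheafHom (O := X.sheaf) M :=
  ModTensor.hasSheafHom (O := X.sheaf) M

theorem aux (X : Scheme.{0}) [X.Over (Spec (CommRingCat.of ℂ))] [IsIntegral X]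
    [IsProper (X ↘ Spec (CommRingCat.of ℂ))]
    (htriv : ∀ (n : ℕ) (F : X.Modules), FlatMod.IsFinLocFreeOfRank n F →
      (∀ (f : CohB1.ProjSpace 1 ℂ ⟶ X), f ≫ (X ↘ Spec (CommRingCat.of ℂ)) = CohB1.ProjSpace.toSpec 1 ℂ →
        Nonempty ((Scheme.Modules.pullback f).obj F ≅ FlatMod.freeMod (CohB1.ProjSpace 1 ℂ) n)) →
      Nonempty (F ≅ FlatMod.freeMod X n))
    (r : ℕ) (hr : 0 < r) (E : X.Modules) (hE : FlatMod.IsFinLocFreeOfRank r E)
    (hss : ∀ (f : CohB1.ProjSpace 1 ℂ ⟶ X), f ≫ (X ↘ Spec (CommRingCat.of ℂ)) = CohB1.ProjSpace.toSpec 1 ℂ →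
      ModFun.IsSlopeSemistable ℂ (CohB1.ProjSpace 1 ℂ) ((Scheme.Modules.pullback f).obj E) r) :
    ∃ L : X.Modules, PicF.IsInvertible L ∧ Nonempty (E ≅ ∐ fun _ : Fin r => L) := by
  haveI := EulerIneqLib.isNoetherian_proper (X := X) ℂ
  have hflf := KVb.isFinLocFree_of_rank hE
  obtain ⟨t⟩ := htriv (r * r) _ (VBLib.HomPair.rank_tensor hE (VBLib.DualDeg.rank_dd hE)) fun f hf => by
    obtain ⟨a, ⟨e⟩⟩ := HodgePnLib.exists_balanced hr (FlagLib.rank_pullback f E hE) (hss f hf)
    obtain ⟨g⟩ := HodgePnLib.nonempty_end_free e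
    obtain ⟨d⟩ := CycLib.nonempty_pullback_dd f hflf
    exact ⟨AmpleLib.pullTensor f E _ ≪≫ AmpleLib.tIso (Iso.refl _) d ≪≫ g⟩
  haveI := LocFreeHomLib.isIso_alpha E hflf E
  exact HodgePnLib.exists_line_sum ℂ (CurveLib.finrank_H0_structure) hr hE
    ((asIso (LocFreeHomLib.alpha E E)).symm ≪≫ t)


/-- Let X be a proper integral scheme over the complex numbers such that, for every n, a finite locally
free O_X-module of rank n whose pull-back along every morphism of complex schemes from the
projective line to X is free of rank n is itself free of rank n. Let E be finite locally free of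
rank r ≥ 1 such that its pull-back along every such morphism from the projective line is
slope-semistable of rank r (degrees on the line being χ − rank · χ(O)). Then E is isomorphic to the
direct sum of r copies of one invertible module L. (The published statement assumes X rationally
connected and takes the triviality criterion for bundles trivial on all rational curves from the
literature; the row carries that criterion as the hypothesis on X instead, and asks X to be proper
rather than projective, since the argument uses only that the global functions of X are the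
constants.) -/
theorem result
    (X : Scheme.{0}) [X.Over (Spec (CommRingCat.of ℂ))] [IsIntegral X]
    [IsProper (X ↘ Spec (CommRingCat.of ℂ))]
    (htriv : ∀ (n : ℕ) (F : X.Modules), FlatMod.IsFinLocFreeOfRank n F →
      (∀ (f : CohB1.ProjSpace 1 ℂ ⟶ X), f ≫ (X ↘ Spec (CommRingCat.of ℂ)) = CohB1.ProjSpace.toSpec 1 ℂ →
        Nonempty ((Scheme.Modules.pullback f).obj F ≅ FlatMod.freeMod (CohB1.ProjSpace 1 ℂ) n)) →
      Nonempty (F ≅ FlatMod.freeMod X n))
    (r : ℕ) (hr : 0 < r) (E : X.Modules) (hE : FlatMod.IsFinLocFreeOfRank r E)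
    (hss : ∀ (f : CohB1.ProjSpace 1 ℂ ⟶ X), f ≫ (X ↘ Spec (CommRingCat.of ℂ)) = CohB1.ProjSpace.toSpec 1 ℂ →
      ModFun.IsSlopeSemistable ℂ (CohB1.ProjSpace 1 ℂ) ((Scheme.Modules.pullback f).obj E) r) :
    ∃ L : X.Modules, PicF.IsInvertible L ∧ Nonempty (E ≅ ∐ fun _ : Fin r => L) := by
  exact aux X htriv r hr E hE hss

end Groth.Agent.S16009
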