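import Groth.Statements.S1601
import Mathlib

set_option autoImplicit false
universe u
open Resolve

namespace Groth.Agent.S1601

open MvPolynomial

variable {κ : Type u} [Field κ]

/-- The general polynomial of degree at most two. -/
noncomputable def Q (a b c d e f : κ) : MvPolynomial (Fin 2) κ :=
  C a + C b * X 0 + C c * X 1 + C d * X 0 ^ 2 + C e * X 0 * X 1 + C f * X 1 ^ 2

theorem pderiv_mem {I : Ideal (MvPolynomial (Fin 2) κ)} {p : MvPolynomial (Fin 2) κ} (hp : p ∈ I ^ 2) (i : Fin 2) :
    pderiv i p ∈ I := by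
  rw [sq] at hp
  refine Submodule.mul_induction_on hp (fun u hu v hv => ?_) (fun u v hu hv => ?_)
  · rw [pderiv_mul]
    exact I.add_mem (I.mul_mem_left _ hv) (I.mul_mem_right _ hu)
  · rw [map_add]; exact I.add_mem hu hv

theorem sq_dvd {A : Type*} [CommRing A] (ψ : MvPolynomial (Fin 2) κ →+* A) {I : Ideal (MvPolynomial (Fin 2) κ)} {G : A}
    (hG : ∀ p ∈ I, G ∣ ψ p) {p : MvPolynomial (Fin 2) κ} (hp : p ∈ I ^ 2) : G ^ 2 ∣ ψ p := by
  rw [sq] at hp ⊢
  refine Submodule.mul_induction_on hp (fun u hu v hv => ?_) (fun u v hu hv => ?_)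
  · rw [map_mul]; exact mul_dvd_mul (hG u hu) (hG v hv)
  · rw [map_add]; exact dvd_add hu hv

/-- the swap of the variables -/
noncomputable def sw : MvPolynomial (Fin 2) κ →ₐ[κ] MvPolynomial (Fin 2) κ := rename (Equiv.swap (0 : Fin 2) 1)

theorem sw_Q (a b c d e f : κ) : sw (Q a b c d e f) = Q a c b f e d := by
  simp [sw, Q]; ring

/-- restriction to a line -/
noncomputable def res (α β : κ) : MvPolynomial (Fin 2) κ →ₐ[κ] Polynomial κ :=
  aeval ![Polynomial.X, Polynomial.C α * Polynomial.X + Polynomial.C β]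

theorem key_line (I : Ideal (MvPolynomial (Fin 2) κ)) (a b c d e f : κ) (hmem : Q a b c d e f ∈ I ^ 2)
    (α β : κ) (G : Polynomial κ) (hG : 2 ≤ G.natDegree) (hdvd : ∀ p ∈ I, G ∣ res α β p) :
    ∃ j g h i : κ, Q a b c d e f = C j * (C g + C h * X 0 + C i * X 1) ^ 2 := by
  have h1 : res α β (Q a b c d e f) = 0 := by
    refine Polynomial.eq_zero_of_dvd_of_natDegree_lt (sq_dvd (res α β).toRingHom hdvd hmem) ?_
    rw [Polynomial.natDegree_pow]
    refine lt_of_le_of_lt (b := 2) ?_ (by omega)
    simp only [Q, res, AlgHom.toRingHom_eq_coe, RingHom.coe_coe, map_add, map_mul, map_pow, aeval_X, algHom_C, Matrix.cons_val_zero,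
      Matrix.cons_val_one, Matrix.cons_val_fin_one, ← Polynomial.C_eq_algebraMap]
    compute_degree
  have h2 : res α β (pderiv 1 (Q a b c d e f)) = 0 := by
    refine Polynomial.eq_zero_of_dvd_of_natDegree_lt (hdvd _ (pderiv_mem hmem 1)) ?_
    refine lt_of_le_of_lt (b := 1) ?_ (by omega)
    simp [Q, res]
    compute_degree
  have hrw : res α β (Q a b c d e f) = Polynomial.C (a + c * β + f * β ^ 2) +
      Polynomial.C (b + c * α + e * β + 2 * f * α * β) * Polynomial.X +
      Polynomial.C (d + e * α + f * α ^ 2) * Polynomial.X ^ 2 := by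
    simp [Q, res, map_ofNat]; ring
  have hrw2 : res α β (pderiv 1 (Q a b c d e f)) = Polynomial.C (c + 2 * f * β) +
      Polynomial.C (e + 2 * f * α) * Polynomial.X := by
    simp [Q, res, map_ofNat]; ring
  have hs : c + 2 * f * β = 0 ∧ e + 2 * f * α = 0 := by
    rw [hrw2] at h2
    have a0 := congrArg (fun p : Polynomial κ => p.coeff 0) h2
    have a1 := congrArg (fun p : Polynomial κ => p.coeff 1) h2
    simp [Polynomial.coeff_C, -map_pow, -map_add, -map_mul] at a0 a1
    exact ⟨a0, a1⟩
  have hr : a + c * β + f * β ^ 2 = 0 ∧ b + c * α + e * β + 2 * f * α * β = 0 ∧ d + e * α + f * α ^ 2 = 0 := by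
    rw [hrw] at h1
    have a0 := congrArg (fun p : Polynomial κ => p.coeff 0) h1
    have a1 := congrArg (fun p : Polynomial κ => p.coeff 1) h1
    have a2 := congrArg (fun p : Polynomial κ => p.coeff 2) h1
    simp [Polynomial.coeff_C, -map_pow, -map_add, -map_mul] at a0 a1 a2
    exact ⟨a0, a1, a2⟩
  refine ⟨f, -β, -α, 1, ?_⟩
  obtain ⟨hc, he⟩ := hs
  obtain ⟨ha, hb, hd⟩ := hr
  obtain rfl : c = -(2 * f * β) := by linear_combination hc
  obtain rfl : e = -(2 * f * α) := by linear_combination he
  obtain rfl : a = f * β ^ 2 := by linear_combination ha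
  obtain rfl : b = 2 * f * α * β := by linear_combination hb
  obtain rfl : d = f * α ^ 2 := by linear_combination hd
  simp [Q, map_mul, map_pow, map_neg, map_ofNat]
  ring

theorem key (I : Ideal (MvPolynomial (Fin 2) κ)) (a b c d e f : κ) (hmem : Q a b c d e f ∈ I ^ 2)
    (h : ∃ (α β : κ) (G : Polynomial κ), 2 ≤ G.natDegree ∧
      ((∀ p ∈ I, G ∣ res α β p) ∨ (∀ p ∈ I, G ∣ res α β (sw p)))) :
    ∃ j g h i : κ, Q a b c d e f = C j * (C g + C h * X 0 + C i * X 1) ^ 2 := by
  obtain ⟨α, β, G, hG, h | h⟩ := h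
  · exact key_line I a b c d e f hmem α β G hG h
  · have hm : Q a c b f e d ∈ (Ideal.map sw.toRingHom I) ^ 2 := by
      rw [← Ideal.map_pow, ← sw_Q]
      exact Ideal.mem_map_of_mem _ hmem
    have hle : I.map sw.toRingHom ≤ (Ideal.span {G}).comap (res α β).toRingHom :=
      Ideal.map_le_iff_le_comap.2 fun p hp => Ideal.mem_span_singleton.2 (h p hp)
    obtain ⟨j, g, h', i, heq⟩ := key_line _ a c b f e d hm α β G hG fun p hp => Ideal.mem_span_singleton.1 (hle hp)
    refine ⟨j, g, i, h', ?_⟩
    have := congrArg sw heq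
    rw [sw_Q] at this
    rw [this]
    simp only [sw, map_mul, map_pow, map_add, rename_C, rename_X, Equiv.swap_apply_left, Equiv.swap_apply_right]
    ring

variable {K : Type*} [Field K] [Algebra κ K]

theorem res_eval (u v : K) (α β : κ) (h : v = algebraMap κ K α * u + algebraMap κ K β) (p : MvPolynomial (Fin 2) κ) :
    Polynomial.aeval u (res α β p) = aeval ![u, v] p := by
  rw [res, ← AlgHom.comp_apply]
  refine congrArg (fun φ : MvPolynomial (Fin 2) κ →ₐ[κ] K => φ p) (algHom_ext fun i => ?_)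
  fin_cases i <;> simp [h]

theorem sw_eval (u v : K) (p : MvPolynomial (Fin 2) κ) : aeval ![u, v] (sw p) = aeval ![v, u] p := by
  rw [sw, aeval_rename]
  refine congrArg (fun w => aeval w p) (funext fun i => ?_)
  fin_cases i <;> rfl

/-- A point of degree at least two. -/
theorem key_point (I : Ideal (MvPolynomial (Fin 2) κ)) (a b c d e f : κ) (hne : (a, b, c, d, e, f) ≠ (0, 0, 0, 0, 0, 0))
    (hmem : Q a b c d e f ∈ I ^ 2) (u v : K) (hu : IsIntegral κ u) (hv : IsIntegral κ v) (hI : ∀ p ∈ I, aeval ![u, v] p = 0)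
    (hnot : ¬ (u ∈ (algebraMap κ K).range ∧ v ∈ (algebraMap κ K).range)) :
    ∃ j g h i : κ, Q a b c d e f = C j * (C g + C h * X 0 + C i * X 1) ^ 2 := by
  classical
  by_cases hdep : ∃ x y z : κ, (x, y, z) ≠ (0, 0, 0) ∧ algebraMap κ K x + algebraMap κ K y * u + algebraMap κ K z * v = 0
  · obtain ⟨x, y, z, hxyz, hrel⟩ := hdep
    refine key I a b c d e f hmem ?_
    by_cases hz : z = 0
    · subst hz
      have hy : y ≠ 0 := fun hy => hxyz (by simpa [hy] using hrel)
      have hu' : u = algebraMap κ K (0 : κ) * v + algebraMap κ K (-x / y) := by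
        rw [map_zero, zero_mul, zero_add, map_div₀, map_neg, eq_div_iff ((_root_.map_ne_zero _).2 hy)]
        simp at hrel
        linear_combination hrel
      refine ⟨0, -x / y, minpoly κ v, (minpoly.two_le_natDegree_iff hv).2 fun hvr => hnot ⟨⟨-x / y, by rw [hu']; simp⟩, hvr⟩, Or.inr fun p hp => minpoly.dvd κ v ?_⟩
      rw [res_eval v u 0 (-x / y) hu', sw_eval]
      exact hI p hp
    · have hv' : v = algebraMap κ K (-y / z) * u + algebraMap κ K (-x / z) := by
        rw [map_div₀, map_div₀, map_neg, map_neg, div_mul_eq_mul_div, ← add_div, eq_div_iff ((_root_.map_ne_zero _).2 hz)]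
        linear_combination hrel
      refine ⟨-y / z, -x / z, minpoly κ u, (minpoly.two_le_natDegree_iff hu).2 fun hur => hnot ⟨hur, ?_⟩, Or.inl fun p hp => minpoly.dvd κ u ?_⟩
      · rw [hv']
        exact add_mem (mul_mem ⟨_, rfl⟩ hur) ⟨_, rfl⟩
      · rw [res_eval u v _ _ hv']
        exact hI p hp
  · push Not at hdep
    have indep : ∀ x y z : κ, algebraMap κ K x + algebraMap κ K y * u + algebraMap κ K z * v = 0 → x = 0 ∧ y = 0 ∧ z = 0 := by
      intro x y z h
      by_contra hn
      exact hdep x y z (fun hh => hn (by simpa [Prod.ext_iff] using hh)) h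
    obtain ⟨hb, h2d, he⟩ := indep b (2 * d) e (by
      have := hI _ (pderiv_mem hmem 0)
      simp [Q] at this
      rw [map_mul, map_ofNat]
      linear_combination this)
    obtain ⟨hc, -, h2f⟩ := indep c e (2 * f) (by
      have := hI _ (pderiv_mem hmem 1)
      simp [Q] at this
      rw [map_mul, map_ofNat]
      linear_combination this)
    exfalso
    subst hb hc he
    have hq : algebraMap κ K a + algebraMap κ K d * u ^ 2 + algebraMap κ K f * v ^ 2 = 0 := by
      have := hI _ (Ideal.pow_le_self two_ne_zero hmem)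
      simp [Q] at this
      exact this
    have main : ∀ (I : Ideal (MvPolynomial (Fin 2) κ)) (u v : K) (a d f : κ), IsIntegral κ u → IsIntegral κ v → f ≠ 0 → (∀ p ∈ I, aeval ![u, v] p = 0) →
        (∀ x y z : κ, algebraMap κ K x + algebraMap κ K y * u + algebraMap κ K z * v = 0 → x = 0 ∧ y = 0 ∧ z = 0) →
        Q a 0 0 d 0 f ∈ I ^ 2 → False := by
      intro I u v a d f hu hv hf hI indep hmem
      by_cases hφ : ∃ φ : Polynomial κ, v = Polynomial.aeval u φ
      · obtain ⟨φ, hφ⟩ := hφ
        have hn : 2 ≤ (minpoly κ u).natDegree := (minpoly.two_le_natDegree_iff hu).2 fun ⟨x, hx⟩ => by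
          have := indep (-x) 1 0 (by simp [hx])
          exact one_ne_zero this.2.1
        set φ' := φ %ₘ minpoly κ u with hφ'
        have hv' : Polynomial.aeval u φ' = v := by
          rw [hφ', Polynomial.modByMonic_eq_sub_mul_div φ (minpoly κ u)]
          simp [hφ]
        have hdeg : φ'.natDegree < (minpoly κ u).natDegree :=
          Polynomial.natDegree_modByMonic_lt _ (minpoly.monic hu) (by intro h; rw [h] at hn; simp at hn)
        let ψ : MvPolynomial (Fin 2) κ →ₐ[κ] Polynomial κ := aeval ![Polynomial.X, φ']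
        have hψ : ∀ p ∈ I, minpoly κ u ∣ ψ p := fun p hp => minpoly.dvd κ u (by
          have : Polynomial.aeval u (ψ p) = aeval ![u, v] p := by
            rw [← AlgHom.comp_apply]
            refine congrArg (fun φ : MvPolynomial (Fin 2) κ →ₐ[κ] K => φ p) (algHom_ext fun i => ?_)
            fin_cases i <;> simp [ψ, hv']
          rw [this]; exact hI p hp)
        have hval : ψ (Q a 0 0 d 0 f) = Polynomial.C a + Polynomial.C d * Polynomial.X ^ 2 + Polynomial.C f * φ' ^ 2 := by
          simp [Q, ψ]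
        have h0 := Polynomial.eq_zero_of_dvd_of_natDegree_lt (sq_dvd ψ.toRingHom hψ hmem) (by
          rw [show ψ.toRingHom (Q a 0 0 d 0 f) = _ from hval, Polynomial.natDegree_pow]
          refine lt_of_le_of_lt (b := max 2 (2 * φ'.natDegree)) ?_ (by omega)
          refine (Polynomial.natDegree_add_le _ _).trans (max_le ((Polynomial.natDegree_add_le _ _).trans (max_le ?_ ?_)) ?_)
          · simp
          · exact ((Polynomial.natDegree_C_mul_le _ _).trans (by simp)).trans (le_max_left _ _)
          · exact ((Polynomial.natDegree_C_mul_le _ _).trans Polynomial.natDegree_pow_le).trans (le_max_right _ _))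
        rw [show ψ.toRingHom (Q a 0 0 d 0 f) = _ from hval] at h0
        rcases Nat.lt_or_ge φ'.natDegree 2 with hl | hl
        · rw [Polynomial.eq_X_add_C_of_natDegree_le_one (show φ'.natDegree ≤ 1 by omega)] at hv'
          simp at hv'
          have := indep (φ'.coeff 0) (φ'.coeff 1) (-1) (by simp; linear_combination hv')
          exact one_ne_zero (neg_eq_zero.1 this.2.2)
        · have := congrArg (fun p : Polynomial κ => p.coeff (φ'.natDegree + φ'.natDegree)) h0
          have hne : φ'.natDegree + φ'.natDegree ≠ 2 := by omega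
          simp [Polynomial.coeff_C, sq φ', Polynomial.coeff_X_pow, hne, show φ'.natDegree ≠ 0 by omega,
            Polynomial.coeff_mul_add_eq_of_natDegree_le (le_refl φ'.natDegree) (le_refl φ'.natDegree)] at this
          rcases this with h | h
          · exact hf h
          · rw [h] at hl; simp at hl
      · let L := IntermediateField.adjoin κ ({u} : Set K)
        let u' : L := ⟨u, IntermediateField.mem_adjoin_simple_self κ u⟩
        let ψ : MvPolynomial (Fin 2) κ →ₐ[κ] Polynomial L := aeval ![Polynomial.C u', Polynomial.X]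
        have hvL : IsIntegral L v := hv.tower_top
        have hψ : ∀ p ∈ I, minpoly L v ∣ ψ p := fun p hp => minpoly.dvd L v (by
          have : ((Polynomial.aeval v).restrictScalars κ) (ψ p) = aeval ![u, v] p := by
            rw [← AlgHom.comp_apply]
            refine congrArg (fun φ : MvPolynomial (Fin 2) κ →ₐ[κ] K => φ p) (algHom_ext fun i => ?_)
            fin_cases i <;> simp [ψ, u']
          exact this.trans (hI p hp))
        have hh : 2 ≤ (minpoly L v).natDegree := (minpoly.two_le_natDegree_iff hvL).2 fun ⟨w, hw⟩ => hφ (by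
          have hw2 : v ∈ IntermediateField.adjoin κ ({u} : Set K) := by rw [← hw]; exact w.2
          rw [← IntermediateField.mem_toSubalgebra, IntermediateField.adjoin_simple_toSubalgebra_of_isAlgebraic hu.isAlgebraic,
            Algebra.adjoin_singleton_eq_range_aeval] at hw2
          obtain ⟨φ, hφ⟩ := hw2
          exact ⟨φ, hφ.symm⟩)
        have hval : ψ (Q a 0 0 d 0 f) = Polynomial.C (algebraMap κ L a + algebraMap κ L d * u' ^ 2) +
            Polynomial.C (algebraMap κ L f) * Polynomial.X ^ 2 := by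
          simp only [Q, ψ, map_add, map_mul, map_pow, map_zero, aeval_X, algHom_C, Polynomial.algebraMap_apply, Matrix.cons_val_zero,
            Matrix.cons_val_one, Matrix.cons_val_fin_one, zero_mul, add_zero]
        have hdeg : (ψ (Q a 0 0 d 0 f)).natDegree ≤ 2 := by rw [hval]; compute_degree
        have h0 := Polynomial.eq_zero_of_dvd_of_natDegree_lt (sq_dvd ψ.toRingHom hψ hmem) (by
          rw [Polynomial.natDegree_pow]; exact lt_of_le_of_lt hdeg (by omega))
        rw [show ψ.toRingHom (Q a 0 0 d 0 f) = _ from hval] at h0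
        have := congrArg (fun p : Polynomial L => p.coeff 2) h0
        simp [Polynomial.coeff_C, -map_pow, -map_add, -map_mul] at this
        exact hf this
    by_cases hf : f = 0
    · by_cases hd : d = 0
      · subst hd hf
        exact hne (by simp at hq; simp [hq])
      · have hm : Q a 0 0 f 0 d ∈ (Ideal.map sw.toRingHom I) ^ 2 := by
          rw [← Ideal.map_pow, ← sw_Q]
          exact Ideal.mem_map_of_mem _ hmem
        exact main _ v u a f d hv hu hd (fun p hp => by
          have hle : I.map sw.toRingHom ≤ RingHom.ker (aeval (R := κ) ![v, u]).toRingHom :=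
            Ideal.map_le_iff_le_comap.2 fun p hp => by
              show aeval ![v, u] (sw p) = 0
              rw [sw_eval]
              exact hI p hp
          exact hle hp) (fun x y z h => by
          obtain ⟨h1, h2, h3⟩ := indep x z y (by linear_combination h)
          exact ⟨h1, h3, h2⟩) hm
    · exact main I u v a d f hu hv hf hI indep hmem

/-- Let κ be a field and I an ideal of κ[x, y] whose colength is greater than one (the quotient is not
of dimension at most one over κ). If a nonzero polynomial a + bx + cy + dx^2 + exy + fy^2 lies in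
I^2, then it equals j (g + hx + iy)^2 for some scalars j, g, h, i. -/
theorem result (κ : Type u) [Field κ] (I : Ideal (MvPolynomial (Fin 2) κ))
    (hI : ¬ (Module.Finite κ (MvPolynomial (Fin 2) κ ⧸ I) ∧ Module.finrank κ (MvPolynomial (Fin 2) κ ⧸ I) ≤ 1))
    (a b c d e f : κ) (hne : (a, b, c, d, e, f) ≠ (0, 0, 0, 0, 0, 0))
    (hmem : (MvPolynomial.C a + MvPolynomial.C b * MvPolynomial.X 0 + MvPolynomial.C c * MvPolynomial.X 1 +
      MvPolynomial.C d * MvPolynomial.X 0 ^ 2 + MvPolynomial.C e * MvPolynomial.X 0 * MvPolynomial.X 1 +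
      MvPolynomial.C f * MvPolynomial.X 1 ^ 2 : MvPolynomial (Fin 2) κ) ∈ I ^ 2) :
    ∃ j g h i : κ, (MvPolynomial.C a + MvPolynomial.C b * MvPolynomial.X 0 + MvPolynomial.C c * MvPolynomial.X 1 +
      MvPolynomial.C d * MvPolynomial.X 0 ^ 2 + MvPolynomial.C e * MvPolynomial.X 0 * MvPolynomial.X 1 +
      MvPolynomial.C f * MvPolynomial.X 1 ^ 2 : MvPolynomial (Fin 2) κ) =
      MvPolynomial.C j * (MvPolynomial.C g + MvPolynomial.C h * MvPolynomial.X 0 + MvPolynomial.C i * MvPolynomial.X 1) ^ 2 := by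
  classical
  suffices h : ∃ j g h i : κ, Q a b c d e f = MvPolynomial.C j * (MvPolynomial.C g + MvPolynomial.C h * MvPolynomial.X 0 + MvPolynomial.C i * MvPolynomial.X 1) ^ 2 from h
  have hmem' : Q a b c d e f ∈ I ^ 2 := hmem
  have hItop : I ≠ ⊤ := by
    rintro rfl
    haveI : Subsingleton (MvPolynomial (Fin 2) κ ⧸ (⊤ : Ideal (MvPolynomial (Fin 2) κ))) := Ideal.Quotient.subsingleton_iff.2 rfl
    exact hI ⟨inferInstance, by rw [Module.finrank_zero_of_subsingleton]; exact Nat.zero_le _⟩
  let pt : κ → κ → Ideal (MvPolynomial (Fin 2) κ) := fun u v => RingHom.ker (MvPolynomial.aeval (R := κ) ![u, v]).toRingHom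
  by_cases hall : ∀ M : Ideal (MvPolynomial (Fin 2) κ), M.IsMaximal → I ≤ M → ∃ u v : κ, M = pt u v
  swap
  · push Not at hall
    obtain ⟨M, hM, hIM, hMne⟩ := hall
    letI : Field (MvPolynomial (Fin 2) κ ⧸ M) := Ideal.Quotient.field M
    haveI : Algebra.IsIntegral κ (MvPolynomial (Fin 2) κ ⧸ M) := by
      haveI : Module.Finite κ (MvPolynomial (Fin 2) κ ⧸ M) := finite_of_finite_type_of_isJacobsonRing κ _
      infer_instance
    let π := Ideal.Quotient.mkₐ κ M
    have hπ : ∀ p, MvPolynomial.aeval ![π (MvPolynomial.X 0), π (MvPolynomial.X 1)] p = π p := fun p => by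
      refine congrArg (fun φ : MvPolynomial (Fin 2) κ →ₐ[κ] MvPolynomial (Fin 2) κ ⧸ M => φ p) (MvPolynomial.algHom_ext fun i => ?_)
      fin_cases i <;> simp
    refine key_point I a b c d e f hne hmem' _ _ (Algebra.IsIntegral.isIntegral (R := κ) (π (MvPolynomial.X 0)))
      (Algebra.IsIntegral.isIntegral (R := κ) (π (MvPolynomial.X 1))) (fun p hp => by rw [hπ]; exact Ideal.Quotient.eq_zero_iff_mem.2 (hIM hp)) ?_
    rintro ⟨⟨u, hu⟩, ⟨v, hv⟩⟩
    refine hMne u v (hM.eq_of_le (by
      intro h
      exact one_ne_zero (by simpa [pt] using (Ideal.eq_top_iff_one _).1 h : (1 : κ) = 0)) fun p hp => ?_)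
    have h0 : π p = 0 := Ideal.Quotient.eq_zero_iff_mem.2 hp
    rw [← hπ, ← hu, ← hv] at h0
    show MvPolynomial.aeval ![u, v] p = 0
    refine (algebraMap κ (MvPolynomial (Fin 2) κ ⧸ M)).injective ?_
    rw [map_zero, ← h0, ← MvPolynomial.aeval_algebraMap_apply]
    refine congrArg (fun w => MvPolynomial.aeval w p) (funext fun i => ?_)
    fin_cases i <;> rfl
  refine key I a b c d e f hmem' ?_
  obtain ⟨M, hM, hIM⟩ := I.exists_le_maximal hItop
  obtain ⟨u, v, rfl⟩ := hall M hM hIM
  have res_pt : ∀ (α β x y : κ) p, y = α * x + β → (res α β p).eval x = MvPolynomial.aeval ![x, y] p := fun α β x y p h => by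
    rw [← res_eval x y α β (by simpa using h), Polynomial.coe_aeval_eq_eval]
  by_cases htwo : ∃ M : Ideal (MvPolynomial (Fin 2) κ), M.IsMaximal ∧ I ≤ M ∧ M ≠ pt u v
  · obtain ⟨M', hM', hIM', hne'⟩ := htwo
    obtain ⟨u', v', rfl⟩ := hall M' hM' hIM'
    have hdvd : ∀ (x x' : κ), x ≠ x' → ∀ P : Polynomial κ, P.IsRoot x → P.IsRoot x' →
        (Polynomial.X - Polynomial.C x) * (Polynomial.X - Polynomial.C x') ∣ P := fun x x' hx P h h' =>
      (Polynomial.isCoprime_X_sub_C_of_isUnit_sub (sub_ne_zero.2 hx).isUnit).mul_dvd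
        (Polynomial.dvd_iff_isRoot.2 h) (Polynomial.dvd_iff_isRoot.2 h')
    have hdeg : ∀ x x' : κ, 2 ≤ ((Polynomial.X - Polynomial.C x) * (Polynomial.X - Polynomial.C x')).natDegree := fun x x' => by
      rw [Polynomial.natDegree_mul (Polynomial.X_sub_C_ne_zero _) (Polynomial.X_sub_C_ne_zero _)]; simp
    by_cases hu : u = u'
    · subst hu
      have hvv : v ≠ v' := fun h => hne' (by rw [h])
      refine ⟨0, u, _, hdeg v v', Or.inr fun p hp => hdvd v v' hvv _ ?_ ?_⟩
      · rw [Polynomial.IsRoot, res_pt 0 u v u _ (by simp), sw_eval]; exact hIM hp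
      · rw [Polynomial.IsRoot, res_pt 0 u v' u _ (by simp), sw_eval]; exact hIM' hp
    · have h1 : v' = (v' - v) / (u' - u) * u' + (v - (v' - v) / (u' - u) * u) := by
        have : u' - u ≠ 0 := sub_ne_zero.2 (Ne.symm hu)
        field_simp
        ring
      refine ⟨(v' - v) / (u' - u), v - (v' - v) / (u' - u) * u, _, hdeg u u', Or.inl fun p hp => hdvd u u' hu _ ?_ ?_⟩
      · rw [Polynomial.IsRoot, res_pt _ _ u v _ (by ring)]; exact hIM hp
      · rw [Polynomial.IsRoot, res_pt _ _ u' v' _ h1]; exact hIM' hp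
  push Not at htwo
  have hrad : pt u v ≤ I.radical := by
    rw [← IsJacobsonRing.out' I.radical I.radical_isRadical, Ideal.jacobson]
    refine le_sInf fun M hMm => ?_
    rw [htwo M hMm.2 (I.le_radical.trans hMm.1)]
  obtain ⟨N, hN⟩ := Ideal.exists_pow_le_of_le_radical_of_fg hrad (IsNoetherian.noetherian _)
  set x0 : MvPolynomial (Fin 2) κ := MvPolynomial.X 0 - MvPolynomial.C u with hx0
  set x1 : MvPolynomial (Fin 2) κ := MvPolynomial.X 1 - MvPolynomial.C v with hx1
  have hspan : pt u v ≤ Ideal.span {x0, x1} := by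
    intro p hp
    have hq : ∀ p, p - MvPolynomial.C (MvPolynomial.aeval ![u, v] p) ∈ Ideal.span {x0, x1} := fun p => by
      rw [← Ideal.Quotient.eq]
      refine congrArg (fun φ : MvPolynomial (Fin 2) κ →ₐ[κ] MvPolynomial (Fin 2) κ ⧸ Ideal.span {x0, x1} => φ p)
        (MvPolynomial.algHom_ext (f := Ideal.Quotient.mkₐ κ _) (g := (Algebra.ofId κ _).comp (MvPolynomial.aeval ![u, v])) fun i => ?_)
      fin_cases i <;> simp <;> refine (Ideal.Quotient.eq.2 ?_) <;> exact Ideal.subset_span (by simp [hx0, hx1])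
    have := hq p
    rwa [show MvPolynomial.aeval ![u, v] p = 0 from hp, map_zero, sub_zero] at this
  have hx0m : x0 ∈ pt u v := by simp [pt, hx0]
  have hx1m : x1 ∈ pt u v := by simp [pt, hx1]
  set J := I ⊔ (pt u v) ^ 2 with hJ
  let L : Submodule κ (κ × κ) :=
    (J.restrictScalars κ).comap ((LinearMap.toSpanSingleton κ _ x0).coprod (LinearMap.toSpanSingleton κ _ x1))
  have hL : ∀ s t : κ, (s, t) ∈ L ↔ MvPolynomial.C s * x0 + MvPolynomial.C t * x1 ∈ J := fun s t => by
    simp [L, MvPolynomial.smul_eq_C_mul]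
  have hLtop : L ≠ ⊤ := by
    intro h
    have hMJ : pt u v ≤ J := hspan.trans (Ideal.span_le.2 (by
      rintro _ (rfl | rfl)
      · have := (hL 1 0).1 (h ▸ Submodule.mem_top)
        simpa using this
      · have := (hL 0 1).1 (h ▸ Submodule.mem_top)
        simpa using this))
    have hpow : ∀ k, pt u v ≤ I ⊔ (pt u v) ^ (k + 1) := by
      intro k
      induction k with
      | zero => rw [zero_add, pow_one]; exact le_sup_right
      | succ k ih =>
        refine hMJ.trans (sup_le le_sup_left ?_)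
        calc (pt u v) ^ 2 = pt u v * pt u v := sq _
          _ ≤ pt u v * (I ⊔ (pt u v) ^ (k + 1)) := Ideal.mul_mono_right ih
          _ ≤ I ⊔ (pt u v) ^ (k + 1 + 1) := by
            rw [Ideal.mul_sup, ← pow_succ']
            exact sup_le_sup_right Ideal.mul_le_right _
    have hEq : I = pt u v := le_antisymm hIM ((hpow N).trans (sup_le le_rfl ((Ideal.pow_le_pow_right N.le_succ).trans hN)))
    refine hI ?_
    have hsurj : Function.Surjective (MvPolynomial.aeval (R := κ) ![u, v]) := fun x => ⟨MvPolynomial.C x, by simp⟩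
    let eqv := (Ideal.quotientEquivAlgOfEq κ hEq).trans (Ideal.quotientKerAlgEquivOfSurjective hsurj)
    haveI : Module.Finite κ (MvPolynomial (Fin 2) κ ⧸ I) := Module.Finite.equiv eqv.toLinearEquiv.symm
    exact ⟨inferInstance, by rw [eqv.toLinearEquiv.finrank_eq, Module.finrank_self]⟩
  obtain ⟨φ, hφ0, hφ⟩ := Submodule.exists_le_ker_of_lt_top L (lt_top_iff_ne_top.2 hLtop)
  set l1 := φ (1, 0) with hl1
  set l2 := φ (0, 1) with hl2
  have hφeq : ∀ s t : κ, φ (s, t) = s * l1 + t * l2 := fun s t => by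
    rw [show ((s, t) : κ × κ) = s • (1, 0) + t • (0, 1) by simp, map_add, map_smul, map_smul, smul_eq_mul, smul_eq_mul]
  have hdec : ∀ p ∈ I, ∃ A B : MvPolynomial (Fin 2) κ, p = A * x0 + B * x1 ∧
      MvPolynomial.aeval ![u, v] A * l1 + MvPolynomial.aeval ![u, v] B * l2 = 0 := by
    intro p hp
    obtain ⟨A, B, hAB⟩ := Ideal.mem_span_pair.1 (hspan (hIM hp))
    refine ⟨A, B, hAB.symm, ?_⟩
    set s := MvPolynomial.aeval ![u, v] A with hs
    set t := MvPolynomial.aeval ![u, v] B with ht
    have hmemL : (s, t) ∈ L := by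
      rw [hL]
      have : MvPolynomial.C s * x0 + MvPolynomial.C t * x1 = p - ((A - MvPolynomial.C s) * x0 + (B - MvPolynomial.C t) * x1) := by
        rw [← hAB]; ring
      rw [this]
      refine J.sub_mem (Submodule.mem_sup_left hp) (Submodule.mem_sup_right ?_)
      rw [sq]
      exact Ideal.add_mem _ (Ideal.mul_mem_mul (by simp [pt, hs]) hx0m) (Ideal.mul_mem_mul (by simp [pt, ht]) hx1m)
    have := hφ hmemL
    rwa [LinearMap.mem_ker, hφeq] at this
  have hdeg : ∀ x : κ, 2 ≤ ((Polynomial.X - Polynomial.C x) ^ 2).natDegree := fun x => by simp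
  by_cases h1 : l1 = 0
  · have h2 : l2 ≠ 0 := fun h2 => hφ0 (LinearMap.ext fun ⟨s, t⟩ => by rw [hφeq, h1, h2]; simp)
    refine ⟨0, u, _, hdeg v, Or.inr fun p hp => ?_⟩
    obtain ⟨A, B, rfl, hAB⟩ := hdec p hp
    rw [h1, mul_zero, zero_add, mul_eq_zero] at hAB
    have e0 : res 0 u (sw x0) = 0 := by simp [hx0, sw, res]
    have e1 : res 0 u (sw x1) = Polynomial.X - Polynomial.C v := by simp [hx1, sw, res]
    rw [map_add, map_add, map_mul, map_mul, map_mul, map_mul, e0, e1, mul_zero, zero_add, sq]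
    refine mul_dvd_mul_right (Polynomial.dvd_iff_isRoot.2 ?_) _
    rw [Polynomial.IsRoot, res_pt 0 u v u _ (by simp), sw_eval]
    exact hAB.resolve_right h2
  · refine ⟨l2 / l1, v - l2 / l1 * u, _, hdeg u, Or.inl fun p hp => ?_⟩
    obtain ⟨A, B, rfl, hAB⟩ := hdec p hp
    have e0 : res (l2 / l1) (v - l2 / l1 * u) x0 = Polynomial.X - Polynomial.C u := by simp [hx0, res]
    have e1 : res (l2 / l1) (v - l2 / l1 * u) x1 = Polynomial.C (l2 / l1) * (Polynomial.X - Polynomial.C u) := by
      simp [hx1, res]; ring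
    rw [map_add, map_mul, map_mul, e0, e1, sq, ← mul_assoc _ (Polynomial.C (l2 / l1)), ← add_mul]
    refine mul_dvd_mul_right (Polynomial.dvd_iff_isRoot.2 ?_) _
    rw [Polynomial.IsRoot, Polynomial.eval_add, Polynomial.eval_mul, Polynomial.eval_C, res_pt _ _ u v _ (by ring),
      res_pt _ _ u v _ (by ring)]
    field_simp
    linear_combination hAB

end Groth.Agent.S1601
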