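import Groth.Statements.S16012
import Groth.Agent.GHLib.Basic

set_option autoImplicit false
universe u v w x
open W4c3ghconstell

namespace Groth.Agent.S16012

/-- Let k be an algebraically closed field of characteristic zero, A a commutative Hopf algebra over k
which is a finitely generated domain and linearly reductive (the coordinate ring of a connected
reductive group G; irreducible representations of G are indexed by the simple subcoalgebras D of A),
R a Noetherian commutative k-algebra with a multiplicative A-coaction (an affine G-scheme X = Spec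
R), and M an R-module with a compatible A-coaction (a G-equivariant quasi-coherent module on X)
which is finite over R, is the sum of its isotypic components M_D, and has dim_k M_D = h(D) < ∞ for
every simple subcoalgebra D. Fix a weight θ from simple subcoalgebras to ℚ, negative at only
finitely many D, with Σ_D θ(D) h(D) = 0 (a convergent real series) and with θ(D) ≠ 0, h(D) ≠ 0 for
some D; the weight of a k-subspace N of M is the real series Σ_D θ(D) · dim_k (N ∩ M_D). Assume
moreover that θ(D) ≠ 0 for every D with h(D) ≠ 0. Suppose M has weight 0 and every non-zero proper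
R-submodule N of M stable under the coaction and generated as an R-module by its isotypic parts N ∩
M_D with θ(D) < 0 has weight > 0. Then M is θ-stable: every non-zero proper R-submodule of M stable
under the coaction has weight > 0. (The published statement has no condition on the D with θ(D) = 0;
without it the conclusion fails: for the multiplicative group acting on k[x,y]/(x,y)² with x of
weight 1 and y of weight 2, the module M = k[x,y]/(x,y)² with h = 1 at the weights 0, 1, 2 and θ =
−1, 1, 0 there has no non-zero proper equivariant submodule generated in weight 0, yet the weight-2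
line is an equivariant submodule of weight 0. The printed argument establishes the statement under
the extra condition, which also records multiplicities as dimensions of isotypic components, a
rescaling of θ.) -/
theorem result (k : Type u) [Field k] [IsAlgClosed k] [CharZero k]
    (A : Type v) [CommRing A] [IsDomain A] [HopfAlgebra k A] [Algebra.FiniteType k A]
    (hred : HopfRep.IsLinearlyReductive k A)
    (R : Type w) [CommRing R] [Algebra k R] [IsNoetherianRing R] [HopfRep.Comod k A R] [GLin.IsCoactAlg k A R]
    (M : Type x) [AddCommGroup M] [Module k M] [Module R M] [IsScalarTower k R M]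
    [HopfRep.Comod k A M] [TameAct.IsHopfMod k A R M]
    (h : W4c3ghconstell.SimpSub k A → ℕ) (θ : W4c3ghconstell.SimpSub k A → ℚ)
    (hfin : {D | θ D < 0}.Finite) (hsum : HasSum (fun D => (θ D : ℝ) * (h D : ℝ)) 0)
    (hne : ∃ D, θ D ≠ 0 ∧ h D ≠ 0)
    (hM : W4c3ghconstell.IsConstellation k A R M h)
    (hθ : ∀ D, h D ≠ 0 → θ D ≠ 0)
    (h0 : W4c3ghconstell.theta M θ ⊤ = 0)
    (hs : ∀ N : Submodule R M, HopfRep.IsSubcomod (k := k) (A := A) (N.restrictScalars k) → N ≠ ⊥ → N ≠ ⊤ →
      W4c3ghconstell.genIn k A R M {D | θ D < 0} N = N → 0 < W4c3ghconstell.theta M θ (N.restrictScalars k)) :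
    W4c3ghconstell.IsThetaStable k A R M θ := by
  refine ⟨h0, fun N hN hN0 hN1 => ?_⟩
  set S : Set (W4c3ghconstell.SimpSub k A) := {D | θ D < 0}
  set G := W4c3ghconstell.genIn k A R M S N
  have hle : G.restrictScalars k ≤ N.restrictScalars k := fun v hv => GHLib.genIn_le S N hv
  have hneg : ∀ D, θ D < 0 → ∀ v ∈ N.restrictScalars k ⊓ W4c3ghconstell.isoComp M D.1, v ∈ G := fun D hD =>
    GHLib.inf_le_genIn S N hD
  rcases eq_or_ne G ⊥ with hG | hG
  · have hz : ∀ D, θ D < 0 → W4c3ghconstell.hilbAt M (N.restrictScalars k) D = 0 := fun D hD => by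
      rw [W4c3ghconstell.hilbAt, show N.restrictScalars k ⊓ W4c3ghconstell.isoComp M D.1 = ⊥ from
        (Submodule.eq_bot_iff _).2 fun v hv => by
          have := hneg D hD v hv
          rw [hG] at this
          exact (Submodule.mem_bot R).1 this, finrank_bot]
    obtain ⟨D, hD⟩ := GHLib.exists_meet hN (by rwa [ne_eq, Submodule.restrictScalars_eq_bot_iff])
    have hh : W4c3ghconstell.hilbAt M (N.restrictScalars k) D ≠ 0 := fun h' => hD (GHLib.eq_bot_of_hilbAt hM h')
    have hh' : h D ≠ 0 := fun h' => hh (Nat.le_zero.1 (h' ▸ GHLib.hilbAt_le hM _ D))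
    rcases lt_or_gt_of_ne (hθ D hh') with hlt | hgt
    · exact absurd (hz D hlt) hh
    · exact (GHLib.theta_pos_of_neg hM hsum.summable hz).2 D hgt hh
  have hG' : G ≠ ⊤ := fun hG' => hN1 (top_le_iff.1 (hG' ▸ GHLib.genIn_le S N))
  refine lt_of_lt_of_le (hs G (GHLib.isSubcomod_genIn S hN) hG hG' (GHLib.genIn_genIn S N))
    (GHLib.theta_mono hM hsum.summable hle fun D hD => le_antisymm (GHLib.hilbAt_mono hM hle D) ?_)
  haveI := (hM.2.2 D).1
  haveI : Module.Finite k ↥(G.restrictScalars k ⊓ W4c3ghconstell.isoComp M D.1) := Submodule.finiteDimensional_of_le inf_le_right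
  exact Submodule.finrank_mono fun v hv => ⟨hneg D hD v hv, hv.2⟩

end Groth.Agent.S16012
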