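import Groth.Statements.S16015
import Mathlib

set_option autoImplicit false
universe u v w
open W4c3ghconstell

namespace Groth.Agent.S16015

/-- Let B be a commutative ring, E a B-module, F a finitely generated projective B-module and β : E → F
a B-linear map. Then there is a unique ideal I of B such that for every commutative B-algebra C the
base change β_C : C ⊗ E → C ⊗ F is zero if and only if the structure map B → C kills I. (The
published statement is for a homomorphism of modules on a scheme T into a locally free module and
produces a closed subscheme T₀ through which a morphism factors exactly when the pulled-back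
homomorphism vanishes; this row is the case of an affine T with affine test schemes and F of finite
rank, to which it reduces.) -/
theorem result {B : Type u} [CommRing B]
    {E : Type v} [AddCommGroup E] [Module B E]
    {F : Type w} [AddCommGroup F] [Module B F] [Module.Finite B F] [Module.Projective B F]
    (β : E →ₗ[B] F) :
    ∃! I : Ideal B, ∀ (C : Type u) [CommRing C] [Algebra B C],
      LinearMap.baseChange C β = 0 ↔ I ≤ RingHom.ker (algebraMap B C) := by
  classical
  let I : Ideal B := Submodule.span B (Set.range fun x : E × (F →ₗ[B] B) => x.2 (β x.1))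
  have key : ∀ (C : Type u) [CommRing C] [Algebra B C],
      LinearMap.baseChange C β = 0 ↔ I ≤ RingHom.ker (algebraMap B C) := by
    intro C _ _
    constructor
    · intro h
      refine Submodule.span_le.2 ?_
      rintro _ ⟨⟨e, ψ⟩, rfl⟩
      have h1 := congrArg (fun z => TensorProduct.rid B C (LinearMap.lTensor C ψ z))
        (LinearMap.congr_fun h ((1 : C) ⊗ₜ[B] e))
      simp only [LinearMap.baseChange_tmul, LinearMap.lTensor_tmul, TensorProduct.rid_tmul,
        LinearMap.zero_apply, map_zero, Algebra.smul_def, mul_one] at h1
      exact RingHom.mem_ker.2 h1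
    · intro h
      obtain ⟨n, π, hπ⟩ := Module.Finite.exists_fin' B F
      obtain ⟨s, hs⟩ := Module.projective_lifting_property π LinearMap.id hπ
      refine TensorProduct.AlgebraTensorModule.ext fun c e => ?_
      rw [LinearMap.baseChange_tmul, LinearMap.zero_apply]
      have h2 : β e = π (∑ j, s (β e) j • Pi.single j (1 : B)) := by
        rw [← pi_eq_sum_univ' (s (β e))]
        exact (LinearMap.congr_fun hs (β e)).symm
      rw [h2, map_sum, TensorProduct.tmul_sum]
      refine Finset.sum_eq_zero fun j _ => ?_
      rw [map_smul, ← TensorProduct.smul_tmul, Algebra.smul_def]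
      have : algebraMap B C (s (β e) j) = 0 :=
        RingHom.mem_ker.1 (h (Submodule.subset_span ⟨(e, (LinearMap.proj j).comp s), rfl⟩))
      rw [this, zero_mul, TensorProduct.zero_tmul]
  refine ⟨I, key, fun J hJ => le_antisymm ?_ ?_⟩
  · have h1 := (key (B ⧸ I)).2 (by rw [Ideal.Quotient.algebraMap_eq, Ideal.mk_ker])
    have h2 := (hJ (B ⧸ I)).1 h1
    rwa [Ideal.Quotient.algebraMap_eq, Ideal.mk_ker] at h2
  · have h1 := (hJ (B ⧸ J)).2 (by rw [Ideal.Quotient.algebraMap_eq, Ideal.mk_ker])
    have h2 := (key (B ⧸ J)).1 h1
    rwa [Ideal.Quotient.algebraMap_eq, Ideal.mk_ker] at h2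

end Groth.Agent.S16015
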