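import Groth.Statements.S16016
import Mathlib.LinearAlgebra.Matrix.ToLin
import Mathlib.Data.Matrix.Block
import Mathlib.Tactic.LinearCombination

set_option autoImplicit false
universe u
open W4c3ghconstell

namespace Groth.Agent.S16016

/-- Let k be a field with 2 ≠ 0, index k⁶ by two copies of {0,1,2} (basis vectors p₁, p₂, p₃ in the
first copy and p₄, p₅, p₆ in the second), let Q be the symmetric matrix with blocks ((0, 1), (1,
0)), so that the form it defines pairs pᵢ with pᵢ₊₃, and let W₀ be the span of p₁ and p₂. Then a 6 ×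
6 matrix A satisfies AᵀQ + QA = 0 (A lies in the orthogonal Lie algebra of Q) and has the image of
Aᵀ contained in W₀ if and only if A = a · (E₄₂ − E₅₁) for some scalar a, where Eᵢⱼ is the matrix
unit. (The lemma in the source concludes that the set of such A inside a certain nilpotent orbit
closure of this Lie algebra is one-dimensional; this row is the computation its proof performs,
which determines all such A in the Lie algebra. Characteristic 2 is excluded: there E₁₄ᵀ also
qualifies.) -/
theorem result (k : Type u) [Field k] (h2 : (2 : k) ≠ 0)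
    (A : Matrix (Fin 3 ⊕ Fin 3) (Fin 3 ⊕ Fin 3) k) :
    (A.transpose * Matrix.fromBlocks (0 : Matrix (Fin 3) (Fin 3) k) 1 1 0 +
        Matrix.fromBlocks (0 : Matrix (Fin 3) (Fin 3) k) 1 1 0 * A = 0 ∧
      LinearMap.range (Matrix.mulVecLin A.transpose) ≤
        Submodule.span k {Pi.single (Sum.inl 0 : Fin 3 ⊕ Fin 3) (1 : k), Pi.single (Sum.inl 1 : Fin 3 ⊕ Fin 3) (1 : k)}) ↔
    ∃ a : k, A = a • (Matrix.single (Sum.inr 0) (Sum.inl 1) (1 : k) - Matrix.single (Sum.inr 1) (Sum.inl 0) (1 : k)) := by
  have hspan : ∀ w : Fin 3 ⊕ Fin 3 → k,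
      w ∈ Submodule.span k {Pi.single (Sum.inl 0 : Fin 3 ⊕ Fin 3) (1 : k), Pi.single (Sum.inl 1 : Fin 3 ⊕ Fin 3) (1 : k)} ↔
        w (Sum.inl 2) = 0 ∧ ∀ j, w (Sum.inr j) = 0 := by
    intro w
    rw [Submodule.mem_span_pair]
    constructor
    · rintro ⟨a, b, rfl⟩
      exact ⟨by simp [Pi.single_apply], fun j => by simp [Pi.single_apply]⟩
    · rintro ⟨h1, h2⟩
      refine ⟨w (Sum.inl 0), w (Sum.inl 1), funext fun i => ?_⟩
      rcases i with i | j
      · fin_cases i <;> simp [Pi.single_apply, h1]
      · simp [Pi.single_apply, h2]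
  constructor
  · rintro ⟨h, hr⟩
    have hrows : ∀ i, A i (Sum.inl 2) = 0 ∧ ∀ j, A i (Sum.inr j) = 0 := fun i => by
      have := (hspan _).1 (hr ⟨Pi.single i 1, rfl⟩)
      simpa [Matrix.mulVec_single] using this
    have e : ∀ i j, A (Sum.inr i) (Sum.inl j) + A (Sum.inr j) (Sum.inl i) = 0 := fun i j => by
      have := congrFun (congrFun h (Sum.inl j)) (Sum.inl i)
      simpa [Matrix.mul_apply, Fintype.sum_sum_type, Matrix.one_apply, add_comm] using this
    have e' : ∀ i j, A (Sum.inl i) (Sum.inl j) = 0 := fun i j => by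
      have := congrFun (congrFun h (Sum.inr i)) (Sum.inl j)
      simp [Matrix.mul_apply, Fintype.sum_sum_type, Matrix.one_apply, (hrows _).2] at this
      exact this
    have d : ∀ i, A (Sum.inr i) (Sum.inl i) = 0 := fun i =>
      (mul_eq_zero.1 (by linear_combination e i i : (2 : k) * A (Sum.inr i) (Sum.inl i) = 0)).resolve_left h2
    refine ⟨A (Sum.inr 0) (Sum.inl 1), Matrix.ext fun i j => ?_⟩
    rcases j with j | j
    swap
    · simp [(hrows i).2, Matrix.single_apply]
    rcases i with i | i
    · simp [e', Matrix.single_apply]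
    have c1 : A (Sum.inr 1) (Sum.inl 0) = -A (Sum.inr 0) (Sum.inl 1) := by linear_combination e 1 0
    have c2 : A (Sum.inr 2) (Sum.inl 0) = 0 := by linear_combination e 2 0 - (hrows (Sum.inr 0)).1
    have c3 : A (Sum.inr 2) (Sum.inl 1) = 0 := by linear_combination e 2 1 - (hrows (Sum.inr 1)).1
    fin_cases i <;> fin_cases j <;> simp [Matrix.single_apply, c1, c2, c3, d, (hrows _).1]
  · rintro ⟨a, rfl⟩
    refine ⟨Matrix.ext fun i j => ?_, ?_⟩
    · rcases i with i | i <;> rcases j with j | j <;> fin_cases i <;> fin_cases j <;>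
        simp [Matrix.mul_apply, Fintype.sum_sum_type, Matrix.one_apply, Matrix.single_apply]
    · rintro _ ⟨w, rfl⟩
      rw [hspan]
      exact ⟨by simp [Matrix.mulVec, dotProduct, Matrix.single_apply], fun j => by simp [Matrix.mulVec, dotProduct, Matrix.single_apply]⟩

end Groth.Agent.S16016
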