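import Groth.Statements.S16017
import Mathlib

set_option autoImplicit false
universe u
open W4c3ghconstell

namespace Groth.Agent.S16017

/-- Let ι index the irreducible representations, θ : ι → ℚ a weight negative at only finitely many
indices (the finite set D₋), h h' : ι → ℕ with h' ≤ h pointwise (the isotypic dimensions of an
object and of a sub-object) and Σ_i θ_i h_i summable. For a finite set D of indices put S_D = Σ_{i ∉
D} θ_i h_i, d = #(D ∖ D₋), and θ̃_D = Σ_{i ∈ D} θ_i h'_i + (S_D / d) · Σ_{i ∈ D ∖ D₋} h'_i / h_i,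
the modified weight attached to the parameters chosen for D (for D ⊇ D₋ the first sum is the
negative part plus the part over D ∖ D₋). Then θ̃_D tends to Σ_i θ_i h'_i as D grows through the
finite subsets of ι. (Here D runs over all finite sets of indices and a quotient by zero is zero;
the source lets D run over the finite subsets of the locus θ ≠ 0 containing D₋, and the same tail
estimate gives both.) -/
theorem result {ι : Type u} [DecidableEq ι] (θ : ι → ℚ) (h h' : ι → ℕ)
    (hle : ∀ i, h' i ≤ h i) (hfin : {i | θ i < 0}.Finite)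
    (hsum : Summable (fun i => (θ i : ℝ) * (h i : ℝ))) :
    Filter.Tendsto
      (fun D : Finset ι =>
        (∑ i ∈ D, (θ i : ℝ) * (h' i : ℝ)) +
          ((∑' i, if i ∈ D then (0 : ℝ) else (θ i : ℝ) * (h i : ℝ)) / ((D \ hfin.toFinset).card : ℝ)) *
            ∑ i ∈ D \ hfin.toFinset, ((h' i : ℝ) / (h i : ℝ)))
      Filter.atTop (nhds (∑' i, (θ i : ℝ) * (h' i : ℝ))) := by
  classical
  set a : ι → ℝ := fun i => (θ i : ℝ) * (h i : ℝ) with ha
  have hsum' : Summable (fun i => (θ i : ℝ) * (h' i : ℝ)) := by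
    refine Summable.of_norm_bounded hsum.norm fun i => ?_
    rw [Real.norm_eq_abs, Real.norm_eq_abs, abs_mul, abs_mul]
    have : (h' i : ℝ) ≤ h i := by exact_mod_cast hle i
    rw [Nat.abs_cast, Nat.abs_cast]
    exact mul_le_mul_of_nonneg_left this (abs_nonneg _)
  have hS : ∀ D : Finset ι, (∑' i, if i ∈ D then (0:ℝ) else a i) = (∑' i, a i) - ∑ i ∈ D, a i := by
    intro D
    have h2 : HasSum (fun i => if i ∈ D then a i else 0) (∑ i ∈ D, a i) := by
      have : HasSum (fun i => if i ∈ D then a i else 0) (∑ i ∈ D, if i ∈ D then a i else 0) :=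
        hasSum_sum_of_ne_finset_zero (fun b hb => if_neg hb)
      convert this using 1
      exact Finset.sum_congr rfl fun i hi => (if_pos hi).symm
    have h3 := hsum.hasSum.sub h2
    refine (HasSum.congr_fun h3 fun i => ?_).tsum_eq
    by_cases hi : i ∈ D <;> simp [hi, ha]
  have hT : Filter.Tendsto (fun D : Finset ι => |(∑' i, if i ∈ D then (0:ℝ) else a i)|)
      Filter.atTop (nhds 0) := by
    simp only [hS]
    have := ((hsum.hasSum : Filter.Tendsto (fun D => ∑ i ∈ D, a i) Filter.atTop (nhds (∑' i, a i))).const_sub (∑' i, a i)).abs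
    simpa using this
  have h2 : Filter.Tendsto (fun D : Finset ι =>
      ((∑' i, if i ∈ D then (0 : ℝ) else a i) / ((D \ hfin.toFinset).card : ℝ)) *
        ∑ i ∈ D \ hfin.toFinset, ((h' i : ℝ) / (h i : ℝ))) Filter.atTop (nhds 0) := by
    refine squeeze_zero_norm (fun D => ?_) hT
    rw [Real.norm_eq_abs, div_mul_eq_mul_div, abs_div, abs_mul, Nat.abs_cast]
    have hn : ∀ i, 0 ≤ (h' i : ℝ) / (h i : ℝ) := fun i => div_nonneg (Nat.cast_nonneg _) (Nat.cast_nonneg _)
    have hle1 : ∑ i ∈ D \ hfin.toFinset, ((h' i : ℝ) / (h i : ℝ)) ≤ ((D \ hfin.toFinset).card : ℝ) := by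
      rw [← nsmul_one, ← Finset.sum_const]
      exact Finset.sum_le_sum fun i _ => div_le_one_of_le₀ (by exact_mod_cast hle i) (Nat.cast_nonneg _)
    rw [abs_of_nonneg (Finset.sum_nonneg fun i _ => hn i)]
    rcases Nat.eq_zero_or_pos (D \ hfin.toFinset).card with h0 | h0
    · simp [h0]
    · rw [div_le_iff₀ (by exact_mod_cast h0)]
      exact mul_le_mul_of_nonneg_left hle1 (abs_nonneg _)
  have h1 : Filter.Tendsto (fun D : Finset ι => ∑ i ∈ D, (θ i : ℝ) * (h' i : ℝ)) Filter.atTop
      (nhds (∑' i, (θ i : ℝ) * (h' i : ℝ))) := hsum'.hasSum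
  simpa [ha] using h1.add h2

end Groth.Agent.S16017
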