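import Groth.Statements.S16035
import Groth.Agent.Henselization.Properties
import Groth.Agent.Hensel.Local
import Groth.Agent.ConnEt.Component
-- import your own Groth.Agent.* helpers here

set_option autoImplicit false
set_option linter.style.haveILetI false
set_option maxHeartbeats 1000000
universe u
open Hensel

namespace Groth.Agent.S16035


open IsLocalRing Groth.Agent

/-- Being a henselization of a local ring of a finite type algebra. -/
def IsHensEft (A F : Type u) [CommRing A] [CommRing F] [HenselianLocalRing F] [Algebra A F] : Prop :=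
  ∃ (B : Type u) (_ : CommRing B) (_ : Algebra A B) (_ : Algebra.FiniteType A B) (p : Ideal B) (_ : p.IsPrime)
    (_ : Algebra (Localization.AtPrime p) F) (_ : IsScalarTower A (Localization.AtPrime p) F)
    (_ : IsLocalHom (algebraMap (Localization.AtPrime p) F)), Hensel.IsHenselization (Localization.AtPrime p) F

/-- A henselization of an essentially finite type local algebra comes from a finite type algebra. -/
theorem isHensEft_of_eft (A R F : Type u) [CommRing A] [CommRing R] [IsLocalRing R] [Algebra A R]
    [Algebra.EssFiniteType A R] [CommRing F] [HenselianLocalRing F] [Algebra A F] [Algebra R F]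
    [IsScalarTower A R F] [IsLocalHom (algebraMap R F)] [Hensel.IsHenselization R F] : IsHensEft A F := by
  let B := Algebra.EssFiniteType.subalgebra A R
  let q : Ideal B := (maximalIdeal R).comap (algebraMap B R)
  haveI : IsLocalization.AtPrime R q := by
    have hM : q.primeCompl = Algebra.EssFiniteType.submonoid A R := by
      ext x
      show ¬ (algebraMap B R x ∈ maximalIdeal R) ↔ IsUnit (algebraMap B R x)
      exact not_not
    show IsLocalization q.primeCompl R
    rw [hM]; infer_instance
  let e : Localization.AtPrime q ≃ₐ[B] R := IsLocalization.algEquiv q.primeCompl _ _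
  letI algF : Algebra (Localization.AtPrime q) F := ((algebraMap R F).comp e.toRingEquiv.toRingHom).toAlgebra
  haveI : IsScalarTower A (Localization.AtPrime q) F := IsScalarTower.of_algebraMap_eq fun a => by
    show algebraMap A F a = algebraMap R F (e (algebraMap A (Localization.AtPrime q) a))
    rw [IsScalarTower.algebraMap_apply A B (Localization.AtPrime q), e.commutes,
      ← IsScalarTower.algebraMap_apply A B R, ← IsScalarTower.algebraMap_apply A R F]
  haveI he : IsLocalHom e.toRingEquiv.toRingHom := ⟨fun x hx => by
    simpa using hx.map e.symm.toRingEquiv.toRingHom⟩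
  haveI hl : IsLocalHom (algebraMap (Localization.AtPrime q) F) :=
    RingHom.isLocalHom_comp (algebraMap R F) e.toRingEquiv.toRingHom
  refine ⟨B, inferInstance, inferInstance, inferInstance, q, inferInstance, algF, inferInstance, hl,
    { henselian := inferInstance, universal := fun T _ _ f hf => ?_ }⟩
  haveI he' : IsLocalHom e.symm.toRingEquiv.toRingHom := ⟨fun x hx => by
    simpa using hx.map e.toRingEquiv.toRingHom⟩
  haveI := hf
  haveI : IsLocalHom (f.comp e.symm.toRingEquiv.toRingHom) := RingHom.isLocalHom_comp f _
  obtain ⟨g, hg, hu⟩ := Hensel.IsHenselization.universal (R := R) (S := F) T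
    (f.comp e.symm.toRingEquiv.toRingHom) inferInstance
  refine ⟨g, RingHom.ext fun x => ?_, fun g' hg' => hu g' (RingHom.ext fun x => ?_)⟩
  · show g (algebraMap R F (e x)) = f x
    refine (RingHom.congr_fun hg (e x)).trans ?_
    show f (e.symm (e x)) = f x
    rw [e.symm_apply_apply]
  · show g' (algebraMap R F x) = f (e.symm x)
    rw [← RingHom.congr_fun hg' (e.symm x)]
    show g' (algebraMap R F x) = g' (algebraMap R F (e (e.symm x)))
    rw [e.apply_symm_apply]

/-- A finite local algebra over a henselization of an essentially finite type algebra. -/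
theorem isHensEft_of_finite (A R : Type u) [CommRing A] [CommRing R] [IsLocalRing R] [Algebra A R]
    [Algebra.EssFiniteType A R] (H : Type u) [CommRing H] [IsLocalRing H] [IsNoetherianRing H] [Algebra R H]
    [IsLocalHom (algebraMap R H)] [Hensel.IsHenselization R H]
    (F : Type u) [CommRing F] [HenselianLocalRing F] [Algebra A F] [Algebra H F] [Module.Finite H F]
    [IsLocalHom (algebraMap H F)]
    (hAF : ∀ a : A, algebraMap A F a = algebraMap H F (algebraMap R H (algebraMap A R a))) : IsHensEft A F := by
  classical
  obtain ⟨e⟩ := Henselization.exists_algEquiv_of_isHenselization R H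
  obtain ⟨n, x, hx⟩ := Module.Finite.exists_fin (R := H) (M := F)
  choose P hPm hPx using fun j : Fin n => Algebra.IsIntegral.isIntegral (R := H) (x j)
  let θ : MvPolynomial (Fin n) H →ₐ[H] F := MvPolynomial.aeval x
  have hθ : Function.Surjective θ := by
    intro y
    obtain ⟨c, rfl⟩ := (Submodule.mem_span_range_iff_exists_fun H).1 (hx ▸ Submodule.mem_top : y ∈ Submodule.span H (Set.range x))
    exact ⟨∑ j, MvPolynomial.C (c j) * MvPolynomial.X j, by simp [θ, map_sum, Algebra.smul_def]⟩
  obtain ⟨G, hG⟩ := IsNoetherian.noetherian (RingHom.ker θ)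
  let Gs : Finset (MvPolynomial (Fin n) H) := G
  let cs : Finset H := (Gs.biUnion fun g => g.coeffs) ∪ Finset.univ.biUnion fun j => (P j).coeffs
  obtain ⟨i, hi⟩ := Henselization.exists_lift_finset (cs.image e.symm)
  let L := i.L
  let σ : L →+* H := (e.toRingEquiv.toRingHom).comp (Henselization.ι i).toRingHom
  have hσR : ∀ r, σ (algebraMap R L r) = algebraMap R H r := fun r => by
    show e (Henselization.ι i (algebraMap R L r)) = _
    rw [AlgHom.commutes, e.commutes]
  have hcs : ∀ c ∈ cs, c ∈ σ.range := fun c hc => by
    obtain ⟨l, hl⟩ := hi _ (Finset.mem_image_of_mem _ hc)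
    exact ⟨l, by show e (Henselization.ι i l) = c; rw [hl, e.apply_symm_apply]⟩
  have hgl : ∀ g ∈ Gs, ∃ g₀ : MvPolynomial (Fin n) L, MvPolynomial.map σ g₀ = g := fun g hg => by
    refine MvPolynomial.mem_range_map_iff_coeffs_subset.2 fun c hc => ?_
    exact hcs c (Finset.mem_union_left _ (Finset.mem_biUnion.2 ⟨g, hg, hc⟩))
  choose g₀ hg₀ using hgl
  have hPl : ∀ j, ∃ Q : Polynomial L, Q.map σ = P j ∧ Q.Monic := fun j => by
    have hmem : P j ∈ Polynomial.lifts σ := by
      rw [Polynomial.lifts_iff_coeff_lifts]
      intro m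
      by_cases hm : (P j).coeff m = 0
      · exact ⟨0, by rw [hm, map_zero]⟩
      · exact hcs _ (Finset.mem_union_right _ (Finset.mem_biUnion.2
          ⟨j, Finset.mem_univ _, Polynomial.coeff_mem_coeffs hm⟩))
    obtain ⟨Q, hQ, -, hQm⟩ := Polynomial.lifts_and_degree_eq_and_monic hmem (hPm j)
    exact ⟨Q, hQ, hQm⟩
  choose Q hQ hQm using hPl
  let S : Set (MvPolynomial (Fin n) L) := (Set.range fun g : Gs => g₀ g.1 g.2) ∪
    Set.range fun j => Polynomial.aeval (MvPolynomial.X j) (Q j)
  let D := MvPolynomial (Fin n) L ⧸ Ideal.span S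
  let ψ₀ : MvPolynomial (Fin n) L →+* F := θ.toRingHom.comp (MvPolynomial.map σ)
  have hψ₀X : ∀ j, ψ₀ (MvPolynomial.X j) = x j := fun j => by simp [ψ₀, θ]
  have hψ₀C : ∀ l, ψ₀ (MvPolynomial.C l) = algebraMap H F (σ l) := fun l => by simp [ψ₀, θ]
  have hψ₀S : ∀ s ∈ S, ψ₀ s = 0 := by
    rintro _ (⟨⟨g, hg⟩, rfl⟩ | ⟨j, rfl⟩)
    · show θ (MvPolynomial.map σ (g₀ g hg)) = 0
      rw [hg₀]
      exact RingHom.mem_ker.1 (hG ▸ Ideal.subset_span hg)
    · show ψ₀ (Polynomial.eval₂ (algebraMap L (MvPolynomial (Fin n) L)) (MvPolynomial.X j) (Q j)) = 0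
      rw [Polynomial.hom_eval₂, hψ₀X, show ψ₀.comp (algebraMap L (MvPolynomial (Fin n) L)) =
        (algebraMap H F).comp σ from RingHom.ext hψ₀C, ← Polynomial.eval₂_map, hQ]
      exact hPx j
  let ψ : D →+* F := Ideal.Quotient.lift _ ψ₀ fun a ha =>
    (Ideal.span_le.2 hψ₀S : Ideal.span S ≤ RingHom.ker ψ₀) ha
  have hint : ∀ j, IsIntegral L (Ideal.Quotient.mk (Ideal.span S) (MvPolynomial.X j)) := fun j => by
    refine ⟨Q j, hQm j, ?_⟩
    rw [show algebraMap L D = (Ideal.Quotient.mk (Ideal.span S)).comp (algebraMap L (MvPolynomial (Fin n) L)) from rfl,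
      ← Polynomial.hom_eval₂]
    exact Ideal.Quotient.eq_zero_iff_mem.2 (Ideal.subset_span (Or.inr ⟨j, rfl⟩))
  haveI : Algebra.IsIntegral L D := ⟨fun d => by
    obtain ⟨d, rfl⟩ := Ideal.Quotient.mk_surjective d
    induction d using MvPolynomial.induction_on with
    | C a => exact isIntegral_algebraMap
    | add p q hp hq => rw [map_add]; exact hp.add hq
    | mul_X p j hp => rw [map_mul]; exact hp.mul (hint j)⟩
  haveI : Module.Finite L D := Algebra.IsIntegral.finite
  -- residue field of the stage
  haveI hιloc : IsLocalHom σ := ⟨fun l hl => by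
    have h1 : IsUnit (Henselization.ι i l) := by
      exact (isUnit_map_iff e _).1 hl
    rw [Henselization.Idx.isUnit_iff]
    have := (Henselization.isUnit_iff _).1 h1
    rwa [Henselization.εH_ι] at this⟩
  haveI hRL : IsLocalHom (algebraMap R L) := inferInstanceAs (IsLocalHom (algebraMap R i.L))
  have hres : ∀ l : L, ∃ r, l - algebraMap R L r ∈ maximalIdeal L := fun l => by
    obtain ⟨r, hr⟩ := residue_surjective (i.ε l)
    refine ⟨r, ?_⟩
    rw [Henselization.Idx.mem_maximalIdeal_iff, map_sub, AlgHom.commutes, sub_eq_zero, ← hr,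
      ResidueField.algebraMap_eq]
  have hresH : Function.Surjective (ResidueField.map σ) := fun y => by
    obtain ⟨h, rfl⟩ := residue_surjective y
    obtain ⟨r, hr⟩ := residue_surjective (Henselization.εH R (ResidueField R) (e.symm h))
    refine ⟨residue L (algebraMap R L r), ?_⟩
    show residue H (σ (algebraMap R L r)) = residue H h
    rw [hσR, ← e.commutes]
    refine Ideal.Quotient.eq.2 ?_
    have h2 : algebraMap R (Henselization.HenselizationRing R) r - e.symm h ∈ maximalIdeal _ := by
      rw [Henselization.mem_maximalIdeal_iff, map_sub, AlgHom.commutes, ResidueField.algebraMap_eq, hr, sub_self]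
    have h3 : e (algebraMap R _ r - e.symm h) ∈ maximalIdeal H := by
      intro hu
      exact h2 (by simpa using hu.map e.symm.toRingEquiv.toRingHom)
    rwa [map_sub, e.apply_symm_apply] at h3
  let bσ : ResidueField L ≃+* ResidueField H :=
    RingEquiv.ofBijective (ResidueField.map σ) ⟨(ResidueField.map σ).injective, hresH⟩
  have key : ∀ N : Ideal D, N.IsMaximal → N = (maximalIdeal F).comap ψ := fun N hN => by
    have hNL : maximalIdeal L = N.comap (algebraMap L D) :=
      (eq_maximalIdeal (Ideal.isMaximal_comap_of_isIntegral_of_isMaximal N)).symm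
    letI : Field (D ⧸ N) := Ideal.Quotient.field N
    let c : H →+* D ⧸ N := ((Ideal.quotientMap N (algebraMap L D) hNL.le).comp bσ.symm.toRingHom).comp (residue H)
    have hc : ∀ l, c (σ l) = Ideal.Quotient.mk N (algebraMap L D l) := fun l => by
      have h1 : bσ.symm (residue H (σ l)) = residue L l := bσ.symm_apply_apply (residue L l)
      show Ideal.quotientMap N (algebraMap L D) hNL.le (bσ.symm (residue H (σ l))) = _
      rw [h1]
      rfl
    let Φ₀ : MvPolynomial (Fin n) H →+* D ⧸ N :=
      MvPolynomial.eval₂Hom c fun j => Ideal.Quotient.mk N (Ideal.Quotient.mk (Ideal.span S) (MvPolynomial.X j))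
    have hΦσ : Φ₀.comp (MvPolynomial.map σ) = (Ideal.Quotient.mk N).comp (Ideal.Quotient.mk (Ideal.span S)) := by
      refine MvPolynomial.ringHom_ext (fun l => ?_) (fun j => by simp [Φ₀])
      simp only [RingHom.comp_apply, MvPolynomial.map_C, Φ₀, MvPolynomial.eval₂Hom_C]
      rw [hc]; rfl
    have hker : RingHom.ker θ ≤ RingHom.ker Φ₀ := by
      rw [← hG]
      refine Ideal.span_le.2 fun g hg => ?_
      show Φ₀ g = 0
      rw [← hg₀ g hg, ← RingHom.comp_apply, hΦσ]
      show Ideal.Quotient.mk N (Ideal.Quotient.mk (Ideal.span S) (g₀ g hg)) = 0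
      rw [Ideal.Quotient.eq_zero_iff_mem.2 (Ideal.subset_span (Or.inl ⟨⟨g, hg⟩, rfl⟩) : g₀ g hg ∈ Ideal.span S),
        map_zero]
    let Φ : F →+* D ⧸ N := RingHom.liftOfSurjective θ.toRingHom hθ ⟨Φ₀, hker⟩
    have hΦ : ∀ z, Φ (θ z) = Φ₀ z := fun z => RingHom.liftOfRightInverse_comp_apply θ.toRingHom _ _ ⟨Φ₀, hker⟩ z
    have hΦψ : Φ.comp ψ = Ideal.Quotient.mk N := Ideal.Quotient.ringHom_ext (RingHom.ext fun p => by
      show Φ (θ (MvPolynomial.map σ p)) = _
      rw [hΦ]
      exact RingHom.congr_fun hΦσ p)
    have hsurj : Function.Surjective Φ := fun y => by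
      obtain ⟨d, rfl⟩ := Ideal.Quotient.mk_surjective y
      exact ⟨ψ d, RingHom.congr_fun hΦψ d⟩
    have hm : RingHom.ker Φ = maximalIdeal F := eq_maximalIdeal (RingHom.ker_isMaximal_of_surjective Φ hsurj)
    rw [← hm, RingHom.comap_ker, hΦψ, Ideal.mk_ker]
  haveI : Nontrivial D := ψ.domain_nontrivial
  haveI : IsLocalRing D := by
    obtain ⟨N, hN⟩ := Ideal.exists_maximal D
    exact IsLocalRing.of_unique_max_ideal ⟨N, hN, fun N' hN' => (key N' hN').trans (key N hN).symm⟩
  haveI hψloc : IsLocalHom ψ := ⟨fun d hd => by
    by_contra hnu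
    have h1 : d ∈ maximalIdeal D := hnu
    rw [key _ (maximalIdeal.isMaximal D)] at h1
    exact h1 hd⟩
  letI : Algebra D F := ψ.toAlgebra
  letI : Algebra A L := ((algebraMap R L).comp (algebraMap A R)).toAlgebra
  haveI : IsScalarTower A R L := IsScalarTower.of_algebraMap_eq fun _ => rfl
  haveI : IsScalarTower A D F := IsScalarTower.of_algebraMap_eq (R := A) (S := D) (A := F) fun a => by
    show algebraMap A F a = ψ₀ (MvPolynomial.C (algebraMap R L (algebraMap A R a)))
    rw [hψ₀C, hσR, hAF]
  haveI : Algebra.EssFiniteType A D := by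
    haveI : Algebra.EssFiniteType R L := inferInstanceAs (Algebra.EssFiniteType R i.L)
    haveI : Algebra.EssFiniteType A L := Algebra.EssFiniteType.comp A R L
    exact Algebra.EssFiniteType.comp A L D
  haveI hLD : IsLocalHom (algebraMap L D) := ⟨fun l hl => by
    have h1 : IsUnit (algebraMap H F (σ l)) := by rw [← hψ₀C]; exact hl.map ψ
    exact isUnit_of_map_unit σ l (isUnit_of_map_unit (algebraMap H F) _ h1)⟩
  haveI hloc : IsLocalHom (algebraMap D F) := hψloc
  haveI : Hensel.IsHenselization D F :=
    { henselian := inferInstance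
      universal := fun T _ _ f hf => by
        haveI := hf
        haveI : IsLocalHom (f.comp (algebraMap L D)) := RingHom.isLocalHom_comp f _
        haveI : IsLocalHom ((f.comp (algebraMap L D)).comp (algebraMap R L)) := RingHom.isLocalHom_comp _ _
        obtain ⟨g, hg, hgu⟩ := Hensel.IsHenselization.universal (R := R) (S := H) T
          ((f.comp (algebraMap L D)).comp (algebraMap R L)) inferInstance
        have hgσ : g.comp σ = f.comp (algebraMap L D) := by
          letI : Algebra R T := ((f.comp (algebraMap L D)).comp (algebraMap R L)).toAlgebra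
          have hu₁ : ∀ r, g (σ (algebraMap R L r)) = algebraMap R T r := fun r => by
            rw [hσR]; exact RingHom.congr_fun hg r
          let u₁ : i.L →ₐ[R] T := { toRingHom := g.comp σ, commutes' := hu₁ }
          let u₂ : i.L →ₐ[R] T := { toRingHom := f.comp (algebraMap L D), commutes' := fun r => rfl }
          have hmax : maximalIdeal L = (maximalIdeal R).map (algebraMap R L) :=
            (Henselization.Idx.map_maximalIdeal i).symm
          have hd : ∀ l, u₁ l - u₂ l ∈ maximalIdeal T := fun l => by
            obtain ⟨r, hr⟩ := hres l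
            have h2 : ∀ u : i.L →ₐ[R] T, u (l - algebraMap R L r) ∈ maximalIdeal T := fun u => by
              rw [hmax] at hr
              have := Ideal.mem_map_of_mem u.toRingHom hr
              rw [Ideal.map_map, show u.toRingHom.comp (algebraMap R L) = algebraMap R T from u.comp_algebraMap] at this
              refine (Ideal.map_le_iff_le_comap.2 fun r' hr' => ?_) this
              exact fun hu => hr' (isUnit_of_map_unit ((f.comp (algebraMap L D)).comp (algebraMap R L)) r' hu)
            have e1 := sub_mem (h2 u₁) (h2 u₂)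
            rwa [map_sub, map_sub, AlgHom.commutes, AlgHom.commutes, sub_sub_sub_cancel_right] at e1
          have := IsLocalization.algHom_ext (f := u₁) (g := u₂) i.q.primeCompl
            (Hensel.algHom_unique (A := T) (I := maximalIdeal T)
              (jacobson_eq_maximalIdeal (⊥ : Ideal T) bot_ne_top).ge fun z => hd _)
          exact RingHom.ext fun l => AlgHom.congr_fun this l
        let h₀ : MvPolynomial (Fin n) H →+* T :=
          MvPolynomial.eval₂Hom g fun j => f (Ideal.Quotient.mk (Ideal.span S) (MvPolynomial.X j))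
        have hh₀ : h₀.comp (MvPolynomial.map σ) = f.comp (Ideal.Quotient.mk (Ideal.span S)) := by
          refine MvPolynomial.ringHom_ext (fun l => ?_) (fun j => by simp [h₀])
          simp only [RingHom.comp_apply, MvPolynomial.map_C, h₀, MvPolynomial.eval₂Hom_C]
          exact RingHom.congr_fun hgσ l
        have hker : RingHom.ker θ ≤ RingHom.ker h₀ := by
          rw [← hG]
          refine Ideal.span_le.2 fun z hz => ?_
          show h₀ z = 0
          rw [← hg₀ z hz, ← RingHom.comp_apply, hh₀]
          show f (Ideal.Quotient.mk (Ideal.span S) (g₀ z hz)) = 0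
          rw [Ideal.Quotient.eq_zero_iff_mem.2 (Ideal.subset_span (Or.inl ⟨⟨z, hz⟩, rfl⟩) : g₀ z hz ∈ Ideal.span S),
            map_zero]
        let h : F →+* T := RingHom.liftOfSurjective θ.toRingHom hθ ⟨h₀, hker⟩
        have hh : ∀ z, h (θ z) = h₀ z := fun z => RingHom.liftOfRightInverse_comp_apply θ.toRingHom _ _ ⟨h₀, hker⟩ z
        refine ⟨h, Ideal.Quotient.ringHom_ext (RingHom.ext fun p => ?_), fun h' hh' => RingHom.ext fun y => ?_⟩
        · show h (θ (MvPolynomial.map σ p)) = _
          rw [hh]; exact RingHom.congr_fun hh₀ p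
        · obtain ⟨z, rfl⟩ := hθ y
          rw [hh]
          refine RingHom.congr_fun (MvPolynomial.ringHom_ext (f := h'.comp θ.toRingHom) (g := h₀) (fun c => ?_) fun j => ?_) z
          · have hg' : h'.comp (algebraMap H F) = g := hgu _ (RingHom.ext fun r => by
              show h' (algebraMap H F (algebraMap R H r)) = f (algebraMap L D (algebraMap R L r))
              rw [← hσR, ← hψ₀C]
              exact RingHom.congr_fun hh' (Ideal.Quotient.mk (Ideal.span S) (MvPolynomial.C (algebraMap R L r))))
            simp only [RingHom.comp_apply, h₀, MvPolynomial.eval₂Hom_C]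
            rw [← hg']
            simp [θ]
          · simp only [RingHom.comp_apply, h₀, MvPolynomial.eval₂Hom_X']
            rw [← RingHom.congr_fun hh' (Ideal.Quotient.mk (Ideal.span S) (MvPolynomial.X j))]
            show h' (θ (MvPolynomial.X j)) = h' (ψ₀ (MvPolynomial.X j))
            rw [hψ₀X]; simp [θ] }
  exact isHensEft_of_eft A D F


/-- Descent along an injective finite homomorphism. -/
theorem isHensEft_of_injective (A : Type u) [CommRing A] [IsNoetherianRing A]
    (A' : Type u) [CommRing A'] [IsNoetherianRing A'] [HenselianLocalRing A'] [Algebra A A']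
    (F : Type u) [CommRing F] [HenselianLocalRing F] [Algebra A F] [Algebra A' F] [IsScalarTower A A' F]
    [Module.Finite A' F] [IsLocalHom (algebraMap A' F)] (hinj : Function.Injective (algebraMap A' F))
    (B : Type u) [CommRing B] [Algebra A B] [Algebra.FiniteType A B] (p : Ideal B) [p.IsPrime]
    [Algebra (Localization.AtPrime p) F] [IsScalarTower A (Localization.AtPrime p) F]
    [IsLocalHom (algebraMap (Localization.AtPrime p) F)] [Hensel.IsHenselization (Localization.AtPrime p) F] :
    IsHensEft A A' := by
  classical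
  let R₁ := Localization.AtPrime p
  obtain ⟨n, π, hπ⟩ := Algebra.FiniteType.iff_quotient_mvPolynomial''.mp ‹Algebra.FiniteType A B›
  let y : Fin n → F := fun j => algebraMap R₁ F (algebraMap B R₁ (π (MvPolynomial.X j)))
  choose P hPm hPy using fun j : Fin n => Algebra.IsIntegral.isIntegral (R := A') (y j)
  let cs : Finset A' := Finset.univ.biUnion fun j => (P j).coeffs
  let C : Subalgebra A A' := Algebra.adjoin A (cs : Set A')
  haveI : Algebra.FiniteType A C := (Subalgebra.fg_iff_finiteType C).1 (Subalgebra.fg_adjoin_finset cs)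
  let q : Ideal C := (maximalIdeal A').comap C.val.toRingHom
  haveI : q.IsPrime := Ideal.IsPrime.comap _
  let R := Localization.AtPrime q
  have hunit : ∀ c : q.primeCompl, IsUnit (C.val c) := fun c => not_not.1 c.2
  let ρ : R →+* A' := IsLocalization.lift (M := q.primeCompl) (g := C.val.toRingHom) hunit
  have hρ : ∀ c : C, ρ (algebraMap C R c) = (c : A') := fun c => IsLocalization.lift_eq _ c
  haveI hρloc : IsLocalHom ρ := ⟨fun r hr => by
    obtain ⟨c, t, rfl⟩ := IsLocalization.exists_mk'_eq q.primeCompl r
    rw [IsLocalization.AtPrime.isUnit_mk'_iff R q]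
    intro hc
    refine hc ?_
    have : IsUnit (ρ (algebraMap C R c)) := by
      rw [← IsLocalization.mk'_spec R c t, map_mul]
      exact hr.mul ((IsLocalization.map_units R t).map ρ)
    rwa [hρ] at this⟩
  haveI : IsNoetherianRing C := Algebra.FiniteType.isNoetherianRing A C
  haveI : IsNoetherianRing R := IsLocalization.isNoetherianRing q.primeCompl R inferInstance
  haveI : Algebra.EssFiniteType A R := Algebra.EssFiniteType.comp A C R
  let H := Henselization.HenselizationRing R
  haveI : IsNoetherianRing H := Henselization.isNoetherianRing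
  haveI : HenselianLocalRing H := inferInstanceAs (HenselianLocalRing (Henselization.Hz R (ResidueField R)))
  obtain ⟨g, hg, -⟩ := Hensel.IsHenselization.universal (R := R) (S := H) A' ρ hρloc
  haveI hgloc : IsLocalHom g := ⟨fun h hh => by
    by_contra hnu
    have h1 : h ∈ maximalIdeal H := hnu
    rw [show maximalIdeal H = _ from (Henselization.map_maximalIdeal (R := R) (K := ResidueField R)).symm] at h1
    have h2 := Ideal.mem_map_of_mem g h1
    rw [Ideal.map_map, hg] at h2
    exact (((local_hom_TFAE ρ).out 0 2 rfl rfl).mp hρloc h2) hh⟩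
  letI : Algebra H A' := g.toAlgebra
  letI : Algebra H F := ((algebraMap A' F).comp g).toAlgebra
  haveI : IsScalarTower H A' F := IsScalarTower.of_algebraMap_eq fun _ => rfl
  have hCF : ∀ c : C, algebraMap H F (algebraMap R H (algebraMap C R c)) = algebraMap A' F c := fun c => by
    show algebraMap A' F (g (algebraMap R H (algebraMap C R c))) = _
    rw [show g (algebraMap R H (algebraMap C R c)) = ρ (algebraMap C R c) from RingHom.congr_fun hg _, hρ]
  have hAH : ∀ a : A, algebraMap A A' a = algebraMap H A' (algebraMap R H (algebraMap A R a)) := fun a => by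
    show _ = g _
    rw [IsScalarTower.algebraMap_apply A C R, show g (algebraMap R H (algebraMap C R (algebraMap A C a))) =
      ρ (algebraMap C R (algebraMap A C a)) from RingHom.congr_fun hg _, hρ]
    rfl
  have hy : ∀ j, IsIntegral H (y j) := fun j => by
    have hl : P j ∈ Polynomial.lifts (C.val.toRingHom) := by
      rw [Polynomial.lifts_iff_coeff_lifts]
      intro m
      by_cases hm : (P j).coeff m = 0
      · exact ⟨0, by rw [hm, map_zero]⟩
      · exact ⟨⟨_, Algebra.subset_adjoin (Finset.mem_biUnion.2
          ⟨j, Finset.mem_univ _, Polynomial.coeff_mem_coeffs hm⟩)⟩, rfl⟩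
    obtain ⟨Q, hQ, -, hQm⟩ := Polynomial.lifts_and_degree_eq_and_monic hl (hPm j)
    refine ⟨Q.map ((algebraMap R H).comp (algebraMap C R)), hQm.map _, ?_⟩
    rw [Polynomial.eval₂_map, show (algebraMap H F).comp ((algebraMap R H).comp (algebraMap C R)) =
      (algebraMap A' F).comp C.val.toRingHom from RingHom.ext hCF, ← Polynomial.eval₂_map, hQ]
    exact hPy j
  let S : Subalgebra H F := Algebra.adjoin H (Set.range y)
  haveI : Module.Finite H S := ⟨(Submodule.fg_top _).2
    (fg_adjoin_of_finite (Set.finite_range y) (by rintro _ ⟨j, rfl⟩; exact hy j))⟩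
  haveI : Nontrivial S := S.val.toRingHom.domain_nontrivial
  haveI : IsLocalRing S := by
    obtain ⟨ι, _, Cc, _, hC, ⟨e⟩⟩ := Groth.Agent.Hensel.exists_pi_local_of_henselian H S
    haveI := hC
    haveI : Subsingleton ι := ⟨fun i j => by
      by_contra hij
      have h0 : e.symm (Pi.single i 1) * e.symm (Pi.single j 1) = 0 := by
        rw [← map_mul, ← map_zero e.symm]
        congr 1
        funext l
        by_cases hl : l = i
        · subst hl; simp [hij]
        · simp [hl]
      have hidem : ∀ l, IsIdempotentElem (S.val (e.symm (Pi.single l 1)) : F) := fun l => by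
        unfold IsIdempotentElem
        rw [← map_mul, ← map_mul]
        congr 2
        funext m
        by_cases hm : m = l
        · subst hm; simp
        · simp [hm]
      have hne : ∀ l, (S.val (e.symm (Pi.single l 1)) : F) ≠ 0 := fun l h => by
        have h' : e.symm (Pi.single l 1) = 0 := Subtype.ext h
        have := congrFun ((map_eq_zero_iff _ e.symm.injective).1 h') l
        simp at this
      have hone : ∀ l, (S.val (e.symm (Pi.single l 1)) : F) = 1 := fun l => by
        rcases IsLocalRing.isUnit_or_isUnit_one_sub_self (S.val (e.symm (Pi.single l 1)) : F) with h | h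
        · exact h.mul_left_cancel ((hidem l).trans (mul_one _).symm)
        · exact absurd (h.mul_right_eq_zero.1 (by rw [sub_mul, one_mul, (hidem l).eq, sub_self])) (hne l)
      have := congrArg S.val h0
      rw [map_mul, hone i, hone j, map_zero, one_mul] at this
      exact one_ne_zero this⟩
    haveI : Nonempty ι := by
      by_contra h
      haveI := not_nonempty_iff.1 h
      haveI := e.toEquiv.subsingleton
      exact false_of_nontrivial_of_subsingleton S
    obtain ⟨i⟩ := ‹Nonempty ι›
    letI : Unique ι := uniqueOfSubsingleton i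
    exact (e.trans (RingEquiv.piUnique Cc)).symm.isLocalRing
  haveI : HenselianLocalRing S := Groth.Agent.ConnEt.henselianLocalRing_of_finite H S
  haveI hHF : IsLocalHom (algebraMap H F) := RingHom.isLocalHom_comp (algebraMap A' F) g
  haveI hSF : IsLocalHom S.val.toRingHom := ⟨fun z hz => by
    by_contra hnu
    have h1 : z ∈ maximalIdeal S := hnu
    have h3 : (maximalIdeal F).comap S.val.toRingHom = maximalIdeal S := eq_maximalIdeal
      (Ideal.isMaximal_of_isIntegral_of_isMaximal_comap (R := H) _ (by
        rw [Ideal.comap_comap, show S.val.toRingHom.comp (algebraMap H S) = algebraMap H F from rfl,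
          ((local_hom_TFAE (algebraMap H F)).out 0 4 rfl rfl).mp hHF]
        exact maximalIdeal.isMaximal H))
    rw [← h3] at h1
    exact h1 hz⟩
  have hsurj : S = ⊤ := by
    have hBS : ∀ z : MvPolynomial (Fin n) A, algebraMap R₁ F (algebraMap B R₁ (π z)) ∈ S := fun z => by
      induction z using MvPolynomial.induction_on with
      | C a =>
        rw [show π (MvPolynomial.C a) = algebraMap A B a from π.commutes a, ← IsScalarTower.algebraMap_apply A B R₁,
          ← IsScalarTower.algebraMap_apply A R₁ F, IsScalarTower.algebraMap_apply A A' F, hAH,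
          ← IsScalarTower.algebraMap_apply H A' F]
        exact S.algebraMap_mem _
      | add u v hu hv => rw [map_add, map_add, map_add]; exact S.add_mem hu hv
      | mul_X u j hu => rw [map_mul, map_mul, map_mul]; exact S.mul_mem hu (Algebra.subset_adjoin ⟨j, rfl⟩)
    let f₀ : B →+* S := ((algebraMap R₁ F).comp (algebraMap B R₁)).codRestrict S.toSubring fun b => by
      obtain ⟨z, rfl⟩ := hπ b; exact hBS z
    have hf₀ : ∀ s : p.primeCompl, IsUnit (f₀ s) := fun s =>
      isUnit_of_map_unit S.val.toRingHom _ ((IsLocalization.map_units R₁ s).map (algebraMap R₁ F))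
    let f : R₁ →+* S := IsLocalization.lift hf₀
    have hf : S.val.toRingHom.comp f = algebraMap R₁ F := IsLocalization.ringHom_ext p.primeCompl
      (RingHom.ext fun b => by
        show S.val (f (algebraMap B R₁ b)) = _
        rw [IsLocalization.lift_eq]; rfl)
    haveI : IsLocalHom f := ⟨fun r hr => isUnit_of_map_unit (algebraMap R₁ F) r
      (by rw [← hf]; exact hr.map S.val.toRingHom)⟩
    obtain ⟨u, hu, -⟩ := Hensel.IsHenselization.universal (R := R₁) (S := F) S f inferInstance
    have hid : S.val.toRingHom.comp u = RingHom.id F :=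
      (Hensel.IsHenselization.universal (R := R₁) (S := F) F (algebraMap R₁ F) inferInstance).unique
        (by rw [RingHom.comp_assoc, hu, hf]) (RingHom.id_comp _)
    refine eq_top_iff.2 fun z _ => ?_
    rw [show z = S.val (u z) from (RingHom.congr_fun hid z).symm]
    exact (u z).2
  haveI : Module.Finite H F :=
    Module.Finite.of_surjective S.val.toLinearMap fun z => ⟨⟨z, hsurj ▸ Algebra.mem_top⟩, rfl⟩
  haveI : Module.Finite H A' := by
    exact Module.Finite.of_injective (IsScalarTower.toAlgHom H A' F).toLinearMap hinj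
  exact isHensEft_of_finite A R H A' hAH

/-- Let A be a Noetherian ring, A' and A'₁ local Noetherian henselian A-algebras and φ : A' ⟶ A'₁ a
finite local homomorphism of A-algebras. If A' is a henselization of a local ring essentially of
finite type over A then so is A'₁, and the converse holds when φ is injective. -/
theorem result
    (A : Type u) [CommRing A] [IsNoetherianRing A]
    (A' : Type u) [CommRing A'] [IsNoetherianRing A'] [HenselianLocalRing A'] [Algebra A A']
    (A'₁ : Type u) [CommRing A'₁] [IsNoetherianRing A'₁] [HenselianLocalRing A'₁] [Algebra A A'₁]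
    (φ : A' →ₐ[A] A'₁) [IsLocalHom φ.toRingHom] (hfin : φ.toRingHom.Finite) :
    ((∃ (B : Type u) (_ : CommRing B) (_ : Algebra A B) (_ : Algebra.FiniteType A B) (p : Ideal B) (_ : p.IsPrime)
        (_ : Algebra (Localization.AtPrime p) A') (_ : IsScalarTower A (Localization.AtPrime p) A')
        (_ : IsLocalHom (algebraMap (Localization.AtPrime p) A')), Hensel.IsHenselization (Localization.AtPrime p) A') →
      (∃ (B : Type u) (_ : CommRing B) (_ : Algebra A B) (_ : Algebra.FiniteType A B) (p : Ideal B) (_ : p.IsPrime)
        (_ : Algebra (Localization.AtPrime p) A'₁) (_ : IsScalarTower A (Localization.AtPrime p) A'₁)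
        (_ : IsLocalHom (algebraMap (Localization.AtPrime p) A'₁)), Hensel.IsHenselization (Localization.AtPrime p) A'₁)) ∧
    (Function.Injective φ →
      (∃ (B : Type u) (_ : CommRing B) (_ : Algebra A B) (_ : Algebra.FiniteType A B) (p : Ideal B) (_ : p.IsPrime)
        (_ : Algebra (Localization.AtPrime p) A'₁) (_ : IsScalarTower A (Localization.AtPrime p) A'₁)
        (_ : IsLocalHom (algebraMap (Localization.AtPrime p) A'₁)), Hensel.IsHenselization (Localization.AtPrime p) A'₁) →
      (∃ (B : Type u) (_ : CommRing B) (_ : Algebra A B) (_ : Algebra.FiniteType A B) (p : Ideal B) (_ : p.IsPrime)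
        (_ : Algebra (Localization.AtPrime p) A') (_ : IsScalarTower A (Localization.AtPrime p) A')
        (_ : IsLocalHom (algebraMap (Localization.AtPrime p) A')), Hensel.IsHenselization (Localization.AtPrime p) A')) := by
  letI : Algebra A' A'₁ := φ.toRingHom.toAlgebra
  haveI : IsScalarTower A A' A'₁ := IsScalarTower.of_algebraMap_eq fun a => (φ.commutes a).symm
  haveI : Module.Finite A' A'₁ := hfin
  haveI hloc : IsLocalHom (algebraMap A' A'₁) := ‹IsLocalHom φ.toRingHom›
  refine ⟨?_, ?_⟩
  · rintro ⟨B, _, _, _, p, _, _, _, _, _⟩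
    haveI : Algebra.EssFiniteType A (Localization.AtPrime p) := Algebra.EssFiniteType.comp A B _
    exact isHensEft_of_finite A (Localization.AtPrime p) A' A'₁ fun a => by
      rw [← IsScalarTower.algebraMap_apply A (Localization.AtPrime p) A', ← IsScalarTower.algebraMap_apply A A' A'₁]
  · rintro hinj ⟨B, _, _, _, p, _, _, _, _, _⟩
    exact isHensEft_of_injective A A' A'₁ hinj B p

end Groth.Agent.S16035
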