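import Groth.Statements.S16045
import Groth.Agent.FerrandPush.BaseChange
import Groth.Agent.FerrandPush.PullbackMaps

set_option autoImplicit false
set_option linter.style.haveILetI false
set_option linter.unusedVariables false
set_option linter.unusedSimpArgs false
universe u
open CategoryTheory CategoryTheory.Limits AlgebraicGeometry
open FlatMor

namespace Groth.Agent.S16045

/-- Let θ₁ : Y ⟶ X₁ and θ₂ : Y ⟶ X₂ be closed immersions of schemes over S and X their pushout in
schemes over S. For a flat morphism g : S' ⟶ S, the square obtained by base change along g is a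
pushout in schemes over S': pinching along a closed subscheme commutes with flat base change. -/
theorem result
    {S S' : Scheme.{u}} (g : S' ⟶ S) [Flat g]
    {Y X₁ X₂ X : Over S} (θ₁ : Y ⟶ X₁) (θ₂ : Y ⟶ X₂) [IsClosedImmersion θ₁.left] [IsClosedImmersion θ₂.left]
    (φ₁ : X₁ ⟶ X) (φ₂ : X₂ ⟶ X) (hX : IsPushout θ₁ θ₂ φ₁ φ₂) :
    IsPushout ((Over.pullback g).map θ₁) ((Over.pullback g).map θ₂)
      ((Over.pullback g).map φ₁) ((Over.pullback g).map φ₂) := by
  have hS := hX.map (Over.forget S)
  have haff : ∀ y : X₂.left, ∃ U : X₁.left.Opens, IsAffineOpen U ∧ θ₂.left ⁻¹' {y} ⊆ θ₁.left ⁻¹' (U : Set X₁.left) := by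
    intro y
    by_cases h : ∃ z, θ₂.left z = y
    · obtain ⟨z, rfl⟩ := h
      obtain ⟨U, hU, hx, -⟩ := exists_isAffineOpen_mem_and_subset (U := ⊤)
        (show θ₁.left z ∈ (⊤ : X₁.left.Opens) from trivial)
      refine ⟨U, hU, fun w hw => ?_⟩
      rw [show w = z from θ₂.left.isClosedEmbedding.injective hw]
      exact hx
    · exact ⟨⊥, isAffineOpen_bot X₁.left, fun w hw => absurd ⟨w, hw⟩ h⟩
  obtain ⟨ha, hb, -, -⟩ := FerrandPush.props_of_isPushout haff (hP := hS)
  have ha' : IsIntegralHom φ₁.left := ha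
  have hb' : IsClosedImmersion φ₂.left := hb
  have hS' : IsPushout θ₁.left θ₂.left φ₁.left φ₂.left := hS
  let G := Over.pullback g
  have sq : ∀ {A B : Over S} (f : A ⟶ B), IsPullback (pullback.fst A.hom g) (G.map f).left f.left (pullback.fst B.hom g) := fun {A B} f =>
    FerrandPush.isPullback_fst_map f.left A.hom B.hom g (Over.w f) (G.map f).left
      (pullback.lift_fst _ _ _) (pullback.lift_snd _ _ _)
  have h0 : IsPushout (G.map θ₁).left (G.map θ₂).left (G.map φ₁).left (G.map φ₂).left :=
    FerrandPush.isPushout_baseChange hS' X.hom g (Or.inl inferInstance)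
      (IsPullback.of_hasPullback X.hom g) (sq φ₁) (sq φ₂) (sq θ₁) (sq θ₂).w.symm (by
        rw [← Over.comp_left, ← Over.comp_left, ← G.map_comp, ← G.map_comp, hX.w])
  refine IsPushout.of_map (Over.forget S') ?_ h0
  rw [← G.map_comp, ← G.map_comp, hX.w]

end Groth.Agent.S16045
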