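import Groth.Statements.S16046
import Mathlib

set_option autoImplicit false
universe u
open TensorProduct
open ValRing

namespace Groth.Agent.S16046

/-- Surjectivity assertion: let A ⊆ A' be valuation rings with fraction fields K ⊆ K', A' dominating A
and A dense in A' for the valuation topology, and L a finite extension of K; put L' = K' ⊗_K L. Then
every element of L' modulo its nilradical which is integral over A' is a finite sum Σ a'ᵢ·lᵢ with
a'ᵢ ∈ A' and lᵢ ∈ L integral over A. (The published statement also identifies the kernel of the map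
from the tensor product with the nilradical; that part is not stated here.) -/
theorem result
    (A K L A' K' : Type u) [CommRing A] [IsDomain A] [ValuationRing A] [Field K] [Algebra A K] [IsFractionRing A K]
    [Field L] [Algebra K L] [FiniteDimensional K L] [Algebra A L] [IsScalarTower A K L]
    [CommRing A'] [IsDomain A'] [ValuationRing A'] [Field K'] [Algebra A' K'] [IsFractionRing A' K']
    [Algebra A A'] [IsLocalHom (algebraMap A A')] (hinj : Function.Injective (algebraMap A A'))
    [Algebra K K'] [Algebra A K'] [IsScalarTower A A' K'] [IsScalarTower A K K']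
    (hdense : ∀ a' b' : A', b' ≠ 0 → ∃ a : A, b' ∣ a' - algebraMap A A' a)
    (x : (K' ⊗[K] L) ⧸ nilradical (K' ⊗[K] L))
    (hx : ((Ideal.Quotient.mk (nilradical (K' ⊗[K] L))).comp
            ((Algebra.TensorProduct.includeLeft : K' →ₐ[K] K' ⊗[K] L).toRingHom.comp (algebraMap A' K'))).IsIntegralElem x) :
    ∃ (n : ℕ) (a : Fin n → A') (l : Fin n → L), (∀ i, IsIntegral A (l i)) ∧
      x = Ideal.Quotient.mk (nilradical (K' ⊗[K] L)) (∑ i, algebraMap A' K' (a i) ⊗ₜ[K] l i) := by
  classical
  haveI : FaithfulSMul A K := (faithfulSMul_iff_algebraMap_injective A K).2 (IsFractionRing.injective A K)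
  have hAA' : IsUnit (1 : A') := isUnit_one
  -- approximation in `K'`
  have happrox : ∀ c : K', ∃ (κ : K) (a' : A'), c = algebraMap K K' κ + algebraMap A' K' a' := by
    intro c
    obtain ⟨a, b, hb, rfl⟩ := IsFractionRing.div_surjective (A := A') c
    have hb0 : b ≠ 0 := nonZeroDivisors.ne_zero hb
    obtain ⟨b0, v, hv⟩ : ∃ (b0 : A) (v : A'ˣ), algebraMap A A' b0 = b * v := by
      by_cases hbu : IsUnit b
      · exact ⟨1, hbu.unit⁻¹, by rw [map_one, IsUnit.mul_val_inv]⟩
      · obtain ⟨b0, z, hz⟩ := hdense b (b * b) (mul_ne_zero hb0 hb0)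
        have hu : IsUnit (1 - b * z) := by
          refine IsLocalRing.isUnit_one_sub_self_of_mem_nonunits _ ?_
          exact fun h => hbu (isUnit_of_mul_isUnit_left h)
        refine ⟨b0, hu.unit, ?_⟩
        rw [IsUnit.unit_spec]
        linear_combination -hz
    have hb0' : algebraMap A A' b0 ≠ 0 := by
      rw [hv]; exact mul_ne_zero hb0 v.ne_zero
    obtain ⟨α, w, hw⟩ := hdense (a * v) (algebraMap A A' b0) hb0'
    refine ⟨algebraMap A K α / algebraMap A K b0, w, ?_⟩
    have hbK : algebraMap A' K' b ≠ 0 := IsFractionRing.to_map_ne_zero_of_mem_nonZeroDivisors hb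
    have hb0K : algebraMap A' K' (algebraMap A A' b0) ≠ 0 := fun h =>
      hb0' (IsFractionRing.injective A' K' (h.trans (map_zero _).symm))
    rw [map_div₀, ← IsScalarTower.algebraMap_apply A K K', ← IsScalarTower.algebraMap_apply A K K',
      IsScalarTower.algebraMap_apply A A' K', IsScalarTower.algebraMap_apply A A' K',
      div_add' _ _ _ hb0K, div_eq_div_iff hbK hb0K, ← map_mul, ← map_mul, ← map_add, ← map_mul]
    refine congrArg _ ?_
    linear_combination b * hw + a * hv
  let T := K' ⊗[K] L
  let π := Ideal.Quotient.mk (nilradical T)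
  let i : A' →+* T ⧸ nilradical T :=
    π.comp ((Algebra.TensorProduct.includeLeft : K' →ₐ[K] K' ⊗[K] L).toRingHom.comp (algebraMap A' K'))
  -- descent of integrality
  have hdesc : ∀ l : L, i.IsIntegralElem (π ((1 : K') ⊗ₜ[K] l)) → IsIntegral A l := by
    intro l ⟨P, hP, hPe⟩
    have hint : IsIntegral K l := Algebra.IsIntegral.isIntegral l
    let R := (Algebra.TensorProduct.includeRight : L →ₐ[K] T)
    have hnil : IsNilpotent (Polynomial.eval₂ ((Algebra.TensorProduct.includeLeft : K' →ₐ[K] K' ⊗[K] L).toRingHom)
        (R l) (P.map (algebraMap A' K'))) := by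
      rw [Polynomial.eval₂_map, ← mem_nilradical, ← Ideal.Quotient.eq_zero_iff_mem, Polynomial.hom_eval₂]
      exact hPe
    obtain ⟨N, hN⟩ := hnil
    -- `1 ⊗ l` has minimal polynomial `minpoly K l` over `K'`
    have hdvd : (minpoly K l).map (algebraMap K K') ∣ (P ^ N).map (algebraMap A' K') := by
      rw [← Polynomial.modByMonic_eq_zero_iff_dvd ((minpoly.monic hint).map _)]
      let μ := minpoly K l
      set r := (P ^ N).map (algebraMap A' K') %ₘ μ.map (algebraMap K K') with hr
      have hr0 : Polynomial.aeval (R l) r = 0 := by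
        rw [hr, Polynomial.aeval_modByMonic_eq_self_of_root (q := μ.map (algebraMap K K'))
          (by rw [Polynomial.aeval_map_algebraMap, Polynomial.aeval_algHom_apply, minpoly.aeval, map_zero]),
          Polynomial.map_pow, map_pow]
        exact hN
      by_cases hd : r = 0
      · exact hd
      have hdeg : r.natDegree < μ.natDegree := by
        have h := Polynomial.natDegree_modByMonic_lt ((P ^ N).map (algebraMap A' K')) ((minpoly.monic hint).map (algebraMap K K'))
          (fun h1 => by
            have h2 := congrArg Polynomial.natDegree h1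
            rw [(minpoly.monic hint).natDegree_map, Polynomial.natDegree_one] at h2
            exact (minpoly.natDegree_pos hint).ne' h2)
        rwa [(minpoly.monic hint).natDegree_map] at h
      exfalso
      apply hd
      have hli : LinearIndependent K (fun j : Fin μ.natDegree => l ^ (j : ℕ)) := linearIndependent_pow l
      have hli' : LinearIndependent K' (fun j : Fin μ.natDegree => (1 : K') ⊗ₜ[K] (l ^ (j : ℕ))) :=
        Module.Flat.linearIndependent_one_tmul hli
      rw [Polynomial.aeval_eq_sum_range' hdeg, Finset.sum_range] at hr0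
      ext j
      rw [Polynomial.coeff_zero]
      by_cases hj : j < μ.natDegree
      · refine Fintype.linearIndependent_iff.1 hli' (fun j => r.coeff j) ?_ ⟨j, hj⟩
        refine Eq.trans (Finset.sum_congr rfl fun j _ => ?_) hr0
        rw [← map_pow]
        rfl
      · exact Polynomial.coeff_eq_zero_of_natDegree_lt (by omega)
    obtain ⟨g, hg⟩ := IsIntegrallyClosed.eq_map_mul_C_of_dvd K' (hP.pow N) hdvd
    rw [((minpoly.monic hint).map _).leadingCoeff, map_one, mul_one] at hg
    have hmemA : ∀ j, ∃ a : A, algebraMap A K a = (minpoly K l).coeff j := fun j => by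
      rcases ValuationRing.isInteger_or_isInteger A ((minpoly K l).coeff j) with h | h
      · exact h
      · obtain ⟨a, ha⟩ := h
        by_cases hc : (minpoly K l).coeff j = 0
        · exact ⟨0, by rw [hc, map_zero]⟩
        have h1 : algebraMap A' K' (g.coeff j) = algebraMap K K' ((minpoly K l).coeff j) := by
          rw [← Polynomial.coeff_map, hg, Polynomial.coeff_map]
        have ha1 : g.coeff j * algebraMap A A' a = 1 := by
          apply IsFractionRing.injective A' K'
          rw [map_mul, h1, ← IsScalarTower.algebraMap_apply A A' K', IsScalarTower.algebraMap_apply A K K', ha,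
            ← map_mul, mul_inv_cancel₀ hc, map_one, map_one]
        obtain ⟨u, hu⟩ := isUnit_of_map_unit (algebraMap A A') a (isUnit_iff_exists_inv'.2 ⟨_, ha1⟩)
        refine ⟨↑u⁻¹, ?_⟩
        rw [← inv_inv ((minpoly K l).coeff j), ← ha, ← hu]
        refine (inv_eq_of_mul_eq_one_right ?_).symm
        rw [← map_mul, Units.mul_inv, map_one]
    choose a ha using hmemA
    obtain ⟨μA, hμA, -, hμAm⟩ := Polynomial.lifts_and_degree_eq_and_monic
      ((Polynomial.lifts_iff_coeff_lifts _).2 fun j => ⟨a j, ha j⟩) (minpoly.monic hint)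
    refine ⟨μA, hμAm, ?_⟩
    rw [← Polynomial.aeval_def, ← Polynomial.aeval_map_algebraMap K, hμA]
    exact minpoly.aeval K l
  -- a basis of integral elements
  obtain ⟨d, hd0, hdint⟩ := exists_integral_multiples A K (Finset.univ.image (Module.finBasis K L))
  let e := Module.finBasis K L
  let f : Fin (Module.finrank K L) → L := fun j => algebraMap K L (algebraMap A K d) * e j
  have hdK : algebraMap A K d ≠ 0 := fun h => hd0 (IsFractionRing.injective A K (h.trans (map_zero _).symm))
  have hf : ∀ j, IsIntegral A (f j) := fun j => by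
    have := hdint (e j) (Finset.mem_image_of_mem _ (Finset.mem_univ j))
    rwa [Algebra.smul_def, IsScalarTower.algebraMap_apply A K L] at this
  obtain ⟨z, rfl⟩ := Ideal.Quotient.mk_surjective x
  obtain ⟨cs, hcs⟩ : ∃ cs : Fin (Module.finrank K L) → K', z = ∑ j, cs j ⊗ₜ[K] f j := by
    refine ⟨fun j => (e.baseChange K').repr z j * (algebraMap K K' (algebraMap A K d))⁻¹, ?_⟩
    conv_lhs => rw [← (e.baseChange K').sum_repr z]
    refine Finset.sum_congr rfl fun j _ => ?_
    rw [Module.Basis.baseChange_apply, TensorProduct.smul_tmul', smul_eq_mul, mul_one]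
    show _ = ((e.baseChange K').repr z j * _) ⊗ₜ[K] (algebraMap K L _ * e j)
    rw [← Algebra.smul_def, TensorProduct.tmul_smul, TensorProduct.smul_tmul', Algebra.smul_def, ← mul_comm,
      mul_assoc, inv_mul_cancel₀ ((_root_.map_ne_zero _).2 hdK), mul_one]
  choose κ a' hc using happrox
  let l0 : L := ∑ j, κ (cs j) • f j
  have hz : z = (1 : K') ⊗ₜ[K] l0 + ∑ j, algebraMap A' K' (a' (cs j)) ⊗ₜ[K] f j := by
    rw [hcs, TensorProduct.tmul_sum, ← Finset.sum_add_distrib]
    refine Finset.sum_congr rfl fun j _ => ?_
    conv_lhs => rw [hc (cs j)]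
    rw [TensorProduct.add_tmul, TensorProduct.tmul_smul, TensorProduct.smul_tmul', Algebra.algebraMap_eq_smul_one]
  have hl0 : IsIntegral A l0 := by
    refine hdesc l0 ?_
    letI : Algebra A' (T ⧸ nilradical T) := i.toAlgebra
    show IsIntegral A' (π ((1 : K') ⊗ₜ[K] l0))
    have hπ : π ((1 : K') ⊗ₜ[K] l0) = π z - ∑ j, i (a' (cs j)) * π ((1 : K') ⊗ₜ[K] f j) := by
      rw [eq_sub_iff_add_eq, hz, map_add, map_sum]
      refine congrArg _ (Finset.sum_congr rfl fun j _ => ?_)
      show π (algebraMap A' K' (a' (cs j)) ⊗ₜ[K] (1 : L)) * _ = _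
      rw [← map_mul, Algebra.TensorProduct.tmul_mul_tmul, mul_one, one_mul]
    rw [hπ]
    refine IsIntegral.sub hx (IsIntegral.sum _ fun j _ => IsIntegral.mul isIntegral_algebraMap ?_)
    obtain ⟨Q, hQ, hQe⟩ := hf j
    refine ⟨Q.map (algebraMap A A'), hQ.map _, ?_⟩
    rw [Polynomial.eval₂_map]
    have hcomp : (algebraMap A' (T ⧸ nilradical T)).comp (algebraMap A A') =
        (π.comp (Algebra.TensorProduct.includeRight : L →ₐ[K] T).toRingHom).comp (algebraMap A L) := by
      ext a
      show π (algebraMap A' K' (algebraMap A A' a) ⊗ₜ[K] (1 : L)) = π ((1 : K') ⊗ₜ[K] algebraMap A L a)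
      rw [← IsScalarTower.algebraMap_apply A A' K', IsScalarTower.algebraMap_apply A K K',
        IsScalarTower.algebraMap_apply A K L, Algebra.TensorProduct.tmul_one_eq_one_tmul]
    rw [hcomp, show π ((1 : K') ⊗ₜ[K] f j) = (π.comp (Algebra.TensorProduct.includeRight : L →ₐ[K] T).toRingHom) (f j) from rfl,
      ← Polynomial.hom_eval₂, hQe, map_zero]
  refine ⟨Module.finrank K L + 1, Fin.cons 1 fun j => a' (cs j), Fin.cons l0 f, Fin.cases hl0 hf, ?_⟩
  rw [hz, Fin.sum_univ_succ]
  simp

end Groth.Agent.S16046
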