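import Groth.Statements.S16048
import Groth.Agent.ArtFunLib.Points
import Groth.Agent.ArtFunLib.PS
-- import your own Groth.Agent.* helpers here

set_option autoImplicit false
universe u v
open CategoryTheory
open ArtFun

namespace Groth.Agent.S16048

open Groth.Agent.ArtFunLib

/-- Let Λ be a complete local Noetherian ring with residue field k and F a functor on Artinian local
Λ-algebras with residue field k which admits a hull. A family ξ of F over a complete local
Noetherian Λ-algebra R with residue field k such that R is isomorphic over Λ to a power series ring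
Λ[[t_1, …, t_n]] and the induced map on tangent spaces h_R(k[ε]) → F(k[ε]) is bijective is
miniversal. (The source states this for the deformation functor of a rational double point over the
Witt vectors of an algebraically closed field, with the Kodaira–Spencer map as the tangent map and
the existence of a hull taken from Schlessinger's criteria; the argument uses only the existence of
a hull, so the hull is carried as a hypothesis and Λ is any complete local Noetherian ring with
residue field k.) -/
theorem result {Λ : Type u} {k : Type u}
    [CommRing Λ] [Field k] [Algebra Λ k] [IsNoetherianRing Λ] [Module.Finite Λ k]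
    [IsLocalRing Λ] [IsAdicComplete (IsLocalRing.maximalIdeal Λ) Λ]
    (hk : Function.Surjective (algebraMap Λ k))
    {F : ArtFun.Art Λ k ⥤ Type v} (hF : ArtFun.HasHull F)
    (R : ArtFun.CRing Λ k) (n : ℕ) (e : R.carrier ≃ₐ[Λ] MvPowerSeries (Fin n) Λ)
    (ξ : ArtFun.Family R.carrier R.res F)
    (hξ : Function.Bijective (ArtFun.TangentSpace.ofFamily ξ)) :
    ArtFun.IsMiniversal ξ := by
  obtain ⟨P⟩ := hF
  have h0 := h0_of_bijective_dual P.family P.miniversal.2.2
  have h1 := s1_of_versal_surjective P.family P.miniversal.1 (surjective_of_versal _ P.miniversal.1 h0)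
  refine ⟨Mor.smooth_of_criterion (Mor.ofFamily ξ) (hbar_of_s1 h1) (heps_of_miniversal P.family P.miniversal)
    (hR_h0 R.res) (hR_heps R.res) hξ.2 fun B A μ hμ φ _ => ?_, hξ⟩
  let φ : ArtFun.HomSet R.carrier R.res A := φ
  let resP := R.res.comp e.symm.toAlgHom
  have hres : ∀ i, resP (MvPowerSeries.X i) = 0 := fun i => by
    change R.res (e.symm (MvPowerSeries.X i)) = 0
    rw [← ArtFun.CRing.mem_maximalIdeal_iff, IsLocalRing.mem_maximalIdeal]
    intro hu
    have h := hu.map e
    rw [e.apply_symm_apply, MvPowerSeries.isUnit_iff_constantCoeff, MvPowerSeries.constantCoeff_X] at h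
    exact not_isUnit_zero h
  choose b hb using fun i => hμ.1 (φ.1 (e.symm (MvPowerSeries.X i)))
  obtain ⟨ψ, hψ, -⟩ := ps_existsUnique hk hres B b fun i => by
    rw [← ArtFun.Art.res_app μ, hb, res_homSet φ]
    exact hres i
  obtain ⟨φ₀, -, huniq⟩ := ps_existsUnique hk hres A (fun i => φ.1 (e.symm (MvPowerSeries.X i))) fun i =>
    (res_homSet φ _).trans (hres i)
  have key : ArtFun.HomSet.map μ ψ = homPre e.symm.toAlgHom rfl φ :=
    (huniq _ fun i => (congrArg μ.toAlgHom (hψ i)).trans (hb i)).trans (huniq _ fun i => rfl).symm
  refine ⟨homPre (resS := resP) e.toAlgHom (AlgHom.ext fun r => congrArg R.res (e.symm_apply_apply r)) ψ, HomSet.ext' fun r => ?_⟩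
  refine (congrArg (fun χ : ArtFun.HomSet _ resP A => χ.1 (e r)) key).trans ?_
  exact congrArg φ.1 (e.symm_apply_apply r)

end Groth.Agent.S16048
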