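import Groth.Statements.S16050
import Groth.Agent.HypKaehlerLib.Basic
-- import your own Groth.Agent.* helpers here

set_option autoImplicit false
universe u
open CategoryTheory
open LCI

namespace Groth.Agent.S16050

/-- Let k be an algebraically closed field of characteristic p > 0, P = k[[x, y, z]] the power series
ring in three variables, f a non-unit of P defining an isolated singularity — some power of the
maximal ideal of P is contained in (f) + J, where J is the ideal generated by the values D(f) of all
k-derivations D of P (the Jacobian ideal (f_x, f_y, f_z)) — and R₀ = P/(f). Then Ext²_{R₀}(Ω_{R₀/k},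
R₀) = 0 and Ext¹_{R₀}(Ω_{R₀/k}, R₀) is isomorphic as an R₀-module to R₀/J R₀, the Tjurina algebra
(existence of an R₀-linear isomorphism only; the source obtains it from the boundary map of the
dualized conormal sequence). The source states this for the normal form of a rational double point;
the hypotheses used are those given here. Here Ω is the module of Kähler differentials of the
k-algebra R₀. (The lemma also identifies first-order deformations of R₀ with this Ext¹ group; that
identification is quoted there from another work and is not part of this row.) -/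
theorem result (k : Type u) [Field k] [IsAlgClosed k]
    (p : ℕ) [Fact p.Prime] [CharP k p]
    (f : MvPowerSeries (Fin 3) k) (hf : f ∈ IsLocalRing.maximalIdeal (MvPowerSeries (Fin 3) k))
    (hiso : ∃ N : ℕ, IsLocalRing.maximalIdeal (MvPowerSeries (Fin 3) k) ^ N ≤
      Ideal.span {f} ⊔ Ideal.span {g | ∃ D : Derivation k (MvPowerSeries (Fin 3) k) (MvPowerSeries (Fin 3) k), g = D f}) :
    Subsingleton (Abelian.Ext
        (ModuleCat.of (MvPowerSeries (Fin 3) k ⧸ Ideal.span {f})
          (KaehlerDifferential k (MvPowerSeries (Fin 3) k ⧸ Ideal.span {f})))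
        (ModuleCat.of (MvPowerSeries (Fin 3) k ⧸ Ideal.span {f}) (MvPowerSeries (Fin 3) k ⧸ Ideal.span {f})) 2) ∧
      Nonempty (Abelian.Ext
        (ModuleCat.of (MvPowerSeries (Fin 3) k ⧸ Ideal.span {f})
          (KaehlerDifferential k (MvPowerSeries (Fin 3) k ⧸ Ideal.span {f})))
        (ModuleCat.of (MvPowerSeries (Fin 3) k ⧸ Ideal.span {f}) (MvPowerSeries (Fin 3) k ⧸ Ideal.span {f})) 1 ≃ₗ[MvPowerSeries (Fin 3) k ⧸ Ideal.span {f}]
        ((MvPowerSeries (Fin 3) k ⧸ Ideal.span {f}) ⧸ Ideal.map (Ideal.Quotient.mk (Ideal.span {f}))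
          (Ideal.span {g | ∃ D : Derivation k (MvPowerSeries (Fin 3) k) (MvPowerSeries (Fin 3) k), g = D f}))) := by
  classical
  haveI : PerfectRing k p := PerfectField.toPerfectRing p
  let S : Ideal (MvPowerSeries (Fin 3) k) :=
    Ideal.span {g | ∃ D : Derivation k (MvPowerSeries (Fin 3) k) (MvPowerSeries (Fin 3) k), g = D f}
  have hS : S = Ideal.span (Set.range fun i => MvPowerSeries.pderiv k i f) := by
    refine le_antisymm (Ideal.span_le.2 ?_) (Ideal.span_le.2 ?_)
    · rintro _ ⟨D, rfl⟩
      rw [SetLike.mem_coe, Groth.Agent.HypKaehlerLib.derivation_apply p D f]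
      exact Ideal.sum_mem _ fun i _ => Ideal.mul_mem_right _ _ (Ideal.subset_span ⟨i, rfl⟩)
    · rintro _ ⟨i, rfl⟩
      exact Ideal.subset_span ⟨_, rfl⟩
  have hiso' : ∃ N : ℕ, IsLocalRing.maximalIdeal (MvPowerSeries (Fin 3) k) ^ N ≤
      Ideal.span {f} ⊔ Ideal.span (Set.range fun i => MvPowerSeries.pderiv k i f) := hS ▸ hiso
  have hf0 : f ≠ 0 := by
    rintro rfl
    obtain ⟨N, hN⟩ := hiso'
    have hm : (MvPowerSeries.X 0 : MvPowerSeries (Fin 3) k) ∈ IsLocalRing.maximalIdeal _ := fun hu =>
      not_isUnit_zero (M₀ := k) (by simpa using MvPowerSeries.isUnit_iff_constantCoeff.1 hu)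
    have h : (MvPowerSeries.X 0 : MvPowerSeries (Fin 3) k) ^ N = 0 := by
      have := hN (Ideal.pow_mem_pow hm N)
      simpa using this
    have h1 := congrArg (MvPowerSeries.coeff (Finsupp.single 0 N)) h
    simp [MvPowerSeries.coeff_X_pow] at h1
  obtain ⟨e⟩ := Groth.Agent.HypKaehlerLib.nonempty_equiv p f
  refine Groth.Agent.HypKaehlerLib.ext_coker (Groth.Agent.HypKaehlerLib.grad f)
    (Groth.Agent.HypKaehlerLib.grad_injective f (a := 0) (b := 1) (by decide) hf0 hiso')
    (e.toLinearMap ∘ₗ Submodule.mkQ _) (e.surjective.comp (Submodule.mkQ_surjective _)) ?_ _ ?_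
  · intro v
    exact (LinearEquiv.map_eq_zero_iff e).trans (Submodule.Quotient.mk_eq_zero _)
  · intro b
    show b ∈ Ideal.map (Ideal.Quotient.mk (Ideal.span {f})) S ↔ _
    rw [hS, Ideal.map_span, ← Set.range_comp]
    refine (Submodule.mem_span_range_iff_exists_fun _).trans ⟨?_, ?_⟩
    · rintro ⟨c, hc⟩
      refine ⟨Fintype.linearCombination _ c, ?_⟩
      rw [Fintype.linearCombination_apply, ← hc]
      exact Finset.sum_congr rfl fun i _ => by
        rw [Groth.Agent.HypKaehlerLib.grad_apply, one_mul, smul_eq_mul, smul_eq_mul, mul_comm]; rfl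
    · rintro ⟨φ, rfl⟩
      refine ⟨fun i => φ (fun j => if i = j then 1 else 0), ?_⟩
      rw [LinearMap.pi_apply_eq_sum_univ φ]
      exact Finset.sum_congr rfl fun i _ => by
        rw [Groth.Agent.HypKaehlerLib.grad_apply, one_mul, smul_eq_mul, smul_eq_mul, mul_comm]; rfl

end Groth.Agent.S16050
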