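import Groth.Statements.S16051
-- import your own Groth.Agent.* helpers here

set_option autoImplicit false
set_option backward.isDefEq.respectTransparency false
universe u
open LieAlg

namespace Groth.Agent.S16051

/-- Let O be a discrete valuation ring of characteristic zero with residue field of characteristic p,
let 1 ≤ n with n + 1 < p (type A_n with p above the Coxeter number), and let x ∈ sl_{n+1}(O) be the
standard subregular nilpotent element, the matrix with entries x_{i,i+1} = 1 for i + 1 < n and 0
elsewhere (one Jordan block of size n and one of size 1; in the source this is the sum of the root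
vectors of the first n − 1 simple roots, completed there to an sl₂-triple). Then the quotient of
sl_{n+1}(O) by the image of ad_x is a free O-module of rank n + 2. (The source works over a complete
such ring with algebraically closed residue field; completeness and algebraic closedness are not
used for this statement.) -/
theorem result (O : Type u) [CommRing O] [IsDomain O] [IsDiscreteValuationRing O]
    [CharZero O] (p : ℕ) [Fact p.Prime] [CharP (IsLocalRing.ResidueField O) p]
    (n : ℕ) (hn : 1 ≤ n) (hp : n + 1 < p)
    (x : LieAlgebra.SpecialLinear.sl (Fin (n + 1)) O)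
    (hx : ∀ i j : Fin (n + 1), (x : Matrix (Fin (n + 1)) (Fin (n + 1)) O) i j =
      if j.val = i.val + 1 ∧ j.val < n then 1 else 0) :
    Module.Free O (LieAlgebra.SpecialLinear.sl (Fin (n + 1)) O ⧸
        LinearMap.range (LieAlgebra.ad O (LieAlgebra.SpecialLinear.sl (Fin (n + 1)) O) x)) ∧
      Module.finrank O (LieAlgebra.SpecialLinear.sl (Fin (n + 1)) O ⧸
        LinearMap.range (LieAlgebra.ad O (LieAlgebra.SpecialLinear.sl (Fin (n + 1)) O) x)) = n + 2 := by
  classical
  have hu : IsUnit ((n + 1 : ℕ) : O) := by
    by_contra h
    have h' : ((n + 1 : ℕ) : O) ∈ IsLocalRing.maximalIdeal O := h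
    rw [← IsLocalRing.residue_eq_zero_iff, map_natCast, CharP.cast_eq_zero_iff (IsLocalRing.ResidueField O) p] at h'
    have := Nat.le_of_dvd (Nat.succ_pos n) h'
    omega
  -- entries extended by zero
  let ext' : Matrix (Fin (n + 1)) (Fin (n + 1)) O → ℕ → ℕ → O := fun A a b =>
    if h : a < n + 1 ∧ b < n + 1 then A ⟨a, h.1⟩ ⟨b, h.2⟩ else 0
  have hext : ∀ (A : Matrix (Fin (n + 1)) (Fin (n + 1)) O) (i j : Fin (n + 1)),
      ext' A i.val j.val = A i j := by
    intro A i j
    simp only [ext', i.isLt, j.isLt, and_self, dif_pos]
  let X : Matrix (Fin (n + 1)) (Fin (n + 1)) O := x.1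
  have hbr : ∀ (A : Matrix (Fin (n + 1)) (Fin (n + 1)) O) (a b : ℕ), a < n + 1 → b < n + 1 →
      ext' (X * A - A * X) a b =
        (if a + 1 < n then ext' A (a + 1) b else 0) -
        (if 1 ≤ b ∧ b < n then ext' A a (b - 1) else 0) := by
    intro A a b ha hb
    have h1 : (X * A) ⟨a, ha⟩ ⟨b, hb⟩ = if a + 1 < n then ext' A (a + 1) b else 0 := by
      rw [Matrix.mul_apply]
      split_ifs with h
      · rw [Finset.sum_eq_single (⟨a + 1, by omega⟩ : Fin (n + 1))]
        · rw [show X _ _ = _ from hx _ _, if_pos ⟨rfl, h⟩, one_mul]
          exact (hext A _ _).symm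
        · intro c _ hc
          rw [show X _ _ = _ from hx _ _, if_neg, zero_mul]
          exact fun hh => hc (Fin.ext hh.1)
        · simp
      · refine Finset.sum_eq_zero fun c _ => ?_
        rw [show X _ _ = _ from hx _ _, if_neg, zero_mul]
        rintro ⟨hh, hh'⟩
        exact h (by simp only at hh; omega)
    have h2 : (A * X) ⟨a, ha⟩ ⟨b, hb⟩ = if 1 ≤ b ∧ b < n then ext' A a (b - 1) else 0 := by
      rw [Matrix.mul_apply]
      split_ifs with h
      · rw [Finset.sum_eq_single (⟨b - 1, by omega⟩ : Fin (n + 1))]
        · rw [show X _ _ = _ from hx _ _, if_pos ⟨by simp only; omega, h.2⟩, mul_one]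
          exact (hext A _ _).symm
        · intro c _ hc
          rw [show X _ _ = _ from hx _ _, if_neg, mul_zero]
          exact fun hh => hc (Fin.ext (by have := hh.1; simp only at this ⊢; omega))
        · simp
      · refine Finset.sum_eq_zero fun c _ => ?_
        rw [show X _ _ = _ from hx _ _, if_neg, mul_zero]
        rintro ⟨hh, hh'⟩
        exact h ⟨by simp only at hh; omega, hh'⟩
    rw [show ext' (X * A - A * X) a b = (X * A - A * X) ⟨a, ha⟩ ⟨b, hb⟩ from
      hext _ ⟨a, ha⟩ ⟨b, hb⟩, Matrix.sub_apply, h1, h2]
  let φ : LieAlgebra.SpecialLinear.sl (Fin (n + 1)) O →ₗ[O] (Fin n ⊕ Fin 2 → O) :=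
    { toFun := fun Y => Sum.elim (fun k => ∑ j ∈ Finset.range (n - k.val), ext' Y.1 (j + k.val) j)
        ![ext' Y.1 (n - 1) n, ext' Y.1 n 0]
      map_add' := fun Y Z => by
        funext i
        have hadd : ∀ a b, ext' (Y.1 + Z.1) a b = ext' Y.1 a b + ext' Z.1 a b := by
          intro a b
          simp only [ext']
          split_ifs <;> simp
        rcases i with k | i
        · simp [hadd, Finset.sum_add_distrib]
        · fin_cases i <;> simp [hadd]
      map_smul' := fun c Y => by
        funext i
        have hsmul : ∀ a b, ext' (c • Y.1) a b = c * ext' Y.1 a b := by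
          intro a b
          simp only [ext']
          split_ifs <;> simp
        rcases i with k | i
        · simp [hsmul, Finset.mul_sum]
        · fin_cases i <;> simp [hsmul] }
  have htr : ∀ A : Matrix (Fin (n + 1)) (Fin (n + 1)) O,
      A.trace = (∑ j ∈ Finset.range n, ext' A j j) + ext' A n n := by
    intro A
    rw [← Finset.sum_range_succ (fun j => ext' A j j), ← Fin.sum_univ_eq_sum_range (fun j => ext' A j j)]
    exact Finset.sum_congr rfl fun i _ => (hext A i i).symm
  have hsurj : Function.Surjective φ := by
    intro v
    let f : ℕ → ℕ → O := fun a b =>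
      if h : a < n ∧ b = 0 then v (Sum.inl ⟨a, h.1⟩)
      else if a = n ∧ b = n then - v (Sum.inl ⟨0, hn⟩)
      else if a = n - 1 ∧ b = n then v (Sum.inr 0)
      else if a = n ∧ b = 0 then v (Sum.inr 1) else 0
    let A : Matrix (Fin (n + 1)) (Fin (n + 1)) O := Matrix.of fun i j => f i.val j.val
    have hA : ∀ a b, a < n + 1 → b < n + 1 → ext' A a b = f a b := fun a b ha hb =>
      hext A ⟨a, ha⟩ ⟨b, hb⟩
    have hmem : A ∈ LieAlgebra.SpecialLinear.sl (Fin (n + 1)) O := by
      change A.trace = 0
      rw [htr, Finset.sum_eq_single 0, hA _ _ (by omega) (by omega), hA _ _ (by omega) (by omega)]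
      · simp only [f]
        rw [dif_pos (by constructor <;> first | trivial | omega), dif_neg (by omega), if_pos (by constructor <;> trivial), add_neg_cancel]
      · intro b hb hb0
        rw [Finset.mem_range] at hb
        rw [hA _ _ (by omega) (by omega)]
        simp only [f]
        rw [dif_neg (by omega), if_neg (by omega), if_neg (by omega), if_neg (by omega)]
      · simp; omega
    refine ⟨⟨A, hmem⟩, funext fun i => ?_⟩
    rcases i with k | i
    · change ∑ j ∈ Finset.range (n - k.val), ext' A (j + k.val) j = _
      have hk := k.isLt
      rw [Finset.sum_eq_single 0, hA _ _ (by omega) (by omega)]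
      · simp only [f, zero_add]
        rw [dif_pos (by constructor <;> first | trivial | omega)]
      · intro b hb hb0
        rw [Finset.mem_range] at hb
        rw [hA _ _ (by omega) (by omega)]
        simp only [f]
        rw [dif_neg (by omega), if_neg (by omega), if_neg (by omega), if_neg (by omega)]
      · simp
    · fin_cases i
      · change ext' A (n - 1) n = v (Sum.inr 0)
        rw [hA _ _ (by omega) (by omega)]
        simp only [f]
        rw [dif_neg (by omega), if_neg (by omega), if_pos (by constructor <;> trivial)]
      · change ext' A n 0 = v (Sum.inr 1)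
        rw [hA _ _ (by omega) (by omega)]
        simp only [f]
        rw [dif_neg (by omega), if_neg (by omega), if_neg (by omega), if_pos (by constructor <;> trivial)]
  have hker : LinearMap.range (LieAlgebra.ad O (LieAlgebra.SpecialLinear.sl (Fin (n + 1)) O) x) =
      LinearMap.ker φ := by
    apply le_antisymm
    · rintro _ ⟨B, rfl⟩
      rw [LinearMap.mem_ker]
      funext i
      rcases i with k | i
      · change ∑ j ∈ Finset.range (n - k.val), ext' (X * B.1 - B.1 * X) (j + k.val) j = 0
        obtain ⟨q, hq⟩ : ∃ q, n - k.val = q + 1 := ⟨n - k.val - 1, by omega⟩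
        rw [Finset.sum_congr rfl (fun j hj => hbr B.1 (j + k.val) j
          (by rw [Finset.mem_range] at hj; omega) (by rw [Finset.mem_range] at hj; omega)),
          Finset.sum_sub_distrib, hq, Finset.sum_range_succ, Finset.sum_range_succ']
        rw [if_neg (by omega), if_neg (by omega), add_zero, add_zero, ← Finset.sum_sub_distrib]
        refine Finset.sum_eq_zero fun j hj => ?_
        rw [Finset.mem_range] at hj
        rw [if_pos (by omega), if_pos (by omega), Nat.add_sub_cancel, Nat.add_right_comm, sub_self]
      · fin_cases i
        · change ext' (X * B.1 - B.1 * X) (n - 1) n = 0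
          rw [hbr _ _ _ (by omega) (by omega), if_neg (by omega), if_neg (by omega), sub_zero]
        · change ext' (X * B.1 - B.1 * X) n 0 = 0
          rw [hbr _ _ _ (by omega) (by omega), if_neg (by omega), if_neg (by omega), sub_zero]
    · intro Y hY
      rw [LinearMap.mem_ker] at hY
      have hs : ∀ d, d < n → ∑ j ∈ Finset.range (n - d), ext' Y.1 (j + d) j = 0 := fun d hd =>
        congrFun hY (Sum.inl ⟨d, hd⟩)
      have hw0 : ext' Y.1 (n - 1) n = 0 := congrFun hY (Sum.inr 0)
      have hw1 : ext' Y.1 n 0 = 0 := congrFun hY (Sum.inr 1)
      have hnn : ext' Y.1 n n = 0 := by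
        have h := (htr Y.1).symm.trans Y.2
        have h0' := hs 0 (by omega)
        simp only [Nat.sub_zero, add_zero] at h0'
        rwa [h0', zero_add] at h
      let g : ℕ → ℕ → O := fun a b =>
        if a < n ∧ b < n then ∑ t ∈ Finset.range (min a (b + 1)), ext' Y.1 (a - 1 - t) (b - t)
        else if b = n ∧ 1 ≤ a ∧ a < n then ext' Y.1 (a - 1) n
        else if a = n ∧ b + 1 < n then - ext' Y.1 n (b + 1) else 0
      let A : Matrix (Fin (n + 1)) (Fin (n + 1)) O := Matrix.of fun i j => g i.val j.val
      have hA : ∀ a b, a < n + 1 → b < n + 1 → ext' A a b = g a b := fun a b ha hb =>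
        hext A ⟨a, ha⟩ ⟨b, hb⟩
      have hAY : X * A - A * X = Y.1 := by
        ext i j
        obtain ⟨a, ha⟩ := i
        obtain ⟨b, hb⟩ := j
        rw [← hext (X * A - A * X) ⟨a, ha⟩ ⟨b, hb⟩, ← hext Y.1 ⟨a, ha⟩ ⟨b, hb⟩, hbr A a b ha hb]
        show _ = ext' Y.1 a b
        by_cases hb1 : 1 ≤ b ∧ b < n
        · rw [if_pos hb1, hA a (b - 1) ha (by omega)]
          by_cases ha1 : a + 1 < n
          · rw [if_pos ha1, hA _ _ (by omega) hb]
            simp only [g]
            rw [if_pos (by omega), if_pos (by omega), show min (a + 1) (b + 1) = min a (b - 1 + 1) + 1 by omega,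
              Finset.sum_range_succ']
            rw [Finset.sum_congr rfl (fun t ht => by
              rw [show a + 1 - 1 - (t + 1) = a - 1 - t by omega, show b - (t + 1) = b - 1 - t by omega])]
            simp
          · rw [if_neg ha1]
            by_cases han : a = n
            · simp only [g]
              rw [if_neg (by omega), if_neg (by omega), if_pos (by omega),
                show b - 1 + 1 = b by omega, han]
              simp
            · have ha' : a = n - 1 := by omega
              simp only [g]
              rw [if_pos (by omega), show min a (b - 1 + 1) = b by omega]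
              have h := hs (a - b) (by omega)
              rw [show n - (a - b) = b + 1 by omega, Finset.sum_range_succ,
                show b + (a - b) = a by omega, ← Finset.sum_range_reflect] at h
              rw [zero_sub, neg_eq_iff_add_eq_zero, ← h]
              congr 1
              refine Finset.sum_congr rfl fun t ht => ?_
              rw [Finset.mem_range] at ht
              rw [show b - 1 - t + (a - b) = a - 1 - t by omega]
        · rw [if_neg hb1, sub_zero]
          by_cases ha1 : a + 1 < n
          · rw [if_pos ha1, hA _ _ (by omega) hb]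
            simp only [g]
            rcases Nat.lt_or_ge b n with hbn | hbn
            · have hb0 : b = 0 := by omega
              subst hb0
              rw [if_pos (by omega), show min (a + 1) (0 + 1) = 1 by omega, Finset.sum_range_one]
              simp
            · have hb0 : b = n := by omega
              rw [if_neg (by omega), if_pos (by omega), hb0]
              simp
          · rw [if_neg ha1]
            rcases Nat.lt_or_ge b n with hbn | hbn
            · have hb0 : b = 0 := by omega
              subst hb0
              by_cases han : a = n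
              · rw [han, hw1]
              · have h := hs a (by omega)
                rw [show n - a = 1 by omega, Finset.sum_range_one, zero_add] at h
                rw [h]
            · have hb0 : b = n := by omega
              rw [hb0]
              by_cases han : a = n
              · rw [han, hnn]
              · rw [show a = n - 1 by omega, hw0]
      obtain ⟨u, hu'⟩ := hu
      let c : O := A.trace * ↑u⁻¹
      have hmem : A - c • (1 : Matrix (Fin (n + 1)) (Fin (n + 1)) O) ∈
          LieAlgebra.SpecialLinear.sl (Fin (n + 1)) O := by
        change Matrix.trace (A - c • (1 : Matrix (Fin (n + 1)) (Fin (n + 1)) O)) = 0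
        rw [Matrix.trace_sub, Matrix.trace_smul, Matrix.trace_one, Fintype.card_fin, smul_eq_mul,
          ← hu']
        simp [c, mul_assoc]
      refine ⟨⟨_, hmem⟩, Subtype.ext ?_⟩
      rw [LieAlgebra.ad_apply]
      change X * (A - c • 1) - (A - c • 1) * X = Y.1
      rw [← hAY, mul_sub, sub_mul, mul_smul_comm, smul_mul_assoc, mul_one, one_mul, sub_sub_sub_cancel_right]
  let e := (Submodule.quotEquivOfEq _ _ hker).trans (φ.quotKerEquivOfSurjective hsurj)
  refine ⟨Module.Free.of_equiv e.symm, ?_⟩
  rw [e.finrank_eq, Module.finrank_fintype_fun_eq_card, Fintype.card_sum, Fintype.card_fin,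
    Fintype.card_fin]

end Groth.Agent.S16051
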