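import Mathlib
import Groth.Agent.TameKummerLib.Basic
import Groth.Statements.S16052

set_option autoImplicit false
universe u
open Polynomial
open CAlg Polynomial
open scoped IntermediateField

namespace Groth.Agent.S16052

/-- Let O be a henselian discrete valuation ring of characteristic zero with algebraically closed
residue field of characteristic p, ϖ a uniformizer and K the fraction field. Let r_1, …, r_m ≥ 1 and
b_1, …, b_m ≥ 1 be integers with gcd(r_i, b_i) = 1 for each i and r_1 + ⋯ + r_m < p, and let v_1, …,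
v_m be units of O. Then the splitting field over K of the polynomial ∏_i (y^{r_i} − v_i ϖ^{b_i}) has
degree lcm(r_1, …, r_m) over K. (In the source O is complete and this polynomial is the y-part of a
deformation y ↦ x² + z² + f(y) of an A_n-singularity with n + 1 = Σ r_i; the proposition goes on to
identify the monodromy element, which is not stated here.) -/
theorem result (O : Type u) [CommRing O] [IsDomain O]
    [IsDiscreteValuationRing O] [HenselianLocalRing O] [CharZero O] [IsAlgClosed (IsLocalRing.ResidueField O)]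
    (p : ℕ) [Fact p.Prime] [CharP (IsLocalRing.ResidueField O) p]
    (ϖ : O) (hϖ : Irreducible ϖ) (m : ℕ) (r b : Fin m → ℕ) (v : Fin m → Oˣ)
    (hr : ∀ i, 1 ≤ r i) (hb : ∀ i, 1 ≤ b i) (hrb : ∀ i, Nat.Coprime (r i) (b i)) (hp : ∑ i, r i < p) :
    Module.finrank (FractionRing O)
        (∏ i, (X ^ (r i) - C (algebraMap O (FractionRing O) ((v i : O) * ϖ ^ (b i))))).SplittingField =
      Finset.univ.lcm r := by
  classical
  set K := FractionRing O
  set M := Finset.univ.lcm r with hM
  have hM0 : M ≠ 0 := by
    rw [hM, Ne, Finset.lcm_eq_zero_iff]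
    rintro ⟨i, -, hi⟩
    exact absurd hi (by have := hr i; omega)
  have hdvd : ∀ i, r i ∣ M := fun i => Finset.dvd_lcm (Finset.mem_univ i)
  have hrp : ∀ i, ¬ p ∣ r i := fun i h => by
    have h1 := Nat.le_of_dvd (hr i) h
    have h2 := Finset.single_le_sum (f := r) (fun j _ => Nat.zero_le _) (Finset.mem_univ i)
    omega
  have hcast : ∀ i, (r i : IsLocalRing.ResidueField O) ≠ 0 := fun i => by
    rw [ne_eq, CharP.cast_eq_zero_iff _ p]; exact hrp i
  have hMc : (M : IsLocalRing.ResidueField O) ≠ 0 := by
    rw [ne_eq, CharP.cast_eq_zero_iff _ p]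
    intro h
    have h1 : p ∣ ∏ i, r i := h.trans (Finset.lcm_dvd fun i _ => Finset.dvd_prod_of_mem r (Finset.mem_univ i))
    obtain ⟨i, -, hi⟩ := (Fact.out : p.Prime).prime.exists_mem_finset_dvd h1
    exact hrp i hi
  haveI : NeZero M := ⟨hM0⟩
  have hK := Groth.Agent.TameKummerLib.exists_primitiveRoot O K hMc
  have H := Groth.Agent.TameKummerLib.irreducible_X_pow_sub_uniformizer O K hϖ hM0
  set P : K[X] := ∏ i, (X ^ (r i) - C (algebraMap O K ((v i : O) * ϖ ^ (b i))))
  set h : K[X] := X ^ M - C (algebraMap O K ϖ)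
  set L := h.SplittingField
  haveI : FiniteDimensional K L := Polynomial.IsSplittingField.finiteDimensional L h
  have hfin : Module.finrank K L = M := finrank_of_isSplittingField_X_pow_sub_C hK H L
  obtain ⟨β, hβ⟩ := (SplittingField.splits h).exists_eval_eq_zero (by
    rw [degree_map, degree_X_pow_sub_C (Nat.pos_of_ne_zero hM0)]; exact_mod_cast hM0)
  simp only [h, Polynomial.map_sub, Polynomial.map_pow, map_X, map_C, eval_sub, eval_pow, eval_X,
    eval_C, sub_eq_zero] at hβ
  have hβ0 : β ≠ 0 := fun e => by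
    rw [e, zero_pow hM0, eq_comm, map_eq_zero] at hβ
    exact hϖ.ne_zero ((IsFractionRing.to_map_eq_zero_iff (R := O) (K := K)).mp hβ)
  choose w hw using fun i => Groth.Agent.TameKummerLib.exists_pow_eq O (hcast i) (v i)
  let x : Fin m → L := fun i => algebraMap K L (algebraMap O K (w i : O)) * β ^ (M / r i * b i)
  have hx : ∀ i, x i ^ r i = algebraMap K L (algebraMap O K ((v i : O) * ϖ ^ b i)) := fun i => by
    simp only [x, mul_pow, ← pow_mul, map_mul, map_pow, ← hw i, Units.val_pow_eq_pow_val]
    rw [← hβ, ← pow_mul]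
    congr 2
    calc M / r i * b i * r i = (M / r i * r i) * b i := by ring
      _ = M * b i := by rw [Nat.div_mul_cancel (hdvd i)]
  have hPne : P ≠ 0 := Finset.prod_ne_zero_iff.mpr fun i _ => X_pow_sub_C_ne_zero (hr i) _
  have hspl : (P.map (algebraMap K L)).Splits := by
    simp only [P, Polynomial.map_prod, Polynomial.map_sub, Polynomial.map_pow, map_X, map_C]
    refine Splits.prod fun i _ => ?_
    obtain ⟨ζ, hζ⟩ := Groth.Agent.TameKummerLib.exists_primitiveRoot O K (hcast i)
    exact X_pow_sub_C_splits_of_isPrimitiveRoot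
      (((mem_primitiveRoots (hr i)).mp hζ).map_of_injective (algebraMap K L).injective) (hx i)
  -- the roots of `P` generate
  have hgen : Algebra.adjoin K (P.rootSet L) = ⊤ := by
    set F := IntermediateField.adjoin K (P.rootSet L)
    have hFalg : F.toSubalgebra = Algebra.adjoin K (P.rootSet L) :=
      IntermediateField.adjoin_toSubalgebra_of_isAlgebraic (fun y _ => IsAlgebraic.of_finite K y)
    rw [← hFalg]
    let S : AddSubgroup ℤ :=
      { carrier := {n | β ^ n ∈ F}
        zero_mem' := by simp
        add_mem' := fun {a c} ha hc => by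
          simp only [Set.mem_setOf_eq, zpow_add₀ hβ0] at *
          exact mul_mem ha hc
        neg_mem' := fun {a} ha => by
          simp only [Set.mem_setOf_eq, zpow_neg] at *
          exact inv_mem ha }
    have hMS : (M : ℤ) ∈ S := by
      show β ^ (M : ℤ) ∈ F
      rw [zpow_natCast, hβ]; exact F.algebraMap_mem _
    have hiS : ∀ i, ((M / r i : ℕ) : ℤ) ∈ S := fun i => by
      have hb' : ((M / r i * b i : ℕ) : ℤ) ∈ S := by
        show β ^ ((M / r i * b i : ℕ) : ℤ) ∈ F
        rw [zpow_natCast]
        have hxF : x i ∈ F := IntermediateField.subset_adjoin K _ (by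
          rw [mem_rootSet_of_ne hPne, show aeval (x i) P = ∏ j, (x i ^ r j -
              algebraMap K L (algebraMap O K ((v j : O) * ϖ ^ b j))) by simp [P, map_prod]]
          exact Finset.prod_eq_zero (Finset.mem_univ i) (sub_eq_zero.mpr (hx i)))
        have h2 : β ^ (M / r i * b i) = (algebraMap K L (algebraMap O K (w i : O)))⁻¹ * x i := by
          refine (inv_mul_cancel_left₀ ?_ _).symm
          simp
        rw [h2]
        exact mul_mem (inv_mem (F.algebraMap_mem _)) hxF
      obtain ⟨s, t, hst⟩ := (Int.isCoprime_iff_nat_coprime (a := (r i : ℤ)) (b := (b i : ℤ))).mpr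
        (by simpa using hrb i)
      have : ((M / r i : ℕ) : ℤ) = s • (M : ℤ) + t • ((M / r i * b i : ℕ) : ℤ) := by
        have hMr : (M : ℤ) = ((M / r i : ℕ) : ℤ) * r i := by
          exact_mod_cast (Nat.div_mul_cancel (hdvd i)).symm
        conv_rhs => rw [smul_eq_mul, smul_eq_mul, hMr, Nat.cast_mul]
        linear_combination -((M / r i : ℕ) : ℤ) * hst
      rw [this]
      exact add_mem (S.zsmul_mem hMS s) (S.zsmul_mem hb' t)
    obtain ⟨g, hg⟩ := Int.subgroup_cyclic S
    have hgn : ∀ n : ℤ, n ∈ S → g ∣ n := fun n hn => by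
      rw [hg, ← AddSubgroup.zmultiples_eq_closure, Int.mem_zmultiples_iff] at hn
      exact hn
    have hg1 : g.natAbs = 1 := by
      have hd : g.natAbs ∣ M := Int.natCast_dvd_natCast.mp (Int.natAbs_dvd.mpr (hgn _ hMS))
      have hg0 : 0 < g.natAbs := Nat.pos_of_ne_zero fun e => by
        rw [e] at hd; exact hM0 (Nat.eq_zero_of_zero_dvd hd)
      have h2 : M ∣ M / g.natAbs := Finset.lcm_dvd fun i _ => by
        have hi : g.natAbs ∣ M / r i := Int.natCast_dvd_natCast.mp (Int.natAbs_dvd.mpr (hgn _ (hiS i)))
        refine (Nat.dvd_div_iff_mul_dvd hd).mpr ?_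
        calc g.natAbs * r i ∣ M / r i * r i := Nat.mul_dvd_mul_right hi _
          _ = M := Nat.div_mul_cancel (hdvd i)
      have h3 := Nat.le_of_dvd (Nat.div_pos (Nat.le_of_dvd (Nat.pos_of_ne_zero hM0) hd) hg0) h2
      rcases Nat.lt_or_ge 1 g.natAbs with hlt | hge
      · exact absurd h3 (not_le.mpr (Nat.div_lt_self (Nat.pos_of_ne_zero hM0) hlt))
      · omega
    have hβF : β ∈ F := by
      have h1 : (1 : ℤ) ∈ S := by
        rw [hg, ← AddSubgroup.zmultiples_eq_closure, Int.mem_zmultiples_iff]
        exact Int.natAbs_dvd.mp (by rw [hg1]; exact one_dvd _)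
      simpa [S] using h1
    have hadj : (K⟮β⟯ : IntermediateField K L) = ⊤ := by
      rw [← IntermediateField.finrank_eq_one_iff_eq_top]
      have hmβ : minpoly K β = h := (minpoly.eq_of_irreducible_of_monic H (by rw [map_sub, map_pow, aeval_X, aeval_C, hβ, sub_self])
        (monic_X_pow_sub_C _ hM0)).symm
      have h1 : Module.finrank K K⟮β⟯ = M := by
        rw [IntermediateField.adjoin.finrank (IsIntegral.of_finite K β), hmβ, natDegree_X_pow_sub_C]
      have h2 := Module.finrank_mul_finrank K K⟮β⟯ L
      rw [h1, hfin] at h2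
      exact Nat.eq_of_mul_eq_mul_left (Nat.pos_of_ne_zero hM0) (by rw [h2, mul_one])
    have hF : F = ⊤ := top_le_iff.mp (hadj ▸ IntermediateField.adjoin_simple_le_iff.mpr hβF)
    rw [hF]; rfl
  haveI : IsSplittingField K L P := ⟨hspl, hgen⟩
  rw [← hfin]
  exact (IsSplittingField.algEquiv L P).toLinearEquiv.finrank_eq.symm

end Groth.Agent.S16052
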