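import Mathlib
import Groth.Agent.TameKummerLib.Basic
import Groth.Statements.S16053

set_option autoImplicit false
universe u
open Polynomial
open CAlg Polynomial
open scoped IntermediateField

namespace Groth.Agent.S16053

/-- Let O be a henselian discrete valuation ring of characteristic zero with algebraically closed
residue field of characteristic p and fraction field K, and let f ∈ O[y] be a monic polynomial of
degree e with 1 ≤ e < p which is Eisenstein at the maximal ideal of O. Then the splitting field of f
over K has degree e over K and the Galois group of f over K is cyclic. (In the source O is complete,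
e = n + 1 and f is the y-part y^{n+1} + u_n ϖ^{a_n} y^{n−1} + ⋯ + u_1 ϖ of an A_n-degeneration
meeting the discriminant transversally; the corollary's conclusion that monodromy acts through a
Coxeter element is not stated here.) -/
theorem result (O : Type u) [CommRing O] [IsDomain O]
    [IsDiscreteValuationRing O] [HenselianLocalRing O] [CharZero O] [IsAlgClosed (IsLocalRing.ResidueField O)]
    (p : ℕ) [Fact p.Prime] [CharP (IsLocalRing.ResidueField O) p]
    (f : O[X]) (hmon : f.Monic) (e : ℕ) (hdeg : f.natDegree = e) (he : 1 ≤ e) (hep : e < p)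
    (hf : f.IsEisensteinAt (IsLocalRing.maximalIdeal O)) :
    Module.finrank (FractionRing O) (f.map (algebraMap O (FractionRing O))).SplittingField = e ∧
      IsCyclic (f.map (algebraMap O (FractionRing O))).Gal := by
  haveI : NeZero e := ⟨by omega⟩
  set K := FractionRing O
  have he0 : (e : IsLocalRing.ResidueField O) ≠ 0 := by
    rw [ne_eq, CharP.cast_eq_zero_iff _ p]
    exact fun h => absurd (Nat.le_of_dvd (by omega) h) (by omega)
  obtain ⟨ϖ, hϖ⟩ := IsDiscreteValuationRing.exists_irreducible O
  have hK := Groth.Agent.TameKummerLib.exists_primitiveRoot O K he0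
  have H := Groth.Agent.TameKummerLib.irreducible_X_pow_sub_uniformizer O K hϖ (e := e) (by omega)
  set g := f.map (algebraMap O K)
  set L := g.SplittingField
  have hgmon : g.Monic := hmon.map _
  have hgdeg : g.natDegree = e := by rw [hmon.natDegree_map, hdeg]
  have hgirr : Irreducible g := (hmon.irreducible_iff_irreducible_map_fraction_map (K := K)).mp
    (hf.irreducible (IsLocalRing.maximalIdeal.isMaximal O).isPrime hmon.isPrimitive (by omega))
  have hsp : (g.map (algebraMap K L)).Splits := SplittingField.splits g
  have hdeg0 : (g.map (algebraMap K L)).degree ≠ 0 := by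
    rw [degree_map, degree_eq_natDegree hgmon.ne_zero, hgdeg]
    exact_mod_cast (show e ≠ 0 by omega)
  obtain ⟨α, hα⟩ := hsp.exists_eval_eq_zero hdeg0
  rw [eval_map_algebraMap] at hα
  obtain ⟨β, hβα, hβ⟩ := Groth.Agent.TameKummerLib.exists_pow_eq_uniformizer O f hmon hf
    (by rwa [hdeg]) hϖ α (by rwa [aeval_map_algebraMap] at hα)
  rw [hdeg, IsScalarTower.algebraMap_apply O K L] at hβ
  haveI : FiniteDimensional K L := Polynomial.IsSplittingField.finiteDimensional L g
  have hle : K⟮β⟯ ≤ K⟮α⟯ := by
    rw [IntermediateField.adjoin_simple_le_iff]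
    rw [Algebra.adjoin_singleton_eq_range_aeval] at hβα
    obtain ⟨q, hq⟩ := hβα
    rw [← IntermediateField.mem_toSubalgebra,
      IntermediateField.adjoin_simple_toSubalgebra_of_isAlgebraic (IsAlgebraic.of_finite K α), ← hq]
    show aeval α q ∈ _
    rw [← aeval_map_algebraMap K α q]
    exact aeval_mem_adjoin_singleton K α
  have hmα : minpoly K α = g := (minpoly.eq_of_irreducible_of_monic hgirr hα hgmon).symm
  have hmβ : minpoly K β = X ^ e - C (algebraMap O K ϖ) := (minpoly.eq_of_irreducible_of_monic H
    (by simp [hβ]) (monic_X_pow_sub_C _ (by omega))).symm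
  have hfr : Module.finrank K K⟮β⟯ = e := by
    rw [IntermediateField.adjoin.finrank (IsIntegral.of_finite K β), hmβ, natDegree_X_pow_sub_C]
  have heq : K⟮β⟯ = K⟮α⟯ := by
    refine IntermediateField.eq_of_le_of_finrank_eq hle ?_
    rw [hfr, IntermediateField.adjoin.finrank (IsIntegral.of_finite K α), hmα, hgdeg]
  -- `K(β)` is a splitting field of `X ^ e - ϖ`, hence normal
  haveI hsf : IsSplittingField K K⟮β⟯ (X ^ e - C (algebraMap O K ϖ)) := by
    have h := isSplittingField_X_pow_sub_C_of_root_adjoin_eq_top (K := K) (L := K⟮β⟯)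
      (a := algebraMap O K ϖ) (α := IntermediateField.AdjoinSimple.gen K β)
      (by rw [hfr]; exact hK)
      (Subtype.ext (by rw [hfr]; exact hβ))
      (IntermediateField.map_injective K⟮β⟯.val (by
        rw [IntermediateField.adjoin_map, Set.image_singleton, ← AlgHom.fieldRange_eq_map,
          IntermediateField.fieldRange_val]
        rfl))
    rwa [hfr] at h
  haveI : IsGalois K K⟮β⟯ := isGalois_of_isSplittingField_X_pow_sub_C hK H _
  have htop : K⟮β⟯ = ⊤ := by
    let α' : K⟮β⟯ := ⟨α, heq ▸ IntermediateField.mem_adjoin_simple_self K α⟩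
    have hα' : minpoly K α' = g := by
      exact (minpoly.algebraMap_eq (algebraMap K⟮β⟯ L).injective α').symm.trans hmα
    have hs : (g.map (algebraMap K K⟮β⟯)).Splits := by
      have := Normal.splits (F := K) (K := K⟮β⟯) inferInstance α'
      rwa [hα'] at this
    rw [← top_le_iff]
    intro x _
    have hmem : x ∈ Algebra.adjoin K (g.rootSet L) := by
      rw [IsSplittingField.adjoin_rootSet L g]; trivial
    revert x
    refine fun x _ hx => (Algebra.adjoin_le (S := K⟮β⟯.toSubalgebra) ?_) hx
    intro y hy
    rw [← hs.image_rootSet (K⟮β⟯.val)] at hy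
    obtain ⟨z, -, rfl⟩ := hy
    exact z.2
  have hLfr : Module.finrank K L = e := by
    rw [← IntermediateField.finrank_top', ← htop, hfr]
  refine ⟨hLfr, ?_⟩
  haveI : IsSplittingField K L (X ^ e - C (algebraMap O K ϖ)) := by
    have h := isSplittingField_X_pow_sub_C_of_root_adjoin_eq_top (K := K) (L := L)
      (a := algebraMap O K ϖ) (α := β) (by rw [hLfr]; exact hK) (by rw [hLfr]; exact hβ) htop
    rwa [hLfr] at h
  exact isCyclic_of_isSplittingField_X_pow_sub_C hK H L

end Groth.Agent.S16053
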