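import Groth.Statements.S16058
import Groth.Agent.FiltBlLib.Transfer
import Groth.Agent.GeomRk.FibreRk

set_option autoImplicit false
universe u
open FiltBl

namespace Groth.Agent.S16058

open CategoryTheory CategoryTheory.Limits AlgebraicGeometry

set_option backward.isDefEq.respectTransparency false
set_option linter.style.haveILetI false

open IsLocalRing Polynomial LaurentPolynomial FiltBl Groth.Agent

theorem two_le_depth_atPrime {R : Type u} [CommRing R] [IsNoetherianRing R] (P : Ideal R) [P.IsPrime] {a : R}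
    (ha : a ∈ P) (hreg : IsSMulRegular R a)
    (h : ∀ f : R, (∀ p ∈ P, p * f ∈ Ideal.span {a}) → f ∈ Ideal.span {a}) :
    2 ≤ LocCoh.depth (Localization.AtPrime P) (Localization.AtPrime P) := by
  classical
  haveI : IsNoetherianRing (Localization.AtPrime P) := IsLocalization.isNoetherianRing P.primeCompl _ inferInstance
  set B := Localization.AtPrime P
  have ham : algebraMap R B a ∈ maximalIdeal B := (IsLocalization.AtPrime.to_map_mem_maximal_iff _ P _).2 ha
  have hareg : IsSMulRegular B (algebraMap R B a) := hreg.of_isLocalization B P.primeCompl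
  rw [CAlgBasics.two_le_depth_iff]
  refine ⟨CAlgBasics.socleZero_of_isSMulRegular ham hareg,
    fun r hr hrreg => CAlgBasics.socleZeroMod_of_socleZeroMod hrreg hareg ham fun z hz => ?_⟩
  obtain ⟨f, s, rfl⟩ := IsLocalization.exists_mk'_eq P.primeCompl z
  have hloc : ∀ p ∈ P, ∃ t ∉ P, t * (p * f) ∈ Ideal.span {a} := by
    intro p hp
    obtain ⟨w, hw⟩ := hz (algebraMap R B p) ((IsLocalization.AtPrime.to_map_mem_maximal_iff _ P _).2 hp)
    have : algebraMap R B (p * f) ∈ (Ideal.span {a}).map (algebraMap R B) := by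
      rw [Ideal.map_span, Set.image_singleton, Ideal.mem_span_singleton', map_mul,
        ← IsLocalization.mk'_spec B f s, ← mul_assoc]
      refine ⟨w * algebraMap R B s, ?_⟩
      rw [smul_eq_mul, smul_eq_mul] at hw
      rw [hw]; ring
    exact (IsLocalization.algebraMap_mem_map_algebraMap_iff P.primeCompl _ _ _).1 this
  obtain ⟨T, hT⟩ := IsNoetherian.noetherian P
  choose! t ht htm using hloc
  have hTP : ∀ p ∈ T, p ∈ P := fun p hp => hT ▸ Submodule.subset_span hp
  have hprod : (∏ p ∈ T, t p) ∉ P := fun hh => by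
    obtain ⟨p, hp, hp'⟩ := (inferInstance : P.IsPrime).prod_mem_iff.1 hh
    exact ht p (hTP p hp) hp'
  have hf : (∏ p ∈ T, t p) * f ∈ Ideal.span {a} := h _ fun p hp => by
    have hle : P ≤ (Ideal.span {a}).colon {(∏ p ∈ T, t p) * f} := by
      rw [← hT]
      refine Submodule.span_le.2 fun p hp => ?_
      rw [SetLike.mem_coe, Submodule.mem_colon_singleton, smul_eq_mul, ← Finset.prod_erase_mul _ _ hp]
      have := Ideal.mul_mem_left _ (∏ x ∈ T.erase p, t x) (htm p (hTP p hp))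
      convert this using 1
      ring
    have := hle hp
    rwa [Submodule.mem_colon_singleton, smul_eq_mul] at this
  obtain ⟨g, hg⟩ := Ideal.mem_span_singleton'.1 hf
  refine ⟨IsLocalization.mk' B g (⟨_, hprod⟩ * s : P.primeCompl), ?_⟩
  rw [smul_eq_mul, IsLocalization.mul_mk'_eq_mk'_of_mul, IsLocalization.mk'_eq_iff_eq]
  congr 1
  show (∏ p ∈ T, t p) * (s : R) * f = (s : R) * (a * g)
  rw [mul_comm a g, hg]; ring

theorem mem_span_of_colon {R : Type u} [CommRing R] [IsNoetherianRing R] {a : R} (hreg : IsSMulRegular R a)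
    (J : Ideal R)
    (hQ : ∀ (Q : Ideal R) [Q.IsPrime], J ≤ Q → a ∈ Q →
      2 ≤ LocCoh.depth (Localization.AtPrime Q) (Localization.AtPrime Q))
    (f : R) (hf : ∀ j ∈ J, j * f ∈ Ideal.span {a}) : f ∈ Ideal.span {a} := by
  by_contra hne
  obtain ⟨P, hP, hle⟩ := exists_le_isAssociatedPrime_of_isNoetherianRing (R := R)
    (Ideal.Quotient.mk (Ideal.span {a}) f) (fun h0 => hne (Ideal.Quotient.eq_zero_iff_mem.1 h0))
  obtain ⟨hPp, y, hy⟩ := isAssociatedPrime_iff.1 hP
  haveI := hPp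
  obtain ⟨g, rfl⟩ := Ideal.Quotient.mk_surjective y
  have hmem : ∀ r, r ∈ P ↔ r * g ∈ Ideal.span {a} := fun r => by
    rw [hy, Submodule.mem_colon_singleton, Submodule.mem_bot, ← Ideal.Quotient.eq_zero_iff_mem, map_mul]
    rfl
  have hJ : J ≤ P := fun j hj => hle (by
    rw [Submodule.mem_colon_singleton, Submodule.mem_bot]
    show Ideal.Quotient.mk _ j * Ideal.Quotient.mk _ f = 0
    rw [← map_mul, Ideal.Quotient.eq_zero_iff_mem]; exact hf j hj)
  have haP : a ∈ P := (hmem a).2 (Ideal.mul_mem_right _ _ (Ideal.mem_span_singleton_self a))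
  haveI : IsNoetherianRing (Localization.AtPrime P) := IsLocalization.isNoetherianRing P.primeCompl _ inferInstance
  set B := Localization.AtPrime P
  have hd := hQ P hJ haP
  rw [CAlgBasics.two_le_depth_iff] at hd
  obtain ⟨w, hw⟩ := hd.2 (algebraMap R B a) ((IsLocalization.AtPrime.to_map_mem_maximal_iff _ P _).2 haP)
    (hreg.of_isLocalization B P.primeCompl) (algebraMap R B g) fun x hx => by
      obtain ⟨r, s, rfl⟩ := IsLocalization.exists_mk'_eq P.primeCompl x
      rw [IsLocalization.AtPrime.mk'_mem_maximal_iff B P r s] at hx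
      obtain ⟨c, hc⟩ := Ideal.mem_span_singleton'.1 ((hmem r).1 hx)
      refine ⟨IsLocalization.mk' B c s, ?_⟩
      have h1 := congrArg (algebraMap R B) hc
      rw [map_mul, map_mul] at h1
      rw [smul_eq_mul, smul_eq_mul, IsLocalization.mk'_eq_mul_mk'_one (S := B) r s,
        IsLocalization.mk'_eq_mul_mk'_one (S := B) c s]
      linear_combination (-(IsLocalization.mk' B (1 : R) s)) * h1
  have : algebraMap R B g ∈ (Ideal.span {a}).map (algebraMap R B) := by
    rw [Ideal.map_span, Set.image_singleton, Ideal.mem_span_singleton', hw, smul_eq_mul]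
    exact ⟨w, mul_comm _ _⟩
  obtain ⟨s, hs, hsg⟩ := (IsLocalization.algebraMap_mem_map_algebraMap_iff P.primeCompl _ _ _).1 this
  exact hs ((hmem s).2 hsg)

theorem two_le_depth_of_height {R : Type u} [CommRing R] [IsNoetherianRing R] (Q : Ideal R) [Q.IsPrime]
    (hS : FlatDepth.SkLocal 2 (Localization.AtPrime Q)) (h : 2 ≤ Q.height) :
    2 ≤ LocCoh.depth (Localization.AtPrime Q) (Localization.AtPrime Q) := by
  obtain ⟨_, hS⟩ := hS
  rw [IsLocalization.AtPrime.ringKrullDim_eq_height Q] at hS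
  have : ((2 : ℕ) : WithBot ℕ∞) ≤ (Q.height : WithBot ℕ∞) := WithBot.coe_le_coe.2 h
  rw [min_eq_left this] at hS
  exact WithBot.coe_le_coe.1 hS

variable {A : Type u} [CommRing A] (𝓕 : IdealFiltration A)

theorem two_le_height [IsNoetherianRing A] [IsNoetherianRing 𝓕.extRees] (hht : 2 ≤ (𝓕.F 1).height)
    (Q : Ideal 𝓕.extRees) [hQ : Q.IsPrime] (hu : 𝓕.u ∈ Q)
    (hJ : Ideal.span {x : 𝓕.extRees | ∃ n : ℕ, 0 < n ∧ ∃ a ∈ 𝓕.F n,
      (x : A[T;T⁻¹]) = LaurentPolynomial.C a * T (n : ℤ)} ≤ Q) : 2 ≤ Q.height := by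
  classical
  set q := Q.comap (algebraMap A 𝓕.extRees)
  have hF : 𝓕.F 1 ≤ q := fun b hb => by
    have hb' : (⟨_, FiltBlLib.C_mul_T_mem 𝓕 (n := ((1 : ℕ) : ℤ)) (by simpa using hb)⟩ : 𝓕.extRees) ∈ Q :=
      hJ (Ideal.subset_span ⟨1, Nat.one_pos, b, hb, rfl⟩)
    show algebraMap A 𝓕.extRees b ∈ Q
    convert Q.mul_mem_left 𝓕.u hb' using 1
    refine Subtype.ext ?_
    show algebraMap A A[T;T⁻¹] b = T (-1) * (LaurentPolynomial.C b * T ((1 : ℕ) : ℤ))
    rw [mul_left_comm, ← T_add, show -1 + ((1 : ℕ) : ℤ) = 0 by norm_num, T_zero, mul_one,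
      LaurentPolynomial.algebraMap_apply, Algebra.algebraMap_self, RingHom.id_apply]
  have hq2 : 2 ≤ q.height := hht.trans (Ideal.height_mono hF)
  have hnmin : q ∉ minimalPrimes A := fun hm => by
    rw [Ideal.height_eq_zero_iff.2 hm] at hq2; simp at hq2
  obtain ⟨q₁, hq₁p, hq₁⟩ : ∃ q₁, q₁ ∈ minimalPrimes A ∧ q₁ ≤ q := Ideal.exists_minimalPrimes_le bot_le
  haveI : q₁.IsPrime := hq₁p.1.1
  have hlt : q₁ < q := lt_of_le_of_ne hq₁ fun e => hnmin (e ▸ hq₁p)
  obtain ⟨hP, hPc⟩ := FiltBlLib.isPrime_map_laurent q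
  obtain ⟨hP₁, hP₁c⟩ := FiltBlLib.isPrime_map_laurent q₁
  haveI := hP; haveI := hP₁
  set P₀ := (q.map (algebraMap A A[T;T⁻¹])).comap (algebraMap 𝓕.extRees A[T;T⁻¹])
  set P₁ := (q₁.map (algebraMap A A[T;T⁻¹])).comap (algebraMap 𝓕.extRees A[T;T⁻¹])
  have hback : ∀ (q' : Ideal A), ((q'.map (algebraMap A A[T;T⁻¹])).comap (algebraMap 𝓕.extRees A[T;T⁻¹])).comap
      (algebraMap A 𝓕.extRees) = (q'.map (algebraMap A A[T;T⁻¹])).comap (algebraMap A A[T;T⁻¹]) := fun q' => by
    rw [Ideal.comap_comap]; rfl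
  have h10 : P₁ < P₀ := lt_of_le_of_ne (Ideal.comap_mono (Ideal.map_mono hq₁)) fun e => hlt.ne (by
    have := congrArg (Ideal.comap (algebraMap A 𝓕.extRees)) e
    rwa [hback, hback, hP₁c, hPc] at this)
  have h0Q : P₀ < Q := by
    refine lt_of_le_of_ne (fun f hf => ?_) fun e => FiltBlLib.u_notMem_comap 𝓕 (q.map (algebraMap A A[T;T⁻¹])) ?_
    · have hterm : ∀ (n : ℤ) (c : A) (hc : c ∈ q) (hcF : c ∈ 𝓕.F n.toNat),
          (⟨_, FiltBlLib.C_mul_T_mem 𝓕 hcF⟩ : 𝓕.extRees) ∈ Q := by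
        intro n c hc hcF
        rcases n with k | k
        · rcases Nat.eq_zero_or_pos k with rfl | hk
          · suffices e : (⟨_, FiltBlLib.C_mul_T_mem 𝓕 hcF⟩ : 𝓕.extRees) = algebraMap A 𝓕.extRees c by
              rw [e]; exact hc
            refine Subtype.ext ?_
            show LaurentPolynomial.C c * T 0 = algebraMap A A[T;T⁻¹] c
            rw [T_zero, mul_one, LaurentPolynomial.algebraMap_apply, Algebra.algebraMap_self, RingHom.id_apply]
          · exact hJ (Ideal.subset_span ⟨k, hk, c, hcF, rfl⟩)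
        · convert Q.mul_mem_right (𝓕.u ^ (k + 1)) hc using 1
          refine Subtype.ext ?_
          show LaurentPolynomial.C c * T (Int.negSucc k) = algebraMap A A[T;T⁻¹] c * T (-1) ^ (k + 1)
          rw [T_pow, LaurentPolynomial.algebraMap_apply, Algebra.algebraMap_self, RingHom.id_apply, Int.negSucc_eq]
          congr 2
          push_cast; ring
      have hsum : f = ∑ n ∈ (f : A[T;T⁻¹]).coeff.support,
          (⟨_, FiltBlLib.C_mul_T_mem 𝓕 (f.2 n)⟩ : 𝓕.extRees) := by
        refine Subtype.ext ?_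
        rw [AddSubmonoidClass.coe_finsetSum]
        conv_lhs => rw [← AddMonoidAlgebra.sum_coeff_single (f : A[T;T⁻¹])]
        exact Finset.sum_congr rfl fun n _ => single_eq_C_mul_T _ _
      rw [hsum]
      exact Q.sum_mem fun n _ => hterm n _ (FiltBlLib.coeff_mem_of_mem_map q hf n) (f.2 n)
    · show 𝓕.u ∈ P₀
      rw [e]; exact hu
  haveI : P₀.IsPrime := Ideal.IsPrime.comap _
  haveI : P₁.IsPrime := Ideal.IsPrime.comap _
  have e1 := Ideal.height_add_one_le_of_lt_of_isPrime h10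
  have e2 := Ideal.height_add_one_le_of_lt_of_isPrime h0Q
  calc (2 : ℕ∞) = 0 + 1 + 1 := by norm_num
    _ ≤ P₁.height + 1 + 1 := by gcongr; exact zero_le
    _ ≤ P₀.height + 1 := by gcongr
    _ ≤ _ := e2

theorem depth_rees_top [IsNoetherianRing A] [IsNoetherianRing 𝓕.extRees] [IsNoetherianRing 𝓕.rees]
    (hA : ∀ (q : Ideal A) [q.IsPrime], FlatDepth.SkLocal 2 (Localization.AtPrime q))
    (hE : ∀ (q : Ideal 𝓕.extRees) [q.IsPrime], FlatDepth.SkLocal 2 (Localization.AtPrime q))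
    (hht : 2 ≤ (𝓕.F 1).height) {a : A} (ha : a ∈ 𝓕.F 1) (hreg : IsSMulRegular A a)
    (P : Ideal 𝓕.rees) [P.IsPrime]
    (hP : ∀ n : ℕ, 0 < n → ∀ b ∈ 𝓕.F n, ∀ (hb : Polynomial.C b * Polynomial.X ^ n ∈ 𝓕.rees), (⟨_, hb⟩ : 𝓕.rees) ∈ P)
    (hq : 𝓕.F 1 ≤ P.comap (algebraMap A 𝓕.rees)) :
    2 ≤ LocCoh.depth (Localization.AtPrime P) (Localization.AtPrime P) := by
  classical
  set q := P.comap (algebraMap A 𝓕.rees)
  have hCreg : IsSMulRegular A[X] (Polynomial.C a) := fun x y h => by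
    ext n
    have := congrArg (fun p : A[X] => p.coeff n) h
    simp only [smul_eq_mul, Polynomial.coeff_C_mul] at this
    exact hreg this
  have hcoe : (algebraMap A 𝓕.rees a : A[X]) = Polynomial.C a := rfl
  refine two_le_depth_atPrime P (a := algebraMap A 𝓕.rees a) (hq ha) (fun x y h => Subtype.ext (hCreg ?_)) fun f hf => ?_
  · exact congrArg (fun z : 𝓕.rees => (z : A[X])) h
  have hdiv : (f : A[X]) ∈ (Ideal.span {a}).map Polynomial.C := Ideal.mem_map_C_iff.2 fun n => by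
    refine mem_span_of_colon hreg q (fun Q _ hQ _ => two_le_depth_of_height Q (hA Q)
      (hht.trans (Ideal.height_mono (hq.trans hQ)))) _ fun c hc => ?_
    obtain ⟨h, hh⟩ := Ideal.mem_span_singleton'.1 (hf _ hc)
    have := congrArg (fun z : 𝓕.rees => (z : A[X]).coeff n) hh
    simp only [MulMemClass.coe_mul, hcoe] at this
    rw [show ((algebraMap A 𝓕.rees c : 𝓕.rees) : A[X]) = Polynomial.C c from rfl, Polynomial.coeff_C_mul,
      Polynomial.coeff_mul_C] at this
    exact Ideal.mem_span_singleton'.2 ⟨_, this⟩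
  rw [Ideal.map_span, Set.image_singleton, Ideal.mem_span_singleton'] at hdiv
  obtain ⟨g, hg⟩ := hdiv
  suffices hgR : toLaurent g ∈ 𝓕.extRees by
    refine Ideal.mem_span_singleton'.2 ⟨⟨g, fun n => ?_⟩, Subtype.ext hg⟩
    have := hgR (n : ℤ)
    rw [LaurentPolynomial.coeff_toLaurent] at this
    change Finsupp.mapDomain Nat.castEmbedding g.toFinsupp.coeff (Nat.castEmbedding n) ∈ _ at this
    rw [Finsupp.mapDomain_apply Nat.castEmbedding.injective] at this
    exact this
  haveI := FiltBlLib.isLocalization_extRees 𝓕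
  obtain ⟨⟨y, ⟨_, k, rfl⟩⟩, hy⟩ := IsLocalization.surj (Submonoid.powers 𝓕.u) (toLaurent g)
  change toLaurent g * ((𝓕.u ^ k : 𝓕.extRees) : A[T;T⁻¹]) = (y : A[T;T⁻¹]) at hy
  have hmem : y ∈ Ideal.span {𝓕.u ^ k} := by
    refine mem_span_of_colon ((FiltBlLib.u_regular 𝓕).pow k) (Ideal.span {x : 𝓕.extRees | ∃ n : ℕ, 0 < n ∧ ∃ a ∈ 𝓕.F n,
      (x : A[T;T⁻¹]) = LaurentPolynomial.C a * T (n : ℤ)}) (fun Q hQp hQ hu => two_le_depth_of_height Q (hE Q)
      (two_le_height 𝓕 hht Q (hQp.mem_of_pow_mem k hu) hQ)) y fun j hj => ?_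
    suffices hle : Ideal.span {x : 𝓕.extRees | ∃ n : ℕ, 0 < n ∧ ∃ a ∈ 𝓕.F n,
      (x : A[T;T⁻¹]) = LaurentPolynomial.C a * T (n : ℤ)} ≤ (Ideal.span {𝓕.u ^ k}).colon {y} by
      have h := hle hj
      rwa [Submodule.mem_colon_singleton, smul_eq_mul] at h
    refine Ideal.span_le.2 ?_
    rintro x ⟨n, hn, b, hb, hx⟩
    rw [SetLike.mem_coe, Submodule.mem_colon_singleton, smul_eq_mul]
    have hbR : Polynomial.C b * Polynomial.X ^ n ∈ 𝓕.rees := fun m => by
      rw [Polynomial.coeff_C_mul_X_pow]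
      split_ifs with h
      · exact h ▸ hb
      · exact Ideal.zero_mem _
    obtain ⟨h, hh⟩ := Ideal.mem_span_singleton'.1 (hf _ (hP n hn b hb hbR))
    have h1 : (h : A[X]) = Polynomial.C b * Polynomial.X ^ n * g := hCreg (by
      have := congrArg (fun z : 𝓕.rees => (z : A[X])) hh
      simp only [MulMemClass.coe_mul, hcoe, ← hg] at this
      show Polynomial.C a * (h : A[X]) = Polynomial.C a * (Polynomial.C b * Polynomial.X ^ n * g)
      rw [mul_comm (Polynomial.C a) (h : A[X]), this]; ring)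
    refine Ideal.mem_span_singleton'.2 ⟨FiltBlLib.incl 𝓕 h, Subtype.ext ?_⟩
    rw [MulMemClass.coe_mul, MulMemClass.coe_mul, FiltBlLib.val_incl, h1, hx, ← hy, map_mul,
      Polynomial.toLaurent_C_mul_X_pow]
    ring
  obtain ⟨w, hw⟩ := Ideal.mem_span_singleton'.1 hmem
  have hu' : IsUnit ((𝓕.u ^ k : 𝓕.extRees) : A[T;T⁻¹]) := by
    rw [SubmonoidClass.coe_pow, FiltBlLib.val_u]; exact (isUnit_T _).pow k
  rw [hu'.mul_right_cancel (hy.trans (congrArg (fun z : 𝓕.extRees => (z : A[T;T⁻¹])) hw.symm))]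
  exact w.2

/-- Away from the positive part the two Rees algebras agree. -/
theorem skLocal_off_posPart [IsNoetherianRing A] [IsNoetherianRing 𝓕.extRees]
    (hE : ∀ (q : Ideal 𝓕.extRees) [q.IsPrime], FlatDepth.SkLocal 2 (Localization.AtPrime q))
    (P : Ideal 𝓕.rees) [P.IsPrime] {n : ℕ} (hn : 0 < n) {b : A} (hb : b ∈ 𝓕.F n)
    (hbR : Polynomial.C b * Polynomial.X ^ n ∈ 𝓕.rees) (hbP : (⟨_, hbR⟩ : 𝓕.rees) ∉ P) :
    FlatDepth.SkLocal 2 (Localization.AtPrime P) := by
  classical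
  set t : 𝓕.rees := ⟨_, hbR⟩
  let L := Localization.Away (FiltBlLib.incl 𝓕 t)
  letI : Algebra 𝓕.rees L := ((algebraMap 𝓕.extRees L).comp (FiltBlLib.incl 𝓕).toRingHom).toAlgebra
  have hinj : Function.Injective (FiltBlLib.incl 𝓕) := fun x y h => Subtype.ext (Polynomial.toLaurent_injective (by
    rw [← FiltBlLib.val_incl, ← FiltBlLib.val_incl, h]))
  have hdeg : ∀ x : 𝓕.extRees, ∃ (N : ℕ) (z : 𝓕.rees), FiltBlLib.incl 𝓕 z = x * FiltBlLib.incl 𝓕 t ^ N := by
    intro x
    obtain ⟨N, z, hz⟩ := LaurentPolynomial.exists_T_pow (x : A[T;T⁻¹])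
    refine ⟨N, ⟨Polynomial.C (b ^ N) * Polynomial.X ^ (n * N - N) * z, fun m => ?_⟩, Subtype.ext ?_⟩
    · rw [mul_assoc, Polynomial.coeff_C_mul, mul_comm (Polynomial.X ^ (n * N - N)), Polynomial.coeff_mul_X_pow']
      split_ifs with hm
      · have hc : z.coeff (m - (n * N - N)) ∈ 𝓕.F (((m - (n * N - N) : ℕ) : ℤ) - N).toNat := by
          have h1 := x.2 (((m - (n * N - N) : ℕ) : ℤ) - N)
          have h2 : (toLaurent z).coeff ((m - (n * N - N) : ℕ) : ℤ) = z.coeff (m - (n * N - N)) := by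
            rw [LaurentPolynomial.coeff_toLaurent]
            exact Finsupp.mapDomain_apply Nat.castEmbedding.injective _ _
          rw [← h2, hz, T, AddMonoidAlgebra.coeff_mul_single_apply]
          · simpa [sub_eq_add_neg] using h1
        have hbN : b ^ N ∈ 𝓕.F (n * N) := by
          clear hz hc hm
          induction N with
          | zero => simp [𝓕.zero_eq]
          | succ N ih => rw [pow_succ, Nat.mul_succ]; exact 𝓕.mul_le _ _ (Ideal.mul_mem_mul ih hb)
        refine 𝓕.antitone ?_ (𝓕.mul_le _ _ (Ideal.mul_mem_mul hbN hc))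
        have : N ≤ n * N := Nat.le_mul_of_pos_left N hn
        omega
      · rw [mul_zero]; exact Ideal.zero_mem _
    · rw [FiltBlLib.val_incl, MulMemClass.coe_mul, SubmonoidClass.coe_pow, FiltBlLib.val_incl, map_mul, hz,
        Polynomial.toLaurent_C_mul_X_pow]
      show _ = (x : A[T;T⁻¹]) * toLaurent (Polynomial.C b * Polynomial.X ^ n) ^ N
      rw [Polynomial.toLaurent_C_mul_X_pow, mul_pow, ← map_pow, T_pow]
      rw [show LaurentPolynomial.C (b ^ N) * T ((n * N - N : ℕ) : ℤ) * ((x : A[T;T⁻¹]) * T (N : ℤ)) =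
        (x : A[T;T⁻¹]) * (LaurentPolynomial.C (b ^ N) * (T ((n * N - N : ℕ) : ℤ) * T (N : ℤ))) by ring, ← T_add]
      congr 3
      rw [Nat.cast_sub (Nat.le_mul_of_pos_left N hn)]
      push_cast; ring
  haveI : IsLocalization (Submonoid.powers t) L := by
    refine { map_units := ?_, surj := ?_, exists_of_eq := ?_ }
    · rintro ⟨_, k, rfl⟩
      show IsUnit (algebraMap 𝓕.extRees L (FiltBlLib.incl 𝓕 (t ^ k)))
      rw [map_pow, map_pow]
      exact (IsLocalization.Away.algebraMap_isUnit _).pow k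
    · intro z
      obtain ⟨⟨x, ⟨_, i, rfl⟩⟩, hx⟩ := IsLocalization.surj (Submonoid.powers (FiltBlLib.incl 𝓕 t)) z
      obtain ⟨N, w, hw⟩ := hdeg x
      refine ⟨⟨w, ⟨t ^ (i + N), i + N, rfl⟩⟩, ?_⟩
      show z * algebraMap 𝓕.extRees L (FiltBlLib.incl 𝓕 (t ^ (i + N))) = algebraMap 𝓕.extRees L (FiltBlLib.incl 𝓕 w)
      change z * algebraMap 𝓕.extRees L (FiltBlLib.incl 𝓕 t ^ i) = algebraMap 𝓕.extRees L x at hx
      rw [hw, map_pow, pow_add, map_mul, map_mul, ← hx, mul_assoc]
    · intro x y h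
      obtain ⟨⟨_, i, rfl⟩, hi⟩ := IsLocalization.exists_of_eq (M := Submonoid.powers (FiltBlLib.incl 𝓕 t)) h
      refine ⟨⟨t ^ i, i, rfl⟩, hinj ?_⟩
      show FiltBlLib.incl 𝓕 (t ^ i * x) = FiltBlLib.incl 𝓕 (t ^ i * y)
      rw [map_mul, map_mul, map_pow]
      exact hi
  have hd : Disjoint (Submonoid.powers t : Set 𝓕.rees) P := Set.disjoint_left.2 fun x ⟨i, hi⟩ hx =>
    hbP ((inferInstance : P.IsPrime).mem_of_pow_mem i (show t ^ i ∈ P from (show t ^ i = x from hi).symm ▸ hx))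
  haveI := IsLocalization.isPrime_of_isPrime_disjoint (Submonoid.powers t) L P inferInstance hd
  have hc := IsLocalization.under_map_of_isPrime_disjoint (Submonoid.powers t) L (I := P) inferInstance hd
  obtain ⟨e1⟩ := FiltBlLib.nonempty_equiv_localization (Submonoid.powers t) (P.map (algebraMap 𝓕.rees L))
  obtain ⟨e2⟩ := FiltBlLib.nonempty_equiv_localization (Submonoid.powers (FiltBlLib.incl 𝓕 t)) (P.map (algebraMap 𝓕.rees L))
  haveI : IsNoetherianRing (Localization.AtPrime ((P.map (algebraMap 𝓕.rees L)).comap (algebraMap 𝓕.extRees L))) :=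
    IsLocalization.isNoetherianRing ((P.map (algebraMap 𝓕.rees L)).comap (algebraMap 𝓕.extRees L)).primeCompl _ inferInstance
  exact (show ∀ (I : Ideal 𝓕.rees) (_ : I.IsPrime), I = P → FlatDepth.SkLocal 2 (Localization.AtPrime I) →
      FlatDepth.SkLocal 2 (Localization.AtPrime P) from fun I _ e h => by subst e; exact h) _ inferInstance hc
    (FlatDepth.skLocal_of_ringEquiv (e2.trans e1.symm) (hE _))

/-- Away from `F¹` the Rees algebra is the polynomial ring. -/
theorem skLocal_off_base [IsNoetherianRing A]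
    (hA : ∀ (q : Ideal A) [q.IsPrime], FlatDepth.SkLocal 2 (Localization.AtPrime q))
    (P : Ideal 𝓕.rees) [P.IsPrime] {a : A} (ha : a ∈ 𝓕.F 1) (haP : algebraMap A 𝓕.rees a ∉ P) :
    FlatDepth.SkLocal 2 (Localization.AtPrime P) := by
  classical
  let L := Localization.Away (Polynomial.C a : A[X])
  set t := algebraMap A 𝓕.rees a
  letI : Algebra 𝓕.rees L := ((algebraMap A[X] L).comp 𝓕.rees.val.toRingHom).toAlgebra
  have hdeg : ∀ x : A[X], ∃ (N : ℕ) (z : 𝓕.rees), (z : A[X]) = x * Polynomial.C a ^ N := by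
    intro x
    refine ⟨x.natDegree, ⟨x * Polynomial.C a ^ x.natDegree, fun m => ?_⟩, rfl⟩
    rw [← map_pow, Polynomial.coeff_mul_C]
    by_cases hm : m ≤ x.natDegree
    · refine 𝓕.antitone hm (Ideal.mul_mem_left _ _ ?_)
      generalize x.natDegree = d
      induction d with
      | zero => simp [𝓕.zero_eq]
      | succ d ih => rw [pow_succ]; exact 𝓕.mul_le _ _ (Ideal.mul_mem_mul ih ha)
    · rw [Polynomial.coeff_eq_zero_of_natDegree_lt (by omega), zero_mul]; exact Ideal.zero_mem _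
  haveI : IsLocalization (Submonoid.powers t) L := by
    refine { map_units := ?_, surj := ?_, exists_of_eq := ?_ }
    · rintro ⟨_, k, rfl⟩
      show IsUnit (algebraMap A[X] L ((t ^ k : 𝓕.rees) : A[X]))
      rw [SubmonoidClass.coe_pow, map_pow]
      exact (IsLocalization.Away.algebraMap_isUnit (Polynomial.C a)).pow k
    · intro z
      obtain ⟨⟨x, ⟨_, i, rfl⟩⟩, hx⟩ := IsLocalization.surj (Submonoid.powers (Polynomial.C a)) z
      obtain ⟨N, w, hw⟩ := hdeg x
      refine ⟨⟨w, ⟨t ^ (i + N), i + N, rfl⟩⟩, ?_⟩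
      show z * algebraMap A[X] L ((t ^ (i + N) : 𝓕.rees) : A[X]) = algebraMap A[X] L (w : A[X])
      change z * algebraMap A[X] L (Polynomial.C a ^ i) = algebraMap A[X] L x at hx
      rw [hw, SubmonoidClass.coe_pow, show (t : A[X]) = Polynomial.C a from rfl, pow_add, map_mul, map_mul,
        ← hx, mul_assoc]
    · intro x y h
      obtain ⟨⟨_, i, rfl⟩, hi⟩ := IsLocalization.exists_of_eq (M := Submonoid.powers (Polynomial.C a)) h
      exact ⟨⟨t ^ i, i, rfl⟩, Subtype.ext hi⟩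
  have hd : Disjoint (Submonoid.powers t : Set 𝓕.rees) P := Set.disjoint_left.2 fun x ⟨i, hi⟩ hx =>
    haP ((inferInstance : P.IsPrime).mem_of_pow_mem i (show t ^ i ∈ P from (show t ^ i = x from hi).symm ▸ hx))
  haveI := IsLocalization.isPrime_of_isPrime_disjoint (Submonoid.powers t) L P inferInstance hd
  have hc := IsLocalization.under_map_of_isPrime_disjoint (Submonoid.powers t) L (I := P) inferInstance hd
  obtain ⟨e1⟩ := FiltBlLib.nonempty_equiv_localization (Submonoid.powers t) (P.map (algebraMap 𝓕.rees L))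
  obtain ⟨e2⟩ := FiltBlLib.nonempty_equiv_localization (Submonoid.powers (Polynomial.C a)) (P.map (algebraMap 𝓕.rees L))
  haveI : IsNoetherianRing (Localization.AtPrime ((P.map (algebraMap 𝓕.rees L)).comap (algebraMap A[X] L))) :=
    IsLocalization.isNoetherianRing ((P.map (algebraMap 𝓕.rees L)).comap (algebraMap A[X] L)).primeCompl _ inferInstance
  refine (show ∀ (I : Ideal 𝓕.rees) (_ : I.IsPrime), I = P → FlatDepth.SkLocal 2 (Localization.AtPrime I) →
      FlatDepth.SkLocal 2 (Localization.AtPrime P) from fun I _ e h => by subst e; exact h) _ inferInstance hc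
    (FlatDepth.skLocal_of_ringEquiv (e2.trans e1.symm) ?_)
  refine FiltBlLib.lift_prime (FiltBlLib.flatStable_sk 2) A A[X] _ (hA _) fun p _ R _ => ?_
  haveI : IsRegularRing (p.Fiber A[X]) :=
    IsRegularRing.of_ringEquiv (polyEquivTensor A p.ResidueField).toRingEquiv
  haveI := isRegularRing_iff.1 (inferInstance : IsRegularRing (p.Fiber A[X])) R
  exact (FiltBlLib.flatStable_sk 2).reg _


/-- Let A be a Noetherian local ring that is a quotient of a Gorenstein ring, and F a filtration of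
ideals on A (F^0 = A ⊇ F^1 ⊇ ⋯, F^i F^j ⊆ F^{i+j}) with every F^n nonzero and ⋂ F^n = 0, whose Rees
algebra R = ⊕_{n ≥ 0} F^n T^n ⊆ A[T] is finitely generated over A and with F^1 of height at least 2.
If the extended Rees algebra R' = ⊕_{n ∈ ℤ} F^n T^n ⊆ A[T, T⁻¹] (F^n = A for n < 0) satisfies
Serre's condition (S_2), then R satisfies (S_2) as well. (The converse fails. The published
statement is made under the further standing assumption that no nonzero element of R is annihilated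
by a power of the ideal generated by its homogeneous elements of positive degree; under the present
hypothesis that assumption holds automatically, since (S_2) for R' forces (S_2) for A, so that F^1,
of height at least 2, contains a nonzerodivisor of A.) -/
theorem result (A : Type u) [CommRing A] [IsNoetherianRing A] [IsLocalRing A]
    (S : Type u) [CommRing S] [LocCoh.IsGorensteinRing S] (π : S →+* A) (hπ : Function.Surjective π)
    (𝓕 : FiltBl.IdealFiltration A) (hne : ∀ n, 𝓕.F n ≠ ⊥) (hsep : ⨅ n, 𝓕.F n = ⊥)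
    (hfg : Algebra.FiniteType A 𝓕.rees) (hht : 2 ≤ (𝓕.F 1).height)
    (h : LocCoh.HasSk 2 𝓕.extRees 𝓕.extRees) : LocCoh.HasSk 2 𝓕.rees 𝓕.rees := by
  classical
  haveI := FiltBlLib.isNoetherianRing_extRees 𝓕 hfg
  haveI := hfg
  haveI : IsNoetherianRing 𝓕.rees := Algebra.FiniteType.isNoetherianRing A _
  have hE : ∀ (q : Ideal 𝓕.extRees) [q.IsPrime], FlatDepth.SkLocal 2 (Localization.AtPrime q) :=
    (FlatDepth.hasSk_iff 2 _).1 h
  have hA : ∀ (q : Ideal A) [q.IsPrime], FlatDepth.SkLocal 2 (Localization.AtPrime q) := fun q _ =>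
    FiltBlLib.base_of_extRees (FiltBlLib.flatStable_sk 2) 𝓕 q fun P' _ _ => hE P'
  obtain ⟨a, ha, hareg⟩ : ∃ a ∈ 𝓕.F 1, IsSMulRegular A a := by
    have hS1 : LocCoh.HasSk 1 A A := fun p _ => le_trans (min_le_min (by norm_num) le_rfl)
      ((FlatDepth.hasSk_iff 2 A).2 hA p)
    by_contra hne
    push Not at hne
    have hsub : ((𝓕.F 1 : Ideal A) : Set A) ⊆ ⋃ p ∈ associatedPrimes A A, (p : Set A) := fun x hx => by
      rw [biUnion_associatedPrimes_eq_zero_divisors]
      by_contra hx0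
      refine hne x hx (fun y z hyz => sub_eq_zero.1 (by_contra fun h0 => hx0 ⟨y - z, h0, ?_⟩))
      rw [smul_sub, sub_eq_zero]; exact hyz
    obtain ⟨p, hp, hle⟩ := (Ideal.subset_union_prime_finite (associatedPrimes.finite A A) 0 0
      (fun p hp _ _ => hp.isPrime)).1 hsub
    have := hht.trans (Ideal.height_mono hle)
    rw [SerreLib.height_eq_zero_of_hasSk_one hS1 hp] at this
    simp at this
  rw [FlatDepth.hasSk_iff]
  intro P _
  by_cases hpos : ∀ n : ℕ, 0 < n → ∀ b ∈ 𝓕.F n, ∀ (hb : Polynomial.C b * Polynomial.X ^ n ∈ 𝓕.rees),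
      (⟨_, hb⟩ : 𝓕.rees) ∈ P
  · by_cases hq : 𝓕.F 1 ≤ P.comap (algebraMap A 𝓕.rees)
    · refine ⟨inferInstance, ?_⟩
      refine le_trans (min_le_left _ _) ?_
      exact WithBot.coe_le_coe.2 (depth_rees_top 𝓕 hA hE hht ha hareg P hpos hq)
    · obtain ⟨c, hc, hcP⟩ := SetLike.not_le_iff_exists.1 hq
      exact skLocal_off_base 𝓕 hA P hc hcP
  · push Not at hpos
    obtain ⟨n, hn, b, hb, hbR, hbP⟩ := hpos
    exact skLocal_off_posPart 𝓕 hE P hn hb hbR hbP

end Groth.Agent.S16058
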