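import Groth.Statements.S16072
import Groth.Agent.SmallGrp.AlphaP
-- import your own Groth.Agent.* helpers here

set_option autoImplicit false
universe u
open Hopf

namespace Groth.Agent.S16072

/-- Let p be a prime and R a commutative ring of characteristic p (p = 0 in R, R nonzero). Then the
constant group scheme ℤ/p and the group scheme μ_p of p-th roots of unity over Spec R are not
isomorphic: there is no R-bialgebra isomorphism between the Hopf algebra Maps(ℤ/p, R) of functions
on the cyclic group of order p and the group algebra R[ℤ/p]. (Any nonzero commutative base ring of
characteristic p is allowed. The published statement allows any ring R with p·R = 0; over the zero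
ring both Hopf algebras are the zero ring and hence isomorphic, so R is assumed nonzero here.) -/
theorem result (p : ℕ) [Fact p.Prime] (R : Type u) [CommRing R]
    [CharP R p] :
    IsEmpty (ConstGrp.F R (Multiplicative (ZMod p)) ≃ₐc[R] MonoidAlgebra R (Multiplicative (ZMod p))) := by
  haveI : Nontrivial R := CharP.nontrivial_of_char_ne_one (Fact.out (p := p.Prime)).ne_one
  refine SmallGrp.isEmpty_equiv_constGrp (SmallGrp.isNilpotent_sub_monoidAlgebra p R _ fun g => ?_)
  have h := pow_card_eq_one (x := g)
  rwa [Fintype.card_multiplicative, ZMod.card] at h

end Groth.Agent.S16072
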