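import Groth.Statements.S16077
import Mathlib

set_option autoImplicit false
universe u
open CAlg

namespace Groth.Agent.S16077

/-- Let k be a perfect field of characteristic p > 0 and let e_1, …, e_r ≥ 1 and f_1, …, f_s ≥ 1 be
natural numbers. If the k-algebras k[X_1, …, X_r]/(X_i^{p^{e_i}} : 1 ≤ i ≤ r) and k[X_1, …,
X_s]/(X_j^{p^{f_j}} : 1 ≤ j ≤ s) are isomorphic, then r = s and (f_j) is a permutation of (e_i):
there is a bijection σ between the index sets with f_{σ(i)} = e_i. Such truncated polynomial
algebras are the coordinate rings of the connected finite k-group schemes, and the row says that the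
number of variables and the exponents are invariants of the group, indeed of its algebra. (Only this
invariance is stated here; the existence of such a presentation for every connected finite k-group
is a separate statement.) -/
theorem result (p : ℕ) [Fact p.Prime] (k : Type u) [Field k]
    [CharP k p] [PerfectField k] (r s : ℕ) (e : Fin r → ℕ) (f : Fin s → ℕ) (he : ∀ i, 1 ≤ e i) (hf : ∀ j, 1 ≤ f j)
    (φ : (MvPolynomial (Fin r) k ⧸ Ideal.span (Set.range fun i : Fin r => (MvPolynomial.X i : MvPolynomial (Fin r) k) ^ p ^ e i)) ≃ₐ[k]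
      (MvPolynomial (Fin s) k ⧸ Ideal.span (Set.range fun j : Fin s => (MvPolynomial.X j : MvPolynomial (Fin s) k) ^ p ^ f j))) :
    ∃ σ : Fin r ≃ Fin s, ∀ i : Fin r, f (σ i) = e i := by
  classical
  have hp := (Fact.out : p.Prime)
  have dimlem : ∀ (n : ℕ) (g : Fin n → ℕ) (j : ℕ),
      Module.finrank k (Submodule.span k (Set.range fun a : MvPolynomial (Fin n) k ⧸ Ideal.span (Set.range fun i : Fin n => (MvPolynomial.X i : MvPolynomial (Fin n) k) ^ p ^ g i) => a ^ p ^ j)) =
        ∏ i, p ^ (g i - j) := by
    intro n g j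
    set I := Ideal.span (Set.range fun i : Fin n => (MvPolynomial.X i : MvPolynomial (Fin n) k) ^ p ^ g i) with hI
    have hI' : I = Ideal.span ((fun s => MvPolynomial.monomial s (1 : k)) '' Set.range fun i : Fin n => Finsupp.single i (p ^ g i)) := by
      rw [← Set.range_comp, hI]
      simp [MvPolynomial.X_pow_eq_monomial, Function.comp_def]
    have hmem : ∀ x, x ∈ I ↔ ∀ d ∈ x.support, ∃ i, p ^ g i ≤ d i := fun x => by
      rw [hI', MvPolynomial.mem_ideal_span_monomial_image]
      refine forall₂_congr fun d _ => ?_
      simp [Finsupp.single_le_iff]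
    let T := {a : Fin n → ℕ // ∀ i, a i < p ^ (g i - j)}
    let T' := ∀ i, Fin (p ^ (g i - j))
    let eT : T ≃ T' := ⟨fun a i => ⟨a.1 i, a.2 i⟩, fun a => ⟨fun i => a i, fun i => (a i).2⟩, fun _ => rfl, fun _ => rfl⟩
    let δ : T' → (Fin n →₀ ℕ) := fun a => Finsupp.equivFunOnFinite.symm fun i => p ^ j * (a i : ℕ)
    let v : T' → MvPolynomial (Fin n) k ⧸ I := fun a => Ideal.Quotient.mk I (MvPolynomial.monomial (δ a) 1)
    have hδlt : ∀ a i, δ a i < p ^ g i := by
      intro a i
      show p ^ j * (a i : ℕ) < _
      rcases le_or_gt j (g i) with h | h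
      · calc p ^ j * (a i : ℕ) < p ^ j * p ^ (g i - j) := Nat.mul_lt_mul_of_pos_left (a i).2 (pow_pos hp.pos _)
          _ = p ^ g i := by rw [← pow_add, Nat.add_sub_cancel' h]
      · have := (a i).2
        simp only [Nat.sub_eq_zero_of_le h.le, pow_zero, Nat.lt_one_iff] at this
        rw [this, mul_zero]; exact pow_pos hp.pos _
    have hli : LinearIndependent k v := by
      rw [Fintype.linearIndependent_iff]
      intro c hc a
      have h1 : ∑ b, MvPolynomial.monomial (δ b) (c b) ∈ I := by
        rw [← Ideal.Quotient.eq_zero_iff_mem, map_sum, ← hc]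
        exact Finset.sum_congr rfl fun b _ => by
          rw [show MvPolynomial.monomial (δ b) (c b) = c b • MvPolynomial.monomial (δ b) (1 : k) by rw [MvPolynomial.smul_monomial, smul_eq_mul, mul_one]]
          rfl
      by_contra hca
      have hsupp : δ a ∈ (∑ b, MvPolynomial.monomial (δ b) (c b)).support := by
        rw [MvPolynomial.mem_support_iff, MvPolynomial.coeff_sum, Finset.sum_eq_single a]
        · simpa using hca
        · intro b _ hb
          rw [MvPolynomial.coeff_monomial, if_neg fun h => hb (funext fun i => Fin.ext (Nat.eq_of_mul_eq_mul_left (pow_pos hp.pos j) (DFunLike.congr_fun h i)))]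
        · simp
      obtain ⟨i, hi⟩ := (hmem _).mp h1 _ hsupp
      exact absurd hi (not_le.mpr (hδlt a i))
    have hspan : Submodule.span k (Set.range fun a : MvPolynomial (Fin n) k ⧸ I => a ^ p ^ j) = Submodule.span k (Set.range v) := by
      refine le_antisymm (Submodule.span_le.mpr ?_) (Submodule.span_le.mpr ?_)
      · rintro _ ⟨x, rfl⟩
        obtain ⟨x, rfl⟩ := Ideal.Quotient.mk_surjective x
        show (Ideal.Quotient.mk I x) ^ p ^ j ∈ _
        rw [← map_pow, MvPolynomial.as_sum x, sum_pow_char_pow, map_sum]
        refine sum_mem fun d _ => ?_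
        rw [MvPolynomial.monomial_pow]
        by_cases hd : ∀ i, d i < p ^ (g i - j)
        · have : δ (fun i => ⟨d i, hd i⟩) = p ^ j • d := by ext i; simp [δ]
          rw [← this, show MvPolynomial.monomial (δ fun i => ⟨d i, hd i⟩) (x.coeff d ^ p ^ j) = (x.coeff d ^ p ^ j) • MvPolynomial.monomial (δ fun i => ⟨d i, hd i⟩) (1 : k) by rw [MvPolynomial.smul_monomial, smul_eq_mul, mul_one]]
          exact Submodule.smul_mem _ (x.coeff d ^ p ^ j) (Submodule.subset_span ⟨_, rfl⟩ : v (fun i => ⟨d i, hd i⟩) ∈ Submodule.span k (Set.range v))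
        · push Not at hd
          obtain ⟨i, hi⟩ := hd
          rw [(Ideal.Quotient.eq_zero_iff_mem).mpr ((hmem _).mpr fun c hc => ⟨i, ?_⟩)]
          · exact zero_mem _
          · rw [Finset.mem_singleton.mp (MvPolynomial.support_monomial_subset hc)]
            simp only [Finsupp.smul_apply, smul_eq_mul]
            calc p ^ g i ≤ p ^ j * p ^ (g i - j) := by rw [← pow_add]; exact Nat.pow_le_pow_right hp.pos (by omega)
              _ ≤ p ^ j * d i := Nat.mul_le_mul_left _ hi
      · rintro _ ⟨a, rfl⟩
        refine Submodule.subset_span ⟨Ideal.Quotient.mk I (MvPolynomial.monomial (Finsupp.equivFunOnFinite.symm fun i => (a i : ℕ)) 1), ?_⟩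
        show (Ideal.Quotient.mk I _) ^ p ^ j = v a
        rw [← map_pow, MvPolynomial.monomial_pow, one_pow]
        simp only [v]
        rw [show p ^ j • (Finsupp.equivFunOnFinite.symm fun i => (a i : ℕ)) = δ a by ext i; simp [δ]]
    rw [hspan, finrank_span_eq_card hli, Fintype.card_pi]
    simp
  have hdim : ∀ j, ∑ i, (e i - j) = ∑ i, (f i - j) := by
    intro j
    have h1 := dimlem r e j
    have h2 := dimlem s f j
    rw [Finset.prod_pow_eq_pow_sum] at h1 h2
    refine Nat.pow_right_injective hp.two_le ?_
    show p ^ _ = p ^ _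
    rw [← h1, ← h2]
    have hmap : (Submodule.span k (Set.range fun a : MvPolynomial (Fin r) k ⧸ Ideal.span (Set.range fun i : Fin r => (MvPolynomial.X i : MvPolynomial (Fin r) k) ^ p ^ e i) => a ^ p ^ j)).map φ.toLinearMap =
        Submodule.span k (Set.range fun a : MvPolynomial (Fin s) k ⧸ Ideal.span (Set.range fun i : Fin s => (MvPolynomial.X i : MvPolynomial (Fin s) k) ^ p ^ f i) => a ^ p ^ j) := by
      rw [Submodule.map_span, ← Set.range_comp]
      congr 1
      refine Set.Subset.antisymm ?_ ?_
      · rintro _ ⟨a, rfl⟩; exact ⟨φ a, (map_pow φ a _).symm⟩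
      · rintro _ ⟨b, rfl⟩; exact ⟨φ.symm b, by show φ (_ ^ _) = _; rw [map_pow, φ.apply_symm_apply]⟩
    rw [← hmap]
    exact (LinearEquiv.finrank_map_eq φ.toLinearEquiv _).symm
  have hcount : ∀ {n : ℕ} (g : Fin n → ℕ) (j : ℕ), ∑ i, (g i - j) = ∑ i, (g i - (j + 1)) + (Finset.univ.filter fun i => j < g i).card := by
    intro n g j
    rw [Finset.card_filter, ← Finset.sum_add_distrib]
    exact Finset.sum_congr rfl fun i _ => by split_ifs <;> omega
  have hgt : ∀ j, (Finset.univ.filter fun i => j < e i).card = (Finset.univ.filter fun i => j < f i).card := fun j => by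
    have h1 := hcount e j; have h2 := hcount f j; have h3 := hdim j; have h4 := hdim (j + 1); omega
  have hfib : ∀ t, (Finset.univ.filter fun i => e i = t).card = (Finset.univ.filter fun i => f i = t).card := by
    intro t
    rcases t with _ | t
    · rw [Finset.filter_false_of_mem (fun i _ => by have := he i; omega), Finset.filter_false_of_mem (fun i _ => by have := hf i; omega)]
      rfl
    · have split : ∀ {n : ℕ} (g : Fin n → ℕ), (Finset.univ.filter fun i => t < g i).card = (Finset.univ.filter fun i => g i = t + 1).card + (Finset.univ.filter fun i => t + 1 < g i).card := by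
        intro n g
        simp only [Finset.card_filter]
        rw [← Finset.sum_add_distrib]
        exact Finset.sum_congr rfl fun i _ => by split_ifs <;> omega
      have := split e; have := split f; have := hgt t; have := hgt (t + 1); omega
  have hc : ∀ t, Fintype.card {i // e i = t} = Fintype.card {i // f i = t} := fun t => by
    rw [Fintype.card_subtype, Fintype.card_subtype]; exact hfib t
  exact ⟨Equiv.ofFiberEquiv fun t => Fintype.equivOfCardEq (hc t), fun i => Equiv.ofFiberEquiv_map _ i⟩

end Groth.Agent.S16077
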