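import Groth.Statements.S16078
import Mathlib
import Groth.Agent.ConnEt.Extension
-- import your own Groth.Agent.* helpers here

set_option autoImplicit false
universe u
open scoped TensorProduct
open Hopf

namespace Groth.Agent.S16078

/-- Let R be a henselian Noetherian local ring, A and A'' commutative Hopf algebras over R which are
finite and flat as R-modules, and A'' → A an R-algebra homomorphism compatible with
comultiplications and counits making A faithfully flat over A'' (a faithfully flat homomorphism π :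
G → G'' of finite flat R-groups); let J ⊆ A be the ideal generated by the image of the augmentation
ideal of A'' (G' = Spec A/J = ker π, so that 1 → G' → G → G'' → 1 is exact). Let e ∈ A and e'' ∈ A''
be idempotents with ε(e) = 1, ε(e'') = 1 and A/(1 − e), A''/(1 − e'') local rings (the unit
components G⁰ and G''⁰), and let e' ∈ A be an element whose image in A/J is an idempotent, with
ε(e') = 1 and A/(J + (1 − e')) local (so G'⁰ = Spec (A/J)/(1 − e') is the unit component of G').
Suppose g : A''/(1 − e'') → A/(1 − e) is the ring homomorphism induced by A'' → A (the restriction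
π⁰ : G⁰ → G''⁰ of π, which exists because G⁰ is connected). Then g is faithfully flat, and e ≡ e'
modulo J, i.e. J + (1 − e) = J + (1 − e') and the kernel of π⁰, which is cut out in G⁰ by J, is
exactly G'⁰: the sequence 1 → G'⁰ → G⁰ → G''⁰ → 1 is exact. (The published statement also asserts
exactness of the maximal étale quotient G ↦ G^ét, not stated here.) -/
theorem result (R : Type u) [CommRing R] [HenselianLocalRing R]
    [IsNoetherianRing R] (A A'' : Type u) [CommRing A] [HopfAlgebra R A] [Module.Finite R A] [Module.Flat R A]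
    [CommRing A''] [HopfAlgebra R A''] [Module.Finite R A''] [Module.Flat R A'']
    [Algebra A'' A] [IsScalarTower R A'' A] [Module.FaithfullyFlat A'' A]
    (hΔ : (Bialgebra.comulAlgHom R A).comp (IsScalarTower.toAlgHom R A'' A) =
      (Algebra.TensorProduct.map (IsScalarTower.toAlgHom R A'' A) (IsScalarTower.toAlgHom R A'' A)).comp
        (Bialgebra.comulAlgHom R A''))
    (hε : (Bialgebra.counitAlgHom R A).comp (IsScalarTower.toAlgHom R A'' A) = Bialgebra.counitAlgHom R A'')
    (e : A) (he : IsIdempotentElem e) (heε : Bialgebra.counitAlgHom R A e = 1)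
    [IsLocalRing (A ⧸ Ideal.span ({1 - e} : Set A))]
    (e'' : A'') (he'' : IsIdempotentElem e'') (he''ε : Bialgebra.counitAlgHom R A'' e'' = 1)
    [IsLocalRing (A'' ⧸ Ideal.span ({1 - e''} : Set A''))]
    (e' : A) (he' : IsIdempotentElem (Ideal.Quotient.mk ((RingHom.ker (Bialgebra.counitAlgHom R A'')).map (algebraMap A'' A)) e'))
    (he'ε : Bialgebra.counitAlgHom R A e' = 1)
    [IsLocalRing (A ⧸ (((RingHom.ker (Bialgebra.counitAlgHom R A'')).map (algebraMap A'' A)) ⊔ Ideal.span ({1 - e'} : Set A)))]
    (g : (A'' ⧸ Ideal.span ({1 - e''} : Set A'')) →+* (A ⧸ Ideal.span ({1 - e} : Set A)))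
    (hg : g.comp (Ideal.Quotient.mk (Ideal.span ({1 - e''} : Set A''))) =
      (Ideal.Quotient.mk (Ideal.span ({1 - e} : Set A))).comp (algebraMap A'' A)) :
    g.FaithfullyFlat ∧
      Ideal.Quotient.mk ((RingHom.ker (Bialgebra.counitAlgHom R A'')).map (algebraMap A'' A)) e = Ideal.Quotient.mk ((RingHom.ker (Bialgebra.counitAlgHom R A'')).map (algebraMap A'' A)) e' := by
  let I : Ideal A := Ideal.span ({1 - e} : Set A)
  let I'' : Ideal A'' := Ideal.span ({1 - e''} : Set A'')
  let J : Ideal A := (RingHom.ker (Bialgebra.counitAlgHom R A'')).map (algebraMap A'' A)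
  refine ⟨?_, ?_⟩
  · letI : Algebra (A'' ⧸ I'') (A ⧸ I) := g.toAlgebra
    haveI : IsScalarTower A'' (A'' ⧸ I'') (A ⧸ I) :=
      IsScalarTower.of_algebraMap_eq fun x => (RingHom.congr_fun hg x).symm
    haveI : Algebra.IsEpi A'' (A'' ⧸ I'') :=
      Algebra.isEpi_of_surjective_algebraMap A'' (A'' ⧸ I'') Ideal.Quotient.mk_surjective
    haveI : Module.Flat A'' (A ⧸ I) := by
      let s : (A ⧸ I) →ₗ[A''] A := (I.restrictScalars A'').liftQ (LinearMap.mulLeft A'' e) fun x hx => by
        obtain ⟨a, rfl⟩ := Ideal.mem_span_singleton'.mp hx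
        change e * (a * (1 - e)) = 0
        linear_combination (-a) * he.eq
      refine Module.Flat.of_retract s (Ideal.Quotient.mkₐ A'' I).toLinearMap ?_
      refine LinearMap.ext fun x => ?_
      obtain ⟨a, rfl⟩ := Ideal.Quotient.mk_surjective x
      change Ideal.Quotient.mk I (e * a) = Ideal.Quotient.mk I a
      rw [map_mul, ConnEt.mk_e, one_mul]
    haveI : Module.Flat (A'' ⧸ I'') (A ⧸ I) :=
      Module.Flat.of_linearEquiv (TensorProduct.lid' A'' (A'' ⧸ I'') (A ⧸ I)).symm
    haveI : Module.Finite A'' (A ⧸ I) := by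
      haveI : Module.Finite A'' A := Module.Finite.of_restrictScalars_finite R A'' A
      exact Module.Finite.of_surjective (Ideal.Quotient.mkₐ A'' I).toLinearMap Ideal.Quotient.mk_surjective
    haveI : Module.Finite (A'' ⧸ I'') (A ⧸ I) := Module.Finite.of_restrictScalars_finite A'' _ _
    haveI : IsLocalHom (algebraMap (A'' ⧸ I'') (A ⧸ I)) := by
      have h0 : (IsLocalRing.maximalIdeal (A ⧸ I)).comap (algebraMap (A'' ⧸ I'') (A ⧸ I)) =
          IsLocalRing.maximalIdeal (A'' ⧸ I'') :=
        IsLocalRing.eq_maximalIdeal (Ideal.isMaximal_comap_of_isIntegral_of_isMaximal _)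
      exact ((IsLocalRing.local_hom_TFAE (algebraMap (A'' ⧸ I'') (A ⧸ I))).out 0 4).mpr h0
    exact Module.FaithfullyFlat.of_flat_of_isLocalHom
  · let u : A ⧸ J := Ideal.Quotient.mk J e
    let v : A ⧸ J := Ideal.Quotient.mk J e'
    have hu : IsIdempotentElem u := he.map _
    have hv : IsIdempotentElem v := he'
    have hJ : J ≤ RingHom.ker (Bialgebra.counitAlgHom R A) := ConnEt.kerI_le hε
    -- in both local quotients of `A/J` the two idempotents become 1
    have main : ∀ (a b : A), IsIdempotentElem (Ideal.Quotient.mk J a) → IsIdempotentElem (Ideal.Quotient.mk J b) →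
        Bialgebra.counitAlgHom R A a = 1 → Bialgebra.counitAlgHom R A b = 1 →
        IsLocalRing (A ⧸ (J ⊔ Ideal.span ({1 - b} : Set A))) →
        Ideal.Quotient.mk J b * Ideal.Quotient.mk J a = Ideal.Quotient.mk J b := by
      intro a b ha hb haε hbε hloc
      have hle : J ⊔ Ideal.span ({1 - b} : Set A) ≤ RingHom.ker (Bialgebra.counitAlgHom R A) := by
        refine sup_le hJ ((Ideal.span_singleton_le_iff_mem _).mpr ?_)
        rw [RingHom.mem_ker, map_sub, map_one, hbε, sub_self]
      let εQ : A ⧸ (J ⊔ Ideal.span ({1 - b} : Set A)) →ₐ[R] R :=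
        Ideal.Quotient.liftₐ _ (Bialgebra.counitAlgHom R A) fun x hx => hle hx
      have h1 : Ideal.Quotient.mk (J ⊔ Ideal.span ({1 - b} : Set A)) a = 1 :=
        ConnEt.eq_one_of_idem (ha.map (Ideal.Quotient.factor le_sup_left)) εQ.toRingHom haε
      rw [← map_one (Ideal.Quotient.mk _), Ideal.Quotient.eq, Submodule.mem_sup] at h1
      obtain ⟨j, hj, z, hz, hjz⟩ := h1
      obtain ⟨c, rfl⟩ := Ideal.mem_span_singleton'.mp hz
      rw [← map_mul, Ideal.Quotient.eq]
      have hb' : b * b - b ∈ J := by
        rw [← Ideal.Quotient.eq, map_mul]; exact hb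
      have : b * a - b = b * j - c * (b * b - b) := by linear_combination (-b) * hjz
      rw [this]
      exact sub_mem (Ideal.mul_mem_left _ _ hj) (Ideal.mul_mem_left _ _ hb')
    haveI hloc : IsLocalRing (A ⧸ (J ⊔ Ideal.span ({1 - e} : Set A))) := by
      haveI : Nontrivial (A ⧸ (J ⊔ I)) := by
        refine Ideal.Quotient.nontrivial_iff.mpr fun htop => ?_
        have h1 : (1 : A) ∈ RingHom.ker (Bialgebra.counitAlgHom R A) := by
          refine (sup_le hJ ((Ideal.span_singleton_le_iff_mem _).mpr ?_) : J ⊔ I ≤ _) (htop ▸ Submodule.mem_top)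
          rw [RingHom.mem_ker, map_sub, map_one, heε, sub_self]
        rw [RingHom.mem_ker, map_one] at h1
        exact one_ne_zero h1
      exact IsLocalRing.of_surjective' (Ideal.Quotient.factor (le_sup_right : I ≤ J ⊔ I))
        (Ideal.Quotient.factor_surjective _)
    have h1 := main e e' hu hv heε he'ε inferInstance
    have h2 := main e' e hv hu he'ε heε hloc
    exact (h2.symm.trans (mul_comm _ _)).trans h1

end Groth.Agent.S16078
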