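import Groth.Statements.S1608
import Groth.Agent.BirQFLib.Basic
import Groth.Agent.DimFormulaLib.General
import Groth.Agent.DimLiftLib.Basic

set_option autoImplicit false
universe u
open CategoryTheory CategoryTheory.Limits AlgebraicGeometry
open Variety

namespace Groth.Agent.S1608

open CategoryTheory CategoryTheory.Limits AlgebraicGeometry

set_option backward.isDefEq.respectTransparency false
set_option linter.style.haveILetI false

theorem resTrdegAt_eq_zero_of_qf {X Y : Scheme.{u}} (f : X ⟶ Y) (x : X) (h : f.QuasiFiniteAt x) :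
    DimFormulaLib.resTrdegAt f x = 0 := by
  letI := (f.residueFieldMap x).hom.toAlgebra
  have h1 : (f.residueFieldMap x).hom.QuasiFinite := by
    refine RingHom.QuasiFinite.of_comp (g := (Y.residue (f x)).hom) ?_
    rw [← CommRingCat.hom_comp, Scheme.residue_residueFieldMap, CommRingCat.hom_comp]
    exact RingHom.QuasiFinite.comp (RingHom.QuasiFinite.of_finite (RingHom.Finite.of_surjective _ (X.residue_surjective x))) h
  haveI : Algebra.QuasiFinite (Y.residueField (f x)) (X.residueField x) :=
    RingHom.quasiFinite_algebraMap.1 h1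
  haveI : Module.Finite (Y.residueField (f x)) (X.residueField x) := Module.Finite.of_quasiFinite
  exact trdeg_eq_zero

theorem finiteFibre_noetherian {X Y : Scheme.{u}} (f : X ⟶ Y) [LocallyOfFiniteType f] [IsLocallyNoetherian Y]
    (x : X) (hy : ringKrullDim (Y.presheaf.stalk (f x)) ≤ 1)
    (hgen : ∀ ξ : X, (∀ z : X, z ⤳ ξ → z = ξ) → f.QuasiFiniteAt ξ) :
    ∀ p q : ↥(f.fiber (f x)), p ⤳ q → p = q := by
  intro p q hpq
  have hfib : ∀ w, f (f.fiberι (f x) w) = f x := fun w => by
    have : f.fiberι (f x) w ∈ f ⁻¹' {f x} := (f.range_fiberι (f x)).le ⟨w, rfl⟩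
    exact this
  let z := f.fiberι (f x) p
  let w := f.fiberι (f x) q
  have hzw : z ⤳ w := hpq.map (f.fiberι (f x)).continuous
  by_contra hne
  have hne' : z ≠ w := fun h => hne ((f.fiberι (f x)).isEmbedding.injective h)
  by_cases hz : ∀ z' : X, z' ⤳ z → z' = z
  · have hq := hgen z hz
    have key : ∀ (y : Y) (p q : ↥(f.fiber y)) (z : X), f.fiberι y p = z → f z = y → f.QuasiFiniteAt z → p ⤳ q → p = q := by
      rintro y p q z hp rfl hq hpq
      have e : f.asFiber z = p := (f.fiberι (f z)).isEmbedding.injective ((f.fiberι_asFiber z).trans hp.symm)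
      have := hpq.mem_closed hq.isClopen_singleton_asFiber.1 (by rw [e]; rfl)
      rw [e] at this
      exact this.symm
    exact hne (key _ p q z rfl (hfib p) hq hpq)
  · push Not at hz
    obtain ⟨z', hz', hz'ne⟩ := hz
    have hlt : z < z' := lt_of_le_not_ge hz' fun h => hz'ne (Specializes.antisymm hz' h).eq
    have hlt2 : w < z := lt_of_le_not_ge hzw fun h => hne' (Specializes.antisymm hzw h).eq
    have h2 : (2 : WithBot ℕ∞) ≤ ringKrullDim (X.presheaf.stalk w) := by
      rw [ringKrullDim_stalk_eq_coheight]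
      have h := le_trans (add_le_add_left (le_trans (le_add_left le_rfl) (Order.coheight_add_one_le hlt)) 1)
        (Order.coheight_add_one_le hlt2)
      rw [one_add_one_eq_two] at h
      exact WithBot.coe_le_coe.2 h
    obtain ⟨c⟩ := DimFormulaLib.exists_chart f w
    obtain ⟨t, ht⟩ := DimFormulaLib.exists_nat_trdeg_quotient_pair (A := c.A) c.q
    have h := DimFormulaLib.stalk_dim_add_trdeg_le f w t 0 (c.resTrdegAt_self.trans ht) fun ξ hξ _ => by
      rw [resTrdegAt_eq_zero_of_qf f ξ (hgen ξ fun v hv => ?_)]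
      · simp
      · have h1 : closure ({ξ} : Set X) ⊆ closure {v} := closure_minimal (Set.singleton_subset_iff.2 hv.mem_closure) isClosed_closure
        have h2 : closure ({v} : Set X) ⊆ closure {ξ} := hξ.2 isIrreducible_singleton.closure h1
        exact (Specializes.antisymm hv (specializes_iff_mem_closure.2 (h2 (subset_closure rfl)))).eq
    rw [show f w = f x from hfib q, Nat.cast_zero, add_zero] at h
    have h3 : ringKrullDim (X.presheaf.stalk w) ≤ ringKrullDim (X.presheaf.stalk w) + (t : WithBot ℕ∞) :=
      le_add_of_nonneg_right (WithBot.coe_le_coe.2 zero_le)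
    exact absurd ((h2.trans h3).trans (h.trans hy)) (by decide)

theorem isOpen_of_eq_of_specializes {X Y : Scheme.{u}} (f : X ⟶ Y) [LocallyOfFiniteType f] (y : Y)
    (h : ∀ p q : ↥(f.fiber y), p ⤳ q → p = q) (p : ↥(f.fiber y)) : IsOpen ({p} : Set ↥(f.fiber y)) := by
  haveI : LocallyOfFiniteType (f.fiberToSpecResidueField y) :=
    MorphismProperty.pullback_snd f (Y.fromSpecResidueField y) inferInstance
  haveI : IsLocallyNoetherian (f.fiber y) := LocallyOfFiniteType.isLocallyNoetherian (f.fiberToSpecResidueField y)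
  obtain ⟨_, ⟨(W : (f.fiber y).Opens), hW, rfl⟩, hp, -⟩ := (f.fiber y).isBasis_affineOpens.exists_subset_of_mem_open (Set.mem_univ p) isOpen_univ
  haveI : IsAffine (W : Scheme.{u}) := hW
  haveI : T1Space ↥(W : Scheme.{u}) := by
    refine ⟨fun a => ?_⟩
    rw [← closure_eq_iff_isClosed]
    refine Set.Subset.antisymm (fun b hb => ?_) subset_closure
    exact (W.ι.isEmbedding.injective (h _ _ ((specializes_iff_mem_closure.2 hb).map W.ι.continuous))).symm
  haveI : IsLocallyNoetherian (W : Scheme.{u}) := isLocallyNoetherian_of_isOpenImmersion W.ι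
  haveI : CompactSpace ↥(W : Scheme.{u}) := isCompact_iff_compactSpace.1 hW.isCompact
  haveI : IsNoetherian (W : Scheme.{u}) := {}
  haveI : Finite ↥(W : Scheme.{u}) := by
    haveI := (TopologicalSpace.NoetherianSpace.finite_irreducibleComponents (α := ↥(W : Scheme.{u}))).to_subtype
    refine Finite.of_surjective (α := irreducibleComponents ↥(W : Scheme.{u}))
      (fun Z => (Z.2.1.1.some)) fun a => ?_
    refine ⟨⟨_, irreducibleComponent_mem_irreducibleComponents a⟩, ?_⟩
    have hsub : (irreducibleComponent a).Subsingleton := by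
      obtain ⟨η, hη⟩ := QuasiSober.sober (isIrreducible_irreducibleComponent (x := a)) isClosed_irreducibleComponent
      rw [← hη.def, closure_singleton]
      exact Set.subsingleton_singleton
    exact hsub (Set.Nonempty.some_mem _) mem_irreducibleComponent
  have h1 : IsOpen ({(⟨p, hp⟩ : ↥(W : Scheme.{u}))} : Set ↥(W : Scheme.{u})) := isOpen_discrete _
  have h2 := W.ι.isOpenEmbedding.isOpenMap _ h1
  rwa [Set.image_singleton] at h2


/-- Let f : X → Y be locally of finite type, and let y ∈ Y be a point whose local ring is Noetherian of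
dimension at most one. Suppose f is quasi-finite at the generic point of each irreducible component
of X. Then f is quasi-finite at each point x of X with f(x) = y. -/
theorem result {X Y : Scheme.{u}} (f : X ⟶ Y) [LocallyOfFiniteType f]
    (y : Y) [IsNoetherianRing (Y.presheaf.stalk y)] (hy : ringKrullDim (Y.presheaf.stalk y) ≤ 1)
    (hgen : ∀ Z ∈ irreducibleComponents (X : Type u), ∀ η : X, IsGenericPoint η Z → f.QuasiFiniteAt η)
    (x : X) (hx : f.base x = y) : f.QuasiFiniteAt x := by
  have hgen' : ∀ ξ : X, (∀ z : X, z ⤳ ξ → z = ξ) → f.QuasiFiniteAt ξ := fun ξ hξ => by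
    obtain ⟨η, hη⟩ := QuasiSober.sober (isIrreducible_irreducibleComponent (x := ξ)) isClosed_irreducibleComponent
    have e : η = ξ := hξ η (hη.specializes mem_irreducibleComponent)
    exact hgen _ (irreducibleComponent_mem_irreducibleComponents ξ) ξ (e ▸ hη)
  -- base change to the local scheme at `y`
  subst hx
  let i := Y.fromSpecStalk (f.base x)
  let f' := pullback.snd f i
  let j := pullback.fst f i
  haveI : IsLocallyNoetherian (Spec (Y.presheaf.stalk (f.base x))) := inferInstance
  obtain ⟨x', hx', hf'x'⟩ := Scheme.Pullback.exists_preimage_pullback (f := f) (g := i) x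
    (IsLocalRing.closedPoint (Y.presheaf.stalk (f.base x))) (Scheme.fromSpecStalk_closedPoint).symm
  haveI : IsPreimmersion j := MorphismProperty.pullback_fst f i inferInstance
  have hqf : ∀ z, f'.QuasiFiniteAt z ↔ f.QuasiFiniteAt (j z) := fun z => by
    let g : f' ⁻¹' {f' z} → f ⁻¹' {f (j z)} := Set.MapsTo.restrict j _ _ fun a ha => by
      show f (j a) = f (j z)
      rw [← Scheme.Hom.comp_apply, ← Scheme.Hom.comp_apply, pullback.condition, Scheme.Hom.comp_apply,
        Scheme.Hom.comp_apply, show pullback.snd f i a = pullback.snd f i z from ha]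
    have hg : Function.Surjective g := by
      rintro ⟨a, ha⟩
      obtain ⟨b, hb1, hb2⟩ := Scheme.Pullback.exists_preimage_pullback (f := f) (g := i) a (f' z) (by
        rw [show f a = f (j z) from ha, ← Scheme.Hom.comp_apply, pullback.condition, Scheme.Hom.comp_apply])
      exact ⟨⟨b, hb2⟩, Subtype.ext hb1⟩
    have hge : IsHomeomorph g := (isHomeomorph_iff_isEmbedding_surjective).2
      ⟨j.isEmbedding.restrict _, hg⟩
    rw [Scheme.Hom.quasiFiniteAt_iff_isOpen_singleton_asFiber, Scheme.Hom.quasiFiniteAt_iff_isOpen_singleton_asFiber,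
      ← (f'.fiberHomeo (f' z)).isOpen_image, ← (f.fiberHomeo (f (j z))).isOpen_image, ← hge.homeomorph.isOpen_image]
    simp only [Set.image_singleton, Scheme.Hom.asFiber, Homeomorph.apply_symm_apply]
    rfl
  rw [← show j x' = x from hx', ← hqf, Scheme.Hom.quasiFiniteAt_iff_isOpen_singleton_asFiber]
  refine isOpen_of_eq_of_specializes f' _ (finiteFibre_noetherian f' x' ?_ fun ξ hξ => (hqf ξ).2 (hgen' _ fun w hw => ?_)) _
  · rw [show f' x' = _ from hf'x']
    rw [ringKrullDim_stalk_eq_coheight]
    exact le_trans (Order.coheight_le_krullDim _) (le_of_eq_of_le ((DimLiftLib.topologicalKrullDim_eq (Spec (Y.presheaf.stalk (f.base x)))).symm.trans (PrimeSpectrum.topologicalKrullDim_eq_ringKrullDim _)) hy)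
  · have hwr : f w ∈ Set.range i := by
      rw [Scheme.range_fromSpecStalk]
      have h1 : i (f' ξ) ∈ {y | y ⤳ f.base x} := Scheme.range_fromSpecStalk.le ⟨_, rfl⟩
      have h2 : f w ⤳ i (f' ξ) := by
        rw [← Scheme.Hom.comp_apply, ← pullback.condition, Scheme.Hom.comp_apply]
        exact hw.map f.continuous
      exact h2.trans h1
    obtain ⟨p, hp⟩ := hwr
    obtain ⟨w', hw', -⟩ := Scheme.Pullback.exists_preimage_pullback (f := f) (g := i) w p hp.symm
    rw [← hw'] at hw ⊢
    rw [hξ w' (j.isEmbedding.isInducing.specializes_iff.1 hw)]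


end Groth.Agent.S1608
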