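import Groth.Statements.S16082
import Groth.Agent.HomLib.Basic

set_option autoImplicit false
universe u
open CategoryTheory CategoryTheory.Limits AlgebraicGeometry TopologicalSpace
open SDiv

namespace Groth.Agent.S16082

/-- Let X be an integral scheme and F, G quasi-coherent O_X-modules with F of finite presentation and G
torsion free (every stalk G_x is a torsion-free module over the domain O_{X,x}). Then every stalk of
the sheaf Hom 𝓗om_{O_X}(F, G) is torsion free as well. -/
theorem result (X : Scheme.{u}) [IsIntegral X] (F G : X.Modules) (hF : Coh.IsQCoh F)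
    (hFp : CohB1.IsFP F) (hG : Coh.IsQCoh G) (hGt : TorSh.IsTorsionFree G) :
    TorSh.IsTorsionFree (RefHull.homSh F G) := by
  intro x
  have : IsDomain (X.presheaf.stalk x) := inferInstance
  refine Module.IsTorsionFree.of_smul_eq_zero fun a g hag ↦ ?_
  by_cases ha : a = 0
  · exact Or.inl ha
  refine Or.inr ?_
  let H := RefHull.homSh F G
  obtain ⟨U₁, hx₁, r, rfl⟩ := TopCat.Presheaf.exists_germ_eq X.presheaf a
  obtain ⟨U₂, hx₂, s, hgs⟩ := TopCat.Presheaf.exists_germ_eq (RefHull.homSh F G).presheaf g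
  rw [← hgs] at hag ⊢
  let U := U₁ ⊓ U₂
  have hx : x ∈ U := ⟨hx₁, hx₂⟩
  let r' := X.presheaf.map (homOfLE (inf_le_left : U ≤ U₁)).op r
  let s' := H.presheaf.map (homOfLE (inf_le_right : U ≤ U₂)).op s
  have hr : X.presheaf.germ U₁ x hx₁ r = X.presheaf.germ U x hx r' :=
    (TopCat.Presheaf.germ_res_apply _ _ _ _ _).symm
  have hs : H.presheaf.germ U₂ x hx₂ s = H.presheaf.germ U x hx s' :=
    (TopCat.Presheaf.germ_res_apply _ _ _ _ _).symm
  rw [hr] at ha hag
  erw [hs] at hag ⊢
  rw [← HomLib.germ_smul' (M := H) hx] at hag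
  obtain ⟨W, hxW, iW, iW', hW⟩ := TopCat.Presheaf.germ_eq H.presheaf x hx hx (r' • s') 0
    (by rw [map_zero]; exact hag)
  have hW0 : H.presheaf.map iW.op (r' • s') = 0 := by rw [hW, map_zero]
  have hres : H.presheaf.map iW.op (r' • s') =
      X.presheaf.map iW.op r' • H.presheaf.map iW.op s' := H.val.map_smul iW.op r' s'
  rw [hres] at hW0
  set r'' := X.presheaf.map iW.op r' with hr''
  set s'' := H.presheaf.map iW.op s' with hs''
  have hs0 : s'' = 0 := by
    refine HomLib.ext_stalk _ _ fun y hy ↦ ?_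
    have hy0 : X.presheaf.germ W y hy r'' ≠ 0 := by
      intro h0
      have hinj := germ_injective_of_isIntegral (X := X) y hy
      have h1 : r'' = 0 := hinj (by rw [h0, map_zero])
      apply ha
      rw [← TopCat.Presheaf.germ_res_apply X.presheaf iW x hxW r']
      exact (congrArg _ h1).trans (map_zero _)
    have hzero : X.presheaf.germ W y hy r'' • s''.1 ⟨y, hy⟩ = 0 :=
      congrFun (congrArg Subtype.val hW0) ⟨y, hy⟩
    refine LinearMap.ext fun m ↦ ?_
    have hm : X.presheaf.germ W y hy r'' • (s''.1 ⟨y, hy⟩ m) = 0 := LinearMap.congr_fun hzero m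
    have := hGt y
    exact (smul_eq_zero.mp hm).resolve_left hy0
  rw [← TopCat.Presheaf.germ_res_apply H.presheaf iW x hxW s']
  exact (congrArg _ hs0).trans (map_zero _)

end Groth.Agent.S16082
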