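import Groth.Statements.S16083
import Groth.Agent.RefOne.Support


set_option autoImplicit false
universe u
open CategoryTheory CategoryTheory.Limits AlgebraicGeometry TopologicalSpace
open SDiv

namespace Groth.Agent.S16083

open CategoryTheory CategoryTheory.Limits AlgebraicGeometry

open Groth.Agent.RefOne Groth.Agent.PullbackMod

/-- Suppose X is a normal scheme that is integral and locally Noetherian, write η for its generic point,
let F and G be coherent O_X-modules, and let T : G_η → F_η be an O_{X,η}-linear map of generic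
stalks. Then T extends to a morphism G ⟶ F^** — there is a morphism ψ whose stalk map at η is T
followed by the stalk map at η of the canonical map F ⟶ F^** — if and only if for every point x with
dim O_{X,x} = 1 the map T sends the image of G_x in G_η into the image of F_x in F_η. -/
theorem result (X : Scheme.{u}) [IsIntegral X] [IsLocallyNoetherian X]
    (hX : Pi1.IsNormalScheme X) (F G : X.Modules) (hF : Coh.IsCoh F) (hG : Coh.IsCoh G)
    (T : ↑(G.presheaf.stalk (genericPoint ↥X)) →ₗ[↑(X.presheaf.stalk (genericPoint ↥X))]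
      ↑(F.presheaf.stalk (genericPoint ↥X))) :
    (∃ ψ : G ⟶ RefHull.ddual F, RefHull.stalkMapₗ ψ (genericPoint ↥X) =
        (RefHull.stalkMapₗ (RefHull.bidualMap F) (genericPoint ↥X)).comp T) ↔
      ∀ x : ↥X, ringKrullDim ↑(X.presheaf.stalk x) = 1 →
        Set.MapsTo ⇑T
          (Set.range ⇑(G.presheaf.stalkSpecializes ((genericPoint_spec ↥X).specializes (Set.mem_univ x))).hom)
          (Set.range ⇑(F.presheaf.stalkSpecializes ((genericPoint_spec ↥X).specializes (Set.mem_univ x))).hom) := by
  haveI := hF.1
  have hFd := isCoh_dual (isCoh_dual hF)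
  have hbη : Function.Bijective (stalkLin (RefHull.bidualMap F) (genericPoint ↥X)) := by
    refine (bijective_bidual_stalk_iff hF _).2 ?_
    haveI := PullbackMod.finite_stalk_of_isFT hF.2 (genericPoint ↥X)
    haveI := (isField_gen (X := X)).isPrincipalIdealRing
    haveI : Module.IsTorsionFree (X.presheaf.stalk (genericPoint ↥X)) (F.presheaf.stalk (genericPoint ↥X)) :=
      Module.IsTorsionFree.of_smul_eq_zero fun a m ham => (eq_or_ne a 0).imp_right fun ha => by
        obtain ⟨b, hb⟩ := (isField_gen (X := X)).mul_inv_cancel ha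
        rw [← one_smul (X.presheaf.stalk (genericPoint ↥X)) m, ← hb, mul_comm, mul_smul, ham, smul_zero]
    haveI : Module.Free (X.presheaf.stalk (genericPoint ↥X)) (F.presheaf.stalk (genericPoint ↥X)) :=
      Module.free_of_finite_type_torsion_free'
    exact (inferInstance : Module.IsReflexive (X.presheaf.stalk (genericPoint ↥X)) (F.presheaf.stalk (genericPoint ↥X)))
  have heq : ∀ x, RefHull.stalkMapₗ (RefHull.bidualMap F) x = stalkLin (RefHull.bidualMap F) x := fun x => rfl
  constructor
  · rintro ⟨ψ, hψ⟩ x hx
    rintro _ ⟨m, rfl⟩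
    have hx1 : Order.coheight x = 1 := by
      rw [ringKrullDim_stalk_eq_coheight] at hx
      exact WithBot.coe_eq_coe.1 hx
    haveI := isDVR hX hx1
    haveI := PullbackMod.finite_stalk_of_isFT hF.2 x
    obtain ⟨E, hE⟩ := exists_bidual_equiv hF x
    obtain ⟨v, hv⟩ := CAlgBasics.eval_surjective_of_isBezout (R := X.presheaf.stalk x) (F.presheaf.stalk x) (E (stalkLin ψ x m))
    have hv' : stalkLin (RefHull.bidualMap F) x v = stalkLin ψ x m := E.injective ((congrFun hE v).trans hv)
    refine ⟨v, hbη.1 ?_⟩
    show stalkLin (RefHull.bidualMap F) (genericPoint ↥X) (toGen F x v) = stalkLin (RefHull.bidualMap F) (genericPoint ↥X) (T (toGen G x m))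
    rw [stalkLin_toGen, hv', ← stalkLin_toGen]
    exact LinearMap.congr_fun hψ (toGen G x m)
  · intro h
    obtain ⟨ψ, hψ⟩ := exists_hom hX hFd (isReflexive_dual (isCoh_dual hF))
      ((stalkLin (RefHull.bidualMap F) (genericPoint ↥X)).comp T) fun y hy m => by
        obtain ⟨v, hv⟩ := h y (by rw [ringKrullDim_stalk_eq_coheight, hy]; rfl) ⟨m, rfl⟩
        refine ⟨stalkLin (RefHull.bidualMap F) y v, ?_⟩
        rw [← stalkLin_toGen]
        exact congrArg _ hv
    have hid : ∀ (M : X.Modules) (v : M.presheaf.stalk (genericPoint ↥X)), toGen M (genericPoint ↥X) v = v := fun M v => by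
      obtain ⟨U, hU, s, rfl⟩ := TopCat.Presheaf.exists_germ_eq M.presheaf v
      exact toGen_germ M _ hU s
    refine ⟨ψ, LinearMap.ext fun v => ?_⟩
    have h1 := hψ (genericPoint ↥X) v
    rw [hid, hid] at h1
    exact h1

end Groth.Agent.S16083
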