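import Groth.Statements.S16084
import Groth.Agent.RefOne.Support


set_option autoImplicit false
universe u
open CategoryTheory CategoryTheory.Limits AlgebraicGeometry TopologicalSpace
open SDiv

namespace Groth.Agent.S16084

open CategoryTheory CategoryTheory.Limits AlgebraicGeometry

open Groth.Agent.RefOne Groth.Agent.PullbackMod

/-- Let X be an integral locally Noetherian normal scheme, F a rank one coherent reflexive O_X-module
and s a nonzero global section of F. Let Z be the set of points x at which multiplication by the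
germ of s, O_{X,x} → F_x, fails to be bijective (the complement of the open where s generates F).
Then every irreducible component of Z has codimension 1 in X: at each point z of Z to which no other
point of Z specializes, the local ring O_{X,z} has dimension 1. -/
theorem result (X : Scheme.{u}) [IsIntegral X] [IsLocallyNoetherian X]
    (hX : Pi1.IsNormalScheme X) (F : X.Modules) (hF : RefHull.IsRef1 F) (s : Γ(F, ⊤)) (hs : s ≠ 0) (z : ↥X)
    (hz : ¬ Function.Bijective fun a : ↑(X.presheaf.stalk z) => a • F.presheaf.germ ⊤ z trivial s)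
    (hmax : ∀ y : ↥X, ¬ Function.Bijective (fun a : ↑(X.presheaf.stalk y) => a • F.presheaf.germ ⊤ y trivial s) →
      y ⤳ z → y = z) :
    ringKrullDim ↑(X.presheaf.stalk z) = 1 := by
  have hinj : ∀ x, Function.Injective (toGen F x) := fun x => by
    haveI := hF.1.1
    exact toGen_injective ((isReflexive_iff hF.1).1 hF.2.1 x)
  have hsη : toGen F z (F.presheaf.germ ⊤ z trivial s) ≠ 0 := fun h0 => hs (by
    refine TopCat.Presheaf.section_ext (⟨F.presheaf, F.isSheaf⟩ : TopCat.Sheaf Ab X) ⊤ _ _ fun y hy => hinj y ?_
    show toGen F y (F.presheaf.germ ⊤ y hy s) = toGen F y (F.presheaf.germ ⊤ y hy 0)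
    rw [map_zero, show toGen F y (0 : F.presheaf.stalk y) = 0 from map_zero _, toGen_germ]
    rw [toGen_germ] at h0
    exact h0)
  rw [toGen_germ] at hsη
  obtain ⟨e, he⟩ := exists_gen_generic hF.2.2
  have hbη := exists_smul_eq he hsη
  have hgood : ∀ y : ↥X, Order.coheight y = 1 → y ⤳ z → y ≠ z →
      Function.Bijective fun a : ↑(X.presheaf.stalk y) => a • F.presheaf.germ ⊤ y trivial s :=
    fun y _ hyz hne => by_contra fun hy => hne (hmax y hy hyz)
  rw [ringKrullDim_stalk_eq_coheight]
  refine WithBot.coe_eq_one.2 ?_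
  by_contra hne1
  refine hz ?_
  by_cases h0 : Order.coheight z = 0
  · have hzη : z = genericPoint ↥X := ((show z ⤳ genericPoint ↥X from
      Order.coheight_eq_zero.1 h0 (spec_gen z)).antisymm (spec_gen z)).eq
    subst hzη
    exact hbη
  refine ⟨fun a b hab => ?_, fun m => ?_⟩
  · have h1 := congrArg (toGen F z) hab
    dsimp only at h1
    rw [toGen_smul, toGen_smul, toGen_germ] at h1
    exact toK_injective z (hbη.1 h1)
  · obtain ⟨φ, hφ⟩ := hbη.2 (toGen F z m)
    have hmem : oEquiv (genericPoint ↥X) φ ∈ Set.range (toGen (Coh.structureModule X) z) := by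
      refine mem_range_of_codim_one hX (DevLib.isCoh_structureModule X) ?_ _ fun y hyz hy => ?_
      · exact Module.equiv (oEquiv z)
      obtain ⟨a, ha⟩ := (hgood y hy hyz (fun h => hne1 (h ▸ hy))).2 (F.presheaf.stalkSpecializes hyz m)
      refine ⟨oEquiv y a, ?_⟩
      rw [toGen_oEquiv]
      refine congrArg _ (hbη.1 ?_)
      have h1 := congrArg (toGen F y) ha
      dsimp only at h1 ⊢
      rw [toGen_smul, toGen_germ] at h1
      rw [h1]
      obtain ⟨U, hU, t, rfl⟩ := TopCat.Presheaf.exists_germ_eq F.presheaf m
      rw [TopCat.Presheaf.germ_stalkSpecializes_apply, toGen_germ]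
      refine Eq.trans ?_ hφ.symm
      rw [toGen_germ]
    obtain ⟨w, hw⟩ := hmem
    obtain ⟨a, rfl⟩ := (oEquiv z).surjective w
    refine ⟨a, hinj z ?_⟩
    show toGen F z (a • F.presheaf.germ ⊤ z trivial s) = toGen F z m
    rw [toGen_smul, toGen_germ]
    rw [toGen_oEquiv] at hw
    rw [(oEquiv (genericPoint ↥X)).injective hw]
    exact hφ

end Groth.Agent.S16084
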