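import Groth.Statements.S16091
import Groth.Agent.ProjFlatLib.Basic
import Groth.Agent.RelTildeLib.Basic
import Groth.Agent.RelProjLib.OfHom
import Groth.Agent.FlatLocus.ModFlat
-- import your own Groth.Agent.* helpers here

set_option autoImplicit false
universe u
open CategoryTheory CategoryTheory.Limits AlgebraicGeometry TopologicalSpace Opposite
open scoped HomogeneousIdeal
noncomputable section
open SDiv

namespace Groth.Agent.S16091

/-- Let S be a scheme and 𝒜 a quasi-coherent graded O_S-algebra such that for all sufficiently large d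
the degree-d piece 𝒜_d is a flat O_S-module (over every affine open U the degree-d part of 𝒜(U) is a
flat module over Γ(U, O_S) acting through the structure map). Let p : P ⟶ S be the relative
homogeneous spectrum of 𝒜, given with its charts. Then p is flat, and for every integer n the
twisting module O_P(n), given with its chart identifications, is flat over S (every stalk O_P(n)_x
is flat over O_{S, p x}). -/
theorem result {S P : Scheme.{u}} (𝒜 : RelProj.QCGrAlg S)
    (hflat : ∃ d₀ : ℕ, ∀ d : ℕ, d₀ ≤ d → ∀ (U : S.Opens) (hU : IsAffineOpen U),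
      letI := (𝒜.str.app (op U)).hom.toAlgebra
      Module.Flat Γ(S, U) ↥(Submodule.span Γ(S, U) (𝒜.deg U hU d : Set (𝒜.presheaf.obj (op U)))))
    (p : P ⟶ S) (chart : ∀ (U : S.Opens) (hU : IsAffineOpen U), (((p ⁻¹ᵁ U : P.Opens) : Scheme.{u}) ≅ Proj (𝒜.deg U hU)))
    (hP : RelProj.IsRelProj 𝒜 p chart) :
    Flat p ∧
      ∀ (n : ℤ) (L : P.Modules)
        (lam : ∀ (U : S.Opens) (hU : IsAffineOpen U),
          L ⟶ (Scheme.Modules.pushforward (RelProj.emb p chart U hU)).obj (GrTwist.twist (𝒜.deg U hU) n)),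
        RelProj.IsRelTwist 𝒜 p chart n L lam → FlatMod.IsFlatOver p L := by
  classical
  obtain ⟨d₀, hd₀⟩ := hflat
  have hpiece : ∀ (U : S.Opens) (hU : IsAffineOpen U), letI := (𝒜.str.app (op U)).hom.toAlgebra
      ∃ d₀ : ℕ, ∀ i, d₀ ≤ i → Module.Flat Γ(S, U) (Groth.Agent.ProjFlatLib.piece Γ(S, U) (𝒜.deg U hU) i) :=
    fun U hU => ⟨d₀, fun i hi => hd₀ i hi U hU⟩
  -- the structure map on a standard chart
  have hchart : ∀ (U : S.Opens) (hU : IsAffineOpen U) (d : ℕ) (hd : 0 < d) (f : 𝒜.presheaf.obj (op U))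
      (hf : f ∈ 𝒜.deg U hU d),
      (Proj.awayι (𝒜.deg U hU) f hf hd ≫ RelProj.emb p chart U hU) ≫ p =
        Spec.map (𝒜.strZero U hU ≫ CommRingCat.ofHom (HomogeneousLocalization.fromZeroRingHom (𝒜.deg U hU)
          (Submonoid.powers f))) ≫ hU.fromSpec := by
    intro U hU d hd f hf
    rw [Category.assoc, RelProj.emb, Category.assoc, ← hP.chart_over U hU, Iso.inv_hom_id_assoc,
      Proj.awayι_toSpecZero_assoc, Spec.map_comp, Category.assoc]
  refine ⟨?_, fun n L lam hL => ?_⟩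
  · let κ := Σ (U : S.affineOpens) (d : {d : ℕ // 0 < d}), 𝒜.deg U.1 U.2 d.1
    refine (IsZariskiLocalAtSource.iff_of_openCover (P := @Flat) (Scheme.Cover.mkOfCovers (P := @IsOpenImmersion) κ _
      (fun k => Proj.awayι (𝒜.deg k.1.1 k.1.2) (k.2.2 : 𝒜.presheaf.obj (op k.1.1)) k.2.2.2 k.2.1.2 ≫
        RelProj.emb p chart k.1.1 k.1.2) (fun x => by
          obtain ⟨k, hk⟩ := Opens.mem_iSup.mp
            ((Groth.Agent.RelProjLib.QMap.iSup_chartRange hP).ge (show x ∈ (⊤ : P.Opens) from trivial))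
          exact ⟨k, hk⟩) (fun k => inferInstance))).2 fun k => ?_
    obtain ⟨⟨U, hU⟩, ⟨d, hd⟩, f, hf⟩ := k
    show Flat ((Proj.awayι (𝒜.deg U hU) f hf hd ≫ RelProj.emb p chart U hU) ≫ p)
    rw [hchart U hU d hd f hf]
    haveI : Flat (Spec.map (𝒜.strZero U hU ≫ CommRingCat.ofHom (HomogeneousLocalization.fromZeroRingHom (𝒜.deg U hU)
          (Submonoid.powers f)))) := by
      rw [HasRingHomProperty.Spec_iff (P := @Flat)]
      letI := (𝒜.str.app (op U)).hom.toAlgebra
      exact Groth.Agent.ProjFlatLib.flat_away (R := Γ(S, U)) (𝒜 := 𝒜.deg U hU) (fun r => 𝒜.str_mem U hU r) hd hf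
        (hpiece U hU)
    infer_instance
  · haveI hq : Coh.IsQCoh L := Groth.Agent.RelTildeLib.isQCoh_of_charts hL.bijective fun U hU =>
      Groth.Agent.GrModLib.isQCoh_twist (𝒜.deg U hU) n
    intro x
    obtain ⟨k, hk⟩ := Opens.mem_iSup.mp
      ((Groth.Agent.RelProjLib.QMap.iSup_chartRange hP).ge (show x ∈ (⊤ : P.Opens) from trivial))
    obtain ⟨⟨U, hU⟩, ⟨d, hd⟩, f, hf⟩ := k
    obtain ⟨w, rfl⟩ := hk
    set e := RelProj.emb p chart U hU with he
    set W : P.Opens := e ''ᵁ Proj.basicOpen (𝒜.deg U hU) f with hWdef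
    have hW : IsAffineOpen W := (Proj.isAffineOpen_basicOpen _ f hf hd).image_of_isOpenImmersion e
    have hWp : W ≤ p ⁻¹ᵁ U :=
      (e.image_le_opensRange _).trans (Groth.Agent.RelTildeLib.opensRange_emb U hU).le
    have hpre : e ⁻¹ᵁ W = Proj.basicOpen (𝒜.deg U hU) f := e.preimage_image_eq _
    have hxW : (Proj.awayι (𝒜.deg U hU) f hf hd ≫ e) w ∈ W :=
      ⟨Proj.awayι (𝒜.deg U hU) f hf hd w, (Proj.opensRange_awayι _ f hf hd).le ⟨w, rfl⟩, rfl⟩
    rw [Groth.Agent.FlatLocus.isFlatOverAt_iff p L hU hW hWp _ hxW]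
    letI := (p.appLE U W hWp).hom.toAlgebra
    letI := Module.compHom Γ(L, W) (p.appLE U W hWp).hom
    haveI : IsScalarTower Γ(S, U) Γ(P, W) Γ(L, W) := .of_algebraMap_smul fun _ _ => rfl
    letI := (𝒜.str.app (op U)).hom.toAlgebra
    -- the structure map in coordinates
    let g : Γ(S, U) →+* Γ(Proj (𝒜.deg U hU), e ⁻¹ᵁ W) := (e.app W).hom.comp (p.appLE U W hWp).hom
    have hg : ∀ (r : Γ(S, U)) (y : ↥(e ⁻¹ᵁ W : (Proj (𝒜.deg U hU)).Opens)),
        ((g r : GrTwist.O (𝒜 := 𝒜.deg U hU) (op (e ⁻¹ᵁ W))).1 y).val =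
          Localization.mk ((𝒜.str.app (op U)).hom r) (1 : y.1.asHomogeneousIdeal.toIdeal.primeCompl) := by
      have key : ∀ (V : (Proj (𝒜.deg U hU)).Opens) (hV : V = Proj.basicOpen (𝒜.deg U hU) f)
          (hVle : V ≤ (e ≫ p) ⁻¹ᵁ U) (r : Γ(S, U)) (y : V),
          ((((e ≫ p).appLE U V hVle).hom r : GrTwist.O (𝒜 := 𝒜.deg U hU) (op V)).1 y).val =
            Localization.mk ((𝒜.str.app (op U)).hom r) (1 : y.1.asHomogeneousIdeal.toIdeal.primeCompl) := by
        rintro V rfl hVle r y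
        have h : (e ≫ p).appLE U (Proj.basicOpen (𝒜.deg U hU) f) hVle =
            (𝒜.strZero U hU ≫ CommRingCat.ofHom (HomogeneousLocalization.fromZeroRingHom (𝒜.deg U hU)
              (Submonoid.powers f))) ≫ Proj.awayToSection (𝒜.deg U hU) f := by
          apply Spec.map_injective
          rw [← cancel_mono hU.fromSpec, IsAffineOpen.SpecMap_appLE_fromSpec (e ≫ p) hU
            (Proj.isAffineOpen_basicOpen _ f hf hd), Spec.map_comp, Category.assoc, ← hchart U hU d hd f hf,
            ← Groth.Agent.ProjQuotLib.SpecMap_awayToSection_awayι hf hd]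
          simp only [Category.assoc]
          rfl
        rw [h]
        show HomogeneousLocalization.val (HomogeneousLocalization.mk _) = _
        rw [HomogeneousLocalization.val_mk]
        rfl
      intro r y
      refine Eq.trans ?_ (key (e ⁻¹ᵁ W) hpre (le_trans (e.preimage_mono hWp) le_rfl) r y)
      refine congrArg (fun z : Γ(Proj (𝒜.deg U hU), e ⁻¹ᵁ W) => ((z : GrTwist.O (𝒜 := 𝒜.deg U hU) (op (e ⁻¹ᵁ W))).1 y).val) ?_
      show ((p.appLE U W hWp ≫ e.app W).hom r) = _
      rw [← Scheme.Hom.appLE_comp_appLE e p U W (e ⁻¹ᵁ W) hWp le_rfl, Scheme.Hom.appLE_eq_app]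
    -- the comparison with the graded sections
    letI := Module.compHom Γ(GrMod.tilde (𝒜.deg U hU) (𝒜.deg U hU) n, e ⁻¹ᵁ W) g
    haveI hT : Module.Flat Γ(S, U) Γ(GrMod.tilde (𝒜.deg U hU) (𝒜.deg U hU) n, e ⁻¹ᵁ W) :=
      Groth.Agent.ProjFlatLib.flat_sections (R := Γ(S, U)) (𝒜 := 𝒜.deg U hU) (fun r => 𝒜.str_mem U hU r) hd hf
        (hpiece U hU) n hpre fun r s y => by
          refine (Groth.Agent.GrModLib.valAt_smul (g r) s y).trans ?_
          rw [hg]
          generalize Groth.Agent.GrModLib.valAt s y = q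
          induction q using LocalizedModule.induction_on with
          | h m t =>
            rw [LocalizedModule.mk_smul_mk, one_mul, LocalizedModule.smul'_mk]
            rfl
    let ψ : Γ(L, W) →ₗ[Γ(S, U)] Γ(GrMod.tilde (𝒜.deg U hU) (𝒜.deg U hU) n, e ⁻¹ᵁ W) :=
      { toFun := fun s => (Groth.Agent.GrModLib.twistToTilde (𝒜.deg U hU) n).app (e ⁻¹ᵁ W) ((lam U hU).app W s)
        map_add' := fun a b => by rw [map_add]; exact map_add _ _ _
        map_smul' := fun r s => by
          refine Eq.trans (congrArg ((Groth.Agent.GrModLib.twistToTilde (𝒜.deg U hU) n).app (e ⁻¹ᵁ W))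
            (Scheme.Modules.Hom.app_smul (lam U hU) (p.appLE U W hWp r) s)) ?_
          exact Scheme.Modules.Hom.app_smul (Groth.Agent.GrModLib.twistToTilde (𝒜.deg U hU) n)
            (e.app W (p.appLE U W hWp r)) _ }
    haveI : Module.Flat Γ(S, U) Γ(L, W) := Module.Flat.of_linearEquiv (LinearEquiv.ofBijective ψ
      ((ConcreteCategory.bijective_of_isIso ((Groth.Agent.GrModLib.twistToTilde (𝒜.deg U hU) n).app (e ⁻¹ᵁ W))).comp
        (hL.bijective U hU W hWp)))
    exact Groth.Agent.ProjFlatLib.flat_localizedModule _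

end Groth.Agent.S16091
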