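import Groth.Statements.S16092
import Groth.Agent.RefOne.Support
import Groth.Agent.CurveLib.Deg


set_option autoImplicit false
universe u
open CategoryTheory CategoryTheory.Limits AlgebraicGeometry TopologicalSpace
open SDiv

namespace Groth.Agent.S16092

open CategoryTheory CategoryTheory.Limits AlgebraicGeometry

open Groth.Agent.RefOne Groth.Agent.PullbackMod
open Groth.Agent.DCohLib
open scoped TensorProduct

/-- Let X be an integral scheme that is locally Noetherian, with generic point η, let L and N be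
invertible O_X-modules and s ∈ L_η, t ∈ N_η nonzero rational sections, with orders ord_{x,L}(s),
ord_{x,N}(t) along the prime divisors, i.e. at the points x with dim O_{X,x} = 1, taken with respect
to generators of the stalks. Then L ⊗_{O_X} N has a nonzero rational section w with ord_{x,L ⊗ N}(w)
= ord_{x,L}(s) + ord_{x,N}(t) at every such x; hence the Weil divisor class of L ⊗ N is the sum of
the classes of L and N. The published statement names w as the product s·t; here only the existence
of such a w is asserted. -/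
theorem result (X : Scheme.{u}) [IsIntegral X] [IsLocallyNoetherian X] (L N : X.Modules)
    (hL : PicF.IsInvertible L) (hN : PicF.IsInvertible N) (s : Cyc.secFibre L (genericPoint ↥X)) (hs : s ≠ 0)
    (t : Cyc.secFibre N (genericPoint ↥X)) (ht : t ≠ 0) :
    ∃ w : Cyc.secFibre (CohB1.tensorMod L N) (genericPoint ↥X), w ≠ 0 ∧
      ∀ (x : ↥X), ringKrullDim ↑(X.presheaf.stalk x) = 1 →
        Cyc.secOrdAt (CohB1.tensorMod L N) (genericPoint ↥X) x ((genericPoint_spec ↥X).specializes (Set.mem_univ x)) w =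
          Cyc.secOrdAt L (genericPoint ↥X) x ((genericPoint_spec ↥X).specializes (Set.mem_univ x)) s +
            Cyc.secOrdAt N (genericPoint ↥X) x ((genericPoint_spec ↥X).specializes (Set.mem_univ x)) t := by
  obtain ⟨σ, rfl⟩ := Submodule.Quotient.mk_surjective _ s
  obtain ⟨τ, rfl⟩ := Submodule.Quotient.mk_surjective _ t
  have hσ : σ ≠ 0 := fun h => hs (by rw [h]; rfl)
  have hτ : τ ≠ 0 := fun h => ht (by rw [h]; rfl)
  have hLc := CurveLib.isCoh_of_isInvertible hL
  have hNc := CurveLib.isCoh_of_isInvertible hN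
  haveI := hLc.1
  haveI := hNc.1
  obtain ⟨eL, heL⟩ := ParaFLib.exists_stalk_gen hL (genericPoint ↥X)
  obtain ⟨eN, heN⟩ := ParaFLib.exists_stalk_gen hN (genericPoint ↥X)
  have hgη := AmpleLib.bijective_stalkTensor (exists_smul_eq heL hσ) (exists_smul_eq heN hτ)
  let ρ := stalkTensor (genericPoint ↥X) L N (σ ⊗ₜ τ)
  have hρ : ρ ≠ 0 := fun h0 => one_ne_zero (α := X.presheaf.stalk (genericPoint ↥X))
    (hgη.1 ((congrArg ((1 : X.presheaf.stalk (genericPoint ↥X)) • ·) h0).trans ((smul_zero _).trans (zero_smul _ ρ).symm)))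
  refine ⟨Submodule.Quotient.mk ρ, fun h0 => hρ ((bijective_mk_fibre _).1 h0), fun x hx => ?_⟩
  have hx1 : Order.coheight x = 1 := by
    rw [ringKrullDim_stalk_eq_coheight] at hx
    exact WithBot.coe_eq_coe.1 hx
  obtain ⟨a, ha⟩ := ParaFLib.exists_stalk_gen hL x
  obtain ⟨b, hb⟩ := ParaFLib.exists_stalk_gen hN x
  obtain ⟨c, hc⟩ := (exists_smul_eq heL (toGen_ne_zero ha)).2 σ
  obtain ⟨d, hd⟩ := (exists_smul_eq heN (toGen_ne_zero hb)).2 τ
  exact secOrdAt_tensor hLc hNc hx1 ha hb σ ⟨c, hc.symm⟩ hσ τ ⟨d, hd.symm⟩ hτ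

end Groth.Agent.S16092
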