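import Groth.Statements.S16095
import Groth.Agent.BMCohLib.Birational
import Groth.Agent.BMCohLib.Vanishing
-- import your own Groth.Agent.* helpers here

set_option autoImplicit false
universe u
open CategoryTheory AlgebraicGeometry Opposite
open BMCoh

namespace Groth.Agent.S16095

/-- Let T be a pre-theory (the groups, proper push-forwards and residue maps of a twisted Borel–Moore
cohomology theory, with their conditions) with coefficients in A on a constructible class V of
Noetherian schemes, X an object, w a point of X, Y an integral object identified by e with the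
normalisation of the reduced closure of w, and φ : Y → X the normalisation map followed by the
inclusion of that closure, assumed proper (so that the normalisation map is finite). Let L be a
push-forward datum of groups of points along φ from the generic point of Y to w: maps H^i(η_Y, M(n))
→ H^i(w, M(n)) that, read through nonempty opens of the two reduced closures, are proper
push-forward along the restrictions of φ. Then each map L is bijective. (Only the push-forward
structure of T is used, so the result is stated for a pre-theory; properness of φ is a hypothesis,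
automatic when the closure of w has finite normalisation.) -/
theorem result
    (V : ObjectProperty Scheme.{u}) [BMCoh.IsConstructible V] (R : Type u) [CommRing R]
    (A : BMCoh.Coefs R) (T : BMCoh.PreTheory V R A) (X : BMCoh.Obj V) (w : X.scheme)
    [IsIntegral (X.ptSub w).scheme]
    [QuasiCompact ((X.ptSub w).scheme.fromSpecStalk (genericPoint (X.ptSub w).scheme))]
    [QuasiSeparated ((X.ptSub w).scheme.fromSpecStalk (genericPoint (X.ptSub w).scheme))]
    (Y : BMCoh.Obj V) [IsIntegral Y.scheme] (e : Y.scheme ≅ Curv2.normalization (X.ptSub w).scheme)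
    (φ : Y.scheme ⟶ X.scheme) [IsProper φ]
    (hφ : φ = e.hom ≫ Curv2.normalizationι (X.ptSub w).scheme ≫ X.ptSubι w)
    (L : T.PtPush φ (genericPoint Y.scheme) w) (M : A.Cat) (i n : ℤ) :
    Function.Bijective (L.cpt M i n).hom := by
  haveI : IsProper (Curv2.normalizationι (X.ptSub w).scheme ≫ X.ptSubι w) := by
    have : Curv2.normalizationι (X.ptSub w).scheme ≫ X.ptSubι w = e.inv ≫ φ := by rw [hφ]; simp
    rw [this]; infer_instance
  haveI : IsProper (Curv2.normalizationι (X.ptSub w).scheme) := IsProper.of_comp _ (X.ptSubι w)
  haveI : Surjective (Y.ptSubι (genericPoint Y.scheme)) := ⟨fun y =>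
    (Groth.Agent.BMCohLib.mem_ptSubι_range (X := Y)).mpr ((genericPoint_spec Y.scheme).specializes trivial)⟩
  haveI : IsIso (Y.ptSubι (genericPoint Y.scheme)) := isIso_of_isClosedImmersion_of_surjective _
  obtain ⟨U, hU, hUiso⟩ := Groth.Agent.BMCohLib.exists_isIso_normalization (X.ptSub w).scheme
  refine Groth.Agent.BMCohLib.cpt_bijective M (Y.ptSubι (genericPoint Y.scheme) ≫ e.hom ≫ Curv2.normalizationι (X.ptSub w).scheme) L
    (by rw [hφ]; simp [Category.assoc]) L.maps_pt (Groth.Agent.BMCohLib.mkPtIdx X w U ⟨_, hU⟩) (fun W' hW' => ?_) i n
  haveI := hUiso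
  haveI : IsIso (Curv2.normalizationι (X.ptSub w).scheme ∣_ W'.1) :=
    Groth.Agent.BMCohLib.isIso_restrict_le (Curv2.normalizationι (X.ptSub w).scheme) (U := U) hW'
  haveI : IsIso (Y.ptSubι (genericPoint Y.scheme) ≫ e.hom) := IsIso.comp_isIso
  have hr : IsIso ((Y.ptSubι (genericPoint Y.scheme) ≫ e.hom) ∣_ Curv2.normalizationι (X.ptSub w).scheme ⁻¹ᵁ W'.1) := inferInstance
  rw [← Category.assoc, morphismRestrict_comp]
  exact @IsIso.comp_isIso _ _ _ _ _ _ _ hr ‹_›

end Groth.Agent.S16095
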