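import Groth.Statements.S16099
import Groth.Agent.FF.RR

set_option autoImplicit false
universe u
open FunFld

namespace Groth.Agent.S16099

open FunFld Groth.Agent.FF in
open scoped Classical in
lemma single_mem_adele {k K : Type*} [Field k] [Field K] [Algebra k K] (P : Place k K) (z : K) :
    (Pi.single P z : Place k K → K) ∈ adele k K :=
  mem_adele.2 ((Set.finite_singleton P).subset fun R hR => by
    by_contra h
    exact hR (by rw [Pi.single_eq_of_ne (by simpa using h), map_zero]; exact zero_le))

/-- For a function field `K/k` of one variable of genus `g` and any place `P`, the `k`-space `K /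
(O_{\{P\}} + O_P)` is finite-dimensional of dimension `g` (the number of Weierstrass gaps when `P`
is rational), where `O_{\{P\}}` is the ring of elements of `K` integral at every place other than
`P` and `O_P` is the valuation ring of `P` (written as the elements integral at every place outside
the complement of `\{P\}`). (The published example is for a curve over an algebraically closed field
and is stated with completions at `P`; this is the equivalent form inside `K`, over any field `k`
algebraically closed in `K`.) -/
theorem result (k K : Type u) [Field k] [Field K]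
    [Algebra k K] (hK : FunFld.IsFunctionField k K) (P : FunFld.Place k K) :
    FiniteDimensional k (K ⧸ (Subalgebra.toSubmodule (AdFn.SInt ({P} : Set (FunFld.Place k K))) ⊔
        Subalgebra.toSubmodule (AdFn.SInt (({P} : Set (FunFld.Place k K))ᶜ)))) ∧
    Module.finrank k (K ⧸ (Subalgebra.toSubmodule (AdFn.SInt ({P} : Set (FunFld.Place k K))) ⊔
        Subalgebra.toSubmodule (AdFn.SInt (({P} : Set (FunFld.Place k K))ᶜ)))) = FunFld.genus k K := by
  classical
  obtain ⟨hfq, hdim⟩ := Groth.Agent.FF.finrank_quot_ADK hK (0 : FunFld.Divisor k K)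
  rw [Groth.Agent.FF.defect_zero hK, sub_zero] at hdim
  set X := Subalgebra.toSubmodule (AdFn.SInt ({P} : Set (FunFld.Place k K))) ⊔
    Subalgebra.toSubmodule (AdFn.SInt (({P} : Set (FunFld.Place k K))ᶜ))
  let single : K →ₗ[k] ↥(FunFld.adele k K) :=
    (LinearMap.single k (fun _ : FunFld.Place k K => K) P).codRestrict _ fun z => single_mem_adele P z
  let θ : K →ₗ[k] ↥(FunFld.adele k K) ⧸ FunFld.ADK (0 : FunFld.Divisor k K) := (Submodule.mkQ _).comp single
  have hker : LinearMap.ker θ = X := by
    ext z
    rw [LinearMap.mem_ker, show θ z = Submodule.Quotient.mk (single z) from rfl, Submodule.Quotient.mk_eq_zero]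
    show (Pi.single P z : FunFld.Place k K → K) ∈ FunFld.AD (0 : FunFld.Divisor k K) ⊔ LinearMap.range (FunFld.diag k K) ↔ _
    constructor
    · intro hz
      obtain ⟨a, ha, _, ⟨h, rfl⟩, hah⟩ := Submodule.mem_sup.1 hz
      have hval : ∀ R, a R + h = (Pi.single P z : FunFld.Place k K → K) R := fun R => congrFun hah R
      have haR : ∀ R : FunFld.Place k K, R.1 (a R) ≤ 1 := fun R => by
        have := ha R; rwa [Finsupp.coe_zero, Pi.zero_apply, WithZero.exp_zero] at this
      refine Submodule.mem_sup.2 ⟨h, fun R hR => ?_, a P, fun R hR => ?_, ?_⟩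
      · have h1 := hval R
        rw [Pi.single_eq_of_ne (by simpa using hR)] at h1
        rw [show h = -a R by linear_combination h1, Valuation.map_neg]
        exact haR R
      · obtain rfl : R = P := by simpa using hR
        exact haR R
      · have h1 := hval P
        rw [Pi.single_eq_same] at h1
        rw [add_comm]; exact h1
    · intro hz
      obtain ⟨h, hh, b, hb, rfl⟩ := Submodule.mem_sup.1 hz
      refine Submodule.mem_sup.2 ⟨(Pi.single P (h + b) : FunFld.Place k K → K) - FunFld.diag k K h, fun R => ?_, _, ⟨h, rfl⟩, sub_add_cancel _ _⟩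
      rw [Finsupp.coe_zero, Pi.zero_apply, WithZero.exp_zero]
      show R.1 ((Pi.single P (h + b) : FunFld.Place k K → K) R - h) ≤ 1
      rcases eq_or_ne R P with rfl | hne
      · rw [Pi.single_eq_same, add_sub_cancel_left]
        exact hb R (by simp)
      · rw [Pi.single_eq_of_ne hne, zero_sub, Valuation.map_neg]
        exact hh R (by simpa using hne)
  have hsurj : Function.Surjective θ := by
    intro q
    obtain ⟨a, rfl⟩ := Submodule.mkQ_surjective _ q
    obtain ⟨N, hN⟩ := Groth.Agent.FF.exists_riemann_bound hK
    set D : FunFld.Divisor k K := Finsupp.single P (N.toNat : ℤ)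
    have hD : Groth.Agent.FF.defect D = (FunFld.genus k K : ℤ) := hN D (by
      rw [Groth.Agent.FF.deg_single]
      have h1 : (1 : ℤ) ≤ P.deg := by exact_mod_cast Groth.Agent.FF.deg_pos hK P
      nlinarith [Int.self_le_toNat N, Int.natCast_nonneg N.toNat])
    obtain ⟨b, hb, _, ⟨h, rfl⟩, hbh⟩ := Submodule.mem_sup.1 (Groth.Agent.FF.adele_le_of_defect hK hD a.2)
    refine ⟨b P, (Submodule.Quotient.eq _).2 ?_⟩
    show (Pi.single P (b P) : FunFld.Place k K → K) - (a : FunFld.Place k K → K) ∈
      FunFld.AD (0 : FunFld.Divisor k K) ⊔ LinearMap.range (FunFld.diag k K)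
    refine Submodule.mem_sup.2 ⟨(Pi.single P (b P) : FunFld.Place k K → K) - b, fun R => ?_, _, ⟨-h, rfl⟩, ?_⟩
    · rw [Finsupp.coe_zero, Pi.zero_apply, WithZero.exp_zero, Pi.sub_apply]
      rcases eq_or_ne R P with rfl | hne
      · rw [Pi.single_eq_same, sub_self, map_zero]; exact zero_le
      · rw [Pi.single_eq_of_ne hne, zero_sub, Valuation.map_neg]
        have := hb R
        rwa [Finsupp.single_eq_of_ne hne, WithZero.exp_zero] at this
    · rw [← hbh, map_neg]; abel
  haveI := hfq
  let e : (K ⧸ LinearMap.ker θ) ≃ₗ[k] _ := θ.quotKerEquivOfSurjective hsurj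
  let e' := (Submodule.quotEquivOfEq _ _ hker.symm).trans e
  refine ⟨Module.Finite.equiv e'.symm, ?_⟩
  rw [e'.finrank_eq]
  exact_mod_cast hdim

end Groth.Agent.S16099
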