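import Groth.Statements.S16104
import Mathlib
-- import your own Groth.Agent.* helpers here

set_option autoImplicit false
universe u v
open LunaSt

namespace Groth.Agent.S16104

/-- Case of local rings. Let φ : A → B be a local homomorphism of Noetherian local rings whose composite
A → B/m_B² is surjective (the first infinitesimal neighbourhoods give a closed immersion), and
assume that A/m_A^(n+1) and B/m_B^(n+1) have the same length for every n (the associated graded
modules of the two maximal ideals have pieces of the same dimension over the common residue field).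
Then for every n the composite A → B/m_B^(n+1) is surjective with kernel m_A^(n+1): φ identifies all
infinitesimal neighbourhoods. (The published statement is for a pointed morphism of Noetherian local
algebraic stacks; its proof reduces to this case of local rings.) -/
theorem result
    (A : Type u) (B : Type v) [CommRing A] [CommRing B] [IsLocalRing A] [IsLocalRing B]
    [IsNoetherianRing A] [IsNoetherianRing B] (φ : A →+* B) [IsLocalHom φ]
    (h1 : Function.Surjective ((Ideal.Quotient.mk (IsLocalRing.maximalIdeal B ^ 2)).comp φ))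
    (hlen : ∀ n : ℕ, Module.length A (A ⧸ IsLocalRing.maximalIdeal A ^ (n + 1)) =
      Module.length B (B ⧸ IsLocalRing.maximalIdeal B ^ (n + 1))) (n : ℕ) :
    Function.Surjective ((Ideal.Quotient.mk (IsLocalRing.maximalIdeal B ^ (n + 1))).comp φ) ∧
      RingHom.ker ((Ideal.Quotient.mk (IsLocalRing.maximalIdeal B ^ (n + 1))).comp φ) =
        IsLocalRing.maximalIdeal A ^ (n + 1) := by
  classical
  set mA := IsLocalRing.maximalIdeal A
  set mB := IsLocalRing.maximalIdeal B
  have hφm : ∀ j, ∀ a ∈ mA ^ j, φ a ∈ mB ^ j := by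
    intro j a ha
    have h : Ideal.map φ (mA ^ j) ≤ mB ^ j := by
      rw [Ideal.map_pow]
      exact Ideal.pow_right_mono (Ideal.map_le_iff_le_comap.mpr fun x hx => Ideal.mem_comap.mpr (map_nonunit φ x hx)) j
    exact h (Ideal.mem_map_of_mem φ ha)
  have h1' : ∀ b : B, ∃ a, b - φ a ∈ mB ^ 2 := fun b => by
    obtain ⟨a, ha⟩ := h1 (Ideal.Quotient.mk _ b)
    exact ⟨a, Ideal.Quotient.eq.mp ha.symm⟩
  have step : ∀ j, ∀ b ∈ mB ^ j, ∃ a ∈ mA ^ j, b - φ a ∈ mB ^ (j + 1) := by
    intro j
    induction j with
    | zero =>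
      intro b _
      obtain ⟨a, ha⟩ := h1' b
      exact ⟨a, by simp, Ideal.pow_le_pow_right (by norm_num) ha⟩
    | succ j ih =>
      intro b hb
      rw [pow_succ] at hb
      induction hb using Submodule.mul_induction_on' with
      | mem_mul_mem x hx y hy =>
        obtain ⟨a, ha, hxa⟩ := ih x hx
        obtain ⟨c, hc⟩ := h1' y
        have hcm : φ c ∈ mB := by
          simpa using mB.sub_mem hy (Ideal.pow_le_self two_ne_zero hc)
        have hcA : c ∈ mA := fun hu => hcm (hu.map φ)
        refine ⟨a * c, by rw [pow_succ]; exact Ideal.mul_mem_mul ha hcA, ?_⟩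
        have e : x * y - φ (a * c) = (x - φ a) * y + φ a * (y - φ c) := by rw [map_mul]; ring
        rw [e]
        refine add_mem ?_ ?_
        · rw [pow_succ]; exact Ideal.mul_mem_mul hxa hy
        · have := Ideal.mul_mem_mul (hφm j a ha) hc
          rwa [← pow_add] at this
      | add x _ y _ hx hy =>
        obtain ⟨a, ha, hxa⟩ := hx
        obtain ⟨c, hc, hyc⟩ := hy
        exact ⟨a + c, add_mem ha hc, by rw [map_add, add_sub_add_comm]; exact add_mem hxa hyc⟩
  have hsurj0 : ∀ N b, ∃ a, b - φ a ∈ mB ^ N := by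
    intro N
    induction N with
    | zero => intro b; exact ⟨0, by simp⟩
    | succ N ih =>
      intro b
      obtain ⟨a, ha⟩ := ih b
      obtain ⟨c, -, hc⟩ := step N _ ha
      exact ⟨a + c, by rwa [map_add, ← sub_sub]⟩
  have hsurj : Function.Surjective ((Ideal.Quotient.mk (mB ^ (n + 1))).comp φ) := fun b => by
    obtain ⟨b, rfl⟩ := Ideal.Quotient.mk_surjective b
    obtain ⟨a, ha⟩ := hsurj0 (n + 1) b
    exact ⟨a, (Ideal.Quotient.eq.mpr ha).symm⟩
  refine ⟨hsurj, le_antisymm ?_ (fun a ha => Ideal.Quotient.eq_zero_iff_mem.mpr (hφm _ a ha))⟩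
  letI : Algebra A B := φ.toAlgebra
  let f : (A ⧸ mA ^ (n + 1)) →ₗ[A] (B ⧸ mB ^ (n + 1)) :=
    Submodule.liftQ (mA ^ (n + 1)) (Algebra.linearMap A (B ⧸ mB ^ (n + 1)))
      (fun a ha => Ideal.Quotient.eq_zero_iff_mem.mpr (hφm _ a ha))
  have hf : Function.Surjective f := fun b => by
    obtain ⟨a, ha⟩ := hsurj b
    exact ⟨Submodule.Quotient.mk a, ha⟩
  have hlenB : Module.length A (B ⧸ mB ^ (n + 1)) = Module.length B (B ⧸ mB ^ (n + 1)) := by
    rw [Module.length_eq_of_surjective (R := B ⧸ mB ^ (n + 1)) (S := A) (M := B ⧸ mB ^ (n + 1)) hsurj,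
      Module.length_eq_of_surjective (R := B ⧸ mB ^ (n + 1)) (S := B) (M := B ⧸ mB ^ (n + 1))
        Ideal.Quotient.mk_surjective]
  haveI : Ring.KrullDimLE 0 (A ⧸ mA ^ (n + 1)) := Ring.KrullDimLE.mk₀ fun q hq => by
    haveI := hq
    have h : (q.comap (Ideal.Quotient.mk (mA ^ (n + 1)))) = mA := by
      refine le_antisymm (IsLocalRing.le_maximalIdeal (Ideal.IsPrime.comap _).ne_top) ?_
      refine (Ideal.IsPrime.comap _).le_of_pow_le (n := n + 1) ?_
      intro x hx
      rw [Ideal.mem_comap, Ideal.Quotient.eq_zero_iff_mem.mpr hx]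
      exact zero_mem q
    refine ⟨⟨hq.ne_top, fun J hJ => ?_⟩⟩
    by_contra hJ'
    have hle : J.comap (Ideal.Quotient.mk (mA ^ (n + 1))) ≤ mA :=
      IsLocalRing.le_maximalIdeal fun h' => hJ' (by
        rw [← Ideal.map_comap_of_surjective _ Ideal.Quotient.mk_surjective J, h', Ideal.map_top])
    replace hle := hle.trans h.ge
    refine hJ.not_ge fun y hy => ?_
    obtain ⟨y, rfl⟩ := Ideal.Quotient.mk_surjective y
    exact hle hy
  haveI : IsArtinianRing (A ⧸ mA ^ (n + 1)) := IsNoetherianRing.isArtinianRing_of_krullDimLE_zero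
  have hfin : Module.length A (A ⧸ mA ^ (n + 1)) ≠ ⊤ := by
    rw [Module.length_eq_of_surjective (R := A ⧸ mA ^ (n + 1)) (S := A) Ideal.Quotient.mk_surjective]
    exact Module.length_ne_top
  have hk : Module.length A (LinearMap.ker f) = 0 := by
    have h := Module.length_eq_add_of_exact (LinearMap.ker f).subtype f (Submodule.injective_subtype _) hf
      (LinearMap.exact_subtype_ker_map f)
    rw [hlenB, hlen n] at h
    rw [hlen n] at hfin
    exact WithTop.add_right_cancel (show _ ≠ (⊤ : ℕ∞) from hfin) (h.symm.trans (zero_add _).symm)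
  rw [Module.length_eq_zero_iff, Submodule.subsingleton_iff_eq_bot] at hk
  intro a ha
  rw [← Ideal.Quotient.eq_zero_iff_mem]
  exact LinearMap.ker_eq_bot'.mp hk (Submodule.Quotient.mk a) ha

end Groth.Agent.S16104
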