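import Groth.Statements.S16110
import Groth.Agent.TwistShriek.DualTwist
-- import your own Groth.Agent.* helpers here

set_option autoImplicit false
set_option backward.isDefEq.respectTransparency false
set_option maxHeartbeats 800000
set_option synthInstance.maxHeartbeats 200000
universe u
open CategoryTheory CategoryTheory.Limits
attribute [local instance] HasDerivedCategory.standard
open DCoh

namespace Groth.Agent.S16110

open AlgebraicGeometry in
/-- Let f : X ⟶ Y be a proper morphism of finite Tor-dimension between separated Noetherian schemes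
(finite Tor-dimension: for some integer m, H^i(Lf^*M) = 0 for all i < m and all quasi-coherent
O_Y-modules M), let f^! be the right adjoint of Rf_* : D_qc(X) → D_qc(Y) (f is proper) and let G₁,
G₂ be objects of D_qc(Y), G₁ given by a cochain complex P of O_Y-modules and Lf^*G₁ by a cochain
complex P' of O_X-modules. Assume that RHom(G₁, G₂) and RHom(Lf^*G₁, f^!G₂) have quasi-coherent
cohomology sheaves. Then f^! RHom(G₁, G₂) ≅ RHom(Lf^*G₁, f^!G₂) in D(O_X). The derived functors
Rf_*, Lf^*, ⊗^L and the internal RHom (right adjoint of ⊗^L) are taken under their existence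
binders. (The published statement uses the internal Hom of D_qc and a canonical isomorphism; here
RHom is the internal Hom of D(O_X), the two quasi-coherence assumptions replace the passage to D_qc,
and only the existence of an isomorphism is asserted.) -/
theorem result
    {X Y : Scheme.{u}} [X.IsSeparated] [IsNoetherian X] [Y.IsSeparated] [IsNoetherian Y]
    (f : X ⟶ Y) [IsProper f] [DCoh.HasRpush f] [DCoh.HasLpull f]
    (hfTor : ∃ m : ℤ, ∀ (M : Y.Modules), Coh.IsQCoh M →
      ∀ i : ℤ, i < m → IsZero (DCoh.HD ((DCoh.Lpull f).obj (DCoh.inD Y M)) i))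
    (h : DCoh.RpushPreservesQCoh f) [DCoh.HasShriek f h]
    (P : CochainComplex Y.Modules ℤ) [DCoh.HasLTensorCx P] [DCoh.HasRSheafHom P]
    (hP : DCoh.IsQCohD (DCoh.toD Y P)) (G₂ : DCoh.DQCoh Y)
    (hq : DCoh.IsQCohD ((DCoh.RSheafHom P).obj G₂.obj))
    (P' : CochainComplex X.Modules ℤ) [DCoh.HasLTensorCx P'] [DCoh.HasRSheafHom P']
    (hP' : Nonempty (DCoh.toD X P' ≅ (DCoh.Lpull f).obj (DCoh.toD Y P)))
    (hq' : DCoh.IsQCohD ((DCoh.RSheafHom P').obj ((DCoh.shriek f h).obj G₂).obj)) :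
    Nonempty (((DCoh.shriek f h).obj ⟨(DCoh.RSheafHom P).obj G₂.obj, hq⟩).obj ≅
      (DCoh.RSheafHom P').obj ((DCoh.shriek f h).obj G₂).obj) := by
  obtain ⟨e'⟩ := hP'
  let a := DCoh.shriek f h
  let adj := DCoh.shriekAdj f h
  let ιX := ObjectProperty.fullyFaithfulι (DCoh.IsQCohD (X := X))
  let ιY := ObjectProperty.fullyFaithfulι (DCoh.IsQCohD (X := Y))
  have hP'q : DCoh.IsQCohD (DCoh.toD X P') :=
    Groth.Agent.TildeD.isQCohD_of_iso e'.symm (Groth.Agent.TildeD.isQCohD_lpull f _ hP)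
  obtain ⟨pr⟩ := Groth.Agent.FMKLib.nonempty_proj_left f P hP P' e'
  let M : DCoh.DQCoh Y := ⟨(DCoh.RSheafHom P).obj G₂.obj, hq⟩
  let N : DCoh.DQCoh X := ⟨(DCoh.RSheafHom P').obj (a.obj G₂).obj, hq'⟩
  let T : DCoh.DQCoh X → DCoh.DQCoh X := fun W =>
    ⟨(DCoh.LTensorCx P').obj W.obj, Groth.Agent.TildeD.isQCohD_lTensorCx P' hP'q _ W.property⟩
  let E : ∀ W : DCoh.DQCoh X, (W ⟶ a.obj M) ≃ (W ⟶ N) := fun W =>
    (adj.homEquiv W M).symm.trans <| (ιY.homEquiv (X := (DCoh.RpushQ f h).obj W) (Y := M)).trans <|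
      ((DCoh.RSheafHomAdj P).homEquiv ((DCoh.Rpush f).obj W.obj) G₂.obj).symm.trans <|
      (pr.app W).homFromEquiv.trans <|
      (ιY.homEquiv (X := (DCoh.RpushQ f h).obj (T W)) (Y := G₂)).symm.trans <|
      (adj.homEquiv (T W) G₂).trans <| (ιX.homEquiv (X := T W) (Y := a.obj G₂)).trans <|
      ((DCoh.RSheafHomAdj P').homEquiv W.obj (a.obj G₂).obj).trans (ιX.homEquiv (X := W) (Y := N)).symm
  have nat : ∀ {W W' : DCoh.DQCoh X} (k : W' ⟶ W) (g : W ⟶ a.obj M), E W' (k ≫ g) = k ≫ E W g := by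
    intro W W' k g
    apply ιX.homEquiv.injective
    simp only [E, Equiv.trans_apply, Equiv.apply_symm_apply]
    let Tk : T W' ⟶ T W := ObjectProperty.homMk ((DCoh.LTensorCx P').map k.hom)
    refine Eq.trans ?_ ((DCoh.RSheafHomAdj P').homEquiv_naturality_left k.hom _)
    refine congrArg ((DCoh.RSheafHomAdj P').homEquiv W'.obj (a.obj G₂).obj) ?_
    show ((adj.homEquiv (T W') G₂) _).hom = Tk.hom ≫ ((adj.homEquiv (T W) G₂) _).hom
    refine Eq.trans (congrArg (fun x => ((adj.homEquiv (T W') G₂) x).hom) ?_)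
      (congrArg (fun x : T W' ⟶ a.obj G₂ => x.hom) (adj.homEquiv_naturality_left Tk _))
    apply (ιY.homEquiv (X := (DCoh.RpushQ f h).obj (T W')) (Y := G₂)).injective
    refine (ιY.homEquiv.apply_symm_apply _).trans ?_
    rw [adj.homEquiv_naturality_left_symm]
    show (pr.app W').inv ≫ ((DCoh.RSheafHomAdj P).homEquiv _ _).symm ((DCoh.Rpush f).map k.hom ≫ _) =
      (DCoh.Rpush f).map Tk.hom ≫ (pr.app W).inv ≫ _
    rw [Adjunction.homEquiv_naturality_left_symm]
    exact (reassoc_of% (pr.inv.naturality k)) _ |>.symm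
  exact ⟨(ObjectProperty.ι (DCoh.IsQCohD (X := X))).mapIso
    (Yoneda.ext (a.obj M) N (fun {W} => E W) (fun {W} => (E W).symm) (fun {W} g => (E W).symm_apply_apply g)
      (fun {W} g => (E W).apply_symm_apply g) (fun {W W'} k g => nat k g))⟩

end Groth.Agent.S16110
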