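import Groth.Statements.S16116
import Groth.Agent.CharUnitH7.Basic
-- import your own Groth.Agent.* helpers here

set_option autoImplicit false
universe u
open CategoryTheory MonoidalCategory CartesianMonoidalCategory MonObj GrpObj AlgebraicGeometry CategoryTheory.Limits
open AlgGrp

namespace Groth.Agent.S16116

/-- Over an algebraically closed field k, let G be a connected algebraic group (a smooth connected
k-group scheme of finite type) acting by σ on an irreducible variety X (an integral separated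
k-scheme of finite type), and let f be a unit of Γ(X, O_X). Then f is a semi-invariant: there is a
unique character χ of G (a unit of Γ(G, O_G) with e^*(χ) = 1 and m^*(χ) = p₁^*(χ) · p₂^*(χ)) such
that σ^*(f) = p₁^*(χ) · p₂^*(f) in Γ(G × X, O). -/
theorem result (k : Type u) [Field k] [IsAlgClosed k]
    (G X : Over (Spec (CommRingCat.of k))) [GrpObj G] [Smooth G.hom] [QuasiCompact G.hom] [ConnectedSpace ↥G.left]
    [IsIntegral X.left] [IsSeparated X.hom] [LocallyOfFiniteType X.hom] [QuasiCompact X.hom] (a : AlgGrp.Action G X)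
    (f : Γ(X.left, ⊤)) (hf : IsUnit f) :
    ∃! χ : Γ(G.left, ⊤), IsUnit χ ∧ η[G].left.appTop χ = 1 ∧
      μ[G].left.appTop χ = (fst G G).left.appTop χ * (snd G G).left.appTop χ ∧
      a.act.left.appTop f = (fst G X).left.appTop χ * (snd G X).left.appTop f := by
  have hsX : lift (Groth.Agent.UnitsFG.toPt X ≫ Groth.Agent.CharUnitH7.ePt G) (𝟙 X) ≫ a.act = 𝟙 X := by
    have h : lift (Groth.Agent.UnitsFG.toPt X ≫ Groth.Agent.CharUnitH7.ePt G) (𝟙 X) =
        (λ_ X).inv ≫ η[G] ▷ X := by
      ext1 <;> simp [Groth.Agent.CharUnitH7.toPt_ePt]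
    rw [h, Category.assoc, a.one_act, Iso.inv_hom_id]
  obtain ⟨χ, h1, h2, h3, h4⟩ := Groth.Agent.CharUnitH7.decompose (G := G) X (a.act.left.appTop f) (hf.map _)
  rw [Groth.Agent.CharUnitH7.app_comp (lift _ _) a.act, hsX, Groth.Agent.CharUnitH7.app_id] at h4
  refine ⟨χ, ⟨h1, h2, h3, h4⟩, ?_⟩
  rintro χ' ⟨-, -, -, h4'⟩
  exact Groth.Agent.CharUnitH7.eq_of_decomp X hf h4' h4

end Groth.Agent.S16116
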