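import Groth.Statements.S16117
import Groth.Agent.UnitsFG.Prod

set_option autoImplicit false
universe u
open CategoryTheory MonoidalCategory CartesianMonoidalCategory MonObj GrpObj AlgebraicGeometry CategoryTheory.Limits
open AlgGrp

namespace Groth.Agent.S16117

open CategoryTheory CategoryTheory.Limits AlgebraicGeometry


open MonoidalCategory CartesianMonoidalCategory Groth.Agent.UnitsFG

/-- Over an algebraically closed field k, let X and Y be irreducible varieties (integral separated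
k-schemes of finite type). Then the product map on units is surjective: every unit of Γ(X × Y, O)
equals p₁^*(g) · p₂^*(h) for some units g of Γ(X, O_X) and h of Γ(Y, O_Y). -/
theorem result (k : Type u) [Field k] [IsAlgClosed k]
    (X Y : Over (Spec (CommRingCat.of k))) [IsIntegral X.left] [IsSeparated X.hom] [LocallyOfFiniteType X.hom] [QuasiCompact X.hom]
    [IsIntegral Y.left] [IsSeparated Y.hom] [LocallyOfFiniteType Y.hom] [QuasiCompact Y.hom]
    (f : Γ((X ⊗ Y).left, ⊤)) (hf : IsUnit f) :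
    ∃ (g : Γ(X.left, ⊤)) (h : Γ(Y.left, ⊤)), IsUnit g ∧ IsUnit h ∧
      f = (fst X Y).left.appTop g * (snd X Y).left.appTop h := by

  obtain ⟨x⟩ := (inferInstance : Nonempty X.left)
  obtain ⟨y⟩ := (inferInstance : Nonempty Y.left)
  obtain ⟨c₀, -, -⟩ := exists_chart (X := X) ⊤ (x := x) trivial
  obtain ⟨d₀, -, -⟩ := exists_chart (X := Y) ⊤ (x := y) trivial
  obtain ⟨a₀⟩ := exists_algHom (k := k) c₀.A
  obtain ⟨b₀⟩ := exists_algHom (k := k) d₀.A
  let sY : X ⟶ X ⊗ Y := lift (𝟙 X) (toPt X ≫ d₀.pt b₀)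
  let sX : Y ⟶ X ⊗ Y := lift (toPt Y ≫ c₀.pt a₀) (𝟙 Y)
  let g : Γ(X.left, ⊤) := sY.left.appTop f
  let h₁ : Γ(Y.left, ⊤) := sX.left.appTop f
  have app_comp : ∀ {A B C : Over (Spec (CommRingCat.of k))} (p : A ⟶ B) (q : B ⟶ C) (t : Γ(C.left, ⊤)),
      p.left.appTop (q.left.appTop t) = (p ≫ q).left.appTop t := fun p q t => by
    rw [Over.comp_left, Scheme.Hom.comp_appTop]
    rfl
  -- the constant `f (x₀, y₀)`, pulled back to `Y`
  let p₀ : specO k k ⟶ X ⊗ Y := lift (c₀.pt a₀) (d₀.pt b₀)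
  let cY : Γ(Y.left, ⊤) := (toPt Y).left.appTop (p₀.left.appTop f)
  have hg : IsUnit g := hf.map _
  have hh : IsUnit h₁ := hf.map _
  have hc : IsUnit cY := (hf.map _).map _
  refine ⟨g, ((hc.unit⁻¹ : _ˣ) : Γ(Y.left, ⊤)) * h₁, hg, (Units.isUnit _).mul hh, ?_⟩
  let hu : (Γ(Y.left, ⊤))ˣ := hc.unit⁻¹ * hh.unit
  let R : (Γ((X ⊗ Y).left, ⊤))ˣ := Units.map ((fst X Y).left.appTop.hom : _ →* _) hg.unit *
    Units.map ((snd X Y).left.appTop.hom : _ →* _) hu
  suffices h1 : f * ((R⁻¹ : _ˣ) : Γ((X ⊗ Y).left, ⊤)) = 1 by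
    rw [Units.mul_inv_eq_one] at h1
    exact h1
  have hval : ∀ {S : Type u} [CommRing S] (φ : Γ((X ⊗ Y).left, ⊤) →+* S), φ f = φ (R : Γ((X ⊗ Y).left, ⊤)) →
      φ (f * ((R⁻¹ : _ˣ) : Γ((X ⊗ Y).left, ⊤))) = 1 := fun φ e => by
    rw [map_mul, e, ← map_mul, Units.mul_inv, map_one]
  refine eq_one_of_trivial _ (hf.mul (Units.isUnit _)) c₀ d₀ a₀ b₀ ?_ ?_
  · show sX.left.appTop (f * ((R⁻¹ : _ˣ) : Γ((X ⊗ Y).left, ⊤))) = 1
    refine hval sX.left.appTop.hom ?_
    show h₁ = sX.left.appTop ((fst X Y).left.appTop g * (snd X Y).left.appTop (((hc.unit⁻¹ : _ˣ) : Γ(Y.left, ⊤)) * h₁))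
    rw [map_mul]
    have eF : ∀ t, sX.left.appTop ((fst X Y).left.appTop t) = (toPt Y ≫ c₀.pt a₀).left.appTop t := fun t => by
      rw [app_comp, lift_fst]
    have eS : ∀ t, sX.left.appTop ((snd X Y).left.appTop t) = (𝟙 Y : Y ⟶ Y).left.appTop t := fun t => by
      rw [app_comp, lift_snd]
    rw [eF, eS]
    have e : (toPt Y ≫ c₀.pt a₀).left.appTop g = cY := by
      show (toPt Y ≫ c₀.pt a₀).left.appTop (sY.left.appTop f) = (toPt Y).left.appTop (p₀.left.appTop f)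
      rw [app_comp, app_comp]
      congr 3
      rw [Category.assoc, comp_lift, Category.comp_id]
      congr 2
      rw [← Category.assoc, toPt_unique (c₀.pt a₀ ≫ toPt X) (𝟙 _), Category.id_comp]
    have e' : (𝟙 Y : Y ⟶ Y).left.appTop (((hc.unit⁻¹ : _ˣ) : Γ(Y.left, ⊤)) * h₁) = ((hc.unit⁻¹ : _ˣ) : Γ(Y.left, ⊤)) * h₁ := by
      simp
    rw [e, e', ← _root_.mul_assoc]
    show h₁ = hc.unit.val * _ * h₁
    rw [Units.mul_inv, _root_.one_mul]
  · show sY.left.appTop (f * ((R⁻¹ : _ˣ) : Γ((X ⊗ Y).left, ⊤))) = 1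
    refine hval sY.left.appTop.hom ?_
    show g = sY.left.appTop ((fst X Y).left.appTop g * (snd X Y).left.appTop (((hc.unit⁻¹ : _ˣ) : Γ(Y.left, ⊤)) * h₁))
    rw [map_mul]
    have eF : ∀ t, sY.left.appTop ((fst X Y).left.appTop t) = (𝟙 X : X ⟶ X).left.appTop t := fun t => by
      rw [app_comp, lift_fst]
    have eS : ∀ t, sY.left.appTop ((snd X Y).left.appTop t) = (toPt X ≫ d₀.pt b₀).left.appTop t := fun t => by
      rw [app_comp, lift_snd]
    rw [eF, eS]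
    have e : (toPt X ≫ d₀.pt b₀).left.appTop h₁ = (toPt X ≫ d₀.pt b₀).left.appTop cY := by
      show (toPt X ≫ d₀.pt b₀).left.appTop (sX.left.appTop f) = (toPt X ≫ d₀.pt b₀).left.appTop ((toPt Y).left.appTop (p₀.left.appTop f))
      rw [app_comp, app_comp, app_comp]
      congr 3
      simp only [sX, p₀, Category.assoc, comp_lift, Category.comp_id]
      congr 2
      rw [← Category.assoc (d₀.pt b₀) (toPt Y), toPt_unique (d₀.pt b₀ ≫ toPt Y) (𝟙 _), Category.id_comp]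
    have e' : (toPt X ≫ d₀.pt b₀).left.appTop (((hc.unit⁻¹ : _ˣ) : Γ(Y.left, ⊤)) * h₁) = 1 := by
      rw [map_mul, e, ← map_mul]
      show (toPt X ≫ d₀.pt b₀).left.appTop (((hc.unit⁻¹ : _ˣ) : Γ(Y.left, ⊤)) * hc.unit.val) = 1
      rw [Units.inv_mul, map_one]
    rw [e', _root_.mul_one]
    simp


end Groth.Agent.S16117
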