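import Groth.Statements.S16120
import Groth.Agent.PicInfLib.Bridge
import Groth.Agent.PicCurveSmoothLib.BaseChange
import Groth.Agent.AVLib.AmpleCrit
import Groth.Agent.S7819
import Groth.Agent.S8883

set_option autoImplicit false
universe u
open CategoryTheory MonoidalCategory CartesianMonoidalCategory MonObj GrpObj AlgebraicGeometry CategoryTheory.Limits
open PicGrp

namespace Groth.Agent.S16120

set_option maxHeartbeats 1000000
set_option linter.style.haveILetI false
set_option backward.isDefEq.respectTransparency false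
set_option backward.isDefEq.respectTransparency.types false

variable {k : Type u} [Field k] [IsAlgClosed k]

/-- An irreducible variety has a rational point in every non-empty open. -/
theorem exists_point_mem (X : Over (Spec (CommRingCat.of k))) [LocallyOfFiniteType X.hom] (U : X.left.Opens)
    (hU : (U : Set ↥X.left).Nonempty) :
    ∃ x : 𝟙_ (Over (Spec (CommRingCat.of k))) ⟶ X, ∀ t, x.left t ∈ U := by
  haveI : JacobsonSpace ↥X.left := LocallyOfFiniteType.jacobsonSpace X.hom
  obtain ⟨p, hpU, hp⟩ := nonempty_inter_closedPoints hU U.2.isLocallyClosed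
  exact ⟨Over.homMk (pointOfClosedPoint X.hom p hp) (pointOfClosedPoint_comp X.hom p hp), fun t => by
    show pointOfClosedPoint X.hom p hp t ∈ U
    rw [pointOfClosedPoint_apply]; exact hpU⟩

open Groth.Agent.PicCurveSmoothLib (pullCl_pullCl pullCl_id isInvertibleCl_pullCl)

/-- Trivial classes pull back to trivial classes. -/
theorem pullCl_one {X Y : Scheme.{u}} (g : X ⟶ Y) :
    PicF.pullCl g (PicF.cl (Coh.structureModule Y)) = PicF.cl (Coh.structureModule X) :=
  Quot.sound ⟨PicLoc.pullbackStructureIso _⟩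

/-- Over an algebraically closed field k, let X and Y be normal irreducible varieties (integral normal
separated k-schemes of finite type) and assume X rational: some nonempty open subscheme of X is
isomorphic over k to an open subscheme of an affine space 𝔸ⁿ_k. Assume the Picard group laws on X, Y
and X × Y, with pullback along the two projections multiplicative. Then the map Pic(X) × Pic(Y) →
Pic(X × Y), (c, d) ↦ p₁^*(c) · p₂^*(d), is bijective. (The published companion assertion on divisor
class groups is not stated here.) -/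
theorem result (k : Type u) [Field k] [IsAlgClosed k]
    (X Y : Over (Spec (CommRingCat.of k))) [IsIntegral X.left] [IsSeparated X.hom] [LocallyOfFiniteType X.hom] [QuasiCompact X.hom]
    [IsIntegral Y.left] [IsSeparated Y.hom] [LocallyOfFiniteType Y.hom] [QuasiCompact Y.hom]
    (hX : Pi1.IsNormalScheme X.left) (hY : Pi1.IsNormalScheme Y.left)
    (hrat : ∃ (U : X.left.Opens) (n : ℕ) (V : (𝔸(ULift.{u} (Fin n); Spec (CommRingCat.of k))).Opens)
      (e : (U : Scheme.{u}) ≅ (V : Scheme.{u})), (U : Set ↥X.left).Nonempty ∧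
        e.hom ≫ V.ι ≫ (𝔸(ULift.{u} (Fin n); Spec (CommRingCat.of k)) ↘ Spec (CommRingCat.of k)) = U.ι ≫ X.hom)
    [PicGrp.Law X.left] [PicGrp.Law Y.left] [PicGrp.Law (X ⊗ Y).left]
    (h₁ : PicGrp.PullMul (fst X Y).left) (h₂ : PicGrp.PullMul (snd X Y).left) :
    Function.Bijective (fun cd : PicLoc.PicSet X.left × PicLoc.PicSet Y.left =>
      PicGrp.pullHom (fst X Y).left h₁ cd.1 * PicGrp.pullHom (snd X Y).left h₂ cd.2) := by
  obtain ⟨U, n, V, e, hU, he⟩ := hrat
  obtain ⟨x, hxU⟩ := exists_point_mem X U hU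
  obtain ⟨y, -⟩ := exists_point_mem Y ⊤ ⟨genericPoint Y.left, trivial⟩
  let sY : Y ⟶ X ⊗ Y := lift (toUnit Y ≫ x) (𝟙 Y)
  let sX : X ⟶ X ⊗ Y := lift (𝟙 X) (toUnit X ≫ y)
  refine ⟨?_, ?_⟩
  · -- injectivity
    let F : PicLoc.PicSet X.left × PicLoc.PicSet Y.left →* PicLoc.PicSet (X ⊗ Y).left :=
      (PicGrp.pullHom (fst X Y).left h₁).coprod (PicGrp.pullHom (snd X Y).left h₂)
    show Function.Injective F
    refine (injective_iff_map_eq_one F).2 fun cd h => ?_
    obtain ⟨c, d⟩ := cd
    have h' : PicGrp.pullHom (fst X Y).left h₁ c * PicGrp.pullHom (snd X Y).left h₂ d = 1 := h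
    have hy : y.left ≫ Y.hom = 𝟙 _ := Over.w y
    have hxy : ∀ {T : Scheme.{u}} (b : T ⟶ Spec (CommRingCat.of k)) {Z : Scheme.{u}} (z : Spec (CommRingCat.of k) ⟶ Z)
        (e : PicF.Cl Z), PicF.IsInvertibleCl e → PicF.pullCl (b ≫ z) e = PicF.cl (Coh.structureModule T) := by
      intro T b Z z e he'
      obtain ⟨M, rfl, hM⟩ := he'
      rw [← pullCl_pullCl]
      have hT : CubeLib.Triv ((Scheme.Modules.pullback z).obj M) := by
        obtain ⟨W, t, hW, ht⟩ := ParaFLib.exists_gen_nhd (AmpleLib.isInvertible_pullback z hM) (IsLocalRing.closedPoint k)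
        haveI : Subsingleton ↥(Spec (CommRingCat.of k)) := inferInstanceAs (Subsingleton (PrimeSpectrum k))
        obtain rfl : W = ⊤ := eq_top_iff.2 fun p _ => by rwa [Subsingleton.elim p (IsLocalRing.closedPoint k)]
        exact ⟨t, ht⟩
      have hz : PicF.pullCl z (PicF.cl M) = PicF.cl (Coh.structureModule _) := Quot.sound (CubeLib.triv_iff.1 hT)
      rw [hz, pullCl_one]
    have hX1 : sX.left ≫ (fst X Y).left = 𝟙 _ := congrArg CommaMorphism.left (lift_fst (𝟙 X) (toUnit X ≫ y))
    have hX2 : sX.left ≫ (snd X Y).left = (toUnit X).left ≫ y.left :=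
      congrArg CommaMorphism.left (lift_snd (𝟙 X) (toUnit X ≫ y))
    have hY1 : sY.left ≫ (fst X Y).left = (toUnit Y).left ≫ x.left :=
      congrArg CommaMorphism.left (lift_fst (toUnit Y ≫ x) (𝟙 Y))
    have hY2 : sY.left ≫ (snd X Y).left = 𝟙 _ := congrArg CommaMorphism.left (lift_snd (toUnit Y ≫ x) (𝟙 Y))
    have g1 := congrArg (PicGrp.pullHom sX.left (PicInf.pullMul _)) h'
    have g2 := congrArg (PicGrp.pullHom sY.left (PicInf.pullMul _)) h'
    rw [map_mul, map_one] at g1 g2
    have a1 : PicGrp.pullHom sX.left (PicInf.pullMul _) (PicGrp.pullHom (fst X Y).left h₁ c) = c := by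
      apply Subtype.ext
      show PicF.pullCl sX.left (PicF.pullCl _ c.1) = c.1
      rw [pullCl_pullCl, hX1, pullCl_id]
    have a2 : PicGrp.pullHom sX.left (PicInf.pullMul _) (PicGrp.pullHom (snd X Y).left h₂ d) = 1 := by
      apply Subtype.ext
      show PicF.pullCl sX.left (PicF.pullCl _ d.1) = _
      rw [pullCl_pullCl, hX2, PicGrp.one_val]
      exact hxy _ _ _ d.2
    have b1 : PicGrp.pullHom sY.left (PicInf.pullMul _) (PicGrp.pullHom (fst X Y).left h₁ c) = 1 := by
      apply Subtype.ext
      show PicF.pullCl sY.left (PicF.pullCl _ c.1) = _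
      rw [pullCl_pullCl, hY1, PicGrp.one_val]
      exact hxy _ _ _ c.2
    have b2 : PicGrp.pullHom sY.left (PicInf.pullMul _) (PicGrp.pullHom (snd X Y).left h₂ d) = d := by
      apply Subtype.ext
      show PicF.pullCl sY.left (PicF.pullCl _ d.1) = d.1
      rw [pullCl_pullCl, hY2, pullCl_id]
    rw [a1, a2, _root_.mul_one] at g1
    rw [b1, b2, _root_.one_mul] at g2
    exact Prod.ext g1 g2
  · -- surjectivity
    intro c
    let S := Spec (CommRingCat.of k)
    let n' := ULift.{u} (Fin n)
    let h := V.ι ≫ (𝔸(n'; S) ↘ S)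
    let x₀ : S ⟶ (U : Scheme.{u}) := IsOpenImmersion.lift U.ι x.left (by
      rintro _ ⟨t, rfl⟩; rw [Scheme.Opens.range_ι]; exact hxU t)
    have hx₀ : x₀ ≫ U.ι = x.left := IsOpenImmersion.lift_fac _ _ _
    have hu : (x₀ ≫ e.hom) ≫ V.ι ≫ (𝔸(n'; S) ↘ S) = 𝟙 S := by
      rw [Category.assoc, he, ← Category.assoc, hx₀]
      exact Over.w x
    haveI : IsLocallyNoetherian S := inferInstance
    haveI : IsLocallyNoetherian Y.left := LocallyOfFiniteType.isLocallyNoetherian Y.hom
    haveI : CompactSpace Y.left := QuasiCompact.compactSpace_of_compactSpace Y.hom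
    haveI : IsNoetherian Y.left := {}
    let Φ : pullback Y.hom h ⟶ (X ⊗ Y).left :=
      pullback.lift (pullback.snd _ _ ≫ e.inv ≫ U.ι) (pullback.fst _ _) (by
        have h0 : e.inv ≫ U.ι ≫ X.hom = V.ι ≫ (𝔸(n'; S) ↘ S) := by rw [← he, Iso.inv_hom_id_assoc]
        rw [Category.assoc, Category.assoc, h0, pullback.condition])
    obtain ⟨d, ⟨hd, hdc⟩, -⟩ := Groth.Agent.S7819.result S n V (x₀ ≫ e.hom) hu Y.hom hY
      (PicF.pullCl Φ c.1) (isInvertibleCl_pullCl Φ c.2)
    let d' : PicLoc.PicSet Y.left := ⟨d, hd⟩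
    let c' : PicLoc.PicSet (X ⊗ Y).left := c * (PicGrp.pullHom (snd X Y).left h₂ d')⁻¹
    obtain ⟨L, hL, hcL⟩ := PicGrp.exists_eq_cls c'
    let φ := (fst X Y).left
    haveI : GeometricallyIntegral Y.hom := AVLib.geometricallyIntegral_of_isIntegral Y.hom
    haveI : IsLocallyNoetherian X.left := LocallyOfFiniteType.isLocallyNoetherian X.hom
    haveI : LocallyOfFiniteType φ := inferInstanceAs (LocallyOfFiniteType (pullback.fst X.hom Y.hom))
    haveI : IsLocallyNoetherian (X ⊗ Y).left := LocallyOfFiniteType.isLocallyNoetherian φ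
    haveI : GeometricallyIntegral φ := inferInstanceAs (GeometricallyIntegral (pullback.fst X.hom Y.hom))
    haveI : Flat φ := inferInstanceAs (Flat (pullback.fst X.hom Y.hom))
    have hfib : ∀ z : ↥X.left, IsIntegral (φ.fiber z) := fun z => by
      haveI := (GeometricallyIntegral.iff_geometricallyIntegral_fiber φ).1 inferInstance z
      haveI : Subsingleton ↥(Spec (X.left.residueField z)) :=
        inferInstanceAs (Subsingleton (PrimeSpectrum (X.left.residueField z)))
      exact GeometricallyIntegral.isIntegral_of_subsingleton (φ.fiberToSpecResidueField z)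
    have hgen : Nonempty ((Scheme.Modules.pullback (φ.fiberι (genericPoint ↥X.left))).obj L ≅
        Coh.structureModule (φ.fiber (genericPoint ↥X.left))) := by
      let gp := genericPoint ↥X.left
      let t := φ.fiberι gp
      have hηU : gp ∈ U := ((genericPoint_spec X.left).mem_open_set_iff U.2).2 (by simpa using hU)
      let tU : φ.fiber gp ⟶ (U : Scheme.{u}) := IsOpenImmersion.lift U.ι (t ≫ φ) (by
        rintro _ ⟨z, rfl⟩
        rw [Scheme.Opens.range_ι]
        have h1 : t z ∈ φ ⁻¹' {gp} := by rw [← φ.range_fiberι]; exact ⟨z, rfl⟩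
        show φ (t z) ∈ U
        rw [Set.mem_singleton_iff.1 h1]
        exact hηU)
      have htU : tU ≫ U.ι = t ≫ φ := IsOpenImmersion.lift_fac _ _ _
      let m : φ.fiber gp ⟶ pullback Y.hom h := pullback.lift (t ≫ (snd X Y).left) (tU ≫ e.hom) (by
        simp only [h, Category.assoc]
        rw [he, ← Category.assoc tU, htU, Category.assoc]
        congr 1
        exact (Over.w (snd X Y)).trans (Over.w (fst X Y)).symm)
      have hm : m ≫ Φ = t := by
        apply pullback.hom_ext
        · simp only [m, Φ, Category.assoc, pullback.lift_fst, pullback.lift_snd_assoc, Iso.hom_inv_id_assoc]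
          exact htU
        · simp only [m, Φ, Category.assoc, pullback.lift_snd, pullback.lift_fst]
          rfl
      letI := PicInf.law (φ.fiber gp)
      have hpm := PicInf.pullMul t
      have e1 : PicGrp.pullHom t hpm c = PicGrp.pullHom t hpm (PicGrp.pullHom (snd X Y).left h₂ d') := by
        apply Subtype.ext
        show PicF.pullCl t c.1 = PicF.pullCl t (PicF.pullCl (snd X Y).left d)
        rw [← hm, ← pullCl_pullCl, ← hdc, pullCl_pullCl, pullCl_pullCl]
        congr 1
        rw [Category.assoc]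
        congr 1
        exact (pullback.lift_snd _ _ _).symm
      have e2 : PicGrp.pullHom t hpm c' = 1 := by
        rw [map_mul, map_inv, e1, mul_inv_cancel]
      rw [hcL, PicGrp.pullHom_cls] at e2
      exact (PicGrp.cls_eq_one_iff _).1 e2
    obtain ⟨N, hN, ⟨ψ⟩⟩ := Groth.Agent.S8883.result φ hX hfib (Or.inr inferInstance) L hL hgen
    refine ⟨(PicGrp.cls N hN, d'), ?_⟩
    show PicGrp.pullHom _ h₁ (PicGrp.cls N hN) * PicGrp.pullHom _ h₂ d' = c
    have e3 : PicGrp.pullHom (fst X Y).left h₁ (PicGrp.cls N hN) = c' := by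
      rw [hcL, PicGrp.pullHom_cls]
      exact (PicGrp.cls_eq_cls_iff _ _).2 ⟨ψ.symm⟩
    rw [e3]
    exact inv_mul_cancel_right c _

end Groth.Agent.S16120
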