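import Groth.Statements.S16124
import Groth.Agent.S4414
import Groth.Agent.S2336
import Groth.Agent.S7388
import Groth.Agent.S7389

set_option autoImplicit false
universe u
open CategoryTheory MonoidalCategory CartesianMonoidalCategory MonObj GrpObj AlgebraicGeometry CategoryTheory.Limits
open AlgGrp

namespace Groth.Agent.S16124

private theorem exists_affine {k : Type u} [Field k] {X : Scheme.{u}} (f : X ⟶ Spec (CommRingCat.of k))
    (hf : RelProj.IsQuasiProjective f) (E : Set X) (hE : E.Finite) : ∃ U : X.Opens, IsAffineOpen U ∧ E ⊆ U := by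
  haveI : (Spec (CommRingCat.of k)).IsSeparated := inferInstance
  obtain ⟨-, -, r, i, hi, -⟩ := (S4414.result ⟨_, (S2336.result (Spec (CommRingCat.of k))).1 inferInstance⟩ f).1 hf
  haveI := hi
  let p : CohB1.ProjSpaceOver r (Spec (CommRingCat.of k)) ⟶ Proj (CohB1.polyGrading r (ULift.{u} ℤ)) := Limits.pullback.fst (CohB1.ProjSpace.toSpec r (ULift.{u} ℤ)) (specULiftZIsTerminal.from (Spec (CommRingCat.of k)))
  haveI : IsAffineHom (specULiftZIsTerminal.from (Spec (CommRingCat.of k))) := isAffineHom_of_isAffine _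
  haveI : IsAffineHom p := MorphismProperty.pullback_fst _ _ ‹IsAffineHom (specULiftZIsTerminal.from (Spec (CommRingCat.of k)))›
  obtain ⟨U, hU, hsub⟩ := S7388.result _ (𝟙 _) ((i ≫ p) '' E) (hE.image _)
  haveI : IsAffine (p ⁻¹ᵁ U : Scheme.{u}) := hU.preimage p
  obtain ⟨W, hW, hWE⟩ := S7389.result (i ∣_ (p ⁻¹ᵁ U)) ((i ⁻¹ᵁ (p ⁻¹ᵁ U)).ι ⁻¹' E)
    (hE.preimage (Scheme.Opens.ι _).isOpenEmbedding.injective.injOn)
  refine ⟨(Scheme.Opens.ι _) ''ᵁ W, hW.image_of_isOpenImmersion _, fun e he => ?_⟩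
  exact ⟨⟨e, hsub ⟨e, he, rfl⟩⟩, hWE he, rfl⟩

/-- Over an algebraically closed field k, let X be a quasi-projective variety (a reduced separated
k-scheme, quasi-projective over k) with an action of a finite group Γ by k-automorphisms. Then X is
covered by Γ-stable affine open subschemes: every point x of X lies in an affine open U with σ⁻¹(U)
= U for every σ in Γ. -/
theorem result (k : Type u) [Field k] [IsAlgClosed k]
    (X : Over (Spec (CommRingCat.of k))) [IsReduced X.left] [IsSeparated X.hom] (hX : RelProj.IsQuasiProjective X.hom)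
    (Γgrp : Type u) [Group Γgrp] [Finite Γgrp] (ρ : Γgrp →* Aut X.left)
    (hρ : ∀ σ : Γgrp, (ρ σ).hom ≫ X.hom = X.hom) (x : ↥X.left) :
    ∃ U : X.left.Opens, x ∈ U ∧ IsAffineOpen U ∧ ∀ σ : Γgrp, (ρ σ).hom ⁻¹ᵁ U = U := by
  obtain ⟨U, hU, hUsub⟩ := exists_affine X.hom hX (Set.range fun σ : Γgrp => (ρ σ).hom x) (Set.finite_range _)
  haveI : X.left.IsSeparated := ⟨by
    rw [show Limits.terminal.from X.left = X.hom ≫ Limits.terminal.from _ from Limits.terminal.hom_ext _ _]; infer_instance⟩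
  refine ⟨⨅ σ : Γgrp, (ρ σ).hom ⁻¹ᵁ U, ?_, IsAffineOpen.iInf fun σ => hU.preimage_of_isIso _, fun τ => ?_⟩
  · rw [← SetLike.mem_coe, TopologicalSpace.Opens.coe_iInf, Set.mem_iInter]
    exact fun σ => hUsub ⟨σ, rfl⟩
  · apply TopologicalSpace.Opens.ext
    ext y
    simp only [TopologicalSpace.Opens.map_coe, Set.mem_preimage, TopologicalSpace.Opens.coe_iInf, Set.mem_iInter]
    have h : ∀ σ : Γgrp, (ρ σ).hom ((ρ τ).hom y) = (ρ (σ * τ)).hom y := fun σ => by
      rw [map_mul, ← Scheme.Hom.comp_apply]; rfl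
    constructor
    · intro hy σ
      have := hy (σ * τ⁻¹)
      rwa [h, inv_mul_cancel_right] at this
    · intro hy σ
      rw [h]; exact hy _

end Groth.Agent.S16124
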