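import Groth.Statements.S16126
import Groth.Agent.CentralCharLib.Main

set_option autoImplicit false
set_option backward.isDefEq.respectTransparency false
set_option backward.isDefEq.respectTransparency.types false
set_option maxHeartbeats 1000000
set_option synthInstance.maxHeartbeats 400000
universe u
open CategoryTheory MonoidalCategory CartesianMonoidalCategory MonObj GrpObj AlgebraicGeometry CategoryTheory.Limits
open AlgGrp

attribute [-instance] CategoryTheory.Hom.commGroup

namespace Groth.Agent.S16126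

theorem conj_pow {D : Type*} [Category D] [CartesianMonoidalCategory D] {G H : D} [MonObj G] [MonObj H] (e : G ≅ H)
    [IsMonHom e.inv] (n : ℕ) : e.hom ≫ (𝟙 H ^ n) ≫ e.inv = 𝟙 G ^ n := by
  rw [MonObj.pow_comp, MonObj.comp_pow, Category.id_comp, Iso.hom_inv_id]

theorem comp_id_pow {D : Type*} [Category D] [CartesianMonoidalCategory D] {T G : D} [MonObj G] (t : T ⟶ G) (n : ℕ) :
    t ≫ (𝟙 G ^ n) = t ^ n := by
  rw [MonObj.comp_pow, Category.comp_id]

/-- Over an algebraically closed field k, let E and G be linear algebraic groups (affine smooth k-group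
schemes) with G connected, i : 𝔾_m → E a homomorphism which is a closed immersion with central
image, and f : E → G a flat surjective homomorphism with kernel i (a central extension 1 → 𝔾_m → E →
G → 1). Then there exist a character χ : E → 𝔾_m and an integer n ≥ 1 such that χ ∘ i is the n-th
power map of 𝔾_m: for every point t of 𝔾_m with values in a k-scheme T, χ(i(t)) = tⁿ in the group of
T-points of 𝔾_m. (The published lemma is stated in a setting where all groups are linear; for a
connected G that is not linear the conclusion can fail.) -/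
theorem result (k : Type u) [Field k] [IsAlgClosed k]
    (E G : Over (Spec (CommRingCat.of k))) [GrpObj E] [IsAffine E.left] [Smooth E.hom]
    [GrpObj G] [IsAffine G.left] [Smooth G.hom] [ConnectedSpace ↥G.left]
    (i : Red.Gm (Spec (CommRingCat.of k)) ⟶ E) [IsMonHom i] [IsClosedImmersion i.left]
    (hcent : ∀ (T : Over (Spec (CommRingCat.of k))) (t : T ⟶ Red.Gm (Spec (CommRingCat.of k))) (g : T ⟶ E),
      (t ≫ i) * g = g * (t ≫ i))
    (f : E ⟶ G) [IsMonHom f] [Flat f.left] [Surjective f.left] (hker : AlgGrp.IsKernel i f) :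
    ∃ (χ : E ⟶ Red.Gm (Spec (CommRingCat.of k))) (n : ℕ), IsMonHom χ ∧ 1 ≤ n ∧
      ∀ (T : Over (Spec (CommRingCat.of k))) (t : T ⟶ Red.Gm (Spec (CommRingCat.of k))), (t ≫ i) ≫ χ = t ^ n := by
  obtain ⟨A, _, _, ⟨e⟩⟩ := TorusField.exists_hopf k E
  let eE : MuGLLib.W k A ≅ E := (Grp.forget _).mapIso e
  haveI : IsMonHom eE.hom := e.hom.hom.isMonHom_hom
  haveI : IsMonHom eE.inv := e.inv.hom.isMonHom_hom
  let eg := TorusField.dsIso k ℤ
  let eG : Red.Gm (Spec (CommRingCat.of k)) ≅ MuGLLib.WC k (Multiplicative ℤ) := (Grp.forget _).mapIso eg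
  haveI : IsMonHom eG.hom := eg.hom.hom.isMonHom_hom
  haveI : IsMonHom eG.inv := eg.inv.hom.isMonHom_hom
  haveI : Algebra.FiniteType k A := by
    have h : LocallyOfFiniteType (MuGLLib.W k A).hom := by
      rw [← Over.w eE.hom]
      infer_instance
    have h' : LocallyOfFiniteType (Spec.map (CommRingCat.ofHom (algebraMap k A))) := h
    rw [HasRingHomProperty.Spec_iff (P := @LocallyOfFiniteType)] at h'
    exact RingHom.finiteType_algebraMap.1 h'
  obtain ⟨m, π, hπ⟩ := HopfFF.exists_surjective_GLn (k := k) (A := A)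
  let d : MuGLLib.WC k (Multiplicative ℤ) ⟶ MuGLLib.W k A := eG.inv ≫ i ≫ eE.inv
  haveI : Mono i := (Over.forget _).mono_of_mono_map (inferInstanceAs (Mono i.left))
  haveI : IsMonHom d := inferInstanceAs (IsMonHom (eG.inv ≫ i ≫ eE.inv))
  haveI : Mono d := inferInstanceAs (Mono (eG.inv ≫ i ≫ eE.inv))
  obtain ⟨χ, n, hχ, hn, h⟩ := CentralCharLib.exists_char π hπ d (fun T t g => by
    have := congrArg (fun z => z ≫ eE.inv) (hcent T (t ≫ eG.inv) (g ≫ eE.hom))
    simpa [MonObj.mul_comp, d] using this)
  refine ⟨eE.inv ≫ χ ≫ eG.inv, n, inferInstance, hn, fun T t => ?_⟩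
  have h' : i ≫ eE.inv ≫ χ ≫ eG.inv = 𝟙 (Red.Gm (Spec (CommRingCat.of k))) ^ n := by
    have h1 : i ≫ eE.inv ≫ χ ≫ eG.inv = eG.hom ≫ (d ≫ χ) ≫ eG.inv := by simp [d]
    rw [h1, h]
    exact conj_pow eG n
  exact (Category.assoc _ _ _).trans ((congrArg (fun z => t ≫ z) h').trans (comp_id_pow t n))

end Groth.Agent.S16126
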