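import Groth.Statements.S16127
import Mathlib

set_option autoImplicit false
universe u
open CategoryTheory MonoidalCategory CartesianMonoidalCategory MonObj GrpObj AlgebraicGeometry CategoryTheory.Limits
open AlgGrp

namespace Groth.Agent.S16127

/-- Over an algebraically closed field k, let G be an algebraic group (a smooth k-group scheme of finite
type) acting by σ on a variety X, and let f : X → Y be a principal G-bundle over a variety Y (X, Y
reduced separated k-schemes of finite type; f flat and surjective, the square σ, p₂ : G × X → X, f,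
f cartesian). Then f^* identifies Γ(Y, O_Y) with the invariants Γ(X, O_X)^G: f^* on global sections
is injective and its range is the set of global functions s on X with σ^*(s) = p₂^*(s). -/
theorem result (k : Type u) [Field k] [IsAlgClosed k]
    (G X Y : Over (Spec (CommRingCat.of k))) [GrpObj G] [Smooth G.hom] [QuasiCompact G.hom]
    [IsReduced X.left] [IsSeparated X.hom] [LocallyOfFiniteType X.hom] [QuasiCompact X.hom]
    [IsReduced Y.left] [IsSeparated Y.hom] [LocallyOfFiniteType Y.hom] [QuasiCompact Y.hom]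
    (a : AlgGrp.Action G X) (f : X ⟶ Y) [Flat f.left] [Surjective f.left]
    (hsq : IsPullback a.act.left (snd G X).left f.left f.left) :
    Function.Injective (f.left.appTop) ∧
      Set.range (f.left.appTop) = {s : Γ(X.left, ⊤) | a.act.left.appTop s = (snd G X).left.appTop s} := by
  haveI : IsLocallyNoetherian Y.left := LocallyOfFiniteType.isLocallyNoetherian Y.hom
  haveI : LocallyOfFiniteType f.left := by
    haveI : LocallyOfFiniteType (f.left ≫ Y.hom) := by rw [Over.w f]; infer_instance
    exact locallyOfFiniteType_of_comp f.left Y.hom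
  haveI : LocallyOfFinitePresentation f.left := LocallyOfFinitePresentation.iff_locallyOfFiniteType.mpr inferInstance
  haveI : EffectiveEpi f.left := inferInstance
  let φ : ∀ {Z : Scheme.{u}}, Γ(Z, ⊤) → (Z ⟶ Spec (CommRingCat.of (MvPolynomial PUnit.{u + 1} (ULift.{u} ℤ)))) :=
    fun {Z} s => (AffineSpace.toSpecMvPolyIntEquiv PUnit.{u + 1}).symm fun _ => s
  have hφ : ∀ {Z : Scheme.{u}} (s : Γ(Z, ⊤)), AffineSpace.toSpecMvPolyIntEquiv PUnit.{u + 1} (φ s) PUnit.unit = s :=
    fun s => congrFun ((AffineSpace.toSpecMvPolyIntEquiv PUnit.{u + 1}).apply_symm_apply _) _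
  have hcomp : ∀ {Z Z' : Scheme.{u}} (g : Z' ⟶ Z) (s : Γ(Z, ⊤)), g ≫ φ s = φ (g.appTop.hom s) := by
    intro Z Z' g s
    apply (AffineSpace.toSpecMvPolyIntEquiv PUnit.{u + 1}).injective
    funext i
    rw [AffineSpace.toSpecMvPolyIntEquiv_comp, hφ, hφ]
  have hw : a.act.left ≫ f.left = (snd G X).left ≫ f.left := hsq.w
  refine ⟨fun s t hst => ?_, Set.ext fun s => ⟨?_, fun hs => ?_⟩⟩
  · have h1 : f.left ≫ φ s = f.left ≫ φ t := by rw [hcomp, hcomp]; exact congrArg φ hst
    rw [← hφ s, ← hφ t, (cancel_epi f.left).1 h1]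
  · rintro ⟨t, rfl⟩
    show a.act.left.appTop.hom (f.left.appTop.hom t) = (snd G X).left.appTop.hom (f.left.appTop.hom t)
    rw [← ConcreteCategory.comp_apply, ← ConcreteCategory.comp_apply, ← Scheme.Hom.comp_appTop,
      ← Scheme.Hom.comp_appTop, hw]
  · obtain ⟨d, hd⟩ : ∃ d, f.left ≫ d = φ s := ⟨EffectiveEpi.desc f.left (φ s) (fun {Z} g₁ g₂ hg => by
      obtain ⟨l, hl1, hl2⟩ := hsq.exists_lift g₁ g₂ hg
      rw [← hl1, ← hl2, Category.assoc, Category.assoc, hcomp a.act.left, hcomp (snd G X).left]
      exact congrArg (fun z => l ≫ φ z) hs), EffectiveEpi.fac _ _ _⟩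
    refine ⟨AffineSpace.toSpecMvPolyIntEquiv PUnit.{u + 1} d PUnit.unit, ?_⟩
    rw [← hφ s, ← hd, AffineSpace.toSpecMvPolyIntEquiv_comp]

end Groth.Agent.S16127
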