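import Groth.Statements.S16129
import Groth.Agent.SubBundleLib.Main

set_option autoImplicit false
set_option backward.isDefEq.respectTransparency false
set_option backward.isDefEq.respectTransparency.types false
universe u
open CategoryTheory MonoidalCategory CartesianMonoidalCategory MonObj GrpObj AlgebraicGeometry CategoryTheory.Limits
open AlgGrp

namespace Groth.Agent.S16129

/-- Over an algebraically closed field k, let G be a linear algebraic group (an affine smooth k-group
scheme), h : H → G a closed subgroup (H a smooth k-group scheme, h a homomorphism and a closed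
immersion), and f : X → Y a principal G-bundle between varieties (X, Y reduced separated k-schemes
of finite type; σ the action; f flat and surjective with the square σ, p₂, f, f cartesian). Then f
factors as f = ψ ∘ φ where φ : X → Z is a principal H-bundle for the action of H on X through h (Z a
reduced separated k-scheme of finite type; φ flat surjective with the corresponding cartesian
square) and ψ : Z → Y is smooth and surjective. (The published statement adds that the factorization
is unique, that the fibres of ψ are isomorphic to G/H, and that ψ is a G/H-bundle when H is normal;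
these are not stated here.) -/
theorem result (k : Type u) [Field k] [IsAlgClosed k]
    (G H X Y : Over (Spec (CommRingCat.of k))) [GrpObj G] [IsAffine G.left] [Smooth G.hom]
    [GrpObj H] [Smooth H.hom] [QuasiCompact H.hom] (h : H ⟶ G) [IsMonHom h] [IsClosedImmersion h.left]
    [IsReduced X.left] [IsSeparated X.hom] [LocallyOfFiniteType X.hom] [QuasiCompact X.hom]
    [IsReduced Y.left] [IsSeparated Y.hom] [LocallyOfFiniteType Y.hom] [QuasiCompact Y.hom]
    (a : AlgGrp.Action G X) (f : X ⟶ Y) [Flat f.left] [Surjective f.left]
    (hsq : IsPullback a.act.left (snd G X).left f.left f.left) :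
    ∃ (Z : Over (Spec (CommRingCat.of k))) (φ : X ⟶ Z) (ψ : Z ⟶ Y),
      IsReduced Z.left ∧ IsSeparated Z.hom ∧ LocallyOfFiniteType Z.hom ∧ QuasiCompact Z.hom ∧
      φ ≫ ψ = f ∧ Flat φ.left ∧ Surjective φ.left ∧
      IsPullback (a.restrict h).act.left (snd H X).left φ.left φ.left ∧ Smooth ψ.left ∧ Surjective ψ.left := by
  have hcart : IsPullback a.act (snd G X) f f := IsPullback.of_map_of_faithful (Over.forget _) hsq
  obtain ⟨Z, φ, ψ, h1, h2, h3, h4, h5, h6, h7, h8, h9, h10⟩ := Groth.Agent.SubBundle.exists_factor h a f hcart
  exact ⟨Z, φ, ψ, h1, h2, h3, h4, h5, h6, h7, h8.map (Over.forget _), h9, h10⟩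

end Groth.Agent.S16129
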