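import Groth.Statements.S1613
import Groth.Agent.CurveFF.Sections

set_option autoImplicit false
universe u
open CategoryTheory CategoryTheory.Limits AlgebraicGeometry
open Curves

namespace Groth.Agent.S1613

/-- Let X be a smooth proper connected curve over an algebraically closed field k, of genus g ≥ 2. Then
every O_X-linear map from the sheaf of differentials Ω_{X/k} to O_X is zero (X has no nonzero
k-derivations of its structure sheaf). -/
theorem result (k : Type u) [Field k] [IsAlgClosed k] (X : Scheme.{u}) [X.Over (Spec (CommRingCat.of k))]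
    (hX : Curve.IsSmoothProperCurve k X (X ↘ (Spec (CommRingCat.of k)))) (hg : 2 ≤ Curv2.genus k X)
    (θ : Omega.sheaf (X ↘ (Spec (CommRingCat.of k))) ⟶ Coh.structureModule X) : θ = 0 := by
  obtain ⟨h1, h2, h3, h4⟩ := hX
  haveI := Groth.Agent.VBLib.isRegCurve_of_smooth k h4.le
  by_contra hne
  have h5 := (Groth.Agent.CurveLib.deg_le_of_ne_zero (k := k) h4.le (Groth.Agent.CurveFF.omega_invertible k h4)
    Groth.Agent.ParaFLib.isInvertible_structureModule hne).1
  rw [Groth.Agent.CurveLib.deg_structureModule, Groth.Agent.CurveFF.omega_deg k h4] at h5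
  omega

end Groth.Agent.S1613
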