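import Groth.Statements.S16132
import Groth.Agent.TorusQuotLib.CharsTrivial

set_option autoImplicit false
set_option backward.isDefEq.respectTransparency.types false
universe u
open CategoryTheory MonoidalCategory CartesianMonoidalCategory MonObj GrpObj AlgebraicGeometry CategoryTheory.Limits
open AlgGrp

namespace Groth.Agent.S16132

/-- Over an algebraically closed field k, let G be a connected algebraic group (a smooth connected
k-group scheme of finite type, not necessarily affine). Then G has a largest torus quotient through
which all characters factor: there are a torus T (isomorphic to the diagonalizable group of ℤ^r for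
some r), a flat surjective homomorphism q : G → T such that every character χ : G → 𝔾_m is χ' ∘ q
for some character χ' of T, and a kernel h : H → G of q (a homomorphism from a k-group scheme H
making the square against the unit section of T cartesian) with H connected and every character of H
trivial. (So H is the smallest closed normal subgroup scheme of G with G/H a torus, and restriction
identifies the characters of G/H with those of G.) -/
theorem result (k : Type u) [Field k] [IsAlgClosed k]
    (G : Over (Spec (CommRingCat.of k))) [GrpObj G] [Smooth G.hom] [QuasiCompact G.hom] [ConnectedSpace ↥G.left] :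
    ∃ (r : ℕ) (T : Over (Spec (CommRingCat.of k))) (_ : GrpObj T) (_ : Red.IsSplitTorusWith (Fin r → ℤ) T)
      (q : G ⟶ T) (_ : IsMonHom q) (H : Over (Spec (CommRingCat.of k))) (_ : GrpObj H) (h : H ⟶ G) (_ : IsMonHom h),
      Flat q.left ∧ Surjective q.left ∧ AlgGrp.IsKernel h q ∧ ConnectedSpace ↥H.left ∧
      (∀ χ : G ⟶ Red.Gm (Spec (CommRingCat.of k)), IsMonHom χ → ∃ χ' : T ⟶ Red.Gm (Spec (CommRingCat.of k)), IsMonHom χ' ∧ q ≫ χ' = χ) ∧
      (∀ ψ : H ⟶ Red.Gm (Spec (CommRingCat.of k)), IsMonHom ψ → ψ = 1) := by
  obtain ⟨r, q, hq, hqf, hqs, hu⟩ := Groth.Agent.TorusQuot.exists_univ G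
  haveI := hq; haveI := hqf; haveI := hqs
  haveI : LocallyOfFiniteType (Red.DS (Spec (CommRingCat.of k)) (Fin r → ℤ)).hom :=
    Groth.Agent.MonoFibre.locallyOfFiniteType_DS _ _ inferInstance
  obtain ⟨H, hH, h, hh, hhc, hker⟩ := Groth.Agent.TorusQuot.exists_kernel q
  letI := hH
  haveI := hh; haveI := hhc
  refine ⟨r, _, inferInstance, ⟨Iso.refl _⟩, q, hq, H, hH, h, hh, hqf, hqs, hker,
    Groth.Agent.TorusQuot.connectedSpace_kernel G q h hker hu, fun χ hχ => ?_, fun ψ hψ => ?_⟩
  · obtain ⟨m, hm⟩ := hu χ hχ
    exact ⟨_, Groth.Agent.DSMapLib.isMonHom_DSmap _ _, hm⟩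
  · haveI := hψ
    exact Groth.Agent.TorusQuot.char_eq_one G q h hker hu ψ

end Groth.Agent.S16132
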