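import Groth.Statements.S16133
import Groth.Agent.AssocBundleLib.Torsor
import Groth.Agent.FinGrpdLib.Perfect
import Groth.Agent.FpqcDesc.Stalk

set_option autoImplicit false
set_option backward.isDefEq.respectTransparency false
set_option backward.isDefEq.respectTransparency.types false
universe u
open CategoryTheory MonoidalCategory CartesianMonoidalCategory MonObj GrpObj AlgebraicGeometry CategoryTheory.Limits
open AlgGrp

namespace Groth.Agent.S16133

/-- Over an algebraically closed field k, let G be an algebraic group (a smooth k-group scheme of finite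
type), f : X → Y a principal G-bundle between varieties (X, Y reduced separated k-schemes of finite
type; σ the action on X; f flat and surjective with the square σ, p₂, f, f cartesian), and Z an
affine variety with an action τ of G. Then the associated fibre bundle X ×^G Z → Y exists: there are
a variety W (reduced, separated, of finite type over k), a morphism φ : X × Z → W which is invariant
for the diagonal action g · (x, z) = (g · x, g · z), and a morphism ψ : W → Y such that the square
formed by p₁ : X × Z → X, φ, f and ψ is cartesian. (The published statement covers every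
G-quasi-projective Z; affine G-varieties are G-quasi-projective, and only that case is stated here.) -/
theorem result (k : Type u) [Field k] [IsAlgClosed k]
    (G X Y Z : Over (Spec (CommRingCat.of k))) [GrpObj G] [Smooth G.hom] [QuasiCompact G.hom]
    [IsReduced X.left] [IsSeparated X.hom] [LocallyOfFiniteType X.hom] [QuasiCompact X.hom]
    [IsReduced Y.left] [IsSeparated Y.hom] [LocallyOfFiniteType Y.hom] [QuasiCompact Y.hom]
    [IsReduced Z.left] [IsAffine Z.left] [LocallyOfFiniteType Z.hom]
    (a : AlgGrp.Action G X) (f : X ⟶ Y) [Flat f.left] [Surjective f.left]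
    (hsq : IsPullback a.act.left (snd G X).left f.left f.left) (b : AlgGrp.Action G Z) :
    ∃ (W : Over (Spec (CommRingCat.of k))) (φ : X ⊗ Z ⟶ W) (ψ : W ⟶ Y),
      IsReduced W.left ∧ IsSeparated W.hom ∧ LocallyOfFiniteType W.hom ∧ QuasiCompact W.hom ∧
      lift ((G ◁ fst X Z) ≫ a.act) ((G ◁ snd X Z) ≫ b.act) ≫ φ = snd G (X ⊗ Z) ≫ φ ∧
      IsPullback (fst X Z).left φ.left f.left ψ.left := by
  have hcart : IsPullback a.act (snd G X) f f := IsPullback.of_map_of_faithful (Over.forget _) hsq
  haveI : QuasiCompact (f.left ≫ Y.hom) := by rw [Over.w f]; infer_instance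
  haveI : QuasiCompact f.left := QuasiCompact.of_comp f.left Y.hom
  haveI : Groth.Agent.SchDesc.IsFpqc f.left := Groth.Agent.SchDesc.IsFpqc.of_quasiCompact f.left
  haveI : IsAffineHom Z.hom := inferInstance
  haveI := Groth.Agent.AssocBundle.isAffineHom_fst X Z
  haveI : LocallyOfFiniteType (fst X Z).left :=
    MorphismProperty.pullback_fst (P := @LocallyOfFiniteType) X.hom Z.hom ‹_›
  obtain ⟨W, q, r, hqr, hW, hq, hc⟩ :=
    Groth.Agent.AssocBundle.exists_quotient hcart (fst X Z) (a.prod b) (Groth.Agent.AssocBundle.prod_act_fst a b)
  haveI := hq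
  have hsnd : pullback.snd r.left f.left = (pullbackSymmetry r.left f.left).hom ≫ hW.isoPullback.inv ≫ (fst X Z).left := by
    rw [hW.isoPullback_inv_fst, pullbackSymmetry_hom_comp_fst]
  haveI : IsAffineHom r.left := Groth.Agent.TorsorDesc.prop_of_isFpqc @IsAffineHom
    Groth.Agent.FpqcDesc.isAffineHom_descends r.left f.left (by rw [hsnd]; infer_instance)
  haveI : LocallyOfFiniteType r.left := Groth.Agent.TorsorDesc.prop_of_isFpqc @LocallyOfFiniteType
    inferInstance r.left f.left (by rw [hsnd]; infer_instance)
  haveI : IsReduced (X ⊗ Z).left :=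
    Groth.Agent.FinGrpdLib.isReduced_pullback (Iso.refl _) X.hom Z.hom
  refine ⟨W, q, r, Groth.Agent.FlatDescStalk.isReduced_of_flat_surjective q.left, ?_, ?_, ?_, ?_, hW⟩
  · rw [← Over.w r]; infer_instance
  · rw [← Over.w r]; infer_instance
  · rw [← Over.w r]; infer_instance
  · exact hc.w

end Groth.Agent.S16133
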