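import Groth.Statements.S16134
import Groth.Agent.SubBundleLib.Assoc
import Groth.Agent.FinGrpdLib.Perfect
import Groth.Agent.FpqcDesc.Basic
import Groth.Agent.FpqcDesc.Stalk

set_option autoImplicit false
set_option backward.isDefEq.respectTransparency false
set_option backward.isDefEq.respectTransparency.types false
universe u
open CategoryTheory MonoidalCategory CartesianMonoidalCategory MonObj GrpObj AlgebraicGeometry CategoryTheory.Limits
open AlgGrp

namespace Groth.Agent.S16134

/-- Over an algebraically closed field k, let G be a connected linear algebraic group (an affine,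
smooth, connected k-group scheme), f : X → Y a principal G-bundle between varieties (X, Y reduced
separated k-schemes of finite type; σ the action on X; f flat and surjective with the square σ, p₂,
f, f cartesian), and Z a normal irreducible variety (an integral normal separated k-scheme of finite
type) with an action τ of G. Then the associated fibre bundle X ×^G Z → Y exists: there are a
variety W (reduced, separated, of finite type over k), a morphism φ : X × Z → W invariant for the
diagonal action g · (x, z) = (g · x, g · z), and a morphism ψ : W → Y such that the square formed by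
p₁ : X × Z → X, φ, f and ψ is cartesian. (The published statement takes Z normal, possibly
reducible; it is stated here for irreducible Z.) -/
theorem result (k : Type u) [Field k] [IsAlgClosed k]
    (G X Y Z : Over (Spec (CommRingCat.of k))) [GrpObj G] [IsAffine G.left] [Smooth G.hom] [ConnectedSpace ↥G.left]
    [IsReduced X.left] [IsSeparated X.hom] [LocallyOfFiniteType X.hom] [QuasiCompact X.hom]
    [IsReduced Y.left] [IsSeparated Y.hom] [LocallyOfFiniteType Y.hom] [QuasiCompact Y.hom]
    [IsIntegral Z.left] [IsSeparated Z.hom] [LocallyOfFiniteType Z.hom] [QuasiCompact Z.hom] (hZ : Pi1.IsNormalScheme Z.left)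
    (a : AlgGrp.Action G X) (f : X ⟶ Y) [Flat f.left] [Surjective f.left]
    (hsq : IsPullback a.act.left (snd G X).left f.left f.left) (b : AlgGrp.Action G Z) :
    ∃ (W : Over (Spec (CommRingCat.of k))) (φ : X ⊗ Z ⟶ W) (ψ : W ⟶ Y),
      IsReduced W.left ∧ IsSeparated W.hom ∧ LocallyOfFiniteType W.hom ∧ QuasiCompact W.hom ∧
      lift ((G ◁ fst X Z) ≫ a.act) ((G ◁ snd X Z) ≫ b.act) ≫ φ = snd G (X ⊗ Z) ≫ φ ∧
      IsPullback (fst X Z).left φ.left f.left ψ.left := by
  have hcart : IsPullback a.act (snd G X) f f := IsPullback.of_map_of_faithful (Over.forget _) hsq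
  obtain ⟨W, q, r, hqr, hW, hq, hc⟩ := Groth.Agent.SubBundle.exists_assocBundle a f hcart b
  haveI := hq
  haveI : QuasiCompact (f.left ≫ Y.hom) := by rw [Over.w f]; infer_instance
  haveI : QuasiCompact f.left := QuasiCompact.of_comp f.left Y.hom
  haveI : Groth.Agent.SchDesc.IsFpqc f.left := Groth.Agent.SchDesc.IsFpqc.of_quasiCompact f.left
  have hsnd : pullback.snd r.left f.left = (pullbackSymmetry r.left f.left).hom ≫ hW.isoPullback.inv ≫ (fst X Z).left := by
    rw [hW.isoPullback_inv_fst, pullbackSymmetry_hom_comp_fst]
  haveI : IsSeparated (fst X Z).left :=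
    MorphismProperty.pullback_fst (P := @IsSeparated) X.hom Z.hom ‹_›
  haveI : LocallyOfFiniteType (fst X Z).left :=
    MorphismProperty.pullback_fst (P := @LocallyOfFiniteType) X.hom Z.hom ‹_›
  haveI : IsSeparated r.left := Groth.Agent.TorsorDesc.prop_of_isFpqc @IsSeparated
    Groth.Agent.FpqcDesc.isSeparated_descends r.left f.left (by rw [hsnd]; infer_instance)
  haveI : LocallyOfFiniteType r.left := Groth.Agent.TorsorDesc.prop_of_isFpqc @LocallyOfFiniteType
    inferInstance r.left f.left (by rw [hsnd]; infer_instance)
  haveI : IsReduced (X ⊗ Z).left :=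
    Groth.Agent.FinGrpdLib.isReduced_pullback (Iso.refl _) X.hom Z.hom
  haveI := Groth.Agent.AssocBundle.quasiCompact_tensor X Z
  haveI : CompactSpace (X ⊗ Z).left := (quasiCompact_iff_compactSpace (X ⊗ Z).hom).mp inferInstance
  refine ⟨W, q, r, Groth.Agent.FlatDescStalk.isReduced_of_flat_surjective q.left, ?_, ?_, ?_, ?_, hW⟩
  · rw [← Over.w r]; infer_instance
  · rw [← Over.w r]; infer_instance
  · exact (quasiCompact_iff_compactSpace W.hom).mpr (q.left.surjective.compactSpace q.left.continuous)
  · exact hc.w

end Groth.Agent.S16134
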