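import Groth.Statements.S16136
import Groth.Agent.BCLib.TrivNhd
import Groth.Agent.BlowSurfLib.Gen
import Groth.Agent.GGDescLib.Main
import Groth.Agent.EtAssocLib.Compare
import Groth.Agent.QCohLib.Push
-- import your own Groth.Agent.* helpers here

set_option autoImplicit false
universe u
open CategoryTheory CategoryTheory.Limits AlgebraicGeometry
open Coh

namespace Groth.Agent.S16136

open Groth.Agent Groth.Agent.PullbackMod Groth.Agent.ParaFLib Groth.Agent.AmpleLib TopologicalSpace Opposite

set_option backward.isDefEq.respectTransparency false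
set_option backward.defeqAttrib.useBackward true
set_option linter.style.haveILetI false

variable {X : Scheme.{u}}

/-- A spanning set of a free rank one module over a local ring contains a generator. -/
theorem exists_gen_of_span {M : X.Modules} (hM : PicF.IsInvertible M) (x : X) (S : Set (M.presheaf.stalk x))
    (hS : Submodule.span (X.presheaf.stalk x) S = ⊤) :
    ∃ v ∈ S, Function.Bijective fun r : X.presheaf.stalk x => r • v := by
  obtain ⟨b, hb⟩ := exists_stalk_gen hM x
  by_contra hne
  push Not at hne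
  let l := LinearEquiv.ofBijective (LinearMap.toSpanSingleton (X.presheaf.stalk x) _ b) hb
  have hle : Submodule.span (X.presheaf.stalk x) S ≤
      Submodule.map l.toLinearMap (IsLocalRing.maximalIdeal (X.presheaf.stalk x)) := by
    refine Submodule.span_le.2 fun v hv => ?_
    obtain ⟨a, rfl⟩ := l.surjective v
    exact ⟨a, fun hu => hne _ hv ((AmpleLib.bijective_smul_iff hb a).2 hu), rfl⟩
  rw [hS] at hle
  obtain ⟨a, ha, hab⟩ := hle (Submodule.mem_top : l 1 ∈ ⊤)
  rw [LinearEquiv.coe_coe, l.injective.eq_iff] at hab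
  subst hab
  exact ha isUnit_one

/-- A germ generating after pullback is a generator. -/
theorem bijective_of_pull {X' : Scheme.{u}} (g : X' ⟶ X) {M : X.Modules} [Coh.IsQCoh M]
    (hM : PicF.IsInvertible M) (z : X') (v : M.presheaf.stalk (g z))
    (h : Function.Bijective fun r : X'.presheaf.stalk z => r • pullStalk g M z v) :
    Function.Bijective fun r : X.presheaf.stalk (g z) => r • v := by
  obtain ⟨b, hb⟩ := exists_stalk_gen hM (g z)
  obtain ⟨a, rfl⟩ := hb.2 v
  refine (AmpleLib.bijective_smul_iff hb a).2 ?_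
  rw [pullStalk_smul] at h
  exact isUnit_of_map_unit (g.stalkMap z).hom a
    ((AmpleLib.bijective_smul_iff (AmpleLib.bijective_pullStalk g z hb) _).1 h)

/-- The key step at a point over a closed point of the base. -/
theorem exists_gen_of_fibre {Y : Scheme.{u}} (f : X ⟶ Y) [IsProper f] [Flat f] [IsLocallyNoetherian Y]
    {L : X.Modules} (hL : PicF.IsInvertible L) {W : Y.Opens} (hW : IsAffineOpen W) (q : Spec Γ(Y, W))
    (h1 : Subsingleton (Coh.HH (f.fiber (hW.fromSpec q)) ((Scheme.Modules.pullback (f.fiberι (hW.fromSpec q))).obj L) 1))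
    (hgg : Curv2.IsGloballyGenerated ((Scheme.Modules.pullback (f.fiberι (hW.fromSpec q))).obj L))
    (x : X) (hx : f x = hW.fromSpec q) :
    ∃ (hxW : x ∈ f ⁻¹ᵁ W) (s : Γ(L, f ⁻¹ᵁ W)),
      Function.Bijective fun r : X.presheaf.stalk x => r • L.presheaf.germ (f ⁻¹ᵁ W) x hxW s := by
  haveI : IsLocallyNoetherian X := LocallyOfFiniteType.isLocallyNoetherian f
  haveI := InvExt.isQCoh_of_isInvertible hL
  have hxW : x ∈ f ⁻¹ᵁ W := show f x ∈ W by rw [hx]; exact hW.range_fromSpec.le ⟨q, rfl⟩
  refine ⟨hxW, ?_⟩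
  let U : Scheme.{u} := (f ⁻¹ᵁ W : X.Opens)
  let j : U ⟶ X := (f ⁻¹ᵁ W).ι
  let π : U ⟶ Spec Γ(Y, W) := BCLib.restOver f hW
  letI : U.Over (Spec (CommRingCat.of Γ(Y, W))) := ⟨π⟩
  haveI : IsNoetherianRing Γ(Y, W) := IsLocallyNoetherian.component_noetherian ⟨W, hW⟩
  haveI hpr : IsProper π := BCLib.isProper_restOver f hW
  haveI : IsProper (FormalLib.str Γ(Y, W) U) := hpr
  haveI hfl : Flat π := MorphismProperty.of_isPullback (BCLib.isPullback_restOver f hW) inferInstance
  haveI : Flat (FormalLib.str Γ(Y, W) U) := hfl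
  haveI : IsLocallyNoetherian U := LocallyOfFiniteType.isLocallyNoetherian π
  let P : U.Modules := BCLib.restMod f L
  have hP : PicF.IsInvertible P := AmpleLib.isInvertible_pullback j hL
  haveI := InvExt.isQCoh_of_isInvertible hP
  let F := (Scheme.Modules.pullback (π.fiberι q)).obj P
  have hF : PicF.IsInvertible F := AmpleLib.isInvertible_pullback _ hP
  have hrank : CohIII.fiberRank π P 1 q = 0 := by
    rw [BCLib.fiberRank_restOver f hW L 1 q]
    letI : (f.fiber (hW.fromSpec q)).Over (Spec (CommRingCat.of (Y.residueField (hW.fromSpec q)))) :=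
      ⟨f.fiberToSpecResidueField (hW.fromSpec q)⟩
    haveI : Subsingleton (CohIII.fiberH f L (hW.fromSpec q) 1) := h1
    exact Module.finrank_zero_of_subsingleton
  haveI : Coh.IsQCoh ((Scheme.Modules.pullback (f.fiberι (hW.fromSpec q))).obj L) :=
    InvExt.isQCoh_of_isInvertible (AmpleLib.isInvertible_pullback _ hL)
  have hFgg : Curv2.IsGloballyGenerated F :=
    AmpleLib.isGloballyGenerated_of_iso
      ((Scheme.Modules.pullbackComp (BCLib.fiberRestMap f hW q) (f.fiberι (hW.fromSpec q))).app L ≪≫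
        (Scheme.Modules.pullbackCongr (BCLib.fiberRestMap_ι f hW q)).app L ≪≫
        ((Scheme.Modules.pullbackComp (π.fiberι q) j).app L).symm)
      (GGDescLib.isGloballyGenerated_pullback _ _ hgg)
  obtain ⟨z, hz⟩ : ∃ z, π.fiberι q z = (⟨x, hxW⟩ : U) := by
    have : (⟨x, hxW⟩ : U) ∈ Set.range (π.fiberι q) := by
      rw [π.range_fiberι q]
      refine hW.fromSpec.isOpenEmbedding.injective ?_
      show hW.fromSpec (π ⟨x, hxW⟩) = _
      rw [← Scheme.Hom.comp_apply, ← (BCLib.isPullback_restOver f hW).w, Scheme.Hom.comp_apply]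
      exact hx
    exact this
  obtain ⟨_, ⟨σ, rfl⟩, hσ⟩ := exists_gen_of_span hF z _ (BlowSurfLib.span_germ_top_eq_top hFgg z)
  obtain ⟨s, c, hc, hs⟩ := BCLib.exists_lift_fibre (R := Γ(Y, W)) (CurveLib.isCoh_of_isInvertible hP)
    (TildePerf.isFlatOver_of_isFinLocFree _ (CurveLib.isFinLocFree_of_isInvertible hP)) q hrank σ
  have hsb : Function.Bijective fun r : U.presheaf.stalk (π.fiberι q z) =>
      r • P.presheaf.germ ⊤ (π.fiberι q z) trivial s := by
    refine bijective_of_pull (π.fiberι q) hP z _ ?_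
    rw [pullStalk_germ' (π.fiberι q) P z (W := ⊤) (W' := ⊤) (Opens.mem_top _) (Opens.mem_top _) le_top]
    erw [hs]
    erw [germ_smul']
    exact (AmpleLib.bijective_smul_iff hσ _).2 (hc.map _)
  have he : (⊤ : U.Opens) ≤ j ⁻¹ᵁ (f ⁻¹ᵁ W) := fun w _ => w.2
  obtain ⟨s', rfl⟩ := (EtAssocLib.pullMap_bijective j L he (Scheme.Opens.opensRange_ι _).ge le_top).2 s
  refine ⟨s', ?_⟩
  have key : ∀ (w : U) (hw : j w ∈ f ⁻¹ᵁ W),
      (Function.Bijective fun r : U.presheaf.stalk w => r • P.presheaf.germ ⊤ w trivial (pullMap j L he s')) →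
      Function.Bijective fun r : X.presheaf.stalk (j w) => r • L.presheaf.germ (f ⁻¹ᵁ W) (j w) hw s' := by
    intro w hw hwb
    refine bijective_of_pull j hL w _ ?_
    rw [pullStalk_germ' j L w (W := f ⁻¹ᵁ W) (W' := ⊤) hw (Opens.mem_top _) he]
    exact hwb
  have key' : ∀ w : U, w = ⟨x, hxW⟩ → j w = x := fun w hw => by subst hw; rfl
  have h3 := key _ (π.fiberι q z).2 hsb
  have h4 : ∀ (y : X) (hy : y ∈ f ⁻¹ᵁ W), y = x →
      (Function.Bijective fun r : X.presheaf.stalk y => r • L.presheaf.germ (f ⁻¹ᵁ W) y hy s') →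
      Function.Bijective fun r : X.presheaf.stalk x => r • L.presheaf.germ (f ⁻¹ᵁ W) x hxW s' := by
    rintro y hy rfl h
    exact h
  exact h4 _ (π.fiberι q z).2 (key' _ hz) h3


/-- Let k be a field, Y a scheme proper over k and f : X → Y a proper flat morphism, X and Y each
carrying an ample invertible module (so both are projective over k), such that every
scheme-theoretic fibre of f is reduced. Let L be an invertible O_X-module with H^1(X, L) = 0 and
with H^i(X_y, L|_{X_y}) = 0 for every closed point y of Y and every i > 0, where X_y is the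
scheme-theoretic fibre and L|_{X_y} the module pull-back of L to it. If L|_{X_y} is globally
generated (a quotient of a free module) for every closed point y and the direct image f_*L is
globally generated on Y, then L is globally generated. (The published statement is over the complex
numbers and imposes the fibre conditions at every point; here k is any field and they are imposed at
closed points, which is what the argument uses.) -/
theorem result (k : Type u) [Field k]
    (X Y : Scheme.{u}) [Y.Over (Spec (CommRingCat.of k))] [IsProper (Y ↘ Spec (CommRingCat.of k))]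
    (hY : ∃ B : Y.Modules, CohB1.IsAmple B)
    (f : X ⟶ Y) [IsProper f] [Flat f] (hX : ∃ A : X.Modules, CohB1.IsAmple A)
    (hred : ∀ y : Y, IsReduced (f.fiber y))
    (L : X.Modules) (hL : PicF.IsInvertible L) (h1 : Subsingleton (Coh.HH X L 1))
    (h2 : ∀ y : Y, IsClosed ({y} : Set Y) → ∀ i : ℕ, 0 < i →
      Subsingleton (Coh.HH (f.fiber y) ((Scheme.Modules.pullback (f.fiberι y)).obj L) i))
    (hfib : ∀ y : Y, IsClosed ({y} : Set Y) →
      Curv2.IsGloballyGenerated ((Scheme.Modules.pullback (f.fiberι y)).obj L))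
    (hE : Curv2.IsGloballyGenerated ((Scheme.Modules.pushforward f).obj L)) :
    Curv2.IsGloballyGenerated L := by
  haveI : CompactSpace Y := QuasiCompact.compactSpace_of_compactSpace (Y ↘ Spec (CommRingCat.of k))
  haveI : CompactSpace X := QuasiCompact.compactSpace_of_compactSpace f
  haveI : IsLocallyNoetherian Y := LocallyOfFiniteType.isLocallyNoetherian (Y ↘ Spec (CommRingCat.of k))
  haveI := InvExt.isQCoh_of_isInvertible hL
  let S : Set X := {x | ∃ t : Coh.structureModule X ⟶ L, x ∈ CohB1.genLocus L t}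
  have hSo : IsOpen S := by
    have : S = ⋃ t : Coh.structureModule X ⟶ L, (CohB1.genLocus L t : Set X) := by
      ext x; simp [S]
    rw [this]
    exact isOpen_iUnion fun t => (CohB1.genLocus L t).2
  have hclosed : ∀ x : X, IsClosed ({x} : Set X) → x ∈ S := by
    intro x hx
    have hy : IsClosed ({f x} : Set Y) := by
      simpa only [Set.image_singleton] using f.isClosedMap _ hx
    obtain ⟨_, ⟨W : Y.Opens, (hW : IsAffineOpen W), rfl⟩, hyW, -⟩ :=
      Y.isBasis_affineOpens.exists_subset_of_mem_open (Set.mem_univ (f x)) isOpen_univ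
    obtain ⟨q, hq⟩ : ∃ q, hW.fromSpec q = f x := ⟨_, hW.fromSpec_primeIdealOf ⟨f x, hyW⟩⟩
    obtain ⟨hxW, s, hs⟩ := exists_gen_of_fibre f hL hW q (hq.symm ▸ h2 (f x) hy 1 one_pos)
      (hq.symm ▸ hfib (f x) hy) x hq.symm
    let E := (Scheme.Modules.pushforward f).obj L
    haveI : Coh.IsQCoh E := QCohLib.isQCoh_pushforward L f
    have hsp : (show Γ(E, W) from s) ∈ Submodule.span Γ(Y, W)
        (Set.range fun t : Γ(E, ⊤) => (E.presheaf.map (homOfLE (le_top : W ≤ ⊤)).op t : Γ(E, W))) :=
      (BlowSurfLib.span_res_eq_top E hE hW).ge Submodule.mem_top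
    have hmem : ∀ v : Γ(E, W), v ∈ Submodule.span Γ(Y, W)
        (Set.range fun t : Γ(E, ⊤) => (E.presheaf.map (homOfLE (le_top : W ≤ ⊤)).op t : Γ(E, W))) →
        L.presheaf.germ (f ⁻¹ᵁ W) x hxW (show Γ(L, f ⁻¹ᵁ W) from v) ∈
          Submodule.span (X.presheaf.stalk x) (Set.range fun t : Γ(L, ⊤) => L.presheaf.germ ⊤ x trivial t) := by
      intro v hv
      induction hv using Submodule.span_induction with
      | mem v hv =>
        obtain ⟨t, rfl⟩ := hv
        refine Submodule.subset_span ⟨(show Γ(L, ⊤) from t), ?_⟩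
        exact (TopCat.Presheaf.germ_res_apply L.presheaf (homOfLE (le_top : f ⁻¹ᵁ W ≤ ⊤)) x hxW _).symm
      | zero => erw [map_zero]; exact zero_mem _
      | add a b _ _ ha hb => erw [map_add]; exact add_mem ha hb
      | smul c a _ ha =>
        show L.presheaf.germ (f ⁻¹ᵁ W) x hxW ((f.app W c : Γ(X, f ⁻¹ᵁ W)) • (show Γ(L, f ⁻¹ᵁ W) from a)) ∈ _
        rw [germ_smul']
        exact Submodule.smul_mem _ _ ha
    have htop : Submodule.span (X.presheaf.stalk x)
        (Set.range fun t : Γ(L, ⊤) => L.presheaf.germ ⊤ x trivial t) = ⊤ := by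
      refine eq_top_iff.2 fun v _ => ?_
      obtain ⟨a, rfl⟩ := hs.2 v
      exact Submodule.smul_mem _ a (hmem _ hsp)
    obtain ⟨_, ⟨t, rfl⟩, ht⟩ := exists_gen_of_span hL x _ htop
    refine ⟨DCohLib.secHom L t, (mem_genLocus_iff hL).2 ?_⟩
    rwa [sec_secHom]
  have hall : ∀ x : X, x ∈ S := by
    intro x
    by_contra hxS
    obtain ⟨y, hy, hyc⟩ := hSo.isClosed_compl.exists_closed_singleton ⟨x, hxS⟩
    exact hy (hclosed y hyc)
  refine AmpleEmb.isGloballyGenerated_of_span (fun t : Γ(L, ⊤) => t) fun x => ?_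
  obtain ⟨t, ht⟩ := hall x
  refine eq_top_iff.2 fun v _ => ?_
  obtain ⟨a, rfl⟩ := ((mem_genLocus_iff hL).1 ht).2 v
  exact Submodule.smul_mem _ a (Submodule.subset_span ⟨sec t, rfl⟩)

end Groth.Agent.S16136
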