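import Groth.Statements.S16137
import Groth.Agent.VBLib.Max
import Groth.Agent.VBLib.Twist
-- import your own Groth.Agent.* helpers here

set_option autoImplicit false
set_option backward.isDefEq.respectTransparency false
universe u
open CategoryTheory CategoryTheory.Limits AlgebraicGeometry
open VBCurve

namespace Groth.Agent.S16137
open CategoryTheory CategoryTheory.Limits AlgebraicGeometry

/-- Let k be an algebraically closed field of characteristic zero and X a smooth proper geometrically
connected curve over k (topological dimension one) of genus at least 2 (the text's standing setting: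
a smooth projective complex curve of genus at least 2). Let 0 → F → E → G → 0 be a short exact
sequence of O_X-modules in which E is finite locally free of rank r ≥ 1 and slope-stable (deg F' · r
< deg E · r' for every finite locally free submodule F' of E of rank r' with 0 < r' < r). Then
Hom(G, F) = 0: every morphism from the quotient G to the submodule F is zero. (The published
statement writes the conclusion as h^0(G^* ⊗ F) = 0.) -/
theorem result (k : Type u) [Field k] [IsAlgClosed k] [CharZero k]
    (X : Scheme.{u}) [X.Over (Spec (CommRingCat.of k))]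
    [IsProper (X ↘ Spec (CommRingCat.of k))] [Smooth (X ↘ Spec (CommRingCat.of k))]
    [GeometricallyConnected (X ↘ Spec (CommRingCat.of k))] (hdim : topologicalKrullDim ↥X = 1)
    (hg : 2 ≤ Curv2.genus k X)
    (T : ShortComplex X.Modules) (hT : T.ShortExact)
    (r : ℕ) (hr : 0 < r) (hE : FlatMod.IsFinLocFreeOfRank r T.X₂)
    (hst : ModFun.IsSlopeStable k X T.X₂ r)
    (φ : T.X₃ ⟶ T.X₁) : φ = 0 := by
  haveI := VBLib.isIntegral_of_geomConnected k (X := X)
  haveI := VBLib.isRegCurve_of_smooth k (X := X) hdim.le
  haveI := EulerIneqLib.isNoetherian_proper (X := X) k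
  have hst' : VBLib.StableAt k T.X₂ (VBLib.dg k T.X₂) r := VBLib.stableAt_of k hE hst
  haveI := hT.mono_f
  haveI := hT.epi_g
  by_contra hφ
  let f : T.X₂ ⟶ T.X₂ := T.g ≫ φ ≫ T.f
  have hf : f ≠ 0 := fun h => hφ (by
    rw [← cancel_mono T.f, ← cancel_epi T.g, zero_comp, comp_zero]
    exact h)
  haveI := VBLib.isIso_of_stable k hdim.le hr hE hE hst' hst' (VBLib.slopeLE_of_stableAt k hdim.le hE hst') rfl hf
  have h0 : T.f ≫ f = 0 := by simp [f]
  have hz : T.f = 0 := by rw [← cancel_mono f, h0, zero_comp]
  exact hf (by simp [f, hz])

end Groth.Agent.S16137
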