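import Groth.Statements.S1614
import Groth.Agent.ProjTwistLib.Ample
-- import your own Groth.Agent.* helpers here

set_option autoImplicit false
set_option backward.isDefEq.respectTransparency false
universe u
open CategoryTheory CategoryTheory.Limits AlgebraicGeometry
open Constr

namespace Groth.Agent.S1614

/-- Let A be a graded ring, X = Proj A, and f homogeneous of degree d > 0. For every integer n the
restriction of the twisting sheaf O(nd) to the standard open D_+(f) is isomorphic to the structure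
sheaf (in particular invertible). -/
theorem result {R A : Type u} [CommRing R] [CommRing A] [Algebra R A] (𝒜 : ℕ → Submodule R A) [GradedAlgebra 𝒜]
    (d : ℕ) (hd : 0 < d) (f : A) (hf : f ∈ 𝒜 d) (n : ℤ) :
    Nonempty ((Twist.twist 𝒜 (n * d)).restrict (Proj.basicOpen 𝒜 f).ι ≅ Coh.structureModule ↑(Proj.basicOpen 𝒜 f)) := by
  obtain ⟨m, rfl | rfl⟩ := n.eq_nat_or_neg
  · refine Groth.Agent.ParaFLib.nonempty_iso_of_gen
      (Groth.Agent.ProjTwistLib.gen_frac ⟨f ^ m, SetLike.pow_mem_graded m hf⟩
        (⟨1, SetLike.GradedOne.one_mem⟩ : 𝒜 0) ((m : ℤ) * d) (by simp) (V := Proj.basicOpen 𝒜 f) (by simp) ?_)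
    rcases Nat.eq_zero_or_pos m with rfl | hm
    · simp
    · rw [Proj.basicOpen_pow _ _ _ hm]
  · refine Groth.Agent.ParaFLib.nonempty_iso_of_gen
      (Groth.Agent.ProjTwistLib.gen_frac (⟨1, SetLike.GradedOne.one_mem⟩ : 𝒜 0)
        ⟨f ^ m, SetLike.pow_mem_graded m hf⟩ (-(m : ℤ) * d) (by simp) (V := Proj.basicOpen 𝒜 f) ?_ (by simp))
    rcases Nat.eq_zero_or_pos m with rfl | hm
    · simp
    · rw [Proj.basicOpen_pow _ _ _ hm]

end Groth.Agent.S1614
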