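import Groth.Statements.S16148
import Groth.Agent.ProjSerreLib.Criterion
import Groth.Agent.JacEquidimLib.Over
import Groth.Agent.LocCohLib.MaxIdeal

set_option autoImplicit false
universe u
open CategoryTheory CategoryTheory.Limits AlgebraicGeometry
open Variety

namespace Groth.Agent.S16148

open CategoryTheory CategoryTheory.Limits AlgebraicGeometry


open Topology TopologicalSpace Groth.Agent.CatSpaceLib in
/-- A closed subset of a quasi-compact scheme attains its dimension at a closed point. -/
theorem exists_closed_dim {X : Scheme.{u}} [CompactSpace X] {S : Set X} (hS : IsClosed S) {a : ℕ}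
    (ha : topologicalKrullDim ↥S = (a : WithBot ℕ∞)) :
    ∃ x : X, IsClosed ({x} : Set X) ∧ topologicalKrullDim ↥{t : X | t ∈ S ∧ t ⤳ x} = (a : WithBot ℕ∞) := by
  haveI : QuasiSober ↥S := hS.isClosedEmbedding_subtypeVal.quasiSober
  obtain ⟨l, hl⟩ := Order.le_krullDim_iff.1 (ha.ge : (a : WithBot ℕ∞) ≤ topologicalKrullDim ↥S)
  choose g hg using fun i => exists_ofPoint (l i)
  obtain ⟨x, hx, hxc⟩ := (isClosed_closure (s := ({(g 0).1} : Set X))).exists_closed_singleton ⟨_, subset_closure rfl⟩
  have hgx : ∀ i, (g i).1 ⤳ x := fun i => by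
    have h0 : g i ⤳ g 0 := ofPoint_le.1 (by rw [hg, hg]; exact l.monotone (Fin.zero_le _))
    exact (h0.map continuous_subtype_val).trans (specializes_iff_mem_closure.2 hx)
  let W : Set X := {t : X | t ∈ S ∧ t ⤳ x}
  have hsub : W ⊆ S := fun t ht => ht.1
  refine ⟨x, hxc, le_antisymm ?_ ?_⟩
  · refine le_trans (IsInducing.topologicalKrullDim_le (f := Set.inclusion hsub) ?_) ha.le
    exact (IsEmbedding.inclusion hsub).isInducing
  · let w : Fin (l.length + 1) → ↥W := fun i => ⟨(g i).1, (g i).2, hgx i⟩
    let s : LTSeries (IrreducibleCloseds ↥W) := ⟨l.length, fun i => ofPoint (w i), fun i => by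
      have h1 : ofPoint (g i.castSucc) < ofPoint (g i.succ) := by rw [hg, hg]; exact l.step i
      have key : ∀ p q, ofPoint (w p) ≤ ofPoint (w q) ↔ ofPoint (g p) ≤ ofPoint (g q) := fun p q => by
        rw [ofPoint_le, ofPoint_le, subtype_specializes_iff, subtype_specializes_iff]
      show ofPoint (w i.castSucc) < ofPoint (w i.succ)
      rw [lt_iff_le_not_ge, key, key, ← lt_iff_le_not_ge]
      exact h1⟩
    calc (a : WithBot ℕ∞) = (s.length : WithBot ℕ∞) := by rw [← hl]
      _ ≤ _ := Order.LTSeries.length_le_krullDim s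


/-- Let k be a characteristic-zero algebraically closed field and G a coherent O-module (quasi-coherent
of finite type) on projective n-space P^n_k whose support, as a subspace of P^n_k, has Krull
dimension a with a ≥ 1. Then there is an integer m such that H^a(P^n_k, G(m)) ≠ 0, where G(m) = G ⊗
O(m). (The source works over the complex numbers.) -/
theorem result (k : Type u) [Field k] [IsAlgClosed k] [CharZero k]
    (n : ℕ) (G : (CohB1.ProjSpace n k).Modules) (hG : Coh.IsCoh G) (a : ℕ) (ha : 1 ≤ a)
    (hdim : topologicalKrullDim ↥(CohB1.support G) = a) :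
    ∃ m : ℤ, Nontrivial (Coh.HH (CohB1.ProjSpace n k) (CohB1.tensorMod G (Twist.twistProjSpace n k m)) a) := by
  haveI := hG.1
  haveI := Groth.Agent.CMRegLib.isNoetherian_projSpace (k := k) (n := n)
  have hS := Groth.Agent.PullbackMod.isClosed_support_of_isFT hG.2
  obtain ⟨x, hxc, hx⟩ := exists_closed_dim hS hdim
  haveI := Groth.Agent.PullbackMod.finite_stalk_of_isFT hG.2 x
  haveI := Groth.Agent.ProjSerreLib.regular_stalk (k := k) (n := n) x
  have hd : Module.supportDim ((CohB1.ProjSpace n k).presheaf.stalk x) (G.presheaf.stalk x) = (a : WithBot ℕ∞) :=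
    (Groth.Agent.JacEquidimLib.supportDim_stalk_eq hS x).trans hx
  haveI : Nontrivial (G.presheaf.stalk x) := by
    by_contra hn
    haveI := not_nontrivial_iff_subsingleton.1 hn
    rw [Module.supportDim_eq_bot_of_subsingleton] at hd
    exact WithBot.bot_ne_natCast a hd
  by_contra hne
  simp only [not_exists, not_nontrivial_iff_subsingleton] at hne
  have h := (Groth.Agent.ProjSerreLib.vanish_iff_localCoh hG a).1 ⟨0, fun m _ => hne (-m)⟩ x hxc
  exact not_nontrivial_iff_subsingleton.2 h (Groth.Agent.LocCohLib.nontrivial_H _ a hd)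

end Groth.Agent.S16148
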