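import Groth.Statements.S16149
import Mathlib
import Groth.Agent.PullbackMod.OpenLocus
import Groth.Agent.QCohLib.Coherent
import Groth.Agent.CohBase.Affine


set_option autoImplicit false
universe u
open CategoryTheory CategoryTheory.Limits AlgebraicGeometry TopologicalSpace
open SDiv

namespace Groth.Agent.S16149

/-- Let X be a locally Noetherian scheme, F a coherent O_X-module (quasi-coherent of finite type) and s
: O_X → F a global section of F. Then the set of points x of X at which the stalk map (O_X)_x → F_x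
of s is bijective is open. (The published statement assumes moreover X integral and normal and F
reflexive of rank one; the openness assertion uses only that F is coherent on a locally Noetherian
scheme, and it can fail for F quasi-coherent of finite type on a scheme that is not locally
Noetherian.) -/
theorem result (X : Scheme.{u}) [IsLocallyNoetherian X] (F : X.Modules) (hF : Coh.IsCoh F)
    (s : Coh.structureModule X ⟶ F) : IsOpen (RefPow.isoLocus s) := by
  haveI := hF.1
  refine isOpen_iff_forall_mem_open.mpr fun x hx => ?_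
  obtain ⟨_, ⟨W : X.Opens, (hW : IsAffineOpen W), rfl⟩, hxW, -⟩ :=
    X.isBasis_affineOpens.exists_subset_of_mem_open (Set.mem_univ x) isOpen_univ
  have hsame : ∀ y : X, ⇑(RefHull.stalkMapₗ s y) = ⇑(Groth.Agent.PullbackMod.stalkLin s y) := fun y => rfl
  have hx' : Function.Bijective (Groth.Agent.PullbackMod.stalkLin s x) := hsame x ▸ hx
  haveI := Groth.Agent.QCohLib.isNoetherianRing_section hW
  haveI := Groth.Agent.QCohLib.finite_sections_of_isCoh hF hW
  let φ := Groth.Agent.FlatLocus.appL s W
  haveI : Module.Finite Γ(X, W) Γ(Coh.structureModule X, W) :=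
    inferInstanceAs (Module.Finite Γ(X, W) Γ(X, W))
  obtain ⟨-, hsur, hinj⟩ := Groth.Agent.PullbackMod.stalk_criteria s hW x hxW
  obtain ⟨T, hT⟩ := (Module.Finite.fg_top : (⊤ : Submodule Γ(X, W) Γ(F, W)).FG)
  obtain ⟨T', hT'⟩ : (LinearMap.ker φ).FG := IsNoetherian.noetherian _
  choose a ha b hb using hsur.mp hx'.2
  choose c hc hc' using fun m : LinearMap.ker φ => hinj.mp hx'.1 m.1 m.2
  classical
  let t₁ : Γ(X, W) := ∏ q ∈ T, a q
  let t₂ : Γ(X, W) := ∏ q ∈ T'.attach, c ⟨q.1, hT'.le (Submodule.subset_span q.2)⟩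
  have hxt : x ∈ X.basicOpen (t₁ * t₂) := by
    rw [← Groth.Agent.PullbackMod.primeCompl_primeIdealOf hW x hxW]
    refine Submonoid.mul_mem _ (Submonoid.prod_mem _ fun q _ => ?_) (Submonoid.prod_mem _ fun q _ => ?_) <;>
      rw [Groth.Agent.PullbackMod.primeCompl_primeIdealOf hW x hxW]
    · exact ha q
    · exact hc _
  refine ⟨X.basicOpen (t₁ * t₂), fun y hy => ?_, (X.basicOpen (t₁ * t₂)).2, hxt⟩
  have hyW : y ∈ W := X.basicOpen_le _ hy
  rw [SetLike.mem_coe, Scheme.basicOpen_mul] at hy
  obtain ⟨hy1, hy2⟩ := hy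
  obtain ⟨-, hsur', hinj'⟩ := Groth.Agent.PullbackMod.stalk_criteria s hW y hyW
  change Function.Bijective (RefHull.stalkMapₗ s y)
  rw [hsame y]
  refine ⟨hinj'.mpr fun m hm => ⟨t₂, hy2, ?_⟩, hsur'.mpr fun q => ⟨t₁, hy1, ?_⟩⟩
  · have hle : Submodule.span Γ(X, W) (T' : Set Γ(Coh.structureModule X, W)) ≤
        LinearMap.ker (LinearMap.lsmul Γ(X, W) Γ(Coh.structureModule X, W) t₂) := by
      refine Submodule.span_le.mpr fun z hz => ?_
      obtain ⟨d, hd⟩ : c ⟨z, hT'.le (Submodule.subset_span hz)⟩ ∣ t₂ :=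
        Finset.dvd_prod_of_mem _ (Finset.mem_attach _ ⟨z, hz⟩)
      change t₂ • z = 0
      rw [hd, mul_comm, mul_smul, hc', smul_zero]
    exact hle (hT'.ge (LinearMap.mem_ker.mpr hm))
  · have hle : Submodule.span Γ(X, W) (T : Set Γ(F, W)) ≤
        (LinearMap.range φ).comap (LinearMap.lsmul Γ(X, W) Γ(F, W) t₁) := by
      refine Submodule.span_le.mpr fun z hz => ?_
      obtain ⟨d, hd⟩ : a z ∣ t₁ := Finset.dvd_prod_of_mem _ hz
      refine ⟨d • b z, ?_⟩
      change φ (d • b z) = t₁ • z
      rw [map_smul, hb z, hd, mul_comm, mul_smul]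
    exact hle (hT.ge Submodule.mem_top)


end Groth.Agent.S16149
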