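import Mathlib
import Mathlib
import Groth.Statements.S1615

set_option autoImplicit false
universe u
open CategoryTheory CategoryTheory.Limits AlgebraicGeometry
open Constr

namespace Groth.Agent.S1615

/-- For a graded ring A, quasi-compactness of Proj A is equivalent to the existence of finitely many
homogeneous elements of positive degree generating an ideal whose radical contains the irrelevant
ideal A_+. -/
theorem result {R A : Type u} [CommRing R] [CommRing A] [Algebra R A] (𝒜 : ℕ → Submodule R A) [GradedAlgebra 𝒜] :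
    CompactSpace ↥(Proj 𝒜) ↔ ∃ s : Finset A, (∀ f ∈ s, ∃ d : ℕ, 0 < d ∧ f ∈ 𝒜 d) ∧
      (HomogeneousIdeal.irrelevant 𝒜).toIdeal ≤ (Ideal.span (s : Set A)).radical := by
  classical
  constructor
  · intro h
    have hcov : (Set.univ : Set (Proj 𝒜)) ⊆ ⋃ f : {f : A // ∃ d, 0 < d ∧ f ∈ 𝒜 d},
        (Proj.basicOpen 𝒜 f.1 : Set (Proj 𝒜)) := by
      intro x _
      obtain ⟨a, ha, hax⟩ := SetLike.not_le_iff_exists.1 x.not_irrelevant_le
      obtain ⟨i, hi⟩ : ∃ i, (DirectSum.decompose 𝒜 a i : A) ∉ x.asHomogeneousIdeal := by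
        by_contra hne
        push Not at hne
        refine hax ?_
        show a ∈ x.asHomogeneousIdeal.toIdeal
        rw [← DirectSum.sum_support_decompose 𝒜 a]
        exact sum_mem fun j _ => hne j
      have hi0 : i ≠ 0 := by
        rintro rfl
        apply hi
        rw [← GradedRing.proj_apply, (HomogeneousIdeal.mem_irrelevant_iff _ _).mp ha]
        exact zero_mem _
      exact Set.mem_iUnion.2 ⟨⟨_, i, Nat.pos_of_ne_zero hi0, SetLike.coe_mem _⟩,
        (Proj.mem_basicOpen 𝒜 _ x).2 hi⟩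
    obtain ⟨t, ht⟩ := h.1.elim_finite_subcover (fun f : {f : A // ∃ d, 0 < d ∧ f ∈ 𝒜 d} => (Proj.basicOpen 𝒜 f.1 : Set (Proj 𝒜))) (fun f => (Proj.basicOpen 𝒜 f.1).isOpen) hcov
    refine ⟨t.image Subtype.val, fun f hf => ?_, ?_⟩
    · obtain ⟨g, -, rfl⟩ := Finset.mem_image.1 hf; exact g.2
    have hhom : (Ideal.span (↑(t.image Subtype.val) : Set A)).IsHomogeneous 𝒜 := by
      refine Ideal.homogeneous_span _ _ fun f hf => ?_
      obtain ⟨g, -, rfl⟩ := Finset.mem_image.1 (Finset.mem_coe.1 hf)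
      exact ⟨g.2.choose, g.2.choose_spec.2⟩
    rw [hhom.radical_eq]
    refine le_sInf fun P ⟨hPh, hle, hPp⟩ => ?_
    by_contra hP
    let x : Proj 𝒜 := (⟨⟨P, hPh⟩, hPp, hP⟩ : ProjectiveSpectrum 𝒜)
    obtain ⟨g, hg, hxg⟩ := Set.mem_iUnion₂.1 (ht (Set.mem_univ x))
    exact (Proj.mem_basicOpen 𝒜 _ x).1 hxg (hle (Ideal.subset_span (Finset.mem_image.2 ⟨g, hg, rfl⟩)))
  · rintro ⟨s, hs, hle⟩
    have hcov : (Set.univ : Set (Proj 𝒜)) = ⋃ f : {f // f ∈ s}, (Proj.basicOpen 𝒜 f.1 : Set (Proj 𝒜)) := by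
      refine (Set.eq_univ_of_forall fun x => ?_).symm
      by_contra hne
      refine x.not_irrelevant_le (hle.trans (x.isPrime.radical_le_iff.2 (Ideal.span_le.2 fun f hf => ?_)))
      by_contra hfx
      exact hne (Set.mem_iUnion.2 ⟨⟨f, hf⟩, (Proj.mem_basicOpen 𝒜 _ x).2 hfx⟩)
    refine ⟨hcov ▸ isCompact_iUnion fun f => ?_⟩
    obtain ⟨d, hd, hfd⟩ := hs f.1 f.2
    exact (Proj.isAffineOpen_basicOpen 𝒜 f.1 hfd hd).isCompact

end Groth.Agent.S1615
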