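import Groth.Statements.S16150
import Groth.Agent.RefOne.Power
import Groth.Agent.ZClosLib.Colim


set_option autoImplicit false
universe u
open CategoryTheory CategoryTheory.Limits AlgebraicGeometry TopologicalSpace
open SDiv

namespace Groth.Agent.S16150

open CategoryTheory CategoryTheory.Limits AlgebraicGeometry

open Groth.Agent.RefOne Groth.Agent.PullbackMod

theorem stalk_rep {X : Scheme.{u}} (D : ℕ ⥤ X.Modules) (x : X) (e : (ZClosLib.stalkF x).obj (colimit D)) :
    ∃ (j : ℕ) (a : (ZClosLib.stalkF x).obj (D.obj j)), (ZClosLib.stalkF x).map (colimit.ι D j) a = e := by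
  haveI : PreservesColimitsOfShape ℕ (ZClosLib.stalkF x) :=
    preservesColimitsOfShape_of_equiv (AsSmall.equiv.{0, 0, u} (C := ℕ)).symm (ZClosLib.stalkF x)
  haveI : PreservesColimitsOfShape ℕ (forget AddCommGrpCat.{u}) :=
    preservesColimitsOfShape_of_equiv (AsSmall.equiv.{0, 0, u} (C := ℕ)).symm (forget AddCommGrpCat.{u})
  exact Concrete.isColimit_exists_rep (D ⋙ ZClosLib.stalkF x)
    (isColimitOfPreserves (ZClosLib.stalkF x) (colimit.isColimit D)) e

/-- Let X be an integral locally Noetherian normal scheme, F a rank one coherent reflexive O_X-module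
and s : O_X → F a global section of F. Let U be the open subscheme of X whose points are those x at
which the stalk map (O_X)_x → F_x of s is bijective, and j : U → X its inclusion. Consider the
system O_X → F → F^[2] → F^[3] → ⋯ of reflexive powers (F^[0] = O_X, F^[1] = F, F^[n+1] the
reflexive hull of F^[n] ⊗ F), each map being multiplication by s. Then j_*(O_X|_U) is the colimit of
this system in the category of O_X-modules; precisely, there is a cocone from the system to
j_*(O_X|_U) whose leg in degree 0 is the restriction map O_X → j_*(O_X|_U) (the unit of the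
adjunction between restriction to U and direct image along j) and which is a colimit cocone. -/
theorem result (X : Scheme.{u}) [IsIntegral X] [IsLocallyNoetherian X]
    (hX : Pi1.IsNormalScheme X) (F : X.Modules) (hF : RefHull.IsRef1 F) (s : Coh.structureModule X ⟶ F)
    (U : X.Opens) (hU : (U : Set X) = RefPow.isoLocus s) :
    ∃ ι : RefPow.diagram F s ⟶ (Functor.const ℕ).obj ((Scheme.Modules.pushforward U.ι).obj ((Coh.structureModule X).restrict U.ι)),
      ι.app 0 = (Scheme.Modules.restrictAdjunction U.ι).unit.app (Coh.structureModule X) ∧
        Nonempty (IsColimit (Cocone.mk _ ι)) := by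
  let ι : RefPow.diagram F s ⟶ (Functor.const ℕ).obj (jO U) :=
    NatTrans.ofSequence (fun n => leg s hF hU n) (fun n => by
      rw [RefPow.diagram_map]
      exact (mulBy_leg s hF hU n).trans (Category.comp_id _).symm)
  refine ⟨ι, ?_, ⟨?_⟩⟩
  · show leg s hF hU 0 = _
    have h := sPow_leg s hF hU 0
    rw [RefPow.sPow_zero] at h
    exact (Category.id_comp _).symm.trans h
  · let c : Cocone (RefPow.diagram F s) := Cocone.mk _ ι
    haveI : IsIso ((colimit.isColimit (RefPow.diagram F s)).desc c) := by
      refine (isIso_iff_stalk _).2 fun x => ⟨?_, fun z => ?_⟩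
      · refine (injective_iff_map_eq_zero _).2 fun e he => ?_
        obtain ⟨j, a, rfl⟩ := stalk_rep (RefPow.diagram F s) x e
        have hz : stalkLin (leg s hF hU j) x a = 0 := by
          refine Eq.trans ?_ he
          exact congrArg (fun φ => stalkLin φ x a) ((colimit.isColimit (RefPow.diagram F s)).fac c j).symm
            |>.trans (LinearMap.congr_fun (stalkLin_comp _ _ x) a)
        by_cases hη : genericPoint ↥X ∈ U
        · have ha : a = 0 := leg_injective s hF hU hη j x (hz.trans (map_zero _).symm)
          rw [ha]
          exact map_zero _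
        · have h0 : stalkLin s (genericPoint ↥X) (ParaFLib.oneG _) = 0 := by
            by_contra hne
            refine hη ?_
            show genericPoint ↥X ∈ (U : Set X)
            rw [hU]
            obtain ⟨g, hg⟩ := exists_gen_generic hF.2.2
            have hb := exists_smul_eq hg hne
            show Function.Bijective (stalkLin s (genericPoint ↥X))
            refine ((ParaFLib.bijective_oneG (genericPoint ↥X)).of_comp_iff (stalkLin s (genericPoint ↥X))).1 ?_
            rw [show stalkLin s (genericPoint ↥X) ∘ (fun r : X.presheaf.stalk (genericPoint ↥X) => r • ParaFLib.oneG _) =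
              fun r : X.presheaf.stalk (genericPoint ↥X) => r • stalkLin s (genericPoint ↥X) (ParaFLib.oneG _) from funext fun r => map_smul _ r _]
            exact hb
          have hm := mulBy_eq_zero s hF h0 j
          have hw := colimit.w (RefPow.diagram F s) (homOfLE (Nat.le_succ j))
          rw [RefPow.diagram_map, hm] at hw
          rw [hw.symm.trans zero_comp]
          exact LinearMap.congr_fun ((eq_zero_iff_stalk (0 : RefPow.refPow F j ⟶ colimit (RefPow.diagram F s))).1 rfl x) a
      · obtain ⟨n, hn⟩ := leg_surjective s hX hF hU x z
        obtain ⟨w, hw⟩ := hn n le_rfl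
        refine ⟨stalkLin (colimit.ι (RefPow.diagram F s) n) x w, ?_⟩
        refine ((LinearMap.congr_fun (stalkLin_comp _ _ x) w).symm.trans ?_).trans hw
        exact congrArg (fun φ => stalkLin φ x w) ((colimit.isColimit (RefPow.diagram F s)).fac c n)
    exact IsColimit.ofPointIso (colimit.isColimit (RefPow.diagram F s))

end Groth.Agent.S16150
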