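import Groth.Statements.S16151
import Groth.Agent.RefOne.Power


set_option autoImplicit false
universe u
open CategoryTheory CategoryTheory.Limits AlgebraicGeometry TopologicalSpace
open SDiv

namespace Groth.Agent.S16151

open CategoryTheory CategoryTheory.Limits AlgebraicGeometry

open Groth.Agent.RefOne Groth.Agent.PullbackMod TopologicalSpace

variable {X : Scheme.{u}} [IsIntegral X] [IsLocallyNoetherian X] {U V : X.Opens}

/-- Functions on `V ⊓ U` give germs of `j_* O_U`. -/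
theorem exists_jO_stalk (b : Γ(X, V ⊓ U)) (x : X) (hx : x ∈ V) (hη : genericPoint ↥X ∈ V ⊓ U) :
    ∃ z : (jO U).presheaf.stalk x, toGen (jO U) x z =
      X.presheaf.germ (V ⊓ U) (genericPoint ↥X) hη b • stalkLin (uO U) (genericPoint ↥X) (ParaFLib.oneG _) := by
  have heq : U.ι ''ᵁ (U.ι ⁻¹ᵁ V) = V ⊓ U := by
    rw [U.ι.image_preimage_eq_opensRange_inf, Scheme.Opens.opensRange_ι, inf_comm]
  let g' : Γ(Coh.structureModule X, U.ι ''ᵁ (U.ι ⁻¹ᵁ V)) := X.presheaf.map (eqToHom heq).op b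
  let g : Γ(jO U, V) := g'
  refine ⟨(jO U).presheaf.germ V x hx g, ?_⟩
  rw [toGen_germ]
  have hη' : genericPoint ↥X ∈ U.ι ''ᵁ (U.ι ⁻¹ᵁ V) := heq.symm ▸ hη
  have hgerm : X.presheaf.germ (V ⊓ U) (genericPoint ↥X) hη b • ParaFLib.oneG (genericPoint ↥X) =
      (Coh.structureModule X).presheaf.germ (U.ι ''ᵁ (U.ι ⁻¹ᵁ V)) (genericPoint ↥X) hη' g' := by
    rw [← TopCat.Presheaf.germ_res_apply X.presheaf (eqToHom heq) (genericPoint ↥X) hη' b,
      ← germ_one (genericPoint ↥X) hη', ← Mero.germ_smul]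
    exact congrArg _ (mul_one (show Γ(X, U.ι ''ᵁ (U.ι ⁻¹ᵁ V)) from g'))
  rw [← map_smul, hgerm]
  refine Eq.symm ((stalkLin_germ (uO U) (genericPoint ↥X) hη' g').trans ?_)
  refine Eq.trans ?_ (TopCat.Presheaf.germ_res_apply (jO U).presheaf (homOfLE (U.ι.image_preimage_le V)) (genericPoint ↥X) hη' g)
  exact congrArg _ rfl

theorem isCompact_of_le {W : X.Opens} (hV : IsAffineOpen V) (h : W ≤ V) : IsCompact (W : Set X) := by
  haveI : IsNoetherianRing Γ(X, V) := IsLocallyNoetherian.component_noetherian ⟨V, hV⟩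
  refine (noetherianSpace_set_iff (V : Set X)).mp ?_ _ h
  exact noetherianSpace_of_isAffineOpen V hV

/-- Germs of `j_* O_U` are fractions of functions on `V ⊓ U` by functions on `V`. -/
theorem exists_fraction (hV : IsAffineOpen V) {y : X} (hy : y ∈ V) (hη : genericPoint ↥X ∈ V ⊓ U)
    (z : (jO U).presheaf.stalk y) :
    ∃ (c : Γ(X, V)) (b : Γ(X, V ⊓ U)), y ∈ X.basicOpen c ∧
      X.presheaf.germ V (genericPoint ↥X) hη.1 c • toGen (jO U) y z =
        X.presheaf.germ (V ⊓ U) (genericPoint ↥X) hη b • stalkLin (uO U) (genericPoint ↥X) (ParaFLib.oneG _) := by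
  obtain ⟨V₀, hyV₀, g₀, rfl⟩ := TopCat.Presheaf.exists_germ_eq (jO U).presheaf z
  obtain ⟨f, hfV₀, hyf⟩ := hV.exists_basicOpen_le (V := V₀) ⟨y, hyV₀⟩ hy
  rw [← TopCat.Presheaf.germ_res_apply (jO U).presheaf (homOfLE hfV₀) y hyf g₀]
  generalize (jO U).presheaf.map (homOfLE hfV₀).op g₀ = g
  obtain ⟨a, ha⟩ := germ_jO g
  let f' : Γ(X, V ⊓ U) := X.presheaf.map (homOfLE inf_le_left).op f
  have hf' : X.basicOpen f' = (V ⊓ U) ⊓ X.basicOpen f := X.basicOpen_res f _
  have hle : X.basicOpen f' ≤ X.basicOpen f ⊓ U := hf'.trans_le (le_inf inf_le_right (inf_le_left.trans inf_le_right))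
  obtain ⟨n, b, hb⟩ := exists_eq_pow_mul_of_isCompact_of_isQuasiSeparated X (V ⊓ U)
    (isCompact_of_le hV inf_le_left) (IsQuasiSeparated.of_quasiSeparatedSpace _) f'
    (X.presheaf.map (homOfLE hle).op a)
  have hηf : genericPoint ↥X ∈ X.basicOpen f := generic_mem_of_mem hyf
  have hηf' : genericPoint ↥X ∈ X.basicOpen f' := hf'.symm ▸ ⟨hη, hηf⟩
  refine ⟨f ^ n, b, ?_, ?_⟩
  · rw [Scheme.mem_basicOpen _ _ _ hy, map_pow]
    exact ((Scheme.mem_basicOpen _ _ _ hy).1 hyf).pow n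
  · rw [toGen_germ, ha _ ⟨hηf, hη.2⟩, map_smul, ← mul_smul]
    refine congrArg (· • stalkLin (uO U) (genericPoint ↥X) (ParaFLib.oneG _)) ?_
    have h1 := congrArg (X.presheaf.germ (X.basicOpen f') (genericPoint ↥X) hηf') hb
    dsimp only [TopCat.Presheaf.restrictOpenCommRingCat_apply] at h1
    rw [map_mul, map_pow, TopCat.Presheaf.germ_res_apply, TopCat.Presheaf.germ_res_apply,
      TopCat.Presheaf.germ_res_apply, TopCat.Presheaf.germ_res_apply] at h1
    rw [map_pow, h1]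

variable {F : X.Modules} (s : Coh.structureModule X ⟶ F)

theorem backward (hF : RefHull.IsRef1 F) (hU : (U : Set X) = RefPow.isoLocus s) (hη : genericPoint ↥X ∈ U)
    (h : ∀ x : X, x ∉ U → ∃ n : ℕ, 0 < n ∧
      RefPow.sPowGerm s n x ∈ IsLocalRing.maximalIdeal (X.presheaf.stalk x) •
        (⊤ : Submodule (X.presheaf.stalk x) ((RefPow.refPow F n).presheaf.stalk x)))
    (hV : IsAffineOpen V) (hηV : genericPoint ↥X ∈ V) : IsAffineOpen (V ⊓ U) := by
  let ρ := (X.presheaf.map (homOfLE (inf_le_left : V ⊓ U ≤ V)).op).hom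
  have hρ : ∀ a, X.presheaf.germ (V ⊓ U) (genericPoint ↥X) ⟨hηV, hη⟩ (ρ a) =
      X.presheaf.germ V (genericPoint ↥X) hηV a :=
    fun a => TopCat.Presheaf.germ_res_apply X.presheaf (homOfLE (inf_le_left : V ⊓ U ≤ V)) _ _ a
  let S : Set Γ(X, V) := {a | X.basicOpen a ≤ U}
  refine isAffineOpen_of_isAffineOpen_basicOpen (V ⊓ U) (ρ '' S) ?_ ?_
  swap
  · rintro _ ⟨a, ha, rfl⟩
    rw [show X.basicOpen (ρ a) = (V ⊓ U) ⊓ X.basicOpen a from X.basicOpen_res a _,
      inf_eq_right.2 (le_inf (X.basicOpen_le a) ha)]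
    exact hV.basicOpen a
  by_contra hne
  obtain ⟨Q, hQm, hIQ⟩ := Ideal.exists_le_maximal _ hne
  haveI := hQm.isPrime
  let p : PrimeSpectrum Γ(X, V) := ⟨Q.comap ρ, Ideal.IsPrime.comap ρ⟩
  obtain ⟨y, hy, hp⟩ : ∃ y : X, y ∈ V ∧ ∀ a, y ∈ X.basicOpen a ↔ ρ a ∉ Q := by
    refine ⟨hV.fromSpec p, ?_, fun a => ?_⟩
    · rw [← SetLike.mem_coe, ← hV.range_fromSpec]
      exact Set.mem_range_self _
    · exact SetLike.ext_iff.1 (hV.fromSpec_preimage_basicOpen a) p
  have hyU : y ∉ U := fun hyU => by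
    obtain ⟨a, haU, hya⟩ := hV.exists_basicOpen_le (V := U) ⟨y, hyU⟩ hy
    exact (hp a).1 hya (hIQ (Ideal.subset_span ⟨a, haU, rfl⟩))
  obtain ⟨n, -, hn⟩ := h y hyU
  have key : ∀ m ∈ IsLocalRing.maximalIdeal (X.presheaf.stalk y) •
      (⊤ : Submodule (X.presheaf.stalk y) ((RefPow.refPow F n).presheaf.stalk y)),
      ∃ (C : Γ(X, V)) (b : Γ(X, V ⊓ U)), y ∈ X.basicOpen C ∧ b ∈ Q ∧
        X.presheaf.germ V (genericPoint ↥X) hηV C • toGen (jO U) y (stalkLin (leg s hF hU n) y m) =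
          X.presheaf.germ (V ⊓ U) (genericPoint ↥X) ⟨hηV, hη⟩ b • stalkLin (uO U) (genericPoint ↥X) (ParaFLib.oneG _) := by
    intro m hm
    induction hm using Submodule.smul_induction_on' with
    | smul r hr m _ =>
      rw [map_smul, toGen_smul]
      obtain ⟨d, b, hyd, hd⟩ := exists_fraction hV hy ⟨hηV, hη⟩ (stalkLin (leg s hF hU n) y m)
      letI := TopCat.Presheaf.algebra_section_stalk X.presheaf (⟨y, hy⟩ : V)
      haveI := hV.isLocalization_stalk ⟨y, hy⟩
      obtain ⟨⟨a, c, hc⟩, hac⟩ := IsLocalization.surj (hV.primeIdealOf ⟨y, hy⟩).asIdeal.primeCompl r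
      have hcu : IsUnit (X.presheaf.germ V y hy c) :=
        IsLocalization.map_units (X.presheaf.stalk y) (⟨c, hc⟩ : (hV.primeIdealOf ⟨y, hy⟩).asIdeal.primeCompl)
      change r * X.presheaf.germ V y hy c = X.presheaf.germ V y hy a at hac
      have ha : ρ a ∈ Q := by
        by_contra haQ
        have hu := (Scheme.mem_basicOpen _ _ _ hy).1 ((hp a).2 haQ)
        rw [← hac] at hu
        exact (IsLocalRing.mem_maximalIdeal r).1 hr (isUnit_of_mul_isUnit_left hu)
      refine ⟨c * d, ρ a * b, ?_, Q.mul_mem_right b ha, ?_⟩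
      · rw [X.basicOpen_mul]
        exact ⟨(Scheme.mem_basicOpen _ _ _ hy).2 hcu, hyd⟩
      · rw [map_mul, map_mul, hρ, mul_smul, smul_comm (X.presheaf.germ V (genericPoint ↥X) hηV d), hd,
          ← mul_smul, ← mul_smul]
        refine congrArg (· • stalkLin (uO U) (genericPoint ↥X) (ParaFLib.oneG _)) ?_
        have h1 := congrArg (toK y) hac
        rw [map_mul, toK_germ, toK_germ] at h1
        rw [← h1]
        ring
    | add m₁ _ m₂ _ h₁ h₂ =>
      obtain ⟨C₁, b₁, hC₁, hb₁, e₁⟩ := h₁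
      obtain ⟨C₂, b₂, hC₂, hb₂, e₂⟩ := h₂
      refine ⟨C₁ * C₂, ρ C₂ * b₁ + ρ C₁ * b₂, ?_, Q.add_mem (Q.mul_mem_left _ hb₁) (Q.mul_mem_left _ hb₂), ?_⟩
      · rw [X.basicOpen_mul]
        exact ⟨hC₁, hC₂⟩
      · rw [map_add, show ∀ z w : (jO U).presheaf.stalk y, toGen (jO U) y (z + w) = toGen (jO U) y z + toGen (jO U) y w
          from fun z w => map_add _ z w, map_add, map_mul, map_mul, map_mul, hρ, hρ, add_smul, mul_smul, mul_smul, mul_smul,
          smul_add, smul_add, ← e₁, ← e₂]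
        congr 1
        exact smul_comm _ _ _
  obtain ⟨C, b, hC, hbQ, hCb⟩ := key _ hn
  rw [← stalkLin_toGen, toGen_sPowGerm, ← one_smul (X.presheaf.stalk (genericPoint ↥X)) (RefPow.sPowGerm s n (genericPoint ↥X)),
    toGen_leg, one_smul, ← map_smul, ← map_smul] at hCb
  have h1 := (ParaFLib.bijective_oneG _).1 ((bijective_uO hη).1 hCb)
  haveI : Nonempty (V ⊓ U : X.Opens) := ⟨⟨_, ⟨hηV, hη⟩⟩⟩
  have h2 : ρ C = b := germ_injective_of_isIntegral X (U := V ⊓ U) (genericPoint ↥X) ⟨hηV, hη⟩ ((hρ C).trans h1)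
  exact (hp C).1 hC (h2 ▸ hbQ)

theorem forward (hX : Pi1.IsNormalScheme X) (hF : RefHull.IsRef1 F) (hU : (U : Set X) = RefPow.isoLocus s)
    (hη : genericPoint ↥X ∈ U) [IsAffineHom U.ι] (x : X) (hx : x ∉ U) :
    ∃ n : ℕ, 0 < n ∧ RefPow.sPowGerm s n x ∈ IsLocalRing.maximalIdeal (X.presheaf.stalk x) •
      (⊤ : Submodule (X.presheaf.stalk x) ((RefPow.refPow F n).presheaf.stalk x)) := by
  classical
  obtain ⟨V, hV, hxV, -⟩ := exists_isAffineOpen_mem_and_subset (x := x) (U := (⊤ : X.Opens)) trivial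
  have hηV : genericPoint ↥X ∈ V := generic_mem_of_mem hxV
  have hW : IsAffineOpen (V ⊓ U) := by
    have h := (hV.preimage U.ι).image_of_isOpenImmersion U.ι
    rwa [U.ι.image_preimage_eq_opensRange_inf, Scheme.Opens.opensRange_ι, inf_comm] at h
  let ρ := (X.presheaf.map (homOfLE (inf_le_left : V ⊓ U ≤ V)).op).hom
  let P : Set Γ(X, V) := {a | x ∉ X.basicOpen a}
  have htop : Ideal.span (ρ '' P) = ⊤ := by
    rw [← hW.self_le_iSup_basicOpen_iff]
    intro w hw
    have hwO : w ∈ ((⟨(closure {x})ᶜ, isClosed_closure.isOpen_compl⟩ : X.Opens)) :=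
      fun hc => hx ((specializes_iff_mem_closure.2 hc).mem_open U.2 hw.2)
    obtain ⟨a, ha, hwa⟩ := hV.exists_basicOpen_le ⟨w, hwO⟩ hw.1
    refine Opens.mem_iSup.2 ⟨⟨ρ a, a, fun hxa => ha hxa (subset_closure rfl), rfl⟩, ?_⟩
    show w ∈ X.basicOpen (ρ a)
    rw [show X.basicOpen (ρ a) = (V ⊓ U) ⊓ X.basicOpen a from X.basicOpen_res a _]
    exact ⟨hw, hwa⟩
  obtain ⟨k, f, g, hsum⟩ := (Submodule.mem_span_set').1 ((Ideal.eq_top_iff_one _).1 htop : (1 : Γ(X, V ⊓ U)) ∈ _)
  choose a ha hag using fun i => (g i).2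
  choose z hz using fun i => exists_jO_stalk (f i) x hxV ⟨hηV, hη⟩
  choose N hN using fun i => leg_surjective s hX hF hU x (z i)
  let n := Finset.univ.sup N + 1
  choose w hw using fun i => hN i n (le_trans (Finset.le_sup (Finset.mem_univ i)) (Nat.le_succ _))
  refine ⟨n, Nat.succ_pos _, ?_⟩
  have hsum' : RefPow.sPowGerm s n x = ∑ i, X.presheaf.germ V x hxV (a i) • w i := by
    refine leg_injective s hF hU hη n x (toGen_jO_injective x ?_)
    rw [← stalkLin_toGen, toGen_sPowGerm, ← one_smul (X.presheaf.stalk (genericPoint ↥X)) (RefPow.sPowGerm s n (genericPoint ↥X)),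
      toGen_leg, map_sum]
    change _ = ((jO U).presheaf.stalkSpecializes ((genericPoint_spec ↥X).specializes (Set.mem_univ x))).hom
      (∑ i, stalkLin (leg s hF hU n) x (X.presheaf.germ V x hxV (a i) • w i))
    rw [map_sum]
    change _ = ∑ i, toGen (jO U) x (stalkLin (leg s hF hU n) x (X.presheaf.germ V x hxV (a i) • w i))
    simp only [map_smul, toGen_smul, hw, hz, toK_germ, ← mul_smul]
    rw [← Finset.sum_smul]
    refine congrArg (· • stalkLin (uO U) (genericPoint ↥X) (ParaFLib.oneG _)) ?_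
    rw [← map_one (X.presheaf.germ (V ⊓ U) (genericPoint ↥X) ⟨hηV, hη⟩).hom, ← hsum, map_sum]
    refine Finset.sum_congr rfl fun i _ => ?_
    rw [smul_eq_mul, map_mul, ← hag i, mul_comm]
    exact congrArg (· * _) (TopCat.Presheaf.germ_res_apply X.presheaf _ _ _ (a i))
  rw [hsum']
  exact Submodule.sum_mem _ fun i _ => Submodule.smul_mem_smul
    ((IsLocalRing.mem_maximalIdeal _).2 fun hu => ha i ((Scheme.mem_basicOpen _ _ _ hxV).2 hu)) trivial

/-- Let X be an integral locally Noetherian normal scheme, F a rank one coherent reflexive O_X-module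
and s : O_X → F a global section of F; let U be the open subscheme of X whose points are those x at
which the stalk map (O_X)_x → F_x of s is bijective, and let F^[n] denote the reflexive powers of F
(F^[0] = O_X, F^[1] = F, F^[n+1] the reflexive hull of F^[n] ⊗ F) with s^n ∈ Γ(X, F^[n]) the n-th
power of s. Then the following are equivalent: (1) the inclusion morphism U → X is affine; (2) for
every point x of X not in U there is an integer n > 0 such that the germ of s^n at x lies in m_x ·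
(F^[n])_x, where m_x is the maximal ideal of the local ring at x. -/
theorem result (X : Scheme.{u}) [IsIntegral X] [IsLocallyNoetherian X]
    (hX : Pi1.IsNormalScheme X) (F : X.Modules) (hF : RefHull.IsRef1 F) (s : Coh.structureModule X ⟶ F)
    (U : X.Opens) (hU : (U : Set X) = RefPow.isoLocus s) :
    IsAffineHom U.ι ↔
      ∀ x : X, x ∉ U → ∃ n : ℕ, 0 < n ∧
        RefPow.sPowGerm s n x ∈ IsLocalRing.maximalIdeal (X.presheaf.stalk x) •
          (⊤ : Submodule (X.presheaf.stalk x) ((RefPow.refPow F n).presheaf.stalk x)) := by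
  by_cases hη : genericPoint ↥X ∈ U
  · constructor
    · exact fun h x hx => forward s hX hF hU hη x hx
    · refine fun h => ⟨fun V hV => ?_⟩
      rw [← U.ι.isAffineOpen_iff_of_isOpenImmersion, U.ι.image_preimage_eq_opensRange_inf,
        Scheme.Opens.opensRange_ι, inf_comm]
      rcases V.1.eq_empty_or_nonempty with hV' | ⟨v, hv⟩
      · rw [show V = ⊥ from Opens.ext hV', bot_inf_eq]
        exact isAffineOpen_bot X
      · exact backward s hF hU hη h hV (generic_mem_of_mem hv)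
  · have hbot : U = ⊥ := le_antisymm (fun w hw => (hη (generic_mem_of_mem hw)).elim) bot_le
    refine iff_of_true ⟨fun V _ => ?_⟩ fun x _ => ⟨1, Nat.one_pos, ?_⟩
    · rw [← U.ι.isAffineOpen_iff_of_isOpenImmersion, U.ι.image_preimage_eq_opensRange_inf,
        Scheme.Opens.opensRange_ι, hbot, bot_inf_eq]
      exact isAffineOpen_bot X
    · have h0 : stalkLin s (genericPoint ↥X) (ParaFLib.oneG _) = 0 := by
        by_contra hne
        refine hη ?_
        show genericPoint ↥X ∈ (U : Set X)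
        rw [hU]
        obtain ⟨g, hg⟩ := exists_gen_generic hF.2.2
        have hb := exists_smul_eq hg hne
        show Function.Bijective (stalkLin s (genericPoint ↥X))
        refine ((ParaFLib.bijective_oneG (genericPoint ↥X)).of_comp_iff (stalkLin s (genericPoint ↥X))).1 ?_
        rw [show stalkLin s (genericPoint ↥X) ∘ (fun r : X.presheaf.stalk (genericPoint ↥X) => r • ParaFLib.oneG _) =
          fun r : X.presheaf.stalk (genericPoint ↥X) => r • stalkLin s (genericPoint ↥X) (ParaFLib.oneG _) from funext fun r => map_smul _ r _]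
        exact hb
      have hs0 : s = 0 := mulBy_eq_zero s hF h0 0
      have hx0 : RefPow.sPowGerm s 1 x = 0 := by
        rw [sPowGerm_eq, RefPow.sPow_one]
        exact LinearMap.congr_fun ((eq_zero_iff_stalk s).1 hs0 x) _
      rw [hx0]
      exact Submodule.zero_mem _

end Groth.Agent.S16151
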