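import Groth.Statements.S16152
import Mathlib

set_option autoImplicit false
universe u
open WGauss

namespace Groth.Agent.S16152

open CategoryTheory CategoryTheory.Limits AlgebraicGeometry

open MvPolynomial

theorem exists_le_degree {σ : Type*} (γ : σ →₀ ℕ) (m : ℕ) (hm : m ≤ γ.degree) : ∃ α, α ≤ γ ∧ α.degree = m := by
  induction m with
  | zero => exact ⟨0, bot_le, map_zero _⟩
  | succ m ih =>
    obtain ⟨α, hα, hd⟩ := ih (by omega)
    obtain ⟨i, hi⟩ : ∃ i, α i < γ i := by
      by_contra h
      push Not at h
      have := le_antisymm hα h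
      subst this
      omega
    classical
    refine ⟨α + Finsupp.single i 1, fun j => ?_, by rw [map_add, hd, Finsupp.degree_single]⟩
    by_cases hj : j = i
    · subst hj; simpa using hi
    · simpa [Ne.symm hj] using hα j


open MvPolynomial in
/-- Over a field k of characteristic zero, for e, a, b positive integers with a < b, the weighted
Gaussian map of the line bundle O(e) on projective n-space is surjective. Concretely, identifying
global sections of O(m) with homogeneous polynomials of degree m in X_0, ..., X_n and global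
sections of the twisted cotangent sheaf Omega^1(t) with the (n+1)-tuples of homogeneous polynomials
of degree t - 1 killed by the Euler map (f_i) to sum_i X_i f_i, every such tuple with t = (a+b)e is
a k-linear combination of the tuples (b tau (d sigma / d X_i) - a sigma (d tau / d X_i))_i with
sigma homogeneous of degree ae and tau homogeneous of degree be. (The source works over the complex
numbers; the statement is one of linear algebra and is given here over any field of characteristic
zero.) -/
theorem result
    (k : Type u) [Field k] [CharZero k] (n e a b : ℕ) (he : 0 < e) (ha : 0 < a) (hab : a < b)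
    (f : Fin (n + 1) → MvPolynomial (Fin (n + 1)) k)
    (hf : ∀ i, (f i).IsHomogeneous ((a + b) * e - 1))
    (hEuler : ∑ i, X i * f i = 0) :
    f ∈ Submodule.span k
      {g : Fin (n + 1) → MvPolynomial (Fin (n + 1)) k |
        ∃ σ τ : MvPolynomial (Fin (n + 1)) k, σ.IsHomogeneous (a * e) ∧ τ.IsHomogeneous (b * e) ∧
          g = fun i => (b : k) • (τ * pderiv i σ) - (a : k) • (σ * pderiv i τ)} := by
  classical
  set L := Submodule.span k
      {g : Fin (n + 1) → MvPolynomial (Fin (n + 1)) k |
        ∃ σ τ : MvPolynomial (Fin (n + 1)) k, σ.IsHomogeneous (a * e) ∧ τ.IsHomogeneous (b * e) ∧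
          g = fun i => (b : k) • (τ * pderiv i σ) - (a : k) • (σ * pderiv i τ)} with hL
  obtain ⟨A, hA⟩ : ∃ A, a * e = A + 1 := ⟨a * e - 1, by have := Nat.mul_pos ha he; omega⟩
  obtain ⟨B, hB⟩ : ∃ B, b * e = B + 1 := ⟨b * e - 1, by have := Nat.mul_pos (ha.trans hab) he; omega⟩
  have hD : (a + b) * e = A + B + 2 := by rw [add_mul, hA, hB]; omega
  have hab0 : (a : k) + b ≠ 0 := by
    have : ((a + b : ℕ) : k) ≠ 0 := Nat.cast_ne_zero.2 (by omega)
    simpa using this
  -- elementary syzygies
  let ω : Fin (n + 1) → Fin (n + 1) → MvPolynomial (Fin (n + 1)) k → (Fin (n + 1) → MvPolynomial (Fin (n + 1)) k) :=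
    fun j i h => fun l => h * (X j * pderiv l (X i) - X i * pderiv l (X j))
  have hω : ∀ j i δ ρ, δ.IsHomogeneous A → ρ.IsHomogeneous B → ω j i (δ * ρ) ∈ L := by
    intro j i δ ρ hδ hρ
    have h1 : ∀ p q : Fin (n + 1), (fun l => (b : k) • ((ρ * X q) * pderiv l (δ * X p)) - (a : k) • ((δ * X p) * pderiv l (ρ * X q))) ∈ L :=
      fun p q => Submodule.subset_span ⟨δ * X p, ρ * X q, hA ▸ hδ.mul (isHomogeneous_X k p), hB ▸ hρ.mul (isHomogeneous_X k q), rfl⟩
    have h2 := Submodule.smul_mem L ((a : k) + b)⁻¹ (L.sub_mem (h1 i j) (h1 j i))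
    convert h2 using 1
    funext l
    simp only [Pi.smul_apply, Pi.sub_apply, pderiv_mul, ω, smul_eq_C_mul, map_natCast]
    have hc : (C (((a : k) + b)⁻¹) : MvPolynomial (Fin (n + 1)) k) * ((a : MvPolynomial (Fin (n + 1)) k) + (b : MvPolynomial (Fin (n + 1)) k)) = 1 := by
      rw [← map_natCast (C : k →+* MvPolynomial (Fin (n + 1)) k) a, ← map_natCast (C : k →+* MvPolynomial (Fin (n + 1)) k) b,
        ← map_add, ← map_mul, inv_mul_cancel₀ hab0, map_one]
    linear_combination (-(δ * ρ * (X j * pderiv l (X i) - X i * pderiv l (X j)))) * hc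
  have hω' : ∀ j i h, h.IsHomogeneous (A + B) → ω j i h ∈ L := by
    intro j i h hh
    rw [show ω j i h = ∑ d ∈ h.support, ω j i (monomial d (coeff d h)) by
      funext l
      simp only [ω, Finset.sum_apply, ← Finset.sum_mul]
      rw [← h.as_sum]]
    refine Submodule.sum_mem _ fun d hd => ?_
    have hdd : d.degree = A + B := by
      have := hh (mem_support_iff.1 hd)
      simpa [Finsupp.weight_apply, Finsupp.degree, Finsupp.sum] using this
    obtain ⟨α, hα, hαd⟩ := exists_le_degree d A (by omega)
    have hsum : α + (d - α) = d := add_tsub_cancel_of_le hα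
    have hρd : (d - α).degree = B := by
      have := congrArg Finsupp.degree hsum
      rw [map_add] at this
      omega
    rw [show monomial d (coeff d h) = monomial α (coeff d h) * monomial (d - α) 1 by rw [monomial_mul, hsum, mul_one]]
    exact hω j i _ _ (isHomogeneous_monomial _ hαd) (isHomogeneous_monomial _ hρd)
  have hpd : ∀ i j, (pderiv j (f i)).IsHomogeneous (A + B) := fun i j => by
    have := (hf i).pderiv (i := j)
    rwa [hD, show A + B + 2 - 1 - 1 = A + B by omega] at this
  have hsumω : (∑ j, ∑ i, ω j i (pderiv j (f i))) = ((A + B + 2 : ℕ) : k) • f := by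
    funext l
    have h1 : ∀ j i, ω j i (pderiv j (f i)) l =
        (if i = l then X j * pderiv j (f i) else 0) - (if j = l then X i * pderiv j (f i) else 0) := fun j i => by
      simp only [ω, pderiv_X, Pi.single_apply]
      split <;> split <;> ring
    have hE := congrArg (pderiv l) hEuler
    simp only [map_sum, pderiv_mul, pderiv_X, Pi.single_apply, map_zero, ite_mul, one_mul, zero_mul,
      Finset.sum_add_distrib, Finset.sum_ite_eq, Finset.sum_ite_eq', Finset.mem_univ, if_true] at hE
    have hEu := (hf l).sum_X_mul_pderiv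
    rw [hD, show A + B + 2 - 1 = A + B + 1 by omega, nsmul_eq_mul] at hEu
    simp only [Finset.sum_apply, h1, Finset.sum_sub_distrib, Finset.sum_ite_eq', Finset.mem_univ, if_true, Pi.smul_apply]
    rw [hEu, Finset.sum_eq_single l (fun j _ hj => by simp [hj]) (by simp)]
    simp only [if_true, smul_eq_C_mul, map_natCast]
    push_cast at hE ⊢
    linear_combination hE.symm
  have : ((A + B + 2 : ℕ) : k) ≠ 0 := Nat.cast_ne_zero.2 (by omega)
  rw [← inv_smul_smul₀ this f, ← hsumω]
  exact L.smul_mem _ (L.sum_mem fun j _ => L.sum_mem fun i _ => hω' j i _ (hpd i j))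

end Groth.Agent.S16152
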