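import Groth.Statements.S16153
import Mathlib.RingTheory.MvPolynomial.WeightedHomogeneous
import Mathlib.Algebra.MvPolynomial.Nilpotent
import Mathlib.Algebra.MvPolynomial.NoZeroDivisors
import Mathlib.Tactic.LinearCombination
import Mathlib.Tactic.FinCases

set_option autoImplicit false
universe u
open SpinRat

namespace Groth.Agent.S16153


set_option linter.style.haveILetI false

open MvPolynomial

variable {k : Type u} [Field k]

/-- The exponent of `x₀^i x₁^(3-i) y₀^j y₁^(3-j)`. -/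
noncomputable def expo (i j : Fin 4) : Fin 4 →₀ ℕ := Finsupp.equivFunOnFinite.symm ![i.1, 3 - i.1, j.1, 3 - j.1]

theorem expo_inj {i j i' j' : Fin 4} (h : expo i j = expo i' j') : i = i' ∧ j = j' := by
  have h0 := DFunLike.congr_fun h 0
  have h2 := DFunLike.congr_fun h 2
  simp [expo] at h0 h2
  exact ⟨Fin.ext (by omega), Fin.ext (by omega)⟩

theorem monomial_expo (i j : Fin 4) (a : k) :
    monomial (expo i j) a = C a * (X 0 ^ i.1 * X 1 ^ (3 - i.1) * X 2 ^ j.1 * X 3 ^ (3 - j.1)) := by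
  rw [monomial_eq, Finsupp.prod_fintype _ _ (by simp), Fin.prod_univ_four]
  simp [expo]

theorem rename_expo (i j : Fin 4) :
    (expo i j).mapDomain (![2, 3, 0, 1] : Fin 4 → Fin 4) = expo j i := by
  have hσ : Function.Injective (![2, 3, 0, 1] : Fin 4 → Fin 4) := by decide
  ext v
  obtain ⟨w, rfl⟩ : ∃ w, (![2, 3, 0, 1] : Fin 4 → Fin 4) w = v := ⟨(![2, 3, 0, 1] : Fin 4 → Fin 4) v, by fin_cases v <;> rfl⟩
  rw [Finsupp.mapDomain_apply hσ]
  fin_cases w <;> simp [expo]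

/-- A form of bidegree `(3,3)` in coordinates. -/
theorem eq_sum (f : MvPolynomial (Fin 4) k) (h1 : f.IsWeightedHomogeneous (![1, 1, 0, 0] : Fin 4 → ℕ) 3)
    (h2 : f.IsWeightedHomogeneous (![0, 0, 1, 1] : Fin 4 → ℕ) 3) :
    f = ∑ i : Fin 4, ∑ j : Fin 4,
      C (coeff (expo i j) f) * (X 0 ^ i.1 * X 1 ^ (3 - i.1) * X 2 ^ j.1 * X 3 ^ (3 - j.1)) := by
  classical
  simp_rw [← monomial_expo]
  ext d
  simp only [coeff_sum, coeff_monomial]
  by_cases hd : coeff d f = 0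
  · rw [hd, Finset.sum_eq_zero fun i _ => Finset.sum_eq_zero fun j _ => ?_]
    split_ifs with h
    · rw [h, hd]
    · rfl
  · have e1 := h1 hd
    have e2 := h2 hd
    simp [Finsupp.weight_apply, Finsupp.sum_fintype, Fin.sum_univ_four] at e1 e2
    obtain ⟨i, hi⟩ : ∃ i : Fin 4, i.1 = d 0 := ⟨⟨d 0, by omega⟩, rfl⟩
    obtain ⟨j, hj⟩ : ∃ j : Fin 4, j.1 = d 2 := ⟨⟨d 2, by omega⟩, rfl⟩
    have hij : expo i j = d := by
      ext v
      fin_cases v <;> simp [expo] <;> omega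
    rw [Finset.sum_eq_single i, Finset.sum_eq_single j, if_pos hij, hij]
    · exact fun b _ hb => if_neg fun h => hb (expo_inj (h.trans hij.symm)).2
    · simp
    · exact fun b _ hb => Finset.sum_eq_zero fun c _ => if_neg fun h => hb (expo_inj (h.trans hij.symm)).1
    · simp

theorem coeff_swap (f : MvPolynomial (Fin 4) k) (i j : Fin 4) :
    coeff (expo j i) (rename (![2, 3, 0, 1] : Fin 4 → Fin 4) f) = coeff (expo i j) f := by
  rw [← rename_expo i j, coeff_rename_mapDomain _ (by decide)]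

/-- The seven equations imposed by the condition on the diagonal. -/
theorem diag_eq (d : Fin 7 → k)
    (h : (X 0 * X 1 * (X 0 - X 1) : MvPolynomial (Fin 2) k) ^ 2 ∣ ∑ m : Fin 7, C (d m) * (X 0 ^ m.1 * X 1 ^ (6 - m.1))) :
    ∃ lam : k, d 0 = 0 ∧ d 1 = 0 ∧ d 2 = lam ∧ d 3 = -2 * lam ∧ d 4 = lam ∧ d 5 = 0 ∧ d 6 = 0 := by
  classical
  obtain ⟨q, hq⟩ := h
  set P : MvPolynomial (Fin 2) k := (X 0 * X 1 * (X 0 - X 1)) ^ 2 with hPdef
  set D : MvPolynomial (Fin 2) k := ∑ m : Fin 7, C (d m) * (X 0 ^ m.1 * X 1 ^ (6 - m.1)) with hDdef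
  have hX : ∀ v : Fin 2, (X v : MvPolynomial (Fin 2) k).IsHomogeneous 1 := fun v => isHomogeneous_X k v
  have hP : P.IsHomogeneous 6 := (((hX 0).mul (hX 1)).mul ((hX 0).sub (hX 1))).pow 2
  have hD : D.IsHomogeneous 6 := IsHomogeneous.sum _ _ _ fun m _ => by
    have := (((hX 0).pow m.1).mul ((hX 1).pow (6 - m.1))).C_mul (d m)
    rwa [show 1 * m.1 + 1 * (6 - m.1) = 6 by omega] at this
  have hP0 : P ≠ 0 := by
    refine pow_ne_zero 2 (mul_ne_zero (mul_ne_zero (X_ne_zero _) (X_ne_zero _)) fun h0 => ?_)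
    have := congrArg (eval ![(1 : k), 0]) h0
    simp at this
  obtain ⟨lam, rfl⟩ : ∃ lam, q = C lam := by
    rcases eq_or_ne q 0 with rfl | hq0
    · exact ⟨0, by simp⟩
    · refine ⟨coeff 0 q, totalDegree_eq_zero_iff_eq_C.1 ?_⟩
      have h1 := totalDegree_mul_of_isDomain hP0 hq0
      rw [← hq, hP.totalDegree hP0, hD.totalDegree (hq ▸ mul_ne_zero hP0 hq0)] at h1
      omega
  let t : ℕ → ℕ → Fin 2 →₀ ℕ := fun p r => Finsupp.equivFunOnFinite.symm ![p, r]
  have ht : ∀ {p r p' r' : ℕ}, t p r = t p' r' ↔ p = p' ∧ r = r' := by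
    intro p r p' r'
    refine ⟨fun h => ⟨?_, ?_⟩, fun ⟨a, b⟩ => a ▸ b ▸ rfl⟩
    · simpa [t] using DFunLike.congr_fun h 0
    · simpa [t] using DFunLike.congr_fun h 1
  have hm : ∀ (a : k) (p r : ℕ), C a * (X 0 ^ p * X 1 ^ r) = monomial (t p r) a := fun a p r => by
    rw [monomial_eq, Finsupp.prod_fintype _ _ (by simp), Fin.prod_univ_two]
    simp [t]
  have hPe : P * C lam = C lam * (X 0 ^ 4 * X 1 ^ 2) + C (-2 * lam) * (X 0 ^ 3 * X 1 ^ 3) + C lam * (X 0 ^ 2 * X 1 ^ 4) := by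
    rw [hPdef, map_mul, map_neg, map_ofNat]; ring
  have key : ∀ m : Fin 7, d m = (if m = 4 then lam else 0) + (if m = 3 then -2 * lam else 0) + (if m = 2 then lam else 0) := by
    intro m
    have := congrArg (coeff (t m.1 (6 - m.1))) hq
    rw [hPe, hDdef] at this
    simp only [coeff_sum, coeff_add, hm, coeff_monomial] at this
    rw [Finset.sum_eq_single m (fun b _ hb => if_neg fun h => hb (Fin.ext (ht.1 h).1)) (by simp), if_pos rfl] at this
    rw [this]
    fin_cases m <;> simp [ht]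
  exact ⟨lam, by simpa using key 0, by simpa using key 1, by simpa using key 2, by simpa using key 3,
    by simpa using key 4, by simpa using key 5, by simpa using key 6⟩


open MvPolynomial in
/-- In the bigraded polynomial ring k[x0, x1, y0, y1] of the quadric surface (variables X 0, X 1, X 2, X
3 in this order), over a field k of characteristic zero, let iota exchange x_i with y_i, let l = x0
y1 - x1 y0 be the diagonal, h1 = x0 (y1 - y0) + y0 (x1 - x0), h2 = x1 (y0 - y1) + y1 (x0 - x1), h3 =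
x0 y1 + x1 y0, h = h1 + h2 + h3, h13 = h1 - h3, h23 = h2 - h3, and let c = x0 x1 (x0 - x1) y0 y1 (y0
- y1) be the product of the six rulings through the three diagonal points (1:0)x(1:0), (0:1)x(0:1),
(1:1)x(1:1). Let I be the space of forms of bidegree (3,3) whose restriction to the diagonal is
divisible by (x0 x1 (x0 - x1))^2, that is, the bidegree-(3,3) forms through the length-six subscheme
of the diagonal doubled at those three points. Then the iota-invariant forms in I are exactly the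
span of c, l^2 h, l^2 h13, l^2 h23; the iota-anti-invariant forms in I are exactly the span of l
h^2, l h h13, l h h23, l h13^2, l h23^2, l h13 h23; and these ten forms are linearly independent.
(The source works over the complex numbers and writes the two eigenspaces as direct sums of the
displayed pieces; the six-line form c is read as the product of the two cubic factors.) -/
theorem result
    (k : Type u) [Field k] [CharZero k]
    (l h1 h2 h3 h h13 h23 c : MvPolynomial (Fin 4) k)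
    (hl : l = X 0 * X 3 - X 1 * X 2)
    (hh1 : h1 = X 0 * (X 3 - X 2) + X 2 * (X 1 - X 0))
    (hh2 : h2 = X 1 * (X 2 - X 3) + X 3 * (X 0 - X 1))
    (hh3 : h3 = X 0 * X 3 + X 1 * X 2)
    (hh : h = h1 + h2 + h3) (hh13 : h13 = h1 - h3) (hh23 : h23 = h2 - h3)
    (hc : c = X 0 * X 1 * (X 0 - X 1) * (X 2 * X 3 * (X 2 - X 3)))
    (I : Submodule k (MvPolynomial (Fin 4) k))
    (hI : ∀ f, f ∈ I ↔
      (f.IsWeightedHomogeneous (![1, 1, 0, 0] : Fin 4 → ℕ) 3 ∧
       f.IsWeightedHomogeneous (![0, 0, 1, 1] : Fin 4 → ℕ) 3 ∧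
       (X 0 * X 1 * (X 0 - X 1)) ^ 2 ∣ rename (![0, 1, 0, 1] : Fin 4 → Fin 2) f)) :
    (∀ f, (f ∈ I ∧ rename (![2, 3, 0, 1] : Fin 4 → Fin 4) f = f) ↔
        f ∈ Submodule.span k ({c, l ^ 2 * h, l ^ 2 * h13, l ^ 2 * h23} : Set (MvPolynomial (Fin 4) k))) ∧
    (∀ f, (f ∈ I ∧ rename (![2, 3, 0, 1] : Fin 4 → Fin 4) f = -f) ↔
        f ∈ Submodule.span k ({l * h ^ 2, l * h * h13, l * h * h23, l * h13 ^ 2, l * h23 ^ 2, l * h13 * h23} :
          Set (MvPolynomial (Fin 4) k))) ∧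
    LinearIndependent k
      ![c, l ^ 2 * h, l ^ 2 * h13, l ^ 2 * h23, l * h ^ 2, l * h * h13, l * h * h23, l * h13 ^ 2, l * h23 ^ 2,
        l * h13 * h23] := by
  have hPP : (X 0 * X 1 * (X 0 - X 1) : MvPolynomial (Fin 2) k) ^ 2 ∣ rename (![0, 1, 0, 1] : Fin 4 → Fin 2) c :=
    ⟨1, by simp [hc]; ring⟩
  have hld : rename (![0, 1, 0, 1] : Fin 4 → Fin 2) l = 0 := by simp [hl]; ring
  -- bidegrees
  have hbi : ∀ (w : Fin 4 → ℕ), w 0 = w 1 → w 2 = w 3 → ∀ n, w 0 + w 2 = n →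
      l.IsWeightedHomogeneous w n ∧ h.IsWeightedHomogeneous w n ∧ h13.IsWeightedHomogeneous w n ∧
      h23.IsWeightedHomogeneous w n ∧ c.IsWeightedHomogeneous w (3 * n) := by
    intro w w1 w3 n hn
    have hX : ∀ v, (X v : MvPolynomial (Fin 4) k).IsWeightedHomogeneous w (w v) := fun v => isWeightedHomogeneous_X k w v
    have hxy : ∀ a b, w a + w b = n → (X a * X b : MvPolynomial (Fin 4) k).IsWeightedHomogeneous w n :=
      fun a b hab => hab ▸ (hX a).mul (hX b)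
    have a02 : w 0 + w 2 = n := hn
    have a03 : w 0 + w 3 = n := by omega
    have a12 : w 1 + w 2 = n := by omega
    have a13 : w 1 + w 3 = n := by omega
    have g1 : h1.IsWeightedHomogeneous w n := by
      rw [hh1, mul_sub, mul_sub]
      exact ((hxy _ _ a03).sub (hxy _ _ a02)).add ((hxy _ _ (by omega)).sub (hxy _ _ (by omega)))
    have g2 : h2.IsWeightedHomogeneous w n := by
      rw [hh2, mul_sub, mul_sub]
      exact ((hxy _ _ a12).sub (hxy _ _ a13)).add ((hxy _ _ (by omega)).sub (hxy _ _ (by omega)))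
    have g3 : h3.IsWeightedHomogeneous w n := hh3 ▸ (hxy _ _ a03).add (hxy _ _ a12)
    refine ⟨hl ▸ (hxy _ _ a03).sub (hxy _ _ a12), hh ▸ (g1.add g2).add g3, hh13 ▸ g1.sub g3, hh23 ▸ g2.sub g3, ?_⟩
    have h01 : (X 0 - X 1 : MvPolynomial (Fin 4) k).IsWeightedHomogeneous w (w 0) := (hX 0).sub (w1 ▸ hX 1)
    have h23' : (X 2 - X 3 : MvPolynomial (Fin 4) k).IsWeightedHomogeneous w (w 2) := (hX 2).sub (w3 ▸ hX 3)
    have := (((hX 0).mul (hX 1)).mul h01).mul (((hX 2).mul (hX 3)).mul h23')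
    rw [hc]
    convert this using 1
    omega
  obtain ⟨l1, m1, a1, b1, c1⟩ := hbi ![1, 1, 0, 0] rfl rfl 1 rfl
  obtain ⟨l2, m2, a2, b2, c2⟩ := hbi ![0, 0, 1, 1] rfl rfl 1 rfl
  have mem : ∀ (g : MvPolynomial (Fin 4) k), g.IsWeightedHomogeneous (![1, 1, 0, 0] : Fin 4 → ℕ) 2 →
      g.IsWeightedHomogeneous (![0, 0, 1, 1] : Fin 4 → ℕ) 2 → l * g ∈ I := fun g g1 g2 =>
    (hI _).2 ⟨l1.mul g1, l2.mul g2, by rw [map_mul, hld, zero_mul]; exact dvd_zero _⟩
  -- the equations for an element of I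
  have equ : ∀ f ∈ I, ∃ (a : Fin 4 → Fin 4 → k) (lam : k),
      (∀ i j, a i j = coeff (expo i j) f) ∧
      f = ∑ i, ∑ j, C (a i j) * (X 0 ^ i.1 * X 1 ^ (3 - i.1) * X 2 ^ j.1 * X 3 ^ (3 - j.1)) ∧
      a 0 0 = 0 ∧ a 0 1 + a 1 0 = 0 ∧ a 0 2 + a 1 1 + a 2 0 = lam ∧
      a 0 3 + a 1 2 + a 2 1 + a 3 0 = -2 * lam ∧ a 1 3 + a 2 2 + a 3 1 = lam ∧
      a 2 3 + a 3 2 = 0 ∧ a 3 3 = 0 := by
    intro f hf
    obtain ⟨f1, f2, fd⟩ := (hI f).1 hf
    let a := fun i j => coeff (expo i j) f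
    have hsum := eq_sum f f1 f2
    let d : Fin 7 → k := ![a 0 0, a 0 1 + a 1 0, a 0 2 + a 1 1 + a 2 0, a 0 3 + a 1 2 + a 2 1 + a 3 0,
      a 1 3 + a 2 2 + a 3 1, a 2 3 + a 3 2, a 3 3]
    have hd : rename (![0, 1, 0, 1] : Fin 4 → Fin 2) f = ∑ m : Fin 7, C (d m) * (X 0 ^ m.1 * X 1 ^ (6 - m.1)) := by
      conv_lhs => rw [hsum]
      simp [Fin.sum_univ_succ, d, a, map_add]
      ring
    obtain ⟨lam, e0, e1, e2, e3, e4, e5, e6⟩ := diag_eq d (hd ▸ fd)
    exact ⟨a, lam, fun i j => rfl, hsum, by simpa [d] using e0, by simpa [d] using e1, by simpa [d] using e2,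
      by simpa [d] using e3, by simpa [d] using e4, by simpa [d] using e5, by simpa [d] using e6⟩
  have two : (2 : k) ≠ 0 := two_ne_zero
  have h36 : (36 : k) ≠ 0 := by norm_num
  refine ⟨fun f => ⟨fun ⟨hf, hsw⟩ => ?_, fun hf => ?_⟩, fun f => ⟨fun ⟨hf, hsw⟩ => ?_, fun hf => ?_⟩, ?_⟩
  · obtain ⟨a, lam, ha, hsum, e0, e1, e2, e3, e4, e5, e6⟩ := equ f hf
    have hs : ∀ i j, a j i = a i j := fun i j => by
      rw [ha, ha]
      conv_rhs => rw [← coeff_swap f i j, hsw]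
    rw [hs 0 1] at e1
    rw [hs 0 2] at e2
    rw [hs 1 2, hs 0 3] at e3
    rw [hs 1 3] at e4
    rw [hs 2 3] at e5
    have z01 : a 0 1 = 0 := mul_left_cancel₀ two (by linear_combination e1)
    have z23 : a 2 3 = 0 := mul_left_cancel₀ two (by linear_combination e5)
    have z12 : a 1 2 = -a 0 3 - 2 * a 0 2 - a 1 1 := mul_left_cancel₀ two (by linear_combination e3 + 2 * e2)
    have z22 : a 2 2 = 2 * a 0 2 + a 1 1 - 2 * a 1 3 := by linear_combination e4 - e2
    have hid : (36 : k) • f = (72 * a 0 2 + 36 * a 1 1) • c + (12 * a 0 3) • (l ^ 2 * h) +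
        (-12 * a 0 3 - 18 * a 1 3) • (l ^ 2 * h13) + (-18 * a 0 2 - 12 * a 0 3) • (l ^ 2 * h23) := by
      rw [hsum]
      simp only [hc, hl, hh, hh13, hh23, hh1, hh2, hh3, smul_eq_C_mul, Fin.sum_univ_four, hs 0 1, hs 0 2, hs 0 3, hs 1 2,
        hs 1 3, hs 2 3, e0, e6, z01, z23, z12, z22, map_add, map_sub, map_mul, map_neg, map_ofNat, map_zero]
      norm_num
      ring
    have := Submodule.smul_mem (Submodule.span k ({c, l ^ 2 * h, l ^ 2 * h13, l ^ 2 * h23} : Set (MvPolynomial (Fin 4) k)))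
      (36 : k)⁻¹ (x := (36 : k) • f) (by
        rw [hid]
        refine Submodule.add_mem _ (Submodule.add_mem _ (Submodule.add_mem _ ?_ ?_) ?_) ?_ <;>
          exact Submodule.smul_mem _ _ (Submodule.subset_span (by simp)))
    rwa [smul_smul, inv_mul_cancel₀ h36, one_smul] at this
  · refine Submodule.span_induction ?_ ?_ ?_ ?_ hf
    · rintro x (rfl | rfl | rfl | rfl)
      · exact ⟨(hI _).2 ⟨c1, c2, hPP⟩, by simp [hc]; ring⟩
      all_goals refine ⟨by rw [pow_two, mul_assoc]; first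
          | exact mem _ (l1.mul m1) (l2.mul m2) | exact mem _ (l1.mul a1) (l2.mul a2) | exact mem _ (l1.mul b1) (l2.mul b2),
        by simp [hl, hh, hh13, hh23, hh1, hh2, hh3]; ring⟩
    · exact ⟨I.zero_mem, by simp⟩
    · exact fun x y _ _ hx hy => ⟨I.add_mem hx.1 hy.1, by rw [map_add, hx.2, hy.2]⟩
    · exact fun t x _ hx => ⟨I.smul_mem t hx.1, by rw [map_smul, hx.2]⟩
  · obtain ⟨a, lam, ha, hsum, e0, e1, e2, e3, e4, e5, e6⟩ := equ f hf
    have hs : ∀ i j, a j i = -a i j := fun i j => by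
      rw [ha, ha]
      conv_rhs => rw [← coeff_swap f i j, hsw, coeff_neg, neg_neg]
    have z11 : a 1 1 = 0 := mul_left_cancel₀ two (by linear_combination hs 1 1)
    have z22 : a 2 2 = 0 := mul_left_cancel₀ two (by linear_combination hs 2 2)
    have hid : (36 : k) • f = (-4 * a 0 3) • (l * h ^ 2) + (8 * a 0 3 + 6 * a 1 3) • (l * h * h13) +
        (6 * a 0 2 + 8 * a 0 3) • (l * h * h23) + (-4 * a 0 3 - 6 * a 1 3 - 9 * a 2 3) • (l * h13 ^ 2) +
        (-9 * a 0 1 - 6 * a 0 2 - 4 * a 0 3) • (l * h23 ^ 2) +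
        (-6 * a 0 2 + a 0 3 - 9 * a 1 2 - 6 * a 1 3) • (l * h13 * h23) := by
      rw [hsum]
      simp only [hl, hh, hh13, hh23, hh1, hh2, hh3, smul_eq_C_mul, Fin.sum_univ_four, hs 0 1, hs 0 2, hs 0 3, hs 1 2,
        hs 1 3, hs 2 3, e0, e6, z11, z22, map_add, map_sub, map_mul, map_neg, map_ofNat, map_zero]
      norm_num
      ring
    have := Submodule.smul_mem (Submodule.span k
      ({l * h ^ 2, l * h * h13, l * h * h23, l * h13 ^ 2, l * h23 ^ 2, l * h13 * h23} : Set (MvPolynomial (Fin 4) k)))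
      (36 : k)⁻¹ (x := (36 : k) • f) (by
        rw [hid]
        refine Submodule.add_mem _ (Submodule.add_mem _ (Submodule.add_mem _ (Submodule.add_mem _ (Submodule.add_mem _ ?_ ?_) ?_) ?_) ?_) ?_ <;>
          exact Submodule.smul_mem _ _ (Submodule.subset_span (by simp)))
    rwa [smul_smul, inv_mul_cancel₀ h36, one_smul] at this
  · refine Submodule.span_induction ?_ ?_ ?_ ?_ hf
    · rintro x (rfl | rfl | rfl | rfl | rfl | rfl)
      all_goals refine ⟨?_, by simp [hl, hh, hh13, hh23, hh1, hh2, hh3]; ring⟩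
      · exact mem _ (m1.pow 2) (m2.pow 2)
      · rw [mul_assoc]; exact mem _ (m1.mul a1) (m2.mul a2)
      · rw [mul_assoc]; exact mem _ (m1.mul b1) (m2.mul b2)
      · exact mem _ (a1.pow 2) (a2.pow 2)
      · exact mem _ (b1.pow 2) (b2.pow 2)
      · rw [mul_assoc]; exact mem _ (a1.mul b1) (a2.mul b2)
    · exact ⟨I.zero_mem, by simp⟩
    · exact fun x y _ _ hx hy => ⟨I.add_mem hx.1 hy.1, by rw [map_add, hx.2, hy.2, neg_add]⟩
    · exact fun t x _ hx => ⟨I.smul_mem t hx.1, by rw [map_smul, hx.2, smul_neg]⟩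
  rw [Fintype.linearIndependent_iff]
  intro g hg
  have e0 := congrArg (MvPolynomial.eval ![(-1 : k), 0, 0, -1]) hg
  simp [Fin.sum_univ_succ, hl, hh, hh13, hh23, hh1, hh2, hh3, hc, smul_eq_C_mul] at e0
  have e1 := congrArg (MvPolynomial.eval ![(0 : k), -1, -1, 0]) hg
  simp [Fin.sum_univ_succ, hl, hh, hh13, hh23, hh1, hh2, hh3, hc, smul_eq_C_mul] at e1
  have e2 := congrArg (MvPolynomial.eval ![(-1 : k), -1, -1, 0]) hg
  simp [Fin.sum_univ_succ, hl, hh, hh13, hh23, hh1, hh2, hh3, hc, smul_eq_C_mul] at e2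
  have e3 := congrArg (MvPolynomial.eval ![(-1 : k), -1, 0, -1]) hg
  simp [Fin.sum_univ_succ, hl, hh, hh13, hh23, hh1, hh2, hh3, hc, smul_eq_C_mul] at e3
  have e4 := congrArg (MvPolynomial.eval ![(-1 : k), 0, -1, -1]) hg
  simp [Fin.sum_univ_succ, hl, hh, hh13, hh23, hh1, hh2, hh3, hc, smul_eq_C_mul] at e4
  have e5 := congrArg (MvPolynomial.eval ![(-1 : k), 0, -1, 1]) hg
  simp [Fin.sum_univ_succ, hl, hh, hh13, hh23, hh1, hh2, hh3, hc, smul_eq_C_mul] at e5
  have e6 := congrArg (MvPolynomial.eval ![(-1 : k), 1, 0, -1]) hg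
  simp [Fin.sum_univ_succ, hl, hh, hh13, hh23, hh1, hh2, hh3, hc, smul_eq_C_mul] at e6
  have e7 := congrArg (MvPolynomial.eval ![(0 : k), -1, -1, -1]) hg
  simp [Fin.sum_univ_succ, hl, hh, hh13, hh23, hh1, hh2, hh3, hc, smul_eq_C_mul] at e7
  have e8 := congrArg (MvPolynomial.eval ![(-1 : k), -1, -1, 1]) hg
  simp [Fin.sum_univ_succ, hl, hh, hh13, hh23, hh1, hh2, hh3, hc, smul_eq_C_mul] at e8
  have e9 := congrArg (MvPolynomial.eval ![(-1 : k), 1, -1, 1]) hg
  simp [Fin.sum_univ_succ, hl, hh, hh13, hh23, hh1, hh2, hh3, hc, smul_eq_C_mul] at e9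
  intro i
  fin_cases i
  · simp only [Fin.zero_eta, Fin.mk_one, Fin.reduceFinMk]; linear_combination e9
  · simp only [Fin.zero_eta, Fin.mk_one, Fin.reduceFinMk]; linear_combination (1/6 : k) * e0 + (1/6 : k) * e1
  · simp only [Fin.zero_eta, Fin.mk_one, Fin.reduceFinMk]; linear_combination (1/12 : k) * e0 + (1/12 : k) * e1 + (-1/4 : k) * e2 + (-1/4 : k) * e4
  · simp only [Fin.zero_eta, Fin.mk_one, Fin.reduceFinMk]; linear_combination (1/12 : k) * e0 + (1/12 : k) * e1 + (-1/4 : k) * e3 + (-1/4 : k) * e7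
  · simp only [Fin.zero_eta, Fin.mk_one, Fin.reduceFinMk]; linear_combination (1/18 : k) * e0 + (-1/18 : k) * e1
  · simp only [Fin.zero_eta, Fin.mk_one, Fin.reduceFinMk]; linear_combination (-7/36 : k) * e0 + (1/36 : k) * e1 + (1/12 : k) * e2 + (-1/12 : k) * e5
  · simp only [Fin.zero_eta, Fin.mk_one, Fin.reduceFinMk]; linear_combination (-7/36 : k) * e0 + (1/36 : k) * e1 + (1/12 : k) * e6 + (1/12 : k) * e7
  · simp only [Fin.zero_eta, Fin.mk_one, Fin.reduceFinMk]; linear_combination (-1/9 : k) * e0 + (1/36 : k) * e1 + (-1/12 : k) * e2 + (1/8 : k) * e4 + (-1/24 : k) * e5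
  · simp only [Fin.zero_eta, Fin.mk_one, Fin.reduceFinMk]; linear_combination (-1/9 : k) * e0 + (1/36 : k) * e1 + (1/8 : k) * e3 + (1/24 : k) * e6 + (-1/12 : k) * e7
  · simp only [Fin.zero_eta, Fin.mk_one, Fin.reduceFinMk]; linear_combination (-2/9 : k) * e0 + (1/18 : k) * e1 + (-1/3 : k) * e2 + (3/8 : k) * e3 + (-1/8 : k) * e4 + (-1/24 : k) * e5 + (1/24 : k) * e6 + (1/6 : k) * e7 + (1/8 : k) * e8


end Groth.Agent.S16153
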