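import Groth.Statements.S16154
import Groth.Agent.CIProjLib.TopCoh
import Groth.Agent.JacLib.Dim

set_option autoImplicit false
universe u
open CategoryTheory CategoryTheory.Limits AlgebraicGeometry
open WGauss

namespace Groth.Agent.S16154

/-- Let k be a field and X in projective n-space over k the common zero scheme of m forms G_j of degrees
d_1 >= d_2 >= ... >= d_m >= 2 (m >= 1), smooth over k of relative dimension kk >= 1 with kk + m = n,
so that X is a smooth complete intersection of dimension kk whose twisted conormal bundle N_X^*(t)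
is the direct sum of the O_X(t - d_j). Then, for an integer t, H^1(X, O_X(t - d_j)) = 0 for every j
(that is, H^1(X, N_X^*(t)) = 0) if and only if either kk >= 2, or kk = 1 and t > 2 d_1 + d_2 + ... +
d_m - n - 1. Here O_X(c) is the pullback of O(c) from projective space along the inclusion of X.
(The source works over the complex numbers with X smooth projective; the statement is given over any
field.) -/
theorem result
    (k : Type u) [Field k] (n kk m : ℕ) (hkk : 1 ≤ kk) (hm : 1 ≤ m) (hn : kk + m = n)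
    (d : Fin m → ℕ) (hd2 : ∀ j, 2 ≤ d j) (hanti : Antitone d)
    (G : ∀ j : Fin m, LefPen.Form n k (d j))
    [SmoothOfRelativeDimension kk ((LefPen.ciIdeal G).subschemeι ≫ CohB1.ProjSpace.toSpec n k)]
    (t : ℤ) :
    (∀ j : Fin m, Subsingleton (Coh.HH (LefPen.ciIdeal G).subscheme
        ((Scheme.Modules.pullback (LefPen.ciIdeal G).subschemeι).obj
          (Twist.twistProjSpace n k (t - (d j : ℤ)))) 1)) ↔
      (2 ≤ kk ∨ (kk = 1 ∧ ((d ⟨0, hm⟩ : ℤ) + ∑ j : Fin m, (d j : ℤ)) - (n : ℤ) - 1 < t)) := by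
  subst hn
  obtain ⟨x, hx⟩ := Groth.Agent.InterDimLib.exists_pt (n := kk + m) (k := k) (Q := ⊥) Ideal.isPrime_bot
    (Ideal.IsHomogeneous.bot _) (by
      intro h
      have h0 : (MvPolynomial.X 0 : MvPolynomial (Fin (kk + m + 1)) k) ∈ MvPolynomial.idealOfVars (Fin (kk + m + 1)) k :=
        Ideal.subset_span ⟨0, rfl⟩
      rw [← h, Ideal.mem_bot] at h0
      exact MvPolynomial.X_ne_zero 0 h0)
  have hdx : ringKrullDim (MvPolynomial (Fin (kk + m + 1)) k ⧸ Groth.Agent.InterDimLib.idl x) =
      ((kk + m + 1 : ℕ) : WithBot ℕ∞) := by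
    rw [hx, ringKrullDim_eq_of_ringEquiv (RingEquiv.quotientBot _), MvPolynomial.ringKrullDim_of_isNoetherianRing,
      ringKrullDim_eq_zero_of_field, zero_add]
    simp
  obtain ⟨z, -, hz⟩ := Groth.Agent.InterDimLib.exists_zero (fun j => (G j).1) (fun j => ⟨_, (G j).2⟩)
    (Set.range_subset_iff.2 fun j => Groth.Agent.InterDimLib.mem_vars_of_isHomogeneous (G j).2
      (by have := hd2 j; omega)) hdx (by rw [Nat.card_eq_fintype_card, Fintype.card_fin]; omega)
  haveI : Nonempty ↥(LefPen.ciIdeal G).subscheme := by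
    have h : (z : CohB1.ProjSpace (kk + m) k) ∈ (LefPen.ciIdeal G).support :=
      (Groth.Agent.CIEquidimLib.mem_support_ciIdeal G z).2 hz
    obtain ⟨y, -⟩ := (Scheme.IdealSheafData.range_subschemeι (LefPen.ciIdeal G)).ge h
    exact ⟨y⟩
  have hdim : topologicalKrullDim ↥(LefPen.ciIdeal G).subscheme = ((kk + m - m : ℕ) : WithBot ℕ∞) := by
    rw [Nat.add_sub_cancel, Groth.Agent.JacLib.topologicalKrullDim_of_smooth
      ((LefPen.ciIdeal G).subschemeι ≫ CohB1.ProjSpace.toSpec (kk + m) k) kk]
  have ha : ∀ j, 1 ≤ d j := fun j => by have := hd2 j; omega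
  rcases Nat.lt_or_ge kk 2 with h2 | h2
  · obtain rfl : kk = 1 := by omega
    have key := fun j => Groth.Agent.CIProjLib.subsingleton_top_iff ha G (by omega) hdim (t - (d j : ℤ))
    simp only [Nat.add_sub_cancel] at key
    simp only [key]
    constructor
    · intro h
      have := h ⟨0, hm⟩
      refine Or.inr ⟨by trivial, by omega⟩
    · rintro (h | ⟨-, h⟩) j
      · omega
      · have : d j ≤ d ⟨0, hm⟩ := hanti (show (⟨0, hm⟩ : Fin m) ≤ j from Nat.zero_le _)
        omega
  · refine iff_of_true (fun j => ?_) (Or.inl h2)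
    exact (Groth.Agent.CIProjLib.twistCI_ciIdeal m ha G (by omega) hdim).1 _ 1 one_pos (by omega)

end Groth.Agent.S16154
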