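import Groth.Statements.S16156
import Mathlib
-- import your own Groth.Agent.* helpers here

set_option autoImplicit false
universe u
open MukaiVec

namespace Groth.Agent.S16156

/-- Let N be an abelian group with a symmetric integer-valued bilinear form and H an element with H·H =
2n for some n > 0 such that every x with x·H = 0 satisfies x·x ≤ 0 (the Hodge index inequality). Fix
integers r ≥ 2, d > 0 and χ < 0 (a Mukai vector v = (r, dH, χ)) and an isotropic Mukai vector u =
(p, η, q), p ≥ 0, η ∈ N, η·η = 2pq, whose pairing ⟨v, u⟩ = d(H·η) − rq − χp has absolute value 1 or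
2. Exclude the case d = 1, χ = −1, H·η = 1, η·η = 0, and when r = 2 also the case p = 0, H·η = 0.
Then the pairings of u∨ = (p, −η, q) with w₀ = (0, rH, −2nd) and with w₁ = (2nd, −χH, 0) are both
non-negative or both negative: 2ndp − r(H·η) ≥ 0 holds if and only if χ(H·η) − 2ndq ≥ 0 holds. -/
theorem result
    (N : Type u) [AddCommGroup N] (B : LinearMap.BilinForm ℤ N) (hB : ∀ x y : N, B x y = B y x)
    (H : N) (n : ℤ) (hn : 0 < n) (hH : B H H = 2 * n) (hodge : ∀ x : N, B x H = 0 → B x x ≤ 0)
    (r d χ p q : ℤ) (η : N) (hr : 2 ≤ r) (hd : 0 < d) (hχ : χ < 0) (hp : 0 ≤ p)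
    (hiso : B η η = 2 * p * q)
    (hvu : 1 ≤ |d * B H η - r * q - χ * p| ∧ |d * B H η - r * q - χ * p| ≤ 2)
    (hexc : ¬ (d = 1 ∧ χ = -1 ∧ B H η = 1 ∧ B η η = 0))
    (hr2 : r = 2 → ¬ (p = 0 ∧ B H η = 0)) :
    (0 ≤ 2 * n * d * p - r * B H η ↔ 0 ≤ χ * B H η - 2 * n * d * q) := by
  set h := B H η with hh
  set w := d * h - r * q - χ * p with hw
  have hodge' : 4 * n * p * q ≤ h * h := by
    have e := hodge ((2 * n) • η - h • H) (by
      simp only [map_sub, map_smul, LinearMap.sub_apply, LinearMap.smul_apply, smul_eq_mul, hH, hB η H, ← hh]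
      ring)
    simp only [map_sub, map_smul, LinearMap.sub_apply, LinearMap.smul_apply, smul_eq_mul, hH, hB η H, ← hh,
      hiso] at e
    by_contra hlt
    push Not at hlt
    nlinarith [mul_pos hn (sub_pos.mpr hlt)]
  have hw2 : w ≤ 2 ∧ -2 ≤ w := by
    obtain ⟨-, h2⟩ := hvu
    exact ⟨(abs_le.mp h2).2, (abs_le.mp h2).1⟩
  constructor
  · intro hA
    by_contra hC
    push Not at hC
    rcases lt_trichotomy h 0 with hlt | h0 | hgt
    · have hq : 0 < q := by
        by_contra hq
        push Not at hq
        nlinarith [mul_pos (neg_pos.mpr hχ) (neg_pos.mpr hlt),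
          mul_nonneg (mul_nonneg hn.le hd.le) (neg_nonneg.mpr hq)]
      have hcp : 2 * (-χ) * p < d * (-h) := by
        by_contra hcp
        push Not at hcp
        have a1 := mul_le_mul_of_nonneg_left hcp (mul_nonneg (mul_nonneg (by norm_num : (0:ℤ) ≤ 2) hn.le) hq.le)
        have a2 := mul_le_mul_of_nonneg_left hodge' (neg_nonneg.mpr hχ.le)
        have a3 := mul_lt_mul_of_pos_right hC (neg_pos.mpr hlt)
        nlinarith
      nlinarith
    · rw [h0] at hC
      have hq : 0 < q := by
        by_contra hq
        push Not at hq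
        nlinarith [mul_nonneg (mul_nonneg hn.le hd.le) (neg_nonneg.mpr hq)]
      have hp0 : p = 0 := by
        by_contra hp'
        have : 0 < p := lt_of_le_of_ne hp (Ne.symm hp')
        rw [h0] at hodge'
        nlinarith [mul_pos (mul_pos hn this) hq]
      have hr' : r = 2 := by
        rw [hw, h0, hp0] at hw2
        nlinarith [hw2.2]
      exact hr2 hr' ⟨hp0, h0⟩
    · have hp' : 0 < p := by
        by_contra hp'
        push Not at hp'
        have : p = 0 := le_antisymm hp' hp
        rw [this] at hA
        nlinarith [mul_pos (show (0:ℤ) < r by linarith) hgt]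
      have hcp : 1 ≤ -χ * p := by nlinarith
      rcases le_or_gt q 0 with hq | hq
      · have h1 : 1 ≤ d * h := by nlinarith
        have hq0 : q = 0 := by
          by_contra hq'
          have : q ≤ -1 := by omega
          nlinarith [mul_nonneg (show (0:ℤ) ≤ r - 2 by linarith) (show (0:ℤ) ≤ -q by linarith)]
        rw [hw, hq0] at hw2
        have e1 : d * h = 1 := by nlinarith [hw2.1]
        have e2 : -χ * p = 1 := by nlinarith [hw2.1]
        have e1' := Int.eq_one_or_neg_one_of_mul_eq_one e1
        have e3 : d = 1 := by rcases e1' with e | e <;> omega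
        have e4 : h = 1 := by rw [e3, one_mul] at e1; exact e1
        have e5 : χ = -1 := by
          rcases Int.eq_one_or_neg_one_of_mul_eq_one e2 with e | e <;> omega
        refine hexc ⟨e3, e5, e4, ?_⟩
        rw [hiso, hq0, mul_zero]
      · have hrq : 2 * r * q ≤ d * h := by
          by_contra hrq
          push Not at hrq
          have a1 := mul_lt_mul_of_pos_left hrq (mul_pos (mul_pos (by norm_num : (0:ℤ) < 2) hn) hp')
          have a2 := mul_le_mul_of_nonneg_left hodge' (show (0:ℤ) ≤ r by linarith)
          have a3 := mul_le_mul_of_nonneg_right hA hgt.le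
          nlinarith
        have : 4 ≤ d * h := by nlinarith
        nlinarith
  · intro hC
    by_contra hA
    push Not at hA
    have hgt : 0 < h := by
      by_contra hgt
      push Not at hgt
      nlinarith [mul_nonneg (mul_nonneg hn.le hd.le) hp]
    have hq : q ≤ -1 := by
      by_contra hq
      push Not at hq
      nlinarith [mul_nonneg (mul_nonneg hn.le hd.le) (show (0:ℤ) ≤ q by omega), mul_pos (neg_pos.mpr hχ) hgt]
    have h1 : 1 ≤ d * h := by nlinarith
    nlinarith [mul_nonneg (neg_nonneg.mpr hχ.le) hp,
      mul_nonneg (show (0:ℤ) ≤ r - 2 by linarith) (show (0:ℤ) ≤ -q by linarith)]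

end Groth.Agent.S16156
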