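import Mathlib
import Groth.Agent.ProjMap.Segre
import Groth.Agent.ProjMap.BaseChange
import Groth.Statements.S1616

set_option autoImplicit false
universe u
open CategoryTheory CategoryTheory.Limits AlgebraicGeometry
open Constr

namespace Groth.Agent.S1616

/-- For any scheme S and n, m ≥ 0 there is a closed immersion from P^n_S ×_S P^m_S into P^{nm+n+m}_S
compatible with the projections to S. -/
theorem result (S : Scheme.{u}) (n m : ℕ) :
    ∃ φ : pullback (CohB1.ProjSpaceOver.toBase n S) (CohB1.ProjSpaceOver.toBase m S) ⟶ CohB1.ProjSpaceOver (n * m + n + m) S,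
      IsClosedImmersion φ ∧ φ ≫ CohB1.ProjSpaceOver.toBase (n * m + n + m) S =
        pullback.fst (CohB1.ProjSpaceOver.toBase n S) (CohB1.ProjSpaceOver.toBase m S) ≫ CohB1.ProjSpaceOver.toBase n S := by
  classical
  let e : Fin (n + 1) × Fin (m + 1) ≃ Fin (n * m + n + m + 1) :=
    finProdFinEquiv.trans (finCongr (by ring))
  exact ⟨ProjMap.baseMap S (ProjMap.segre (ULift.{u} ℤ) e),
    ProjMap.baseMap_property S _ @IsClosedImmersion (ProjMap.isClosedImmersion_segre _ e),
    ProjMap.baseMap_toBase S _⟩

end Groth.Agent.S1616
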