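import Groth.Statements.S16160
import Groth.Agent.MadRedLib.Bound

set_option autoImplicit false
universe u v w
open scoped TensorProduct
open MadRed

namespace Groth.Agent.S16160

open scoped TensorProduct

section
variable (k : Type u) [Field k] (A : Type v) [CommRing A] [HopfAlgebra k A]
  (R : Type w) [CommRing R] [Algebra k R]

open Coalgebra in
lemma ptAct_mul (g h : A →ₐ[k] R) :
    (MadRed.ptAct k A R g).toLinearMap * (MadRed.ptAct k A R h).toLinearMap =
      (MadRed.ptAct k A R (WithConv.ofConv (WithConv.toConv g * WithConv.toConv h))).toLinearMap := by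
  set gh := WithConv.ofConv (WithConv.toConv g * WithConv.toConv h) with hgh
  have hgh' : ∀ a, gh a = LinearMap.mul' k R (TensorProduct.map g.toLinearMap h.toLinearMap (comul (R := k) a)) := fun a => by
    rw [hgh, AlgHom.convMul_apply]
    generalize comul (R := k) a = t
    induction t using TensorProduct.induction_on with
    | zero => simp
    | tmul x y => simp
    | add x y hx hy => simp [hx, hy]
  rw [Module.End.mul_eq_comp, ← AlgHom.comp_toLinearMap]
  refine congrArg AlgHom.toLinearMap (Algebra.TensorProduct.ext (Subsingleton.elim _ _) (AlgHom.ext fun a => ?_))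
  show MadRed.ptAct k A R g (MadRed.ptAct k A R h ((1 : R) ⊗ₜ[k] a)) = MadRed.ptAct k A R gh ((1 : R) ⊗ₜ[k] a)
  have hsl : ∀ (g : A →ₐ[k] R) (a : A), MadRed.ptAct k A R g ((1 : R) ⊗ₜ[k] a) = MadRed.translAux k A R g a := by
    intro g a
    simp [MadRed.ptAct, ← Algebra.TensorProduct.one_def]
  rw [hsl, hsl]
  let Φ : A ⊗[k] (A ⊗[k] A) →ₗ[k] R ⊗[k] A :=
    (TensorProduct.comm k A R).toLinearMap ∘ₗ
      LinearMap.lTensor A (LinearMap.mul' k R ∘ₗ TensorProduct.map g.toLinearMap h.toLinearMap)
  have h1 : ∀ t : A ⊗[k] A, MadRed.ptAct k A R g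
      (Algebra.TensorProduct.map h (AlgHom.id k A) (Algebra.TensorProduct.comm k A A t)) =
      Φ (TensorProduct.assoc k A A A (comul.rTensor A t)) := by
    intro t
    induction t using TensorProduct.induction_on with
    | zero => simp
    | add x y hx hy => simp only [map_add, hx, hy]
    | tmul x y =>
      rw [Algebra.TensorProduct.comm_tmul, Algebra.TensorProduct.map_tmul, AlgHom.id_apply,
        show h y ⊗ₜ[k] x = (h y) • ((1 : R) ⊗ₜ[k] x) by rw [TensorProduct.smul_tmul', smul_eq_mul, mul_one],
        map_smul, hsl, LinearMap.rTensor_tmul]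
      show h y • Algebra.TensorProduct.map g (AlgHom.id k A) (Algebra.TensorProduct.comm k A A (comul x)) = _
      generalize (comul x : A ⊗[k] A) = t'
      induction t' using TensorProduct.induction_on with
      | zero => simp
      | add x y hx hy => simp only [map_add, smul_add, TensorProduct.add_tmul, hx, hy]
      | tmul p q => simp [Φ, TensorProduct.smul_tmul', mul_comm (g q)]
  have h2 : ∀ t : A ⊗[k] A, Algebra.TensorProduct.map gh (AlgHom.id k A) (Algebra.TensorProduct.comm k A A t) =
      Φ (comul.lTensor A t) := by
    intro t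
    induction t using TensorProduct.induction_on with
    | zero => simp
    | add x y hx hy => simp only [map_add, hx, hy]
    | tmul x y => simp [Φ, hgh']
  exact (h1 (comul a)).trans ((congrArg Φ (coassoc_apply a)).trans (h2 (comul a)).symm)

open Coalgebra in
lemma exists_stable [IsNoetherianRing R] (v : R ⊗[k] A) :
    ∃ W : Submodule R (R ⊗[k] A), v ∈ W ∧ W.FG ∧
      ∀ g : A →ₐ[k] R, ∀ w ∈ W, MadRed.ptAct k A R g w ∈ W := by
  classical
  induction v using TensorProduct.induction_on with
  | zero => exact ⟨⊥, Submodule.zero_mem _, Submodule.fg_bot, fun g w hw => by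
      rw [Submodule.mem_bot] at hw; simp [hw]⟩
  | add x y hx hy =>
    obtain ⟨W, hxW, hW, hWs⟩ := hx
    obtain ⟨V, hyV, hV, hVs⟩ := hy
    refine ⟨W ⊔ V, Submodule.add_mem_sup hxW hyV, hW.sup hV, fun g w hw => ?_⟩
    obtain ⟨p, hp, q, hq, rfl⟩ := Submodule.mem_sup.1 hw
    rw [map_add]
    exact Submodule.add_mem_sup (hWs g p hp) (hVs g q hq)
  | tmul r a =>
    let T : (A →ₗ[k] k) → A →ₗ[k] A := fun φ =>
      (TensorProduct.rid k A).toLinearMap ∘ₗ φ.lTensor A ∘ₗ comul
    let S : Set A := Set.range fun φ => T φ a
    have hbound : ∀ t : A ⊗[k] A, ∃ F : Finset A, ∀ φ : A →ₗ[k] k,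
        TensorProduct.rid k A (φ.lTensor A t) ∈ Submodule.span k (F : Set A) := by
      intro t
      induction t using TensorProduct.induction_on with
      | zero => exact ⟨∅, fun φ => by simp⟩
      | tmul x y => exact ⟨{x}, fun φ => by
          simpa using Submodule.smul_mem _ (φ y) (Submodule.mem_span_singleton_self x)⟩
      | add x y hx hy =>
        obtain ⟨F, hF⟩ := hx
        obtain ⟨G, hG⟩ := hy
        exact ⟨F ∪ G, fun φ => by
          rw [map_add, map_add, Finset.coe_union, Submodule.span_union]
          exact Submodule.add_mem_sup (hF φ) (hG φ)⟩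
    obtain ⟨F, hF⟩ := hbound (comul a)
    let ι := Algebra.TensorProduct.includeRight (R := k) (A := R) (B := A)
    let W := Submodule.span R (ι '' S)
    have hle : W ≤ Submodule.span R (ι '' (F : Set A)) := by
      refine Submodule.span_le.2 ?_
      rintro _ ⟨_, ⟨φ, rfl⟩, rfl⟩
      have : ι (T φ a) ∈ Submodule.span k (ι '' (F : Set A)) :=
        Submodule.apply_mem_span_image_of_mem_span ι.toLinearMap (hF φ)
      exact Submodule.span_le_restrictScalars k R _ this
    have hfg : W.FG := by
      let G := Submodule.span R (ι '' (F : Set A))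
      haveI : Module.Finite R G := Module.Finite.iff_fg.2 (Submodule.fg_span (F.finite_toSet.image ι))
      have := (IsNoetherian.noetherian (R := R) (M := G) (W.comap G.subtype)).map G.subtype
      rwa [Submodule.map_comap_eq, Submodule.range_subtype, inf_eq_right.2 hle] at this
    have ha : a ∈ S := by
      refine ⟨counit, ?_⟩
      show TensorProduct.rid k A ((counit : A →ₗ[k] k).lTensor A (comul a)) = a
      rw [lTensor_counit_comul, TensorProduct.rid_tmul, one_smul]
    refine ⟨W, ?_, hfg, fun g w hw => ?_⟩
    · rw [show r ⊗ₜ[k] a = r • ι a by simp [ι, TensorProduct.smul_tmul']]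
      exact W.smul_mem _ (Submodule.subset_span ⟨a, ha, rfl⟩)
    have hTT : ∀ ψ φ : A →ₗ[k] k, T ψ (T φ a) = T (LinearMap.mul' k k ∘ₗ TensorProduct.map ψ φ ∘ₗ comul) a := by
      intro ψ φ
      let Ψ : A ⊗[k] (A ⊗[k] A) →ₗ[k] A :=
        (TensorProduct.rid k A).toLinearMap ∘ₗ LinearMap.lTensor A (LinearMap.mul' k k ∘ₗ TensorProduct.map ψ φ)
      have e1 : ∀ t : A ⊗[k] A, T ψ (TensorProduct.rid k A (φ.lTensor A t)) =
          Ψ (TensorProduct.assoc k A A A (comul.rTensor A t)) := by
        intro t
        induction t using TensorProduct.induction_on with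
        | zero => simp
        | add x y hx hy => simp only [map_add, hx, hy]
        | tmul x y =>
          simp only [LinearMap.lTensor_tmul, TensorProduct.rid_tmul, map_smul, LinearMap.rTensor_tmul, T,
            LinearMap.comp_apply, LinearEquiv.coe_coe]
          generalize (comul x : A ⊗[k] A) = t'
          induction t' using TensorProduct.induction_on with
          | zero => simp
          | add x y hx hy => simp only [map_add, smul_add, TensorProduct.add_tmul, hx, hy]
          | tmul p q => simp [Ψ, smul_smul, mul_comm]
      refine (e1 (comul a)).trans ((congrArg Ψ (coassoc_apply a)).trans ?_)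
      simp only [Ψ, T, LinearMap.comp_apply, ← LinearMap.lTensor_comp_apply, LinearMap.comp_assoc]
    induction hw using Submodule.span_induction with
    | zero => simp
    | add x y _ _ hx hy => rw [map_add]; exact W.add_mem hx hy
    | smul c x _ hx => rw [map_smul]; exact W.smul_mem c hx
    | mem x hx =>
      obtain ⟨s, ⟨φ, rfl⟩, rfl⟩ := hx
      simp only [ι, Algebra.TensorProduct.includeRight_apply]
      rw [show MadRed.ptAct k A R g ((1 : R) ⊗ₜ[k] T φ a) = MadRed.translAux k A R g (T φ a) by simp [MadRed.ptAct, ← Algebra.TensorProduct.one_def]]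
      let b := Module.Free.chooseBasis k R
      set x := MadRed.translAux k A R g (T φ a) with hx
      obtain ⟨c, hc⟩ := TensorProduct.eq_repr_basis_left b x
      rw [← hc]
      refine W.sum_mem fun l _ => ?_
      have hcl : c l = TensorProduct.lid k A ((b.coord l).rTensor A x) := by
        rw [← hc, Finsupp.sum, map_sum, map_sum]
        simp [Module.Basis.coord_apply, Finsupp.single_apply]
      have hmem : c l ∈ S := by
        refine ⟨LinearMap.mul' k k ∘ₗ TensorProduct.map (b.coord l ∘ₗ g.toLinearMap) φ ∘ₗ comul, ?_⟩
        show T _ a = c l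
        rw [← hTT, hcl, hx]
        show TensorProduct.rid k A ((b.coord l ∘ₗ g.toLinearMap).lTensor A (comul (T φ a))) =
          TensorProduct.lid k A ((b.coord l).rTensor A
            (Algebra.TensorProduct.map g (AlgHom.id k A) (Algebra.TensorProduct.comm k A A (comul (T φ a)))))
        generalize (comul (T φ a) : A ⊗[k] A) = t
        induction t using TensorProduct.induction_on with
        | zero => simp
        | add x y hx hy => simp only [map_add, hx, hy]
        | tmul p q => simp
      show b l ⊗ₜ[k] c l ∈ W
      rw [show b l ⊗ₜ[k] c l = b l • ι (c l) by simp [ι, TensorProduct.smul_tmul']]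
      exact W.smul_mem _ (Submodule.subset_span ⟨c l, hmem, rfl⟩)

end

/-- Let k be a field, G = Spec A an affine k-group with A a commutative Hopf algebra over k, and R a
commutative Noetherian k-algebra, so that R ⊗ A is the coordinate ring of the base change G_R and
the k-algebra maps A → R are its R-valued points. Let H be a set of R-valued points which pairwise
commute for the convolution product of G(R) (the case of an abelian subgroup of G(R)). If every g in
H is diagonalizable over k on R ⊗ A, meaning that the eigenspaces of right translation by g, for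
eigenvalues in k, span R ⊗ A, then H is simultaneously diagonalizable over k on R ⊗ A: the common
eigenspaces of the right translations by all g in H span R ⊗ A. The standing assumptions of the
source at this point (k algebraically closed of characteristic zero, G reductive) are not used. -/
theorem result (k : Type u) [Field k]
    (A : Type v) [CommRing A] [HopfAlgebra k A] (R : Type w) [CommRing R] [Algebra k R]
    [IsNoetherianRing R] (H : Set (A →ₐ[k] R))
    (hcomm : ∀ g ∈ H, ∀ h ∈ H,
      WithConv.toConv g * WithConv.toConv h = WithConv.toConv h * WithConv.toConv g)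
    (hdiag : ∀ g ∈ H, ⨆ μ : k,
      Module.End.eigenspace (((MadRed.ptAct k A R g).toLinearMap).restrictScalars k) μ = ⊤) :
    ⨆ χ : H → k, ⨅ g : H,
      Module.End.eigenspace (((MadRed.ptAct k A R g.1).toLinearMap).restrictScalars k) (χ g) = ⊤ := by
  classical
  have hsl : ∀ (g : A →ₐ[k] R) (a : A), MadRed.ptAct k A R g ((1 : R) ⊗ₜ[k] a) = MadRed.translAux k A R g a := by
    intro g a
    simp [MadRed.ptAct, ← Algebra.TensorProduct.one_def]
  have hmul : ∀ g h : A →ₐ[k] R, (MadRed.ptAct k A R g).toLinearMap * (MadRed.ptAct k A R h).toLinearMap =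
      (MadRed.ptAct k A R (WithConv.ofConv (WithConv.toConv g * WithConv.toConv h))).toLinearMap :=
    ptAct_mul k A R
  refine Groth.Agent.MadRedLib.simultaneous k R (R ⊗[k] A) H (fun g => (MadRed.ptAct k A R g.1).toLinearMap)
    (fun g h => ?_) (fun g => hdiag g.1 g.2) (fun v => ?_)
  · show _ * _ = _ * _
    rw [hmul, hmul, hcomm g.1 g.2 h.1 h.2]
  obtain ⟨W, hv, hW, hst⟩ := exists_stable k A R v
  exact ⟨W, hv, hW, fun g => hst g.1⟩

end Groth.Agent.S16160
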