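import Groth.Statements.S16162
import Mathlib

set_option autoImplicit false
open CategoryTheory MonoidalCategory CartesianMonoidalCategory MonObj GrpObj AlgebraicGeometry
universe u
open MadRed

namespace Groth.Agent.S16162

/-- Let S be a scheme, G a group scheme over S, and X an S-scheme with an action of G making X → S a
principal G-bundle (a torsor in the representable fppf sense: X → S surjective, flat and locally of
finite presentation, and G ×_S X → X ×_S X, (g, x) ↦ (g·x, x), an isomorphism). Let P be a closed
subset of X stable under the action: the action map sends into P every point of G ×_S X whose second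
projection lies in P. Then the image of P in S is closed, and P is the full preimage of its image.
(The source works with varieties over the complex numbers and an affine algebraic group; the
assertion holds over any base. Its second assertion, that P → image is again a principal bundle for
the induced reduced structures, then comes from base change and is not part of this row.) -/
theorem result {S : Scheme.{u}}
    {G X : Over S} [GrpObj G] (a : AlgGrp.Action G X) (ha : RedSub.IsTorsor a)
    (P : Set X.left) (hP : IsClosed P)
    (hstab : ∀ w : (G ⊗ X).left, (snd G X).left.base w ∈ P → a.act.left.base w ∈ P) :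
    IsClosed (X.hom.base '' P) ∧ X.hom.base ⁻¹' (X.hom.base '' P) = P := by
  obtain ⟨hsurj, hflat, hlfp, hiso⟩ := ha
  have key : X.hom.base ⁻¹' (X.hom.base '' P) = P := by
    refine Set.Subset.antisymm ?_ (Set.subset_preimage_image _ _)
    rintro x ⟨y, hy, hxy⟩
    obtain ⟨z, hz1, hz2⟩ := Scheme.Pullback.exists_preimage_pullback (f := X.hom) (g := X.hom) x y hxy.symm
    obtain ⟨w, hw⟩ : ∃ w : (G ⊗ X).left, (CartesianMonoidalCategory.lift a.act (CartesianMonoidalCategory.snd G X)).left.base w = z := by
      haveI : IsIso (CartesianMonoidalCategory.lift a.act (CartesianMonoidalCategory.snd G X)).left :=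
        inferInstanceAs (IsIso ((Over.forget S).map (CartesianMonoidalCategory.lift a.act (CartesianMonoidalCategory.snd G X))))
      exact (CartesianMonoidalCategory.lift a.act (CartesianMonoidalCategory.snd G X)).left.homeomorph.surjective z
    have h1 : a.act.left.base w = x := by
      rw [← hz1, ← hw, ← Scheme.Hom.comp_apply]
      exact (congrArg (fun f => f.left.base w) (CartesianMonoidalCategory.lift_fst a.act (CartesianMonoidalCategory.snd G X))).symm
    have h2 : (CartesianMonoidalCategory.snd G X).left.base w = y := by
      rw [← hz2, ← hw, ← Scheme.Hom.comp_apply]
      exact (congrArg (fun f => f.left.base w) (CartesianMonoidalCategory.lift_snd a.act (CartesianMonoidalCategory.snd G X))).symm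
    exact h1 ▸ hstab w (h2.symm ▸ hy)
  refine ⟨?_, key⟩
  have hc : (X.hom.base '' P)ᶜ = X.hom.base '' Pᶜ := by
    conv_rhs => rw [← key, ← Set.preimage_compl]
    exact (Set.image_preimage_eq _ hsurj.surj).symm
  rw [← isOpen_compl_iff, hc]
  exact X.hom.isOpenMap _ hP.isOpen_compl

end Groth.Agent.S16162
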