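import Groth.Statements.S16164
import Mathlib

set_option autoImplicit false
open Neron

namespace Groth.Agent.S16164

/-- Let X, Y₁, Y₂ be finitely generated free abelian groups with chosen bases, so that homomorphisms are
integer matrices acting on column vectors and each group is identified with its dual; let P : X → Y₁
and Q : X → Y₂ be surjective with A = (P over Q) : X → Y₁ ⊕ Y₂ injective, and let Ψ₁, Ψ₂ be
symmetric positive-definite integer matrices on Y₁ and Y₂, Ψ their block-diagonal sum. If the image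
of Aᵀ Ψ : Y₁ ⊕ Y₂ → X coincides with the image of Aᵀ Ψ A : X → X (the reverse inclusion always
holds), then A is bijective. (In the source X, Y₁, Y₂ are character groups of maximal tori, P and Q
specialization maps, Ψ₁ and Ψ₂ monodromy pairings, and the hypothesis expresses that two groups of
components coincide.) -/
theorem result
    {ι κ₁ κ₂ : Type} [Fintype ι] [Fintype κ₁] [Fintype κ₂]
    (P : Matrix κ₁ ι ℤ) (Q : Matrix κ₂ ι ℤ)
    (hP : Function.Surjective P.mulVec) (hQ : Function.Surjective Q.mulVec)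
    (hA : Function.Injective (Matrix.fromRows P Q).mulVec)
    (Ψ₁ : Matrix κ₁ κ₁ ℤ) (Ψ₂ : Matrix κ₂ κ₂ ℤ) (hΨ₁ : Ψ₁.IsSymm) (hΨ₂ : Ψ₂.IsSymm)
    (hΨ₁pos : ∀ y : κ₁ → ℤ, y ≠ 0 → 0 < y ⬝ᵥ Ψ₁.mulVec y)
    (hΨ₂pos : ∀ y : κ₂ → ℤ, y ≠ 0 → 0 < y ⬝ᵥ Ψ₂.mulVec y)
    (himage : LinearMap.range ((Matrix.fromRows P Q).transpose * Matrix.fromBlocks Ψ₁ 0 0 Ψ₂).mulVecLin =
      LinearMap.range ((Matrix.fromRows P Q).transpose * Matrix.fromBlocks Ψ₁ 0 0 Ψ₂ * Matrix.fromRows P Q).mulVecLin) :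
    Function.Bijective (Matrix.fromRows P Q).mulVec := by
  classical
  set A := Matrix.fromRows P Q with hAdef
  set Ψ := Matrix.fromBlocks Ψ₁ 0 0 Ψ₂ with hΨdef
  let B : (κ₁ ⊕ κ₂ → ℤ) → (κ₁ ⊕ κ₂ → ℤ) → ℤ := fun y z => y ⬝ᵥ Ψ.mulVec z
  have hsym : Ψ.IsSymm := Matrix.IsSymm.fromBlocks hΨ₁ Matrix.transpose_zero hΨ₂
  have hBc : ∀ y z, B y z = B z y := fun y z => by
    show y ⬝ᵥ Ψ.mulVec z = z ⬝ᵥ Ψ.mulVec y
    conv_rhs => rw [Matrix.dotProduct_mulVec, dotProduct_comm, ← Matrix.mulVec_transpose, hsym]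
  have hBsplit : ∀ y z, B y z = (y ∘ Sum.inl) ⬝ᵥ Ψ₁.mulVec (z ∘ Sum.inl) + (y ∘ Sum.inr) ⬝ᵥ Ψ₂.mulVec (z ∘ Sum.inr) := by
    intro y z
    show y ⬝ᵥ Ψ.mulVec z = _
    rw [hΨdef, Matrix.fromBlocks_mulVec]
    conv_lhs => rw [← Sum.elim_comp_inl_inr y]
    rw [sumElim_dotProduct_sumElim]
    simp
  have hpos : ∀ y, y ≠ 0 → 0 < B y y := by
    intro y hy
    rw [hBsplit]
    have nn₁ : 0 ≤ (y ∘ Sum.inl) ⬝ᵥ Ψ₁.mulVec (y ∘ Sum.inl) := by
      by_cases h : y ∘ Sum.inl = 0
      · rw [h, zero_dotProduct]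
      · exact (hΨ₁pos _ h).le
    have nn₂ : 0 ≤ (y ∘ Sum.inr) ⬝ᵥ Ψ₂.mulVec (y ∘ Sum.inr) := by
      by_cases h : y ∘ Sum.inr = 0
      · rw [h, zero_dotProduct]
      · exact (hΨ₂pos _ h).le
    by_cases h : y ∘ Sum.inl = 0
    · have h' : y ∘ Sum.inr ≠ 0 := fun h' => hy (funext fun s => by cases s with
        | inl a => exact congrFun h a
        | inr b => exact congrFun h' b)
      linarith [hΨ₂pos _ h']
    · linarith [hΨ₁pos _ h]
  have hnn : ∀ y, 0 ≤ B y y := fun y => by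
    by_cases h : y = 0
    · simp [B, h]
    · exact (hpos y h).le
  have hdec : ∀ y, ∃ x z, (∀ x', B (A.mulVec x') z = 0) ∧ y = A.mulVec x + z := by
    intro y
    obtain ⟨x, hx⟩ : (A.transpose * Ψ).mulVecLin y ∈ LinearMap.range (A.transpose * Ψ * A).mulVecLin := himage ▸ ⟨y, rfl⟩
    refine ⟨x, y - A.mulVec x, fun x' => ?_, by abel⟩
    simp only [Matrix.mulVecLin_apply, ← Matrix.mulVec_mulVec] at hx
    have h1 : A.transpose.mulVec (Ψ.mulVec (y - A.mulVec x)) = 0 := by rw [Matrix.mulVec_sub, Matrix.mulVec_sub, hx, sub_self]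
    show A.mulVec x' ⬝ᵥ Ψ.mulVec _ = 0
    rw [dotProduct_comm, Matrix.dotProduct_mulVec, ← Matrix.mulVec_transpose, h1, zero_dotProduct]
  have hadd : ∀ y y' z, B (y + y') z = B y z + B y' z := fun y y' z => add_dotProduct _ _ _
  have hneg : ∀ y z, B (-y) z = -B y z := fun y z => neg_dotProduct _ _
  have hsq : ∀ u w, (B u w = 0) → B (u + w) (u + w) = B u u + B w w := by
    intro u w h
    rw [hadd, hBc u (u + w), hBc w (u + w), hadd, hadd, hBc w u, h]; ring
  have hz : ∀ z, (∀ x', B (A.mulVec x') z = 0) → z = 0 := by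
    suffices H : ∀ (k : ℕ) z, (B z z).toNat = k → (∀ x', B (A.mulVec x') z = 0) → z = 0 from fun z hz => H _ z rfl hz
    intro k
    induction k using Nat.strong_induction_on with
    | _ k ih =>
      intro z hk hz
      by_contra hne
      obtain ⟨x, z', hz', he⟩ := hdec (Sum.elim (z ∘ Sum.inl) 0)
      let w := z - z'
      have hw : ∀ x', B (A.mulVec x') w = 0 := fun x' => by rw [hBc, show w = z + -z' from sub_eq_add_neg z z', hadd, hneg, hBc z, hBc z', hz, hz']; ring
      have he2 : Sum.elim (0 : κ₁ → ℤ) (z ∘ Sum.inr) = A.mulVec (-x) + w := by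
        have h1 : Sum.elim (z ∘ Sum.inl) 0 + Sum.elim (0 : κ₁ → ℤ) (z ∘ Sum.inr) = z := funext fun s => by cases s <;> simp
        rw [Matrix.mulVec_neg, show w = z - z' from rfl, eq_sub_of_add_eq' h1, he]; abel
      have hn : B z z = 2 * B (A.mulVec x) (A.mulVec x) + B z' z' + B w w := by
        have h1 : B z z = B (Sum.elim (z ∘ Sum.inl) 0) (Sum.elim (z ∘ Sum.inl) 0) + B (Sum.elim (0 : κ₁ → ℤ) (z ∘ Sum.inr)) (Sum.elim (0 : κ₁ → ℤ) (z ∘ Sum.inr)) := by
          simp only [hBsplit, Sum.elim_comp_inl, Sum.elim_comp_inr]; simp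
        rw [h1, he, he2, hsq _ _ (hz' x), hsq _ _ (hw (-x)), Matrix.mulVec_neg, hneg, hBc (A.mulVec x) (-A.mulVec x), hneg]
        ring
      have hzp := hpos z hne
      have ha0 := hnn (A.mulVec x); have hz0 := hnn z'; have hw0 := hnn w
      by_cases hax : A.mulVec x = 0
      · rw [hax, zero_add] at he
        have hl : z ∘ Sum.inl = 0 := by
          by_contra h
          obtain ⟨x', hx'⟩ := hP (z ∘ Sum.inl)
          have h1 := hz' x'
          rw [← he, hBsplit] at h1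
          simp only [hAdef, Matrix.fromRows_mulVec, Sum.elim_comp_inl, Sum.elim_comp_inr, hx', Matrix.mulVec_zero, dotProduct_zero, add_zero] at h1
          exact absurd h1 (hΨ₁pos _ h).ne'
        have hr : z ∘ Sum.inr = 0 := by
          by_contra h
          obtain ⟨x', hx'⟩ := hQ (z ∘ Sum.inr)
          have h1 := hz x'
          rw [hBsplit] at h1
          simp only [hAdef, Matrix.fromRows_mulVec, Sum.elim_comp_inl, Sum.elim_comp_inr, hx', hl, Matrix.mulVec_zero, dotProduct_zero, zero_add] at h1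
          exact absurd h1 (hΨ₂pos _ h).ne'
        exact hne (funext fun s => by cases s with
          | inl a => exact congrFun hl a
          | inr b => exact congrFun hr b)
      · have hap := hpos _ hax
        have h1 := ih (B z' z').toNat (by omega) z' rfl hz'
        have h2 := ih (B w w).toNat (by omega) w rfl hw
        exact hne (by rw [show w = z - z' from rfl, h1, sub_zero] at h2; exact h2)
  refine ⟨hA, fun y => ?_⟩
  obtain ⟨x, z, hzo, he⟩ := hdec y
  exact ⟨x, by rw [he, hz z hzo, add_zero]⟩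

end Groth.Agent.S16164
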