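import Groth.Statements.S16170
import Mathlib

set_option autoImplicit false
open Neron

namespace Groth.Agent.S16170

/-- Let M and N be symmetric positive-semidefinite integer matrices on the same finite index set whose
sum M + N is positive definite, and let χ₁, χ₂ be integer matrices with χ₁ + χ₂ = 1 and M χ₂ = N χ₁.
Then χ₁ and χ₂ are idempotent. (In the intended application M = Pᵀ Ψ₁ P and N = Qᵀ Ψ₂ Q for
surjective integer matrices P, Q and positive-definite Ψ₁, Ψ₂.) -/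
theorem result
    {ι : Type} [Fintype ι] [DecidableEq ι]
    (M N χ₁ χ₂ : Matrix ι ι ℤ) (hM : M.IsSymm) (hN : N.IsSymm)
    (hMpos : ∀ v : ι → ℤ, 0 ≤ v ⬝ᵥ M.mulVec v) (hNpos : ∀ v : ι → ℤ, 0 ≤ v ⬝ᵥ N.mulVec v)
    (hpos : ∀ v : ι → ℤ, v ≠ 0 → 0 < v ⬝ᵥ (M + N).mulVec v)
    (hsum : χ₁ + χ₂ = 1) (hrel : M * χ₂ = N * χ₁) :
    χ₁ * χ₁ = χ₁ ∧ χ₂ * χ₂ = χ₂ := by
  set P := M + N with hP
  have e2 : χ₂ = 1 - χ₁ := eq_sub_of_add_eq' hsum
  have hM1 : M = P * χ₁ := by rw [hP, add_mul, ← hrel, ← mul_add, hsum, mul_one]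
  have hN2 : N = P * χ₂ := by rw [hP, add_mul, hrel, ← mul_add, hsum, mul_one]
  have sym : ∀ (X : Matrix ι ι ℤ), X.IsSymm → ∀ a b : ι → ℤ, a ⬝ᵥ X.mulVec b = b ⬝ᵥ X.mulVec a := fun X hX a b => by
    conv_rhs => rw [Matrix.dotProduct_mulVec, dotProduct_comm, ← Matrix.mulVec_transpose, hX.eq]
  have hPs : P.IsSymm := hM.add hN
  let q : (ι → ℤ) → ℤ := fun v => v ⬝ᵥ P.mulVec v
  have qnn : ∀ v, 0 ≤ q v := fun v => by
    show 0 ≤ v ⬝ᵥ (M + N).mulVec v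
    rw [Matrix.add_mulVec, dotProduct_add]; exact add_nonneg (hMpos v) (hNpos v)
  have qzero : ∀ v, q v = 0 → v = 0 := fun v hv => by
    by_contra hne; exact (hpos v hne).ne' hv
  have qle : ∀ (X Y χ : Matrix ι ι ℤ), X.IsSymm → (∀ v : ι → ℤ, 0 ≤ v ⬝ᵥ X.mulVec v) → (∀ v : ι → ℤ, 0 ≤ v ⬝ᵥ Y.mulVec v) → X + Y = P → X = P * χ →
      ∀ v, q (χ.mulVec v) ≤ v ⬝ᵥ X.mulVec v := by
    intro X Y χ hX hXp hYp hXY hXχ v
    set w := χ.mulVec v
    have e1 : q w = w ⬝ᵥ X.mulVec v := by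
      show w ⬝ᵥ P.mulVec w = _
      rw [hXχ, ← Matrix.mulVec_mulVec]
    have e3 : q w = w ⬝ᵥ X.mulVec w + w ⬝ᵥ Y.mulVec w := by
      show w ⬝ᵥ P.mulVec w = _
      rw [← hXY, Matrix.add_mulVec, dotProduct_add]
    have e4 := hXp (v - w)
    rw [Matrix.mulVec_sub, dotProduct_sub, sub_dotProduct, sub_dotProduct, sym X hX v w] at e4
    linarith [hYp w]
  have q1 : ∀ v, q (χ₁.mulVec v) ≤ v ⬝ᵥ M.mulVec v := qle M N χ₁ hM hMpos hNpos rfl hM1
  have q2 : ∀ v, q (χ₂.mulVec v) ≤ v ⬝ᵥ N.mulVec v := qle N M χ₂ hN hNpos hMpos (add_comm _ _) hN2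
  have hqv : ∀ v, q v = v ⬝ᵥ M.mulVec v + v ⬝ᵥ N.mulVec v := fun v => by
    show v ⬝ᵥ (M + N).mulVec v = _
    rw [Matrix.add_mulVec, dotProduct_add]
  have hcomm : χ₁ * χ₂ = χ₂ * χ₁ := by rw [e2]; noncomm_ring
  set D := χ₁ * χ₂ with hD
  have hdec : ∀ v, D.mulVec v ≠ 0 → q (D.mulVec v) < q v := by
    intro v hv
    have a1 : q (D.mulVec v) ≤ q (χ₂.mulVec v) := by
      rw [hD, ← Matrix.mulVec_mulVec, hqv (χ₂.mulVec v)]
      linarith [q1 (χ₂.mulVec v), hNpos (χ₂.mulVec v)]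
    have a2 : 0 < q (χ₁.mulVec v) := by
      refine lt_of_le_of_ne (qnn _) fun e => hv ?_
      rw [hcomm, ← Matrix.mulVec_mulVec, qzero _ e.symm, Matrix.mulVec_zero]
    linarith [q1 v, q2 v, hqv v]
  have hnil : ∀ v, ∃ k : ℕ, (D ^ k).mulVec v = 0 := by
    intro v
    induction hn : (q v).toNat using Nat.strong_induction_on generalizing v with
    | _ n ih =>
      by_cases hv : D.mulVec v = 0
      · exact ⟨1, by rw [pow_one, hv]⟩
      · obtain ⟨k, hk⟩ := ih _ (by have := hdec v hv; have := qnn (D.mulVec v); omega) (D.mulVec v) rfl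
        exact ⟨k + 1, by rw [pow_succ, ← Matrix.mulVec_mulVec, hk]⟩
  have hPD : (P * D).IsSymm := by
    have h1 : P * D = M * χ₂ := by rw [hD, ← mul_assoc, ← hM1]
    have h2 : M * χ₂ = M - M * χ₁ := by rw [e2, mul_sub, mul_one]
    have h4 : (M * χ₁).transpose = M * χ₁ := by
      conv_lhs => rw [Matrix.transpose_mul, hM.eq, hM1, ← mul_assoc]
      rw [show χ₁.transpose * P = M by rw [← hPs.eq, ← Matrix.transpose_mul, ← hM1, hM.eq]]
    rw [Matrix.IsSymm, h1, h2, Matrix.transpose_sub, hM.eq, h4]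
  have hsq : ∀ v, D.mulVec (D.mulVec v) = 0 → D.mulVec v = 0 := by
    intro v hv
    refine qzero _ ?_
    show D.mulVec v ⬝ᵥ P.mulVec (D.mulVec v) = 0
    rw [Matrix.mulVec_mulVec _ P D, sym _ hPD (D.mulVec v) v, ← Matrix.mulVec_mulVec _ P D, hv, Matrix.mulVec_zero, dotProduct_zero]
  have hD0 : ∀ v, D.mulVec v = 0 := by
    intro v
    obtain ⟨k, hk⟩ := hnil v
    induction k generalizing v with
    | zero => rw [pow_zero, Matrix.one_mulVec] at hk; rw [hk, Matrix.mulVec_zero]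
    | succ k ih => rw [pow_succ, ← Matrix.mulVec_mulVec] at hk; exact hsq v (ih _ hk)
  have hz : D = 0 := by
    ext i j
    have := congrFun (hD0 (Pi.single j 1)) i
    simpa using this
  constructor
  · calc χ₁ * χ₁ = χ₁ * (χ₁ + χ₂) - D := by rw [hD]; noncomm_ring
      _ = χ₁ := by rw [hsum, hz, mul_one, sub_zero]
  · calc χ₂ * χ₂ = (χ₁ + χ₂) * χ₂ - D := by rw [hD]; noncomm_ring
      _ = χ₂ := by rw [hsum, hz, one_mul, sub_zero]

end Groth.Agent.S16170
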