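import Groth.Statements.S16174
import Groth.Agent.Hensel.Basic
import Mathlib.RingTheory.Valuation.ValuationRing
import Mathlib.Algebra.Polynomial.Lifts
import Mathlib.Algebra.Polynomial.Taylor
import Mathlib.RingTheory.Localization.AtPrime.Basic

set_option autoImplicit false
universe u
open Hensel

namespace Groth.Agent.S16174

/-- Let V be a Henselian valuation ring and p a prime ideal of V. Then the local rings V_p (localisation
at p) and V/p are Henselian. (Both are again valuation rings, which is elementary and not restated.) -/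
theorem result (V : Type u) [CommRing V]
    [IsDomain V] [ValuationRing V] [HenselianLocalRing V] (p : Ideal V) [p.IsPrime] :
    HenselianLocalRing (Localization.AtPrime p) ∧ HenselianLocalRing (V ⧸ p) := by
  haveI : HenselianRing V (IsLocalRing.maximalIdeal V) :=
    Groth.Agent.Hensel.henselianRing_maximalIdeal_iff.2 inferInstance
  refine ⟨?_, ?_⟩
  · let L := Localization.AtPrime p
    refine ⟨fun f hf a₀ h₁ h₂ => ?_⟩
    have hle : p ≤ IsLocalRing.maximalIdeal V :=
      IsLocalRing.le_maximalIdeal (Ideal.IsPrime.ne_top inferInstance)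
    have hinj : Function.Injective (algebraMap V L) :=
      IsLocalization.injective L (Ideal.primeCompl_le_nonZeroDivisors p)
    have hdvd : ∀ s : V, s ∉ p → ∀ x ∈ p, ∃ y ∈ p, x = s * y := by
      intro s hs x hx
      rcases ValuationRing.dvd_total s x with ⟨y, hy⟩ | ⟨y, hy⟩
      · refine ⟨y, ?_, hy⟩
        exact ((inferInstance : p.IsPrime).mem_or_mem (hy ▸ hx : s * y ∈ p)).resolve_left hs
      · exact absurd (hy ▸ p.mul_mem_right y hx : s ∈ p) hs
    have hmem : ∀ z ∈ IsLocalRing.maximalIdeal L, ∃ x ∈ p, algebraMap V L x = z := by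
      intro z hz
      obtain ⟨x, s, rfl⟩ := IsLocalization.exists_mk'_eq p.primeCompl z
      obtain ⟨y, hy, rfl⟩ := hdvd s.1 s.2 x ((IsLocalization.AtPrime.mk'_mem_maximal_iff L p x s).1 hz)
      exact ⟨y, hy, IsLocalization.eq_mk'_iff_mul_eq.2 (by rw [map_mul, mul_comm])⟩
    obtain ⟨x₀, hx₀, hx₀'⟩ := hmem _ h₁
    have hd : IsUnit (f.derivative.eval a₀) := h₂
    obtain ⟨di, hdi⟩ := isUnit_iff_exists_inv'.1 hd
    let q : Polynomial L := Polynomial.C di * Polynomial.taylor a₀ f
    have hq1 : q.coeff 1 = 1 := by
      rw [Polynomial.coeff_C_mul, Polynomial.taylor_coeff_one, hdi]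
    have hq0 : q.coeff 0 ∈ IsLocalRing.maximalIdeal L := by
      rw [Polynomial.coeff_C_mul, Polynomial.taylor_coeff_zero]
      exact Ideal.mul_mem_left _ _ h₁
    obtain ⟨t, ht⟩ := IsLocalization.exist_integer_multiples p.primeCompl q.support fun i => q.coeff i
    obtain ⟨ti, hti⟩ := isUnit_iff_exists_inv'.1 (IsLocalization.map_units L t)
    obtain ⟨w, hw, hw'⟩ := hmem _ (Ideal.mul_mem_left _ ti hq0)
    let r : Polynomial L :=
      Polynomial.C ti * q.comp (Polynomial.C (algebraMap V L t.1) * Polynomial.X)
    have hr : ∀ k, r.coeff k = ti * (q.coeff k * algebraMap V L t.1 ^ k) := fun k => by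
      simp only [r, Polynomial.coeff_C_mul, Polynomial.comp_C_mul_X_coeff]
    have hlift : r ∈ Polynomial.lifts (algebraMap V L) := by
      rw [Polynomial.lifts_iff_coeff_lifts]
      intro k
      rw [hr]
      match k with
      | 0 => exact ⟨w, by rw [hw', pow_zero, mul_one]⟩
      | 1 => exact ⟨1, by rw [hq1, map_one, one_mul, pow_one, hti]⟩
      | k + 2 =>
        by_cases hk : k + 2 ∈ q.support
        · obtain ⟨v, hv⟩ := ht _ hk
          refine ⟨v * t.1 ^ k, ?_⟩
          rw [map_mul, map_pow, hv, Algebra.smul_def]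
          linear_combination (-(q.coeff (k + 2)) * algebraMap V L t.1 ^ (k + 1)) * hti
        · rw [Polynomial.notMem_support_iff.1 hk, zero_mul, mul_zero]
          exact ⟨0, map_zero _⟩
    obtain ⟨g, hg⟩ := (Polynomial.mem_lifts r).1 hlift
    have hg0 : g.coeff 0 = w := hinj (by
      rw [← Polynomial.coeff_map, hg, hr, hw', pow_zero, mul_one])
    have hg1 : g.coeff 1 = 1 := hinj (by
      rw [← Polynomial.coeff_map, hg, hr, hq1, map_one, one_mul, pow_one, hti])
    obtain ⟨Z, hZ, hZm⟩ := Groth.Agent.Hensel.exists_root (I := IsLocalRing.maximalIdeal V) g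
      (a₀ := 0) (by rw [← Polynomial.coeff_zero_eq_eval_zero, hg0]; exact hle hw)
      (by
        rw [← Polynomial.coeff_zero_eq_eval_zero, Polynomial.coeff_derivative, zero_add, hg1]
        simp)
    rw [sub_zero] at hZm
    have hev : g.eval Z = g.coeff 0 + Z * g.divX.eval Z := by
      have h6 := congrArg (Polynomial.eval Z) (Polynomial.X_mul_divX_add g)
      simp only [Polynomial.eval_add, Polynomial.eval_mul, Polynomial.eval_X, Polynomial.eval_C] at h6
      linear_combination -h6
    have hu : IsUnit (g.divX.eval Z) := by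
      rw [← IsLocalRing.notMem_maximalIdeal]
      intro hm
      have h3 := Groth.Agent.Hensel.eval_sub_eval_mem g.divX (a := Z) (b := 0)
        (I := IsLocalRing.maximalIdeal V) (by rwa [sub_zero])
      rw [← Polynomial.coeff_zero_eq_eval_zero, Polynomial.coeff_divX, zero_add, hg1] at h3
      exact (IsLocalRing.maximalIdeal.isMaximal V).ne_top ((Ideal.eq_top_iff_one _).2
        (by simpa using sub_mem hm h3))
    have hZp : Z ∈ p := by
      have h4 : Z * g.divX.eval Z ∈ p := by
        rw [hg0, show g.eval Z = 0 from hZ] at hev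
        rw [show Z * g.divX.eval Z = -w by linear_combination -hev]
        exact neg_mem hw
      exact ((inferInstance : p.IsPrime).mem_or_mem h4).resolve_right
        fun h => Ideal.IsPrime.ne_top inferInstance (Ideal.eq_top_of_isUnit_mem _ h hu)
    refine ⟨algebraMap V L t.1 * algebraMap V L Z + a₀, ?_, ?_⟩
    · have h5 : r.eval (algebraMap V L Z) = 0 := by
        rw [← hg, Polynomial.eval_map, Polynomial.eval₂_hom, show g.eval Z = 0 from hZ, map_zero]
      simp only [r, Polynomial.eval_mul, Polynomial.eval_C, Polynomial.eval_comp, Polynomial.eval_X,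
        q, Polynomial.taylor_eval] at h5
      exact ((IsUnit.of_mul_eq_one _ hdi).mul_right_eq_zero.1
        ((IsUnit.of_mul_eq_one _ hti).mul_right_eq_zero.1 h5))
    · rw [add_sub_cancel_right]
      refine Ideal.mul_mem_left _ _ ?_
      exact (IsLocalization.AtPrime.to_map_mem_maximal_iff L p Z).2 hZp
  · have h2 := Groth.Agent.Hensel.quotient (J := IsLocalRing.maximalIdeal V) p
    have : IsLocalRing (V ⧸ p) := .of_surjective' _ Ideal.Quotient.mk_surjective
    rw [IsLocalRing.map_maximalIdeal_of_surjective _ Ideal.Quotient.mk_surjective] at h2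
    exact Groth.Agent.Hensel.henselianRing_maximalIdeal_iff.1 h2

end Groth.Agent.S16174
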