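import Groth.Statements.S16185
import Groth.Agent.GorSp.Sch
-- import your own Groth.Agent.* helpers here

set_option autoImplicit false
set_option backward.isDefEq.respectTransparency false
universe u
open CategoryTheory CategoryTheory.Limits AlgebraicGeometry
open Dual3

namespace Groth.Agent.S16185

/-- Let A be an Artinian local ring with maximal ideal m and let f : P → Spec A be a flat morphism of
schemes whose closed fibre X = P ×_{Spec A} Spec (A/m) is a Gorenstein scheme (locally Noetherian,
all local rings Gorenstein). Then f is a Gorenstein morphism: flat at every point with Gorenstein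
local rings on its fibres. (The source takes A to be a local Artinian algebra over a field k with
residue field k and X a k-scheme deformed flatly over A; the k-algebra structure plays no role, so
the residue field of A is used directly.) -/
theorem result
    {A : Type u} [CommRing A] [IsArtinianRing A] [IsLocalRing A]
    {P X : Scheme.{u}} (f : P ⟶ Spec (CommRingCat.of A)) [Flat f]
    (i : X ⟶ P) (q : X ⟶ Spec (CommRingCat.of (IsLocalRing.ResidueField A)))
    (hsq : IsPullback i q f (Spec.map (CommRingCat.ofHom (IsLocalRing.residue A))))
    (hX : Dual3.IsGorenstein X) : Dual3.IsGorensteinMor f := by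
  haveI := hX.1
  let r := Spec.map (CommRingCat.ofHom (IsLocalRing.residue A))
  haveI : IsClosedImmersion r := IsClosedImmersion.spec_of_surjective _ Ideal.Quotient.mk_surjective
  let k := CommRingCat.of (IsLocalRing.ResidueField A)
  let c : ↥(Spec k) := IsLocalRing.closedPoint (IsLocalRing.ResidueField A)
  haveI : Subsingleton ↥(Spec k) := inferInstanceAs (Subsingleton (PrimeSpectrum (IsLocalRing.ResidueField A)))
  haveI : Surjective ((Spec k).fromSpecResidueField c) :=
    ⟨fun y => ⟨IsLocalRing.closedPoint _, Subsingleton.elim _ _⟩⟩
  haveI : IsClosedImmersion ((Spec k).fromSpecResidueField c) :=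
    IsClosedImmersion.of_isPreimmersion _ (by rw [Scheme.range_fromSpecResidueField]; exact isClosed_discrete _)
  haveI : IsReduced (Spec k) := inferInstance
  haveI : IsIso ((Spec k).fromSpecResidueField c) := isIso_of_isClosedImmersion_of_surjective _
  haveI : IsIso (r.residueFieldMap c) := (ConcreteCategory.isIso_iff_bijective _).2
    ⟨RingHom.injective (r.residueFieldMap c).hom, fun y => by
      obtain ⟨a, rfl⟩ := IsLocalRing.residue_surjective y
      obtain ⟨b, rfl⟩ := r.stalkMap_surjective c a
      exact ⟨(Spec (CommRingCat.of A)).residue (r c) b,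
        congrArg (fun m => m.hom b) (Scheme.residue_residueFieldMap r c)⟩⟩
  let g := inv ((Spec k).fromSpecResidueField c) ≫ Spec.map (r.residueFieldMap c)
  have hg : g ≫ (Spec (CommRingCat.of A)).fromSpecResidueField (r c) = r := by
    change (inv _ ≫ _) ≫ _ = _
    rw [Category.assoc, Scheme.Hom.SpecMap_residueFieldMap_fromSpecResidueField]
    exact IsIso.inv_hom_id_assoc _ _
  haveI : IsIso g := by dsimp [g]; infer_instance
  have hX' : IsPullback i (q ≫ g) f ((Spec (CommRingCat.of A)).fromSpecResidueField (r c)) :=
    hsq.of_iso (Iso.refl _) (Iso.refl _) (asIso g) (Iso.refl _) (by simp) (by simp) (by simp) (by simp [hg, r])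
  let e : X ≅ f.fiber (r c) := hX'.isoPullback
  haveI : IsLocallyNoetherian (f.fiber (r c)) := isLocallyNoetherian_of_isOpenImmersion e.inv
  have key : ∀ s : ↥(Spec (CommRingCat.of A)), s = r c → ∀ z : ↥(f.fiber s),
      LocCoh.IsGorensteinLocalRing ((f.fiber s).presheaf.stalk z) := by
    rintro s rfl z
    exact (Groth.Agent.GorSp.gor_stalk_etale_iff e.inv z).2 (hX.2 _)
  intro x
  exact ⟨Flat.stalkMap f x, key (f x) (Subsingleton.elim (α := PrimeSpectrum A) _ _) (f.asFiber x)⟩

end Groth.Agent.S16185
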