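import Groth.Statements.S16186
import Groth.Agent.GeomSmoothingLib.Descend
import Groth.Agent.GeomSmoothingLib.Curve
import Groth.Agent.CompleteCurve.ProjSpace
import Groth.Agent.CurveTest.Ring
import Groth.Agent.DeltaBCLib.Stalk
import Groth.Agent.FlatStage.Smooth
-- import your own Groth.Agent.* helpers here

set_option autoImplicit false
set_option backward.isDefEq.respectTransparency false
set_option maxHeartbeats 800000
set_option synthInstance.maxHeartbeats 200000
universe u
open CategoryTheory CategoryTheory.Limits AlgebraicGeometry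
open Deform

namespace Groth.Agent.S16186

/-- Let k be an algebraically closed field and let p : P → Spec k[[t]] be flat and projective, i.e. P is
a closed subscheme of a projective space over k[[t]] compatibly with p; let X be its closed fibre
over k and suppose the generic fibre P ⊗ Frac k[[t]] is smooth. Then X is geometrically smoothable:
there exist an affine integral curve C, smooth of dimension one over k, a k-rational point c of C
and a flat proper morphism Y → C whose fibre over c is isomorphic to X over k and whose fibre over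
the generic point of C is smooth. (The source's statement is the equivalence, for X reduced
projective and equidimensional over an algebraically closed field of characteristic zero with H^2(X,
O_X) = 0 or with X Gorenstein and its dualizing sheaf or the dual of it ample, between the existence
of a formal smoothing and of a geometric smoothing; its proof first turns a formal smoothing into a
smoothing over Spec k[[t]] and then runs the argument stated here, which uses neither characteristic
zero nor the hypotheses on X.) -/
theorem result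
    (k : Type u) [Field k] [IsAlgClosed k]
    (X : Scheme.{u}) (pX : X ⟶ Spec (CommRingCat.of k))
    (P : Scheme.{u}) (p : P ⟶ Spec (CommRingCat.of (PowerSeries k))) [Flat p]
    (hproj : ∃ (d : ℕ) (ι : P ⟶ CohB1.ProjSpace d (PowerSeries k)), IsClosedImmersion ι ∧
      ι ≫ CohB1.ProjSpace.toSpec d (PowerSeries k) = p)
    (i : X ⟶ P)
    (hX : IsPullback i pX p (Spec.map (CommRingCat.ofHom (PowerSeries.constantCoeff (R := k)))))
    (hgen : Smooth (pullback.snd p
      (Spec.map (CommRingCat.ofHom (algebraMap (PowerSeries k) (FractionRing (PowerSeries k)))))))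
    : ∃ (C : Scheme.{u}) (qC : C ⟶ Spec (CommRingCat.of k)) (c : Spec (CommRingCat.of k) ⟶ C)
      (_ : c ≫ qC = 𝟙 (Spec (CommRingCat.of k))) (_ : IsIntegral C) (_ : IsAffine C) (_ : Smooth qC)
      (_ : topologicalKrullDim C = 1)
      (Y : Scheme.{u}) (π : Y ⟶ C) (_ : Flat π) (_ : IsProper π) (j : X ⟶ Y)
      (η : C) (_ : closure ({η} : Set C) = Set.univ),
      IsPullback j pX π c ∧ Smooth (π.fiberToSpecResidueField η) := by
    classical
    obtain ⟨dd, ι₀, hι₀, hιp⟩ := hproj
    haveI := hι₀
    haveI : IsProper p := hιp ▸ (inferInstance : IsProper (ι₀ ≫ CohB1.ProjSpace.toSpec dd (PowerSeries k)))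
    haveI : LocallyOfFinitePresentation p := LocallyOfFinitePresentation.iff_locallyOfFiniteType.2 inferInstance
    obtain ⟨A, hA, hXA, P₀, p₀, g, hg, hprop, hflat, hlfp⟩ :=
      GeomSmoothingLib.exists_model k (PowerSeries k) p (PowerSeries.X : PowerSeries k)
    haveI : Algebra.FiniteType k A := (Subalgebra.fg_iff_finiteType A).1 hA
    -- the generic fibre is smooth
    let L := FractionRing (PowerSeries k)
    let ρ : A →+* L := (algebraMap (PowerSeries k) L).comp A.val.toRingHom
    have hρ : Function.Injective ρ := (IsFractionRing.injective (PowerSeries k) L).comp Subtype.val_injective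
    have hsq : IsPullback (pullback.fst p (Spec.map (CommRingCat.ofHom (algebraMap (PowerSeries k) L))) ≫ g)
        (pullback.snd p (Spec.map (CommRingCat.ofHom (algebraMap (PowerSeries k) L)))) p₀
        (Spec.map (CommRingCat.ofHom ρ)) := by
      have h := (IsPullback.of_hasPullback p (Spec.map (CommRingCat.ofHom (algebraMap (PowerSeries k) L)))).paste_horiz hg
      rwa [← Spec.map_comp] at h
    let Ω : Set P₀ := {z | ∃ U : P₀.Opens, z ∈ U ∧ Smooth (U.ι ≫ p₀)}
    have hΩ : IsOpen Ω := isOpen_iff_forall_mem_open.2 fun z ⟨U, hz, hU⟩ =>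
      ⟨U, fun z' hz' => ⟨U, hz', hU⟩, U.isOpen, hz⟩
    let bot : ↥(Spec (CommRingCat.of A)) := (⟨⊥, Ideal.isPrime_bot⟩ : PrimeSpectrum A)
    have hgenΩ : ∀ z : P₀, p₀ z = bot → z ∈ Ω := by
      intro z hz
      have hbot : Spec.map (CommRingCat.ofHom ρ) (IsLocalRing.closedPoint L) = bot := by
        refine PrimeSpectrum.ext ?_
        show (IsLocalRing.maximalIdeal L).comap ρ = ⊥
        rw [IsLocalRing.maximalIdeal_eq_bot, ← RingHom.ker_eq_comap_bot]
        exact (RingHom.injective_iff_ker_eq_bot ρ).1 hρ
      obtain ⟨z', hz', -⟩ := Scheme.Pullback.exists_preimage_pullback (f := p₀)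
        (g := Spec.map (CommRingCat.ofHom ρ)) z (IsLocalRing.closedPoint L) (hz.trans hbot.symm)
      have e := congrArg (fun m => m z') hsq.isoPullback_inv_fst
      simp only [Scheme.Hom.comp_apply] at e
      have hzz : (pullback.fst p (Spec.map (CommRingCat.ofHom (algebraMap (PowerSeries k) L))) ≫ g)
          (hsq.isoPullback.inv z') = z := by
        rw [Scheme.Hom.comp_apply]
        exact e.trans hz'
      rw [← hzz]
      exact FlatStage.exists_smooth_nhd_of_baseChange hsq _ ⟨⊤, trivial, haveI := hgen; inferInstance⟩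
        (Flat.stalkMap p₀ _)
    let W : Set ↥(Spec (CommRingCat.of A)) := (p₀ '' Ωᶜ)ᶜ
    have hW : IsOpen W := (p₀.isClosedMap _ hΩ.isClosed_compl).isOpen_compl
    have hbotW : bot ∈ W := fun ⟨z, hz, hzb⟩ => hz (hgenΩ z hzb)
    obtain ⟨_, ⟨s₀, rfl⟩, hs₀, hsW⟩ :=
      PrimeSpectrum.isTopologicalBasis_basic_opens.exists_subset_of_mem_open hbotW hW
    have hs₀0 : s₀ ≠ 0 := fun h => hs₀ (by rw [h]; exact Ideal.zero_mem _)
    -- the special point
    let ε : A →ₐ[k] k :=
      { toRingHom := (PowerSeries.constantCoeff (R := k)).comp A.val.toRingHom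
        commutes' := fun r => by
          show PowerSeries.constantCoeff (algebraMap k (PowerSeries k) r) = r
          simp [PowerSeries.algebraMap_apply] }
    let m : Ideal A := RingHom.ker ε.toRingHom
    haveI : m.IsMaximal := RingHom.ker_isMaximal_of_surjective _ fun r => ⟨algebraMap k A r, ε.commutes r⟩
    let xA : A := ⟨PowerSeries.X, hXA⟩
    have hxm : xA ∈ m := RingHom.mem_ker.2 (PowerSeries.constantCoeff_X)
    have hx0 : xA ≠ 0 := fun h => PowerSeries.X_ne_zero (congrArg Subtype.val h)
    obtain ⟨C, _, _, _, φ, cc, hft, hnorm, hmax, hcm, hφs, -, -, hht⟩ :=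
      CurveTest.exists_curve (DeltaBC.isNagata_field k) m (s₀ * xA) (mul_ne_zero hs₀0 hx0) (m.mul_mem_left _ hxm)
    haveI := hft
    haveI := hnorm
    haveI := hmax
    obtain ⟨hdim, hsmooth⟩ := GeomSmoothingLib.dim_and_smooth k C cc hht
    -- the rational point of the curve
    haveI : Algebra.FiniteType k (C ⧸ cc) := inferInstance
    letI : Field (C ⧸ cc) := Ideal.Quotient.field cc
    haveI : Module.Finite k (C ⧸ cc) := finite_of_finite_type_of_isJacobsonRing k (C ⧸ cc)
    let eK : k ≃ₐ[k] C ⧸ cc := AlgEquiv.ofBijective (Algebra.ofId k (C ⧸ cc))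
      (IsAlgClosed.algebraMap_bijective_of_isIntegral (k := k) (K := C ⧸ cc))
    let σ : C →ₐ[k] k := eK.symm.toAlgHom.comp (Ideal.Quotient.mkₐ k cc)
    have hσφ : ∀ a : A, σ (φ a) = ε a := by
      intro a
      have h1 : a - algebraMap k A (ε a) ∈ m := RingHom.mem_ker.2 (by
        show ε (a - algebraMap k A (ε a)) = 0
        rw [map_sub, ε.commutes]
        exact sub_self _)
      rw [← hcm] at h1
      have h2 : σ (φ (a - algebraMap k A (ε a))) = 0 := by
        show eK.symm (Ideal.Quotient.mk cc _) = 0
        exact (congrArg eK.symm ((Ideal.Quotient.eq_zero_iff_mem (I := cc)).2 h1)).trans (map_zero _)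
      rw [map_sub, map_sub, φ.commutes, σ.commutes, sub_eq_zero] at h2
      exact h2
    let cpt : Spec (CommRingCat.of k) ⟶ Spec (CommRingCat.of C) := Spec.map (CommRingCat.ofHom σ.toRingHom)
    let F : Spec (CommRingCat.of C) ⟶ Spec (CommRingCat.of A) := Spec.map (CommRingCat.ofHom φ.toRingHom)
    let π := pullback.snd p₀ F
    have hbase : IsPullback (pullback.fst p₀ F) π p₀ F := IsPullback.of_hasPullback p₀ F
    have hX' : IsPullback (i ≫ g) pX p₀ (cpt ≫ F) := by
      have h := hX.paste_horiz hg
      rw [← Spec.map_comp] at h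
      rw [show cpt ≫ F = Spec.map (CommRingCat.ofHom A.val.toRingHom ≫
          CommRingCat.ofHom (PowerSeries.constantCoeff (R := k))) from
        (Spec.map_comp _ _).symm.trans (congrArg Spec.map (CommRingCat.hom_ext (RingHom.ext hσφ)))]
      exact h
    let η : ↥(Spec (CommRingCat.of C)) := (⟨⊥, Ideal.isPrime_bot⟩ : PrimeSpectrum C)
    haveI : IsDomain C := inferInstance
    refine ⟨Spec (CommRingCat.of C), Spec.map (CommRingCat.ofHom (algebraMap k C)), cpt, ?_, inferInstance,
      inferInstance, ?_, ?_, _, π, inferInstance, inferInstance,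
      hbase.lift (i ≫ g) (pX ≫ cpt) (by rw [hX'.w, Category.assoc]), η, ?_, ?_, ?_⟩
    · rw [← Spec.map_comp, ← Spec.map_id]
      exact congrArg Spec.map (CommRingCat.hom_ext σ.comp_algebraMap)
    · exact (HasRingHomProperty.Spec_iff (P := @Smooth)).2 (RingHom.smooth_algebraMap.2 hsmooth)
    · exact (PrimeSpectrum.topologicalKrullDim_eq_ringKrullDim C).trans hdim
    · refine (PrimeSpectrum.closure_singleton (η : PrimeSpectrum C)).trans ?_
      exact Set.eq_univ_of_forall fun q => (bot_le : (⊥ : Ideal C) ≤ q.asIdeal)
    · refine IsPullback.of_right ?_ (hbase.lift_snd _ _ _) hbase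
      rw [hbase.lift_fst]
      exact hX'
    · have hfib := (IsPullback.of_hasPullback π ((Spec (CommRingCat.of C)).fromSpecResidueField η)).paste_horiz hbase
      change IsPullback (π.fiberι η ≫ pullback.fst p₀ F) (π.fiberToSpecResidueField η) p₀
        ((Spec (CommRingCat.of C)).fromSpecResidueField η ≫ F) at hfib
      have hnear : ∀ z : π.fiber η, ∃ U : (π.fiber η).Opens, z ∈ U ∧ Smooth (U.ι ≫ π.fiberToSpecResidueField η) := by
        intro z
        refine FlatLocus.exists_nhd_of_isPullback (P := @Smooth) hfib z ?_
        by_contra hbad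
        have h1 : p₀ ((π.fiberι η ≫ pullback.fst p₀ F) z) = F η := by
          have h3 : π (π.fiberι η z) = η := by
            have h4 : π.fiberι η z ∈ π ⁻¹' {η} := π.range_fiberι η ▸ Set.mem_range_self z
            exact h4
          refine Eq.trans ?_ (congrArg F h3)
          rw [← Scheme.Hom.comp_apply, ← Scheme.Hom.comp_apply, ← Scheme.Hom.comp_apply,
            Category.assoc, hbase.w]
        have h5 : F η ∈ W := hsW (by
          show s₀ ∉ (⊥ : Ideal C).comap φ.toRingHom
          intro h
          refine hφs ?_
          rw [map_mul, show φ s₀ = 0 from Ideal.mem_bot.1 h, zero_mul])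
        exact h5 ⟨_, hbad, h1⟩
      choose U hU hUs using hnear
      exact IsZariskiLocalAtSource.of_iSup_eq_top (P := @Smooth) U
        (eq_top_iff.2 fun z _ => TopologicalSpace.Opens.mem_iSup.2 ⟨z, hU z⟩) hUs

end Groth.Agent.S16186
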