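import Groth.Statements.S16190
import Groth.Agent.S1535
import Mathlib
-- import your own Groth.Agent.* helpers here

set_option autoImplicit false
set_option backward.isDefEq.respectTransparency false
set_option backward.isDefEq.respectTransparency.types false
set_option linter.style.haveILetI false
universe u
open CategoryTheory CategoryTheory.Limits AlgebraicGeometry
open Deform

namespace Groth.Agent.S16190

open CategoryTheory CategoryTheory.Limits AlgebraicGeometry IsLocalRing

theorem trunc_rel {R k : Type u} [CommRing R] [Field k] (ι : k →+* R) (π : R) (n : ℕ) (f g : PowerSeries k) :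
    π ^ n ∣ (PowerSeries.trunc n f).eval₂ ι π * (PowerSeries.trunc n g).eval₂ ι π -
      (PowerSeries.trunc n (f * g)).eval₂ ι π := by
  obtain ⟨Q, hQ⟩ : Polynomial.X ^ n ∣ PowerSeries.trunc n f * PowerSeries.trunc n g - PowerSeries.trunc n (f * g) := by
    refine Polynomial.X_pow_dvd_iff.2 fun d hd => ?_
    rw [Polynomial.coeff_sub, sub_eq_zero, PowerSeries.coeff_trunc, if_pos hd, PowerSeries.coeff_mul,
      Polynomial.coeff_mul]
    refine Finset.sum_congr rfl fun p hp => ?_
    replace hp := Finset.HasAntidiagonal.mem_antidiagonal.1 hp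
    rw [PowerSeries.coeff_trunc, PowerSeries.coeff_trunc, if_pos (by omega), if_pos (by omega)]
  refine ⟨Q.eval₂ ι π, ?_⟩
  rw [← Polynomial.eval₂_mul, ← Polynomial.eval₂_sub, hQ, Polynomial.eval₂_mul, Polynomial.eval₂_pow,
    Polynomial.eval₂_X]

/-- Expansion in a uniformiser: a local ring with a principal maximal ideal and a coefficient field embeds in the
power series. -/
theorem exists_expansion {R k : Type u} [CommRing R] [IsDomain R] [IsLocalRing R] [IsNoetherianRing R] [Field k]
    (ι : k →+* R) (σ : R →+* k) (hσι : ∀ a, σ (ι a) = a) (π : R) (hm : maximalIdeal R = Ideal.span {π}) (hπ : π ≠ 0)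
    (hker : ∀ r, σ r = 0 ↔ r ∈ maximalIdeal R) :
    ∃ φ : R →+* PowerSeries k, Function.Injective φ ∧ PowerSeries.constantCoeff.comp φ = σ := by
  let Rel : R → PowerSeries k → Prop := fun r f => ∀ n, π ^ n ∣ r - (PowerSeries.trunc n f).eval₂ ι π
  have hex : ∀ r, ∃ f, Rel r f := by
    intro r
    have hs : ∀ r : R, ∃ r', r - ι (σ r) = π * r' := fun r => by
      have h : r - ι (σ r) ∈ maximalIdeal R := (hker _).1 (by rw [map_sub, hσι, sub_self])
      rw [hm, Ideal.mem_span_singleton] at h
      exact h
    choose nx hnx using hs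
    let seq : ℕ → R := fun n => Nat.rec r (fun _ x => nx x) n
    refine ⟨PowerSeries.mk fun n => σ (seq n), fun n => ⟨seq n, ?_⟩⟩
    rw [PowerSeries.eval₂_trunc_eq_sum_range]
    induction n with
    | zero => simp [seq]
    | succ n ih =>
      rw [Finset.sum_range_succ, ← sub_sub, ih, PowerSeries.coeff_mk, pow_succ, mul_assoc,
        show π * seq (n + 1) = seq n - ι (σ (seq n)) from (hnx (seq n)).symm]
      ring
  have hzero : ∀ f, Rel 0 f → f = 0 := by
    intro f hf
    refine PowerSeries.ext fun i => ?_
    rw [map_zero]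
    induction i using Nat.strong_induction_on with
    | _ i ih =>
      have h := hf (i + 1)
      rw [PowerSeries.eval₂_trunc_eq_sum_range, Finset.sum_range_succ,
        Finset.sum_eq_zero (fun j hj => by rw [ih j (Finset.mem_range.1 hj), map_zero, zero_mul]), zero_add, zero_sub,
        dvd_neg, pow_succ', mul_dvd_mul_iff_right (pow_ne_zero i hπ)] at h
      rw [← hσι (PowerSeries.coeff i f)]
      exact (hker _).2 (by rw [hm, Ideal.mem_span_singleton]; exact h)
  have hsub : ∀ {r f r' f'}, Rel r f → Rel r' f' → Rel (r - r') (f - f') := fun h h' n => by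
    rw [map_sub, Polynomial.eval₂_sub, show ∀ a b c d : R, a - b - (c - d) = (a - c) - (b - d) from fun a b c d => by ring]
    exact dvd_sub (h n) (h' n)
  have huniq : ∀ {r f f'}, Rel r f → Rel r f' → f = f' := fun h h' => sub_eq_zero.1 (hzero _ (by
    have := hsub h h'
    rwa [sub_self] at this))
  choose φ hφ using hex
  have hone : Rel 1 1 := fun n => by
    cases n with
    | zero => simp
    | succ n =>
      rw [PowerSeries.trunc_one, Polynomial.eval₂_one, sub_self]
      exact dvd_zero _
  have hmul : ∀ a b, Rel (a * b) (φ a * φ b) := fun a b n => by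
    have h1 := hφ a n
    have h2 := hφ b n
    obtain ⟨x, hx⟩ := h1
    obtain ⟨y, hy⟩ := h2
    obtain ⟨z, hz⟩ := trunc_rel ι π n (φ a) (φ b)
    exact ⟨x * b + (PowerSeries.trunc n (φ a)).eval₂ ι π * y + z, by linear_combination b * hx + (PowerSeries.trunc n (φ a)).eval₂ ι π * hy + hz⟩
  have hadd : ∀ a b, Rel (a + b) (φ a + φ b) := fun a b n => by
    rw [map_add, Polynomial.eval₂_add, show ∀ p q r s : R, p + q - (r + s) = (p - r) + (q - s) from fun p q r s => by ring]
    exact dvd_add (hφ a n) (hφ b n)
  let Φ : R →+* PowerSeries k :=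
    { toFun := φ
      map_one' := huniq (hφ 1) hone
      map_mul' := fun a b => huniq (hφ _) (hmul a b)
      map_zero' := huniq (hφ 0) (fun n => by simp)
      map_add' := fun a b => huniq (hφ _) (hadd a b) }
  refine ⟨Φ, (injective_iff_map_eq_zero _).2 fun r hr => ?_, RingHom.ext fun r => ?_⟩
  · have h : r ∈ ⨅ n, maximalIdeal R ^ n := Ideal.mem_iInf.2 fun n => by
      rw [hm, Ideal.span_singleton_pow, Ideal.mem_span_singleton]
      have h2 := hφ r n
      rw [show φ r = 0 from hr] at h2
      simpa using h2
    rwa [Ideal.iInf_pow_eq_bot_of_isLocalRing _ (maximalIdeal.isMaximal R).ne_top, Ideal.mem_bot] at h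
  · have h2 := hφ r 1
    rw [pow_one, PowerSeries.eval₂_trunc_eq_sum_range, Finset.sum_range_one, pow_zero, mul_one,
      ← Ideal.mem_span_singleton, ← hm, ← hker, map_sub, hσι, sub_eq_zero] at h2
    show PowerSeries.constantCoeff (φ r) = σ r
    rw [h2, PowerSeries.coeff_zero_eq_constantCoeff]


/-- Let k be an algebraically closed field and let X have a geometric smoothing, i.e. there are an
integral k-scheme C smooth of dimension one over k, a k-rational point c of C and a flat proper
morphism π : Y → C whose fibre over c is X (as a k-scheme) and whose fibre over the generic point of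
C is smooth. Then X has a smoothing over Spec k[[t]]: a flat proper morphism P → Spec k[[t]] with
closed fibre X over k and smooth generic fibre P ⊗ Frac k[[t]]. (The published lemma concludes that
X, assumed projective and equidimensional, is formally smoothable; its proof builds exactly this
family over the completed local ring of C at c, identified with k[[t]], and then appeals to a
criterion equating smoothings over a discrete valuation ring with formal smoothings, which is not
restated; the hypotheses on X are not used in the step stated.) -/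
theorem result
    (k : Type u) [Field k] [IsAlgClosed k]
    (X : Scheme.{u}) (pX : X ⟶ Spec (CommRingCat.of k))
    (C : Scheme.{u}) (qC : C ⟶ Spec (CommRingCat.of k)) (c : Spec (CommRingCat.of k) ⟶ C)
    (hc : c ≫ qC = 𝟙 (Spec (CommRingCat.of k))) [IsIntegral C] [Smooth qC]
    (hC : topologicalKrullDim C = 1)
    (Y : Scheme.{u}) (π : Y ⟶ C) [Flat π] [IsProper π] (j : X ⟶ Y) (hsq : IsPullback j pX π c)
    (hgen : Smooth (π.fiberToSpecResidueField (genericPoint C))) :
    ∃ (P : Scheme.{u}) (p : P ⟶ Spec (CommRingCat.of (PowerSeries k))) (_ : Flat p) (_ : IsProper p)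
      (i : X ⟶ P),
      IsPullback i pX p (Spec.map (CommRingCat.ofHom (PowerSeries.constantCoeff (R := k)))) ∧
      Smooth (pullback.snd p
        (Spec.map (CommRingCat.ofHom (algebraMap (PowerSeries k) (FractionRing (PowerSeries k)))))) := by
  let x : C := c (closedPoint k)
  have hxc : IsClosed ({x} : Set C) := (pointEquivClosedPoint qC ⟨c, hc⟩).2
  let R := C.presheaf.stalk x
  letI : C.Over (Spec (CommRingCat.of k)) := ⟨qC⟩
  haveI : Smooth (C ↘ Spec (CommRingCat.of k)) := ‹Smooth qC›
  haveI : IsRegularLocalRing R := Groth.Agent.S1535.result k C x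
  haveI : IsDomain R := inferInstance
  have hne : x ≠ genericPoint C := fun h => by
    have huniv : ({x} : Set C) = Set.univ := by
      rw [← hxc.closure_eq, h]
      exact (genericPoint_spec C).def
    haveI : Subsingleton C := ⟨fun a b => by
      have ha : a ∈ ({x} : Set C) := huniv ▸ trivial
      have hb : b ∈ ({x} : Set C) := huniv ▸ trivial
      exact ha.trans hb.symm⟩
    haveI : Subsingleton (TopologicalSpace.IrreducibleCloseds C) := ⟨fun A B => SetLike.ext fun a => by
      obtain ⟨a', ha'⟩ := A.isIrreducible.nonempty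
      obtain ⟨b', hb'⟩ := B.isIrreducible.nonempty
      exact ⟨fun _ => Subsingleton.elim b' a ▸ hb', fun _ => Subsingleton.elim a' a ▸ ha'⟩⟩
    have : topologicalKrullDim C ≤ 0 := Order.krullDim_nonpos_of_subsingleton
    rw [hC] at this
    exact not_lt.2 this zero_lt_one
  have hdim : ringKrullDim R = 1 := by
    rw [ringKrullDim_stalk_eq_coheight]
    refine le_antisymm ((Order.coheight_le_krullDim x).trans ?_) ?_
    · rw [← hC, topologicalKrullDim, Order.krullDim_eq_of_orderIso (irreducibleSetEquivPoints (α := C))]
    · rw [← WithBot.coe_one, WithBot.coe_le_coe, ENat.one_le_iff_ne_zero]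
      intro h0
      have h1 : genericPoint C ⤳ x := (genericPoint_spec C).specializes trivial
      have h2 : x ⤳ genericPoint C := Order.coheight_eq_zero.1 h0 h1
      exact hne (Specializes.antisymm h2 h1).eq
  obtain ⟨π₀, hπ₀⟩ : ∃ π₀ : R, maximalIdeal R = Ideal.span {π₀} := by
    have h1 : (maximalIdeal R).spanFinrank = 1 := by
      have := (IsRegularLocalRing.spanFinrank_maximalIdeal : ((maximalIdeal R).spanFinrank : WithBot ℕ∞) = ringKrullDim R)
      rw [hdim] at this
      exact_mod_cast this
    have hfg : (maximalIdeal R).FG := IsNoetherian.noetherian _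
    have h2 := Submodule.FG.generators_ncard hfg
    rw [h1] at h2
    obtain ⟨a, ha⟩ := Set.ncard_eq_one.1 h2
    exact ⟨a, by rw [← Submodule.span_generators (maximalIdeal R), ha]⟩
  have hπne : π₀ ≠ 0 := fun h => by
    have hb : maximalIdeal R = ⊥ := by rw [hπ₀, h, Ideal.span_singleton_eq_bot.2 rfl]
    have hF := (IsLocalRing.isField_iff_maximalIdeal_eq (R := R)).2 hb
    rw [ringKrullDim_eq_zero_of_isField hF] at hdim
    exact zero_ne_one hdim
  let σ : R ⟶ CommRingCat.of k := Scheme.stalkClosedPointTo c
  let ι₀ : CommRingCat.of k ⟶ R := Spec.preimage (C.fromSpecStalk x ≫ qC)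
  have hσι : ι₀ ≫ σ = 𝟙 _ := by
    refine Spec.map_injective ?_
    rw [Spec.map_comp, Spec.map_preimage, Spec.map_id, Scheme.Spec_stalkClosedPointTo_fromSpecStalk_assoc, hc]
  have hloc : IsLocalHom σ.hom := inferInstanceAs (IsLocalHom (Scheme.stalkClosedPointTo c).hom)
  have hker : ∀ r : R, σ.hom r = 0 ↔ r ∈ maximalIdeal R := fun r => by
    refine ⟨fun h => ?_, fun h => ?_⟩
    · by_contra hr
      exact ((IsLocalRing.notMem_maximalIdeal.1 hr).map σ.hom).ne_zero h
    · by_contra h0
      exact (IsLocalRing.mem_maximalIdeal r).1 h (hloc.map_nonunit r (IsUnit.mk0 _ h0))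
  obtain ⟨φ, hφinj, hφc⟩ := exists_expansion ι₀.hom σ.hom (fun a => congr($hσι a)) π₀ hπ₀ hπne hker
  let Ψ : Spec (CommRingCat.of (PowerSeries k)) ⟶ C := Spec.map (CommRingCat.ofHom φ) ≫ C.fromSpecStalk x
  have hcc : Spec.map (CommRingCat.ofHom (PowerSeries.constantCoeff (R := k))) ≫ Ψ = c := by
    rw [← Spec.map_comp_assoc, show CommRingCat.ofHom φ ≫ CommRingCat.ofHom (PowerSeries.constantCoeff (R := k)) = σ
      from CommRingCat.hom_ext hφc]
    exact Scheme.Spec_stalkClosedPointTo_fromSpecStalk c
  refine ⟨pullback π Ψ, pullback.snd π Ψ, inferInstance, inferInstance,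
    pullback.lift j (pX ≫ Spec.map (CommRingCat.ofHom (PowerSeries.constantCoeff (R := k))))
      (by rw [Category.assoc, hcc, hsq.w]), ?_, ?_⟩
  · exact IsPullback.of_right (h₁₂ := pullback.fst π Ψ) (v₁₃ := π) (h₂₂ := Ψ)
      (by rw [pullback.lift_fst, hcc]; exact hsq) (by rw [pullback.lift_snd]) (IsPullback.of_hasPullback π Ψ)
  · let η := genericPoint C
    let a := Spec.map (CommRingCat.ofHom (algebraMap (PowerSeries k) (FractionRing (PowerSeries k))))
    let e : Spec (CommRingCat.of (FractionRing (PowerSeries k))) ⟶ C := a ≫ Ψ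
    have hpt : e (closedPoint (FractionRing (PowerSeries k))) = η := by
      have he : e = Spec.map (CommRingCat.ofHom
          ((algebraMap (PowerSeries k) (FractionRing (PowerSeries k))).comp φ)) ≫ C.fromSpecStalk x := by
        show a ≫ Ψ = _
        rw [CommRingCat.ofHom_comp, Spec.map_comp, Category.assoc]
      rw [he, Scheme.Hom.comp_apply]
      obtain ⟨q, hq⟩ : η ∈ Set.range (C.fromSpecStalk x) := by
        rw [Scheme.range_fromSpecStalk]
        exact (genericPoint_spec C).specializes trivial
      have hinj' : Function.Injective ((algebraMap (PowerSeries k) (FractionRing (PowerSeries k))).comp φ) :=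
        (IsFractionRing.injective (PowerSeries k) (FractionRing (PowerSeries k))).comp hφinj
      let p0 := Spec.map (CommRingCat.ofHom ((algebraMap (PowerSeries k) (FractionRing (PowerSeries k))).comp φ))
        (closedPoint (FractionRing (PowerSeries k)))
      have hp0 : p0.asIdeal = ⊥ := by
        show Ideal.comap _ (maximalIdeal (FractionRing (PowerSeries k))) = ⊥
        rw [IsLocalRing.maximalIdeal_eq_bot]
        exact Ideal.comap_bot_of_injective _ hinj'
      refine ((?_ : C.fromSpecStalk x p0 ⤳ η).antisymm ((genericPoint_spec C).specializes trivial)).eq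
      rw [← hq]
      refine ((PrimeSpectrum.le_iff_specializes p0 q).1 ?_).map (C.fromSpecStalk x).continuous
      show p0.asIdeal ≤ q.asIdeal
      rw [hp0]
      exact bot_le
    obtain ⟨l, hl⟩ : ∃ l : Spec (CommRingCat.of (FractionRing (PowerSeries k))) ⟶ Spec (C.residueField η),
        l ≫ C.fromSpecResidueField η = e := by
      refine ⟨Spec.map (C.descResidueField (Scheme.stalkClosedPointTo e)) ≫
        Spec.map (C.residueFieldCongr hpt.symm).hom, ?_⟩
      rw [Category.assoc, Scheme.residueFieldCongr_fromSpecResidueField,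
        Scheme.descResidueField_stalkClosedPointTo_fromSpecResidueField]
    have big := (IsPullback.of_hasPullback (pullback.snd π Ψ) a).paste_horiz (IsPullback.of_hasPullback π Ψ)
    have hf : IsPullback (π.fiberι η) (π.fiberToSpecResidueField η) π (C.fromSpecResidueField η) :=
      IsPullback.of_hasPullback π (C.fromSpecResidueField η)
    let m := hf.lift (pullback.fst (pullback.snd π Ψ) a ≫ pullback.fst π Ψ) (pullback.snd (pullback.snd π Ψ) a ≫ l)
      (by simp only [Category.assoc, hl]; exact (Category.assoc _ _ _).symm.trans big.w)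
    have hm : IsPullback m (pullback.snd (pullback.snd π Ψ) a) (π.fiberToSpecResidueField η) l :=
      IsPullback.of_right (h₁₂ := π.fiberι η) (v₁₃ := π) (h₂₂ := C.fromSpecResidueField η)
        (by rw [hf.lift_fst, hl]; exact big) (hf.lift_snd _ _ _) hf
    exact MorphismProperty.of_isPullback hm hgen

end Groth.Agent.S16190
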