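import Groth.Statements.S16194
import Mathlib

set_option autoImplicit false
universe u
open DivAlg

namespace Groth.Agent.S16194

/-- In an associative unital ring R, not necessarily commutative, every element r of the Jacobson
radical (the set of elements lying in every maximal left ideal) is quasiregular, i.e. 1 - r is a
two-sided unit. -/
theorem result {R : Type u} [Ring R] (r : R)
    (hr : r ∈ Ring.jacobson R) : IsUnit (1 - r) := by
  rw [← Ideal.jacobson_bot] at hr
  have key : ∀ x ∈ Ideal.jacobson (⊥ : Ideal R), ∃ z, z * (1 - x) = 1 := by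
    intro x hx
    obtain ⟨z, hz⟩ := Ideal.mem_jacobson_iff.mp hx (-1)
    refine ⟨z, ?_⟩
    rw [Submodule.mem_bot, sub_eq_zero] at hz
    rw [mul_sub, mul_one, ← hz]; noncomm_ring
  obtain ⟨z, hz⟩ := key r hr
  have hz' : z * r ∈ Ideal.jacobson (⊥ : Ideal R) := Ideal.mul_mem_left _ _ hr
  obtain ⟨w, hw⟩ := key (-(z * r)) (neg_mem hz')
  have h1 : 1 - -(z * r) = z := by rw [mul_sub, mul_one, sub_eq_iff_eq_add] at hz; rw [sub_neg_eq_add]; exact hz.symm
  rw [h1] at hw
  have h2 : w = 1 - r := by
    calc w = w * (z * (1 - r)) := by rw [hz, mul_one]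
    _ = 1 - r := by rw [← mul_assoc, hw, one_mul]
  exact ⟨⟨1 - r, z, h2 ▸ hw, hz⟩, rfl⟩

end Groth.Agent.S16194
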