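import Groth.Statements.S16195
import Mathlib

set_option autoImplicit false
universe u v w
open DivAlg

namespace Groth.Agent.S16195

/-- Let R be a ring (associative, unital, not necessarily commutative) and M, N left R-modules. For an
R-module P write BiEnd_R(P) for the ring of endomorphisms of P that are linear over the ring
End_R(P), which acts on P through evaluation. Then every T in BiEnd_R(M × N) preserves the two
summands and is induced by a pair (T₁, T₂) with T₁ in BiEnd_R(M) and T₂ in BiEnd_R(N). -/
theorem result {R : Type u} [Ring R] (M : Type v) (N : Type w)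
    [AddCommGroup M] [Module R M] [AddCommGroup N] [Module R N]
    (T : Module.End (Module.End R (M × N)) (M × N)) :
    ∃ (T₁ : Module.End (Module.End R M) M) (T₂ : Module.End (Module.End R N) N),
      ∀ (m : M) (n : N), T (m, n) = (T₁ m, T₂ n) := by
  let e₁ : Module.End R (M × N) := (LinearMap.inl R M N).comp (LinearMap.fst R M N)
  let T₁f : M →+ M := ((AddMonoidHom.fst M N).comp T.toAddMonoidHom).comp (AddMonoidHom.inl M N)
  let T₂f : N →+ N := ((AddMonoidHom.snd M N).comp T.toAddMonoidHom).comp (AddMonoidHom.inr M N)
  let T₁ : Module.End (Module.End R M) M :=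
    { toFun := T₁f
      map_add' := T₁f.map_add
      map_smul' := fun a m => by
        have := congrArg Prod.fst (T.map_smul (LinearMap.prodMap a LinearMap.id) (m, 0))
        simpa [T₁f] using this }
  let T₂ : Module.End (Module.End R N) N :=
    { toFun := T₂f
      map_add' := T₂f.map_add
      map_smul' := fun a n => by
        have := congrArg Prod.snd (T.map_smul (LinearMap.prodMap LinearMap.id a) (0, n))
        simpa [T₂f] using this }
  refine ⟨T₁, T₂, fun m n => ?_⟩
  have h1 := T.map_smul (LinearMap.prodMap (LinearMap.id : M →ₗ[R] M) (0 : N →ₗ[R] N)) (m, n)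
  have h2 := T.map_smul (LinearMap.prodMap (0 : M →ₗ[R] M) (LinearMap.id : N →ₗ[R] N)) (m, n)
  ext
  · have := congrArg Prod.fst h1
    simpa [T₁, T₁f] using this.symm
  · have := congrArg Prod.snd h2
    simpa [T₂, T₂f] using this.symm

end Groth.Agent.S16195
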