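import Groth.Statements.S16196
import Mathlib
-- import your own Groth.Agent.* helpers here

set_option autoImplicit false
universe u v
open DivAlg

namespace Groth.Agent.S16196

/-- Let R be a ring (associative, unital, not necessarily commutative) and M a left R-module which is a
generator, in the form: for some n there is an R-linear surjection from M^n onto R. Then the natural
ring homomorphism from R to the double endomorphism ring BiEnd_R(M) = End_{End_R(M)}(M)
(endomorphisms of M commuting with every R-linear endomorphism), r ↦ multiplication by r, is
bijective. (The printed form takes R an algebra over a commutative ring k, embeds R in E = End_k(M)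
and asserts R = C_E(C_E(R)); the double centralizer there is BiEnd_R(M).) -/
theorem result {R : Type u} [Ring R] (M : Type v)
    [AddCommGroup M] [Module R M]
    (hgen : ∃ (n : ℕ) (f : (Fin n → M) →ₗ[R] R), Function.Surjective f) :
    Function.Bijective (Module.toModuleEnd (Module.End R M) (S := R) M) := by
  classical
  obtain ⟨n, f, hf⟩ := hgen
  obtain ⟨m, hm⟩ := hf 1
  let g : Fin n → (M →ₗ[R] R) := fun i => f ∘ₗ LinearMap.single R (fun _ : Fin n => M) i
  have hsum : ∑ i, g i (m i) = 1 := by
    rw [← hm]
    conv_rhs => rw [← Finset.univ_sum_single m, map_sum]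
    rfl
  constructor
  · intro a b hab
    have h : ∀ x : M, a • x = b • x := fun x => LinearMap.congr_fun hab x
    have h1 : ∀ c : R, c = ∑ i, g i (c • m i) := fun c => by
      simp only [map_smul, smul_eq_mul, ← Finset.mul_sum, hsum, mul_one]
    rw [h1 a, h1 b]
    simp only [h]
  · intro φ
    refine ⟨∑ i, g i (φ (m i)), LinearMap.ext fun x => ?_⟩
    have hc : ∀ (e : Module.End R M) (v : M), φ (e v) = e (φ v) := fun e v => map_smul φ e v
    show (∑ i, g i (φ (m i))) • x = φ x
    conv_rhs => rw [← one_smul R x, ← hsum, Finset.sum_smul, map_sum]
    rw [Finset.sum_smul]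
    exact Finset.sum_congr rfl fun i _ => (hc ((g i).smulRight x) (m i)).symm

end Groth.Agent.S16196
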