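import Groth.Statements.S16197
import Mathlib
-- import your own Groth.Agent.* helpers here

set_option autoImplicit false
universe u v w
open DivAlg

namespace Groth.Agent.S16197

/-- Let R be a ring (associative, unital, not necessarily commutative) and M a left R-module which is a
generator, used here only through the existence of an R-linear surjection from a direct sum of
copies of M, indexed by an arbitrary type, onto R. Then some finite power M^n decomposes as R × Q
for a submodule Q of M^n. (The published statement is an equivalence; this row states only the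
implication from the existence of such a surjection to the splitting.) -/
theorem result {R : Type u} [Ring R] (M : Type v)
    [AddCommGroup M] [Module R M]
    (hgen : ∃ (ι : Type w) (f : (ι →₀ M) →ₗ[R] R), Function.Surjective f) :
    ∃ (n : ℕ) (Q : Submodule R (Fin n → M)), Nonempty ((Fin n → M) ≃ₗ[R] (R × Q)) := by
  classical
  obtain ⟨ι, f, hf⟩ := hgen
  obtain ⟨v, hv⟩ := hf 1
  let s := v.support
  let e : Fin s.card ≃ s := s.equivFin.symm
  let g : (Fin s.card → M) →ₗ[R] R :=
    ∑ j, f ∘ₗ Finsupp.lsingle (e j : ι) ∘ₗ (LinearMap.proj j)
  let u : Fin s.card → M := fun j => v (e j)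
  have hgu : g u = 1 := by
    rw [← hv]
    conv_rhs => rw [← Finsupp.sum_single v, Finsupp.sum, map_sum, ← Finset.sum_coe_sort, ← e.sum_comp]
    simp [g, u, s]
  refine ⟨s.card, LinearMap.ker g, ⟨?_⟩⟩
  refine LinearEquiv.ofLinearMap (LinearMap.prod g
      (LinearMap.codRestrict _ (LinearMap.id - (LinearMap.toSpanSingleton R _ u) ∘ₗ g) fun x => by
        simp [hgu]))
    (LinearMap.coprod (LinearMap.toSpanSingleton R _ u) (LinearMap.ker g).subtype) ?_ ?_
  · refine LinearMap.prod_ext (LinearMap.ext_ring ?_) (LinearMap.ext fun q => ?_)
    · exact Prod.ext (by simp [hgu]) (Subtype.ext (by simp [hgu]))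
    · have hq : g q = 0 := q.2
      exact Prod.ext (by simp [hq]) (Subtype.ext (by simp [hq]))
  · ext1 x
    simp

end Groth.Agent.S16197
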