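import Groth.Statements.S16199
import Groth.Agent.S13795
import Mathlib.RingTheory.PicardGroup
import Mathlib.LinearAlgebra.Matrix.ToLin
import Mathlib.LinearAlgebra.Matrix.GeneralLinearGroup.Defs

set_option autoImplicit false
universe u
open DivAlg

namespace Groth.Agent.S16199

section
variable {R : Type u} [CommRing R] {n : ℕ}

/-- Matrices acting on `Nⁿ`, for `N` with scalar endomorphisms. -/
noncomputable def blockEquiv (N : Type u) [AddCommGroup N] [Module R N] [Module.Invertible R N] :
    Matrix (Fin n) (Fin n) R ≃ₐ[R] Module.End R (Fin n → N) :=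
  let s : R ≃ₐ[R] Module.End R N := AlgEquiv.ofBijective (Algebra.ofId R (Module.End R N)) (by
    have h : ⇑(Algebra.ofId R (Module.End R N)) = ⇑(Module.toModuleEnd R N (S := R)) := by ext r x; rfl
    rw [h]; exact Module.Invertible.toModuleEnd_bijective R N)
  (s.mapMatrix (m := Fin n)).trans (endVecAlgEquivMatrixEnd (Fin n) R R N).symm

theorem blockEquiv_apply (N : Type u) [AddCommGroup N] [Module R N] [Module.Invertible R N]
    (A : Matrix (Fin n) (Fin n) R) (x : Fin n → N) (i : Fin n) : blockEquiv N A x i = ∑ j, A i j • x j := rfl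

end

/-- Let R be a commutative ring and n ≥ 1. The natural map from GL_n(R) to the R-algebra automorphisms
of M_n(R) is surjective (every automorphism is inner) if and only if Pic_(n)(R) = 0, i.e. every
invertible R-module N with N^n ≅ R^n is free. (For n = 0 the left side holds trivially while the
right side fails whenever Pic(R) ≠ 0, so this row assumes n ≥ 1, which the published statement
leaves implicit; invertible modules are quantified in the universe of R, which loses nothing since
every invertible module is finitely generated.) -/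
theorem result {R : Type u} [CommRing R] (n : ℕ)
    (hn : 1 ≤ n) :
    (∀ φ : Matrix (Fin n) (Fin n) R ≃ₐ[R] Matrix (Fin n) (Fin n) R,
        ∃ P : GL (Fin n) R, ∀ A : Matrix (Fin n) (Fin n) R, φ A = P.1 * A * (P⁻¹).1) ↔
      (∀ (N : Type u) [AddCommGroup N] [Module R N] [Module.Invertible R N],
        Nonempty ((Fin n → N) ≃ₗ[R] (Fin n → R)) → Module.Free R N) := by
  classical
  constructor
  · intro hinner N _ _ _ hN
    obtain ⟨e⟩ := hN
    have hne : NeZero n := ⟨by omega⟩
    let q : Matrix (Fin n) (Fin n) R ≃ₐ[R] Matrix (Fin n) (Fin n) R :=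
      (blockEquiv N).trans (e.conjAlgEquiv R |>.trans Matrix.toLinAlgEquiv'.symm)
    obtain ⟨P, hP⟩ := hinner q
    let p : (Fin n → R) ≃ₗ[R] (Fin n → R) :=
      LinearEquiv.ofLinear (Matrix.toLinAlgEquiv' P.1) (Matrix.toLinAlgEquiv' (P⁻¹).1)
        (by rw [← Module.End.mul_eq_comp, ← map_mul, Units.mul_inv, map_one]; rfl)
        (by rw [← Module.End.mul_eq_comp, ← map_mul, Units.inv_mul, map_one]; rfl)
    let ψ : (Fin n → N) ≃ₗ[R] (Fin n → R) := e.trans p.symm
    have comm : ∀ A x, ψ (blockEquiv N A x) = Matrix.toLinAlgEquiv' A (ψ x) := fun A x => by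
      have h1 : e.conjAlgEquiv R (blockEquiv N A) = Matrix.toLinAlgEquiv' (P.1 * A * (P⁻¹).1) := by
        rw [← hP A]; simp [q]
      have h2 : e (blockEquiv N A x) = Matrix.toLinAlgEquiv' (P.1 * A * (P⁻¹).1) (e x) := by
        rw [← h1]; simp [LinearEquiv.conjAlgEquiv_apply]
      show p.symm (e (blockEquiv N A x)) = _
      rw [h2, LinearEquiv.symm_apply_eq, map_mul, map_mul]
      rfl
    have blk : ∀ (i : Fin n) (x : Fin n → N), blockEquiv N (Matrix.single i i (1 : R)) x = Pi.single i (x i) := by
      intro i x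
      ext j
      simp [blockEquiv_apply, Matrix.single, Pi.single_apply, eq_comm, ite_and]
    have lin : ∀ (i : Fin n) (y : Fin n → R), Matrix.toLinAlgEquiv' (Matrix.single i i (1 : R)) y = Pi.single i (y i) := by
      intro i y
      ext j
      simp [Matrix.toLinAlgEquiv'_apply, Matrix.mulVec, dotProduct, Matrix.single, Pi.single_apply, eq_comm,
        ite_and]
    have supp : ∀ x : N, ψ (Pi.single 0 x) = Pi.single 0 (ψ (Pi.single 0 x) 0) := fun x => by
      have := comm (Matrix.single 0 0 (1 : R)) (Pi.single 0 x)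
      rw [blk, lin, Pi.single_eq_same] at this
      exact this
    have supp' : ∀ r : R, ψ.symm (Pi.single 0 r) = Pi.single 0 (ψ.symm (Pi.single 0 r) 0) := fun r => by
      apply ψ.injective
      have := comm (Matrix.single 0 0 (1 : R)) (ψ.symm (Pi.single 0 r))
      rw [blk, lin, LinearEquiv.apply_symm_apply, Pi.single_eq_same] at this
      rw [this, LinearEquiv.apply_symm_apply]
    refine Module.Free.of_equiv (LinearEquiv.symm (LinearEquiv.ofLinear
      (LinearMap.proj 0 ∘ₗ ψ.toLinearMap ∘ₗ LinearMap.single R (fun _ : Fin n => N) 0)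
      (LinearMap.proj 0 ∘ₗ ψ.symm.toLinearMap ∘ₗ LinearMap.single R (fun _ : Fin n => R) 0) ?_ ?_))
    · refine LinearMap.ext fun r => ?_
      show ψ (Pi.single 0 (ψ.symm (Pi.single 0 r) 0)) 0 = r
      rw [← supp', LinearEquiv.apply_symm_apply, Pi.single_eq_same]
    · refine LinearMap.ext fun x => ?_
      show ψ.symm (Pi.single 0 (ψ (Pi.single 0 x) 0)) 0 = x
      rw [← supp, LinearEquiv.symm_apply_apply, Pi.single_eq_same]
  · intro hfree φ
    rcases subsingleton_or_nontrivial R with hR | hR
    · exact ⟨1, fun A => Subsingleton.elim _ _⟩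
    have hne : NeZero n := ⟨by omega⟩
    obtain ⟨L, _, _, hL, ξ, hξ⟩ := Groth.Agent.S13795.result R (Fin n → R) (Fin n → R)
      ((Matrix.toLinAlgEquiv'.symm.trans φ).trans Matrix.toLinAlgEquiv')
    have : Module.Free R L := hfree L ⟨((TensorProduct.comm R _ _).trans
      (TensorProduct.piScalarRight R R L (Fin n))).symm.trans ξ⟩
    obtain ⟨eL⟩ := Module.Invertible.free_iff_linearEquiv.1 this
    let g : (Fin n → R) ≃ₗ[R] (Fin n → R) :=
      (TensorProduct.rid R _).symm.trans ((TensorProduct.congr (LinearEquiv.refl R _) eL.symm).trans ξ)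
    refine ⟨⟨LinearMap.toMatrixAlgEquiv' g.toLinearMap, LinearMap.toMatrixAlgEquiv' g.symm.toLinearMap,
      ?_, ?_⟩, fun A => ?_⟩
    · rw [← map_mul, show g.toLinearMap * g.symm.toLinearMap = 1 from LinearMap.ext g.apply_symm_apply, map_one]
    · rw [← map_mul, show g.symm.toLinearMap * g.toLinearMap = 1 from LinearMap.ext g.symm_apply_apply, map_one]
    apply Matrix.toLinAlgEquiv'.injective
    refine LinearMap.ext fun x => ?_
    obtain ⟨y, rfl⟩ := g.surjective x
    simp only [map_mul, Matrix.toLinAlgEquiv'_toMatrixAlgEquiv', Units.inv_mk, Units.val_mk]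
    rw [Module.End.mul_apply, Module.End.mul_apply]
    show _ = g (Matrix.toLinAlgEquiv' A (g.symm (g y)))
    rw [g.symm_apply_apply]
    have h := congrArg (fun F : Module.End R (Fin n → R) => F (g y)) (hξ (Matrix.toLinAlgEquiv' A))
    simp only [AlgEquiv.trans_apply, AlgEquiv.symm_apply_apply] at h
    rw [h, LinearEquiv.conj_apply_apply]
    simp [g]

end Groth.Agent.S16199
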