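import Groth.Statements.S16201
import Mathlib
import Groth.Agent.ConstrNoeth.Basic
open CategoryTheory
-- import your own Groth.Agent.* helpers here

set_option autoImplicit false
open CategoryTheory AlgebraicGeometry
open Variety

namespace Groth.Agent.S16201

/-- Let f : Y → Z be a morphism of schemes of finite type over ℂ, with Z irreducible. Suppose that the
general fibre of f is irreducible, in the sense that there is a nonempty open subset V of Z such
that the fibre of f over every closed point of V is an irreducible topological space, and that each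
irreducible component of Y has dense image in Z. Then Y is irreducible. (The published statement is
for a morphism of projective varieties; only finiteness of type over the field is used, and the row
is stated in that generality.) -/
theorem result
    (Y Z : Scheme.{0}) (g : Z ⟶ Spec (CommRingCat.of ℂ)) (f : Y ⟶ Z)
    [LocallyOfFiniteType g] [QuasiCompact g] [LocallyOfFiniteType f] [QuasiCompact f]
    [IrreducibleSpace Z]
    (hgen : ∃ V : Z.Opens, (V : Set Z).Nonempty ∧
      ∀ z ∈ V, IsClosed ({z} : Set Z) → IsIrreducible (f.base ⁻¹' {z}))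
    (hdom : ∀ W ∈ irreducibleComponents Y, Dense (f.base '' W)) :
    IrreducibleSpace Y := by
  classical
  obtain ⟨V, hVne, hV⟩ := hgen
  haveI : IsLocallyNoetherian Z := LocallyOfFiniteType.isLocallyNoetherian g
  haveI : CompactSpace Z := QuasiCompact.compactSpace_of_compactSpace g
  haveI : AlgebraicGeometry.IsNoetherian Z := ⟨⟩
  haveI : IsLocallyNoetherian Y := LocallyOfFiniteType.isLocallyNoetherian f
  haveI : CompactSpace Y := QuasiCompact.compactSpace_of_compactSpace f
  haveI : AlgebraicGeometry.IsNoetherian Y := ⟨⟩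
  haveI : LocallyOfFinitePresentation f := LocallyOfFinitePresentation.iff_locallyOfFiniteType.2 inferInstance
  haveI : JacobsonSpace Z := LocallyOfFiniteType.jacobsonSpace g
  have hfin : (irreducibleComponents ↥Y).Finite := TopologicalSpace.NoetherianSpace.finite_irreducibleComponents
  obtain ⟨z₀, hz₀, hz₀c⟩ : ((V : Set Z) ∩ closedPoints Z).Nonempty :=
    nonempty_inter_closedPoints hVne V.2.isLocallyClosed
  obtain ⟨y₀, -⟩ := (hV z₀ hz₀ hz₀c).1
  haveI : Nonempty ↥Y := ⟨y₀⟩
  -- the part of a component off the others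
  let O : Set ↥Y → Set ↥Y := fun W => (⋃ W' ∈ irreducibleComponents ↥Y \ {W}, W')ᶜ
  have hOopen : ∀ W, IsOpen (O W) := fun W =>
    ((hfin.sdiff).isClosed_biUnion fun W' hW' => isClosed_of_mem_irreducibleComponents W' hW'.1).isOpen_compl
  have hOsub : ∀ W, O W ⊆ W := by
    intro W y hy
    obtain ⟨W', hW', hle⟩ := exists_mem_irreducibleComponents_subset_of_isIrreducible {y} isIrreducible_singleton
    by_contra hyW
    exact hy (Set.mem_iUnion₂.2 ⟨W', ⟨hW', fun h => hyW (h ▸ hle rfl)⟩, hle rfl⟩)
  have hOgen : ∀ W (hW : W ∈ irreducibleComponents ↥Y), hW.1.genericPoint ∈ O W := by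
    intro W hW hη
    obtain ⟨W', ⟨hW', hne⟩, hη'⟩ := Set.mem_iUnion₂.1 hη
    have hsub : W ⊆ W' := by
      rw [← hW.1.closure_genericPoint (isClosed_of_mem_irreducibleComponents W hW)]
      exact closure_minimal (Set.singleton_subset_iff.2 hη') (isClosed_of_mem_irreducibleComponents W' hW')
    exact hne (Set.Subset.antisymm (hW.2 hW'.1 hsub) hsub)
  have himg : ∀ W ∈ irreducibleComponents ↥Y, ∃ U : Set Z, IsOpen U ∧ U.Nonempty ∧ U ⊆ f.base '' (O W) := by
    intro W hW
    have hc : Topology.IsConstructible (f '' (O W)) := f.isConstructible_image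
      ((TopologicalSpace.NoetherianSpace.isCompact (O W)).isConstructible (hOopen W))
    obtain ⟨U, hU, hne, hsub⟩ := Groth.Agent.ConstrNoeth.exists_open_of_constructible hc
      (Y := Set.univ) (IrreducibleSpace.isIrreducible_univ Z) (by
        rw [Set.inter_univ]
        have h1 : f '' W ⊆ closure {f hW.1.genericPoint} := by
          rintro _ ⟨w, hw, rfl⟩
          have : hW.1.genericPoint ⤳ w := specializes_iff_mem_closure.2 (by
            rw [hW.1.closure_genericPoint (isClosed_of_mem_irreducibleComponents W hW)]; exact hw)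
          exact specializes_iff_mem_closure.1 (this.map f.continuous)
        exact (hdom W hW).closure_eq.ge.trans (closure_minimal (h1.trans (closure_mono
          (Set.singleton_subset_iff.2 (Set.mem_image_of_mem f (hOgen W hW))))) isClosed_closure))
    exact ⟨U, hU, by simpa using hne, by simpa using hsub⟩
  haveI : PreirreducibleSpace ↥Y := by
    obtain ⟨W₁, hW₁, -⟩ := exists_mem_irreducibleComponents_subset_of_isIrreducible {y₀} isIrreducible_singleton
    suffices hall : ∀ W₂ ∈ irreducibleComponents ↥Y, W₂ = W₁ by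
      refine ⟨?_⟩
      have hu : (Set.univ : Set ↥Y) = W₁ := (Set.eq_univ_of_forall fun y => by
        obtain ⟨W', hW', hle⟩ := exists_mem_irreducibleComponents_subset_of_isIrreducible {y} isIrreducible_singleton
        exact hall W' hW' ▸ hle rfl).symm
      exact hu ▸ hW₁.1.2
    intro W₂ hW₂
    by_contra hne
    obtain ⟨U₁, hU₁, hU₁n, hU₁s⟩ := himg W₁ hW₁
    obtain ⟨U₂, hU₂, hU₂n, hU₂s⟩ := himg W₂ hW₂
    have hn : ((V : Set Z) ∩ (U₁ ∩ U₂)).Nonempty :=
      nonempty_preirreducible_inter V.2 (hU₁.inter hU₂) hVne (nonempty_preirreducible_inter hU₁ hU₂ hU₁n hU₂n)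
    obtain ⟨z, ⟨hzV, hz1, hz2⟩, hzc⟩ := nonempty_inter_closedPoints hn (V.2.inter (hU₁.inter hU₂)).isLocallyClosed
    obtain ⟨a, ha, haz⟩ := hU₁s hz1
    obtain ⟨b, hb, hbz⟩ := hU₂s hz2
    obtain ⟨c, -, hc1, hc2⟩ := (hV z hzV hzc).2 (O W₁) (O W₂) (hOopen W₁) (hOopen W₂) ⟨a, haz, ha⟩ ⟨b, hbz, hb⟩
    exact hc2 (Set.mem_iUnion₂.2 ⟨W₁, ⟨hW₁, Ne.symm hne⟩, hOsub W₁ hc1⟩)
  exact ⟨inferInstance⟩

end Groth.Agent.S16201
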