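import Groth.Statements.S16202
import Groth.Agent.BoundaryConn.Main

set_option backward.isDefEq.respectTransparency false
set_option backward.isDefEq.respectTransparency.types false
set_option linter.style.haveILetI false

set_option autoImplicit false
open CategoryTheory CategoryTheory.Limits AlgebraicGeometry
open Variety

namespace Groth.Agent.S16202

/-- Let X be an integral projective scheme over ℂ of dimension at least 2 and D an effective ample
divisor on X. Then the support of D is connected. Here D is given by an ample invertible module L
together with a nonzero global section s (a monomorphism O_X → L), and its support is the zero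
scheme Z(s), which is asserted to be a connected (in particular nonempty) topological space. -/
theorem result
    (X : Scheme.{0}) (f : X ⟶ Spec (CommRingCat.of ℂ)) [IsIntegral X]
    (hproj : (∃ (n : ℕ) (ι : X ⟶ CohB1.ProjSpace n ℂ), IsClosedImmersion ι ∧ ι ≫ CohB1.ProjSpace.toSpec n ℂ = f))
    (hdim : (2 : WithBot ℕ∞) ≤ topologicalKrullDim X)
    (L : X.Modules) (hL : CohB1.IsAmple L) (s : Coh.structureModule X ⟶ L) (hs : Mono s) :
    ConnectedSpace ↥(PicF2.zeroScheme L s).subscheme := by
  haveI := hs
  obtain ⟨n, ι, hι, hιf⟩ := hproj
  haveI := hι
  haveI : IsProper f := hιf ▸ inferInstance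
  have hne : ((CohB1.genLocus L s : X.Opens) : Set X).Nonempty :=
    ⟨genericPoint X, Groth.Agent.BoundaryConn.genericPoint_mem_genLocus hL.1 s⟩
  have hconn := Groth.Agent.BoundaryConn.isConnected_compl ℂ f hdim (CohB1.genLocus L s)
    (Groth.Agent.AmpleLib.isAffineOpen_genLocus_of_universallyClosed f hL s) hne
  rw [← Groth.Agent.BoundaryConn.support_zeroScheme hL.1 s, ← Scheme.IdealSheafData.range_subschemeι] at hconn
  refine connectedSpace_iff_univ.2 ?_
  rw [← Set.image_univ] at hconn
  exact ⟨Set.image_nonempty.1 hconn.1,
    (PicF2.zeroScheme L s).subschemeι.isEmbedding.isInducing.isPreconnected_image.1 hconn.2⟩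

end Groth.Agent.S16202
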