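import Groth.Statements.S16204
import Groth.Agent.RatCurveBlowLib.Bend

set_option autoImplicit false
open CategoryTheory MonoidalCategory CartesianMonoidalCategory AlgebraicGeometry
open RatCurv CategoryTheory.Limits
set_option backward.isDefEq.respectTransparency false

namespace Groth.Agent.S16204

/-- Let X be a projective variety over ℂ, C a smooth projective curve, c₀ a point of C and p a point of
X. Suppose the pointed curve (C, c₀) moves in X keeping c₀ at p: there are an integral curve B
(separated, of finite type over ℂ, not necessarily complete) and a morphism F : C × B → X over ℂ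
with F(c₀, b) = p for every b, such that F does not factor through the projection C × B → C. Then X
contains a rational curve passing through p: a nonconstant ℂ-morphism from the projective line to X
whose image contains p. Products, points and the projection are taken in the cartesian monoidal
category of ℂ-schemes. (The published statement also assumes X smooth; smoothness is not used and is
not assumed here.) -/
theorem result
    (X C B : Over (Spec (CommRingCat.of ℂ))) [IsIntegral X.left]
    (hX : (∃ (n : ℕ) (ι : X.left ⟶ CohB1.ProjSpace n ℂ), IsClosedImmersion ι ∧ ι ≫ CohB1.ProjSpace.toSpec n ℂ = X.hom))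
    [IsIntegral C.left] [IsProper C.hom] [Smooth C.hom] (hC : topologicalKrullDim C.left = 1)
    [IsIntegral B.left] [IsSeparated B.hom] [LocallyOfFiniteType B.hom] [QuasiCompact B.hom]
    (hB : topologicalKrullDim B.left = 1)
    (F : C ⊗ B ⟶ X) (c₀ : 𝟙_ (Over (Spec (CommRingCat.of ℂ))) ⟶ C) (p : 𝟙_ (Over (Spec (CommRingCat.of ℂ))) ⟶ X)
    (hfix : lift (toUnit B ≫ c₀) (𝟙 B) ≫ F = toUnit B ≫ p)
    (hvar : ¬ ∃ G : C ⟶ X, F = fst C B ≫ G) :
    ∃ (g : Over.mk (CohB1.ProjSpace.toSpec 1 ℂ) ⟶ X) (t : 𝟙_ (Over (Spec (CommRingCat.of ℂ))) ⟶ Over.mk (CohB1.ProjSpace.toSpec 1 ℂ)),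
      t ≫ g = p ∧ ¬ ∃ x : X.left, Set.range g.left.base ⊆ {x} := by
  obtain ⟨n, ι, hι, hιX⟩ := hX
  haveI : IsProper X.hom := by rw [← hιX]; infer_instance
  have hc : c₀.left ≫ C.hom = 𝟙 _ := Over.w c₀
  have hp : p.left ≫ X.hom = 𝟙 _ := Over.w p
  obtain ⟨g, t, hg, ht, htg, hgn⟩ := RatCurveBlowLib.exists_line_through C.hom B.hom X.hom hC hB F.left (Over.w F)
    c₀.left hc p.left hp (congrArg CommaMorphism.left hfix)
    (fun ⟨G, hG, hFG⟩ => hvar ⟨Over.homMk G hG, Over.OverMorphism.ext hFG⟩)
  exact ⟨Over.homMk g hg, Over.homMk t ht, Over.OverMorphism.ext htg, hgn⟩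

end Groth.Agent.S16204
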