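import Groth.Statements.S16205
import Groth.Agent.RatCurveBlowLib.Main
import Groth.Agent.S1582
import Groth.Agent.ProdDim.Basic
import Groth.Agent.BlowChartLib.RegStalk

set_option autoImplicit false
open CategoryTheory MonoidalCategory CartesianMonoidalCategory AlgebraicGeometry
open RatCurv CategoryTheory.Limits
set_option backward.isDefEq.respectTransparency false

namespace Groth.Agent.S16205

/-- Let X be a projective variety over ℂ and let C and B be smooth integral curves over ℂ (separated, of
finite type, not necessarily complete). If a rational map from the surface C × B to X, that is a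
ℂ-morphism φ defined on a nonempty open subset U of C × B, does not extend to a morphism defined on
all of C × B, then X contains a rational curve: there is a nonconstant ℂ-morphism from the
projective line to X. The product is taken in the cartesian monoidal category of ℂ-schemes. (The
published statement allows C and B singular, C even reducible, and X any variety; for C an elliptic
curve with two points glued to a node, B a curve and X that elliptic curve, the rational map induced
by the normalisation coordinate does not extend although X has no rational curve, and for smooth C,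
B the open immersion of the punctured affine plane into itself does not extend to the product of two
projective lines although the punctured plane has no complete or affine rational curves; so C and B
are taken smooth and X projective, the case the argument treats.) -/
theorem result
    (X C B : Over (Spec (CommRingCat.of ℂ))) [IsIntegral X.left]
    (hX : (∃ (n : ℕ) (ι : X.left ⟶ CohB1.ProjSpace n ℂ), IsClosedImmersion ι ∧ ι ≫ CohB1.ProjSpace.toSpec n ℂ = X.hom))
    [IsIntegral C.left] [Smooth C.hom] [IsSeparated C.hom] [QuasiCompact C.hom]
    (hC : topologicalKrullDim C.left = 1)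
    [IsIntegral B.left] [Smooth B.hom] [IsSeparated B.hom] [QuasiCompact B.hom]
    (hB : topologicalKrullDim B.left = 1)
    (U : (C ⊗ B).left.Opens) (hU : (U : Set (C ⊗ B).left).Nonempty)
    (φ : (U : Scheme.{0}) ⟶ X.left) (hφ : φ ≫ X.hom = U.ι ≫ (C ⊗ B).hom)
    (hne : ¬ ∃ ψ : (C ⊗ B).left ⟶ X.left, U.ι ≫ ψ = φ) :
    ∃ g : Over.mk (CohB1.ProjSpace.toSpec 1 ℂ) ⟶ X, ¬ ∃ x : X.left, Set.range g.left.base ⊆ {x} := by
  let W := pullback C.hom B.hom
  haveI : IsIntegral W := S1582.result ℂ C.left B.left C.hom B.hom
  let sW : W ⟶ Spec (CommRingCat.of ℂ) := pullback.fst C.hom B.hom ≫ C.hom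
  haveI : Smooth sW := inferInstance
  haveI : IsNoetherian W :=
    { toIsLocallyNoetherian := LocallyOfFiniteType.isLocallyNoetherian sW
      toCompactSpace := QuasiCompact.compactSpace_of_compactSpace sW }
  haveI : Subsingleton ↥(Spec (CommRingCat.of ℂ)) := inferInstanceAs (Subsingleton (PrimeSpectrum ℂ))
  have hreg : ∀ w : W, IsRegularLocalRing (W.presheaf.stalk w) := fun w => by
    refine BlowChartLib.regular_stalk_of_smooth sW w ?_
    rw [Subsingleton.elim (sW w) (genericPoint (Spec (CommRingCat.of ℂ)))]
    exact inferInstanceAs (IsRegularLocalRing (Spec (CommRingCat.of ℂ)).functionField)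
  have hdim : topologicalKrullDim W ≤ 2 := by
    rw [ProdDim.topologicalKrullDim_pullback C.hom B.hom, hC, hB]
    rfl
  obtain ⟨n, ι, hι, hιX⟩ := hX
  haveI : IsProper X.hom := by rw [← hιX]; infer_instance
  obtain ⟨c, hc, hcn⟩ := RatCurveBlowLib.exists_line_of_not_extends hreg hdim sW X.hom U hU φ hφ hne
  exact ⟨Over.homMk c hc, hcn⟩

end Groth.Agent.S16205
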