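import Mathlib
import Groth.Statements.S16206

set_option autoImplicit false
open RatCurv

namespace Groth.Agent.S16206

section

open W4c3cyccovratcurv SimpleGraph

variable {k n : ℕ}

theorem conicAdj_symm {T₁ T₂ : MarkedTree k} (h : ConicAdj T₁ T₂) : ConicAdj T₂ T₁ := by
  obtain ⟨u₁, w₁, u₂, w₂, h₁, h₂, φ, hu, hm⟩ := h
  exact ⟨u₂, w₂, u₁, w₁, h₂, h₁, φ.symm, by rw [← hu]; exact φ.symm_apply_apply _,
    fun i => by rw [← hm i]; exact φ.symm_apply_apply _⟩

theorem step_of_contract_eq (G G' : SimpleGraph (Fin n)) (hG : G.IsTree) (hG' : G'.IsTree)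
    (m m' : Fin k → Fin n) (u w : Fin n) (h : G.Adj u w) (h' : G'.Adj u w)
    (hc : contract G u w = contract G' u w)
    (hm : ∀ i, contractMark m u w h.ne i = contractMark m' u w h'.ne i) :
    ConicAdj (⟨n, G, hG, m⟩ : MarkedTree k) ⟨n, G', hG', m'⟩ :=
  ⟨u, w, u, w, h, h',
    { toEquiv := Equiv.refl _
      map_rel_iff' := fun {a b} => by
        show (contract G' u w).Adj a b ↔ (contract G u w).Adj a b
        rw [hc] },
    rfl, hm⟩

/-- Move the edge `ba` to `ca`. -/
def slide (G : SimpleGraph (Fin n)) (c b a : Fin n) : SimpleGraph (Fin n) :=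
  G.deleteEdges {s(b, a)} ⊔ edge c a

theorem slide_adj (G : SimpleGraph (Fin n)) (c b a x y : Fin n) :
    (slide G c b a).Adj x y ↔
      (G.Adj x y ∧ ¬((x = b ∧ y = a) ∨ (x = a ∧ y = b))) ∨
        (((c = x ∧ a = y) ∨ (c = y ∧ a = x)) ∧ x ≠ y) := by
  simp [slide, edge_adj, deleteEdges_adj]
  tauto

theorem slide_isTree (G : SimpleGraph (Fin n)) (hG : G.IsTree) (c b a : Fin n) (hcb : G.Adj c b)
    (hba : G.Adj b a) (hca : c ≠ a) : (slide G c b a).IsTree := by
  classical
  have hcb' : (slide G c b a).Adj c b := by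
    rw [slide_adj]
    exact Or.inl ⟨hcb, by rintro (⟨-, h⟩ | ⟨h, -⟩); exacts [hba.ne h, hca h]⟩
  have hca' : (slide G c b a).Adj c a := by
    rw [slide_adj]; exact Or.inr ⟨Or.inl ⟨rfl, rfl⟩, hca⟩
  have hconn : (slide G c b a).Connected := by
    haveI : Nonempty (Fin n) := ⟨c⟩
    refine Connected.mk fun x y => ?_
    obtain ⟨p⟩ := hG.connected.preconnected x y
    induction p with
    | nil => exact Reachable.refl _
    | @cons x y z hxy p ih =>
      refine Reachable.trans ?_ ih
      by_cases hp : (x = b ∧ y = a) ∨ (x = a ∧ y = b)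
      · rcases hp with ⟨rfl, rfl⟩ | ⟨rfl, rfl⟩
        · exact hcb'.symm.reachable.trans hca'.reachable
        · exact hca'.symm.reachable.trans hcb'.reachable
      · exact Adj.reachable ((slide_adj G c b a x y).mpr (Or.inl ⟨hxy, hp⟩))
  refine isTree_iff_connected_and_card.mpr ⟨hconn, le_antisymm ?_ hconn.card_vert_le_card_edgeSet_add_one⟩
  have hcard := (isTree_iff_connected_and_card.mp hG).2
  have hsub : (slide G c b a).edgeSet ⊆ insert s(c, a) (G.edgeSet \ {s(b, a)}) := by
    intro e he
    induction e using Sym2.ind with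
    | _ x y =>
      rw [mem_edgeSet, slide_adj] at he
      simp only [Set.mem_insert_iff, Set.mem_sdiff, mem_edgeSet, Set.mem_singleton_iff, Sym2.eq_iff]
      grind
  rw [← hcard, Nat.card_coe_set_eq, Nat.card_coe_set_eq]
  have h1 := Set.ncard_le_ncard hsub (Set.toFinite _)
  have h2 := Set.ncard_insert_le s(c, a) (G.edgeSet \ {s(b, a)})
  have h3 := Set.ncard_sdiff_singleton_add_one (show s(b, a) ∈ G.edgeSet from hba) (Set.toFinite _)
  lia

theorem contract_slide (G : SimpleGraph (Fin n)) (c b a : Fin n) (hcb : G.Adj c b)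
    (hba : G.Adj b a) (hca : c ≠ a) : contract G c b = contract (slide G c b a) c b := by
  ext ⟨x, hx⟩ ⟨y, hy⟩
  simp only [contract, fromRel_adj, slide_adj, ne_eq, Subtype.mk.injEq]
  have h1 := hcb.ne
  have h2 := hba.ne
  have h3 : ∀ p q, G.Adj p q → G.Adj q p := fun p q => Adj.symm
  grind

/-- The star centred at `c`. -/
def star (c : Fin n) : SimpleGraph (Fin n) := fromRel fun a _ => a = c

theorem star_connected (c : Fin n) : (star c).Connected := by
  haveI : Nonempty (Fin n) := ⟨c⟩
  have : ∀ x, (star c).Reachable c x := fun x => by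
    by_cases h : c = x
    · subst h; exact Reachable.refl _
    · exact Adj.reachable (by simp [star, h])
  exact Connected.mk fun x y => (this x).symm.trans (this y)

theorem eq_star (G : SimpleGraph (Fin n)) (hG : G.IsTree) (c : Fin n)
    (h : ∀ x, c ≠ x → G.Adj c x) : G = star c := by
  have hle : star c ≤ G := by
    intro x y hxy
    simp only [star, fromRel_adj] at hxy
    obtain ⟨hne, rfl | rfl⟩ := hxy
    · exact h y hne
    · exact (h x hne.symm).symm
  refine (edgeSet_inj.mp (Set.eq_of_subset_of_ncard_le (edgeSet_mono hle) ?_ (Set.toFinite _))).symm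
  have h1 := (star_connected c).card_vert_le_card_edgeSet_add_one
  have h2 := (isTree_iff_connected_and_card.mp hG).2
  rw [Nat.card_coe_set_eq] at h1 h2
  lia

theorem to_star (c : Fin n) : ∀ (d : ℕ) (G : SimpleGraph (Fin n)) (hG : G.IsTree) (m : Fin k → Fin n),
    Set.ncard {x | c ≠ x ∧ ¬ G.Adj c x} = d →
    ∃ hs : (star c).IsTree, Relation.ReflTransGen ConicAdj
      (⟨n, G, hG, m⟩ : MarkedTree k) ⟨n, star c, hs, m⟩ := by
  intro d
  induction d using Nat.strong_induction_on with
  | _ d ih =>
    intro G hG m hd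
    by_cases hall : ∀ x, c ≠ x → G.Adj c x
    · obtain rfl := eq_star G hG c hall
      exact ⟨hG, .refl⟩
    · push Not at hall
      obtain ⟨x, hx, hxn⟩ := hall
      obtain ⟨p⟩ := hG.connected.preconnected c x
      obtain ⟨e, -, hb, ha⟩ := p.exists_boundary_dart {y | c = y ∨ G.Adj c y}
        (Or.inl rfl) (by rintro (h | h); exacts [hx h, hxn h])
      set b := e.fst
      set a := e.snd
      have hba : G.Adj b a := e.adj
      have hca : c ≠ a := fun h => ha (Or.inl h)
      have hcan : ¬ G.Adj c a := fun h => ha (Or.inr h)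
      have hcb : G.Adj c b := hb.resolve_left fun h => hcan (by rw [h]; exact hba)
      have hT := slide_isTree G hG c b a hcb hba hca
      have hcb' : (slide G c b a).Adj c b := by
        rw [slide_adj]
        exact Or.inl ⟨hcb, by rintro (⟨-, h⟩ | ⟨h, -⟩); exacts [hba.ne h, hca h]⟩
      have hlt : Set.ncard {y | c ≠ y ∧ ¬ (slide G c b a).Adj c y} < d := by
        rw [← hd]
        refine Set.ncard_lt_ncard (Set.ssubset_iff_of_subset ?_ |>.mpr ⟨a, ⟨hca, hcan⟩, ?_⟩)
          (Set.toFinite _)
        · rintro y ⟨hy, hyn⟩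
          refine ⟨hy, fun h => hyn ((slide_adj G c b a c y).mpr (Or.inl ⟨h, ?_⟩))⟩
          rintro (⟨h', -⟩ | ⟨h', -⟩); exacts [hcb.ne h', hca h']
        · rintro ⟨-, h⟩
          exact h ((slide_adj G c b a c a).mpr (Or.inr ⟨Or.inl ⟨rfl, rfl⟩, hca⟩))
      obtain ⟨hs, hrest⟩ := ih _ hlt _ hT m rfl
      refine ⟨hs, Relation.ReflTransGen.head ?_ hrest⟩
      exact step_of_contract_eq G _ hG hT m m c b hcb hcb' (contract_slide G c b a hcb hba hca)
        fun i => rfl

theorem marks_to_center (c : Fin n) (hs : (star c).IsTree) : ∀ (d : ℕ) (m : Fin k → Fin n),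
    Set.ncard {i | m i ≠ c} = d →
    Relation.ReflTransGen ConicAdj (⟨n, star c, hs, m⟩ : MarkedTree k) ⟨n, star c, hs, fun _ => c⟩ := by
  intro d
  induction d using Nat.strong_induction_on with
  | _ d ih =>
    intro m hd
    by_cases hall : ∀ i, m i = c
    · rw [funext hall]
    · push Not at hall
      obtain ⟨i, hi⟩ := hall
      have hadj : (star c).Adj c (m i) := by simp [star, Ne.symm hi]
      let m' : Fin k → Fin n := fun j => if m j = m i then c else m j
      have hlt : Set.ncard {j | m' j ≠ c} < d := by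
        rw [← hd]
        refine Set.ncard_lt_ncard (Set.ssubset_iff_of_subset ?_ |>.mpr ⟨i, hi, ?_⟩) (Set.toFinite _)
        · intro j hj
          simp only [Set.mem_setOf_eq, m'] at hj ⊢
          split_ifs at hj
          · exact absurd rfl hj
          · exact hj
        · simp [m']
      refine Relation.ReflTransGen.head ?_ (ih _ hlt m' rfl)
      refine step_of_contract_eq _ _ hs hs m m' c (m i) hadj hadj rfl fun j => ?_
      by_cases hj : m j = m i
      · simp [contractMark, m', hj, Ne.symm hi]
      · simp [contractMark, m', hj]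

theorem main (T₁ T₂ : MarkedTree k) (h : T₁.n = T₂.n) :
    Relation.ReflTransGen ConicAdj T₁ T₂ := by
  obtain ⟨n, G, hG, m⟩ := T₁
  obtain ⟨n', G', hG', m'⟩ := T₂
  obtain rfl : n = n' := h
  obtain ⟨c⟩ := hG.connected.nonempty
  obtain ⟨hs, h1⟩ := to_star c _ G hG m rfl
  obtain ⟨_, h2⟩ := to_star c _ G' hG' m' rfl
  have e1 := h1.trans (marks_to_center c hs _ m rfl)
  have e2 := h2.trans (marks_to_center c hs _ m' rfl)
  refine e1.trans ?_
  exact Relation.ReflTransGen.mono (fun _ _ h => conicAdj_symm h) _ _
    (Relation.reflTransGen_swap.mpr e2)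

end


/-- Let G₁ and G₂ be dual graphs of linear trees of the same total degree e and with k marked points
each, that is finite trees with e vertices, every vertex of degree one, together with a list of k
marked vertices (repetitions allowed). Then a finite chain of conic deformations leads from G₁ to
G₂. Here a conic deformation of such a graph is the marked graph obtained by contracting one edge
(the contracted vertex being the unique vertex of degree two), two marked trees are one step apart
when they have isomorphic conic deformations, the isomorphism matching the contracted vertices and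
the i-th marked vertices, and the conclusion is that G₁ and G₂ are related by the
reflexive-transitive closure of this one-step relation. -/
theorem result (k : ℕ) (T₁ T₂ : W4c3cyccovratcurv.MarkedTree k)
    (h : T₁.n = T₂.n) :
    Relation.ReflTransGen W4c3cyccovratcurv.ConicAdj T₁ T₂ := by
  exact main T₁ T₂ h

end Groth.Agent.S16206
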