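import Groth.Statements.S16211
import Mathlib
-- import your own Groth.Agent.* helpers here

set_option autoImplicit false
universe u v
open InvTh

namespace Groth.Agent.S16211

/-- Let R be a commutative ring, O a formally smooth R-algebra and G a finite group whose order is
invertible in R, acting on O by R-algebra automorphisms. Then the largest quotient algebra of O on
which G acts trivially, namely the quotient of O by the ideal generated by all g • f - f (the
coordinate ring of the subscheme of G-fixed points of Spec O), is again formally smooth over R: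
invariant homomorphisms lift along square-zero extensions. The published statement is about a scheme
X smooth and of finite presentation over the base and concludes that its fixed-point scheme is
smooth; this row, the affine step of its proof, assumes only that O is formally smooth over R and
concludes only formal smoothness. -/
theorem result (R : Type u) [CommRing R]
    (O : Type u) [CommRing O] [Algebra R O] [Algebra.FormallySmooth R O]
    (G : Type v) [Group G] [Finite G] [MulSemiringAction G O] [SMulCommClass G R O]
    (hG : IsUnit (Nat.card G : R)) :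
    Algebra.FormallySmooth R (O ⧸ Ideal.span {x : O | ∃ (g : G) (f : O), x = g • f - f}) := by
  classical
  refine Algebra.FormallySmooth.of_comp_surjective fun B _ _ I hI φ => ?_
  have : Fintype G := Fintype.ofFinite G
  let Q : Ideal O := Ideal.span {x : O | ∃ (g : G) (f : O), x = g • f - f}
  let φ' : O →ₐ[R] B ⧸ I := φ.comp (Ideal.Quotient.mkₐ R Q)
  obtain ⟨f0, hf0⟩ := Algebra.FormallySmooth.exists_lift I ⟨2, hI⟩ φ'
  have hφ' : ∀ (g : G) x, φ' (g • x) = φ' x := by
    intro g x
    have : Ideal.Quotient.mkₐ R Q (g • x) = Ideal.Quotient.mkₐ R Q x :=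
      Ideal.Quotient.eq.mpr (Ideal.subset_span ⟨g, x, rfl⟩)
    simp only [φ', AlgHom.comp_apply, this]
  have hd : ∀ (g : G) x, f0 (g • x) - f0 x ∈ I := by
    intro g x
    rw [← Ideal.Quotient.eq]
    have e : ∀ z, Ideal.Quotient.mk I (f0 z) = φ' z := fun z => AlgHom.congr_fun hf0 z
    rw [e, e, hφ']
  have hI2 : ∀ a ∈ I, ∀ b ∈ I, a * b = 0 := by
    intro a ha b hb
    have h := Ideal.mul_mem_mul ha hb
    rwa [← sq, hI] at h
  have hn : IsUnit (Fintype.card G : B) := by
    have := hG.map (algebraMap R B)
    rwa [map_natCast, Nat.card_eq_fintype_card] at this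
  obtain ⟨u, hu⟩ := hn
  let a : B := ↑u⁻¹
  have hau : a * (Fintype.card G : B) = 1 := by rw [← hu]; exact u.inv_mul
  let ψ : O →ₐ[R] B :=
    { toFun := fun x => a * ∑ g : G, f0 (g • x)
      map_one' := by simp [smul_one, hau]
      map_mul' := by
        intro x y
        have e : ∀ g : G, f0 (g • (x * y)) = f0 x * f0 y + f0 x * (f0 (g • y) - f0 y)
            + f0 y * (f0 (g • x) - f0 x) := by
          intro g
          rw [smul_mul', map_mul]
          linear_combination hI2 _ (hd g x) _ (hd g y)
        have hs : (∑ g : G, (f0 (g • x) - f0 x)) * (∑ g : G, (f0 (g • y) - f0 y)) = 0 :=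
          hI2 _ (Submodule.sum_mem _ fun g _ => hd g x) _ (Submodule.sum_mem _ fun g _ => hd g y)
        simp only [Finset.sum_sub_distrib, Finset.sum_const, Finset.card_univ, nsmul_eq_mul] at hs
        simp only [e, Finset.sum_add_distrib, Finset.sum_const, Finset.card_univ, nsmul_eq_mul,
          ← Finset.mul_sum, Finset.sum_sub_distrib]
        linear_combination (-(a ^ 2)) * hs + (f0 x * f0 y * (a * (Fintype.card G : B))
          - f0 x * (a * ∑ g : G, f0 (g • y)) - f0 y * (a * ∑ g : G, f0 (g • x))) * hau
      map_zero' := by simp
      map_add' := by intro x y; simp [smul_add, Finset.sum_add_distrib, mul_add]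
      commutes' := by
        intro r
        simp [smul_algebraMap, ← mul_assoc, hau] }
  have hψ : ∀ (g : G) x, ψ (g • x) = ψ x := by
    intro g x
    show a * _ = a * _
    congr 1
    simp only [smul_smul]
    exact Fintype.sum_equiv (Equiv.mulRight g) _ _ fun _ => rfl
  refine ⟨Ideal.Quotient.liftₐ Q ψ fun x hx => ?_, ?_⟩
  · have : Q ≤ RingHom.ker ψ := Ideal.span_le.mpr (by
      rintro x ⟨g, y, rfl⟩
      show ψ (g • y - y) = 0
      rw [map_sub, hψ, sub_self])
    exact this hx
  · refine Ideal.Quotient.algHom_ext R ?_
    apply AlgHom.ext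
    intro x
    show Ideal.Quotient.mk I (a * ∑ g : G, f0 (g • x)) = φ' x
    have e : ∀ z, Ideal.Quotient.mk I (f0 z) = φ' z := fun z => AlgHom.congr_fun hf0 z
    rw [map_mul, map_sum]
    simp only [e, hφ', Finset.sum_const, Finset.card_univ, nsmul_eq_mul]
    rw [← map_natCast (Ideal.Quotient.mk I), ← mul_assoc, ← map_mul, hau, map_one, one_mul]

end Groth.Agent.S16211
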