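import Groth.Statements.S16212
import Groth.Agent.FixPtLib.Basic

set_option autoImplicit false
universe u v
open CategoryTheory AlgebraicGeometry
open AlgGrp

namespace Groth.Agent.S16212

/-- Let S be a scheme, X an S-scheme that is smooth, separated and of finite presentation over S, and G
a finite group whose order is invertible on S (a unit among the global functions of S) acting on X
by S-automorphisms. Then the scheme of G-fixed points of X, namely any S-scheme Z with an S-morphism
ι to X that is itself fixed by every element of G (ι followed by the automorphism of each g equals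
ι) and such that an S-morphism T → X is fixed by every element of G exactly when it factors through
ι, and then uniquely, is a closed subscheme of X (ι is a closed immersion) which is smooth and of
finite presentation over S (smooth, quasi-compact and quasi-separated). The published statement
assumes X only smooth and of finite presentation over S; this row also assumes X separated over S. -/
theorem result (S : Scheme.{u})
    (X : Over S) [Smooth X.hom] [QuasiCompact X.hom] [IsSeparated X.hom]
    (G : Type v) [Group G] [Finite G] (ρ : G →* Aut X)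
    (hG : IsUnit (Nat.card G : Γ(S, ⊤)))
    (Z : Over S) (ι : Z ⟶ X) (hι : ∀ g : G, ι ≫ (ρ g).hom = ι)
    (hZ : ∀ (T : Over S) (t : T ⟶ X), (∀ g : G, t ≫ (ρ g).hom = t) ↔ ∃! t' : T ⟶ Z, t' ≫ ι = t) :
    IsClosedImmersion ι.left ∧ Smooth Z.hom ∧ QuasiCompact Z.hom ∧ QuasiSeparated Z.hom := by
  haveI : Fintype G := Fintype.ofFinite G
  obtain ⟨W, w, hwc, hwp, hW⟩ := Groth.Agent.FixPtLib.exists_fixed ρ (Finset.univ : Finset G)
  haveI := hwc
  haveI := hwp
  haveI : Mono w := Over.mono_of_mono_left w
  obtain ⟨a, ha⟩ := (hW Z ι).1 fun g _ => hι g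
  obtain ⟨b, hb, -⟩ := (hZ W w).1 fun g => (hW W w).2 ⟨𝟙 W, Category.id_comp w⟩ g (Finset.mem_univ g)
  have hab : a ≫ b = 𝟙 Z :=
    ((hZ Z ι).1 hι).unique (by rw [Category.assoc, hb, ha]) (Category.id_comp ι)
  have hba : b ≫ a = 𝟙 W := (cancel_mono w).1 (by rw [Category.assoc, ha, hb, Category.id_comp])
  haveI : IsIso a := ⟨b, hab, hba⟩
  haveI : IsIso a.left := inferInstanceAs (IsIso ((Over.forget S).map a))
  haveI hc : IsClosedImmersion ι.left := by
    rw [← ha, Over.comp_left]
    infer_instance
  haveI : LocallyOfFinitePresentation ι.left := by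
    rw [← ha, Over.comp_left]
    infer_instance
  have hfp : LocallyOfFinitePresentation Z.hom := Over.w ι ▸ inferInstanceAs (LocallyOfFinitePresentation (ι.left ≫ X.hom))
  refine ⟨hc, Groth.Agent.FixPtLib.smooth_fixed ρ hG ι hι hfp (fun T t h => ((hZ T t).1 h).exists), ?_, ?_⟩
  · exact Over.w ι ▸ inferInstanceAs (QuasiCompact (ι.left ≫ X.hom))
  · exact Over.w ι ▸ inferInstanceAs (QuasiSeparated (ι.left ≫ X.hom))

end Groth.Agent.S16212
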