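import Groth.Statements.S16213
import Groth.Agent.ASt.DiagRepDesc
import Groth.Agent.ASt.Local
import Groth.Agent.ASt.DiagCancel
-- import your own Groth.Agent.* helpers here

set_option autoImplicit false
open CategoryTheory AlgebraicGeometry
set_option backward.isDefEq.respectTransparency false
universe u
open AlgSt

namespace Groth.Agent.S16213

/-- Let S be a scheme, let 𝒳 and 𝒴 be stacks in groupoids over (Sch/S) for the fppf topology with 𝒴 an
algebraic stack, and let f : 𝒳 ⟶ 𝒴 be a functor over (Sch/S). Suppose there are an algebraic space Z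
over S and a functor z : Z ⟶ 𝒴 over (Sch/S) which is representable by algebraic spaces, smooth and
surjective, such that the 2-fibre product Z ×_𝒴 𝒳 is an algebraic stack. Then 𝒳 is an algebraic
stack over S. -/
theorem result {S : Scheme.{u}} {𝒳 𝒴 : AlgSt.Cat S}
    (h𝒳 : Stk.IsStack (QuotSh.J Scheme.fppfPrecoverage S) 𝒳)
    (h𝒴 : AlgSt.IsAlgStack Scheme.fppfPrecoverage 𝒴) (f : 𝒳 ⥤ᵇ 𝒴)
    (Z : AlgSp.Space S) (z : AlgSt.ofSp Z.obj ⥤ᵇ 𝒴)
    (hsm : AlgSt.RepByAlgSpWith (AlgSp.LocP @Smooth) z)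
    (hsurj : AlgSt.RepByAlgSpWith AlgSp.IsSurjectiveMor z)
    (hfp : AlgSt.IsAlgStack Scheme.fppfPrecoverage (FibCat.fp z f)) :
    AlgSt.IsAlgStack Scheme.fppfPrecoverage 𝒳 := by
  haveI := h𝒳.1
  haveI := h𝒴.isStack.1
  haveI : FibCat.IsFibGrpd (FibCat.fp z f).p := ASt.isFibGrpd_fp
  haveI : FibCat.IsFibGrpd (FibCat.fp (FibCat.fpFst z f) (FibCat.fpFst z f)).p := ASt.isFibGrpd_fp
  obtain ⟨V, c, -, hc, hcs⟩ := ASt.exists_chart_ofSp Z.property
  have hZ : AlgSt.IsAlgStack Scheme.fppfPrecoverage (AlgSt.ofSp Z.obj) :=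
    (ASt.isDM_of_repByAlgSp ⟨Z, BasedFunctor.id _, ASt.isEquivOver_id⟩).1
  have hΔf : AlgSt.RepByAlgSp1 (FibCat.diag f) :=
    ASt.repByAlgSp1_diag_of_fppf h𝒳 h𝒴.isStack c
      (ASt.repByAlgSpWith_comp ASt.compLocal_flat (ASt.smooth_to_flat hc) (ASt.repByAlgSpWith_mono (fun _ _ _ _ _ h A B a b k ha hb e => (haveI : Smooth k.left := h a b k ha hb e; inferInstance : Flat k.left)) hsm))
      (ASt.repByAlgSpWith_comp ASt.compLocal_lfp (ASt.smooth_to_lfp hc) (ASt.repByAlgSpWith_mono (fun _ _ _ _ _ h A B a b k ha hb e => (haveI : Smooth k.left := h a b k ha hb e; inferInstance : LocallyOfFinitePresentation k.left)) hsm))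
      (ASt.isSurjective_of_repByAlgSpWith (ASt.repByAlgSpWith_comp ASt.compLocal_surjective hcs hsurj))
      (ASt.repByAlgSp1_diag (FibCat.fpFst z f) hfp.diag hZ.diag)
  refine ⟨h𝒳, ?_, ASt.hasAtlas_of_cover (w := FibCat.fpSnd z f) hfp.atlas
    (ASt.repByAlgSpWith_fpSnd _ hsm) (ASt.repByAlgSpWith_fpSnd _ hsurj)⟩
  have h := ASt.repByAlgSpWith_diag_comp (g := FibCat.toSelf 𝒴) ASt.compLocal_top
    (ASt.repByAlgSp1_iff_top.1 hΔf) (ASt.repByAlgSp1_iff_top.1 h𝒴.diag)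
  rw [ASt.comp_toSelf] at h
  exact ASt.repByAlgSp1_of_with h

end Groth.Agent.S16213
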