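import Groth.Statements.S18447
import Groth.Agent.LciCurveDefLib.Main
import Groth.Agent.DefGlueLib.OfSch
-- import your own Groth.Agent.* helpers here

set_option autoImplicit false
set_option backward.isDefEq.respectTransparency false
set_option backward.isDefEq.respectTransparency.types false
set_option linter.style.haveILetI false
universe u
open CategoryTheory CategoryTheory.Limits AlgebraicGeometry
open Deform

namespace Groth.Agent.S18447

open ArtFun ArtFun.Art DefGlueLib RigidLib LciCurveDefLib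

variable {k : Type u} [Field k] {X : Scheme.{u}} {x : X ⟶ specPt k} {A : Art k k} (ξ : DefSch X x A)

theorem isNilpotent_ker_res : IsNilpotent (RingHom.ker (A.res : A →+* k)) := by
  rw [DefSchLib.RingDef.ker_res]
  exact DefSchLib.maximalIdeal_isNilpotent A

theorem syntomic_strU (hlci : ∀ p : X, Synt.IsSyntomicAt x p) {W : ξ.total.Opens} (hW : IsAffineOpen W) :
    CILib.IsSyntomicHom (strU ξ W).hom := by
  haveI := isClosedImmersion_i ξ
  have hV : IsAffineOpen (ξ.i ⁻¹ᵁ W) := hW.preimage ξ.i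
  have hs : CILib.IsSyntomicHom (LocHilbGlueLib.algR x (ξ.i ⁻¹ᵁ W)).hom :=
    CILib.isSyntomicHom_propertyIsLocal.respectsIso.2 _ (Scheme.ΓSpecIso (CommRingCat.of k)).symm.commRingCatIsoToRingEquiv
      ((CILib.isSyntomicMor_iff x).mp hlci ⟨_, hV⟩ ⟨⊤, isAffineOpen_top _⟩ le_top)
  have h1 := DefSchLib.surjective_ker_of_isPushout (isPushout_str ξ hW) A.res_surjective
  exact isSyntomic_of_fibre (A.res : A →+* k) (strU ξ W).hom (ξ.i.app W).hom _ A.res_surjective
    isNilpotent_ker_res h1.1 (congrArg CommRingCat.Hom.hom (isPushout_str ξ hW).w) h1.2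
    (RingHom.Flat.comp (RingHom.Flat.of_bijective (ConcreteCategory.bijective_of_isIso (Scheme.ΓSpecIso _).inv))
      (ξ.f.flat_appLE (isAffineOpen_top _) hW le_top)) hs

theorem syntomic_f (hlci : ∀ p : X, Synt.IsSyntomicAt x p) : Synt.IsSyntomicMor ξ.f := by
  intro p
  obtain ⟨W, hW, hp, -⟩ := exists_isAffineOpen_mem_and_subset (U := (⊤ : ξ.total.Opens)) (x := p) trivial
  refine ⟨⟨W, hW⟩, ⟨⊤, isAffineOpen_top _⟩, le_top, hp, ?_⟩
  have h := CILib.isSyntomicHom_propertyIsLocal.respectsIso.2 _ (Scheme.ΓSpecIso (CommRingCat.of A)).commRingCatIsoToRingEquiv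
    (syntomic_strU ξ hlci hW)
  have e : (strU ξ W).hom.comp (Scheme.ΓSpecIso (CommRingCat.of A)).commRingCatIsoToRingEquiv.toRingHom =
      (ξ.f.appLE ⊤ W le_top).hom :=
    congrArg CommRingCat.Hom.hom
      (show (Scheme.ΓSpecIso _).hom ≫ (Scheme.ΓSpecIso _).inv ≫ ξ.f.appLE ⊤ W le_top = _ from
        Iso.hom_inv_id_assoc _ _)
  rw [e] at h
  exact h

theorem smooth_strU {U : X.Opens} (hU : Smooth (U.ι ≫ x)) {W : ξ.total.Opens} (hW : IsAffineOpen W)
    (hle : W ≤ imU ξ U) : (strU ξ W).hom.Smooth := by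
  haveI := isClosedImmersion_i ξ
  have hV : IsAffineOpen (ξ.i ⁻¹ᵁ W) := hW.preimage ξ.i
  have hVU : ξ.i ⁻¹ᵁ W ≤ U := fun q hq => by
    obtain ⟨q', hq', h⟩ := hle hq
    rwa [← (i_bijective ξ).1 h]
  haveI := hU
  have hs : (LocHilbGlueLib.algR x (ξ.i ⁻¹ᵁ W)).hom.Smooth := by
    refine RingHom.Smooth.respectsIso.2 _ (Scheme.ΓSpecIso (CommRingCat.of k)).symm.commRingCatIsoToRingEquiv ?_
    have hW' : IsAffineOpen (U.ι ⁻¹ᵁ (ξ.i ⁻¹ᵁ W)) :=
      hV.preimage_of_isOpenImmersion U.ι (by rw [Scheme.Opens.opensRange_ι]; exact hVU)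
    have h := HasRingHomProperty.appLE (P := @Smooth) (U.ι ≫ x) hU ⟨⊤, isAffineOpen_top _⟩ ⟨_, hW'⟩ le_top
    rw [show (U.ι ≫ x).appLE ⊤ (U.ι ⁻¹ᵁ (ξ.i ⁻¹ᵁ W)) le_top = x.appLE ⊤ (ξ.i ⁻¹ᵁ W) le_top ≫ U.ι.app _ from by
      rw [Scheme.Hom.app_eq_appLE, Scheme.Hom.appLE_comp_appLE]] at h
    haveI := U.ι.isIso_app (ξ.i ⁻¹ᵁ W) (by rw [Scheme.Opens.opensRange_ι]; exact hVU)
    exact (RingHom.Smooth.respectsIso.cancel_right_isIso _ _).mp h
  have h1 := DefSchLib.surjective_ker_of_isPushout (isPushout_str ξ hW) A.res_surjective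
  exact smooth_of_fibre (A.res : A →+* k) (strU ξ W).hom (ξ.i.app W).hom _ A.res_surjective
    isNilpotent_ker_res h1.1 (congrArg CommRingCat.Hom.hom (isPushout_str ξ hW).w) h1.2
    (RingHom.Flat.comp (RingHom.Flat.of_bijective (ConcreteCategory.bijective_of_isIso (Scheme.ΓSpecIso _).inv))
      (ξ.f.flat_appLE (isAffineOpen_top _) hW le_top)) hs

theorem smooth_total {U : X.Opens} (hU : Smooth (U.ι ≫ x)) : Smooth ((imU ξ U).ι ≫ ξ.f) := by
  rw [HasRingHomProperty.iff_exists_appLE (P := @Smooth) (RingHom.Smooth.stableUnderComposition.stableUnderCompositionWithLocalizationAway RingHom.Smooth.holdsForLocalizationAway).1]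
  intro p
  obtain ⟨W, hW, hp, hle⟩ := exists_isAffineOpen_mem_and_subset (U := imU ξ U) (x := p.1) p.2
  refine ⟨⟨⊤, isAffineOpen_top _⟩, ⟨(imU ξ U).ι ⁻¹ᵁ W,
    hW.preimage_of_isOpenImmersion _ (by rw [Scheme.Opens.opensRange_ι]; exact hle)⟩, hp, le_top, ?_⟩
  haveI := (imU ξ U).ι.isIso_app W (by rw [Scheme.Opens.opensRange_ι]; exact hle)
  rw [show ((imU ξ U).ι ≫ ξ.f).appLE ⊤ ((imU ξ U).ι ⁻¹ᵁ W) le_top = ξ.f.appLE ⊤ W le_top ≫ (imU ξ U).ι.app _ from by
    rw [Scheme.Hom.app_eq_appLE, Scheme.Hom.appLE_comp_appLE]]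
  refine (RingHom.Smooth.respectsIso.cancel_right_isIso (ξ.f.appLE ⊤ W le_top) ((imU ξ U).ι.app W)).mpr ?_
  have h := RingHom.Smooth.respectsIso.2 _ (Scheme.ΓSpecIso (CommRingCat.of A)).commRingCatIsoToRingEquiv
    (smooth_strU ξ hU hW hle)
  have e : (strU ξ W).hom.comp (Scheme.ΓSpecIso (CommRingCat.of A)).commRingCatIsoToRingEquiv.toRingHom =
      (ξ.f.appLE ⊤ W le_top).hom :=
    congrArg CommRingCat.Hom.hom
      (show (Scheme.ΓSpecIso _).hom ≫ (Scheme.ΓSpecIso _).inv ≫ ξ.f.appLE ⊤ W le_top = _ from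
        Iso.hom_inv_id_assoc _ _)
  rw [e] at h
  exact h

/-- Generically smooth local complete intersection curves are unobstructed. Let k be a field and X a
scheme of finite type over k, of dimension at most one, such that X → Spec k is a local complete
intersection morphism (syntomic at every point of X) and X is smooth over k on some dense open
subset. Then the functor Def_X of isomorphism classes of deformations of X over local Artinian
k-algebras with residue field k is smooth: for every surjection B → A every deformation over A lifts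
to B. The published statement is for a local complete intersection curve over k that is
geometrically reduced at its generic points; this row assumes instead that X is smooth over k on a
dense open subset (the same condition for schemes of finite type over a field), does not assume
properness, and allows dimension zero. -/
theorem result
    {k : Type u} [Field k] (X : Scheme.{u}) (x : X ⟶ Spec (CommRingCat.of k))
    [LocallyOfFiniteType x] [QuasiCompact x]
    (hdim : topologicalKrullDim X ≤ 1)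
    (hlci : ∀ p : X, Synt.IsSyntomicAt x p)
    (hsm : ∃ U : X.Opens, Dense (U : Set X) ∧ Smooth (U.ι ≫ x)) :
    ArtFun.IsSmoothFunctor (ArtFun.defFunctor (Λ := k) X x) := by
  intro B A μ hμ z
  induction z using Quotient.inductionOn with
  | h ξ =>
    obtain ⟨U, hd, hU⟩ := hsm
    haveI : TopologicalSpace.NoetherianSpace X :=
      haveI : IsLocallyNoetherian X := LocallyOfFiniteType.isLocallyNoetherian x
      haveI : CompactSpace X := QuasiCompact.compactSpace_of_compactSpace x
      haveI : IsNoetherian X := {}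
      inferInstance
    haveI := isClosedImmersion_i ξ
    let φ : X ≃ₜ ξ.total := (isHomeomorph_iff_isEmbedding_surjective.mpr
      ⟨ξ.i.isClosedEmbedding.isEmbedding, (i_bijective ξ).2⟩).homeomorph
    haveI : TopologicalSpace.NoetherianSpace ξ.total := φ.symm.isEmbedding.isInducing.noetherianSpace
    have hdimT : topologicalKrullDim ξ.total ≤ 1 := φ.isHomeomorph.topologicalKrullDim_eq.symm.trans_le hdim
    have hd' : Dense (imU ξ U : Set ξ.total) := φ.surjective.denseRange.dense_image φ.continuous hd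
    haveI := smooth_total ξ hU
    let g : CommRingCat.of B ⟶ CommRingCat.of A := CommRingCat.ofHom μ.toAlgHom.toRingHom
    have hN : IsNilpotent (RingHom.ker g.hom) := by
      obtain ⟨n, hn⟩ := DefSchLib.maximalIdeal_isNilpotent B
      refine ⟨n, le_bot_iff.mp (le_of_le_of_eq (Ideal.pow_right_mono ?_ n) hn)⟩
      exact IsLocalRing.le_maximalIdeal (RingHom.ker_ne_top _)
    obtain ⟨T, h, ψ, hflat, hpb⟩ := exists_lift_top (g := g) (f := ξ.f) hμ hN (A.res : A →+* k) A.res_surjective
      isNilpotent_ker_res hdimT (syntomic_f ξ hlci) (imU ξ U) hd'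
    have hpb' : IsPullback (ξ.total.topIso.inv ≫ ψ) ξ.f h (specMap μ) :=
      hpb.of_iso ξ.total.topIso (Iso.refl _) (Iso.refl _) (Iso.refl _) (by simp) (by simp) (by simp)
        (by simp [g, specMap])
    let η : DefSch X x B :=
      { total := T
        f := h
        flat := hflat
        i := ξ.i ≫ ξ.total.topIso.inv ≫ ψ
        isPullback := by
          rw [← specRes_comp μ]
          exact ξ.isPullback.paste_horiz hpb' }
    exact ⟨η.cl, Mor.cl_eq (⟨ξ.total.topIso.inv ≫ ψ, hpb'.w, rfl⟩ : Mor μ η ξ)⟩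

end Groth.Agent.S18447
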