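import Groth.Statements.S16215
import Groth.Agent.S18447
import Groth.Agent.MagnetEt.Lift

set_option autoImplicit false
universe u
open CategoryTheory CategoryTheory.Limits AlgebraicGeometry
open PtDefo

namespace Groth.Agent.S16215

open CategoryTheory CategoryTheory.Limits AlgebraicGeometry

set_option backward.isDefEq.respectTransparency false
set_option backward.defeqAttrib.useBackward true
set_option linter.style.haveILetI false


/-- Let k be an algebraically closed field of characteristic neither 2 nor 3, C a smooth proper integral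
curve of genus one over k and P a rational point of C. For every local Artinian k-algebra A with
residue field k the forgetful map, from isomorphism classes of deformations of the pointed curve (C,
P) over A (deformations of C over A with a section through P) to isomorphism classes of deformations
of C over A, is surjective. (The characteristic assumption is the standing one of the source's
section and plays no role.) -/
theorem result
    {k : Type u} [Field k] [IsAlgClosed k] (h2 : (2 : k) ≠ 0) (h3 : (3 : k) ≠ 0)
    (X : Scheme.{u}) [X.Over (Spec (CommRingCat.of k))]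
    (hX : Curve.IsSmoothProperCurve k X (X ↘ Spec (CommRingCat.of k))) (hg : Curv2.genus k X = 1)
    (P : Spec (CommRingCat.of k) ⟶ X) (hP : P ≫ (X ↘ Spec (CommRingCat.of k)) = 𝟙 _)
    (A : ArtFun.Art k k) :
    Function.Surjective ((PtDefo.forgetPts (Λ := k) X (X ↘ Spec (CommRingCat.of k)) (fun _ : PUnit.{u + 1} => P)).app A) := by
  intro z
  induction z using Quotient.inductionOn with
  | h ξ =>
    haveI : Smooth (X ↘ Spec (CommRingCat.of k)) := hX.2.1
    haveI : Smooth ((Groth.Agent.DefGlueLib.imU ξ ⊤).ι ≫ ξ.f) :=
      Groth.Agent.S18447.smooth_total ξ inferInstance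
    have htop : Groth.Agent.DefGlueLib.imU ξ (⊤ : X.Opens) = ⊤ := by
      refine TopologicalSpace.Opens.ext ?_
      show ξ.i '' ((⊤ : X.Opens) : Set X) = Set.univ
      rw [TopologicalSpace.Opens.coe_top, Set.image_univ]
      exact (Groth.Agent.DefGlueLib.i_bijective ξ).2.range_eq
    haveI : IsIso (Groth.Agent.DefGlueLib.imU ξ (⊤ : X.Opens)).ι := by rw [htop]; exact ξ.total.topIso.isIso_hom
    haveI : Smooth ξ.f := by
      have h : Smooth (inv (Groth.Agent.DefGlueLib.imU ξ (⊤ : X.Opens)).ι ≫
          ((Groth.Agent.DefGlueLib.imU ξ (⊤ : X.Opens)).ι ≫ ξ.f)) := inferInstance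
      rwa [IsIso.inv_hom_id_assoc] at h
    obtain ⟨n, hn⟩ : IsNilpotent (RingHom.ker (A.res : A →+* k)) := Groth.Agent.S18447.isNilpotent_ker_res
    obtain ⟨l, h1, h2⟩ := Groth.Agent.MagnetEt.exists_lift_of_nilpotent (A.res : A →+* k) A.res_surjective n
      (by rw [pow_succ, hn, zero_mul]; rfl) ξ.f (P ≫ ξ.i) (𝟙 _) (by
        rw [Category.comp_id, Category.assoc, ξ.i_f, ← Category.assoc, hP, Category.id_comp]
        rfl)
    exact ⟨(⟨ξ, fun _ => l, fun _ => h2, fun _ => h1.symm⟩ :
      PtDefo.DefSch X (X ↘ Spec (CommRingCat.of k)) (fun _ : PUnit.{u + 1} => P) A).cl, rfl⟩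

end Groth.Agent.S16215
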