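import Groth.Statements.S16216
import Groth.Agent.EllGrpLib.Field
import Groth.Agent.DefGlueLib.OfSch
import Groth.Agent.S18447
import Groth.Agent.FormalLib.SuppProper
import Groth.Agent.GeomIrred.Scheme
import Groth.Agent.BCLib.Local
-- import your own Groth.Agent.* helpers here

set_option autoImplicit false
universe u
open CategoryTheory CategoryTheory.Limits AlgebraicGeometry
open PtDefo

namespace Groth.Agent.S16216

open Groth.Agent ArtFun ArtFun.Art CategoryTheory.MonoidalCategory CartesianMonoidalCategory MonObj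

set_option backward.isDefEq.respectTransparency false
set_option backward.defeqAttrib.useBackward true
set_option linter.style.haveILetI false


/-- An automorphism of a group object by right translation. -/
noncomputable def transl {C : Type*} [Category C] [CartesianMonoidalCategory C] {G : C} [GrpObj G] (c : 𝟙_ C ⟶ G) : G ≅ G where
  hom := (𝟙 G : G ⟶ G) * (toUnit G ≫ c)
  inv := (𝟙 G : G ⟶ G) * (toUnit G ≫ c)⁻¹
  hom_inv_id := by
    rw [MonObj.comp_mul, GrpObj.comp_inv, Category.comp_id, ← Category.assoc, comp_toUnit, mul_inv_cancel_right]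
  inv_hom_id := by
    rw [MonObj.comp_mul, Category.comp_id, ← Category.assoc, comp_toUnit, inv_mul_cancel_right]

theorem comp_transl {C : Type*} [Category C] [CartesianMonoidalCategory C] {G T : C} [GrpObj G] (c : 𝟙_ C ⟶ G)
    (g : T ⟶ G) : g ≫ (transl c).hom = g * (toUnit T ≫ c) := by
  rw [transl, MonObj.comp_mul, Category.comp_id, ← Category.assoc, comp_toUnit]

variable {k : Type u} [Field k] {X : Scheme.{u}} {x : X ⟶ specPt k} {A : Art k k}

/-- Every point of the base with values in a field factors through the closed point. -/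
theorem exists_factor {K : Type u} [Field K] (y : Spec (CommRingCat.of K) ⟶ spec A) :
    ∃ y' : Spec (CommRingCat.of K) ⟶ specPt k, y = y' ≫ specRes A := by
  let φ := (Spec.preimage y).hom
  have hker : RingHom.ker (A.res : A →+* k) ≤ RingHom.ker φ := fun a ha => by
    obtain ⟨n, hn⟩ := S18447.isNilpotent_ker_res (A := A)
    have h0 : a ^ n = 0 := by
      have := Ideal.pow_mem_pow ha n
      rw [hn] at this
      simpa using this
    rw [RingHom.mem_ker]
    exact eq_zero_of_pow_eq_zero (n := n) (by rw [← map_pow, h0, map_zero])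
  refine ⟨Spec.map (CommRingCat.ofHom (RingHom.liftOfRightInverse (A.res : A →+* k) _
    (Function.rightInverse_surjInv A.res_surjective) ⟨φ, hker⟩)), ?_⟩
  conv_lhs => rw [← Spec.map_preimage y]
  show _ = Spec.map _ ≫ Spec.map _
  rw [← Spec.map_comp]
  congr 1
  refine CommRingCat.hom_ext (RingHom.ext fun a => ?_)
  exact (RingHom.liftOfRightInverse_comp_apply (A.res : A →+* k) _ (Function.rightInverse_surjInv A.res_surjective)
    ⟨φ, hker⟩ a).symm

theorem geometricallyConnected_f [GeometricallyConnected x] (ξ : ArtFun.DefSch X x A) : GeometricallyConnected ξ.f := by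
  refine ⟨fun K _ y Y fst snd h => ?_⟩
  obtain ⟨y', rfl⟩ := exists_factor y
  obtain ⟨g, hg1, hg2⟩ : ∃ g : Y ⟶ X, g ≫ ξ.i = fst ∧ g ≫ x = snd ≫ y' :=
    ⟨ξ.isPullback.lift fst (snd ≫ y') (by rw [h.w, Category.assoc]), ξ.isPullback.lift_fst _ _ _,
      ξ.isPullback.lift_snd _ _ _⟩
  subst hg1
  exact GeometricallyConnected.geometrically_connectedSpace y' g snd (h.of_right hg2 ξ.isPullback)


/-- Let k be an algebraically closed field of characteristic neither 2 nor 3, C a smooth proper integral
curve of genus one over k and P a rational point of C. For every local Artinian k-algebra A with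
residue field k the forgetful map, from isomorphism classes of deformations of the pointed curve (C,
P) over A (deformations of C over A with a section through P) to isomorphism classes of deformations
of C over A, is injective: two sections through P of one deformation of C over A are exchanged by an
automorphism of that deformation inducing the identity on C. Genus one is essential here; for genus
at least two it fails. (The characteristic assumption is the standing one of the source's section
and plays no role.) -/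
theorem result
    {k : Type u} [Field k] [IsAlgClosed k] (h2 : (2 : k) ≠ 0) (h3 : (3 : k) ≠ 0)
    (X : Scheme.{u}) [X.Over (Spec (CommRingCat.of k))]
    (hX : Curve.IsSmoothProperCurve k X (X ↘ Spec (CommRingCat.of k))) (hg : Curv2.genus k X = 1)
    (P : Spec (CommRingCat.of k) ⟶ X) (hP : P ≫ (X ↘ Spec (CommRingCat.of k)) = 𝟙 _)
    (A : ArtFun.Art k k) :
    Function.Injective ((PtDefo.forgetPts (Λ := k) X (X ↘ Spec (CommRingCat.of k)) (fun _ : PUnit.{u + 1} => P)).app A) := by
  intro z₁ z₂ hz
  induction z₁ using Quotient.inductionOn with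
  | h ξ₁ =>
  induction z₂ using Quotient.inductionOn with
  | h ξ₂ =>
  obtain ⟨e₀⟩ := Quotient.exact hz
  -- reduce to two sections of one deformation
  let x := X ↘ Spec (CommRingCat.of k)
  let ξ := ξ₂.toDefSch
  let l₁ : spec A ⟶ ξ.total := ξ₁.sect PUnit.unit ≫ e₀.iso.hom
  let l₂ : spec A ⟶ ξ.total := ξ₂.sect PUnit.unit
  have hl₁ : l₁ ≫ ξ.f = 𝟙 _ := by rw [Category.assoc, e₀.hom_f, ξ₁.sect_f]
  have hl₂ : l₂ ≫ ξ.f = 𝟙 _ := ξ₂.sect_f _
  have hp₁ : P ≫ ξ.i = Art.specRes A ≫ l₁ := by
    rw [← e₀.i_hom, ← Category.assoc, ξ₁.pt_sect PUnit.unit, Category.assoc]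
  have hp₂ : P ≫ ξ.i = Art.specRes A ≫ l₂ := ξ₂.pt_sect PUnit.unit
  obtain ⟨hpr, hsm, hint, hd⟩ := hX
  haveI : IsProper x := hpr
  haveI : Smooth x := hsm
  haveI : IsIntegral X := hint
  haveI : GeometricallyConnected x := GeomIrred.geometricallyConnected_of_connectedSpace x
  haveI := RigidLib.isClosedImmersion_i ξ
  haveI := RigidLib.surjective_i ξ
  haveI : Smooth ((DefGlueLib.imU ξ (⊤ : X.Opens)).ι ≫ ξ.f) := S18447.smooth_total ξ (show Smooth ((⊤ : X.Opens).ι ≫ x) from inferInstance)
  haveI : Smooth ξ.f := by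
    have htop : DefGlueLib.imU ξ (⊤ : X.Opens) = ⊤ := by
      refine TopologicalSpace.Opens.ext ?_
      show ξ.i '' ((⊤ : X.Opens) : Set X) = Set.univ
      rw [TopologicalSpace.Opens.coe_top, Set.image_univ]
      exact (DefGlueLib.i_bijective ξ).2.range_eq
    haveI : IsIso (DefGlueLib.imU ξ (⊤ : X.Opens)).ι := by rw [htop]; exact ξ.total.topIso.isIso_hom
    have h : Smooth (inv (DefGlueLib.imU ξ (⊤ : X.Opens)).ι ≫
        ((DefGlueLib.imU ξ (⊤ : X.Opens)).ι ≫ ξ.f)) := inferInstance
    rwa [IsIso.inv_hom_id_assoc] at h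
  haveI : IsClosedImmersion (Art.specRes A) := IsClosedImmersion.spec_of_surjective _ A.res_surjective
  haveI : IsProper (ξ.i ≫ ξ.f) := by rw [ξ.i_f]; infer_instance
  haveI : IsProper ξ.f := FormalLib.isProper_of_surjective_closedImmersion ξ.i ξ.f
  haveI : GeometricallyConnected ξ.f := geometricallyConnected_f ξ
  have hsurj : ∀ s : Art.spec A, ∃ y : Art.specPt k, Art.specRes A y = s := fun s =>
    ⟨IsLocalRing.closedPoint k, @Subsingleton.elim _ (inferInstanceAs (Subsingleton (PrimeSpectrum A))) _ _⟩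
  have hdim : ∀ s, topologicalKrullDim ↥(ξ.f.fiber s) = 1 := fun s => by
    have h : ξ.f ⁻¹' {s} = Set.univ := Set.eq_univ_of_forall fun _ =>
      @Subsingleton.elim _ (inferInstanceAs (Subsingleton (PrimeSpectrum A))) _ _
    rw [((ξ.f.fiberHomeo s).trans ((Homeomorph.setCongr h).trans
      (Homeomorph.Set.univ ξ.total))).isHomeomorph.topologicalKrullDim_eq, ← hd]
    exact ((Equiv.ofBijective _ (DefGlueLib.i_bijective ξ)).toHomeomorphOfIsInducing
      ξ.i.isEmbedding.isInducing).isHomeomorph.topologicalKrullDim_eq.symm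
  haveI : SmoothOfRelativeDimension 1 ξ.f := JacLib.smoothOfRelativeDimension_one ξ.f hdim
  haveI : Coh.IsQCoh (Coh.structureModule ξ.total) :=
    PicDegLib.isQCoh_invertible ParaFLib.isInvertible_structureModule
  haveI : Coh.IsQCoh (Coh.structureModule X) := PicDegLib.isQCoh_invertible ParaFLib.isInvertible_structureModule
  have hg1 : ∀ s, CohIII.fiberRank ξ.f (Coh.structureModule ξ.total) 1 s = 1 := fun s => by
    obtain ⟨y, rfl⟩ := hsurj s
    rw [← BCLib.fiberRank_baseChange ξ.isPullback (Coh.structureModule ξ.total) 1 y]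
    rw [JacLib.fiberRank_eq_finrank (k := k) ((Scheme.Modules.pullback ξ.i).obj (Coh.structureModule ξ.total)) 1 y]
    exact ((BCLib.hhEquivL (A := k) (AmpleLib.pullO ξ.i) 1).finrank_eq).trans hg
  letI := EllGrpLib.ellGrp ξ.f hdim hg1 l₁ hl₁
  let G : Over (Art.spec A) := Over.mk ξ.f
  let u₁ : 𝟙_ (Over (Art.spec A)) ⟶ G := Over.homMk l₁ hl₁
  let u₂ : 𝟙_ (Over (Art.spec A)) ⟶ G := Over.homMk l₂ hl₂
  let c : 𝟙_ (Over (Art.spec A)) ⟶ G := u₁⁻¹ * u₂
  let τ := transl c
  have h₁ : u₁ ≫ τ.hom = u₂ := by
    rw [comp_transl, toUnit_unit, Category.id_comp, mul_inv_cancel_left]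
  let T : Over (Art.spec A) := Over.mk (x ≫ Art.specRes A)
  let iT : T ⟶ G := Over.homMk ξ.i ξ.i_f
  have hc : toUnit T ≫ u₁ = toUnit T ≫ u₂ := by
    ext
    show (toUnit T).left ≫ l₁ = (toUnit T).left ≫ l₂
    rw [show (toUnit T).left = x ≫ Art.specRes A from (Category.comp_id _).symm.trans (Over.w (toUnit T)),
      Category.assoc, Category.assoc, ← hp₁, ← hp₂]
  have hi : iT ≫ τ.hom = iT := by
    rw [comp_transl, MonObj.comp_mul, GrpObj.comp_inv, hc, inv_mul_cancel, _root_.mul_one]
  refine Quotient.sound ⟨⟨e₀.trans ⟨(Over.forget _).mapIso τ, Over.w τ.hom, congrArg CommaMorphism.left hi⟩,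
    fun j => ?_⟩⟩
  show ξ₁.sect j ≫ e₀.iso.hom ≫ τ.hom.left = ξ₂.sect j
  rw [← Category.assoc]
  exact congrArg CommaMorphism.left h₁

end Groth.Agent.S16216
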