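import Groth.Statements.S16218
import Mathlib.AlgebraicGeometry.AlgClosed.Basic
import Groth.Agent.PtdP1Lib.Curve
import Groth.Agent.S0412
import Groth.Agent.S11472
import Groth.Agent.S4471
-- import your own Groth.Agent.* helpers here

set_option autoImplicit false
universe u
open CategoryTheory CategoryTheory.Limits AlgebraicGeometry
open Curves

namespace Groth.Agent.S16218

open Groth.Agent

set_option linter.style.haveILetI false
set_option backward.isDefEq.respectTransparency false
set_option backward.isDefEq.respectTransparency.types false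

theorem toPt_unique {S : Scheme.{u}} {T : Over S} (a b : T ⟶ Over.mk (𝟙 S)) : a = b := by
  ext
  have ha := Over.w a
  have hb := Over.w b
  simp only [Over.mk_hom] at ha hb
  exact (Category.comp_id _).symm.trans (ha.trans (hb.symm.trans (Category.comp_id _)))

theorem isCurveOfGenus_of_isPullback {g : ℕ} {C T C' T' : Scheme.{u}} {p : C ⟶ T} {i : C' ⟶ C} {q : C' ⟶ T'}
    {t : T' ⟶ T} (h : IsPullback i q p t) (hp : ModFun.IsCurveOfGenus g p) : ModFun.IsCurveOfGenus g q :=
  ⟨MorphismProperty.of_isPullback h hp.1, MorphismProperty.of_isPullback h hp.2.1,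
    MorphismProperty.of_isPullback h hp.2.2.1,
    fun Ω _ _ t' X i' q' h' => hp.2.2.2 Ω (t' ≫ t) X (i' ≫ i) q' (h'.paste_horiz h)⟩

theorem mem_range_of_curveOfGenus {g : ℕ} {C T : Scheme.{u}} {p : C ⟶ T} (hp : ModFun.IsCurveOfGenus g p) (t : T) :
    t ∈ Set.range p := by
  let K := T.residueField t
  let Ω := AlgebraicClosure K
  let tb : Spec (CommRingCat.of Ω) ⟶ T :=
    Spec.map (CommRingCat.ofHom (algebraMap K Ω)) ≫ T.fromSpecResidueField t
  obtain ⟨hd, -⟩ := hp.2.2.2 Ω tb (pullback p tb) (pullback.fst p tb) (pullback.snd p tb)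
    (IsPullback.of_hasPullback _ _)
  have hne : Nonempty ↥(pullback p tb) := by
    by_contra h
    rw [not_nonempty_iff] at h
    haveI : IsEmpty (TopologicalSpace.IrreducibleCloseds ↥(pullback p tb)) :=
      ⟨fun Z => h.elim Z.isIrreducible'.nonempty.some⟩
    rw [topologicalKrullDim, Order.krullDim_eq_bot] at hd
    exact absurd hd (by decide)
  obtain ⟨x⟩ := hne
  refine ⟨pullback.fst p tb x, ?_⟩
  rw [← Scheme.Hom.comp_apply, pullback.condition, Scheme.Hom.comp_apply]
  simp only [tb, Scheme.Hom.comp_apply]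
  exact Scheme.fromSpecResidueField_apply _ _

theorem exists_section_of_curveOfGenus {g : ℕ} {Ω : Type u} [Field Ω] [IsAlgClosed Ω] {C : Scheme.{u}}
    {p : C ⟶ Spec (CommRingCat.of Ω)} (hp : ModFun.IsCurveOfGenus g p) :
    ∃ s : Spec (CommRingCat.of Ω) ⟶ C, s ≫ p = 𝟙 _ := by
  haveI : Smooth p := hp.1
  haveI : JacobsonSpace C := LocallyOfFiniteType.jacobsonSpace p
  obtain ⟨x, -⟩ := mem_range_of_curveOfGenus hp (default : Spec (CommRingCat.of Ω))
  obtain ⟨y, -, hy⟩ := nonempty_inter_closedPoints (Z := (Set.univ : Set C)) ⟨x, trivial⟩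
    isOpen_univ.isLocallyClosed
  exact ⟨pointOfClosedPoint p y hy, pointOfClosedPoint_comp _ _ _⟩

theorem isIntegral_fibre {g : ℕ} {L : Type u} [Field L] {C : Scheme.{u}} {p : C ⟶ Spec (CommRingCat.of L)}
    (hp : ModFun.IsCurveOfGenus g p) : IsIntegral C := by
  letI : C.Over (Spec (CommRingCat.of L)) := ⟨p⟩
  haveI : Smooth (C ↘ Spec (CommRingCat.of L)) := hp.1
  haveI : IsProper (C ↘ Spec (CommRingCat.of L)) := hp.2.1
  haveI : IrreducibleSpace C := hp.2.2.1.geometrically_irreducibleSpace (𝟙 _) (𝟙 _) p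
    (IsPullback.of_horiz_isIso ⟨by simp⟩)
  exact CurveLib.isIntegral_of_smooth L

theorem app_eq {k : Type u} [Field k] {N : Over (Spec (CommRingCat.of k))}
    (ψ : (ModFun.Mg (Spec (CommRingCat.of k)) 0).Hom
      (fun T : Over (Spec (CommRingCat.of k)) => LocallyOfFiniteType T.hom ∧ QuasiCompact T.hom) N)
    (x0 : (ModFun.Mg (Spec (CommRingCat.of k)) 0).Fam (Over.mk (𝟙 (Spec (CommRingCat.of k)))))
    (hx0e : x0 = Over.mk (CohB1.ProjSpace.toSpec 1 k))
    (hP0 : LocallyOfFiniteType (Over.mk (𝟙 (Spec (CommRingCat.of k)))).hom ∧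
      QuasiCompact (Over.mk (𝟙 (Spec (CommRingCat.of k)))).hom)
    (hx0 : (ModFun.Mg (Spec (CommRingCat.of k)) 0).ok _ x0)
    (T : Over (Spec (CommRingCat.of k))) (x : (ModFun.Mg (Spec (CommRingCat.of k)) 0).Fam T)
    (hT : LocallyOfFiniteType T.hom ∧ QuasiCompact T.hom) (hx : (ModFun.Mg (Spec (CommRingCat.of k)) 0).ok T x) :
    (ψ.app T x hT hx).left = T.hom ≫ (ψ.app _ x0 hP0 hx0).left := by
  subst hx0e
  change Over T.left at x
  have hC : ModFun.IsCurveOfGenus 0 x.hom := hx.2
  haveI : Smooth x.hom := hC.1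
  haveI : IsProper x.hom := hC.2.1
  haveI : LocallyOfFiniteType T.hom := hT.1
  have loc : ∀ t : T.left, ∃ (V : Scheme.{u}) (j : V ⟶ T.left), Etale j ∧ t ∈ Set.range j ∧
      j ≫ (ψ.app T x hT hx).left = j ≫ T.hom ≫ (ψ.app _ _ hP0 hx0).left := by
    intro t
    obtain ⟨S', g, s', hget, hs', h, hh⟩ := S0412.result x.hom t (mem_range_of_curveOfGenus hC t)
    haveI := hget
    haveI : IsLocallyNoetherian S' := LocallyOfFiniteType.isLocallyNoetherian (g ≫ T.hom)
    have hfib : ∀ (K : Type u) [Field K] [IsAlgClosed K] (y : Spec (CommRingCat.of K) ⟶ S'),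
        IsIntegral (pullback (pullback.snd x.hom g) y) ∧
        topologicalKrullDim ↥(pullback (pullback.snd x.hom g) y) = 1 ∧
        @Curv2.genus K _ (pullback (pullback.snd x.hom g) y) ⟨pullback.snd (pullback.snd x.hom g) y⟩ = 0 := by
      intro K _ _ y
      have hg' := isCurveOfGenus_of_isPullback (IsPullback.of_hasPullback x.hom g) hC
      refine ⟨isIntegral_fibre (isCurveOfGenus_of_isPullback (IsPullback.of_hasPullback _ y) hg'), ?_⟩
      exact hg'.2.2.2 K y _ _ _ (IsPullback.of_hasPullback _ _)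
    obtain ⟨R, instR, i, hi, hsi, e, he⟩ := S11472.result (pullback.snd x.hom g) hfib
      (pullback.lift h (𝟙 _) (by rw [hh, Category.id_comp])) (pullback.lift_snd _ _ _) s'
    haveI := hi
    refine ⟨_, i ≫ g, inferInstance, ?_, ?_⟩
    · obtain ⟨r, hr⟩ := hsi
      exact ⟨r, by rw [Scheme.Hom.comp_apply]; exact (congrArg (fun z => g z) hr).trans hs'⟩
    let S := Spec (CommRingCat.of k)
    let U : Over S := Over.mk ((i ≫ g) ≫ T.hom)
    let jm : U ⟶ T := Over.homMk (i ≫ g) rfl
    let u0 : U ⟶ Over.mk (𝟙 S) := Over.homMk ((i ≫ g) ≫ T.hom) (Category.comp_id _)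
    have hU : LocallyOfFiniteType U.hom ∧ QuasiCompact U.hom :=
      ⟨inferInstanceAs (LocallyOfFiniteType ((i ≫ g) ≫ T.hom)),
        (quasiCompact_iff_compactSpace _).mpr (inferInstanceAs (CompactSpace ↥(Spec (CommRingCat.of R))))⟩
    have hok1 : (ModFun.Mg S 0).ok U ((ModFun.Mg S 0).pull jm x) :=
      ⟨trivial, isCurveOfGenus_of_isPullback (IsPullback.of_hasPullback x.hom (i ≫ g)) hC⟩
    have hok2 : (ModFun.Mg S 0).ok U ((ModFun.Mg S 0).pull u0 (Over.mk (CohB1.ProjSpace.toSpec 1 k))) :=
      ⟨trivial, isCurveOfGenus_of_isPullback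
        (IsPullback.of_hasPullback (CohB1.ProjSpace.toSpec 1 k) ((i ≫ g) ≫ T.hom)) hx0.2⟩
    letI : Algebra k R := (Spec.preimage ((i ≫ g) ≫ T.hom)).hom.toAlgebra
    obtain ⟨g1, hg1, -⟩ := S4471.exists_bc 1 k R 0
    have hy : Spec.map (CommRingCat.ofHom (algebraMap k R)) = (i ≫ g) ≫ T.hom := by
      rw [RingHom.algebraMap_toAlgebra, CommRingCat.ofHom_hom, Spec.map_preimage]
    rw [hy] at hg1
    have hr : (ModFun.Mg S 0).r U ((ModFun.Mg S 0).pull jm x)
        ((ModFun.Mg S 0).pull u0 (Over.mk (CohB1.ProjSpace.toSpec 1 k))) :=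
      ⟨Over.isoMk ((pullbackLeftPullbackSndIso x.hom g i).symm ≪≫ e ≪≫ hg1.isoPullback) (by
        change ((pullbackLeftPullbackSndIso x.hom g i).inv ≫ e.hom ≫ hg1.isoPullback.hom) ≫ pullback.snd _ _ =
          pullback.snd _ _
        rw [Category.assoc, Category.assoc, hg1.isoPullback_hom_snd, he, Iso.inv_comp_eq,
          pullbackLeftPullbackSndIso_hom_snd])⟩
    have := ψ.resp _ _ hU hok1 hok2 hr
    rw [ψ.natural jm x hT hU hx hok1, ψ.natural u0 _ hP0 hU hx0 hok2] at this
    simpa [jm, u0] using congrArg CommaMorphism.left this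
  choose V j hj hjt heq using loc
  haveI := hj
  haveI : Flat (Sigma.desc j) := IsZariskiLocalAtSource.sigmaDesc (fun t => inferInstance)
  haveI : Surjective (Sigma.desc j) := ⟨fun t => by
    obtain ⟨r, hr⟩ := hjt t
    exact ⟨Sigma.ι V t r, by rw [← Scheme.Hom.comp_apply, Sigma.ι_desc]; exact hr⟩⟩
  haveI : Epi (Sigma.desc j) := Flat.epi_of_flat_of_surjective _
  rw [← cancel_epi (Sigma.desc j)]
  ext t : 1
  simpa using heq t


/-- Let k be an algebraically closed field. For the moduli problem of curves of genus 0 over k-schemes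
(smooth proper geometrically irreducible morphisms whose geometric fibres are one-dimensional of
genus 0, up to isomorphism over the base), the point M = Spec k with the morphism φ sending each
family over T to the structure morphism of T satisfies: (b) every morphism ψ from the problem to a
functor of points h_N, both taken on test schemes of finite type over k, factors as φ followed by a
unique k-morphism Spec k → N; and (a) φ is bijective on geometric points: over every algebraically
closed field Ω over k there is a family of genus-0 curves over Spec Ω and any two are isomorphic. In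
particular Spec k is a coarse moduli scheme for curves of genus 0 in this sense (universal property
for test schemes of finite type over k), and the family over Spec k in (a) is a tautological family.
(The published statement asserts the universal property (b) for all k-schemes as test schemes and
for families projective over the base; its proof treats test schemes of finite type over k,
indicating the general case only in outline, so (b) is stated for finite-type test schemes here, and
properness replaces projectivity, which changes nothing in the argument. Since Spec k is terminal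
among k-schemes, φ is unique and is quantified existentially.) -/
theorem result
    {k : Type u} [Field k] [IsAlgClosed k] :
    ∃ φ : (ModFun.Mg (Spec (CommRingCat.of k)) 0).Hom ⊤ (Over.mk (𝟙 (Spec (CommRingCat.of k)))),
      ModFun.IsBestApprox
          (fun T : Over (Spec (CommRingCat.of k)) => LocallyOfFiniteType T.hom ∧ QuasiCompact T.hom)
          (ModFun.Mg (Spec (CommRingCat.of k)) 0) (Over.mk (𝟙 (Spec (CommRingCat.of k)))) (φ.ofLE le_top) ∧
        ModFun.GeomBij (ModFun.Mg (Spec (CommRingCat.of k)) 0) (Over.mk (𝟙 (Spec (CommRingCat.of k)))) φ := by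
  let S := Spec (CommRingCat.of k)
  let φ : (ModFun.Mg S 0).Hom ⊤ (Over.mk (𝟙 S)) :=
    { app := fun T _ _ _ => Over.homMk T.hom (Category.comp_id _)
      natural := fun _ _ _ _ _ _ => toPt_unique _ _
      resp := fun _ _ _ _ _ _ => rfl }
  refine ⟨φ, fun N ψ => ?_, fun Ω _ _ t _ => ⟨fun g => ?_, fun x y hx hy _ => ?_⟩⟩
  · have hP0 : LocallyOfFiniteType (Over.mk (𝟙 S)).hom ∧ QuasiCompact (Over.mk (𝟙 S)).hom :=
      ⟨inferInstanceAs (LocallyOfFiniteType (𝟙 S)), inferInstanceAs (QuasiCompact (𝟙 S))⟩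
    have hx0 : (ModFun.Mg S 0).ok (Over.mk (𝟙 S)) (Over.mk (CohB1.ProjSpace.toSpec 1 k)) :=
      ⟨trivial, PtdP1Lib.isCurveOfGenus_P1 k⟩
    refine ⟨ψ.app _ _ hP0 hx0, fun T x hT hx => ?_, fun f hf => ?_⟩
    · ext
      exact app_eq ψ _ rfl hP0 hx0 T x hT hx
    · rw [hf _ _ hP0 hx0]
      conv_lhs => rw [← Category.id_comp f]
      exact congrArg (· ≫ f) (toPt_unique _ _)
  · exact ⟨Over.mk (CohB1.ProjSpace.toSpec 1 Ω), ⟨trivial, PtdP1Lib.isCurveOfGenus_P1 Ω⟩, toPt_unique _ _⟩
  · change Over (Spec (CommRingCat.of Ω)) at x y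
    obtain ⟨s, hs⟩ := exists_section_of_curveOfGenus (p := x.hom) hx.2
    obtain ⟨a, ha⟩ := PtdP1Lib.exists_iso_P1_of_curveOfGenus_zero x.hom hx.2 s hs
    obtain ⟨s', hs'⟩ := exists_section_of_curveOfGenus (p := y.hom) hy.2
    obtain ⟨b, hb⟩ := PtdP1Lib.exists_iso_P1_of_curveOfGenus_zero y.hom hy.2 s' hs'
    exact ⟨Over.isoMk (a ≪≫ b.symm) (by
      rw [Iso.trans_hom, Iso.symm_hom, Category.assoc, ← hb, b.inv_hom_id_assoc, ha])⟩

end Groth.Agent.S16218
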