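import Groth.Statements.S16219
import Groth.Agent.S2299
-- import your own Groth.Agent.* helpers here

set_option autoImplicit false
universe u
open Lim

namespace Groth.Agent.S16219

section

open AlgebraicGeometry CategoryTheory Limits

variable {A C : Type u} [CommRing A] [CommRing C] [Algebra A C] (T : Subalgebra A C)

/-- The map from `Spec C`. -/
noncomputable abbrev qT : Spec (CommRingCat.of C) ⟶ Spec (CommRingCat.of T) :=
  Spec.map (CommRingCat.ofHom T.val.toRingHom)

/-- The structure map. -/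
noncomputable abbrev strT : Spec (CommRingCat.of T) ⟶ Spec (CommRingCat.of A) :=
  Spec.map (CommRingCat.ofHom (algebraMap A T))

/-- The transition map. -/
noncomputable abbrev pT {T T' : Subalgebra A C} (h : T ≤ T') : Spec (CommRingCat.of T') ⟶ Spec (CommRingCat.of T) :=
  Spec.map (CommRingCat.ofHom (Subalgebra.inclusion h).toRingHom)

/-- A basic piece. -/
noncomputable abbrev eT {c : C} (hc : c ∈ T) :
    Spec (CommRingCat.of (Localization.Away (⟨c, hc⟩ : T))) ⟶ Spec (CommRingCat.of T) :=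
  Spec.map (CommRingCat.ofHom (algebraMap T (Localization.Away (⟨c, hc⟩ : T))))

theorem awayMap_alg {R P : Type u} [CommRing R] [CommRing P] (φ : R →+* P) (r x : R) :
    Localization.awayMap φ r (algebraMap R (Localization.Away r) x) = algebraMap P (Localization.Away (φ r)) (φ x) :=
  IsLocalization.map_eq _ x

/-- The ring map to the piece of `C`. -/
noncomputable def mT {c : C} (hc : c ∈ T) : Localization.Away (⟨c, hc⟩ : T) →+* Localization.Away c :=
  Localization.awayMap T.val.toRingHom (⟨c, hc⟩ : T)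

theorem mT_alg {c : C} (hc : c ∈ T) (x : T) :
    mT T hc (algebraMap T (Localization.Away (⟨c, hc⟩ : T)) x) = algebraMap C (Localization.Away c) (x : C) :=
  awayMap_alg T.val.toRingHom (⟨c, hc⟩ : T) x

/-- The ring map between pieces. -/
noncomputable def mTT {T T' : Subalgebra A C} (h : T ≤ T') {c : C} (hc : c ∈ T) :
    Localization.Away (⟨c, hc⟩ : T) →+* Localization.Away (⟨c, h hc⟩ : T') :=
  Localization.awayMap (Subalgebra.inclusion h).toRingHom (⟨c, hc⟩ : T)

theorem mTT_alg {T T' : Subalgebra A C} (h : T ≤ T') {c : C} (hc : c ∈ T) (x : T) :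
    mTT h hc (algebraMap T (Localization.Away (⟨c, hc⟩ : T)) x) =
      algebraMap T' (Localization.Away (⟨c, h hc⟩ : T')) (Subalgebra.inclusion h x) :=
  awayMap_alg (Subalgebra.inclusion h).toRingHom (⟨c, hc⟩ : T) x

/-- The map from the piece of `Spec C`. -/
noncomputable abbrev qPiece {c : C} (hc : c ∈ T) :
    Spec (CommRingCat.of (Localization.Away c)) ⟶ Spec (CommRingCat.of (Localization.Away (⟨c, hc⟩ : T))) :=
  Spec.map (CommRingCat.ofHom (mT T hc))

/-- The transition map of pieces. -/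
noncomputable abbrev pPiece {T T' : Subalgebra A C} (h : T ≤ T') {c : C} (hc : c ∈ T) :
    Spec (CommRingCat.of (Localization.Away (⟨c, h hc⟩ : T'))) ⟶ Spec (CommRingCat.of (Localization.Away (⟨c, hc⟩ : T))) :=
  Spec.map (CommRingCat.ofHom (mTT h hc))

theorem qPiece_eT {c : C} (hc : c ∈ T) :
    qPiece T hc ≫ eT T hc = Spec.map (CommRingCat.ofHom (algebraMap C (Localization.Away c))) ≫ qT T := by
  rw [← Spec.map_comp, ← Spec.map_comp]
  congr 1
  exact CommRingCat.hom_ext (RingHom.ext fun x => mT_alg T hc x)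

theorem pPiece_eT {T T' : Subalgebra A C} (h : T ≤ T') {c : C} (hc : c ∈ T) :
    pPiece h hc ≫ eT T hc = eT T' (h hc) ≫ pT h := by
  rw [← Spec.map_comp, ← Spec.map_comp]
  congr 1
  exact CommRingCat.hom_ext (RingHom.ext fun x => mTT_alg h hc x)

theorem qPiece_pPiece {T T' : Subalgebra A C} (h : T ≤ T') {c : C} (hc : c ∈ T) :
    qPiece T' (h hc) ≫ pPiece h hc = qPiece T hc := by
  rw [← Spec.map_comp]
  congr 1
  refine CommRingCat.hom_ext (IsLocalization.ringHom_ext (Submonoid.powers (⟨c, hc⟩ : T)) (RingHom.ext fun x => ?_))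
  show mT T' (h hc) (mTT h hc (algebraMap _ _ x)) = mT T hc (algebraMap _ _ x)
  rw [mTT_alg, mT_alg, mT_alg]
  rfl

theorem pPiece_comp {T T' T'' : Subalgebra A C} (h : T ≤ T') (h' : T' ≤ T'') {c : C} (hc : c ∈ T) :
    pPiece h' (h hc) ≫ pPiece h hc = pPiece (h.trans h') hc := by
  rw [← Spec.map_comp]
  congr 1
  refine CommRingCat.hom_ext (IsLocalization.ringHom_ext (Submonoid.powers (⟨c, hc⟩ : T)) (RingHom.ext fun x => ?_))
  show mTT h' (h hc) (mTT h hc (algebraMap _ _ x)) = mTT (h.trans h') hc (algebraMap _ _ x)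
  rw [mTT_alg, mTT_alg, mTT_alg]
  rfl

theorem dominant_of_injective {R R' : CommRingCat.{u}} (φ : R ⟶ R') (h : Function.Injective φ.hom) :
    IsSchemeTheoreticallyDominant (Spec.map φ) := by
  refine ⟨Scheme.IdealSheafData.ext_of_isAffine ?_⟩
  rw [Scheme.Hom.ker_apply]
  refine ((RingHom.injective_iff_ker_eq_bot _).1 ?_).trans (by simp)
  have h1 : (Spec.map φ).appTop = (Scheme.ΓSpecIso R).hom ≫ φ ≫ (Scheme.ΓSpecIso R').inv := by
    rw [← Scheme.ΓSpecIso_naturality_assoc, Iso.hom_inv_id, Category.comp_id]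
  show Function.Injective (Spec.map φ).appTop.hom
  rw [h1]
  exact ((ConcreteCategory.bijective_of_isIso (Scheme.ΓSpecIso R').inv).1.comp h).comp
    (ConcreteCategory.bijective_of_isIso (Scheme.ΓSpecIso R).hom).1

theorem injective_awayMap {c : C} (hc : c ∈ T) :
    Function.Injective (mT T hc) := by
  show Function.Injective (Localization.awayMap T.val.toRingHom (⟨c, hc⟩ : T))
  rw [Localization.awayMap, IsLocalization.Away.map_injective_iff]
  intro a ha
  exact ⟨0, by simpa using Subtype.ext (show (a : C) = 0 from ha)⟩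

theorem eT_range {c : C} (hc : c ∈ T) (x : Spec (CommRingCat.of T)) :
    x ∈ Set.range (eT T hc) ↔ (⟨c, hc⟩ : T) ∉ x.asIdeal := by
  show x ∈ Set.range (PrimeSpectrum.comap (algebraMap T (Localization.Away (⟨c, hc⟩ : T)))) ↔ _
  rw [PrimeSpectrum.localization_away_comap_range (Localization.Away (⟨c, hc⟩ : T)) (⟨c, hc⟩ : T)]
  exact Iff.rfl

/-- An open containing the image of a basic piece of the limit contains that piece at some stage. -/
theorem exists_coeffs {c : C} (hc : c ∈ T) (O : (Spec (CommRingCat.of T)).Opens)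
    (h : ∀ x : Spec (CommRingCat.of C), c ∉ x.asIdeal → qT T x ∈ O) :
    ∃ s : Finset C, ∀ (T' : Subalgebra A C) (hle : T ≤ T'), ↑s ⊆ (T' : Set C) →
      ∀ y : Spec (CommRingCat.of T'), (⟨c, hle hc⟩ : T') ∉ y.asIdeal → pT hle y ∈ O := by
  classical
  obtain ⟨Js, (hJ : (O : Set (Spec (CommRingCat.of T)))ᶜ = PrimeSpectrum.zeroLocus _)⟩ := (PrimeSpectrum.isClosed_iff_zeroLocus _).1 O.2.isClosed_compl
  have hrad : c ∈ (Ideal.span (T.val '' Js)).radical := by
    rw [Ideal.radical_eq_sInf]
    refine Ideal.mem_sInf.2 fun {P} hP => ?_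
    by_contra hcP
    haveI := hP.2
    have h1 := h ⟨P, hP.2⟩ hcP
    have h2 : qT T ⟨P, hP.2⟩ ∈ (O : Set _)ᶜ := by
      rw [hJ]
      intro j hj
      exact hP.1 (Ideal.subset_span ⟨j, hj, rfl⟩)
    exact h2 h1
  obtain ⟨n, hn⟩ := hrad
  obtain ⟨m, r, j, hsum⟩ := Submodule.mem_span_set'.1 hn
  refine ⟨Finset.univ.image r, fun T' hle hs y hy => ?_⟩
  by_contra hO
  have h2 : pT hle y ∈ (O : Set _)ᶜ := hO
  rw [hJ] at h2
  refine hy (y.isPrime.mem_of_pow_mem n ?_)
  have hr : ∀ i, r i ∈ T' := fun i => hs (Finset.mem_coe.2 (Finset.mem_image.2 ⟨i, Finset.mem_univ i, rfl⟩))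
  have he : (⟨c, hle hc⟩ : T') ^ n = ∑ i, (⟨r i, hr i⟩ : T') *
      Subalgebra.inclusion hle (j i).2.choose := by
    refine Subtype.ext ?_
    rw [SubmonoidClass.coe_pow, AddSubmonoidClass.coe_finset_sum]
    show c ^ n = _
    rw [← hsum]
    exact Finset.sum_congr rfl fun i _ => congrArg (r i * ·) (j i).2.choose_spec.2.symm
  rw [he]
  exact sum_mem fun i _ => y.asIdeal.mul_mem_left _ (h2 (j i).2.choose_spec.1)

end

open AlgebraicGeometry CategoryTheory Limits in
/-- Let A be a commutative ring, X a scheme of finite type over Spec A (quasi-compact and locally of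
finite type), C an A-algebra that is an integral domain and the union of a directed family of
A-subalgebras C_i, and g : Spec C → X an A-morphism. Then for some index i there is an A-morphism
Spec C_i → X whose composite with the morphism Spec C → Spec C_i induced by the inclusion is g. The
published statement asserts that the map from the colimit of the sets of A-morphisms Spec C_i → X to
the set of A-morphisms Spec C → X is bijective; this row states only that it is surjective
(injectivity holds for every filtered colimit of A-algebras). -/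
theorem result
    {ι : Type u} (A C : Type u) [CommRing A] [CommRing C] [Algebra A C] [IsDomain C]
    (S : ι → Subalgebra A C) (hdir : Directed (· ≤ ·) S) (hcov : ∀ c : C, ∃ i, c ∈ S i)
    (X : Scheme.{u}) (f : X ⟶ Spec (CommRingCat.of A))
    [LocallyOfFiniteType f] [QuasiCompact f]
    (g : Spec (CommRingCat.of C) ⟶ X)
    (hg : g ≫ f = Spec.map (CommRingCat.ofHom (algebraMap A C))) :
    ∃ (i : ι) (g' : Spec (CommRingCat.of (S i)) ⟶ X),
      g' ≫ f = Spec.map (CommRingCat.ofHom (algebraMap A (S i))) ∧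
      Spec.map (CommRingCat.ofHom (S i).val.toRingHom) ≫ g' = g := by
  classical
  obtain ⟨i₁, -⟩ := hcov 0
  haveI : Nonempty ι := ⟨i₁⟩
  have hfin : ∀ s : Finset C, ∃ i, (↑s : Set C) ⊆ (S i : Set C) := fun s => by
    choose w hw using hcov
    obtain ⟨i, hi⟩ := hdir.finset_le (s.image w)
    exact ⟨i, fun x hx => hi _ (Finset.mem_image.2 ⟨x, hx, rfl⟩) (hw x)⟩
  have hub : ∀ (s : Finset ι) (t : Finset C), ∃ i, (∀ a ∈ s, S a ≤ S i) ∧ (↑t : Set C) ⊆ (S i : Set C) := fun s t => by
    obtain ⟨i₀, hi₀⟩ := hfin t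
    obtain ⟨i, hi⟩ := hdir.finset_le (insert i₀ s)
    exact ⟨i, fun a ha => hi a (Finset.mem_insert_of_mem ha), hi₀.trans (hi i₀ (Finset.mem_insert_self _ _))⟩
  -- finitely many basic pieces inside affines
  have hpiece : ∀ x : Spec (CommRingCat.of C), ∃ (c : C) (V : X.Opens), c ∉ x.asIdeal ∧ IsAffineOpen V ∧
      ∀ y : Spec (CommRingCat.of C), c ∉ y.asIdeal → g y ∈ V := fun x => by
    obtain ⟨_, ⟨V, hV, rfl⟩, hxV, -⟩ := X.isBasis_affineOpens.exists_subset_of_mem_open (Set.mem_univ (g x)) isOpen_univ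
    obtain ⟨_, ⟨c, rfl⟩, hxc, hcle⟩ := PrimeSpectrum.isTopologicalBasis_basic_opens.exists_subset_of_mem_open
      (show x ∈ g ⁻¹' (V : Set X) from hxV) (V.2.preimage g.continuous)
    exact ⟨c, V, hxc, hV, fun y hy => hcle hy⟩
  choose c V hxc hV hcV using hpiece
  have hspan : Ideal.span (Set.range c) = ⊤ := by
    by_contra hne
    obtain ⟨M, hM, hle⟩ := Ideal.exists_le_maximal _ hne
    exact hxc ⟨M, hM.isPrime⟩ (hle (Ideal.subset_span ⟨_, rfl⟩))
  rw [Ideal.eq_top_iff_one, Finsupp.mem_ideal_span_range_iff_exists_finsupp] at hspan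
  obtain ⟨w, hw⟩ := hspan
  let κ := {x // x ∈ w.support}
  -- one piece at a stage
  have hstep : ∀ k : κ, ∃ (i : ι) (hc : c k ∈ S i)
      (h : Spec (CommRingCat.of (Localization.Away (⟨c k, hc⟩ : S i))) ⟶ X),
      h ≫ f = eT (S i) hc ≫ strT (S i) ∧ (∀ z, h z ∈ V k) ∧
      qPiece (S i) hc ≫ h = Spec.map (CommRingCat.ofHom (algebraMap C (Localization.Away (c k)))) ≫ g := by
    intro k
    let a : Spec (CommRingCat.of (Localization.Away (c k.1))) ⟶ Spec (CommRingCat.of C) :=
      Spec.map (CommRingCat.ofHom (algebraMap C (Localization.Away (c k.1))))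
    have hr : Set.range (a ≫ g) ⊆ Set.range (V k.1).ι := by
      rintro _ ⟨z, rfl⟩
      rw [Scheme.Opens.range_ι, Scheme.Hom.comp_apply]
      refine hcV _ _ ?_
      have : a z ∈ Set.range (PrimeSpectrum.comap (algebraMap C (Localization.Away (c k.1)))) := ⟨z, rfl⟩
      rwa [PrimeSpectrum.localization_away_comap_range (Localization.Away (c k.1)) (c k.1)] at this
    let φ := Spec.preimage (IsOpenImmersion.lift (V k.1).ι (a ≫ g) hr ≫ (hV k.1).isoSpec.hom)
    let α := Spec.preimage ((hV k.1).isoSpec.inv ≫ (V k.1).ι ≫ f)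
    have hα : α.hom.FiniteType := by
      haveI : LocallyOfFiniteType (Spec.map α) := by rw [Spec.map_preimage]; infer_instance
      exact (HasRingHomProperty.Spec_iff (P := @LocallyOfFiniteType)).1 inferInstance
    have hαφ : α ≫ φ = CommRingCat.ofHom ((algebraMap C (Localization.Away (c k.1))).comp (algebraMap A C)) := by
      apply Spec.map_injective
      rw [Spec.map_comp, Spec.map_preimage, Spec.map_preimage, CommRingCat.ofHom_comp, Spec.map_comp, ← hg]
      simp only [Category.assoc, Iso.hom_inv_id_assoc, IsOpenImmersion.lift_fac_assoc, a]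
    letI : Algebra A Γ(X, V k.1) := α.hom.toAlgebra
    obtain ⟨gens, hgens⟩ := (show Algebra.FiniteType A Γ(X, V k.1) from hα).out
    choose n x hx using fun b : Γ(X, V k.1) => IsLocalization.Away.surj (c k.1) (φ.hom b)
    obtain ⟨i, hi⟩ := hfin (insert (c k.1) (gens.image x))
    have hc : c k.1 ∈ S i := hi (Finset.mem_coe.2 (Finset.mem_insert_self _ _))
    let m := mT (S i) hc
    have hm : ∀ t : S i, m (algebraMap _ _ t) = algebraMap C (Localization.Away (c k.1)) (t : C) := mT_alg (S i) hc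
    let φh : Γ(X, V k.1) →+* Localization.Away (c k.1) := φ.hom
    let R : Subalgebra A Γ(X, V k.1) :=
      { (m.range.comap φh).toSubsemiring with
        algebraMap_mem' := fun r => ⟨algebraMap _ _ (algebraMap A (S i) r), by
          rw [hm]; exact (ConcreteCategory.congr_hom hαφ r).symm⟩ }
    have hR : R = ⊤ := by
      rw [← top_le_iff, ← hgens, Algebra.adjoin_le_iff]
      intro b hb
      have hxb : x b ∈ S i := hi (Finset.mem_coe.2 (Finset.mem_insert_of_mem (Finset.mem_image.2 ⟨b, hb, rfl⟩)))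
      obtain ⟨u, hu⟩ := (IsLocalization.Away.algebraMap_pow_isUnit (S := Localization.Away (⟨c k.1, hc⟩ : S i)) (⟨c k.1, hc⟩ : S i) (n b))
      refine ⟨algebraMap _ _ (⟨x b, hxb⟩ : S i) * ↑u⁻¹, ?_⟩
      rw [map_mul, hm]
      show _ = φh b
      have hxb' : φh b * (algebraMap C (Localization.Away (c k.1)) (c k.1)) ^ n b =
          algebraMap C (Localization.Away (c k.1)) (x b) := hx b
      show algebraMap C (Localization.Away (c k.1)) (x b) * m ↑u⁻¹ = φh b
      rw [← hxb', mul_assoc]
      conv_rhs => rw [← mul_one (φh b)]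
      refine congrArg (φh b * ·) ?_
      have h1 : (algebraMap C (Localization.Away (c k.1)) (c k.1)) ^ n b = m ↑u := by
        rw [hu, map_pow, hm]
      rw [h1, ← map_mul, Units.mul_inv, map_one]
    have hmem : ∀ b, φ.hom b ∈ m.range := fun b => (hR ▸ Algebra.mem_top : b ∈ R)
    let eR := RingEquiv.ofBijective m.rangeRestrict
      ⟨fun s t e => injective_awayMap (S i) hc (congrArg Subtype.val e), m.rangeRestrict_surjective⟩
    let φ' : Γ(X, V k.1) ⟶ CommRingCat.of (Localization.Away (⟨c k.1, hc⟩ : S i)) :=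
      CommRingCat.ofHom (eR.symm.toRingHom.comp (φ.hom.codRestrict m.range hmem))
    have hφ' : φ' ≫ CommRingCat.ofHom m = φ := by
      refine CommRingCat.hom_ext (RingHom.ext fun b => ?_)
      exact congrArg Subtype.val (eR.apply_symm_apply ⟨φ.hom b, hmem b⟩)
    refine ⟨i, hc, Spec.map φ' ≫ (hV k.1).isoSpec.inv ≫ (V k.1).ι, ?_, fun z => ?_, ?_⟩
    · rw [Category.assoc, Category.assoc, ← Spec.map_preimage ((hV k.1).isoSpec.inv ≫ (V k.1).ι ≫ f),
        ← Spec.map_comp, ← Spec.map_comp]
      congr 1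
      refine CommRingCat.hom_ext (RingHom.ext fun r => injective_awayMap (S i) hc ?_)
      show m (φ'.hom (α.hom r)) = m (algebraMap (S i) _ (algebraMap A (S i) r))
      rw [hm, show m (φ'.hom (α.hom r)) = φ.hom (α.hom r) from ConcreteCategory.congr_hom hφ' (α.hom r)]
      exact ConcreteCategory.congr_hom hαφ r
    · rw [← Category.assoc, Scheme.Hom.comp_apply]
      exact Subtype.prop _
    · rw [← Spec.map_comp_assoc, show φ' ≫ CommRingCat.ofHom (mT (S i) hc) = φ from hφ', Spec.map_preimage]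
      simp only [Category.assoc, Iso.hom_inv_id_assoc, IsOpenImmersion.lift_fac, a]
  choose i hc h hhf hhV hhq using hstep
  -- where the pieces meet
  have hmeet : ∀ kl : κ × κ, ∃ (i₂ : ι) (s : Finset C), ∀ j, ∀ (hle : S (i kl.1) ≤ S j) (hl : c kl.2.1 ∈ S j), S i₂ ≤ S j → ↑s ⊆ (S j : Set C) →
      ∀ y : Spec (CommRingCat.of (Localization.Away (⟨c kl.1.1, hle (hc kl.1)⟩ : S j))),
        (⟨c kl.2.1, hl⟩ : S j) ∉ (eT (S j) (hle (hc kl.1)) y).asIdeal →
          h kl.1 (pPiece hle (hc kl.1) y) ∈ V kl.2.1 := by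
    rintro ⟨k, l⟩
    obtain ⟨i₂, hi₂, hc₂⟩ := hub {i k} {c l.1}
    have hle₂ : S (i k) ≤ S i₂ := hi₂ _ (Finset.mem_singleton_self _)
    have hl₂ : c l.1 ∈ S i₂ := hc₂ (by simp)
    let T := S i₂
    let O : (Spec (CommRingCat.of T)).Opens := eT T (hle₂ (hc k)) ''ᵁ ((pPiece hle₂ (hc k) ≫ h k) ⁻¹ᵁ (V l.1))
    obtain ⟨s, hs⟩ := exists_coeffs T (c := c k.1 * c l.1) (T.mul_mem (hle₂ (hc k)) hl₂) O (by
      intro z hz
      have hzk : c k.1 ∉ z.asIdeal := fun h' => hz (z.asIdeal.mul_mem_right _ h')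
      have hzl : c l.1 ∉ z.asIdeal := fun h' => hz (z.asIdeal.mul_mem_left _ h')
      obtain ⟨z', hz'⟩ : z ∈ Set.range (PrimeSpectrum.comap (algebraMap C (Localization.Away (c k.1)))) := by
        rw [PrimeSpectrum.localization_away_comap_range (Localization.Away (c k.1)) (c k.1)]; exact hzk
      refine ⟨qPiece T (hle₂ (hc k)) z', ?_, ?_⟩
      · show (qPiece T (hle₂ (hc k)) ≫ pPiece hle₂ (hc k) ≫ h k) z' ∈ V l.1
        rw [← Category.assoc, qPiece_pPiece, hhq]
        subst hz'
        exact hcV l.1 _ hzl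
      · show (qPiece T (hle₂ (hc k)) ≫ eT T (hle₂ (hc k))) z' = _
        rw [qPiece_eT]
        exact congrArg (qT T) hz')
    refine ⟨i₂, s, fun j hle hlj h2j hsj y hy => ?_⟩
    have hmain := hs (S j) h2j hsj (eT (S j) (hle (hc k)) y) (by
      intro hh
      rcases (eT (S j) (hle (hc k)) y).isPrime.mem_or_mem
        (show (⟨c k.1, hle (hc k)⟩ : S j) * ⟨c l.1, hlj⟩ ∈ _ from hh) with h' | h'
      · exact ((eT_range (S j) _ _).1 ⟨y, rfl⟩) h'
      · exact hy h')
    obtain ⟨w', hw', hw''⟩ := hmain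
    have : w' = pPiece h2j (hle₂ (hc k)) y := (eT T (hle₂ (hc k))).isOpenEmbedding.injective (by
      show eT T (hle₂ (hc k)) w' = (pPiece h2j (hle₂ (hc k)) ≫ eT T (hle₂ (hc k))) y
      rw [pPiece_eT]
      exact hw'')
    rw [this] at hw'
    have hw2 : (pPiece h2j (hle₂ (hc k)) ≫ pPiece hle₂ (hc k) ≫ h k) y ∈ V l.1 := hw'
    rw [← Category.assoc, pPiece_comp] at hw2
    exact hw2
  choose i₂ s hs using hmeet
  obtain ⟨j, hj, hjt⟩ := hub (Finset.univ.image i ∪ Finset.univ.image i₂)
    ((Finset.univ.biUnion s) ∪ w.support.image c ∪ w.support.image (fun x => w x))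
  have hle : ∀ k, S (i k) ≤ S j := fun k => hj _ (Finset.mem_union_left _ (Finset.mem_image.2 ⟨k, Finset.mem_univ k, rfl⟩))
  have hle' : ∀ kl, S (i₂ kl) ≤ S j := fun kl => hj _ (Finset.mem_union_right _ (Finset.mem_image.2 ⟨kl, Finset.mem_univ kl, rfl⟩))
  have hspanj : Ideal.span (Set.range fun k : κ => (⟨c k.1, hle k (hc k)⟩ : S j)) = ⊤ := by
    rw [Ideal.eq_top_iff_one]
    have hwj : ∀ x ∈ w.support, w x ∈ S j := fun x hx => hjt (by
      simp only [Finset.coe_union, Finset.coe_image, Set.mem_union, Set.mem_image]; exact Or.inr ⟨x, hx, rfl⟩)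
    have : (1 : S j) = ∑ k : κ, (⟨w k.1, hwj k.1 k.2⟩ : S j) * ⟨c k.1, hle k (hc k)⟩ := by
      refine Subtype.ext ?_
      rw [AddSubmonoidClass.coe_finset_sum]
      show (1 : C) = ∑ k : κ, w k.1 * c k.1
      rw [Finset.sum_coe_sort w.support (fun x => w x * c x)]
      exact hw.symm
    rw [this]
    exact sum_mem fun k _ => Ideal.mul_mem_left _ _ (Ideal.subset_span ⟨k, rfl⟩)
  let 𝒰 := (Scheme.affineOpenCoverOfSpanRangeEqTop (R := CommRingCat.of (S j)) _ hspanj).openCover
  let hk : ∀ k : κ, Spec (CommRingCat.of (Localization.Away (⟨c k.1, hle k (hc k)⟩ : S j))) ⟶ X :=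
    fun k => pPiece (hle k) (hc k) ≫ h k
  have hkf : ∀ k, hk k ≫ f = eT (S j) (hle k (hc k)) ≫ strT (S j) := fun k => by
    simp only [hk, Category.assoc, hhf]
    rw [← Category.assoc, pPiece_eT, Category.assoc]
    congr 1
    rw [← Spec.map_comp]; rfl
  have hglue : ∀ k l : κ, pullback.fst (eT (S j) (hle k (hc k))) (eT (S j) (hle l (hc l))) ≫ hk k =
      pullback.snd _ _ ≫ hk l := by
    intro k l
    have hsk : ↑(s (k, l)) ⊆ (S j : Set C) := fun x hx => hjt (by
      simp only [Finset.coe_union, Finset.coe_biUnion, Set.mem_union, Set.mem_iUnion]; exact Or.inl (Or.inl ⟨(k, l), by simp, hx⟩))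
    have hr : ∀ m : pullback (eT (S j) (hle k (hc k))) (eT (S j) (hle l (hc l))) ⟶ X,
        (∀ z, m z ∈ V l.1) → Set.range m ⊆ Set.range (V l.1).ι := fun m hm => by
      rintro _ ⟨z, rfl⟩; rw [Scheme.Opens.range_ι]; exact hm z
    have h1 : ∀ z, (pullback.fst (eT (S j) (hle k (hc k))) (eT (S j) (hle l (hc l))) ≫ hk k) z ∈ V l.1 := fun z => by
      rw [Scheme.Hom.comp_apply]
      refine hs (k, l) j (hle k) (hle l (hc l)) (hle' _) hsk _ ?_
      rw [← Scheme.Hom.comp_apply, pullback.condition, Scheme.Hom.comp_apply]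
      exact (eT_range (S j) _ _).1 ⟨_, rfl⟩
    have h2 : ∀ z, (pullback.snd (eT (S j) (hle k (hc k))) (eT (S j) (hle l (hc l))) ≫ hk l) z ∈ V l.1 := fun z => by
      rw [Scheme.Hom.comp_apply]; exact hhV l _
    haveI : IsSchemeTheoreticallyDominant (qT (S j)) := dominant_of_injective _ Subtype.val_injective
    haveI : IsAffine (V l.1).toScheme := hV l.1
    haveI : QuasiCompact (qT (S j)) := inferInstance
    let e₀ := pullback.fst (eT (S j) (hle k (hc k))) (eT (S j) (hle l (hc l))) ≫ eT (S j) (hle k (hc k))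
    let d := pullback.snd (qT (S j)) e₀
    have hkq : ∀ (k : κ) {W : Scheme.{u}} (a : W ⟶ Spec (CommRingCat.of C))
        (b : W ⟶ Spec (CommRingCat.of (Localization.Away (⟨c k.1, hle k (hc k)⟩ : S j)))),
        a ≫ qT (S j) = b ≫ eT (S j) (hle k (hc k)) → b ≫ hk k = a ≫ g := by
      intro k W a b hab
      have hra : Set.range a ⊆ Set.range (Spec.map (CommRingCat.ofHom (algebraMap C (Localization.Away (c k.1))))) := by
        rintro _ ⟨z, rfl⟩
        show a z ∈ Set.range (PrimeSpectrum.comap (algebraMap C (Localization.Away (c k.1))))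
        rw [PrimeSpectrum.localization_away_comap_range (Localization.Away (c k.1)) (c k.1)]
        have := (eT_range (S j) (hle k (hc k)) _).1 ⟨b z, rfl⟩
        rw [← Scheme.Hom.comp_apply, ← hab, Scheme.Hom.comp_apply] at this
        exact this
      haveI : IsOpenImmersion (eT (S j) (hle k (hc k))) :=
        IsOpenImmersion.of_isLocalization (⟨c k.1, hle k (hc k)⟩ : S j)
      haveI : IsOpenImmersion (Spec.map (CommRingCat.ofHom (algebraMap C (Localization.Away (c k.1))))) :=
        IsOpenImmersion.of_isLocalization (c k.1)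
      have hb : b = IsOpenImmersion.lift _ a hra ≫ qPiece (S j) (hle k (hc k)) := by
        rw [← cancel_mono (eT (S j) (hle k (hc k))), Category.assoc, qPiece_eT, IsOpenImmersion.lift_fac_assoc, hab]
      rw [hb, Category.assoc]
      simp only [hk]
      rw [← Category.assoc (qPiece _ _), qPiece_pPiece, hhq, IsOpenImmersion.lift_fac_assoc]
    haveI : IsOpenImmersion (eT (S j) (hle k (hc k))) :=
      IsOpenImmersion.of_isLocalization (⟨c k.1, hle k (hc k)⟩ : S j)
    haveI : IsOpenImmersion (eT (S j) (hle l (hc l))) :=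
      IsOpenImmersion.of_isLocalization (⟨c l.1, hle l (hc l)⟩ : S j)
    haveI : IsSchemeTheoreticallyDominant d := inferInstance
    have := S2299.result d (terminal.from (V l.1).toScheme)
      (IsOpenImmersion.lift (V l.1).ι _ (hr _ h1)) (IsOpenImmersion.lift (V l.1).ι _ (hr _ h2))
      (terminal.hom_ext _ _) (by
        have e1 := hkq k (pullback.fst (qT (S j)) e₀) (d ≫ pullback.fst _ _)
          (by rw [pullback.condition]; simp only [d, e₀, Category.assoc])
        have e2 := hkq l (pullback.fst (qT (S j)) e₀) (d ≫ pullback.snd _ _)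
          (by rw [pullback.condition]; simp only [d, e₀, Category.assoc, pullback.condition])
        rw [← cancel_mono (V l.1).ι, Category.assoc, Category.assoc, IsOpenImmersion.lift_fac, IsOpenImmersion.lift_fac]
        exact (Category.assoc _ _ _).symm.trans (e1.trans (e2.symm.trans (Category.assoc _ _ _))))
    simpa only [IsOpenImmersion.lift_fac] using congrArg (· ≫ (V l.1).ι) this
  let g' : Spec (CommRingCat.of (S j)) ⟶ X := 𝒰.glueMorphisms hk hglue
  refine ⟨j, g', 𝒰.hom_ext _ _ fun k => ?_, ?_⟩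
  · rw [← Category.assoc, show 𝒰.f k ≫ g' = hk k from Scheme.Cover.ι_glueMorphisms 𝒰 hk hglue k]
    exact hkf k
  · have hspanC : Ideal.span (Set.range fun k : κ => c k.1) = ⊤ := by
      have := congrArg (Ideal.map (S j).val.toRingHom) hspanj
      rw [Ideal.map_span, Ideal.map_top, ← Set.range_comp] at this
      exact this
    refine (Scheme.affineOpenCoverOfSpanRangeEqTop (R := CommRingCat.of C) _ hspanC).openCover.hom_ext _ _ fun k => ?_
    show Spec.map (CommRingCat.ofHom (algebraMap C (Localization.Away (c k.1)))) ≫ qT (S j) ≫ g' = _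
    rw [← Category.assoc, ← qPiece_eT (S j) (hle k (hc k)), Category.assoc]
    rw [show eT (S j) (hle k (hc k)) ≫ g' = hk k from Scheme.Cover.ι_glueMorphisms 𝒰 hk hglue k]
    simp only [hk]
    rw [← Category.assoc, qPiece_pPiece]
    exact hhq k

end Groth.Agent.S16219
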