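import Groth.Statements.S16220
import Mathlib
set_option backward.isDefEq.respectTransparency false
set_option backward.isDefEq.respectTransparency.types false

set_option autoImplicit false
universe u v
open Disp

namespace Groth.Agent.S16220

/-- Let p be a prime and k a perfect ring of characteristic p, so that the Frobenius σ of W = W(k) is
bijective, W has no p-torsion and W/p^n W = W_n(k) (the ideal p^n W is the kernel of the truncation
to length n). Let n ≥ 2 and let M be a truncated Dieudonné module of level n over k: a W-module on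
which W acts through W/p^n W, finitely generated and projective over W/p^n W, with a σ-semilinear F
: M → M and a σ⁻¹-semilinear V : M → M such that FV = VF = p. Then on M/pM the kernel of F is the
image of V and the kernel of V is the image of F; stated inside M: the preimage of pM under F is VM
+ pM, and the preimage of pM under V is FM + pM. -/
theorem result (p : ℕ) [Fact p.Prime] (k : Type u) [CommRing k]
    [CharP k p] [PerfectRing k p] (n : ℕ) (hn : 2 ≤ n)
    (M : Type v) [AddCommGroup M] [Module (WittVector p k) M]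
    [Module (WittVector p k ⧸ Ideal.span {(p : WittVector p k) ^ n}) M] [IsScalarTower (WittVector p k) (WittVector p k ⧸ Ideal.span {(p : WittVector p k) ^ n}) M]
    [Module.Finite (WittVector p k ⧸ Ideal.span {(p : WittVector p k) ^ n}) M] [Module.Projective (WittVector p k ⧸ Ideal.span {(p : WittVector p k) ^ n}) M]
    (F : M →ₛₗ[(WittVector.frobenius : WittVector p k →+* WittVector p k)] M)
    (V : M →ₛₗ[((WittVector.frobeniusEquiv p k).symm : WittVector p k →+* WittVector p k)] M)
    (hFV : ∀ m : M, F (V m) = (p : WittVector p k) • m) (hVF : ∀ m : M, V (F m) = (p : WittVector p k) • m) :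
    (Ideal.span {(p : WittVector p k)} • (⊤ : Submodule (WittVector p k) M)).comap F =
        Submodule.span (WittVector p k) (Set.range V) ⊔ Ideal.span {(p : WittVector p k)} • (⊤ : Submodule (WittVector p k) M) ∧
      (Ideal.span {(p : WittVector p k)} • (⊤ : Submodule (WittVector p k) M)).comap V =
        Submodule.span (WittVector p k) (Set.range F) ⊔ Ideal.span {(p : WittVector p k)} • (⊤ : Submodule (WittVector p k) M) := by
  classical
  obtain ⟨m, rfl⟩ : ∃ m, n = m + 2 := ⟨n - 2, by omega⟩
  let W := WittVector p k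
  let Wn := W ⧸ Ideal.span {(p : W) ^ (m + 2)}
  have hWn : ∀ a : Wn, (p : Wn) * a = 0 → ∃ b : Wn, a = (p : Wn) ^ (m + 1) * b := by
    intro a ha
    obtain ⟨a, rfl⟩ := Ideal.Quotient.mk_surjective a
    rw [← map_natCast (Ideal.Quotient.mk (Ideal.span {(p : W) ^ (m + 2)})), ← map_mul,
      Ideal.Quotient.eq_zero_iff_mem, Ideal.mem_span_singleton'] at ha
    obtain ⟨c, hc⟩ := ha
    refine ⟨Ideal.Quotient.mk _ c, ?_⟩
    rw [← map_natCast (Ideal.Quotient.mk (Ideal.span {(p : W) ^ (m + 2)})), ← map_pow, ← map_mul]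
    congr 1
    have hp0 : IsLeftRegular (p : W) := fun x y h => (WittVector.frobenius_bijective p k).injective
      (WittVector.verschiebung_injective p k (by
        change (p : W) * x = (p : W) * y at h
        rw [WittVector.verschiebung_frobenius, WittVector.verschiebung_frobenius, _root_.mul_comm x, _root_.mul_comm y]
        exact h))
    exact hp0 (by change (p : W) * a = (p : W) * _; rw [← hc]; ring)
  have hann : ∀ x : M, (p : W) • x = 0 → ∃ y : M, x = (p : W) • y := by
    intro x hx
    obtain ⟨s, hs⟩ := (Module.projective_def.mp (inferInstance : Module.Projective Wn M))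
    have hx' : (p : Wn) • x = 0 := by rwa [Nat.cast_smul_eq_nsmul, ← Nat.cast_smul_eq_nsmul W]
    have hc : ∀ i, (p : Wn) * s x i = 0 := fun i => by
      rw [← smul_eq_mul, ← Finsupp.smul_apply, ← map_smul, hx', map_zero, Finsupp.zero_apply]
    choose b hb using fun i => hWn _ (hc i)
    refine ⟨(p : W) ^ m • ∑ i ∈ (s x).support, b i • i, ?_⟩
    have hsum : x = ∑ i ∈ (s x).support, ((p : Wn) ^ (m + 1) * b i) • i := by
      refine (hs x).symm.trans (Finset.sum_congr rfl fun i _ => ?_)
      change s x i • id i = _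
      rw [hb i, id_eq]
    have hcast : ∀ z : M, (p : Wn) ^ (m + 1) • z = (p : W) ^ (m + 1) • z := fun z => by
      rw [← map_natCast (algebraMap W Wn), ← map_pow, algebraMap_smul]
    rw [← mul_smul, ← pow_succ', ← hcast, Finset.smul_sum]
    refine hsum.trans (Finset.sum_congr rfl fun i _ => ?_)
    rw [mul_smul]
  have hp : ∀ z : M, z ∈ Ideal.span {(p : W)} • (⊤ : Submodule W M) ↔ ∃ y : M, z = (p : W) • y := by
    intro z
    simp [Submodule.ideal_span_singleton_smul, Submodule.mem_smul_pointwise_iff_exists,
      eq_comm]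
  have hσ : ∀ c : W, WittVector.frobenius ((p : W)) = (p : W) := fun _ => map_natCast _ p
  have hσ' : ((WittVector.frobeniusEquiv p k).symm : W →+* W) (p : W) = (p : W) := map_natCast _ p
  refine ⟨le_antisymm ?_ ?_, le_antisymm ?_ ?_⟩
  · intro x hx
    rw [Submodule.mem_comap, hp] at hx
    obtain ⟨y, hy⟩ := hx
    have h1 : F (x - V y) = 0 := by rw [map_sub, hy, hFV, sub_self]
    have h2 : (p : W) • (x - V y) = 0 := by rw [← hVF, h1, map_zero]
    obtain ⟨z, hz⟩ := hann _ h2
    exact Submodule.mem_sup.mpr ⟨V y, Submodule.subset_span ⟨y, rfl⟩, _, (hp _).mpr ⟨z, hz⟩, add_sub_cancel _ _⟩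
  · refine sup_le (Submodule.span_le.mpr ?_) ?_
    · rintro _ ⟨y, rfl⟩
      exact (hp _).mpr ⟨y, hFV y⟩
    · intro x hx
      obtain ⟨y, rfl⟩ := (hp x).mp hx
      exact (hp _).mpr ⟨F y, by rw [LinearMap.map_smulₛₗ, hσ 0]⟩
  · intro x hx
    rw [Submodule.mem_comap, hp] at hx
    obtain ⟨y, hy⟩ := hx
    have h1 : V (x - F y) = 0 := by rw [map_sub, hy, hVF, sub_self]
    have h2 : (p : W) • (x - F y) = 0 := by rw [← hFV, h1, map_zero]
    obtain ⟨z, hz⟩ := hann _ h2
    exact Submodule.mem_sup.mpr ⟨F y, Submodule.subset_span ⟨y, rfl⟩, _, (hp _).mpr ⟨z, hz⟩, add_sub_cancel _ _⟩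
  · refine sup_le (Submodule.span_le.mpr ?_) ?_
    · rintro _ ⟨y, rfl⟩
      exact (hp _).mpr ⟨y, hVF y⟩
    · intro x hx
      obtain ⟨y, rfl⟩ := (hp x).mp hx
      exact (hp _).mpr ⟨V y, by rw [LinearMap.map_smulₛₗ, hσ']⟩

end Groth.Agent.S16220
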