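import Groth.Statements.S16223
import Groth.Agent.WittDesc.Eff

set_option autoImplicit false
open CategoryTheory Opposite
universe u
set_option backward.isDefEq.respectTransparency false
set_option linter.style.haveILetI false
open CAlg
open Groth.Agent.WittDesc

namespace Groth.Agent.S16223

/-- Let p be a prime, n a natural number, and R → R' a faithfully flat homomorphism of commutative rings
in which p is nilpotent; write W_n for truncated Witt vectors of length n. A descent datum of
W_n(R')-modules relative to R → R' is a W_n(R')-module M' with, for every ring T and every pair of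
maps R' ⇉ T agreeing on R, an isomorphism between the two base changes of M' to W_n(T), natural in T
and satisfying the cocycle condition (equivalently an isomorphism over W_n(R' ⊗_R R') with the
cocycle condition over W_n(R' ⊗_R R' ⊗_R R')); base change W_n(R') ⊗_{W_n(R)} M of a W_n(R)-module M
carries the canonical such datum. Then for finitely generated projective W_n(R)-modules M and N, the
map sending a W_n(R)-linear map M → N to the induced morphism of canonical descent data is bijective
(the functor to descent data is fully faithful on such modules). -/
theorem result (p : ℕ) [Fact p.Prime] (n : ℕ)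
    (R R' : Type u) [CommRing R] [CommRing R'] [Algebra R R'] [Module.FaithfullyFlat R R']
    (hp : IsNilpotent (p : R))
    (M N : ModuleCat.{u} (TruncatedWittVector p n R))
    [Module.Finite (TruncatedWittVector p n R) M] [Module.Projective (TruncatedWittVector p n R) M]
    [Module.Finite (TruncatedWittVector p n R) N] [Module.Projective (TruncatedWittVector p n R) N] :
    Function.Bijective (fun φ : M ⟶ N =>
      ((W4c3truncdispsmooth.wittModPF.{u} p n).toDescentData (fun _ : PUnit.{u + 1} => (CommRingCat.ofHom (algebraMap R R')).op)).map φ) := by
  refine DD.bijective_map_of_eq (G := W4c3truncdispsmooth.wittTrunc.{u} p n) (W4c3truncdispsmooth.wittModPF.{u} p n)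
    rfl M N ?_ ?_ (truncMap_injective p n (FaithfulSMul.algebraMap_injective R R')) ?_
  · intro M' h
    obtain rfl : M = M' := eq_of_heq h
    haveI : Module.Finite (DD.WR (W4c3truncdispsmooth.wittTrunc.{u} p n) (op (CommRingCat.of R))) M :=
      ‹Module.Finite (TruncatedWittVector p n R) M›
    haveI : Module.Projective (DD.WR (W4c3truncdispsmooth.wittTrunc.{u} p n) (op (CommRingCat.of R))) M :=
      ‹Module.Projective (TruncatedWittVector p n R) M›
    exact DD.exists_frame (G := W4c3truncdispsmooth.wittTrunc.{u} p n) (A := op (CommRingCat.of R)) M
  · intro N' h
    obtain rfl : N = N' := eq_of_heq h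
    haveI : Module.Finite (DD.WR (W4c3truncdispsmooth.wittTrunc.{u} p n) (op (CommRingCat.of R))) N :=
      ‹Module.Finite (TruncatedWittVector p n R) N›
    haveI : Module.Projective (DD.WR (W4c3truncdispsmooth.wittTrunc.{u} p n) (op (CommRingCat.of R))) N :=
      ‹Module.Projective (TruncatedWittVector p n R) N›
    exact DD.exists_frame (G := W4c3truncdispsmooth.wittTrunc.{u} p n) (A := op (CommRingCat.of R)) N
  · intro x hx
    obtain ⟨G₀, hG₀⟩ := exists_truncMap_eq (p := p) (n := n) (R := R) (S := R')
      (G := Matrix.of fun (_ _ : Unit) => x) (Matrix.ext fun _ _ => hx)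
    exact ⟨G₀ () (), congrFun (congrFun hG₀ ()) ()⟩

end Groth.Agent.S16223
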