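import Groth.Statements.S16225
-- import your own Groth.Agent.* helpers here

set_option autoImplicit false
open scoped TensorProduct
universe u v
open CAlg

namespace Groth.Agent.S16225

/-- Let p be a prime, n a natural number and R → R' a faithfully flat homomorphism of commutative rings
in which p is nilpotent. Regard W_n(R') and W_n(R' ⊗_R R') as W_n(R)-algebras through the
componentwise maps induced by R → R' and R → R' ⊗_R R', and let ψ₁, ψ₂ : W_n(R') → W_n(R' ⊗_R R') be
the componentwise maps induced by the two inclusions of R' (these are W_n(R)-algebra maps). Then for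
every flat W_n(R)-module M the sequence 0 → M → M ⊗_{W_n(R)} W_n(R') ⇉ M ⊗_{W_n(R)} W_n(R' ⊗_R R')
is exact: m ↦ m ⊗ 1 is injective and its image is the equalizer of id ⊗ ψ₁ and id ⊗ ψ₂. (This is the
beginning, in degrees 0 and 1, of a complex continued by the higher tensor powers of R', which the
published proof asserts to be exact throughout; W_n(R) → W_n(R') is not flat in general, so this is
not faithfully flat descent.) -/
theorem result (p : ℕ) [Fact p.Prime] (n : ℕ)
    (R R' : Type u) [CommRing R] [CommRing R'] [Algebra R R'] [Module.FaithfullyFlat R R']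
    (hp : IsNilpotent (p : R))
    [Algebra (TruncatedWittVector p n R) (TruncatedWittVector p n R')]
    (h₁ : algebraMap (TruncatedWittVector p n R) (TruncatedWittVector p n R') = WittGrp.truncMap p n (algebraMap R R'))
    [Algebra (TruncatedWittVector p n R) (TruncatedWittVector p n (TensorProduct R R' R'))]
    (h₂ : algebraMap (TruncatedWittVector p n R) (TruncatedWittVector p n (TensorProduct R R' R')) =
      WittGrp.truncMap p n (algebraMap R (TensorProduct R R' R')))
    (ψ₁ ψ₂ : TruncatedWittVector p n R' →ₐ[TruncatedWittVector p n R] TruncatedWittVector p n (TensorProduct R R' R'))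
    (hψ₁ : (ψ₁ : TruncatedWittVector p n R' →+* TruncatedWittVector p n (TensorProduct R R' R')) =
      WittGrp.truncMap p n (Algebra.TensorProduct.includeLeftRingHom : R' →+* TensorProduct R R' R'))
    (hψ₂ : (ψ₂ : TruncatedWittVector p n R' →+* TruncatedWittVector p n (TensorProduct R R' R')) =
      WittGrp.truncMap p n ((Algebra.TensorProduct.includeRight : R' →ₐ[R] TensorProduct R R' R') : R' →+* TensorProduct R R' R'))
    (M : Type v) [AddCommGroup M] [Module (TruncatedWittVector p n R) M] [Module.Flat (TruncatedWittVector p n R) M] :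
    Function.Injective (fun m : M => m ⊗ₜ[TruncatedWittVector p n R] (1 : TruncatedWittVector p n R')) ∧
      ∀ x : M ⊗[TruncatedWittVector p n R] TruncatedWittVector p n R',
        LinearMap.lTensor M ψ₁.toLinearMap x = LinearMap.lTensor M ψ₂.toLinearMap x →
          x ∈ Set.range (fun m : M => m ⊗ₜ[TruncatedWittVector p n R] (1 : TruncatedWittVector p n R')) := by
  let W := TruncatedWittVector p n R
  let W' := TruncatedWittVector p n R'
  let f : W →ₗ[W] W' := Algebra.linearMap W W'
  have hR : ∀ x : R', x ⊗ₜ[R] (1 : R') = 1 ⊗ₜ[R] x → ∃ r, algebraMap R R' r = x := by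
    intro x hx
    let N := LinearMap.range (Algebra.linearMap R R')
    have h1 : (1 : R') ⊗ₜ[R] N.mkQ x = 0 := by
      have h := congrArg (N.mkQ.lTensor R') hx
      rw [LinearMap.lTensor_tmul, LinearMap.lTensor_tmul,
        show N.mkQ (1 : R') = 0 from (Submodule.Quotient.mk_eq_zero N).2 ⟨1, by simp⟩, TensorProduct.tmul_zero] at h
      exact h.symm
    have h2 : N.mkQ x = 0 := Module.FaithfullyFlat.tensorProduct_mk_injective (A := R) (B := R') _
      (h1.trans (TensorProduct.tmul_zero _ _).symm)
    exact (Submodule.Quotient.mk_eq_zero N).1 h2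
  have hfi : Function.Injective f := by
    intro a b hab
    refine TruncatedWittVector.ext fun i => ?_
    have hab' : WittGrp.truncMap p n (algebraMap R R') a = WittGrp.truncMap p n (algebraMap R R') b := by
      rw [← h₁]; exact hab
    have h := congrArg (fun t => TruncatedWittVector.coeff i t) hab'
    simp only [WittGrp.truncMap, RingHom.coe_mk, MonoidHom.coe_mk, OneHom.coe_mk, WittGrp.truncMapFun,
      TruncatedWittVector.coeff_mk] at h
    exact FaithfulSMul.algebraMap_injective R R' h
  have hex : LinearMap.eqLocus ψ₁.toLinearMap ψ₂.toLinearMap = LinearMap.range f := by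
    refine le_antisymm (fun y hy => ?_) ?_
    · have hy' : ψ₁ y = ψ₂ y := hy
      have h : ∀ i, ∃ r, algebraMap R R' r = y.coeff i := fun i => hR _ (by
        have h := congrArg (fun t => TruncatedWittVector.coeff i t) hy'
        rw [show ψ₁ y = WittGrp.truncMap p n _ y from congrArg (fun m => m y) hψ₁,
          show ψ₂ y = WittGrp.truncMap p n _ y from congrArg (fun m => m y) hψ₂] at h
        simp only [WittGrp.truncMap, RingHom.coe_mk, MonoidHom.coe_mk, OneHom.coe_mk, WittGrp.truncMapFun,
          TruncatedWittVector.coeff_mk] at h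
        exact h)
      choose r hr using h
      refine ⟨TruncatedWittVector.mk p r, ?_⟩
      show algebraMap W W' _ = y
      rw [h₁]
      refine TruncatedWittVector.ext fun i => ?_
      simp [WittGrp.truncMap, WittGrp.truncMapFun, hr]
    · rintro _ ⟨a, rfl⟩
      show ψ₁ (algebraMap W W' a) = ψ₂ (algebraMap W W' a)
      rw [AlgHom.commutes, AlgHom.commutes]
  refine ⟨?_, fun x hx => ?_⟩
  · have h := (Module.Flat.lTensor_preserves_injective_linearMap (M := M) f hfi).comp (TensorProduct.rid W M).symm.injective
    intro a b hab
    refine h ?_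
    simpa [f] using hab
  · have hx' : x ∈ LinearMap.eqLocus (TensorProduct.AlgebraTensorModule.lTensor W M ψ₁.toLinearMap)
        (TensorProduct.AlgebraTensorModule.lTensor W M ψ₂.toLinearMap) := hx
    rw [Module.Flat.eqLocus_lTensor_eq] at hx'
    obtain ⟨z, rfl⟩ := hx'
    clear hx
    induction z using TensorProduct.induction_on with
    | zero => exact ⟨0, by simp⟩
    | tmul m y =>
      obtain ⟨a, ha⟩ := LinearMap.mem_range.1 ((SetLike.ext_iff.1 hex y.1).1 y.2)
      refine ⟨a • m, ?_⟩
      show (a • m) ⊗ₜ[W] (1 : W') = m ⊗ₜ[W] (y : W')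
      rw [TensorProduct.smul_tmul, ← ha, Algebra.linearMap_apply, Algebra.algebraMap_eq_smul_one]
    | add u v hu hv =>
      obtain ⟨a, ha⟩ := hu
      obtain ⟨b, hb⟩ := hv
      exact ⟨a + b, by simp only [map_add, TensorProduct.add_tmul, ← ha, ← hb]⟩

end Groth.Agent.S16225
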