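import Groth.Statements.S1623
import Groth.Agent.BlowExistsLib.Proper
import Groth.Agent.CohBase.MV
import Groth.Agent.CohBase.Affine
import Groth.Agent.RegLocal.Basic

set_option autoImplicit false
universe u
open CategoryTheory CategoryTheory.Limits AlgebraicGeometry
open Resolve

namespace Groth.Agent.S1623

open TopologicalSpace

/-- Two generators of the maximal ideal of the blown-up point. -/
theorem exists_two_generators (A : Type u) [CommRing A] [IsRegularLocalRing A] (hA : ringKrullDim A = 2) :
    ∃ x : Fin 2 → A, Ideal.span (Set.range x) = IsLocalRing.maximalIdeal A := by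
  obtain ⟨x, hx⟩ := RegLocal.exists_generators A
  have h2 : (IsLocalRing.maximalIdeal A).spanFinrank = 2 := by
    have h := IsRegularLocalRing.spanFinrank_maximalIdeal (R := A)
    rw [hA] at h
    exact_mod_cast h
  exact ⟨x ∘ Fin.cast h2.symm, by rw [Set.range_comp, show Set.range (Fin.cast h2.symm) = Set.univ from Function.Surjective.range_eq (finCongr h2.symm).surjective, Set.image_univ, hx]⟩


/-- Let A be a regular local ring of dimension two and b : X → Spec A a blowing up in the maximal ideal.
For every quasi-coherent O_X-module F and every p ≥ 2, H^p(X, F) = 0. -/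
theorem result (A : Type u) [CommRing A] [IsRegularLocalRing A] (hA : ringKrullDim A = 2)
    (X : Scheme.{u}) (b : X ⟶ Spec (CommRingCat.of A)) (hb : BlowUp.IsBlowUp b (Curv2.idealSheaf A (IsLocalRing.maximalIdeal A)))
    (F : X.Modules) (hF : Coh.IsQCoh F) (p : ℕ) (hp : 2 ≤ p) : Subsingleton (Coh.HH X F p) := by
  obtain ⟨x, hx⟩ := exists_two_generators A hA
  let S := Spec (CommRingCat.of A)
  let U : S.affineOpens := ⟨⊤, isAffineOpen_top _⟩
  let si : A →+* Γ(S, U.1) := (Scheme.ΓSpecIso (CommRingCat.of A)).inv.hom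
  let 𝓘 := Curv2.idealSheaf A (IsLocalRing.maximalIdeal A)
  have hI : 𝓘.ideal U = Ideal.span (Set.range (si ∘ x)) := by
    rw [Set.range_comp, ← Ideal.map_span, hx]
    show (Scheme.IdealSheafData.ofIdealTop _).ideal _ = _
    rw [Scheme.IdealSheafData.ofIdealTop_ideal]
    simp only [U, homOfLE_refl, op_id, CategoryTheory.Functor.map_id, CommRingCat.hom_id, Ideal.map_id]
    rfl
  have hmem : ∀ i, si (x i) ∈ 𝓘.ideal U := fun i => hI ▸ Ideal.subset_span ⟨i, rfl⟩
  haveI : X.IsSeparated := by
    haveI : IsSeparated b := by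
      haveI := BlowExistsLib.isProper_of_FG hb fun V => by
        haveI : IsNoetherianRing Γ(S, V.1) := IsLocallyNoetherian.component_noetherian V
        exact (IsNoetherian.noetherian (𝓘.ideal V) : (𝓘.ideal V).FG)
      infer_instance
    exact ⟨by rw [← terminal.comp_from b]; infer_instance⟩
  have hcov : (⨆ i : Fin 2, BlowChartLib.chartOpen 𝓘 U (si (x i)) b) = ⊤ := by
    classical
    rw [eq_top_iff, ← Scheme.Hom.preimage_top b, show (⊤ : S.Opens) = U.1 from rfl,
      ← BlowExistsLib.iSup_chartOpen hb (U := U) (Finset.univ.image (si ∘ x)) (by rw [Finset.coe_image, Finset.coe_univ, Set.image_univ, hI])]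
    refine iSup_le fun a => ?_
    obtain ⟨i, -, hi⟩ := Finset.mem_image.1 a.2
    rw [← hi]
    exact le_iSup (fun i : Fin 2 => BlowChartLib.chartOpen 𝓘 U (si (x i)) b) i
  refine CohBase.subsingleton_HH F p ?_
  rw [← hcov]
  exact CohBase.subsingleton_HU_iUnion (Coh.toAb F) (fun W => IsAffineOpen W)
    (fun hV hW => hV.inf hW) (fun hW n => CohBase.affine_vanishing F hW n) 2 _
    (fun i => BlowExistsLib.isAffineOpen_chartOpen hb (hmem i)) p hp

end Groth.Agent.S1623
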