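import Groth.Statements.S16230
import Groth.Agent.MorseLib.Morse
-- import your own Groth.Agent.* helpers here

set_option autoImplicit false
universe u
open VanCyc

namespace Groth.Agent.S16230

/-- Let A be a local ring, n and m natural numbers with 2 ≤ m, q an n × n coefficient table over A whose
quadratic form Q(x) = Σ_{i≤j} q_ij x_i x_j is non-degenerate (the polar bilinear form has unit Gram
determinant, i.e. is a perfect pairing — the reading of non-degeneracy over the local ring A used
here), a an element of A, and F a formal power series in x_1, …, x_n over A all of whose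
coefficients in total degree at most m agree with those of Q + a. Then there are power series h_1,
…, h_n with no terms of total degree less than m such that substituting x_i + h_i for x_i in F gives
exactly Q + a; consequently A[[x]]/(F) and A[[x]]/(Q + a) are isomorphic as A-algebras. -/
theorem result
    (A : Type u) [CommRing A] [IsLocalRing A] (n m : ℕ) (hm : 2 ≤ m)
    (q : Fin n → Fin n → A) (hq : VanCyc.QuadNondeg q) (a : A)
    (F : MvPowerSeries (Fin n) A)
    (hF : ∀ e : Fin n →₀ ℕ, e.degree ≤ m →
      MvPowerSeries.coeff e F = MvPowerSeries.coeff e ((VanCyc.quadPoly q + MvPolynomial.C a : MvPolynomial (Fin n) A) : MvPowerSeries (Fin n) A)) :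
    ∃ h : Fin n → MvPowerSeries (Fin n) A,
      (∀ (i : Fin n) (e : Fin n →₀ ℕ), e.degree < m → MvPowerSeries.coeff e (h i) = 0) ∧
      MvPowerSeries.HasSubst (fun i => MvPowerSeries.X i + h i) ∧
      MvPowerSeries.subst (fun i => MvPowerSeries.X i + h i) F = ((VanCyc.quadPoly q + MvPolynomial.C a : MvPolynomial (Fin n) A) : MvPowerSeries (Fin n) A) ∧
      Nonempty ((MvPowerSeries (Fin n) A ⧸ Ideal.span {F}) ≃ₐ[A]
        (MvPowerSeries (Fin n) A ⧸ Ideal.span {((VanCyc.quadPoly q + MvPolynomial.C a : MvPolynomial (Fin n) A) : MvPowerSeries (Fin n) A)})) := by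
  classical
  have hco : ((VanCyc.quadPoly q + MvPolynomial.C a : MvPolynomial (Fin n) A) : MvPowerSeries (Fin n) A) =
      Groth.Agent.MorseLib.qv q MvPowerSeries.X + MvPowerSeries.C a := by
    rw [MvPolynomial.coe_add, Groth.Agent.MorseLib.coe_quadPoly, MvPolynomial.coe_C]
  have hG : F - (Groth.Agent.MorseLib.qv q MvPowerSeries.X + MvPowerSeries.C a) ∈
      Groth.Agent.MorseLib.aug A n ^ (m + 1) := by
    rw [← hco, Groth.Agent.MorseLib.mem_pow_iff]
    intro d hd
    rw [map_sub, hF d (by omega), sub_self]
  obtain ⟨h, hh, hs, hsub, hbij⟩ := Groth.Agent.MorseLib.morse m hm q hq a F hG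
  refine ⟨h, fun i e he => Groth.Agent.MorseLib.coeff_eq_zero_of_mem_pow m _ (hh i) e he, hs, ?_, ⟨?_⟩⟩
  · rw [hco, ← hsub, MvPowerSeries.substAlgHom_apply]
  · refine Ideal.quotientEquivAlg (R₁ := A) _ _ (AlgEquiv.ofBijective (MvPowerSeries.substAlgHom (R := A) hs) hbij) ?_
    rw [hco, Ideal.map_span, Set.image_singleton, ← hsub]
    rfl

end Groth.Agent.S16230
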