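import Groth.Statements.S16231
import Mathlib
import Groth.Agent.S16230
import Groth.Agent.MorseLib.Morse

set_option autoImplicit false
universe u
open VanCyc

namespace Groth.Agent.S16231

noncomputable section
open MvPowerSeries IsLocalRing Groth.Agent.MorseLib

variable {A : Type u} [CommRing A] {n : ℕ}

section
variable [IsLocalRing A]

abbrev mI (A : Type u) [CommRing A] [IsLocalRing A] (N : ℕ) : Ideal A := maximalIdeal A ^ N

abbrev pr (N : ℕ) : A →+* A ⧸ mI A N := Ideal.Quotient.mk _

/-- translated variables -/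
def shift {B : Type u} [CommRing B] (e : Fin n → B) : Fin n → MvPowerSeries (Fin n) B := fun i => X i + C (e i)

theorem hasSubst_shift {B : Type u} [CommRing B] {e : Fin n → B} (he : ∀ i, IsNilpotent (e i)) :
    HasSubst (shift e) :=
  hasSubst_of_constantCoeff_nilpotent fun i => by simpa [shift] using he i

theorem nil (c : Fin n → A) (hc : ∀ i, c i ∈ maximalIdeal A) (N : ℕ) (i : Fin n) :
    IsNilpotent (pr N (c i)) :=
  ⟨N, by rw [← map_pow, Ideal.Quotient.eq_zero_iff_mem]; exact Ideal.pow_mem_pow (hc i) N⟩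

/-- translation modulo `m^N` -/
def φ (c : Fin n → A) (hc : ∀ i, c i ∈ maximalIdeal A) (N : ℕ) :
    MvPowerSeries (Fin n) A →+* MvPowerSeries (Fin n) (A ⧸ mI A N) :=
  (substAlgHom (R := A ⧸ mI A N) (hasSubst_shift (nil c hc N))).toRingHom.comp (MvPowerSeries.map (pr N))

theorem φ_apply (c : Fin n → A) (hc : ∀ i, c i ∈ maximalIdeal A) (N : ℕ) (F : MvPowerSeries (Fin n) A) :
    φ c hc N F = subst (shift fun i => pr N (c i)) (MvPowerSeries.map (pr N) F) := by
  show substAlgHom (R := A ⧸ mI A N) (hasSubst_shift (nil c hc N)) _ = _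
  rw [substAlgHom_apply]

theorem φ_compat (c : Fin n → A) (hc : ∀ i, c i ∈ maximalIdeal A) {M N : ℕ} (h : M ≤ N) (F : MvPowerSeries (Fin n) A) :
    MvPowerSeries.map (Ideal.Quotient.factor (Ideal.pow_le_pow_right h)) (φ c hc N F) = φ c hc M F := by
  rw [φ_apply, φ_apply, map_subst (hasSubst_shift (nil c hc N))]
  congr 1
  funext i
  simp [shift, Ideal.Quotient.factor_mk]

theorem series_ext [IsAdicComplete (maximalIdeal A) A] {F G : MvPowerSeries (Fin n) A}
    (h : ∀ N, MvPowerSeries.map (pr N) F = MvPowerSeries.map (pr N) G) : F = G := by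
  refine MvPowerSeries.ext fun e => sub_eq_zero.mp (IsHausdorff.haus (IsAdicComplete.toIsHausdorff (I := maximalIdeal A) (M := A)) _ fun N => ?_)
  rw [SModEq.sub_mem, sub_zero, smul_eq_mul, Ideal.mul_top, ← Ideal.Quotient.eq]
  have := congrArg (coeff e) (h N)
  simpa using this

theorem exists_tr [IsAdicComplete (maximalIdeal A) A] (c : Fin n → A) (hc : ∀ i, c i ∈ maximalIdeal A)
    (F : MvPowerSeries (Fin n) A) : ∃ G, ∀ N, MvPowerSeries.map (pr N) G = φ c hc N F := by
  have h : ∀ e, ∃ a : A, ∀ N, pr N a = coeff e (φ c hc N F) := by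
    intro e
    choose g hg using fun N => Ideal.Quotient.mk_surjective (coeff e (φ c hc N F))
    have hcauchy : ∀ {M N}, M ≤ N → g M ≡ g N [SMOD (maximalIdeal A ^ M • ⊤ : Submodule A A)] := by
      intro M N hMN
      rw [SModEq.sub_mem, smul_eq_mul, Ideal.mul_top, ← Ideal.Quotient.eq, hg M, ← φ_compat c hc hMN F, coeff_map, ← hg N]
      rfl
    obtain ⟨L, hL⟩ := IsPrecomplete.prec (IsAdicComplete.toIsPrecomplete (I := maximalIdeal A) (M := A)) hcauchy
    refine ⟨L, fun N => ?_⟩
    have := hL N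
    rw [SModEq.sub_mem, smul_eq_mul, Ideal.mul_top, ← Ideal.Quotient.eq, hg N] at this
    exact this.symm
  choose a ha using h
  let G : MvPowerSeries (Fin n) A := fun e => a e
  exact ⟨G, fun N => MvPowerSeries.ext fun e => by rw [coeff_map]; exact ha e N⟩

variable [IsAdicComplete (maximalIdeal A) A]

/-- translation -/
def tr (c : Fin n → A) (hc : ∀ i, c i ∈ maximalIdeal A) (F : MvPowerSeries (Fin n) A) : MvPowerSeries (Fin n) A :=
  (exists_tr c hc F).choose

theorem tr_spec (c : Fin n → A) (hc : ∀ i, c i ∈ maximalIdeal A) (F : MvPowerSeries (Fin n) A) (N : ℕ) :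
    MvPowerSeries.map (pr N) (tr c hc F) = φ c hc N F := (exists_tr c hc F).choose_spec N

theorem tr_tr (c d : Fin n → A) (hc : ∀ i, c i ∈ maximalIdeal A) (hd : ∀ i, d i ∈ maximalIdeal A)
    (F : MvPowerSeries (Fin n) A) : tr d hd (tr c hc F) = tr (c + d) (fun i => add_mem (hc i) (hd i)) F := by
  refine series_ext fun N => ?_
  rw [tr_spec, tr_spec, φ_apply d hd, tr_spec, φ_apply c hc, φ_apply (c + d)]
  rw [← Function.comp_apply (f := subst _) (g := subst _),
    subst_comp_subst (hasSubst_shift (nil c hc N)) (hasSubst_shift (nil d hd N))]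
  congr 1
  funext i
  have hsd := hasSubst_shift (nil d hd N)
  show subst (shift _) (X i + C (pr N (c i))) = X i + C (pr N (c i + d i))
  rw [subst_add hsd, subst_X hsd, subst_C]
  simp [shift, map_add]
  ring

theorem tr_zero (F : MvPowerSeries (Fin n) A) (h : ∀ i, (0 : Fin n → A) i ∈ maximalIdeal A) : tr 0 h F = F := by
  refine series_ext fun N => ?_
  rw [tr_spec, φ_apply, show (shift fun i => pr N ((0 : Fin n → A) i)) = (X : Fin n → MvPowerSeries (Fin n) (A ⧸ mI A N)) from
    funext fun i => by simp [shift]]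
  rw [subst_self]; rfl

/-- translation as an automorphism -/
def trEquiv (c : Fin n → A) (hc : ∀ i, c i ∈ maximalIdeal A) : MvPowerSeries (Fin n) A ≃ₐ[A] MvPowerSeries (Fin n) A where
  toFun := tr c hc
  invFun := tr (-c) (fun i => neg_mem (hc i))
  left_inv F := by
    rw [tr_tr]
    convert tr_zero F (fun i => zero_mem _) using 2
    exact add_neg_cancel c
  right_inv F := by
    rw [tr_tr]
    convert tr_zero F (fun i => zero_mem _) using 2
    exact neg_add_cancel c
  map_mul' F G := series_ext fun N => by rw [map_mul, tr_spec, tr_spec, tr_spec, map_mul]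
  map_add' F G := series_ext fun N => by rw [map_add, tr_spec, tr_spec, tr_spec, map_add]
  commutes' a := series_ext fun N => by
    rw [tr_spec, φ_apply, MvPowerSeries.algebraMap_apply]
    simp only [Algebra.algebraMap_self, RingHom.id_apply, map_C, subst_C]

end

/-- monomials of degree one and two -/
abbrev d1 (i : Fin n) : Fin n →₀ ℕ := Finsupp.single i 1

theorem d2_inj {i j i' j' : Fin n} (h : i ≤ j) (h' : i' ≤ j') (e : d1 i + d1 j = d1 i' + d1 j') : i = i' ∧ j = j' := by
  classical
  have hv : ∀ l, (d1 i + d1 j) l = (d1 i' + d1 j') l := fun l => by rw [e]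
  simp only [Finsupp.coe_add, Pi.add_apply, d1, Finsupp.single_apply] at hv
  have h1 : i' = i ∨ j' = i := by
    by_contra hne; push Not at hne
    have := hv i; simp [hne.1, hne.2] at this <;> omega
  have h2 : i' = j ∨ j' = j := by
    by_contra hne; push Not at hne
    have := hv j; simp [hne.1, hne.2] at this <;> omega
  have h3 : i = i' ∨ j = i' := by
    by_contra hne; push Not at hne
    have := hv i'; simp [hne.1, hne.2] at this <;> omega
  have h4 : i = j' ∨ j = j' := by
    by_contra hne; push Not at hne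
    have := hv j'; simp [hne.1, hne.2] at this <;> omega
  rcases h1 with r1 | r1 <;> rcases h2 with r2 | r2 <;> rcases h3 with r3 | r3 <;> rcases h4 with r4 | r4 <;>
    constructor <;> omega

theorem coeff_qv (q : Fin n → Fin n → A) (d : Fin n →₀ ℕ) :
    coeff d (qv q X : MvPowerSeries (Fin n) A) = ∑ i, ∑ j, if i ≤ j ∧ d = d1 i + d1 j then q i j else 0 := by
  classical
  simp only [qv, map_sum]
  refine Finset.sum_congr rfl fun i _ => Finset.sum_congr rfl fun j _ => ?_
  by_cases h : i ≤ j
  · rw [if_pos h, mul_assoc, coeff_C_mul, X_def, X_def, monomial_mul_monomial, one_mul, coeff_monomial]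
    simp [h]
  · simp [h]

theorem coeff_qv_d2 (q : Fin n → Fin n → A) {i j : Fin n} (h : i ≤ j) :
    coeff (d1 i + d1 j) (qv q X : MvPowerSeries (Fin n) A) = q i j := by
  classical
  rw [coeff_qv, Finset.sum_eq_single i, Finset.sum_eq_single j, if_pos ⟨h, rfl⟩]
  · intro j' _ hne; exact if_neg fun h' => hne (d2_inj h h'.1 h'.2).2.symm
  · simp
  · intro i' _ hne; exact Finset.sum_eq_zero fun j' _ => if_neg fun h' => hne (d2_inj h h'.1 h'.2).1.symm
  · simp

theorem coeff_qv_of_degree_lt (q : Fin n → Fin n → A) {d : Fin n →₀ ℕ} (hd : d.degree < 2) :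
    coeff d (qv q X : MvPowerSeries (Fin n) A) = 0 := by
  rw [coeff_qv]
  refine Finset.sum_eq_zero fun i _ => Finset.sum_eq_zero fun j _ => if_neg fun h => ?_
  rw [h.2, map_add, Finsupp.degree_single, Finsupp.degree_single] at hd
  omega

theorem coeff_lin (l : Fin n → A) (d : Fin n →₀ ℕ) :
    coeff d (∑ i, C (l i) * X i : MvPowerSeries (Fin n) A) = ∑ i, if d = d1 i then l i else 0 := by
  classical
  rw [map_sum]
  refine Finset.sum_congr rfl fun i _ => ?_
  rw [coeff_C_mul, coeff_X]
  simp

theorem coeff_lin_d1 (l : Fin n → A) (j : Fin n) :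
    coeff (d1 j) (∑ i, C (l i) * X i : MvPowerSeries (Fin n) A) = l j := by
  classical
  rw [coeff_lin]
  simp [Finsupp.single_left_inj]

/-- quadratic coefficients -/
def quadC (G : MvPowerSeries (Fin n) A) (i j : Fin n) : A := coeff (d1 i + d1 j) G

/-- the degree ≤ 2 part -/
def low (G : MvPowerSeries (Fin n) A) : MvPowerSeries (Fin n) A :=
  C (constantCoeff G) + ∑ i, C (coeff (d1 i) G) * X i + qv (quadC G) X

theorem sub_low_mem (G : MvPowerSeries (Fin n) A) : G - low G ∈ aug A n ^ 3 := by
  classical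
  rw [mem_pow_iff]
  intro d hd
  rw [map_sub, low, map_add, map_add, coeff_C, sub_eq_zero]
  by_cases h0 : d = 0
  · subst h0
    rw [coeff_qv_of_degree_lt _ (by simp), coeff_lin, if_pos rfl, coeff_zero_eq_constantCoeff_apply,
      Finset.sum_eq_zero (fun i _ => if_neg (by simp [eq_comm])), add_zero, add_zero]
  obtain ⟨i, hi⟩ : ∃ i, d i ≠ 0 := by
    by_contra hne; push Not at hne; exact h0 (Finsupp.ext hne)
  have hd1 : d = d1 i + (d - d1 i) := (add_tsub_cancel_of_le (Finsupp.single_le_iff.mpr (Nat.pos_of_ne_zero hi))).symm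
  have hdeg : d.degree = 1 + (d - d1 i).degree := by conv_lhs => rw [hd1, map_add, Finsupp.degree_single]
  by_cases h1 : d - d1 i = 0
  · rw [h1, add_zero] at hd1
    subst hd1
    rw [coeff_qv_of_degree_lt _ (by simp [Finsupp.degree_single]), coeff_lin_d1, if_neg (by simp), zero_add, add_zero]
  obtain ⟨j, hj⟩ : ∃ j, (d - d1 i) j ≠ 0 := by
    by_contra hne; push Not at hne; exact h1 (Finsupp.ext hne)
  have hd2 : d - d1 i = d1 j + (d - d1 i - d1 j) :=
    (add_tsub_cancel_of_le (Finsupp.single_le_iff.mpr (Nat.pos_of_ne_zero hj))).symm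
  have hdeg2 : (d - d1 i).degree = 1 + (d - d1 i - d1 j).degree := by conv_lhs => rw [hd2, map_add, Finsupp.degree_single]
  have h3 : d - d1 i - d1 j = 0 := (Finsupp.degree_eq_zero_iff _).mp (by omega)
  rw [h3, add_zero] at hd2
  rw [hd2] at hd1
  subst hd1
  have hlin : coeff (d1 i + d1 j) (∑ l, C (coeff (d1 l) G) * X l : MvPowerSeries (Fin n) A) = 0 := by
    rw [coeff_lin]
    refine Finset.sum_eq_zero fun l _ => if_neg fun h => ?_
    have := congrArg Finsupp.degree h
    simp [Finsupp.degree_single] at this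
  rw [hlin, if_neg h0, zero_add, zero_add]
  rcases le_total i j with h | h
  · rw [coeff_qv_d2 _ h]; rfl
  · rw [add_comm (d1 i), coeff_qv_d2 _ h]; rfl

theorem linear_step {B : Type u} [CommRing B] (ε : Fin n → B) (hε : ∀ i l, ε i * ε l = 0)
    (G : MvPowerSeries (Fin n) B) (j : Fin n) :
    coeff (d1 j) (subst (shift ε) G) = coeff (d1 j) G + ∑ l, ε l * VanCyc.polarMatrix (quadC G) l j := by
  classical
  have hn : ∀ i, IsNilpotent (ε i) := fun i => ⟨2, by rw [sq]; exact hε i i⟩
  set ψ := substAlgHom (R := B) (hasSubst_shift hn) with hψ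
  rw [← substAlgHom_apply (hasSubst_shift hn), ← hψ]
  have hX : ∀ i, ψ (X i) = X i + C (ε i) := fun i => by rw [hψ, substAlgHom_X]; rfl
  have hC : ∀ a, ψ (C a) = C a := fun a => by rw [c_eq_algebraMap, AlgHom.commutes]
  let E : Ideal (MvPowerSeries (Fin n) B) := Ideal.span (Set.range fun i => C (ε i))
  have hE : E * E = ⊥ := by
    refine le_bot_iff.mp (Ideal.mul_le.mpr ?_)
    intro a ha b hb
    induction ha using Submodule.span_induction with
    | mem a ha =>
      induction hb using Submodule.span_induction with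
      | mem b hb =>
        obtain ⟨i, rfl⟩ := ha; obtain ⟨l, rfl⟩ := hb
        simp [← map_mul, hε]
      | zero => simp
      | add x y _ _ hx hy => rw [mul_add]; exact add_mem hx hy
      | smul c x _ hx => rw [smul_eq_mul, mul_left_comm]; exact Ideal.mul_mem_left _ c hx
    | zero => simp
    | add x y _ _ hx hy => rw [add_mul]; exact add_mem hx hy
    | smul c x _ hx => rw [smul_eq_mul, mul_assoc]; exact Ideal.mul_mem_left _ c hx
  have hmap : (aug B n).map ψ ≤ aug B n ⊔ E := by
    rw [aug_eq_span, Ideal.map_span, Ideal.span_le]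
    rintro _ ⟨_, ⟨i, rfl⟩, rfl⟩
    rw [hX]
    exact Submodule.add_mem_sup (Ideal.subset_span ⟨i, rfl⟩) (Ideal.subset_span ⟨i, rfl⟩)
  have hrest : ∀ r ∈ aug B n ^ 3, coeff (d1 j) (ψ r) = 0 := by
    intro r hr
    have h1 := Ideal.mem_map_of_mem ψ hr
    rw [Ideal.map_pow] at h1
    have h2 : (aug B n).map ψ ^ 3 ≤ aug B n ^ 2 := by
      refine (Ideal.pow_right_mono hmap 3).trans ?_
      have h4 : (aug B n ⊔ E) ^ 2 ≤ aug B n := by
        rw [pow_two, Submodule.sup_mul, Submodule.mul_sup, Submodule.mul_sup, hE]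
        exact sup_le (sup_le Ideal.mul_le_left Ideal.mul_le_left) (sup_le Ideal.mul_le_right bot_le)
      rw [pow_succ' _ 2]
      refine Ideal.mul_le.mpr fun a ha b hb => ?_
      obtain ⟨a₁, ha₁, a₂, ha₂, rfl⟩ := Submodule.mem_sup.mp ha
      rw [add_mul]
      refine add_mem (by rw [pow_two]; exact Ideal.mul_mem_mul ha₁ (h4 hb)) ?_
      rw [pow_two, Submodule.sup_mul, Submodule.mul_sup, Submodule.mul_sup, hE, sup_bot_eq] at hb
      have key : ∀ y ∈ E * (aug B n * aug B n ⊔ aug B n * E ⊔ E * aug B n), y ∈ aug B n * aug B n := by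
        rw [Submodule.mul_sup, Submodule.mul_sup]
        refine fun y hy => (sup_le (sup_le ?_ ?_) ?_ : _ ≤ aug B n * aug B n) hy
        · exact Ideal.mul_le_right
        · rw [← mul_assoc, mul_comm E, mul_assoc, hE]; simp
        · rw [← mul_assoc, hE]; simp
      rw [pow_two]
      exact key _ (Ideal.mul_mem_mul ha₂ hb)
    exact coeff_eq_zero_of_mem_pow 2 _ (h2 h1) _ (by simp [Finsupp.degree_single])
  conv_lhs => rw [show G = low G + (G - low G) by ring]
  rw [map_add ψ, map_add, hrest _ (sub_low_mem G), add_zero, low]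
  rw [map_add ψ, map_add ψ, map_qv, hC, map_sum ψ]
  simp only [map_mul ψ, hC, hX]
  rw [show (fun i => X i + C (ε i)) = X + fun i => C (ε i) from rfl, qv_add]
  have hq0 : qv (quadC G) (fun i => (C (ε i) : MvPowerSeries (Fin n) B)) = 0 := by
    refine Finset.sum_eq_zero fun a _ => Finset.sum_eq_zero fun b _ => ?_
    rw [mul_assoc, ← map_mul, hε, map_zero, mul_zero]
  rw [hq0, add_zero, map_add, map_add, map_add, coeff_C, if_neg (by simp), zero_add,
    coeff_qv_of_degree_lt _ (by simp [Finsupp.degree_single]), zero_add]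
  congr 1
  · simp only [mul_add, Finset.sum_add_distrib, map_add, coeff_lin_d1]
    rw [map_sum, Finset.sum_eq_zero (fun i _ => ?_), add_zero]
    rw [← map_mul, coeff_C, if_neg (by simp)]
  · rw [map_sum]
    refine Finset.sum_congr rfl fun l _ => ?_
    rw [coeff_C_mul, coeff_lin_d1]

theorem quadC_congr [IsLocalRing A] [IsAdicComplete (maximalIdeal A) A] (c : Fin n → A) (hc : ∀ i, c i ∈ maximalIdeal A)
    (F : MvPowerSeries (Fin n) A) (d : Fin n →₀ ℕ) :
    coeff d (tr c hc F) - coeff d F ∈ maximalIdeal A := by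
  have h := congrArg (coeff d) (tr_spec c hc F 1)
  have h0 : (shift fun i => pr 1 (c i)) = (X : Fin n → MvPowerSeries (Fin n) (A ⧸ mI A 1)) := funext fun i => by
    have : pr 1 (c i) = 0 := Ideal.Quotient.eq_zero_iff_mem.mpr (by simpa using hc i)
    simp [shift, this]
  rw [φ_apply, h0, subst_self, id_eq, coeff_map, coeff_map, Ideal.Quotient.eq] at h
  simpa using h

theorem tr_congr [IsLocalRing A] [IsAdicComplete (maximalIdeal A) A] (c c' : Fin n → A) (hc : ∀ i, c i ∈ maximalIdeal A)
    (hc' : ∀ i, c' i ∈ maximalIdeal A) (N : ℕ) (h : ∀ i, c i - c' i ∈ maximalIdeal A ^ N) (F : MvPowerSeries (Fin n) A)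
    (d : Fin n →₀ ℕ) : coeff d (tr c hc F) - coeff d (tr c' hc' F) ∈ maximalIdeal A ^ N := by
  have e : (fun i => pr N (c i)) = fun i => pr N (c' i) := funext fun i => Ideal.Quotient.eq.mpr (h i)
  have := congrArg (coeff d) ((tr_spec c hc F N).trans ((φ_apply c hc N F).trans ((by rw [e] : _ = _).trans
    ((φ_apply c' hc' N F).symm.trans (tr_spec c' hc' F N).symm))))
  rwa [coeff_map, coeff_map, Ideal.Quotient.eq] at this

theorem polar_congr {I : Ideal A} {q q' : Fin n → Fin n → A} (h : ∀ i j, i ≤ j → q' i j - q i j ∈ I) (i j : Fin n) :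
    VanCyc.polarMatrix q' i j - VanCyc.polarMatrix q i j ∈ I := by
  rcases lt_trichotomy i j with hij | hij | hij
  · simpa [VanCyc.polarMatrix, hij.ne, hij] using h i j hij.le
  · subst hij
    simpa [VanCyc.polarMatrix, ← mul_sub] using Ideal.mul_mem_left I 2 (h i i le_rfl)
  · simpa [VanCyc.polarMatrix, hij.ne', hij.not_gt] using h j i hij.le

theorem exists_critical [IsLocalRing A] [IsAdicComplete (maximalIdeal A) A] (q : Fin n → Fin n → A) (hq : VanCyc.QuadNondeg q)
    (F : MvPowerSeries (Fin n) A) (hlin : ∀ i, coeff (d1 i) F ∈ maximalIdeal A)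
    (hquad : ∀ i j, i ≤ j → quadC F i j - q i j ∈ maximalIdeal A) :
    ∃ (c : Fin n → A) (hc : ∀ i, c i ∈ maximalIdeal A), ∀ j, coeff (d1 j) (tr c hc F) = 0 := by
  classical
  set P := VanCyc.polarMatrix q
  have hP : IsUnit P.det := hq
  have step : ∀ (k : ℕ) (c : Fin n → A) (hc : ∀ i, c i ∈ maximalIdeal A), 1 ≤ k →
      (∀ j, coeff (d1 j) (tr c hc F) ∈ maximalIdeal A ^ k) →
      ∃ (c' : Fin n → A) (hc' : ∀ i, c' i ∈ maximalIdeal A), (∀ i, c' i - c i ∈ maximalIdeal A ^ k) ∧
        ∀ j, coeff (d1 j) (tr c' hc' F) ∈ maximalIdeal A ^ (k + 1) := by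
    intro k c hc hk hL
    let L : Fin n → A := fun j => coeff (d1 j) (tr c hc F)
    let δ : Fin n → A := fun l => -(∑ i, L i * P⁻¹ i l)
    have hδ : ∀ l, δ l ∈ maximalIdeal A ^ k := fun l =>
      neg_mem (Ideal.sum_mem _ fun i _ => Ideal.mul_mem_right _ _ (hL i))
    have hδ1 : ∀ l, δ l ∈ maximalIdeal A := fun l => Ideal.pow_le_self (by omega) (hδ l)
    refine ⟨c + δ, fun i => add_mem (hc i) (hδ1 i), fun i => by simpa using hδ i, fun j => ?_⟩
    rw [← tr_tr c δ hc hδ1, ← Ideal.Quotient.eq_zero_iff_mem]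
    show pr (k + 1) _ = 0
    rw [← coeff_map, tr_spec, φ_apply, linear_step]
    · rw [coeff_map]
      have h2 : ∀ l, pr (k + 1) (δ l) * VanCyc.polarMatrix (quadC (MvPowerSeries.map (pr (k + 1)) (tr c hc F))) l j =
          pr (k + 1) (δ l * P l j) := by
        intro l
        have hh : VanCyc.polarMatrix (quadC (MvPowerSeries.map (pr (k + 1)) (tr c hc F))) l j =
            pr (k + 1) (VanCyc.polarMatrix (quadC (tr c hc F)) l j) := by
          rcases lt_trichotomy l j with h | h | h
          · simp [VanCyc.polarMatrix, quadC, h.ne, h, coeff_map]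
          · subst h; simp [VanCyc.polarMatrix, quadC, coeff_map, map_ofNat]
          · simp [VanCyc.polarMatrix, quadC, h.ne', h.not_gt, coeff_map]
        rw [hh, ← map_mul, Ideal.Quotient.eq, ← mul_sub]
        show _ ∈ maximalIdeal A ^ (k + 1)
        rw [pow_succ]
        refine Ideal.mul_mem_mul (hδ l) (polar_congr (fun a b hab => ?_) l j)
        have := add_mem (quadC_congr c hc F (d1 a + d1 b)) (hquad a b hab)
        simpa [quadC] using this
      rw [Finset.sum_congr rfl fun l _ => h2 l, ← map_sum, ← map_add]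
      have h3 : L j + ∑ l, δ l * P l j = 0 := by
        simp only [δ, neg_mul, Finset.sum_neg_distrib, Finset.sum_mul, mul_assoc]
        rw [Finset.sum_comm]
        simp only [← Finset.mul_sum, ← Matrix.mul_apply, Matrix.nonsing_inv_mul P hP, Matrix.one_apply]
        simp
      show pr (k + 1) (L j + _) = 0
      rw [h3, map_zero]
    · intro a b
      rw [← map_mul, Ideal.Quotient.eq_zero_iff_mem]
      exact Ideal.pow_le_pow_right (by omega) (by rw [pow_add]; exact Ideal.mul_mem_mul (hδ a) (hδ b) : δ a * δ b ∈ maximalIdeal A ^ (k + k))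
  let T (k : ℕ) := {c : Fin n → A // ∃ hc : ∀ i, c i ∈ maximalIdeal A, ∀ j, coeff (d1 j) (tr c hc F) ∈ maximalIdeal A ^ (k + 1)}
  have h0 : ∀ i, (0 : Fin n → A) i ∈ maximalIdeal A := fun i => zero_mem _
  let s : (k : ℕ) → T k := fun k => Nat.rec (motive := T)
    ⟨0, h0, fun j => by show _ ∈ maximalIdeal A ^ 1; rw [pow_one, tr_zero]; exact hlin j⟩
    (fun k c => ⟨(step (k + 1) c.1 c.2.choose (by omega) c.2.choose_spec).choose,
      (step (k + 1) c.1 c.2.choose (by omega) c.2.choose_spec).choose_spec.choose,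
      (step (k + 1) c.1 c.2.choose (by omega) c.2.choose_spec).choose_spec.choose_spec.2⟩) k
  have hs : ∀ k i, (s (k + 1)).1 i - (s k).1 i ∈ maximalIdeal A ^ (k + 1) := fun k =>
    (step (k + 1) (s k).1 (s k).2.choose (by omega) (s k).2.choose_spec).choose_spec.choose_spec.1
  have hcauchy : ∀ i, ∀ {M N : ℕ}, M ≤ N → (s M).1 i ≡ (s N).1 i [SMOD (maximalIdeal A ^ M • ⊤ : Submodule A A)] := by
    intro i M N h
    rw [SModEq.sub_mem, smul_eq_mul, Ideal.mul_top]
    induction N, h using Nat.le_induction with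
    | base => simp
    | succ N hN ih =>
      have h1 := Ideal.pow_le_pow_right (show M ≤ N + 1 by omega) (hs N i)
      have := sub_mem ih h1
      rwa [sub_sub_sub_cancel_right] at this
      
  choose c hc using fun i => IsPrecomplete.prec (IsAdicComplete.toIsPrecomplete (I := maximalIdeal A) (M := A)) (hcauchy i)
  have hc' : ∀ N i, (s N).1 i - c i ∈ maximalIdeal A ^ N := fun N i => by
    have := hc i N; rwa [SModEq.sub_mem, smul_eq_mul, Ideal.mul_top] at this
  have hcm : ∀ i, c i ∈ maximalIdeal A := fun i => by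
    have := sub_mem ((s 1).2.choose i) (by simpa using hc' 1 i : (s 1).1 i - c i ∈ maximalIdeal A)
    simpa using this
  refine ⟨c, hcm, fun j => IsHausdorff.haus (IsAdicComplete.toIsHausdorff (I := maximalIdeal A) (M := A)) _ fun N => ?_⟩
  rw [SModEq.sub_mem, sub_zero, smul_eq_mul, Ideal.mul_top]
  have h1 := tr_congr (s N).1 c (s N).2.choose hcm N (hc' N) F (d1 j)
  have h2 := Ideal.pow_le_pow_right (Nat.le_succ N) ((s N).2.choose_spec j)
  simpa using sub_mem h2 h1

theorem nondeg_of_congr [IsLocalRing A] {q q' : Fin n → Fin n → A} (hq : VanCyc.QuadNondeg q)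
    (h : ∀ i j, i ≤ j → q' i j - q i j ∈ maximalIdeal A) : VanCyc.QuadNondeg q' := by
  apply IsUnit.of_map (IsLocalRing.residue A)
  have hmap : (IsLocalRing.residue A).mapMatrix (VanCyc.polarMatrix q') = (IsLocalRing.residue A).mapMatrix (VanCyc.polarMatrix q) :=
    Matrix.ext fun i j => Ideal.Quotient.eq.mpr (polar_congr h i j)
  rw [RingHom.map_det, hmap, ← RingHom.map_det]
  exact hq.map _

theorem main [IsLocalRing A] [IsAdicComplete (maximalIdeal A) A] (q : Fin n → Fin n → A) (hq : VanCyc.QuadNondeg q)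
    (F : MvPowerSeries (Fin n) A) (h0 : constantCoeff F ∈ maximalIdeal A) (hlin : ∀ i, coeff (d1 i) F ∈ maximalIdeal A)
    (hquad : ∀ i j, i ≤ j → quadC F i j - q i j ∈ maximalIdeal A) :
    ∃ (a' : A) (q' : Fin n → Fin n → A), a' ∈ maximalIdeal A ∧ VanCyc.QuadNondeg q' ∧
      Nonempty ((MvPowerSeries (Fin n) A ⧸ Ideal.span {F}) ≃ₐ[A]
        (MvPowerSeries (Fin n) A ⧸ Ideal.span {((VanCyc.quadPoly q' + MvPolynomial.C a' : MvPolynomial (Fin n) A) : MvPowerSeries (Fin n) A)})) := by
  classical
  obtain ⟨c, hc, hcrit⟩ := exists_critical q hq F hlin hquad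
  set G := tr c hc F with hG
  have ha : constantCoeff G ∈ maximalIdeal A := by
    have := add_mem (quadC_congr c hc F 0) h0
    simpa [coeff_zero_eq_constantCoeff_apply] using this
  have hq' : VanCyc.QuadNondeg (quadC G) := nondeg_of_congr hq fun i j hij => by
    have := add_mem (quadC_congr c hc F (d1 i + d1 j)) (hquad i j hij)
    simpa [quadC, hG] using this
  obtain ⟨-, -, -, -, ⟨e⟩⟩ := Groth.Agent.S16230.result A n 2 le_rfl (quadC G) hq' (constantCoeff G) G (by
    intro d hd
    have h1 := coeff_eq_zero_of_mem_pow 3 _ (sub_low_mem G) d (by omega)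
    rw [map_sub, sub_eq_zero] at h1
    rw [h1, MvPolynomial.coe_add, coe_quadPoly, MvPolynomial.coe_C, low]
    simp [hcrit, add_comm])
  refine ⟨constantCoeff G, quadC G, ha, hq', ⟨(Ideal.quotientEquivAlg (R₁ := A) _ _ (trEquiv c hc) ?_).trans e⟩⟩
  rw [Ideal.map_span, Set.image_singleton]
  rfl

end

/-- Let A be a local ring with maximal ideal m that is separated and complete for the m-adic topology (A
is not assumed Noetherian), n a natural number, q an n × n coefficient table over A whose quadratic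
form Q(x) = Σ_{i≤j} q_ij x_i x_j is non-degenerate (unit Gram determinant of the polar bilinear
form), a and ℓ_1, …, ℓ_n elements of m, and F a formal power series in x_1, …, x_n over A whose
coefficients in total degree at most 2 agree with those of a + Σ ℓ_i x_i + Q(x). Then there are an
element a' of m and a non-degenerate coefficient table q' such that A[[x]]/(F) and A[[x]]/(Q'(x) +
a') are isomorphic as A-algebras, Q' the quadratic form of q'. -/
theorem result
    (A : Type u) [CommRing A] [IsLocalRing A]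
    [IsAdicComplete (IsLocalRing.maximalIdeal A) A] (n : ℕ)
    (q : Fin n → Fin n → A) (hq : VanCyc.QuadNondeg q)
    (a : A) (ha : a ∈ IsLocalRing.maximalIdeal A)
    (ℓ : Fin n → A) (hℓ : ∀ i, ℓ i ∈ IsLocalRing.maximalIdeal A)
    (F : MvPowerSeries (Fin n) A)
    (hF : ∀ e : Fin n →₀ ℕ, e.degree ≤ 2 →
      MvPowerSeries.coeff e F = MvPowerSeries.coeff e ((VanCyc.quadPoly q + ∑ i, MvPolynomial.C (ℓ i) * MvPolynomial.X i + MvPolynomial.C a : MvPolynomial (Fin n) A) : MvPowerSeries (Fin n) A)) :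
    ∃ (a' : A) (q' : Fin n → Fin n → A), a' ∈ IsLocalRing.maximalIdeal A ∧ VanCyc.QuadNondeg q' ∧
      Nonempty ((MvPowerSeries (Fin n) A ⧸ Ideal.span {F}) ≃ₐ[A]
        (MvPowerSeries (Fin n) A ⧸ Ideal.span {((VanCyc.quadPoly q' + MvPolynomial.C a' : MvPolynomial (Fin n) A) : MvPowerSeries (Fin n) A)})) := by
  classical
  have hco : ∀ e : Fin n →₀ ℕ, e.degree ≤ 2 → MvPowerSeries.coeff e F =
      MvPowerSeries.coeff e (Groth.Agent.MorseLib.qv q MvPowerSeries.X + ∑ i, MvPowerSeries.C (ℓ i) * MvPowerSeries.X i + MvPowerSeries.C a) := fun e he => by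
    rw [hF e he, MvPolynomial.coe_add, MvPolynomial.coe_add, Groth.Agent.MorseLib.coe_quadPoly, MvPolynomial.coe_C,
      ← MvPolynomial.coeToMvPowerSeries.ringHom_apply, map_sum]
    simp
  refine main q hq F ?_ (fun i => ?_) (fun i j hij => ?_)
  · have := hco 0 (by simp)
    rw [MvPowerSeries.coeff_zero_eq_constantCoeff_apply] at this
    rw [this, map_add, map_add, coeff_qv_of_degree_lt _ (by simp), coeff_lin,
      MvPowerSeries.coeff_C, if_pos rfl, Finset.sum_eq_zero fun i _ => if_neg (by simp [eq_comm]), add_zero, zero_add]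
    exact ha
  · rw [hco _ (by simp [Finsupp.degree_single]), map_add, map_add, coeff_qv_of_degree_lt _ (by simp [Finsupp.degree_single]),
      coeff_lin_d1, MvPowerSeries.coeff_C, if_neg (by simp), zero_add, add_zero]
    exact hℓ i
  · have h0 : (d1 i + d1 j : Fin n →₀ ℕ) ≠ 0 := fun h => by simpa [Finsupp.degree_single] using congrArg Finsupp.degree h
    rw [quadC, hco _ (by simp [Finsupp.degree_single]), map_add, map_add, coeff_qv_d2 _ hij, coeff_lin,
      MvPowerSeries.coeff_C, if_neg h0, add_zero]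
    rw [Finset.sum_eq_zero fun l _ => if_neg fun h => by simpa [Finsupp.degree_single] using congrArg Finsupp.degree h]
    simp

end Groth.Agent.S16231
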