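import Groth.Statements.S16232
import Groth.Agent.TameLib.Infinite
import Groth.Agent.TameLib.Hensel

set_option autoImplicit false
set_option linter.style.haveILetI false
set_option maxHeartbeats 1000000
universe u v
open VanCyc

namespace Groth.Agent.S16232

/-- Let R be a strictly Henselian discrete valuation ring (Henselian, with separably closed residue
field), K its fraction field, Ω a separable closure of K and G the group of K-algebra automorphisms
of Ω; let r ≥ 1 be an integer invertible in the residue field of R, ϖ a uniformizer of R and ρ an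
r-th root of ϖ in Ω, so that the fundamental character χ : G → μ_r(Ω) is σ ↦ σ(ρ)/ρ. Then every
homomorphism φ of the abstract group G into an abelian group M with rM = 0 factors uniquely through
χ: there is exactly one homomorphism u : μ_r(Ω) → M with φ(σ) = u(χ(σ)) for every σ in G.
(Homomorphisms are written as maps respecting the group laws; χ(σ) is the root of unity ζ with ζρ =
σ(ρ).) -/
theorem result
    (R : Type u) [CommRing R] [IsDomain R] [IsDiscreteValuationRing R] [HenselianLocalRing R]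
    [IsSepClosed (IsLocalRing.ResidueField R)]
    (K : Type u) [Field K] [Algebra R K] [IsFractionRing R K]
    (Ω : Type u) [Field Ω] [Algebra K Ω] [IsSepClosure K Ω]
    (r : ℕ) [NeZero r] (hr : IsUnit (r : IsLocalRing.ResidueField R))
    (ϖ : R) (hϖ : Irreducible ϖ) (ρ : Ω) (hρ : ρ ^ r = algebraMap K Ω (algebraMap R K ϖ))
    (M : Type v) [AddCommGroup M] (hM : ∀ x : M, r • x = 0)
    (φ : (Ω ≃ₐ[K] Ω) → M) (hφ : ∀ σ τ : Ω ≃ₐ[K] Ω, φ (σ * τ) = φ σ + φ τ) :
    ∃! u : ↥(rootsOfUnity r Ω) → M, (∀ ζ ξ : ↥(rootsOfUnity r Ω), u (ζ * ξ) = u ζ + u ξ) ∧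
      ∀ (σ : Ω ≃ₐ[K] Ω) (ζ : ↥(rootsOfUnity r Ω)), ((ζ : Ωˣ) : Ω) * ρ = σ ρ → φ σ = u ζ := by
  letI : Algebra R Ω := ((algebraMap K Ω).comp (algebraMap R K)).toAlgebra
  haveI : IsScalarTower R K Ω := .of_algebraMap_eq' rfl
  haveI : IsSepClosed Ω := IsSepClosure.sep_closed K
  have hrR : IsUnit (r : R) := by
    refine isUnit_of_map_unit (IsLocalRing.residue R) _ ?_
    rwa [map_natCast]
  haveI : NeZero (r : Ω) := ⟨fun h => by
    have := (hrR.map (algebraMap R Ω))
    rw [map_natCast, h] at this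
    exact not_isUnit_zero this⟩
  obtain ⟨ζ₀, hζ₀⟩ := HasEnoughRootsOfUnity.exists_primitiveRoot Ω r
  have hr0 : 0 < r := Nat.pos_of_ne_zero (NeZero.ne r)
  have hI : ∀ L : FiniteGaloisIntermediateField K Ω, Groth.Agent.TameLib.InertAt R K L.toIntermediateField :=
    fun L => Groth.Agent.TameLib.inertAt_of_henselian R K L.toIntermediateField
  have hρ' : ρ ^ r = algebraMap R Ω ϖ := hρ
  have hρ0 : ρ ≠ 0 := Groth.Agent.TameLib.root_ne_zero (K := K) hϖ hr0 hρ'
  have hone : φ 1 = 0 := by simpa using hφ 1 1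
  have hpow : ∀ (g : Ω ≃ₐ[K] Ω) (n : ℕ), φ (g ^ n) = n • φ g := fun g n => by
    induction n with
    | zero => rw [pow_zero, zero_smul, hone]
    | succ n ih => rw [pow_succ, hφ, ih, succ_nsmul]
  have hkill : ∀ h : Ω ≃ₐ[K] Ω, h ρ = ρ → φ h = 0 := fun h hh => by
    obtain ⟨a, b, rfl⟩ := Groth.Agent.TameLib.exists_pow_mul_pow_algEquiv R hI hrR hϖ hρ' hζ₀ hh
    rw [hφ, hpow, hpow, hM, hM, add_zero]
  have hsurj : ∀ ζ : ↥(rootsOfUnity r Ω), ∃ σ : Ω ≃ₐ[K] Ω, σ ρ = ((ζ : Ωˣ) : Ω) * ρ := fun ζ =>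
    minpoly.exists_algEquiv_of_root' (Algebra.IsAlgebraic.isAlgebraic ρ) (by
      rw [Groth.Agent.TameLib.minpoly_root hϖ hr0 hρ']
      simp only [map_sub, map_pow, Polynomial.aeval_X, Polynomial.aeval_C, mul_pow, hρ]
      rw [show (((ζ : Ωˣ) : Ω)) ^ r = 1 from congrArg Units.val ζ.2, one_mul, sub_self])
  choose s hs using hsurj
  have hdep : ∀ σ τ : Ω ≃ₐ[K] Ω, σ ρ = τ ρ → φ σ = φ τ := fun σ τ h => by
    have h1 : (τ⁻¹ * σ) ρ = ρ := by
      rw [AlgEquiv.mul_apply, h]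
      exact τ.symm_apply_apply ρ
    have h2 := hφ τ (τ⁻¹ * σ)
    rwa [mul_inv_cancel_left, hkill _ h1, add_zero] at h2
  have hfix : ∀ (σ : Ω ≃ₐ[K] Ω) (x : Ω), x ^ r = 1 → σ x = x := fun σ x hx => by
    let L := FiniteGaloisIntermediateField.adjoin K {x}
    have hxL : x ∈ L.toIntermediateField := FiniteGaloisIntermediateField.subset_adjoin K {x} rfl
    have h := Groth.Agent.TameLib.fixed_of_pow_eq_one (hI L) hrR (σ.restrictNormal L.toIntermediateField)
      (x := ⟨x, hxL⟩) (Subtype.ext hx)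
    exact ((AlgEquiv.restrictNormal_commutes σ L.toIntermediateField ⟨x, hxL⟩).symm.trans (congrArg _ h))
  refine ⟨fun ζ => φ (s ζ), ⟨fun ζ ξ => ?_, fun σ ζ h => hdep σ (s ζ) (by rw [hs, h])⟩, fun u hu => funext fun ζ => ?_⟩
  · show φ (s (ζ * ξ)) = φ (s ζ) + φ (s ξ)
    rw [← hφ]
    refine hdep _ _ ?_
    rw [AlgEquiv.mul_apply, hs, hs, map_mul, hfix (s ζ) _ (congrArg Units.val ξ.2), hs, Subgroup.coe_mul,
      Units.val_mul]
    ring
  · exact (hu.2 (s ζ) ζ (hs ζ).symm).symm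

end Groth.Agent.S16232
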