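import Mathlib
import Groth.Statements.S16235

set_option autoImplicit false
universe u
open CAlg

namespace Groth.Agent.S16235

/-- Let A be a Noetherian commutative ring and x_1, …, x_r a regular sequence on A (each x_i a
non-zero-divisor on A/(x_1, …, x_{i-1})) generating an ideal I ≠ A. Then the height of I, the
infimum of the heights of the minimal primes over I, equals r. -/
theorem result (A : Type u) [CommRing A] [IsNoetherianRing A]
    (r : ℕ) (x : Fin r → A) (hx : RingTheory.Sequence.IsWeaklyRegular A (List.ofFn x))
    (hI : Ideal.span (Set.range x) ≠ ⊤) :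
    (Ideal.span (Set.range x)).height = r := by
  classical
  refine le_antisymm ((Ideal.height_le_spanFinrank _ hI).trans ?_) ?_
  · refine (Nat.cast_le.2 ((Submodule.spanFinrank_span_le_ncard_of_finite (Set.finite_range x)).trans ?_))
    rw [← Set.image_univ]
    exact (Set.ncard_image_le Set.finite_univ).trans (by simp [Set.ncard_univ])
  · have key : ∀ i ≤ r, ∀ P : Ideal A, P.IsPrime → Ideal.ofList ((List.ofFn x).take i) ≤ P → (i : ℕ∞) ≤ P.height := by
      intro i
      induction i with
      | zero => intros; simp
      | succ i ih =>
        intro hi P hP hle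
        have hlen : i < (List.ofFn x).length := by simpa using hi
        rw [← List.take_concat_get' _ i hlen, Ideal.ofList_append, Ideal.ofList_singleton, sup_le_iff] at hle
        set J := Ideal.ofList ((List.ofFn x).take i)
        set z := (List.ofFn x)[i]
        obtain ⟨q, hq, hqP⟩ := Ideal.exists_minimalPrimes_le hle.1
        haveI := hq.1.1
        have hreg : IsSMulRegular (A ⧸ J • (⊤ : Submodule A A)) z := hx.regular_mod_prev i hlen
        have hzq : z ∉ q := by
          intro hzq
          have hmem : q.map (Ideal.Quotient.mk J) ∈ minimalPrimes (A ⧸ J) := by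
            have hc : (q.map (Ideal.Quotient.mk J)).comap (Ideal.Quotient.mk J) = q := by
              rw [Ideal.comap_map_of_surjective _ Ideal.Quotient.mk_surjective, ← RingHom.ker_eq_comap_bot,
                Ideal.mk_ker, sup_eq_left]
              exact hq.1.2
            refine ⟨⟨Ideal.map_isPrime_of_surjective Ideal.Quotient.mk_surjective
              (by rw [Ideal.mk_ker]; exact hq.1.2), bot_le⟩, fun Q hQ hQq => ?_⟩
            haveI := hQ.1
            have hJ : J ≤ Q.comap (Ideal.Quotient.mk J) :=
              fun a ha => by rw [Ideal.mem_comap, Ideal.Quotient.eq_zero_iff_mem.2 ha]; exact zero_mem _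
            exact Ideal.map_le_iff_le_comap.2 (hq.2 ⟨hQ.1.comap _, hJ⟩ ((Ideal.comap_mono hQq).trans hc.le))
          refine Set.disjoint_left.1 (Ideal.disjoint_nonZeroDivisors_of_mem_minimalPrimes hmem)
            (Ideal.mem_map_of_mem _ hzq) (mem_nonZeroDivisors_iff_right.2 fun a h => ?_)
          rw [show (J • (⊤ : Submodule A A) : Submodule A A) = J from Ideal.mul_top J] at hreg
          exact hreg (show z • a = z • (0 : A ⧸ J) by
            rw [smul_zero, Algebra.smul_def, mul_comm]; exact h)
        have hlt : q < P := lt_of_le_of_ne hqP fun h => hzq (h ▸ hle.2 (Ideal.mem_span_singleton_self z))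
        have h1 := ih (by omega) q hq.1.1 hq.1.2
        have h2 := Ideal.height_strict_mono_of_isPrime hlt
        push_cast
        exact le_trans (add_le_add h1 le_rfl) (Order.add_one_le_of_lt h2)
    rw [Ideal.height_eq_inf_minimalPrimes]
    refine le_iInf₂ fun p hp => ?_
    refine key r le_rfl p hp.1.1 ?_
    rw [List.take_of_length_le (by simp), Ideal.ofList]
    refine le_trans (le_of_eq ?_) hp.1.2
    congr 1
    ext a; simp [List.mem_ofFn]

end Groth.Agent.S16235
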