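import Groth.Statements.S16237
import Groth.Agent.K0LocLib.A1
import Groth.Agent.RpushLib.Closed
-- import your own Groth.Agent.* helpers here

set_option autoImplicit false
set_option linter.style.haveILetI false
universe u
open CategoryTheory CategoryTheory.Limits AlgebraicGeometry
attribute [local instance] HasDerivedCategory.standard
open SGA6

namespace Groth.Agent.S16237

/-- Let X be a Noetherian scheme, 𝔸¹_X the affine line over X with coordinate t, and j : U ⟶ 𝔸¹_X an
open immersion whose image is the open subset D(t) where t is invertible (so U is X × Spec ℤ[t,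
t⁻¹]). Restriction along j is exact and preserves coherence (instance hypothesis and hypothesis hj);
the induced homomorphism K₀(Coh 𝔸¹_X) ⟶ K₀(Coh U) between Grothendieck groups of coherent modules is
bijective. -/
theorem result (X : Scheme.{u}) [IsNoetherian X] {U : Scheme.{u}}
    (j : U ⟶ 𝔸(ULift.{u} (Fin 1); X)) [IsOpenImmersion j]
    (hU : Set.range j = ((𝔸(ULift.{u} (Fin 1); X)).basicOpen (AffineSpace.coord X (ULift.up (0 : Fin 1))) : Set (𝔸(ULift.{u} (Fin 1); X))))
    [PreservesFiniteLimits (Scheme.Modules.restrictFunctor j)]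
    (hj : ∀ M : (𝔸(ULift.{u} (Fin 1); X)).Modules, Coh.IsCoh M → Coh.IsCoh ((Scheme.Modules.restrictFunctor j).obj M)) :
    Function.Bijective (SGA6.mapSub (Scheme.Modules.restrictFunctor j) (fun M : (𝔸(ULift.{u} (Fin 1); X)).Modules => Coh.IsCoh M)
      (fun M : (U).Modules => Coh.IsCoh M) hj) := by
  classical
  haveI : LocallyOfFiniteType (𝔸(ULift.{u} (Fin 1); X) ↘ X) := inferInstance
  haveI : IsLocallyNoetherian (𝔸(ULift.{u} (Fin 1); X)) :=
    LocallyOfFiniteType.isLocallyNoetherian (𝔸(ULift.{u} (Fin 1); X) ↘ X)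
  haveI : CompactSpace (𝔸(ULift.{u} (Fin 1); X)) :=
    QuasiCompact.compactSpace_of_compactSpace (𝔸(ULift.{u} (Fin 1); X) ↘ X)
  haveI : IsNoetherian (𝔸(ULift.{u} (Fin 1); X)) := {}
  let s := Groth.Agent.UnitsAffSpace.zeroSec (ULift.{u} (Fin 1)) X
  haveI : IsClosedImmersion s := Groth.Agent.K0LocLib.isClosedImmersion_zeroSec (n := ULift.{u} (Fin 1)) X
  have hU' : Set.range j = (Set.range s)ᶜ := by
    rw [hU, Groth.Agent.K0LocLib.range_zeroSec (n := ULift.{u} (Fin 1)) X, compl_compl]
    rfl
  haveI : (Scheme.Modules.pushforward s).Additive := inferInstance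
  haveI : PreservesFiniteLimits (Scheme.Modules.pushforward s) := inferInstance
  haveI : PreservesFiniteColimits (Scheme.Modules.pushforward s) := inferInstance
  have hi : ∀ M : X.Modules, Coh.IsCoh M → Coh.IsCoh ((Scheme.Modules.pushforward s).obj M) :=
    fun M hM => Groth.Agent.DevLib.isCoh_pushforward_closed s hM
  refine ⟨(injective_iff_map_eq_zero _).2 fun z hz => ?_, Groth.Agent.K0LocLib.surjective j hj⟩
  obtain ⟨w, rfl⟩ := (Groth.Agent.K0LocLib.ker_eq s j hU' hi hj).le hz
  refine DFunLike.congr_fun (show SGA6.mapSub (Scheme.Modules.pushforward s) (fun M : X.Modules => Coh.IsCoh M)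
    (fun M : (𝔸(ULift.{u} (Fin 1); X)).Modules => Coh.IsCoh M) hi = 0 from
    QuotientAddGroup.addMonoidHom_ext _ (FreeAbelianGroup.lift_ext _ _ fun M => ?_)) w
  show QuotientAddGroup.mk (FreeAbelianGroup.of ⟨_, hi M.1 M.2⟩) = (0 : Groth.Agent.K0LocLib.K (𝔸(ULift.{u} (Fin 1); X)))
  exact (Groth.Agent.K0ResLib.clSub_of (P := fun M : (𝔸(ULift.{u} (Fin 1); X)).Modules => Coh.IsCoh M) (hi M.1 M.2)).symm.trans
    (Groth.Agent.K0LocLib.cl_push_zeroSec (n := ULift.{u} (Fin 1)) X M.2)

end Groth.Agent.S16237
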