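import Groth.Statements.S16239
import Groth.Agent.KVbCurveLib.Main
import Groth.Agent.KVbLib.Lam

set_option backward.isDefEq.respectTransparency false
set_option backward.isDefEq.respectTransparency.types false

set_option autoImplicit false
universe u
open CategoryTheory CategoryTheory.Limits AlgebraicGeometry
attribute [local instance] HasDerivedCategory.standard
open SGA6

namespace Groth.Agent.S16239

/-- Let X be a smooth proper integral curve (dimension one) over an algebraically closed field k, and
write K for the Grothendieck group of finite locally free O_X-modules. Then every element of K can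
be written as (n − 1)·[O_X] + [L] with n an integer and L an invertible O_X-module, and in such an
expression n and the isomorphism class of L are unique. (This is the bijection ℤ × Pic(X) → K
underlying the ring isomorphism K ≅ ℤ ⊕ Pic(X), α ↦ (rank α, det α), of the source, which identifies
K with K₀ of coherent modules via the Cartan isomorphism. The published statement takes X
projective; a proper curve over a field is projective, so this row takes X proper.) -/
theorem result (k : Type u) [Field k] [IsAlgClosed k]
    (X : Scheme.{u}) [X.Over (Spec (CommRingCat.of k))] [IsIntegral X]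
    [IsProper (X ↘ Spec (CommRingCat.of k))] [Smooth (X ↘ Spec (CommRingCat.of k))]
    (hdim : topologicalKrullDim ↥X = 1) :
    (∀ a : SGA6.Kvb X, ∃ (n : ℤ) (L : X.Modules), PicF.IsInvertible L ∧
        a = (n - 1) • KZero.clSub (fun M : X.Modules => FlatMod.IsFinLocFree M) (Coh.structureModule X) +
          KZero.clSub (fun M : X.Modules => FlatMod.IsFinLocFree M) L) ∧
      (∀ (n m : ℤ) (L L' : X.Modules), PicF.IsInvertible L → PicF.IsInvertible L' →
        (n - 1) • KZero.clSub (fun M : X.Modules => FlatMod.IsFinLocFree M) (Coh.structureModule X) +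
            KZero.clSub (fun M : X.Modules => FlatMod.IsFinLocFree M) L =
          (m - 1) • KZero.clSub (fun M : X.Modules => FlatMod.IsFinLocFree M) (Coh.structureModule X) +
            KZero.clSub (fun M : X.Modules => FlatMod.IsFinLocFree M) L' →
        n = m ∧ Nonempty (L ≅ L')) := by
  haveI : IsNoetherian X := EulerIneqLib.isNoetherian_proper (X := X) k
  letI := PicInf.law X
  have hO : PicF.IsInvertible (Coh.structureModule X) := ParaFLib.isInvertible_structureModule
  refine ⟨fun a => ?_, fun n m L L' hL hL' h => ?_⟩
  · induction a using KVb.induction with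
    | h0 =>
      refine ⟨0, _, hO, ?_⟩
      simp
    | hcl E hE =>
      obtain ⟨L, hL, e⟩ := KVbCurveLib.exists_cl_eq k hdim _ (KVb.rank_of_flf hE)
      exact ⟨_, L, hL, e⟩
    | hneg x hx =>
      obtain ⟨n, L, hL, rfl⟩ := hx
      obtain ⟨L', hL', ⟨ν⟩⟩ := AmpleEmb.exists_isInverseOf hL
      refine ⟨-n, L', hL', ?_⟩
      have h := KVbCurveLib.cl_add_cl k hdim hL hL'
      rw [KVb.cl_iso ν] at h
      linear_combination (norm := module) -h
    | hadd x y hx hy =>
      obtain ⟨n, L, hL, rfl⟩ := hx
      obtain ⟨m, L', hL', rfl⟩ := hy
      refine ⟨n + m, _, AmpleLib.isInvertible_tensor hL hL', ?_⟩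
      have h := KVbCurveLib.cl_add_cl k hdim hL hL'
      linear_combination (norm := module) h
  · have hr : ∀ M : X.Modules, PicF.IsInvertible M → KVb.rkHom X (KRR.cl X M) = 1 := fun M hM => by
      rw [KVb.rkHom_cl (KVbCurveLib.flf_of_inv hM),
        KVb.fibreRank_base_of_rank (CurveLib.isFinLocFreeOfRank_one hM)]
      rfl
    have h1 := congrArg (KVb.rkHom X) h
    rw [map_add, map_add, map_zsmul, map_zsmul, hr L hL, hr L' hL', hr _ hO, smul_eq_mul, smul_eq_mul] at h1
    refine ⟨by omega, ?_⟩
    have h2 := congrArg KVbCurveLib.detHom h
    rw [map_add, map_add, map_zsmul, map_zsmul, KVbCurveLib.cls_structure_add,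
      KVbCurveLib.detHom_invertible hL, KVbCurveLib.detHom_invertible hL', smul_zero, smul_zero, zero_add,
      zero_add] at h2
    exact (PicGrp.cls_eq_cls_iff hL hL').1 (Additive.ofMul.injective h2)

end Groth.Agent.S16239
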