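import Mathlib
import Groth.Agent.NodeTorLib.Basic
import Groth.Agent.S14414
import Groth.Statements.S16243

set_option autoImplicit false
universe u
open CategoryTheory
open CAlg

namespace Groth.Agent.S16243

/-- Let k be a field, A = k[x, y]/(xy) (x = X_0, y = X_1) and κ = A/(x, y) the residue field at the
origin, viewed as an A-module. Then for every i ≥ 1 the A-module Tor_i^A(κ, κ) has length 2 (it is a
two-dimensional κ-vector space; Tor_0 is κ), and κ admits no finite projective resolution over A: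
for no n is its projective dimension less than n. -/
theorem result (k : Type u) [Field k] :
    (∀ i : ℕ, 1 ≤ i →
      Module.length (MvPolynomial (Fin 2) k ⧸ Ideal.span {(MvPolynomial.X 0 * MvPolynomial.X 1 : MvPolynomial (Fin 2) k)}) ((((Tor (ModuleCat.{u} (MvPolynomial (Fin 2) k ⧸ Ideal.span {(MvPolynomial.X 0 * MvPolynomial.X 1 : MvPolynomial (Fin 2) k)})) i).obj (ModuleCat.of (MvPolynomial (Fin 2) k ⧸ Ideal.span {(MvPolynomial.X 0 * MvPolynomial.X 1 : MvPolynomial (Fin 2) k)}) ((MvPolynomial (Fin 2) k ⧸ Ideal.span {(MvPolynomial.X 0 * MvPolynomial.X 1 : MvPolynomial (Fin 2) k)}) ⧸ Ideal.span {Ideal.Quotient.mk (Ideal.span {(MvPolynomial.X 0 * MvPolynomial.X 1 : MvPolynomial (Fin 2) k)}) (MvPolynomial.X 0), Ideal.Quotient.mk (Ideal.span {(MvPolynomial.X 0 * MvPolynomial.X 1 : MvPolynomial (Fin 2) k)}) (MvPolynomial.X 1)}))).obj (ModuleCat.of (MvPolynomial (Fin 2) k ⧸ Ideal.span {(MvPolynomial.X 0 * MvPolynomial.X 1 : MvPolynomial (Fin 2) k)}) ((MvPolynomial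 (Fin 2) k ⧸ Ideal.span {(MvPolynomial.X 0 * MvPolynomial.X 1 : MvPolynomial (Fin 2) k)}) ⧸ Ideal.span {Ideal.Quotient.mk (Ideal.span {(MvPolynomial.X 0 * MvPolynomial.X 1 : MvPolynomial (Fin 2) k)}) (MvPolynomial.X 0), Ideal.Quotient.mk (Ideal.span {(MvPolynomial.X 0 * MvPolynomial.X 1 : MvPolynomial (Fin 2) k)}) (MvPolynomial.X 1)}))) : Type u) = 2) ∧
    ∀ n : ℕ, ¬ HasProjectiveDimensionLT (ModuleCat.of (MvPolynomial (Fin 2) k ⧸ Ideal.span {(MvPolynomial.X 0 * MvPolynomial.X 1 : MvPolynomial (Fin 2) k)}) ((MvPolynomial (Fin 2) k ⧸ Ideal.span {(MvPolynomial.X 0 * MvPolynomial.X 1 : MvPolynomial (Fin 2) k)}) ⧸ Ideal.span {Ideal.Quotient.mk (Ideal.span {(MvPolynomial.X 0 * MvPolynomial.X 1 : MvPolynomial (Fin 2) k)}) (MvPolynomial.X 0), Ideal.Quotient.mk (Ideal.span {(MvPolynomial.X 0 * MvPolynomial.X 1 : MvPolynomial (Fin 2) k)}) (MvPolynomial.X 1)})) n := by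
  let P := MvPolynomial (Fin 2) k
  let I : Ideal P := Ideal.span {(MvPolynomial.X 0 * MvPolynomial.X 1 : P)}
  let x : P ⧸ I := Ideal.Quotient.mk I (MvPolynomial.X 0)
  let y : P ⧸ I := Ideal.Quotient.mk I (MvPolynomial.X 1)
  let m : Ideal (P ⧸ I) := Ideal.span {x, y}
  have hI : ∀ z : P, z ∈ I ↔ MvPolynomial.X 0 * MvPolynomial.X 1 ∣ z := fun z => Ideal.mem_span_singleton
  have hnode : NodeTorLib.IsNode x y := by
    refine ⟨by rw [← map_mul, Ideal.Quotient.eq_zero_iff_mem]; exact Ideal.subset_span rfl, fun u v huv => ?_⟩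
    obtain ⟨u, rfl⟩ := Ideal.Quotient.mk_surjective u
    obtain ⟨v, rfl⟩ := Ideal.Quotient.mk_surjective v
    rw [← map_mul, ← map_mul, ← map_add, Ideal.Quotient.eq_zero_iff_mem, hI] at huv
    obtain ⟨c, hc⟩ := huv
    have h10 : ¬ (MvPolynomial.X 1 : P) ∣ MvPolynomial.X 0 := by
      rw [MvPolynomial.X_dvd_X]; simp
    have h01 : ¬ (MvPolynomial.X 0 : P) ∣ MvPolynomial.X 1 := by
      rw [MvPolynomial.X_dvd_X]; simp
    have hu : (MvPolynomial.X 1 : P) ∣ u :=
      ((MvPolynomial.X_prime (R := k) (i := (1 : Fin 2))).dvd_or_dvd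
        ⟨MvPolynomial.X 0 * c - v, by linear_combination hc⟩).resolve_left h10
    have hv : (MvPolynomial.X 0 : P) ∣ v :=
      ((MvPolynomial.X_prime (R := k) (i := (0 : Fin 2))).dvd_or_dvd
        ⟨MvPolynomial.X 1 * c - u, by linear_combination hc⟩).resolve_left h01
    exact ⟨Ideal.mem_span_singleton.2 (map_dvd _ hu), Ideal.mem_span_singleton.2 (map_dvd _ hv)⟩
  have hmax : m.IsMaximal := by
    let φ : P →ₐ[k] k := MvPolynomial.aeval 0
    have hφX : ∀ i, φ (MvPolynomial.X i) = 0 := fun i => MvPolynomial.aeval_X _ _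
    have hφC : ∀ c, φ (MvPolynomial.C c) = c := fun c => MvPolynomial.aeval_C _ _
    have hφI : ∀ z ∈ I, φ z = 0 := by
      intro z hz
      obtain ⟨c, rfl⟩ := (hI z).1 hz
      rw [map_mul, map_mul, hφX, zero_mul, zero_mul]
    let ψ : (P ⧸ I) →ₐ[k] k := Ideal.Quotient.liftₐ I φ hφI
    have hψ : Function.Surjective ψ := fun c => ⟨algebraMap k _ c, ψ.commutes c⟩
    have hker : RingHom.ker ψ = m := by
      refine le_antisymm (fun z hz => ?_) (Ideal.span_le.2 ?_)
      · obtain ⟨f, rfl⟩ := Ideal.Quotient.mk_surjective z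
        have hf : φ f = 0 := hz
        have h1 : ∀ g : P, Ideal.Quotient.mk I (g - MvPolynomial.C (φ g)) ∈ m := by
          intro g
          induction g using MvPolynomial.induction_on with
          | C c => rw [hφC, sub_self, map_zero]; exact m.zero_mem
          | add p q hp hq => simpa [map_add, add_sub_add_comm] using m.add_mem hp hq
          | mul_X p i hp =>
            have hxi : Ideal.Quotient.mk I (MvPolynomial.X i) ∈ m := by
              fin_cases i
              · exact Ideal.subset_span (Or.inl rfl)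
              · exact Ideal.subset_span (Or.inr rfl)
            rw [map_mul φ, hφX, mul_zero, map_zero, sub_zero, map_mul]
            exact m.mul_mem_left _ hxi
        simpa [hf] using h1 f
      · rintro z (rfl | rfl) <;>
          exact hφX _
    rw [← hker]
    exact RingHom.ker_isMaximal_of_surjective _ hψ
  have key : ∀ i : ℕ, 1 ≤ i →
      Module.length (P ⧸ I) (DRing.Tor (P ⧸ I) i ((P ⧸ I) ⧸ m) ((P ⧸ I) ⧸ m)) = 2 := by
    intro i hi
    obtain ⟨j, rfl⟩ := Nat.exists_eq_add_of_le' hi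
    exact NodeTorLib.length_tor_residue hnode m rfl j
  refine ⟨key, fun n hn => ?_⟩
  have hle : HasProjectiveDimensionLE (ModuleCat.of (P ⧸ I) ((P ⧸ I) ⧸ m)) n :=
    hasProjectiveDimensionLT_of_ge _ n (n + 1) (by omega)
  have h0 := Groth.Agent.S14414.result (P ⧸ I) (ModuleCat.of _ ((P ⧸ I) ⧸ m))
    (ModuleCat.of _ ((P ⧸ I) ⧸ m)) n (n + 1) (by omega)
  have h1 := key (n + 1) (by omega)
  have : Subsingleton (DRing.Tor (P ⧸ I) (n + 1) ((P ⧸ I) ⧸ m) ((P ⧸ I) ⧸ m)) :=
    ModuleCat.subsingleton_of_isZero h0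
  rw [Module.length_eq_zero] at h1
  exact absurd h1 (by norm_num)

end Groth.Agent.S16243
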