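import Groth.Statements.S16244
import Mathlib

set_option autoImplicit false
universe u
open Curves

namespace Groth.Agent.S16244

open CategoryTheory CategoryTheory.Limits AlgebraicGeometry

lemma mem_stab {k : Type u} [Field k] (h2 : (2 : k) ≠ 0) (h3 : (3 : k) ≠ 0) (W : WeierstrassCurve k) [W.IsShortNF]
    (C : WeierstrassCurve.VariableChange k) :
    C ∈ MulAction.stabilizer (WeierstrassCurve.VariableChange k) W ↔
      C.r = 0 ∧ C.s = 0 ∧ C.t = 0 ∧ (C.u : k) ^ 4 * W.a₄ = W.a₄ ∧ (C.u : k) ^ 6 * W.a₆ = W.a₆ := by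
  have hu : (C.u : k) ≠ 0 := C.u.ne_zero
  have key : ∀ (n : ℕ) (x y : k), (C.u⁻¹ : kˣ) ^ n * x = y ↔ x = (C.u : k) ^ n * y := fun n x y => by
    rw [Units.val_inv_eq_inv_val, inv_pow, inv_mul_eq_iff_eq_mul₀ (pow_ne_zero _ hu)]
  rw [MulAction.mem_stabilizer_iff, WeierstrassCurve.variableChange_def, WeierstrassCurve.ext_iff]
  dsimp only
  simp only [WeierstrassCurve.a₁_of_isShortNF, WeierstrassCurve.a₂_of_isShortNF, WeierstrassCurve.a₃_of_isShortNF,
    key, mul_eq_zero, Units.ne_zero, mul_zero, zero_add, add_zero, sub_zero, zero_sub, false_or, h2]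
  constructor
  · rintro ⟨hs, hr, ht, h4, h6⟩
    have hr' : C.r = 0 := by
      have : (3 : k) * C.r = 0 := by rw [hs] at hr; linear_combination hr
      exact (mul_eq_zero.1 this).resolve_left h3
    refine ⟨hr', hs, ht, ?_, ?_⟩
    · simp [hr', ht] at h4; exact h4.symm
    · simp [hr', ht] at h6; exact h6.symm
  · rintro ⟨hr, hs, ht, h4, h6⟩
    simp [hr, hs, ht, h4, h6]


/-- Let k be an algebraically closed field in which 2 and 3 are nonzero, and W a short Weierstrass
equation y² = x³ + a₄x + a₆ over k with nonzero discriminant. The admissible changes of variables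
(u, r, s, t) that fix W form a cyclic group, of order 6 when a₄ = 0, of order 4 when a₆ = 0, and of
order 2 when a₄ and a₆ are both nonzero. (The published statement says the automorphism group of the
elliptic curve is cyclic of order 2, 4 or 6; the automorphisms are rendered here as the changes of
variables preserving the equation, and the case distinction is the one the computation gives.) -/
theorem result
    (k : Type u) [Field k] [IsAlgClosed k] (h2 : (2 : k) ≠ 0) (h3 : (3 : k) ≠ 0)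
    (W : WeierstrassCurve k) [W.IsShortNF] (hΔ : W.Δ ≠ 0) :
    IsCyclic ↥(MulAction.stabilizer (WeierstrassCurve.VariableChange k) W) ∧
      (W.a₄ = 0 → Nat.card ↥(MulAction.stabilizer (WeierstrassCurve.VariableChange k) W) = 6) ∧
      (W.a₆ = 0 → Nat.card ↥(MulAction.stabilizer (WeierstrassCurve.VariableChange k) W) = 4) ∧
      (W.a₄ ≠ 0 → W.a₆ ≠ 0 → Nat.card ↥(MulAction.stabilizer (WeierstrassCurve.VariableChange k) W) = 2) := by
  classical
  obtain ⟨n, hn, hiff, hn6, hn4, hn2⟩ : ∃ n : ℕ, (n : k) ≠ 0 ∧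
      (∀ u : kˣ, ((u : k) ^ 4 * W.a₄ = W.a₄ ∧ (u : k) ^ 6 * W.a₆ = W.a₆) ↔ u ^ n = 1) ∧
      (W.a₄ = 0 → n = 6) ∧ (W.a₆ = 0 → n = 4) ∧ (W.a₄ ≠ 0 → W.a₆ ≠ 0 → n = 2) := by
    have hD : W.a₄ = 0 → W.a₆ ≠ 0 := fun h4 h6 => hΔ (by rw [W.Δ_of_isShortNF, h4, h6]; ring)
    have h6k : ((6 : ℕ) : k) ≠ 0 := by
      rw [show ((6 : ℕ) : k) = 2 * 3 by norm_num]
      exact mul_ne_zero h2 h3
    have h4k : ((4 : ℕ) : k) ≠ 0 := by
      rw [show ((4 : ℕ) : k) = 2 * 2 by norm_num]
      exact mul_ne_zero h2 h2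
    have one : ∀ (u : kˣ) (m : ℕ) (a : k), a ≠ 0 → ((u : k) ^ m * a = a ↔ u ^ m = 1) := fun u m a ha => by
      rw [mul_eq_right₀ ha, Units.ext_iff, Units.val_pow_eq_pow_val, Units.val_one]
    by_cases h4 : W.a₄ = 0
    · refine ⟨6, h6k, fun u => ?_, fun _ => rfl, fun h => absurd h (hD h4), fun h => absurd h4 h⟩
      rw [one u 6 _ (hD h4)]
      simp [h4]
    by_cases h6 : W.a₆ = 0
    · refine ⟨4, h4k, fun u => ?_, fun h => absurd h h4, fun _ => rfl, fun _ h => absurd h6 h⟩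
      rw [one u 4 _ h4]
      simp [h6]
    refine ⟨2, by exact_mod_cast h2, fun u => ?_, fun h => absurd h h4, fun h => absurd h h6, fun _ _ => rfl⟩
    rw [one u 4 _ h4, one u 6 _ h6]
    constructor
    · rintro ⟨h4', h6'⟩
      rw [show (6 : ℕ) = 2 + 4 from rfl, pow_add, h4', mul_one] at h6'
      exact h6'
    · intro h
      rw [show (4 : ℕ) = 2 * 2 from rfl, show (6 : ℕ) = 2 * 3 from rfl, pow_mul, pow_mul, h, one_pow, one_pow]
      exact ⟨rfl, rfl⟩
  haveI : NeZero (n : k) := ⟨hn⟩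
  haveI : NeZero n := ⟨fun h => hn (by simp [h])⟩
  let e : ↥(MulAction.stabilizer (WeierstrassCurve.VariableChange k) W) ≃* ↥(rootsOfUnity n k) :=
    { toFun := fun C => ⟨C.1.u, (mem_rootsOfUnity _ _).2 ((hiff _).1 ((mem_stab h2 h3 W C.1).1 C.2).2.2.2)⟩
      invFun := fun u => ⟨⟨u.1, 0, 0, 0⟩,
        (mem_stab h2 h3 W _).2 ⟨rfl, rfl, rfl, (hiff _).2 ((mem_rootsOfUnity _ _).1 u.2)⟩⟩
      left_inv := fun C => by
        obtain ⟨hr, hs, ht, -⟩ := (mem_stab h2 h3 W C.1).1 C.2
        exact Subtype.ext (WeierstrassCurve.VariableChange.ext rfl hr.symm hs.symm ht.symm)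
      right_inv := fun u => rfl
      map_mul' := fun C D => rfl }
  have hcard : Nat.card ↥(MulAction.stabilizer (WeierstrassCurve.VariableChange k) W) = n := by
    rw [Nat.card_congr e.toEquiv, HasEnoughRootsOfUnity.natCard_rootsOfUnity k n]
  haveI : IsCyclic ↥(rootsOfUnity n k) := inferInstance
  exact ⟨isCyclic_of_surjective e.symm.toMonoidHom e.symm.surjective,
    fun h => hcard.trans (hn6 h), fun h => hcard.trans (hn4 h), fun h h' => hcard.trans (hn2 h h')⟩

end Groth.Agent.S16244
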