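import Groth.Statements.S16245
import Groth.Agent.WeilClosedLib.EssFree
import Groth.Agent.WeilClosedLib.Finite

set_option autoImplicit false
set_option backward.isDefEq.respectTransparency false
set_option backward.isDefEq.respectTransparency.types false
universe u
open CategoryTheory CategoryTheory.Limits AlgebraicGeometry
open SDiv

namespace Groth.Agent.S16245

/-- Let f : X → S be a morphism of schemes, D ⊆ X an effective Cartier divisor with ideal sheaf 𝓘, and
D' ⊆ X a closed subscheme with ideal sheaf 𝓘' such that D' → S is finite, flat and locally of finite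
presentation (finite locally free). Then there is a closed subscheme Z ⊆ S such that a morphism g :
T → S factors through Z exactly when, on X ×_S T, the inverse image ideal of 𝓘 is contained in the
inverse image ideal of 𝓘', that is, the pull-back of D' is a closed subscheme of the pull-back of D.
This universal property determines Z, and compatibility of Z with base change follows from it. (In
the source X is a family of elliptic curves and D, D' are relative effective Cartier divisors, D'
then being finite locally free over S; the argument uses only the hypotheses stated here.) -/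
theorem result
    {X S : Scheme.{u}} (f : X ⟶ S) (𝓘 𝓘' : X.IdealSheafData) (hD : BlowUp.IsEffCartierIdeal 𝓘)
    [IsFinite (𝓘'.subschemeι ≫ f)] [Flat (𝓘'.subschemeι ≫ f)]
    [LocallyOfFinitePresentation (𝓘'.subschemeι ≫ f)] :
    ∃ 𝓩 : S.IdealSheafData, ∀ (T : Scheme.{u}) (g : T ⟶ S),
      (∃ t : T ⟶ 𝓩.subscheme, t ≫ 𝓩.subschemeι = g) ↔
        𝓘.comap (pullback.fst f g) ≤ 𝓘'.comap (pullback.fst f g) := by
  let ι' := 𝓘'.subschemeι
  let j := pullback.fst ι' 𝓘.subschemeι
  obtain ⟨T₀, t₀, ht₀, hrep, -⟩ := WeilClosedLib.exists_closed_of_essentiallyFree (j := j)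
    (WeilClosedLib.isEssentiallyFree_of_finite_flat (ι' ≫ f))
  haveI := ht₀
  refine ⟨t₀.ker, fun T g => ?_⟩
  have h1 : (∃ t : T ⟶ t₀.ker.subscheme, t ≫ t₀.ker.subschemeι = g) ↔ ∃ g' : T ⟶ T₀, g' ≫ t₀ = g := by
    constructor
    · rintro ⟨t, ht⟩
      exact ⟨t ≫ IsClosedImmersion.lift t₀ t₀.ker.subschemeι (by rw [Scheme.IdealSheafData.ker_subschemeι]),
        by rw [Category.assoc, IsClosedImmersion.lift_fac, ht]⟩
    · rintro ⟨g', rfl⟩
      exact ⟨g' ≫ t₀.toImage, by rw [Category.assoc]; exact congrArg (g' ≫ ·) t₀.toImage_imageι⟩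
  rw [h1, hrep]
  let p := pullback.fst f g
  let q := pullback.fst p ι'
  have h2 : 𝓘.comap p ≤ 𝓘'.comap p ↔ ∃ l : pullback p ι' ⟶ 𝓘.subscheme, l ≫ 𝓘.subschemeι = q ≫ p := by
    constructor
    · intro h
      exact ⟨IsClosedImmersion.lift (pullback.fst p 𝓘.subschemeι) q h ≫ pullback.snd p 𝓘.subschemeι, by
        rw [Category.assoc, ← pullback.condition, IsClosedImmersion.lift_fac_assoc]⟩
    · rintro ⟨l, hl⟩
      show (pullback.fst p 𝓘.subschemeι).ker ≤ q.ker
      have h := Scheme.Hom.le_ker_comp (pullback.lift (f := p) (g := 𝓘.subschemeι) q l hl.symm) (pullback.fst p 𝓘.subschemeι)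
      rwa [pullback.lift_fst] at h
  rw [h2]
  constructor
  · intro h
    obtain ⟨l, hl⟩ := h (pullback.snd p ι') (q ≫ pullback.snd f g) (by
      rw [Category.assoc, ← pullback.condition, ← pullback.condition_assoc])
    refine ⟨l ≫ pullback.snd ι' 𝓘.subschemeι, ?_⟩
    rw [Category.assoc, ← pullback.condition]
    show l ≫ j ≫ ι' = _
    rw [reassoc_of% hl]
    exact pullback.condition.symm
  · rintro ⟨l, hl⟩ W a b w
    let c : W ⟶ pullback p ι' := pullback.lift (pullback.lift (a ≫ ι') b (by rw [Category.assoc]; exact w)) a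
      (pullback.lift_fst _ _ _)
    refine ⟨pullback.lift a (c ≫ l) ?_, pullback.lift_fst _ _ _⟩
    rw [Category.assoc, hl, pullback.lift_fst_assoc, pullback.lift_fst]

end Groth.Agent.S16245
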