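import Groth.Statements.S16248
import Groth.Agent.S7789
import Groth.Agent.ASp.PropDescend
-- import your own Groth.Agent.* helpers here

set_option autoImplicit false
set_option backward.isDefEq.respectTransparency false
set_option linter.style.haveILetI false
set_option maxHeartbeats 1600000
universe u
open CategoryTheory CategoryTheory.Limits AlgebraicGeometry MonObj
open AgPol

namespace Groth.Agent.S16248

open Limits MonoidalCategory CartesianMonoidalCategory GrpObj

theorem geometricallyReduced_of_smooth {X Y : Scheme.{u}} (f : X ⟶ Y) [hf : Smooth f] : GeometricallyReduced f := by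
  refine ⟨fun K _ y Z fst snd h => ?_⟩
  haveI : Smooth snd := MorphismProperty.of_isPullback (P := @Smooth) h hf
  exact ASp.isReduced_of_smooth snd

/-- The coincidence set of two sections of a separated etale morphism is clopen and detected on geometric points. -/
theorem exists_clopen_eq {S X Y : Scheme.{u}} (p : Y ⟶ S) [Etale p] [IsSeparated p] (a b : X ⟶ Y) (h : a ≫ p = b ≫ p) :
    ∃ C : Set X, IsClopen C ∧ ∀ (Ω : Type u) [Field Ω] (t : Spec (CommRingCat.of Ω) ⟶ X),
      t ≫ a = t ≫ b ↔ ∀ z, t z ∈ C := by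
  let d := pullback.diagonal p
  let ab : X ⟶ pullback.diagonalObj p := pullback.lift a b h
  haveI : IsOpenImmersion d := inferInstance
  haveI : IsClosedImmersion d := inferInstance
  refine ⟨ab ⁻¹' Set.range d, ⟨(d.isClosedEmbedding.isClosed_range).preimage ab.continuous,
    d.isOpenEmbedding.isOpen_range.preimage ab.continuous⟩, fun Ω _ t => ⟨fun e z => ?_, fun hz => ?_⟩⟩
  · refine ⟨(t ≫ a) z, ?_⟩
    have : (t ≫ a) ≫ d = t ≫ ab := by
      apply pullback.hom_ext
      · simp [d, ab]
      · simpa [d, ab] using e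
    exact congrArg (fun m => m z) this
  · have hr : Set.range (t ≫ ab) ⊆ Set.range d := by
      rintro _ ⟨z, rfl⟩
      exact hz z
    have e := IsOpenImmersion.lift_fac d (t ≫ ab) hr
    have e1 := congrArg (· ≫ pullback.fst p p) e
    have e2 := congrArg (· ≫ pullback.snd p p) e
    simp only [d, ab, Category.assoc, pullback.diagonal_fst, pullback.diagonal_snd, Category.comp_id,
      pullback.lift_fst, pullback.lift_snd] at e1 e2
    exact e1.symm.trans e2

/-- Let E be an S-group scheme which is smooth and proper over S with geometrically connected fibres of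
dimension one (a family of elliptic curves over S with its group law), and let N ≥ 1 be an integer
invertible on S. Consider, for an S-scheme T, the T-valued points Q of E with N·Q = 0 whose value at
every geometric point of T has order exactly N (for N invertible these are exactly the level
structures of type ℤ/N sending 1 to Q). This functor is represented by an S-scheme Z which is finite
and étale over S: there are such a Z and a point P of E with values in Z having this property, such
that every Q with the property over any T is the pull-back of P along a unique S-morphism T → Z. -/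
theorem result
    {S : Scheme.{u}} (E : Over S) [GrpObj E] (hE : AgPol.IsAbSch E 1)
    (N : ℕ) (hN : 1 ≤ N) (hNu : IsUnit (N : Γ(S, ⊤))) :
    ∃ (Z : Over S) (P : Z ⟶ E), IsFinite Z.hom ∧ Etale Z.hom ∧
      (P ^ N = 1 ∧ ∀ (Ω : Type u) [Field Ω] [IsAlgClosed Ω] (t : Spec (CommRingCat.of Ω) ⟶ Z.left),
        orderOf ((Over.homMk t rfl : Over.mk (t ≫ Z.hom) ⟶ Z) ≫ P) = N) ∧
      ∀ (T : Over S) (Q : T ⟶ E), Q ^ N = 1 →
        (∀ (Ω : Type u) [Field Ω] [IsAlgClosed Ω] (t : Spec (CommRingCat.of Ω) ⟶ T.left),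
          orderOf ((Over.homMk t rfl : Over.mk (t ≫ T.hom) ⟶ T) ≫ Q) = N) →
        ∃! v : T ⟶ Z, v ≫ P = Q := by
  obtain ⟨hsm, hpr, hgc, -⟩ := hE
  haveI := hsm
  haveI := hpr
  haveI := hgc
  haveI : GeometricallyReduced E.hom := geometricallyReduced_of_smooth E.hom
  obtain ⟨hfin, het⟩ := Groth.Agent.S7789.result E (N : ℤ) (by simpa using hNu)
  let m : E ⟶ E := (𝟙 E) ^ N
  haveI : IsFinite m.left := by
    rw [show m = (𝟙 E) ^ (N : ℤ) from (zpow_natCast _ _).symm]; exact hfin
  haveI : Etale m.left := by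
    rw [show m = (𝟙 E) ^ (N : ℤ) from (zpow_natCast _ _).symm]; exact het
  let T₀ : Over S := pullback m η[E]
  let i : T₀ ⟶ E := pullback.fst m η[E]
  have hpb : IsPullback i.left T₀.hom m.left η[E].left := by
    have h := (IsPullback.of_hasPullback m η[E]).map (Over.forget S)
    have e : (pullback.snd m η[E]).left = T₀.hom := (Category.comp_id _).symm.trans (Over.w (pullback.snd m η[E]))
    simpa [e] using h
  haveI : IsFinite T₀.hom := MorphismProperty.of_isPullback (P := @IsFinite) hpb inferInstance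
  haveI : Etale T₀.hom := MorphismProperty.of_isPullback (P := @Etale) hpb inferInstance
  have hone : ∀ (T : Over S), toUnit T ≫ η[E] = (1 : T ⟶ E) := fun T => Hom.one_def.symm
  have hpow : ∀ {T : Over S} (x : T ⟶ T₀), (x ≫ i) ^ N = 1 := fun {T} x => by
    have e : (x ≫ i) ^ N = (x ≫ i) ≫ m := by
      rw [MonObj.comp_pow, Category.comp_id]
    rw [e, Category.assoc, pullback.condition, ← Category.assoc, toUnit_unique (x ≫ _) (toUnit T), hone]
  have lift : ∀ {T : Over S} (Q : T ⟶ E), Q ^ N = 1 → ∃ v : T ⟶ T₀, v ≫ i = Q := fun {T} Q hQ =>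
    ⟨pullback.lift Q (toUnit T) (by rw [MonObj.comp_pow, Category.comp_id, hQ, hone]), pullback.lift_fst _ _ _⟩
  have ι_mono : Mono i := by
    haveI : Mono η[E] := SplitMono.mono ⟨toUnit E, toUnit_unique _ _⟩
    exact inferInstanceAs (Mono (pullback.fst m η[E]))
  -- the loci of smaller order
  have hlift : ∀ d : ℕ, ∃ v : T₀ ⟶ T₀, v ≫ i = i ^ d := fun d => lift (i ^ d) (by
    rw [← pow_mul, mul_comm, pow_mul, show i ^ N = 1 by simpa using hpow (𝟙 T₀), one_pow])
  choose σ hσ using hlift
  obtain ⟨e₀, he₀⟩ := lift (1 : T₀ ⟶ E) (one_pow N)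
  have hC : ∀ d, ∃ C : Set T₀.left, IsClopen C ∧ ∀ (Ω : Type u) [Field Ω] (t : Spec (CommRingCat.of Ω) ⟶ T₀.left),
      ((Over.homMk t rfl : Over.mk (t ≫ T₀.hom) ⟶ T₀) ≫ i) ^ d = 1 ↔ ∀ z, t z ∈ C := fun d => by
    obtain ⟨C, hC, h⟩ := exists_clopen_eq T₀.hom (σ d).left e₀.left (by rw [Over.w, Over.w])
    refine ⟨C, hC, fun Ω _ t => ?_⟩
    rw [← h Ω t]
    let t' : Over.mk (t ≫ T₀.hom) ⟶ T₀ := Over.homMk t rfl
    have e1 : (t' ≫ i) ^ d = (t' ≫ σ d) ≫ i := by rw [Category.assoc, hσ, MonObj.comp_pow]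
    have e2 : (1 : Over.mk (t ≫ T₀.hom) ⟶ E) = (t' ≫ e₀) ≫ i := by rw [Category.assoc, he₀, MonObj.comp_one]
    show (t' ≫ i) ^ d = 1 ↔ _
    rw [e1, e2, cancel_mono]
    exact ⟨fun e => congrArg (fun f => f.left) e, fun e => Over.OverMorphism.ext e⟩
  choose C hC hCiff using hC
  let W : Set T₀.left := ⋂ d ∈ (Finset.range N).filter (fun d => 0 < d), (C d)ᶜ
  have hW : IsClopen W := isClopen_biInter_finset fun d _ => (hC d).compl
  let V : T₀.left.Opens := ⟨W, hW.isOpen⟩
  let Z : Over S := Over.mk (V.ι ≫ T₀.hom)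
  let ζ : Z ⟶ T₀ := Over.homMk V.ι rfl
  haveI : IsClosedImmersion V.ι := IsClosedImmersion.of_isPreimmersion V.ι (by rw [Scheme.Opens.range_ι]; exact hW.isClosed)
  have horder : ∀ {T : Over S} (v : T ⟶ T₀) (Ω : Type u) [Field Ω] (t : Spec (CommRingCat.of Ω) ⟶ T.left),
      orderOf ((Over.homMk t rfl : Over.mk (t ≫ T.hom) ⟶ T) ≫ v ≫ i) = N ↔ ∀ z, v.left (t z) ∈ W := by
    intro T v Ω _ t
    let x := (Over.homMk t rfl : Over.mk (t ≫ T.hom) ⟶ T) ≫ v ≫ i
    have hx : x ^ N = 1 := by
      show ((Over.homMk t rfl : Over.mk (t ≫ T.hom) ⟶ T) ≫ v ≫ i) ^ N = 1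
      rw [← Category.assoc]; exact hpow _
    have hd : ∀ d, x ^ d = 1 ↔ ∀ z, v.left (t z) ∈ C d := fun d => by
      have h := hCiff d Ω (t ≫ v.left)
      let φ : Over.mk (t ≫ T.hom) ≅ Over.mk ((t ≫ v.left) ≫ T₀.hom) :=
        Over.isoMk (Iso.refl _) (by simp [Over.w v])
      have e : x = φ.hom ≫ (Over.homMk (t ≫ v.left) rfl : Over.mk ((t ≫ v.left) ≫ T₀.hom) ⟶ T₀) ≫ i := by
        ext1
        simp [x, φ]
      rw [e, ← MonObj.comp_pow]
      constructor
      · intro h1
        refine h.1 ?_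
        rw [← cancel_epi φ.hom, h1, MonObj.comp_one]
      · intro h1
        rw [h.2 h1, MonObj.comp_one]
    show orderOf x = N ↔ _
    rw [orderOf_eq_iff (show 0 < N from hN)]
    constructor
    · intro ⟨_, h2⟩ z
      simp only [W, Set.mem_iInter, Finset.mem_filter, Finset.mem_range, Set.mem_compl_iff]
      intro d ⟨hdN, hd0⟩ hmem
      exact h2 d hdN hd0 ((hd d).2 fun z' => by rwa [Subsingleton.elim (α := PrimeSpectrum Ω) z' z])
    · intro h
      refine ⟨hx, fun d hdN hd0 e => ?_⟩
      let z₀ : ↥(Spec (CommRingCat.of Ω)) := (IsLocalRing.closedPoint Ω : PrimeSpectrum Ω)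
      have h' := h z₀
      simp only [W, Set.mem_iInter, Finset.mem_filter, Finset.mem_range, Set.mem_compl_iff] at h'
      exact h' d ⟨hdN, hd0⟩ ((hd d).1 e z₀)
  haveI : IsFinite Z.hom := inferInstanceAs (IsFinite (V.ι ≫ T₀.hom))
  haveI : Etale Z.hom := inferInstanceAs (Etale (V.ι ≫ T₀.hom))
  refine ⟨Z, ζ ≫ i, ‹_›, ‹_›, ⟨hpow ζ, fun Ω _ _ t => ?_⟩, fun T Q hQ hord => ?_⟩
  · exact (horder ζ Ω t).2 fun z => (t z).2
  · obtain ⟨v, rfl⟩ := lift Q hQ
    have hr : Set.range v.left ⊆ Set.range V.ι := by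
      rw [Scheme.Opens.range_ι]
      rintro _ ⟨y, rfl⟩
      let Ω := AlgebraicClosure (T.left.residueField y)
      let t : Spec (CommRingCat.of Ω) ⟶ T.left :=
        Spec.map (CommRingCat.ofHom (algebraMap (T.left.residueField y) Ω)) ≫ T.left.fromSpecResidueField y
      have h := (horder v Ω t).1 (hord Ω t) (IsLocalRing.closedPoint Ω : PrimeSpectrum Ω)
      rwa [show t (IsLocalRing.closedPoint Ω : PrimeSpectrum Ω) = y by
        rw [Scheme.Hom.comp_apply]; exact Scheme.fromSpecResidueField_apply y _] at h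
    let w : T ⟶ Z := Over.homMk (IsOpenImmersion.lift V.ι v.left hr) (by
      show IsOpenImmersion.lift V.ι v.left hr ≫ V.ι ≫ T₀.hom = T.hom
      rw [IsOpenImmersion.lift_fac_assoc, Over.w])
    have hw : w ≫ ζ = v := Over.OverMorphism.ext (IsOpenImmersion.lift_fac V.ι v.left hr)
    haveI : Mono ζ := (Over.forget S).mono_of_mono_map (inferInstanceAs (Mono V.ι))
    refine ⟨w, (Category.assoc _ _ _).symm.trans (by rw [hw]), fun w' hw' => ?_⟩
    rw [← cancel_mono ζ, ← cancel_mono i, hw, Category.assoc]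
    exact hw' 

end Groth.Agent.S16248
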