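import Groth.Statements.S16249
import Groth.Agent.JacLib.EllAbel
-- import your own Groth.Agent.* helpers here

set_option autoImplicit false
set_option backward.isDefEq.respectTransparency false
set_option backward.isDefEq.respectTransparency.types false
set_option linter.style.haveILetI false
universe u
open CategoryTheory CategoryTheory.Limits AlgebraicGeometry
open PicF

namespace Groth.Agent.S16249

open Groth.Agent

/-- Let f : E → S be a family of elliptic curves: f is proper and smooth of relative dimension one with
geometrically connected fibres whose structure sheaf has Euler characteristic 0 (genus one), and σ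
is a section of f. Then for every invertible O_E-module L whose restriction to every fibre of f has
degree zero (Euler characteristic equal to that of the structure sheaf of the fibre) there is
exactly one section P of f such that L ⊗ I_P ≅ I_σ ⊗ f^*M for some invertible O_S-module M, where
I_P and I_σ are the ideal sheaves of the closed subschemes P(S) and σ(S) of E. In other words P ↦
O(P − σ) is a bijection from E(S) onto the classes of fibrewise-degree-zero invertible modules
modulo modules pulled back from S. (The published statement goes on to say that E is thereby an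
S-group scheme, with P + Q = R exactly when O(P) ⊗ O(Q) ⊗ O(−σ) ≅ O(R) ⊗ f^*M for some invertible M
on the base — its printed formula has O(−R), a misprint — ; that transport of the group structure is
not part of this statement.) -/
theorem result
    {E S : Scheme.{u}} (f : E ⟶ S) [IsProper f] [SmoothOfRelativeDimension 1 f]
    (hc : GeometricallyConnected f)
    (hg : ∀ s : S, @FGA.eulerCharLE (S.residueField s) _ (f.fiber s) (f.fiberOverSpecResidueField s)
      (Coh.structureModule (f.fiber s)) 1 = 0)
    (σ : S ⟶ E) (hσ : σ ≫ f = 𝟙 S)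
    (L : E.Modules) (hL : PicF.IsInvertible L)
    (hL0 : ∀ s : S, @FGA.eulerCharLE (S.residueField s) _ (f.fiber s) (f.fiberOverSpecResidueField s)
      ((Scheme.Modules.pullback (f.fiberι s)).obj L) 1 = 0) :
    ∃! P : S ⟶ E, P ≫ f = 𝟙 S ∧ ∃ M : S.Modules, PicF.IsInvertible M ∧
      Nonempty (CohB1.tensorMod L (ClSub.idealMod P.ker) ≅
        CohB1.tensorMod (ClSub.idealMod σ.ker) ((Scheme.Modules.pullback f).obj M)) := by
  haveI := hc
  haveI : Smooth f := SmoothOfRelativeDimension.smooth 1 f
  have hdim : ∀ s : S, topologicalKrullDim ↥(f.fiber s) = 1 := fun s => by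
    haveI : SmoothOfRelativeDimension 1 (f.fiberToSpecResidueField s) :=
      haveI := smoothOfRelativeDimension_isStableUnderBaseChange (n := 1)
      MorphismProperty.pullback_snd (P := @SmoothOfRelativeDimension 1) f (S.fromSpecResidueField s) inferInstance
    exact (JacLib.topologicalKrullDim_of_smooth (f.fiberToSpecResidueField s) 1).trans (by simp)
  have hchi : ∀ (s : S) (M : E.Modules),
      @FGA.eulerCharLE (S.residueField s) _ (f.fiber s) (f.fiberOverSpecResidueField s)
        ((Scheme.Modules.pullback (f.fiberι s)).obj M) 1 = PicDegLib.chi f M s := fun s M => by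
    simp [FGA.eulerCharLE, Finset.sum_range_succ, PicDegLib.chi, sub_eq_add_neg]
    rfl
  have hchiO : ∀ s : S, PicDegLib.chi f (Coh.structureModule E) s = 0 := fun s => by
    rw [← hchi, ← hg s]
    letI : (f.fiber s).Over (Spec (CommRingCat.of (S.residueField s))) := f.fiberOverSpecResidueField s
    simp only [FGA.eulerCharLE]
    refine Finset.sum_congr rfl fun i _ => ?_
    rw [(BCLib.hhEquivL (A := S.residueField s) (AmpleLib.pullO (f.fiberι s)) i).finrank_eq]
  have hg1 : ∀ s : S, CohIII.fiberRank f (Coh.structureModule E) 1 s = 1 := fun s => by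
    have h := hchiO s
    rw [PicDegLib.chi, JacLib.fiberRank_zero f s] at h
    omega
  let T : Over S := Over.mk (𝟙 S)
  let q : PicF.XT f T ⟶ E := pullback.fst f (𝟙 S)
  haveI : IsIso q := inferInstanceAs (IsIso (pullback.fst f (𝟙 S)))
  have hinj : Function.Injective (PicLib.pull q) := fun a b h => by
    have := congrArg (PicLib.pull (inv q)) h
    rwa [← PicLib.pull_comp, ← PicLib.pull_comp, IsIso.inv_hom_id, PicLib.pull_id, PicLib.pull_id] at this
  have hw : q ≫ f = PicF.XTproj f T := pullback.condition.trans (Category.comp_id _)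
  let a := PicLib.pull q (PicLib.cls hL)
  have ha : JacLib.IsPZc f T a := by
    show JacLib.IsPZc f T (PicLib.pull q (PicLib.cls hL))
    rw [PicLib.pull_cls, JacLib.isPZc_iff f hdim T (AmpleLib.isInvertible_pullback q hL)]
    intro t
    haveI := PicDegLib.isQCoh_invertible hL
    refine (PicDegLib.deg_baseChange (IsPullback.of_hasPullback f (𝟙 S)) L t).trans ?_
    rw [PicDegLib.deg, hchiO, ← hchi, hL0, sub_zero]
  obtain ⟨N, hN, hNc⟩ := PicLib.exists_cls (a * JacLib.pt f (JacLib.basePt f σ hσ T))
  obtain ⟨x, M₀, hx⟩ := JacLib.exists_point_mul f hdim hg1 hN (JacLib.deg_mul_pt f hdim ha _ hN hNc)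
  rw [hNc] at hx
  obtain ⟨M, hM, rfl⟩ := PicLib.exists_cls M₀
  have key : ∀ (P : S ⟶ E) (hP : P ≫ f = 𝟙 S) (M : S.Modules) (hM : PicF.IsInvertible M),
      Nonempty (CohB1.tensorMod L (ClSub.idealMod P.ker) ≅
        CohB1.tensorMod (ClSub.idealMod σ.ker) ((Scheme.Modules.pullback f).obj M)) ↔
      a * JacLib.pt f (JacLib.basePt f σ hσ T) =
        JacLib.pt f (JacLib.basePt f P hP T) * PicLib.pull (PicF.XTproj f T) (PicLib.cls (X := T.left) hM) := by
    intro P hP M hM
    have hIP := JacLib.isInvertible_ker_of_section f P hP
    have hIσ := JacLib.isInvertible_ker_of_section f σ hσ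
    have hfM : PicF.IsInvertible ((Scheme.Modules.pullback f).obj M) := AmpleLib.isInvertible_pullback f hM
    rw [← PicLib.cls_eq_cls (AmpleLib.isInvertible_tensor hL hIP) (AmpleLib.isInvertible_tensor hIσ hfM),
      PicLib.cls_tensor hL hIP, PicLib.cls_tensor hIσ hfM, ← hinj.eq_iff, map_mul, map_mul,
      show PicLib.pull q (PicLib.cls hIP) = _ from JacLib.pull_fst_cls_section f P hP T hIP,
      show PicLib.pull q (PicLib.cls hIσ) = _ from JacLib.pull_fst_cls_section f σ hσ T hIσ,
      ← PicLib.pull_cls f hM, ← PicLib.pull_comp, hw]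
    show a * _ = _ ↔ _
    rw [mul_inv_eq_iff_eq_mul, mul_assoc, eq_inv_mul_iff_mul_eq, mul_comm a]
    exact ⟨fun h => h.trans (mul_comm _ _), fun h => h.trans (mul_comm _ _)⟩
  have hxb : JacLib.basePt f x.left (Over.w x) T = x := Over.OverMorphism.ext (Category.id_comp _)
  refine ⟨x.left, ⟨Over.w x, M, hM, (key _ (Over.w x) M hM).2 (by rw [hxb]; exact hx)⟩, ?_⟩
  rintro P ⟨hP, M', hM', h⟩
  have h' := ((key P hP M' hM').1 h).symm.trans hx
  have := JacLib.eq_of_pt_mul_eq f hdim hg1 h'
  exact (Category.id_comp P).symm.trans (congrArg CommaMorphism.left this)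

end Groth.Agent.S16249
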