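import Groth.Statements.S16250
import Groth.Agent.EllGrpLib.Basic
import Groth.Agent.JacLib.Deg

set_option backward.isDefEq.respectTransparency false
set_option backward.isDefEq.respectTransparency.types false
set_option linter.style.haveILetI false
set_option maxHeartbeats 1600000

set_option autoImplicit false
universe u
open CategoryTheory CategoryTheory.Limits AlgebraicGeometry MonObj
open AgPol

namespace Groth.Agent.S16250

/-- Let f : E → S be a family of elliptic curves: proper, smooth of relative dimension one, with
geometrically connected fibres whose structure sheaf has Euler characteristic 0 (genus one),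
together with a section σ. Then E, regarded over S, carries one and only one structure of S-group
scheme whose multiplication on T-valued points (T any S-scheme) is characterised by: P·Q = R if and
only if I_P ⊗ I_Q ≅ I_R ⊗ I_{σ_T} ⊗ q^*M on E_T = E ×_S T for some invertible O_T-module M, where q
: E_T → T is the projection, I_P denotes the ideal sheaf of the section of q induced by P, and σ_T
is the section induced by σ; in divisor notation O(P) ⊗ O(Q) ⊗ O(−σ) ≅ O(R) up to a module pulled
back from T. (The published display of this relation carries O(−R) instead of O(R), a misprint: the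
fibre degrees would be 1 and −1.) -/
theorem result
    {E S : Scheme.{u}} (f : E ⟶ S) [IsProper f] [SmoothOfRelativeDimension 1 f]
    (hc : GeometricallyConnected f)
    (hg : ∀ s : S, @FGA.eulerCharLE (S.residueField s) _ (f.fiber s) (f.fiberOverSpecResidueField s)
      (Coh.structureModule (f.fiber s)) 1 = 0)
    (σ : S ⟶ E) (hσ : σ ≫ f = 𝟙 S) :
    ∃! g : GrpObj (Over.mk f), ∀ (T : Over S) (P Q R : T ⟶ Over.mk f),
      P * Q = R ↔ ∃ M : T.left.Modules, PicF.IsInvertible M ∧
        Nonempty (CohB1.tensorMod
            (ClSub.idealMod (pullback.lift P.left (𝟙 T.left)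
              ((Over.w P).trans (Category.id_comp T.hom).symm) : T.left ⟶ PicF.XT f T).ker)
            (ClSub.idealMod (pullback.lift Q.left (𝟙 T.left)
              ((Over.w Q).trans (Category.id_comp T.hom).symm) : T.left ⟶ PicF.XT f T).ker) ≅
          CohB1.tensorMod (CohB1.tensorMod
            (ClSub.idealMod (pullback.lift R.left (𝟙 T.left)
              ((Over.w R).trans (Category.id_comp T.hom).symm) : T.left ⟶ PicF.XT f T).ker)
            (ClSub.idealMod (PicF.secT f σ hσ T).ker))
            ((Scheme.Modules.pullback (PicF.XTproj f T)).obj M)) := by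
  haveI := hc
  haveI : Smooth f := SmoothOfRelativeDimension.smooth 1 f
  have hdim : ∀ s : S, topologicalKrullDim ↥(f.fiber s) = 1 := fun s => by
    haveI : SmoothOfRelativeDimension 1 (f.fiberToSpecResidueField s) :=
      haveI := smoothOfRelativeDimension_isStableUnderBaseChange (n := 1)
      MorphismProperty.pullback_snd (P := @SmoothOfRelativeDimension 1) f (S.fromSpecResidueField s) inferInstance
    exact (Groth.Agent.JacLib.topologicalKrullDim_of_smooth (f.fiberToSpecResidueField s) 1).trans (by simp)
  have hg1 : ∀ s : S, CohIII.fiberRank f (Coh.structureModule E) 1 s = 1 := fun s => by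
    have h := hg s
    letI : (f.fiber s).Over (Spec (CommRingCat.of (S.residueField s))) := f.fiberOverSpecResidueField s
    simp only [FGA.eulerCharLE, Finset.sum_range_succ, Finset.sum_range_zero, pow_zero, pow_one, one_mul, zero_add] at h
    have e : ∀ i, CohIII.fiberRank f (Coh.structureModule E) i s =
        Module.finrank (S.residueField s) (Coh.HH (f.fiber s) (Coh.structureModule (f.fiber s)) i) := fun i =>
      (Groth.Agent.BCLib.hhEquivL (A := S.residueField s) (Groth.Agent.AmpleLib.pullO (f.fiberι s)) i).finrank_eq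
    have h0 := Groth.Agent.JacLib.fiberRank_zero f s
    rw [e] at h0
    rw [e]
    omega
  letI G := Groth.Agent.EllGrpLib.ellGrp f hdim hg1 σ hσ
  have key : ∀ (T : Over S) (P Q R : T ⟶ Over.mk f), P * Q = R ↔
      ∃ M : T.left.Modules, PicF.IsInvertible M ∧
        Nonempty (CohB1.tensorMod
            (ClSub.idealMod (pullback.lift P.left (𝟙 T.left)
              ((Over.w P).trans (Category.id_comp T.hom).symm) : T.left ⟶ PicF.XT f T).ker)
            (ClSub.idealMod (pullback.lift Q.left (𝟙 T.left)
              ((Over.w Q).trans (Category.id_comp T.hom).symm) : T.left ⟶ PicF.XT f T).ker) ≅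
          CohB1.tensorMod (CohB1.tensorMod
            (ClSub.idealMod (pullback.lift R.left (𝟙 T.left)
              ((Over.w R).trans (Category.id_comp T.hom).symm) : T.left ⟶ PicF.XT f T).ker)
            (ClSub.idealMod (PicF.secT f σ hσ T).ker))
            ((Scheme.Modules.pullback (PicF.XTproj f T)).obj M)) := by
    intro T P Q R
    haveI : SmoothOfRelativeDimension 1 (PicF.XTproj f T) :=
      haveI := smoothOfRelativeDimension_isStableUnderBaseChange (n := 1)
      MorphismProperty.pullback_snd (P := @SmoothOfRelativeDimension 1) f T.hom inferInstance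
    haveI : IsSeparated (PicF.XTproj f T) := inferInstanceAs (IsSeparated (pullback.snd f T.hom))
    have hI : ∀ x : T ⟶ Over.mk f, PicF.IsInvertible (ClSub.idealMod (Groth.Agent.JacLib.graph f x).ker) := fun x =>
      Groth.Agent.JacLib.isInvertible_ker_of_section (PicF.XTproj f T) _ (pullback.lift_snd _ _ _)
    have hc : ∀ x : T ⟶ Over.mk f, Groth.Agent.PicLib.cls (hI x) = (Groth.Agent.JacLib.pt f x)⁻¹ := fun x => by
      rw [Groth.Agent.JacLib.pt_eq f x (hI x), inv_inv]
    let b := Groth.Agent.JacLib.basePt f σ hσ T
    have hb : PicF.secT f σ hσ T = Groth.Agent.JacLib.graph f b := rfl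
    rw [hb]
    have hiff : P * Q = R ↔ ∃ M : Groth.Agent.PicLib.Pic T.left, Groth.Agent.JacLib.pt f P * Groth.Agent.JacLib.pt f Q =
        Groth.Agent.JacLib.pt f R * Groth.Agent.JacLib.pt f b * Groth.Agent.PicLib.pull (PicF.XTproj f T) M := by
      rw [← Groth.Agent.EllGrpLib.psi_eq_mul_iff f σ hσ, ← Groth.Agent.EllGrpLib.psi_mul f hdim hg1 σ hσ,
        (Groth.Agent.EllGrpLib.psi_injective f hdim hg1 σ hσ T).eq_iff]
    rw [hiff]
    constructor
    · rintro ⟨M, hM⟩
      obtain ⟨N, hN, hNc⟩ := Groth.Agent.PicLib.exists_cls M⁻¹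
      refine ⟨N, hN, (Groth.Agent.PicLib.cls_eq_cls (Groth.Agent.AmpleLib.isInvertible_tensor (hI P) (hI Q))
        (Groth.Agent.AmpleLib.isInvertible_tensor (Groth.Agent.AmpleLib.isInvertible_tensor (hI R) (hI b))
          (Groth.Agent.AmpleLib.isInvertible_pullback _ hN))).1 ?_⟩
      rw [Groth.Agent.PicLib.cls_tensor (hI P) (hI Q),
        Groth.Agent.PicLib.cls_tensor (Groth.Agent.AmpleLib.isInvertible_tensor (hI R) (hI b)) (Groth.Agent.AmpleLib.isInvertible_pullback _ hN),
        Groth.Agent.PicLib.cls_tensor (hI R) (hI b), ← Groth.Agent.PicLib.pull_cls _ hN, hNc, map_inv, hc, hc, hc, hc,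
        ← mul_inv, hM, mul_inv, mul_inv]
    · rintro ⟨N, hN, hiso⟩
      refine ⟨(Groth.Agent.PicLib.cls hN)⁻¹, ?_⟩
      have h := (Groth.Agent.PicLib.cls_eq_cls (Groth.Agent.AmpleLib.isInvertible_tensor (hI P) (hI Q))
        (Groth.Agent.AmpleLib.isInvertible_tensor (Groth.Agent.AmpleLib.isInvertible_tensor (hI R) (hI b))
          (Groth.Agent.AmpleLib.isInvertible_pullback _ hN))).2 hiso
      rw [Groth.Agent.PicLib.cls_tensor (hI P) (hI Q),
        Groth.Agent.PicLib.cls_tensor (Groth.Agent.AmpleLib.isInvertible_tensor (hI R) (hI b)) (Groth.Agent.AmpleLib.isInvertible_pullback _ hN),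
        Groth.Agent.PicLib.cls_tensor (hI R) (hI b), ← Groth.Agent.PicLib.pull_cls _ hN, hc, hc, hc, hc] at h
      rw [map_inv, ← inv_inj, mul_inv, mul_inv, mul_inv, inv_inv, h]
  refine ⟨G, key, fun g hg' => ?_⟩
  refine GrpObj.ext g G (MonObj.ext _ _ ?_)
  have e1 : ∀ (T : Over S) (P Q : T ⟶ Over.mk f), (letI := g; P * Q) = (letI := G; P * Q) := fun T P Q =>
    (hg' T P Q _).2 ((key T P Q (letI := G; P * Q)).1 rfl)
  have h := e1 _ (CartesianMonoidalCategory.fst (Over.mk f) (Over.mk f)) (CartesianMonoidalCategory.snd (Over.mk f) (Over.mk f))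
  have e2 : ∀ M : MonObj (Over.mk f), (letI := M; (CartesianMonoidalCategory.fst (Over.mk f) (Over.mk f) *
      CartesianMonoidalCategory.snd (Over.mk f) (Over.mk f))) = M.mul := fun M => by
    show CartesianMonoidalCategory.lift (CartesianMonoidalCategory.fst _ _) (CartesianMonoidalCategory.snd _ _) ≫ M.mul = M.mul
    rw [CartesianMonoidalCategory.lift_fst_snd, Category.id_comp]
  exact (e2 g.toMonObj).symm.trans (h.trans (e2 G.toMonObj))

end Groth.Agent.S16250
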