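import Groth.Statements.S16251
import Groth.Agent.FLCLib.Sub
import Groth.Agent.FLCLib.Ops
import Groth.Agent.FLCLib.Descent
-- import your own Groth.Agent.* helpers here

set_option autoImplicit false
open CategoryTheory CategoryTheory.Limits AlgebraicGeometry Opposite
set_option backward.isDefEq.respectTransparency false
universe u
open EtPBC

namespace Groth.Agent.S16251

/-- Let ℓ be a prime, X a locally Noetherian scheme and F = (F_n) an ℓ-adic projective system of abelian
sheaves on the small étale site of X, indexed from 0 (so ℓ^(n+1) F_n = 0 and, for n ≤ m, the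
transition map F_m ⟶ F_n is a quotient map modulo ℓ^(n+1)). If the first member F_0 is
constructible, then every member F_n is constructible. (The converse is trivial. The published
statement indexes the system from 1, with ℓ^n killing the n-th member; the statement here indexes it
from 0.) -/
theorem result (ℓ : ℕ) [Fact ℓ.Prime]
    (X : Scheme.{u}) [IsLocallyNoetherian X]
    (F : ARSys.PS (EtCoh.Ab X)) (hF : ARSys.IsAdic (Ideal.span {(ℓ : ℤ)}) F)
    (h0 : EtPBC.IsConstructible (F.obj (op 0))) (n : ℕ) :
    EtPBC.IsConstructible (F.obj (op n)) := by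
  induction n with
  | zero => exact h0
  | succ n ih =>
    let J := Ideal.span {(ℓ : ℤ)}
    let a : ℤ := (ℓ : ℤ) ^ (n + 1)
    let X₁ := F.obj (op (n + 1))
    let f : X₁ ⟶ X₁ := a • 𝟙 X₁
    let t : X₁ ⟶ F.obj (op n) := ARSys.tr F (Nat.le_succ n)
    obtain ⟨hkill, hquot⟩ := hF
    obtain ⟨hQk, hQu⟩ := hquot n (n + 1) (Nat.le_succ n)
    have ha : a ∈ J ^ (n + 1) := Ideal.pow_mem_pow (Ideal.mem_span_singleton_self _) _
    have hmem : ∀ b ∈ J ^ (n + 1), ∃ c, c * a = b := fun b hb => by
      rw [Ideal.span_singleton_pow, Ideal.mem_span_singleton'] at hb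
      exact hb
    have hft : f ≫ t = 0 := by
      rw [Linear.smul_comp, Category.id_comp, ← Category.comp_id t, ← Linear.comp_smul]
      exact (congrArg (t ≫ ·) (hQk a ha)).trans comp_zero
    have hfc : ARSys.HomKilledBy (J ^ (n + 1)) (cokernel.π f) := fun b hb => by
      obtain ⟨c, rfl⟩ := hmem b hb
      rw [mul_smul, ← Category.id_comp (cokernel.π f), ← Linear.smul_comp]
      exact (congrArg (c • ·) (cokernel.condition f)).trans (smul_zero c)
    obtain ⟨ψ, hψ, -⟩ := hQu _ _ hfc
    obtain ⟨χ, -, huniq⟩ := hQu _ t (fun b hb => by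
      rw [← Category.comp_id t, ← Linear.comp_smul]
      exact (congrArg (t ≫ ·) (hQk b hb)).trans comp_zero)
    have h1 : ψ ≫ cokernel.desc f t hft = 𝟙 _ := by
      rw [huniq (ψ ≫ cokernel.desc f t hft) ((Category.assoc _ _ _).symm.trans ((congrArg (· ≫ cokernel.desc f t hft) hψ).trans (cokernel.π_desc _ _ _))),
        huniq (𝟙 _) (Category.comp_id t)]
    let e : cokernel f ≅ F.obj (op n) :=
      ⟨cokernel.desc f t hft, ψ, by rw [← cancel_epi (cokernel.π f), cokernel.π_desc_assoc, hψ, Category.comp_id], h1⟩
    let p := factorThruImage f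
    have hp : ARSys.HomKilledBy (J ^ (0 + 1)) p := fun b hb => by
      rw [pow_one, Ideal.mem_span_singleton'] at hb
      obtain ⟨c, rfl⟩ := hb
      rw [← cancel_mono (image.ι f), zero_comp, Linear.smul_comp, image.fac, smul_smul, mul_assoc]
      have hl : ((ℓ : ℤ) * a) ∈ J ^ (n + 1 + 1) := by
        rw [pow_succ' J]
        exact Ideal.mul_mem_mul (Ideal.mem_span_singleton_self _) ha
      rw [mul_smul]
      exact (congrArg (c • ·) (hkill (n + 1) _ hl)).trans (smul_zero c)
    obtain ⟨π, hπ, -⟩ := (hquot 0 (n + 1) (Nat.zero_le _)).2 _ p hp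
    haveI : Epi p := inferInstance
    haveI : Epi π := epi_of_epi_fac hπ
    have hK : EtPBC.IsConstructible (kernel π) :=
      ((FLCLib.genCard_of_isConstructible h0).genConst.sub (kernel.ι π)).isConstructible
    have hI : EtPBC.IsConstructible (Limits.image f) := FLCLib.isConstructible_of_iso
      (IsColimit.coconePointUniqueUpToIso (colimit.isColimit _) (Abelian.epiIsCokernelOfKernel _ (kernelIsKernel π)))
      (FLCLib.isConstructible_kernel_cokernel (kernel.ι π) hK h0).2
    have hw : image.ι f ≫ cokernel.π f = 0 := by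
      rw [← cancel_epi (factorThruImage f), image.fac_assoc, cokernel.condition, comp_zero]
    refine FLCLib.isConstructible_extension (ShortComplex.mk (image.ι f) (cokernel.π f) hw) ⟨?_⟩ hI
      (FLCLib.isConstructible_of_iso e.symm ih)
    exact ShortComplex.exact_of_g_is_cokernel _ (CokernelCofork.IsColimit.ofπ (cokernel.π f) hw
      (fun g hg => cokernel.desc f g (by rw [← image.fac f, Category.assoc, hg, comp_zero]))
      (fun g hg => cokernel.π_desc _ _ _) (fun g hg m hm => by
        rw [← cancel_epi (cokernel.π f), hm, cokernel.π_desc]))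

end Groth.Agent.S16251
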