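import Groth.Statements.S16253
import Groth.Agent.JacLocusLib.Embed

set_option autoImplicit false
universe u
open CategoryTheory CategoryTheory.Limits AlgebraicGeometry TopologicalSpace
open SDiv

namespace Groth.Agent.S16253

open IsLocalRing
open scoped TensorProduct

set_option backward.isDefEq.respectTransparency false
set_option backward.defeqAttrib.useBackward true
set_option linter.style.haveILetI false

/-- Generators of the differentials of a local ring of an affine chart, read on the algebra of the chart. -/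
theorem span_chart {X Y : Scheme.{u}} (f : X ⟶ Y) (x : X) {W : Y.Opens} {U : X.Opens} (hU : IsAffineOpen U)
    (e : U ≤ f ⁻¹ᵁ W) (hxU : x ∈ U) (p : ℕ)
    (h : letI := (JacLocusLib.baseAlg f x (e hxU)).toAlgebra
      ∃ g : Fin p → Ω[X.presheaf.stalk x⁄Γ(Y, W)], Submodule.span (X.presheaf.stalk x) (Set.range g) = ⊤) :
    letI := (f.appLE W U e).hom.toAlgebra
    ∃ v : Fin p → Ω[Localization.AtPrime (hU.primeIdealOf ⟨x, hxU⟩).asIdeal⁄Γ(Y, W)],
      Submodule.span (Localization.AtPrime (hU.primeIdealOf ⟨x, hxU⟩).asIdeal) (Set.range v) = ⊤ := by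
  let R := Γ(Y, W)
  let S := Γ(X, U)
  let T := X.presheaf.stalk x
  let q := (hU.primeIdealOf ⟨x, hxU⟩).asIdeal
  let T' := Localization.AtPrime q
  letI := (f.appLE W U e).hom.toAlgebra
  letI := (JacLocusLib.baseAlg f x (e hxU)).toAlgebra
  letI : Algebra S T := TopCat.Presheaf.algebra_section_stalk X.presheaf ⟨x, hxU⟩
  haveI := hU.isLocalization_stalk ⟨x, hxU⟩
  haveI : IsScalarTower R S T := .of_algebraMap_eq' (JacLocusLib.baseAlg_eq_appLE f x e hxU)
  let ε : T ≃ₐ[S] T' := IsLocalization.algEquiv q.primeCompl _ _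
  letI : Algebra T T' := ε.toRingEquiv.toRingHom.toAlgebra
  haveI : IsScalarTower R T T' := .of_algebraMap_eq fun r => by
    rw [IsScalarTower.algebraMap_apply R S T', IsScalarTower.algebraMap_apply R S T]
    exact (ε.commutes _).symm
  obtain ⟨g, hg⟩ := h
  exact ⟨_, JacLocusLib.span_transfer (R' := R) (T' := T') ε.surjective g hg⟩

/-- Let f : X ⟶ Y be locally of finite presentation and quasi-separated and p ≥ 0, and let J^p(X/Y) ⊆ X
be the closed subset cut out by the p-th Fitting ideal of the module of differentials Ω_{X/Y} (the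
p-th Jacobian locus). Then a point x of X lies outside J^p(X/Y) if and only if x has an open
neighbourhood U admitting a closed immersion over Y into a Y-scheme U' which is smooth of relative
dimension p over Y. (The published statement takes f of finite presentation and asks U' smooth over
Y with fibre dimension p at x; after shrinking U' this is smoothness of relative dimension p.
Quasi-separatedness of f is assumed because the module Ω_{X/Y} used here is defined for such f.) -/
theorem result
    {X Y : Scheme.{u}} (f : X ⟶ Y) [LocallyOfFinitePresentation f] [QuasiSeparated f] (p : ℕ) (x : ↥X) :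
    x ∉ (Fitt.sheafIdeal (Omega.sheaf f) p).support ↔
      ∃ (U : X.Opens) (U' : Scheme.{u}) (i : (U : Scheme.{u}) ⟶ U') (g : U' ⟶ Y),
        x ∈ U ∧ IsClosedImmersion i ∧ SmoothOfRelativeDimension p g ∧ i ≫ g = U.ι ≫ f := by
  obtain ⟨W, hW, hxW, -⟩ := exists_isAffineOpen_mem_and_subset (X := Y) (x := f x) (U := ⊤) trivial
  rw [JacLocusLib.notMem_support_omega_iff f p x hW hxW]
  letI := (JacLocusLib.baseAlg f x hxW).toAlgebra
  haveI := JacLocusLib.finite_kaehler f x hW hxW
  rw [← JacLocusLib.exists_span_iff_finrank_le]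
  constructor
  · intro hspan
    obtain ⟨U, hU, hxU, e⟩ := exists_isAffineOpen_mem_and_subset (X := X) (x := x) (U := f ⁻¹ᵁ W) hxW
    have hv := span_chart f x hU e hxU p hspan
    haveI := f.finitePresentation_appLE hW hU e
    algebraize [(f.appLE W U e).hom]
    haveI : Algebra.FinitePresentation Γ(Y, W) Γ(X, U) := f.finitePresentation_appLE hW hU e
    obtain ⟨g, hg, D, hD, φ, hφ, ψ, hψ, hψφ⟩ :=
      JacLocusLib.exists_embed (hU.primeIdealOf ⟨x, hxU⟩).asIdeal p hv
    letI : Algebra Γ(X, U) Γ(X, X.basicOpen g) := (X.presheaf.map (homOfLE (X.basicOpen_le g)).op).hom.toAlgebra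
    haveI := hU.isLocalization_basicOpen g
    let ε := IsLocalization.algEquiv (Submonoid.powers g) (Localization.Away g) Γ(X, X.basicOpen g)
    let θ : CommRingCat.of D ⟶ Γ(X, X.basicOpen g) := CommRingCat.ofHom (ε.toRingEquiv.toRingHom.comp ψ)
    haveI : IsClosedImmersion (Spec.map θ) := IsClosedImmersion.spec_of_surjective _ (ε.surjective.comp hψ)
    haveI : SmoothOfRelativeDimension p (Spec.map (CommRingCat.ofHom φ)) :=
      (HasRingHomProperty.Spec_iff (P := @SmoothOfRelativeDimension p)).mpr
        (RingHom.locally_of RingHom.isStandardSmoothOfRelativeDimension_respectsIso _ hφ)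
    refine ⟨X.basicOpen g, Spec (CommRingCat.of D), (hU.basicOpen g).isoSpec.hom ≫ Spec.map θ,
      Spec.map (CommRingCat.ofHom φ) ≫ hW.fromSpec, (PullbackMod.primeCompl_primeIdealOf hU x hxU g).mp hg,
      inferInstance, ?_, ?_⟩
    · exact inferInstanceAs (SmoothOfRelativeDimension (p + 0) (Spec.map (CommRingCat.ofHom φ) ≫ hW.fromSpec))
    · have eg : X.basicOpen g ≤ f ⁻¹ᵁ W := (X.basicOpen_le g).trans e
      have h1 : CommRingCat.ofHom φ ≫ θ = f.appLE W (X.basicOpen g) eg := by
        rw [← Scheme.Hom.appLE_map f e (homOfLE (X.basicOpen_le g)).op]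
        refine CommRingCat.hom_ext ?_
        show (ε.toRingEquiv.toRingHom.comp ψ).comp φ = _
        rw [RingHom.comp_assoc, hψφ, IsScalarTower.algebraMap_eq Γ(Y, W) Γ(X, U) (Localization.Away g),
          ← RingHom.comp_assoc]
        exact congrArg (fun r => RingHom.comp r (f.appLE W U e).hom) (AlgHom.comp_algebraMap ε.toAlgHom)
      rw [Category.assoc, ← Spec.map_comp_assoc, h1, IsAffineOpen.SpecMap_appLE_fromSpec f hW (hU.basicOpen g) eg,
        ← Category.assoc, IsAffineOpen.isoSpec_hom, IsAffineOpen.toSpecΓ_fromSpec]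
  · rintro ⟨U, U', i, π, hxU, hi, hπ, hfac⟩
    let u : U := ⟨x, hxU⟩
    have hz : π (i u) ∈ W := by
      show (i ≫ π) u ∈ W
      rw [hfac]; exact hxW
    let R := Γ(Y, W)
    let P := U'.presheaf.stalk (i u)
    let T := X.presheaf.stalk x
    letI : Algebra R P := (JacLocusLib.baseAlg π (i u) hz).toAlgebra
    letI : Algebra P T := (JacLocusLib.localMap i u).toAlgebra
    haveI : IsScalarTower R P T := .of_algebraMap_eq' (JacLocusLib.localMap_comp f i π hfac u hz hxW).symm
    obtain ⟨-, hfree, hfin, hrank⟩ := JacLocusLib.kaehler_data p π (i u) hW hz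
    let b := (Module.finBasis P Ω[P⁄R]).reindex (finCongr hrank)
    exact ⟨_, JacLocusLib.span_transfer (R' := R) (T' := T)
      ((ConcreteCategory.bijective_of_isIso (inv (U.ι.stalkMap u))).2.comp (i.stalkMap_surjective u)) b b.span_eq⟩

end Groth.Agent.S16253
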