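import Groth.Statements.S16255
import Mathlib
import Groth.Prelude.Def_QuadSing
import Groth.Agent.WildQuotLib.PSReg
import Groth.Agent.MorseLib.PowerSeries
import Groth.Agent.PSSmoothLib.Basic
import Groth.Agent.FiniteCompleteLib.Basic
import Groth.Agent.AdicCongr.Basic

set_option autoImplicit false
universe u
open VanCyc

namespace Groth.Agent.S16255

noncomputable section

variable {k : Type u} [Field k] {n : ℕ}

local notation "PS" => MvPowerSeries (Fin n) k
local notation "cc" => (MvPowerSeries.constantCoeff : MvPowerSeries (Fin n) k →+* k)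

/-- Linear coefficients. -/
def L1 (l : Fin n) (F : MvPowerSeries (Fin n) k) : k := cc (MvPowerSeries.pderiv k l F)

/-- Second derivatives at the origin. -/
def D2 (i l : Fin n) (F : MvPowerSeries (Fin n) k) : k :=
  cc (MvPowerSeries.pderiv k l (MvPowerSeries.pderiv k i F))

theorem L1_eq (l : Fin n) (F : PS) : L1 l F = MvPowerSeries.coeff (Finsupp.single l 1) F := by
  rw [L1, ← MvPowerSeries.coeff_zero_eq_constantCoeff_apply, MvPowerSeries.coeff_pderiv]
  simp

theorem L1_mul (l : Fin n) (F G : PS) : L1 l (F * G) = cc F * L1 l G + cc G * L1 l F := by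
  simp [L1]

theorem L1_add (l : Fin n) (F G : PS) : L1 l (F + G) = L1 l F + L1 l G := by simp [L1]

theorem L1_sum {ι : Type*} (l : Fin n) (s : Finset ι) (F : ι → PS) :
    L1 l (∑ i ∈ s, F i) = ∑ i ∈ s, L1 l (F i) := by simp [L1]

theorem L1_sub (l : Fin n) (F G : PS) : L1 l (F - G) = L1 l F - L1 l G := by simp [L1]

theorem L1_C (l : Fin n) (c : k) : L1 l (MvPowerSeries.C c : PS) = 0 := by simp [L1]

theorem L1_X (l j : Fin n) : L1 l (MvPowerSeries.X j : PS) = if j = l then 1 else 0 := by
  rw [L1_eq, MvPowerSeries.coeff_index_single_X]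
  simp [eq_comm]

theorem D2_add (i l : Fin n) (F G : PS) : D2 i l (F + G) = D2 i l F + D2 i l G := by simp [D2]

theorem D2_sum {ι : Type*} (i l : Fin n) (s : Finset ι) (F : ι → PS) :
    D2 i l (∑ j ∈ s, F j) = ∑ j ∈ s, D2 i l (F j) := by simp [D2]

theorem D2_sub (i l : Fin n) (F G : PS) : D2 i l (F - G) = D2 i l F - D2 i l G := by simp [D2]

theorem D2_C_mul (i l : Fin n) (c : k) (F : PS) :
    D2 i l (MvPowerSeries.C c * F) = c * D2 i l F := by simp [D2]

theorem D2_mul (i l : Fin n) (F G : PS) :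
    D2 i l (F * G) = cc F * D2 i l G + cc G * D2 i l F + L1 i F * L1 l G + L1 i G * L1 l F := by
  simp [D2, L1]
  ring

theorem mem_aug_sq (F : PS) (h0 : cc F = 0) (h1 : ∀ l, L1 l F = 0) : F ∈ MorseLib.aug k n ^ 2 := by
  rw [MorseLib.mem_pow_iff]
  intro d hd
  by_cases hd0 : d = 0
  · subst hd0; rw [MvPowerSeries.coeff_zero_eq_constantCoeff_apply, h0]
  obtain ⟨i, hi⟩ := Finsupp.support_nonempty_iff.mpr hd0
  have hle : Finsupp.single i 1 ≤ d :=
    Finsupp.single_le_iff.mpr (Nat.one_le_iff_ne_zero.mpr (Finsupp.mem_support_iff.mp hi))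
  have hdeg := congrArg Finsupp.degree (tsub_add_cancel_of_le hle)
  rw [map_add, Finsupp.degree_single] at hdeg
  have hz : d - Finsupp.single i 1 = 0 := (Finsupp.degree_eq_zero_iff _).1 (by omega)
  have : d = Finsupp.single i 1 := by
    rw [← tsub_add_cancel_of_le hle, hz, zero_add]
  rw [this, ← L1_eq, h1]

theorem of_mem_sq {F : PS} (hF : F ∈ MorseLib.aug k n ^ 2) : cc F = 0 ∧ ∀ l, L1 l F = 0 := by
  have h := (MorseLib.mem_pow_iff 2 F).1 hF
  exact ⟨by rw [← MvPowerSeries.coeff_zero_eq_constantCoeff_apply]; exact h 0 (by simp),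
    fun l => by rw [L1_eq]; exact h _ (by simp)⟩

theorem D2_cube {F : PS} (hF : F ∈ MorseLib.aug k n ^ 3) (i l : Fin n) : D2 i l F = 0 := by
  rw [pow_succ] at hF
  induction hF using Submodule.mul_induction_on' with
  | mem_mul_mem u hu v hv =>
    obtain ⟨h0, h1⟩ := of_mem_sq hu
    rw [D2_mul, h0, show cc v = 0 from hv, h1, h1]; ring
  | add a _ b _ ha hb => rw [D2_add, ha, hb, add_zero]

theorem D2_eq_polar (F : PS) (i l : Fin n) :
    D2 i l F = VanCyc.polarMatrix (VanCyc.quadPart F) i l := by
  rw [D2, ← MvPowerSeries.coeff_zero_eq_constantCoeff_apply, MvPowerSeries.coeff_pderiv,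
    MvPowerSeries.coeff_pderiv]
  rcases lt_trichotomy i l with h | h | h
  · rw [zero_add, Finsupp.single_eq_of_ne h.ne]
    simp [VanCyc.polarMatrix, VanCyc.quadPart, h.ne, h, add_comm]
  · subst h
    rw [zero_add, ← Finsupp.single_add]
    simp [VanCyc.polarMatrix, VanCyc.quadPart]
    ring
  · rw [zero_add, Finsupp.single_eq_of_ne h.ne']
    simp [VanCyc.polarMatrix, VanCyc.quadPart, h.ne, h.ne', h, h.not_gt]

/-- The Hessian at the origin. -/
def hess (F : MvPowerSeries (Fin n) k) : Matrix (Fin n) (Fin n) k := Matrix.of fun i l => D2 i l F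

theorem hess_eq (F : PS) : hess F = VanCyc.polarMatrix (VanCyc.quadPart F) :=
  Matrix.ext fun i l => D2_eq_polar F i l

theorem exists_quad (G : PS) (hG : G ∈ MorseLib.aug k n ^ 2) : ∃ c : Fin n → Fin n → k,
    G - ∑ i, ∑ j, MvPowerSeries.C (c i j) * (MvPowerSeries.X i * MvPowerSeries.X j) ∈
      MorseLib.aug k n ^ 3 := by
  rw [sq] at hG
  induction hG using Submodule.mul_induction_on' with
  | mem_mul_mem u hu v hv =>
    refine ⟨fun i j => L1 i u * L1 j v, ?_⟩
    let u₁ : PS := ∑ i, MvPowerSeries.C (L1 i u) * MvPowerSeries.X i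
    let v₁ : PS := ∑ j, MvPowerSeries.C (L1 j v) * MvPowerSeries.X j
    have hlin : ∀ w : PS, w ∈ MorseLib.aug k n →
        w - ∑ i, MvPowerSeries.C (L1 i w) * MvPowerSeries.X i ∈ MorseLib.aug k n ^ 2 := by
      intro w hw
      refine mem_aug_sq _ ?_ fun l => ?_
      · simp [show cc w = 0 from hw]
      · simp [L1_sub, L1_sum, L1_mul, L1_C, L1_X]
    have hv₁ : v₁ ∈ MorseLib.aug k n := by
      show cc v₁ = 0
      simp [v₁]
    have e : ∑ i, ∑ j, MvPowerSeries.C (L1 i u * L1 j v) *
        (MvPowerSeries.X i * MvPowerSeries.X j) = u₁ * v₁ := by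
      rw [Finset.sum_mul_sum]
      exact Finset.sum_congr rfl fun i _ => Finset.sum_congr rfl fun j _ => by rw [map_mul]; ring
    rw [e, show u * v - u₁ * v₁ = u * (v - v₁) + (u - u₁) * v₁ by ring, pow_succ]
    refine add_mem ?_ (Ideal.mul_mem_mul (hlin u hu) hv₁)
    rw [mul_comm u]
    exact Ideal.mul_mem_mul (hlin v hv) hu
  | add a ha b hb iha ihb =>
    obtain ⟨c, hc⟩ := iha
    obtain ⟨c', hc'⟩ := ihb
    refine ⟨fun i j => c i j + c' i j, ?_⟩
    have := add_mem hc hc'
    convert this using 1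
    simp only [map_add, add_mul, Finset.sum_add_distrib]
    ring

theorem hess_ne_zero_of_surjective [Nonempty (Fin n)] (F G : PS) (hF : F ∈ MorseLib.aug k n ^ 2)
    (hG : G ∈ MorseLib.aug k n ^ 2) (Ψ : PS →ₐ[k] PS ⧸ Ideal.span {F})
    (hΨ : Function.Surjective Ψ) (hG0 : Ψ G = 0) (hdet : (hess G).det ≠ 0) : (hess F).det ≠ 0 := by
  classical
  obtain ⟨hF0, hF1⟩ := of_mem_sq hF
  choose h hh using fun i => Ideal.Quotient.mk_surjective (Ψ (MvPowerSeries.X i))
  haveI : Nontrivial (PS ⧸ Ideal.span {F}) := Ideal.Quotient.nontrivial_iff.2 fun e => by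
    obtain ⟨r, hr⟩ := Ideal.mem_span_singleton.1 ((Ideal.eq_top_iff_one _).1 e)
    have := congrArg cc hr
    rw [map_one, map_mul, hF0, zero_mul] at this
    exact one_ne_zero this
  -- the images of the variables have no constant term
  have hh0 : ∀ i, cc (h i) = 0 := by
    intro i
    by_contra hne
    have hu : IsUnit (Ψ (1 - MvPowerSeries.C (cc (h i))⁻¹ * MvPowerSeries.X i)) := by
      refine IsUnit.map Ψ (MvPowerSeries.isUnit_iff_constantCoeff.2 ?_)
      simp
    rw [map_sub, map_one, map_mul, ← hh, show Ψ (MvPowerSeries.C (cc (h i))⁻¹) =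
      Ideal.Quotient.mk _ (MvPowerSeries.C (cc (h i))⁻¹) from Ψ.commutes _, ← map_mul,
      ← map_one (Ideal.Quotient.mk (Ideal.span {F})), ← map_sub] at hu
    obtain ⟨v, hv⟩ := isUnit_iff_exists_inv.1 hu
    obtain ⟨v, rfl⟩ := Ideal.Quotient.mk_surjective v
    rw [← map_mul, ← map_one (Ideal.Quotient.mk (Ideal.span {F})), Ideal.Quotient.eq,
      Ideal.mem_span_singleton] at hv
    obtain ⟨r, hr⟩ := hv
    have := congrArg cc hr
    simp [hF0, inv_mul_cancel₀ hne] at this
  have haug : ∀ N, (MorseLib.aug k n ^ N).map Ψ ≤ (MorseLib.aug k n ^ N).map (Ideal.Quotient.mk _) := by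
    intro N
    rw [Ideal.map_pow, Ideal.map_pow]
    refine Ideal.pow_right_mono ?_ N
    conv_lhs => rw [MorseLib.aug_eq_span, Ideal.map_span]
    rw [Ideal.span_le]
    rintro _ ⟨_, ⟨i, rfl⟩, rfl⟩
    exact hh i ▸ Ideal.mem_map_of_mem _ (hh0 i)
  let Lm : Matrix (Fin n) (Fin n) k := Matrix.of fun i a => L1 a (h i)
  have hL : ∀ l, ∃ A : Fin n → k, ∀ a, ∑ i, A i * L1 a (h i) = if l = a then 1 else 0 := by
    intro l
    obtain ⟨H, hH⟩ := hΨ (Ideal.Quotient.mk _ (MvPowerSeries.X l))
    have hmem : H - MvPowerSeries.C (cc H) ∈ Ideal.span (Set.range MvPowerSeries.X) := by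
      rw [← MorseLib.aug_eq_span]
      show cc _ = 0
      simp
    obtain ⟨u, hu⟩ := Ideal.mem_span_range_iff_exists_fun.1 hmem
    choose w hw using fun i => Ideal.Quotient.mk_surjective (Ψ (u i))
    refine ⟨fun i => cc (w i), fun a => ?_⟩
    have h1 : Ideal.Quotient.mk (Ideal.span {F}) (MvPowerSeries.X l) =
        Ideal.Quotient.mk _ (MvPowerSeries.C (cc H) + ∑ i, w i * h i) := by
      rw [← hH, map_add, map_sum]
      conv_lhs => rw [show H = MvPowerSeries.C (cc H) + ∑ i, u i * MvPowerSeries.X i by rw [hu]; ring]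
      rw [map_add, map_sum, show Ψ (MvPowerSeries.C (cc H)) = _ from Ψ.commutes _]
      congr 1
      exact Finset.sum_congr rfl fun i _ => by rw [map_mul, map_mul, hw, hh]
    obtain ⟨r, hr⟩ := Ideal.mem_span_singleton.1 (Ideal.Quotient.eq.1 h1)
    have := congrArg (L1 a) hr
    rw [L1_sub, L1_add, L1_mul, hF0, hF1, L1_C, L1_X, L1_sum] at this
    simp only [L1_mul, hh0, zero_mul, mul_zero, add_zero, zero_add, sub_eq_zero] at this
    exact this.symm
  choose A hA using hL
  have hAL : Matrix.of A * Lm = 1 := Matrix.ext fun l a => by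
    rw [Matrix.mul_apply, Matrix.one_apply]; exact hA l a
  have hLdet : Lm.det ≠ 0 := fun e => by
    have := congrArg Matrix.det hAL
    rw [Matrix.det_mul, e, mul_zero, Matrix.det_one] at this
    exact zero_ne_one this
  obtain ⟨c, hc⟩ := exists_quad G hG
  let Cm : Matrix (Fin n) (Fin n) k := Matrix.of c
  have hHG : hess G = Cm + Cm.transpose := by
    ext a b
    have := D2_cube hc a b
    rw [D2_sub, sub_eq_zero] at this
    show D2 a b G = c a b + c b a
    rw [this]
    simp only [D2_sum, D2_C_mul]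
    simp only [D2_mul, MvPowerSeries.constantCoeff_X, L1_X, zero_mul, zero_add]
    simp [mul_add, Finset.sum_add_distrib, mul_ite, Finset.sum_ite_eq']
  -- transport through `Ψ`
  obtain ⟨Q, hQ, hQeq⟩ : ∃ Q ∈ MorseLib.aug k n ^ 3,
      Ideal.Quotient.mk (Ideal.span {F}) (∑ i, ∑ j, MvPowerSeries.C (c i j) * (h i * h j)) =
        Ideal.Quotient.mk _ Q := by
    have h1 := haug 3 (Ideal.mem_map_of_mem Ψ hc)
    obtain ⟨Q, hQ, hQ'⟩ := (Ideal.mem_map_iff_of_surjective _ Ideal.Quotient.mk_surjective).1 h1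
    refine ⟨-Q, neg_mem hQ, ?_⟩
    rw [map_neg, hQ', map_sub, hG0, zero_sub, neg_neg, map_sum, map_sum]
    refine Finset.sum_congr rfl fun i _ => ?_
    rw [map_sum, map_sum]
    exact Finset.sum_congr rfl fun j _ => by
      rw [map_mul, map_mul, map_mul, map_mul, hh, hh]
      exact congrArg (· * _) (Ψ.commutes _).symm
  obtain ⟨r, hr⟩ := Ideal.mem_span_singleton.1 (Ideal.Quotient.eq.1 hQeq)
  have hkey : Lm.transpose * hess G * Lm = cc r • hess F := by
    ext a b
    have := congrArg (D2 a b) hr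
    rw [D2_sub, D2_cube hQ, sub_zero, D2_mul, hF0, hF1, hF1] at this
    simp only [D2_sum, D2_C_mul] at this
    simp only [D2_mul, hh0, zero_mul, mul_zero, add_zero, zero_add] at this
    rw [Matrix.smul_apply, smul_eq_mul]
    show _ = cc r * D2 a b F
    rw [← this, hHG, Matrix.mul_add, Matrix.add_mul, Matrix.add_apply]
    simp only [Matrix.mul_apply, Matrix.transpose_apply, Finset.sum_mul, mul_add, Finset.sum_add_distrib]
    congr 1
    · rw [Finset.sum_comm]
      exact Finset.sum_congr rfl fun i _ => Finset.sum_congr rfl fun j _ => by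
        simp only [Lm, Cm, Matrix.of_apply]; ring
    · exact Finset.sum_congr rfl fun i _ => Finset.sum_congr rfl fun j _ => by
        simp only [Lm, Cm, Matrix.of_apply]; ring
  intro hz
  have := congrArg Matrix.det hkey
  rw [Matrix.det_mul, Matrix.det_mul, Matrix.det_transpose, Matrix.det_smul, hz, mul_zero] at this
  exact mul_ne_zero (mul_ne_zero hLdet hdet) hLdet this

open MvPolynomial in
/-- Translation. -/
def tr (a : Fin n → k) : MvPolynomial (Fin n) k →ₐ[k] MvPolynomial (Fin n) k :=
  MvPolynomial.aeval fun i => MvPolynomial.X i + MvPolynomial.C (a i)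

theorem tr_tr (a b : Fin n → k) (hab : ∀ i, a i + b i = 0) (g : MvPolynomial (Fin n) k) :
    tr a (tr b g) = g := by
  rw [← AlgHom.comp_apply]
  have : (tr a).comp (tr b) = AlgHom.id k _ := by
    refine MvPolynomial.algHom_ext fun i => ?_
    simp only [AlgHom.comp_apply, tr, MvPolynomial.aeval_X, map_add, MvPolynomial.aeval_C,
      MvPolynomial.algebraMap_eq, AlgHom.id_apply]
    rw [add_assoc, ← map_add, hab, map_zero, add_zero]
  rw [this]; rfl

theorem constantCoeff_tr (a : Fin n → k) (g : MvPolynomial (Fin n) k) :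
    MvPolynomial.constantCoeff (tr a g) = MvPolynomial.aeval a g := by
  induction g using MvPolynomial.induction_on with
  | C r => simp [tr]
  | add p q hp hq => rw [map_add, map_add, hp, hq, map_add]
  | mul_X p i hp => rw [map_mul, map_mul, hp, map_mul]; simp [tr]

theorem pderiv_tr (a : Fin n → k) (i : Fin n) (g : MvPolynomial (Fin n) k) :
    MvPolynomial.pderiv i (tr a g) = tr a (MvPolynomial.pderiv i g) := by
  classical
  induction g using MvPolynomial.induction_on with
  | C r => simp [tr]
  | add p q hp hq => simp only [map_add, hp, hq]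
  | mul_X p j hp =>
    rw [map_mul, Derivation.leibniz, Derivation.leibniz, hp]
    by_cases h : j = i
    · subst h; simp [tr, smul_eq_mul, mul_comm]
    · simp [tr, smul_eq_mul, mul_comm, MvPolynomial.pderiv_X_of_ne h]

/-- Expansion at a point. -/
def iota (a : Fin n → k) : MvPolynomial (Fin n) k →ₐ[k] MvPowerSeries (Fin n) k :=
  (MvPolynomial.coeToMvPowerSeries.algHom k).comp (tr a)

theorem iota_apply (a : Fin n → k) (g : MvPolynomial (Fin n) k) :
    iota a g = (tr a g : MvPowerSeries (Fin n) k) := by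
  simp [iota]

theorem cc_iota (a : Fin n → k) (g : MvPolynomial (Fin n) k) :
    cc (iota a g) = MvPolynomial.aeval a g := by
  rw [iota_apply, ← MvPowerSeries.coeff_zero_eq_constantCoeff_apply, MvPolynomial.coeff_coe,
    ← MvPolynomial.constantCoeff_eq, constantCoeff_tr]

theorem L1_iota (a : Fin n → k) (l : Fin n) (g : MvPolynomial (Fin n) k) :
    L1 l (iota a g) = MvPolynomial.aeval a (MvPolynomial.pderiv l g) := by
  rw [L1, iota_apply, MvPowerSeries.pderiv_coe, pderiv_tr, ← iota_apply, cc_iota]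

theorem D2_iota (a : Fin n → k) (i l : Fin n) (g : MvPolynomial (Fin n) k) :
    D2 i l (iota a g) = L1 l (iota a (MvPolynomial.pderiv i g)) := by
  rw [D2, L1, iota_apply, MvPowerSeries.pderiv_coe, pderiv_tr, ← iota_apply]

theorem iota_mem_pow (a : Fin n → k) (N : ℕ) (g : MvPolynomial (Fin n) k)
    (h : iota a g ∈ MorseLib.aug k n ^ N) : g ∈ (MvPolynomial.vanishingIdeal k {a}) ^ N := by
  have h1 : tr a g ∈ MvPolynomial.idealOfVars (Fin n) k ^ N := by
    rw [MvPolynomial.mem_pow_idealOfVars_iff']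
    intro d hd
    have := (MorseLib.mem_pow_iff N _).1 h d hd
    rwa [iota_apply, MvPolynomial.coeff_coe] at this
  have h2 := Ideal.mem_map_of_mem (tr (-a)) h1
  rw [tr_tr (-a) a (by simp)] at h2
  rw [Ideal.map_pow] at h2
  refine Ideal.pow_right_mono ?_ N h2
  rw [MvPolynomial.idealOfVars, Ideal.map_span, Ideal.span_le]
  rintro _ ⟨_, ⟨i, rfl⟩, rfl⟩
  rw [SetLike.mem_coe, MvPolynomial.mem_vanishingIdeal_singleton_iff]
  simp [tr]

theorem exists_iota_congr (a : Fin n → k) (N : ℕ) (F : PS) :
    ∃ g : MvPolynomial (Fin n) k, iota a g - F ∈ MorseLib.aug k n ^ N := by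
  refine ⟨tr (-a) (MvPowerSeries.truncTotal N F), ?_⟩
  rw [MorseLib.mem_pow_iff, iota_apply, tr_tr a (-a) (by simp)]
  intro d hd
  rw [map_sub, MvPolynomial.coeff_coe, MvPowerSeries.coeff_truncTotal _ hd, sub_self]

theorem iso_completion (a : Fin n → k) (f : MvPolynomial (Fin n) k)
    (hf : MvPolynomial.aeval a f = 0)
    (P : Ideal (MvPolynomial (Fin n) k ⧸ Ideal.span {f})) [P.IsMaximal]
    (hP : P.comap (Ideal.Quotient.mk _) = MvPolynomial.vanishingIdeal k {a})
    (Lo : Type u) [CommRing Lo] [IsLocalRing Lo] [Algebra (MvPolynomial (Fin n) k ⧸ Ideal.span {f}) Lo]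
    [IsLocalization.AtPrime Lo P] [Algebra k Lo] [IsScalarTower k (MvPolynomial (Fin n) k ⧸ Ideal.span {f}) Lo] :
    Nonempty (AdicCompletion (IsLocalRing.maximalIdeal Lo) Lo
      ≃ₐ[k] (PS ⧸ Ideal.span {iota a f})) := by
  let B := MvPolynomial (Fin n) k ⧸ Ideal.span {f}
  let I : Ideal PS := Ideal.span {iota a f}
  have hI : I ≤ MorseLib.aug k n := (Ideal.span_singleton_le_iff_mem _).2 (by
    show cc _ = 0
    rw [cc_iota, hf])
  have haug : MorseLib.aug k n = IsLocalRing.maximalIdeal PS := by
    ext F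
    exact (WildQuotLib.mem_maximalIdeal_iff_constantCoeff k F).symm
  haveI : Nontrivial (PS ⧸ I) := Ideal.Quotient.nontrivial_iff.2 fun e => by
    have : (1 : PS) ∈ MorseLib.aug k n := hI (e ▸ Submodule.mem_top)
    exact one_ne_zero (α := k) ((map_one cc).symm.trans this)
  haveI : IsLocalRing (PS ⧸ I) := IsLocalRing.of_surjective' _ Ideal.Quotient.mk_surjective
  haveI : IsAdicComplete (IsLocalRing.maximalIdeal (PS ⧸ I)) (PS ⧸ I) :=
    FiniteCompleteLib.isAdicComplete_maximalIdeal PS (PS ⧸ I)
  have hmC : IsLocalRing.maximalIdeal (PS ⧸ I) = (MorseLib.aug k n).map (Ideal.Quotient.mk I) := by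
    rw [haug, IsLocalRing.map_maximalIdeal_of_surjective _ Ideal.Quotient.mk_surjective]
  let φ : B →ₐ[k] PS ⧸ I := Ideal.Quotient.liftₐ (Ideal.span {f})
    ((Ideal.Quotient.mkₐ k I).comp (iota a)) (fun g hg => by
      obtain ⟨r, rfl⟩ := Ideal.mem_span_singleton.1 hg
      rw [AlgHom.comp_apply, map_mul]
      exact Ideal.Quotient.eq_zero_iff_mem.2 (Ideal.mul_mem_right _ _ (Ideal.subset_span rfl)))
  have hφ : ∀ g, φ (Ideal.Quotient.mk _ g) = Ideal.Quotient.mk I (iota a g) := fun g => rfl
  have hJ : P.map φ.toRingHom = IsLocalRing.maximalIdeal (PS ⧸ I) := by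
    rw [hmC]
    refine le_antisymm (Ideal.map_le_iff_le_comap.2 fun b hb => ?_) ?_
    · obtain ⟨g, rfl⟩ := Ideal.Quotient.mk_surjective b
      refine Ideal.mem_map_of_mem _ ?_
      show cc (iota a g) = 0
      have : g ∈ MvPolynomial.vanishingIdeal k {a} := hP ▸ hb
      rw [cc_iota, ← MvPolynomial.mem_vanishingIdeal_singleton_iff]
      exact this
    · rw [MorseLib.aug_eq_span, Ideal.map_span, Ideal.span_le]
      rintro _ ⟨_, ⟨i, rfl⟩, rfl⟩
      have : Ideal.Quotient.mk (Ideal.span {f}) (MvPolynomial.X i - MvPolynomial.C (a i)) ∈ P := by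
        rw [← Ideal.mem_comap, hP, MvPolynomial.mem_vanishingIdeal_singleton_iff]
        simp
      have h2 := Ideal.mem_map_of_mem φ.toRingHom this
      change φ _ ∈ _ at h2
      rw [hφ] at h2
      convert h2 using 2
      rw [iota_apply]
      simp [tr]
  have hsurj : ∀ N (y : PS ⧸ I), ∃ x, φ x - y ∈ IsLocalRing.maximalIdeal (PS ⧸ I) ^ N := by
    intro N y
    obtain ⟨F, rfl⟩ := Ideal.Quotient.mk_surjective y
    obtain ⟨g, hg⟩ := exists_iota_congr a N F
    refine ⟨Ideal.Quotient.mk _ g, ?_⟩
    rw [hφ, ← map_sub, hmC, ← Ideal.map_pow]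
    exact Ideal.mem_map_of_mem _ hg
  have hinj : ∀ N x, φ x ∈ IsLocalRing.maximalIdeal (PS ⧸ I) ^ N → x ∈ P ^ N := by
    intro N x hx
    obtain ⟨g, rfl⟩ := Ideal.Quotient.mk_surjective x
    rw [hφ, hmC, ← Ideal.map_pow, Ideal.mem_map_iff_of_surjective _ Ideal.Quotient.mk_surjective] at hx
    obtain ⟨F, hF, hFg⟩ := hx
    obtain ⟨r, hr⟩ := Ideal.mem_span_singleton.1 (Ideal.Quotient.eq.1 hFg)
    obtain ⟨s, hs⟩ := exists_iota_congr a N (-r)
    have hgs : g - s * f ∈ MvPolynomial.vanishingIdeal k {a} ^ N := by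
      refine iota_mem_pow a N _ ?_
      have : iota a (g - s * f) = F - (iota a s - -r) * iota a f := by
        rw [map_sub, map_mul]; linear_combination -hr
      rw [this]
      exact sub_mem hF (Ideal.mul_mem_right _ _ hs)
    have h2 := Ideal.mem_map_of_mem (Ideal.Quotient.mk (Ideal.span {f})) hgs
    rw [Ideal.map_pow, map_sub, map_mul, Ideal.Quotient.eq_zero_iff_mem.2 (Ideal.subset_span rfl : f ∈ Ideal.span {f}),
      mul_zero, sub_zero] at h2
    refine Ideal.pow_right_mono ?_ N h2
    rw [← hP]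
    exact Ideal.map_comap_le
  obtain ⟨e1⟩ := AdicCongr.exists_algEquiv_of_bijective P (IsLocalRing.maximalIdeal (PS ⧸ I)) φ hJ hsurj hinj
  let ψ : B →ₐ[k] Lo := IsScalarTower.toAlgHom k B Lo
  obtain ⟨e0⟩ := AdicCongr.exists_algEquiv_of_bijective P (IsLocalRing.maximalIdeal Lo) ψ
    (IsLocalization.AtPrime.map_eq_maximalIdeal P Lo)
    (fun N y => by
      obtain ⟨x, hx⟩ := (IsLocalization.AtPrime.equivQuotMaximalIdealPow P Lo N).surjective
        (Ideal.Quotient.mk _ y)
      obtain ⟨x, rfl⟩ := Ideal.Quotient.mk_surjective x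
      exact ⟨x, Ideal.Quotient.eq.1 ((IsLocalization.AtPrime.equivQuotMaximalIdealPow_apply_mk P _ N x).symm.trans hx)⟩)
    (fun N x hx => Ideal.Quotient.eq_zero_iff_mem.1
      ((IsLocalization.AtPrime.equivQuotMaximalIdealPow P Lo N).injective (by
        rw [IsLocalization.AtPrime.equivQuotMaximalIdealPow_apply_mk, map_zero]
        exact Ideal.Quotient.eq_zero_iff_mem.2 hx)))
  let e2 : (PS ⧸ I) ≃ₐ[k] AdicCompletion (IsLocalRing.maximalIdeal (PS ⧸ I)) (PS ⧸ I) :=
    AlgEquiv.ofBijective (IsScalarTower.toAlgHom k (PS ⧸ I) _)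
      (AdicCompletion.of_bijective_iff.2 inferInstance)
  exact ⟨e0.symm.trans (e1.trans e2.symm)⟩

theorem main [Nonempty (Fin n)] (a : Fin n → k) (f : MvPolynomial (Fin n) k)
    (hf : MvPolynomial.aeval a f = 0)
    (hdf : ∀ j, MvPolynomial.aeval a (MvPolynomial.pderiv j f) = 0)
    (P : Ideal (MvPolynomial (Fin n) k ⧸ Ideal.span {f})) [P.IsMaximal]
    (hP : P.comap (Ideal.Quotient.mk _) = MvPolynomial.vanishingIdeal k {a})
    (Lo : Type u) [CommRing Lo] [IsLocalRing Lo] [Algebra (MvPolynomial (Fin n) k ⧸ Ideal.span {f}) Lo]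
    [IsLocalization.AtPrime Lo P] [Algebra k Lo] [IsScalarTower k (MvPolynomial (Fin n) k ⧸ Ideal.span {f}) Lo] [IsNoetherianRing Lo] :
    Ideal.map (algebraMap (MvPolynomial (Fin n) k ⧸ Ideal.span {f}) Lo)
        (Ideal.span (Set.range fun j : Fin n =>
          Ideal.Quotient.mk (Ideal.span {f}) (MvPolynomial.pderiv j f))) =
      IsLocalRing.maximalIdeal Lo ↔
    ∃ g : PS, VanCyc.NondegQuadSeries g ∧
      Nonempty (AdicCompletion (IsLocalRing.maximalIdeal Lo) Lo ≃ₐ[k]
        (PS ⧸ Ideal.span {g})) := by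
  classical
  obtain ⟨e⟩ := iso_completion a f hf P hP Lo
  set J := Ideal.span (Set.range fun j : Fin n =>
          Ideal.Quotient.mk (Ideal.span {f}) (MvPolynomial.pderiv j f))
  have hF2 : iota a f ∈ MorseLib.aug k n ^ 2 :=
    mem_aug_sq _ (by rw [cc_iota, hf]) (fun l => by rw [L1_iota, hdf])
  have hXmem : ∀ j, Ideal.Quotient.mk (Ideal.span {f}) (MvPolynomial.X j - MvPolynomial.C (a j)) ∈ P := fun j => by
    rw [← Ideal.mem_comap, hP, MvPolynomial.mem_vanishingIdeal_singleton_iff]
    simp
  have hiX : ∀ j, iota a (MvPolynomial.X j - MvPolynomial.C (a j)) = MvPowerSeries.X j := fun j => by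
    rw [iota_apply]; simp [tr]
  have key : J.map (algebraMap _ Lo) = IsLocalRing.maximalIdeal Lo ↔ (hess (iota a f)).det ≠ 0 := by
    constructor
    · intro hJ
      have hrow : ∀ j, ∃ c : Fin n → k, ∀ l, ∑ i, c i * D2 i l (iota a f) = if j = l then 1 else 0 := by
        intro j
        have h1 : algebraMap _ Lo (Ideal.Quotient.mk (Ideal.span {f}) (MvPolynomial.X j - MvPolynomial.C (a j)))
            ∈ J.map (algebraMap _ Lo) := by
          rw [hJ, IsLocalization.AtPrime.to_map_mem_maximal_iff Lo P]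
          exact hXmem j
        rw [IsLocalization.algebraMap_mem_map_algebraMap_iff P.primeCompl Lo] at h1
        obtain ⟨s, hs, hsx⟩ := h1
        obtain ⟨c, hc⟩ := Ideal.mem_span_range_iff_exists_fun.1 hsx
        obtain ⟨s, rfl⟩ := Ideal.Quotient.mk_surjective s
        choose c' hc' using fun i => Ideal.Quotient.mk_surjective (c i)
        have hs0 : MvPolynomial.aeval a s ≠ 0 := fun h => hs (by
          have : s ∈ P.comap (Ideal.Quotient.mk _) := by
            rw [hP, MvPolynomial.mem_vanishingIdeal_singleton_iff]; exact h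
          exact this)
        have h2 : Ideal.Quotient.mk (Ideal.span {f}) (s * (MvPolynomial.X j - MvPolynomial.C (a j))) =
            Ideal.Quotient.mk _ (∑ i, c' i * MvPolynomial.pderiv i f) := by
          rw [map_mul, map_sum, ← hc]
          exact Finset.sum_congr rfl fun i _ => by rw [map_mul, hc']
        obtain ⟨r, hr⟩ := Ideal.mem_span_singleton.1 (Ideal.Quotient.eq.1 h2)
        refine ⟨fun i => (MvPolynomial.aeval a s)⁻¹ * MvPolynomial.aeval a (c' i), fun l => ?_⟩
        have h3 := congrArg (fun g => L1 l (iota a g)) hr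
        simp only [map_sub (iota a), map_mul (iota a), map_sum (iota a), hiX] at h3
        rw [show iota a (MvPolynomial.X j) - iota a (MvPolynomial.C (a j)) = MvPowerSeries.X j by
          rw [← map_sub, hiX]] at h3
        rw [L1_sub, L1_mul, L1_sum, L1_mul, cc_iota, cc_iota, hf, L1_iota a l f, hdf] at h3
        simp only [L1_mul, cc_iota, hdf, MvPowerSeries.constantCoeff_X, L1_X, zero_mul, mul_zero, add_zero,
          sub_eq_zero, ← D2_iota] at h3
        calc ∑ i, (MvPolynomial.aeval a s)⁻¹ * MvPolynomial.aeval a (c' i) * D2 i l (iota a f)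
            = (MvPolynomial.aeval a s)⁻¹ * ∑ i, MvPolynomial.aeval a (c' i) * D2 i l (iota a f) := by
              rw [Finset.mul_sum]; exact Finset.sum_congr rfl fun i _ => by ring
          _ = _ := by rw [← h3, ← mul_assoc, inv_mul_cancel₀ hs0, one_mul]
      choose c hc using hrow
      have : Matrix.of c * hess (iota a f) = 1 := Matrix.ext fun j l => by
        rw [Matrix.mul_apply, Matrix.one_apply]; exact hc j l
      intro h0
      have := congrArg Matrix.det this
      rw [Matrix.det_mul, h0, mul_zero, Matrix.det_one] at this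
      exact zero_ne_one this
    · intro hdet
      refine le_antisymm ?_ ?_
      · rw [Ideal.map_le_iff_le_comap, ← Ideal.under_def, IsLocalization.AtPrime.under_maximalIdeal Lo P,
          Ideal.span_le, Set.range_subset_iff]
        intro j
        show Ideal.Quotient.mk _ _ ∈ P
        rw [← Ideal.mem_comap, hP, MvPolynomial.mem_vanishingIdeal_singleton_iff, hdf]
      · refine Submodule.le_of_le_smul_of_le_jacobson_bot (I := IsLocalRing.maximalIdeal Lo)
          (IsNoetherian.noetherian _) (IsLocalRing.jacobson_eq_maximalIdeal ⊥ bot_ne_top).ge ?_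
        have hPle : P ≤ J ⊔ P * P := by
          intro x hx
          obtain ⟨g, rfl⟩ := Ideal.Quotient.mk_surjective x
          have hg : MvPolynomial.aeval a g = 0 := by
            rw [← MvPolynomial.mem_vanishingIdeal_singleton_iff, ← hP]; exact hx
          let w : Fin n → k := fun i => ∑ l, L1 l (iota a g) * (hess (iota a f))⁻¹ l i
          let t : MvPolynomial (Fin n) k := ∑ i, MvPolynomial.C (w i) * MvPolynomial.pderiv i f
          have ht : g - t ∈ MvPolynomial.vanishingIdeal k {a} ^ 2 := by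
            refine iota_mem_pow a 2 _ (mem_aug_sq _ ?_ fun l => ?_)
            · rw [cc_iota, map_sub, hg]
              simp only [t, map_sum, map_mul, hdf, mul_zero, Finset.sum_const_zero, sub_zero]
            · simp only [t, map_sub, map_sum, map_mul, L1_sub, L1_sum, L1_mul]
              have hC : ∀ c : k, iota a (MvPolynomial.C c) = MvPowerSeries.C c := fun c => (iota a).commutes c
              simp only [hC, L1_C, MvPowerSeries.constantCoeff_C, mul_zero, add_zero, ← D2_iota]
              have : ∀ l', ∑ i, (hess (iota a f))⁻¹ l' i * hess (iota a f) i l = if l' = l then 1 else 0 := fun l' => by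
                rw [← Matrix.mul_apply, Matrix.nonsing_inv_mul _ (isUnit_iff_ne_zero.2 hdet), Matrix.one_apply]
              rw [sub_eq_zero]
              calc L1 l (iota a g) = ∑ l', L1 l' (iota a g) * ∑ i, (hess (iota a f))⁻¹ l' i * hess (iota a f) i l := by
                    simp [this]
                _ = _ := by
                    simp only [w, Finset.mul_sum, Finset.sum_mul]
                    rw [Finset.sum_comm]
                    exact Finset.sum_congr rfl fun i _ => Finset.sum_congr rfl fun l' _ => by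
                      simp only [hess, Matrix.of_apply]; ring
          have h2 := Ideal.mem_map_of_mem (Ideal.Quotient.mk (Ideal.span {f})) ht
          rw [Ideal.map_pow, map_sub, sq] at h2
          rw [show Ideal.Quotient.mk (Ideal.span {f}) g = Ideal.Quotient.mk _ t +
            (Ideal.Quotient.mk _ g - Ideal.Quotient.mk _ t) by ring]
          refine Submodule.add_mem_sup ?_ (Ideal.mul_mono (hP ▸ Ideal.map_comap_le) (hP ▸ Ideal.map_comap_le) h2)
          simp only [t, map_sum, map_mul]
          exact sum_mem fun i _ => Ideal.mul_mem_left _ _ (Ideal.subset_span ⟨i, rfl⟩)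
        rw [smul_eq_mul]
        conv_lhs => rw [← IsLocalization.AtPrime.map_eq_maximalIdeal P Lo]
        refine (Ideal.map_mono hPle).trans ?_
        rw [Ideal.map_sup, Ideal.map_mul, IsLocalization.AtPrime.map_eq_maximalIdeal P Lo]
  rw [key]
  constructor
  · intro hdet
    refine ⟨iota a f, ⟨⟨(of_mem_sq hF2).1, fun i => ?_⟩, ?_⟩, ⟨e⟩⟩
    · rw [← L1_eq]; exact (of_mem_sq hF2).2 i
    · rw [VanCyc.QuadNondeg, ← hess_eq, isUnit_iff_ne_zero]; exact hdet
  · rintro ⟨g, ⟨⟨hg0, hg1⟩, hgq⟩, ⟨e'⟩⟩
    rw [VanCyc.QuadNondeg, ← hess_eq, isUnit_iff_ne_zero] at hgq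
    refine hess_ne_zero_of_surjective (iota a f) g hF2 (mem_aug_sq g hg0 fun l => by rw [L1_eq]; exact hg1 l)
      (((e'.symm.trans e).toAlgHom).comp (Ideal.Quotient.mkₐ k _))
      ((e'.symm.trans e).surjective.comp Ideal.Quotient.mk_surjective) ?_ hgq
    show (e'.symm.trans e) (Ideal.Quotient.mk _ g) = 0
    rw [Ideal.Quotient.eq_zero_iff_mem.2 (Ideal.mem_span_singleton_self g), map_zero]

end

/-- (b) ⇔ (c): let k be an algebraically closed field, m ≥ 0, f ∈ k[x_0, …, x_m], B = k[x_0, …, x_m]/(f)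
and P a maximal ideal of B (a closed point y of the hypersurface Y = V(f)) containing the classes of
all partial derivatives ∂f/∂x_j, so that y lies in the m-th Jacobian locus of Y (cut out in Y by the
m-th Fitting ideal of Ω_{Y/k}, which is generated by these classes). Then the following are
equivalent: (b) the classes of the ∂f/∂x_j generate the maximal ideal of the local ring B_P, i.e.
near y the Jacobian locus is the reduced point y; (c) y is a non-degenerate quadratic singularity of
Y of dimension m: the completion of B_P is k-isomorphic to k[[x_0, …, x_m]]/(g) for a power series g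
without constant or linear terms whose quadratic part has unit polar discriminant. (The published
statement is for Y a local complete intersection of virtual dimension m over k and a point of the
m-th but not the (m+1)-st Jacobian locus; the statement here is its affine hypersurface case, to
which its proof reduces by an étale chart. A third equivalent condition there, on the differentials
of the Jacobian scheme at y, is not stated here.) -/
theorem result
    (k : Type u) [Field k] [IsAlgClosed k] (m : ℕ) (f : MvPolynomial (Fin (m + 1)) k)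
    (P : Ideal (MvPolynomial (Fin (m + 1)) k ⧸ Ideal.span {f})) [P.IsMaximal]
    (hP : ∀ j : Fin (m + 1), Ideal.Quotient.mk (Ideal.span {f}) (MvPolynomial.pderiv j f) ∈ P) :
    Ideal.map (algebraMap (MvPolynomial (Fin (m + 1)) k ⧸ Ideal.span {f}) (Localization.AtPrime P))
        (Ideal.span (Set.range fun j : Fin (m + 1) =>
          Ideal.Quotient.mk (Ideal.span {f}) (MvPolynomial.pderiv j f))) =
      IsLocalRing.maximalIdeal (Localization.AtPrime P) ↔
    VanCyc.IsNondegQuadSing k (Localization.AtPrime P) m := by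
  haveI : (P.comap (Ideal.Quotient.mk (Ideal.span {f}))).IsMaximal :=
    Ideal.comap_isMaximal_of_surjective _ Ideal.Quotient.mk_surjective
  obtain ⟨a, ha⟩ := MvPolynomial.isMaximal_iff_eq_vanishingIdeal_singleton.1 this
  have hmem : ∀ g, Ideal.Quotient.mk (Ideal.span {f}) g ∈ P → MvPolynomial.aeval a g = 0 := fun g hg => by
    rw [← MvPolynomial.mem_vanishingIdeal_singleton_iff, ← ha]; exact hg
  exact main a f (hmem f (by rw [Ideal.Quotient.eq_zero_iff_mem.2 (Ideal.mem_span_singleton_self f)]; exact zero_mem _))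
    (fun j => hmem _ (hP j)) P ha (Localization.AtPrime P)

end Groth.Agent.S16255
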