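import Groth.Statements.S16256
import Groth.Agent.JacLocusLib.Scheme
import Groth.Agent.S8905
-- import your own Groth.Agent.* helpers here

set_option autoImplicit false
universe u
open CategoryTheory CategoryTheory.Limits AlgebraicGeometry TopologicalSpace
open SDiv

namespace Groth.Agent.S16256

/-- Let f : Y ⟶ X be locally of finite presentation and quasi-separated, m ≥ 0, and y a point of Y near
which f is a local complete intersection of virtual dimension m, in the factorisation sense: some
open neighbourhood U of y admits a Koszul-regular immersion i of constant codimension c into a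
scheme P smooth of relative dimension m + c over X, compatibly with f. Then f is smooth on some open
neighbourhood of y if and only if y does not lie in the m-th Jacobian locus of Y over X, the closed
subset cut out by the m-th Fitting ideal of Ω_{Y/X}. (Quasi-separatedness of f is assumed because
the module Ω_{Y/X} used here is defined for such f.) -/
theorem result
    {Y X : Scheme.{u}} (f : Y ⟶ X) [LocallyOfFinitePresentation f] [QuasiSeparated f] (m : ℕ) (y : ↥Y)
    (hlci : ∃ (U : Y.Opens) (P : Scheme.{u}) (i : (U : Scheme.{u}) ⟶ P) (π : P ⟶ X) (c : ℕ),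
      y ∈ U ∧ RegImm.IsRegularImmersionOfCodim RegImm.Kind.koszul c i ∧
        SmoothOfRelativeDimension (m + c) π ∧ i ≫ π = U.ι ≫ f) :
    (∃ V : Y.Opens, y ∈ V ∧ Smooth (V.ι ≫ f)) ↔ y ∉ (Fitt.sheafIdeal (Omega.sheaf f) m).support := by
  classical
  obtain ⟨U, P, i, π, c, hyU, hreg, hπ, hcomp⟩ := hlci
  haveI := hπ
  haveI := hreg.1
  let u : U.toScheme := ⟨y, hyU⟩
  obtain ⟨V, huV, hc, rs, hlen, hrs, hker⟩ := hreg.2 u
  subst hlen
  obtain ⟨_, ⟨W, hW, rfl⟩, hyW, -⟩ :=
    X.isBasis_affineOpens.exists_subset_of_mem_open (Set.mem_univ (f y)) isOpen_univ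
  have hz' : f (U.ι u) ∈ W := hyW
  have hz : π (i u) ∈ W := by
    rw [← Scheme.Hom.comp_apply, hcomp]; exact hz'
  obtain ⟨hsur, hkerL⟩ := Groth.Agent.JacLocusLib.localMap_data i u V.2 hc huV rs hker
  obtain ⟨hP, hPfree, hPfin, hPN⟩ := Groth.Agent.JacLocusLib.kaehler_data (m + rs.length) π (i u) hW hz
  letI := (Groth.Agent.JacLocusLib.baseAlg π (i u) hz).toAlgebra
  letI := (Groth.Agent.JacLocusLib.baseAlg f (U.ι u) hz').toAlgebra
  letI := (Groth.Agent.JacLocusLib.localMap i u).toAlgebra
  haveI : IsScalarTower Γ(X, W) (P.presheaf.stalk (i u)) (Y.presheaf.stalk (U.ι u)) :=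
    .of_algebraMap_eq' (Groth.Agent.JacLocusLib.localMap_comp f i π hcomp u hz hz').symm
  haveI := hP; haveI := hPfree; haveI := hPfin
  rw [Groth.Agent.JacLocusLib.notMem_support_omega_iff f m y hW hyW]
  have hsm : (∃ V : Y.Opens, y ∈ V ∧ Smooth (V.ι ≫ f)) ↔
      Algebra.FormallySmooth Γ(X, W) (Y.presheaf.stalk (U.ι u)) := by
    refine Iff.trans ?_ (Groth.Agent.JacLocusLib.formallySmooth_iff_mem_smoothLocus f (U.ι u) hW hz').symm
    refine ⟨fun ⟨O, hyO, hO⟩ => ?_, fun h => ⟨f.smoothLocus, h, ?_⟩⟩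
    · haveI := hO
      have h1 : (⟨y, hyO⟩ : O.toScheme) ∈ (O.ι ≫ f).smoothLocus := by rw [Scheme.Hom.smoothLocus_eq_top]; trivial
      rw [← Scheme.Hom.preimage_smoothLocus_eq] at h1
      exact h1
    · rw [← Scheme.Hom.smoothLocus_eq_top_iff, ← Scheme.Hom.preimage_smoothLocus_eq, eq_top_iff]
      rintro z -
      exact z.2
  rw [hsm]
  constructor
  · intro h
    haveI := h
    have h1 := Groth.Agent.JacLocusLib.finrank_add_le (R := Γ(X, W))
      (fun j => P.presheaf.germ V.1 (i u) huV (rs.get j)) hsur hkerL (fun a ha j => ?_)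
    · rw [hPN] at h1
      exact Nat.le_of_add_le_add_right h1
    letI : Algebra Γ(P, V.1) (P.presheaf.stalk (i u)) := TopCat.Presheaf.algebra_section_stalk P.presheaf ⟨i u, huV⟩
    haveI := V.2.isLocalization_stalk ⟨i u, huV⟩
    let q := (V.2.primeIdealOf ⟨i u, huV⟩).asIdeal
    have hh1 : CAlgX.IsH1Regular rs.get := Groth.Agent.RegKindLib.isH1Regular_of_isKoszulRegularSeq hrs
    obtain ⟨b, hb⟩ := IsLocalization.exist_integer_multiples q.primeCompl Finset.univ a
    choose a' ha' using fun l => hb l (Finset.mem_univ l)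
    have hsum : algebraMap Γ(P, V.1) (P.presheaf.stalk (i u)) (∑ l, a' l * rs.get l) = 0 := by
      rw [map_sum, ← smul_zero (b : Γ(P, V.1)), ← ha, Finset.smul_sum]
      refine Finset.sum_congr rfl fun l _ => ?_
      rw [map_mul, ha', smul_mul_assoc]
      rfl
    obtain ⟨⟨t, ht⟩, htz⟩ := (IsLocalization.map_eq_zero_iff q.primeCompl _ _).1 hsum
    have hrel := hh1 (fun l => t * a' l) (by rw [← htz, Finset.mul_sum]; simp only [mul_assoc])
    have hq : ∀ l, rs.get l ∈ q := fun l => by
      by_contra hn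
      have h0 := IsLocalization.map_units (P.presheaf.stalk (i u)) (⟨_, hn⟩ : q.primeCompl)
      have h1 : P.presheaf.germ V.1 (i u) huV (rs.get l) ∈ RingHom.ker (Groth.Agent.JacLocusLib.localMap i u) :=
        hkerL ▸ Ideal.subset_span ⟨l, rfl⟩
      exact RingHom.ker_ne_top _ (Ideal.eq_top_of_isUnit_mem _ h1 h0)
    have haq : a' j ∈ q := by
      refine (Ideal.IsPrime.mem_or_mem inferInstance (?_ : t * a' j ∈ q)).resolve_left ht
      have h2 : Submodule.span Γ(P, V.1) {v : Fin rs.length → Γ(P, V.1) |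
          ∃ i₁ j₁ : Fin rs.length, v = Pi.single i₁ (rs.get j₁) - Pi.single j₁ (rs.get i₁)} ≤
          Submodule.comap (LinearMap.proj j) (q : Submodule Γ(P, V.1) Γ(P, V.1)) := by
        rw [Submodule.span_le]
        rintro _ ⟨i₁, j₁, rfl⟩
        show (Pi.single i₁ (rs.get j₁) - Pi.single j₁ (rs.get i₁) : Fin rs.length → Γ(P, V.1)) j ∈ q
        simp only [Pi.sub_apply, Pi.single_apply]
        refine q.sub_mem ?_ ?_ <;> split_ifs <;> first | exact hq _ | exact q.zero_mem
      exact h2 hrel
    have h3 : algebraMap Γ(P, V.1) (P.presheaf.stalk (i u)) (a' j) ∈ IsLocalRing.maximalIdeal (P.presheaf.stalk (i u)) :=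
      (IsLocalization.AtPrime.to_map_mem_maximal_iff (P.presheaf.stalk (i u)) q (a' j)).2 haq
    rw [ha', Algebra.smul_def] at h3
    exact (Ideal.unit_mul_mem_iff_mem _ (IsLocalization.map_units _ b)).1 h3
  · intro h
    refine Groth.Agent.JacLocusLib.formallySmooth_of_finrank_le (R := Γ(X, W))
      (fun j => P.presheaf.germ V.1 (i u) huV (rs.get j)) hsur hkerL ?_
    rw [hPN]
    exact Nat.add_le_add_right h _

end Groth.Agent.S16256
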