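import Groth.Statements.S16257
import Groth.Agent.FLCLib.Filtration
import Groth.Agent.EtPtsLib.ExtZeroStalk
import Groth.Agent.EtPtsLib.Recollement
import Groth.Agent.EtClosedPts.Generic
import Groth.Agent.TransvLib.RelDim

set_option autoImplicit false
universe u
open CategoryTheory CategoryTheory.Limits AlgebraicGeometry Opposite
open FinFr

namespace Groth.Agent.S16257

open CategoryTheory CategoryTheory.Limits AlgebraicGeometry

open CategoryTheory CategoryTheory.Limits AlgebraicGeometry Opposite CategoryTheory.Abelian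
open EtPtsLib EtTraceLib

set_option backward.isDefEq.respectTransparency false
set_option backward.isDefEq.respectTransparency.types false
set_option linter.style.haveILetI false
set_option linter.unusedSectionVars false
set_option maxHeartbeats 1000000

section Stalks

variable {U X : Scheme.{u}} (j : U ⟶ X) [IsOpenImmersion j] [EtShriek.JCont j]
  {Ω : Type u} [Field Ω] [IsSepClosed Ω] {ξ : Spec (CommRingCat.of Ω) ⟶ X}

/-- The stalk of an extension by zero at a point of the open. -/
theorem isIso_ιStalk' (F : EtCoh.Ab U) (u : PtsOver j ξ) : IsIso (ιStalk F u) := by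
  haveI : Subsingleton (PtsOver j ξ) := ⟨fun a b => Subtype.ext ((cancel_mono j).1 (a.2.trans b.2.symm))⟩
  let g : ∀ u' : PtsOver j ξ, (EtCoh.stalk u'.1).obj F ⟶ (EtCoh.stalk u.1).obj F :=
    fun u' => eqToHom (by rw [Subsingleton.elim u' u])
  refine ⟨descStalk F g, (ιStalk_descStalk F g u).trans (by simp [g]), ?_⟩
  refine (descStalk_uniq F (fun u' => ιStalk F u') (descStalk F g ≫ ιStalk F u) fun u' => ?_).trans
    (descStalk_uniq F (fun u' => ιStalk F u') (𝟙 _) fun u' => Category.comp_id _).symm
  obtain rfl : u' = u := Subsingleton.elim _ _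
  rw [← Category.assoc, ιStalk_descStalk]
  simp [g]

/-- The stalk of an extension by zero off the open. -/
theorem isZero_stalk_outside' (F : EtCoh.Ab U) (h : ξ default ∉ Set.range j) :
    IsZero ((EtCoh.stalk ξ).obj ((EtShriek.extZero j).obj F)) := by
  haveI : IsEmpty (PtsOver j ξ) := ⟨fun u => h ⟨u.1 default,
    ((Scheme.Hom.comp_apply _ _ _).symm.trans (congrArg (fun w : Spec _ ⟶ X => w default) u.2))⟩⟩
  rw [IsZero.iff_id_eq_zero]
  exact (descStalk_uniq F (fun u => 0) (𝟙 _) fun u => isEmptyElim u).trans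
    (descStalk_uniq F (fun u => 0) 0 fun u => isEmptyElim u).symm

/-- Where the extension by zero of a map is bijective on a stalk. -/
theorem isIso_stalk_extZero_map {F G : EtCoh.Ab U} (a : F ⟶ G)
    (h : ∀ θ : Spec (CommRingCat.of Ω) ⟶ U, θ ≫ j = ξ → IsIso ((EtCoh.stalk θ).map a)) :
    IsIso ((EtCoh.stalk ξ).map ((EtShriek.extZero j).map a)) := by
  by_cases hx : ξ default ∈ Set.range j
  · obtain ⟨θ, hθ⟩ := exists_comp_eq j ξ hx
    let u : PtsOver j ξ := ⟨θ, hθ⟩
    haveI := isIso_ιStalk' j F u
    haveI := isIso_ιStalk' j G u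
    haveI := h θ hθ
    have e : (EtCoh.stalk ξ).map ((EtShriek.extZero j).map a) =
        inv (ιStalk F u) ≫ (EtCoh.stalk u.1).map a ≫ ιStalk G u :=
      (IsIso.eq_inv_comp _).2 (ιStalk_naturality a u)
    rw [e]
    infer_instance
  · exact ⟨0, (isZero_stalk_outside' j F hx).eq_of_src _ _, (isZero_stalk_outside' j G hx).eq_of_src _ _⟩

end Stalks

/-- A map bijective away from the closed points is bijective on cohomology in degree two. -/
theorem bijective_map_of_closedPoints {P : Scheme.{u}} {K : Type u} [Field K] [IsSepClosed K]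
    (f : P ⟶ Spec (CommRingCat.of K)) [LocallyOfFiniteType f] [QuasiCompact f] {F G : EtCoh.Ab P} (φ : F ⟶ G)
    (hgen : ∀ (Ω : Type u) [Field Ω] [IsSepClosed Ω] (ξ : Spec (CommRingCat.of Ω) ⟶ P),
      ¬ IsClosed ({ξ default} : Set P) → IsIso ((EtCoh.stalk ξ).map φ)) :
    Function.Bijective (Sheaf.H.map φ 2) := by
  haveI : IsLocallyNoetherian P := LocallyOfFiniteType.isLocallyNoetherian f
  haveI : CompactSpace P := (quasiCompact_iff_compactSpace f).1 inferInstance
  haveI : IsNoetherian P := { }
  have hsupp : ∀ H : EtCoh.Ab P, (∀ (Ω : Type u) [Field Ω] [IsSepClosed Ω] (ξ : Spec (CommRingCat.of Ω) ⟶ P),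
      ¬ IsClosed ({ξ default} : Set P) → IsZero ((EtCoh.stalk ξ).obj H)) →
      ∀ x ∈ EtPBC.supp H, IsClosed ({x} : Set P) := by
    rintro H hH x ⟨Ω, _, _, ξ, hξ, hne⟩
    by_contra hx
    have : ξ default = x := Set.mem_singleton_iff.1 (hξ ▸ Set.mem_range_self _)
    exact hne (hH Ω ξ (this ▸ hx))
  have hK := fun n hn => EtClosedPts.subsingleton_H_of_supp_closedPoints (kernel φ) f
    (hsupp _ fun Ω _ _ ξ h => (EtClosedPts.isZero_stalk_kernel_cokernel φ ξ (hgen Ω ξ h)).1) n hn
  have hC := fun n hn => EtClosedPts.subsingleton_H_of_supp_closedPoints (cokernel φ) f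
    (hsupp _ fun Ω _ _ ξ h => (EtClosedPts.isZero_stalk_kernel_cokernel φ ξ (hgen Ω ξ h)).2) n hn
  let S₁ := ShortComplex.mk (kernel.ι φ) (Abelian.factorThruImage φ) (by
    rw [← cancel_mono (Abelian.image.ι φ), Category.assoc, Abelian.image.fac, kernel.condition, zero_comp])
  let S₂ := ShortComplex.mk (Abelian.image.ι φ) (cokernel.π φ) (kernel.condition _)
  have hS₁ : S₁.ShortExact := ⟨ShortComplex.exact_of_f_is_kernel _ (isKernelOfComp (Abelian.image.ι φ) φ
    (kernelIsKernel φ) S₁.zero (Abelian.image.fac φ))⟩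
  have hS₂ : S₂.ShortExact := ⟨ShortComplex.exact_of_f_is_kernel _ (kernelIsKernel _)⟩
  have e : (Sheaf.H.map φ 2 : EtCoh.H P F 2 → EtCoh.H P G 2) =
      (fun e : EtCoh.H P (Abelian.image φ) 2 => e.comp (Ext.mk₀ (Abelian.image.ι φ)) (add_zero 2)) ∘
        fun e : EtCoh.H P F 2 => e.comp (Ext.mk₀ (Abelian.factorThruImage φ)) (add_zero 2) := by
    funext z
    rw [Sheaf.H.map_apply]
    show _ = Ext.comp (Ext.comp z (Ext.mk₀ (Abelian.factorThruImage φ)) (add_zero 2)) (Ext.mk₀ (Abelian.image.ι φ)) (add_zero 2)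
    rw [Ext.comp_assoc_of_second_deg_zero, Ext.mk₀_comp_mk₀, Abelian.image.fac]
  rw [e]
  exact (EtClosedPts.bijective_f hS₂ hC 2 (by omega)).comp (EtClosedPts.bijective_g hS₁ hK 2 (by omega))


/-- Let k be a field, K an algebraic closure of k, X₀ a smooth, separated, geometrically irreducible
k-curve of finite type, j : X₀ ⟶ P₀ an open immersion into a proper k-scheme (a compactification,
through which compactly supported cohomology is computed as H^*(P₀ ⊗_k K, j_!(-))), i : U₀ ⟶ X₀ the
inclusion of a non-empty open subscheme, and F an abelian étale sheaf on X₀ killed by an integer ν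
invertible in k. Then the canonical map H^2_c(U₀ ⊗_k K, F|U) ⟶ H^2_c(X₀ ⊗_k K, F), namely the map
induced on H^2(P₀ ⊗_k K, -) by j_! of the counit i_! i^{-1} F ⟶ F, is bijective. (The published
statement is for an arbitrary constructible ℓ-adic sheaf with Q̄_ℓ-coefficients; the statement here
is the finite-coefficient form of its excision argument, over any base field.) -/
theorem result
    (k K : Type u) [Field k] [Field K] [Algebra k K] [IsAlgClosed K] [Algebra.IsAlgebraic k K]
    {X₀ P₀ U₀ : Scheme.{u}} (a : X₀ ⟶ Spec (CommRingCat.of k))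
    [SmoothOfRelativeDimension 1 a] [IsSeparated a] [QuasiCompact a] [GeometricallyIrreducible a]
    (j : X₀ ⟶ P₀) [IsOpenImmersion j] [EtShriek.JCont j] (b : P₀ ⟶ Spec (CommRingCat.of k)) [IsProper b]
    (hj : j ≫ b = a) (i : U₀ ⟶ X₀) [IsOpenImmersion i] [EtShriek.JCont i] [Nonempty ↥U₀]
    (ν : ℕ) (hν : (ν : k) ≠ 0) (F : EtCoh.Ab X₀) (hF : EtCoh.KilledBy ν F) :
    Function.Bijective (Sheaf.H.map ((EtCoh.pull (FinFr.extπ K b)).map
      ((EtShriek.extZero j).map ((EtShriek.extZeroAdj i).counit.app F))) 2) := by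
  haveI : Smooth a := SmoothOfRelativeDimension.smooth 1 a
  haveI : IrreducibleSpace ↥X₀ := GeometricallyIrreducible.irreducibleSpace a a.isOpenMap
  have hdim : topologicalKrullDim X₀ ≤ 1 := le_of_eq (TransvLib.topologicalKrullDim_eq a 1)
  haveI : JacobsonSpace P₀ := LocallyOfFiniteType.jacobsonSpace b
  haveI : IsIntegralHom (FinFr.specι k K) := by
    rw [IsIntegralHom.SpecMap_iff]
    exact fun x => (Algebra.IsIntegral.isIntegral (R := k) x)
  let π := FinFr.extπ K b
  haveI : IsIntegralHom π := MorphismProperty.pullback_fst _ _ ‹IsIntegralHom (FinFr.specι k K)›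
  refine bijective_map_of_closedPoints (FinFr.extStr K b) _ fun Ω _ _ ξ hξ => ?_
  haveI : IsIso ((EtCoh.stalk (ξ ≫ π)).map ((EtShriek.extZero j).map ((EtShriek.extZeroAdj i).counit.app F))) := by
    refine isIso_stalk_extZero_map j _ fun θ hθ => ?_
    have hx : θ default ∈ Set.range i := by
      by_contra hz
      refine hξ ?_
      have hzc : IsClosed ({θ default} : Set X₀) := by
        refine (EtClosedPts.isClosed_or_maximal hdim _).resolve_right fun hmax => hz ?_
        rw [← hmax (genericPoint X₀) (genericPoint_specializes _)]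
        exact ((genericPoint_spec X₀).mem_open_set_iff i.isOpenEmbedding.isOpen_range).2
          (by simpa using Set.range_nonempty i)
      have h1 : j (θ default) ∈ closedPoints P₀ := by
        have h0 : θ default ∈ closedPoints X₀ := hzc
        rw [← j.isOpenEmbedding.preimage_closedPoints] at h0
        exact h0
      have he : π (ξ default) = j (θ default) := by
        rw [← Scheme.Hom.comp_apply, ← Scheme.Hom.comp_apply, hθ]
      refine isClosed_of_closure_subset fun y hy => ?_
      have hs : ξ default ⤳ y := specializes_iff_mem_closure.2 hy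
      have hπ : π y = π (ξ default) := by
        have h2 := (hs.map π.continuous).mem_closed (s := {π (ξ default)}) (by rw [he]; exact h1) rfl
        exact h2
      exact Set.mem_singleton_iff.2 (DimLiftLib.eq_of_specializes π hs hπ.symm).symm
    obtain ⟨θ', rfl⟩ := exists_comp_eq i θ hx
    exact FLCLib.isIso_stalk_counit_on i F θ'
  exact ((NatIso.isIso_map_iff (FLCLib.stalkPullIso π ξ)
    ((EtShriek.extZero j).map ((EtShriek.extZeroAdj i).counit.app F))).2 inferInstance :)

end Groth.Agent.S16257
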