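import Groth.Statements.S16258
import Groth.Agent.S0687
import Groth.Agent.ShriekLib.ExtZeroPull
import Groth.Agent.FLCLib.Spec

set_option autoImplicit false
universe u
open CategoryTheory CategoryTheory.Limits AlgebraicGeometry Opposite
open FinFr

namespace Groth.Agent.S16258

open CategoryTheory CategoryTheory.Limits AlgebraicGeometry

open CategoryTheory CategoryTheory.Limits AlgebraicGeometry Opposite
open EtPtsLib

set_option backward.isDefEq.respectTransparency false
set_option backward.isDefEq.respectTransparency.types false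
set_option linter.style.haveILetI false
set_option maxHeartbeats 1000000

/-- The support of a section of a finite locally constant sheaf is open. -/
theorem isOpen_sectSupp {X : Scheme.{u}} {F : EtCoh.Ab X} (hF : EtCoh.IsFiniteLocallyConstant F) (W : X.Etale)
    (s : EtCoh.sect F W) : IsOpen (EtShriek.sectSupp F W s) := by
  have h : EtShriek.sectSupp F W s = (agree F.obj s 0)ᶜ := by
    ext x
    simp only [EtShriek.sectSupp, agree, Set.mem_setOf_eq, Set.mem_compl_iff, Set.mem_iUnion, Set.mem_range,
      map_zero]
    refine ⟨fun h ⟨V, g, hg, hx⟩ => h V g hx hg, fun h V g hx hg => h ⟨V, g, hg, hx⟩⟩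
  rw [h]
  exact (FLCLib.isClosed_agree_of_flc hF s 0).isOpen_compl

/-- A connected scheme with a proper support of everything is universally closed. -/
theorem universallyClosed_of_univ {X S : Scheme.{u}} (p : X ⟶ S) (h : ClSub.IsProperOver p Set.univ) :
    UniversallyClosed p := by
  obtain ⟨hc, hp⟩ := h
  haveI := hp
  let ι := (Scheme.IdealSheafData.vanishingIdeal (X := X) ⟨Set.univ, hc⟩).subschemeι
  haveI : Surjective ι := ⟨Set.range_eq_univ.1 (by
    rw [Scheme.IdealSheafData.range_subschemeι, Scheme.IdealSheafData.coe_support_vanishingIdeal]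
    exact rfl)⟩
  exact UniversallyClosed.of_comp_surjective ι p


/-- Let k be a field, K an algebraic closure of k, X₀ a smooth, separated, geometrically irreducible
k-curve of finite type which is NOT proper over k, j : X₀ ⟶ P₀ an open immersion into a proper
k-scheme, and F a finite locally constant abelian étale sheaf on X₀. Then the compactly supported
cohomology in degree 0, H^0_c(X₀ ⊗_k K, F) = H^0(P₀ ⊗_k K, j_! F), is zero. (The published statement
is for a smooth ℓ-adic sheaf with Q̄_ℓ-coefficients, together with H^0_c = H^0 for proper curves;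
the statement here is the finite locally constant case of the non-proper half.) -/
theorem result
    (k K : Type u) [Field k] [Field K] [Algebra k K] [IsAlgClosed K] [Algebra.IsAlgebraic k K]
    {X₀ P₀ : Scheme.{u}} (a : X₀ ⟶ Spec (CommRingCat.of k))
    [SmoothOfRelativeDimension 1 a] [IsSeparated a] [QuasiCompact a] [GeometricallyIrreducible a]
    (ha : ¬ IsProper a)
    (j : X₀ ⟶ P₀) [IsOpenImmersion j] [EtShriek.JCont j] (b : P₀ ⟶ Spec (CommRingCat.of k)) [IsProper b]
    (hj : j ≫ b = a) (F : EtCoh.Ab X₀) (hF : EtCoh.IsFiniteLocallyConstant F) :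
    Subsingleton (EtCoh.H (FinFr.ext K b) ((EtCoh.pull (FinFr.extπ K b)).obj ((EtShriek.extZero j).obj F)) 0) := by
  let π := FinFr.extπ K b
  let f' : pullback a (FinFr.specι k K) ⟶ X₀ := pullback.fst _ _
  let p : pullback a (FinFr.specι k K) ⟶ Spec (CommRingCat.of K) := pullback.snd _ _
  let j' : pullback a (FinFr.specι k K) ⟶ FinFr.ext K b :=
    pullback.lift (f' ≫ j) p (by rw [Category.assoc, hj]; exact pullback.condition)
  have hsq : IsPullback j' f' π j := by
    refine (IsPullback.of_bot (h₂₁ := π) (v₂₁ := FinFr.extStr K b) (v₂₂ := b) ?_ ?_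
      (IsPullback.of_hasPullback b (FinFr.specι k K))).flip
    · rw [pullback.lift_snd, hj]
      exact IsPullback.of_hasPullback a (FinFr.specι k K)
    · exact (pullback.lift_fst _ _ _).symm
  haveI : IsOpenImmersion j' := MorphismProperty.of_isPullback (P := @IsOpenImmersion) hsq.flip ‹IsOpenImmersion j›
  haveI : Smooth a := SmoothOfRelativeDimension.smooth 1 a
  haveI : IsSeparated p := inferInstance
  haveI : LocallyOfFiniteType p := inferInstance
  let G := (EtCoh.pull f').obj F
  have hG : EtCoh.IsFiniteLocallyConstant G := FLCLib.isFiniteLocallyConstant_pull f' hF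
  have hp : p = j' ≫ FinFr.extStr K b := (pullback.lift_snd _ _ _).symm
  obtain ⟨e⟩ := S0687.result j' (FinFr.extStr K b) p hp G
  let iso := (ShriekLib.extZeroPullIso π j j' f' hsq).app F
  haveI : Subsingleton (EtShriek.H0c p G) := by
    refine subsingleton_of_forall_eq 0 fun s => Subtype.ext ?_
    by_contra hs
    let Z := EtShriek.sectSupp G (EtCoh.top _) s.1
    have hZ : ClSub.IsProperOver p Z := (ShriekLib.mem_H0c_iff p G s.1).1 s.2
    have hne : Z.Nonempty := by
      rw [Set.nonempty_iff_ne_empty]
      intro h0
      apply hs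
      exact sect_ext G _ s.1 0 fun Ω _ _ ξ l => by
        refine ((germ_eq_zero_iff ξ G l s.1).2 ?_).trans (map_zero _).symm
        exact fun hmem => Set.eq_empty_iff_forall_notMem.1 h0 _ hmem
    haveI : IrreducibleSpace ↥(pullback a (FinFr.specι k K)) :=
      GeometricallyIrreducible.irreducibleSpace p p.isOpenMap
    haveI : PreconnectedSpace ↥(EtCoh.top (pullback a (FinFr.specι k K))).left :=
      inferInstanceAs (PreconnectedSpace ↥(pullback a (FinFr.specι k K)))
    have hu : Z = Set.univ :=
      IsClopen.eq_univ (⟨hZ.1, isOpen_sectSupp hG _ s.1⟩ : IsClopen (Z : Set ↥(pullback a (FinFr.specι k K)))) hne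
    have hpc : UniversallyClosed p := universallyClosed_of_univ p (hu ▸ hZ)
    haveI : UniversallyClosed a := MorphismProperty.of_pullback_snd_of_descendsAlong
      (P := @UniversallyClosed) (Q := @Surjective ⊓ @Flat ⊓ @QuasiCompact)
      (g := FinFr.specι k K) ⟨⟨inferInstance, inferInstance⟩, inferInstance⟩ hpc
    haveI : IsProper a := { }
    exact ha inferInstance
  have hS := e.toEquiv.subsingleton_congr.1 ‹_›
  haveI : Subsingleton (EtCoh.sect ((EtCoh.pull π).obj ((EtShriek.extZero j).obj F)) (EtCoh.top _)) := by
    have e2 := (((sheafToPresheaf _ _).mapIso iso).app (op (EtCoh.top _))).addCommGroupIsoToAddEquiv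
    exact @Equiv.subsingleton _ _ e2.toEquiv hS
  exact (Sheaf.H.equiv₀ _ (EtCore.topIsTerminal _)).toEquiv.subsingleton

end Groth.Agent.S16258
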