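import Groth.Statements.S16259
import Mathlib

set_option autoImplicit false
open W4c3wronskmg

namespace Groth.Agent.S16259

open Polynomial in
/-- Over a field of characteristic zero, for positive integers `i, j` and a natural number `n`, the
polynomial `h(W) = ∑_{l=0}^{n} (i choose l) (j choose (n-l)) W^(n-l)`, the coefficient of
`X^(i+j-n)` in `(X+1)^i (X+W)^j`, has no multiple root other than possibly `0` and `1`: every `c ≠
0, 1` has root multiplicity at most one. -/
theorem result
    (k : Type*) [Field k] [CharZero k] (i j n : ℕ) (hi : 0 < i) (hj : 0 < j) (c : k) (hc0 : c ≠ 0) (hc1 : c ≠ 1) :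
    Polynomial.rootMultiplicity c
      (∑ l ∈ Finset.range (n + 1),
        Polynomial.C (((i.choose l) * (j.choose (n - l)) : ℕ) : k) * Polynomial.X ^ (n - l)) ≤ 1 := by
  classical
  set a : ℕ → k := fun m => if m ≤ n then ((i.choose (n - m) * j.choose m : ℕ) : k) else 0 with ha
  set P : Polynomial k := ∑ l ∈ Finset.range (n + 1),
    Polynomial.C (((i.choose l) * (j.choose (n - l)) : ℕ) : k) * Polynomial.X ^ (n - l) with hP
  have hcoef : ∀ m, P.coeff m = a m := by
    intro m
    simp only [hP, Polynomial.finsetSum_coeff, Polynomial.coeff_C_mul_X_pow, ha]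
    split_ifs with hm
    · rw [Finset.sum_eq_single (n - m)]
      · rw [if_pos (by omega), show n - (n - m) = m by omega]
      · intro l hl hne
        rw [Finset.mem_range] at hl
        rw [if_neg (by omega)]
      · intro h; exact absurd (Finset.mem_range.2 (by omega)) h
    · exact Finset.sum_eq_zero fun l hl => if_neg (by rw [Finset.mem_range] at hl; omega)
  have hrec : ∀ m : ℕ, ((m : k) + 1) * ((m : k) + i - n + 1) * a (m + 1) =
      ((m : k) - n) * ((m : k) - j) * a m := by
    intro m
    rcases lt_trichotomy m n with h | rfl | h
    · simp only [ha, if_pos (show m + 1 ≤ n by omega), if_pos h.le]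
      obtain ⟨d, rfl⟩ : ∃ d, n = m + 1 + d := Nat.exists_eq_add_of_le (by omega)
      rw [show m + 1 + d - (m + 1) = d by omega, show m + 1 + d - m = d + 1 by omega]
      have e1 : ((i.choose (d + 1) : ℕ) : k) * ((d : k) + 1) = (i.choose d : k) * ((i : k) - d) := by
        rcases le_or_gt d i with hd | hd
        · have := congrArg (Nat.cast : ℕ → k) (Nat.choose_succ_right_eq i d)
          push_cast [Nat.cast_sub hd] at this
          exact this
        · simp [Nat.choose_eq_zero_of_lt hd, Nat.choose_eq_zero_of_lt (show i < d + 1 by omega)]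
      have e2 : ((j.choose (m + 1) : ℕ) : k) * ((m : k) + 1) = (j.choose m : k) * ((j : k) - m) := by
        rcases le_or_gt m j with hd | hd
        · have := congrArg (Nat.cast : ℕ → k) (Nat.choose_succ_right_eq j m)
          push_cast [Nat.cast_sub hd] at this
          exact this
        · simp [Nat.choose_eq_zero_of_lt hd, Nat.choose_eq_zero_of_lt (show j < m + 1 by omega)]
      push_cast
      linear_combination ((j.choose (m+1) : k) * ((m : k) + 1)) * (-e1) + ((i.choose (d + 1) : k) * ((d : k) + 1)) * e2
    · simp [ha]
    · simp [ha, show ¬ m ≤ n by omega, show ¬ m + 1 ≤ n by omega]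
  have hode : (Polynomial.X * (1 - Polynomial.X)) * P.derivative.derivative =
      Polynomial.C ((n : k) - i - 1) * P.derivative + Polynomial.C (1 - (n : k) - j) * (Polynomial.X * P.derivative) +
        Polynomial.C ((n : k) * j) * P := by
    refine Polynomial.ext fun m => ?_
    rcases m with _ | _ | m
    · simp [mul_sub, sub_mul, mul_assoc, Polynomial.coeff_derivative, hcoef]
      linear_combination hrec 0
    · simp [mul_sub, sub_mul, mul_assoc, Polynomial.coeff_derivative, hcoef]
      have := hrec 1
      push_cast at this ⊢
      linear_combination this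
    · simp [mul_sub, sub_mul, mul_assoc, Polynomial.coeff_derivative, hcoef]
      have := hrec (m + 2)
      push_cast at this ⊢
      linear_combination this
  by_contra hr
  have hr2 : 2 ≤ Polynomial.rootMultiplicity c P := by omega
  have hP0 : P ≠ 0 := fun h => by simp [h] at hr2
  set r := Polynomial.rootMultiplicity c P with hrdef
  have hroot : P.IsRoot c := (Polynomial.rootMultiplicity_pos hP0).1 (by omega)
  have h1 : P.derivative.rootMultiplicity c = r - 1 := Polynomial.derivative_rootMultiplicity_of_root hroot
  have hd0 : P.derivative ≠ 0 := fun h => by rw [h, Polynomial.rootMultiplicity_zero] at h1; omega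
  have hroot1 : P.derivative.IsRoot c := (Polynomial.rootMultiplicity_pos hd0).1 (by omega)
  have h2 : P.derivative.derivative.rootMultiplicity c = r - 2 := by
    rw [Polynomial.derivative_rootMultiplicity_of_root hroot1, h1]; omega
  have hdd0 : P.derivative.derivative ≠ 0 := fun h => by
    have := Polynomial.natDegree_eq_zero_of_derivative_eq_zero h
    have h3 : P.derivative.rootMultiplicity c ≤ P.derivative.natDegree := by
      rw [← Polynomial.count_roots]
      exact le_trans (Multiset.count_le_card _ _) (Polynomial.card_roots' _)
    omega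
  have hdvd : (Polynomial.X - Polynomial.C c) ^ (r - 1) ∣
      (Polynomial.X * (1 - Polynomial.X)) * P.derivative.derivative := by
    rw [hode]
    have hA : (Polynomial.X - Polynomial.C c) ^ (r - 1) ∣ P.derivative :=
      h1 ▸ Polynomial.pow_rootMultiplicity_dvd _ _
    have hB : (Polynomial.X - Polynomial.C c) ^ (r - 1) ∣ P :=
      (pow_dvd_pow _ (by omega)).trans (Polynomial.pow_rootMultiplicity_dvd P c)
    exact dvd_add (dvd_add (hA.mul_left _) ((hA.mul_left _).mul_left _)) (hB.mul_left _)
  have hne : ((Polynomial.X * (1 - Polynomial.X) : Polynomial k)).eval c ≠ 0 := by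
    simp [hc0, sub_ne_zero, Ne.symm hc1]
  have hXne : (Polynomial.X * (1 - Polynomial.X) : Polynomial k) ≠ 0 := fun h => hne (by rw [h]; simp)
  have hm : ((Polynomial.X * (1 - Polynomial.X)) * P.derivative.derivative).rootMultiplicity c = r - 2 := by
    rw [Polynomial.rootMultiplicity_mul (mul_ne_zero hXne hdd0), h2,
      Polynomial.rootMultiplicity_eq_zero (p := Polynomial.X * (1 - Polynomial.X)) hne, zero_add]
  have := (Polynomial.le_rootMultiplicity_iff (mul_ne_zero hXne hdd0)).2 hdvd
  omega

end Groth.Agent.S16259
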