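import Groth.Statements.S9676
import Groth.Agent.NagNorm.Basic
import Groth.Agent.NagNorm.Local

set_option autoImplicit false
universe u
open CategoryTheory CategoryTheory.Limits AlgebraicGeometry
open Mor

namespace Groth.Agent.S9676

set_option backward.isDefEq.respectTransparency false

open AlgebraicGeometry CategoryTheory in
theorem exists_dvd {X Y : Scheme.{u}} (f : Y ⟶ X) [QuasiCompact f] [QuasiSeparated f] (x' : ↥f.normalization)
    (hx' : x' ∉ Set.range f.toNormalization.base) {W : X.Opens} (hW : IsAffineOpen W)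
    (hxV : x' ∈ f.fromNormalization ⁻¹ᵁ W) (e : f ⁻¹ᵁ W ≤ f.toNormalization ⁻¹ᵁ f.fromNormalization ⁻¹ᵁ W)
    (s : Γ(f.normalization, f.fromNormalization ⁻¹ᵁ W))
    (hs : ∀ Q : Ideal Γ(f.normalization, f.fromNormalization ⁻¹ᵁ W), Q.IsPrime →
      Q < ((hW.preimage f.fromNormalization).primeIdealOf ⟨x', hxV⟩).asIdeal → s ∉ Q) :
    ∃ u ∉ ((hW.preimage f.fromNormalization).primeIdealOf ⟨x', hxV⟩).asIdeal, ∃ t : Γ(Y, f ⁻¹ᵁ W),
      t * f.toNormalization.appLE _ _ e s = f.toNormalization.appLE _ _ e u := by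
  classical
  set hV := hW.preimage f.fromNormalization
  set P := (hV.primeIdealOf ⟨x', hxV⟩).asIdeal with hP
  set φ := (f.toNormalization.appLE _ _ e).hom with hφ
  have loc : ∀ y ∈ f ⁻¹ᵁ W, ∃ U : Y.Opens, y ∈ U ∧ U ≤ f ⁻¹ᵁ W ∧ IsAffineOpen U := fun y hy => by
    obtain ⟨_, ⟨U, hU, rfl⟩, hyU, hUW⟩ := Y.isBasis_affineOpens.exists_subset_of_mem_open hy (f ⁻¹ᵁ W).2
    exact ⟨U, hyU, hUW, hU⟩
  choose U hyU hUW hU using loc
  obtain ⟨t, ht⟩ := (f.isCompact_preimage hW.isCompact).elim_finite_subcover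
    (fun y : ↥(f ⁻¹ᵁ W) => (U y.1 y.2 : Set Y)) (fun y => (U y.1 y.2).2)
    fun y hy => Set.mem_iUnion.2 ⟨⟨y, hy⟩, hyU y hy⟩
  have piece : ∀ y : ↥(f ⁻¹ᵁ W), ∃ u ∉ P, Y.basicOpen (φ u) ⊓ U y.1 y.2 ≤ Y.basicOpen (φ s) := by
    intro y
    have hA := hU y.1 y.2
    let A := U y.1 y.2
    let ψ := (f.toNormalization.appLE _ A ((hUW y.1 y.2).trans e)).hom
    have hψ : ∀ r, Y.presheaf.map (homOfLE (hUW y.1 y.2)).op (φ r) = ψ r := fun r =>
      ConcreteCategory.congr_hom (Scheme.Hom.appLE_map f.toNormalization e (homOfLE (hUW y.1 y.2)).op) r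
    have hnd : ¬ Disjoint (Ideal.span {ψ s} : Set Γ(Y, A)) (P.primeCompl.map ψ : Set Γ(Y, A)) := by
      intro hd
      obtain ⟨q, hq, hsq, hdq⟩ := Ideal.exists_le_prime_disjoint _ _ hd
      have hle : q.comap ψ ≤ P := fun r hr => by_contra fun hrP =>
        Set.disjoint_left.1 hdq hr ⟨r, hrP, rfl⟩
      rcases hle.lt_or_eq with hlt | heq
      · exact hs _ (Ideal.comap_isPrime ψ q) hlt (hsq (Ideal.mem_span_singleton_self _))
      · set z := hA.fromSpec (⟨q, hq⟩ : PrimeSpectrum Γ(Y, A)) with hz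
        have hzA : z ∈ A := by
          have : z ∈ Set.range hA.fromSpec := ⟨_, rfl⟩
          rwa [hA.range_fromSpec] at this
        have hzq : hA.primeIdealOf ⟨z, hzA⟩ = ⟨q, hq⟩ :=
          hA.fromSpec.isOpenEmbedding.injective (hA.fromSpec_primeIdealOf _)
        have hc := IsAffineOpen.comap_primeIdealOf_appLE (f := f.toNormalization) _ hV A hA ((hUW y.1 y.2).trans e) hzA
        rw [hzq] at hc
        have hc' : hV.primeIdealOf ⟨f.toNormalization z, e (hUW y.1 y.2 hzA)⟩ = hV.primeIdealOf ⟨x', hxV⟩ :=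
          hc.symm.trans (PrimeSpectrum.ext heq)
        refine hx' ⟨z, ?_⟩
        have := congrArg hV.fromSpec hc'
        rwa [hV.fromSpec_primeIdealOf, hV.fromSpec_primeIdealOf] at this
    obtain ⟨_, hspan, u, hu, rfl⟩ := Set.not_disjoint_iff.1 hnd
    obtain ⟨c, hc⟩ := Ideal.mem_span_singleton.1 hspan
    refine ⟨u, hu, ?_⟩
    calc Y.basicOpen (φ u) ⊓ A = A ⊓ Y.basicOpen (φ u) := inf_comm _ _
      _ = Y.basicOpen (ψ u) := by rw [← hψ, Scheme.basicOpen_res]
      _ ≤ Y.basicOpen (ψ s) := by rw [hc, Scheme.basicOpen_mul]; exact inf_le_left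
      _ ≤ _ := by rw [← hψ, Scheme.basicOpen_res]; exact inf_le_right
  choose w hw hwle using piece
  set u := ∏ y ∈ t, w y
  have huP : u ∉ P := fun h => by
    obtain ⟨y, -, hy⟩ := ((hV.primeIdealOf ⟨x', hxV⟩).isPrime.prod_mem_iff).1 h
    exact hw y hy
  have hbo : Y.basicOpen (φ u) ≤ Y.basicOpen (φ s) := by
    intro z hz
    obtain ⟨y, hy, hzy⟩ := Set.mem_iUnion₂.1 (ht (Y.basicOpen_le _ hz))
    refine hwle y ⟨?_, hzy⟩
    have hdvd : φ (w y) ∣ φ u := map_dvd φ (Finset.dvd_prod_of_mem w hy)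
    obtain ⟨c, hc⟩ := hdvd
    rw [hc, Scheme.basicOpen_mul] at hz
    exact hz.1
  letI : Algebra Γ(Y, f ⁻¹ᵁ W) Γ(Y, Y.basicOpen (φ u)) :=
    (Y.presheaf.map (homOfLE (Y.basicOpen_le (φ u))).op).hom.toAlgebra
  haveI : IsLocalization.Away (φ u) Γ(Y, Y.basicOpen (φ u)) :=
    isLocalization_basicOpen_of_qcqs (f.isCompact_preimage hW.isCompact)
      (f.isQuasiSeparated_preimage hW.isQuasiSeparated) (φ u)
  have hunit : IsUnit (algebraMap Γ(Y, f ⁻¹ᵁ W) Γ(Y, Y.basicOpen (φ u)) (φ s)) := by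
    have h0 : IsUnit (Y.presheaf.map (homOfLE (Y.basicOpen_le (φ s))).op (φ s)) := Y.toRingedSpace.isUnit_res_basicOpen (φ s)
    have h := h0.map (Y.presheaf.map (homOfLE hbo).op).hom
    rw [← CommRingCat.comp_apply, ← Functor.map_comp] at h
    exact h
  obtain ⟨v, hv⟩ := hunit.exists_left_inv
  obtain ⟨⟨a, ⟨_, n, rfl⟩⟩, ha⟩ := IsLocalization.surj (Submonoid.powers (φ u)) v
  simp only at ha
  have h1 : algebraMap Γ(Y, f ⁻¹ᵁ W) Γ(Y, Y.basicOpen (φ u)) (a * φ s) = algebraMap _ _ (φ u ^ n) := by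
    rw [map_mul, ← ha, mul_right_comm, hv, one_mul]
  obtain ⟨⟨_, m, rfl⟩, hm⟩ := (IsLocalization.eq_iff_exists (Submonoid.powers (φ u)) _).1 h1
  refine ⟨u ^ (m + n), fun h => huP ((hV.primeIdealOf ⟨x', hxV⟩).isPrime.mem_of_pow_mem _ h), φ u ^ m * a, ?_⟩
  show φ u ^ m * a * φ s = φ (u ^ (m + n))
  rw [map_pow, pow_add, mul_assoc]
  exact hm

/-- Let f : Y ⟶ X be of finite type with Y reduced and every affine open of X having Nagata coordinate
ring, and let X' be the normalization of X in Y. If x' is a point of X' whose local ring has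
dimension 1 and over which the fibre of Y ⟶ X' is empty, then the local ring of X' at x' is a
discrete valuation ring. (Such an f is automatically quasi-separated; the binder is carried only to
form the relative normalization.) -/
theorem result {X Y : Scheme.{u}} (f : Y ⟶ X)
    [LocallyOfFiniteType f] [QuasiCompact f] [QuasiSeparated f] [IsReduced Y]
    (hX : ∀ U : X.affineOpens, CAlg.IsNagata Γ(X, U))
    (x' : ↥f.normalization) (hdim : ringKrullDim (f.normalization.presheaf.stalk x') = 1)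
    (hx' : x' ∉ Set.range f.toNormalization.base) :
    ∃ _ : IsDomain (f.normalization.presheaf.stalk x'),
      IsDiscreteValuationRing (f.normalization.presheaf.stalk x') := by
  classical
  haveI : IsFinite f.fromNormalization := NagNorm.isFinite_fromNormalization_finiteType f hX
  obtain ⟨_, ⟨W, hW, rfl⟩, hxW, -⟩ := X.isBasis_affineOpens.exists_subset_of_mem_open
    (Set.mem_univ (f.fromNormalization x')) isOpen_univ
  replace hW : IsAffineOpen W := hW
  have e : f ⁻¹ᵁ W ≤ f.toNormalization ⁻¹ᵁ f.fromNormalization ⁻¹ᵁ W := by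
    simp [← Scheme.Hom.comp_preimage]
  set hV := hW.preimage f.fromNormalization
  haveI : IsNoetherianRing Γ(X, W) := (hX ⟨W, hW⟩).1
  haveI : IsNoetherianRing Γ(f.normalization, f.fromNormalization ⁻¹ᵁ W) := by
    letI := (f.fromNormalization.app W).hom.toAlgebra
    haveI : Module.Finite Γ(X, W) Γ(f.normalization, f.fromNormalization ⁻¹ᵁ W) := f.fromNormalization.finite_app W hW
    exact IsNoetherianRing.of_finite Γ(X, W) _
  have hval := f.normalizationObjIso_hom_val hW
  letI : Algebra Γ(X, W) Γ(Y, f ⁻¹ᵁ W) := (f.app W).hom.toAlgebra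
  set φ := (f.toNormalization.appLE _ _ e).hom with hφ
  have hφval : ∀ r, φ r = ((f.normalizationObjIso hW).hom r : Γ(Y, f ⁻¹ᵁ W)) := fun r =>
    (ConcreteCategory.congr_hom hval r).symm
  have hinj : Function.Injective φ := fun a b h => by
    rw [hφval, hφval] at h
    exact (f.normalizationObjIso hW).commRingCatIsoToRingEquiv.injective (Subtype.ext h)
  haveI : IsReduced Γ(f.normalization, f.fromNormalization ⁻¹ᵁ W) := isReduced_of_injective φ hinj
  have hclosed : ∀ z : Γ(Y, f ⁻¹ᵁ W), φ.IsIntegralElem z → z ∈ φ.range := fun z hz => by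
    let j := f.normalizationObjIso hW
    have h1 : IsIntegral (integralClosure Γ(X, W) Γ(Y, f ⁻¹ᵁ W)) z := by
      obtain ⟨p, hp, hp0⟩ := hz
      refine ⟨p.map j.hom.hom, hp.map _, ?_⟩
      rw [Polynomial.eval₂_map]
      rw [show (algebraMap (integralClosure Γ(X, W) Γ(Y, f ⁻¹ᵁ W)) Γ(Y, f ⁻¹ᵁ W)).comp j.hom.hom = φ from
        RingHom.ext fun r => (hφval r).symm]
      exact hp0
    refine ⟨j.inv ⟨z, isIntegral_trans z h1⟩, ?_⟩
    rw [hφval, CategoryTheory.Iso.inv_hom_id_apply]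
  set P := (hV.primeIdealOf ⟨x', hxW⟩).asIdeal with hP
  set O := f.normalization.presheaf.stalk x'
  letI : Algebra Γ(f.normalization, f.fromNormalization ⁻¹ᵁ W) O :=
    f.normalization.presheaf.algebra_section_stalk (⟨x', hxW⟩ : ↥(f.fromNormalization ⁻¹ᵁ W))
  haveI : IsLocalization.AtPrime O P := hV.isLocalization_stalk ⟨x', hxW⟩
  haveI : IsNoetherianRing O := IsLocalization.isNoetherianRing P.primeCompl O inferInstance
  haveI : IsReduced O := isReduced_localizationPreserves P.primeCompl O inferInstance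
  have hkey := fun s hs => exists_dvd f x' hx' hW hxW e s hs
  haveI : FiniteRingKrullDim O := finiteRingKrullDim_iff_ne_bot_and_top.2 ⟨by rw [hdim]; decide, by rw [hdim]; decide⟩
  have hd : ∀ Q' : Ideal O, Q'.IsPrime → Q' ∉ minimalPrimes O → Q'.comap (algebraMap _ O) = P := by
    intro Q' hQ' hQm
    obtain ⟨Q₀, hQ₀, hle⟩ := Ideal.exists_minimalPrimes_le (I := (⊥ : Ideal O)) (J := Q') bot_le
    have hne : Q₀ ≠ Q' := fun h => hQm (h ▸ hQ₀)
    have hmax : Q' = IsLocalRing.maximalIdeal O := by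
      by_contra hQne
      have h1 : Q' < IsLocalRing.maximalIdeal O := lt_of_le_of_ne (IsLocalRing.le_maximalIdeal hQ'.ne_top) hQne
      have h0 : Q₀ < Q' := lt_of_le_of_ne hle hne
      let l : LTSeries (PrimeSpectrum O) := ((RelSeries.singleton _ (⟨Q₀, Ideal.minimalPrimes_isPrime hQ₀⟩ : PrimeSpectrum O)).snoc ⟨Q', hQ'⟩ h0).snoc
        ⟨IsLocalRing.maximalIdeal O, inferInstance⟩ (by rw [RelSeries.last_snoc]; exact h1)
      have h2 := (Order.LTSeries.length_le_krullDim l)
      change _ ≤ ringKrullDim O at h2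
      rw [hdim] at h2
      exact absurd h2 (by simp [l])
    rw [hmax]
    exact IsLocalization.AtPrime.comap_maximalIdeal O P
  have hsub := NagNorm.eq_zero_or_eq_zero φ hinj hclosed P O hkey hd
  haveI : IsDomain O := by
    haveI : Nontrivial O := inferInstance
    obtain ⟨Q, hQ, -⟩ := Ideal.exists_minimalPrimes_le (I := (⊥ : Ideal O)) (J := IsLocalRing.maximalIdeal O) bot_le
    haveI hQp : Q.IsPrime := Ideal.minimalPrimes_isPrime hQ
    have hbot : Q = ⊥ := by
      refine eq_bot_iff.2 fun x hx => ?_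
      have h : x ∈ sInf (⊥ : Ideal O).minimalPrimes := Submodule.mem_sInf.2 fun Q' hQ' => hsub hQ hQ' ▸ hx
      rw [Ideal.sInf_minimalPrimes] at h
      exact (Submodule.mem_bot O).2 (IsReduced.eq_zero _ h)
    exact IsDomain.of_bot_isPrime O (hbp := hbot ▸ hQp)
  haveI := NagNorm.isIntegrallyClosed φ hinj hclosed P O hkey hd
  refine ⟨inferInstance, ?_⟩
  have hnf : ¬ IsField O := fun h => by
    rw [ringKrullDim_eq_zero_of_isField h] at hdim
    exact zero_ne_one hdim
  haveI : Ring.DimensionLEOne O := ⟨fun {Q} hQ0 hQ => by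
    have hm : Q ∉ minimalPrimes O := fun h => hQ0 (by
      rw [IsDomain.minimalPrimes_eq_singleton_bot] at h; exact h)
    by_contra hQne
    obtain ⟨Q₀, hQ₀, -⟩ := Ideal.exists_minimalPrimes_le (I := (⊥ : Ideal O)) (J := Q) bot_le
    have h := hd Q hQ hm
    rw [← IsLocalization.AtPrime.comap_maximalIdeal O P] at h
    have h' : Q = IsLocalRing.maximalIdeal O := (IsLocalization.orderEmbedding P.primeCompl O).injective h
    exact hQne (h' ▸ IsLocalRing.maximalIdeal.isMaximal O)⟩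
  haveI : IsDedekindDomain O := { }
  exact ((IsDiscreteValuationRing.TFAE O hnf).out 0 2).2 ‹_›

end Groth.Agent.S9676
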