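import Groth.Statements.S1626
import Groth.Agent.CurveGlueLib.Boundary
import Groth.Agent.S9676
import Groth.Agent.NagataLib.FiniteType

set_option autoImplicit false
universe u
open CategoryTheory CategoryTheory.Limits AlgebraicGeometry
open Variety

namespace Groth.Agent.S1626

open CategoryTheory CategoryTheory.Limits AlgebraicGeometry

open AlgebraicGeometry CategoryTheory CategoryTheory.Limits TopologicalSpace in
theorem nagata_affine (k : Type u) [Field k] {Y : Scheme.{u}} (q : Y ⟶ Spec (CommRingCat.of k))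
    [LocallyOfFiniteType q] (U : Y.affineOpens) : CAlg.IsNagata Γ(Y, U) := by
  have hk : CAlg.IsNagata Γ(Spec (CommRingCat.of k), ⊤) := by
    refine Groth.Agent.NagataLib.isNagata_of_surjective (A := k) (Scheme.ΓSpecIso (CommRingCat.of k)).commRingCatIsoToRingEquiv.symm.toRingHom
      (Scheme.ΓSpecIso (CommRingCat.of k)).commRingCatIsoToRingEquiv.symm.surjective ?_
    refine ⟨inferInstance, fun p hp => ?_⟩
    intro L _ _ _ _ hfd
    haveI := hfd
    haveI : p.IsMaximal := (Ideal.eq_bot_or_top p).elim (fun h => h ▸ Ideal.bot_isMaximal) (fun h => absurd h hp.ne_top)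
    letI := Ideal.Quotient.field p
    haveI : FiniteDimensional (k ⧸ p) (FractionRing (k ⧸ p)) :=
      Module.Finite.equiv (FractionRing.algEquiv (k ⧸ p) (k ⧸ p)).toLinearEquiv.symm
    haveI : Module.Finite (k ⧸ p) L := Module.Finite.trans (FractionRing (k ⧸ p)) L
    exact Module.Finite.of_injective (integralClosure (k ⧸ p) L).val.toLinearMap Subtype.val_injective
  have hft : (q.appLE ⊤ U.1 le_top).hom.FiniteType :=
    LocallyOfFiniteType.finiteType_appLE _ (isAffineOpen_top _) U.2 _
  letI := (q.appLE ⊤ U.1 le_top).hom.toAlgebra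
  haveI : Algebra.FiniteType Γ(Spec (CommRingCat.of k), ⊤) Γ(Y, U) := hft
  exact Groth.Agent.NagataLib.isNagata_of_finiteType hk

/-- Let X be reduced, separated and of finite type over k with dim X ≤ 1. Then there are a closed
subscheme Y of some P^d_k and a dense, scheme-theoretically dense open immersion j : X → Y over k
whose complement is a finite set of closed points at each of which the local ring of Y is a discrete
valuation ring. -/
theorem result (k : Type u) [Field k] (X : Scheme.{u}) [X.Over (Spec (CommRingCat.of k))] [IsReduced X] [IsSeparated (X ↘ (Spec (CommRingCat.of k)))] [LocallyOfFiniteType (X ↘ (Spec (CommRingCat.of k)))] [QuasiCompact (X ↘ (Spec (CommRingCat.of k)))] (hdim : topologicalKrullDim X ≤ 1) :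
    ∃ (d : ℕ) (Y : Scheme.{u}) (c : Y ⟶ CohB1.ProjSpace d k) (j : X ⟶ Y), IsClosedImmersion c ∧ IsOpenImmersion j ∧
      j ≫ c ≫ CohB1.ProjSpace.toSpec d k = X ↘ (Spec (CommRingCat.of k)) ∧ Dense (Set.range j.base) ∧ IsSchemeTheoreticallyDominant j ∧
      (Set.range j.base)ᶜ.Finite ∧ ∀ y ∈ (Set.range j.base)ᶜ, IsClosed ({y} : Set Y) ∧
        ∃ _ : IsDomain (Y.presheaf.stalk y), IsDiscreteValuationRing (Y.presheaf.stalk y) := by
  obtain ⟨d₀, Y₀, c₀, j₀, hc₀, hj₀, hq, -, hsd, -, -, -⟩ :=
    Groth.Agent.CurveGlueLib.exists_completion k (X ↘ (Spec (CommRingCat.of k))) hdim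
  haveI : IsProper (c₀ ≫ CohB1.ProjSpace.toSpec d₀ k) := inferInstance
  haveI := Groth.Agent.CurveGlueLib.isNoetherian_of_field k (c₀ ≫ CohB1.ProjSpace.toSpec d₀ k)
  haveI : QuasiCompact j₀ := inferInstance
  have hN := nagata_affine k (c₀ ≫ CohB1.ProjSpace.toSpec d₀ k)
  haveI := Groth.Agent.NagNorm.isFinite_fromNormalization_finiteType j₀ hN
  let π := j₀.fromNormalization ≫ c₀ ≫ CohB1.ProjSpace.toSpec d₀ k
  haveI : IsProper π := inferInstanceAs (IsProper (j₀.fromNormalization ≫ c₀ ≫ CohB1.ProjSpace.toSpec d₀ k))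
  haveI := Groth.Agent.CurveGlueLib.isNoetherian_of_field k π
  haveI : IsImmersion (j₀.toNormalization ≫ j₀.fromNormalization) := by
    rw [Scheme.Hom.toNormalization_fromNormalization]; infer_instance
  haveI : IsImmersion j₀.toNormalization := IsImmersion.of_comp j₀.toNormalization j₀.fromNormalization
  haveI hS : IsSchemeTheoreticallyDominant j₀.toNormalization := ⟨j₀.ker_toNormalization⟩
  haveI : IsOpenImmersion j₀.toNormalization := by
    haveI : IsIso j₀.toNormalization.imageι := by
      rw [IsClosedImmersion.isIso_iff_ker_eq_bot]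
      exact (Scheme.IdealSheafData.ker_subschemeι _).trans j₀.ker_toNormalization
    rw [← j₀.toNormalization.toImage_imageι]
    infer_instance
  have hq' : j₀.toNormalization ≫ π = X ↘ (Spec (CommRingCat.of k)) := by
    show j₀.toNormalization ≫ j₀.fromNormalization ≫ c₀ ≫ CohB1.ProjSpace.toSpec d₀ k = _
    rw [Scheme.Hom.toNormalization_fromNormalization_assoc, hq]
  have hdense : Dense (Set.range j₀.toNormalization.base) := j₀.toNormalization.denseRange
  have hY : topologicalKrullDim j₀.normalization ≤ 1 := by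
    refine (Groth.Agent.CurveGlueLib.dim_le_of_dense k π j₀.toNormalization.opensRange hdense).trans ?_
    exact (IsHomeomorph.topologicalKrullDim_eq _ j₀.toNormalization.isoOpensRange.hom.homeomorph.isHomeomorph).symm.le.trans hdim
  obtain ⟨h1, h2⟩ := Groth.Agent.CurveGlueLib.compl_props hY j₀.toNormalization.opensRange fun C hC => by
    obtain ⟨η, hη⟩ := QuasiSober.sober hC.1 (isClosed_of_mem_irreducibleComponents _ hC)
    exact ⟨η, Groth.Agent.DimFormulaLib.mem_of_dense j₀.toNormalization.opensRange.2 hdense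
      (fun w hw => Groth.Agent.Unibranch.max_of_component hC hη w hw), hη⟩
  obtain ⟨d, i, hi, -, hiq⟩ := Groth.Agent.CurveGlueLib.exists_immersion k π hY
  haveI : IsProper (i ≫ CohB1.ProjSpace.toSpec d k) := hiq ▸ inferInstance
  haveI := IsProper.of_comp i (CohB1.ProjSpace.toSpec d k)
  haveI : IsClosedImmersion i := (IsClosedImmersion.iff_isProper_and_mono _).2 ⟨inferInstance, inferInstance⟩
  refine ⟨d, j₀.normalization, i, j₀.toNormalization, inferInstance, inferInstance, ?_, hdense, hS, h1,
    fun y hy => ⟨(h2 y hy).1, Groth.Agent.S9676.result j₀ hN y (h2 y hy).2 hy⟩⟩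
  rw [hiq, hq']


end Groth.Agent.S1626
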