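import Groth.Statements.S16260
import Mathlib

set_option autoImplicit false
open W4c3wronskmg

namespace Groth.Agent.S16260

open Polynomial in
theorem key_16260 {k : Type*} [Field k] [CharZero k] (a b i j : ℕ) (hi : 0 < i) (hj : 0 < j)
    (hij : i + j = a + b + 2) (p q : k) (hp0 : p ≠ 0) (hp1 : p ≠ 1) (hq0 : q ≠ 0) (hq1 : q ≠ 1)
    (S : Submodule k k[X])
    (hD : ∀ F : k[X], X ^ (a + 1) * (X - 1) ^ (b + 1) * F ∈ S)
    (hA : ∀ u : k[X], u ∈ degreeLT k b → X ^ (a + 1) * u ∈ S)
    (hB : ∀ w : k[X], w ∈ degreeLT k a → (X - 1) ^ (b + 1) * w ∈ S)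
    (hproper : ∀ v : k[X], S ⊔ Submodule.span k {v} ≠ ⊤)
    (hrank : ∀ z : k[X], ¬ Submodule.comap (LinearMap.mulLeft k ((X - C p) ^ (i - 1) * (X - C q) ^ (j - 1))) S ⊓ degreeLT k 3
      ≤ Submodule.span k {z}) : False := by
  classical
  set H : k[X] := (X - C p) ^ (i - 1) * (X - C q) ^ (j - 1) with hH
  set W := Submodule.comap (LinearMap.mulLeft k H) S with hW
  let dd : k[X] →ₗ[k] k[X] :=
    (LinearMap.mulRight k (X * (X - 1))).comp derivative -
      LinearMap.mulRight k (C (a : k) * (X - 1) + C (b : k) * X)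
  have hdd : ∀ G, dd G = derivative G * (X * (X - 1)) - G * (C (a : k) * (X - 1) + C (b : k) * X) := fun G => rfl
  have hzero : ∀ G, dd G ∈ S := by
    intro G
    have hcop : IsCoprime ((X : k[X]) ^ a) ((X - 1) ^ b) := by
      refine IsCoprime.pow ?_
      exact ⟨1, -1, by ring⟩
    obtain ⟨u, w, huw⟩ := hcop
    have hG : G = X ^ a * (G * u) + (X - 1) ^ b * (G * w) := by
      linear_combination (-G) * huw
    rw [hG, map_add]
    have hm1 : ((X : k[X]) - 1) = X - C 1 := by simp
    have hmon : (((X : k[X]) - 1) ^ b).Monic := by rw [hm1]; exact (monic_X_sub_C 1).pow b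
    have hmonA : ((X : k[X]) ^ a).Monic := monic_X_pow a
    have e1 : ∀ F : k[X], dd (X ^ a * (X - 1) ^ b * F) ∈ S := by
      intro F
      convert hD (derivative F) using 1
      rw [hdd]
      simp only [derivative_mul, derivative_pow, derivative_X, derivative_sub, derivative_one, sub_zero, mul_one]
      rcases a with _ | a <;> rcases b with _ | b <;> simp [pow_succ] <;> ring
    refine add_mem ?_ ?_
    · rw [← Polynomial.modByMonic_add_div (G * u) ((X - 1) ^ b), mul_add, map_add, ← mul_assoc]
      refine add_mem ?_ (e1 _)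
      set u1 := (G * u) %ₘ ((X - 1) ^ b)
      have hu1 : u1.degree < (b : ℕ) := by
        refine lt_of_lt_of_le (degree_modByMonic_lt _ hmon) ?_
        rw [hm1, degree_pow, degree_X_sub_C, nsmul_one]
      have : dd (X ^ a * u1) = X ^ (a + 1) * (derivative u1 * (X - 1) - C (b : k) * u1) := by
        rw [hdd, derivative_mul, derivative_X_pow]
        rcases a with _ | a <;> simp [pow_succ] <;> ring
      rw [this]
      refine hA _ (mem_degreeLT.2 ?_)
      rcases Nat.eq_zero_or_pos b with hb | hb
      · subst hb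
        have : u1 = 0 := degree_eq_bot.1 (by simpa using hu1)
        simp [this, hu1]
      · refine lt_of_le_of_lt (degree_sub_le _ _) (max_lt ?_ ?_)
        · rcases eq_or_ne (derivative u1) 0 with h | h
          · rw [h, zero_mul, degree_zero]; exact WithBot.bot_lt_coe _
          · rw [← natDegree_lt_iff_degree_lt (mul_ne_zero h (by rw [hm1]; exact X_sub_C_ne_zero 1)),
              natDegree_mul h (by rw [hm1]; exact X_sub_C_ne_zero 1), hm1, natDegree_X_sub_C]
            have h0 : u1 ≠ 0 := fun h0 => h (by rw [h0, derivative_zero])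
            have h1 := (natDegree_lt_iff_degree_lt h0).2 hu1
            have h2 : u1.natDegree ≠ 0 := by
              intro h2; exact h (by rw [eq_C_of_natDegree_eq_zero h2, derivative_C])
            have := natDegree_derivative_lt h2
            omega
        · exact lt_of_le_of_lt ((degree_mul_le _ _).trans (add_le_of_nonpos_left degree_C_le)) hu1
    · rw [← Polynomial.modByMonic_add_div (G * w) ((X : k[X]) ^ a), mul_add, map_add, ← mul_assoc,
        mul_comm (((X : k[X]) - 1) ^ b) (X ^ a)]
      refine add_mem ?_ (e1 _)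
      set w1 := (G * w) %ₘ ((X : k[X]) ^ a)
      have hw1 : w1.degree < (a : ℕ) := by
        refine lt_of_lt_of_le (degree_modByMonic_lt _ hmonA) ?_
        rw [degree_X_pow]
      have : dd ((X - 1) ^ b * w1) = (X - 1) ^ (b + 1) * (derivative w1 * X - C (a : k) * w1) := by
        rw [hdd, derivative_mul, derivative_pow, derivative_sub, derivative_X, derivative_one]
        rcases b with _ | b <;> simp [pow_succ] <;> ring
      rw [this]
      refine hB _ (mem_degreeLT.2 ?_)
      rcases Nat.eq_zero_or_pos a with ha | ha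
      · subst ha
        have : w1 = 0 := degree_eq_bot.1 (by simpa using hw1)
        simp [this, hw1]
      · refine lt_of_le_of_lt (degree_sub_le _ _) (max_lt ?_ ?_)
        · rcases eq_or_ne (derivative w1) 0 with h | h
          · rw [h, zero_mul, degree_zero]; exact WithBot.bot_lt_coe _
          · rw [← natDegree_lt_iff_degree_lt (mul_ne_zero h X_ne_zero), natDegree_mul h X_ne_zero, natDegree_X]
            have h0 : w1 ≠ 0 := fun h0 => h (by rw [h0, derivative_zero])
            have h1 := (natDegree_lt_iff_degree_lt h0).2 hw1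
            have h2 : w1.natDegree ≠ 0 := by
              intro h2; exact h (by rw [eq_C_of_natDegree_eq_zero h2, derivative_C])
            have := natDegree_derivative_lt h2
            omega
        · exact lt_of_le_of_lt ((degree_mul_le _ _).trans (add_le_of_nonpos_left degree_C_le)) hw1
  -- elements of every degree ≥ 3 in W
  let ψ : ℕ → k[X] := fun n => C (n : k) * ((X - C p) * (X - C q)) * (X - 1) * X ^ n +
    ((C (i : k) * (X - C q) + C (j : k) * (X - C p)) * (X * (X - 1)) -
      (X - C p) * (X - C q) * (C (a : k) * (X - 1) + C (b : k) * X)) * X ^ n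
  have hψW : ∀ n, ψ n ∈ W := by
    intro n
    rw [hW, Submodule.mem_comap, LinearMap.mulLeft_apply]
    convert hzero ((X - C p) ^ i * (X - C q) ^ j * X ^ n) using 1
    obtain ⟨i', rfl⟩ : ∃ i', i = i' + 1 := ⟨i - 1, by omega⟩
    obtain ⟨j', rfl⟩ : ∃ j', j = j' + 1 := ⟨j - 1, by omega⟩
    rw [hdd, hH]
    simp only [derivative_mul, derivative_pow, derivative_sub, derivative_X, derivative_C, sub_zero, mul_one, ψ,
      Nat.add_sub_cancel, Nat.cast_add, Nat.cast_one, map_add, map_one]
    rcases n with _ | n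
    · simp; ring
    · simp [pow_succ]; ring
  have hψc : ∀ n, (ψ n).natDegree ≤ n + 3 ∧ (ψ n).coeff (n + 3) = (n : k) + 2 := by
    intro n
    refine ⟨?_, ?_⟩
    · simp only [ψ]; compute_degree
      all_goals omega
    · have hab : (i : k) + j - a - b = 2 := by
        have : ((i + j : ℕ) : k) = ((a + b + 2 : ℕ) : k) := by rw [hij]
        push_cast at this
        linear_combination this
      have e : ψ n = (C ((n : k) + ((i : k) + j - a - b)) * X ^ 3 +
          C (-((n : k) * (p + q + 1)) - (i : k) * (q + 1) - (j : k) * (p + 1) + ((a : k) + b) * (p + q) + a) * X ^ 2 +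
          C ((n : k) * (p * q + p + q) + (i : k) * q + (j : k) * p - ((a : k) + b) * (p * q) - (a : k) * (p + q)) * X +
          C (-((n : k) * (p * q)) + (a : k) * (p * q))) * X ^ n := by
        simp only [ψ, map_add, map_sub, map_neg, map_mul, map_one, map_natCast]
        ring
      rw [e, add_comm n 3, coeff_mul_X_pow, hab]
      simp only [coeff_add, coeff_C_mul, coeff_X_pow, coeff_X, coeff_C]
      norm_num
  have hall : ∀ m, ∀ f : k[X], f.natDegree ≤ m → f ∈ W ⊔ degreeLT k 3 := by
    intro m
    induction m with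
    | zero =>
      intro f hf
      refine Submodule.mem_sup_right (mem_degreeLT.2 ?_)
      exact lt_of_le_of_lt degree_le_natDegree (WithBot.coe_lt_coe.2 (lt_of_le_of_lt hf (by norm_num)))
    | succ m ih =>
      intro f hf
      rcases le_or_gt (m + 1) 2 with hm | hm
      · refine Submodule.mem_sup_right (mem_degreeLT.2 ?_)
        exact lt_of_le_of_lt degree_le_natDegree (WithBot.coe_lt_coe.2 (show f.natDegree < 3 by omega))
      obtain ⟨n, hn⟩ : ∃ n, m = n + 2 := ⟨m - 2, by omega⟩
      have hne : ((n : k) + 2) ≠ 0 := by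
        have : ((n + 2 : ℕ) : k) ≠ 0 := Nat.cast_ne_zero.2 (by omega)
        simpa using this
      set c := f.coeff (m + 1) / ((n : k) + 2) with hc
      have h1 : (f - c • ψ n).natDegree ≤ m := by
        rw [natDegree_le_iff_coeff_eq_zero]
        intro N hN
        rw [coeff_sub, coeff_smul, smul_eq_mul]
        rcases eq_or_lt_of_le (show m + 1 ≤ N by omega) with rfl | hlt
        · subst hn; rw [(hψc n).2, hc, div_mul_cancel₀ _ hne, sub_self]
        · rw [coeff_eq_zero_of_natDegree_lt (lt_of_le_of_lt hf hlt),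
            coeff_eq_zero_of_natDegree_lt (lt_of_le_of_lt (hψc n).1 (by omega)), mul_zero, sub_self]
      have := add_mem (ih _ h1) (Submodule.mem_sup_left (Submodule.smul_mem W c (hψW n)) : _ ∈ W ⊔ degreeLT k 3)
      simpa using this
  -- one vector complements `W ⊓ degreeLT 3`
  haveI : FiniteDimensional k (degreeLT k 3) := (degreeLTEquiv k 3).symm.finiteDimensional
  obtain ⟨v, hv⟩ : ∃ v : k[X], degreeLT k 3 ≤ W ⊔ Submodule.span k {v} := by
    set W3 := W ⊓ degreeLT k 3 with hW3
    haveI : FiniteDimensional k W3 := Submodule.finiteDimensional_of_le inf_le_right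
    have h2 : 2 ≤ Module.finrank k W3 := by
      by_contra hlt
      obtain ⟨z, hz⟩ := (finrank_le_one_iff.1 (by omega : Module.finrank k W3 ≤ 1))
      refine hrank z.1 fun x hx => ?_
      obtain ⟨c, hc⟩ := hz ⟨x, hx⟩
      exact Submodule.mem_span_singleton.2 ⟨c, congrArg Subtype.val hc⟩
    have h3 : Module.finrank k (degreeLT k 3) = 3 := by
      rw [(degreeLTEquiv k 3).finrank_eq, Module.finrank_fin_fun]
    by_cases hfull : degreeLT k 3 ≤ W
    · exact ⟨0, le_trans hfull le_sup_left⟩
    · obtain ⟨v, hv3, hvW⟩ := SetLike.not_le_iff_exists.1 hfull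
      refine ⟨v, ?_⟩
      have hle : W3 ⊔ Submodule.span k {v} ≤ degreeLT k 3 :=
        sup_le inf_le_right ((Submodule.span_singleton_le_iff_mem _ _).2 hv3)
      have hlt : W3 < W3 ⊔ Submodule.span k {v} := by
        refine lt_of_le_of_ne le_sup_left fun h => hvW ?_
        have : v ∈ W3 := h ▸ Submodule.mem_sup_right (Submodule.mem_span_singleton_self v)
        exact this.1
      haveI : FiniteDimensional k ↥(W3 ⊔ Submodule.span k {v}) := Submodule.finiteDimensional_of_le hle
      have h4 := Submodule.finrank_lt_finrank_of_lt hlt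
      have h5 : W3 ⊔ Submodule.span k {v} = degreeLT k 3 :=
        Submodule.eq_of_le_of_finrank_le hle (by omega)
      rw [← h5]
      exact sup_le_sup_right inf_le_left _
  apply hproper (H * v)
  rw [eq_top_iff]
  intro f _
  have hcopH : IsCoprime H ((X : k[X]) ^ (a + 1) * (X - 1) ^ (b + 1)) := by
    have h1 : ((X : k[X]) - 1) = X - C 1 := by simp
    have h0 : (X : k[X]) = X - C 0 := by simp
    have hx : ∀ c : k, c ≠ 0 → c ≠ 1 → ∀ m : ℕ,
        IsCoprime ((X - C c) ^ m) ((X : k[X]) ^ (a + 1) * (X - 1) ^ (b + 1)) := by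
      intro c hc0 hc1 m
      refine IsCoprime.mul_right (IsCoprime.pow ?_) (IsCoprime.pow ?_)
      · conv => arg 2; rw [h0]
        exact isCoprime_X_sub_C_of_isUnit_sub (sub_ne_zero.2 hc0).isUnit
      · rw [h1]
        exact isCoprime_X_sub_C_of_isUnit_sub (sub_ne_zero.2 hc1).isUnit
    exact (hx p hp0 hp1 _).mul_left (hx q hq0 hq1 _)
  obtain ⟨u, w, huw⟩ := hcopH
  have hf : f = H * (f * u) + X ^ (a + 1) * (X - 1) ^ (b + 1) * (f * w) := by
    linear_combination (-f) * huw
  rw [hf]
  refine add_mem ?_ (Submodule.mem_sup_left (hD _))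
  have h1 : f * u ∈ W ⊔ Submodule.span k {v} :=
    (sup_le le_sup_left hv : W ⊔ degreeLT k 3 ≤ W ⊔ Submodule.span k {v}) (hall _ _ le_rfl)
  obtain ⟨y, hy, z, hz, hyz⟩ := Submodule.mem_sup.1 h1
  obtain ⟨c, rfl⟩ := Submodule.mem_span_singleton.1 hz
  rw [← hyz, mul_add, mul_smul_comm]
  exact add_mem (Submodule.mem_sup_left hy)
    (Submodule.mem_sup_right (Submodule.smul_mem _ c (Submodule.mem_span_singleton_self _)))

open Polynomial in
/-- Let `k` be a field of characteristic zero, `a, b, i` positive integers with `i ≤ a + b`, and `j = a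
+ b + 2 - i`. On the projective line with three marked points `A = 0`, `B = 1`, `C = ∞`, the
`(a+b+1)`-dimensional linear system `V = H⁰(ω((1+a)A)) ⊕ H⁰(ω((1+b)B)) ⊕ H⁰(ω(2C)) ⊆ H⁰(ω((1+a)A +
(1+b)B + 2C)) ≅ H⁰(O(a+b+2))` becomes, in the affine coordinate, the span of the multiples of
`X^(a+1)` of degree at most `a+b`, the multiples of `(X-1)^(b+1)` of degree at most `a+b`, and
`X^(a+1) (X-1)^(b+1)`; and `V(-iP-jQ)` is the subspace of members divisible by `(X-p)^i (X-q)^j`.
Then there are no points `P = p`, `Q = q` other than `A, B, C` (that is, `p, q ∉ {0, 1}`; `p = q`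
allowed) with both `dim V(-iP-jQ) ≥ 1` and `dim V(-(i-1)P-(j-1)Q) ≥ 2`. (The published statement is
over the complex numbers.) -/
theorem result
    (k : Type*) [Field k] [CharZero k] (a b i j : ℕ) (ha : 0 < a) (hb : 0 < b) (hi : 0 < i) (hiab : i ≤ a + b)
    (hj : i + j = a + b + 2)
    (V : Submodule k (Polynomial k))
    (hV : V = ((Ideal.span {(X : Polynomial k) ^ (a + 1)}).restrictScalars k ⊓ Polynomial.degreeLE k ↑(a + b)) ⊔
      ((Ideal.span {((X : Polynomial k) - 1) ^ (b + 1)}).restrictScalars k ⊓ Polynomial.degreeLE k ↑(a + b)) ⊔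
      Submodule.span k {(X : Polynomial k) ^ (a + 1) * (X - 1) ^ (b + 1)})
    (p q : k) (hp0 : p ≠ 0) (hp1 : p ≠ 1) (hq0 : q ≠ 0) (hq1 : q ≠ 1) :
    ¬ (1 ≤ Module.finrank k ↥(V ⊓ (Ideal.span {(X - C p) ^ i * (X - C q) ^ j}).restrictScalars k) ∧
       2 ≤ Module.finrank k ↥(V ⊓ (Ideal.span {(X - C p) ^ (i - 1) * (X - C q) ^ (j - 1)}).restrictScalars k)) := by
  classical
  rintro ⟨-, h2⟩
  set D : k[X] := X ^ (a + 1) * (X - 1) ^ (b + 1) with hD
  set A := (Polynomial.degreeLT k b).map (LinearMap.mulLeft k ((X : k[X]) ^ (a + 1))) with hA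
  set B := (Polynomial.degreeLT k a).map (LinearMap.mulLeft k (((X : k[X]) - 1) ^ (b + 1))) with hB
  set I := (Ideal.span {D}).restrictScalars k with hI
  set S := A ⊔ B ⊔ I with hS
  have hm1 : ((X : k[X]) - 1) = X - C 1 := by simp
  have hDmon : D.Monic := by rw [hD, hm1]; exact (monic_X_pow _).mul ((monic_X_sub_C 1).pow _)
  have hDdeg : D.natDegree = a + b + 2 := by
    rw [hD, hm1, (monic_X_pow _).natDegree_mul ((monic_X_sub_C 1).pow _), natDegree_X_pow, natDegree_pow,
      natDegree_X_sub_C, mul_one]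
    omega
  have hAV : ∀ P : k[X], P.Monic → ∀ N : ℕ, P.natDegree + N = a + b + 1 →
      (Ideal.span {P}).restrictScalars k ⊓ Polynomial.degreeLE k ↑(a + b) ≤
        (Polynomial.degreeLT k N).map (LinearMap.mulLeft k P) := by
    intro P hP N hN x hx
    obtain ⟨hx1, hx2⟩ := Submodule.mem_inf.1 hx
    rw [Submodule.restrictScalars_mem, Ideal.mem_span_singleton] at hx1
    obtain ⟨w, rfl⟩ := hx1
    refine ⟨w, ?_, rfl⟩
    rw [SetLike.mem_coe, Polynomial.mem_degreeLT]
    rcases eq_or_ne w 0 with rfl | hw
    · rw [degree_zero]; exact WithBot.bot_lt_coe _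
    have := natDegree_le_of_degree_le (Polynomial.mem_degreeLE.1 hx2)
    rw [natDegree_mul hP.ne_zero hw] at this
    rw [← natDegree_lt_iff_degree_lt hw]
    omega
  have hVS : V ≤ S := by
    rw [hV]
    refine sup_le (sup_le ?_ ?_) ?_
    · exact le_trans (hAV _ (monic_X_pow _) b (by rw [natDegree_X_pow]; omega)) (le_trans le_sup_left le_sup_left)
    · exact le_trans (hAV _ (by rw [hm1]; exact (monic_X_sub_C 1).pow _) a
        (by rw [hm1, natDegree_pow, natDegree_X_sub_C]; omega)) (le_trans le_sup_right le_sup_left)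
    · rw [Submodule.span_singleton_le_iff_mem]
      exact Submodule.mem_sup_right (Ideal.subset_span rfl)
  have hVdeg : ∀ x ∈ V, x.natDegree ≤ a + b + 2 := by
    intro x hx
    rw [hV] at hx
    obtain ⟨y, hy, z, hz, rfl⟩ := Submodule.mem_sup.1 hx
    obtain ⟨c, rfl⟩ := Submodule.mem_span_singleton.1 hz
    obtain ⟨y1, hy1, y2, hy2, rfl⟩ := Submodule.mem_sup.1 hy
    refine natDegree_add_le_of_degree_le (natDegree_add_le_of_degree_le ?_ ?_) ((natDegree_smul_le _ _).trans hDdeg.le)
    · exact (natDegree_le_of_degree_le (Polynomial.mem_degreeLE.1 hy1.2)).trans (by omega)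
    · exact (natDegree_le_of_degree_le (Polynomial.mem_degreeLE.1 hy2.2)).trans (by omega)
  refine key_16260 a b i j hi (by omega) hj p q hp0 hp1 hq0 hq1 S
    (fun F => Submodule.mem_sup_right (Ideal.mem_span_singleton.2 (dvd_mul_right D F)))
    (fun u hu => Submodule.mem_sup_left (Submodule.mem_sup_left ⟨u, hu, rfl⟩))
    (fun w hw => Submodule.mem_sup_left (Submodule.mem_sup_right ⟨w, hw, rfl⟩)) ?_ ?_
  · intro v htop
    let red : k[X] →ₗ[k] k[X] :=
      { toFun := fun f => f %ₘ D
        map_add' := fun f g => add_modByMonic f g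
        map_smul' := fun c f => by simp [smul_modByMonic] }
    have hsub : ∀ f, red f ∈ Submodule.map red (A ⊔ B ⊔ Submodule.span k {v}) := by
      intro f
      have : f ∈ S ⊔ Submodule.span k {v} := htop ▸ Submodule.mem_top
      obtain ⟨x, hx, z, hz, rfl⟩ := Submodule.mem_sup.1 this
      obtain ⟨y, hy, w, hw, rfl⟩ := Submodule.mem_sup.1 hx
      refine ⟨y + z, add_mem (Submodule.mem_sup_left hy) (Submodule.mem_sup_right hz), ?_⟩
      have hw0 : red w = 0 := (modByMonic_eq_zero_iff_dvd hDmon).2 (Ideal.mem_span_singleton.1 hw)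
      simp only [map_add, hw0, add_zero]
    haveI hfd : ∀ n, FiniteDimensional k (Polynomial.degreeLT k n) := fun n => (Polynomial.degreeLTEquiv k n).symm.finiteDimensional
    haveI : FiniteDimensional k A := Module.Finite.map _ _
    haveI : FiniteDimensional k B := Module.Finite.map _ _
    set U := Submodule.map red (A ⊔ B ⊔ Submodule.span k {v}) with hUdef
    have hle : Polynomial.degreeLT k (a + b + 2) ≤ U := by
      intro f hf
      have e : red f = f := by
        refine (modByMonic_eq_self_iff hDmon).2 ?_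
        rw [degree_eq_natDegree hDmon.ne_zero, hDdeg]
        exact Polynomial.mem_degreeLT.1 hf
      exact e ▸ hsub f
    have hdim := Submodule.finrank_mono hle
    rw [(Polynomial.degreeLTEquiv k _).finrank_eq, Module.finrank_fin_fun] at hdim
    have h5 : Module.finrank k U ≤ b + a + 1 := by
      refine le_trans (Submodule.finrank_map_le _ _) (le_trans (Submodule.finrank_add_le_finrank_add_finrank _ _) (add_le_add (le_trans (Submodule.finrank_add_le_finrank_add_finrank _ _) (add_le_add ?_ ?_)) ?_))
      · exact (Submodule.finrank_map_le _ _).trans (by rw [(Polynomial.degreeLTEquiv k _).finrank_eq, Module.finrank_fin_fun])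
      · exact (Submodule.finrank_map_le _ _).trans (by rw [(Polynomial.degreeLTEquiv k _).finrank_eq, Module.finrank_fin_fun])
      · exact (finrank_span_le_card _).trans (by simp)
    omega
  · intro z hz
    set H : k[X] := (X - C p) ^ (i - 1) * (X - C q) ^ (j - 1) with hH
    have hsub : V ⊓ (Ideal.span {H}).restrictScalars k ≤ Submodule.span k {H * z} := by
      intro x hx
      obtain ⟨hxV, hxH⟩ := Submodule.mem_inf.1 hx
      rw [Submodule.restrictScalars_mem, Ideal.mem_span_singleton] at hxH
      obtain ⟨w, rfl⟩ := hxH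
      have hwmem : w ∈ Submodule.span k {z} := by
        refine hz ⟨hVS hxV, ?_⟩
        rw [SetLike.mem_coe, Polynomial.mem_degreeLT]
        rcases eq_or_ne w 0 with rfl | hw
        · rw [degree_zero]; exact WithBot.bot_lt_coe _
        have hH0 : H ≠ 0 := mul_ne_zero (pow_ne_zero _ (X_sub_C_ne_zero p)) (pow_ne_zero _ (X_sub_C_ne_zero q))
        have := hVdeg _ hxV
        rw [natDegree_mul hH0 hw, hH, natDegree_mul (pow_ne_zero _ (X_sub_C_ne_zero p)) (pow_ne_zero _ (X_sub_C_ne_zero q)),
          natDegree_pow, natDegree_pow, natDegree_X_sub_C, natDegree_X_sub_C] at this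
        rw [← natDegree_lt_iff_degree_lt hw]
        omega
      obtain ⟨c, rfl⟩ := Submodule.mem_span_singleton.1 hwmem
      exact Submodule.mem_span_singleton.2 ⟨c, by rw [mul_smul_comm]⟩
    have := (Submodule.finrank_mono hsub).trans (finrank_span_le_card _)
    simp at this
    omega

end Groth.Agent.S16260
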