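import Groth.Statements.S16261
import Mathlib

set_option autoImplicit false
open W4c3wronskmg

namespace Groth.Agent.S16261

open Polynomial

variable {k : Type*} [Field k]

theorem top_coeffs (e f : ℕ) (hf : 0 < f) (r : k) :
    ((X : k[X]) ^ e * (X - C r) ^ f).coeff (e + f) = 1 ∧
    ((X : k[X]) ^ e * (X - C r) ^ f).coeff (e + f - 1) = -(f : k) * r := by
  rw [sub_eq_add_neg, ← map_neg]
  constructor
  · rw [add_comm e f, coeff_X_pow_mul, coeff_X_add_C_pow]; simp
  · rw [show e + f - 1 = (f - 1) + e by omega, coeff_X_pow_mul, coeff_X_add_C_pow, show f - (f - 1) = 1 by omega,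
      Nat.choose_symm_of_eq_add (show f = (f - 1) + 1 by omega), Nat.choose_one_right]
    ring

theorem natDegree_prod (e f : ℕ) (r : k) : ((X : k[X]) ^ e * (X - C r) ^ f).natDegree = e + f := by
  rw [natDegree_mul (pow_ne_zero _ X_ne_zero) (pow_ne_zero _ (X_sub_C_ne_zero r)), natDegree_pow, natDegree_pow,
    natDegree_X, natDegree_X_sub_C, mul_one, mul_one]

theorem key [CharZero k] (b m : ℕ) (q : k) (hq : q ≠ 1) (hq0 : q ≠ 0) (A B : k[X]) (hB : ∀ l, m ≤ l → B.coeff l = 0)
    (h : (X - C q) ^ (b + m) = X ^ (m + 1) * A + (X - 1) ^ (b + 1) * B) : False := by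
  have hB0 : B ≠ 0 := by
    rintro rfl
    have hd := congrArg (fun p : k[X] => p.eval 0) h
    simp [hq0] at hd
  let E : k[X] := ((C ((b : k) + 1)) * B + (X - 1) * derivative B) * (X - C q) - C ((b : k) + m) * (X - 1) * B
  have h1 : X ^ m ∣ (X - 1) ^ b * E := by
    refine ⟨(C ((m : k) + 1) * A + X * derivative A) * -(X - C q) + C ((b : k) + m) * X * A, ?_⟩
    have hd : derivative ((X - C q) ^ (b + m)) = derivative (X ^ (m + 1) * A + (X - 1) ^ (b + 1) * B) := congrArg _ h
    rw [derivative_X_sub_C_pow, derivative_add, derivative_mul, derivative_mul, derivative_X_pow,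
      show ((X : k[X]) - 1) = X - C 1 by rw [map_one], derivative_X_sub_C_pow, map_one] at hd
    simp only [Nat.add_sub_cancel, Nat.cast_add, Nat.cast_one] at hd
    have hp : ((b : k[X]) + (m : k[X])) * (X - C q) ^ (b + m) =
        (C ((b : k) + m)) * (X - C q) ^ (b + m - 1) * (X - C q) := by
      rcases Nat.eq_zero_or_pos (b + m) with h0 | h0
      · obtain ⟨rfl, rfl⟩ : b = 0 ∧ m = 0 := by omega
        simp
      · rw [mul_assoc, ← pow_succ, show b + m - 1 + 1 = b + m by omega, map_add, map_natCast, map_natCast]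
    simp only [E, map_add, map_natCast, map_one] at hp hd ⊢
    linear_combination -(X - C q) * hd - hp + ((b : k[X]) + m) * h
  have hcop : IsCoprime ((X : k[X]) ^ m) ((X - 1) ^ b) := (show IsCoprime (X : k[X]) (X - 1) from ⟨1, -1, by ring⟩).pow
  have h2 : X ^ m ∣ E := hcop.dvd_of_dvd_mul_left h1
  have h3 : E = 0 := by
    ext l
    rw [coeff_zero]
    rcases Nat.lt_or_ge l m with hl | hl
    · obtain ⟨t, ht⟩ := h2
      rw [ht, coeff_X_pow_mul', if_neg (by omega)]
    · have hE : E = X * (X * derivative B) - C (1 + q) * (X * derivative B) + C q * derivative B +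
          C (((b : k) + 1) - ((b : k) + m)) * (X * B) + C (((b : k) + m) - ((b : k) + 1) * q) * B := by
        simp only [E, map_add, map_sub, map_mul, map_one, map_natCast]; ring
      rw [hE]
      simp only [coeff_add, coeff_sub, coeff_C_mul]
      rcases l with _ | l
      · simp [coeff_derivative, hB 0 hl, hB 1 (by omega)]
      · simp only [coeff_X_mul, coeff_derivative, hB (l + 1) hl, hB (l + 1 + 1) (by omega)]
        rcases l with _ | l
        · simp only [mul_coeff_zero, coeff_X_zero]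
          obtain rfl | hm : m = 1 ∨ m = 0 := by omega
          · simp
          · simp [hB 0 (by omega)]
        · simp only [coeff_X_mul, coeff_derivative, hB (l + 1 + 1) hl]
          rcases Nat.eq_or_lt_of_le hl with he | hlt
          · subst he; push_cast; ring
          · rw [hB (l + 1) (by omega)]; ring
  obtain ⟨B3, hB3, hndvd⟩ := exists_eq_pow_rootMultiplicity_mul_and_not_dvd B hB0 1
  generalize rootMultiplicity 1 B = e at hB3
  have hev : B3.eval 1 ≠ 0 := fun h => hndvd (dvd_iff_isRoot.2 h)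
  have hder : ((X : k[X]) - 1) * derivative B = (X - 1) ^ e * (C (e : k) * B3 + (X - 1) * derivative B3) := by
    rw [hB3, derivative_mul, derivative_X_sub_C_pow, map_one, map_natCast]
    rcases e with _ | e
    · simp
    · simp only [Nat.add_sub_cancel]; ring
  have h4 : ((X : k[X]) - 1) ^ e * ((C ((b : k) + 1) * B3 + (C (e : k) * B3 + (X - 1) * derivative B3)) * (X - C q) -
      C ((b : k) + m) * (X - 1) * B3) = 0 := by
    rw [← h3]
    simp only [E]
    rw [hder, hB3, map_one]
    ring
  rcases mul_eq_zero.1 h4 with h5 | h5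
  · exact absurd h5 (pow_ne_zero _ (by simpa using X_sub_C_ne_zero (1 : k)))
  · have := congrArg (fun p : k[X] => p.eval 1) h5
    simp at this
    rcases this with h6 | h6
    · have : (((b + 1 + e : ℕ) : k)) * B3.eval 1 = 0 := by push_cast; linear_combination h6
      rcases mul_eq_zero.1 this with h7 | h7
      · exact absurd (Nat.cast_eq_zero.1 h7) (by omega)
      · exact hev h7
    · exact hq (by linear_combination -h6)

open Polynomial in
/-- With `k` of characteristic zero, `a, b, i` positive, `i ≤ a + b`, `j = a + b + 2 - i` and `V ⊆ k[X]`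
the linear system of the first assertion (marked points `A = 0`, `B = 1`, `C = ∞`; `V` spanned by
the multiples of `X^(a+1)` of degree at most `a+b`, the multiples of `(X-1)^(b+1)` of degree at most
`a+b`, and `X^(a+1) (X-1)^(b+1)`): if the point `P` is put at `A` and `Q = q` is any point other
than `C`, and both `dim V(-iA-jQ) ≥ 1` and `dim V(-(i-1)A-(j-1)Q) ≥ 2` hold, then `i ≥ a + 1`. (The
published statement is over the complex numbers.) -/
theorem result
    (k : Type*) [Field k] [CharZero k] (a b i j : ℕ) (ha : 0 < a) (hb : 0 < b) (hi : 0 < i) (hiab : i ≤ a + b)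
    (hj : i + j = a + b + 2)
    (V : Submodule k (Polynomial k))
    (hV : V = ((Ideal.span {(X : Polynomial k) ^ (a + 1)}).restrictScalars k ⊓ Polynomial.degreeLE k ↑(a + b)) ⊔
      ((Ideal.span {((X : Polynomial k) - 1) ^ (b + 1)}).restrictScalars k ⊓ Polynomial.degreeLE k ↑(a + b)) ⊔
      Submodule.span k {(X : Polynomial k) ^ (a + 1) * (X - 1) ^ (b + 1)})
    (q : k)
    (h1 : 1 ≤ Module.finrank k ↥(V ⊓ (Ideal.span {(X : Polynomial k) ^ i * (X - C q) ^ j}).restrictScalars k))
    (h2 : 2 ≤ Module.finrank k ↥(V ⊓ (Ideal.span {(X : Polynomial k) ^ (i - 1) * (X - C q) ^ (j - 1)}).restrictScalars k)) :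
    a + 1 ≤ i := by
  classical
  by_contra hlt
  push Not at hlt
  set top : k[X] := (X : k[X]) ^ (a + 1) * (X - 1) ^ (b + 1) with htop
  have htop' : top = X ^ (a + 1) * (X - C 1) ^ (b + 1) := by rw [htop, map_one]
  have hdec : ∀ p ∈ V, ∃ A B : k[X], ∃ c : k, p = X ^ (a + 1) * A + (X - 1) ^ (b + 1) * B + c • top ∧
      (X ^ (a + 1) * A).natDegree ≤ a + b ∧ ((X - 1) ^ (b + 1) * B).natDegree ≤ a + b := by
    intro p hp
    rw [hV, Submodule.mem_sup] at hp
    obtain ⟨p', hp', p3, hp3, rfl⟩ := hp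
    obtain ⟨p1, hp1, p2, hp2, rfl⟩ := Submodule.mem_sup.1 hp'
    obtain ⟨c, rfl⟩ := Submodule.mem_span_singleton.1 hp3
    obtain ⟨A, rfl⟩ := Ideal.mem_span_singleton.1 (Submodule.mem_inf.1 hp1).1
    obtain ⟨B, rfl⟩ := Ideal.mem_span_singleton.1 (Submodule.mem_inf.1 hp2).1
    exact ⟨A, B, c, rfl, natDegree_le_iff_degree_le.2 (mem_degreeLE.1 (Submodule.mem_inf.1 hp1).2),
      natDegree_le_iff_degree_le.2 (mem_degreeLE.1 (Submodule.mem_inf.1 hp2).2)⟩
  have htc : top.coeff (a + b + 2) = 1 ∧ top.coeff (a + b + 1) = -((b : k) + 1) := by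
    obtain ⟨t1, t2⟩ := top_coeffs (a + 1) (b + 1) (by omega) (1 : k)
    rw [← htop', show a + 1 + (b + 1) = a + b + 2 by omega] at t1 t2
    exact ⟨t1, by rw [show a + b + 1 = a + b + 2 - 1 by omega, t2]; push_cast; ring⟩
  have hcoef : ∀ p ∈ V, p.natDegree ≤ a + b + 2 ∧ p.coeff (a + b + 1) = -((b : k) + 1) * p.coeff (a + b + 2) ∧
      (p.coeff (a + b + 2) = 0 → p.natDegree ≤ a + b ∧ ∃ A B : k[X], p = X ^ (a + 1) * A + (X - 1) ^ (b + 1) * B ∧
        ((X - 1) ^ (b + 1) * B).natDegree ≤ a + b) := by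
    intro p hp
    obtain ⟨A, B, c, rfl, hA, hB⟩ := hdec p hp
    have e1 : ∀ l, a + b < l → (X ^ (a + 1) * A + (X - 1) ^ (b + 1) * B + c • top).coeff l = c * top.coeff l := fun l hl => by
      rw [coeff_add, coeff_add, coeff_eq_zero_of_natDegree_lt (lt_of_le_of_lt hA hl),
        coeff_eq_zero_of_natDegree_lt (lt_of_le_of_lt hB hl), coeff_smul, smul_eq_mul]; ring
    have hAB := (natDegree_add_le _ _).trans (max_le hA hB)
    refine ⟨(natDegree_add_le _ _).trans (max_le (by omega) ((natDegree_smul_le _ _).trans ?_)), ?_, fun h0 => ?_⟩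
    · rw [htop', natDegree_prod]; omega
    · rw [e1 _ (by omega), e1 _ (by omega), htc.1, htc.2]; ring
    · rw [e1 _ (by omega), htc.1, mul_one] at h0
      subst h0
      simp only [zero_smul, add_zero]
      exact ⟨hAB, A, B, rfl, hB⟩
  set g : k[X] := X ^ (i - 1) * (X - C q) ^ (j - 1) with hg
  set f : k[X] := X ^ i * (X - C q) ^ j with hf
  have hfg : f = g * (X * (X - C q)) := by
    rw [hf, hg]
    conv_lhs => rw [show i = i - 1 + 1 by omega, show j = j - 1 + 1 by omega]
    ring
  have hgd : g.natDegree = a + b := by rw [hg, natDegree_prod]; omega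
  have hg0 : g ≠ 0 := mul_ne_zero (pow_ne_zero _ X_ne_zero) (pow_ne_zero _ (X_sub_C_ne_zero q))
  have hfd : f.natDegree = a + b + 2 := by rw [hf, natDegree_prod]; omega
  have hf0 : f ≠ 0 := mul_ne_zero (pow_ne_zero _ X_ne_zero) (pow_ne_zero _ (X_sub_C_ne_zero q))
  obtain ⟨⟨p, hpV⟩, hp0⟩ : ∃ p : ↥(V ⊓ (Ideal.span {f}).restrictScalars k), p ≠ 0 := by
    by_contra hc
    push Not at hc
    have : Subsingleton ↥(V ⊓ (Ideal.span {f}).restrictScalars k) := ⟨fun x y => (hc x).trans (hc y).symm⟩
    rw [Module.finrank_zero_of_subsingleton] at h1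
    omega
  obtain ⟨u, hu⟩ := Ideal.mem_span_singleton.1 (Submodule.mem_inf.1 hpV).2
  have hu0 : u ≠ 0 := fun h => hp0 (Subtype.ext (show p = 0 by rw [hu, h, mul_zero]))
  have hfV : f ∈ V := by
    have hd := (hcoef p (Submodule.mem_inf.1 hpV).1).1
    rw [hu, natDegree_mul hf0 hu0, hfd] at hd
    obtain ⟨c, rfl⟩ := natDegree_eq_zero.1 (show u.natDegree = 0 by omega)
    have hc : c ≠ 0 := fun h => hu0 (by rw [h, map_zero])
    rw [show f = c⁻¹ • p by rw [hu, mul_comm, ← smul_eq_C_mul, smul_smul, inv_mul_cancel₀ hc, one_smul]]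
    exact V.smul_mem _ (Submodule.mem_inf.1 hpV).1
  obtain ⟨t1, t2⟩ := top_coeffs i j (by omega) q
  rw [← hf, show i + j = a + b + 2 by omega] at t1 t2
  have hjq : (j : k) * q = (b : k) + 1 := by
    have := (hcoef f hfV).2.1
    rw [t1, show a + b + 1 = a + b + 2 - 1 by omega, t2] at this
    linear_combination -this
  have hgV : g ∈ V := by
    by_contra hgn
    have hle : V ⊓ (Ideal.span {g}).restrictScalars k ≤ Submodule.span k {f} := by
      intro p hp
      obtain ⟨h, rfl⟩ := Ideal.mem_span_singleton.1 (Submodule.mem_inf.1 hp).2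
      rw [Submodule.mem_span_singleton]
      by_cases hh : h = 0
      · exact ⟨0, by rw [hh, mul_zero, zero_smul]⟩
      refine ⟨h.coeff 2, ?_⟩
      have hd := (hcoef _ (Submodule.mem_inf.1 hp).1).1
      rw [natDegree_mul hg0 hh, hgd] at hd
      set h' := h - C (h.coeff 2) * (X * (X - C q)) with hh'
      have hmem : g * h' ∈ V := by
        rw [hh', mul_sub, mul_left_comm, ← hfg, ← smul_eq_C_mul]
        exact V.sub_mem (Submodule.mem_inf.1 hp).1 (V.smul_mem _ hfV)
      have hdh : h'.natDegree ≤ 1 := by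
        refine natDegree_le_iff_coeff_eq_zero.2 fun l hl => ?_
        rw [hh', coeff_sub, coeff_C_mul]
        rcases eq_or_ne l 2 with rfl | hl2
        · simp [mul_sub, coeff_X]
        · rw [coeff_eq_zero_of_natDegree_lt (show h.natDegree < l by omega)]
          have : (X * (X - C q)).natDegree < l := by
            rw [natDegree_mul X_ne_zero (X_sub_C_ne_zero q), natDegree_X, natDegree_X_sub_C]; omega
          rw [coeff_eq_zero_of_natDegree_lt this, mul_zero, sub_zero]
      have hz : h' = 0 := by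
        by_contra hne
        have hdeg : (g * h').natDegree = a + b + h'.natDegree := by rw [natDegree_mul hg0 hne, hgd]
        have hd2 := ((hcoef _ hmem).2.2 (coeff_eq_zero_of_natDegree_lt (by omega))).1
        obtain ⟨w, hw⟩ := natDegree_eq_zero.1 (show h'.natDegree = 0 by omega)
        have hw0 : w ≠ 0 := fun h => hne (by rw [← hw, h, map_zero])
        refine hgn ?_
        rw [show g = w⁻¹ • (g * h') by rw [← hw, mul_comm g, ← smul_eq_C_mul, smul_smul, inv_mul_cancel₀ hw0, one_smul]]
        exact V.smul_mem _ hmem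
      rw [hh', sub_eq_zero] at hz
      rw [hfg, smul_eq_C_mul, mul_left_comm, ← hz]
    have h3 := h2.trans (Submodule.finrank_mono hle)
    rw [finrank_span_singleton hf0] at h3
    omega
  obtain ⟨A, B, hgAB, hBd⟩ := ((hcoef g hgV).2.2 (coeff_eq_zero_of_natDegree_lt (by omega))).2
  have hdvd : (X : k[X]) ^ (i - 1) ∣ B := by
    have hcop : IsCoprime ((X : k[X]) ^ (i - 1)) ((X - 1) ^ (b + 1)) := (show IsCoprime (X : k[X]) (X - 1) from ⟨1, -1, by ring⟩).pow
    refine hcop.dvd_of_dvd_mul_left ?_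
    rw [show (X - 1) ^ (b + 1) * B = g - X ^ (a + 1) * A by rw [hgAB]; ring]
    exact dvd_sub (dvd_mul_right _ _) (dvd_mul_of_dvd_left (pow_dvd_pow _ (by omega)) _)
  obtain ⟨B2, rfl⟩ := hdvd
  have hqne : q ≠ 1 := fun h => by
    rw [h, mul_one] at hjq
    have : j = b + 1 := by exact_mod_cast hjq
    omega
  refine key b (a + 1 - i) q hqne (fun h => Nat.cast_add_one_ne_zero b (by rw [h, mul_zero] at hjq; exact hjq.symm)) A B2 (fun l hl => ?_) ?_
  · by_cases hB : B2 = 0
    · rw [hB, coeff_zero]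
    refine coeff_eq_zero_of_natDegree_lt ?_
    rw [natDegree_mul (pow_ne_zero _ (by simpa using X_sub_C_ne_zero (1 : k))) (mul_ne_zero (pow_ne_zero _ X_ne_zero) hB),
      natDegree_mul (pow_ne_zero _ X_ne_zero) hB, natDegree_pow, natDegree_pow,
      show ((X : k[X]) - 1) = X - C 1 by rw [map_one], natDegree_X_sub_C, natDegree_X, mul_one, mul_one] at hBd
    omega
  · refine mul_left_cancel₀ (pow_ne_zero (i - 1) (X_ne_zero (R := k))) ?_
    rw [show b + (a + 1 - i) = j - 1 by omega, ← hg, hgAB]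
    have e : (X : k[X]) ^ (a + 1) = X ^ (i - 1) * X ^ (a + 1 - i + 1) := by rw [← pow_add]; congr 1; omega
    rw [e]
    ring

end Groth.Agent.S16261
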