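import Groth.Statements.S16262
import Mathlib

set_option autoImplicit false
open W4c3wronskmg

namespace Groth.Agent.S16262

open Polynomial in
theorem no_two_zero_coeffs {k : Type*} [Field k] [CharZero k] (i j a : ℕ) (q : k) (hq : q ≠ 0)
    (ha : 0 < a) (haij : a ≤ i + j)
    (h0 : (((X : k[X]) + 1) ^ i * (X - C q) ^ j).coeff a = 0)
    (h1 : (((X : k[X]) + 1) ^ i * (X - C q) ^ j).coeff (a - 1) = 0) : False := by
  set h := ((X : k[X]) + 1) ^ i * (X - C q) ^ j with hh
  have hd : (X + 1) * (X - C q) * derivative h = (C (i : k) * (X - C q) + C (j : k) * (X + 1)) * h := by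
    have e1 : (X + 1 : k[X]) * derivative ((X + 1 : k[X]) ^ i) = C (i : k) * (X + 1) ^ i := by
      rw [derivative_pow, derivative_add, derivative_X, derivative_one, add_zero, mul_one]
      rcases i with _ | i
      · simp
      · rw [Nat.add_sub_cancel, pow_succ]; ring
    have e2 : (X - C q) * derivative ((X - C q) ^ j) = C (j : k) * (X - C q) ^ j := by
      rw [derivative_pow, derivative_sub, derivative_X, derivative_C, sub_zero, mul_one]
      rcases j with _ | j
      · simp
      · rw [Nat.add_sub_cancel, pow_succ]; ring
    rw [hh, derivative_mul]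
    linear_combination ((X - C q) * (X - C q) ^ j) * e1 + ((X + 1) * (X + 1) ^ i) * e2
  have hrec : ∀ m, h.coeff m = 0 → h.coeff (m + 1) = 0 → h.coeff (m + 2) = 0 := by
    intro m hm hm1
    have e := congrArg (fun z => z.coeff (m + 1)) hd
    have eL : (X + 1) * (X - C q) * derivative h =
        X * (X * derivative h) + C (1 - q) * (X * derivative h) - C q * derivative h := by
      rw [map_sub, map_one]; ring
    have eR : (C (i : k) * (X - C q) + C (j : k) * (X + 1)) * h =
        C ((i : k) + j) * (X * h) + C ((j : k) - i * q) * h := by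
      rw [map_add, map_sub, map_mul]; ring
    simp only [eL, eR, coeff_add, coeff_sub, coeff_C_mul, coeff_X_mul, coeff_derivative, hm, hm1, mul_zero,
      zero_mul, add_zero, zero_add, zero_sub] at e
    rcases m with _ | m <;>
      simp [coeff_derivative, hm, hm1, coeff_X_mul, mul_eq_zero, hq, Nat.cast_add_one_ne_zero] at e <;>
      first | exact e | exact e.resolve_right (by norm_cast) | norm_num at e 
  have hall : ∀ d, h.coeff (a - 1 + d) = 0 ∧ h.coeff (a - 1 + d + 1) = 0 := by
    intro d
    induction d with
    | zero => exact ⟨h1, by rw [show a - 1 + 0 + 1 = a by omega]; exact h0⟩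
    | succ d ih => exact ⟨ih.2, hrec _ ih.1 ih.2⟩
  have hmon : h.Monic := by
    have : ((X : k[X]) + 1) = X + C 1 := by simp
    rw [hh, this]
    exact ((monic_X_add_C 1).pow i).mul ((monic_X_sub_C q).pow j)
  have hnd : h.natDegree = i + j := by
    have : ((X : k[X]) + 1) = X + C 1 := by simp
    rw [hh, this, ((monic_X_add_C 1).pow i).natDegree_mul ((monic_X_sub_C q).pow j), natDegree_pow,
      natDegree_pow, natDegree_X_add_C, natDegree_X_sub_C, mul_one, mul_one]
  have := (hall (i + j - (a - 1))).1
  rw [Nat.add_sub_cancel' (by omega), ← hnd] at this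
  rw [Monic, leadingCoeff, this] at hmon
  exact zero_ne_one hmon

open Polynomial in
/-- Let `k` be a field of characteristic zero and `a, b, i` positive integers with `i < a + b`. On the
projective line with `A = 0`, `B = ∞`, `P = -1`, the system `V_{a,b} = H⁰(ω((1+a)A)) ⊕ H⁰(ω((1+b)B))
⊆ H⁰(O(a+b))` is the space of polynomials of degree at most `a+b` with vanishing coefficient of
`X^a`, and `V = V_{a,b}(-iP)` (divided by `(X+1)^i`) is the space of `G` of degree at most `a+b-i`
such that the coefficient of `X^a` in `(X+1)^i G` vanishes; it is a linear system of dimension and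
degree `a+b-i`. Then no point of the projective line other than `A` and `B` is a special
ramification point of `V` (a point of weight at least two); for such a system a point `q` of the
affine line is special exactly when two independent members are divisible by `(X-q)^(a+b-i-1)`, so
the statement is that this fails for every `q ≠ 0`. (The published statement does not except `A` and
`B`, but `A` has weight `max(b-i, 0)` in `V`, which is `2` for `a = 1, b = 3, i = 1`: there `X^3`
and `X^2` both lie in `V`. It is stated over the complex numbers.) -/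
theorem result
    (k : Type*) [Field k] [CharZero k] (a b i : ℕ) (ha : 0 < a) (hb : 0 < b) (hi : 0 < i) (hiab : i < a + b)
    (V : Submodule k (Polynomial k))
    (hV : V = Polynomial.degreeLE k ↑(a + b - i) ⊓
      LinearMap.ker ((Polynomial.lcoeff k a).comp (LinearMap.mulLeft k (((X : Polynomial k) + 1) ^ i))))
    (q : k) (hq : q ≠ 0) :
    Module.finrank k ↥(V ⊓ (Ideal.span {(X - C q) ^ (a + b - i - 1)}).restrictScalars k) ≤ 1 := by
  classical
  set N := a + b - i with hN
  set h : k[X] := (X + 1) ^ i * (X - C q) ^ (N - 1) with hh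
  set u := h.coeff a with hu
  set v := h.coeff (a - 1) with hv
  refine le_trans (Submodule.finrank_mono (t := Submodule.span k {(X - C q) ^ (N - 1) * (C u * X - C v)}) ?_) ?_
  · intro P hP
    obtain ⟨hP1, hP2⟩ := Submodule.mem_inf.1 hP
    rw [hV] at hP1
    obtain ⟨hdeg, hker⟩ := Submodule.mem_inf.1 hP1
    rw [Submodule.restrictScalars_mem, Ideal.mem_span_singleton] at hP2
    obtain ⟨w, rfl⟩ := hP2
    rcases eq_or_ne w 0 with rfl | hw
    · simp
    have hwd : w.natDegree ≤ 1 := by
      have := Polynomial.natDegree_le_of_degree_le (Polynomial.mem_degreeLE.1 hdeg)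
      rw [Polynomial.natDegree_mul (pow_ne_zero _ (Polynomial.X_sub_C_ne_zero q)) hw,
        Polynomial.natDegree_pow, Polynomial.natDegree_X_sub_C, mul_one] at this
      omega
    obtain ⟨α, β, rfl⟩ : ∃ α β, w = C α * X + C β := ⟨_, _, Polynomial.eq_X_add_C_of_natDegree_le_one hwd⟩
    have e : α * v + β * u = 0 := by
      simp only [LinearMap.mem_ker, LinearMap.comp_apply, LinearMap.mulLeft_apply, Polynomial.lcoeff_apply] at hker
      rw [← hker, hu, hv]
      have : (X + 1) ^ i * ((X - C q) ^ (N - 1) * (C α * X + C β)) = C α * (X * h) + C β * h := by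
        rw [hh]; ring
      rw [this, coeff_add, coeff_C_mul, coeff_C_mul]
      congr 2
      obtain ⟨a', ha'⟩ : ∃ a', a = a' + 1 := ⟨a - 1, by omega⟩
      rw [ha', Nat.add_sub_cancel, coeff_X_mul]
    rw [Submodule.mem_span_singleton]
    by_cases hu0 : u = 0
    · have hv0 : v ≠ 0 := fun hv0 => no_two_zero_coeffs i (N - 1) a q hq ha (by omega) hu0 hv0
      have hα : α = 0 := by
        rw [hu0, mul_zero, add_zero] at e
        exact (mul_eq_zero.1 e).resolve_right hv0
      refine ⟨-β / v, ?_⟩
      rw [hu0, hα, Polynomial.smul_eq_C_mul, map_zero, zero_mul, zero_add, zero_sub]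
      have : -β / v * -v = β := by field_simp
      calc C (-β / v) * ((X - C q) ^ (N - 1) * -C v) = (X - C q) ^ (N - 1) * C (-β / v * -v) := by
            rw [map_mul, map_neg]; ring
        _ = _ := by rw [this]
    · refine ⟨α / u, ?_⟩
      rw [Polynomial.smul_eq_C_mul]
      have h1 : α / u * u = α := div_mul_cancel₀ α hu0
      have h2 : -(α / u * v) = β := by field_simp; linear_combination -e
      calc C (α / u) * ((X - C q) ^ (N - 1) * (C u * X - C v))
          = (X - C q) ^ (N - 1) * (C (α / u * u) * X + C (-(α / u * v))) := by rw [map_mul, map_neg, map_mul]; ring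
        _ = _ := by rw [h1, h2]
  · exact le_trans (finrank_span_le_card _) (by simp)

end Groth.Agent.S16262
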