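import Groth.Statements.S16263
import Mathlib

set_option autoImplicit false
open W4c3wronskmg

namespace Groth.Agent.S16263

open Polynomial in
/-- Let `k` be a field of characteristic zero and `a` a positive integer. On the projective line with `A
= 0`, `B = -1`, `C = ∞`, the `(a+1)`-dimensional system `V = H⁰(ω((1+a)C)) ⊕ H⁰(ω(A+B)) ⊆
H⁰(ω((1+a)C + A + B)) ≅ H⁰(O(a+1))` is, in the affine coordinate, the space of polynomials `c + X
(X+1) F` with `c` a constant and `deg F ≤ a - 1`. Then `V` has no special ramification point (no
point of weight at least two): since the members have degree at most `a + 1`, this says that for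
every point `p` of the affine line at most a one-dimensional subspace of `V` is divisible by
`(X-p)^a`, and at `C` that at most a one-dimensional subspace has degree at most one (degree less
than two). (The published statement carries two further positive integers `i, j` with `i + j = a -
1`, used only in its second assertion, and is over the complex numbers.) -/
theorem result
    (k : Type*) [Field k] [CharZero k] (a : ℕ) (ha : 0 < a)
    (V : Submodule k (Polynomial k))
    (hV : V = Submodule.span k {(1 : Polynomial k)} ⊔
      ((Ideal.span {(X : Polynomial k) * (X + 1)}).restrictScalars k ⊓ Polynomial.degreeLE k ↑(a + 1))) :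
    (∀ p : k, Module.finrank k ↥(V ⊓ (Ideal.span {(X - C p) ^ a}).restrictScalars k) ≤ 1) ∧
      Module.finrank k ↥(V ⊓ Polynomial.degreeLT k 2) ≤ 1 := by
  classical
  have hval : ∀ P ∈ V, P.natDegree ≤ a + 1 ∧ P.eval 0 = P.eval (-1) := by
    intro P hP
    rw [hV] at hP
    obtain ⟨u, hu, v, hv, rfl⟩ := Submodule.mem_sup.1 hP
    obtain ⟨c, rfl⟩ := Submodule.mem_span_singleton.1 hu
    obtain ⟨hv1, hv2⟩ := Submodule.mem_inf.1 hv
    rw [Submodule.restrictScalars_mem, Ideal.mem_span_singleton] at hv1
    obtain ⟨w, rfl⟩ := hv1
    refine ⟨?_, by simp⟩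
    refine Polynomial.natDegree_add_le_of_degree_le ?_ ?_
    · exact (Polynomial.natDegree_smul_le _ _).trans (by simp)
    · exact Polynomial.natDegree_le_of_degree_le (Polynomial.mem_degreeLE.1 hv2)
  refine ⟨fun p => ?_, ?_⟩
  · set u := (-p) ^ a with hu
    set v := (-1 - p) ^ a with hv
    have huv : v = 0 → u ≠ 0 := by
      intro h h'
      have h1 : -1 - p = 0 := eq_zero_of_pow_eq_zero h
      have h2 : -p = 0 := eq_zero_of_pow_eq_zero h'
      have : (1 : k) = 0 := by linear_combination h2 - h1
      exact one_ne_zero this
    refine le_trans (Submodule.finrank_mono (t := Submodule.span k {(X - C p) ^ a * (C (v - u) * X + C v)}) ?_) ?_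
    · intro P hP
      obtain ⟨hP1, hP2⟩ := Submodule.mem_inf.1 hP
      obtain ⟨hdeg, he⟩ := hval P hP1
      rw [Submodule.restrictScalars_mem, Ideal.mem_span_singleton] at hP2
      obtain ⟨w, rfl⟩ := hP2
      rcases eq_or_ne w 0 with rfl | hw
      · simp
      have hwd : w.natDegree ≤ 1 := by
        rw [Polynomial.natDegree_mul (pow_ne_zero _ (Polynomial.X_sub_C_ne_zero p)) hw,
          Polynomial.natDegree_pow, Polynomial.natDegree_X_sub_C, mul_one] at hdeg
        omega
      obtain ⟨α, β, rfl⟩ : ∃ α β, w = C α * X + C β := ⟨_, _, Polynomial.eq_X_add_C_of_natDegree_le_one hwd⟩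
      have e : u * β = v * (-α + β) := by
        simpa [hu, hv] using he
      rw [Submodule.mem_span_singleton]
      by_cases hv0 : v = 0
      · have hβ : β = 0 := by
          rw [hv0, zero_mul] at e
          exact (mul_eq_zero.1 e).resolve_left (huv hv0)
        refine ⟨α / (-u), ?_⟩
        rw [hv0, hβ, Polynomial.smul_eq_C_mul]
        have h3 : α / (-u) * (0 - u) = α := by
          have := huv hv0
          field_simp; ring
        calc C (α / -u) * ((X - C p) ^ a * (C (0 - u) * X + C 0))
            = (X - C p) ^ a * (C (α / -u * (0 - u)) * X) := by rw [C_mul, map_zero, add_zero]; ring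
          _ = _ := by rw [h3, map_zero, add_zero]
      · refine ⟨β / v, ?_⟩
        rw [Polynomial.smul_eq_C_mul]
        have h1 : β / v * (v - u) = α := by field_simp; linear_combination -e
        have h2 : β / v * v = β := div_mul_cancel₀ β hv0
        calc C (β / v) * ((X - C p) ^ a * (C (v - u) * X + C v))
            = (X - C p) ^ a * (C (β / v * (v - u)) * X + C (β / v * v)) := by rw [C_mul, C_mul]; ring
          _ = _ := by rw [h1, h2]
    · exact le_trans (finrank_span_le_card _) (by simp)
  · refine le_trans (Submodule.finrank_mono (t := Submodule.span k {(1 : k[X])}) ?_) ?_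
    · intro P hP
      obtain ⟨hP1, hP2⟩ := Submodule.mem_inf.1 hP
      obtain ⟨-, he⟩ := hval P hP1
      have hd : P.natDegree ≤ 1 := by
        rcases eq_or_ne P 0 with rfl | h0
        · simp
        · have := (Polynomial.natDegree_lt_iff_degree_lt h0).2 (Polynomial.mem_degreeLT.1 hP2)
          omega
      obtain ⟨α, β, rfl⟩ : ∃ α β, P = C α * X + C β := ⟨_, _, Polynomial.eq_X_add_C_of_natDegree_le_one hd⟩
      have : α = 0 := by simpa using he
      rw [Submodule.mem_span_singleton]
      exact ⟨β, by simp [this, Polynomial.smul_eq_C_mul]⟩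
    · exact le_trans (finrank_span_le_card _) (by simp)

end Groth.Agent.S16263
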