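import Groth.Statements.S16264
import Mathlib

set_option autoImplicit false
open W4c3wronskmg

namespace Groth.Agent.S16264

open Polynomial in
/-- Let `k` be a field of characteristic zero and `a, i, j` positive integers with `i + j = a - 1`. With
`A = 0`, `B = -1`, `C = ∞` on the projective line and `V` the `(a+1)`-dimensional system of
polynomials `c + X (X+1) F`, `deg F ≤ a - 1` (that is, `H⁰(ω((1+a)C)) ⊕ H⁰(ω(A+B)) ⊆ H⁰(O(a+1))`),
the pairs of points `(P, Q) = (p, q)` of the affine line with `dim V(-iP-jQ) ≥ 3`, i.e. with at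
least a three-dimensional subspace of `V` divisible by `(X-p)^i (X-q)^j`, are exactly `(A, B)` and
`(B, A)`. (Here `P, Q` range over the points other than `C`; when one of them is `C` the dimension
is at most two for degree reasons. The published statement is over the complex numbers.) -/
theorem result
    (k : Type*) [Field k] [CharZero k] (a i j : ℕ) (hi : 0 < i) (hj : 0 < j) (hij : i + j + 1 = a)
    (V : Submodule k (Polynomial k))
    (hV : V = Submodule.span k {(1 : Polynomial k)} ⊔
      ((Ideal.span {(X : Polynomial k) * (X + 1)}).restrictScalars k ⊓ Polynomial.degreeLE k ↑(a + 1)))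
    (p q : k) :
    3 ≤ Module.finrank k ↥(V ⊓ (Ideal.span {(X - C p) ^ i * (X - C q) ^ j}).restrictScalars k) ↔
      (p = 0 ∧ q = -1) ∨ (p = -1 ∧ q = 0) := by
  classical
  set h : k[X] := (X - C p) ^ i * (X - C q) ^ j with hh
  have hh0 : h ≠ 0 := mul_ne_zero (pow_ne_zero _ (Polynomial.X_sub_C_ne_zero p)) (pow_ne_zero _ (Polynomial.X_sub_C_ne_zero q))
  have hhd : h.natDegree = i + j := by
    rw [hh, Polynomial.natDegree_mul (pow_ne_zero _ (Polynomial.X_sub_C_ne_zero p)) (pow_ne_zero _ (Polynomial.X_sub_C_ne_zero q)),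
      Polynomial.natDegree_pow, Polynomial.natDegree_pow, Polynomial.natDegree_X_sub_C, Polynomial.natDegree_X_sub_C, mul_one, mul_one]
  have hval : ∀ P ∈ V, P.natDegree ≤ a + 1 ∧ P.eval 0 = P.eval (-1) := by
    intro P hP
    rw [hV] at hP
    obtain ⟨u, hu, v, hv, rfl⟩ := Submodule.mem_sup.1 hP
    obtain ⟨c, rfl⟩ := Submodule.mem_span_singleton.1 hu
    obtain ⟨hv1, hv2⟩ := Submodule.mem_inf.1 hv
    rw [Submodule.restrictScalars_mem, Ideal.mem_span_singleton] at hv1
    obtain ⟨w, rfl⟩ := hv1
    refine ⟨?_, by simp⟩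
    refine Polynomial.natDegree_add_le_of_degree_le ?_ ?_
    · exact (Polynomial.natDegree_smul_le _ _).trans (by simp)
    · exact Polynomial.natDegree_le_of_degree_le (Polynomial.mem_degreeLE.1 hv2)
  let L : k[X] →ₗ[k] k[X] := LinearMap.mulLeft k h
  have hLinj : Function.Injective L := fun x y hxy => mul_left_cancel₀ hh0 hxy
  set W := V ⊓ (Ideal.span {h}).restrictScalars k with hW
  set U : Submodule k k[X] := (Polynomial.degreeLT k 3).map L with hU
  have hWU : W ≤ U := by
    intro P hP
    obtain ⟨hP1, hP2⟩ := Submodule.mem_inf.1 hP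
    rw [Submodule.restrictScalars_mem, Ideal.mem_span_singleton] at hP2
    obtain ⟨w, rfl⟩ := hP2
    refine ⟨w, ?_, rfl⟩
    rw [SetLike.mem_coe, Polynomial.mem_degreeLT]
    rcases eq_or_ne w 0 with rfl | hw
    · rw [Polynomial.degree_zero]; exact WithBot.bot_lt_coe _
    have := (hval _ hP1).1
    rw [Polynomial.natDegree_mul hh0 hw, hhd] at this
    rw [← Polynomial.natDegree_lt_iff_degree_lt hw]
    omega
  haveI : FiniteDimensional k (Polynomial.degreeLT k 3) := (Polynomial.degreeLTEquiv k 3).symm.finiteDimensional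
  haveI : FiniteDimensional k U := Module.Finite.map _ L
  have hUdim : Module.finrank k U = 3 := by
    rw [hU, ← (Submodule.equivMapOfInjective L hLinj _).finrank_eq, (Polynomial.degreeLTEquiv k 3).finrank_eq,
      Module.finrank_fin_fun]
  show 3 ≤ Module.finrank k W ↔ _
  constructor
  · intro h3
    have hEq : W = U := Submodule.eq_of_le_of_finrank_le hWU (by rw [hUdim]; exact h3)
    have hmem : ∀ w : k[X], w.degree < (3 : ℕ) → (h * w).eval 0 = (h * w).eval (-1) := fun w hw => by
      have : h * w ∈ W := hEq ▸ ⟨w, Polynomial.mem_degreeLT.2 hw, rfl⟩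
      exact (hval _ (Submodule.mem_inf.1 this).1).2
    have e0 := hmem 1 (by rw [Polynomial.degree_one]; exact WithBot.coe_lt_coe.2 (by norm_num))
    have e1 := hmem X (by rw [Polynomial.degree_X]; exact WithBot.coe_lt_coe.2 (by norm_num))
    simp only [mul_one, Polynomial.eval_mul, Polynomial.eval_X, mul_zero] at e0 e1
    have hn1 : h.eval (-1) = 0 := by linear_combination e1
    have hz : h.eval 0 = 0 := by rw [e0, hn1]
    simp only [hh, Polynomial.eval_mul, Polynomial.eval_pow, Polynomial.eval_sub, Polynomial.eval_X,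
      Polynomial.eval_C, mul_eq_zero, pow_eq_zero_iff hi.ne', pow_eq_zero_iff hj.ne'] at hn1 hz
    rcases hz with h1 | h1 <;> rcases hn1 with h2 | h2
    · exact absurd (show (1 : k) = 0 by linear_combination h1 - h2) one_ne_zero
    · left; exact ⟨by linear_combination -h1, by linear_combination -h2⟩
    · right; exact ⟨by linear_combination -h2, by linear_combination -h1⟩
    · exact absurd (show (1 : k) = 0 by linear_combination h1 - h2) one_ne_zero
  · intro hpq
    have hdvd : (X : k[X]) * (X + 1) ∣ h := by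
      rcases hpq with ⟨rfl, rfl⟩ | ⟨rfl, rfl⟩
      · rw [hh, map_neg, map_one, sub_neg_eq_add, map_zero, sub_zero]
        exact mul_dvd_mul (dvd_pow_self _ hi.ne') (dvd_pow_self _ hj.ne')
      · rw [hh, map_neg, map_one, sub_neg_eq_add, map_zero, sub_zero, mul_comm]
        exact mul_dvd_mul (dvd_pow_self _ hi.ne') (dvd_pow_self _ hj.ne')
    have hUW : U ≤ W := by
      rintro _ ⟨w, hw, rfl⟩
      rw [SetLike.mem_coe, Polynomial.mem_degreeLT] at hw
      refine Submodule.mem_inf.2 ⟨?_, Ideal.mem_span_singleton.2 ⟨w, rfl⟩⟩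
      rw [hV]
      refine Submodule.mem_sup_right (Submodule.mem_inf.2 ⟨?_, ?_⟩)
      · exact Ideal.mem_span_singleton.2 (hdvd.mul_right w)
      · rw [Polynomial.mem_degreeLE]
        rcases eq_or_ne w 0 with rfl | hw0
        · simp [L]
        refine Polynomial.degree_le_of_natDegree_le ?_
        show (h * w).natDegree ≤ a + 1
        rw [Polynomial.natDegree_mul hh0 hw0, hhd]
        have := (Polynomial.natDegree_lt_iff_degree_lt hw0).2 hw
        omega
    have : W = U := le_antisymm hWU hUW
    rw [this, hUdim]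

end Groth.Agent.S16264
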