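import Groth.Statements.S16265
import Mathlib
import Groth.Agent.FF.Series

set_option autoImplicit false
open FunFld
open Groth.Agent.FF

namespace Groth.Agent.S16265

/-- Let `K/k` be a function field of one variable over an algebraically closed field `k` of
characteristic zero (the function field of a smooth projective curve), `D` a divisor and `V ⊆ L(D)`
a linear system of dimension `r + 1`; write `V(-mP-nQ) = V ∩ L(D - mP - nQ)` for the members
vanishing to the indicated orders. Assume `V` has no special ramification point, i.e. no place of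
weight at least two: for every place `R`, `dim V(-rR) ≤ 1` and `V(-(r+2)R) = 0`. Let `P ≠ Q` be
places and `a, b ≥ 1` with `a + b = r + 1` (so that `V(-aP)` and `V(-bQ)` have dimensions `b` and
`a`). Then the following are equivalent: (1) the system `V(-aP)` has weight at least two at `Q`,
that is `dim V(-aP-(b-1)Q) ≥ 2` or `dim V(-aP-(b+1)Q) ≥ 1`, and the system `V(-bQ)` has weight at
least two at `P`, that is `dim V(-(a-1)P-bQ) ≥ 2` or `dim V(-(a+1)P-bQ) ≥ 1`; (2) one of (a) `dim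
V(-(a+1)P-(b+1)Q) ≥ 1`, (b) `dim V(-(a-1)P-(b-1)Q) ≥ 3`, (c) `dim V(-aP-(b+1)Q) ≥ 1` and `dim
V(-(a-1)P-bQ) ≥ 2`, (d) `dim V(-(a+1)P-bQ) ≥ 1` and `dim V(-aP-(b-1)Q) ≥ 2`. (The published
statement is for a smooth curve over the complex numbers.) -/
theorem result
    (k K : Type*) [Field k] [IsAlgClosed k] [CharZero k] [Field K] [Algebra k K]
    (hK : FunFld.IsFunctionField k K) (D : FunFld.Divisor k K)
    (V : Submodule k K) (hVD : V ≤ FunFld.L D) (r : ℕ) (hr : Module.finrank k ↥V = r + 1)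
    (hns : ∀ R : FunFld.Place k K,
      Module.finrank k ↥(V ⊓ FunFld.L (D - Finsupp.single R (r : ℤ))) ≤ 1 ∧
        V ⊓ FunFld.L (D - Finsupp.single R ((r : ℤ) + 2)) = ⊥)
    (P Q : FunFld.Place k K) (hPQ : P ≠ Q) (a b : ℕ) (ha : 1 ≤ a) (hb : 1 ≤ b) (hab : a + b = r + 1) :
    ((2 ≤ Module.finrank k ↥(V ⊓ FunFld.L (D - Finsupp.single P (a : ℤ) - Finsupp.single Q ((b : ℤ) - 1 : ℤ))) ∨
        1 ≤ Module.finrank k ↥(V ⊓ FunFld.L (D - Finsupp.single P (a : ℤ) - Finsupp.single Q ((b : ℤ) + 1 : ℤ)))) ∧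
      (2 ≤ Module.finrank k ↥(V ⊓ FunFld.L (D - Finsupp.single P ((a : ℤ) - 1 : ℤ) - Finsupp.single Q (b : ℤ))) ∨
        1 ≤ Module.finrank k ↥(V ⊓ FunFld.L (D - Finsupp.single P ((a : ℤ) + 1 : ℤ) - Finsupp.single Q (b : ℤ))))) ↔
    (1 ≤ Module.finrank k ↥(V ⊓ FunFld.L (D - Finsupp.single P ((a : ℤ) + 1 : ℤ) - Finsupp.single Q ((b : ℤ) + 1 : ℤ))) ∨
      3 ≤ Module.finrank k ↥(V ⊓ FunFld.L (D - Finsupp.single P ((a : ℤ) - 1 : ℤ) - Finsupp.single Q ((b : ℤ) - 1 : ℤ))) ∨
      (1 ≤ Module.finrank k ↥(V ⊓ FunFld.L (D - Finsupp.single P (a : ℤ) - Finsupp.single Q ((b : ℤ) + 1 : ℤ))) ∧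
        2 ≤ Module.finrank k ↥(V ⊓ FunFld.L (D - Finsupp.single P ((a : ℤ) - 1 : ℤ) - Finsupp.single Q (b : ℤ)))) ∨
      (1 ≤ Module.finrank k ↥(V ⊓ FunFld.L (D - Finsupp.single P ((a : ℤ) + 1 : ℤ) - Finsupp.single Q (b : ℤ))) ∧
        2 ≤ Module.finrank k ↥(V ⊓ FunFld.L (D - Finsupp.single P (a : ℤ) - Finsupp.single Q ((b : ℤ) - 1 : ℤ))))) := by
  classical
  let W : ℤ → ℤ → Submodule k K := fun i j => V ⊓ L (D - Finsupp.single P i - Finsupp.single Q j)
  have hfd : ∀ i j, FiniteDimensional k (W i j) := fun i j =>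
    haveI := finite_L hK (D - Finsupp.single P i - Finsupp.single Q j)
    Submodule.finiteDimensional_of_le inf_le_right
  have hmono : ∀ i i' j j', i ≤ i' → j ≤ j' → W i' j' ≤ W i j := fun i i' j j' hi hj =>
    inf_le_inf_left _ (L_mono fun R => by
      simp only [Finsupp.coe_sub, Pi.sub_apply, Finsupp.single_apply]; split_ifs <;> omega)
  have hfr : ∀ i i' j j', i ≤ i' → j ≤ j' → Module.finrank k (W i' j') ≤ Module.finrank k (W i j) :=
    fun i i' j j' hi hj => haveI := hfd i j; Submodule.finrank_mono (hmono i i' j j' hi hj)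
  have hstepP : ∀ i j, Module.finrank k (W i j) ≤ Module.finrank k (W (i + 1) j) + 1 := fun i j => by
    have h := finrank_inf_single_step hK V (D - Finsupp.single Q j) P i
    rwa [sub_right_comm D (Finsupp.single Q j) (Finsupp.single P i),
      sub_right_comm D (Finsupp.single Q j) (Finsupp.single P (i + 1))] at h
  have hstepQ : ∀ i j, Module.finrank k (W i j) ≤ Module.finrank k (W i (j + 1)) + 1 := fun i j =>
    finrank_inf_single_step hK V (D - Finsupp.single P i) Q j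
  have hinter : ∀ i j, W (i + 1) j ⊓ W i (j + 1) ≤ W (i + 1) (j + 1) := fun i j x hx => by
    obtain ⟨h1, h2⟩ := Submodule.mem_inf.1 hx
    obtain ⟨hxV, h1⟩ := Submodule.mem_inf.1 h1
    obtain ⟨-, h2⟩ := Submodule.mem_inf.1 h2
    refine Submodule.mem_inf.2 ⟨hxV, fun R => ?_⟩
    rcases eq_or_ne R P with rfl | hR
    · simpa [Finsupp.single_eq_of_ne hPQ] using h1 R
    · simpa [Finsupp.single_eq_of_ne hR] using h2 R
  have hsum : ∀ i j, Module.finrank k (W (i + 1) j) + Module.finrank k (W i (j + 1)) ≤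
      Module.finrank k (W i j) + Module.finrank k (W (i + 1) (j + 1)) := fun i j => by
    haveI := hfd (i + 1) j; haveI := hfd i (j + 1); haveI := hfd i j; haveI := hfd (i + 1) (j + 1)
    rw [← Submodule.finrank_sup_add_finrank_inf_eq]
    exact add_le_add (Submodule.finrank_mono (sup_le (hmono _ _ _ _ (by omega) le_rfl) (hmono _ _ _ _ le_rfl (by omega))))
      (Submodule.finrank_mono (hinter i j))
  set A : ℤ := (a : ℤ)
  set B : ℤ := (b : ℤ)
  change ((2 ≤ Module.finrank k (W A (B - 1)) ∨ 1 ≤ Module.finrank k (W A (B + 1))) ∧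
      (2 ≤ Module.finrank k (W (A - 1) B) ∨ 1 ≤ Module.finrank k (W (A + 1) B))) ↔
    (1 ≤ Module.finrank k (W (A + 1) (B + 1)) ∨ 3 ≤ Module.finrank k (W (A - 1) (B - 1)) ∨
      (1 ≤ Module.finrank k (W A (B + 1)) ∧ 2 ≤ Module.finrank k (W (A - 1) B)) ∨
      (1 ≤ Module.finrank k (W (A + 1) B) ∧ 2 ≤ Module.finrank k (W A (B - 1))))
  have e1 := hsum A B
  have e2 := hsum (A - 1) (B - 1)
  rw [show A - 1 + 1 = A from sub_add_cancel A 1, show B - 1 + 1 = B from sub_add_cancel B 1] at e2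
  have p1 := hfr A (A + 1) (B + 1) (B + 1) (by omega) le_rfl
  have p2 := hfr (A + 1) (A + 1) B (B + 1) le_rfl (by omega)
  have q1 := hstepP (A - 1) (B - 1)
  have q2 := hstepQ (A - 1) (B - 1)
  have s1 := hfr (A - 1) A B B (by omega) le_rfl
  have s2 := hstepP A B
  rw [show A - 1 + 1 = A from sub_add_cancel A 1] at q1
  rw [show B - 1 + 1 = B from sub_add_cancel B 1] at q2
  omega

end Groth.Agent.S16265
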