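import Groth.Statements.S16269
import Groth.Agent.EtGalSheaf.Basic
-- import your own Groth.Agent.* helpers here

set_option autoImplicit false
set_option backward.isDefEq.respectTransparency false
universe u w
open CategoryTheory CategoryTheory.Limits AlgebraicGeometry Opposite
open EtCore

namespace Groth.Agent.S16269

/-- Let X be a scheme, Y an etale X-scheme with Y -> X surjective, and G a finite group acting on Y by
X-automorphisms such that the morphisms (id, g) : Y -> Y x_X Y exhibit Y x_X Y as the coproduct of
copies of Y indexed by G (a Galois covering with group G). For an abelian sheaf F on the small etale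
site of X, the restriction map F(X) -> F(Y) is injective and its image is the set of sections of F
over Y fixed by every element of G. -/
theorem result (X : Scheme.{u})
    (Y : X.Etale) (hY : Function.Surjective Y.hom.base)
    {G : Type u} [Group G] [Finite G] (σ : G →* Aut Y)
    (hgal : Nonempty (IsColimit (Cofan.mk (Y ⨯ Y) (fun g : G => prod.lift (𝟙 Y) (σ g).hom))))
    (F : EtCoh.Ab X) :
    Function.Injective (F.obj.map ((EtCore.topIsTerminal X).from Y).op) ∧
      Set.range (F.obj.map ((EtCore.topIsTerminal X).from Y).op) =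
        {s : EtCoh.sect F Y | ∀ g : G, F.obj.map (σ g).hom.op s = s} := by
  let P : X.Etaleᵒᵖ ⥤ Type (u + 1) := F.obj ⋙ forget AddCommGrpCat.{u + 1}
  have hPs : Presieve.IsSheaf X.smallEtaleTopology P :=
    (isSheaf_iff_isSheaf_of_type _ _).1 ((sheafCompose X.smallEtaleTopology (forget _)).obj F).property
  obtain ⟨hc⟩ := hgal
  haveI : ∀ g : G, Mono (prod.lift (𝟙 Y) (σ g).hom) := fun g => mono_of_mono_fac (prod.lift_fst (𝟙 Y) (σ g).hom)
  have hcov : Sieve.ofArrows (fun _ : PUnit.{1} => Y) (fun _ => (EtCore.topIsTerminal X).from Y) ∈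
      X.smallEtaleTopology (EtCoh.top X) := by
    rw [Scheme.ofArrows_mem_smallEtaleTopology_iff]
    refine Set.eq_univ_of_forall fun z => Set.mem_iUnion.2 ⟨⟨⟩, ?_⟩
    obtain ⟨y, hy⟩ := hY z
    refine ⟨y, ?_⟩
    have hw : ((EtCore.topIsTerminal X).from Y).left = Y.hom :=
      (Category.comp_id _).symm.trans (MorphismProperty.Over.w ((EtCore.topIsTerminal X).from Y))
    exact (congrArg (fun f => f y) hw).trans hy
  have hs : Presieve.IsSheafFor P (Presieve.singleton ((EtCore.topIsTerminal X).from Y)) := by
    rw [← Presieve.ofArrows_pUnit]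
    exact (Presieve.isSheafFor_iff_generate _).2 (hPs _ hcov)
  exact (Groth.Agent.EtGalSheaf.isSheafFor_iff (EtCore.topIsTerminal X) (fun g : G => (σ g).hom) P
    (Groth.Agent.EtGalSheaf.bijective_of_cofan hPs hc).1).1 hs

end Groth.Agent.S16269
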