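import Groth.Statements.S16272
import Mathlib


set_option autoImplicit false
universe w' w v u
open CategoryTheory
open NonAbH1

namespace Groth.Agent.S16272

/-- The class map is well defined: let C be a category with a Grothendieck topology J, G a sheaf of
groups and U a family of objects. A G-torsor P with a section over every U_i has exactly one Cech
class on U: choosing sections s_i of P over the U_i cuts out a 1-cocycle of G on U, and its class in
the Cech cohomology set H^1(U, G) does not depend on the choice. (The published statement is for an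
etale covering of a scheme; this row is stated for any family of objects of any site.) -/
theorem result {C : Type u} [Category.{v} C]
    {J : GrothendieckTopology C} {G : Sheaf J GrpCat.{w}} (P : NonAbH1.Torsor G)
    {I : Type w'} (U : I → C) (hP : P.TrivialisedBy U) :
    ∃! c : PresheafOfGroups.H1 G.obj U, P.HasCechClass U c := by
  classical
  let s : ∀ i, P.P.obj.obj (Opposite.op (U i)) := fun i => (hP i).some
  have hpt := P.isTorsor.1
  have ext1 : ∀ {T : Cᵒᵖ} {g h : G.obj.obj T} (p : P.P.obj.obj T), P.smul g p = P.smul h p → g = h := by
    intro T g h p hgh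
    exact (hpt T p (P.smul h p)).unique hgh rfl
  have comp : ∀ {T T' : C} {i : I} (φ : T ⟶ T') (a : T' ⟶ U i) (x : P.P.obj.obj (Opposite.op (U i))),
      P.P.obj.map φ.op (P.P.obj.map a.op x) = P.P.obj.map (φ ≫ a).op x := by
    intro T T' i φ a x
    rw [op_comp, Functor.map_comp]
    rfl
  choose e he hu using fun (i j : I) (T : C) (a : T ⟶ U i) (b : T ⟶ U j) =>
    hpt (Opposite.op T) (P.P.obj.map b.op (s j)) (P.P.obj.map a.op (s i))
  let γ : PresheafOfGroups.OneCocycle G.obj U :=
    { ev := fun i j T a b => e i j T a b
      ev_precomp := fun i j T T' φ a b => by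
        refine hu i j T (φ ≫ a) (φ ≫ b) _ ?_
        dsimp only
        rw [← comp φ a, ← comp φ b, ← P.map_smul, he]
      ev_trans := fun i j k T a b c => by
        refine hu i k T a c _ ?_
        dsimp only
        rw [P.mul_smul, he, he] }
  refine ⟨γ.class, ⟨s, γ, fun i j T a b => he i j T a b, rfl⟩, ?_⟩
  rintro c ⟨s', γ', hγ', rfl⟩
  refine PresheafOfGroups.OneCocycle.IsCohomologous.class_eq ?_
  choose α hα using fun i => (hpt (Opposite.op (U i)) (s' i) (s i)).exists
  refine ⟨α, fun i j T a b => ?_⟩
  refine ext1 (P.P.obj.map b.op (s' j)) ?_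
  rw [P.mul_smul, P.mul_smul, hγ' i j a b, ← P.map_smul, ← P.map_smul, hα, hα]
  exact (he i j T a b).symm

end Groth.Agent.S16272
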