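import Groth.Statements.S16273


set_option autoImplicit false
universe w' w v u
open CategoryTheory
open NonAbH1

namespace Groth.Agent.S16273
open CategoryTheory Opposite PresheafOfGroups NonAbH1

variable {C : Type u} [Category.{v} C] {J : GrothendieckTopology C} {G : Sheaf J GrpCat.{w}}
  {I : Type w'} {U : I → C}

/-- Coordinates on a family of objects, glued along a cocycle. -/
@[ext]
structure Coord (γ : OneCocycle G.obj U) (T : C) : Type (max u v w w') where
  val : ∀ (i : I) ⦃V : C⦄ (_ : V ⟶ T) (_ : V ⟶ U i), G.obj.obj (op V)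
  nat : ∀ (i : I) ⦃V W : C⦄ (φ : W ⟶ V) (g : V ⟶ T) (a : V ⟶ U i),
    G.obj.map φ.op (val i g a) = val i (φ ≫ g) (φ ≫ a)
  glue : ∀ (i j : I) ⦃V : C⦄ (g : V ⟶ T) (a : V ⟶ U i) (b : V ⟶ U j),
    val i g a * γ.ev i j a b = val j g b

variable (P : NonAbH1.Torsor G) (s : ∀ i, P.P.obj.obj (op (U i))) {γ : OneCocycle G.obj U}

theorem existsUnique_coord {T : C} (p : P.P.obj.obj (op T)) (i : I) {V : C} (g : V ⟶ T) (a : V ⟶ U i) :
    ∃! h : G.obj.obj (op V), P.smul h (P.P.obj.map a.op (s i)) = P.P.obj.map g.op p :=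
  P.isTorsor.1 _ _ _

theorem map_map {P : Cᵒᵖ ⥤ Type w} {A B D : C} (φ : B ⟶ A) (ψ : D ⟶ B) (x : P.obj (op A)) :
    P.map ψ.op (P.map φ.op x) = P.map (ψ ≫ φ).op x := by
  rw [← ConcreteCategory.comp_apply, ← Functor.map_comp]
  rfl

/-- The coordinates of a section. -/
noncomputable def coord (hs : P.toGSheaf.IsCocycleOf U s γ) {T : C} (p : P.P.obj.obj (op T)) :
    Coord γ T where
  val i V g a := (existsUnique_coord P s p i g a).exists.choose
  nat i V W φ g a := by
    refine (existsUnique_coord P s p i (φ ≫ g) (φ ≫ a)).unique ?_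
      (existsUnique_coord P s p i (φ ≫ g) (φ ≫ a)).exists.choose_spec
    rw [← map_map a φ, ← P.map_smul, (existsUnique_coord P s p i g a).exists.choose_spec, map_map]
  glue i j V g a b := by
    refine (existsUnique_coord P s p j g b).unique ?_
      (existsUnique_coord P s p j g b).exists.choose_spec
    rw [P.mul_smul, hs i j a b]
    exact (existsUnique_coord P s p i g a).exists.choose_spec

theorem coord_spec (hs : P.toGSheaf.IsCocycleOf U s γ) {T : C} (p : P.P.obj.obj (op T)) (i : I)
    {V : C} (g : V ⟶ T) (a : V ⟶ U i) :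
    P.smul ((coord P s hs p).val i g a) (P.P.obj.map a.op (s i)) = P.P.obj.map g.op p :=
  (existsUnique_coord P s p i g a).exists.choose_spec

theorem coord_bijective (hU : J.CoversTop U) (hs : P.toGSheaf.IsCocycleOf U s γ) (T : C) :
    Function.Bijective (coord P s hs (T := T)) := by
  classical
  have hP : Presieve.IsSheaf J P.P.obj := (isSheaf_iff_isSheaf_of_type _ _).1 P.P.property
  refine ⟨fun p q h => (hP _ (hU T)).isSeparatedFor.ext fun V g ⟨i, ⟨a⟩⟩ => ?_, fun c => ?_⟩
  · rw [← coord_spec P s hs p i g a, ← coord_spec P s hs q i g a, h]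
  · have key : ∀ ⦃V : C⦄ (g : V ⟶ T) (i j : I) (a : V ⟶ U i) (b : V ⟶ U j),
        P.smul (c.val i g a) (P.P.obj.map a.op (s i)) = P.smul (c.val j g b) (P.P.obj.map b.op (s j)) := by
      intro V g i j a b
      rw [← c.glue i j g a b, P.mul_smul, hs i j a b]
    let x : Presieve.FamilyOfElements P.P.obj (Sieve.ofObjects U T).arrows := fun V g hg =>
      P.smul (c.val hg.choose g hg.choose_spec.some) (P.P.obj.map hg.choose_spec.some.op (s hg.choose))
    obtain ⟨p, hp, -⟩ := hP _ (hU T) x (by
      rw [Presieve.compatible_iff_sieveCompatible]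
      intro V W g φ hg
      show P.smul _ _ = P.P.obj.map φ.op (P.smul _ _)
      rw [P.map_smul, c.nat, map_map]
      exact key _ _ _ _ _)
    refine ⟨p, Coord.ext ?_⟩
    funext i V g a
    refine (existsUnique_coord P s p i g a).unique (coord_spec P s hs p i g a) ?_
    rw [hp g ⟨i, ⟨a⟩⟩]
    exact key g _ _ _ _

theorem coord_map (hs : P.toGSheaf.IsCocycleOf U s γ) {T T' : C} (f : T' ⟶ T) (p : P.P.obj.obj (op T))
    (i : I) {V : C} (g : V ⟶ T') (a : V ⟶ U i) :
    (coord P s hs (P.P.obj.map f.op p)).val i g a = (coord P s hs p).val i (g ≫ f) a := by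
  refine (existsUnique_coord P s (P.P.obj.map f.op p) i g a).unique (coord_spec P s hs _ i g a) ?_
  rw [coord_spec P s hs p i (g ≫ f) a, map_map]

theorem coord_smul (hs : P.toGSheaf.IsCocycleOf U s γ) {T : C} (h : G.obj.obj (op T))
    (p : P.P.obj.obj (op T)) (i : I) {V : C} (g : V ⟶ T) (a : V ⟶ U i) :
    (coord P s hs (P.smul h p)).val i g a = G.obj.map g.op h * (coord P s hs p).val i g a := by
  refine (existsUnique_coord P s (P.smul h p) i g a).unique (coord_spec P s hs _ i g a) ?_
  rw [P.mul_smul, coord_spec P s hs p i g a, P.map_smul]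

theorem exists_hom (hU : J.CoversTop U) (Q : NonAbH1.Torsor G) (t : ∀ i, Q.P.obj.obj (op (U i)))
    (hs : P.toGSheaf.IsCocycleOf U s γ) (ht : Q.toGSheaf.IsCocycleOf U t γ) :
    ∃ f : P.toGSheaf ⟶ Q.toGSheaf, ∀ (T : C) (p : P.P.obj.obj (op T)),
      coord Q t ht (f.hom.hom.app (op T) p) = coord P s hs p := by
  let e : ∀ T : C, P.P.obj.obj (op T) → Q.P.obj.obj (op T) := fun T p =>
    (Equiv.ofBijective _ (coord_bijective Q t hU ht T)).symm (coord P s hs p)
  have he : ∀ (T : C) p, coord Q t ht (e T p) = coord P s hs p := fun T p =>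
    (Equiv.ofBijective _ (coord_bijective Q t hU ht T)).apply_symm_apply _
  refine ⟨⟨⟨{ app := fun T => TypeCat.ofHom (e T.unop)
              naturality := fun T T' f => ?_ }⟩, fun {T} h p => ?_⟩, he⟩
  · refine ConcreteCategory.hom_ext _ _ fun p => (coord_bijective Q t hU ht T'.unop).1 (Coord.ext ?_)
    funext i V g a
    show (coord Q t ht (e T'.unop (P.P.obj.map f.unop.op p))).val i g a =
      (coord Q t ht (Q.P.obj.map f.unop.op (e T.unop p))).val i g a
    rw [he, coord_map, coord_map, he]
  · refine (coord_bijective Q t hU ht T.unop).1 (Coord.ext ?_)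
    funext i V g a
    show (coord Q t ht (e T.unop (P.smul h p))).val i g a =
      (coord Q t ht (Q.smul h (e T.unop p))).val i g a
    rw [he, coord_smul, coord_smul, he]


/-- Let C be a category with a Grothendieck topology J, G a sheaf of groups and U a family of objects
which covers every object of the site. Two G-torsors admitting a common Cech class in H^1(U, G)
(each cut out by some family of sections over the U_i) are equivariantly isomorphic. (The published
statement is for an etale covering of a scheme; this row is stated for any family of objects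
covering the site.) -/
theorem result {C : Type u} [Category.{v} C]
    {J : GrothendieckTopology C} {G : Sheaf J GrpCat.{w}} {I : Type w'} (U : I → C) (hU : J.CoversTop U)
    (P Q : NonAbH1.Torsor G)
    (c : PresheafOfGroups.H1 G.obj U) (hPc : P.HasCechClass U c) (hQc : Q.HasCechClass U c) :
    Nonempty (P.toGSheaf ≅ Q.toGSheaf) := by
  obtain ⟨s, γ, hs, rfl⟩ := hPc
  obtain ⟨t, γ', ht, he⟩ := hQc
  obtain ⟨α, hα⟩ := (OneCocycle.class_eq_iff γ γ').mp he.symm
  -- change the sections of `Q` to get the same cocycle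
  let t' : ∀ i, Q.P.obj.obj (op (U i)) := fun i => Q.smul (α i)⁻¹ (t i)
  have ht' : Q.toGSheaf.IsCocycleOf U t' γ := fun i j T a b => by
    show Q.smul _ (Q.P.obj.map b.op (Q.smul _ (t j))) = Q.P.obj.map a.op (Q.smul _ (t i))
    rw [Q.map_smul, Q.map_smul, ← Q.mul_smul, ← ht i j a b, ← Q.mul_smul, map_inv, map_inv]
    congr 1
    rw [mul_inv_eq_iff_eq_mul, mul_assoc, ← hα i j a b, inv_mul_cancel_left]
  obtain ⟨f, hf⟩ := exists_hom P s hU Q t' hs ht'
  obtain ⟨g, hg⟩ := exists_hom Q t' hU P s ht' hs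
  refine ⟨⟨f, g, ?_, ?_⟩⟩
  · refine GSheaf.hom_ext (ObjectProperty.hom_ext _ (NatTrans.ext (funext fun T =>
      ConcreteCategory.hom_ext _ _ fun p => (coord_bijective P s hU hs T.unop).1 ?_)))
    exact (hg T.unop _).trans (hf T.unop p)
  · refine GSheaf.hom_ext (ObjectProperty.hom_ext _ (NatTrans.ext (funext fun T =>
      ConcreteCategory.hom_ext _ _ fun p => (coord_bijective Q t' hU ht' T.unop).1 ?_)))
    exact (hf T.unop _).trans (hg T.unop p)

end Groth.Agent.S16273
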