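import Groth.Statements.S16274


set_option autoImplicit false
universe w' w v u
open CategoryTheory
open NonAbH1

namespace Groth.Agent.S16274

open CategoryTheory Opposite PresheafOfGroups NonAbH1

variable {C : Type u} [Category.{v} C] {J : GrothendieckTopology C} (G : Sheaf J GrpCat.{w})

theorem grp_glue {T : C} (S : Sieve T) (hS : S ∈ J T) (x : ∀ ⦃V : C⦄ (g : V ⟶ T), S g → G.obj.obj (op V))
    (hx : ∀ ⦃V W : C⦄ (φ : W ⟶ V) (g : V ⟶ T) (hg : S g), G.obj.map φ.op (x g hg) = x (φ ≫ g) (S.downward_closed hg φ)) :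
    ∃ h : G.obj.obj (op T), ∀ ⦃V : C⦄ (g : V ⟶ T) (hg : S g), G.obj.map g.op h = x g hg := by
  let Z : GrpCat.{w} := GrpCat.of (ULift.{w} (Multiplicative ℤ))
  let hom : ∀ {V : C}, G.obj.obj (op V) → (Z ⟶ G.obj.obj (op V)) := fun z =>
    GrpCat.ofHom ((zpowersHom _ z).comp MulEquiv.ulift.toMonoidHom)
  let gen : Z := ULift.up (Multiplicative.ofAdd 1)
  have hgen : ∀ {V : C} (z : G.obj.obj (op V)), hom z gen = z := fun z => by
    show zpowersHom _ z (Multiplicative.ofAdd 1) = z
    simp
  have hG := G.property Z S hS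
  let fam : Presieve.FamilyOfElements (G.obj ⋙ coyoneda.obj (op Z)) S.arrows := fun V g hg => hom (x g hg)
  have hfam : fam.Compatible := by
    rw [Presieve.compatible_iff_sieveCompatible]
    intro V W g φ hg
    show hom (x (φ ≫ g) _) = hom (x g hg) ≫ G.obj.map φ.op
    refine GrpCat.hom_ext (MonoidHom.ext fun n => ?_)
    show zpowersHom _ (x (φ ≫ g) _) n.down = G.obj.map φ.op (zpowersHom _ (x g hg) n.down)
    simp only [zpowersHom_apply, map_zpow, hx φ g hg]
  obtain ⟨t, ht, -⟩ := hG fam hfam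
  refine ⟨(show Z ⟶ G.obj.obj (op T) from t) gen, fun V g hg => ?_⟩
  have := congrArg (fun φ : Z ⟶ G.obj.obj (op V) => φ gen) (ht g hg)
  exact this.trans (hgen _)

theorem grp_sep {T : C} (S : Sieve T) (hS : S ∈ J T) {a b : G.obj.obj (op T)}
    (hab : ∀ ⦃V : C⦄ (g : V ⟶ T), S g → G.obj.map g.op a = G.obj.map g.op b) : a = b := by
  let Z : GrpCat.{w} := GrpCat.of (ULift.{w} (Multiplicative ℤ))
  let hom : G.obj.obj (op T) → (Z ⟶ G.obj.obj (op T)) := fun z =>
    GrpCat.ofHom ((zpowersHom _ z).comp MulEquiv.ulift.toMonoidHom)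
  have h : hom a = hom b := by
    refine (G.property Z S hS).isSeparatedFor.ext fun V g hg => ?_
    show hom a ≫ G.obj.map g.op = hom b ≫ G.obj.map g.op
    refine GrpCat.hom_ext (MonoidHom.ext fun n => ?_)
    show G.obj.map g.op (zpowersHom _ a n.down) = G.obj.map g.op (zpowersHom _ b n.down)
    simp only [zpowersHom_apply, map_zpow, hab g hg]
  have := congrArg (fun φ : Z ⟶ G.obj.obj (op T) => φ (ULift.up (Multiplicative.ofAdd 1))) h
  have hone : ∀ z : G.obj.obj (op T), hom z (ULift.up (Multiplicative.ofAdd 1)) = z := fun z => by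
    show zpowersHom _ z (Multiplicative.ofAdd 1) = z
    simp
  exact (hone a).symm.trans (this.trans (hone b))

variable {I : Type w'} {U : I → C} (γ : OneCocycle G.obj U)

/-- sections of the twisted torsor -/
@[ext]
structure Sec (T : C) : Type (max u v w w') where
  val : ∀ (i : I) ⦃V : C⦄ (_ : V ⟶ T) (_ : V ⟶ U i), G.obj.obj (op V)
  nat : ∀ (i : I) ⦃V W : C⦄ (φ : W ⟶ V) (g : V ⟶ T) (a : V ⟶ U i),
    G.obj.map φ.op (val i g a) = val i (φ ≫ g) (φ ≫ a)
  glue : ∀ (i j : I) ⦃V : C⦄ (g : V ⟶ T) (a : V ⟶ U i) (b : V ⟶ U j), val i g a * γ.ev i j a b = val j g b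

variable {G γ}

def Sec.res {T T' : C} (f : T' ⟶ T) (p : Sec G γ T) : Sec G γ T' where
  val i V g a := p.val i (g ≫ f) a
  nat i V W φ g a := by rw [p.nat, Category.assoc]
  glue i j V g a b := p.glue i j _ a b

def Sec.act {T : C} (h : G.obj.obj (op T)) (p : Sec G γ T) : Sec G γ T where
  val i V g a := G.obj.map g.op h * p.val i g a
  nat i V W φ g a := by
    rw [map_mul, p.nat]
    congr 1
    rw [op_comp, Functor.map_comp]
    rfl
  glue i j V g a b := by rw [mul_assoc, p.glue]

variable (γ) in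
def Sec.base (j : I) : Sec G γ (U j) where
  val i V g a := γ.ev j i g a
  nat i V W φ g a := γ.ev_precomp j i φ g a
  glue i k V g a b := γ.ev_trans j i k g a b

theorem Sec.existsUnique_act (hU : J.CoversTop U) {T : C} (p q : Sec G γ T) :
    ∃! h : G.obj.obj (op T), Sec.act h p = q := by
  classical
  have key : ∀ ⦃V : C⦄ (g : V ⟶ T) (i j : I) (a : V ⟶ U i) (b : V ⟶ U j),
      q.val i g a * (p.val i g a)⁻¹ = q.val j g b * (p.val j g b)⁻¹ := by
    intro V g i j a b
    rw [← q.glue i j g a b, ← p.glue i j g a b, mul_inv_rev, mul_assoc, mul_inv_cancel_left]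
  obtain ⟨h, hh⟩ := grp_glue G (Sieve.ofObjects U T) (hU T)
    (fun V g hg => q.val hg.choose g hg.choose_spec.some * (p.val hg.choose g hg.choose_spec.some)⁻¹)
    (fun V W φ g hg => by
      rw [map_mul, map_inv, q.nat, p.nat]
      exact key _ _ _ _ _)
  refine ⟨h, ?_, fun h' hh' => ?_⟩
  · refine Sec.ext ?_
    funext i V g a
    have hg : Sieve.ofObjects U T g := ⟨i, ⟨a⟩⟩
    show G.obj.map g.op h * p.val i g a = q.val i g a
    rw [hh g hg, key g hg.choose i hg.choose_spec.some a, inv_mul_cancel_right]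
  · refine grp_sep G (Sieve.ofObjects U T) (hU T) fun V g hg => ?_
    obtain ⟨i, ⟨a⟩⟩ := hg
    have h1 : G.obj.map g.op h' * p.val i g a = q.val i g a := congrArg (fun s => s.val i g a) hh'
    rw [hh g ⟨i, ⟨a⟩⟩, key g _ i _ a, ← h1, mul_inv_cancel_right]

theorem Sec.small (hU : J.CoversTop U) (T : C) : Small.{w} (Sec G γ T) := by
  rcases isEmpty_or_nonempty (Sec G γ T) with h | ⟨⟨p⟩⟩
  · infer_instance
  · exact small_of_surjective (f := fun h : G.obj.obj (op T) => Sec.act h p) fun q => (Sec.existsUnique_act hU p q).exists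

noncomputable def torsorPre (hU : J.CoversTop U) : Cᵒᵖ ⥤ Type w :=
  haveI := fun T => Sec.small (G := G) (γ := γ) hU T
  { obj := fun T => Shrink.{w} (Sec G γ T.unop)
    map := fun f => TypeCat.ofHom fun p => equivShrink _ (Sec.res f.unop ((equivShrink _).symm p))
    map_id := fun T => by
      refine ConcreteCategory.hom_ext _ _ fun p => ?_
      show equivShrink _ (Sec.res (𝟙 T.unop) ((equivShrink _).symm p)) = p
      rw [show Sec.res (𝟙 T.unop) ((equivShrink _).symm p) = (equivShrink _).symm p from Sec.ext (by funext i V g a; simp [Sec.res])]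
      exact (equivShrink _).apply_symm_apply p
    map_comp := fun f g => by
      refine ConcreteCategory.hom_ext _ _ fun p => ?_
      show equivShrink _ (Sec.res (g.unop ≫ f.unop) _) = equivShrink _ (Sec.res g.unop ((equivShrink _).symm (equivShrink _ (Sec.res f.unop _))))
      rw [Equiv.symm_apply_apply]
      refine congrArg _ (Sec.ext ?_)
      funext i V h a
      simp [Sec.res] }

theorem torsorPre_isSheaf (hU : J.CoversTop U) : Presieve.IsSheaf J (torsorPre (γ := γ) hU) := by
  classical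
  haveI := fun T => Sec.small (G := G) (γ := γ) hU T
  intro T S hS x hx
  let p : ∀ ⦃V : C⦄ (g : V ⟶ T), S g → Sec G γ V := fun V g hg => (equivShrink _).symm (x g hg)
  have hp : ∀ ⦃V W : C⦄ (φ : W ⟶ V) (g : V ⟶ T) (hg : S g), p (φ ≫ g) (S.downward_closed hg φ) = Sec.res φ (p g hg) := by
    intro V W φ g hg
    have := (Presieve.compatible_iff_sieveCompatible x).1 hx g φ hg
    show (equivShrink _).symm (x (φ ≫ g) _) = _
    rw [this]
    exact Equiv.symm_apply_apply _ _
  have hval : ∀ (i : I) ⦃V : C⦄ (g : V ⟶ T) (a : V ⟶ U i), ∃ h : G.obj.obj (op V),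
      ∀ ⦃W : C⦄ (φ : W ⟶ V) (hφ : S.pullback g φ), G.obj.map φ.op h = (p (φ ≫ g) hφ).val i (𝟙 W) (φ ≫ a) := by
    intro i V g a
    refine grp_glue G (S.pullback g) (J.pullback_stable g hS) (fun W φ hφ => (p (φ ≫ g) hφ).val i (𝟙 W) (φ ≫ a)) ?_
    intro W W' ψ φ hφ
    rw [Sec.nat]
    have e := hp ψ (φ ≫ g) hφ
    have e' : p ((ψ ≫ φ) ≫ g) ((S.pullback g).downward_closed hφ ψ) = Sec.res ψ (p (φ ≫ g) hφ) := by
      rw [← e]
      congr 1
      exact Category.assoc _ _ _
    rw [e', Category.comp_id]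
    show _ = (p (φ ≫ g) hφ).val i (𝟙 W' ≫ ψ) ((ψ ≫ φ) ≫ a)
    rw [Category.id_comp, Category.assoc]
  choose val hv using hval
  let P : Sec G γ T :=
    { val := val
      nat := fun i V W φ g a => by
        refine grp_sep G (S.pullback (φ ≫ g)) (J.pullback_stable _ hS) fun W' ψ hψ => ?_
        rw [hv i (φ ≫ g) (φ ≫ a) ψ hψ, ← ConcreteCategory.comp_apply, ← Functor.map_comp, ← op_comp]
        have hψ' : S.pullback g (ψ ≫ φ) := by simpa using hψ
        rw [hv i g a (ψ ≫ φ) hψ']
        congr 1 <;> simp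
      glue := fun i j V g a b => by
        refine grp_sep G (S.pullback g) (J.pullback_stable _ hS) fun W φ hφ => ?_
        rw [map_mul, hv i g a φ hφ, hv j g b φ hφ, γ.ev_precomp]
        exact Sec.glue _ i j _ _ _ }
  refine ⟨equivShrink _ P, fun V g hg => ?_, fun t ht => ?_⟩
  · show equivShrink _ (Sec.res g ((equivShrink _).symm (equivShrink _ P))) = x g hg
    rw [Equiv.symm_apply_apply, ← Equiv.apply_symm_apply (equivShrink _) (x g hg)]
    refine congrArg _ (Sec.ext ?_)
    funext i W k a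
    refine grp_sep G ⊤ (J.top_mem W) fun W' φ _ => ?_
    have hφ : S.pullback (k ≫ g) φ := S.downward_closed (S.downward_closed hg k) φ
    show G.obj.map φ.op (val i (k ≫ g) a) = _
    rw [hv i (k ≫ g) a φ hφ]
    show _ = G.obj.map φ.op ((p g hg).val i k a)
    rw [Sec.nat]
    have e := hp (φ ≫ k) g hg
    have e' : p (φ ≫ k ≫ g) hφ = Sec.res (φ ≫ k) (p g hg) := by
      rw [← e]; congr 1; exact (Category.assoc _ _ _).symm
    rw [e']
    show (p g hg).val i (𝟙 W' ≫ φ ≫ k) (φ ≫ a) = _
    rw [Category.id_comp]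
  · refine (Equiv.symm_apply_eq _).1 (Sec.ext ?_)
    funext i V g a
    refine grp_sep G (S.pullback g) (J.pullback_stable g hS) fun W φ hφ => ?_
    show _ = G.obj.map φ.op (val i g a)
    rw [Sec.nat, hv i g a φ hφ]
    have := congrArg (equivShrink _).symm (ht (φ ≫ g) hφ)
    change (equivShrink _).symm (equivShrink _ (Sec.res (φ ≫ g) ((equivShrink _).symm t))) = p (φ ≫ g) hφ at this
    rw [Equiv.symm_apply_apply] at this
    rw [← this]
    show _ = ((equivShrink _).symm t).val i (𝟙 W ≫ φ ≫ g) (φ ≫ a)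
    rw [Category.id_comp]
    rfl


/-- Let C be a category with a Grothendieck topology J, G a sheaf of groups and U a family of objects
which covers every object of the site. Every class in the Cech cohomology set H^1(U, G) is the Cech
class of some G-torsor that has a section over every U_i. (The published statement is for an etale
covering of a scheme; this row is stated for any family of objects covering the site.) -/
theorem result {C : Type u} [Category.{v} C]
    {J : GrothendieckTopology C} (G : Sheaf J GrpCat.{w}) {I : Type w'} (U : I → C) (hU : J.CoversTop U)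
    (c : PresheafOfGroups.H1 G.obj U) :
    ∃ P : NonAbH1.Torsor G, P.TrivialisedBy U ∧ P.HasCechClass U c := by
  classical
  obtain ⟨γ, rfl⟩ := Quot.exists_rep c
  haveI := fun T => Sec.small (G := G) (γ := γ) hU T
  let P : GSheaf G :=
    { P := ⟨torsorPre (γ := γ) hU, (isSheaf_iff_isSheaf_of_type _ _).2 (torsorPre_isSheaf hU)⟩
      smul := fun {V} h p => equivShrink _ (Sec.act h ((equivShrink _).symm p))
      one_smul := fun {V} p => by
        rw [show Sec.act (1 : G.obj.obj V) ((equivShrink _).symm p) = (equivShrink _).symm p from Sec.ext (by funext i W g a; simp [Sec.act])]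
        exact Equiv.apply_symm_apply _ _
      mul_smul := fun {V} g h p => by
        rw [Equiv.symm_apply_apply]
        refine congrArg _ (Sec.ext ?_)
        funext i W k a
        simp [Sec.act, mul_assoc]
      map_smul := fun {V W} f g p => by
        show equivShrink _ (Sec.res f.unop ((equivShrink _).symm (equivShrink _ _))) = equivShrink _ (Sec.act _ ((equivShrink _).symm (equivShrink _ _)))
        rw [Equiv.symm_apply_apply, Equiv.symm_apply_apply]
        refine congrArg _ (Sec.ext ?_)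
        funext i W' k a
        simp [Sec.act, Sec.res] }
  have hps : P.IsPseudoTorsor := fun V p q => by
    obtain ⟨h, hh, huniq⟩ := Sec.existsUnique_act hU ((equivShrink _).symm p) ((equivShrink _).symm q)
    refine ⟨h, ?_, fun h' hh' => huniq h' ?_⟩
    · show equivShrink _ _ = q
      rw [hh]; exact Equiv.apply_symm_apply _ _
    · exact (Equiv.apply_eq_iff_eq_symm_apply _).1 hh'
  let s : ∀ i, P.P.obj.obj (op (U i)) := fun i => equivShrink _ (Sec.base γ i)
  have hne : P.LocallyNonempty := fun T => ⟨Sieve.ofObjects U T, hU T, fun V f ⟨i, ⟨a⟩⟩ => ⟨P.P.obj.map a.op (s i)⟩⟩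
  refine ⟨⟨P, hps, hne⟩, fun i => ⟨s i⟩, s, γ, fun i j T a b => ?_, rfl⟩
  show equivShrink _ (Sec.act (γ.ev i j a b) ((equivShrink _).symm (equivShrink _ (Sec.res b ((equivShrink _).symm (equivShrink _ (Sec.base γ j))))))) =
    equivShrink _ (Sec.res a ((equivShrink _).symm (equivShrink _ (Sec.base γ i))))
  rw [Equiv.symm_apply_apply, Equiv.symm_apply_apply, Equiv.symm_apply_apply]
  refine congrArg _ (Sec.ext ?_)
  funext k V g c
  show G.obj.map g.op (γ.ev i j a b) * γ.ev j k (g ≫ b) c = γ.ev i k (g ≫ a) c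
  rw [γ.ev_precomp, γ.ev_trans]

end Groth.Agent.S16274
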