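import Groth.Statements.S16280
import Groth.Agent.ExtRelLib.Basic
import Groth.Agent.ExtShLib.Local
import Groth.Agent.SpSeqLib.Grothendieck
import Groth.Agent.RpushLib.Finite
import Groth.Agent.BCLib.DVR
import Groth.Agent.CohSerreLib.Basic

set_option autoImplicit false
set_option linter.style.haveILetI false
set_option backward.isDefEq.respectTransparency false
-- import your own Groth.Agent.* helpers here

set_option autoImplicit false
universe u
open CategoryTheory CategoryTheory.Limits AlgebraicGeometry
open Coherent ZeroObject

namespace Groth.Agent.S16280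

/-- Let Y be a Noetherian scheme, f : X → Y a morphism admitting a factorisation through a closed
immersion e : X → P^n_Y followed by the projection (a projective morphism), and F, G coherent
O_X-modules. Then for every p ≥ 0 the relative Ext sheaf Ext^p_f(F, G) — the value at G of the p-th
right derived functor of the left exact functor G ↦ f_* Hom_{O_X}(F, G) from O_X-modules to
O_Y-modules — is a coherent O_Y-module. (The internal Hom functor of F, injective resolutions of
O_X-modules and additivity of the composite functor are the stated instance hypotheses, all true.) -/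
theorem result (X Y : Scheme.{u}) [IsNoetherian Y] (f : X ⟶ Y)
    (n : ℕ) (e : X ⟶ CohB1.ProjSpaceOver n Y) [IsClosedImmersion e] (he : e ≫ CohB1.ProjSpaceOver.toBase n Y = f)
    (F G : X.Modules) (hF : Coh.IsCoh F) (hG : Coh.IsCoh G)
    [ModSite.HasSheafHom (O := X.sheaf) F] [HasInjectiveResolutions (ModSite.Mod X.sheaf)]
    [(ModSite.sheafHom (O := X.sheaf) F ⋙ Scheme.Modules.pushforward f).Additive] (p : ℕ) :
    Coh.IsCoh (((ModSite.sheafHom (O := X.sheaf) F ⋙ Scheme.Modules.pushforward f).rightDerived p).obj G) := by
  subst he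
  haveI := BCLib.isProper_toBase n Y
  let f := e ≫ CohB1.ProjSpaceOver.toBase n Y
  haveI : IsProper f := inferInstanceAs (IsProper (e ≫ _))
  haveI : IsLocallyNoetherian X := LocallyOfFiniteType.isLocallyNoetherian f
  haveI : CompactSpace X := QuasiCompact.compactSpace_of_compactSpace f
  haveI : IsNoetherian X := {}
  let T : X.Modules ⥤ X.Modules := ModSite.sheafHom (O := X.sheaf) F
  haveI : T.Additive := ModSite.sheafHom_additive (O := X.sheaf) F
  let S := Scheme.Modules.pushforward f
  haveI : HasInjectiveResolutions X.Modules := ‹HasInjectiveResolutions (ModSite.Mod X.sheaf)›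
  haveI : EnoughInjectives X.Modules := SpSeqLib.enoughInjectives_of_hasInjectiveResolutions
  haveI : S.IsRightAdjoint := (Scheme.Modules.pullbackPushforwardAdjunction f).isRightAdjoint
  haveI : PreservesFiniteLimits S := inferInstance
  obtain ⟨E, a, ha, -, h2⟩ := SpSeqLib.exists_grothendieck T S
    (fun I hI => haveI := hI; ExtRelLib.isAcyclicFor_push_sheafHom (𝟙 X) f F I) G
    (H := fun m : ℤ => if 0 ≤ m then ((T ⋙ S).rightDerived m.toNat).obj G else (0 : Y.Modules))
    (P := fun p q : ℤ => if 0 ≤ p ∧ 0 ≤ q then (S.rightDerived p.toNat).obj ((T.rightDerived q.toNat).obj G)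
      else (0 : Y.Modules))
    (fun m => ⟨eqToIso (Eq.symm (if_pos (Int.natCast_nonneg m)))⟩)
    (fun m hm => by rw [if_neg (by omega)]; exact isZero_zero _)
    (fun p q => ⟨eqToIso (Eq.symm (if_pos ⟨Int.natCast_nonneg p, Int.natCast_nonneg q⟩))⟩)
    (fun p q h => by rw [if_neg (by omega)]; exact isZero_zero _)
  have hS := CohSerreLib.isWeakSerre_isCoh Y
  have h := hS.abutment a (p : ℤ) (ha _) fun pq => hS.iso (h2 pq.1 pq.2).some.symm <| by
    by_cases hpq : 0 ≤ pq.1 ∧ 0 ≤ pq.2
    · simp only [hpq, and_self, if_true]
      have hE := ExtShLib.isCoh_extS F hF G hG pq.2.toNat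
      haveI := hE.1
      exact RpushLib.isCoh_rpush (f := f) hE _
    · simp only [hpq, if_false]
      exact hS.zero (isZero_zero _)
  exact hS.iso (eqToIso (if_pos (Int.natCast_nonneg p))) h

end Groth.Agent.S16280
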