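import Groth.Statements.S16281
import Groth.Agent.ExtShLib.Local
import Groth.Agent.DCohLib.OpenD

set_option autoImplicit false
universe u
open CategoryTheory CategoryTheory.Limits AlgebraicGeometry
open Coherent

namespace Groth.Agent.S16281

/-- Let f : X → Y be a morphism of schemes, F and G O_X-modules, W ⊆ Y an open subscheme and p ≥ 0.
Write Ext^p_f(F, -) for the p-th right derived functor of the left exact functor G ↦ f_*
Hom_{O_X}(F, G) from O_X-modules to O_Y-modules (the relative Ext sheaves). Then the restriction of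
Ext^p_f(F, G) to W is isomorphic to Ext^p_{f'}(F|_{f⁻¹W}, G|_{f⁻¹W}), where f' : f⁻¹W → W is the
restricted morphism. (Stated for schemes, the published statement being for ringed spaces; existence
of an isomorphism of O_W-modules only. The internal Hom functors, injective resolutions and
additivity of the composite functors on X and on f⁻¹W are the stated instance hypotheses, all true.) -/
theorem result (X Y : Scheme.{u}) (f : X ⟶ Y) (W : Y.Opens)
    (F G : X.Modules) (p : ℕ)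
    [ModSite.HasSheafHom (O := X.sheaf) F] [HasInjectiveResolutions (ModSite.Mod X.sheaf)]
    [(ModSite.sheafHom (O := X.sheaf) F ⋙ Scheme.Modules.pushforward f).Additive]
    [ModSite.HasSheafHom (O := (↑(f ⁻¹ᵁ W) : Scheme.{u}).sheaf) (F.restrict (f ⁻¹ᵁ W).ι)]
    [HasInjectiveResolutions (ModSite.Mod (↑(f ⁻¹ᵁ W) : Scheme.{u}).sheaf)]
    [(ModSite.sheafHom (O := (↑(f ⁻¹ᵁ W) : Scheme.{u}).sheaf) (F.restrict (f ⁻¹ᵁ W).ι) ⋙ Scheme.Modules.pushforward (f ∣_ W)).Additive] :
    Nonempty ((Scheme.Modules.restrictFunctor W.ι).obj (((ModSite.sheafHom (O := X.sheaf) F ⋙ Scheme.Modules.pushforward f).rightDerived p).obj G) ≅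
      ((ModSite.sheafHom (O := (↑(f ⁻¹ᵁ W) : Scheme.{u}).sheaf) (F.restrict (f ⁻¹ᵁ W).ι) ⋙ Scheme.Modules.pushforward (f ∣_ W)).rightDerived p).obj
        (G.restrict (f ⁻¹ᵁ W).ι)) := by
  let U := f ⁻¹ᵁ W
  haveI : ModSite.HasSheafHom (O := (↑U : Scheme.{u}).sheaf) ((Scheme.Modules.restrictFunctor U.ι).obj F) :=
    ‹ModSite.HasSheafHom (O := (↑(f ⁻¹ᵁ W) : Scheme.{u}).sheaf) (F.restrict (f ⁻¹ᵁ W).ι)›
  haveI : HasInjectiveResolutions X.Modules := ‹HasInjectiveResolutions (ModSite.Mod X.sheaf)›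
  haveI : HasInjectiveResolutions (U : Scheme.{u}).Modules :=
    ‹HasInjectiveResolutions (ModSite.Mod (↑(f ⁻¹ᵁ W) : Scheme.{u}).sheaf)›
  let A : X.Modules ⥤ Y.Modules := Groth.Agent.StalkHomLib.hF F ⋙ Scheme.Modules.pushforward f
  let B : (U : Scheme.{u}).Modules ⥤ (W : Scheme.{u}).Modules :=
    Groth.Agent.StalkHomLib.hF ((Scheme.Modules.restrictFunctor U.ι).obj F) ⋙ Scheme.Modules.pushforward (f ∣_ W)
  haveI : A.Additive := ‹(ModSite.sheafHom (O := X.sheaf) F ⋙ Scheme.Modules.pushforward f).Additive›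
  haveI : B.Additive :=
    ‹(ModSite.sheafHom (O := (↑(f ⁻¹ᵁ W) : Scheme.{u}).sheaf) (F.restrict (f ⁻¹ᵁ W).ι) ⋙ Scheme.Modules.pushforward (f ∣_ W)).Additive›
  let c : A ⋙ Scheme.Modules.restrictFunctor W.ι ≅ Scheme.Modules.restrictFunctor U.ι ⋙ B :=
    Functor.associator _ _ _ ≪≫ Functor.isoWhiskerLeft _ (Groth.Agent.DCohLib.restrictPushIso f W) ≪≫
      (Functor.associator _ _ _).symm ≪≫
      Functor.isoWhiskerRight (Groth.Agent.ExtShLib.restrictHFIso U F) _ ≪≫ Functor.associator _ _ _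
  exact ⟨((Groth.Agent.SpSeqLib.rightDerivedPostcompIso A (Scheme.Modules.restrictFunctor W.ι) p).symm ≪≫
    Groth.Agent.SpSeqLib.rightDerivedCongr c p ≪≫
    Groth.Agent.SpSeqLib.rightDerivedPrecompIso (Scheme.Modules.restrictFunctor U.ι)
      (fun I hI => Groth.Agent.LocZLib.GammaQCoh.injective_restrict U.ι I hI) B p).app G⟩

end Groth.Agent.S16281
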