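import Groth.Statements.S16282
import Groth.Agent.LocFreeHomLib.Ext
import Groth.Agent.LeffEtLib.Dual
import Groth.Agent.DCohLib.ProjFlf
import Groth.Agent.DCohMore.DualFlf
import Groth.Agent.PullbackMod.LocFree

set_option autoImplicit false
set_option backward.isDefEq.respectTransparency false
set_option linter.style.haveILetI false
universe u
open CategoryTheory CategoryTheory.Limits AlgebraicGeometry
open Coherent

namespace Groth.Agent.S16282

open Groth.Agent Groth.Agent.DCohLib Groth.Agent.LocFreeHomLib Groth.Agent.StalkHomLib in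
/-- Internal Homs commute with one another. -/
noncomputable def homSwap {X : Scheme.{u}} (E F : X.Modules) [ModSite.HasSheafHom (O := X.sheaf) E]
    [ModSite.HasSheafHom (O := X.sheaf) F] : hF E ⋙ hF F ≅ hF F ⋙ hF E :=
  let adj₁ : (DCoh.tensorBi (X := X)).flip.obj (tmod F E) ⊣ hF E ⋙ hF F :=
    ((ModSite.sheafHomAdj (O := X.sheaf) F).comp (ModSite.sheafHomAdj (O := X.sheaf) E)).ofNatIsoLeft
      (ModTensor.tensorAssoc X.sheaf F E)
  let sw : (DCoh.tensorBi (X := X)).flip.obj E ⋙ (DCoh.tensorBi (X := X)).flip.obj F ≅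
      (DCoh.tensorBi (X := X)).flip.obj F ⋙ (DCoh.tensorBi (X := X)).flip.obj E :=
    ModTensor.tensorAssoc X.sheaf E F ≪≫
      (DCoh.tensorBi (X := X)).flip.mapIso (ModTensor.tensComm X.sheaf E F) ≪≫
      (ModTensor.tensorAssoc X.sheaf F E).symm
  let adj₂ : (DCoh.tensorBi (X := X)).flip.obj (tmod F E) ⊣ hF F ⋙ hF E :=
    ((ModSite.sheafHomAdj (O := X.sheaf) E).comp (ModSite.sheafHomAdj (O := X.sheaf) F)).ofNatIsoLeft
      (sw ≪≫ ModTensor.tensorAssoc X.sheaf F E)
  adj₁.rightAdjointUniq adj₂

open Groth.Agent Groth.Agent.DCohLib Groth.Agent.LocFreeHomLib Groth.Agent.StalkHomLib in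
/-- Hom into an injective, out of a finite locally free module, is injective. -/
theorem injective_hF {X : Scheme.{u}} (E : X.Modules) [ModSite.HasSheafHom (O := X.sheaf) E]
    (hE : FlatMod.IsFinLocFree E) (I : X.Modules) [Injective I] : Injective ((hF E).obj I) := by
  haveI : ((ModSite.tensorBi X.sheaf).flip.obj E : X.Modules ⥤ X.Modules).PreservesMonomorphisms :=
    preservesMonomorphisms_tE E hE
  exact (ModSite.sheafHomAdj (O := X.sheaf) E).map_injective I inferInstance

open Groth.Agent Groth.Agent.DCohLib Groth.Agent.LocFreeHomLib Groth.Agent.StalkHomLib in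
/-- Let f : X → Y be a morphism of schemes, F and G O_X-modules, L a finite locally free O_X-module with
dual L^∨ = Hom_{O_X}(L, O_X), N a finite locally free O_Y-module and p ≥ 0. Write Ext^p_f(M, -) for
the p-th right derived functor of the left exact functor G ↦ f_* Hom_{O_X}(M, G) from O_X-modules to
O_Y-modules. Then Ext^p_f(F ⊗ L, G ⊗ f^*N) is isomorphic to Ext^p_f(F, G ⊗ L^∨) ⊗ N. (Stated for
schemes, the published statement being for ringed spaces and a chain of two functorial isomorphisms;
existence of an isomorphism of O_Y-modules only. The internal Hom functors, injective resolutions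
and additivity of the composite functors are the stated instance hypotheses, all true.) -/
theorem result (X Y : Scheme.{u}) (f : X ⟶ Y) (F G L : X.Modules) (N : Y.Modules)
    (hL : FlatMod.IsFinLocFree L) (hN : FlatMod.IsFinLocFree N) (p : ℕ)
    [ModSite.HasSheafHom (O := X.sheaf) F] [ModSite.HasSheafHom (O := X.sheaf) L]
    [ModSite.HasSheafHom (O := X.sheaf) (CohB1.tensorMod F L)] [HasInjectiveResolutions (ModSite.Mod X.sheaf)]
    [(ModSite.sheafHom (O := X.sheaf) F ⋙ Scheme.Modules.pushforward f).Additive]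
    [(ModSite.sheafHom (O := X.sheaf) (CohB1.tensorMod F L) ⋙ Scheme.Modules.pushforward f).Additive] :
    Nonempty (((ModSite.sheafHom (O := X.sheaf) (CohB1.tensorMod F L) ⋙ Scheme.Modules.pushforward f).rightDerived p).obj
        (CohB1.tensorMod G ((Scheme.Modules.pullback f).obj N)) ≅
      CohB1.tensorMod (((ModSite.sheafHom (O := X.sheaf) F ⋙ Scheme.Modules.pushforward f).rightDerived p).obj
        (CohB1.tensorMod G ((ModSite.sheafHom (O := X.sheaf) L).obj (Coh.structureModule X)))) N) := by
  haveI : HasInjectiveResolutions X.Modules := ‹HasInjectiveResolutions (ModSite.Mod X.sheaf)›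
  haveI : ModSite.HasSheafHom (O := X.sheaf) (tmod F L) :=
    ‹ModSite.HasSheafHom (O := X.sheaf) (CohB1.tensorMod F L)›
  let N' := (Scheme.Modules.pullback f).obj N
  have hN' : FlatMod.IsFinLocFree N' := PullbackMod.isFinLocFree_pullback f N hN
  haveI hs : ∀ M : X.Modules, ModSite.HasSheafHom (O := X.sheaf) M := fun M => ModTensor.hasSheafHom (O := X.sheaf) M
  let E₁ : X.Modules := dualE N'
  have hE₁ : FlatMod.IsFinLocFree E₁ := DCohMore.isFinLocFree_dual N' hN'
  haveI : IsIso (LeffEtLib.bidual N') := LeffEtLib.isIso_bidual hN'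
  let P := Scheme.Modules.pushforward f
  let TN' : X.Modules ⥤ X.Modules := (DCoh.tensorBi (X := X)).flip.obj N'
  let TN : Y.Modules ⥤ Y.Modules := (DCoh.tensorBi (X := Y)).flip.obj N
  let β : TN' ≅ hF E₁ :=
    (DCoh.tensorBi (X := X)).flip.mapIso (asIso (LeffEtLib.bidual N')) ≪≫ tDualIso E₁ hE₁
  haveI : (hF F).Additive := (ModSite.sheafHomAdj (O := X.sheaf) F).right_adjoint_additive
  haveI : (hF L).Additive := (ModSite.sheafHomAdj (O := X.sheaf) L).right_adjoint_additive
  haveI : (hF E₁).Additive := (ModSite.sheafHomAdj (O := X.sheaf) E₁).right_adjoint_additive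
  haveI : (hF (tmod F L)).Additive :=
    (ModSite.sheafHomAdj (O := X.sheaf) (tmod F L)).right_adjoint_additive
  haveI : (tDual L).Additive := Functor.additive_of_iso (tDualIso L hL).symm
  haveI : TN'.Additive := Functor.additive_of_iso β.symm
  haveI : TN.Additive := additive_flip_obj N
  have hflat : FlatMod.IsFlat N := fun x => PullbackMod.isFlat_of_isFinLocFree N hN x
  obtain ⟨h₁, h₂⟩ := exact_flip_of_isFlat hflat
  haveI : PreservesFiniteLimits TN := h₁
  haveI : PreservesFiniteColimits TN := h₂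
  haveI := preservesFiniteColimits_hF L hL
  haveI : (hF L).IsRightAdjoint := (ModSite.sheafHomAdj (O := X.sheaf) L).isRightAdjoint
  haveI : PreservesFiniteLimits (tDual L) := preservesFiniteLimits_of_natIso (tDualIso L hL).symm
  haveI : PreservesFiniteColimits (tDual L) := preservesFiniteColimits_of_natIso (tDualIso L hL).symm
  haveI := preservesFiniteColimits_hF E₁ hE₁
  haveI : (hF E₁).IsRightAdjoint := (ModSite.sheafHomAdj (O := X.sheaf) E₁).isRightAdjoint
  haveI : PreservesFiniteLimits TN' := preservesFiniteLimits_of_natIso β.symm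
  haveI : PreservesFiniteColimits TN' := preservesFiniteColimits_of_natIso β.symm
  let Q : X.Modules ⥤ Y.Modules := hF F ⋙ P
  let τ : P ⋙ TN ≅ TN' ⋙ P :=
    NatIso.ofComponents (fun M => @asIso _ _ _ _ (projMap f M N) (isIso_projMap_of_flf f hN M))
      fun g => projMap_natural_left f g N
  let c₀ : hF (tmod F L) ≅ tDual L ⋙ hF F :=
    (ModSite.sheafHomAdj (O := X.sheaf) (tmod F L)).rightAdjointUniq
      (((ModSite.sheafHomAdj (O := X.sheaf) F).comp (ModSite.sheafHomAdj (O := X.sheaf) L)).ofNatIsoLeft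
        (ModTensor.tensorAssoc X.sheaf F L)) ≪≫ Functor.isoWhiskerRight (tDualIso L hL).symm (hF F)
  let cL : hF (tmod F L) ⋙ P ≅ tDual L ⋙ Q := Functor.isoWhiskerRight c₀ P ≪≫ Functor.associator _ _ _
  let cN : TN' ⋙ Q ≅ Q ⋙ TN :=
    (Functor.associator _ _ _).symm ≪≫
      Functor.isoWhiskerRight (Functor.isoWhiskerRight β (hF F) ≪≫ homSwap E₁ F ≪≫
        Functor.isoWhiskerLeft (hF F) β.symm) P ≪≫
      Functor.associator _ _ _ ≪≫ Functor.isoWhiskerLeft (hF F) τ.symm ≪≫ (Functor.associator _ _ _).symm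
  have hiL : ∀ I : X.Modules, Injective I → Injective ((tDual L).obj I) := fun I hI =>
    haveI := injective_hF L hL I
    Injective.of_iso ((tDualIso L hL).symm.app I) this
  have hiN : ∀ I : X.Modules, Injective I → Injective (TN'.obj I) := fun I hI =>
    haveI := injective_hF E₁ hE₁ I
    Injective.of_iso (β.symm.app I) this
  let A := (SpSeqLib.rightDerivedCongr cL p ≪≫ SpSeqLib.rightDerivedPrecompIso (tDual L) hiL Q p).app (tmod G N')
  let B := ((SpSeqLib.rightDerivedPrecompIso TN' hiN Q p).symm ≪≫ SpSeqLib.rightDerivedCongr cN p ≪≫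
    SpSeqLib.rightDerivedPostcompIso Q TN p).app (tmod G (dualE L))
  let sw := (ModTensor.tensorAssoc X.sheaf N' (dualE L) ≪≫
      (DCoh.tensorBi (X := X)).flip.mapIso (ModTensor.tensComm X.sheaf N' (dualE L)) ≪≫
      (ModTensor.tensorAssoc X.sheaf (dualE L) N').symm).app G
  exact ⟨A ≪≫ (Q.rightDerived p).mapIso sw ≪≫ B⟩

end Groth.Agent.S16282
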