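import Groth.Statements.S16284
import Groth.Agent.S16280
import Groth.Agent.S16282
import Groth.Agent.CohDerAcyc.ShortExact
import Groth.Agent.ProjSerreLib.AcycCx
import Groth.Agent.AmpleEmb.RelVanish
import Groth.Agent.QuotRepLib.Main
-- import your own Groth.Agent.* helpers here

set_option autoImplicit false
universe u
open CategoryTheory CategoryTheory.Limits AlgebraicGeometry
open Coherent

namespace Groth.Agent.S16284

set_option backward.isDefEq.respectTransparency false
set_option linter.style.haveILetI false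

open Groth.Agent Groth.Agent.DCohLib Groth.Agent.LocFreeHomLib Groth.Agent.StalkHomLib in
/-- The relative Ext sheaves commute with twists coming from the base. -/
theorem nonempty_relExt_twist {X Y : Scheme.{u}} (f : X ⟶ Y) (F G : X.Modules) (N : Y.Modules)
    (hN : FlatMod.IsFinLocFree N) (p : ℕ)
    [ModSite.HasSheafHom (O := X.sheaf) F] [HasInjectiveResolutions (ModSite.Mod X.sheaf)]
    [(ModSite.sheafHom (O := X.sheaf) F ⋙ Scheme.Modules.pushforward f).Additive] :
    Nonempty (((ModSite.sheafHom (O := X.sheaf) F ⋙ Scheme.Modules.pushforward f).rightDerived p).obj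
        (CohB1.tensorMod G ((Scheme.Modules.pullback f).obj N)) ≅
      CohB1.tensorMod (((ModSite.sheafHom (O := X.sheaf) F ⋙ Scheme.Modules.pushforward f).rightDerived p).obj G) N) := by
  haveI : HasInjectiveResolutions X.Modules := ‹HasInjectiveResolutions (ModSite.Mod X.sheaf)›
  let N' := (Scheme.Modules.pullback f).obj N
  have hN' : FlatMod.IsFinLocFree N' := PullbackMod.isFinLocFree_pullback f N hN
  haveI hs : ∀ M : X.Modules, ModSite.HasSheafHom (O := X.sheaf) M := fun M => ModTensor.hasSheafHom (O := X.sheaf) M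
  let E₁ : X.Modules := dualE N'
  have hE₁ : FlatMod.IsFinLocFree E₁ := DCohMore.isFinLocFree_dual N' hN'
  haveI : IsIso (LeffEtLib.bidual N') := LeffEtLib.isIso_bidual hN'
  let P := Scheme.Modules.pushforward f
  let TN' : X.Modules ⥤ X.Modules := (DCoh.tensorBi (X := X)).flip.obj N'
  let TN : Y.Modules ⥤ Y.Modules := (DCoh.tensorBi (X := Y)).flip.obj N
  let β : TN' ≅ hF E₁ :=
    (DCoh.tensorBi (X := X)).flip.mapIso (asIso (LeffEtLib.bidual N')) ≪≫ tDualIso E₁ hE₁
  haveI : (hF F).Additive := (ModSite.sheafHomAdj (O := X.sheaf) F).right_adjoint_additive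
  haveI : (hF E₁).Additive := (ModSite.sheafHomAdj (O := X.sheaf) E₁).right_adjoint_additive
  haveI : TN'.Additive := Functor.additive_of_iso β.symm
  haveI : TN.Additive := additive_flip_obj N
  have hflat : FlatMod.IsFlat N := fun x => PullbackMod.isFlat_of_isFinLocFree N hN x
  obtain ⟨h₁, h₂⟩ := exact_flip_of_isFlat hflat
  haveI : PreservesFiniteLimits TN := h₁
  haveI : PreservesFiniteColimits TN := h₂
  haveI := preservesFiniteColimits_hF E₁ hE₁
  haveI : (hF E₁).IsRightAdjoint := (ModSite.sheafHomAdj (O := X.sheaf) E₁).isRightAdjoint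
  haveI : PreservesFiniteLimits TN' := preservesFiniteLimits_of_natIso β.symm
  haveI : PreservesFiniteColimits TN' := preservesFiniteColimits_of_natIso β.symm
  let Q : X.Modules ⥤ Y.Modules := hF F ⋙ P
  let τ : P ⋙ TN ≅ TN' ⋙ P :=
    NatIso.ofComponents (fun M => @asIso _ _ _ _ (projMap f M N) (isIso_projMap_of_flf f hN M))
      fun g => projMap_natural_left f g N
  let cN : TN' ⋙ Q ≅ Q ⋙ TN :=
    (Functor.associator _ _ _).symm ≪≫
      Functor.isoWhiskerRight (Functor.isoWhiskerRight β (hF F) ≪≫ S16282.homSwap E₁ F ≪≫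
        Functor.isoWhiskerLeft (hF F) β.symm) P ≪≫
      Functor.associator _ _ _ ≪≫ Functor.isoWhiskerLeft (hF F) τ.symm ≪≫ (Functor.associator _ _ _).symm
  have hiN : ∀ I : X.Modules, Injective I → Injective (TN'.obj I) := fun I hI =>
    haveI := S16282.injective_hF E₁ hE₁ I
    Injective.of_iso (β.symm.app I) this
  exact ⟨((SpSeqLib.rightDerivedPrecompIso TN' hiN Q p).symm ≪≫ SpSeqLib.rightDerivedCongr cN p ≪≫
    SpSeqLib.rightDerivedPostcompIso Q TN p).app G⟩


/-- Let Z be a Noetherian scheme, g : Y → Z a morphism factoring through a closed immersion e' : Y →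
P^m_Z followed by the projection, O_Y(l) = e'^*O(l), f : X → Y a morphism factoring through a closed
immersion X → P^n_Y followed by the projection, h = g ∘ f, and F, G coherent O_X-modules. For a
morphism u out of X write Ext^p_u(F, -) for the p-th right derived functor of the left exact functor
G ↦ u_* Hom_{O_X}(F, G). Then for every p ≥ 0 there is l₀ such that for all l ≥ l₀ the O_Z-module
g_* Ext^p_f(F, G ⊗ f^*O_Y(l)) is isomorphic to Ext^p_h(F, G ⊗ f^*O_Y(l)). (Existence of an
isomorphism of O_Z-modules only. The internal Hom functor of F, injective resolutions and additivity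
of the composite functors are the stated instance hypotheses, all true.) -/
theorem result (Z : Scheme.{u}) [IsNoetherian Z] (m : ℕ)
    (Y : Scheme.{u}) (g : Y ⟶ Z) (e' : Y ⟶ CohB1.ProjSpaceOver m Z) [IsClosedImmersion e']
    (he' : e' ≫ CohB1.ProjSpaceOver.toBase m Z = g)
    (n : ℕ) (X : Scheme.{u}) (f : X ⟶ Y) (e : X ⟶ CohB1.ProjSpaceOver n Y) [IsClosedImmersion e]
    (he : e ≫ CohB1.ProjSpaceOver.toBase n Y = f)
    (F G : X.Modules) (hF : Coh.IsCoh F) (hG : Coh.IsCoh G) (p : ℕ)
    [ModSite.HasSheafHom (O := X.sheaf) F] [HasInjectiveResolutions (ModSite.Mod X.sheaf)]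
    [(ModSite.sheafHom (O := X.sheaf) F ⋙ Scheme.Modules.pushforward f).Additive]
    [(ModSite.sheafHom (O := X.sheaf) F ⋙ Scheme.Modules.pushforward (f ≫ g)).Additive] :
    ∃ l₀ : ℕ, ∀ l : ℕ, l₀ ≤ l →
      Nonempty ((Scheme.Modules.pushforward g).obj (((ModSite.sheafHom (O := X.sheaf) F ⋙ Scheme.Modules.pushforward f).rightDerived p).obj
          (CohB1.tensorMod G ((Scheme.Modules.pullback f).obj
            ((Scheme.Modules.pullback e').obj (Twist.twistOver m Z (l : ℤ)))))) ≅
        ((ModSite.sheafHom (O := X.sheaf) F ⋙ Scheme.Modules.pushforward (f ≫ g)).rightDerived p).obj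
          (CohB1.tensorMod G ((Scheme.Modules.pullback f).obj
            ((Scheme.Modules.pullback e').obj (Twist.twistOver m Z (l : ℤ)))))) := by
  haveI := BCLib.isProper_toBase m Z
  haveI := BCLib.isProper_toBase n Y
  haveI : IsProper g := he' ▸ inferInstanceAs (IsProper (e' ≫ _))
  haveI : IsProper f := he ▸ inferInstanceAs (IsProper (e ≫ _))
  haveI : IsLocallyNoetherian Y := LocallyOfFiniteType.isLocallyNoetherian g
  haveI : CompactSpace Y := QuasiCompact.compactSpace_of_compactSpace g
  haveI : IsNoetherian Y := {}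
  haveI : HasInjectiveResolutions X.Modules := ‹HasInjectiveResolutions (ModSite.Mod X.sheaf)›
  haveI : EnoughInjectives (ModSite.Mod Y.sheaf) := SiteBase.enoughInjectives_sheafOfModules _
  haveI : EnoughInjectives Y.Modules := ‹EnoughInjectives (ModSite.Mod Y.sheaf)›
  haveI : HasInjectiveResolutions Y.Modules := inferInstance
  let L := QuotRep.twX e' 1
  have hL : PicF.IsInvertible L := QuotRep.isInvertible_twX e' 1
  have hA : RelAmple.IsRelAmple g L := he' ▸ QuotRep.isRelAmple_twX e'
  have hc := fun q => S16280.result X Y f n e he F G hF hG q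
  choose N hN using fun q => AmpleEmb.exists_isZero_rpush_tensorPow g hL (fun W hW => hA.2 ⟨W, hW⟩) (hc q)
  refine ⟨(Finset.range (p + 1)).sup N, fun l hl => ?_⟩
  let G' := CohB1.tensorMod G ((Scheme.Modules.pullback f).obj (QuotRep.twX e' (l : ℤ)))
  show Nonempty ((Scheme.Modules.pushforward g).obj
    (((ModSite.sheafHom (O := X.sheaf) F ⋙ Scheme.Modules.pushforward f).rightDerived p).obj G') ≅ _)
  let Q := ModSite.sheafHom (O := X.sheaf) F ⋙ Scheme.Modules.pushforward f
  let P : Y.Modules → Prop := SpSeqLib.IsAcyclicFor (Scheme.Modules.pushforward g)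
  haveI : (Scheme.Modules.pushforward g).IsRightAdjoint :=
    (Scheme.Modules.pullbackPushforwardAdjunction g).isRightAdjoint
  have hP : ProjSerreLib.AcyclicClass (Scheme.Modules.pushforward g) P :=
    { iso := fun e h q => (h q).of_iso ((Functor.rightDerived _ _).mapIso e).symm
      mid := fun hS h₁ h₃ => CohDerAcyc.isAcyclicFor_extension _ hS h₁ h₃
      right := fun hS h₁ h₂ => SpSeqLib.isAcyclicFor_quotient _ hS h₂ h₁
      epi := fun hS h₁ => SpSeqLib.epi_map_of_isZero_rightDerived_one _ hS (h₁ 0) }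
  let R := injectiveResolution G'
  let K := (Q.mapHomologicalComplex (ComplexShape.up ℕ)).obj R.cocomplex
  have hK : ∀ q, P (K.X q) := fun q =>
    haveI := R.injective q
    ExtRelLib.isAcyclicFor_push_sheafHom f g F (R.cocomplex.X q)
  obtain ⟨w⟩ := QuotRep.nonempty_twX_pow e' l
  have hH : ∀ q, q ≤ p → P (K.homology q) := fun q hq => hP.iso (R.isoRightDerivedObj Q q) <| by
    obtain ⟨u⟩ := nonempty_relExt_twist f F G (QuotRep.twX e' (l : ℤ))
      (CurveLib.isFinLocFree_of_isInvertible (QuotRep.isInvertible_twX e' _)) q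
    refine hP.iso (u ≪≫ (((DCoh.tensorBi (X := Y)).obj _).mapIso w).symm).symm fun a => ?_
    exact hN q l ((Finset.le_sup (f := N) (Finset.mem_range.2 (Nat.lt_succ_of_le hq))).trans hl) (a + 1) a.succ_pos
  obtain ⟨θ⟩ := ProjSerreLib.nonempty_homology_map_iso hP hK p hH
  haveI : (Q ⋙ Scheme.Modules.pushforward g).Additive := inferInstance
  exact ⟨(Scheme.Modules.pushforward g).mapIso (R.isoRightDerivedObj Q p) ≪≫ θ.symm ≪≫
    (R.isoRightDerivedObj (Q ⋙ Scheme.Modules.pushforward g) p).symm ≪≫
    (SpSeqLib.rightDerivedCongr (Functor.associator _ _ _ ≪≫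
      Functor.isoWhiskerLeft (ModSite.sheafHom (O := X.sheaf) F) (Scheme.Modules.pushforwardComp f g)) p).app G'⟩

end Groth.Agent.S16284
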