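import Groth.Statements.S16288
import Groth.Agent.FlatCx.Main

set_option autoImplicit false
universe u
open CategoryTheory
open FlatCx

namespace Groth.Agent.S16288

/-- Let A be a Noetherian ring and P a chain complex of finitely generated flat A-modules, and for p and
a point x of Spec A let d_p(x) = dim_{k(x)} H_p(P ⊗_A k(x)). Fix p and a point z. If d_{p-1} and
d_{p+1} are constant on some neighbourhood of z, then d_p is constant on some neighbourhood of z.
(The published assertion concerns the function y ↦ dim H^p(X_y, F_y) for a coherent sheaf F flat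
over a projective morphism of Noetherian schemes X → Y: if it is not constant near a point, then the
functions for p - 1 and p + 1 are not both constant near that point. Stated here is the
corresponding property for any chain complex of finitely generated flat modules over a Noetherian
ring, from which the published form follows by applying it to a finite complex of such modules
computing the cohomology of the fibres.) -/
theorem result {A : Type u} [CommRing A] [IsNoetherianRing A]
    (P : ChainComplex (ModuleCat.{u} A) ℤ) (hP : ∀ i, Module.Finite A (P.X i) ∧ Module.Flat A (P.X i))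
    (p : ℤ) (z : PrimeSpectrum A)
    (hlo : ∀ᶠ x in nhds z, CohIII.dRank P (p - 1) x = CohIII.dRank P (p - 1) z)
    (hhi : ∀ᶠ x in nhds z, CohIII.dRank P (p + 1) x = CohIII.dRank P (p + 1) z) :
    ∀ᶠ x in nhds z, CohIII.dRank P p x = CohIII.dRank P p z := by
  have hfin : ∀ i, Module.Finite A (P.X i) := fun i => (hP i).1
  haveI := hfin p
  haveI := hfin (p - 1)
  haveI := hfin (p - 1 - 1)
  haveI := hfin (p + 1)
  have a0 := Groth.Agent.FlatCx.dRank_add P p hfin (sub_add_cancel p 1)
  have a1 := Groth.Agent.FlatCx.dRank_add P (p - 1) hfin (sub_add_cancel (p - 1) 1)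
  have a2 := Groth.Agent.FlatCx.dRank_add P (p + 1) hfin (q := p) rfl
  obtain ⟨U, hU, hxU, hu⟩ := Groth.Agent.FlatCx.exists_nhd_fdim_le (Groth.Agent.FlatCx.Cq P p) z
  obtain ⟨V, hV, hxV, hv⟩ := Groth.Agent.FlatCx.exists_nhd_fdim_le (Groth.Agent.FlatCx.Cq P (p - 1)) z
  obtain ⟨W, hW, hxW, hw⟩ := Groth.Agent.FlatCx.exists_nhd_fdim_le (Groth.Agent.FlatCx.Cq P (p - 1 - 1)) z
  obtain ⟨W', hW', hxW', hw'⟩ := Groth.Agent.FlatCx.exists_nhd_fdim_le (Groth.Agent.FlatCx.Cq P (p + 1)) z
  filter_upwards [hlo, hhi, hU.mem_nhds hxU, hV.mem_nhds hxV, hW.mem_nhds hxW, hW'.mem_nhds hxW',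
    (Groth.Agent.FlatCx.fdim_X_isLocallyConstant P hP p).eventually_eq z,
    (Groth.Agent.FlatCx.fdim_X_isLocallyConstant P hP (p - 1)).eventually_eq z,
    (Groth.Agent.FlatCx.fdim_X_isLocallyConstant P hP (p - 1 - 1)).eventually_eq z]
    with y e1 e2 h1 h2 h3 h4 f1 f2 f3
  have := a0 y; have := a0 z; have := a1 y; have := a1 z; have := a2 y; have := a2 z
  have := hu y h1; have := hv y h2; have := hw y h3; have := hw' y h4
  omega

end Groth.Agent.S16288
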