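import Groth.Statements.S16289
import Groth.Agent.ContraResLib.Push

set_option autoImplicit false
universe u
open CategoryTheory CategoryTheory.Limits AlgebraicGeometry
open Coherent

namespace Groth.Agent.S16289

open CategoryTheory CategoryTheory.Limits AlgebraicGeometry


open CategoryTheory CategoryTheory.Limits

theorem exists_conj_exact {C : Type*} [Category C] [Abelian C] {A B D A' B' D' : C} {f : A ⟶ B} {g : B ⟶ D}
    {f' : A' ⟶ B'} {g' : B' ⟶ D'} (a : A' ≅ A) (b : B' ≅ B) (d : D' ≅ D) (hf : f' = a.hom ≫ f ≫ b.inv)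
    (hg : g' = b.hom ≫ g ≫ d.inv) {w : f ≫ g = 0} (h : (ShortComplex.mk f g w).Exact) :
    ∃ w' : f' ≫ g' = 0, (ShortComplex.mk f' g' w').Exact := by
  have w' : f' ≫ g' = 0 := by
    rw [hf, hg, Category.assoc, Category.assoc, Iso.inv_hom_id_assoc, reassoc_of% w, zero_comp, comp_zero]
  refine ⟨w', (ShortComplex.exact_iff_of_iso (ShortComplex.isoMk a b d ?_ ?_)).2 h⟩
  · show a.hom ≫ f = f' ≫ b.hom
    rw [hf, Category.assoc, Category.assoc, Iso.inv_hom_id, Category.comp_id]
  · show b.hom ≫ g = g' ≫ d.hom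
    rw [hg, Category.assoc, Category.assoc, Iso.inv_hom_id, Category.comp_id]

/-- For relative Ext sheaves in the first variable; let f : X → Y be a morphism of schemes, 0 → F' → F →
F'' → 0 a short exact sequence of O_X-modules (S below, with S.X₁ = F', S.X₂ = F, S.X₃ = F'') and G
an O_X-module. For an O_X-module M write Ext^p_f(M, -) for the p-th right derived functor of the
left exact functor G ↦ f_* Hom_{O_X}(M, G), and for u : M' → M write u^* : Ext^p_f(M, G) →
Ext^p_f(M', G) for the map induced (right derived natural transformation) by Hom(M, -) → Hom(M', -).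
Then Ext^0_f(F'', G) → Ext^0_f(F, G) is a monomorphism, for every p the pair Ext^p_f(F'', G) →
Ext^p_f(F, G) → Ext^p_f(F', G) composes to zero and is exact, and there are connecting morphisms δ_p
: Ext^p_f(F', G) → Ext^{p+1}_f(F'', G) making Ext^p_f(F, G) → Ext^p_f(F', G) → Ext^{p+1}_f(F'', G)
and Ext^p_f(F', G) → Ext^{p+1}_f(F'', G) → Ext^{p+1}_f(F, G) compose to zero and exact. (Stated for
schemes, the published statement being for ringed spaces; the connecting maps are asserted to exist
only. The internal Hom functors, injective resolutions and additivity of the composite functors are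
the stated instance hypotheses, all true.) -/
theorem result (X Y : Scheme.{u}) (f : X ⟶ Y) (S : ShortComplex X.Modules) (hS : S.ShortExact)
    (G : X.Modules)
    [ModSite.HasSheafHom (O := X.sheaf) S.X₁] [ModSite.HasSheafHom (O := X.sheaf) S.X₂] [ModSite.HasSheafHom (O := X.sheaf) S.X₃]
    [HasInjectiveResolutions (ModSite.Mod X.sheaf)]
    [(ModSite.sheafHom (O := X.sheaf) S.X₁ ⋙ Scheme.Modules.pushforward f).Additive]
    [(ModSite.sheafHom (O := X.sheaf) S.X₂ ⋙ Scheme.Modules.pushforward f).Additive]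
    [(ModSite.sheafHom (O := X.sheaf) S.X₃ ⋙ Scheme.Modules.pushforward f).Additive] :
    Mono ((NatTrans.rightDerived (Functor.whiskerRight (ExtSupp.sheafHomMap (O := X.sheaf) S.g) (Scheme.Modules.pushforward f)) 0).app G) ∧
    (∀ p : ℕ, ∃ w : (NatTrans.rightDerived (Functor.whiskerRight (ExtSupp.sheafHomMap (O := X.sheaf) S.g) (Scheme.Modules.pushforward f)) p).app G ≫ (NatTrans.rightDerived (Functor.whiskerRight (ExtSupp.sheafHomMap (O := X.sheaf) S.f) (Scheme.Modules.pushforward f)) p).app G = 0,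
      (ShortComplex.mk _ _ w).Exact) ∧
    ∃ δ : ∀ p : ℕ, ((ModSite.sheafHom (O := X.sheaf) S.X₁ ⋙ Scheme.Modules.pushforward f).rightDerived p).obj G ⟶ ((ModSite.sheafHom (O := X.sheaf) S.X₃ ⋙ Scheme.Modules.pushforward f).rightDerived (p + 1)).obj G,
      ∀ p : ℕ,
        (∃ w : (NatTrans.rightDerived (Functor.whiskerRight (ExtSupp.sheafHomMap (O := X.sheaf) S.f) (Scheme.Modules.pushforward f)) p).app G ≫ δ p = 0, (ShortComplex.mk _ _ w).Exact) ∧
        (∃ w : δ p ≫ (NatTrans.rightDerived (Functor.whiskerRight (ExtSupp.sheafHomMap (O := X.sheaf) S.g) (Scheme.Modules.pushforward f)) (p + 1)).app G = 0, (ShortComplex.mk _ _ w).Exact) := by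
  haveI : HasInjectiveResolutions X.Modules := ‹HasInjectiveResolutions (ModSite.Mod X.sheaf)›
  let P := Scheme.Modules.pushforward f
  let I := injectiveResolution G
  let ip := fun (M : X.Modules) (p : ℕ) => I.isoRightDerivedObj (Groth.Agent.ContraResLib.HomF M ⋙ P) p
  obtain ⟨w, hT⟩ := Groth.Agent.ContraResLib.shortExact_Kc P I (Groth.Agent.ContraResLib.keepsExact_push f) hS
  have hd : ∀ {M M' : X.Modules} (g : M' ⟶ M) (p : ℕ),
      (NatTrans.rightDerived (Functor.whiskerRight (Groth.Agent.ContraResLib.HomMap g) P) p).app G =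
        (ip M p).hom ≫ HomologicalComplex.homologyMap (Groth.Agent.ContraResLib.Kmap P I g) p ≫ (ip M' p).inv :=
    fun g p => InjectiveResolution.rightDerived_app_eq _ I p
  refine ⟨?_, fun p => exists_conj_exact (ip _ p) (ip _ p) (ip _ p) (hd S.g p) (hd S.f p) (hT.homology_exact₂ p),
    fun p => (ip S.X₁ p).hom ≫ hT.δ p (p + 1) rfl ≫ (ip S.X₃ (p + 1)).inv, fun p =>
      ⟨exists_conj_exact (ip _ p) (ip _ p) (ip _ (p + 1)) (hd S.f p) rfl (hT.homology_exact₃ p (p + 1) rfl),
        exists_conj_exact (ip _ p) (ip _ (p + 1)) (ip _ (p + 1)) rfl (hd S.g (p + 1)) (hT.homology_exact₁ p (p + 1) rfl)⟩⟩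
  haveI := hT.mono_f
  haveI := Groth.Agent.ContraResLib.mono_homologyMap₀ (Groth.Agent.ContraResLib.Kmap P I S.g) (inferInstanceAs (Mono ((ShortComplex.mk _ _ w).f.f 0)))
  show Mono ((NatTrans.rightDerived (Functor.whiskerRight (Groth.Agent.ContraResLib.HomMap S.g) P) 0).app G)
  rw [hd S.g 0]
  exact mono_comp' inferInstance (mono_comp' ‹Mono (HomologicalComplex.homologyMap (Groth.Agent.ContraResLib.Kmap P I S.g) 0)› inferInstance)

end Groth.Agent.S16289
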