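import Groth.Statements.S16294
import Groth.Agent.SubAdjLib.Graph

set_option autoImplicit false
universe u
open CategoryTheory CategoryTheory.Limits AlgebraicGeometry
attribute [local instance] HasDerivedCategory.standard
open Curves

namespace Groth.Agent.S16294

open CategoryTheory CategoryTheory.Limits AlgebraicGeometry

set_option backward.isDefEq.respectTransparency false
set_option backward.isDefEq.respectTransparency.types false
set_option linter.style.haveILetI false
set_option maxHeartbeats 1000000
open Groth.Agent.SubAdjLib Groth.Agent.CliffCurveLib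
attribute [local instance] HasDerivedCategory.standard

/-- Let k be an algebraically closed field and (X, D) a semi-stable n-pointed curve over k, taken in the
form: X is proper and connected over k, of dimension 1, with at-worst-nodal singularities; D ⊆ X is
a finite closed set of points each having an open neighbourhood smooth over k; ω_X is the dualizing
module of X (degree -1 cohomology sheaf of f^! O for the structure morphism f, for any choice of the
data Rf_* on D_QCoh with its right adjoint); L_D is an invertible module with L_D ⊗ I_D ≅ O_X for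
the ideal sheaf I_D of D with its reduced structure. Let (V, E, ends) be the dual graph of X over k
(vertices = irreducible components C_v, edges = singular points, each edge joining the components
through its node). Then (X, D) is stable, i.e. ω_X ⊗ L_D is ample, if and only if for every vertex v
one has 2 p_a(C_v) - 2 + e_v + d_v > 0, where p_a(C_v) = dim_k H^1(C_v, O) for the reduced component
C_v, e_v is the number of nodes of X lying on C_v and on another component (non-loop edges at v) and
d_v is the number of marked points on C_v. (The published criterion is stated per component C̃_v of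
the normalisation as 2 g(C̃_v) - 2 + n(C̃_v) > 0, n(C̃_v) counting its points over D and over the
nodes of X; since p_a(C_v) = g(C̃_v) + (number of nodes of X lying on C_v alone) and each such node
has two preimages in C̃_v, the two counts agree.) -/
theorem result (k : Type u) [Field k] [IsAlgClosed k] (X : Scheme.{u}) [X.Over (Spec (CommRingCat.of k))]
    [IsProper (X ↘ (Spec (CommRingCat.of k)))] [ConnectedSpace X] (hdim : topologicalKrullDim X = 1) (hX : Curv2.AtWorstNodal k X)
    [DCoh.HasRpush (X ↘ (Spec (CommRingCat.of k)))] (h : DCoh.RpushPreservesQCoh (X ↘ (Spec (CommRingCat.of k)))) [DCoh.HasShriek (X ↘ (Spec (CommRingCat.of k))) h]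
    (OY : DCoh.DQCoh (Spec (CommRingCat.of k))) (hOY : Nonempty (OY.obj ≅ DCoh.inD (Spec (CommRingCat.of k)) (Coh.structureModule (Spec (CommRingCat.of k)))))
    (D : Set X) (hDfin : D.Finite) (hDcl : IsClosed D) (hDsm : ∀ x ∈ D, ∃ U : X.Opens, x ∈ U ∧ Smooth (U.ι ≫ (X ↘ (Spec (CommRingCat.of k)))))
    (LD : X.Modules) (hLD : PicF.IsInvertible LD)
    (hinv : ClSub.IsInverseOf LD (ClSub.idealMod (Scheme.IdealSheafData.vanishingIdeal (⟨D, hDcl⟩ : TopologicalSpace.Closeds X))))
    (V E : Type u) [Finite E] (cv : V → Set X) (ce : E → X) (ends : E → V × V)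
    (hΓ : DualGr.IsDualGraph (X ↘ (Spec (CommRingCat.of k))) cv ce ends) :
    CohB1.IsAmple (CohB1.tensorMod (DCoh.dualizingMod (X ↘ (Spec (CommRingCat.of k))) h OY 1) LD) ↔
      ∀ v : V, 0 < 2 * (@Curv2.genus k _ (Scheme.IdealSheafData.vanishingIdeal (⟨cv v, isClosed_of_mem_irreducibleComponents (cv v) (hΓ.comp_mem v)⟩ : TopologicalSpace.Closeds X)).subscheme ⟨(Scheme.IdealSheafData.vanishingIdeal (⟨cv v, isClosed_of_mem_irreducibleComponents (cv v) (hΓ.comp_mem v)⟩ : TopologicalSpace.Closeds X)).subschemeι ≫ (X ↘ (Spec (CommRingCat.of k)))⟩ : ℤ) - 2 +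
        (Nat.card {e : E // (ends e).1 ≠ (ends e).2 ∧ ((ends e).1 = v ∨ (ends e).2 = v)} : ℤ) +
        (Nat.card ↥(D ∩ cv v) : ℤ) := by
  haveI := EulerIneqLib.isNoetherian_proper (X := X) k
  haveI := NodePtLib.isReduced_of_atWorstNodal
    (fun _ hZ => TwistShriek.dim_irreducibleComponent k hdim hZ) hX
  have hGor := isInvertible_dualizingMod_nodal h OY hOY hdim hX
  have hd : topologicalKrullDim ((⟨D, hDcl⟩ : TopologicalSpace.Closeds X) : Set X) ≤ 0 :=
    dim_le_zero_of_finite k hDfin hDcl
  have hM : PicF.IsInvertible (CohB1.tensorMod (DCoh.dualizingMod (X ↘ (Spec (CommRingCat.of k))) h OY 1) LD) :=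
    AmpleLib.isInvertible_tensor hGor hLD
  have key : ∀ v : V,
      degS k (CohB1.tensorMod (DCoh.dualizingMod (X ↘ (Spec (CommRingCat.of k))) h OY 1) LD) (compo (hΓ.comp_mem v)) =
        2 * (@Curv2.genus k _ (vI (compo (hΓ.comp_mem v))).subscheme ⟨(vI (compo (hΓ.comp_mem v))).subschemeι ≫ (X ↘ (Spec (CommRingCat.of k)))⟩ : ℤ) - 2 +
          (Nat.card {e : E // (ends e).1 ≠ (ends e).2 ∧ ((ends e).1 = v ∨ (ends e).2 = v)} : ℤ) +
          (Nat.card ↥(D ∩ cv v) : ℤ) := by
    intro v
    have hS := isSub_compo k hdim (hΓ.comp_mem v)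
    rw [degS_omegaD k hdim h OY hOY hGor hLD hS, gS_eq, kc_eq_card k hdim hX hS, card_edges k hΓ v,
      degS_inverse_points k hdim.le hd hLD hinv hS (hΓ.comp_mem v).1, vI_sup_finite k hd,
      h0_quot_finite k (F := compo (hΓ.comp_mem v) ⊓ ⟨D, hDcl⟩) (CliffCurveLib.dim_mono (fun z hz => hz.2) hd)]
    rw [Set.inter_comm D (cv v)]
    rfl
  constructor
  · intro hamp v
    have h1 := degS_pos_of_ample k hM hdim.le hamp (isSub_compo k hdim (hΓ.comp_mem v))
    rw [key v] at h1
    exact h1
  · intro hpos
    refine isAmple_of_degS_pos k hM hdim.le fun S hS hi => ?_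
    obtain ⟨v, hv⟩ := hΓ.comp_surjective (S : Set X) (CurveLib.mem_irreducibleComponents hdim.le S.isClosed hi
      (eq_one_of_le ((topologicalKrullDim_subspace_le X _).trans hdim.le) hS.2))
    rw [show S = compo (hΓ.comp_mem v) from SetLike.coe_injective hv.symm, key v]
    exact hpos v

end Groth.Agent.S16294
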