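import Groth.Statements.S16298
import Groth.Agent.S1585
import Groth.Agent.S1602

set_option autoImplicit false
universe u
open CategoryTheory CategoryTheory.Limits AlgebraicGeometry
open Curves

namespace Groth.Agent.S16298

open CategoryTheory CategoryTheory.Limits AlgebraicGeometry

set_option backward.isDefEq.respectTransparency false
set_option linter.style.haveILetI false


/-- Let k be a field and X a genus-zero curve over k, that is, an integral scheme proper over k of
dimension one with H^1(X, O_X) = 0. Then the normalization Y of X again satisfies H^1(Y, O_Y) = 0,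
so Y is again a genus-zero curve. (The two instance binders on the morphism from the generic point
always hold; they are only needed to form the normalization.) -/
theorem result (k : Type u) [Field k] (X : Scheme.{u}) [X.Over (Spec (CommRingCat.of k))]
    [IsIntegral X] [IsProper (X ↘ (Spec (CommRingCat.of k)))] (hdim : topologicalKrullDim X = 1)
    (h1 : Subsingleton (Coh.HH X (Coh.structureModule X) 1))
    [QuasiCompact (X.fromSpecStalk (genericPoint X))] [QuasiSeparated (X.fromSpecStalk (genericPoint X))] :
    Subsingleton (Coh.HH (Curv2.normalization X) (Coh.structureModule (Curv2.normalization X)) 1) := by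
  obtain ⟨hfin, -, ⟨V, hV, hi⟩, hint, -⟩ := S1585.result k X
  haveI := hint
  haveI := hfin
  haveI := hi
  letI : (Curv2.normalization X).Over (Spec (CommRingCat.of k)) :=
    ⟨Curv2.normalizationι X ≫ (X ↘ (Spec (CommRingCat.of k)))⟩
  have hη : Dense ((Curv2.normalizationι X ⁻¹ᵁ V : (Curv2.normalization X).Opens) : Set (Curv2.normalization X)) := by
    refine (Curv2.normalizationι X ⁻¹ᵁ V).2.dense ?_
    obtain ⟨v, hv⟩ := hV
    obtain ⟨⟨z, hz⟩, -⟩ := (Curv2.normalizationι X ∣_ V).homeomorph.surjective ⟨v, hv⟩
    exact ⟨z, hz⟩
  have hle := S1602.result k X (Curv2.normalization X) hdim.le (Curv2.normalizationι X) rfl V (V.2.dense hV) hη hi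
  haveI := h1
  have h0 : Curv2.genus k X = 0 := Module.finrank_zero_of_subsingleton
  haveI : IsProper (Curv2.normalization X ↘ (Spec (CommRingCat.of k))) :=
    inferInstanceAs (IsProper (Curv2.normalizationι X ≫ (X ↘ (Spec (CommRingCat.of k)))))
  haveI : Module.Finite k (Coh.HH (Curv2.normalization X) (Coh.structureModule (Curv2.normalization X)) 1) :=
    EulerIneqLib.finite_HH (DevLib.isCoh_structureModule _) 1
  exact Module.finrank_zero_iff.1 (Nat.le_zero.1 (h0 ▸ hle))


end Groth.Agent.S16298
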