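import Groth.Statements.S1630
import Groth.Agent.GeomIrred.Scheme
-- import your own Groth.Agent.* helpers here

set_option autoImplicit false
universe u
open CategoryTheory CategoryTheory.Limits AlgebraicGeometry
open Variety

namespace Groth.Agent.S1630

/-- Let X be a scheme over k. If X has a cover by a nonempty family of open subschemes, each
geometrically irreducible over k and any two of which meet, then X is geometrically irreducible over
k. -/
theorem result (k : Type u) [Field k] (X : Scheme.{u}) [X.Over (Spec (CommRingCat.of k))]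
    (ι : Type u) (U : ι → X.Opens) (hne : Nonempty ι) (hcov : (⨆ i, U i) = ⊤)
    (hmeet : ∀ i j, ((U i : Set X) ∩ (U j : Set X)).Nonempty)
    (hU : ∀ i, GeometricallyIrreducible ((U i).ι ≫ (X ↘ (Spec (CommRingCat.of k))))) : GeometricallyIrreducible (X ↘ (Spec (CommRingCat.of k))) := by
  refine ⟨(geometrically_iff_of_commRing_of_isClosedUnderIsomorphisms (P := (IrreducibleSpace ·))).mpr fun K _ _ => ?_⟩
  let g := Spec.map (CommRingCat.ofHom (algebraMap k K))
  haveI := GeomIrred.surjective_specMap_field k K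
  let f := X ↘ (Spec (CommRingCat.of k))
  let p := pullback.fst f g
  obtain ⟨i₀⟩ := hne
  have hirr : ∀ i, IsIrreducible (p ⁻¹' (U i : Set X)) := by
    intro i
    haveI : IrreducibleSpace ↥(pullback ((U i).ι ≫ f) g) :=
      pullback_of_geometrically (hU i).geometrically_irreducibleSpace _ _
    let q : pullback ((U i).ι ≫ f) g ⟶ pullback f g := pullback.map _ _ _ _ (U i).ι (𝟙 _) (𝟙 _) (by simp) (by simp)
    have hq : Set.range q = p ⁻¹' (U i : Set X) := by
      rw [Scheme.Pullback.range_map]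
      ext z
      simp [p]
    rw [← hq, ← Set.image_univ]
    exact (IrreducibleSpace.isIrreducible_univ _).image _ q.continuous.continuousOn
  have hcovz : ∀ z : ↥(pullback f g), ∃ i, z ∈ p ⁻¹' (U i : Set X) := fun z =>
    TopologicalSpace.Opens.mem_iSup.mp (hcov ▸ TopologicalSpace.Opens.mem_top (p z))
  haveI : Nonempty ↥(pullback f g) := ⟨(hirr i₀).nonempty.choose⟩
  haveI : PreirreducibleSpace ↥(pullback f g) := by
    refine ⟨fun A B hA hB hA' hB' => ?_⟩
    rw [Set.univ_inter] at hA' hB' ⊢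
    obtain ⟨a, ha⟩ := hA'
    obtain ⟨b, hb⟩ := hB'
    obtain ⟨i, hi⟩ := hcovz a
    obtain ⟨j, hj⟩ := hcovz b
    have hopen : ∀ l, IsOpen (p ⁻¹' (U l : Set X)) := fun l => (U l).2.preimage p.continuous
    obtain ⟨w, hw⟩ := hmeet i j
    obtain ⟨z, rfl⟩ := p.surjective w
    obtain ⟨c, hci, hcA, hcj⟩ := (hirr i).2 A (p ⁻¹' (U j : Set X)) hA (hopen j) ⟨a, hi, ha⟩ ⟨z, hw.1, hw.2⟩
    obtain ⟨d, hdj, ⟨hdA, hdi⟩, hdB⟩ := (hirr j).2 (A ∩ p ⁻¹' (U i : Set X)) B (hA.inter (hopen i)) hB
      ⟨c, hcj, hcA, hci⟩ ⟨b, hj, hb⟩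
    exact ⟨d, hdA, hdB⟩
  exact ⟨inferInstance⟩

end Groth.Agent.S1630
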