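import Groth.Statements.S16301
import Groth.Agent.GenusZeroLib.MinDeg

set_option autoImplicit false
universe u
open CategoryTheory CategoryTheory.Limits AlgebraicGeometry
open Curves

namespace Groth.Agent.S16301

open CategoryTheory CategoryTheory.Limits AlgebraicGeometry

variable {k : Type u} [Field k] {X : Scheme.{u}} [X.Over (Spec (CommRingCat.of k))]
  [IsIntegral X] [IsProper (X ↘ (Spec (CommRingCat.of k)))]

variable (k) in
/-- The degree as a homomorphism. -/
theorem exists_degHom (hdim : topologicalKrullDim X = 1) [PicGrp.Law X] :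
    ∃ D : Additive (PicLoc.PicSet X) →+ ℤ, ∀ (L : X.Modules) (hL : PicF.IsInvertible L),
      D (Additive.ofMul (PicGrp.cls L hL)) = Curv2.deg k X L 1 := by
  classical
  choose R hR hc using fun c : PicLoc.PicSet X => PicGrp.exists_eq_cls c
  have key : ∀ (L : X.Modules) (hL : PicF.IsInvertible L), Curv2.deg k X (R (PicGrp.cls L hL)) 1 = Curv2.deg k X L 1 :=
    fun L hL => by
      obtain ⟨e⟩ := (PicGrp.cls_eq_cls_iff hL (hR _)).1 (hc (PicGrp.cls L hL))
      exact (CurveLib.deg_iso (k := k) e 1).symm
  refine ⟨AddMonoidHom.mk' (fun c => Curv2.deg k X (R (Additive.toMul c)) 1) fun a b => ?_, key⟩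
  show Curv2.deg k X (R (Additive.toMul a * Additive.toMul b)) 1 = _
  have h := AmpleLib.isInvertible_tensor (hR (Additive.toMul a)) (hR (Additive.toMul b))
  have e : Additive.toMul a * Additive.toMul b = PicGrp.cls _ h := by
    conv_lhs => rw [hc (Additive.toMul a), hc (Additive.toMul b)]
    exact Subtype.ext (PicGrp.cls_mul_cls_val _ _)
  rw [e, key]
  exact CurveLib.deg_tensor_add (k := k) hdim.le (hR _) (hR _)

/-- Let k be an infinite field and X a genus-zero curve over k, that is, an integral scheme proper over
k of dimension one with H^1(X, O_X) = 0. Let P be a closed point of X whose local ring is regular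
and whose degree deg_k P = dim_k H^0(P, O_P) is least among all closed points of X with regular
local ring, and let I_P be the ideal sheaf of the reduced point P (an invertible module, P being a
regular point of a curve; this is carried as a hypothesis). Then the Picard group of X is generated
by the class of I_P, equivalently by O_X(P): every class of an invertible O_X-module is an integer
power of the class of I_P (the group law on the Picard group is the tensor product, supplied by the
binder). (The published statement is for an arbitrary base field; this row assumes k infinite, the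
case in which the published argument applies: it twice replaces an ample divisor by a member of its
base-point-free complete linear system whose support avoids the finitely many non-regular points of
X, and over a finite field such a member need not exist.) -/
theorem result (k : Type u) [Field k] [Infinite k] (X : Scheme.{u}) [X.Over (Spec (CommRingCat.of k))]
    [IsIntegral X] [IsProper (X ↘ (Spec (CommRingCat.of k)))] (hdim : topologicalKrullDim X = 1)
    (h1 : Subsingleton (Coh.HH X (Coh.structureModule X) 1))
    (P : X) (hPc : IsClosed ({P} : Set X)) (hPreg : IsRegularLocalRing (X.presheaf.stalk P))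
    (hmin : ∀ (Q : X) (hQc : IsClosed ({Q} : Set X)), IsRegularLocalRing (X.presheaf.stalk Q) →
      Module.finrank k (Coh.HH X (ClSub.quotMod (Scheme.IdealSheafData.vanishingIdeal ⟨{P}, hPc⟩)) 0) ≤ Module.finrank k (Coh.HH X (ClSub.quotMod (Scheme.IdealSheafData.vanishingIdeal ⟨{Q}, hQc⟩)) 0))
    (hI : PicF.IsInvertible (ClSub.idealMod (Scheme.IdealSheafData.vanishingIdeal ⟨{P}, hPc⟩))) [PicGrp.Law X]
    (c : PicLoc.PicSet X) :
    c ∈ Subgroup.zpowers (PicGrp.cls (ClSub.idealMod (Scheme.IdealSheafData.vanishingIdeal ⟨{P}, hPc⟩)) hI) := by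
  haveI := h1
  haveI := EulerIneqLib.isNoetherian_proper (X := X) k
  obtain ⟨D, hD⟩ := exists_degHom k hdim (X := X)
  set g := PicGrp.cls (ClSub.idealMod (Scheme.IdealSheafData.vanishingIdeal ⟨{P}, hPc⟩)) hI with hg
  set d0 : ℤ := ↑(Module.finrank k (Coh.HH X (ClSub.quotMod (Scheme.IdealSheafData.vanishingIdeal ⟨{P}, hPc⟩)) 0)) with hd0
  have hd0pos : 0 < d0 := by
    rw [hd0]
    exact_mod_cast SingRRLib.finrank_quot_point_pos (k := k) hPc
  have hDg : D (Additive.ofMul g) = -d0 := (hD _ hI).trans (GenusZeroLib.deg_idealMod_point hPc)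
  set e := D (Additive.ofMul c)
  set q := e / d0
  obtain ⟨M, hM, hcM⟩ := PicGrp.exists_eq_cls (c * g ^ q)
  have hdegM : Curv2.deg k X M 1 = e % d0 := by
    rw [← hD M hM, ← hcM, ofMul_mul, ofMul_zpow, map_add, map_zsmul, hDg, smul_eq_mul, Int.emod_def]
    ring
  have hnn : 0 ≤ Curv2.deg k X M 1 := hdegM ▸ Int.emod_nonneg _ hd0pos.ne'
  have hzero : Curv2.deg k X M 1 = 0 := by
    by_contra hne
    obtain ⟨Q, hQc, -, hQr, hQle⟩ := GenusZeroLib.exists_point (k := k) hdim hM (lt_of_le_of_ne hnn (Ne.symm hne))
      Set.finite_empty
    have h2 := hmin Q hQc hQr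
    have h3 : e % d0 < d0 := Int.emod_lt_of_pos _ hd0pos
    omega
  obtain ⟨s, hs⟩ := GenusZeroLib.exists_section (k := k) hdim (L := M) hnn
  have h1' : c * g ^ q = 1 := by
    rw [hcM, PicGrp.cls_eq_one_iff]
    exact CurveLib.nonempty_iso_structureModule (k := k) hdim.le hM s hs hzero.le
  exact ⟨-q, (zpow_neg g q).trans (eq_inv_of_mul_eq_one_left h1').symm⟩

end Groth.Agent.S16301
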