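import Groth.Statements.S16302
import Groth.Agent.GenusZeroLib.MinDeg

set_option autoImplicit false
universe u
open CategoryTheory CategoryTheory.Limits AlgebraicGeometry
open Curves

namespace Groth.Agent.S16302

/-- Let k be an infinite field and X a genus-zero curve over k, that is, an integral scheme proper over
k of dimension one with H^1(X, O_X) = 0. Then the set of closed points P of X whose local ring is
regular and whose degree deg_k P = dim_k H^0(P, O_P) is least among all closed points with regular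
local ring is infinite. -/
theorem result (k : Type u) [Field k] (X : Scheme.{u}) [X.Over (Spec (CommRingCat.of k))] [Infinite k]
    [IsIntegral X] [IsProper (X ↘ (Spec (CommRingCat.of k)))] (hdim : topologicalKrullDim X = 1)
    (h1 : Subsingleton (Coh.HH X (Coh.structureModule X) 1)) :
    {P : X | ∃ hPc : IsClosed ({P} : Set X), IsRegularLocalRing (X.presheaf.stalk P) ∧
      ∀ (Q : X) (hQc : IsClosed ({Q} : Set X)), IsRegularLocalRing (X.presheaf.stalk Q) →
        Module.finrank k (Coh.HH X (ClSub.quotMod (Scheme.IdealSheafData.vanishingIdeal ⟨{P}, hPc⟩)) 0) ≤ Module.finrank k (Coh.HH X (ClSub.quotMod (Scheme.IdealSheafData.vanishingIdeal ⟨{Q}, hQc⟩)) 0)}.Infinite := by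
  classical
  haveI := h1
  haveI := EulerIneqLib.isNoetherian_proper (X := X) k
  let d : ∀ Q : X, IsClosed ({Q} : Set X) → ℕ := fun Q hQc =>
    Module.finrank k (Coh.HH X (ClSub.quotMod (Scheme.IdealSheafData.vanishingIdeal ⟨{Q}, hQc⟩)) 0)
  obtain ⟨Q₀, hQ₀c, hQ₀r⟩ := GenusZeroLib.exists_regular_closed (k := k) hdim
  have hex : ∃ n, ∃ (Q : X) (hQc : IsClosed ({Q} : Set X)), IsRegularLocalRing (X.presheaf.stalk Q) ∧ d Q hQc = n :=
    ⟨_, Q₀, hQ₀c, hQ₀r, rfl⟩
  obtain ⟨P, hPc, hPr, hP⟩ := Nat.find_spec hex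
  have hmin : ∀ (Q : X) (hQc : IsClosed ({Q} : Set X)), IsRegularLocalRing (X.presheaf.stalk Q) → d P hPc ≤ d Q hQc :=
    fun Q hQc hQr => hP ▸ Nat.find_min' hex ⟨Q, hQc, hQr, rfl⟩
  intro hfin
  have hI := GenusZeroLib.isInvertible_idealMod_point (k := k) hdim hPc hPr
  obtain ⟨L, hL, ⟨e⟩⟩ := AmpleEmb.exists_isInverseOf hI
  have hdeg : Curv2.deg k X L 1 = (d P hPc : ℤ) := by
    have h := CurveLib.deg_tensor_add (k := k) hdim.le hI hL
    rw [CurveLib.deg_iso (k := k) e, CurveLib.deg_structureModule, GenusZeroLib.deg_idealMod_point] at h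
    simp only [d]
    omega
  have hpos : 0 < Curv2.deg k X L 1 := by
    rw [hdeg]
    exact_mod_cast SingRRLib.finrank_quot_point_pos (k := k) hPc
  obtain ⟨Q, hQc, hQT, hQr, hQle⟩ := GenusZeroLib.exists_point (k := k) hdim hL hpos hfin
  rw [hdeg] at hQle
  exact hQT ⟨hQc, hQr, fun R hRc hRr => le_trans (by exact_mod_cast hQle) (hmin R hRc hRr)⟩

end Groth.Agent.S16302
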