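import Groth.Statements.S7338
import Groth.Agent.RpushLib.Closed
import Groth.Agent.RpushLib.Stalk
import Groth.Agent.ModifDimLib.Main
import Groth.Agent.FibreVanishQC.Main
import Groth.Agent.CurveLib.Finite
import Groth.Agent.SurfPtBlow.Push
import Groth.Agent.BCLib.RpushSec
import Groth.Agent.PullbackMod.SuppClosed
import Groth.Agent.DevLib.Main
import Groth.Agent.BMCohLib.Birational
import Groth.Agent.S14058
import Groth.Agent.S9777

set_option autoImplicit false
universe u
open CategoryTheory CategoryTheory.Limits AlgebraicGeometry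
open Resolve

namespace Groth.Agent.S7338

set_option backward.isDefEq.respectTransparency false
set_option linter.style.haveILetI false
set_option maxHeartbeats 1000000
set_option synthInstance.maxHeartbeats 200000
open TopologicalSpace Order Groth.Agent Groth.Agent.CohBase Groth.Agent.RpushLib

/-- Over points of codimension at most one a modification has finite fibres. -/
theorem fibre_dim_zero {X S : Scheme.{u}} [IsIntegral X] [IsIntegral S] (f : X ⟶ S) {U : S.Opens}
    [AlgebraicGeometry.IsNoetherian S] [S.IsSeparated] [IsProper f] (hU : (U : Set S).Nonempty)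
    (h : IsIso (f ∣_ U)) (s : S) (hs : ringKrullDim (S.presheaf.stalk s) ≤ (1 : ℕ)) :
    topologicalKrullDim ↥(f.fiber s) ≤ (0 : ℕ) := by
  haveI : IsLocallyNoetherian X := LocallyOfFiniteType.isLocallyNoetherian f
  haveI : CompactSpace X := QuasiCompact.compactSpace_of_compactSpace f
  haveI : AlgebraicGeometry.IsNoetherian X := { }
  haveI : X.IsSeparated := ⟨by rw [← Limits.terminal.comp_from f]; infer_instance⟩
  have hbir := ModifDimLib.isBirational_of_isIso f hU h
  rw [ASp.topologicalKrullDim_eq_krullDim]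
  unfold Order.krullDim
  refine iSup_le fun q => ?_
  by_contra hlt
  have hlen : 1 ≤ q.length := by
    by_contra h2
    exact hlt (WithBot.coe_le_coe.2 (by exact_mod_cast (show q.length ≤ 0 by omega)))
  let i0 : Fin (q.length + 1) := ⟨0, by omega⟩
  let i1 : Fin (q.length + 1) := ⟨1, by omega⟩
  let g := f.fiberι s
  have hmono : ∀ a b : f.fiber s, a < b → g a < g b := fun a b hab => by
    obtain ⟨h1, h2⟩ := lt_iff_le_not_ge.1 hab
    refine lt_iff_le_not_ge.2 ⟨Scheme.le_iff_specializes.2 ((Scheme.le_iff_specializes.1 h1).map g.continuous),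
      fun h' => h2 (Scheme.le_iff_specializes.2 ?_)⟩
    exact g.isEmbedding.isInducing.specializes_iff.1 (Scheme.le_iff_specializes.1 h')
  have h01 : g (q i0) < g (q i1) := hmono _ _ (q.strictMono (show i0 < i1 from Nat.lt_succ_self 0))
  have hfib : ∀ a : f.fiber s, f (g a) = s := fun a => by
    have : g a ∈ Set.range g := ⟨a, rfl⟩
    rw [f.range_fiberι s] at this
    exact this
  have h2 := (Groth.Agent.S18879.result f hbir (g (q i0))).trans ((hfib (q i0)).symm ▸ hs)
  rw [ringKrullDim_stalk_eq_coheight] at h2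
  have hle : coheight (g (q i0)) ≤ 1 := WithBot.coe_le_coe.1 h2
  have hmax : g (q i1) = genericPoint X := by
    by_contra hne
    have hη : g (q i1) < genericPoint X := lt_iff_le_not_ge.2
      ⟨Scheme.le_iff_specializes.2 (genericPoint_specializes _), fun h' =>
        hne (((Scheme.le_iff_specializes.1 h').antisymm (genericPoint_specializes _)).eq)⟩
    let p : LTSeries X := ⟨2, ![g (q i0), g (q i1), genericPoint X], fun i => by
      fin_cases i <;> assumption⟩
    have h3 : ((2 : ℕ) : ℕ∞) ≤ coheight (g (q i0)) := length_le_coheight (p := p) le_rfl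
    exact absurd (h3.trans hle) (by decide)
  have hηS : genericPoint S ∈ (genericPoints S) := by rw [genericPoints_eq_singleton]; rfl
  have hsη : s = genericPoint S := by
    rw [← hfib (q i1), hmax]
    have := hbir.1.mapsTo (show genericPoint X ∈ genericPoints X by rw [genericPoints_eq_singleton]; rfl)
    rwa [genericPoints_eq_singleton] at this
  exact h01.ne ((hbir.2 (genericPoint S) hηS).1 _ _ ((hfib _).trans hsη) ((hfib _).trans hsη))

/-- Higher direct images vanish at a point all of whose generalisations have finite fibres. -/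
theorem subsingleton_stalk {X S : Scheme.{u}} (f : X ⟶ S) [IsProper f] [HasInjectiveResolutions X.Modules]
    (M : X.Modules) [Coh.IsQCoh M] (x : S) (hx : ∀ t, t ⤳ x → topologicalKrullDim ↥(f.fiber t) ≤ (0 : ℕ)) :
    Subsingleton (((Coh.Rpush f 1).obj M).presheaf.stalk x) := by
  letI : (pullback f (S.fromSpecStalk x)).Over (Spec (CommRingCat.of (S.presheaf.stalk x))) := ⟨pullback.snd _ _⟩
  obtain ⟨e⟩ := RpushLib.nonempty_stalk_equiv f M x 1 (pullback f (S.fromSpecStalk x))
    (pullback.fst f (S.fromSpecStalk x)) (IsPullback.of_hasPullback _ _)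
  haveI : Coh.IsQCoh ((Scheme.Modules.pullback (pullback.fst f (S.fromSpecStalk x))).obj M) :=
    PullbackMod.isQCoh_pullback _ M
  have hd : ∀ t, topologicalKrullDim ↥((pullback.snd f (S.fromSpecStalk x)).fiber t) ≤ (0 : ℕ) := fun t => by
    rw [Groth.Agent.S9777.result f _ _ _ (IsPullback.of_hasPullback f (S.fromSpecStalk x)) t]
    refine hx _ ?_
    have h := Set.mem_range_self (f := S.fromSpecStalk x) t
    rwa [Scheme.range_fromSpecStalk] at h
  haveI := FibreVanishQC.subsingleton_HU_affine _ 0 hd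
    ((Scheme.Modules.pullback (pullback.fst f (S.fromSpecStalk x))).obj M) 0 le_rfl
  haveI := (HHEquiv ((Scheme.Modules.pullback (pullback.fst f (S.fromSpecStalk x))).obj M) (0 + 1)).toEquiv.subsingleton
  exact e.toEquiv.subsingleton

/-- The exact sequence of low degree terms of a direct image, as additivity of lengths. -/
theorem length_H1 {A : Type u} [CommRing A] {X X' : Scheme.{u}} [X.Over (Spec (CommRingCat.of A))]
    [X'.Over (Spec (CommRingCat.of A))] [HasInjectiveResolutions X'.Modules] (g : X' ⟶ X)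
    (hg : g ≫ (X ↘ Spec (CommRingCat.of A)) = X' ↘ Spec (CommRingCat.of A))
    (M' : X'.Modules) (h2 : Subsingleton (HU (⊤ : X.Opens) (Coh.toAb ((Scheme.Modules.pushforward g).obj M')) 2)) :
    Module.length A (Coh.HH X' M' 1) =
      Module.length A (Coh.HH X ((Scheme.Modules.pushforward g).obj M') 1) +
        Module.length A (Coh.HH X ((Coh.Rpush g 1).obj M') 0) := by
  let p := X ↘ Spec (CommRingCat.of A)
  let R := injectiveResolution M'
  let G := Scheme.Modules.pushforward g
  let π := pushπ g R 0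
  let c := cokernel.π π
  let Im := kernel c
  let e : G.obj (R.cocomplex.X 0) ⟶ Im := Abelian.factorThruImage π
  have hfac : e ≫ kernel.ι c = π := Abelian.image.fac π
  have h0 : G.map (zι R 0) ≫ e = 0 := by
    rw [← cancel_mono (kernel.ι c), Category.assoc, hfac, zero_comp]
    exact (G.map_comp _ _).symm.trans ((congrArg G.map (zι_π R 0)).trans (G.map_zero _ _))
  let T1 : ShortComplex X.Modules := ShortComplex.mk (G.map (zι R 0)) e h0
  have hT1 : T1.ShortExact := by
    haveI : Mono T1.f := inferInstanceAs (Mono (G.map (zι R 0)))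
    haveI : Epi T1.g := inferInstanceAs (Epi (Abelian.factorThruImage π))
    refine ShortComplex.ShortExact.mk' ?_ inferInstance inferInstance
    let φ : T1 ⟶ (seq R 0).map G :=
      { τ₁ := 𝟙 _
        τ₂ := 𝟙 _
        τ₃ := kernel.ι c
        comm₁₂ := by simp [T1]
        comm₂₃ := (Category.id_comp _).trans hfac.symm }
    haveI : Epi φ.τ₁ := inferInstanceAs (Epi (𝟙 _))
    haveI : IsIso φ.τ₂ := inferInstanceAs (IsIso (𝟙 _))
    haveI : Mono φ.τ₃ := inferInstanceAs (Mono (kernel.ι c))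
    exact (ShortComplex.exact_iff_of_epi_of_isIso_of_mono φ).2
      ((seq_shortExact R 0).exact.map_of_mono_of_preservesKernel G inferInstance inferInstance)
  let T2 : ShortComplex X.Modules := ShortComplex.mk (kernel.ι c) c (kernel.condition c)
  have hT2 : T2.ShortExact := by
    haveI : Mono T2.f := inferInstanceAs (Mono (kernel.ι c))
    haveI : Epi T2.g := inferInstanceAs (Epi (cokernel.π π))
    exact ShortComplex.ShortExact.mk'
      (ShortComplex.exact_of_f_is_kernel _ (kernelIsKernel c)) inferInstance inferInstance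
  -- acyclicity of the pushed injective
  have hI : ∀ n, Subsingleton (HU (⊤ : X.Opens) (Coh.toAb (G.obj (R.cocomplex.X 0))) (n + 1)) := fun n => by
    haveI : TopCat.Sheaf.IsFlasque (Coh.toAb (G.obj (R.cocomplex.X 0))) :=
      LocZLib.isFlasque_of_surjective _ fun h => surjective_rM_injective (R.cocomplex.X 0) (g.preimage_mono h)
    exact LocZLib.subsingleton_HU_flasque _ n _
  have hIm : Subsingleton (HU (⊤ : X.Opens) (Coh.toAb Im) 1) := by
    haveI : Subsingleton (HU (⊤ : X.Opens) (T1.map (QCohLib.toAbF X)).X₂ 1) := hI 0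
    haveI : Subsingleton (HU (⊤ : X.Opens) (T1.map (QCohLib.toAbF X)).X₁ (1 + 1)) := by
      obtain ⟨e2⟩ : Nonempty (Coh.HH X (G.obj M') 2 ≃ₗ[Coh.Γtop X] Coh.HH X (G.obj (Z R 0)) 2) :=
        ⟨BCLib.hhEquivΓ (G.mapIso (zeroIso R)) 2⟩
      exact (((HHEquiv (G.obj M') 2).symm.trans e2.toAddEquiv).trans (HHEquiv (G.obj (Z R 0)) 2)).symm.toEquiv.subsingleton
    exact subsingleton_quot (QCohLib.toAb_shortExact hT1) (⊤ : X.Opens) 1
  -- module structures
  letI mP : Module A Γ(G.obj (Z R 1), ⊤) := Module.compHom _ (show A →+* Γ(X, ⊤) from Coh.toGlobal p)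
  letI mI : Module A Γ(Im, ⊤) := Module.compHom _ (show A →+* Γ(X, ⊤) from Coh.toGlobal p)
  letI mC : Module A Γ(cokernel π, ⊤) := Module.compHom _ (show A →+* Γ(X, ⊤) from Coh.toGlobal p)
  let ι : Γ(Im, ⊤) →ₗ[A] Γ(G.obj (Z R 1), ⊤) :=
    { toFun := (kernel.ι c).app ⊤
      map_add' := map_add _
      map_smul' := fun a s => map_smul (QCohLib.appLinear (kernel.ι c) ⊤) (show Γ(X, ⊤) from Coh.toGlobal p a) s }
  let ψ : Γ(G.obj (Z R 1), ⊤) →ₗ[A] Γ(cokernel π, ⊤) :=
    { toFun := c.app ⊤
      map_add' := map_add _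
      map_smul' := fun a s => map_smul (QCohLib.appLinear c ⊤) (show Γ(X, ⊤) from Coh.toGlobal p a) s }
  have hι : Function.Injective ι := QCohLib.app_injective hT2 ⊤
  have hψ : Function.Surjective ψ := by
    haveI : Subsingleton (HU (⊤ : X.Opens) (T2.map (QCohLib.toAbF X)).X₁ 1) := hIm
    exact sections_surjective (QCohLib.toAb_shortExact hT2) ⊤
  -- the two connecting maps
  obtain ⟨hφs, hφk⟩ := δΓ_spec (seq_shortExact R 0) (subsingleton_HU_injective (R.cocomplex.X 0) ⊤ 0)
  let φ : Γ(G.obj (Z R 1), ⊤) →ₗ[A] Coh.HH X' (Z R 0) 1 :=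
    { toFun := fun s => δΓ (seq_shortExact R 0) (show Γ(Z R 1, ⊤) from s)
      map_add' := fun s t => map_add (δΓ (seq_shortExact R 0)) _ _
      map_smul' := fun a s => by
        show δΓ (seq_shortExact R 0) ((show Γ(X', ⊤) from g.app ⊤ (Coh.toGlobal p a)) • (show Γ(Z R 1, ⊤) from s)) =
          Coh.toGlobal (X' ↘ Spec (CommRingCat.of A)) a • δΓ (seq_shortExact R 0) (show Γ(Z R 1, ⊤) from s)
        rw [← hg]
        exact δΓ_smul (seq_shortExact R 0) _ _ }
  obtain ⟨hχs, hχk⟩ := δΓ_spec hT1 (hI 0)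
  let χ : Γ(Im, ⊤) →ₗ[A] Coh.HH X (G.obj (Z R 0)) 1 :=
    { toFun := fun s => δΓ hT1 s
      map_add' := fun s t => map_add (δΓ hT1) _ _
      map_smul' := fun a s => δΓ_smul hT1 (show Γ(X, ⊤) from Coh.toGlobal p a) s }
  have hcomm : ∀ j, (kernel.ι c).app ⊤ (e.app ⊤ j) = π.app ⊤ j := fun j => (congr($(hfac).app ⊤ j) :)
  have hker : χ.ker = LinearMap.ker (φ.comp ι) := by
    ext s
    refine ⟨fun hs => ?_, fun hs => ?_⟩
    · obtain ⟨j, hj⟩ := (hχk s).1 hs
      refine (hφk _).2 ⟨j, ?_⟩
      show π.app ⊤ j = (kernel.ι c).app ⊤ s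
      rw [← hcomm, ← hj]
    · obtain ⟨j, hj⟩ := (hφk _).1 hs
      exact (hχk s).2 ⟨j, hι ((hcomm j).trans hj)⟩
  let eχ := χ.quotKerEquivOfSurjective hχs
  let a₁ : Coh.HH X (G.obj (Z R 0)) 1 →ₗ[A] Coh.HH X' (Z R 0) 1 :=
    (χ.ker.liftQ (φ.comp ι) hker.le).comp eχ.symm.toLinearMap
  have ha₁ : ∀ s, a₁ (χ s) = φ (ι s) := fun s => by
    have : eχ.symm (χ s) = Submodule.Quotient.mk s := eχ.symm_apply_eq.2 rfl
    simp [a₁, this]
  have hφψ : φ.ker ≤ ψ.ker := fun s hs => by
    obtain ⟨j, hj⟩ := (hφk _).1 hs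
    exact LinearMap.mem_ker.2 ((congrArg (c.app ⊤) hj.symm).trans (coker_app_app (φ := π) ⊤ j))
  let eφ := φ.quotKerEquivOfSurjective hφs
  let a₂ : Coh.HH X' (Z R 0) 1 →ₗ[A] Γ(cokernel π, ⊤) := (φ.ker.liftQ ψ hφψ).comp eφ.symm.toLinearMap
  have ha₂ : ∀ s, a₂ (φ s) = ψ s := fun s => by
    have : eφ.symm (φ s) = Submodule.Quotient.mk s := eφ.symm_apply_eq.2 rfl
    simp [a₂, this]
  have hex : Function.Exact a₁ a₂ := fun y => by
    obtain ⟨t, rfl⟩ := hφs y
    change a₂ (φ t) = 0 ↔ φ t ∈ Set.range a₁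
    rw [ha₂]
    refine ⟨fun ht => ?_, ?_⟩
    · obtain ⟨s, hs⟩ := QCohLib.app_exact hT2 ⊤ t ht
      exact ⟨χ s, (ha₁ s).trans (congrArg φ hs)⟩
    · rintro ⟨y, hy⟩
      obtain ⟨s, rfl⟩ := hχs y
      have hy' : φ (ι s) = φ t := (ha₁ s).symm.trans hy
      have hz : ψ (ι s) = 0 := by
        show c.app ⊤ ((kernel.ι c).app ⊤ s) = 0
        exact (congr($(kernel.condition c).app ⊤ s) :)
      rw [← ha₂, ← hy', ha₂, hz]
  have hinj : Function.Injective a₁ := by
    rw [injective_iff_map_eq_zero]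
    intro y hy
    obtain ⟨s, rfl⟩ := hχs y
    have : s ∈ χ.ker := hker.ge (LinearMap.mem_ker.2 ((ha₁ s).symm.trans hy))
    exact LinearMap.mem_ker.1 this
  have hsurj : Function.Surjective a₂ := fun z => by
    obtain ⟨t, rfl⟩ := hψ z
    exact ⟨φ t, ha₂ t⟩
  -- transport
  let e1 : Coh.HH X' M' 1 ≃ₗ[A] Coh.HH X' (Z R 0) 1 :=
    { (BCLib.hhEquivΓ (zeroIso R) 1).toAddEquiv with
      map_smul' := fun a x => map_smul (BCLib.hhEquivΓ (zeroIso R) 1) (Coh.toGlobal (X' ↘ Spec (CommRingCat.of A)) a) x }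
  let e2 : Coh.HH X (G.obj M') 1 ≃ₗ[A] Coh.HH X (G.obj (Z R 0)) 1 :=
    { (BCLib.hhEquivΓ (G.mapIso (zeroIso R)) 1).toAddEquiv with
      map_smul' := fun a x => map_smul (BCLib.hhEquivΓ (G.mapIso (zeroIso R)) 1) (Coh.toGlobal p a) x }
  let e3 : Γ(cokernel π, ⊤) ≃ₗ[A] Coh.HH X ((Coh.Rpush g 1).obj M') 0 :=
    { (h0Γ (cokernel π)).trans (BCLib.hhEquivΓ (rpushIso g R 0).symm 0).toAddEquiv with
      map_smul' := fun a x => (congrArg (BCLib.hhEquivΓ (rpushIso g R 0).symm 0)
        (h0Γ_smul (cokernel π) (show Γ(X, ⊤) from Coh.toGlobal p a) x)).trans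
          (map_smul (BCLib.hhEquivΓ (rpushIso g R 0).symm 0) (Coh.toGlobal p a) _) }
  rw [e1.length_eq, e2.length_eq, ← e3.length_eq]
  exact Module.length_eq_add_of_exact a₁ a₂ hinj hsurj hex

/-- Let (A, m) be a Noetherian normal local domain of dimension two, and X, X' integral schemes proper
over Spec A, each an isomorphism over some nonempty open of Spec A (modifications), with X normal,
and g : X' → X a morphism over Spec A. Then R^1 g_* O_{X'} is generated by global sections and its
support is a finite set of closed points of X, and there is a short exact sequence 0 → H^1(X, O_X) →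
H^1(X', O_{X'}) → H^0(X, R^1 g_* O_{X'}) → 0, recorded here as the additivity of A-lengths. (R^1 g_*
is the right derived functor of g_* on O-modules; that O_{X'}-modules have injective resolutions is
carried as an instance hypothesis.) -/
theorem result (A : Type u) [CommRing A] [IsDomain A] [IsLocalRing A] [IsNoetherianRing A]
    [IsIntegrallyClosed A] (hdim : ringKrullDim A = 2)
    (X X' : Scheme.{u}) [X.Over (Spec (CommRingCat.of A))] [X'.Over (Spec (CommRingCat.of A))]
    [IsProper (X ↘ Spec (CommRingCat.of A))] [IsProper (X' ↘ Spec (CommRingCat.of A))] [IsIntegral X] [IsIntegral X']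
    (hX : ∃ U : (Spec (CommRingCat.of A)).Opens, (U : Set (Spec (CommRingCat.of A))).Nonempty ∧ IsIso ((X ↘ Spec (CommRingCat.of A)) ∣_ U))
    (hX' : ∃ U : (Spec (CommRingCat.of A)).Opens, (U : Set (Spec (CommRingCat.of A))).Nonempty ∧ IsIso ((X' ↘ Spec (CommRingCat.of A)) ∣_ U))
    (hXn : Pi1.IsNormalScheme X) (g : X' ⟶ X) (hg : g ≫ (X ↘ Spec (CommRingCat.of A)) = X' ↘ Spec (CommRingCat.of A))
    [HasInjectiveResolutions X'.Modules] :
    Curv2.IsGloballyGenerated ((Coh.Rpush g 1).obj (Coh.structureModule X')) ∧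
      {x : X | Nontrivial (((Coh.Rpush g 1).obj (Coh.structureModule X')).presheaf.stalk x)}.Finite ∧
      (∀ x : X, Nontrivial (((Coh.Rpush g 1).obj (Coh.structureModule X')).presheaf.stalk x) → IsClosed ({x} : Set X)) ∧
      Module.length A (Coh.HH X' (Coh.structureModule X') 1) =
        Module.length A (Coh.HH X (Coh.structureModule X) 1) +
          Module.length A (Coh.HH X ((Coh.Rpush g 1).obj (Coh.structureModule X')) 0) := by
  let p := X ↘ Spec (CommRingCat.of A)
  let p' := X' ↘ Spec (CommRingCat.of A)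
  haveI : IsDomain (CommRingCat.of A) := inferInstanceAs (IsDomain A)
  haveI : IsNoetherianRing (CommRingCat.of A) := inferInstanceAs (IsNoetherianRing A)
  haveI : IsLocallyNoetherian X := LocallyOfFiniteType.isLocallyNoetherian p
  haveI : IsLocallyNoetherian X' := LocallyOfFiniteType.isLocallyNoetherian p'
  haveI : CompactSpace X := QuasiCompact.compactSpace_of_compactSpace p
  haveI : AlgebraicGeometry.IsNoetherian X := ⟨⟩
  haveI : X.IsSeparated := ⟨by rw [← Limits.terminal.comp_from p]; infer_instance⟩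
  haveI : IsProper (g ≫ p) := hg.symm ▸ ‹IsProper (X' ↘ Spec (CommRingCat.of A))›
  haveI : IsProper g := IsProper.of_comp g p
  obtain ⟨U₁, hU₁, hi₁⟩ := hX
  obtain ⟨U₂, hU₂, hi₂⟩ := hX'
  let W : (Spec (CommRingCat.of A)).Opens := U₁ ⊓ U₂
  have hW : (W : Set (Spec (CommRingCat.of A))).Nonempty :=
    ⟨genericPoint _, (genericPoint_specializes hU₁.some).mem_open U₁.2 hU₁.some_mem,
      (genericPoint_specializes hU₂.some).mem_open U₂.2 hU₂.some_mem⟩
  haveI hpW : IsIso (p ∣_ W) := haveI := hi₁; BMCohLib.isIso_restrict_le p (U := U₁) inf_le_left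
  haveI hpW' : IsIso ((g ≫ p) ∣_ W) := hg.symm ▸ (haveI := hi₂; BMCohLib.isIso_restrict_le p' (U := U₂) inf_le_right)
  have hV : ((p ⁻¹ᵁ W : X.Opens) : Set X).Nonempty := by
    obtain ⟨z, -⟩ := (p ∣_ W).surjective ⟨hW.some, hW.some_mem⟩
    exact ⟨z.1, z.2⟩
  haveI hgV : IsIso (g ∣_ (p ⁻¹ᵁ W)) := by
    have e := morphismRestrict_comp g p W
    haveI : IsIso (g ∣_ (p ⁻¹ᵁ W) ≫ p ∣_ W) := e ▸ hpW'
    exact IsIso.of_isIso_comp_right _ (p ∣_ W)
  -- dimensions
  have hA : ∀ s : Spec (CommRingCat.of A), ringKrullDim ((Spec (CommRingCat.of A)).presheaf.stalk s) ≤ 2 := fun s => by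
    refine (S1688.dim_le s).trans ?_
    exact (le_of_eq (PrimeSpectrum.topologicalKrullDim_eq_ringKrullDim A)).trans hdim.le
  have hbirp := ModifDimLib.isBirational_of_isIso p hW hpW
  have hS : ∀ x : X, ringKrullDim (X.presheaf.stalk x) ≤ 2 := fun x => (S18879.result p hbirp x).trans (hA _)
  have hd : topologicalKrullDim X ≤ 2 := by
    rw [ASp.topologicalKrullDim_eq_krullDim, Order.krullDim_eq_iSup_coheight_of_nonempty]
    refine WithBot.coe_le_coe.2 (iSup_le fun x => WithBot.coe_le_coe.1 ?_)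
    have h := hS x
    rwa [ringKrullDim_stalk_eq_coheight] at h
  let O' := Coh.structureModule X'
  let R1 := (Coh.Rpush g 1).obj O'
  have hcoh : Coh.IsCoh R1 := RpushLib.isCoh_rpush g (DevLib.isCoh_structureModule X') 1
  have hcl : IsClosed (CohB1.support R1) := PullbackMod.isClosed_support_of_isFT hcoh.2
  have hzero : ∀ x ∈ CohB1.support R1, IsClosed ({x} : Set X) := fun x hx => by
    refine S14058.isClosed_singleton_of_coheight hd fun h1 => hx ?_
    refine subsingleton_stalk g O' x fun t ht => fibre_dim_zero g hV hgV t ?_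
    rw [ringKrullDim_stalk_eq_coheight]
    exact WithBot.coe_le_coe.2 ((Order.coheight_anti (Scheme.le_iff_specializes.2 ht)).trans h1)
  have hd0 : topologicalKrullDim (CohB1.support R1) ≤ 0 := by
    haveI : QuasiSober (CohB1.support R1) := hcl.isClosedEmbedding_subtypeVal.quasiSober
    refine Order.krullDim_nonpos_iff_forall_isMax.2 fun a b hab => ?_
    obtain ⟨ξ, hξ⟩ := QuasiSober.sober b.2 b.3
    have hcl' : IsClosed ({ξ} : Set (CohB1.support R1)) := by
      have h := (hzero ξ.1 ξ.2).preimage (continuous_subtype_val (p := fun x => x ∈ CohB1.support R1))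
      have e : ((Subtype.val : CohB1.support R1 → X) ⁻¹' {ξ.1}) = {ξ} := Set.ext fun z => Subtype.ext_iff.symm
      rwa [e] at h
    have hb : (b : Set (CohB1.support R1)) = {ξ} := hξ.def.symm.trans hcl'.closure_eq
    intro z hz
    obtain ⟨y, hy⟩ := a.2.nonempty
    rw [← SetLike.mem_coe, hb, Set.mem_singleton_iff] at hz
    have := (hb ▸ hab hy : y ∈ ({ξ} : Set (CohB1.support R1)))
    rw [Set.mem_singleton_iff] at this
    exact hz ▸ this ▸ hy
  have hsupp : {x : X | Nontrivial (R1.presheaf.stalk x)} = CohB1.support R1 :=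
    Set.ext fun x => not_subsingleton_iff_nontrivial.symm
  refine ⟨CurveLib.isGloballyGenerated hcl hd0 R1 le_rfl, ?_, ?_, ?_⟩
  · rw [hsupp]
    exact CurveLib.finite_of_dim_le_zero hcl hd0
  · intro x hx
    exact hzero x (hsupp.le hx)
  haveI hu : IsIso (ClSub.unitToPush g) :=
    SurfPtBlow.isIso_unitToPush g ⟨_, hV, hgV⟩ fun z => (hXn z).2
  let u : Coh.structureModule X ≅ (Scheme.Modules.pushforward g).obj O' := asIso (ClSub.unitToPush g)
  have h2 : Subsingleton (HU (⊤ : X.Opens) (Coh.toAb ((Scheme.Modules.pushforward g).obj O')) 2) := by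
    haveI : Coh.IsQCoh O' := (DevLib.isCoh_structureModule X').1
    haveI : Coh.IsQCoh ((Scheme.Modules.pushforward g).obj O') := QCohLib.isQCoh_pushforward O' g
    exact FibreVanishQC.subsingleton_HU_affine p 1 (fun s => ModifDimLib.fibre_dim_le_one p hA hW hpW s) _ 1 le_rfl
  obtain ⟨eX⟩ := RpushLib.nonempty_hh_congr A u 1
  rw [eX.length_eq]
  exact length_H1 g hg O' h2

end Groth.Agent.S7338
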