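import Groth.Statements.S16303
import Groth.Agent.S16555
import Groth.Agent.S7338
import Groth.Agent.LefAmpleLib.Punctured
import Groth.Agent.FormalSysLib.Sections
import Groth.Agent.AmpleLib.Pullback
import Groth.Agent.SurfPtBlow.CartierPart
import Groth.Agent.CastLib.InterFibreClass
import Groth.Agent.CurveLib.FibreVanish
import Groth.Agent.BirQFLib.Conn
import Groth.Agent.RGBlowLib.Union.Shrink
import Groth.Agent.BCLib.RpushSec
import Groth.Agent.FormalLib.Main
import Groth.Agent.DCohLib.Restrict

set_option autoImplicit false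
universe u
open CategoryTheory CategoryTheory.Limits AlgebraicGeometry
open Resolve

namespace Groth.Agent.S16303

set_option backward.isDefEq.respectTransparency false
set_option linter.style.haveILetI false
set_option maxHeartbeats 1000000
set_option synthInstance.maxHeartbeats 200000
open TopologicalSpace Groth.Agent Groth.Agent.CohBase Groth.Agent.PullbackMod Groth.Agent.LefAmpleLib
open scoped TensorProduct

/-- Fibres of a morphism sitting inside another one. -/
theorem dim_fiber_le {X Y X' Y' : Scheme.{u}} (f : X ⟶ Y) (f' : X' ⟶ Y') (j : X' → X) (i : Y' → Y)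
    (hj : Topology.IsInducing j) (h : ∀ z, f (j z) = i (f' z)) (s : Y') {d : ℕ}
    (hd : topologicalKrullDim ↥(f.fiber (i s)) ≤ d) : topologicalKrullDim ↥(f'.fiber s) ≤ d := by
  rw [IsHomeomorph.topologicalKrullDim_eq _ (f'.fiberHomeo s).isHomeomorph]
  rw [IsHomeomorph.topologicalKrullDim_eq _ (f.fiberHomeo (i s)).isHomeomorph] at hd
  let ι : ↥(f'.base ⁻¹' {s}) → ↥(f.base ⁻¹' {i s}) := fun z => ⟨j z.1, (h z.1).trans (congrArg i z.2)⟩
  refine le_trans (Topology.IsInducing.topologicalKrullDim_le (f := ι) ?_) hd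
  exact Topology.IsInducing.of_comp ((hj.continuous.comp continuous_subtype_val).subtype_mk _) continuous_subtype_val
    (hj.comp Topology.IsInducing.subtypeVal)

/-- Fibres over an open over which the morphism is an isomorphism. -/
theorem dim_fiber_zero {S X : Scheme.{u}} (π : S ⟶ X) (U : X.Opens) (h : IsIso (π ∣_ U)) (y : X) (hy : y ∈ U) :
    topologicalKrullDim ↥(π.fiber y) ≤ (0 : ℕ) := by
  rw [IsHomeomorph.topologicalKrullDim_eq _ (π.fiberHomeo y).isHomeomorph]
  haveI := h
  have hbij : Function.Bijective (π ∣_ U) := (Scheme.Hom.homeomorph (π ∣_ U)).bijective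
  haveI : Subsingleton ↥(π.base ⁻¹' {y}) := ⟨fun a b => by
    have ha : π a.1 ∈ U := by rw [show π a.1 = y from a.2]; exact hy
    have hb : π b.1 ∈ U := by rw [show π b.1 = y from b.2]; exact hy
    have e := hbij.1 (a₁ := (⟨a.1, ha⟩ : (π ⁻¹ᵁ U : S.Opens))) (a₂ := (⟨b.1, hb⟩ : (π ⁻¹ᵁ U : S.Opens)))
      (Subtype.ext (by simp only [morphismRestrict_base_coe]; exact a.2.trans b.2.symm))
    exact Subtype.ext (congrArg Subtype.val e :)⟩
  haveI : Subsingleton (IrreducibleCloseds ↥(π.base ⁻¹' {y})) := ⟨fun a b => SetLike.coe_injective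
    ((Set.subsingleton_of_subsingleton.eq_empty_or_singleton).elim
      (fun h => absurd h a.isIrreducible.nonempty.ne_empty) fun ⟨x, hx⟩ => hx.trans (by
        obtain ⟨z, hz⟩ := b.isIrreducible.nonempty
        exact (Set.eq_singleton_iff_unique_mem.2 ⟨Subsingleton.elim z x ▸ hz, fun _ _ => Subsingleton.elim _ _⟩).symm))⟩
  exact Order.krullDim_nonpos_of_subsingleton

/-- Vanishing on a closed subscheme inside an open does not depend on the open. -/
theorem subsingleton_comap_open_iff {Y S : Scheme.{u}} (U : Y.Opens) [IsLocallyNoetherian Y] [IsAffine S]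
    (c : (U : Scheme.{u}) ⟶ S) [IsProper c] (hd : ∀ s, topologicalKrullDim ↥(c.fiber s) ≤ (1 : ℕ))
    (W : Y.IdealSheafData) (hW : (W.support : Set Y) ⊆ U) :
    Subsingleton (Coh.HH (W.comap U.ι).subscheme (Coh.structureModule _) 1) ↔
      Subsingleton (Coh.HH Y (ClSub.quotMod W) 1) := by
  let l : (W.comap U.ι).subscheme ⟶ W.subscheme := (W.comapIso U.ι).hom ≫ pullback.snd U.ι W.subschemeι
  haveI : Surjective (pullback.snd U.ι W.subschemeι) := ⟨fun t => by
    have : t ∈ Set.range (pullback.snd U.ι W.subschemeι) := by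
      rw [Scheme.Pullback.range_snd, Set.mem_preimage, Scheme.Opens.range_ι]
      exact hW (W.range_subschemeι.le ⟨t, rfl⟩)
    exact this⟩
  haveI : IsIso (pullback.snd U.ι W.subschemeι) := by
    rw [isIso_iff_isOpenImmersion_and_epi_base]
    exact ⟨inferInstance, (TopCat.epi_iff_surjective _).2 (pullback.snd U.ι W.subschemeι).surjective⟩
  haveI : IsIso l := inferInstanceAs (IsIso (_ ≫ _))
  let c' : (W.comap U.ι).subscheme ⟶ S := (W.comap U.ι).subschemeι ≫ c
  haveI : IsProper c' := inferInstanceAs (IsProper (_ ≫ _))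
  have hd' : ∀ s, topologicalKrullDim ↥(c'.fiber s) ≤ (1 : ℕ) := fun s =>
    dim_fiber_le c c' _ id (W.comap U.ι).subschemeι.isEmbedding.isInducing (fun _ => rfl) s (hd s)
  let c'' : W.subscheme ⟶ S := inv l ≫ c'
  haveI : IsProper c'' := inferInstanceAs (IsProper (_ ≫ _))
  have hd'' : ∀ s, topologicalKrullDim ↥(c''.fiber s) ≤ (1 : ℕ) := fun s =>
    dim_fiber_le c' c'' _ id (inv l).isEmbedding.isInducing (fun _ => rfl) s (hd' s)
  haveI : IsLocallyNoetherian W.subscheme := LocallyOfFiniteType.isLocallyNoetherian W.subschemeι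
  haveI : IsLocallyNoetherian (W.comap U.ι).subscheme :=
    LocallyOfFiniteType.isLocallyNoetherian (W.comap U.ι).subschemeι
  obtain ⟨e, -⟩ := ProperFin.exists_pushEquiv W.subschemeι (M := Coh.structureModule W.subscheme)
    (fun V hV m => haveI : Coh.IsQCoh (Coh.structureModule W.subscheme) := CohBase.isQCoh_structureModule
      affine_vanishing (Coh.structureModule W.subscheme) (hV.preimage W.subschemeι) m) 1
  refine Iff.trans ⟨fun h => ?_, fun h => ?_⟩
    ⟨fun h => @Equiv.subsingleton _ _ e.symm.toEquiv h, fun h => @Equiv.subsingleton _ _ e.toEquiv h⟩ <;>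
    haveI := h
  · exact S16555.subsingleton_HH_closed (inv l) c' hd'
  · exact S16555.subsingleton_HH_closed l c'' hd''

section Local

variable {A : Type u} [CommRing A] {X : Scheme.{u}} [X.Over (Spec (CommRingCat.of A))]

/-- The ideal sheaf of `V(J)` upstairs. -/
noncomputable def idealS (X : Scheme.{u}) [X.Over (Spec (CommRingCat.of A))] (J : Ideal A) : X.IdealSheafData :=
  ((Spec.map (CommRingCat.ofHom (Ideal.Quotient.mk J))).ker).comap (X ↘ Spec (CommRingCat.of A))

/-- The stalk of a constant. -/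
noncomputable abbrev gerS (x : X) : A →+* X.presheaf.stalk x :=
  (X.presheaf.germ ⊤ x trivial).hom.comp (Coh.toGlobal (X ↘ Spec (CommRingCat.of A)))

theorem stalkIdeal_idealS (J : Ideal A) (x : X) : IntMult.stalkIdeal (idealS X J) x = J.map (gerS x) := by
  let p := X ↘ Spec (CommRingCat.of A)
  let q := Spec.map (CommRingCat.ofHom (Ideal.Quotient.mk J))
  haveI : IsClosedImmersion q := IsClosedImmersion.spec_of_surjective _ Ideal.Quotient.mk_surjective
  let T : (Spec (CommRingCat.of A)).affineOpens := ⟨⊤, isAffineOpen_top _⟩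
  have hker : q.ker.ideal T = J.map (Scheme.ΓSpecIso (CommRingCat.of A)).inv.hom := by
    rw [Scheme.Hom.ker_apply]
    have key : ∀ a : A, q.app ⊤ ((Scheme.ΓSpecIso (CommRingCat.of A)).inv a) =
        (Scheme.ΓSpecIso (CommRingCat.of (A ⧸ J))).inv (Ideal.Quotient.mk _ a) := fun a =>
      (congr($(Scheme.ΓSpecIso_inv_naturality (CommRingCat.ofHom (Ideal.Quotient.mk J))) a)).symm
    have hbij := ConcreteCategory.bijective_of_isIso (Scheme.ΓSpecIso (CommRingCat.of A)).inv
    ext b
    obtain ⟨a, rfl⟩ : ∃ a, (Scheme.ΓSpecIso (CommRingCat.of A)).inv a = b := hbij.2 b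
    rw [RingHom.mem_ker]
    constructor
    · intro hb
      have h0 : Ideal.Quotient.mk J a = 0 :=
        (ConcreteCategory.bijective_of_isIso (Scheme.ΓSpecIso (CommRingCat.of (A ⧸ J))).inv).1
          (((key a).symm.trans hb).trans (map_zero _).symm)
      exact Ideal.mem_map_of_mem _ (Ideal.Quotient.eq_zero_iff_mem.1 h0)
    · intro hb
      obtain ⟨c, hc, hca⟩ := (Ideal.mem_map_iff_of_surjective _ hbij.2).1 hb
      obtain rfl := hbij.1 hca
      refine (key c).trans ?_
      rw [Ideal.Quotient.eq_zero_iff_mem.2 hc, map_zero]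
  rw [idealS, IdealStalkLib.stalkIdeal_comap, IdealStalkLib.stalkIdeal_eq _ T (p x) trivial, hker, Ideal.map_map,
    Ideal.map_map]
  exact congrArg (fun φ : A →+* _ => J.map φ) (RingHom.ext fun a => Scheme.Hom.germ_stalkMap_apply p ⊤ x trivial _)

/-- Cohomology modulo a power vanishes when a bigger closed subscheme has none. -/
theorem subsingleton_modPow [IsProper (X ↘ Spec (CommRingCat.of A))] [IsNoetherianRing A]
    (hd : ∀ s, topologicalKrullDim ↥((X ↘ Spec (CommRingCat.of A)).fiber s) ≤ (1 : ℕ)) (𝔪 : Ideal A) (n : ℕ)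
    (K : X.IdealSheafData) (hK : K ≤ idealS X (𝔪 ^ n))
    [Subsingleton (Coh.HH K.subscheme (Coh.structureModule _) 1)] :
    Subsingleton (Coh.HH X (Formal.modPow 𝔪 n (Coh.structureModule X)) 1) := by
  haveI : IsLocallyNoetherian X := LocallyOfFiniteType.isLocallyNoetherian (X ↘ Spec (CommRingCat.of A))
  haveI : CompactSpace X := QuasiCompact.compactSpace_of_compactSpace (X ↘ Spec (CommRingCat.of A))
  haveI : IsNoetherian X := ⟨⟩
  let O := Coh.structureModule X
  let π := Formal.modPowπ 𝔪 n O
  let f := ClSub.toSubscheme K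
  haveI := HilbObsLib.epi_toSubscheme K
  haveI : Epi π := inferInstanceAs (Epi (cokernel.π _))
  have h2 : kernel.ι f ≫ π = 0 := kernel_comp_eq_zero _ _ fun x z hz => by
    obtain ⟨c, rfl⟩ := (ParaFLib.bijective_oneG x).2 z
    have hc : c ∈ (𝔪 ^ n).map (gerS x) := stalkIdeal_idealS (𝔪 ^ n) x ▸
      H1ZeroLib.stalkIdeal_mono hK x ((H1ZeroLib.qv_eq_zero_iff K x c).1 hz)
    show (stalkLin π x ∘ₗ LinearMap.toSpanSingleton _ _ (ParaFLib.oneG x)) c = 0
    refine LinearMap.mem_ker.1 ((Ideal.span_le.2 ?_ : (𝔪 ^ n).map (gerS x) ≤ LinearMap.ker _) hc)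
    rintro _ ⟨a, ha, rfl⟩
    have h0 : Formal.smulMod A O a ≫ π = 0 := by
      have := congrArg (fun w => Sigma.ι (fun _ : ↥(𝔪 ^ n) => O) ⟨a, ha⟩ ≫ w)
        (cokernel.condition (Formal.smulFamily (𝔪 ^ n) O))
      simp only [comp_zero, Formal.smulFamily, Sigma.ι_desc_assoc] at this
      exact this
    have h3 := congr(stalkLin $h0 x (ParaFLib.oneG x))
    rw [DevLib.stalkLin_zero, LinearMap.zero_apply, stalkLin_comp, LinearMap.comp_apply, Formal.smulMod,
      BCLib.stalkLin_smulModΓ, map_smul] at h3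
    show stalkLin π x (gerS x a • ParaFLib.oneG x) = 0
    rw [map_smul]
    exact h3
  let b : ClSub.quotMod K ⟶ Formal.modPow 𝔪 n O := Abelian.epiDesc f π h2
  have hb : f ≫ b = π := Abelian.comp_epiDesc _ _ _
  haveI : Epi b := epi_of_epi_fac hb
  let S' : ShortComplex X.Modules := ShortComplex.mk (kernel.ι b) b (kernel.condition _)
  have hS : S'.ShortExact := by
    haveI : Mono S'.f := inferInstanceAs (Mono (kernel.ι b))
    haveI : Epi S'.g := inferInstanceAs (Epi b)
    exact ShortComplex.ShortExact.mk'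
      (ShortComplex.exact_of_f_is_kernel _ (kernelIsKernel b)) inferInstance inferInstance
  haveI : Coh.IsQCoh (Coh.structureModule K.subscheme) := CohBase.isQCoh_structureModule
  haveI hq : Coh.IsQCoh (ClSub.quotMod K) := QCohLib.isQCoh_pushforward (Coh.structureModule K.subscheme) K.subschemeι
  haveI hm : Coh.IsQCoh (Formal.modPow 𝔪 n O) := (FormalSys.isCoh_modPow (DevLib.isCoh_structureModule X) 𝔪 n).1
  haveI : Coh.IsQCoh S'.X₁ := (QCohLib.isQCoh_image b hq hm).1
  obtain ⟨e, -⟩ := ProperFin.exists_pushEquiv K.subschemeι (M := Coh.structureModule K.subscheme)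
    (fun V hV m => affine_vanishing (Coh.structureModule K.subscheme) (hV.preimage K.subschemeι) m) 1
  haveI : Subsingleton (HU (⊤ : X.Opens) (S'.map (QCohLib.toAbF X)).X₂ 1) :=
    (e.trans (HHEquiv (ClSub.quotMod K) 1)).symm.toEquiv.subsingleton
  haveI : Subsingleton (HU (⊤ : X.Opens) (S'.map (QCohLib.toAbF X)).X₁ (1 + 1)) :=
    FibreVanishQC.subsingleton_HU_affine (X ↘ Spec (CommRingCat.of A)) 1 hd S'.X₁ 1 le_rfl
  haveI : Subsingleton (HU (⊤ : X.Opens) (Coh.toAb (Formal.modPow 𝔪 n O)) 1) :=
    subsingleton_quot (QCohLib.toAb_shortExact hS) (⊤ : X.Opens) 1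
  exact (HHEquiv (Formal.modPow 𝔪 n O) 1).toEquiv.subsingleton

end Local

/-- A tensor product dies when a unit of the algebra kills the module. -/
theorem subsingleton_tensor {A O H : Type u} [CommRing A] [CommRing O] [Algebra A O] [AddCommGroup H] [Module A H]
    (r : A) (hu : IsUnit (algebraMap A O r)) (h : ∀ x : H, r • x = 0) : Subsingleton (O ⊗[A] H) := by
  refine subsingleton_of_forall_eq 0 fun z => ?_
  induction z using TensorProduct.induction_on with
  | zero => rfl
  | add a b ha hb => rw [ha, hb, add_zero]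
  | tmul a x =>
    obtain ⟨v, hv⟩ := hu
    have : a = r • ((↑v⁻¹ : O) * a) := by rw [Algebra.smul_def, ← hv, Units.mul_inv_cancel_left]
    rw [this, TensorProduct.smul_tmul, h, TensorProduct.tmul_zero]


/-- Let k be a field and X a normal surface over k (an integral normal scheme, separated and of finite
type over k, of dimension two) whose only non-regular point is the closed point P. Let f : Y → X be
a resolution: a proper morphism from an integral scheme Y of dimension two with all local rings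
regular, restricting to an isomorphism over the complement of P. Then R^1 f_* O_Y = 0 (first higher
direct image of abelian sheaves), that is, P is a rational singularity, if and only if H^1(W, O_W) =
0 for every nonzero effective Cartier divisor W on Y (quasi-coherent ideal sheaf that is an
invertible module, with nonempty support) which is f-exceptional, that is, supported in the fibre of
f over P. (The published statement also has a third equivalent condition, the vanishing of H^1 of
the structure sheaf of the fundamental cycle of f, not restated here.) -/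
theorem result (k : Type u) [Field k] (X : Scheme.{u}) [X.Over (Spec (CommRingCat.of k))]
    [IsIntegral X] [IsSeparated (X ↘ (Spec (CommRingCat.of k)))] [LocallyOfFiniteType (X ↘ (Spec (CommRingCat.of k)))]
    [CompactSpace X] (hdim : topologicalKrullDim X = 2) (hnorm : Pi1.IsNormalScheme X)
    (P : X) (hPc : IsClosed ({P} : Set X)) (hP : ¬ IsRegularLocalRing (X.presheaf.stalk P))
    (hreg : ∀ x : X, x ≠ P → IsRegularLocalRing (X.presheaf.stalk x))
    (Y : Scheme.{u}) (f : Y ⟶ X) [IsIntegral Y] (hdimY : topologicalKrullDim Y = 2)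
    (hregY : ∀ y : Y, IsRegularLocalRing (Y.presheaf.stalk y)) [IsProper f]
    (hiso : IsIso (f ∣_ ⟨({P} : Set X)ᶜ, hPc.isOpen_compl⟩)) :
    IsZero ((Coh.RpushAb f 1).obj (Coh.toAb (Coh.structureModule Y))) ↔
      ∀ W : Y.IdealSheafData, PicF.IsInvertible (ClSub.idealMod W) → (W.support : Set Y).Nonempty →
        (W.support : Set Y) ⊆ f.base ⁻¹' {P} → Subsingleton (Coh.HH Y (ClSub.quotMod W) 1) := by
  classical
  -- basics
  haveI : IsLocallyNoetherian X := LocallyOfFiniteType.isLocallyNoetherian (X ↘ Spec (CommRingCat.of k))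
  haveI : IsNoetherian X := ⟨⟩
  haveI : X.IsSeparated := ⟨by rw [← Limits.terminal.comp_from (X ↘ Spec (CommRingCat.of k))]; infer_instance⟩
  haveI : IsLocallyNoetherian Y := LocallyOfFiniteType.isLocallyNoetherian f
  haveI : CompactSpace Y := QuasiCompact.compactSpace_of_compactSpace f
  haveI : IsNoetherian Y := ⟨⟩
  let U : X.Opens := ⟨({P} : Set X)ᶜ, hPc.isOpen_compl⟩
  have hU : (U : Set X).Nonempty := by
    by_contra hne
    have h0 : ∀ x : X, x = P := fun x => by_contra fun h => hne ⟨x, h⟩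
    haveI : Subsingleton X := ⟨fun a b => (h0 a).trans (h0 b).symm⟩
    haveI : Subsingleton (IrreducibleCloseds X) := ⟨fun a b => SetLike.coe_injective
      ((Set.Nonempty.eq_univ a.isIrreducible.nonempty).trans (Set.Nonempty.eq_univ b.isIrreducible.nonempty).symm)⟩
    have h2 : topologicalKrullDim X ≤ 0 := Order.krullDim_nonpos_of_subsingleton
    rw [hdim] at h2
    exact absurd h2 (by decide)
  have hSdim : ∀ s : X, ringKrullDim (X.presheaf.stalk s) ≤ 2 := fun s => (S1688.dim_le s).trans hdim.le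
  have hfib1 := ModifDimLib.fibre_dim_le_one f hSdim hU hiso
  obtain ⟨hgen, hbir⟩ := BirQFLib.birational_of_isIso_restrict f U hU hiso
  obtain ⟨_, ⟨V : X.Opens, hV, rfl⟩, (hPV : P ∈ V), -⟩ :=
    X.isBasis_affineOpens.exists_subset_of_mem_open (Set.mem_univ P) isOpen_univ
  let YV : Scheme.{u} := (f ⁻¹ᵁ V).toScheme
  letI : YV.Over (Spec (CommRingCat.of Γ(X, V))) := ⟨BCLib.restOver f hV⟩
  let c : YV ⟶ Spec Γ(X, V) := BCLib.restOver f hV
  haveI : IsProper c := BCLib.isProper_restOver f hV
  haveI : IsProper (YV ↘ Spec (CommRingCat.of Γ(X, V))) := BCLib.isProper_restOver f hV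
  haveI : IsLocallyNoetherian YV := LocallyOfFiniteType.isLocallyNoetherian (f ⁻¹ᵁ V).ι
  haveI : CompactSpace YV := isCompact_iff_compactSpace.mp (f.isCompact_preimage hV.isCompact)
  haveI : IsNoetherian YV := ⟨⟩
  haveI : IsNoetherianRing Γ(X, V) := IsLocallyNoetherian.component_noetherian ⟨V, hV⟩
  have hfc : ∀ z : YV, f ((f ⁻¹ᵁ V).ι z) = hV.fromSpec (c z) := fun z => by
    rw [← Scheme.Hom.comp_apply, (BCLib.isPullback_restOver f hV).w, Scheme.Hom.comp_apply]
  have hd : ∀ s, topologicalKrullDim ↥(c.fiber s) ≤ (1 : ℕ) := fun s =>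
    dim_fiber_le f c _ hV.fromSpec (f ⁻¹ᵁ V).ι.isEmbedding.isInducing hfc s (hfib1 _)
  have hFV : (f.base ⁻¹' {P} : Set Y) ⊆ (f ⁻¹ᵁ V : Y.Opens) := fun y hy =>
    show f y ∈ V from (show f y = P from hy) ▸ hPV
  let M := Coh.structureModule Y
  have hM : Coh.IsCoh M := DevLib.isCoh_structureModule Y
  haveI : Coh.IsQCoh M := hM.1
  haveI : HasInjectiveResolutions Y.Modules := inferInstance
  constructor
  · intro h W _ _ hWs
    have hz : IsZero ((Coh.Rpush f 1).obj M) := by
      have h' : IsZero ((QCohLib.toAbF X).obj ((Coh.Rpush f 1).obj M)) := h.of_iso ((RpushLib.toAbRpushIso f 1).app M)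
      rw [IsZero.iff_id_eq_zero] at h' ⊢
      exact (QCohLib.toAbF X).map_injective ((((QCohLib.toAbF X).map_id _).trans h').trans ((QCohLib.toAbF X).map_zero _ _).symm)
    haveI : Subsingleton Γ((Coh.Rpush f 1).obj M, V) := subsingleton_of_forall_eq 0 fun x => by
      have := congr(($(hz.eq_of_src (𝟙 _) 0)).app V x)
      simpa using this
    obtain ⟨e⟩ := BCLib.nonempty_rpush_sections f (M := M) 1 hV
    haveI : Subsingleton (Coh.HH YV (BCLib.restMod f M) 1) := e.symm.toEquiv.subsingleton
    obtain ⟨e2⟩ := RpushLib.nonempty_hh_congr Γ(X, V) (AmpleLib.pullO (f ⁻¹ᵁ V).ι) 1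
    haveI : Subsingleton (Coh.HH YV (Coh.structureModule YV) 1) := e2.symm.toEquiv.subsingleton
    exact (subsingleton_comap_open_iff (f ⁻¹ᵁ V) c hd W (hWs.trans hFV)).1
      (S16555.subsingleton_HH_closed (W.comap (f ⁻¹ᵁ V).ι).subschemeι c hd)
  intro hW
  have hz : IsZero ((Coh.Rpush f 1).obj M) := GrothBddLib.isZero_of_stalks fun x => by
    by_cases hx : x ∈ U
    · refine S7338.subsingleton_stalk f M x fun t ht => dim_fiber_zero f U hiso t ?_
      intro htP
      exact hx (ht.mem_closed hPc htP)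
    have hxP : x = P := not_not.1 hx
    subst hxP
    -- the exceptional divisor
    have hiso0 : ∀ q : ↥(f.fiber x), ¬ IsOpen ({q} : Set ↥(f.fiber x)) := fun q hq => by
      obtain ⟨hfq, hqf⟩ := BirQFLib.qf_of_isolated f q hq
      obtain ⟨N, hN, hNi⟩ := BirQFLib.exists_nhd_isIso_of_normal_stalk f hgen hbir (f.fiberι x q)
        (hnorm _).2 hqf
      haveI := hNi
      haveI : IsIso (f.stalkMap (f.fiberι x q)) :=
        ((MorphismProperty.isomorphisms CommRingCat).arrow_mk_iso_iff
          (morphismRestrictStalkMap f N ⟨f.fiberι x q, hN⟩)).1 (inferInstanceAs (IsIso _))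
      haveI := hregY (f.fiberι x q)
      have := IsRegularLocalRing.of_ringEquiv (asIso (f.stalkMap (f.fiberι x q))).commRingCatIsoToRingEquiv.symm
      rw [hfq] at this
      exact hP this
    let I := Scheme.IdealSheafData.vanishingIdeal (⟨f.base ⁻¹' {x}, hPc.preimage f.continuous⟩ : Closeds Y)
    have hIs : (I.support : Set Y) = f.base ⁻¹' {x} := Scheme.IdealSheafData.coe_support_vanishingIdeal _
    have hne : I ≠ ⊥ := fun hI => by
      have : genericPoint Y ∈ f.base ⁻¹' {x} := by rw [← hIs, hI]; simp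
      obtain ⟨z, hz⟩ := hU
      have h1 : genericPoint X ∈ U := (genericPoint_specializes z).mem_open U.2 hz
      exact h1 (hgen.symm.trans this)
    obtain ⟨D, K, hD, hIDK, hKfin, hKpts⟩ := SurfPtBlow.exists_cartier_mul hregY hdimY.le I hne
    have hsupp : (I.support : Set Y) = (K.support : Set Y) ∪ (D.support : Set Y) := by
      rw [hIDK]; simp [Scheme.IdealSheafData.support_mul]
    have hDF : f.base ⁻¹' {x} ⊆ (D.support : Set Y) := fun y hy => by
      by_contra hyD
      rw [← hIs, hsupp] at hy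
      have hyK : y ∈ (K.support : Set Y) := hy.resolve_right hyD
      have hyF : y ∈ f.base ⁻¹' {x} := by rw [← hIs, hsupp]; exact Or.inl hyK
      obtain ⟨q, rfl⟩ : y ∈ Set.range (f.fiberι x) := (f.range_fiberι x).symm ▸ hyF
      refine hiso0 q ?_
      have hcl : IsClosed ((K.support : Set Y) \ {f.fiberι x q}) := by
        rw [← Set.biUnion_of_singleton ((K.support : Set Y) \ {f.fiberι x q})]
        exact (hKfin.subset Set.sdiff_subset).isClosed_biUnion fun z hz => (hKpts z hz.1).1
      have he : ({q} : Set ↥(f.fiber x)) =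
          f.fiberι x ⁻¹' ((D.support : Set Y) ∪ ((K.support : Set Y) \ {f.fiberι x q}))ᶜ := by
        ext p
        constructor
        · rintro rfl
          rintro (h | ⟨-, h⟩)
          · exact hyD h
          · exact h rfl
        · intro hp
          have hpF : f.fiberι x p ∈ f.base ⁻¹' {x} := (f.range_fiberι x).le ⟨p, rfl⟩
          rw [← hIs, hsupp] at hpF
          by_contra hne
          rcases hpF with h | h
          · exact hp (Or.inr ⟨h, fun h' => hne ((f.fiberι x).isEmbedding.injective h')⟩)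
          · exact hp (Or.inl h)
      rw [he]
      exact ((D.support.isClosed.union hcl).isOpen_compl).preimage (f.fiberι x).continuous
    have hDsub : (D.support : Set Y) ⊆ f.base ⁻¹' {x} := by
      rw [← hIs, hsupp]; exact Set.subset_union_right
    have hFne : (f.base ⁻¹' {x}).Nonempty := by
      have hcl : IsClosed (Set.range f) := f.isClosedMap.isClosed_range
      have hr : Set.range f = Set.univ := hcl.closure_eq.symm.trans (BirQFLib.denseRange_generic f hgen).closure_range
      obtain ⟨y, hy⟩ : x ∈ Set.range f := hr.symm ▸ Set.mem_univ x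
      exact ⟨y, hy⟩
    have hDpow : ∀ m : ℕ, BlowUp.IsEffCartierIdeal (D ^ (m + 1)) := fun m => by
      induction m with
      | zero => rw [pow_one]; exact hD
      | succ m ih => rw [pow_succ]; exact BlowCompLib.isEffCartier_mul ih hD
    have hDs : ∀ m : ℕ, ((D ^ (m + 1)).support : Set Y) = (D.support : Set Y) := fun m => by
      induction m with
      | zero => rw [pow_one]
      | succ m ih => rw [pow_succ]; simp [Scheme.IdealSheafData.support_mul, ih]
    -- cohomology modulo powers of the point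
    let 𝔪 : Ideal Γ(X, V) := (hV.primeIdealOf ⟨x, hPV⟩).asIdeal
    have h𝔪 : 𝔪.IsMaximal := by
      refine (PrimeSpectrum.isClosed_singleton_iff_isMaximal (hV.primeIdealOf ⟨x, hPV⟩)).1 ?_
      have := hPc.preimage hV.fromSpec.continuous
      suffices heq : ({hV.primeIdealOf ⟨x, hPV⟩} : Set (PrimeSpectrum Γ(X, V))) = hV.fromSpec ⁻¹' {x} by
        rw [heq]; exact this
      refine Set.ext fun p => ?_
      refine ⟨fun hp => ?_, fun hp => ?_⟩
      · obtain rfl := hp; exact hV.fromSpec_primeIdealOf ⟨x, hPV⟩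
      · exact hV.fromSpec.isOpenEmbedding.injective ((show hV.fromSpec p = x from hp).trans (hV.fromSpec_primeIdealOf ⟨x, hPV⟩).symm)
    let O := Coh.structureModule YV
    have hO : Coh.IsCoh O := DevLib.isCoh_structureModule YV
    haveI : ∀ n, Subsingleton (Formal.HHmodPow 𝔪 O 1 n) := fun n => by
      have hsub : ((idealS YV (𝔪 ^ (n + 1))).support : Set YV) ⊆ ((D.comap (f ⁻¹ᵁ V).ι).support : Set YV) := by
        intro z hz
        rw [idealS, Scheme.IdealSheafData.support_comap] at hz
        rw [Scheme.IdealSheafData.support_comap]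
        refine hDF (show f ((f ⁻¹ᵁ V).ι z) = x from ?_)
        rw [hfc z]
        have hz' : c z ∈ PrimeSpectrum.zeroLocus (↑(𝔪 ^ (n + 1)) : Set Γ(X, V)) := by
          haveI : IsClosedImmersion (Spec.map (CommRingCat.ofHom (Ideal.Quotient.mk (𝔪 ^ (n + 1))))) :=
            IsClosedImmersion.spec_of_surjective _ Ideal.Quotient.mk_surjective
          have h1 : c z ∈ (Spec.map (CommRingCat.ofHom (Ideal.Quotient.mk (𝔪 ^ (n + 1))))).ker.support := hz
          rw [← SetLike.mem_coe, Scheme.Hom.support_ker] at h1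
          have h2 := h1
          rw [(Spec.map (CommRingCat.ofHom (Ideal.Quotient.mk (𝔪 ^ (n + 1))))).isClosedEmbedding.isClosed_range.closure_eq] at h2
          have h3 : c z ∈ Set.range (PrimeSpectrum.comap (Ideal.Quotient.mk (𝔪 ^ (n + 1)))) := h2
          rwa [range_comap_of_surjective _ _ Ideal.Quotient.mk_surjective, Ideal.mk_ker] at h3
        rw [PrimeSpectrum.zeroLocus_pow _ (Nat.succ_ne_zero n), PrimeSpectrum.mem_zeroLocus] at hz'
        have : c z = hV.primeIdealOf ⟨x, hPV⟩ :=
          PrimeSpectrum.ext (h𝔪.eq_of_le (c z).2.ne_top hz').symm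
        rw [this, hV.fromSpec_primeIdealOf]
      obtain ⟨m, hm⟩ := RGBlowLib.Union.exists_pow_le _ _ hsub
      rw [← RGBlowLib.Union.comap_pow] at hm
      haveI := (subsingleton_comap_open_iff (f ⁻¹ᵁ V) c hd (D ^ (m + 1))
        ((hDs m).le.trans (hDsub.trans hFV))).2 (hW _ (CastLib.isInvertible_idealMod (hDpow m))
          (by rw [hDs m]; exact hFne.mono hDF) ((hDs m).le.trans hDsub))
      exact subsingleton_modPow hd 𝔪 (n + 1) _ hm
    haveI : Module.Finite Γ(X, V) (Coh.HH YV O 1) :=
      ProperFin.allFin_of_isCoh (A := Γ(X, V)) (YV ↘ Spec (CommRingCat.of Γ(X, V))) O hO 1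
    obtain ⟨Ψ, hΨ, -⟩ := FormalLib.exists_comparison 𝔪 hO 1
    haveI : Subsingleton (AdicCompletion 𝔪 (Coh.HH YV O 1)) :=
      ⟨fun a b => hΨ.1 (Subtype.ext (funext fun n => Subsingleton.elim _ _))⟩
    have hle : (⊤ : Submodule Γ(X, V) (Coh.HH YV O 1)) ≤ 𝔪 • ⊤ := fun z _ => by
      have h := congrArg (fun w : AdicCompletion 𝔪 (Coh.HH YV O 1) => w.val 1)
        (Subsingleton.elim (AdicCompletion.of 𝔪 (Coh.HH YV O 1) z) 0)
      simp only [AdicCompletion.of_apply, AdicCompletion.val_zero_apply] at h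
      simpa only [pow_one] using (Submodule.Quotient.mk_eq_zero _).1 h
    obtain ⟨r, hr, hrz⟩ := Submodule.exists_sub_one_mem_and_smul_eq_zero_of_fg_of_le_smul 𝔪 ⊤ Module.Finite.fg_top hle
    obtain ⟨e⟩ := RpushLib.nonempty_stalk_tensor f M x 1 hV hPV
    obtain ⟨e2⟩ := RpushLib.nonempty_hh_congr Γ(X, V) (DCohLib.restrictUnit (f ⁻¹ᵁ V).ι) 1
    letI : Algebra Γ(X, V) (X.presheaf.stalk x) := (X.presheaf.germ V x hPV).hom.toAlgebra
    letI : Module Γ(X, V) (Coh.HH (f ⁻¹ᵁ V).toScheme (M.restrict (f ⁻¹ᵁ V).ι) 1) :=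
      Module.compHom _ (Coh.toGlobal (A := Γ(X, V)) ((f ∣_ V) ≫ hV.isoSpec.hom))
    haveI : IsLocalization.AtPrime (X.presheaf.stalk x) 𝔪 := hV.isLocalization_stalk ⟨x, hPV⟩
    have hru : IsUnit (algebraMap Γ(X, V) (X.presheaf.stalk x) r) :=
      IsLocalization.map_units (X.presheaf.stalk x) (⟨r, fun hr' => h𝔪.ne_top ((Ideal.eq_top_iff_one _).2
        (by simpa using 𝔪.sub_mem hr' hr))⟩ : 𝔪.primeCompl)
    haveI := subsingleton_tensor r hru (H := Coh.HH (f ⁻¹ᵁ V).toScheme (M.restrict (f ⁻¹ᵁ V).ι) 1) fun z =>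
      e2.injective ((map_smul e2 r z).trans ((hrz _ Submodule.mem_top).trans (map_zero e2).symm))
    exact e.toEquiv.subsingleton
  exact ((QCohLib.toAbF X).map_isZero hz).of_iso ((RpushLib.toAbRpushIso f 1).app M).symm

end Groth.Agent.S16303
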