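import Groth.Statements.S16304
import Groth.Agent.BirQFLib.Conn
import Groth.Agent.ParaFPullLib.Basic
import Groth.Agent.PicDefLib.Seq
import Groth.Agent.DVRCrit.Local

set_option autoImplicit false
universe u
open CategoryTheory CategoryTheory.Limits AlgebraicGeometry
open Resolve

namespace Groth.Agent.S16304

open CategoryTheory CategoryTheory.Limits AlgebraicGeometry

set_option backward.isDefEq.respectTransparency false
set_option backward.defeqAttrib.useBackward true
set_option linter.style.haveILetI false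


open Groth.Agent TopologicalSpace

theorem bijective_app_of_isIso_restrict {Y Z : Scheme.{u}} (f : Y ⟶ Z) (V : Z.Opens) [IsIso (f ∣_ V)]
    (U : Z.Opens) (hU : U ≤ V) : Function.Bijective (f.app U) := by
  have key : ∀ T : Z.Opens, T = U → Function.Bijective (f.app T) → Function.Bijective (f.app U) := by
    rintro T rfl h; exact h
  refine key (V.ι ''ᵁ (V.ι ⁻¹ᵁ U)) (by
    rw [Scheme.Hom.image_preimage_eq_opensRange_inf, Scheme.Opens.opensRange_ι, inf_eq_right.2 hU]) ?_
  have h : IsIso ((f ∣_ V).app (V.ι ⁻¹ᵁ U)) := inferInstance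
  rw [morphismRestrict_app] at h
  haveI := h
  haveI : IsIso (f.app (V.ι ''ᵁ (V.ι ⁻¹ᵁ U))) := IsIso.of_isIso_comp_right _ (Y.presheaf.map (eqToHom (image_morphismRestrict_preimage f V (V.ι ⁻¹ᵁ U))).op)
  exact ConcreteCategory.bijective_of_isIso _

/-- Sections of a proper birational morphism onto a normal scheme. -/
theorem bijective_app_of_normal_or_iso {Y Z : Scheme.{u}} [IsIntegral Y] [IsIntegral Z] (f : Y ⟶ Z) [IsProper f]
    (hbir : ∃ V : Z.Opens, (V : Set Z).Nonempty ∧ IsIso (f ∣_ V))
    (hn : ∀ z : Z, IsIntegrallyClosed (Z.presheaf.stalk z) ∨ ∃ V : Z.Opens, z ∈ V ∧ IsIso (f ∣_ V))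
    (O : Z.Opens) : Function.Bijective (f.app O) := by
  obtain ⟨V₀, hV₀, hiso⟩ := hbir
  obtain ⟨hgen, hst⟩ := BirQFLib.birational_of_isIso_restrict f V₀ hV₀ hiso
  refine ParaFPullLib.bijective_app_of_small_affine f (fun W => IsAffineOpen W ∧ (W : Set Z).Nonempty) ?_ ?_ O
  · intro O t ht
    obtain ⟨_, ⟨W : Z.Opens, hW, rfl⟩, htW, hWO⟩ :=
      Z.isBasis_affineOpens.exists_subset_of_mem_open (a := t) ht O.2
    exact ⟨W, ⟨hW, t, htW⟩, htW, hWO⟩
  rintro W ⟨hW, hne⟩
  haveI : Nonempty W := ⟨⟨hne.some, hne.some_mem⟩⟩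
  have hηW : genericPoint Z ∈ W := (genericPoint_specializes hne.some).mem_open W.2 hne.some_mem
  haveI : Nonempty (f ⁻¹ᵁ W) := ⟨⟨genericPoint Y, show f (genericPoint Y) ∈ W from hgen.symm ▸ hηW⟩⟩
  have hinj : Function.Injective (f.app W) := by
    intro a a' h
    apply Z.germToFunctionField_injective W
    haveI : IsIso (Z.presheaf.stalkSpecializes (specializes_of_eq hgen)) :=
      ⟨Z.presheaf.stalkSpecializes (specializes_of_eq hgen.symm), by simp, by simp⟩
    have hb' := (ConcreteCategory.bijective_of_isIso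
      (Z.presheaf.stalkSpecializes (specializes_of_eq hgen) ≫ f.stalkMap (genericPoint Y))).1
    apply hb'
    show f.stalkMap _ (Z.presheaf.stalkSpecializes _ (Z.presheaf.germ W (genericPoint Z) hηW a)) =
      f.stalkMap _ (Z.presheaf.stalkSpecializes _ (Z.presheaf.germ W (genericPoint Z) hηW a'))
    rw [TopCat.Presheaf.germ_stalkSpecializes_apply, TopCat.Presheaf.germ_stalkSpecializes_apply,
      Scheme.Hom.germ_stalkMap_apply, Scheme.Hom.germ_stalkMap_apply, h]
  refine ⟨hinj, fun b => ?_⟩
  have hint : (f.app W).hom.IsIntegralElem b := by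
    haveI : IsAffine W.toScheme := hW
    haveI : UniversallyClosed (f ∣_ W) := inferInstance
    have h1 := isIntegral_appTop_of_universallyClosed (f ∣_ W)
    have e : (f.app W) = (W.topIso.inv ≫ (f ∣_ W).appTop ≫ (f ⁻¹ᵁ W).topIso.hom) := by
      simp [Scheme.Opens.topIso, Scheme.Hom.app_eq_appLE, morphismRestrict_appLE, Scheme.Hom.map_appLE]
    rw [e]
    exact (RingHom.IsIntegral.trans _ _ (RingHom.isIntegral_of_surjective _
      (ConcreteCategory.bijective_of_isIso W.topIso.inv).2) (RingHom.IsIntegral.trans _ _ h1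
        (RingHom.isIntegral_of_surjective _ (ConcreteCategory.bijective_of_isIso (f ⁻¹ᵁ W).topIso.hom).2))) b
  let J : Ideal Γ(Z, W) :=
    { carrier := {s | ∃ a, f.app W s * b = f.app W a}
      add_mem' := fun {s t} ⟨a, ha⟩ ⟨a', ha'⟩ => ⟨a + a', by rw [map_add, map_add, add_mul, ha, ha']⟩
      zero_mem' := ⟨0, by rw [map_zero, zero_mul]⟩
      smul_mem' := fun r s ⟨a, ha⟩ => ⟨r * a, by rw [smul_eq_mul, map_mul, map_mul, mul_assoc, ha]⟩ }
  have hJ : J = ⊤ := by
    by_contra h
    obtain ⟨M, hM, hJM⟩ := Ideal.exists_le_maximal J h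
    let y := hW.fromSpec ⟨M, hM.isPrime⟩
    have hy : y ∈ W := hW.range_fromSpec.le ⟨_, rfl⟩
    obtain ⟨a, s, hs, he⟩ : ∃ a s : Γ(Z, W), y ∈ Z.basicOpen s ∧ f.app W s * b = f.app W a := by
      rcases hn y with hn | ⟨V, hyV, hV⟩
      · exact BirQFLib.exists_mul_eq f hgen hst hW y hy hn b hint
      haveI := hV
      obtain ⟨s, hsV, hys⟩ := hW.exists_basicOpen_le ⟨y, hyV⟩ hy
      obtain ⟨a', ha'⟩ := (bijective_app_of_isIso_restrict f V (Z.basicOpen s) hsV).2
        (Y.presheaf.map (homOfLE (f.preimage_mono (Z.basicOpen_le s))).op b)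
      haveI := hW.isLocalization_basicOpen s
      obtain ⟨⟨a, ⟨_, m, rfl⟩⟩, hm⟩ := IsLocalization.surj (Submonoid.powers s) a'
      refine ⟨s * a, s ^ (m + 1), ?_, ?_⟩
      · rw [Z.basicOpen_pow]; exact hys
        exact Nat.succ_pos m
      have key : f.app W (s ^ m) * b = f.app W a := by
        haveI : Nonempty (f ⁻¹ᵁ Z.basicOpen s) := by
          have hηs : genericPoint Z ∈ Z.basicOpen s := (genericPoint_specializes y).mem_open (Z.basicOpen s).2 hys
          exact ⟨⟨genericPoint Y, show f (genericPoint Y) ∈ Z.basicOpen s from hgen.symm ▸ hηs⟩⟩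
        apply AlgebraicGeometry.map_injective_of_isIntegral Y (homOfLE (f.preimage_mono (Z.basicOpen_le s)))
        have hnat : ∀ c : Γ(Z, W), Y.presheaf.map (homOfLE (f.preimage_mono (Z.basicOpen_le s))).op (f.app W c) =
            f.app (Z.basicOpen s) (Z.presheaf.map (homOfLE (Z.basicOpen_le s)).op c) := fun c =>
          (ConcreteCategory.congr_hom (f.naturality (homOfLE (Z.basicOpen_le s)).op) c).symm
        rw [map_mul, hnat, hnat, ← ha', ← map_mul]
        refine congrArg _ ?_
        rw [mul_comm]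
        exact hm
      rw [pow_succ', map_mul, map_mul, mul_assoc, key]
    have h2 : s ∈ M := hJM ⟨a, he⟩
    have h3 : (⟨M, hM.isPrime⟩ : PrimeSpectrum Γ(Z, W)) ∈ PrimeSpectrum.basicOpen s := by
      rw [← hW.fromSpec_preimage_basicOpen s]
      exact hs
    exact h3 h2
  obtain ⟨a, ha⟩ := (hJ ▸ Submodule.mem_top : (1 : Γ(Z, W)) ∈ J)
  exact ⟨a, by rw [← ha, map_one, one_mul]⟩



theorem app_zero_of_factor {A B C : Scheme.{u}} (i : B ⟶ C) (O : C.Opens) (g : Γ(C, O))
    (hg : i.app O g = 0) (h : A ⟶ C) (q : A ⟶ B) (e : h = q ≫ i) : h.app O g = 0 := by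
  subst e
  rw [Scheme.Hom.comp_app, CommRingCat.comp_apply, hg, map_zero]

/-- Let k be a field and X a normal surface over k (an integral normal scheme, separated and of finite
type over k, of dimension two) whose only non-regular point is the closed point P, and f : Y → X a
resolution: a proper morphism from an integral scheme Y of dimension two with all local rings
regular, restricting to an isomorphism over the complement of P. Let V be an effective Cartier
divisor on Y, given by a quasi-coherent ideal sheaf O_Y(-V) that is an invertible module, such that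
P lies in f(Supp V) and O_Y(-V) is f-free, that is, the counit f^* f_* O_Y(-V) → O_Y(-V) is an
epimorphism. Then O_Y(-V) is contained in m_P O_Y, the inverse image ideal sheaf of the ideal of the
reduced point P. -/
theorem result (k : Type u) [Field k] (X : Scheme.{u}) [X.Over (Spec (CommRingCat.of k))]
    [IsIntegral X] [IsSeparated (X ↘ (Spec (CommRingCat.of k)))] [LocallyOfFiniteType (X ↘ (Spec (CommRingCat.of k)))]
    [CompactSpace X] (hdim : topologicalKrullDim X = 2) (hnorm : Pi1.IsNormalScheme X)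
    (P : X) (hPc : IsClosed ({P} : Set X)) (hP : ¬ IsRegularLocalRing (X.presheaf.stalk P))
    (hreg : ∀ x : X, x ≠ P → IsRegularLocalRing (X.presheaf.stalk x))
    (Y : Scheme.{u}) (f : Y ⟶ X) [IsIntegral Y] (hdimY : topologicalKrullDim Y = 2)
    (hregY : ∀ y : Y, IsRegularLocalRing (Y.presheaf.stalk y)) [IsProper f]
    (hiso : IsIso (f ∣_ ⟨({P} : Set X)ᶜ, hPc.isOpen_compl⟩))
    (V : Y.IdealSheafData) (hV : PicF.IsInvertible (ClSub.idealMod V)) (hPV : P ∈ f.base '' (V.support : Set Y))
    (hfree : Epi ((Scheme.Modules.pullbackPushforwardAdjunction f).counit.app (ClSub.idealMod V))) :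
    V ≤ (Scheme.IdealSheafData.vanishingIdeal ⟨{P}, hPc⟩).comap f := by
  let Pi : X.IdealSheafData := Scheme.IdealSheafData.vanishingIdeal ⟨{P}, hPc⟩
  let J : Y.IdealSheafData := Pi.comap f
  haveI : IsReduced Pi.subscheme := DVRCrit.isReduced_vanishingIdeal _
  have hne : ∃ x : X, x ≠ P := by
    by_contra hh
    push Not at hh
    haveI : Subsingleton X := ⟨fun a b => (hh a).trans (hh b).symm⟩
    have h3 := topologicalKrullDim_zero_of_discreteTopology X
    rw [hdim] at h3
    exact absurd h3 (by norm_num)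
  obtain ⟨x₀, hx₀⟩ := hne
  have hbij := bijective_app_of_normal_or_iso f ⟨_, ⟨x₀, hx₀⟩, hiso⟩ fun z => Or.inl (hnorm z).2
  have hφ : ClSub.idealModι V ≫ ClSub.toSubscheme J = 0 := by
    refine (cancel_epi ((Scheme.Modules.pullbackPushforwardAdjunction f).counit.app (ClSub.idealMod V))).1 ?_
    rw [comp_zero]
    refine ((Scheme.Modules.pullbackPushforwardAdjunction f).counit.naturality _).symm.trans ?_
    have hz : (Scheme.Modules.pushforward f).map (ClSub.idealModι V ≫ ClSub.toSubscheme J) = 0 := by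
      ext O t
      show J.subschemeι.app (f ⁻¹ᵁ O) (PicDefLib.incl V (f ⁻¹ᵁ O) t) = 0
      obtain ⟨g, hg⟩ := (hbij O).2 (PicDefLib.incl V (f ⁻¹ᵁ O) t)
      rw [← hg]
      have hPg : P ∉ X.basicOpen g := by
        intro hmem
        obtain ⟨y, hyV, hy⟩ := hPV
        rw [← V.range_subschemeι] at hyV
        obtain ⟨z, rfl⟩ := hyV
        have h1 : V.subschemeι z ∈ f ⁻¹ᵁ X.basicOpen g := by
          show f.base (V.subschemeι z) ∈ X.basicOpen g
          rw [hy]; exact hmem
        rw [Scheme.preimage_basicOpen, hg] at h1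
        have h2 : z ∈ V.subschemeι ⁻¹ᵁ Y.basicOpen (PicDefLib.incl V (f ⁻¹ᵁ O) t) := h1
        rw [Scheme.preimage_basicOpen, PicDefLib.app_idealModι, Scheme.basicOpen_zero] at h2
        exact h2
      have hPz : Pi.subschemeι.app O g = 0 := by
        refine (basicOpen_eq_bot_iff _).1 ?_
        rw [← Scheme.preimage_basicOpen]
        refine eq_bot_iff.2 fun w hw => hPg ?_
        have hr : Pi.subschemeι w ∈ ({P} : Set X) := by
          have := (Pi.range_subschemeι).le ⟨w, rfl⟩
          simpa [Pi, Scheme.IdealSheafData.coe_support_vanishingIdeal] using this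
        exact (Set.mem_singleton_iff.1 hr) ▸ hw
      have key := app_zero_of_factor Pi.subschemeι O g hPz (J.subschemeι ≫ f)
        ((Pi.comapIso f).hom ≫ pullback.snd _ _) (by
          rw [Category.assoc, ← pullback.condition, ← Category.assoc, Scheme.IdealSheafData.comapIso_hom_fst])
      rw [Scheme.Hom.comp_app] at key
      exact key
    show (Scheme.Modules.pullback f).map ((Scheme.Modules.pushforward f).map _) ≫ _ = 0
    rw [hz, Functor.map_zero, zero_comp]
  refine Scheme.IdealSheafData.le_def.2 fun W a ha => ?_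
  rw [← V.ker_subschemeι, Scheme.Hom.ker_apply, RingHom.mem_ker] at ha
  show a ∈ J.ideal W
  rw [← J.ker_subschemeι, Scheme.Hom.ker_apply, RingHom.mem_ker]
  obtain ⟨t, rfl⟩ := PicDefLib.exists_idealMod V ha
  exact ConcreteCategory.congr_hom (congrArg (fun z => Scheme.Modules.Hom.app z W.1) hφ) t

end Groth.Agent.S16304
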