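import Groth.Statements.S16307
import Groth.Agent.GenusOneLib.MulSurj
import Groth.Agent.GenusOneLib.Embed
import Groth.Agent.CurveLib.Ample

set_option autoImplicit false
universe u
open CategoryTheory CategoryTheory.Limits AlgebraicGeometry
open Curves

namespace Groth.Agent.S16307

open CategoryTheory CategoryTheory.Limits AlgebraicGeometry

open Groth.Agent.PullbackMod Groth.Agent.DCohLib Groth.Agent.CurveLib Opposite

theorem infinite_of_isSepClosed (k : Type u) [Field k] [IsSepClosed k] : Infinite k := by
  refine ⟨fun hfin => ?_⟩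
  haveI := Fintype.ofFinite k
  have hq : 1 < Fintype.card k := Fintype.one_lt_card
  let p : Polynomial k := Polynomial.X ^ Fintype.card k - Polynomial.X + 1
  have hd : p.degree ≠ 0 := by
    have : p.natDegree = Fintype.card k := by
      simp only [p]
      compute_degree! <;> first | omega | (rw [if_neg (by omega)]; simp)
    intro h0
    rw [Polynomial.natDegree_eq_of_degree_eq_some (n := 0) h0] at this
    omega
  have hs : p.Separable := by
    rw [Polynomial.separable_def]
    have : Polynomial.derivative p = -1 := by simp [p, Polynomial.derivative_X_pow, FiniteField.cast_card_eq_zero]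
    rw [this]
    exact ⟨0, -1, by simp⟩
  obtain ⟨x, hx⟩ := IsSepClosed.exists_root p hd hs
  simp [p, FiniteField.pow_card, Polynomial.IsRoot] at hx

theorem pairLeft_app_top {X : Scheme.{u}} (M N : X.Modules) (σ : Γ(M, ⊤)) (v : Γ(N, ⊤)) :
    (H1ZeroLib.pairLeft M N σ).app ⊤ v = DCohLib.pairS M N σ v :=
  congrArg (fun a => DCohLib.pairS M N a v) (ParaFLib.res_self le_rfl σ)

theorem tmul_eq_pairS {X : Scheme.{u}} (M N : X.Modules) (a : Γ(M, ⊤)) (v : Γ(N, ⊤)) :
    SecTwist.tmul M N ⊤ a v = DCohLib.pairS M N a v := rfl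

variable {k : Type u} [Field k] {X : Scheme.{u}} [X.Over (Spec (CommRingCat.of k))]
  [IsIntegral X] [IsProper (X ↘ (Spec (CommRingCat.of k)))]

theorem appTop_surjective (h0 : Module.finrank k (Coh.HH X (Coh.structureModule X) 0) = 1) :
    Function.Surjective (X ↘ (Spec (CommRingCat.of k))).appTop.hom := by
  intro a
  obtain ⟨c, hc⟩ : ∃ c : Coh.HH X (Coh.structureModule X) 0, secOf (Coh.structureModule X) c = (show Γ(Coh.structureModule X, ⊤) from (1 : Γ(X, ⊤))) :=
    ⟨_, (secOf (Coh.structureModule X)).apply_symm_apply _⟩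
  have hc0 : c ≠ 0 := by
    intro h
    rw [h, map_zero] at hc
    exact (one_ne_zero : (1 : Γ(X, ⊤)) ≠ 0) hc.symm
  obtain ⟨r, hr⟩ := (finrank_eq_one_iff_of_nonzero' c hc0).1 h0 ((secOf (Coh.structureModule X)).symm a)
  refine ⟨(Scheme.ΓSpecIso (CommRingCat.of k)).inv r, ?_⟩
  have := congrArg (secOf (Coh.structureModule X)) hr
  rw [secOf_smul, hc, (secOf (Coh.structureModule X)).apply_symm_apply] at this
  refine Eq.trans ?_ this
  exact (mul_one _).symm

theorem span_one (hdim : topologicalKrullDim X = 1) (hg : Curv2.genus k X = 1) [Infinite k]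
    {L : X.Modules} (hL : PicF.IsInvertible L) (hdeg : 3 ≤ Curv2.deg k X L 1) :
    Submodule.span (X.ringCatSheaf.obj.obj (Opposite.op ⊤))
        (Set.range (fun p : (CohB1.tensorPow L 1).val.obj (Opposite.op ⊤) × L.val.obj (Opposite.op ⊤) =>
          SecTwist.tmul (CohB1.tensorPow L 1) L ⊤ p.1 p.2)) = ⊤ := by
  let o : Γ(Coh.structureModule X, ⊤) := (1 : Γ(X, ⊤))
  let u : L ⟶ CohB1.tensorPow L 1 := H1ZeroLib.pairLeft (Coh.structureModule X) L o
  haveI : IsIso u := H1ZeroLib.isIso_pairLeft_one L
  have hM := AmpleLib.isInvertible_tensorPow hL 1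
  have h := GenusOneLib.exists_products (k := k) hdim.le hg hL hdeg hM
    u
  refine eq_top_iff.2 fun z _ => ?_
  let T := CohB1.tensorMod (CohB1.tensorPow L 1) L
  obtain ⟨c, hc⟩ : ∃ c, secOf T c = z := ⟨_, (secOf T).apply_symm_apply z⟩
  rw [← hc]
  have hcm : c ∈ (⊤ : Submodule k _) := Submodule.mem_top
  replace hcm := h.symm ▸ hcm
  refine Submodule.iSup_induction _ (motive := fun c => secOf T c ∈ Submodule.span (X.ringCatSheaf.obj.obj (Opposite.op ⊤))
        (Set.range (fun p : (CohB1.tensorPow L 1).val.obj (Opposite.op ⊤) × L.val.obj (Opposite.op ⊤) =>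
          SecTwist.tmul (CohB1.tensorPow L 1) L ⊤ p.1 p.2))) hcm ?_ ?_ ?_
  · rintro v _ ⟨w, rfl⟩
    have e := ((secOf_hMap (k := k) (H1ZeroLib.pairLeft (CohB1.tensorPow L 1) L (u.app ⊤ v)) w).trans
      (pairLeft_app_top (CohB1.tensorPow L 1) L (u.app ⊤ v) (secOf L w))).trans
      (tmul_eq_pairS (CohB1.tensorPow L 1) L (u.app ⊤ v) (secOf L w)).symm
    exact Submodule.subset_span ⟨(u.app ⊤ v, secOf L w), e.symm⟩
  · rw [map_zero]; exact Submodule.zero_mem _
  · intro x y hx hy
    rw [map_add]
    exact Submodule.add_mem _ hx hy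

/-- In the case of a separably closed base field and a curve that is not geometrically integral (the
case proved in the text), let k be a separably closed field and X a Gorenstein genus-one curve over
k: an integral scheme, proper over k, of dimension one, all of whose local rings are Gorenstein,
with dim_k H^1(X, O_X) = 1 (so H^0(X, O_X) = k). Assume that X is not geometrically integral over k.
Let L be an invertible O_X-module of degree at least 3 over k. Then the section ring ⊕_{m ≥ 0}
H^0(X, L^{⊗ m}) is generated in degree one: for every m, the global sections of L^{⊗ m} ⊗ L = L^{⊗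
(m+1)} are spanned over H^0(X, O_X) by the sections a ⊗ b with a a global section of L^{⊗ m} and b a
global section of L; and L is very ample: for some n there is a closed immersion i : X → P^n_k over
k with i^*O(1) isomorphic to L (existence of an isomorphism only). (The published statement is for
an arbitrary base field and any Gorenstein genus-one curve; the text reduces to a separably closed
field, cites the literature for the geometrically integral case, and proves the remaining case,
which is the one stated here.) -/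
theorem result (k : Type u) [Field k] (X : Scheme.{u}) [X.Over (Spec (CommRingCat.of k))] [IsSepClosed k]
    [IsIntegral X] [IsProper (X ↘ (Spec (CommRingCat.of k)))] (hdim : topologicalKrullDim X = 1)
    (hgor : ∀ x : X, LocCoh.IsGorensteinLocalRing (X.presheaf.stalk x)) (hg : Curv2.genus k X = 1)
    (hngi : ¬ GeometricallyIntegral (X ↘ (Spec (CommRingCat.of k))))
    (L : X.Modules) (hL : PicF.IsInvertible L) (hdeg : 3 ≤ Curv2.deg k X L 1) :
    (∀ m : ℕ, Submodule.span (X.ringCatSheaf.obj.obj (Opposite.op ⊤))
        (Set.range (fun p : (CohB1.tensorPow L m).val.obj (Opposite.op ⊤) × L.val.obj (Opposite.op ⊤) =>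
          SecTwist.tmul (CohB1.tensorPow L m) L ⊤ p.1 p.2)) = ⊤) ∧
    ∃ (n : ℕ) (i : X ⟶ CohB1.ProjSpace n k), IsClosedImmersion i ∧
      i ≫ CohB1.ProjSpace.toSpec n k = X ↘ (Spec (CommRingCat.of k)) ∧
      Nonempty ((Scheme.Modules.pullback i).obj (Twist.twistProjSpace n k 1) ≅ L) := by
  haveI : Infinite k := infinite_of_isSepClosed k
  haveI := EulerIneqLib.isNoetherian_proper (X := X) k
  have h0 := SingRRLib.h0_eq_one_of_genus_one (k := k) hdim.le hg
  have hgg := SingRRLib.isGloballyGenerated_of_genus_one (k := k) hdim.le hg hL (by omega)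
  have hspan : ∀ m : ℕ, Submodule.span (X.ringCatSheaf.obj.obj (Opposite.op ⊤))
        (Set.range (fun p : (CohB1.tensorPow L m).val.obj (Opposite.op ⊤) × L.val.obj (Opposite.op ⊤) =>
          SecTwist.tmul (CohB1.tensorPow L m) L ⊤ p.1 p.2)) = ⊤
    | 0 => H1ZeroLib.span_tmul_zero L
    | 1 => span_one hdim hg hL hdeg
    | m + 2 => H1ZeroLib.span_tmul_eq_top (k := k) hdim.le hL hgg (m := 1)
        (SingRRLib.subsingleton_H1_of_deg k hdim.le h0 (AmpleLib.isInvertible_tensorPow hL 1) (by
          rw [CurveLib.deg_tensorPow (k := k) hdim.le hL 1]; omega)) (by omega)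
  refine ⟨hspan, ?_⟩
  have hA : CohB1.IsAmple L := (CurveLib.isAmple_iff_deg_pos (k := k) hdim hL).2 (by omega)
  haveI := EulerIneqLib.finite_HH (k := k) (CurveLib.isCoh_of_isInvertible hL) 0
  have hd : 0 < Module.finrank k (Coh.HH X L 0) := by
    haveI := SingRRLib.subsingleton_H1_of_deg k hdim.le h0 hL (by omega)
    have h := SingRRLib.euler_eq_deg k hdim.le h0 L
    rw [euler_eq_sub (k := k) hdim.le, Module.finrank_zero_of_subsingleton (R := k) (M := Coh.HH X L 1), hg] at h
    push_cast at h
    omega
  exact ⟨Module.finrank k (Coh.HH X L 0) - 1, GenusOneLib.exists_closedImmersion_of_basis k hA hgg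
    (appTop_surjective h0) (fun j => hspan (j + 1)) (by omega)⟩

end Groth.Agent.S16307
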