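import Groth.Statements.S1631
import Groth.Agent.NodePtLib.Quad

set_option autoImplicit false
universe u
open Curves

namespace Groth.Agent.S1631

open CategoryTheory CategoryTheory.Limits AlgebraicGeometry

open Groth.Agent IsLocalRing
set_option backward.isDefEq.respectTransparency false

/-- For a Noetherian local k-algebra (A, m, κ), these two conditions are equivalent: (i) κ is separable
over k, A is reduced, m/m^2 has dimension two, and there are x, y spanning m modulo m^2 and a, b, c
∈ A whose residues form a nondegenerate quadratic form with a x^2 + b xy + c y^2 ∈ m^3; (ii) κ is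
separable over k and the m-adic completion of A is isomorphic, compatibly with the maps from k, to
κ[[u, v]]/(a' u^2 + b' uv + c' v^2) for a nondegenerate quadratic form over κ. -/
theorem result (k : Type u) [Field k] (A : Type u) [CommRing A] [IsLocalRing A] [IsNoetherianRing A]
    [Algebra k A] :
    (Algebra.IsSeparable k (IsLocalRing.ResidueField A) ∧ IsReduced A ∧
      Module.finrank (IsLocalRing.ResidueField A) (IsLocalRing.CotangentSpace A) = 2 ∧
      ∃ x y a b c : A, x ∈ IsLocalRing.maximalIdeal A ∧ y ∈ IsLocalRing.maximalIdeal A ∧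
        Ideal.span {x, y} ⊔ IsLocalRing.maximalIdeal A ^ 2 = IsLocalRing.maximalIdeal A ∧
        IsLocalRing.residue A (4 * a * c - b ^ 2) ≠ 0 ∧
        a * x ^ 2 + b * x * y + c * y ^ 2 ∈ IsLocalRing.maximalIdeal A ^ 3) ↔
    (Algebra.IsSeparable k (IsLocalRing.ResidueField A) ∧
      ∃ a b c : IsLocalRing.ResidueField A, 4 * a * c - b ^ 2 ≠ 0 ∧
        ∃ e : AdicCompletion (IsLocalRing.maximalIdeal A) A ≃+*
            (MvPowerSeries (Fin 2) (IsLocalRing.ResidueField A) ⧸ Ideal.span
              {(MvPowerSeries.C a * MvPowerSeries.X 0 ^ 2 + MvPowerSeries.C b * MvPowerSeries.X 0 * MvPowerSeries.X 1 +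
                MvPowerSeries.C c * MvPowerSeries.X 1 ^ 2 : MvPowerSeries (Fin 2) (IsLocalRing.ResidueField A))}),
          ∀ t : k, e (algebraMap A _ (algebraMap k A t)) =
            Ideal.Quotient.mk _ (MvPowerSeries.C (algebraMap A (IsLocalRing.ResidueField A) (algebraMap k A t)))) := by
  constructor
  · rintro ⟨hs, hr, hfr, x, y, a, b, c, hx, hy, hspan, hΔ, hq⟩
    haveI := hs
    haveI := hr
    have hxy : maximalIdeal A = Ideal.span {x, y} := by
      refine NodePtLib.span_eq_of_le_sup (Ideal.span_le.2 ?_) ?_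
      · rintro z (rfl | rfl) <;> assumption
      · rw [← pow_two]; exact hspan.ge
    have hnp : ∀ z, maximalIdeal A ≠ Ideal.span {z} := fun z hz => by
      have h := (finrank_cotangentSpace_le_one_iff (R := A)).2 ⟨z, hz⟩
      omega
    exact ⟨hs, NodePtLib.exists_completion_iso k A ⟨x, y, a, b, c, hxy, hnp, hΔ, hq⟩⟩
  · rintro ⟨hs, a, b, c, hΔ, e, -⟩
    obtain ⟨hr, x, y, a', b', c', hxy, hnp, hΔ', hq⟩ := NodePtLib.quadPt_of_completion hΔ e
    have hx : x ∈ maximalIdeal A := hxy.ge (Ideal.subset_span (Set.mem_insert _ _))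
    have hy : y ∈ maximalIdeal A := hxy.ge (Ideal.subset_span (Set.mem_insert_of_mem _ rfl))
    refine ⟨hs, hr, le_antisymm ?_ ?_, x, y, a', b', c', hx, hy, ?_, hΔ', hq⟩
    · rw [← spanFinrank_maximalIdeal_eq_finrank_cotangentSpace, hxy]
      exact (Submodule.spanFinrank_span_le_ncard_of_finite (Set.toFinite _)).trans
        ((Set.ncard_insert_le _ _).trans (by rw [Set.ncard_singleton]))
    · by_contra hlt
      obtain ⟨z, hz⟩ := (finrank_cotangentSpace_le_one_iff (R := A)).1 (by omega)
      exact hnp z hz
    · exact le_antisymm (sup_le hxy.ge (Ideal.pow_le_self two_ne_zero)) (hxy.le.trans le_sup_left)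

end Groth.Agent.S1631
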