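import Groth.Statements.S16310
import Mathlib

set_option autoImplicit false
universe u
open W4c3irrattreebun

namespace Groth.Agent.S16310

set_option maxHeartbeats 800000
set_option synthInstance.maxHeartbeats 400000

open W4c3irrattreebun IntermediateField

theorem restrict_diag {k K : Type u} [Field k] [Field K] [Algebra k K] {e : ℕ}
    (D : CovDiag.{u} (algebraicClosure k K) K e) :
    ∃ D' : CovDiag.{u} k K e, Algebra.IsSeparable K D.KC → Algebra.IsSeparable K D'.KC := by
  letI : Algebra k D.KC := ((algebraMap (algebraicClosure k K) D.KC).comp (algebraMap k (algebraicClosure k K))).toAlgebra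
  letI : Algebra k D.KB := ((algebraMap (algebraicClosure k K) D.KB).comp (algebraMap k (algebraicClosure k K))).toAlgebra
  haveI : IsScalarTower k K D.KC := IsScalarTower.of_algebraMap_eq fun x => by
    show algebraMap (algebraicClosure k K) D.KC (algebraMap k (algebraicClosure k K) x) = _
    rw [IsScalarTower.algebraMap_apply (algebraicClosure k K) K D.KC]
    rfl
  haveI := D.towerB
  haveI := D.towerK
  haveI : IsScalarTower k D.KB D.KC := IsScalarTower.of_algebraMap_eq fun x =>
    (@IsScalarTower.algebraMap_apply (algebraicClosure k K) K D.KC _ _ _ _ D.algKC D.algkC D.towerK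
      (algebraMap k (algebraicClosure k K) x)).symm.trans
    (@IsScalarTower.algebraMap_apply (algebraicClosure k K) D.KB D.KC _ _ _ D.algkB D.algBC D.algkC D.towerB
      (algebraMap k (algebraicClosure k K) x))
  exact ⟨{ KC := D.KC, KB := D.KB, t := D.t, transc := D.transc, finrank_eq := D.finrank_eq }, id⟩

theorem extend_diag {k K : Type u} [Field k] [Field K] [Algebra k K] {e : ℕ} (D : CovDiag.{u} k K e) :
    ∃ e' ≤ e, ∃ D' : CovDiag.{u} (algebraicClosure k K) K e',
      Algebra.IsSeparable K D.KC → Algebra.IsSeparable K D'.KC := by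
  let S : Set D.KC := algebraMap K D.KC '' (algebraicClosure k K : Set K)
  let B : IntermediateField D.KB D.KC := adjoin D.KB S
  let ι : algebraicClosure k K →+* B :=
    { toFun := fun x => ⟨algebraMap K D.KC x.1, subset_adjoin _ _ ⟨x.1, x.2, rfl⟩⟩
      map_one' := Subtype.ext (map_one (algebraMap K D.KC))
      map_mul' := fun x y => Subtype.ext (map_mul (algebraMap K D.KC) x.1 y.1)
      map_zero' := Subtype.ext (map_zero (algebraMap K D.KC))
      map_add' := fun x y => Subtype.ext (map_add (algebraMap K D.KC) x.1 y.1) }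
  letI : Algebra (algebraicClosure k K) B := ι.toAlgebra
  haveI : IsScalarTower (algebraicClosure k K) B D.KC := IsScalarTower.of_algebraMap_eq fun _ => rfl
  haveI : Algebra.IsAlgebraic D.KB B := isAlgebraic_adjoin (fun x hx => by
    obtain ⟨a, ha, rfl⟩ := hx
    have h0 : IsAlgebraic k a := mem_algebraicClosure_iff.mp ha
    have h1 : IsAlgebraic k (algebraMap K D.KC a) := h0.algebraMap
    exact (h1.tower_top (A := D.KC) (L := D.KB)).isIntegral)
  have htr : Transcendental B D.t := fun h => D.transc (h.restrictScalars D.KB)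
  let F := adjoin D.KB ({D.t} : Set D.KC)
  let G := adjoin B ({D.t} : Set D.KC)
  have hle : ∀ x ∈ F, x ∈ G := by
    intro x hx
    refine (Subfield.closure_le (t := G.toSubfield)).mpr ?_ hx
    rintro y (⟨a, rfl⟩ | hy)
    · exact G.algebraMap_mem ⟨algebraMap D.KB D.KC a, B.algebraMap_mem a⟩
    · exact subset_adjoin B ({D.t} : Set D.KC) hy
  let i : F →+* G := F.val.toRingHom.codRestrict G.toSubfield (fun x => hle _ x.2)
  letI : Algebra F G := i.toAlgebra
  haveI : IsScalarTower F G D.KC := IsScalarTower.of_algebraMap_eq fun _ => rfl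
  haveI : Module.Finite G D.KC := Module.Finite.of_restrictScalars_finite F G D.KC
  refine ⟨Module.finrank G D.KC, ?_, ⟨{ KC := D.KC, KB := B, t := D.t, transc := htr, finrank_eq := rfl }, id⟩⟩
  refine le_of_le_of_eq ?_ D.finrank_eq
  rw [← Module.finrank_mul_finrank F G D.KC]
  haveI : Module.Finite F G := Module.Finite.of_injective (IsScalarTower.toAlgHom F G D.KC).toLinearMap (fun a b h => Subtype.ext h)
  exact Nat.le_mul_of_pos_left _ Module.finrank_pos

theorem sInf_eq {s t : Set ℕ} (h₁ : ∀ e ∈ s, ∃ e' ≤ e, e' ∈ t) (h₂ : t ⊆ s) : sInf s = sInf t := by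
  rcases s.eq_empty_or_nonempty with hs | hs
  · rw [hs, show t = ∅ from Set.subset_empty_iff.mp (hs ▸ h₂)]
  · obtain ⟨e', he', ht⟩ := h₁ _ (Nat.sInf_mem hs)
    exact le_antisymm (Nat.sInf_le (h₂ (Nat.sInf_mem ⟨e', ht⟩))) ((Nat.sInf_le ht).trans he')

/-- For a field extension K/k with field of constants k' (the relative algebraic closure of k in K), the
covering gonality of K over k equals the covering gonality of K over k'. (The published statement
takes K to be an algebraic function field over k; this row allows any field extension K/k.) -/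
theorem result (k K : Type u) [Field k] [Field K] [Algebra k K] :
    W4c3irrattreebun.cvg k K = W4c3irrattreebun.cvg (algebraicClosure k K) K := by
  refine sInf_eq (fun e ⟨D⟩ => ?_) fun e ⟨D⟩ => ⟨(restrict_diag D).choose⟩
  obtain ⟨e', he', D', -⟩ := extend_diag D
  exact ⟨e', he', ⟨D'⟩⟩

end Groth.Agent.S16310
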