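import Groth.Statements.S16312
import Mathlib

set_option autoImplicit false
universe u
open W4c3irrattreebun

namespace Groth.Agent.S16312

/-- Let N be a closed cone in real n-space, f a function continuous on N, positive at the nonzero points
of N and homogeneous of degree one under scaling by nonnegative reals, and Λ a discrete additive
subgroup. Then for every real c the set of points H of Λ lying in N with f(H) ≤ c is finite. (The
published statement takes Λ to be a lattice; this row allows any discrete additive subgroup.) -/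
theorem result (n : ℕ)
    (N : Set (EuclideanSpace ℝ (Fin n))) (hN : IsClosed N)
    (hcone : ∀ x ∈ N, ∀ r : ℝ, 0 ≤ r → r • x ∈ N)
    (f : EuclideanSpace ℝ (Fin n) → ℝ) (hf : ContinuousOn f N)
    (hpos : ∀ x ∈ N, x ≠ 0 → 0 < f x)
    (hhom : ∀ x ∈ N, ∀ r : ℝ, 0 ≤ r → f (r • x) = r * f x)
    (Λ : Submodule ℤ (EuclideanSpace ℝ (Fin n))) [DiscreteTopology Λ] (c : ℝ) :
    ({x : EuclideanSpace ℝ (Fin n) | x ∈ N ∧ f x ≤ c} ∩ (Λ : Set (EuclideanSpace ℝ (Fin n)))).Finite := by
  set S := N ∩ Metric.sphere (0 : EuclideanSpace ℝ (Fin n)) 1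
  have hS : IsCompact S := (isCompact_sphere (0 : EuclideanSpace ℝ (Fin n)) 1).inter_left hN
  obtain ⟨δ, hδ, hle⟩ : ∃ δ : ℝ, 0 < δ ∧ ∀ x ∈ S, δ ≤ f x := by
    rcases S.eq_empty_or_nonempty with h | h
    · exact ⟨1, one_pos, by rw [h]; simp⟩
    · obtain ⟨x₀, hx₀, hmin⟩ := hS.exists_isMinOn h (hf.mono Set.inter_subset_left)
      have hne : x₀ ≠ 0 := ne_zero_of_mem_unit_sphere (⟨x₀, hx₀.2⟩ : Metric.sphere (0 : EuclideanSpace ℝ (Fin n)) 1)
      exact ⟨f x₀, hpos x₀ hx₀.1 hne, fun x hx => hmin hx⟩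
  refine Set.Finite.subset (Metric.finite_isBounded_inter_isClosed DiscreteTopology.isDiscrete
    (Metric.isBounded_closedBall (x := (0 : EuclideanSpace ℝ (Fin n))) (r := max c 0 / δ)) ?_) (Set.inter_subset_inter_left _ ?_)
  · haveI : DiscreteTopology Λ.toAddSubgroup := inferInstanceAs (DiscreteTopology Λ)
    exact AddSubgroup.isClosed_of_discrete (H := Λ.toAddSubgroup)
  · rintro x ⟨hxN, hxc⟩
    rw [Metric.mem_closedBall, dist_zero_right, le_div_iff₀ hδ]
    rcases eq_or_ne x 0 with rfl | hx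
    · simp
    have hn : 0 < ‖x‖ := norm_pos_iff.2 hx
    have hu : ‖x‖⁻¹ • x ∈ S := ⟨hcone x hxN _ (inv_nonneg.2 hn.le), by simp [norm_smul, hn.ne']⟩
    have h1 := hle _ hu
    rw [hhom x hxN _ (inv_nonneg.2 hn.le), ← mul_le_mul_iff_of_pos_left hn, ← mul_assoc, mul_inv_cancel₀ hn.ne', one_mul] at h1
    exact h1.trans (hxc.trans (le_max_left c 0))

end Groth.Agent.S16312
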