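import Groth.Statements.S16314
import Mathlib

set_option autoImplicit false
universe u
open scoped TensorProduct
open W4c3irrattreebun

namespace Groth.Agent.S16314

set_option linter.style.haveILetI false
set_option backward.isDefEq.respectTransparency false
set_option maxHeartbeats 1000000
set_option synthInstance.maxHeartbeats 100000

open IntermediateField

/-- A finite span containing `1` and closed under products is a field. -/
theorem exists_field_span (F Ω : Type u) [Field F] [Field Ω] [Algebra F Ω] {e : ℕ} (v : Fin e → Ω)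
    (h1 : (1 : Ω) ∈ Submodule.span F (Set.range v))
    (hm : ∀ i j, v i * v j ∈ Submodule.span F (Set.range v)) :
    ∃ W : IntermediateField F Ω, ∀ x, x ∈ W ↔ x ∈ Submodule.span F (Set.range v) := by
  classical
  let p := Submodule.span F (Set.range v)
  have hmul : ∀ x y, x ∈ p → y ∈ p → x * y ∈ p := by
    intro x y hx hy
    have h : p * p ≤ p := by
      rw [Submodule.span_mul_span, Submodule.span_le]
      rintro _ ⟨_, ⟨i, rfl⟩, _, ⟨j, rfl⟩, rfl⟩
      exact hm i j
    exact h (Submodule.mul_mem_mul hx hy)
  let A : Subalgebra F Ω := p.toSubalgebra h1 hmul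
  haveI : Module.Finite F A := Module.Finite.span_of_finite F (Set.finite_range v)
  exact ⟨A.toIntermediateField' (isField_of_isIntegral_of_isField' (Field.toIsField F)), fun x => Iff.rfl⟩

/-- A covering diagram from a spanning family. -/
theorem exists_diag {k K KC KB : Type u} [Field k] [Field K] [Algebra k K] [Field KC] [Field KB] [Algebra K KC]
    [Algebra k KC] [IsScalarTower k K KC] [Algebra k KB] [Algebra KB KC] [IsScalarTower k KB KC]
    [Module.Finite K KC] [Algebra.IsSeparable K KC] (t : KC) (ht : Transcendental KB t) {e : ℕ} (v : Fin e → KC)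
    (hv : Submodule.span (IntermediateField.adjoin KB ({t} : Set KC)) (Set.range v) = ⊤) :
    ∃ e' ≤ e, ∃ D : CovDiag.{u} k K e', Algebra.IsSeparable K D.KC := by
  haveI : Module.Finite (IntermediateField.adjoin KB ({t} : Set KC)) KC :=
    ⟨by rw [← hv]; exact Submodule.fg_span (Set.finite_range v)⟩
  refine ⟨_, ?_, ⟨{ KC := KC, KB := KB, t := t, transc := ht, finrank_eq := rfl }, ‹_›⟩⟩
  exact (finrank_le_of_span_eq_top hv).trans_eq (Fintype.card_fin e)

theorem sInf_le_sInf {P Q : ℕ → Prop} (h : ∀ e, P e → ∃ e' ≤ e, Q e') (h' : ∀ e, Q e → ∃ e' ≤ e, P e') :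
    sInf {e | Q e} = sInf {e | P e} := by
  rcases Set.eq_empty_or_nonempty {e | P e} with hP | hP
  · rw [hP, Set.eq_empty_of_forall_notMem (s := {e | Q e}) fun e he => by
      obtain ⟨e', -, h2⟩ := h' e he
      exact (Set.eq_empty_iff_forall_notMem.1 hP e' h2).elim]
  · obtain ⟨e', h1, h2⟩ := h _ (Nat.sInf_mem hP)
    obtain ⟨e'', h3, h4⟩ := h' _ (Nat.sInf_mem (⟨e', h2⟩ : {e | Q e}.Nonempty))
    exact le_antisymm ((Nat.sInf_le (s := {e | Q e}) h2).trans h1) ((Nat.sInf_le (s := {e | P e}) h4).trans h3)

/-- Ascending along a separable extension of the ground field. -/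
theorem exists_up {k K L K' : Type u} [Field k] [Field K] [Field L] [Field K'] [Algebra k K] [Algebra k L]
    [Algebra k K'] [Algebra K K'] [Algebra L K'] [IsScalarTower k K K'] [IsScalarTower k L K']
    [Algebra.IsSeparable k L] [Algebra.IsSeparable K K']
    (hgen : IntermediateField.adjoin K (Set.range (algebraMap L K')) = ⊤)
    {e : ℕ} (D : CovDiag.{u} k K e) (hD : Algebra.IsSeparable K D.KC) :
    ∃ e' ≤ e, ∃ D' : CovDiag.{u} L K' e', Algebra.IsSeparable K' D'.KC := by
  classical
  let Ω := SeparableClosure D.KC
  haveI := hD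
  haveI : Algebra.IsSeparable K Ω := Algebra.IsSeparable.trans K D.KC Ω
  let σ : K' →ₐ[K] Ω := IsSepClosed.lift
  letI : Algebra K' Ω := σ.toRingHom.toAlgebra
  haveI : IsScalarTower K K' Ω := IsScalarTower.of_algebraMap_eq fun x => (σ.commutes x).symm
  haveI : Algebra.IsSeparable K' Ω := Algebra.isSeparable_tower_top_of_isSeparable K K' Ω
  let b := Module.finBasis K D.KC
  let C : IntermediateField K' Ω := IntermediateField.adjoin K' (Set.range fun i => algebraMap D.KC Ω (b i))
  haveI : Module.Finite K' C := IntermediateField.finiteDimensional_adjoin fun x _ =>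
    (Algebra.IsSeparable.isSeparable K' x).isIntegral
  have hjmem : ∀ x : D.KC, algebraMap D.KC Ω x ∈ C := fun x => by
    rw [← b.sum_repr x, map_sum]
    refine sum_mem fun i _ => ?_
    rw [Algebra.smul_def, map_mul, ← IsScalarTower.algebraMap_apply K D.KC Ω, IsScalarTower.algebraMap_apply K K' Ω]
    exact mul_mem (C.algebraMap_mem _) (IntermediateField.subset_adjoin _ _ ⟨i, rfl⟩)
  let j : D.KC →+* C :=
    { toFun := fun x => ⟨algebraMap D.KC Ω x, hjmem x⟩
      map_one' := Subtype.ext (map_one (algebraMap D.KC Ω))
      map_mul' := fun x y => Subtype.ext (map_mul (algebraMap D.KC Ω) x y)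
      map_zero' := Subtype.ext (map_zero (algebraMap D.KC Ω))
      map_add' := fun x y => Subtype.ext (map_add (algebraMap D.KC Ω) x y) }
  letI : Algebra D.KB C := (j.comp (algebraMap D.KB D.KC)).toAlgebra
  letI : Algebra k C := ((algebraMap K' C).comp (algebraMap k K')).toAlgebra
  haveI : IsScalarTower k K' C := IsScalarTower.of_algebraMap_eq' rfl
  letI : Algebra L C := ((algebraMap K' C).comp (algebraMap L K')).toAlgebra
  haveI : IsScalarTower L K' C := IsScalarTower.of_algebraMap_eq' rfl
  haveI : IsScalarTower k L C := IsScalarTower.of_algebraMap_eq fun x => by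
    rw [IsScalarTower.algebraMap_apply k K' C, IsScalarTower.algebraMap_apply L K' C,
      ← IsScalarTower.algebraMap_apply k L K']
  haveI : IsScalarTower k D.KB C := IsScalarTower.of_algebraMap_eq fun x => Subtype.ext (by
    show algebraMap K' Ω (algebraMap k K' x) = algebraMap D.KC Ω (algebraMap D.KB D.KC (algebraMap k D.KB x))
    rw [← IsScalarTower.algebraMap_apply k D.KB D.KC, IsScalarTower.algebraMap_apply k K D.KC,
      IsScalarTower.algebraMap_apply k K K', ← IsScalarTower.algebraMap_apply K D.KC Ω,
      ← IsScalarTower.algebraMap_apply K K' Ω])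
  let B : IntermediateField D.KB C := IntermediateField.adjoin D.KB (Set.range (algebraMap L C))
  let ιB : L →+* B :=
    { toFun := fun x => ⟨algebraMap L C x, IntermediateField.subset_adjoin _ _ ⟨x, rfl⟩⟩
      map_one' := Subtype.ext (map_one (algebraMap L C))
      map_mul' := fun x y => Subtype.ext (map_mul (algebraMap L C) x y)
      map_zero' := Subtype.ext (map_zero (algebraMap L C))
      map_add' := fun x y => Subtype.ext (map_add (algebraMap L C) x y) }
  letI : Algebra L B := ιB.toAlgebra
  haveI : IsScalarTower L B C := IsScalarTower.of_algebraMap_eq fun _ => rfl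
  haveI : Algebra.IsAlgebraic D.KB B := IntermediateField.isAlgebraic_adjoin fun x hx => by
    obtain ⟨a, rfl⟩ := hx
    exact ((Algebra.IsSeparable.isSeparable k a).isIntegral.map (IsScalarTower.toAlgHom k L C)).tower_top
  let ja : D.KC →ₐ[D.KB] C := { j with commutes' := fun _ => rfl }
  have htr : Transcendental B (j D.t) := fun h => by
    have h2 : IsAlgebraic D.KB (ja D.t) := h.restrictScalars D.KB
    exact D.transc ((isAlgebraic_algHom_iff ja ja.toRingHom.injective).1 h2)
  let F := IntermediateField.adjoin B ({j D.t} : Set C)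
  let F0 := IntermediateField.adjoin D.KB ({D.t} : Set D.KC)
  let w := Module.finBasisOfFinrankEq F0 D.KC D.finrank_eq
  have hF0 : ∀ x ∈ F0, j x ∈ F := by
    intro x hx
    have hle : F0 ≤ (F.restrictScalars D.KB).comap ja := IntermediateField.adjoin_le_iff.2 fun y hy => by
      rw [Set.mem_singleton_iff.1 hy]
      exact IntermediateField.subset_adjoin B ({j D.t} : Set C) rfl
    exact hle hx
  have hjspan : ∀ x : D.KC, j x ∈ Submodule.span F (Set.range fun i => j (w i)) := fun x => by
    rw [← w.sum_repr x, map_sum]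
    refine Submodule.sum_mem _ fun i _ => ?_
    rw [Algebra.smul_def, map_mul]
    exact Submodule.smul_mem _ (⟨_, hF0 _ (w.repr x i).2⟩ : F) (Submodule.subset_span ⟨i, rfl⟩)
  obtain ⟨W, hW⟩ := exists_field_span F C (fun i => j (w i)) (by simpa using hjspan 1)
    fun i i' => by rw [← map_mul]; exact hjspan _
  have hjW : ∀ x, j x ∈ W := fun x => (hW _).2 (hjspan x)
  have hLW : ∀ x : L, algebraMap L C x ∈ W := fun x => W.algebraMap_mem
    (⟨algebraMap B C (algebraMap L B x), F.algebraMap_mem (algebraMap L B x)⟩ : F)
  let W' : IntermediateField K K' :=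
    { __ := W.toSubfield.comap (algebraMap K' C)
      algebraMap_mem' := fun x => by
        show algebraMap K' C (algebraMap K K' x) ∈ W
        have : algebraMap K' C (algebraMap K K' x) = j (algebraMap K D.KC x) := Subtype.ext (by
          show algebraMap K' Ω (algebraMap K K' x) = algebraMap D.KC Ω (algebraMap K D.KC x)
          rw [← IsScalarTower.algebraMap_apply K K' Ω, ← IsScalarTower.algebraMap_apply K D.KC Ω])
        rw [this]
        exact hjW _ }
  have hK'W : ∀ x : K', algebraMap K' C x ∈ W := fun x => by
    have hle : IntermediateField.adjoin K (Set.range (algebraMap L K')) ≤ W' := IntermediateField.adjoin_le_iff.2 (by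
      rintro _ ⟨l, rfl⟩
      show algebraMap K' C (algebraMap L K' l) ∈ W
      rw [← IsScalarTower.algebraMap_apply L K' C]
      exact hLW l)
    exact hle (hgen ▸ IntermediateField.mem_top)
  have htop : ∀ x : C, x ∈ W := fun x => by
    obtain ⟨x, hx⟩ := x
    suffices h : ∃ hx : x ∈ C, (⟨x, hx⟩ : C) ∈ W from h.2
    induction hx using IntermediateField.adjoin_induction with
    | mem y hy =>
      obtain ⟨i, rfl⟩ := hy
      exact ⟨hjmem _, hjW (b i)⟩
    | algebraMap y => exact ⟨C.algebraMap_mem y, hK'W y⟩
    | add y z _ _ hy hz => exact ⟨add_mem hy.1 hz.1, W.add_mem hy.2 hz.2⟩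
    | inv y _ hy => exact ⟨inv_mem hy.1, W.inv_mem hy.2⟩
    | mul y z _ _ hy hz => exact ⟨mul_mem hy.1 hz.1, W.mul_mem hy.2 hz.2⟩
  exact exists_diag (k := L) (K := K') (KC := C) (KB := B) (j D.t) htr _
    (eq_top_iff.2 fun x _ => (hW x).1 (htop x))

theorem mem_adjoin_range {k KB KC : Type u} [Field k] [Field KB] [Field KC] [Algebra k KB] [Algebra k KC]
    [Algebra KB KC] [IsScalarTower k KB KC] (t : KC) {x : KC} (hx : x ∈ IntermediateField.adjoin KB ({t} : Set KC)) :
    x ∈ IntermediateField.adjoin k (Set.range (algebraMap KB KC) ∪ {t}) := by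
  induction hx using IntermediateField.adjoin_induction with
  | mem y hy => exact IntermediateField.subset_adjoin _ _ (Or.inr hy)
  | algebraMap y => exact IntermediateField.subset_adjoin _ _ (Or.inl ⟨y, rfl⟩)
  | add y z _ _ hy hz => exact add_mem hy hz
  | inv y _ hy => exact inv_mem hy
  | mul y z _ _ hy hz => exact mul_mem hy hz

/-- Descending along a separable extension of the ground field. -/
theorem exists_down {k K L K' : Type u} [Field k] [Field K] [Field L] [Field K'] [Algebra k K] [Algebra k L]
    [Algebra k K'] [Algebra K K'] [Algebra L K'] [IsScalarTower k K K'] [IsScalarTower k L K']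
    [Algebra.IsSeparable K K'] (hfg : (⊤ : IntermediateField k K).FG)
    {e : ℕ} (D : CovDiag.{u} L K' e) (hD : Algebra.IsSeparable K' D.KC) :
    ∃ e' ≤ e, ∃ D' : CovDiag.{u} k K e', Algebra.IsSeparable K D'.KC := by
  classical
  haveI := hD
  letI : Algebra K D.KC := ((algebraMap K' D.KC).comp (algebraMap K K')).toAlgebra
  haveI : IsScalarTower K K' D.KC := IsScalarTower.of_algebraMap_eq' rfl
  letI : Algebra k D.KC := ((algebraMap K D.KC).comp (algebraMap k K)).toAlgebra
  haveI : IsScalarTower k K D.KC := IsScalarTower.of_algebraMap_eq' rfl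
  letI : Algebra k D.KB := ((algebraMap L D.KB).comp (algebraMap k L)).toAlgebra
  haveI : IsScalarTower k D.KB D.KC := IsScalarTower.of_algebraMap_eq fun x => by
    show algebraMap K' D.KC (algebraMap K K' (algebraMap k K x)) = algebraMap D.KB D.KC (algebraMap L D.KB (algebraMap k L x))
    rw [← IsScalarTower.algebraMap_apply k K K', IsScalarTower.algebraMap_apply k L K',
      ← IsScalarTower.algebraMap_apply L K' D.KC, ← IsScalarTower.algebraMap_apply L D.KB D.KC]
  haveI : Algebra.IsSeparable K D.KC := Algebra.IsSeparable.trans K K' D.KC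
  obtain ⟨g, hg⟩ := hfg
  let F0 := IntermediateField.adjoin D.KB ({D.t} : Set D.KC)
  let w := Module.finBasisOfFinrankEq F0 D.KC D.finrank_eq
  let X : Finset D.KC := insert 1 (g.image (algebraMap K D.KC) ∪ Finset.univ.image fun ij : Fin e × Fin e => w ij.1 * w ij.2)
  have hS : ∀ p : D.KC × Fin e, ∃ S : Finset D.KC, ↑S ⊆ Set.range (algebraMap D.KB D.KC) ∪ {D.t} ∧
      (w.repr p.1 p.2 : D.KC) ∈ IntermediateField.adjoin k (S : Set D.KC) := fun p =>
    IntermediateField.exists_finset_of_mem_adjoin (mem_adjoin_range D.t (w.repr p.1 p.2).2)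
  choose S hSsub hS using hS
  let G : Finset D.KC := insert D.t ((X ×ˢ Finset.univ).biUnion S)
  let G' : Finset D.KC := G ∪ Finset.univ.image w
  let C : IntermediateField K D.KC := IntermediateField.adjoin K (G' : Set D.KC)
  haveI : Module.Finite K C := IntermediateField.finiteDimensional_adjoin fun x _ =>
    (Algebra.IsSeparable.isSeparable K x).isIntegral
  let F := IntermediateField.adjoin k (G : Set D.KC)
  have hX : ∀ x ∈ X, x ∈ Submodule.span F (Set.range w) := fun x hx => by
    rw [← w.sum_repr x]
    refine Submodule.sum_mem _ fun i _ => ?_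
    have hmem : (w.repr x i : D.KC) ∈ F := by
      refine IntermediateField.adjoin.mono k _ _ (fun y hy => ?_) (hS (x, i))
      exact Finset.mem_insert_of_mem (Finset.mem_biUnion.2 ⟨(x, i), Finset.mem_product.2 ⟨hx, Finset.mem_univ _⟩, hy⟩)
    exact Submodule.smul_mem _ (⟨_, hmem⟩ : F) (Submodule.subset_span ⟨i, rfl⟩)
  obtain ⟨W, hW⟩ := exists_field_span F D.KC w (hX 1 (Finset.mem_insert_self _ _))
    fun i j => hX _ (Finset.mem_insert_of_mem (Finset.mem_union_right _ (Finset.mem_image.2 ⟨(i, j), Finset.mem_univ _, rfl⟩)))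
  let WK : IntermediateField k K :=
    { __ := W.toSubfield.comap (algebraMap K D.KC)
      algebraMap_mem' := fun x => by
        show algebraMap K D.KC (algebraMap k K x) ∈ W
        rw [← IsScalarTower.algebraMap_apply k K D.KC]
        exact W.algebraMap_mem (algebraMap k F x) }
  have hKW : ∀ x : K, algebraMap K D.KC x ∈ W := fun x => by
    have hle : IntermediateField.adjoin k (g : Set K) ≤ WK := IntermediateField.adjoin_le_iff.2 fun y hy =>
      (hW _).2 (hX _ (Finset.mem_insert_of_mem (Finset.mem_union_left _ (Finset.mem_image_of_mem _ hy))))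
    exact hle (hg ▸ IntermediateField.mem_top)
  have hCW : ∀ x ∈ C, x ∈ W := by
    intro x hx
    induction hx using IntermediateField.adjoin_induction with
    | mem y hy =>
      rcases Finset.mem_union.1 (Finset.mem_coe.1 hy) with h | h
      · exact W.algebraMap_mem (⟨y, IntermediateField.subset_adjoin k _ h⟩ : F)
      · obtain ⟨i, -, rfl⟩ := Finset.mem_image.1 h
        exact (hW _).2 (Submodule.subset_span ⟨i, rfl⟩)
    | algebraMap y => exact hKW y
    | add y z _ _ hy hz => exact W.add_mem hy hz
    | inv y _ hy => exact W.inv_mem hy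
    | mul y z _ _ hy hz => exact W.mul_mem hy hz
  let B : IntermediateField k C :=
    (IsScalarTower.toAlgHom k D.KB D.KC).fieldRange.comap (C.val.restrictScalars k)
  have hGC : ∀ y ∈ G', y ∈ C := fun y hy => IntermediateField.subset_adjoin K _ hy
  let t' : C := ⟨D.t, hGC _ (Finset.mem_union_left _ (Finset.mem_insert_self _ _))⟩
  let v' : Fin e → C := fun i => ⟨w i, hGC _ (Finset.mem_union_right _ (Finset.mem_image_of_mem _ (Finset.mem_univ i)))⟩
  let FB := IntermediateField.adjoin B ({t'} : Set C)
  let FB' : IntermediateField k D.KC := (FB.restrictScalars k).map (C.val.restrictScalars k)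
  have hF : F ≤ FB' := IntermediateField.adjoin_le_iff.2 fun y hy => by
    have hyC : y ∈ C := hGC y (Finset.mem_union_left _ hy)
    refine ⟨⟨y, hyC⟩, ?_, rfl⟩
    rcases Finset.mem_insert.1 (Finset.mem_coe.1 hy) with rfl | h
    · exact IntermediateField.subset_adjoin B ({t'} : Set C) rfl
    · obtain ⟨p, -, hp⟩ := Finset.mem_biUnion.1 h
      rcases hSsub p hp with hb | hb
      · have hyB : (⟨y, hyC⟩ : C) ∈ B := hb
        exact FB.algebraMap_mem (⟨_, hyB⟩ : B)
      · obtain rfl : y = D.t := hb
        exact IntermediateField.subset_adjoin B ({t'} : Set C) rfl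
  have hspan : Submodule.span FB (Set.range v') = ⊤ := by
    refine eq_top_iff.2 fun x _ => ?_
    obtain ⟨c, hc⟩ := (Submodule.mem_span_range_iff_exists_fun _).1 ((hW _).1 (hCW x.1 x.2))
    choose c' hc' hc'' using fun i => hF (c i).2
    have : x = ∑ i, (⟨c' i, hc' i⟩ : FB) • v' i := Subtype.ext (by
      rw [← hc, AddSubmonoidClass.coe_finsetSum]
      exact Finset.sum_congr rfl fun i _ => congrArg (· * w i) (hc'' i).symm)
    rw [this]
    exact Submodule.sum_mem _ fun i _ => Submodule.smul_mem _ _ (Submodule.subset_span ⟨i, rfl⟩)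
  let eB := AlgEquiv.ofInjectiveField (IsScalarTower.toAlgHom k D.KB D.KC)
  let f : B →+* D.KB := eB.symm.toRingEquiv.toRingHom.comp
    { toFun := fun x => ⟨x.1.1, x.2⟩
      map_one' := rfl
      map_mul' := fun _ _ => rfl
      map_zero' := rfl
      map_add' := fun _ _ => rfl }
  have htr : Transcendental B t' := fun h => D.transc (by
    refine h.ringHom_of_comp_eq f (C.val.toRingHom) f.injective (RingHom.ext fun x => ?_)
    show algebraMap D.KB D.KC (eB.symm ⟨x.1.1, x.2⟩) = x.1.1
    exact congrArg Subtype.val (eB.apply_symm_apply ⟨x.1.1, x.2⟩))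
  exact exists_diag (k := k) (K := K) (KC := C) (KB := B) t' htr v' hspan

/-- Let K/k be a finitely generated field extension whose field of constants is k, let L/k be an
algebraic separable extension, and let K' be a field which is the fraction field of K ⊗_k L, the
L-algebra structure of K' being the one through the tensor product. Then the separable covering
gonality of K' over L equals that of K over k. (The published statement allows any separable
extension L/k, algebraic or not; this row assumes L/k algebraic and separable.) -/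
theorem result (k K L K' : Type u) [Field k] [Field K] [Field L]
    [Field K'] [Algebra k K] [Algebra k L] [Algebra.IsSeparable k L]
    (hfg : (⊤ : IntermediateField k K).FG) (hconst : algebraicClosure k K = ⊥)
    [Algebra (K ⊗[k] L) K'] [IsFractionRing (K ⊗[k] L) K'] [Algebra L K']
    (hL : ∀ x : L, algebraMap L K' x = algebraMap (K ⊗[k] L) K' ((1 : K) ⊗ₜ[k] x)) :
    W4c3irrattreebun.scvg L K' = W4c3irrattreebun.scvg k K := by
  classical
  letI : Algebra K K' := ((algebraMap (K ⊗[k] L) K').comp Algebra.TensorProduct.includeLeftRingHom).toAlgebra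
  letI : Algebra k K' := ((algebraMap K K').comp (algebraMap k K)).toAlgebra
  haveI : IsScalarTower k K K' := IsScalarTower.of_algebraMap_eq' rfl
  haveI : IsScalarTower k L K' := IsScalarTower.of_algebraMap_eq fun x => by
    rw [hL]
    show algebraMap (K ⊗[k] L) K' (algebraMap k K x ⊗ₜ[k] 1) = _
    congr 1
    rw [Algebra.algebraMap_eq_smul_one, Algebra.algebraMap_eq_smul_one, TensorProduct.smul_tmul]
  have hgen : IntermediateField.adjoin K (Set.range (algebraMap L K')) = ⊤ := by
    refine eq_top_iff.2 fun x _ => ?_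
    have hz : ∀ z : K ⊗[k] L, algebraMap (K ⊗[k] L) K' z ∈ IntermediateField.adjoin K (Set.range (algebraMap L K')) := by
      intro z
      induction z with
      | zero => rw [map_zero]; exact zero_mem _
      | add p q hp hq => rw [map_add]; exact add_mem hp hq
      | tmul a l =>
        rw [← mul_one a, ← one_mul l, ← Algebra.TensorProduct.tmul_mul_tmul, map_mul, ← hL]
        exact mul_mem (IntermediateField.algebraMap_mem _ a) (IntermediateField.subset_adjoin _ _ ⟨l, rfl⟩)
    obtain ⟨a, b, -, rfl⟩ := IsFractionRing.div_surjective (A := K ⊗[k] L) x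
    exact div_mem (hz a) (hz b)
  haveI : Algebra.IsSeparable K K' := by
    have h : Algebra.IsSeparable K (IntermediateField.adjoin K (Set.range (algebraMap L K'))) :=
      (IntermediateField.isSeparable_adjoin_iff_isSeparable K K').2 (by
        rintro _ ⟨l, rfl⟩
        exact IsSeparable.tower_top K (IsSeparable.map (IsScalarTower.toAlgHom k L K') (IsScalarTower.toAlgHom k L K').toRingHom.injective (Algebra.IsSeparable.isSeparable k l)))
    rw [hgen] at h
    exact Algebra.IsSeparable.of_algHom K (⊤ : IntermediateField K K') IntermediateField.topEquiv.symm.toAlgHom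
  exact sInf_le_sInf (P := fun e => ∃ D : CovDiag.{u} k K e, Algebra.IsSeparable K D.KC)
    (Q := fun e => ∃ D : CovDiag.{u} L K' e, Algebra.IsSeparable K' D.KC)
    (fun e ⟨D, hD⟩ => exists_up hgen D hD) fun e ⟨D, hD⟩ => exists_down hfg D hD

end Groth.Agent.S16314
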