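import Groth.Statements.S16318
import Groth.Agent.CliffOneLib.GenusNine
import Groth.Agent.CurveFF.Omega

set_option autoImplicit false
open CategoryTheory CategoryTheory.Limits AlgebraicGeometry
universe u
open Curves

namespace Groth.Agent.S16318

open CategoryTheory CategoryTheory.Limits AlgebraicGeometry

set_option backward.isDefEq.respectTransparency false
set_option backward.isDefEq.respectTransparency.types false
set_option linter.style.haveILetI false
set_option maxHeartbeats 1000000
attribute [local instance] Curv2.stalkAlgebra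
attribute [local instance high] FunFld.Place.algRes


/-- Let k be an algebraically closed field of characteristic zero and X a smooth proper integral curve
over k (integral, proper and smooth over k, of dimension one) of genus 9 whose Clifford index is 3:
some invertible module M with h^0(M) ≥ 2 and h^1(M) ≥ 2 has deg M − 2(h^0(M) − 1) = 3, and every
invertible module M with h^0(M) ≥ 2 and h^1(M) ≥ 2 has deg M − 2(h^0(M) − 1) ≥ 3 (degrees are χ(M) −
χ(O_X); in particular X is not hyperelliptic). Then X is pentagonal: it carries a g^1_5, an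
invertible module of degree 5 together with two k-linearly independent global sections. -/
theorem result
    (k : Type u) [Field k] [IsAlgClosed k] [CharZero k]
    (X : Scheme.{u}) [X.Over (Spec (CommRingCat.of k))] [IsIntegral X]
    [IsProper (X ↘ Spec (CommRingCat.of k))] [Smooth (X ↘ Spec (CommRingCat.of k))]
    (hdim : topologicalKrullDim X = 1) (hg : Curv2.genus k X = 9)
    (hex : ∃ M : X.Modules, PicF.IsInvertible M ∧ 2 ≤ Module.finrank k (Coh.HH X M 0) ∧
      2 ≤ Module.finrank k (Coh.HH X M 1) ∧ Curv2.deg k X M 1 = 2 * (Module.finrank k (Coh.HH X M 0) : ℤ) + 1)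
    (hmin : ∀ M : X.Modules, PicF.IsInvertible M → 2 ≤ Module.finrank k (Coh.HH X M 0) →
      2 ≤ Module.finrank k (Coh.HH X M 1) → 2 * (Module.finrank k (Coh.HH X M 0) : ℤ) + 1 ≤ Curv2.deg k X M 1) :
    ∃ (L : X.Modules) (s : Fin (1 + 1) → LinSer.Sect X L), LinSer.IsLinSer k X L 5 1 s := by
  haveI := Groth.Agent.VBLib.isRegCurve_of_smooth (X := X) k hdim.le
  have hK := Groth.Agent.CurveFF.isFF (X := X) k hdim
  have h00 := Groth.Agent.CurveFF.h0_eq_one (X := X) k hdim
  have hgK : FunFld.genus k X.functionField = 9 := (Groth.Agent.CurveFF.genus_eq (k := k) hdim h00).symm.trans hg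
  obtain ⟨C, hC⟩ := Groth.Agent.FF.exists_canonical hK
  obtain ⟨M, hM, hM0, hM1, hMd⟩ := hex
  obtain ⟨e, D, he, hD, e0, e1, ed⟩ := Groth.Agent.CliffOneLib.exists_div hdim hC hM
  obtain ⟨E, hE, hEl⟩ := Groth.Agent.CliffOneLib.exists_g15 hK hC hgK (D := D) (by omega) (by omega) (by omega)
  exact Groth.Agent.CliffOneLib.exists_series hdim (d := 5) (by rw [hE]; rfl) hEl

end Groth.Agent.S16318
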