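import Groth.Statements.S16319
import Groth.Agent.CliffOneLib.GenusNine
import Groth.Agent.CurveFF.Omega

set_option autoImplicit false
open CategoryTheory CategoryTheory.Limits AlgebraicGeometry
universe u
open Curves

namespace Groth.Agent.S16319

open CategoryTheory CategoryTheory.Limits AlgebraicGeometry

set_option backward.isDefEq.respectTransparency false
set_option backward.isDefEq.respectTransparency.types false
set_option linter.style.haveILetI false
set_option maxHeartbeats 1000000
attribute [local instance] Curv2.stalkAlgebra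
attribute [local instance high] FunFld.Place.algRes


/-- Let k be an algebraically closed field of characteristic zero and X a smooth proper integral curve
over k (integral, proper and smooth over k, of dimension one) of genus 9 whose Clifford index is 3:
some invertible module M with h^0(M) ≥ 2 and h^1(M) ≥ 2 has deg M − 2(h^0(M) − 1) = 3, and every
invertible module M with h^0(M) ≥ 2 and h^1(M) ≥ 2 has deg M − 2(h^0(M) − 1) ≥ 3 (degrees are χ(M) −
χ(O_X); in particular X is not hyperelliptic); let H be an invertible module of degree 7 with h^0(H)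
= 3 (a g^2_7) and D a globally generated invertible module of degree 5 with h^0(D) = 2 (a
base-point-free complete g^1_5). Then every module N with D ⊗ N ≅ H has h^0(N) = 1: the difference
of the two series is the class of an effective divisor of degree 2 with a one-dimensional space of
sections, so the pencil is cut out by the lines through a double point of the plane model of degree
7. -/
theorem result
    (k : Type u) [Field k] [IsAlgClosed k] [CharZero k]
    (X : Scheme.{u}) [X.Over (Spec (CommRingCat.of k))] [IsIntegral X]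
    [IsProper (X ↘ Spec (CommRingCat.of k))] [Smooth (X ↘ Spec (CommRingCat.of k))]
    (hdim : topologicalKrullDim X = 1) (hg : Curv2.genus k X = 9)
    (hex : ∃ M : X.Modules, PicF.IsInvertible M ∧ 2 ≤ Module.finrank k (Coh.HH X M 0) ∧
      2 ≤ Module.finrank k (Coh.HH X M 1) ∧ Curv2.deg k X M 1 = 2 * (Module.finrank k (Coh.HH X M 0) : ℤ) + 1)
    (hmin : ∀ M : X.Modules, PicF.IsInvertible M → 2 ≤ Module.finrank k (Coh.HH X M 0) →
      2 ≤ Module.finrank k (Coh.HH X M 1) → 2 * (Module.finrank k (Coh.HH X M 0) : ℤ) + 1 ≤ Curv2.deg k X M 1)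
    (H : X.Modules) (hH : PicF.IsInvertible H) (hdH : Curv2.deg k X H 1 = 7)
    (h0H : Module.finrank k (Coh.HH X H 0) = 3)
    (D : X.Modules) (hD : PicF.IsInvertible D) (hgD : Curv2.IsGloballyGenerated D)
    (hdD : Curv2.deg k X D 1 = 5) (h0D : Module.finrank k (Coh.HH X D 0) = 2)
    (N : X.Modules) (e : CohB1.tensorMod D N ≅ H) :
    Module.finrank k (Coh.HH X N 0) = 1 := by
  haveI := Groth.Agent.VBLib.isRegCurve_of_smooth (X := X) k hdim.le
  have hK := Groth.Agent.CurveFF.isFF (X := X) k hdim
  have h00 := Groth.Agent.CurveFF.h0_eq_one (X := X) k hdim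
  have hgK : FunFld.genus k X.functionField = 9 := (Groth.Agent.CurveFF.genus_eq (k := k) hdim h00).symm.trans hg
  obtain ⟨C, hC⟩ := Groth.Agent.FF.exists_canonical hK
  have hm := Groth.Agent.CliffOneLib.hmin_div hdim hC 1 hmin
  have hN : PicF.IsInvertible N := by
    obtain ⟨a, ha⟩ := Groth.Agent.CurveFF.exists_base hH
    obtain ⟨eD, A, heD, hA, -, -, -⟩ := Groth.Agent.CliffOneLib.exists_div hdim hC hD
    obtain ⟨M, eM, hM, heM, hDM⟩ := Groth.Agent.CurveFF.exists_module hdim h00 (-A)
    obtain ⟨φ⟩ := Groth.Agent.CurveFF.nonempty_iso_of_sub_mem_prinDivs hdim h00 (Groth.Agent.AmpleLib.isInvertible_tensor hM hD)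
      Groth.Agent.ParaFLib.isInvertible_structureModule (Groth.Agent.CurveFF.isBase_tensor heM heD)
      (Groth.Agent.CurveFF.isDiv_tensor hdim hM hD heM heD hDM hA) (Groth.Agent.ParaFLib.bijective_oneG _)
      (Groth.Agent.CurveFF.isDiv_structure hdim) (by rw [neg_add_cancel, sub_zero]; exact zero_mem _)
    exact Groth.Agent.ParaFLib.isInvertible_of_iso
      (Groth.Agent.AmpleLib.tIso (Iso.refl M) e.symm ≪≫ (Groth.Agent.AmpleLib.assoc M D N).symm ≪≫
        Groth.Agent.AmpleLib.tIso φ (Iso.refl N) ≪≫ Groth.Agent.AmpleLib.unitL N) (Groth.Agent.AmpleLib.isInvertible_tensor hM hH)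
  obtain ⟨eD, A, heD, hA, a0, a1, ad⟩ := Groth.Agent.CliffOneLib.exists_div hdim hC hD
  obtain ⟨eN, B, heN, hB, b0, b1, bd⟩ := Groth.Agent.CliffOneLib.exists_div hdim hC hN
  obtain ⟨eH, T, heH, hT, t0, t1, td⟩ := Groth.Agent.CliffOneLib.exists_div hdim hC hH
  have h := Groth.Agent.CurveFF.sub_mem_prinDivs_of_iso hdim h00 e (Groth.Agent.CurveFF.isBase_tensor heD heN)
    (Groth.Agent.CurveFF.isDiv_tensor hdim hD hN heD heN hA hB) heH hT
  obtain ⟨z, hz, hzd⟩ := (Groth.Agent.FF.mem_prinDivs_iff hK).1 h
  rw [b0]
  have h2 := Groth.Agent.CliffOneLib.ell_net_sub hK hC hgK hm (A := A) (H := T) (by omega) (by omega) (by omega) (by omega)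
  rw [← Groth.Agent.FF.ell_add_div hK (T - A) hz] at h2
  convert h2 using 2
  rw [hzd]; abel

end Groth.Agent.S16319
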