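import Groth.Statements.S16320
import Groth.Agent.CliffOneLib.GenusNine
import Groth.Agent.CurveFF.Omega

set_option autoImplicit false
open CategoryTheory CategoryTheory.Limits AlgebraicGeometry
universe u
open Curves

namespace Groth.Agent.S16320

open CategoryTheory CategoryTheory.Limits AlgebraicGeometry

set_option backward.isDefEq.respectTransparency false
set_option backward.isDefEq.respectTransparency.types false
set_option linter.style.haveILetI false
set_option maxHeartbeats 1000000
attribute [local instance] Curv2.stalkAlgebra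
attribute [local instance high] FunFld.Place.algRes


/-- Let k be an algebraically closed field of characteristic zero and X a smooth proper integral curve
over k (integral, proper and smooth over k, of dimension one) of genus 9 whose Clifford index is 3:
some invertible module M with h^0(M) ≥ 2 and h^1(M) ≥ 2 has deg M − 2(h^0(M) − 1) = 3, and every
invertible module M with h^0(M) ≥ 2 and h^1(M) ≥ 2 has deg M − 2(h^0(M) − 1) ≥ 3 (degrees are χ(M) −
χ(O_X); in particular X is not hyperelliptic), and let D be a globally generated invertible module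
of degree 5 with h^0(D) = 2 (a base-point-free complete g^1_5). Then h^0(D^{⊗2}) is 3 or 4,
h^0(D^{⊗3}) is 7 or 8, and h^0(D^{⊗3}) = 7 whenever h^0(D^{⊗2}) = 3. (The published statement says,
equivalently by Riemann–Roch applied to the numbers h^0(K − iD) − h^0(K − (i+1)D) for a canonical
module K, that the rational normal fourfold scroll formed by the linear spans of the pencil's
divisors in the canonical embedding has type S(2,1,1,1), S(2,2,1,0) or S(3,1,1,0); the scroll itself
is not restated here.) -/
theorem result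
    (k : Type u) [Field k] [IsAlgClosed k] [CharZero k]
    (X : Scheme.{u}) [X.Over (Spec (CommRingCat.of k))] [IsIntegral X]
    [IsProper (X ↘ Spec (CommRingCat.of k))] [Smooth (X ↘ Spec (CommRingCat.of k))]
    (hdim : topologicalKrullDim X = 1) (hg : Curv2.genus k X = 9)
    (hex : ∃ M : X.Modules, PicF.IsInvertible M ∧ 2 ≤ Module.finrank k (Coh.HH X M 0) ∧
      2 ≤ Module.finrank k (Coh.HH X M 1) ∧ Curv2.deg k X M 1 = 2 * (Module.finrank k (Coh.HH X M 0) : ℤ) + 1)
    (hmin : ∀ M : X.Modules, PicF.IsInvertible M → 2 ≤ Module.finrank k (Coh.HH X M 0) →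
      2 ≤ Module.finrank k (Coh.HH X M 1) → 2 * (Module.finrank k (Coh.HH X M 0) : ℤ) + 1 ≤ Curv2.deg k X M 1)
    (D : X.Modules) (hD : PicF.IsInvertible D) (hgD : Curv2.IsGloballyGenerated D)
    (hdD : Curv2.deg k X D 1 = 5) (h0D : Module.finrank k (Coh.HH X D 0) = 2) :
    (Module.finrank k (Coh.HH X (CohB1.tensorPow D 2) 0) = 3 ∨
        Module.finrank k (Coh.HH X (CohB1.tensorPow D 2) 0) = 4) ∧
      (Module.finrank k (Coh.HH X (CohB1.tensorPow D 3) 0) = 7 ∨
        Module.finrank k (Coh.HH X (CohB1.tensorPow D 3) 0) = 8) ∧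
      (Module.finrank k (Coh.HH X (CohB1.tensorPow D 2) 0) = 3 →
        Module.finrank k (Coh.HH X (CohB1.tensorPow D 3) 0) = 7) := by
  haveI := Groth.Agent.VBLib.isRegCurve_of_smooth (X := X) k hdim.le
  have hK := Groth.Agent.CurveFF.isFF (X := X) k hdim
  have h00 := Groth.Agent.CurveFF.h0_eq_one (X := X) k hdim
  have hgK : FunFld.genus k X.functionField = 9 := (Groth.Agent.CurveFF.genus_eq (k := k) hdim h00).symm.trans hg
  obtain ⟨C, hC⟩ := Groth.Agent.FF.exists_canonical hK
  have hm := Groth.Agent.CliffOneLib.hmin_div hdim hC 1 hmin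
  obtain ⟨e, A, he, hA, a0, a1, ad⟩ := Groth.Agent.CliffOneLib.exists_div hdim hC hD
  obtain ⟨e2, he2, hA2⟩ := Groth.Agent.CurveFF.exists_isDiv_tensorPow hdim hD he hA 2
  obtain ⟨e3, he3, hA3⟩ := Groth.Agent.CurveFF.exists_isDiv_tensorPow hdim hD he hA 3
  rw [Groth.Agent.CurveFF.finrank_H0_eq_ell hdim (Groth.Agent.AmpleLib.isInvertible_tensorPow hD 2) he2 hA2,
    Groth.Agent.CurveFF.finrank_H0_eq_ell hdim (Groth.Agent.AmpleLib.isInvertible_tensorPow hD 3) he3 hA3,
    show ((2 : ℕ) : ℤ) • A = A + A by push_cast; module, show ((3 : ℕ) : ℤ) • A = A + A + A by push_cast; module]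
  exact Groth.Agent.CliffOneLib.ell_multiples hK hC hgK hm (A := A) (by omega) (by omega)

end Groth.Agent.S16320
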