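import Groth.Statements.S16322
import Groth.Agent.CliffOneLib.GenusNine
import Groth.Agent.CurveFF.Omega

set_option autoImplicit false
open CategoryTheory CategoryTheory.Limits AlgebraicGeometry
universe u
open Curves

namespace Groth.Agent.S16322

open CategoryTheory CategoryTheory.Limits AlgebraicGeometry

set_option backward.isDefEq.respectTransparency false
set_option backward.isDefEq.respectTransparency.types false
set_option linter.style.haveILetI false
set_option maxHeartbeats 1000000
attribute [local instance] Curv2.stalkAlgebra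
attribute [local instance high] FunFld.Place.algRes


/-- Let k be a characteristic-zero algebraically closed field and X a smooth proper integral curve over
k (integral, proper and smooth over k, of dimension one) of genus 9 whose Clifford index is 3: some
invertible module M with h^0(M) ≥ 2 and h^1(M) ≥ 2 has deg M − 2(h^0(M) − 1) = 3, and every
invertible module M with h^0(M) ≥ 2 and h^1(M) ≥ 2 has deg M − 2(h^0(M) − 1) ≥ 3 (degrees are χ(M) −
χ(O_X); in particular X is not hyperelliptic), and let D₁, D₂ be two non-isomorphic globally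
generated invertible modules of degree 5 with h^0(D₁) = h^0(D₂) = 2 (two different base-point-free
complete pencils of degree 5). Then h^0(D₁ ⊗ D₂) = 4. (In the published statement the two pencils
are the ones cut out by the two rulings on a model of the curve in a blow-up of P^1 × P^1; the
printed argument for this equality uses only that they are different base-point-free pencils of
degree 5 on a genus-9 curve of Clifford index 3, which is what is stated here; the further printed
assertion on a third pencil is not restated.) -/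
theorem result
    (k : Type u) [Field k] [IsAlgClosed k] [CharZero k]
    (X : Scheme.{u}) [X.Over (Spec (CommRingCat.of k))] [IsIntegral X]
    [IsProper (X ↘ Spec (CommRingCat.of k))] [Smooth (X ↘ Spec (CommRingCat.of k))]
    (hdim : topologicalKrullDim X = 1) (hg : Curv2.genus k X = 9)
    (hex : ∃ M : X.Modules, PicF.IsInvertible M ∧ 2 ≤ Module.finrank k (Coh.HH X M 0) ∧
      2 ≤ Module.finrank k (Coh.HH X M 1) ∧ Curv2.deg k X M 1 = 2 * (Module.finrank k (Coh.HH X M 0) : ℤ) + 1)
    (hmin : ∀ M : X.Modules, PicF.IsInvertible M → 2 ≤ Module.finrank k (Coh.HH X M 0) →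
      2 ≤ Module.finrank k (Coh.HH X M 1) → 2 * (Module.finrank k (Coh.HH X M 0) : ℤ) + 1 ≤ Curv2.deg k X M 1)
    (D₁ D₂ : X.Modules) (h₁ : PicF.IsInvertible D₁) (h₂ : PicF.IsInvertible D₂)
    (hg₁ : Curv2.IsGloballyGenerated D₁) (hg₂ : Curv2.IsGloballyGenerated D₂)
    (hd₁ : Curv2.deg k X D₁ 1 = 5) (hd₂ : Curv2.deg k X D₂ 1 = 5)
    (h0₁ : Module.finrank k (Coh.HH X D₁ 0) = 2) (h0₂ : Module.finrank k (Coh.HH X D₂ 0) = 2)
    (hne : IsEmpty (D₁ ≅ D₂)) :
    Module.finrank k (Coh.HH X (CohB1.tensorMod D₁ D₂) 0) = 4 := by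
  haveI := Groth.Agent.VBLib.isRegCurve_of_smooth (X := X) k hdim.le
  have hK := Groth.Agent.CurveFF.isFF (X := X) k hdim
  have h00 := Groth.Agent.CurveFF.h0_eq_one (X := X) k hdim
  have hgK : FunFld.genus k X.functionField = 9 := (Groth.Agent.CurveFF.genus_eq (k := k) hdim h00).symm.trans hg
  obtain ⟨C, hC⟩ := Groth.Agent.FF.exists_canonical hK
  have hm := Groth.Agent.CliffOneLib.hmin_div hdim hC 1 hmin
  obtain ⟨e, A, he, hA, a0, a1, ad⟩ := Groth.Agent.CliffOneLib.exists_div hdim hC h₁
  obtain ⟨e', B, he', hB, b0, b1, bd⟩ := Groth.Agent.CliffOneLib.exists_div hdim hC h₂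
  rw [Groth.Agent.CurveFF.finrank_H0_eq_ell hdim (Groth.Agent.AmpleLib.isInvertible_tensor h₁ h₂)
    (Groth.Agent.CurveFF.isBase_tensor he he') (Groth.Agent.CurveFF.isDiv_tensor hdim h₁ h₂ he he' hA hB)]
  refine Groth.Agent.CliffOneLib.ell_add_eq hK hC hgK hm (A := A) (B := B) (by omega) (by omega) (by omega) (by omega) ?_
  by_contra hpos
  obtain ⟨z, hz, hzL⟩ := Groth.Agent.FF.exists_ne_zero_of_ell_pos (D := B - A) (Nat.pos_of_ne_zero hpos)
  have h0 := Groth.Agent.FF.eq_zero_of_nonneg_of_deg hK (Groth.Agent.FF.le_add_div_of_mem_L hK hz hzL)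
    (by rw [Groth.Agent.FF.deg_add, Groth.Agent.FF.deg_div hK, Groth.Agent.FF.deg_sub]; omega)
  refine (Groth.Agent.CurveFF.nonempty_iso_of_sub_mem_prinDivs hdim h00 h₁ h₂ he hA he' hB
    ((Groth.Agent.FF.mem_prinDivs_iff hK).2 ⟨z⁻¹, inv_ne_zero hz, ?_⟩)).elim hne.false
  rw [Groth.Agent.FF.div_inv hK, eq_neg_of_add_eq_zero_left h0]

end Groth.Agent.S16322
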