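import Groth.Statements.S1633
import Groth.Agent.UnramNorm.Basic
import Groth.Agent.DomDVR.NormChart

set_option autoImplicit false
universe u
open CategoryTheory CategoryTheory.Limits AlgebraicGeometry
open Resolve

namespace Groth.Agent.S1633

/-- Let (A, m) be a Noetherian local ring whose m-adic completion is reduced, and X an integral scheme
locally of finite type over Spec A such that some open neighbourhood of the generic point of X is
étale over Spec A. Then the normalization morphism of X is finite. -/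
theorem result (A : Type u) [CommRing A] [IsLocalRing A] [IsNoetherianRing A]
    [IsReduced (AdicCompletion (IsLocalRing.maximalIdeal A) A)]
    (X : Scheme.{u}) [IsIntegral X] (f : X ⟶ Spec (CommRingCat.of A)) [LocallyOfFiniteType f]
    (U : X.Opens) (hU : genericPoint X ∈ U) [Etale (U.ι ≫ f)]
    [QuasiCompact (X.fromSpecStalk (genericPoint X))] [QuasiSeparated (X.fromSpecStalk (genericPoint X))] :
    IsFinite (Curv2.normalizationι X) := by
  haveI : IsAffineHom (Curv2.normalizationι X) :=
    inferInstanceAs (IsAffineHom (X.fromSpecStalk (genericPoint X)).fromNormalization)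
  refine ⟨fun V hV => ?_⟩
  rcases isEmpty_or_nonempty V with hVe | hVe
  · refine RingHom.Finite.of_surjective _ fun z => ⟨0, ?_⟩
    have hbot : V = ⊥ := TopologicalSpace.Opens.ext (Set.eq_empty_of_forall_notMem fun z hz => hVe.elim ⟨z, hz⟩)
    subst hbot
    haveI : Subsingleton Γ(Curv2.normalization X, Curv2.normalizationι X ⁻¹ᵁ ⊥) :=
      CommRingCat.subsingleton_of_isTerminal (Curv2.normalization X).sheaf.isTerminalOfEmpty
    exact Subsingleton.elim _ _
  haveI := IsIntegral.component_integral (X := X) V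
  have hVe2 := hVe
  obtain ⟨z⟩ := hVe2
  have hgV : genericPoint X ∈ V := ((genericPoint_spec X).mem_open_set_iff V.isOpen).2 (by simpa using ⟨z.1, z.2⟩)
  obtain ⟨b, hbV, hbU⟩ := hV.exists_basicOpen_le ⟨genericPoint X, hU⟩ hgV
  have hb0 : b ≠ 0 := fun h => by simpa [h] using hbU
  letI φ : A →+* Γ(X, V) := ((Scheme.ΓSpecIso (CommRingCat.of A)).inv ≫ f.appLE ⊤ V le_top).hom
  letI : Algebra A Γ(X, V) := φ.toAlgebra
  haveI : Algebra.FiniteType A Γ(X, V) := by
    have h1 := HasRingHomProperty.appLE @LocallyOfFiniteType f inferInstance ⟨⊤, isAffineOpen_top _⟩ ⟨V, hV⟩ le_top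
    exact h1.comp (RingHom.FiniteType.of_surjective (Scheme.ΓSpecIso (CommRingCat.of A)).inv.hom
      ((Scheme.ΓSpecIso (CommRingCat.of A)).commRingCatIsoToRingEquiv.symm.surjective))
  haveI : Algebra.Etale A (Localization.Away b) := by
    haveI : Etale ((X.basicOpen b).ι ≫ f) := by
      rw [← X.homOfLE_ι hbV, Category.assoc]
      infer_instance
    have hW : IsAffineOpen (X.basicOpen b) := hV.basicOpen b
    haveI : IsAffine ↑(X.basicOpen b) := hW
    have hle : (⊤ : (↑(X.basicOpen b) : Scheme.{u}).Opens) ≤ ((X.basicOpen b).ι ≫ f) ⁻¹ᵁ ⊤ := le_top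
    have h1 : RingHom.Etale (((X.basicOpen b).ι ≫ f).appLE ⊤ ⊤ hle).hom :=
      HasRingHomProperty.appLE @Etale ((X.basicOpen b).ι ≫ f) inferInstance ⟨⊤, isAffineOpen_top _⟩
        ⟨⊤, isAffineOpen_top _⟩ hle
    haveI := hV.isLocalization_basicOpen b
    let e : Localization.Away b ≃ₐ[Γ(X, V)] Γ(X, X.basicOpen b) :=
      IsLocalization.algEquiv (Submonoid.powers b) _ _
    have h2 : RingHom.Etale ((X.presheaf.map (homOfLE (X.basicOpen_le b)).op).hom.comp φ) := by
      have h3 : RingHom.Etale ((((Scheme.ΓSpecIso (CommRingCat.of A)).inv ≫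
          ((X.basicOpen b).ι ≫ f).appLE ⊤ ⊤ hle) ≫ (X.basicOpen b).topIso.hom).hom) := by
        refine RingHom.Etale.respectsIso.1 _ (X.basicOpen b).topIso.commRingCatIsoToRingEquiv ?_
        exact RingHom.Etale.respectsIso.2 _ (Scheme.ΓSpecIso (CommRingCat.of A)).symm.commRingCatIsoToRingEquiv h1
      convert h3 using 1
      rw [show (X.presheaf.map (homOfLE (X.basicOpen_le b)).op).hom.comp φ = CommRingCat.Hom.hom
        (((Scheme.ΓSpecIso (CommRingCat.of A)).inv ≫ f.appLE ⊤ V le_top) ≫
          X.presheaf.map (homOfLE (X.basicOpen_le b)).op) from rfl]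
      congr 1
      have e1 : ((X.basicOpen b).ι ≫ f).appLE ⊤ ⊤ hle =
          f.appLE ⊤ (X.basicOpen b) le_top ≫ (X.basicOpen b).ι.appLE (X.basicOpen b) ⊤ (by simp) :=
        (Scheme.Hom.appLE_comp_appLE _ f ⊤ (X.basicOpen b) ⊤ le_top (by simp)).symm
      rw [e1, Scheme.Opens.ι_appLE]
      simp only [Scheme.Hom.appLE, Scheme.Opens.topIso, Functor.mapIso, Category.assoc, ← Functor.map_comp]
      congr 2
      erw [← Functor.map_comp, ← Functor.map_comp]
      rfl
    have h4 : algebraMap A (Localization.Away b) =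
        e.symm.toRingEquiv.toRingHom.comp ((X.presheaf.map (homOfLE (X.basicOpen_le b)).op).hom.comp φ) := by
      ext a
      rw [IsScalarTower.algebraMap_apply A Γ(X, V) (Localization.Away b)]
      exact (e.symm.commutes (φ a)).symm
    rw [← RingHom.etale_algebraMap, h4]
    exact RingHom.Etale.respectsIso.1 _ e.symm.toRingEquiv h2
  obtain ⟨e, he⟩ := Groth.Agent.DomDVR.exists_normalization_chart X hV (FractionRing Γ(X, V))
  have hfin : Module.Finite Γ(X, V) (integralClosure Γ(X, V) (FractionRing Γ(X, V))) :=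
    Groth.Agent.UnramNorm.finite_integralClosure (A := A) Γ(X, V) b hb0 _
  have h1 := (RingHom.Finite.of_surjective e.toRingHom e.surjective).comp (RingHom.finite_algebraMap.2 hfin)
  convert h1 using 1
  ext a
  exact (he a).symm

end Groth.Agent.S1633
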