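import Groth.Statements.S16330
import Groth.Agent.AcycFree.Basic
open CategoryTheory Limits

set_option autoImplicit false
universe v
open CategoryTheory
open W4c3biextchow

namespace Groth.Agent.S16330

/-- Let f : A' ⟶ A be a chain map of ℕ-indexed chain complexes of free abelian groups which is injective
in every degree, whose degreewise quotients A_q / f(A'_q) are free abelian groups, and which is a
quasi-isomorphism. Then any two chain maps g₁, g₂ : A ⟶ A' with f ≫ g₁ = f ≫ g₂ = 𝟙 differ by a
null-homotopic map: there is a chain homotopy between g₁ and g₂ all of whose components vanish on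
the image of f (so g₁ - g₂ factors through the quotient complex A / A', and the homotopy does too).
(The source allows complexes indexed by all integers; stated here for complexes in non-negative
degrees.) -/
theorem result
    (A' A : ChainComplex (ModuleCat.{v} ℤ) ℕ) (f : A' ⟶ A)
    [∀ q, Module.Free ℤ (A'.X q)] [∀ q, Module.Free ℤ (A.X q)]
    (hf : ∀ q, Function.Injective (f.f q).hom)
    (hq : ∀ q, Module.Free ℤ ((A.X q) ⧸ LinearMap.range (f.f q).hom)) [QuasiIso f]
    (g₁ g₂ : A ⟶ A') (h₁ : f ≫ g₁ = 𝟙 A') (h₂ : f ≫ g₂ = 𝟙 A') :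
    ∃ H : Homotopy g₁ g₂, ∀ i j : ℕ, f.f i ≫ H.hom i j = 0 := by
  obtain ⟨hS, hproj⟩ := AcycFree.shortExact_cokernel f hf (fun q => by
    have e : ∀ (M : Type v) [AddCommGroup M] (i : Module ℤ M), i = AddCommGroup.toIntModule M :=
      fun M _ i => Subsingleton.elim (α := Module ℤ M) _ _
    have h := hq q
    rw [← e _ (Submodule.Quotient.module (LinearMap.range (f.f q).hom))] at h
    exact h)
  obtain ⟨⟨sp⟩, ⟨H0⟩⟩ := AcycFree.splitting hS
  have hD : g₁ - g₂ = cokernel.π f ≫ (𝟙 _) ≫ (sp.s ≫ (g₁ - g₂)) := by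
    have h := congrArg (fun e => e ≫ (g₁ - g₂)) sp.id
    simp only [Preadditive.add_comp, Category.assoc, Category.id_comp] at h ⊢
    have h0 : f ≫ (g₁ - g₂) = 0 := by rw [Preadditive.comp_sub, h₁, h₂, sub_self]
    rw [h0, comp_zero, zero_add] at h
    exact h.symm
  let K : Homotopy (g₁ - g₂) 0 := (Homotopy.ofEq hD).trans
    (((H0.compRight (sp.s ≫ (g₁ - g₂))).compLeft (cokernel.π f)).trans
      (Homotopy.ofEq (by simp)))
  refine ⟨Homotopy.equivSubZero.symm K, fun i j => ?_⟩
  have h0 : f.f i ≫ (cokernel.π f).f i = 0 := by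
    rw [← HomologicalComplex.comp_f, cokernel.condition]; rfl
  simp [K, Homotopy.equivSubZero, reassoc_of% h0]

end Groth.Agent.S16330
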