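import Groth.Statements.S16331
import Mathlib

set_option autoImplicit false
universe v
open CategoryTheory
open W4c3biextchow

namespace Groth.Agent.S16331

open CategoryTheory Limits

variable {A' A B : ChainComplex (ModuleCat.{v} ℤ) ℕ} (f : A' ⟶ A)

theorem facts [QuasiIso f] (hf : ∀ q, Function.Injective (f.f q).hom) :
    (∀ a : A.X 0, ∃ (x : A.X 1) (c : A'.X 0), a - (A.d 1 0).hom x = (f.f 0).hom c) ∧
    (∀ (w : A.X 1) (c : A'.X 0), (A.d 1 0).hom w = (f.f 0).hom c →
      ∃ (z : A.X 2) (y : A'.X 1), w - (A.d 2 1).hom z = (f.f 1).hom y) := by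
  haveI : ∀ q, Mono (f.f q) := fun q => (ModuleCat.mono_iff_injective _).2 (hf q)
  haveI : Mono f := HomologicalComplex.mono_of_mono_f f inferInstance
  have hS : (ShortComplex.mk f (cokernel.π f) (cokernel.condition f)).ShortExact :=
    { exact := ShortComplex.exact_cokernel f }
  have hac := hS.acyclic_X₃ (by exact inferInstanceAs (QuasiIso f))
  have hev : ∀ i, Function.Exact (f.f i).hom ((cokernel.π f).f i).hom ∧ Function.Surjective ((cokernel.π f).f i).hom := fun i => by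
    have h := hS.map_of_exact (HomologicalComplex.eval (ModuleCat.{v} ℤ) (ComplexShape.down ℕ) i)
    exact ⟨(ShortComplex.ShortExact.moduleCat_exact_iff_function_exact _).1 h.exact, (ModuleCat.epi_iff_surjective _).1 h.epi_g⟩
  have hc : ∀ (i j : ℕ) (x : A.X i), ((cokernel f).d i j).hom (((cokernel.π f).f i).hom x) =
      ((cokernel.π f).f j).hom ((A.d i j).hom x) := fun i j x => by
    have := congrArg (fun φ => φ.hom x) ((cokernel.π f).comm i j)
    simpa only [ModuleCat.hom_comp, LinearMap.comp_apply] using this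
  constructor
  · intro a
    have h0 := (HomologicalComplex.exactAt_iff' _ 1 0 0 (by simp) (by simp)).1 (hac 0)
    obtain ⟨q, hq⟩ := (ShortComplex.moduleCat_exact_iff _).1 h0 (((cokernel.π f).f 0).hom a)
      (by show ((cokernel f).d 0 0).hom _ = 0; rw [(cokernel f).shape 0 0 (by simp)]; rfl)
    obtain ⟨x, rfl⟩ := (hev 1).2 q
    change ((cokernel f).d 1 0).hom _ = _ at hq
    rw [hc] at hq
    obtain ⟨c, hc'⟩ := ((hev 0).1 (a - (A.d 1 0).hom x)).1 (by rw [map_sub, hq, sub_self])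
    exact ⟨x, c, hc'.symm⟩
  · intro w c hw
    have h1 := (HomologicalComplex.exactAt_iff' _ 2 1 0 (by simp) (by simp)).1 (hac 1)
    obtain ⟨q, hq⟩ := (ShortComplex.moduleCat_exact_iff _).1 h1 (((cokernel.π f).f 1).hom w)
      (by show ((cokernel f).d 1 0).hom _ = 0
          rw [hc, hw]; exact ((hev 0).1 _).2 ⟨c, rfl⟩)
    obtain ⟨z, rfl⟩ := (hev 2).2 q
    change ((cokernel f).d 2 1).hom _ = _ at hq
    rw [hc] at hq
    obtain ⟨y, hy⟩ := ((hev 1).1 (w - (A.d 2 1).hom z)).1 (by rw [map_sub, hq, sub_self])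
    exact ⟨z, y, hy.symm⟩

theorem main (h' : A' ⟶ B) (g₁ g₂ : A ⟶ A') (h₁ : f ≫ g₁ = 𝟙 A') (h₂ : f ≫ g₂ = 𝟙 A') [QuasiIso f]
    (hf : ∀ q, Function.Injective (f.f q).hom) :
    ∃ N : W4c3biextchow.cxFunctor (g₁ ≫ h') ≅ W4c3biextchow.cxFunctor (g₂ ≫ h'),
      ∀ a : W4c3biextchow.Obj A',
        (N.hom.app ((W4c3biextchow.cxFunctor f).obj a) : W4c3biextchow.Hom B _ _).cl = 0 := by
  obtain ⟨hS0, hS1⟩ := facts f hf
  choose x c hx using hS0
  have hid : ∀ (q : ℕ) (y : A'.X q), (g₁.f q).hom ((f.f q).hom y) = y ∧ (g₂.f q).hom ((f.f q).hom y) = y := fun q y => by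
    constructor
    · have := congrArg (fun φ : A' ⟶ A' => (φ.f q).hom y) h₁; simpa using this
    · have := congrArg (fun φ : A' ⟶ A' => (φ.f q).hom y) h₂; simpa using this
  let D : A.X 1 → W4c3biextchow.Q1 B := fun w =>
    Submodule.Quotient.mk (((g₂ ≫ h').f 1).hom w) - Submodule.Quotient.mk (((g₁ ≫ h').f 1).hom w)
  have Dadd : ∀ u w, D (u + w) = D u + D w := fun u w => by
    simp only [D, map_add, Submodule.Quotient.mk_add]; abel
  have Dsub : ∀ u w, D (u - w) = D u - D w := fun u w => by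
    have := Dadd (u - w) w
    rw [sub_add_cancel] at this
    exact eq_sub_of_add_eq this.symm
  have Dzero : ∀ (w : A.X 1) (c : A'.X 0), (A.d 1 0).hom w = (f.f 0).hom c → D w = 0 := by
    intro w c hw
    obtain ⟨z, y, hy⟩ := hS1 w c hw
    have h1 : D ((f.f 1).hom y) = 0 := by simp [D, (hid 1 y).1, (hid 1 y).2]
    have h2 : ∀ g : A ⟶ B, (Submodule.Quotient.mk ((g.f 1).hom ((A.d 2 1).hom z)) : W4c3biextchow.Q1 B) = 0 := fun g =>
      (Submodule.Quotient.mk_eq_zero _).2 (W4c3biextchow.range_d_le_comap g ⟨z, rfl⟩)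
    have h3 : D ((A.d 2 1).hom z) = 0 := by simp only [D, h2, sub_zero]
    rw [show w = (A.d 2 1).hom z + (f.f 1).hom y by rw [← hy]; abel, Dadd, h1, h3, add_zero]
  have hdel : ∀ a : A.X 0, W4c3biextchow.delta B (D (x a)) = ((g₂ ≫ h').f 0).hom a - ((g₁ ≫ h').f 0).hom a := by
    intro a
    have e : ∀ g : A ⟶ B, (B.d 1 0).hom ((g.f 1).hom (x a)) = (g.f 0).hom ((A.d 1 0).hom (x a)) := fun g => by
      have := congrArg (fun φ => φ.hom (x a)) (g.comm 1 0)
      simpa only [ModuleCat.hom_comp, LinearMap.comp_apply] using this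
    have ea : (A.d 1 0).hom (x a) = a - (f.f 0).hom (c a) := by rw [← hx a]; abel
    simp only [D, map_sub, W4c3biextchow.delta_mk, e]
    rw [ea]
    simp [map_sub, (hid 0 (c a)).1, (hid 0 (c a)).2]
  let η : ∀ a : W4c3biextchow.Obj A,
      (W4c3biextchow.cxFunctor (g₁ ≫ h')).obj a ≅ (W4c3biextchow.cxFunctor (g₂ ≫ h')).obj a := fun a =>
    { hom := ⟨D (x a.pt), hdel a.pt⟩
      inv := ⟨- D (x a.pt), by rw [map_neg, hdel a.pt]; exact neg_sub _ _⟩
      hom_inv_id := W4c3biextchow.Hom.ext (add_neg_cancel _)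
      inv_hom_id := W4c3biextchow.Hom.ext (neg_add_cancel _) }
  refine ⟨NatIso.ofComponents η fun {a b} φ => W4c3biextchow.Hom.ext ?_, fun a => ?_⟩
  · show W4c3biextchow.q1Map (g₁ ≫ h') φ.cl + D (x b.pt) = D (x a.pt) + W4c3biextchow.q1Map (g₂ ≫ h') φ.cl
    obtain ⟨e, he⟩ := Submodule.Quotient.mk_surjective _ φ.cl
    have hde : (A.d 1 0).hom e = b.pt - a.pt := by rw [← W4c3biextchow.delta_mk, he]; exact φ.delta_cl
    have h0 : D (x b.pt - x a.pt - e) = 0 := Dzero _ (c a.pt - c b.pt) (by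
      rw [map_sub, map_sub, map_sub, ← hx, ← hx, hde]; abel)
    rw [Dsub, Dsub, show D e = Submodule.Quotient.mk (((g₂ ≫ h').f 1).hom e) - Submodule.Quotient.mk (((g₁ ≫ h').f 1).hom e) from rfl] at h0
    rw [← he, W4c3biextchow.q1Map_mk, W4c3biextchow.q1Map_mk, ← sub_eq_zero, ← h0]
    abel
  · show D (x ((f.f 0).hom a.pt)) = 0
    exact Dzero _ (a.pt - c ((f.f 0).hom a.pt)) (by rw [map_sub, ← hx]; abel)

/-- Let f : A' ⟶ A be a chain map of ℕ-indexed chain complexes of free abelian groups which is injective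
in every degree, with free degreewise quotients A_q / f(A'_q), and a quasi-isomorphism; let h' : A'
⟶ B be a chain map to another complex of free abelian groups and g₁, g₂ : A ⟶ A' two chain maps with
f ≫ g₁ = f ≫ g₂ = 𝟙. Consider the functors induced by g₁ ≫ h' and g₂ ≫ h' between the groupoids
attached to A and B (objects: degree-0 elements; morphisms a ⟶ b: degree-1 elements with boundary b
- a, modulo boundaries of degree-2 elements). Then there is a natural isomorphism between these two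
functors whose component at every object of the form f(a'), a' a degree-0 element of A', is the zero
class, i.e. the identity morphism of h'(a'). -/
theorem result
    (A' A B : ChainComplex (ModuleCat.{v} ℤ) ℕ) (f : A' ⟶ A) (h' : A' ⟶ B)
    [∀ q, Module.Free ℤ (A'.X q)] [∀ q, Module.Free ℤ (A.X q)] [∀ q, Module.Free ℤ (B.X q)]
    (hf : ∀ q, Function.Injective (f.f q).hom)
    (hq : ∀ q, Module.Free ℤ ((A.X q) ⧸ LinearMap.range (f.f q).hom)) [QuasiIso f]
    (g₁ g₂ : A ⟶ A') (h₁ : f ≫ g₁ = 𝟙 A') (h₂ : f ≫ g₂ = 𝟙 A') :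
    ∃ N : W4c3biextchow.cxFunctor (g₁ ≫ h') ≅ W4c3biextchow.cxFunctor (g₂ ≫ h'),
      ∀ a : W4c3biextchow.Obj A',
        (N.hom.app ((W4c3biextchow.cxFunctor f).obj a) : W4c3biextchow.Hom B _ _).cl = 0 := by
  exact main f h' g₁ g₂ h₁ h₂ hf

end Groth.Agent.S16331
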