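import Groth.Statements.S16332
import Mathlib.Algebra.Homology.Monoidal
import Mathlib.Algebra.Homology.Refinements
import Mathlib.Algebra.Homology.SingleHomology
import Mathlib.RingTheory.Flat.CategoryTheory
import Mathlib.LinearAlgebra.TensorProduct.RightExactness
import Mathlib.Algebra.Category.ModuleCat.Monoidal.Basic

set_option autoImplicit false
universe v
open CategoryTheory MonoidalCategory
open W4c3biextchow

namespace Groth.Agent.S16332

set_option backward.isDefEq.respectTransparency false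

section

open CategoryTheory.Limits HomologicalComplex

variable {R : Type v} [CommRing R]

theorem whiskerLeft_exact (M : ModuleCat.{v} R) (S : ShortComplex (ModuleCat.{v} R)) (hS : S.Exact) [Epi S.g] :
    (S.map (tensorLeft M)).Exact ∧ Epi (S.map (tensorLeft M)).g := by
  have hs : Function.Surjective S.g.hom := (ModuleCat.epi_iff_surjective S.g).1 inferInstance
  refine ⟨?_, (ModuleCat.epi_iff_surjective _).2 (LinearMap.lTensor_surjective M hs)⟩
  rw [ShortComplex.ShortExact.moduleCat_exact_iff_function_exact] at hS ⊢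
  exact lTensor_exact M hS hs

variable (C P : ChainComplex (ModuleCat.{v} R) ℕ)

/-- The inclusion of a summand of the tensor product. -/
noncomputable abbrev inj (p q n : ℕ) (h : p + q = n) : C.X p ⊗ P.X q ⟶ (HomologicalComplex.tensorObj C P).X n :=
  ιTensorObj C P p q n h

theorem inj_d (p q n m : ℕ) (h : p + q = n) :
    inj C P p q n h ≫ (HomologicalComplex.tensorObj C P).d n m =
      mapBifunctor.d₁ C P (curriedTensor _) (ComplexShape.down ℕ) p q m +
      mapBifunctor.d₂ C P (curriedTensor _) (ComplexShape.down ℕ) p q m := by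
  show ιMapBifunctor C P (curriedTensor _) (ComplexShape.down ℕ) p q n h ≫ _ = _
  rw [mapBifunctor.d_eq, Preadditive.comp_add, mapBifunctor.ι_D₁, mapBifunctor.ι_D₂]

theorem d₁_succ (p q : ℕ) :
    mapBifunctor.d₁ C P (curriedTensor _) (ComplexShape.down ℕ) (p + 1) q (p + q) =
      C.d (p + 1) p ▷ P.X q ≫ inj C P p q (p + q) rfl := by
  rw [mapBifunctor.d₁_eq C P (curriedTensor _) (ComplexShape.down ℕ)
    (show (ComplexShape.down ℕ).Rel (p + 1) p from rfl) q (p + q) rfl]
  simp

theorem d₂_succ (p q : ℕ) :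
    mapBifunctor.d₂ C P (curriedTensor _) (ComplexShape.down ℕ) p (q + 1) (p + q) =
      ((-1 : ℤˣ) ^ p) • (C.X p ◁ P.d (q + 1) q ≫ inj C P p q (p + q) rfl) := by
  rw [mapBifunctor.d₂_eq C P (curriedTensor _) (ComplexShape.down ℕ) p
    (show (ComplexShape.down ℕ).Rel (q + 1) q from rfl) (p + q) rfl]
  simp

theorem d₁_zero (q m : ℕ) : mapBifunctor.d₁ C P (curriedTensor _) (ComplexShape.down ℕ) 0 q m = 0 :=
  mapBifunctor.d₁_eq_zero _ _ _ _ _ _ _ (by simp)

theorem d₂_zero (p m : ℕ) : mapBifunctor.d₂ C P (curriedTensor _) (ComplexShape.down ℕ) p 0 m = 0 :=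
  mapBifunctor.d₂_eq_zero _ _ _ _ _ _ _ (by simp)

/-- The projection to a summand. -/
noncomputable def proj (p q n : ℕ) : (HomologicalComplex.tensorObj C P).X n ⟶ C.X p ⊗ P.X q :=
  mapBifunctorDesc (fun i j _ => if h : i = p ∧ j = q then eqToHom (by rw [h.1, h.2]; rfl) else 0)

theorem inj_proj (p q n : ℕ) (h : p + q = n) : inj C P p q n h ≫ proj C P p q n = 𝟙 _ := by
  simp [inj, proj, ιTensorObj]

theorem inj_proj_ne (p q p' q' n : ℕ) (h : p + q = n) (hne : ¬(p = p' ∧ q = q')) :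
    inj C P p q n h ≫ proj C P p' q' n = 0 := by
  simp [inj, proj, ιTensorObj, hne]

theorem id_one : proj C P 1 0 1 ≫ inj C P 1 0 1 rfl + proj C P 0 1 1 ≫ inj C P 0 1 1 rfl = 𝟙 _ := by
  refine mapBifunctor.hom_ext fun i j h => ?_
  change i + j = 1 at h
  rw [Preadditive.comp_add, Category.comp_id]
  obtain ⟨rfl, rfl⟩ | ⟨rfl, rfl⟩ : (i = 1 ∧ j = 0) ∨ (i = 0 ∧ j = 1) := by omega
  · rw [← Category.assoc, ← Category.assoc]
    erw [inj_proj C P 1 0 1 rfl, inj_proj_ne C P 1 0 0 1 1 rfl (by simp)]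
    simp
  · rw [← Category.assoc, ← Category.assoc]
    erw [inj_proj C P 0 1 1 rfl, inj_proj_ne C P 0 1 1 0 1 rfl (by simp)]
    simp

variable {C P} {G : ModuleCat.{v} R} (π : P ⟶ (ChainComplex.single₀ (ModuleCat.{v} R)).obj G)

variable (C) in
/-- The induced map on tensor products. -/
noncomputable abbrev fC : HomologicalComplex.tensorObj C P ⟶ HomologicalComplex.tensorObj C ((ChainComplex.single₀ (ModuleCat.{v} R)).obj G) :=
  mapBifunctorMap (𝟙 C) π (curriedTensor _) (ComplexShape.down ℕ)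

theorem inj_f (p q n : ℕ) (h : p + q = n) :
    inj C P p q n h ≫ (fC C π).f n = C.X p ◁ π.f q ≫ inj C _ p q n h := by
  rw [ι_mapBifunctorMap]
  simp

theorem inj_f_succ (p q n : ℕ) (h : p + (q + 1) = n) : inj C P p (q + 1) n h ≫ (fC C π).f n = 0 := by
  rw [inj_f]
  have : π.f (q + 1) = 0 := (HomologicalComplex.isZero_single_obj_X (ComplexShape.down ℕ) 0 G (q + 1) (by omega)).eq_of_tgt _ _
  rw [this, MonoidalPreadditive.whiskerLeft_zero, zero_comp]

theorem id_single (n : ℕ) :
    proj C ((ChainComplex.single₀ (ModuleCat.{v} R)).obj G) n 0 n ≫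
      inj C ((ChainComplex.single₀ (ModuleCat.{v} R)).obj G) n 0 n rfl = 𝟙 _ := by
  refine mapBifunctor.hom_ext fun i j h => ?_
  change i + j = n at h
  rw [Category.comp_id]
  cases j with
  | zero =>
    obtain rfl : i = n := by omega
    rw [← Category.assoc]
    erw [inj_proj C ((ChainComplex.single₀ (ModuleCat.{v} R)).obj G) i 0 i rfl]
    exact Category.id_comp _
  | succ j =>
    refine IsZero.eq_of_src ?_ _ _
    exact Functor.map_isZero (tensorLeft (C.X i))
      (HomologicalComplex.isZero_single_obj_X (ComplexShape.down ℕ) 0 G (j + 1) (by omega))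

theorem isIso_homologyMap_one [Module.Free R (C.X 0)] [QuasiIso π] : IsIso (homologyMap (fC C π) 1) := by
  have h0 := (ChainComplex.quasiIsoAt₀_iff π).1 inferInstance
  rw [ShortComplex.quasiIso_iff_of_zeros' _ (P.shape 0 0 (by simp))
    ((HomologicalComplex.isZero_single_obj_X (ComplexShape.down ℕ) 0 G 1 (by omega)).eq_of_src _ _)
    (((ChainComplex.single₀ (ModuleCat.{v} R)).obj G).shape 0 0 (by simp))] at h0
  obtain ⟨hex0, hepi⟩ := h0
  change Epi (π.f 0) at hepi
  have hex1 : P.ExactAt 1 := (quasiIsoAt_iff_exactAt' π 1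
    (HomologicalComplex.exactAt_single_obj _ 0 G 1 (by omega))).1 inferInstance
  rw [HomologicalComplex.exactAt_iff' P 2 1 0 (by simp) (by simp)] at hex1
  haveI := hepi
  have hw0 : P.d 1 0 ≫ π.f 0 = 0 := by
    rw [← π.comm 1 0, (HomologicalComplex.isZero_single_obj_X (ComplexShape.down ℕ) 0 G 1 (by omega)).eq_of_tgt (π.f 1) 0,
      zero_comp]
  have hex0' : (ShortComplex.mk (P.d 1 0) (π.f 0) hw0).Exact := hex0
  haveI : Epi (ShortComplex.mk (P.d 1 0) (π.f 0) hw0).g := hepi
  have hep : ∀ p, Epi (C.X p ◁ π.f 0) := fun p => by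
    exact (whiskerLeft_exact (C.X p) _ hex0').2
  haveI := hep
  have hexT : ∀ p {T : ModuleCat.{v} R} (x : T ⟶ C.X p ⊗ P.X 0), x ≫ C.X p ◁ π.f 0 = 0 →
      ∃ (T' : ModuleCat.{v} R) (r : T' ⟶ T) (_ : Epi r) (u : T' ⟶ C.X p ⊗ P.X 1), r ≫ x = u ≫ C.X p ◁ P.d 1 0 := by
    intro p T x hx
    exact (whiskerLeft_exact (C.X p) _ hex0').1.exact_up_to_refinements x hx
  haveI : Mono (homologyMap (fC C π) 1) := by
    rw [mono_homologyMap_iff_up_to_refinements (fC C π) 2 1 0 (by simp) (by simp)]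
    intro T x hx y hy
    -- decompose
    obtain ⟨z, u, hxd⟩ : ∃ z u, x = z ≫ inj C P 1 0 1 rfl + u ≫ inj C P 0 1 1 rfl :=
      ⟨x ≫ proj C P 1 0 1, x ≫ proj C P 0 1 1, by
        simp only [Category.assoc, ← Preadditive.comp_add, id_one, Category.comp_id]⟩
    let w := y ≫ proj C ((ChainComplex.single₀ (ModuleCat.{v} R)).obj G) 2 0 2
    have hyd : y = w ≫ inj C ((ChainComplex.single₀ (ModuleCat.{v} R)).obj G) 2 0 2 rfl := by
      simp only [w, Category.assoc, id_single, Category.comp_id]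
    have d20 : ∀ (Q : ChainComplex (ModuleCat.{v} R) ℕ), inj C Q 2 0 2 rfl ≫ (HomologicalComplex.tensorObj C Q).d 2 1 =
        C.d 2 1 ▷ Q.X 0 ≫ inj C Q 1 0 1 rfl := fun Q => by
      rw [inj_d, d₂_zero, add_zero]; exact d₁_succ C Q 1 0
    have hz : z ≫ C.X 1 ◁ π.f 0 = w ≫ C.d 2 1 ▷ ((ChainComplex.single₀ (ModuleCat.{v} R)).obj G).X 0 := by
      rw [hxd, hyd, Preadditive.add_comp, Category.assoc, Category.assoc, Category.assoc,
        inj_f_succ π 0 0 1 rfl, comp_zero, add_zero, inj_f, d20] at hy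
      have := hy =≫ proj C ((ChainComplex.single₀ (ModuleCat.{v} R)).obj G) 1 0 1
      simpa only [Category.assoc, inj_proj, Category.comp_id] using this
    obtain ⟨T₁, r₁, _, W, hW⟩ := surjective_up_to_refinements_of_epi (C.X 2 ◁ π.f 0) w
    have hker : (r₁ ≫ z - W ≫ C.d 2 1 ▷ P.X 0) ≫ C.X 1 ◁ π.f 0 = 0 := by
      rw [Preadditive.sub_comp, Category.assoc, Category.assoc, hz, ← whisker_exchange, reassoc_of% hW, sub_self]
    obtain ⟨T₂, r₂, _, v', hv⟩ := hexT 1 _ hker
    let u' := r₂ ≫ r₁ ≫ u + v' ≫ C.d 1 0 ▷ P.X 1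
    have d11 : inj C P 1 1 2 rfl ≫ (HomologicalComplex.tensorObj C P).d 2 1 =
        C.d 1 0 ▷ P.X 1 ≫ inj C P 0 1 1 rfl - C.X 1 ◁ P.d 1 0 ≫ inj C P 1 0 1 rfl := by
      have e1 : mapBifunctor.d₁ C P (curriedTensor _) (ComplexShape.down ℕ) 1 1 1 =
          C.d 1 0 ▷ P.X 1 ≫ inj C P 0 1 1 rfl := d₁_succ C P 0 1
      have e2 : mapBifunctor.d₂ C P (curriedTensor _) (ComplexShape.down ℕ) 1 1 1 =
          ((-1 : ℤˣ) ^ 1) • (C.X 1 ◁ P.d 1 0 ≫ inj C P 1 0 1 rfl) := d₂_succ C P 1 0
      rw [inj_d, e1, e2, pow_one, Units.neg_smul, one_smul, sub_eq_add_neg]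
    have d01 : inj C P 0 1 1 rfl ≫ (HomologicalComplex.tensorObj C P).d 1 0 = C.X 0 ◁ P.d 1 0 ≫ inj C P 0 0 0 rfl := by
      rw [inj_d, d₁_zero, zero_add]
      exact (d₂_succ C P 0 0).trans (by simp)
    have d02 : inj C P 0 2 2 rfl ≫ (HomologicalComplex.tensorObj C P).d 2 1 = C.X 0 ◁ P.d 2 1 ≫ inj C P 0 1 1 rfl := by
      rw [inj_d, d₁_zero, zero_add]
      exact (d₂_succ C P 0 1).trans (by simp)
    have hx' : u' ≫ inj C P 0 1 1 rfl = r₂ ≫ r₁ ≫ x -
        (r₂ ≫ W ≫ inj C P 2 0 2 rfl - v' ≫ inj C P 1 1 2 rfl) ≫ (HomologicalComplex.tensorObj C P).d 2 1 := by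
      simp only [Preadditive.sub_comp, Category.assoc, d20, d11, Preadditive.comp_sub]
      rw [← reassoc_of% hv]
      simp only [u', hxd, Preadditive.comp_add, Preadditive.comp_sub, Preadditive.add_comp,
        Preadditive.sub_comp, Category.assoc]
      abel
    have hu' : u' ≫ C.X 0 ◁ P.d 1 0 = 0 := by
      have h1 : (u' ≫ inj C P 0 1 1 rfl) ≫ (HomologicalComplex.tensorObj C P).d 1 0 = 0 := by
        rw [hx', Preadditive.sub_comp, Category.assoc, Category.assoc, hx]
        simp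
      rw [Category.assoc, d01] at h1
      have := h1 =≫ proj C P 0 0 0
      simpa only [Category.assoc, inj_proj, Category.comp_id, zero_comp] using this
    obtain ⟨T₃, r₃, _, t, ht⟩ := (Module.Flat.lTensor_shortComplex_exact (C.X 0) _ hex1).exact_up_to_refinements u' hu'
    change r₃ ≫ u' = t ≫ C.X 0 ◁ P.d 2 1 at ht
    refine ⟨T₃, r₃ ≫ r₂ ≫ r₁, inferInstance,
      r₃ ≫ (r₂ ≫ W ≫ inj C P 2 0 2 rfl - v' ≫ inj C P 1 1 2 rfl) + t ≫ inj C P 0 2 2 rfl, ?_⟩
    rw [Preadditive.add_comp, Category.assoc t, d02, ← reassoc_of% ht, hx']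
    simp only [Category.assoc, Preadditive.comp_sub, Preadditive.sub_comp]
    abel
  haveI : Epi (homologyMap (fC C π) 1) := by
    rw [epi_homologyMap_iff_up_to_refinements (fC C π) 2 1 0 (by simp) (by simp)]
    intro T y hy
    let w := y ≫ proj C ((ChainComplex.single₀ (ModuleCat.{v} R)).obj G) 1 0 1
    have hyd : y = w ≫ inj C ((ChainComplex.single₀ (ModuleCat.{v} R)).obj G) 1 0 1 rfl := by
      simp only [w, Category.assoc, id_single, Category.comp_id]
    have d10 : ∀ (Q : ChainComplex (ModuleCat.{v} R) ℕ), inj C Q 1 0 1 rfl ≫ (HomologicalComplex.tensorObj C Q).d 1 0 =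
        C.d 1 0 ▷ Q.X 0 ≫ inj C Q 0 0 0 rfl := fun Q => by
      rw [inj_d, d₂_zero, add_zero]; exact d₁_succ C Q 0 0
    have hw : w ≫ C.d 1 0 ▷ ((ChainComplex.single₀ (ModuleCat.{v} R)).obj G).X 0 = 0 := by
      rw [hyd, Category.assoc, d10] at hy
      have := hy =≫ proj C ((ChainComplex.single₀ (ModuleCat.{v} R)).obj G) 0 0 0
      simpa only [Category.assoc, inj_proj, Category.comp_id, zero_comp] using this
    obtain ⟨T₁, r₁, _, z, hz⟩ := surjective_up_to_refinements_of_epi (C.X 1 ◁ π.f 0) w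
    have hker : (z ≫ C.d 1 0 ▷ P.X 0) ≫ C.X 0 ◁ π.f 0 = 0 := by
      rw [Category.assoc, ← whisker_exchange, ← reassoc_of% hz, hw, comp_zero]
    obtain ⟨T₂, r₂, _, u, hu⟩ := hexT 0 _ hker
    have d01 : inj C P 0 1 1 rfl ≫ (HomologicalComplex.tensorObj C P).d 1 0 = C.X 0 ◁ P.d 1 0 ≫ inj C P 0 0 0 rfl := by
      rw [inj_d, d₁_zero, zero_add]
      exact (d₂_succ C P 0 0).trans (by simp)
    refine ⟨T₂, r₂ ≫ r₁, inferInstance, r₂ ≫ z ≫ inj C P 1 0 1 rfl - u ≫ inj C P 0 1 1 rfl, ?_, 0, ?_⟩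
    · rw [Preadditive.sub_comp, Category.assoc, Category.assoc, Category.assoc, d10, d01,
        reassoc_of% hu, sub_self]
    · rw [zero_comp, add_zero, hyd, Preadditive.sub_comp]
      simp only [Category.assoc, inj_f, inj_f_succ π 0 0 1 rfl, comp_zero, sub_zero]
      rw [reassoc_of% hz]
  exact isIso_of_mono_of_epi _

end

/-- Let R be a commutative ring, C an ℕ-indexed chain complex of R-modules whose degree-0 term C_0 is a
free R-module, G an R-module, and π : P ⟶ G[0] a quasi-isomorphism from an ℕ-indexed chain complex P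
of free R-modules onto G placed in degree 0 (a free resolution of G), so that the tensor product of
complexes C ⊗ P represents the derived tensor product of C and G. Then the map induced by π on first
homology, H_1(C ⊗ P) → H_1(C ⊗ G[0]), is an isomorphism: in degree 1 the derived and the plain
tensor product with G have the same homology. (The published statement is over the integers, for
complexes vanishing in negative degrees with C_0 free abelian; this row allows any commutative ring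
R and R-modules in the same universe as R.) -/
theorem result
    (R : Type v) [CommRing R] (C P : ChainComplex (ModuleCat.{v} R) ℕ) (G : ModuleCat.{v} R)
    [Module.Free R (C.X 0)] [∀ q, Module.Free R (P.X q)]
    (π : P ⟶ (ChainComplex.single₀ (ModuleCat.{v} R)).obj G) [QuasiIso π] :
    IsIso (HomologicalComplex.homologyMap (C ◁ π) 1) := by
  exact isIso_homologyMap_one π

end Groth.Agent.S16332
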