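import Groth.Statements.S16335
import Mathlib

set_option autoImplicit false
universe u v w w'
open TensorProduct
open InvTh

namespace Groth.Agent.S16335

/-- Let `R` be a commutative ring with an action of a finite group `Γ` by ring automorphisms such that
the order of `Γ` is invertible in `R`, and let `A → R` be injective with image exactly the
invariants `R^Γ`, the action being `A`-linear. Then for every commutative `A`-algebra `S`, with `Γ`
acting on `S ⊗_A R` through the factor `R`, the map `S → S ⊗_A R`, `s ↦ s ⊗ 1`, is injective and its
image is exactly the set of `Γ`-fixed elements: `S ≅ (S ⊗_A R)^Γ`. No flatness of `S` over `A` is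
assumed; the invertibility of the order of `Γ` replaces it. This is the affine statement that for a
tame quotient the coarse space commutes with arbitrary base change. (The published lemma is the
statement that the coarse moduli space of a tame Deligne–Mumford stack commutes with arbitrary base
change, whose proof reduces to this ring statement. The published lemma also asserts the analogous
statement for the reduced fibre product when the base-change scheme is reduced; that clause is not
part of this row.) -/
theorem result
    (A : Type u) [CommRing A] (R : Type v) [CommRing R] [Algebra A R]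
    (Γ : Type w) [Group Γ] [Finite Γ] [MulSemiringAction Γ R] [SMulCommClass Γ A R]
    [Algebra.IsInvariant A R Γ] (hinj : Function.Injective (algebraMap A R))
    (hΓ : IsUnit (Nat.card Γ : R))
    (S : Type w') [CommRing S] [Algebra A S] :
    Function.Injective (fun s : S => s ⊗ₜ[A] (1 : R)) ∧
      ∀ x : S ⊗[A] R,
        (∀ γ : Γ, Algebra.TensorProduct.map (AlgHom.id A S) (MulSemiringAction.toAlgHom A R γ) x = x) →
          x ∈ Set.range (fun s : S => s ⊗ₜ[A] (1 : R)) := by
  classical
  cases nonempty_fintype Γ
  rw [Nat.card_eq_fintype_card] at hΓ
  obtain ⟨c, hc⟩ := hΓ.exists_left_inv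
  have hcf : ∀ γ : Γ, γ • c = c := by
    intro γ
    have h1 : (γ • c) * (Fintype.card Γ : R) = 1 := by
      have := congrArg (γ • ·) hc
      have e : γ • (Fintype.card Γ : R) = Fintype.card Γ := map_natCast (MulSemiringAction.toRingHom Γ R γ) _
      simpa [smul_mul', e] using this
    exact hΓ.mul_right_cancel (h1.trans hc.symm)
  obtain ⟨a, ha⟩ := Algebra.IsInvariant.isInvariant (A := A) c hcf
  have hsum : ∀ r : R, ∃ t : A, algebraMap A R t = ∑ γ : Γ, γ • r := fun r =>
    Algebra.IsInvariant.isInvariant (A := A) (G := Γ) (∑ γ : Γ, γ • r) fun g => by
      rw [Finset.smul_sum]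
      exact Fintype.sum_equiv (Equiv.mulLeft g) _ _ fun h => (mul_smul g h r).symm
  choose t ht using hsum
  let tl : R →ₗ[A] A :=
    { toFun := t
      map_add' := fun x y => hinj (by simp [ht, Finset.sum_add_distrib, smul_add])
      map_smul' := fun s x => hinj (by
        simp only [RingHom.id_apply, smul_eq_mul, map_mul, ht, Finset.mul_sum]
        refine Finset.sum_congr rfl fun g _ => ?_
        rw [smul_comm, Algebra.smul_def]) }
  let π : R →ₗ[A] A := a • tl
  have hπ : π 1 = 1 := hinj (by
    simp only [π, LinearMap.smul_apply, smul_eq_mul, map_mul, map_one]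
    change algebraMap A R a * algebraMap A R (t 1) = 1
    simp [ht, ha, hc])
  refine ⟨fun s s' h => ?_, fun x hx => ⟨TensorProduct.rid A S (π.lTensor S x), ?_⟩⟩
  · simpa [hπ] using congrArg (fun z => TensorProduct.rid A S (π.lTensor S z)) h
  · have hm : ∀ z : S ⊗[A] R, (TensorProduct.rid A S (π.lTensor S z)) ⊗ₜ[A] (1 : R)
        = a • ∑ γ : Γ, Algebra.TensorProduct.map (AlgHom.id A S) (MulSemiringAction.toAlgHom A R γ) z := by
      intro z
      induction z using TensorProduct.induction_on with
      | zero => simp
      | tmul s r =>
        simp only [LinearMap.lTensor_tmul, TensorProduct.rid_tmul, Algebra.TensorProduct.map_tmul,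
          AlgHom.id_apply, ← TensorProduct.tmul_sum]
        rw [← TensorProduct.tmul_smul, TensorProduct.smul_tmul]
        congr 1
        simp only [π, LinearMap.smul_apply, smul_assoc]
        congr 1
        rw [← Algebra.algebraMap_eq_smul_one]
        exact ht r
      | add u v hu hv => simp [hu, hv, TensorProduct.add_tmul, Finset.sum_add_distrib, smul_add]
    change (TensorProduct.rid A S (π.lTensor S x)) ⊗ₜ[A] (1 : R) = x
    rw [hm, Finset.sum_congr rfl fun γ _ => hx γ, Finset.sum_const, Finset.card_univ,
      ← Nat.cast_smul_eq_nsmul A, smul_smul]
    have : a * (Fintype.card Γ : A) = 1 := hinj (by simp [ha, hc])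
    rw [this, one_smul]

end Groth.Agent.S16335
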