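import Groth.Statements.S16337
import Mathlib

set_option autoImplicit false
universe u v w
open InvTh

namespace Groth.Agent.S16337

/-- Let `A` be a commutative ring, `Γ` a finite group whose order is invertible in `A`, `M` an
`A`-module with an `A`-linear action of `Γ`, and `I` an ideal of `A`. Then reduction modulo `I`
induces a bijection `M^Γ / I·M^Γ ≅ (M / IM)^Γ`: (a) an element of `M` fixed by `Γ` modulo `IM` is
congruent modulo `IM` to a `Γ`-fixed element, and (b) a `Γ`-fixed element lying in `IM` lies in
`I·M^Γ`, where `M^Γ` is the submodule of `Γ`-fixed elements. (The published lemma says that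
push-forward to the coarse space of a tame stack over a complete local base commutes with reduction
modulo powers of the maximal ideal; this row is the module statement its proof establishes, for an
arbitrary ideal.) -/
theorem result
    (A : Type u) [CommRing A] (Γ : Type v) [Group Γ] [Finite Γ] (hΓ : IsUnit (Nat.card Γ : A))
    (M : Type w) [AddCommGroup M] [Module A M] [DistribMulAction Γ M] [SMulCommClass Γ A M]
    (I : Ideal A) :
    (∀ x : M, (∀ γ : Γ, γ • x - x ∈ I • (⊤ : Submodule A M)) →
        ∃ y : M, (∀ γ : Γ, γ • y = y) ∧ x - y ∈ I • (⊤ : Submodule A M)) ∧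
      ∀ y : M, (∀ γ : Γ, γ • y = y) → y ∈ I • (⊤ : Submodule A M) →
        y ∈ I • Submodule.span A {m : M | ∀ γ : Γ, γ • m = m} := by
  classical
  cases nonempty_fintype Γ
  obtain ⟨e, he⟩ := hΓ.exists_left_inv
  let R : M →ₗ[A] M := e • ∑ γ : Γ, DistribSMul.toLinearMap A M γ
  have hR : ∀ (x : M) (δ : Γ), δ • R x = R x := by
    intro x δ
    simp only [R, LinearMap.smul_apply, LinearMap.sum_apply, DistribSMul.toLinearMap_apply]
    rw [smul_comm δ e, Finset.smul_sum]
    congr 1
    simp only [← mul_smul]
    exact Equiv.sum_comp (Equiv.mulLeft δ) (fun γ => γ • x)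
  have hfix : ∀ x : M, (∀ γ : Γ, γ • x = x) → R x = x := fun x hx => by
    simp [R, DistribSMul.toLinearMap_apply, hx, Finset.card_univ, ← Nat.card_eq_fintype_card, ← Nat.cast_smul_eq_nsmul A, smul_smul, he]
  refine ⟨fun x hx => ⟨R x, hR x, ?_⟩, fun y hy hmem => ?_⟩
  · have hxe : x = e • ∑ _γ : Γ, x := by
      simp [Finset.card_univ, ← Nat.card_eq_fintype_card, ← Nat.cast_smul_eq_nsmul A, smul_smul, he]
    have : x - R x = e • ∑ γ : Γ, (x - γ • x) := by
      rw [Finset.sum_sub_distrib, smul_sub, ← hxe]; simp [R, DistribSMul.toLinearMap_apply]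
    rw [this]
    exact Submodule.smul_mem _ _ (Submodule.sum_mem _ fun γ _ => by rw [← neg_sub]; exact Submodule.neg_mem _ (hx γ))
  · rw [← hfix y hy]
    have h2 : Submodule.map R (I • ⊤) ≤ I • Submodule.span A {m : M | ∀ γ : Γ, γ • m = m} := by
      rw [Submodule.map_smul'']
      exact Submodule.smul_mono le_rfl (by rintro _ ⟨x, -, rfl⟩; exact Submodule.subset_span (hR x))
    exact h2 ⟨y, hmem, rfl⟩

end Groth.Agent.S16337
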