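import Groth.Statements.S16341
import Groth.Agent.TorsQuotLib.Basic
import Groth.Agent.TFNodeLib.Main
import Groth.Agent.DimFormulaLib.Misc
import Groth.Agent.FibreComp.DimSpace
import Groth.Agent.NodePtLib.Gor
import Groth.Agent.VBLib.Regular
import Groth.Agent.S1604
import Groth.Agent.S7640
import Groth.Agent.PurityLib.Normal

set_option autoImplicit false
set_option backward.isDefEq.respectTransparency false
set_option backward.isDefEq.respectTransparency.types false
set_option linter.style.haveILetI false
set_option maxHeartbeats 1000000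
set_option synthInstance.maxHeartbeats 200000
universe u
open CategoryTheory CategoryTheory.Limits AlgebraicGeometry
open Curves

namespace Groth.Agent.S16341

open TopologicalSpace Opposite Groth.Agent.PullbackMod Groth.Agent.TorsQuotLib
open scoped TensorProduct

attribute [local instance 10] specializationOrder in
theorem dim_le_of_integral {X Y : Scheme.{u}} (π : Y ⟶ X) [IsIntegralHom π] {D : WithBot ℕ∞}
    (h : topologicalKrullDim X ≤ D) : topologicalKrullDim Y ≤ D := by
  rw [ASp.topologicalKrullDim_eq_krullDim] at h ⊢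
  refine (Order.krullDim_le_of_strictMono (fun y : Y => π y) fun a b hab => ?_).trans h
  exact lt_of_le_of_ne (hab.le.map π.continuous)
    fun e => hab.ne (NormalSch.eq_of_specializes_of_eq π hab.le e.symm).symm

theorem pir_of_normal (R : Type u) [CommRing R] [IsLocalRing R] [IsNoetherianRing R] [IsDomain R]
    [IsIntegrallyClosed R] (h : ringKrullDim R ≤ 1) : IsPrincipalIdealRing R := by
  haveI : Ring.KrullDimLE 1 R := Ring.krullDimLE_iff.2 h
  exact ((tfae_of_isNoetherianRing_of_isLocalRing_of_isDomain R).out 3 0 rfl rfl).1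
    ⟨inferInstance, fun P hne hP => IsLocalRing.eq_maximalIdeal (hP.isMaximal_of_ne_bot hne)⟩

theorem deltaInv_eq_zero (R : Type u) [CommRing R] [IsDomain R] [IsIntegrallyClosed R] : Curv2.deltaInv R = 0 := by
  rw [Curv2.deltaInv, Module.length_eq_zero_iff, Submodule.Quotient.subsingleton_iff, LinearMap.range_eq_top]
  intro b
  obtain ⟨a, ha⟩ := IsIntegrallyClosed.isIntegral_iff.1 b.2
  exact ⟨a, Subtype.ext ha⟩

theorem unit_bijective {X Y : Scheme.{u}} (π : Y ⟶ X) (x : X) (M : Type u) [AddCommGroup M]
    [Module (X.presheaf.stalk x) M]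
    (h : Function.Bijective (LinearMap.toSpanSingleton (X.presheaf.stalk x)
      ((TFNodeLib.pushO π).presheaf.stalk x) (TFNodeLib.oneP π x))) :
    Function.Bijective (TFNodeLib.NodeMod.unit (O := X.presheaf.stalk x) (TFNodeLib.oneP π x) M) := by
  let E := LinearEquiv.ofBijective _ h
  have he : ∀ z, TFNodeLib.NodeMod.unit (O := X.presheaf.stalk x) (TFNodeLib.oneP π x) M z =
      ((TensorProduct.lid (X.presheaf.stalk x) M).symm ≪≫ₗ TensorProduct.congr E (LinearEquiv.refl _ _)) z := fun z => by
    simp [E]
  exact (funext he) ▸ LinearEquiv.bijective _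

theorem isZero_of_no_max {X : Scheme.{u}} (hd : topologicalKrullDim X ≤ 1) {F K : X.Modules}
    (hpure : ShStab.IsPure X F 1) (ι : K ⟶ F) [Mono ι] (hK : Coh.IsCoh K)
    (hmax : ∀ ξ, TorsQuotLib.IsMax ξ → ξ ∉ CohB1.support K) : IsZero K := by
  by_contra hne
  haveI := hK.1
  have h1 := hpure K ι inferInstance hK hne
  have h0 := S1604.dim_le_zero_of_specializes hd (PullbackMod.isClosed_support_of_isFT hK.2) fun x hx => by
    obtain ⟨ξ, hξ, hs⟩ := exists_max_specializes x
    exact ⟨ξ, hs, fun h' => hmax ξ hξ ((h'.antisymm hs).eq ▸ hx)⟩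
  rw [h1] at h0
  exact absurd h0 (by norm_num)

/-- Let C be a proper scheme over an algebraically closed field k, all of whose irreducible components
have dimension one and whose singularities are at worst nodal. Let π : C' → C be a finite morphism
from a normal scheme which is an isomorphism over a dense open subset of C whose preimage is dense
in C' (so C' is the normalisation of C). Then for every coherent O_C-module F which is pure of
dimension one there are a coherent, finite locally free O_{C'}-module F' and a monomorphism f : F →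
π_*F' whose cokernel has support inside the node set of C. (The published statement is for a stable
curve of genus at least two and phrases the middle term as a direct sum over the irreducible
components; the argument uses only that the curve is nodal and produces the push-forward from the
normalisation.) -/
theorem result (k : Type u) [Field k] [IsAlgClosed k]
    (C : Scheme.{u}) [C.Over (Spec (CommRingCat.of k))] [IsProper (C ↘ (Spec (CommRingCat.of k)))]
    (hdim : ∀ Z ∈ irreducibleComponents (C : Type u), topologicalKrullDim Z = 1) (hC : Curv2.AtWorstNodal k C)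
    (C' : Scheme.{u}) (π : C' ⟶ C) [IsFinite π] (hC' : Pi1.IsNormalScheme C')
    (U : C.Opens) (hU : Dense (U : Set C)) (hU' : Dense ((π ⁻¹ᵁ U : C'.Opens) : Set C')) (hπU : IsIso (π ∣_ U))
    (F : C.Modules) (hF : Coh.IsCoh F) (hpure : ShStab.IsPure C F 1) :
    ∃ (F' : C'.Modules) (f : F ⟶ (Scheme.Modules.pushforward π).obj F'),
      Coh.IsCoh F' ∧ FlatMod.IsFinLocFree F' ∧ Mono f ∧
        CohB1.support (cokernel f) ⊆ {x : C | Curv2.IsNode k C x} := by
  haveI := EulerIneqLib.isNoetherian_proper (X := C) k
  haveI := hπU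
  have hd1 : topologicalKrullDim C ≤ 1 :=
    DimFormulaLib.topologicalKrullDim_le_of_components _ fun η hη => by
      obtain ⟨Z, hZ, hηZ⟩ : ∃ Z ∈ irreducibleComponents (C : Type u), η ∈ Z :=
        ⟨_, irreducibleComponent_mem_irreducibleComponents η, mem_irreducibleComponent⟩
      obtain ⟨g, hg⟩ := QuasiSober.sober hZ.1 (isClosed_of_mem_irreducibleComponents Z hZ)
      obtain rfl := hη g (hg.specializes hηZ)
      rw [hg.def]
      exact (hdim Z hZ).le
  haveI : IsReduced C := NodePtLib.isReduced_of_atWorstNodal hdim hC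
  haveI : IsReduced C' := DeltaBC.isReduced_of_normal hC'
  haveI : IsLocallyNoetherian C' := LocallyOfFiniteType.isLocallyNoetherian π
  haveI : CompactSpace C' := QuasiCompact.compactSpace_of_compactSpace π
  haveI : AlgebraicGeometry.IsNoetherian C' := ⟨⟩
  have hd1' : topologicalKrullDim C' ≤ 1 := dim_le_of_integral π hd1
  have hpir : ∀ y : C', IsPrincipalIdealRing (C'.presheaf.stalk y) := fun y => by
    haveI := (hC' y).1
    haveI := (hC' y).2
    exact pir_of_normal _ ((FibreComp.ringKrullDim_stalk_le_topologicalKrullDim y).trans hd1')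
  haveI := hF.1
  have hG : Coh.IsCoh ((Scheme.Modules.pullback π).obj F) := PullbackMod.isCoh_pullback π F hF
  haveI := hG.1
  obtain ⟨F', p, hp, hF', hlf, -, Z, hZc, hZmax, hpinj⟩ := exists_locFree_quot (fun y => (hC' y).1) hpir hG
  haveI := hp
  haveI := hF'.1
  let η := (Scheme.Modules.pullbackPushforwardAdjunction π).unit.app F
  let f := η ≫ (Scheme.Modules.pushforward π).map p
  -- at maximal points the map is injective
  have hξinj : ∀ ξ : C, TorsQuotLib.IsMax ξ → Function.Injective (stalkLin f ξ) := fun ξ hξ => by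
    have hξU : ξ ∈ U := DimFormulaLib.mem_of_dense U.2 hU hξ
    have hξZ : ξ ∉ π '' Z := by
      rintro ⟨w, hw, rfl⟩
      exact hZmax w (fun w' hw' => NormalSch.eq_of_specializes_of_eq π hw' (hξ _ (hw'.map π.continuous))) hw
    refine (injective_iff_map_eq_zero _).2 fun z hz => ?_
    obtain ⟨Φ, hΦ⟩ := TFNodeLib.exists_pushPull_stalk_equiv π ξ F
    obtain ⟨V1, h1, m, rfl⟩ := TopCat.Presheaf.exists_germ_eq F.presheaf z
    replace hz := (stalkLin_germ f ξ h1 m).symm.trans hz
    let P0 := (Scheme.Modules.pushforward π).obj F'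
    obtain ⟨V2, h2, i, i', he⟩ := TopCat.Presheaf.germ_eq P0.presheaf ξ h1 h1 _ 0 (hz.trans (map_zero _).symm)
    rw [map_zero] at he
    let O : C.Opens := V2 ⊓ ⟨(π '' Z)ᶜ, (π.isClosedMap Z hZc).isOpen_compl⟩
    have hO : ξ ∈ O := ⟨h2, hξZ⟩
    have hle : O ≤ V1 := inf_le_left.trans i.le
    let m' := F.presheaf.map (homOfLE hle).op m
    have hηm : η.app O m' = 0 := by
      let G := (Scheme.Modules.pullback π).obj F
      refine TopCat.Presheaf.section_ext (⟨G.presheaf, G.isSheaf⟩ : TopCat.Sheaf Ab C') (π ⁻¹ᵁ O) _ _ fun w hw => ?_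
      refine hpinj w (fun hwZ => hw.2 ⟨w, hwZ, rfl⟩) ?_
      refine (stalkLin_germ p w hw _).trans ?_
      refine Eq.trans ?_ (((congrArg (stalkLin p w) (map_zero (G.presheaf.germ _ w hw).hom))).trans (map_zero _)).symm
      have h3 : f.app O m' = 0 := by
        have hnat := NatTrans.naturality_apply f.mapPresheaf (homOfLE hle).op m
        refine hnat.trans ?_
        show P0.presheaf.map _ (f.app V1 m) = 0
        rw [show homOfLE hle = homOfLE (inf_le_left : O ≤ V2) ≫ i from rfl,
          op_comp, Functor.map_comp, CategoryTheory.comp_apply, he, map_zero]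
      exact (congrArg (F'.presheaf.germ (π ⁻¹ᵁ O) w hw) h3).trans (map_zero _)
    rw [← TopCat.Presheaf.germ_res_apply F.presheaf (homOfLE hle) ξ hO m]
    apply (unit_bijective π ξ _ (TFNodeLib.bijective_oneP π hC' U hU hU' hπU hξU)).1
    apply Φ.injective
    rw [map_zero, map_zero]
    refine (hΦ _).trans ((stalkLin_germ η ξ hO m').trans ?_)
    exact (congrArg _ hηm).trans (map_zero _)
  have hP := S7640.isCoh_push π hF'
  have hK := (QCohLib.isCoh_kernel_cokernel f hF hP).1
  have hK0 : IsZero (kernel f) := isZero_of_no_max hd1 hpure (kernel.ι f) hK fun ξ hξ h => h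
    ⟨fun a b => (mono_iff_stalk (kernel.ι f)).1 inferInstance ξ (hξinj ξ hξ (by
      rw [← LinearMap.comp_apply, ← LinearMap.comp_apply, ← stalkLin_comp, kernel.condition,
        (eq_zero_iff_stalk (0 : kernel f ⟶ _)).1 rfl ξ]
      rfl))⟩
  refine ⟨F', f, hF', hlf, Preadditive.mono_of_kernel_zero (hK0.eq_of_src _ _), fun x hx => ?_⟩
  by_contra hn
  -- at a smooth point the cokernel vanishes
  haveI := NodePtLib.regular_of_smooth_nhd (k := k) ((NodePtLib.smooth_or_node_at (k := k) hdim hC x).resolve_right hn)
  obtain ⟨_, _⟩ := PurityLib.isIntegrallyClosed_of_regular (C.presheaf.stalk x)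
  have hb : Function.Bijective (LinearMap.toSpanSingleton (C.presheaf.stalk x)
      ((TFNodeLib.pushO π).presheaf.stalk x) (TFNodeLib.oneP π x)) := by
    refine ⟨(injective_iff_map_eq_zero _).2 (TFNodeLib.inj_oneP π U hU hπU x), ?_⟩
    have h := TFNodeLib.length_quot_oneP π hC' U hU hU' hπU x
    rw [deltaInv_eq_zero, Module.length_eq_zero_iff, Submodule.Quotient.subsingleton_iff] at h
    rw [← LinearMap.range_eq_top, LinearMap.range_toSpanSingleton]
    exact h
  obtain ⟨Φ, hΦ⟩ := TFNodeLib.exists_pushPull_stalk_equiv π x F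
  have hη : Function.Surjective (stalkLin η x) := fun t => by
    obtain ⟨z, hz⟩ := (unit_bijective π x _ hb).2 (Φ.symm t)
    exact ⟨z, (hΦ z).symm.trans ((congrArg Φ hz).trans (Φ.apply_symm_apply t))⟩
  have hf : Function.Surjective (stalkLin f x) := by
    show Function.Surjective (stalkLin (η ≫ _) x)
    rw [stalkLin_comp]
    exact (TFNodeLib.surjective_stalk_push π inferInstance inferInstance p x).comp hη
  haveI := Submodule.Quotient.subsingleton_iff.2 (LinearMap.range_eq_top.2 hf)
  exact hx (TFNodeLib.cokerStalkEquiv f x).symm.toEquiv.subsingleton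

end Groth.Agent.S16341
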